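import Groth.Statements.S17929
import Groth.Agent.H18.K0Diff
import Groth.Agent.Lib.TensorMod.TensorInv
import Groth.Agent.S17924

set_option autoImplicit false
universe u
open CategoryTheory CategoryTheory.Limits AlgebraicGeometry
open RefCh

open Groth.Agent.H18.K0Diff

namespace Groth.Agent.S17929

/-- Let k be an algebraically closed field, X an integral normal scheme of dimension n = s + 2 admitting
a closed immersion into some P^N_k over k, δ a dimension function on X (Cyc.IsSetup) with δ(generic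
point) = n, L_1, …, L_s, A and B invertible O_X-modules with inverses M_1, …, M_s, A' and B' (so A'
⊗ B' is an inverse of A ⊗ B), and ℒ a coherent reflexive O_X-module of rank one (ℒ = O_X(-D)). For a
family (N_0, …, N_s) of modules put S_N(ℒ) = Σ_{I ⊆ {0, …, s}} (-1)^{|I|} ([N_I ⊗ O_X] - [N_I ⊗ ℒ])
in K(X) = K_0(Coh(X)) (classes KZero.clSub of coherent modules), N_I = ⊗_{i∈I} N_i, so that S_{(A',
M_1, …, M_s)}(O_X(-D)) = c_1(A) c_1(L_1) ⋯ c_1(L_s) · [O_D]. Then S_{(A' ⊗ B', M)}(ℒ) = S_{(A',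
M)}(ℒ) + S_{(B', M)}(ℒ): the K(X)-valued symbol c_1(L_0) c_1(L_1) ⋯ c_1(L_s) · [O_D] is additive,
hence ℤ-linear, in the invertible module L_0. -/
theorem result (k : Type u) [Field k] [IsAlgClosed k] (X : Scheme.{u}) [X.Over (Spec (CommRingCat.of k))]
    [AlgebraicGeometry.IsIntegral X] (hnorm : Pi1.IsNormalScheme X) (s : ℕ) (hdim : topologicalKrullDim X = (s + 2 : ℕ))
    (hproj : ∃ (N : ℕ) (ι : X ⟶ CohB1.ProjSpace N k), IsClosedImmersion ι ∧ ι ≫ CohB1.ProjSpace.toSpec N k = X ↘ Spec (CommRingCat.of k))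
    (δ : X → ℤ) (hδ : Cyc.IsSetup X δ) (hδη : δ (genericPoint X) = (s + 2 : ℕ))
    (L M : Fin s → X.Modules) (hL : ∀ i, PicF.IsInvertible (L i))
    (hLM : ∀ i, Nonempty (CohB1.tensorMod (L i) (M i) ≅ Coh.structureModule X))
    (A A' B B' : X.Modules) (hA : PicF.IsInvertible A) (hB : PicF.IsInvertible B)
    (hAA' : Nonempty (CohB1.tensorMod A A' ≅ Coh.structureModule X))
    (hBB' : Nonempty (CohB1.tensorMod B B' ≅ Coh.structureModule X))
    (ℒ : X.Modules) (hℒ : RefHull.IsRef1 ℒ) :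
    (∑ I : Finset (Fin (s + 1)), ((-1 : ℤ) ^ I.card) •
        (KZero.clSub (Cyc.CohLe δ (s + 2 : ℕ)) (CohB1.tensorMod (FGA.tensorList ((I.sort (· ≤ ·)).map (Fin.cons (CohB1.tensorMod A' B') M))) (Coh.structureModule X)) -
          KZero.clSub (Cyc.CohLe δ (s + 2 : ℕ)) (CohB1.tensorMod (FGA.tensorList ((I.sort (· ≤ ·)).map (Fin.cons (CohB1.tensorMod A' B') M))) ℒ))) =
      (∑ I : Finset (Fin (s + 1)), ((-1 : ℤ) ^ I.card) •
        (KZero.clSub (Cyc.CohLe δ (s + 2 : ℕ)) (CohB1.tensorMod (FGA.tensorList ((I.sort (· ≤ ·)).map (Fin.cons A' M))) (Coh.structureModule X)) -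
          KZero.clSub (Cyc.CohLe δ (s + 2 : ℕ)) (CohB1.tensorMod (FGA.tensorList ((I.sort (· ≤ ·)).map (Fin.cons A' M))) ℒ))) +
      (∑ I : Finset (Fin (s + 1)), ((-1 : ℤ) ^ I.card) •
        (KZero.clSub (Cyc.CohLe δ (s + 2 : ℕ)) (CohB1.tensorMod (FGA.tensorList ((I.sort (· ≤ ·)).map (Fin.cons B' M))) (Coh.structureModule X)) -
          KZero.clSub (Cyc.CohLe δ (s + 2 : ℕ)) (CohB1.tensorMod (FGA.tensorList ((I.sort (· ≤ ·)).map (Fin.cons B' M))) ℒ))) := by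
  haveI := hδ.1
  have hle : ∀ x : X, δ x ≤ ((s + 2 : ℕ) : ℤ) := Groth.Agent.H18.RefK0.le_dim hδ.2.2 hδη
  have hM : ∀ i, PicF.IsInvertible (M i) := fun i =>
    Groth.Agent.Lib.TensorMod.TensorInv.isInvertible_of_tensor_iso
      (Groth.Agent.Lib.TensorMod.Basic.comm (M i) (L i) ≪≫ (hLM i).some)
  have hA' : PicF.IsInvertible A' := Groth.Agent.Lib.TensorMod.TensorInv.isInvertible_of_tensor_iso
      (Groth.Agent.Lib.TensorMod.Basic.comm A' A ≪≫ hAA'.some)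
  have hB' : PicF.IsInvertible B' := Groth.Agent.Lib.TensorMod.TensorInv.isInvertible_of_tensor_iso
      (Groth.Agent.Lib.TensorMod.Basic.comm B' B ≪≫ hBB'.some)
  have hC' := Groth.Agent.Lib.TensorMod.Invertible.isInvertible_tensorMod hA' hB'
  have hO : Cyc.CohLe δ (s + 2 : ℕ) (Coh.structureModule X) :=
    ⟨(Groth.Agent.Lib.RefHull.Group.isRef1_structure (X := X)).1, fun x _ => hle x⟩
  have hℓ : Cyc.CohLe δ (s + 2 : ℕ) ℒ := ⟨hℒ.1, fun x _ => hle x⟩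
  have key : ∀ (C : X.Modules) (hC : PicF.IsInvertible C) (F : X.Modules),
      Cyc.CohLe δ (s + 2 : ℕ) F → alt δ (s + 2 : ℕ) (Fin.cons C M : Fin (s + 1) → X.Modules) F =
        diffs δ (s + 2 : ℕ) M hM (diff δ (s + 2 : ℕ) hC (KZero.clSub (Cyc.CohLe δ (s + 2 : ℕ)) F)) := by
    intro C hC F hF
    rw [alt_cons, alt_eq_diffs M hM hF, alt_eq_diffs M hM (cohLe_twist hC hF), diff_cl hC hF, map_sub]
  simp only [smul_sub, Finset.sum_sub_distrib]
  change alt δ (s + 2 : ℕ) _ _ - alt δ (s + 2 : ℕ) _ _ =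
    (alt δ (s + 2 : ℕ) _ _ - alt δ (s + 2 : ℕ) _ _) + (alt δ (s + 2 : ℕ) _ _ - alt δ (s + 2 : ℕ) _ _)
  rw [key _ hC' _ hO, key _ hC' _ hℓ, key _ hA' _ hO, key _ hA' _ hℓ, key _ hB' _ hO, key _ hB' _ hℓ]
  simp only [← map_sub]
  rw [← map_add, diff_tensor hA' hB' hC' (Iso.refl _), map_sub (diffs δ (s + 2 : ℕ) M hM), sub_eq_self]
  refine eq_zero_of_mem_filt (j := ((s + 1 : ℕ) : ℤ) - 1 - 1 - (s : ℤ)) (fun x => ?_)
    (diffs_mem hδ.2.2 M hM (by omega) (diff_mem hδ.2.2 hA' (by omega) (diff_mem hδ.2.2 hB' (by omega) ?_)))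
  · have := nonneg_of_setup hδ.2.2 hdim.le hδη x
    omega
  · rw [mem_filt, QuotientAddGroup.mk_sub, sub_eq_zero]
    exact Groth.Agent.S17924.result k X hnorm s hdim hproj δ hδ hδη ℒ hℒ

end Groth.Agent.S17929
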