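import Groth.Statements.S17930
import Groth.Agent.H18.RefPair
import Groth.Agent.H18.DualFlatPull
import Groth.Agent.Lib.IntTheory.BaseChange

set_option autoImplicit false
universe u
open CategoryTheory CategoryTheory.Limits AlgebraicGeometry
open RefCh

namespace Groth.Agent.S17930

/-- Let k be an algebraically closed field of characteristic p > 0, X an integral normal scheme of
dimension s + 2 admitting a closed immersion into some P^N_k over k, L_1, …, L_s invertible
O_X-modules with inverses M_1, …, M_s, E a coherent reflexive O_X-module and (G_m) its reflexive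
Frobenius pull-backs (G_0 = E, G_{m+1} ≅ (F_X^* G_m)^**). Let K ⊇ k be an algebraically closed
extension field, X_K = X ×_k Spec K with projection π : X_K → X, and (G'_m) reflexive Frobenius
pull-backs of E_K = π^*E on X_K (G'_0 = π^*E, G'_{m+1} ≅ (F_{X_K}^* G'_m)^**). If χ(c_1(L_1) ⋯
c_1(L_s) · [G_m]) / p^{2m} → b (alternating sums FGA.intNum over k in the M_i) and χ(c_1(π^*L_1) ⋯
c_1(π^*L_s) · [G'_m]) / p^{2m} → b' (alternating sums FGA.intNum over K in the π^*M_i), then b' = b:
the number ∫_X ch_2(E) L_1 ⋯ L_s is unchanged by algebraically closed base field extension. -/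
theorem result (k : Type u) [Field k] [IsAlgClosed k] (X : Scheme.{u}) [X.Over (Spec (CommRingCat.of k))]
    [AlgebraicGeometry.IsIntegral X] (hnorm : Pi1.IsNormalScheme X) (s : ℕ) (hdim : topologicalKrullDim X = (s + 2 : ℕ))
    (hproj : ∃ (N : ℕ) (ι : X ⟶ CohB1.ProjSpace N k), IsClosedImmersion ι ∧ ι ≫ CohB1.ProjSpace.toSpec N k = X ↘ Spec (CommRingCat.of k))
    (p : ℕ) [Fact p.Prime] [CharP k p] [FrobSch.IsCharP X p]
    (L M : Fin s → X.Modules) (hL : ∀ i, PicF.IsInvertible (L i))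
    (hLM : ∀ i, Nonempty (CohB1.tensorMod (L i) (M i) ≅ Coh.structureModule X))
    (E : X.Modules) (hE : Coh.IsCoh E) (hEr : RefHull.IsReflexive E)
    (G : ℕ → X.Modules) (hG0 : G 0 = E)
    (hG : ∀ m, Nonempty (G (m + 1) ≅ RefHull.ddual ((Scheme.Modules.pullback (FrobSch.frob X p)).obj (G m)))) (b : ℝ)
    (hb : Filter.Tendsto (fun m : ℕ => (FGA.intNum k X (s + 2) M (G m) : ℝ) / ((p : ℝ) ^ (2 * m))) Filter.atTop (nhds b))
    (K : Type u) [Field K] [IsAlgClosed K] [Algebra k K] [FrobSch.IsCharP (Curv2.bc k X K) p]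
    (G' : ℕ → (Curv2.bc k X K).Modules) (hG'0 : G' 0 = (Scheme.Modules.pullback (Curv2.bcFst k X K)).obj E)
    (hG' : ∀ m, Nonempty (G' (m + 1) ≅ RefHull.ddual ((Scheme.Modules.pullback (FrobSch.frob (Curv2.bc k X K) p)).obj (G' m))))
    (b' : ℝ)
    (hb' : letI : (Curv2.bc k X K).Over (Spec (CommRingCat.of K)) := ⟨Curv2.bcSnd k X K⟩
      Filter.Tendsto (fun m : ℕ => (FGA.intNum K (Curv2.bc k X K) (s + 2) (fun i => (Scheme.Modules.pullback (Curv2.bcFst k X K)).obj (M i)) (G' m) : ℝ) / ((p : ℝ) ^ (2 * m))) Filter.atTop (nhds b')) :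
    b' = b := by
  obtain ⟨hp, hN⟩ := Groth.Agent.H18.RefPair.proper_noetherian hproj
  haveI := hp
  haveI := hN
  letI : (Curv2.bc k X K).Over (Spec (CommRingCat.of K)) := ⟨Curv2.bcSnd k X K⟩
  have hsq : IsPullback (Curv2.bcFst k X K) (Curv2.bc k X K ↘ Spec (CommRingCat.of K))
      (X ↘ Spec (CommRingCat.of k)) (Spec.map (CommRingCat.ofHom (algebraMap k K))) :=
    IsPullback.of_hasPullback _ _
  haveI : IsProper (Curv2.bc k X K ↘ Spec (CommRingCat.of K)) :=
    MorphismProperty.of_isPullback hsq inferInstance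
  haveI : IsLocallyNoetherian (Curv2.bc k X K) :=
    LocallyOfFiniteType.isLocallyNoetherian (Curv2.bc k X K ↘ Spec (CommRingCat.of K))
  haveI : Flat (Spec.map (CommRingCat.ofHom (algebraMap k K))) := by
    rw [HasRingHomProperty.Spec_iff (P := @Flat)]
    exact RingHom.flat_algebraMap_iff.2 inferInstance
  haveI : Flat (Curv2.bcFst k X K) := MorphismProperty.of_isPullback hsq.flip inferInstance
  set g := Curv2.bcFst k X K
  have key : ∀ m, Coh.IsCoh (G m) ∧ Nonempty (G' m ≅ (Scheme.Modules.pullback g).obj (G m)) := by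
    intro m
    induction m with
    | zero => rw [hG0, hG'0]; exact ⟨hE, ⟨Iso.refl _⟩⟩
    | succ m ih =>
      obtain ⟨hm, ⟨e⟩⟩ := ih
      have hP := Groth.Agent.Lib.Cyc.FP.Stalk.isCoh_pullback (FrobSch.frob X p) hm
      refine ⟨Groth.Agent.Lib.CohBasics.Closure.isCoh_of_iso (hG m).some.symm
        (Groth.Agent.Lib.RefHull.Reflexive.isCoh_ddual hP), ?_⟩
      obtain ⟨e'⟩ := Groth.Agent.H18.DualFlatPull.nonempty_pullback_ddual_iso g hP
      refine ⟨(hG' m).some ≪≫ Groth.Agent.H18.DualFlatPull.dualIso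
        (Groth.Agent.H18.DualFlatPull.dualIso ((Scheme.Modules.pullback _).mapIso e ≪≫ ?_)) ≪≫ e'.symm ≪≫
          (Scheme.Modules.pullback g).mapIso (hG m).some.symm⟩
      exact ((Scheme.Modules.pullbackComp (FrobSch.frob (Curv2.bc k X K) p) g).app (G m)) ≪≫
        (Scheme.Modules.pullbackCongr (FrobSch.frob_comp p g)).app (G m) ≪≫
        ((Scheme.Modules.pullbackComp g (FrobSch.frob X p)).app (G m)).symm
  have hM : ∀ i, PicF.IsInvertible (M i) := fun i =>
    Groth.Agent.Lib.TensorMod.TensorInv.isInvertible_of_tensor_iso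
      (Groth.Agent.Lib.TensorMod.Basic.comm (M i) (L i) ≪≫ (hLM i).some)
  refine tendsto_nhds_unique hb' (hb.congr fun m => ?_)
  obtain ⟨hm, ⟨e⟩⟩ := key m
  congr 2
  rw [← Groth.Agent.Lib.IntTheory.BaseChange.intNum hsq hM hm,
    Groth.Agent.Lib.Snapper.IntNum.intNum_eq_sym, Groth.Agent.Lib.Snapper.IntNum.intNum_eq_sym]
  exact Groth.Agent.Lib.Snapper.Vanish.sym_of_iso _ e.symm

end Groth.Agent.S17930
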