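import Groth.Statements.S17933
import Groth.Agent.H25.MultCrv
-- import your own Groth.Agent.* helpers here

set_option autoImplicit false
universe u
open MultCrv

namespace Groth.Agent.S17933

/-- Let R be a discrete valuation ring, n ≥ 1, A = R[X]/(X^n) with z the class of X, and M a finitely
generated A-module. Then M is torsion-free as an R-module if and only if the submodule M^(1) of
elements killed by z is a free R-module. (This is the statement at a closed point of the sheaf
statement: for a primitive multiple curve of multiplicity n the local ring at a closed point is of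
the form R[X]/(X^n) with R the local ring of the reduced smooth curve, torsion-freeness is the
absence of sections with finite support, and local freeness on the reduced curve is freeness of the
stalk; the row is stated for every discrete valuation ring R.) -/
theorem result (R : Type u) [CommRing R] [IsDomain R] [IsDiscreteValuationRing R] (n : ℕ) (hn : 1 ≤ n) (M : Type u) [AddCommGroup M] [Module (MultCrv.Rn R n) M] [Module R M] [IsScalarTower R (MultCrv.Rn R n) M] [Module.Finite (MultCrv.Rn R n) M] : Module.IsTorsionFree R M ↔ Module.Free R ↥(MultCrv.filt2 R n M 1) := by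
  have : Module.Finite R M := Groth.Agent.H25.MultCrv.finite_R (n := n)
  constructor
  · intro h
    exact Groth.Agent.H25.MultCrv.free_of_injective ((MultCrv.filt2 R n M 1).subtype.restrictScalars R)
      (MultCrv.filt2 R n M 1).injective_subtype
  · intro h
    refine ⟨fun r hr m₁ m₂ hm => ?_⟩
    by_contra hne
    have hex : ∃ k, (MultCrv.z R n ^ k) • (m₁ - m₂) = 0 :=
      ⟨n, by rw [Groth.Agent.H25.MultCrv.z_pow_n]; exact zero_smul (MultCrv.Rn R n) (m₁ - m₂)⟩
    classical
    obtain ⟨k, hk⟩ : ∃ k, Nat.find hex = k + 1 := ⟨Nat.find hex - 1, by
      have : Nat.find hex ≠ 0 := fun h0 => hne (sub_eq_zero.mp (by simpa [h0] using Nat.find_spec hex))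
      omega⟩
    have hv : (MultCrv.z R n ^ k) • (m₁ - m₂) ∈ MultCrv.filt2 R n M 1 := by
      change MultCrv.z R n ^ 1 • (MultCrv.z R n ^ k) • (m₁ - m₂) = 0
      rw [← mul_smul, pow_one, ← pow_succ', ← hk]
      exact Nat.find_spec hex
    have hrv : r • (⟨_, hv⟩ : MultCrv.filt2 R n M 1) = r • (0 : MultCrv.filt2 R n M 1) := by
      refine Subtype.ext ?_
      have hm' : r • m₁ = r • m₂ := hm
      rw [smul_zero, Submodule.coe_smul_of_tower, ZeroMemClass.coe_zero, smul_comm, smul_sub, hm',
        sub_self, smul_zero]
    exact Nat.find_min hex (show k < Nat.find hex by omega) (congrArg Subtype.val (hr.isSMulRegular hrv))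

end Groth.Agent.S17933
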