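import Groth.Statements.S17934
import Groth.Agent.H25.MultCrv
-- import your own Groth.Agent.* helpers here

set_option autoImplicit false
universe u
open MultCrv

namespace Groth.Agent.S17934

/-- Let R be a discrete valuation ring, n ≥ 1, A = R[X]/(X^n) with z the class of X, and M a finitely
generated A-module that is torsion-free as an R-module. Then for 1 ≤ i ≤ n the graded piece
M^(i)/M^(i-1) of the second canonical filtration (M^(i) the elements killed by z^i) is a free
R-module. (Statement at a closed point of the sheaf statement on a primitive multiple curve of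
multiplicity n, whose local rings are of the form R[X]/(X^n) with R the local ring of the reduced
smooth curve; stated for every discrete valuation ring R.) -/
theorem result (R : Type u) [CommRing R] [IsDomain R] [IsDiscreteValuationRing R] (n : ℕ) (hn : 1 ≤ n) (M : Type u) [AddCommGroup M] [Module (MultCrv.Rn R n) M] [Module R M] [IsScalarTower R (MultCrv.Rn R n) M] [Module.Finite (MultCrv.Rn R n) M] [Module.IsTorsionFree R M] (i : ℕ) (hi : 1 ≤ i) (hin : i ≤ n) : Module.Free R (MultCrv.G2 R n M i) := by
  have : Module.Finite R M := Groth.Agent.H25.MultCrv.finite_R (n := n)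
  let g : ↥(MultCrv.filt2 R n M i) →ₗ[MultCrv.Rn R n] M :=
    (MultCrv.z R n ^ (i - 1)) • (MultCrv.filt2 R n M i).subtype
  obtain ⟨f, hf⟩ : ∃ f : MultCrv.G2 R n M i →ₗ[MultCrv.Rn R n] M, Function.Injective f := by
    have hg : LinearMap.ker g = Submodule.comap (MultCrv.filt2 R n M i).subtype (MultCrv.filt2 R n M (i - 1)) := by
      ext x
      rfl
    refine ⟨Submodule.liftQ _ g hg.ge, ?_⟩
    rw [← LinearMap.ker_eq_bot]
    exact Submodule.ker_liftQ_eq_bot _ g hg.ge hg.le
  exact Groth.Agent.H25.MultCrv.free_of_injective (f.restrictScalars R) hf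

end Groth.Agent.S17934
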