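import Groth.Statements.S1794
import Groth.Agent.Lib.DMod.RelDual.Main

set_option autoImplicit false
universe u
open CategoryTheory
open scoped TensorProduct
attribute [local instance] HasDerivedCategory.standard
open Dual2

namespace Groth.Agent.S1794
open Groth.Agent.Lib.DR Groth.Agent.Lib.DMod


/-- Let R → A be a ring map which is flat and of finite presentation. (1) There exists a relative
dualizing complex K (relative dualizing: R-perfect with RHom_{A⊗_R A}(A, K ⊗^L_A (A ⊗_R A)) ≅ A, the
base change taken along the left coprojection under its existence hypothesis and RHom_{A⊗_R A}(A, −)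
given as a right adjoint Rμ of restriction along the multiplication map). (2) For any ring map R →
R', with A' = R' ⊗_R A and assuming the derived base change D(A) → D(A') exists, the base change of
such a K is a relative dualizing complex for R' → A' (for any choice of the corresponding right
adjoint over A' ⊗_{R'} A'). -/
theorem result (R A : Type u) [CommRing R] [CommRing A] [Algebra R A] [Module.Flat R A] [Algebra.FinitePresentation R A] [DRing.HasLBaseChange (Algebra.TensorProduct.includeLeftRingHom : A →+* TensorProduct R A A)] (Rμ : Dual.D (TensorProduct R A A) ⥤ Dual.D A) (adjμ : DRing.restrictD (Algebra.TensorProduct.lmul' R (S := A)).toRingHom ⊣ Rμ) : (∃ K : Dual.D A, Dual2.IsRelDualizing R A Rμ K) ∧ ∀ (K : Dual.D A), Dual2.IsRelDualizing R A Rμ K → ∀ (R' : Type u) [CommRing R'] [Algebra R R'] [DRing.HasLBaseChange (Algebra.TensorProduct.includeRight : A →ₐ[R] R' ⊗[R] A).toRingHom] [DRing.HasLBaseChange (Algebra.TensorProduct.includeLeftRingHom : R' ⊗[R] A →+* TensorProduct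 R' (R' ⊗[R] A) (R' ⊗[R] A))] (Rμ' : Dual.D (TensorProduct R' (R' ⊗[R] A) (R' ⊗[R] A)) ⥤ Dual.D (R' ⊗[R] A)), (DRing.restrictD (Algebra.TensorProduct.lmul' R' (S := R' ⊗[R] A)).toRingHom ⊣ Rμ') → Dual2.IsRelDualizing R' (R' ⊗[R] A) Rμ' ((DRing.LBaseChange (Algebra.TensorProduct.includeRight : A →ₐ[R] R' ⊗[R] A).toRingHom).obj K) := by
  obtain ⟨n, ψ, hψ, -⟩ := Algebra.FinitePresentation.out (R := R) (A := A)
  haveI : DRing.HasLBaseChange (algebraMap R (MvPolynomial (Fin n) R)) := BaseChangeU.hasLBaseChange _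
  haveI := ShriekBC.hasRHomRel ψ.toRingHom
  let Rψ := DTen.RHomRel ψ.toRingHom
  let adj : DRing.restrictD ψ.toRingHom ⊣ Rψ := DTen.relAdj _
  refine ⟨⟨_, RelDual.Main.isRelDualizing_shriek hψ adj adjμ⟩, fun K hK R' _ _ hI _ Rμ' adjμ' => ?_⟩
  obtain ⟨eK⟩ := RelDual.Main.nonempty_iso_shriek hψ adj adjμ hK
  letI : Algebra A (R' ⊗[R] A) := Algebra.TensorProduct.rightAlgebra
  haveI : DRing.HasLBaseChange (algebraMap A (R' ⊗[R] A)) := hI
  obtain ⟨m, ψ', hψ', -⟩ := Algebra.FinitePresentation.out (R := R') (A := R' ⊗[R] A)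
  haveI : DRing.HasLBaseChange (algebraMap R' (MvPolynomial (Fin m) R')) := BaseChangeU.hasLBaseChange _
  haveI : DRing.HasLBaseChange (algebraMap R R') := BaseChangeU.hasLBaseChange _
  haveI := ShriekBC.hasRHomRel ψ'.toRingHom
  let Rψ' := DTen.RHomRel ψ'.toRingHom
  let adj' : DRing.restrictD ψ'.toRingHom ⊣ Rψ' := DTen.relAdj _
  obtain ⟨e⟩ := ShriekBC.nonempty_baseChange_iso n ψ hψ Rψ adj m ψ' hψ' Rψ' adj' (Dual.inD R R)
  obtain ⟨eR⟩ := ShriekSelf.nonempty_lbc_inD_self (A := R) (B := R')
  let T := (DRing.LBaseChange (algebraMap R' (MvPolynomial (Fin m) R'))).mapIso eR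
  exact RelDual.Main.isRelDualizing_of_iso ((DRing.LBaseChange _).mapIso eK ≪≫ e ≪≫
      (shiftFunctor _ (m : ℤ)).mapIso (Rψ'.mapIso T)).symm
    (RelDual.Main.isRelDualizing_shriek hψ' adj' adjμ')

end Groth.Agent.S1794
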