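import Groth.Statements.S17949
import Groth.Agent.Lib.HensSch.Sections

set_option autoImplicit false
universe u
open CategoryTheory AlgebraicGeometry Opposite
open HensSch

namespace Groth.Agent.S17949

open CategoryTheory Opposite TopologicalSpace AlgebraicGeometry Groth.Agent.Lib.HensSch.Sections

/-- On an affine Henselian spectrum every basic open of a section over a distinguished open is
distinguished. -/
theorem exists_dOpen_eq {A : Type u} [CommRing A] {I : Ideal A} {U : LocallyRingedSpace.{u}}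
    {π : U ⟶ HensSch.specLRS A} (hU : HensSch.IsSph A I U π) (f : A)
    (t : U.presheaf.obj (op (HensSch.dOpen π f))) :
    ∃ f' : A, U.toRingedSpace.basicOpen t = HensSch.dOpen π f' := by
  set W := bas A f
  obtain ⟨r, hr⟩ := (universal_sph hU (W := W) rfl).exists_sub_mem t
  letI := (toSec A W).toAlgebra
  haveI := isLocalization_toSec A (W := W) (f := f) rfl
  obtain ⟨⟨a, ⟨g, n, rfl⟩⟩, ha⟩ := IsLocalization.surj (Submonoid.powers f) r
  replace ha : r * toSec A W (f ^ n) = toSec A W a := ha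
  refine ⟨f * a, ?_⟩
  have hv : (I.map (toSec A W)).map (pa π W) ≤ van U ((Opens.map π.base).obj W) Set.univ :=
    (Ideal.map_mono (map_toSec_le I W (PrimeSpectrum.zeroLocus I) fun q hq _ a ha => hq ha)).trans
      (Ideal.map_le_iff_le_comap.mpr fun s hs => app_mem_van π (fun y _ _ => hU.2.1 ▸ ⟨y, rfl⟩) hs)
  ext u
  show u ∈ U.toRingedSpace.basicOpen t ↔ f * a ∉ (π.base u : PrimeSpectrum A).asIdeal
  rw [show f * a ∉ (π.base u : PrimeSpectrum A).asIdeal ↔
    f ∉ (π.base u : PrimeSpectrum A).asIdeal ∧ a ∉ (π.base u : PrimeSpectrum A).asIdeal from by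
      rw [(π.base u : PrimeSpectrum A).isPrime.mul_mem_iff_mem_or_mem, not_or]]
  by_cases hu : f ∈ (π.base u : PrimeSpectrum A).asIdeal
  · exact iff_of_false (fun h => (U.toRingedSpace.basicOpen_le t h) hu) (fun h => h.1 hu)
  have huW : π.base u ∈ W := hu
  have hfn : π.base u ∈ (HensSch.specLRS A).toRingedSpace.basicOpen (toSec A W (f ^ n)) :=
    (mem_basicOpen_toSec W _ _).mpr
      ⟨huW, fun h => hu ((π.base u : PrimeSpectrum A).isPrime.mem_of_pow_mem n h)⟩
  have h1 : u ∈ U.toRingedSpace.basicOpen t ↔ u ∈ U.toRingedSpace.basicOpen (pa π W r) := by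
    have h0 := mem_van.mp (hv hr) u huW trivial
    rw [U.toRingedSpace.mem_basicOpen _ _ huW, ← mem_nonunits_iff, ← IsLocalRing.mem_maximalIdeal,
      map_sub] at h0
    rw [U.toRingedSpace.mem_basicOpen _ _ huW, U.toRingedSpace.mem_basicOpen _ _ huW,
      ← not_iff_not, ← mem_nonunits_iff, ← IsLocalRing.mem_maximalIdeal, ← mem_nonunits_iff,
      ← IsLocalRing.mem_maximalIdeal]
    exact ⟨fun h => (congrArg (· ∈ IsLocalRing.maximalIdeal _) (sub_sub_cancel _ _)).mp (sub_mem h h0),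
      fun h => (congrArg (· ∈ IsLocalRing.maximalIdeal _) (sub_add_cancel _ _)).mp (add_mem h0 h)⟩
  rw [h1, and_iff_right hu]
  refine (mem_basicOpen_app π r u).trans ?_
  rw [show a ∉ (π.base u : PrimeSpectrum A).asIdeal ↔
    π.base u ∈ (HensSch.specLRS A).toRingedSpace.basicOpen (toSec A W a) from
      ⟨fun h => (mem_basicOpen_toSec W a _).mpr ⟨huW, h⟩, fun h => ((mem_basicOpen_toSec W a _).mp h).2⟩,
    ← ha, RingedSpace.basicOpen_mul]
  exact ⟨fun h => ⟨h, hfn⟩, fun h => h.1⟩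

/-- Let `X` be a Henselian scheme and let `U = Sph(A, I)`, `V = Sph(B, J)` be affine Henselian opens of
`X` (open immersions `iU`, `iV` of the affine Henselian spectra of Henselian pairs). Then every
point of `U ∩ V` lies in an open subset of `X` which is at the same time the image of a
distinguished open `D(f) ∩ V(I)` of `U` and the image of a distinguished open `D(g) ∩ V(J)` of `V`. -/
theorem result (X : LocallyRingedSpace.{u}) (hX : HensSch.IsHensScheme X)
    (U V : LocallyRingedSpace.{u}) (iU : U ⟶ X) [LocallyRingedSpace.IsOpenImmersion iU]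
    (iV : V ⟶ X) [LocallyRingedSpace.IsOpenImmersion iV]
    (A : Type u) [CommRing A] (I : Ideal A) [HenselianRing A I] (πU : U ⟶ HensSch.specLRS A)
    (hU : HensSch.IsSph A I U πU)
    (B : Type u) [CommRing B] (J : Ideal B) [HenselianRing B J] (πV : V ⟶ HensSch.specLRS B)
    (hV : HensSch.IsSph B J V πV)
    (x : X) (hxU : x ∈ Set.range iU.base) (hxV : x ∈ Set.range iV.base) :
    ∃ (f : A) (g : B), x ∈ iU.base '' (HensSch.dOpen πU f : Set U) ∧
      iU.base '' (HensSch.dOpen πU f : Set U) = iV.base '' (HensSch.dOpen πV g : Set V) := by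
  obtain ⟨u, rfl⟩ := hxU
  have hiU := (inferInstance : LocallyRingedSpace.IsOpenImmersion iU).base_open
  have hiV := (inferInstance : LocallyRingedSpace.IsOpenImmersion iV).base_open
  -- a first neighbourhood in `U`
  obtain ⟨O, hO, hOe⟩ := hU.1.isInducing.isOpen_iff.mp (hiV.isOpen_range.preimage hiU.continuous)
  obtain ⟨_, ⟨f, rfl⟩, huf, hfO⟩ := PrimeSpectrum.isTopologicalBasis_basic_opens.exists_subset_of_mem_open
    (show πU.base u ∈ O from (hOe.ge hxV : u ∈ πU.base ⁻¹' O)) hO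
  let G : Opens X := ⟨iU.base '' (HensSch.dOpen πU f : Set U), hiU.isOpenMap _ (HensSch.dOpen πU f).2⟩
  have hGV : (G : Set X) ⊆ Set.range iV.base := by
    rintro _ ⟨w, hw, rfl⟩
    exact hOe.le (hfO hw : w ∈ πU.base ⁻¹' O)
  -- a second one in `V`
  obtain ⟨v, hv⟩ := hxV
  obtain ⟨O', hO', hOe'⟩ := hV.1.isInducing.isOpen_iff.mp (G.2.preimage hiV.continuous)
  obtain ⟨_, ⟨g, rfl⟩, hvg, hgO⟩ := PrimeSpectrum.isTopologicalBasis_basic_opens.exists_subset_of_mem_open
    (show πV.base v ∈ O' from (hOe'.ge (show iV.base v ∈ G from hv ▸ ⟨u, huf, rfl⟩) : v ∈ πV.base ⁻¹' O')) hO'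
  -- the function of `g` on `G`
  haveI : IsIso (iV.c.app (op G)) := PresheafedSpace.IsOpenImmersion.c_iso' iV.toHom
    ((Opens.map iV.base).obj G) (Opens.ext (Set.image_preimage_eq_of_subset hGV).symm)
  let s₀ : V.presheaf.obj (op ((Opens.map iV.base).obj G)) :=
    (V.presheaf.map (homOfLE (le_top : (Opens.map iV.base).obj G ≤ (Opens.map πV.base).obj ⊤)).op).hom
      (pa πV ⊤ (toSec B ⊤ g))
  let s : X.presheaf.obj (op G) := (inv (iV.c.app (op G))).hom s₀
  have hs : (iV.c.app (op G)).hom s = s₀ :=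
    congrArg (fun l => l.hom s₀) (IsIso.inv_hom_id (iV.c.app (op G)))
  have hle : HensSch.dOpen πU f ≤ (Opens.map iU.base).obj G := fun w hw => ⟨w, hw, rfl⟩
  obtain ⟨f', hf'⟩ := exists_dOpen_eq hU f
    ((U.presheaf.map (homOfLE hle).op).hom ((iU.c.app (op G)).hom s))
  have hVs : ∀ w, iV.base w ∈ G → (iV.base w ∈ X.toRingedSpace.basicOpen s ↔ w ∈ HensSch.dOpen πV g) := by
    intro w hw
    rw [← mem_basicOpen_app iV s w, hs, mem_basicOpen_res]
    refine (and_iff_right hw).trans ((mem_basicOpen_app πV _ w).trans ?_)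
    exact (mem_basicOpen_toSec ⊤ g _).trans (and_iff_right trivial)
  have hUs : ∀ w, w ∈ HensSch.dOpen πU f' ↔ w ∈ HensSch.dOpen πU f ∧ iU.base w ∈ X.toRingedSpace.basicOpen s := by
    intro w
    rw [← hf', mem_basicOpen_res, mem_basicOpen_app]
  have hgG : ∀ w ∈ HensSch.dOpen πV g, iV.base w ∈ G := fun w hw =>
    hOe'.le (hgO hw : w ∈ πV.base ⁻¹' O')
  have hset : iU.base '' (HensSch.dOpen πU f' : Set U) = iV.base '' (HensSch.dOpen πV g : Set V) := by
    ext y
    constructor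
    · rintro ⟨w, hw, rfl⟩
      obtain ⟨hwf, hws⟩ := (hUs w).mp hw
      obtain ⟨w', hw'⟩ := hGV ⟨w, hwf, rfl⟩
      rw [← hw'] at hws
      exact ⟨w', (hVs w' (by rw [hw']; exact ⟨w, hwf, rfl⟩)).mp hws, hw'⟩
    · rintro ⟨w, hw, rfl⟩
      have hwG := hgG w hw
      have hws := (hVs w hwG).mpr hw
      obtain ⟨w', hw', he⟩ := hwG
      rw [← he] at hws
      exact ⟨w', (hUs w').mpr ⟨hw', hws⟩, he⟩
  exact ⟨f', g, hset ▸ ⟨v, hvg, hv⟩, hset⟩

end Groth.Agent.S17949
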