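import Groth.Statements.S17950
import Groth.Agent.Lib.HensSch.SphGlobal

set_option autoImplicit false
universe u
open CategoryTheory AlgebraicGeometry Opposite
open HensSch

namespace Groth.Agent.S17950

/-- For a Henselian pair `(A, I)` with affine Henselian spectrum `(X, π)`, the functor `M ↦ M~` from
`A`-modules to `O_X`-modules (here: `M~` on `Spec A` pulled back along `π`) is fully faithful. -/
theorem result (A : Type u) [CommRing A] (I : Ideal A) [HenselianRing A I]
    (X : LocallyRingedSpace.{u}) (π : X ⟶ HensSch.specLRS A) (hX : HensSch.IsSph A I X π) :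
    (HensSch.sphTildeFunctor π).Full ∧ (HensSch.sphTildeFunctor π).Faithful := by
  haveI : IsIso ((tilde.adjunction (R := CommRingCat.of A)).comp (HensSch.pullPushAdj π)).unit := by
    refine @NatIso.isIso_of_isIso_app _ _ _ _ _ _ _ fun M => ?_
    rw [ConcreteCategory.isIso_iff_bijective]
    exact Groth.Agent.Lib.HensSch.SphSections.bijective_theta0 M hX
  have h := ((tilde.adjunction (R := CommRingCat.of A)).comp (HensSch.pullPushAdj π)).fullyFaithfulLOfIsIsoUnit
  exact ⟨h.full, h.faithful⟩

end Groth.Agent.S17950
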