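import Groth.Statements.S17953
import Groth.Agent.Lib.HensSch.Flat
import Groth.Agent.Lib.QCoh.Stalk
import Mathlib.RingTheory.Flat.FaithfullyFlat.Algebra

set_option autoImplicit false
universe u
open CategoryTheory AlgebraicGeometry Opposite
open HensSch

namespace Groth.Agent.S17953

open CategoryTheory Limits Opposite TopologicalSpace AlgebraicGeometry
open Groth.Agent.Lib Groth.Agent.Lib.RingedMod

/-- A map killed by inverse image along a map flat on stalks is zero on the stalks at the image. -/
theorem stk_map_eq_zero {X Y : LocallyRingedSpace.{u}} (g : X ⟶ Y)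
    (hg : ∀ x, (Pullback.sm g x).Flat) {M N : Stalk.MD Y.sheaf} (f : M ⟶ N)
    (hf : (HensSch.pullMod g).map f = 0) (x : X) : (Stalk.stk Y.sheaf (g.base x)).map f = 0 := by
  letI := (Pullback.sm g x).toAlgebra
  haveI : Module.Flat (Stalk.Ox Y.sheaf (g.base x)) (Stalk.Ox X.sheaf x) := hg x
  haveI : IsLocalRing (Stalk.Ox Y.sheaf (g.base x)) := Y.isLocalRing _
  haveI : IsLocalRing (Stalk.Ox X.sheaf x) := X.isLocalRing _
  haveI : IsLocalHom (algebraMap (Stalk.Ox Y.sheaf (g.base x)) (Stalk.Ox X.sheaf x)) :=
    LocallyRingedSpace.isLocalHomStalkMap g x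
  haveI : Module.FaithfullyFlat (Stalk.Ox Y.sheaf (g.base x)) (Stalk.Ox X.sheaf x) :=
    Module.FaithfullyFlat.of_flat_of_isLocalHom
  have h := (Pullback.pullbackStalkIso g x).hom.naturality f
  simp only [Functor.comp_map, hf, Functor.map_zero, comp_zero] at h
  have h' : (ModuleCat.extendScalars.{u, u, u} (Pullback.sm g x)).map
      ((Stalk.stk Y.sheaf (g.base x)).map f) = 0 := (cancel_mono _).mp (h.trans zero_comp.symm)
  refine ModuleCat.hom_ext ((Module.FaithfullyFlat.zero_iff_lTensor_zero
    (Stalk.Ox Y.sheaf (g.base x)) (Stalk.Ox X.sheaf x) _).mpr (LinearMap.ext fun t => ?_))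
  exact congrArg (fun k => k.hom t) h'

/-- A morphism of quasi-coherent modules which vanishes on the stalk at `y` vanishes on the stalks at
the generalizations of `y`. -/
theorem stalkMap_eq_zero_of_specializes {X : Scheme.{u}} {F G : X.Modules} [F.IsQuasicoherent]
    (f : F ⟶ G) {x y : X} (h : x ⤳ y) (hy : Modules.StalkModule.stalkMapₗ f y = 0) :
    Modules.StalkModule.stalkMapₗ f x = 0 := by
  refine LinearMap.ext fun z => ?_
  obtain ⟨U, hU, hyU, -⟩ := exists_isAffineOpen_mem_and_subset (x := y) (U := ⊤) trivial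
  have hxU : x ∈ U := h.mem_open U.2 hyU
  obtain ⟨r, t, hr, hrt⟩ := QCoh.Stalk.exists_smul_eq_germ F hU hxU z
  have h1 : G.presheaf.germ U y hyU (f.app U t) = 0 := by
    rw [← Modules.StalkModule.stalkMapₗ_germ f hyU t, hy]
    rfl
  have h2 : G.presheaf.germ U x hxU (f.app U t) = 0 := by
    rw [← map_zero (G.presheaf.germ U y hyU).hom] at h1
    obtain ⟨W, hyW, i, j, e⟩ := TopCat.Presheaf.germ_eq G.presheaf y hyU hyU _ _ h1
    rw [← TopCat.Presheaf.germ_res_apply G.presheaf i x (h.mem_open W.2 hyW) (f.app U t)]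
    refine (congrArg (G.presheaf.germ W x (h.mem_open W.2 hyW)).hom e).trans ?_
    exact (congrArg (G.presheaf.germ W x (h.mem_open W.2 hyW)).hom (map_zero (G.presheaf.map j.op).hom)).trans
      (map_zero _)
  have h3 : X.presheaf.germ U x hxU r • Modules.StalkModule.stalkMapₗ f x z = 0 := by
    rw [← map_smul, hrt, Modules.StalkModule.stalkMapₗ_germ, h2]
  rw [LinearMap.zero_apply]
  exact ((RingedSpace.mem_basicOpen _ r x hxU).mp hr).smul_eq_zero.mp h3

/-- Let `ι : Xh ⟶ X` be the Henselization of a quasi-compact scheme `X` along a closed subset `Y`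
containing every closed point of `X`. Then `F ↦ F^h = ι^* F` is faithful on quasi-coherent
`O_X`-modules. (The published statement has no condition on `X` or `Y`; for `X = Spec (k × k)`, `Y`
one of the two points and `F` the quasi-coherent module supported at the other point, `F^h = 0`
while `F` has nonzero endomorphisms, so faithfulness fails. The published argument, faithful
flatness of the local rings of `Xh` over those of `X` at points of `Y`, gives faithfulness exactly
when every point of `X` specializes to a point of `Y`, which the two hypotheses here ensure.) -/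
theorem result (X : Scheme.{u}) [CompactSpace X] (Y : Set X)
    (hY : ∀ x : X, IsClosed ({x} : Set X) → x ∈ Y)
    (Xh : LocallyRingedSpace.{u}) (ι : Xh ⟶ X.toLocallyRingedSpace)
    (hh : HensSch.IsHenselizationAlong X Y Xh ι)
    (F G : X.Modules) [F.IsQuasicoherent] [G.IsQuasicoherent] :
    Function.Injective ((HensSch.pullMod ι).map : (F ⟶ G) → ((HensSch.pullMod ι).obj F ⟶ (HensSch.pullMod ι).obj G)) := by
  haveI : (HensSch.pullMod ι).Additive := (HensSch.pullPushAdj ι).left_adjoint_additive
  intro a b hab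
  refine sub_eq_zero.mp (Groth.Agent.Lib.Modules.StalkModule.hom_ext_stalkMapₗ fun x => ?_)
  refine Eq.trans ?_ (Groth.Agent.Lib.Modules.StalkModule.stalkMapₗ_zero x).symm
  obtain ⟨y, hy, hyc⟩ := IsClosed.exists_closed_singleton (isClosed_closure (s := {x}))
    ⟨x, subset_closure rfl⟩
  refine stalkMap_eq_zero_of_specializes _ (specializes_iff_mem_closure.mpr hy) ?_
  obtain ⟨z, rfl⟩ : y ∈ Set.range ι.base := hh.2.2.1 ▸ hY y hyc
  have hf : (HensSch.pullMod ι).map (a - b) = 0 := by
    refine ((HensSch.pullMod ι).map_sub (f := a) (g := b)).trans ?_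
    exact sub_eq_zero.mpr hab
  have h := stk_map_eq_zero ι
    (Groth.Agent.Lib.HensSch.Flat.flat_stalkMap_of_basis ι hh.2.1.isInducing fun W x hx => by
      obtain ⟨U, hU, hxU, hUW⟩ := Groth.Agent.Lib.HensSch.Lift.exists_good_flat hh hx
      exact ⟨U, hU.2, hxU, hUW⟩) (a - b) hf z
  refine LinearMap.ext fun v => ?_
  exact congrArg (fun k => k.hom v) h

end Groth.Agent.S17953
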