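import Groth.Statements.S17969
import Mathlib.RingTheory.Polynomial.GaussLemma
import Mathlib.RingTheory.Localization.FractionRing
import Mathlib.LinearAlgebra.Charpoly.Basic
import Mathlib.RingTheory.AdjoinRoot
import Mathlib.RingTheory.TensorProduct.Maps
import Mathlib.RingTheory.Flat.FaithfullyFlat.Basic
import Mathlib.RingTheory.Localization.BaseChange

set_option autoImplicit false
universe u
open scoped TensorProduct
open CAlg

namespace Groth.Agent.S17969

/-- Let A be an integrally closed domain with fraction field K and B a commutative A-algebra which is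
finite and torsion-free as an A-module and generated as an A-algebra by a single element x. Let P be
the characteristic polynomial of multiplication by 1 ⊗ x on the finite free K-module K ⊗_A B. Then P
has coefficients in A, namely P is the image of a monic polynomial over A, and the kernel of the
A-algebra map A[T] → B sending T to x is generated by that polynomial, so that B is A[T]/(P). -/
theorem result
    (A : Type u) [CommRing A] [IsDomain A] [IsIntegrallyClosed A]
    (B : Type u) [CommRing B] [Algebra A B] [Module.Finite A B] [NoZeroSMulDivisors A B]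
    (x : B) (hx : Algebra.adjoin A {x} = ⊤) :
    ∃ P : Polynomial A, P.Monic ∧
      Polynomial.map (algebraMap A (FractionRing A)) P =
        (LinearMap.mulLeft (FractionRing A) ((1 : FractionRing A) ⊗ₜ[A] x)).charpoly ∧
      RingHom.ker (Polynomial.aeval x).toRingHom = Ideal.span {P} := by
  classical
  let K := FractionRing A
  let y : K ⊗[A] B := 1 ⊗ₜ[A] x
  have hiy : IsIntegral K y := .of_finite K y
  have hev : ∀ f : Polynomial A, Polynomial.aeval y (f.map (algebraMap A K)) = 1 ⊗ₜ[A] Polynomial.aeval x f := by
    intro f
    rw [Polynomial.aeval_map_algebraMap,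
      show (1 : K) ⊗ₜ[A] Polynomial.aeval x f = (Algebra.TensorProduct.includeRight : B →ₐ[A] K ⊗[A] B) (Polynomial.aeval x f) from rfl,
      ← Polynomial.aeval_algHom_apply]
    rfl
  have hinj : Function.Injective fun b : B => (1 : K) ⊗ₜ[A] b := by
    haveI : IsLocalizedModule (nonZeroDivisors A) (TensorProduct.mk A K B 1) :=
      (isLocalizedModule_iff_isBaseChange (nonZeroDivisors A) K _).2 (TensorProduct.isBaseChange A B K)
    intro b b' h
    obtain ⟨c, hc⟩ := (IsLocalizedModule.eq_iff_exists (nonZeroDivisors A) (TensorProduct.mk A K B 1)).1 h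
    exact smul_right_injective B (nonZeroDivisors.coe_ne_zero c) hc
  let χ := (LinearMap.mulLeft K y).charpoly
  have hsurj : Function.Surjective (Polynomial.aeval (R := K) y) := by
    intro z
    induction z using TensorProduct.induction_on with
    | zero => exact ⟨0, map_zero _⟩
    | tmul a b =>
      have : b ∈ Algebra.adjoin A {x} := hx ▸ Algebra.mem_top
      rw [Algebra.adjoin_singleton_eq_range_aeval] at this
      obtain ⟨f, rfl⟩ := this
      refine ⟨a • f.map (algebraMap A K), ?_⟩
      rw [map_smul, hev, TensorProduct.smul_tmul', smul_eq_mul, mul_one]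
      rfl
    | add u v hu hv =>
      obtain ⟨f, rfl⟩ := hu; obtain ⟨g, rfl⟩ := hv
      exact ⟨f + g, map_add _ _ _⟩
  have hχ0 : Polynomial.aeval y χ = 0 := by
    have h := LinearMap.aeval_self_charpoly (LinearMap.mulLeft K y)
    rw [show LinearMap.mulLeft K y = Algebra.lmul K (K ⊗[A] B) y from rfl, Polynomial.aeval_algHom_apply] at h
    have := LinearMap.congr_fun h 1
    rw [Algebra.coe_lmul_eq_mul, LinearMap.mul_apply', mul_one] at this
    exact this
  have hχ : minpoly K y = χ := by
    refine (Polynomial.eq_of_monic_of_dvd_of_natDegree_le (minpoly.monic hiy) (LinearMap.charpoly_monic _)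
      (minpoly.dvd K y hχ0) ?_).symm
    rw [LinearMap.charpoly_natDegree]
    let g : AdjoinRoot (minpoly K y) →ₐ[K] K ⊗[A] B :=
      AdjoinRoot.liftAlgHom _ (Algebra.ofId K _) y (minpoly.aeval K y)
    have hg : Function.Surjective g.toLinearMap := by
      intro z
      obtain ⟨f, rfl⟩ := hsurj z
      exact ⟨AdjoinRoot.mk _ f, by simp [g, Polynomial.aeval_def, Algebra.ofId]⟩
    let pb := AdjoinRoot.powerBasis (minpoly.ne_zero hiy)
    haveI := pb.finite
    refine (LinearMap.finrank_le_finrank_of_surjective hg).trans (le_of_eq ?_)
    rw [pb.finrank]; rfl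
  have hix : IsIntegral A x := .of_finite A x
  obtain ⟨P, hP⟩ := IsIntegrallyClosed.eq_map_mul_C_of_dvd K (minpoly.monic hix)
    (g := minpoly K y) (minpoly.dvd K y (by rw [hev, minpoly.aeval, TensorProduct.tmul_zero]))
  rw [(minpoly.monic hiy).leadingCoeff, map_one, mul_one] at hP
  have hPm : P.Monic := Polynomial.monic_of_injective (IsFractionRing.injective A K) (hP ▸ minpoly.monic hiy)
  refine ⟨P, hPm, hP.trans hχ, ?_⟩
  ext f
  rw [RingHom.mem_ker, Ideal.mem_span_singleton, AlgHom.toRingHom_eq_coe, RingHom.coe_coe]
  constructor
  · intro h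
    refine (Polynomial.map_dvd_map (algebraMap A K) (IsFractionRing.injective A K) hPm).1 ?_
    rw [hP]
    exact minpoly.dvd K y (by rw [hev, h, TensorProduct.tmul_zero])
  · rintro ⟨g, rfl⟩
    rw [map_mul]
    have : Polynomial.aeval x P = 0 := by
      refine hinj ?_
      simp only [← hev, hP, minpoly.aeval, TensorProduct.tmul_zero]
    rw [this, zero_mul]

end Groth.Agent.S17969
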