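import Groth.Statements.S1797
import Groth.Agent.Lib.LCFin.HLVT2
import Groth.Agent.Lib.LCFin.PuncturedAffine
import Groth.Agent.Lib.GRing.EssFinite
import Groth.Agent.S19379
import Groth.Agent.S2644
import Groth.Agent.Lib.NormalTensor.Formal
import Groth.Agent.Lib.Regular.Completion
import Groth.Agent.Lib.LocalCoh.Change
import Groth.Agent.Lib.Goren.LCI
import Mathlib.RingTheory.Flat.FaithfullyFlat.Basic
import Mathlib.RingTheory.Localization.Integer
-- import your own Groth.Agent.* helpers here

set_option autoImplicit false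
universe u
open LocCoh

namespace Groth.Agent.S1797

/-- Let A be an excellent normal Noetherian local ring (an integrally closed domain) and I an ideal with
dim V(I) ≥ 1, i.e. dim A/I ≥ 1. Then cd(A, I) < dim A: for every A-module M, H^i_I(M) = 0 whenever i
≥ dim A. Moreover, if dim A = 2 then the open subscheme Spec A ∖ V(I) is affine. -/
theorem result (A : Type u) [CommRing A] [IsDomain A] [IsLocalRing A] [IsNoetherianRing A] [IsIntegrallyClosed A] (hA : EGA4.IsExcellent A) (I : Ideal A) (hI : (1 : WithBot ℕ∞) ≤ ringKrullDim (A ⧸ I)) : (∀ (M : Type u) [AddCommGroup M] [Module A M] (i : ℕ), ringKrullDim A ≤ (i : WithBot ℕ∞) → Subsingleton (LocCoh.H I i M)) ∧ (ringKrullDim A = 2 → AlgebraicGeometry.IsAffine (↑(LocCoh.puncturedOpen A I) : AlgebraicGeometry.Scheme.{u})) := by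
  classical
  have hG : CAlg.IsGRing A := hA.2.2.1
  have hgn : EGA4.HasGeomNormalFormalFibres A :=
    Groth.Agent.Lib.GRing.EssFinite.of_cover A A hG
      (Groth.Agent.Lib.GRing.EssFinite.isNormalHom_of_isRegularHom A A (Groth.Agent.S19379.result A A))
  have hnormal : EGA4.IsNormalRing A := fun p _ => ⟨inferInstance,
    isIntegrallyClosed_of_isLocalization _ p.primeCompl p.primeCompl_le_nonZeroDivisors⟩
  have hdom : IsDomain (EGA4.Cpl A) :=
    Groth.Agent.Lib.NormalTensor.Formal.isDomain_of_isNormalRing_local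
      ((Groth.Agent.S2644.result A hgn).1 hnormal)
  have : Module.FaithfullyFlat A (EGA4.Cpl A) := Module.FaithfullyFlat.of_flat_of_isLocalHom
  obtain ⟨d, hd⟩ := Groth.Agent.Lib.Goren.LCI.exists_nat_dim A
  have hdim : ringKrullDim (EGA4.Cpl A) = d :=
    (Groth.Agent.Lib.Regular.Completion.ringKrullDim_eq _ (IsLocalRing.maximalIdeal.isMaximal A).ne_top).trans hd
  let J := I.map (algebraMap A (EGA4.Cpl A))
  have hJI : J.comap (algebraMap A (EGA4.Cpl A)) = I := Ideal.comap_map_eq_self_of_faithfullyFlat I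
  have hnt : Nontrivial (A ⧸ I) := by
    by_contra hn
    rw [not_nontrivial_iff_subsingleton] at hn
    rw [ringKrullDim_eq_bot_of_subsingleton] at hI
    exact absurd hI (by simp)
  have hJ : 0 < ringKrullDim (EGA4.Cpl A ⧸ J) := by
    have hJne : J ≠ ⊤ := fun h => Ideal.Quotient.nontrivial_iff.1 hnt (by rw [← hJI, h, Ideal.comap_top])
    have : Nontrivial (EGA4.Cpl A ⧸ J) := Ideal.Quotient.nontrivial_iff.2 hJne
    refine lt_of_le_of_ne ringKrullDim_nonneg_of_nontrivial fun h0 => ?_
    -- then `I` would be primary to the maximal ideal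
    have hrad : IsLocalRing.maximalIdeal (EGA4.Cpl A) ≤ J.radical := by
      rw [Ideal.radical_eq_sInf]
      refine le_sInf ?_
      rintro q ⟨hJq, hq⟩
      by_contra hqm
      have h1 := Groth.Agent.Lib.Depth.Assoc.ringKrullDim_quotient_add_one_le_of_lt
        (lt_of_le_not_ge (IsLocalRing.le_maximalIdeal hq.ne_top) hqm)
      let : Field (EGA4.Cpl A ⧸ IsLocalRing.maximalIdeal (EGA4.Cpl A)) := Ideal.Quotient.field _
      have h2 := h1.trans (ringKrullDim_le_of_surjective (Ideal.Quotient.factor hJq)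
        (Ideal.Quotient.factor_surjective _))
      rw [ringKrullDim_eq_zero_of_field, ← h0] at h2
      exact absurd h2 (by simp)
    have hAr : IsLocalRing.maximalIdeal A ≤ I.radical := by
      intro a ha
      obtain ⟨n, hn⟩ := hrad (((IsLocalRing.local_hom_TFAE (algebraMap A (EGA4.Cpl A))).out 0 2 rfl rfl).1
        inferInstance (Ideal.mem_map_of_mem _ ha))
      exact ⟨n, hJI.le (by rw [Ideal.mem_comap, map_pow]; exact hn)⟩
    have : Ring.KrullDimLE 0 (A ⧸ I) := Ring.KrullDimLE.mk₀ fun q hq => by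
      have hmk : q.comap (Ideal.Quotient.mk I) = IsLocalRing.maximalIdeal A := by
        refine le_antisymm (IsLocalRing.le_maximalIdeal (Ideal.IsPrime.ne_top inferInstance)) ?_
        refine hAr.trans ((Ideal.IsPrime.radical_le_iff inferInstance).2 fun a ha => ?_)
        show Ideal.Quotient.mk I a ∈ q
        rw [Ideal.Quotient.eq_zero_iff_mem.2 ha]
        exact zero_mem q
      rw [← Ideal.map_comap_of_surjective _ Ideal.Quotient.mk_surjective q, hmk]
      refine Ideal.IsMaximal.map_of_surjective_of_ker_le Ideal.Quotient.mk_surjective ?_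
      rw [Ideal.mk_ker]
      exact IsLocalRing.le_maximalIdeal (Ideal.Quotient.nontrivial_iff.1 hnt)
    have h1 := hI.trans (Ring.krullDimLE_iff.1 this)
    exact absurd h1 (by simp)
  have htop : Subsingleton (LocCoh.H I d A) := by
    have h1 : Subsingleton (LocCoh.H J d (EGA4.Cpl A)) :=
      Groth.Agent.Lib.LCFin.HLVT.subsingleton_domain hdim J hJ
    obtain ⟨ε⟩ := Groth.Agent.Lib.LocalCoh.nonempty_lcBaseChangeIso (EGA4.Cpl A) I (ModuleCat.of A A) d
    let δ : TensorProduct A (EGA4.Cpl A) A ≃ₗ[EGA4.Cpl A] EGA4.Cpl A :=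
      TensorProduct.AlgebraTensorModule.rid A (EGA4.Cpl A) (EGA4.Cpl A)
    let ε' := ε ≪≫ (localCohomology J d).mapIso δ.toModuleIso
    have : Subsingleton (TensorProduct A (EGA4.Cpl A) (LocCoh.H I d A)) :=
      @Equiv.subsingleton _ _ ε'.toLinearEquiv.toEquiv h1
    by_contra hne
    rw [not_subsingleton_iff_nontrivial] at hne
    exact not_nontrivial _ (Module.FaithfullyFlat.lTensor_nontrivial A (EGA4.Cpl A) (LocCoh.H I d A))
  have hd1 : 1 ≤ d := by
    have := hI.trans (ringKrullDim_quotient_le I)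
    rw [hd] at this
    exact_mod_cast this
  have hcd : LocCoh.CdLE A I (d - 1) := Groth.Agent.Lib.LCFin.Cd.cdLE_of_subsingleton_self I _ fun i hi => by
    rcases Nat.eq_or_lt_of_le (show d ≤ i by omega) with rfl | h
    · exact htop
    · exact Groth.Agent.Lib.LCFin.Cd.cdLE_of_ringKrullDim I d hd.le A i h
  refine ⟨fun M _ _ i hi => hcd M i ?_, fun h2 => ?_⟩
  · rw [hd] at hi
    have : d ≤ i := by exact_mod_cast hi
    omega
  · rw [hd] at h2
    obtain rfl : d = 2 := by exact_mod_cast h2
    exact Groth.Agent.Lib.LCFin.PuncturedAffine.isAffine I hcd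


end Groth.Agent.S1797
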