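import Groth.Statements.S17974
import Mathlib.RingTheory.Unramified.Finite

set_option autoImplicit false
universe u
open Unram

namespace Groth.Agent.S17974

open TensorProduct

/-- Let A be a commutative ring, B an unramified A-algebra (formally unramified and of finite type), C
an A-algebra, p a prime ideal of C, and u, v : B → C two A-algebra homomorphisms which agree after
composition with C → C/p. Then there is an element f of C not in p such that u and v agree after
composition with the localization map C → C[1/f]. -/
theorem result
    (A : Type u) [CommRing A] (B : Type u) [CommRing B] [Algebra A B]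
    [Algebra.FormallyUnramified A B] [Algebra.FiniteType A B]
    (C : Type u) [CommRing C] [Algebra A C] (p : Ideal C) [p.IsPrime]
    (u v : B →ₐ[A] C)
    (huv : (Ideal.Quotient.mk p).comp u.toRingHom = (Ideal.Quotient.mk p).comp v.toRingHom) :
    ∃ f : C, f ∉ p ∧
      (algebraMap C (Localization.Away f)).comp u.toRingHom =
        (algebraMap C (Localization.Away f)).comp v.toRingHom := by
  obtain ⟨t, ht, ht1⟩ := Algebra.FormallyUnramified.iff_exists_tensorProduct.mp
    (inferInstance : Algebra.FormallyUnramified A B)
  let ψ : B ⊗[A] B →ₐ[A] C := Algebra.TensorProduct.lift u v fun _ _ => Commute.all _ _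
  refine ⟨ψ t, fun hf => ?_, RingHom.ext fun b => ?_⟩
  · have key : ∀ z, Ideal.Quotient.mk p (ψ z) =
        Ideal.Quotient.mk p (u (Algebra.TensorProduct.lmul' A z)) := by
      intro z
      induction z using TensorProduct.induction_on with
      | zero => simp
      | add a b ha hb => simp only [map_add, ha, hb]
      | tmul a b =>
        have hb := RingHom.congr_fun huv b
        simp only [RingHom.coe_comp, Function.comp_apply, AlgHom.toRingHom_eq_coe,
          AlgHom.coe_toRingHom] at hb
        simp [ψ, map_mul, hb]
    have h1 := key t
    rw [ht1, map_one, map_one, Ideal.Quotient.eq_zero_iff_mem.mpr hf] at h1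
    exact zero_ne_one h1
  · change algebraMap C (Localization.Away (ψ t)) (u b) = algebraMap C (Localization.Away (ψ t)) (v b)
    have h1 : (v b - u b) * ψ t = 0 := by
      have := congr_arg ψ (ht b)
      rw [map_mul, map_sub, map_zero] at this
      simpa [ψ] using this
    have h2 := congr_arg (algebraMap C (Localization.Away (ψ t))) h1
    rw [map_mul, map_zero, (IsLocalization.Away.algebraMap_isUnit (ψ t)).mul_left_eq_zero, map_sub,
      sub_eq_zero] at h2
    exact h2.symm

end Groth.Agent.S17974
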