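import Groth.Statements.S17976
import Groth.Agent.Lib.Henselian.NbhdFinite

set_option autoImplicit false
universe u
open Hensel

namespace Groth.Agent.S17976

/-- Let A be a commutative ring, I an ideal of A and B an A-algebra of finite type such that B/IB is a
finite A-module. Then there exist an etale A-algebra A' such that A → A'/IA' is surjective with
kernel I, and a commutative ring C which is an A'-algebra finite over A' and an etale B-algebra,
with compatible A-algebra structures, such that B → C/IC is surjective with kernel IB. In scheme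
language: an etale affine neighbourhood S' of Spec (A/I) in Spec A and an etale neighbourhood Z =
Spec C of Spec (B/IB) in Spec B, finite over S', forming a commutative square. -/
theorem result
    (A : Type u) [CommRing A] (I : Ideal A) (B : Type u) [CommRing B] [Algebra A B] [Algebra.FiniteType A B]
    (hfin : Module.Finite A (B ⧸ Ideal.map (algebraMap A B) I)) :
    ∃ (A' : Type u) (_ : CommRing A') (_ : Algebra A A') (_ : Algebra.Etale A A')
      (C : Type u) (_ : CommRing C) (_ : Algebra A C) (_ : Algebra A' C) (_ : Algebra B C)
      (_ : IsScalarTower A A' C) (_ : IsScalarTower A B C),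
      Function.Surjective ((Ideal.Quotient.mk (Ideal.map (algebraMap A A') I)).comp (algebraMap A A')) ∧
      RingHom.ker ((Ideal.Quotient.mk (Ideal.map (algebraMap A A') I)).comp (algebraMap A A')) = I ∧
      Algebra.Etale B C ∧ Module.Finite A' C ∧
      Function.Surjective ((Ideal.Quotient.mk (Ideal.map (algebraMap A C) I)).comp (algebraMap B C)) ∧
      RingHom.ker ((Ideal.Quotient.mk (Ideal.map (algebraMap A C) I)).comp (algebraMap B C)) =
        Ideal.map (algebraMap A B) I := by
  haveI := hfin
  obtain ⟨A', _, _, hE, C, _, _, _, _, _, _, hA', hEt, hfinC, hC⟩ :=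
    Groth.Agent.Lib.Henselian.NbhdFinite.exists_finite_nbhd (I := I) B
  have hmap : (I.map (algebraMap A B)).map (algebraMap B C) = I.map (algebraMap A C) := by
    rw [Ideal.map_map, ← IsScalarTower.algebraMap_eq]
  have key : ∀ {R S : Type u} [CommRing R] [CommRing S] [Algebra R S] (J : Ideal R) (K : Ideal S),
      Groth.Agent.Lib.Henselian.PairHenselization.IsNbhd J S → J.map (algebraMap R S) = K →
      Function.Surjective ((Ideal.Quotient.mk K).comp (algebraMap R S)) ∧
        RingHom.ker ((Ideal.Quotient.mk K).comp (algebraMap R S)) = J := by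
    intro R S _ _ _ J K hJ hK
    subst hK
    obtain ⟨hinj, hsurj⟩ := hJ
    refine ⟨fun x => ?_, le_antisymm (fun r hr => ?_) fun r hr => ?_⟩
    · obtain ⟨q, hq⟩ := hsurj x
      obtain ⟨r, rfl⟩ := Ideal.Quotient.mk_surjective q
      exact ⟨r, hq⟩
    · rw [← Ideal.Quotient.eq_zero_iff_mem]
      apply hinj
      rw [map_zero]
      exact RingHom.mem_ker.1 hr
    · exact RingHom.mem_ker.2 (Ideal.Quotient.eq_zero_iff_mem.2 (Ideal.mem_map_of_mem _ hr))
  obtain ⟨h1, h2⟩ := key I _ hA' rfl
  obtain ⟨h3, h4⟩ := key _ _ hC hmap
  exact ⟨A', inferInstance, inferInstance, hE, C, inferInstance, inferInstance, inferInstance,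
    inferInstance, inferInstance, inferInstance, h1, h2, hEt, hfinC, h3, h4⟩

end Groth.Agent.S17976
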