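import Groth.Statements.S1798
import Groth.Agent.Lib.LCFin.LocFreeKill
import Groth.Prelude.Def_Canon
-- import your own Groth.Agent.* helpers here

set_option autoImplicit false
universe u
open CategoryTheory AlgebraicGeometry
open LocCoh
open Groth.Agent.Lib.Modules.DualBasis Groth.Agent.Lib.LCFin.LocFreeKill

namespace Groth.Agent.S1798

/-- Let A be a ring, J ⊆ I finitely generated ideals, U the open complement of V(I) in Spec A and p ≥ 0.
If some power of J kills H^p(U, O_U), then for each finite locally free O_U-module F some power of J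
kills H^p(U, F). -/
theorem result (A : Type u) [CommRing A] (J I : Ideal A) (hJI : J ≤ I) (hJ : J.FG) (hI : I.FG) (p n : ℕ) (hO : ∀ a ∈ J ^ n, ∀ x : Coh.HH (↑(LocCoh.puncturedOpen A I)) (Coh.structureModule (↑(LocCoh.puncturedOpen A I))) p, a • x = 0) (F : (↑(LocCoh.puncturedOpen A I) : Scheme.{u}).Modules) (hF : FlatMod.IsFinLocFree F) : ∃ m : ℕ, ∀ a ∈ J ^ m, ∀ x : Coh.HH (↑(LocCoh.puncturedOpen A I)) F p, a • x = 0 := by
  classical
  let U := LocCoh.puncturedOpen A I
  have hUc : IsCompact (U : Set (Spec (CommRingCat.of A))) :=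
    (PrimeSpectrum.isCompact_isOpen_iff_ideal.2 ⟨I, hI, rfl⟩).1
  haveI : CompactSpace (U : Scheme.{u}) := isCompact_iff_compactSpace.mp hUc
  haveI : QuasiSeparatedSpace (U : Scheme.{u}) := quasiSeparatedSpace_of_quasiSeparated U.ι
  let ψ : A →+* Coh.Γtop (U : Scheme.{u}) := Coh.toGlobal ((U : Scheme.{u}) ↘ Spec (CommRingCat.of A))
  have hbo : ∀ g : A, (U : Scheme.{u}).basicOpen (ψ g) = U.ι ⁻¹ᵁ PrimeSpectrum.basicOpen g := by
    intro g
    rw [← basicOpen_eq_of_affine (R := CommRingCat.of A) g]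
    exact (U.ι.preimage_basicOpen_top _).symm
  have hnb : ∀ x : (U : Scheme.{u}), ∃ (g : A) (k : ℕ), x ∈ (U : Scheme.{u}).basicOpen (ψ g) ∧
      Nonempty (DBasis F ((U : Scheme.{u}).basicOpen (ψ g)) k) := by
    intro x
    obtain ⟨V, k, hxV, ⟨B⟩⟩ := hasDBases_of_isFinLocFree hF x
    obtain ⟨_, ⟨g, rfl⟩, hxg, hle⟩ := PrimeSpectrum.isTopologicalBasis_basic_opens.exists_subset_of_mem_open
      (show U.ι x ∈ (U.ι ''ᵁ V : Set (Spec (CommRingCat.of A))) from ⟨x, hxV, rfl⟩) (U.ι ''ᵁ V).isOpen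
    refine ⟨g, k, by rw [hbo]; exact hxg, ⟨B.res fun y hy => ?_⟩⟩
    rw [hbo] at hy
    obtain ⟨z, hz, hzy⟩ := hle hy
    exact U.ι.isOpenEmbedding.injective hzy ▸ hz
  choose g k hxg hB using hnb
  obtain ⟨t, ht⟩ := isCompact_univ.elim_finite_subcover
    (fun x => ((U : Scheme.{u}).basicOpen (ψ (g x)) : Set (U : Scheme.{u})))
    (fun x => ((U : Scheme.{u}).basicOpen (ψ (g x))).isOpen) fun x _ => Set.mem_iUnion.2 ⟨x, hxg x⟩
  -- the annihilator
  let K : Ideal A :=
    { carrier := {c | ∀ x : Coh.HH (U : Scheme.{u}) F p, c • x = 0}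
      add_mem' := fun {a b} ha hb x => by rw [add_smul, ha, hb, add_zero]
      zero_mem' := fun x => zero_smul A x
      smul_mem' := fun c a ha x => by rw [smul_eq_mul, mul_smul, ha, smul_zero] }
  have hg : ∀ z, ∃ N : ℕ, ∀ b ∈ J ^ n, g z ^ N * b ∈ K := by
    intro z
    obtain ⟨N, d, e, hde⟩ := exists_factor hF (ψ (g z)) (hB z).some
    refine ⟨N, fun b hb x => ?_⟩
    let θ : F ⟶ F := ∑ i, formHom (d i) ≫ Groth.Agent.Lib.Modules.Free.unitHom F (e i)
    have hθ : Coh.smulAb F (ψ (g z ^ N)) = (SheafOfModules.toSheaf _).map θ := by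
      ext V m
      rw [Coh.smulAb_app, map_pow ψ]
      refine (hde V.unop m).symm.trans ?_
      symm
      exact map_sum (AddMonoidHom.mk' (fun φ : F ⟶ F => φ.app V.unop m) fun a b => rfl)
        (fun i => formHom (d i) ≫ Groth.Agent.Lib.Modules.Free.unitHom F (e i)) Finset.univ
    have hs : ∀ y : Coh.HH (U : Scheme.{u}) F p,
        (g z ^ N) • y = Sheaf.H.map ((SheafOfModules.toSheaf _).map θ) p y := fun y => by
      rw [← hθ]; rfl
    rw [mul_smul, hs]
    let H : (F ⟶ F) →+ Coh.HH (U : Scheme.{u}) F p :=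
      AddMonoidHom.mk' (fun φ => Sheaf.H.map ((SheafOfModules.toSheaf _).map φ) p (b • x))
        fun φ φ' => (congrArg (fun f => Sheaf.H.map f p (b • x)) (Functor.map_add (SheafOfModules.toSheaf _))).trans
          (Sheaf.H.map_add_apply _ _ _)
    refine (map_sum H (fun i => formHom (d i) ≫ Groth.Agent.Lib.Modules.Free.unitHom F (e i))
      Finset.univ).trans (Finset.sum_eq_zero fun i _ => ?_)
    show Sheaf.H.map ((SheafOfModules.toSheaf _).map _) p (b • x) = 0
    refine ((congrArg (fun f => Sheaf.H.map f p (b • x)) (Functor.map_comp (SheafOfModules.toSheaf _) _ _)).trans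
      (Sheaf.H.map_comp_apply _ _ _)).trans ?_
    rw [show Sheaf.H.map ((SheafOfModules.toSheaf _).map (formHom (d i))) p (b • x) =
      b • Sheaf.H.map ((SheafOfModules.toSheaf _).map (formHom (d i))) p x from
      map_smul (Canon.HHlin A (formHom (d i)) p) b x, hO b hb, map_zero]
  choose N hN using hg
  have hrad : J ≤ (Ideal.span ((fun z => g z ^ N z) '' (t : Set (U : Scheme.{u})))).radical := by
    intro a ha
    rw [Ideal.radical_eq_sInf, Ideal.mem_sInf]
    rintro P ⟨hP, hPp⟩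
    by_contra haP
    have hPU : (⟨P, hPp⟩ : PrimeSpectrum A) ∈ U := fun hmem => haP (hmem (hJI ha))
    obtain ⟨z, hz, hzP⟩ := Set.mem_iUnion₂.1 (ht (Set.mem_univ (⟨⟨P, hPp⟩, hPU⟩ : (U : Scheme.{u}))))
    replace hzP := (hbo (g z)).le hzP
    exact hzP (hPp.mem_of_pow_mem (N z) (hP (Ideal.subset_span ⟨z, hz, rfl⟩)))
  obtain ⟨l, hl⟩ := Ideal.exists_pow_le_of_le_radical_of_fg hrad hJ
  refine ⟨l + n, fun a ha => ?_⟩
  refine (show J ^ (l + n) ≤ K from ?_) ha
  rw [pow_add, Ideal.mul_le]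
  intro r hr b hb
  refine Submodule.span_induction (p := fun r _ => r * b ∈ K) ?_ ?_ ?_ ?_ (hl hr)
  · rintro _ ⟨z, -, rfl⟩; exact hN z b hb
  · rw [zero_mul]; exact K.zero_mem
  · intro r s _ _ h1 h2; rw [add_mul]; exact K.add_mem h1 h2
  · intro c r _ h1; rw [smul_eq_mul, mul_assoc]; exact K.mul_mem_left c h1


end Groth.Agent.S1798
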