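import Groth.Statements.S17983
import Mathlib

set_option autoImplicit false
universe u
open WeilNum

namespace Groth.Agent.S17983

/-- Let p be a prime number, e ≥ 1 and q = p^e. Let π be an element of a field of characteristic zero
which is integral over ℤ, with minimal polynomial P over ℤ, and assume that every complex root of P
has absolute value √q and that no complex root of P is real (π is a nonreal Weil q-number). Then the
degree of P is even, say 2d, and writing a_j for the coefficient of x^j in P one has a_{d−r} = q^r ·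
a_{d+r} for every 0 ≤ r ≤ d. -/
theorem result (p e : ℕ) [Fact p.Prime] (he : 0 < e)
    (K : Type u) [Field K] [CharZero K] (π : K) (hπ : IsIntegral ℤ π)
    (hweil : ∀ z ∈ (minpoly ℤ π).aroots ℂ, ‖z‖ = Real.sqrt ((p : ℝ) ^ e))
    (hnr : ∀ z ∈ (minpoly ℤ π).aroots ℂ, z.im ≠ 0) :
    Even (minpoly ℤ π).natDegree ∧
      ∀ r ≤ (minpoly ℤ π).natDegree / 2,
        (minpoly ℤ π).coeff ((minpoly ℤ π).natDegree / 2 - r) =
          (p : ℤ) ^ (e * r) * (minpoly ℤ π).coeff ((minpoly ℤ π).natDegree / 2 + r) := by
  set P := minpoly ℤ π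
  set n := P.natDegree
  have hPm : P.Monic := minpoly.monic hπ
  set Q := P.map (Int.castRingHom ℂ) with hQ
  have hQm : Q.Monic := hPm.map _
  have hQd : Q.natDegree = n := hPm.natDegree_map _
  have haro : P.aroots ℂ = Q.roots := by rw [Polynomial.aroots_def, algebraMap_int_eq]
  rw [haro] at hweil hnr
  set q : ℝ := (p : ℝ) ^ e with hq
  have hq0 : 0 < q := by have := (Fact.out : p.Prime).pos; positivity
  have hnorm : ∀ z ∈ Q.roots, z * (starRingEnd ℂ) z = (q : ℂ) := fun z hz => by
    rw [Complex.mul_conj', hweil z hz, ← Complex.ofReal_pow, Real.sq_sqrt hq0.le]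
  have hconjQ : Q.map (starRingEnd ℂ) = Q := by
    rw [hQ, Polynomial.map_map]; congr 1; exact RingHom.ext_int _ _
  have hsplit : Q.Splits := IsAlgClosed.splits Q
  have hconj : Q.roots.map (starRingEnd ℂ) = Q.roots := by
    rw [← Polynomial.Splits.roots_map hsplit (starRingEnd ℂ), hconjQ]
  classical
  set Rp := Q.roots.filter (fun z => 0 < z.im) with hRp
  have hR : Q.roots = Rp + Rp.map (starRingEnd ℂ) := by
    conv_lhs => rw [← Multiset.filter_add_not (fun z => 0 < z.im) Q.roots]
    congr 1
    conv_lhs => rw [← hconj, Multiset.filter_map]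
    congr 1
    refine Multiset.filter_congr fun z hz => ?_
    simp only [Function.comp_apply, Complex.conj_im, not_lt, neg_nonpos]
    exact ⟨fun h => lt_of_le_of_ne h (Ne.symm (hnr z hz)), le_of_lt⟩
  set m := Multiset.card Rp
  have hn : n = 2 * m := by
    rw [← hQd, hsplit.natDegree_eq_card_roots, hR, Multiset.card_add, Multiset.card_map, two_mul]
  have hc0 : Q.coeff 0 = (q : ℂ) ^ m := by
    rw [hsplit.coeff_zero_eq_prod_roots_of_monic hQm, hQd, hn, pow_mul, neg_one_sq, one_pow, one_mul, hR,
      Multiset.prod_add, show Rp.prod = (Rp.map id).prod by rw [Multiset.map_id], ← Multiset.prod_map_mul]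
    simp only [id_eq]
    rw [Multiset.map_congr (rfl : Rp = Rp) (g := fun _ => (q : ℂ)) (fun z hz => hnorm z (Multiset.mem_of_mem_filter hz)),
      Multiset.map_const', Multiset.prod_replicate]
  set T : Polynomial ℂ := ∑ j ∈ Finset.range (n + 1), Polynomial.C (Q.coeff j * (q : ℂ) ^ j) * Polynomial.X ^ (n - j) with hT
  have hqc : (q : ℂ) ≠ 0 := by exact_mod_cast hq0.ne'
  have hTeq : T = Polynomial.C ((q : ℂ) ^ m) * Q := by
    refine Polynomial.eq_of_infinite_eval_eq _ _ (Set.Infinite.mono (s := {z : ℂ | z ≠ 0}) ?_ ?_)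
    · intro z hz
      simp only [Set.mem_setOf_eq] at hz ⊢
      have h1 : T.eval z = z ^ n * Q.eval ((q : ℂ) / z) := by
        rw [hT, Polynomial.eval_finsetSum, Polynomial.eval_eq_sum_range (p := Q), hQd, Finset.mul_sum]
        refine Finset.sum_congr rfl fun j hj => ?_
        rw [Polynomial.eval_mul, Polynomial.eval_C, Polynomial.eval_pow, Polynomial.eval_X, div_pow,
          show z ^ n = z ^ j * z ^ (n - j) by rw [← pow_add, Nat.add_sub_cancel' (Finset.mem_range_succ_iff.mp hj)]]
        field_simp
      have hcard : Multiset.card Q.roots = n := by rw [← hsplit.natDegree_eq_card_roots, hQd]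
      rw [h1, ← hcard, ← Multiset.prod_replicate, ← Multiset.map_const', hsplit.eval_eq_prod_roots_of_monic hQm,
        ← Multiset.prod_map_mul, Polynomial.eval_mul, Polynomial.eval_C, ← hc0,
        hsplit.coeff_zero_eq_prod_roots_of_monic hQm, hQd, hn, pow_mul, neg_one_sq, one_pow, one_mul,
        Multiset.map_congr rfl (g := fun a => a * ((starRingEnd ℂ) a - z)) (fun a ha => by
          rw [mul_sub, mul_sub, hnorm a ha, mul_div_cancel₀ _ hz]; ring),
        Multiset.prod_map_mul, Multiset.map_id']
      congr 1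
      rw [hsplit.eval_eq_prod_roots_of_monic hQm]
      conv_lhs => rw [show Q.roots.map (fun a => (starRingEnd ℂ) a - z) = (Q.roots.map (starRingEnd ℂ)).map (fun b => b - z) by
        rw [Multiset.map_map]; rfl, hconj]
      rw [Multiset.map_congr rfl (g := fun b => (-1 : ℂ) * (z - b)) (fun b _ => by ring), Multiset.prod_map_mul,
        Multiset.map_const', Multiset.prod_replicate, hcard, hn, pow_mul, neg_one_sq, one_pow, one_mul]
    · exact Set.Infinite.mono (fun z (hz : z ∈ ({0}ᶜ : Set ℂ)) => hz) (Set.finite_singleton (0 : ℂ)).infinite_compl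
  refine ⟨⟨m, by omega⟩, fun r hr => ?_⟩
  have hnm : n / 2 = m := by omega
  rw [hnm] at hr ⊢
  have h := congrArg (fun S : Polynomial ℂ => S.coeff (m + r)) hTeq
  simp only [hT, Polynomial.finsetSum_coeff, Polynomial.coeff_C_mul, Polynomial.coeff_X_pow, mul_ite, mul_one, mul_zero] at h
  rw [Finset.sum_eq_single (m - r), if_pos (by omega)] at h
  · rw [hQ, Polynomial.coeff_map, Polynomial.coeff_map, show (q : ℂ) ^ m = (q : ℂ) ^ r * (q : ℂ) ^ (m - r) by
      rw [← pow_add, Nat.add_sub_cancel' hr], eq_intCast, eq_intCast] at h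
    have h' : ((P.coeff (m - r) : ℤ) : ℂ) = (q : ℂ) ^ r * ((P.coeff (m + r) : ℤ) : ℂ) :=
      mul_right_cancel₀ (pow_ne_zero (m - r) hqc) (by linear_combination h)
    rw [hq, Complex.ofReal_pow, Complex.ofReal_natCast, ← pow_mul] at h'
    exact_mod_cast h'
  · intro j hj hne
    rw [Finset.mem_range] at hj
    rw [if_neg (by omega)]
  · intro h'
    exact absurd (Finset.mem_range.mpr (by omega)) h'

end Groth.Agent.S17983
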