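import Groth.Statements.S17984
import Mathlib

set_option autoImplicit false
universe u
open MvPolynomial
open WeilNum

namespace Groth.Agent.S17984

open LaurentPolynomial in
noncomputable def psi (q : ℤ) : MvPolynomial (Fin 2) ℤ →+* LaurentPolynomial ℤ :=
  MvPolynomial.eval₂Hom LaurentPolynomial.C ![T 1, LaurentPolynomial.C q * T (-1)]

noncomputable def phi (q : ℤ) : MvPolynomial (Fin 2) ℤ →+* Polynomial (ℤ ⧸ Ideal.span {q}) :=
  MvPolynomial.eval₂Hom (Polynomial.C.comp (Int.castRingHom _)) ![0, Polynomial.X]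

variable (q : ℤ)

lemma psi_X0 : psi q (X 0) = LaurentPolynomial.T 1 := by simp [psi]
lemma phi_X0 : phi q (X 0) = 0 := by simp [phi]

lemma psi_rel : psi q (X 0 * X 1 - C q) = 0 := by
  simp only [psi, map_sub, map_mul, eval₂Hom_X', eval₂Hom_C, Matrix.cons_val_zero, Matrix.cons_val_one]
  rw [mul_left_comm, ← LaurentPolynomial.T_add]
  simp

lemma phi_rel : phi q (X 0 * X 1 - C q) = 0 := by
  rw [map_sub, map_mul, phi_X0, zero_mul, zero_sub, neg_eq_zero]
  simp only [phi, eval₂Hom_C, RingHom.comp_apply, Polynomial.C_eq_zero, Int.coe_castRingHom]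
  rw [← map_intCast (Ideal.Quotient.mk (Ideal.span {q})), Ideal.Quotient.eq_zero_iff_mem, Int.cast_id]
  exact Ideal.mem_span_singleton_self q

lemma psi_aeval (Q : Polynomial ℤ) : psi q (Polynomial.aeval (X 0) Q) = Q.toLaurent := by
  induction Q using Polynomial.induction_on' with
  | add a b ha hb => rw [map_add, map_add, ha, hb, map_add]
  | monomial n a =>
    rw [Polynomial.aeval_monomial, map_mul, map_pow, psi_X0, Polynomial.toLaurent_C_mul_T, LaurentPolynomial.T_pow, mul_one]
    simp [psi]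

lemma psi_of_mem {x : MvPolynomial (Fin 2) ℤ} (hx : x ∈ Ideal.span {X 0 * X 1 - C q}) : psi q x = 0 := by
  obtain ⟨d, rfl⟩ := Ideal.mem_span_singleton'.mp hx
  rw [map_mul, psi_rel, mul_zero]

lemma coeff_C_mul_T' (a : ℤ) (n z : ℤ) :
    (LaurentPolynomial.C a * LaurentPolynomial.T n).coeff z = if n = z then a else 0 := by
  rw [← LaurentPolynomial.single_eq_C_mul_T, AddMonoidAlgebra.coeff_single, Finsupp.single_apply]

lemma coeff_T_mul (n z : ℤ) (F : LaurentPolynomial ℤ) :
    (LaurentPolynomial.T n * F).coeff z = F.coeff (z - n) := by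
  induction F using LaurentPolynomial.induction_on' with
  | add a b ha hb => rw [mul_add, AddMonoidAlgebra.coeff_add, Finsupp.add_apply, ha, hb, AddMonoidAlgebra.coeff_add, Finsupp.add_apply]
  | C_mul_T m a =>
    rw [mul_left_comm, ← LaurentPolynomial.T_add, coeff_C_mul_T', coeff_C_mul_T']
    exact if_congr (by omega) rfl rfl

lemma coeff_toLaurent' (Q : Polynomial ℤ) (z : ℤ) :
    Q.toLaurent.coeff z = if 0 ≤ z then Q.coeff z.toNat else 0 := by
  induction Q using Polynomial.induction_on' with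
  | add a b ha hb =>
    rw [map_add, AddMonoidAlgebra.coeff_add, Finsupp.add_apply, ha, hb, Polynomial.coeff_add]
    split_ifs <;> simp
  | monomial n a =>
    rw [Polynomial.toLaurent_C_mul_T, coeff_C_mul_T', Polynomial.coeff_monomial]
    split_ifs <;> omega

lemma phi_C (a : ℤ) : phi q (C a) = Polynomial.C (a : ℤ ⧸ Ideal.span {q}) := by simp [phi]

lemma coeff_psi (f : MvPolynomial (Fin 2) ℤ) (m : ℕ) :
    ∃ c : ℤ, (psi q f).coeff (-(m : ℤ)) = q ^ m * c ∧ (c : ℤ ⧸ Ideal.span {q}) = (phi q f).coeff m := by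
  induction f using MvPolynomial.induction_on' with
  | add a b ha hb =>
    obtain ⟨c, hc, hc'⟩ := ha
    obtain ⟨d, hd, hd'⟩ := hb
    exact ⟨c + d, by rw [map_add, AddMonoidAlgebra.coeff_add, Finsupp.add_apply, hc, hd, mul_add],
      by rw [map_add, Polynomial.coeff_add, Int.cast_add, hc', hd']⟩
  | monomial d a =>
    have hd : monomial d a = C a * X 0 ^ d 0 * X 1 ^ d 1 := by
      rw [monomial_eq, Finsupp.prod_fintype _ _ (fun i => pow_zero _), Fin.prod_univ_two, mul_assoc]
    have hψ : psi q (monomial d a) = LaurentPolynomial.C (a * q ^ d 1) * LaurentPolynomial.T ((d 0 : ℤ) - d 1) := by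
      rw [hd]
      simp only [psi, map_mul, map_pow, eval₂Hom_C, eval₂Hom_X', Matrix.cons_val_zero, Matrix.cons_val_one,
        mul_pow, LaurentPolynomial.T_pow, sub_eq_add_neg, LaurentPolynomial.T_add, mul_one]
      rw [show (d 1 : ℤ) * -1 = -(d 1 : ℤ) by ring]
      ring
    have hφ : phi q (monomial d a) = Polynomial.C (a : ℤ ⧸ Ideal.span {q}) * 0 ^ d 0 * Polynomial.X ^ d 1 := by
      rw [hd]; simp only [phi, map_mul, map_pow, eval₂Hom_C, eval₂Hom_X', RingHom.comp_apply, Int.coe_castRingHom, Matrix.cons_val_zero, Matrix.cons_val_one]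
    rw [hψ, hφ, coeff_C_mul_T']
    have hqz : ((q : ℤ) : ℤ ⧸ Ideal.span {q}) = 0 := by
      rw [← map_intCast (Ideal.Quotient.mk (Ideal.span {q})), Ideal.Quotient.eq_zero_iff_mem, Int.cast_id]
      exact Ideal.mem_span_singleton_self q
    by_cases h : (d 0 : ℤ) - d 1 = -(m : ℤ)
    · rw [if_pos h]
      have hm : d 1 = m + d 0 := by omega
      refine ⟨a * q ^ d 0, by rw [hm, pow_add]; ring, ?_⟩
      rw [Polynomial.coeff_mul_X_pow']
      rcases Nat.eq_zero_or_pos (d 0) with h0 | h0
      · have : d 1 = m := by omega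
        subst this
        simp [h0]
      · simp [zero_pow h0.ne', hqz]
    · rw [if_neg h]
      refine ⟨0, by rw [mul_zero], ?_⟩
      rcases Nat.eq_zero_or_pos (d 0) with h0 | h0
      · rw [h0, pow_zero, mul_one, Polynomial.coeff_C_mul_X_pow, if_neg (by omega), Int.cast_zero]
      · simp [zero_pow h0.ne']

lemma phi_ker (g : MvPolynomial (Fin 2) ℤ) (hg : phi q g = 0) :
    ∃ g1 g2, g = X 0 * g1 + g2 * (X 0 * X 1 - C q) := by
  let ν : MvPolynomial (Fin 2) ℤ →+* Polynomial ℤ := MvPolynomial.eval₂Hom Polynomial.C ![0, Polynomial.X]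
  have h1 : ∀ f, ∃ r, f = Polynomial.aeval (X 1) (ν f) + X 0 * r := by
    intro f
    induction f using MvPolynomial.induction_on with
    | C a => exact ⟨0, by simp [ν]⟩
    | add a b ha hb =>
      obtain ⟨r, hr⟩ := ha
      obtain ⟨s, hs⟩ := hb
      exact ⟨r + s, by rw [map_add, map_add]; linear_combination hr + hs⟩
    | mul_X a i ha =>
      obtain ⟨r, hr⟩ := ha
      fin_cases i
      · exact ⟨a, by simp [ν]; ring⟩
      · exact ⟨r * X 1, by simp only [ν, coe_eval₂Hom] at hr ⊢; simp; linear_combination X 1 * hr⟩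
  have h2 : (ν g).map (Int.castRingHom (ℤ ⧸ Ideal.span {q})) = phi q g := by
    rw [← Polynomial.coe_mapRingHom, ← RingHom.comp_apply]
    refine RingHom.congr_fun (MvPolynomial.ringHom_ext (fun a => ?_) (fun i => ?_)) g
    · simp [ν, phi]
    · fin_cases i <;> simp [ν, phi]
  have h3 : Polynomial.C q ∣ ν g := by
    rw [Polynomial.C_dvd_iff_dvd_coeff]
    intro i
    have := congrArg (fun P : Polynomial (ℤ ⧸ Ideal.span {q}) => P.coeff i) (h2.trans hg)
    simp only [Polynomial.coeff_map, Polynomial.coeff_zero, eq_intCast] at this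
    rw [← map_intCast (Ideal.Quotient.mk (Ideal.span {q})), Ideal.Quotient.eq_zero_iff_mem, Int.cast_id,
      Ideal.mem_span_singleton] at this
    exact this
  obtain ⟨r, hr⟩ := h1 g
  obtain ⟨t, ht⟩ := h3
  rw [ht, map_mul, Polynomial.aeval_C, algebraMap_eq] at hr
  exact ⟨r + X 1 * Polynomial.aeval (X 1) t, -Polynomial.aeval (X 1) t, by linear_combination hr⟩

lemma X0_cancel (hq0 : q ≠ 0) : ∀ (N : ℕ) (f : MvPolynomial (Fin 2) ℤ),
    X 0 ^ N * f ∈ Ideal.span {X 0 * X 1 - C q} → f ∈ Ideal.span {X 0 * X 1 - C q} := by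
  intro N
  induction N with
  | zero => simp
  | succ N ih =>
    intro f hf
    rw [pow_succ, mul_assoc] at hf
    obtain ⟨g, hg⟩ := Ideal.mem_span_singleton'.mp (ih _ hf)
    have hd : (X 0 : MvPolynomial (Fin 2) ℤ) ∣ C q * g := ⟨g * X 1 - f, by linear_combination -hg⟩
    rcases (MvPolynomial.X_prime).dvd_mul.mp hd with h | h
    · exfalso
      obtain ⟨c, hc⟩ := h
      have := congrArg (MvPolynomial.eval (0 : Fin 2 → ℤ)) hc
      simp at this
      exact hq0 this
    · obtain ⟨g', rfl⟩ := h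
      exact Ideal.mem_span_singleton'.mpr ⟨g', mul_left_cancel₀ (MvPolynomial.X_ne_zero 0) (by linear_combination hg)⟩

lemma exists_normal (f : MvPolynomial (Fin 2) ℤ) :
    ∃ (N : ℕ) (F : Polynomial ℤ), X 0 ^ N * f - Polynomial.aeval (X 0) F ∈ Ideal.span {X 0 * X 1 - C q} := by
  induction f using MvPolynomial.induction_on with
  | C a => exact ⟨0, Polynomial.C a, by simp⟩
  | add a b ha hb =>
    obtain ⟨N, F, hF⟩ := ha
    obtain ⟨M, G, hG⟩ := hb
    refine ⟨N + M, Polynomial.X ^ M * F + Polynomial.X ^ N * G, ?_⟩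
    convert Ideal.add_mem _ (Ideal.mul_mem_left _ (X 0 ^ M) hF) (Ideal.mul_mem_left _ (X 0 ^ N) hG) using 1
    simp only [map_add, map_mul, map_pow, Polynomial.aeval_X]
    ring
  | mul_X a i ha =>
    obtain ⟨N, F, hF⟩ := ha
    fin_cases i
    · refine ⟨N, Polynomial.X * F, ?_⟩
      convert Ideal.mul_mem_left _ (X 0) hF using 1
      simp only [map_mul, Polynomial.aeval_X, Fin.mk_zero, Fin.isValue, Fin.zero_eta]
      ring
    · refine ⟨N + 1, Polynomial.C q * F, ?_⟩
      convert Ideal.add_mem _ (Ideal.mul_mem_left _ (X 0 * X 1) hF)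
        (Ideal.mul_mem_right (Polynomial.aeval (X 0) F) _ (Ideal.mem_span_singleton_self (X 0 * X 1 - C q))) using 1
      simp only [map_mul, Polynomial.aeval_C, algebraMap_eq, Fin.mk_one, Fin.isValue]
      ring

lemma psi_ker (hq0 : q ≠ 0) (x : MvPolynomial (Fin 2) ℤ) (hx : psi q x = 0) :
    x ∈ Ideal.span {X 0 * X 1 - C q} := by
  obtain ⟨N, F, hF⟩ := exists_normal q x
  have h1 := psi_of_mem q hF
  rw [map_sub, map_mul, hx, mul_zero, zero_sub, neg_eq_zero, psi_aeval, Polynomial.toLaurent_eq_zero] at h1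
  rw [h1, map_zero, sub_zero] at hF
  exact X0_cancel q hq0 N x hF


/-- Let p be a prime, e ≥ 1 and q = p^e. Let (π_i) be a finite family of pairwise nonconjugate Weil
q-numbers: π_i is an element of a field K_i of characteristic zero, integral over ℤ with minimal
polynomial P_i, every complex root of P_i has absolute value √q, and P_i ≠ P_j for i ≠ j. Suppose
the total degree Σ_i deg P_i is even, equal to 2D (equivalently, the family contains either none or
both of the rational Weil q-numbers ±q^{1/2}). Put P_w = ∏_i P_i and let h ∈ ℤ[F, V] (F = X_0, V =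
X_1) be any polynomial with F^D · h ≡ P_w(F) modulo FV − q; such an h exists, is unique modulo FV −
q, and the product of the symmetric polynomials h_{π_i} is one. Then the kernel of the ring map ℤ[F,
V] → ∏_i K_i, F ↦ (π_i), V ↦ (q/π_i), whose image is the minimal central order R_w, is the ideal
generated by FV − q and h, and (FV − q, h) is a regular sequence in ℤ[F, V]: R_w is the complete
intersection ℤ[F, V]/(FV − q, h). -/
theorem result (p e : ℕ) [Fact p.Prime] (he : 0 < e)
    (ι : Type) [Fintype ι] (K : ι → Type u) [∀ i, Field (K i)] [∀ i, CharZero (K i)] (π : ∀ i, K i)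
    (hint : ∀ i, IsIntegral ℤ (π i))
    (hweil : ∀ i, ∀ z ∈ (minpoly ℤ (π i)).aroots ℂ, ‖z‖ = Real.sqrt ((p : ℝ) ^ e))
    (hinj : ∀ i j, minpoly ℤ (π i) = minpoly ℤ (π j) → i = j)
    (D : ℕ) (hD : ∑ i, (minpoly ℤ (π i)).natDegree = 2 * D)
    (h : MvPolynomial (Fin 2) ℤ)
    (hh : X 0 ^ D * h - Polynomial.aeval (X 0 : MvPolynomial (Fin 2) ℤ) (∏ i, minpoly ℤ (π i)) ∈
      Ideal.span ({X 0 * X 1 - C ((p : ℤ) ^ e)} : Set (MvPolynomial (Fin 2) ℤ))) :
    RingHom.ker (MvPolynomial.aeval ![fun i => π i, fun i => ((p : K i) ^ e) / π i] :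
        MvPolynomial (Fin 2) ℤ →ₐ[ℤ] ((i : ι) → K i)) =
        Ideal.span {X 0 * X 1 - C ((p : ℤ) ^ e), h} ∧
      RingTheory.Sequence.IsWeaklyRegular (MvPolynomial (Fin 2) ℤ) [X 0 * X 1 - C ((p : ℤ) ^ e), h] := by
  classical
  set q : ℤ := (p : ℤ) ^ e with hq
  have hp : p.Prime := Fact.out
  have hq0 : q ≠ 0 := pow_ne_zero _ (Int.natCast_ne_zero.mpr hp.ne_zero)
  have hqu : ¬ IsUnit q := by
    rw [hq, isUnit_pow_iff (by omega), Int.isUnit_iff]
    have := hp.two_le
    omega
  set rel : MvPolynomial (Fin 2) ℤ := X 0 * X 1 - C q with hrel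
  set P : Polynomial ℤ := ∏ i, minpoly ℤ (π i) with hP
  have hPm : P.Monic := Polynomial.monic_prod_of_monic _ _ fun i _ => minpoly.monic (hint i)
  have hPdeg : P.natDegree = 2 * D := by
    rw [hP, Polynomial.natDegree_prod_of_monic _ _ fun i _ => minpoly.monic (hint i), hD]
  have hψh : psi q h = LaurentPolynomial.T (-(D : ℤ)) * P.toLaurent := by
    have h1 := psi_of_mem q hh
    rw [map_sub, map_mul, map_pow, psi_X0, psi_aeval, sub_eq_zero, LaurentPolynomial.T_pow, mul_one] at h1
    rw [← h1, ← mul_assoc, ← LaurentPolynomial.T_add, neg_add_cancel, LaurentPolynomial.T_zero, one_mul]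
  have hψh0 : psi q h ≠ 0 := by
    rw [hψh, mul_ne_zero_iff]
    refine ⟨?_, Polynomial.toLaurent_ne_zero.mpr hPm.ne_zero⟩
    exact (LaurentPolynomial.isUnit_T _).ne_zero
  -- the constant term of `P`
  have hP0 : P.coeff 0 = q ^ D ∨ P.coeff 0 = -q ^ D := by
    rw [← abs_eq (pow_nonneg (by positivity) D)]
    have hC : ‖((P.coeff 0 : ℤ) : ℂ)‖ = Real.sqrt ((p : ℝ) ^ e) ^ (2 * D) := by
      have hs : (P.map (algebraMap ℤ ℂ)).Splits := IsAlgClosed.splits _
      have h1 := hs.coeff_zero_eq_prod_roots_of_monic (hPm.map _)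
      have h2 : Multiset.card (P.map (algebraMap ℤ ℂ)).roots = 2 * D := by
        rw [← hs.natDegree_eq_card_roots, hPm.natDegree_map, hPdeg]
      rw [Polynomial.coeff_map, algebraMap_int_eq, eq_intCast] at h1
      rw [algebraMap_int_eq] at h2 hs
      rw [h1, norm_mul, norm_pow, norm_neg, norm_one, one_pow, one_mul,
        show ‖((P.map (Int.castRingHom ℂ)).roots).prod‖ = (((P.map (Int.castRingHom ℂ)).roots).map (fun z => ‖z‖)).prod from
          map_multiset_prod (normHom (α := ℂ)) _]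
      rw [Multiset.map_congr rfl (g := fun _ => Real.sqrt ((p : ℝ) ^ e)) ?_, Multiset.map_const', Multiset.prod_replicate, h2]
      intro z hz
      rw [hP, Polynomial.map_prod, Polynomial.roots_prod] at hz
      · obtain ⟨i, -, hi⟩ := Multiset.mem_bind.mp hz
        exact hweil i z (by rw [Polynomial.aroots_def, algebraMap_int_eq]; exact hi)
      · exact Finset.prod_ne_zero_iff.mpr fun i _ => ((minpoly.monic (hint i)).map _).ne_zero
    rw [pow_mul, Real.sq_sqrt (by positivity), Complex.norm_intCast] at hC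
    rw [hq]
    exact_mod_cast hC
  -- `h` modulo `(X, q)` is monic up to a sign
  have hφh : ∃ s : ℤ, IsUnit s ∧ (phi q h).coeff D = (s : ℤ ⧸ Ideal.span {q}) ∧ (phi q h).natDegree ≤ D := by
    have hc : ∀ m : ℕ, ∃ c : ℤ, (if m ≤ D then P.coeff (D - m) else 0) = q ^ m * c ∧
        (c : ℤ ⧸ Ideal.span {q}) = (phi q h).coeff m := by
      intro m
      obtain ⟨c, hc1, hc2⟩ := coeff_psi q h m
      refine ⟨c, ?_, hc2⟩
      rw [← hc1, hψh, coeff_T_mul, coeff_toLaurent']
      split_ifs with h1 h2 h2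
      · congr; omega
      · omega
      · omega
      · rfl
    obtain ⟨s, hs, hs'⟩ := hc D
    rw [if_pos le_rfl, Nat.sub_self] at hs
    refine ⟨s, ?_, hs'.symm, ?_⟩
    · rw [Int.isUnit_iff]
      rcases hP0 with h0 | h0
      · left; exact mul_left_cancel₀ (pow_ne_zero D hq0) (by rw [← hs, h0, mul_one])
      · right; exact mul_left_cancel₀ (pow_ne_zero D hq0) (by rw [← hs, h0, mul_neg, mul_one])
    · rw [Polynomial.natDegree_le_iff_coeff_eq_zero]
      intro m hm
      obtain ⟨c, hc1, hc2⟩ := hc m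
      rw [if_neg (by omega), eq_comm, mul_eq_zero] at hc1
      rw [← hc2, hc1.resolve_left (pow_ne_zero _ hq0), Int.cast_zero]
  have hreg : ∀ g : Polynomial (ℤ ⧸ Ideal.span {q}), g * phi q h = 0 → g = 0 := by
    obtain ⟨s, hs, hsc, hsd⟩ := hφh
    intro g hg
    have hu : IsUnit (s : ℤ ⧸ Ideal.span {q}) := hs.map (Int.castRingHom _)
    have hmon : (Polynomial.C (↑hu.unit⁻¹ : ℤ ⧸ Ideal.span {q}) * phi q h).Monic := by
      refine Polynomial.monic_of_natDegree_le_of_coeff_eq_one D ((Polynomial.natDegree_C_mul_le _ _).trans hsd) ?_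
      rw [Polynomial.coeff_C_mul, hsc]
      exact hu.val_inv_mul
    exact hmon.isRegular.right (show g * _ = 0 * _ by rw [zero_mul, ← mul_assoc, mul_comm g, mul_assoc, hg, mul_zero])
  set J : Ideal (MvPolynomial (Fin 2) ℤ) := Ideal.span {rel, h} with hJ
  have hJX : ∀ f, X 0 * f ∈ J → f ∈ J := by
    intro f hf
    obtain ⟨a, g, hag⟩ := Ideal.mem_span_pair.mp hf
    have h1 := congrArg (phi q) hag
    rw [map_add, map_mul, map_mul, map_mul, hrel, phi_rel, mul_zero, zero_add, phi_X0, zero_mul] at h1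
    obtain ⟨g1, g2, hg⟩ := phi_ker q g (hreg _ h1)
    have h2 : X 0 * (f - g1 * h) ∈ Ideal.span {rel} :=
      Ideal.mem_span_singleton'.mpr ⟨a + g2 * h, by rw [hrel] at hag ⊢; rw [hg] at hag; linear_combination hag⟩
    obtain ⟨d, hd⟩ := Ideal.mem_span_singleton'.mp (X0_cancel q hq0 1 _ (by rw [pow_one]; exact h2))
    exact Ideal.mem_span_pair.mpr ⟨d, g1, by linear_combination hd⟩
  have hJXN : ∀ N f, X 0 ^ N * f ∈ J → f ∈ J := by
    intro N
    induction N with
    | zero => simp
    | succ N ih => intro f hf; rw [pow_succ, mul_assoc] at hf; exact hJX _ (ih _ hf)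
  have hπ0 : ∀ i, π i ≠ 0 := by
    intro i hi
    have h0 : (minpoly ℤ (π i)).coeff 0 = 0 := by
      have h1 := minpoly.aeval ℤ (π i)
      rw [hi] at h1 ⊢
      rw [← Polynomial.coeff_zero_eq_aeval_zero', algebraMap_int_eq, eq_intCast, Int.cast_eq_zero] at h1
      exact h1
    have := hweil i 0 (Polynomial.mem_aroots.mpr ⟨(minpoly.monic (hint i)).ne_zero, by
      rw [← Polynomial.coeff_zero_eq_aeval_zero', h0, map_zero]⟩)
    rw [norm_zero, eq_comm, Real.sqrt_eq_zero (by positivity)] at this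
    exact absurd this (pow_ne_zero _ (Nat.cast_ne_zero.mpr hp.ne_zero))
  set ev : MvPolynomial (Fin 2) ℤ →ₐ[ℤ] ((i : ι) → K i) :=
    MvPolynomial.aeval ![fun i => π i, fun i => ((p : K i) ^ e) / π i] with hev
  have hevX : ∀ i, ev (X 0) i = π i := fun i => by simp [hev]
  have hevrel : ev rel = 0 := by
    funext i
    simp [hev, hrel, hq, mul_div_cancel₀ _ (hπ0 i)]
  have hevaeval : ∀ (Q : Polynomial ℤ) i, ev (Polynomial.aeval (X 0) Q) i = Polynomial.aeval (π i) Q := by
    intro Q i
    rw [← Polynomial.aeval_algHom_apply, Polynomial.aeval_pi_apply]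
    simp only [hevX]
  refine ⟨le_antisymm (fun f hf => ?_) ?_, ?_⟩
  · obtain ⟨N, F, hF⟩ := exists_normal q f
    have hFP : P ∣ F := by
      refine Finset.prod_dvd_of_isRelPrime (fun i _ j _ hij => ?_) (fun i _ => ?_)
      · refine ((minpoly.prime_of_isIntegrallyClosed (hint i)).irreducible.isRelPrime_iff_not_dvd).mpr fun hd => hij (hinj i j ?_)
        exact Polynomial.eq_of_monic_of_associated (minpoly.monic (hint i)) (minpoly.monic (hint j))
          ((minpoly.prime_of_isIntegrallyClosed (hint i)).associated_of_dvd (minpoly.prime_of_isIntegrallyClosed (hint j)) hd)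
      · obtain ⟨d, hd⟩ := Ideal.mem_span_singleton'.mp hF
        refine minpoly.isIntegrallyClosed_dvd (hint i) ?_
        rw [← hrel] at hd
        have := congrArg (fun x => ev x i) hd
        simp only [map_mul, map_sub, hevrel, mul_zero, RingHom.mem_ker.mp hf, zero_sub, Pi.zero_apply, Pi.neg_apply, hevaeval] at this
        exact neg_eq_zero.mp this.symm
    obtain ⟨G, rfl⟩ := hFP
    refine hJXN N f ?_
    obtain ⟨a, ha⟩ := Ideal.mem_span_singleton'.mp hF
    obtain ⟨b, hb⟩ := Ideal.mem_span_singleton'.mp hh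
    rw [map_mul] at ha
    exact Ideal.mem_span_pair.mpr ⟨a - b * Polynomial.aeval (X 0) G, X 0 ^ D * Polynomial.aeval (X 0) G, by
      rw [hrel] at hb ⊢; linear_combination ha - Polynomial.aeval (X 0) G * hb⟩
  · rw [Ideal.span_le]
    rintro x (rfl | rfl)
    · exact hevrel
    · obtain ⟨b, hb⟩ := Ideal.mem_span_singleton'.mp hh
      rw [SetLike.mem_coe, RingHom.mem_ker]
      funext i
      have := congrArg (fun x => ev x i) hb
      simp only [map_mul, map_pow, map_sub] at this
      have hPi : Polynomial.aeval (π i) P = 0 := by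
        rw [hP, map_prod]
        exact Finset.prod_eq_zero (Finset.mem_univ i) (minpoly.aeval ℤ (π i))
      simp only [hevrel, mul_zero, Pi.sub_apply, Pi.mul_apply, Pi.pow_apply, Pi.zero_apply, hevX, hevaeval, hPi, sub_zero] at this
      exact (mul_eq_zero.mp this.symm).resolve_left (pow_ne_zero _ (hπ0 i))
  · have hrel0 : rel ≠ 0 := fun h0 => by
      have := congrArg (MvPolynomial.eval (0 : Fin 2 → ℤ)) h0
      simp [hrel] at this
      exact hq0 this
    refine (RingTheory.Sequence.isWeaklyRegular_cons_iff _ _ _).mpr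
      ⟨(isSMulRegular_iff_right_eq_zero_of_smul).mpr fun x hx => (mul_eq_zero.mp hx).resolve_left hrel0, ?_⟩
    refine (RingTheory.Sequence.isWeaklyRegular_cons_iff _ _ _).mpr
      ⟨(isSMulRegular_iff_right_eq_zero_of_smul).mpr fun x hx => ?_, RingTheory.Sequence.IsWeaklyRegular.nil _ _⟩
    obtain ⟨x, rfl⟩ := Submodule.Quotient.mk_surjective _ x
    rw [← Submodule.Quotient.mk_smul, Submodule.Quotient.mk_eq_zero, Submodule.mem_smul_pointwise_iff_exists] at hx
    obtain ⟨d, -, hd⟩ := hx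
    have hψx : psi q x = 0 := by
      have := congrArg (psi q) hd
      rw [smul_eq_mul, smul_eq_mul, map_mul, map_mul, hrel, psi_rel, zero_mul] at this
      exact (mul_eq_zero.mp this.symm).resolve_left hψh0
    obtain ⟨d, hd⟩ := Ideal.mem_span_singleton'.mp (psi_ker q hq0 x hψx)
    rw [Submodule.Quotient.mk_eq_zero, Submodule.mem_smul_pointwise_iff_exists]
    exact ⟨d, Submodule.mem_top, by rw [smul_eq_mul, hrel, mul_comm]; exact hd⟩

end Groth.Agent.S17984
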