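import Groth.Statements.S17985
import Groth.Agent.S17984
import Groth.Agent.Lib.WeilOrder99
-- import your own Groth.Agent.* helpers here

set_option autoImplicit false
universe u
open MvPolynomial
open WeilNum

open scoped Pointwise

namespace Groth.Agent.S17985

/-- Let p be a prime, e ≥ 1 and q = p^e. Let (π_i) be a nonempty finite family of pairwise nonconjugate
Weil q-numbers: π_i is an element of a field K_i of characteristic zero, integral over ℤ with
minimal polynomial P_i, every complex root of P_i has absolute value √q, and P_i ≠ P_j for i ≠ j.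
Suppose the total degree Σ_i deg P_i is even, equal to 2D. Let R_w be the minimal central order, the
image of ℤ[F, V] → ∏_i K_i, F ↦ (π_i), V ↦ (q/π_i). Then R_w is free of rank 2D as a ℤ-module, has
Krull dimension 1, and is a Gorenstein ring (Noetherian, with all localizations at primes of finite
injective dimension over themselves). -/
theorem result (p e : ℕ) [Fact p.Prime] (he : 0 < e)
    (ι : Type) [Fintype ι] (K : ι → Type u) [∀ i, Field (K i)] [∀ i, CharZero (K i)] (π : ∀ i, K i)
    (hint : ∀ i, IsIntegral ℤ (π i))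
    (hweil : ∀ i, ∀ z ∈ (minpoly ℤ (π i)).aroots ℂ, ‖z‖ = Real.sqrt ((p : ℝ) ^ e))
    (hinj : ∀ i j, minpoly ℤ (π i) = minpoly ℤ (π j) → i = j)
    [Nonempty ι] (D : ℕ) (hD : ∑ i, (minpoly ℤ (π i)).natDegree = 2 * D) :
    Module.Free ℤ (MvPolynomial.aeval ![fun i => π i, fun i => ((p : K i) ^ e) / π i] :
        MvPolynomial (Fin 2) ℤ →ₐ[ℤ] ((i : ι) → K i)).range ∧
      Module.finrank ℤ (MvPolynomial.aeval ![fun i => π i, fun i => ((p : K i) ^ e) / π i] :
        MvPolynomial (Fin 2) ℤ →ₐ[ℤ] ((i : ι) → K i)).range = 2 * D ∧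
      ringKrullDim (MvPolynomial.aeval ![fun i => π i, fun i => ((p : K i) ^ e) / π i] :
        MvPolynomial (Fin 2) ℤ →ₐ[ℤ] ((i : ι) → K i)).range = 1 ∧
      LocCoh.IsGorensteinRing (MvPolynomial.aeval ![fun i => π i, fun i => ((p : K i) ^ e) / π i] :
        MvPolynomial (Fin 2) ℤ →ₐ[ℤ] ((i : ι) → K i)).range := by
  classical
  obtain ⟨s, hs, hs0, -⟩ := Groth.Agent.WeilOrder99.coeff_symm π hint (p ^ e)
    (pow_ne_zero _ (Fact.out : p.Prime).ne_zero)
    (fun i z hz => by rw [hweil i z hz]; push_cast; rfl) D hD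
  obtain ⟨h, hh⟩ := Groth.Agent.WeilOrder99.exists_h p e π hint hweil D hD
  obtain ⟨hker, hreg⟩ := Groth.Agent.S17984.result p e he ι K π hint hweil hinj D hD h hh
  set ev := (MvPolynomial.aeval ![fun i => π i, fun i => ((p : K i) ^ e) / π i] :
        MvPolynomial (Fin 2) ℤ →ₐ[ℤ] ((i : ι) → K i)) with hev
  set P := ∏ i, minpoly ℤ (π i) with hPdef
  have hPm : P.Monic := Polynomial.monic_prod_of_monic _ _ fun i _ => minpoly.monic (hint i)
  have hPdeg : P.natDegree = 2 * D := by
    rw [hPdef, Polynomial.natDegree_prod_of_monic _ _ fun i _ => minpoly.monic (hint i), hD]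
  have hq0 : ((p : ℤ) ^ e) ≠ 0 :=
    pow_ne_zero _ (Int.natCast_ne_zero.mpr (Fact.out : p.Prime).ne_zero)
  have hdiv : ∀ i, IsIntegral ℤ (((p : K i) ^ e) / π i) := by
    intro i
    have h := Groth.Agent.PicSurj99.isIntegral_div (π i) (hint i) (p ^ e)
      (pow_ne_zero _ (Fact.out : p.Prime).ne_zero)
      (fun z hz => by rw [hweil i z hz]; push_cast; rfl)
    simpa using h
  have hinj' : Function.Injective (algebraMap ℤ ((i : ι) → K i)) := by
    intro a b hab
    obtain ⟨i⟩ := (inferInstance : Nonempty ι)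
    have := congrFun hab i
    simpa using this
  let F : ev.range := ⟨ev (X 0), AlgHom.mem_range_self _ _⟩
  let V : ev.range := ⟨ev (X 1), AlgHom.mem_range_self _ _⟩
  have hπ0 : ∀ i, π i ≠ 0 := by
    intro i h0
    have h1 := minpoly.aeval ℤ (π i)
    rw [h0] at h1
    have := hweil i 0 (Polynomial.mem_aroots.mpr ⟨(minpoly.monic (hint i)).ne_zero, by
      rw [← Polynomial.coeff_zero_eq_aeval_zero'] at h1 ⊢
      simp only [algebraMap_int_eq, eq_intCast, Int.cast_eq_zero] at h1
      simp [h0, h1]⟩)
    rw [norm_zero] at this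
    exact absurd this.symm (Real.sqrt_ne_zero'.mpr
      (pow_pos (Nat.cast_pos.mpr (Fact.out : p.Prime).pos) e))
  have hFV : F * V = algebraMap ℤ ev.range ((p : ℤ) ^ e) := by
    refine Subtype.ext (funext fun i => ?_)
    simp [F, V, hev, mul_div_cancel₀ _ (hπ0 i)]
  have hcoe : ∀ (G : Polynomial ℤ) i, (Polynomial.aeval F G : ev.range).1 i = Polynomial.aeval (π i) G := by
    intro G i
    change Pi.evalAlgHom ℤ _ i (ev.range.val (Polynomial.aeval F G)) = _
    rw [← Polynomial.aeval_algHom_apply, ← Polynomial.aeval_algHom_apply]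
    simp [F, hev]
  have hPF : Polynomial.aeval F P = 0 := by
    refine Subtype.ext (funext fun i => ?_)
    rw [hcoe, hPdef, map_prod]
    exact Finset.prod_eq_zero (Finset.mem_univ i) (minpoly.aeval ℤ (π i))
  have hdvd : ∀ G, Polynomial.aeval F G = 0 → P ∣ G := by
    intro G hG
    refine Finset.prod_dvd_of_isRelPrime (fun i _ j _ hij => ?_) (fun i _ => ?_)
    · refine ((minpoly.prime_of_isIntegrallyClosed (hint i)).irreducible.isRelPrime_iff_not_dvd).mpr
        fun hd => hij (hinj i j ?_)
      exact Polynomial.eq_of_monic_of_associated (minpoly.monic (hint i)) (minpoly.monic (hint j))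
        ((minpoly.prime_of_isIntegrallyClosed (hint i)).associated_of_dvd
          (minpoly.prime_of_isIntegrallyClosed (hint j)) hd)
    · exact minpoly.isIntegrallyClosed_dvd (hint i) (by rw [← hcoe, hG]; rfl)
  haveI : Algebra.IsIntegral ℤ ev.range := by
    refine ⟨fun x => ?_⟩
    obtain ⟨_, t, rfl⟩ := x
    rw [← isIntegral_algHom_iff ev.range.val Subtype.val_injective]
    show IsIntegral ℤ (ev t)
    induction t using MvPolynomial.induction_on with
    | C z =>
      rw [show ev (MvPolynomial.C z) = algebraMap ℤ _ z from ev.commutes z]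
      exact isIntegral_algebraMap
    | add a b ha hb => rw [map_add]; exact ha.add hb
    | mul_X a j ha =>
      rw [map_mul]
      refine ha.mul ?_
      refine ⟨∏ i, minpoly ℤ (ev (X j) i), Polynomial.monic_prod_of_monic _ _ fun i _ => ?_,
        funext fun i => ?_⟩
      · refine minpoly.monic ?_
        fin_cases j
        · simpa [hev] using hint i
        · simpa [hev] using hdiv i
      · rw [← Polynomial.aeval_def, Pi.zero_apply]
        change Pi.evalAlgHom ℤ _ i (Polynomial.aeval (ev (X j)) _) = 0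
        rw [← Polynomial.aeval_algHom_apply, map_prod]
        exact Finset.prod_eq_zero (Finset.mem_univ i) (minpoly.aeval ℤ _)
  haveI : Algebra.FiniteType ℤ ev.range :=
    Algebra.FiniteType.of_surjective ev.rangeRestrict ev.rangeRestrict_surjective
  haveI : Module.Finite ℤ ev.range := Algebra.IsIntegral.finite
  haveI : Module.IsTorsionFree ℤ ev.range :=
    Function.Injective.moduleIsTorsionFree ev.range.val Subtype.val_injective (fun _ _ => map_zsmul _ _ _)
  haveI hfree : Module.Free ℤ ev.range := inferInstance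
  refine ⟨hfree, ?_, ?_, ?_⟩
  · let lam : (Fin (2 * D) → ℤ) →ₗ[ℤ] ev.range :=
      Fintype.linearCombination ℤ fun k : Fin (2 * D) => F ^ (k : ℕ)
    have hlam : ∀ c, lam c = Polynomial.aeval F
        (∑ k : Fin (2 * D), Polynomial.C (c k) * Polynomial.X ^ (k : ℕ)) := by
      intro c
      simp [lam, Fintype.linearCombination_apply, map_sum, Algebra.smul_def]
    have hlinj : Function.Injective lam := by
      rw [← LinearMap.ker_eq_bot, LinearMap.ker_eq_bot']
      intro c hc
      rw [hlam] at hc
      have hz := Polynomial.eq_zero_of_dvd_of_degree_lt (hdvd _ hc)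
        (by rw [Polynomial.degree_eq_natDegree hPm.ne_zero, hPdeg]; exact Polynomial.degree_sum_fin_lt c)
      funext k
      have := congrArg (fun G => Polynomial.coeff G (k : ℕ)) hz
      simp only [Polynomial.finsetSum_coeff, Polynomial.coeff_C_mul_X_pow, Polynomial.coeff_zero] at this
      rw [Finset.sum_eq_single k (fun b _ hb => if_neg fun h => hb (Fin.ext h.symm)) (by simp)] at this
      simpa using this
    have hmem : ∀ G : Polynomial ℤ, Polynomial.aeval F G ∈ LinearMap.range lam := by
      intro G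
      by_cases hP1 : P = 1
      · have h1 : (1 : ev.range) = 0 := by
          rw [← map_one (Polynomial.aeval F : Polynomial ℤ →ₐ[ℤ] ev.range), ← hP1, hPF]
        rw [← mul_one (Polynomial.aeval F G), h1, mul_zero]
        exact zero_mem _
      rw [← Polynomial.modByMonic_add_div G P, map_add, map_mul, hPF, zero_mul, add_zero,
        Polynomial.aeval_eq_sum_range' (n := 2 * D)
          (hPdeg ▸ Polynomial.natDegree_modByMonic_lt _ hPm hP1)]
      refine Submodule.sum_mem _ fun k hk => Submodule.smul_mem _ _ ?_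
      exact ⟨Pi.single ⟨k, Finset.mem_range.mp hk⟩ 1, by simp [lam]⟩
    have hV : ∃ (a : ℤ) (G : Polynomial ℤ), a ≠ 0 ∧
        algebraMap ℤ ev.range a * V = Polynomial.aeval F G := by
      refine ⟨P.coeff 0, Polynomial.C (-((p : ℤ) ^ e)) * P.divX, ?_, ?_⟩
      · rw [hs0]
        push_cast
        exact mul_ne_zero hs.ne_zero (pow_ne_zero D hq0)
      have h1 : F * Polynomial.aeval F P.divX + algebraMap ℤ ev.range (P.coeff 0) = 0 := by
        have h2 := congrArg (Polynomial.aeval F : Polynomial ℤ →ₐ[ℤ] ev.range) P.X_mul_divX_add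
        rwa [map_add, map_mul, Polynomial.aeval_X, Polynomial.aeval_C, hPF] at h2
      rw [map_mul, Polynomial.aeval_C, map_neg, ← hFV]
      linear_combination V * h1
    obtain ⟨a, G₀, ha, hV⟩ := hV
    have hx : ∀ t, ∃ (N : ℕ) (G : Polynomial ℤ),
        algebraMap ℤ ev.range (a ^ N) * ⟨ev t, AlgHom.mem_range_self _ _⟩ = Polynomial.aeval F G := by
      intro t
      induction t using MvPolynomial.induction_on with
      | C z =>
        exact ⟨0, Polynomial.C z, by
          rw [pow_zero, map_one, one_mul, Polynomial.aeval_C]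
          exact Subtype.ext (ev.commutes z)⟩
      | add f g hf hg =>
        obtain ⟨N, G, hG⟩ := hf
        obtain ⟨N', G', hG'⟩ := hg
        refine ⟨N + N', Polynomial.C (a ^ N') * G + Polynomial.C (a ^ N) * G', ?_⟩
        rw [show (⟨ev (f + g), AlgHom.mem_range_self _ _⟩ : ev.range) =
            ⟨ev f, AlgHom.mem_range_self _ _⟩ + ⟨ev g, AlgHom.mem_range_self _ _⟩ from
            Subtype.ext (map_add ev f g),
          map_add, map_mul, map_mul, ← hG, ← hG', Polynomial.aeval_C, Polynomial.aeval_C, pow_add,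
          map_mul]
        ring
      | mul_X f j hf =>
        obtain ⟨N, G, hG⟩ := hf
        have e1 : (⟨ev (f * X j), AlgHom.mem_range_self _ _⟩ : ev.range) =
            ⟨ev f, AlgHom.mem_range_self _ _⟩ * ⟨ev (X j), AlgHom.mem_range_self _ _⟩ :=
          Subtype.ext (map_mul ev f (X j))
        fin_cases j
        · exact ⟨N, G * Polynomial.X, by
            rw [map_mul (Polynomial.aeval F), ← hG, Polynomial.aeval_X, e1, ← mul_assoc]
            rfl⟩
        · exact ⟨N + 1, G * G₀, by
            rw [map_mul (Polynomial.aeval F), ← hG, ← hV, e1, pow_succ, map_mul]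
            show _ * (_ * V) = _
            ring⟩
    obtain ⟨T, hT⟩ := Module.Finite.fg_top (R := ℤ) (M := ev.range)
    have hpre : ∀ x : ev.range, ∃ (N : ℕ), a ^ N • x ∈ LinearMap.range lam := by
      rintro ⟨_, t, rfl⟩
      obtain ⟨N, G, hG⟩ := hx t
      exact ⟨N, by rw [zsmul_eq_mul, ← eq_intCast (algebraMap ℤ ev.range)]; exact hG ▸ hmem G⟩
    choose N hN using hpre
    let μ : ev.range →ₗ[ℤ] ev.range := (a ^ (T.sup N)) • LinearMap.id
    have hμ : ∀ x, μ x ∈ LinearMap.range lam := by
      intro x
      have hle : (⊤ : Submodule ℤ ev.range) ≤ (LinearMap.range lam).comap μ := by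
        rw [← hT, Submodule.span_le]
        intro y hy
        show a ^ (T.sup N) • y ∈ LinearMap.range lam
        rw [← Nat.sub_add_cancel (Finset.le_sup hy : N y ≤ T.sup N), pow_add, mul_smul]
        exact Submodule.smul_mem _ _ (hN y)
      exact hle (Submodule.mem_top (x := x))
    have hμinj : Function.Injective μ := fun x y hxy =>
      smul_right_injective ev.range (pow_ne_zero (T.sup N) ha) hxy
    have h1 := LinearMap.finrank_le_finrank_of_injective (f := lam) hlinj
    have h2 := LinearMap.finrank_le_finrank_of_injective (f := μ.codRestrict _ hμ)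
      (fun x y hxy => hμinj (congrArg Subtype.val hxy))
    rw [LinearMap.finrank_range_of_inj hlinj] at h2
    rw [Module.finrank_fin_fun] at h1 h2
    exact le_antisymm h2 h1
  · haveI : FaithfulSMul ℤ ev.range := (faithfulSMul_iff_algebraMap_injective ℤ ev.range).mpr
      fun a b hab => hinj' (congrArg Subtype.val hab)
    rw [Groth.Agent.Lib.Dim.Integral.ringKrullDim_eq_of_isIntegral (R := ℤ) (A := ev.range)]
    exact IsPrincipalIdealRing.ringKrullDim_eq_one ℤ Int.not_isField
  · let σ : ULift.{u} (MvPolynomial (Fin 2) ℤ) ≃+* MvPolynomial (Fin 2) ℤ := ULift.ringEquiv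
    haveI : IsRegularRing (ULift.{u} (MvPolynomial (Fin 2) ℤ)) := IsRegularRing.of_ringEquiv σ.symm
    haveI : IsDomain (ULift.{u} (MvPolynomial (Fin 2) ℤ)) := σ.toMulEquiv.isDomain
    refine Groth.Agent.WeilOrder99.isGorensteinRing_of_two
      (ev.rangeRestrict.toRingHom.comp σ.toRingHom)
      (ev.rangeRestrict_surjective.comp σ.surjective)
      (σ.symm (X 0 * X 1 - C ((p : ℤ) ^ e))) (σ.symm h) ?_ ?_ ?_
    · rw [← RingHom.comap_ker, show RingHom.ker ev.rangeRestrict.toRingHom = RingHom.ker ev from
        AlgHom.ker_rangeRestrict ev, hker]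
      rw [show Ideal.comap σ.toRingHom (Ideal.span {X 0 * X 1 - C ((p : ℤ) ^ e), h}) =
        Ideal.map σ.symm.toRingHom (Ideal.span {X 0 * X 1 - C ((p : ℤ) ^ e), h}) from
        (Ideal.map_symm σ).symm, Ideal.map_span, Set.image_pair]
      rfl
    · intro h0
      have := congrArg σ h0
      rw [σ.apply_symm_apply, map_zero] at this
      have h1 := congrArg (MvPolynomial.eval (0 : Fin 2 → ℤ)) this
      simp at h1
      exact (Fact.out : p.Prime).ne_zero h1.1
    · intro x hx
      rw [Ideal.mem_span_singleton] at hx ⊢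
      obtain ⟨c, hc⟩ := hx
      have hc' := congrArg σ hc
      rw [map_mul, map_mul, σ.apply_symm_apply, σ.apply_symm_apply] at hc'
      have h2 := ((RingTheory.Sequence.isWeaklyRegular_cons_iff _ _ _).mp
        ((RingTheory.Sequence.isWeaklyRegular_cons_iff _ _ _).mp hreg).2).1
      have h3 : Submodule.Quotient.mk (p := (MvPolynomial.X 0 * MvPolynomial.X 1 - MvPolynomial.C ((p : ℤ) ^ e) : MvPolynomial (Fin 2) ℤ) • (⊤ : Submodule (MvPolynomial (Fin 2) ℤ) (MvPolynomial (Fin 2) ℤ))) (σ x) = 0 := by
        refine (isSMulRegular_iff_right_eq_zero_of_smul).mp h2 _ ?_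
        rw [← Submodule.Quotient.mk_smul, Submodule.Quotient.mk_eq_zero, smul_eq_mul, hc']
        exact Submodule.smul_mem_pointwise_smul _ _ _ Submodule.mem_top
      rw [Submodule.Quotient.mk_eq_zero, Submodule.mem_smul_pointwise_iff_exists] at h3
      obtain ⟨d, -, hd⟩ := h3
      exact ⟨σ.symm d, σ.injective (by rw [map_mul, σ.apply_symm_apply, σ.apply_symm_apply, ← hd, smul_eq_mul])⟩

end Groth.Agent.S17985
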