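import Groth.Statements.S17987
import Mathlib
-- import your own Groth.Agent.* helpers here

set_option autoImplicit false
universe u
open scoped Classical
open WeilNum

namespace Groth.Agent.S17987


open Polynomial in
/-- The polynomial `T^N P(q/T)`. -/
noncomputable def twistPoly (P : ℤ[X]) (q : ℤ) : ℤ[X] :=
  ∑ i ∈ Finset.range (P.natDegree + 1), C (P.coeff i * q ^ i) * X ^ (P.natDegree - i)

open Polynomial in
theorem twist_eval {L : Type*} [Field L] (P : ℤ[X]) (q : ℤ) (z : L) (hz : z ≠ 0) :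
    aeval z (twistPoly P q) = z ^ P.natDegree * aeval ((q : L) / z) P := by
  rw [twistPoly, map_sum, aeval_eq_sum_range (p := P), Finset.mul_sum]
  refine Finset.sum_congr rfl fun i hi => ?_
  rw [Finset.mem_range] at hi
  simp only [map_mul, map_pow, aeval_X, zsmul_eq_mul, map_intCast, eq_intCast]
  rw [div_pow, show z ^ P.natDegree = z ^ (P.natDegree - i) * z ^ i by rw [← pow_add]; congr 1; omega]
  field_simp

open Polynomial in
theorem norm_root_le {p : ℕ} [Fact p.Prime] (P : ℤ[X]) (hP : P.Monic) (u : PadicAlgCl p) (hu : aeval u P = 0) : ‖u‖ ≤ 1 := by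
  by_contra h
  push_neg at h
  rw [aeval_eq_sum_range, Finset.sum_range_succ, hP.coeff_natDegree, one_smul] at hu
  have hN : P.natDegree ≠ 0 := by
    intro h0
    rw [h0] at hu
    simp at hu
  have hle : ‖∑ i ∈ Finset.range P.natDegree, P.coeff i • u ^ i‖ ≤ ‖u‖ ^ (P.natDegree - 1) := by
    refine IsUltrametricDist.norm_sum_le_of_forall_le_of_nonneg (by positivity) fun i hi => ?_
    rw [Finset.mem_range] at hi
    rw [zsmul_eq_mul, norm_mul, norm_pow]
    calc ‖((P.coeff i : ℤ) : PadicAlgCl p)‖ * ‖u‖ ^ i ≤ 1 * ‖u‖ ^ i :=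
          mul_le_mul_of_nonneg_right (IsUltrametricDist.norm_intCast_le_one _ _) (by positivity)
      _ ≤ ‖u‖ ^ (P.natDegree - 1) := by rw [one_mul]; exact pow_le_pow_right₀ h.le (by omega)
  rw [eq_neg_of_add_eq_zero_left hu, norm_neg, norm_pow] at hle
  exact absurd hle (not_le.mpr (pow_lt_pow_right₀ h (by omega)))

theorem sum_powerset_norm {L : Type*} [NormedField L] [IsUltrametricDist L] (s : Finset L) (hs : ∀ u ∈ s, ‖u‖ ≤ 1)
    (m : ℕ) : (m = (s.filter fun u => ‖u‖ = 1).card → ‖∑ t ∈ s.powersetCard m, ∏ u ∈ t, u‖ = 1) ∧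
      ((s.filter fun u => ‖u‖ = 1).card < m → ‖∑ t ∈ s.powersetCard m, ∏ u ∈ t, u‖ < 1) := by
  classical
  have hlt : ∀ t ∈ s.powersetCard m, t ≠ (s.filter fun u => ‖u‖ = 1) → (s.filter fun u => ‖u‖ = 1).card ≤ m →
      ‖∏ u ∈ t, u‖ < 1 := by
    intro t ht hne hm
    obtain ⟨hts, htc⟩ := Finset.mem_powersetCard.mp ht
    obtain ⟨u, hut, hu⟩ : ∃ u ∈ t, ‖u‖ ≠ 1 := by
      by_contra h
      push_neg at h
      exact hne (Finset.eq_of_subset_of_card_le (fun u hu => Finset.mem_filter.mpr ⟨hts hu, h u hu⟩) (htc ▸ hm))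
    rw [norm_prod, ← Finset.mul_prod_erase t _ hut]
    exact lt_of_le_of_lt (mul_le_of_le_one_right (norm_nonneg _)
      (Finset.prod_le_one (fun _ _ => norm_nonneg _) fun v hv => hs v (hts (Finset.mem_of_mem_erase hv))))
      (lt_of_le_of_ne (hs u (hts hut)) hu)
  constructor
  · intro hm
    have hU : (s.filter fun u => ‖u‖ = 1) ∈ s.powersetCard m := Finset.mem_powersetCard.mpr ⟨Finset.filter_subset _ _, hm.symm⟩
    rw [← Finset.add_sum_erase _ _ hU]
    have h1 : ‖∏ u ∈ s.filter (fun u => ‖u‖ = 1), u‖ = 1 := by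
      rw [norm_prod]
      exact Finset.prod_eq_one fun u hu => (Finset.mem_filter.mp hu).2
    have h2 : ‖∑ t ∈ (s.powersetCard m).erase (s.filter fun u => ‖u‖ = 1), ∏ u ∈ t, u‖ < 1 := by
      rcases ((s.powersetCard m).erase (s.filter fun u => ‖u‖ = 1)).eq_empty_or_nonempty with h | h
      · rw [h]; simp
      · obtain ⟨t, ht, hle⟩ := IsUltrametricDist.exists_norm_finsetSum_le_of_nonempty h (fun t => ∏ u ∈ t, u)
        exact lt_of_le_of_lt hle (hlt t (Finset.mem_of_mem_erase ht) (Finset.ne_of_mem_erase ht) hm.ge)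
    rw [IsUltrametricDist.norm_add_eq_max_of_norm_ne_norm (by rw [h1]; exact h2.ne'), h1, max_eq_left h2.le]
  · intro hm
    rcases (s.powersetCard m).eq_empty_or_nonempty with h | h
    · rw [h]; simp
    · obtain ⟨t, ht, hle⟩ := IsUltrametricDist.exists_norm_finsetSum_le_of_nonempty h (fun t => ∏ u ∈ t, u)
      refine lt_of_le_of_lt hle (hlt t ht ?_ hm.le)
      intro he
      have := (Finset.mem_powersetCard.mp ht).2
      rw [he] at this
      omega

open Polynomial in
theorem one_number (p e : ℕ) [Fact p.Prime] (he : 0 < e) (P : ℤ[X]) (hPm : P.Monic) (hPi : Irreducible P)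
    (hweil : ∀ z ∈ P.aroots ℂ, ‖z‖ = Real.sqrt ((p : ℝ) ^ e)) (hnr : ∀ z ∈ P.aroots ℂ, z.im ≠ 0) :
    2 * Multiset.card ((P.aroots (PadicAlgCl p)).filter (fun z => ‖z‖ = 1)) = P.natDegree ↔
      ¬ (p : ℤ) ∣ P.coeff (P.natDegree / 2) := by
  classical
  have hp : p.Prime := Fact.out
  set N := P.natDegree with hN
  have hqm : Irreducible (P.map (algebraMap ℤ ℚ)) := (hPm.irreducible_iff_irreducible_map_fraction_map (K := ℚ)).mp hPi
  have hsepq : (P.map (algebraMap ℤ ℚ)).Separable := hqm.separable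
  -- separability in any field of characteristic zero
  have hnd : ∀ (L : Type) [Field L] [CharZero L], (P.aroots L).Nodup := by
    intro L _ _
    rw [aroots_def, show algebraMap ℤ L = (algebraMap ℚ L).comp (algebraMap ℤ ℚ) from Subsingleton.elim _ _,
      ← Polynomial.map_map]
    exact nodup_roots hsepq.map
  have hmem : ∀ (L : Type) [Field L] [CharZero L] (z : L), z ∈ P.aroots L ↔ aeval z P = 0 := by
    intro L _ _ z
    rw [mem_aroots]
    exact and_iff_right hPm.ne_zero
  obtain ⟨z₀, hz₀⟩ : ∃ z : ℂ, aeval z P = 0 := IsAlgClosed.exists_aeval_eq_zero ℂ P (by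
    intro h
    have := hqm.degree_pos
    rw [degree_map_eq_of_injective (Int.cast_injective) P, h] at this
    exact lt_irrefl _ this)
  have hsq : (0 : ℝ) < Real.sqrt ((p : ℝ) ^ e) := Real.sqrt_pos.mpr (pow_pos (by exact_mod_cast hp.pos) e)
  have hz₀ne : z₀ ≠ 0 := fun h => by
    have := hweil z₀ ((hmem ℂ z₀).mpr hz₀); rw [h, norm_zero] at this; linarith
  have hconj : ∀ z : ℂ, aeval z P = 0 → aeval ((starRingEnd ℂ) z) P = 0 := by
    intro z hz
    have := congrArg (starRingEnd ℂ) hz
    rw [map_zero] at this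
    rw [← this]
    exact (Polynomial.hom_eval₂ P (algebraMap ℤ ℂ) (starRingEnd ℂ) z).trans (by
      rw [show (starRingEnd ℂ).comp (algebraMap ℤ ℂ) = algebraMap ℤ ℂ from Subsingleton.elim _ _]; rfl) |>.symm
  -- `q / z` is a root
  set q : ℤ := (p : ℤ) ^ e with hq
  have hdvd : P.map (algebraMap ℤ ℚ) ∣ (twistPoly P q).map (algebraMap ℤ ℚ) := by
    rw [minpoly.eq_of_irreducible_of_monic hqm (x := z₀) (by rw [aeval_map_algebraMap]; exact hz₀) (hPm.map _)]
    refine minpoly.dvd ℚ z₀ ?_
    rw [aeval_map_algebraMap, twist_eval P q z₀ hz₀ne]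
    have hq' : (q : ℂ) / z₀ = (starRingEnd ℂ) z₀ := by
      rw [div_eq_iff hz₀ne, Complex.conj_mul', hweil z₀ ((hmem ℂ z₀).mpr hz₀), ← Complex.ofReal_pow,
        Real.sq_sqrt (by positivity), hq]
      push_cast
      ring
    rw [hq', hconj z₀ hz₀, mul_zero]
  have hpa : ∀ u : PadicAlgCl p, aeval u P = 0 → u ≠ 0 → aeval ((q : PadicAlgCl p) / u) P = 0 := by
    intro u hu hu0
    obtain ⟨c, hc⟩ := hdvd
    have := congrArg (aeval u) hc
    rw [aeval_map_algebraMap, map_mul, aeval_map_algebraMap, hu, zero_mul] at this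
    have := (twist_eval P q u hu0).symm.trans this
    exact (mul_eq_zero.mp this).resolve_left (pow_ne_zero _ hu0)
  have hqn : ‖(q : PadicAlgCl p)‖ < 1 := by
    have h1 := PadicAlgCl.norm_extends p (q : ℚ_[p])
    rw [map_intCast] at h1
    rw [h1, Padic.norm_intCast_lt_one_iff]
    exact dvd_pow_self _ he.ne'
  have hn : (P.aroots (PadicAlgCl p)).Nodup := hnd (PadicAlgCl p)
  set s := (P.aroots (PadicAlgCl p)).toFinset with hs
  have hscard : s.card = N := by
    rw [hs, Multiset.toFinset_card_of_nodup hn, aroots_def, IsAlgClosed.card_roots_eq_natDegree, hPm.natDegree_map]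
  have hsle : ∀ u ∈ s, ‖u‖ ≤ 1 := fun u hu => norm_root_le P hPm u ((hmem _ u).mp (Multiset.mem_toFinset.mp hu))
  set U := s.filter fun u => ‖u‖ = 1 with hU
  have hUcard : Multiset.card ((P.aroots (PadicAlgCl p)).filter (fun z => ‖z‖ = 1)) = U.card := by
    rw [hU, hs, ← Multiset.toFinset_filter, Multiset.toFinset_card_of_nodup (hn.filter _)]
  have hU2 : 2 * U.card ≤ N := by
    have hinj : (U.image fun u => (q : PadicAlgCl p) / u) ⊆ s \ U := by
      intro v hv
      obtain ⟨u, hu, rfl⟩ := Finset.mem_image.mp hv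
      obtain ⟨hus, hu1⟩ := Finset.mem_filter.mp hu
      have hu0 : u ≠ 0 := fun h => by rw [h, norm_zero] at hu1; exact zero_ne_one hu1
      refine Finset.mem_sdiff.mpr ⟨Multiset.mem_toFinset.mpr ((hmem _ _).mpr (hpa u ((hmem _ u).mp (Multiset.mem_toFinset.mp hus)) hu0)),
        fun h => ?_⟩
      have := (Finset.mem_filter.mp h).2
      rw [norm_div, hu1, div_one] at this
      exact hqn.ne this
    have hcard : (U.image fun u => (q : PadicAlgCl p) / u).card = U.card := Finset.card_image_of_injOn fun u hu v hv h => by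
      have hq0 : (q : PadicAlgCl p) ≠ 0 := by
        rw [Ne, Int.cast_eq_zero]; exact pow_ne_zero _ (by exact_mod_cast hp.ne_zero)
      have h' := congrArg (fun x => (q : PadicAlgCl p) / x) h
      simpa [div_div_cancel₀ hq0] using h'
    have := Finset.card_le_card hinj
    rw [hcard, Finset.card_sdiff_of_subset (Finset.filter_subset _ _), hscard, ← hU] at this
    omega
  -- the degree is even
  have heven : Even N := by
    set c := (P.aroots ℂ).toFinset with hc
    have hccard : c.card = N := by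
      rw [hc, Multiset.toFinset_card_of_nodup (hnd ℂ), aroots_def, IsAlgClosed.card_roots_eq_natDegree, hPm.natDegree_map]
    have h2 : ∑ _z ∈ c, (1 : ZMod 2) = 0 := by
      refine Finset.sum_involution (fun z _ => (starRingEnd ℂ) z) (fun _ _ => by decide) (fun z hz _ h => ?_)
        (fun z hz => Multiset.mem_toFinset.mpr ((hmem ℂ _).mpr (hconj z ((hmem ℂ z).mp (Multiset.mem_toFinset.mp hz)))))
        (fun z _ => Complex.conj_conj z)
      exact hnr z (Multiset.mem_toFinset.mp hz) (Complex.conj_eq_iff_im.mp h)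
    rw [Finset.sum_const, nsmul_one, hccard, ZMod.natCast_eq_zero_iff_even] at h2
    exact h2
  obtain ⟨d, hd⟩ := heven
  have hd2 : N / 2 = d := by omega
  have hcoeff : ((P.coeff d : ℤ) : PadicAlgCl p) = (-1) ^ d * ∑ t ∈ s.powersetCard d, ∏ u ∈ t, u := by
    have h1 := Polynomial.coeff_eq_esymm_roots_of_splits (IsAlgClosed.splits (P.map (algebraMap ℤ (PadicAlgCl p))))
      (k := d) (by rw [hPm.natDegree_map]; omega)
    rw [coeff_map, (hPm.map _).leadingCoeff, one_mul, hPm.natDegree_map, show P.natDegree - d = d by omega] at h1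
    rw [eq_intCast] at h1
    rw [h1, ← aroots_def, show P.aroots (PadicAlgCl p) = s.val from ((hnd _).dedup).symm, ← Finset.esymm_map_val,
      Multiset.map_id']
  have hiff : ¬ (p : ℤ) ∣ P.coeff d ↔ ‖∑ t ∈ s.powersetCard d, ∏ u ∈ t, u‖ = 1 := by
    have h1 := PadicAlgCl.norm_extends p (P.coeff d : ℚ_[p])
    rw [map_intCast, hcoeff, norm_mul, norm_pow, norm_neg, norm_one, one_pow, one_mul] at h1
    rw [← Padic.norm_intCast_lt_one_iff (p := p), ← h1, not_lt]
    refine ⟨fun h => le_antisymm ?_ h, fun h => h.ge⟩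
    rw [h1]; exact Padic.norm_int_le_one _
  rw [hUcard, hd2, hiff]
  constructor
  · intro h; exact (sum_powerset_norm s hsle d).1 (by rw [← hU]; omega)
  · intro h
    by_contra hne
    exact (ne_of_lt ((sum_powerset_norm s hsle d).2 (by rw [← hU]; omega))) h


/-- Let p be a prime, e ≥ 1 and q = p^e, and let (π_i) be a finite family of nonreal Weil q-numbers: π_i
lies in a field K_i of characteristic zero, is integral over ℤ with minimal polynomial P_i, every
complex root of P_i has absolute value √q, and no complex root of P_i is real; in particular deg P_i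
= 2d_i is even. Call π_i ordinary when exactly half of the roots of P_i in an algebraic closure of
ℚ_p, counted with multiplicity, are p-adic units (have absolute value 1). Then all π_i are ordinary
if and only if p does not divide ∏_i a_{d_i}, the product of the middle coefficients of the P_i
(this product is the value at F = V = 0 of the symmetric polynomial h_w of the family). -/
theorem result (p e : ℕ) [Fact p.Prime] (he : 0 < e)
    (ι : Type) [Fintype ι] (K : ι → Type u) [∀ i, Field (K i)] [∀ i, CharZero (K i)] (π : ∀ i, K i)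
    (hint : ∀ i, IsIntegral ℤ (π i))
    (hweil : ∀ i, ∀ z ∈ (minpoly ℤ (π i)).aroots ℂ, ‖z‖ = Real.sqrt ((p : ℝ) ^ e))
    (hnr : ∀ i, ∀ z ∈ (minpoly ℤ (π i)).aroots ℂ, z.im ≠ 0) :
    (∀ i, 2 * Multiset.card (((minpoly ℤ (π i)).aroots (PadicAlgCl p)).filter (fun z => ‖z‖ = 1)) = (minpoly ℤ (π i)).natDegree) ↔
      ¬ ((p : ℤ) ∣ ∏ i, (minpoly ℤ (π i)).coeff ((minpoly ℤ (π i)).natDegree / 2)) := by
  have hP := fun i => one_number p e he (minpoly ℤ (π i)) (minpoly.monic (hint i)) (minpoly.irreducible (hint i)) (hweil i) (hnr i)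
  rw [Prime.dvd_finsetProd_iff (Nat.prime_iff_prime_int.mp Fact.out)]
  push_neg
  exact ⟨fun h i _ => (hP i).mp (h i), fun h i => (hP i).mpr (h i (Finset.mem_univ i))⟩

end Groth.Agent.S17987
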