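import Groth.Statements.S17986
import Groth.Agent.H15.WeilGor.NotGor
import Groth.Agent.S17987
import Groth.Agent.Lib.WeilOrder99

set_option autoImplicit false
universe u
open MvPolynomial
open scoped Classical
open WeilNum

namespace Groth.Agent.S17986

open scoped Pointwise

/-- Two elements form a regular sequence in a domain. -/
theorem reg_pair {R : Type*} [CommRing R] [IsDomain R] (a b : R) (ha : a ≠ 0)
    (hb : ∀ x, a ∣ b * x → a ∣ x) : RingTheory.Sequence.IsWeaklyRegular R [a, b] := by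
  refine (RingTheory.Sequence.isWeaklyRegular_cons_iff _ _ _).mpr
    ⟨(isSMulRegular_iff_right_eq_zero_of_smul).mpr fun x hx => (mul_eq_zero.mp hx).resolve_left ha, ?_⟩
  rw [RingTheory.Sequence.isWeaklyRegular_singleton_iff]
  refine (isSMulRegular_iff_right_eq_zero_of_smul).mpr fun x hx => ?_
  obtain ⟨x, rfl⟩ := Submodule.Quotient.mk_surjective _ x
  rw [← Submodule.Quotient.mk_smul, Submodule.Quotient.mk_eq_zero,
    Submodule.mem_smul_pointwise_iff_exists] at hx
  rw [Submodule.Quotient.mk_eq_zero, Submodule.mem_smul_pointwise_iff_exists]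
  obtain ⟨y, -, hy⟩ := hx
  obtain ⟨z, hz⟩ := hb x ⟨y, hy.symm⟩
  exact ⟨z, trivial, hz.symm⟩

theorem no_real_root (p e : ℕ) (s : ℤ) (hs : s ^ 2 = (p : ℤ) ^ e) (P : Polynomial ℤ) (hPm : P.Monic)
    (hPi : Irreducible P) (hdeg : P.natDegree ≠ 1)
    (hw : ∀ z ∈ P.aroots ℂ, ‖z‖ = Real.sqrt ((p : ℝ) ^ e)) : ∀ z ∈ P.aroots ℂ, z.im ≠ 0 := by
  intro z hz him
  have hn := hw z hz
  rw [show ((p : ℝ) ^ e) = (s : ℝ) ^ 2 by exact_mod_cast hs.symm, Real.sqrt_sq_eq_abs] at hn
  have hre : z = (z.re : ℂ) := Complex.ext rfl (by simpa using him)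
  rw [hre, Complex.norm_real, Real.norm_eq_abs, abs_eq_abs] at hn
  obtain ⟨r, hr⟩ : ∃ r : ℤ, z = (r : ℂ) := by
    rcases hn with h | h
    · exact ⟨s, by rw [hre, h]; simp⟩
    · exact ⟨-s, by rw [hre, h]; simp⟩
  have hroot : Polynomial.aeval (r : ℂ) P = 0 := hr ▸ (Polynomial.mem_aroots.mp hz).2
  have heval : P.IsRoot r := by
    rw [show (r : ℂ) = algebraMap ℤ ℂ r by simp, Polynomial.aeval_algebraMap_apply] at hroot
    exact (Int.cast_eq_zero (α := ℂ)).mp (by simpa using hroot)
  obtain ⟨Q, hQ⟩ := Polynomial.dvd_iff_isRoot.mpr heval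
  rcases hPi.isUnit_or_isUnit hQ with h | h
  · exact Polynomial.not_isUnit_X_sub_C r h
  · apply hdeg
    rw [hQ, Polynomial.natDegree_mul (Polynomial.X_sub_C_ne_zero r) h.ne_zero, Polynomial.natDegree_X_sub_C,
      Polynomial.natDegree_eq_zero_of_isUnit h]

theorem even_degree (P : Polynomial ℤ) (hPm : P.Monic) (hPi : Irreducible P)
    (hnr : ∀ z ∈ P.aroots ℂ, z.im ≠ 0) : Even P.natDegree := by
  classical
  have hqm : Irreducible (P.map (algebraMap ℤ ℚ)) :=
    (hPm.irreducible_iff_irreducible_map_fraction_map (K := ℚ)).mp hPi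
  have hnd : (P.aroots ℂ).Nodup := by
    rw [Polynomial.aroots_def, show algebraMap ℤ ℂ = (algebraMap ℚ ℂ).comp (algebraMap ℤ ℚ) from Subsingleton.elim _ _,
      ← Polynomial.map_map]
    exact Polynomial.nodup_roots hqm.separable.map
  have hcard : (P.aroots ℂ).toFinset.card = P.natDegree := by
    rw [Multiset.toFinset_card_of_nodup hnd, Polynomial.aroots_def, IsAlgClosed.card_roots_eq_natDegree,
      hPm.natDegree_map]
  have h2 : ∑ _z ∈ (P.aroots ℂ).toFinset, (1 : ZMod 2) = 0 := by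
    refine Finset.sum_involution (fun z _ => (starRingEnd ℂ) z) (fun _ _ => by decide)
      (fun z hz _ h => hnr z (Multiset.mem_toFinset.mp hz) (Complex.conj_eq_iff_im.mp h))
      (fun z hz => ?_) (fun z _ => Complex.conj_conj z)
    rw [Multiset.mem_toFinset, Polynomial.mem_aroots] at hz ⊢
    refine ⟨hz.1, ?_⟩
    have h := Polynomial.hom_eval₂ P (algebraMap ℤ ℂ) (starRingEnd ℂ) z
    rw [← Polynomial.aeval_def, hz.2, map_zero,
      RingHom.ext_int ((starRingEnd ℂ).comp (algebraMap ℤ ℂ)) (algebraMap ℤ ℂ)] at h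
    exact h.symm
  rwa [Finset.sum_const, nsmul_one, hcard, ZMod.natCast_eq_zero_iff_even] at h2

/-- The middle coefficient of the product is the product of the middle coefficients modulo `p`. -/
theorem middle_congr (p e : ℕ) [Fact p.Prime] (he : 0 < e)
    {ι : Type} [Fintype ι] {K : ι → Type u} [∀ i, Field (K i)] [∀ i, CharZero (K i)] (π : ∀ i, K i)
    (hint : ∀ i, IsIntegral ℤ (π i))
    (hweil : ∀ i, ∀ z ∈ (minpoly ℤ (π i)).aroots ℂ, ‖z‖ = Real.sqrt ((p : ℝ) ^ e))
    (hev : ∀ i, Even (minpoly ℤ (π i)).natDegree)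
    (D : ℕ) (hD : ∑ i, (minpoly ℤ (π i)).natDegree = 2 * D) :
    (((∏ i, minpoly ℤ (π i)).coeff D : ℤ) : ZMod p) =
      ((∏ i, (minpoly ℤ (π i)).coeff ((minpoly ℤ (π i)).natDegree / 2) : ℤ) : ZMod p) := by
  classical
  set d : ι → ℕ := fun i => (minpoly ℤ (π i)).natDegree / 2 with hd
  have hd2 : ∀ i, (minpoly ℤ (π i)).natDegree = 2 * d i := fun i => by
    obtain ⟨k, hk⟩ := hev i
    simp only [hd, hk]; omega
  have hDd : D = ∑ i, d i := by
    have : 2 * D = 2 * ∑ i, d i := by rw [← hD, Finset.mul_sum]; exact Finset.sum_congr rfl fun i _ => hd2 i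
    omega
  have hR : ∀ i, ∃ R : Polynomial (ZMod p), (minpoly ℤ (π i)).map (Int.castRingHom (ZMod p)) =
      Polynomial.X ^ d i * R := by
    intro i
    refine Polynomial.X_pow_dvd_iff.mpr fun j hj => ?_
    obtain ⟨t, -, -, ht⟩ := Groth.Agent.WeilOrder99.coeff_symm (ι := Unit) (K := fun _ => K i) (fun _ => π i)
      (fun _ => hint i) (p ^ e) (pow_ne_zero _ (Fact.out : p.Prime).ne_zero)
      (fun _ z hz => by rw [hweil i z hz]; push_cast; rfl) (d i) (by simp [hd2 i])
    have h := ht j hj.le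
    simp only [Finset.univ_unique, Finset.prod_singleton] at h
    rw [Polynomial.coeff_map, h, map_mul, map_mul, map_pow]
    have h0 : (Int.castRingHom (ZMod p)) (((p ^ e : ℕ) : ℤ)) = 0 := by
      simp [zero_pow he.ne']
    rw [h0, zero_pow (by omega), mul_zero, zero_mul]
  choose R hR using hR
  have hP : (∏ i, minpoly ℤ (π i)).map (Int.castRingHom (ZMod p)) = Polynomial.X ^ D * ∏ i, R i := by
    rw [Polynomial.map_prod, Finset.prod_congr rfl (fun i _ => hR i), Finset.prod_mul_distrib, Finset.prod_pow_eq_pow_sum, hDd]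
  have h1 := congrArg (fun G => Polynomial.coeff G D) hP
  simp only [Polynomial.coeff_map] at h1
  rw [Polynomial.coeff_X_pow_mul', if_pos le_rfl, Nat.sub_self, Polynomial.coeff_zero_prod] at h1
  refine h1.trans ?_
  rw [Int.cast_prod]
  refine Finset.prod_congr rfl fun i _ => ?_
  have h2 := congrArg (fun G => Polynomial.coeff G (d i)) (hR i)
  simp only [Polynomial.coeff_map] at h2
  rw [Polynomial.coeff_X_pow_mul', if_pos le_rfl, Nat.sub_self] at h2
  exact h2.symm


/-- Let p be a prime, e ≥ 1, and assume q = p^e = s² for an integer s (of either sign; s is then a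
rational Weil q-number). Let (π_i) be a finite family of pairwise nonconjugate nonrational Weil
q-numbers: π_i lies in a field K_i of characteristic zero, is integral over ℤ with minimal
polynomial P_i of degree different from 1, every complex root of P_i has absolute value √q, and P_i
≠ P_j for i ≠ j (since q is a square these π_i are nonreal, so Σ_i deg P_i = 2D is even). Put P_v =
∏_i P_i and let h ∈ ℤ[F, V] (F = X_0, V = X_1) be any polynomial with F^D · h ≡ P_v(F) modulo FV −
q. Consider the ring map ℤ[F, V] → (∏_i K_i) × ℚ sending F to ((π_i)_i, s) and V to ((q/π_i)_i, s);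
its image R_w is the minimal central order of the family enlarged by s. Then: (1) its kernel is the
ideal generated by FV − q, h · (F − s) and h · (V − s); (2) R_w is a Gorenstein ring if and only if
every π_i is ordinary, meaning that exactly half of the roots of P_i in an algebraic closure of ℚ_p,
counted with multiplicity, are p-adic units. -/
theorem result (p e : ℕ) [Fact p.Prime] (he : 0 < e)
    (s : ℤ) (hs : s ^ 2 = (p : ℤ) ^ e)
    (ι : Type) [Fintype ι] (K : ι → Type u) [∀ i, Field (K i)] [∀ i, CharZero (K i)] (π : ∀ i, K i)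
    (hint : ∀ i, IsIntegral ℤ (π i)) (hdeg : ∀ i, (minpoly ℤ (π i)).natDegree ≠ 1)
    (hweil : ∀ i, ∀ z ∈ (minpoly ℤ (π i)).aroots ℂ, ‖z‖ = Real.sqrt ((p : ℝ) ^ e))
    (hinj : ∀ i j, minpoly ℤ (π i) = minpoly ℤ (π j) → i = j)
    (D : ℕ) (hD : ∑ i, (minpoly ℤ (π i)).natDegree = 2 * D)
    (h : MvPolynomial (Fin 2) ℤ)
    (hh : X 0 ^ D * h - Polynomial.aeval (X 0 : MvPolynomial (Fin 2) ℤ) (∏ i, minpoly ℤ (π i)) ∈
      Ideal.span ({X 0 * X 1 - C ((p : ℤ) ^ e)} : Set (MvPolynomial (Fin 2) ℤ))) :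
    RingHom.ker (MvPolynomial.aeval ![(⟨fun i => π i, (s : ℚ)⟩ : ((i : ι) → K i) × ℚ), ⟨fun i => ((p : K i) ^ e) / π i, (s : ℚ)⟩] :
        MvPolynomial (Fin 2) ℤ →ₐ[ℤ] (((i : ι) → K i) × ℚ)) =
        Ideal.span {X 0 * X 1 - C ((p : ℤ) ^ e), h * (X 0 - C s), h * (X 1 - C s)} ∧
      (LocCoh.IsGorensteinRing (MvPolynomial.aeval ![(⟨fun i => π i, (s : ℚ)⟩ : ((i : ι) → K i) × ℚ), ⟨fun i => ((p : K i) ^ e) / π i, (s : ℚ)⟩] :
        MvPolynomial (Fin 2) ℤ →ₐ[ℤ] (((i : ι) → K i) × ℚ)).range ↔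
        ∀ i, 2 * Multiset.card (((minpoly ℤ (π i)).aroots (PadicAlgCl p)).filter (fun z => ‖z‖ = 1)) = (minpoly ℤ (π i)).natDegree) := by
  classical
  have hp : p.Prime := Fact.out
  set q : ℤ := (p : ℤ) ^ e with hqdef
  have hq0 : q ≠ 0 := pow_ne_zero _ (Int.natCast_ne_zero.mpr hp.ne_zero)
  have hpq : (p : ℤ) ∣ q := dvd_pow_self _ he.ne'
  have hpZ : Prime (p : ℤ) := Nat.prime_iff_prime_int.mp hp
  have hps : (p : ℤ) ∣ s := hpZ.dvd_of_dvd_pow (n := 2) (hs ▸ hpq)
  have hs0 : s ≠ 0 := fun h0 => hq0 (by rw [← hs, h0]; ring)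
  set rel : MvPolynomial (Fin 2) ℤ := X 0 * X 1 - C q with hrel
  set P : Polynomial ℤ := ∏ i, minpoly ℤ (π i) with hPdef
  have hPm : P.Monic := Polynomial.monic_prod_of_monic _ _ fun i _ => minpoly.monic (hint i)
  -- evaluation at the rational point
  set E : MvPolynomial (Fin 2) ℤ →+* ℤ := MvPolynomial.eval ![s, s] with hE
  have hErel : E rel = 0 := by
    simp [hE, hrel]
    linear_combination hs
  have hPs : P.eval s ≠ 0 := by
    rw [hPdef, Polynomial.eval_prod, Finset.prod_ne_zero_iff]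
    intro i _ hi
    obtain ⟨Q, hQ⟩ := Polynomial.dvd_iff_isRoot.mpr (show (minpoly ℤ (π i)).IsRoot s from hi)
    rcases (minpoly.irreducible (hint i)).isUnit_or_isUnit hQ with h | h
    · exact Polynomial.not_isUnit_X_sub_C s h
    · apply hdeg i
      rw [hQ, Polynomial.natDegree_mul (Polynomial.X_sub_C_ne_zero s) h.ne_zero, Polynomial.natDegree_X_sub_C,
        Polynomial.natDegree_eq_zero_of_isUnit h]
  have hEh : E h ≠ 0 := by
    obtain ⟨d, hd⟩ := Ideal.mem_span_singleton'.mp hh
    have h1 := congrArg E hd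
    rw [map_mul, hErel, mul_zero, map_sub, map_mul, map_pow] at h1
    have h2 : ∀ G : Polynomial ℤ, E (Polynomial.aeval (X 0 : MvPolynomial (Fin 2) ℤ) G) = G.eval s := by
      intro G
      induction G using Polynomial.induction_on' with
      | add a b ha hb => rw [map_add, map_add, ha, hb, Polynomial.eval_add]
      | monomial n a => simp [hE, Polynomial.aeval_monomial]
    rw [h2] at h1
    intro h0
    rw [h0, mul_zero, zero_sub, eq_comm, neg_eq_zero] at h1
    exact hPs h1
  -- the kernel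
  obtain ⟨hker, -⟩ := Groth.Agent.S17984.result p e he ι K π hint hweil hinj D hD h hh
  set ev' := (MvPolynomial.aeval ![(⟨fun i => π i, (s : ℚ)⟩ : ((i : ι) → K i) × ℚ), ⟨fun i => ((p : K i) ^ e) / π i, (s : ℚ)⟩] :
        MvPolynomial (Fin 2) ℤ →ₐ[ℤ] (((i : ι) → K i) × ℚ)) with hev'
  set ev := (MvPolynomial.aeval ![fun i => π i, fun i => ((p : K i) ^ e) / π i] :
        MvPolynomial (Fin 2) ℤ →ₐ[ℤ] ((i : ι) → K i)) with hev
  have hfst : ∀ g, (ev' g).1 = ev g := by
    intro g
    induction g using MvPolynomial.induction_on with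
    | C a => simp [hev', hev]
    | add a b ha hb => simp only [map_add, Prod.fst_add, ha, hb]
    | mul_X a i ha =>
      rw [map_mul, map_mul, Prod.fst_mul, ha]
      fin_cases i <;> simp [hev', hev]
  have hsnd : ∀ g, (ev' g).2 = ((E g : ℤ) : ℚ) := by
    intro g
    induction g using MvPolynomial.induction_on with
    | C a => simp [hev', hE]
    | add a b ha hb => simp only [map_add, Prod.snd_add, ha, hb, Int.cast_add]
    | mul_X a i ha =>
      rw [map_mul, map_mul, Prod.snd_mul, ha, Int.cast_mul]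
      fin_cases i <;> simp [hev', hE]
  have hevh : ev h = 0 := by
    rw [← RingHom.mem_ker, hker]
    exact Ideal.subset_span (Or.inr rfl)
  have hevrel : ev rel = 0 := by
    rw [← RingHom.mem_ker, hker]
    exact Ideal.subset_span (Or.inl rfl)
  have hker' : RingHom.ker ev' = Ideal.span {rel, h * (X 0 - C s), h * (X 1 - C s)} := by
    refine le_antisymm (fun g hg => ?_) ?_
    · rw [RingHom.mem_ker] at hg
      have h1 : g ∈ RingHom.ker ev := by rw [RingHom.mem_ker, ← hfst, hg]; rfl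
      rw [hker] at h1
      obtain ⟨a, b, hab⟩ := Ideal.mem_span_pair.mp h1
      have h2 : E b = 0 := by
        have h3 := hsnd g
        rw [hg, Prod.snd_zero, eq_comm, Int.cast_eq_zero, ← hab, map_add, map_mul, map_mul, hErel,
          mul_zero, zero_add] at h3
        exact (mul_eq_zero.mp h3).resolve_right hEh
      obtain ⟨c₀, c₁, hc⟩ := Ideal.mem_span_pair.mp (Groth.Agent.H15.WeilGor.Poly.sub_eval_mem s s b)
      rw [show MvPolynomial.eval ![s, s] b = 0 from h2, map_zero, sub_zero] at hc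
      rw [← hab, ← hc, add_mul]
      refine Ideal.add_mem _ (Ideal.mul_mem_left _ _ (Ideal.subset_span (Or.inl rfl))) ?_
      refine Ideal.add_mem _ ?_ ?_
      · rw [mul_assoc, mul_comm (X 0 - C s)]
        exact Ideal.mul_mem_left _ _ (Ideal.subset_span (Or.inr (Or.inl rfl)))
      · rw [mul_assoc, mul_comm (X 1 - C s)]
        exact Ideal.mul_mem_left _ _ (Ideal.subset_span (Or.inr (Or.inr rfl)))
    · rw [Ideal.span_le]
      rintro z (rfl | rfl | rfl) <;> rw [SetLike.mem_coe, RingHom.mem_ker] <;> refine Prod.ext ?_ ?_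
      · rw [hfst, hevrel]; rfl
      · rw [hsnd, hErel, Int.cast_zero]; rfl
      · rw [hfst, map_mul, hevh, zero_mul]; rfl
      · rw [hsnd, map_mul]; simp [hE]
      · rw [hfst, map_mul, hevh, zero_mul]; rfl
      · rw [hsnd, map_mul]; simp [hE]
  refine ⟨hker', ?_⟩
  -- ordinary iff `p` does not divide the constant term of `h`
  have hnr : ∀ i, ∀ z ∈ (minpoly ℤ (π i)).aroots ℂ, z.im ≠ 0 := fun i =>
    no_real_root p e s hs _ (minpoly.monic (hint i)) (minpoly.irreducible (hint i)) (hdeg i) (hweil i)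
  set c : ℤ := MvPolynomial.eval ![0, 0] h with hc
  have hax0 : Polynomial.X ^ D * Groth.Agent.H15.WeilGor.Poly.axis p 0 h =
      P.map (Int.castRingHom (ZMod p)) := by
    obtain ⟨d, hd⟩ := Ideal.mem_span_singleton'.mp hh
    have h1 := congrArg (Groth.Agent.H15.WeilGor.Poly.axis p 0) hd
    rw [map_mul, Groth.Agent.H15.WeilGor.Poly.axis_rel p 0 hpq, mul_zero, map_sub, map_mul, map_pow,
      Groth.Agent.H15.WeilGor.Poly.axis_X, if_pos rfl, eq_comm, sub_eq_zero] at h1
    refine h1.trans ?_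
    induction P using Polynomial.induction_on' with
    | add a b ha hb => rw [map_add, map_add, ha, hb, Polynomial.map_add]
    | monomial n a =>
      simp [Polynomial.aeval_monomial, Groth.Agent.H15.WeilGor.Poly.axis_X, ← Polynomial.C_mul_X_pow_eq_monomial]
  have hcP : (c : ZMod p) = ((P.coeff D : ℤ) : ZMod p) := by
    have h1 := congrArg (fun G => Polynomial.coeff G D) hax0
    simp only [Polynomial.coeff_map] at h1
    rw [Polynomial.coeff_X_pow_mul', if_pos le_rfl, Nat.sub_self, Groth.Agent.H15.WeilGor.Poly.coeff_zero_axis] at h1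
    exact h1
  have hord : (∀ i, 2 * Multiset.card (((minpoly ℤ (π i)).aroots (PadicAlgCl p)).filter (fun z => ‖z‖ = 1)) =
      (minpoly ℤ (π i)).natDegree) ↔ ¬ (p : ℤ) ∣ c := by
    rw [Groth.Agent.S17987.result p e he ι K π hint hweil hnr, ← ZMod.intCast_zmod_eq_zero_iff_dvd,
      ← ZMod.intCast_zmod_eq_zero_iff_dvd, hcP, hPdef,
      middle_congr p e he π hint hweil (fun i => even_degree _ (minpoly.monic (hint i))
        (minpoly.irreducible (hint i)) (hnr i)) D hD]
  rw [hord]
  let f : MvPolynomial (Fin 2) ℤ →+* ev'.range := ev'.rangeRestrict.toRingHom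
  have hf : Function.Surjective f := ev'.rangeRestrict_surjective
  have hkerf : RingHom.ker f = Ideal.span {rel, h * (X 0 - C s), h * (X 1 - C s)} := by
    rw [← hker']; exact AlgHom.ker_rangeRestrict ev'
  constructor
  · intro hG hpc
    refine Groth.Agent.H15.WeilGor.NotGor.not_gorenstein p f q s h hf hpq hps hkerf hpc (fun j => ?_) ?_ hG
    · fin_cases j
      · intro h0
        have h1 := hax0
        rw [show Groth.Agent.H15.WeilGor.Poly.axis p 0 h = 0 from h0, mul_zero] at h1
        exact (hPm.map (Int.castRingHom (ZMod p))).ne_zero h1.symm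
      · intro h0
        obtain ⟨c', hc1, hc2⟩ := Groth.Agent.S17984.coeff_psi q h D
        have hψh : Groth.Agent.S17984.psi q h = LaurentPolynomial.T (-(D : ℤ)) * P.toLaurent := by
          have h1 := Groth.Agent.S17984.psi_of_mem q hh
          rw [map_sub, map_mul, map_pow, Groth.Agent.S17984.psi_X0, Groth.Agent.S17984.psi_aeval, sub_eq_zero,
            LaurentPolynomial.T_pow, mul_one] at h1
          rw [← h1, ← mul_assoc, ← LaurentPolynomial.T_add, neg_add_cancel, LaurentPolynomial.T_zero, one_mul]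
        rw [hψh, Groth.Agent.S17984.coeff_T_mul, sub_self, Groth.Agent.S17984.coeff_toLaurent', if_pos le_rfl] at hc1
        obtain ⟨t, ht, ht0, -⟩ := Groth.Agent.WeilOrder99.coeff_symm π hint (p ^ e)
          (pow_ne_zero _ hp.ne_zero) (fun i z hz => by rw [hweil i z hz]; push_cast; rfl) D hD
        push_cast at ht0
        rw [show (0 : ℤ).toNat = 0 from rfl, hPdef, ht0, mul_comm] at hc1
        have hct : c' = t := (mul_left_cancel₀ (pow_ne_zero D hq0) hc1).symm
        let ρ : ℤ ⧸ Ideal.span {q} →+* ZMod p := Ideal.Quotient.lift _ (Int.castRingHom (ZMod p)) fun z hz =>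
          (ZMod.intCast_zmod_eq_zero_iff_dvd z p).mpr (hpq.trans (Ideal.mem_span_singleton.mp hz))
        have hcomp : (Polynomial.mapRingHom ρ).comp (Groth.Agent.S17984.phi q) =
            Groth.Agent.H15.WeilGor.Poly.axis p 1 := by
          refine MvPolynomial.ringHom_ext (fun a => ?_) (fun i => ?_)
          · simp [Groth.Agent.S17984.phi, Groth.Agent.H15.WeilGor.Poly.axis]
          · fin_cases i <;> simp [Groth.Agent.S17984.phi, Groth.Agent.H15.WeilGor.Poly.axis]
        have h1 := congrArg (fun G => Polynomial.coeff G D)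
          ((RingHom.congr_fun hcomp h).trans (show Groth.Agent.H15.WeilGor.Poly.axis p 1 h = 0 from h0))
        simp only [RingHom.comp_apply, Polynomial.coe_mapRingHom, Polynomial.coeff_map, Polynomial.coeff_zero] at h1
        rw [← hc2, map_intCast, hct] at h1
        exact (ht.map (Int.castRingHom (ZMod p))).ne_zero h1
    · intro x y hxy
      refine Subtype.ext ?_
      have hxy' := congrArg Subtype.val hxy
      refine Prod.ext (funext fun i => ?_) ?_
      · have h1 := congrFun (congrArg Prod.fst hxy') i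
        simpa [smul_eq_mul, hp.ne_zero] using h1
      · have h1 := congrArg Prod.snd hxy'
        simpa [smul_eq_mul, hp.ne_zero] using h1
  · intro hpc
    let σ : ULift.{u} (MvPolynomial (Fin 2) ℤ) ≃+* MvPolynomial (Fin 2) ℤ := ULift.ringEquiv
    haveI : IsRegularRing (ULift.{u} (MvPolynomial (Fin 2) ℤ)) := IsRegularRing.of_ringEquiv σ.symm
    haveI : IsDomain (ULift.{u} (MvPolynomial (Fin 2) ℤ)) := σ.toMulEquiv.isDomain
    refine Groth.Agent.H15.WeilGor.Local.isGorensteinRing_of_locally_two (f.comp σ.toRingHom)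
      (hf.comp σ.surjective) fun M hM hle => ?_
    set N : Ideal (MvPolynomial (Fin 2) ℤ) := M.comap σ.symm.toRingHom with hN
    have : N.IsPrime := Ideal.IsPrime.comap _
    have hNle : RingHom.ker f ≤ N := fun z hz => hle (by
      show f (σ (σ.symm z)) = 0
      rw [σ.apply_symm_apply]; exact hz)
    suffices ∃ a b g : MvPolynomial (Fin 2) ℤ, a ≠ 0 ∧ (∀ x, a ∣ b * x → a ∣ x) ∧ a ∈ N ∧ b ∈ N ∧ g ∉ N ∧
        (∀ z ∈ RingHom.ker f, g * z ∈ Ideal.span {a, b}) ∧ g * a ∈ RingHom.ker f ∧ g * b ∈ RingHom.ker f by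
      obtain ⟨a, b, g, ha, hb, haN, hbN, hg, h1, h2, h3⟩ := this
      refine ⟨σ.symm a, σ.symm b, σ.symm g, reg_pair _ _ ((map_ne_zero_iff _ σ.symm.injective).mpr ha)
        (fun x hx => ?_), ?_, hg, fun z hz => ?_, ?_⟩
      · have hx' := map_dvd σ hx
        rw [map_mul, σ.apply_symm_apply, σ.apply_symm_apply] at hx'
        have := map_dvd σ.symm (hb _ hx')
        rwa [σ.symm_apply_apply] at this
      · rw [Ideal.span_le]
        rintro z (rfl | rfl)
        · exact haN
        · exact hbN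
      · obtain ⟨c₀, c₁, hcc⟩ := Ideal.mem_span_pair.mp (h1 (σ z) hz)
        refine Ideal.mem_span_pair.mpr ⟨σ.symm c₀, σ.symm c₁, σ.injective ?_⟩
        simp only [map_add, map_mul, σ.apply_symm_apply]
        exact hcc
      · rintro z (rfl | rfl) <;> show f (σ (σ.symm g * _)) = 0 <;>
          rw [map_mul, σ.apply_symm_apply, σ.apply_symm_apply]
        · exact h2
        · exact h3
    have hrelN : rel ∈ N := hNle (hkerf ▸ Ideal.subset_span (Or.inl rfl))
    have hku : h * (X 0 - C s) ∈ RingHom.ker f := hkerf ▸ Ideal.subset_span (Or.inr (Or.inl rfl))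
    have hkv : h * (X 1 - C s) ∈ RingHom.ker f := hkerf ▸ Ideal.subset_span (Or.inr (Or.inr rfl))
    have hkr : rel ∈ RingHom.ker f := hkerf ▸ Ideal.subset_span (Or.inl rfl)
    have hrel0 : rel ≠ 0 := fun h0 => by
      have := congrArg (MvPolynomial.eval (0 : Fin 2 → ℤ)) h0
      simp [hrel] at this
      exact hq0 this
    have hψ : ∀ b, Groth.Agent.S17984.psi q b ≠ 0 → ∀ x, rel ∣ b * x → rel ∣ x := by
      intro b hb x hx
      have h1 := Groth.Agent.S17984.psi_of_mem q (Ideal.mem_span_singleton.mpr hx)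
      rw [map_mul] at h1
      exact Ideal.mem_span_singleton.mp
        (Groth.Agent.S17984.psi_ker q hq0 x ((mul_eq_zero.mp h1).resolve_left hb))
    have hψh : Groth.Agent.S17984.psi q h ≠ 0 := by
      intro h0
      have h1 := Groth.Agent.S17984.psi_of_mem q hh
      rw [map_sub, map_mul, h0, mul_zero, zero_sub, neg_eq_zero, Groth.Agent.S17984.psi_aeval,
        Polynomial.toLaurent_eq_zero] at h1
      exact hPm.ne_zero h1
    have hψu : Groth.Agent.S17984.psi q (X 0 - C s) ≠ 0 := by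
      rw [show (X 0 - C s : MvPolynomial (Fin 2) ℤ) = Polynomial.aeval (X 0) (Polynomial.X - Polynomial.C s) by simp,
        Groth.Agent.S17984.psi_aeval, Polynomial.toLaurent_ne_zero]
      exact Polynomial.X_sub_C_ne_zero s
    have hgen : ∀ (g : MvPolynomial (Fin 2) ℤ) (a b : MvPolynomial (Fin 2) ℤ),
        g * rel ∈ Ideal.span {a, b} → g * (h * (X 0 - C s)) ∈ Ideal.span {a, b} →
        g * (h * (X 1 - C s)) ∈ Ideal.span {a, b} → ∀ z ∈ RingHom.ker f, g * z ∈ Ideal.span {a, b} := by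
      intro g a b h1 h2 h3 z hz
      rw [hkerf] at hz
      obtain ⟨c₀, w, hw, rfl⟩ := Ideal.mem_span_insert.mp hz
      obtain ⟨c₁, c₂, rfl⟩ := Ideal.mem_span_pair.mp hw
      rw [mul_add, mul_add, mul_left_comm, mul_left_comm g c₁, mul_left_comm g c₂]
      exact Ideal.add_mem _ (Ideal.mul_mem_left _ _ h1)
        (Ideal.add_mem _ (Ideal.mul_mem_left _ _ h2) (Ideal.mul_mem_left _ _ h3))
    by_cases hhN : h ∈ N
    swap
    · have huN : X 0 - C s ∈ N := (Ideal.IsPrime.mem_or_mem inferInstance (hNle hku)).resolve_left hhN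
      have hvN : X 1 - C s ∈ N := (Ideal.IsPrime.mem_or_mem inferInstance (hNle hkv)).resolve_left hhN
      refine ⟨X 0 - C s, X 1 - C s, h, fun h0 => hψu (by rw [h0, map_zero]), fun x hx => ?_, huN, hvN, hhN,
        hgen _ _ _ ?_ ?_ ?_, hku, hkv⟩
      · obtain ⟨y, hy⟩ := hx
        refine Groth.Agent.H15.WeilGor.Poly.dvd_of_subst_eq_zero s x ?_
        have h1 := congrArg (MvPolynomial.aeval (R := ℤ) ![Polynomial.C s, Polynomial.X]) hy
        simp at h1
        exact h1.resolve_left (Polynomial.X_sub_C_ne_zero s)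
      · refine Ideal.mul_mem_left _ _ ?_
        refine Ideal.mem_span_pair.mpr ⟨X 1, C s, ?_⟩
        rw [hrel, ← hs, map_pow]
        ring
      · exact Ideal.mul_mem_left _ _ (Ideal.mul_mem_left _ _ (Ideal.subset_span (Or.inl rfl)))
      · exact Ideal.mul_mem_left _ _ (Ideal.mul_mem_left _ _ (Ideal.subset_span (Or.inr rfl)))
    by_cases huN : X 0 - C s ∈ N
    swap
    · refine ⟨rel, h, X 0 - C s, hrel0, hψ h hψh, hrelN, hhN, huN, hgen _ _ _ ?_ ?_ ?_,
        Ideal.mul_mem_left _ _ hkr, mul_comm h _ ▸ hku⟩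
      · exact Ideal.mul_mem_left _ _ (Ideal.subset_span (Or.inl rfl))
      · exact Ideal.mul_mem_left _ _ (Ideal.mul_mem_right _ _ (Ideal.subset_span (Or.inr rfl)))
      · exact Ideal.mul_mem_left _ _ (Ideal.mul_mem_right _ _ (Ideal.subset_span (Or.inr rfl)))
    by_cases hvN : X 1 - C s ∈ N
    swap
    · refine ⟨rel, h, X 1 - C s, hrel0, hψ h hψh, hrelN, hhN, hvN, hgen _ _ _ ?_ ?_ ?_,
        Ideal.mul_mem_left _ _ hkr, mul_comm h _ ▸ hkv⟩
      · exact Ideal.mul_mem_left _ _ (Ideal.subset_span (Or.inl rfl))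
      · exact Ideal.mul_mem_left _ _ (Ideal.mul_mem_right _ _ (Ideal.subset_span (Or.inr rfl)))
      · exact Ideal.mul_mem_left _ _ (Ideal.mul_mem_right _ _ (Ideal.subset_span (Or.inr rfl)))
    have hX0 : (X 0 : MvPolynomial (Fin 2) ℤ) ∉ N := by
      intro h0
      have hsN : (C s : MvPolynomial (Fin 2) ℤ) ∈ N := by
        simpa using Ideal.sub_mem _ h0 huN
      have h1N : (X 1 : MvPolynomial (Fin 2) ℤ) ∈ N := by
        simpa using Ideal.add_mem _ hvN hsN
      have hqN : (C q : MvPolynomial (Fin 2) ℤ) ∈ N := by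
        simpa [hrel] using Ideal.sub_mem _ (Ideal.mul_mem_right (X 1) _ h0) hrelN
      have hpN : (C (p : ℤ) : MvPolynomial (Fin 2) ℤ) ∈ N := by
        rw [hqdef, map_pow] at hqN
        exact Ideal.IsPrime.mem_of_pow_mem inferInstance _ hqN
      have hcN : (C c : MvPolynomial (Fin 2) ℤ) ∈ N := by
        have hle' : Ideal.span {X 0 - C 0, X 1 - C (0 : ℤ)} ≤ N := by
          rw [Ideal.span_le]
          rintro z (rfl | rfl) <;> simpa
        simpa [hc] using Ideal.sub_mem _ hhN (hle' (Groth.Agent.H15.WeilGor.Poly.sub_eval_mem 0 0 h))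
      obtain ⟨x, y, hxy⟩ := (hpZ.coprime_iff_not_dvd.mpr hpc : IsCoprime (p : ℤ) c)
      refine (Ideal.IsPrime.ne_top (I := N) inferInstance) ((Ideal.eq_top_iff_one _).mpr ?_)
      have := Ideal.add_mem _ (Ideal.mul_mem_left _ (C x) hpN) (Ideal.mul_mem_left _ (C y) hcN)
      rwa [← map_mul, ← map_mul, ← map_add, hxy, map_one] at this
    refine ⟨rel, h * (X 0 - C s), X 0, hrel0, hψ _ (by rw [map_mul]; exact mul_ne_zero hψh hψu), hrelN,
      hNle hku, hX0, hgen _ _ _ ?_ ?_ ?_, Ideal.mul_mem_left _ _ hkr, Ideal.mul_mem_left _ _ hku⟩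
    · exact Ideal.mul_mem_left _ _ (Ideal.subset_span (Or.inl rfl))
    · exact Ideal.mul_mem_left _ _ (Ideal.subset_span (Or.inr rfl))
    · refine Ideal.mem_span_pair.mpr ⟨h, -C s, ?_⟩
      rw [hrel, ← hs, map_pow]
      ring

end Groth.Agent.S17986
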