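import Groth.Statements.S17993
import Groth.Agent.S16843
import Groth.Agent.S16844
import Groth.Agent.H63.Intertwine
import Groth.Agent.H63.TateEnd
import Mathlib.RingTheory.IntegralClosure.IntegrallyClosed

set_option autoImplicit false
universe u
open CategoryTheory MonoidalCategory CartesianMonoidalCategory MonObj GrpObj AlgebraicGeometry MvPolynomial
open AbVar

namespace Groth.Agent.S17993
open UniqueFactorizationMonoid

/-- The ℤ-rank of M_w(A) = Hom(A, A_w) is 2 dim A, in the following setting: let p be a prime and k a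
field with p elements. Let (π_j) be a finite family of pairwise nonconjugate nonreal Weil p-numbers
(π_j in a field K_j of characteristic zero, integral over ℤ with minimal polynomial P_j, all complex
roots of P_j of absolute value √p and none real, P_i ≠ P_j for i ≠ j), P_w = ∏_j P_j, and R_w ⊆ ∏_j
K_j the minimal central order, the image of ℤ[F, V] → ∏_j K_j, F ↦ (π_j), V ↦ (p/π_j). An abelian
variety over k means a proper, geometrically integral commutative group scheme over k, taken with
its p-Frobenius endomorphism π (the identity on points and the p-th power map on sections; a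
homomorphism); it lies in AV_w when P_w(π) = 0 in its endomorphism ring. Let A_w be an abelian
variety over k together with a ring isomorphism ρ : R_w ≅ End(A_w) sending the class of F to the
Frobenius of A_w (so A_w lies in AV_w and its endomorphism ring is the minimal central order);
Hom(X, A_w) is a module over End(A_w) ≅ R_w by postcomposition. Then for every abelian variety A in
AV_w, of dimension g, the group Hom(A, A_w) is a finitely generated free ℤ-module of rank 2g. -/
theorem result (p : ℕ) [Fact p.Prime] (k : Type u) [Field k] [Finite k] (hk : Nat.card k = p)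
    (J : Type) [Fintype J] (K : J → Type) [∀ j, Field (K j)] [∀ j, CharZero (K j)] (ϖ : ∀ j, K j)
    (hint : ∀ j, IsIntegral ℤ (ϖ j))
    (hweil : ∀ j, ∀ z ∈ (minpoly ℤ (ϖ j)).aroots ℂ, ‖z‖ = Real.sqrt p)
    (hnr : ∀ j, ∀ z ∈ (minpoly ℤ (ϖ j)).aroots ℂ, z.im ≠ 0)
    (hinj : ∀ i j, minpoly ℤ (ϖ i) = minpoly ℤ (ϖ j) → i = j)
    (Aw : Over (Spec (CommRingCat.of k))) [GrpObj Aw] [IsCommMonObj Aw] [IsProper Aw.hom] [GeometricallyIntegral Aw.hom]
    (πw : Aw ⟶ Aw) [IsMonHom πw] (hπwb : πw.left.base = 𝟙 _) (hπwle : ∀ U : Aw.left.Opens, U ≤ πw.left ⁻¹ᵁ U)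
    (hπwapp : ∀ (U : Aw.left.Opens) (s : Γ(Aw.left, U)), (πw.left.appLE U U (hπwle U)).hom s = s ^ p)
    (ρw : (MvPolynomial.aeval ![fun j => ϖ j, fun j => (p : K j) / ϖ j] : MvPolynomial (Fin 2) ℤ →ₐ[ℤ] ((j : J) → K j)).range ≃+* EndAV.End Aw)
    (hρw : ρw ⟨(MvPolynomial.aeval ![fun j => ϖ j, fun j => (p : K j) / ϖ j] : MvPolynomial (Fin 2) ℤ →ₐ[ℤ] ((j : J) → K j)) (X 0), AlgHom.mem_range_self _ _⟩ = EndAV.End.of πw)
    (A : Over (Spec (CommRingCat.of k))) [GrpObj A] [IsCommMonObj A] [IsProper A.hom] [GeometricallyIntegral A.hom]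
    (πA : A ⟶ A) [IsMonHom πA] (hπAb : πA.left.base = 𝟙 _) (hπAle : ∀ U : A.left.Opens, U ≤ πA.left ⁻¹ᵁ U)
    (hπAapp : ∀ (U : A.left.Opens) (s : Γ(A.left, U)), (πA.left.appLE U U (hπAle U)).hom s = s ^ p)
    (hPA : Polynomial.aeval (EndAV.End.of πA) (∏ j, minpoly ℤ (ϖ j)) = 0)
    (g : ℕ) (hg : topologicalKrullDim A.left = g) :
    Module.Free ℤ (EndAV.Hom A Aw) ∧ Module.Finite ℤ (EndAV.Hom A Aw) ∧
      Module.finrank ℤ (EndAV.Hom A Aw) = 2 * g := by
  classical
  let Ω := AlgebraicClosure k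
  haveI : IsAlgClosed Ω := inferInstance
  obtain ⟨l, hlp, hl⟩ := H63.HomLattice.exists_prime_ne_zero k
  haveI : Fact l.Prime := ⟨hlp⟩
  haveI : IsIntegral A.left := GeometricallyIntegral.isIntegral_of_subsingleton A.hom
  haveI : IsIntegral Aw.left := GeometricallyIntegral.isIntegral_of_subsingleton Aw.hom
  obtain ⟨gw, hgw⟩ := H63.AVIsogeny.exists_dim (A := Aw)
  obtain ⟨a1, a2, a3⟩ := H63.HomLattice.tate_free_finite Ω A l hl hg
  obtain ⟨b1, b2, -⟩ := H63.HomLattice.tate_free_finite Ω Aw l hl hgw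
  haveI := a1; haveI := a2; haveI := b1; haveI := b2
  refine ⟨H63.HomLattice.moduleFree Ω A Aw l hl, H63.HomLattice.moduleFinite Ω A Aw l hl, ?_⟩
  have hAapp : ∀ (U : A.left.Opens) (s : Γ(A.left, U)), (πA.left.appLE U U (hπAle U)).hom s = s ^ Nat.card k :=
    fun U s => by rw [hk]; exact hπAapp U s
  have hwapp : ∀ (U : Aw.left.Opens) (s : Γ(Aw.left, U)), (πw.left.appLE U U (hπwle U)).hom s = s ^ Nat.card k :=
    fun U s => by rw [hk]; exact hπwapp U s
  obtain ⟨P, hPm, hPd, -, hP'⟩ := H63.TateEnd.exists_charpoly Ω hg (EndAV.End.of πA)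
  obtain ⟨Q, hQm, -, -, hQ'⟩ := H63.TateEnd.exists_charpoly Ω hgw (EndAV.End.of πw)
  have hP := hP' l hl
  have hQ := hQ' l hl
  rw [S16843.result k Ω l hl A Aw πA hπAb hπAle hAapp πw hπwb hπwle hwapp P hP Q hQ]
  -- the polynomial of `Aw` is squarefree and divisible by every `minpoly`
  have hQ0 : Polynomial.aeval (EndAV.End.of πw) Q = 0 := H63.End0Basic.aeval_eq_zero Ω hgw _ Q hQ'
  have hsf : Squarefree (Q.map (Int.castRingHom ℚ)) :=
    (S16844.result k Ω l hl Aw gw hgw πw hπwb hπwle hwapp Q hQ).1.1 fun a b => by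
      obtain ⟨x, rfl⟩ := ρw.surjective a
      obtain ⟨y, rfl⟩ := ρw.surjective b
      rw [← map_mul, ← map_mul]
      exact congrArg ρw (Subtype.ext (mul_comm x.1 y.1))
  have hdvdQ : ∀ j, minpoly ℤ (ϖ j) ∣ Q := by
    intro j
    refine minpoly.isIntegrallyClosed_dvd (hint j) ?_
    let ev : (MvPolynomial.aeval ![fun j => ϖ j, fun j => (p : K j) / ϖ j] :
        MvPolynomial (Fin 2) ℤ →ₐ[ℤ] ((j : J) → K j)).range →+* K j :=
      (Pi.evalRingHom K j).comp (Subalgebra.val _).toRingHom
    have h := congrArg (ev.comp ρw.symm.toRingHom) hQ0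
    rw [map_zero, Polynomial.aeval_def, Polynomial.hom_eval₂] at h
    rw [Polynomial.aeval_def, ← h]
    exact congrArg₂ (fun φ z => Polynomial.eval₂ φ z Q) (RingHom.ext_int _ _)
      (by rw [← hρw]; simp [ev])
  -- every factor of `P` divides that of `Aw`
  set L := (AbDual.tateMapₗ (l := l) (T := SGA7.pt (K := k) Ω) πA).baseChange ℚ_[l]
  have hLss : Module.End.IsSemisimple L := S14943.result k Ω l hl A πA hπAb hπAle hAapp
  set W := ∏ j, minpoly ℤ (ϖ j)
  have hWL : Polynomial.aeval L ((W.map (Int.castRingHom ℚ)).map (algebraMap ℚ ℚ_[l])) = 0 := by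
    rw [Polynomial.map_map, Polynomial.aeval_def, Polynomial.eval₂_map]
    have h := congrArg ((Module.End.baseChangeHom ℤ_[l] ℚ_[l] (AbDual.TateMod A l (SGA7.pt (K := k) Ω))).toRingHom.comp
      (EndAV.End.tateRep (A := A) l (SGA7.pt (K := k) Ω))) hPA
    rw [map_zero, Polynomial.aeval_def, Polynomial.hom_eval₂] at h
    refine Eq.trans ?_ h
    exact congrArg₂ (fun φ z => Polynomial.eval₂ φ z W) (RingHom.ext_int _ _) rfl
  have hne : (P.map (Int.castRingHom ℚ)) ≠ 0 := (hPm.map _).ne_zero
  have hneQ : (Q.map (Int.castRingHom ℚ)) ≠ 0 := (hQm.map _).ne_zero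
  have hcount : ∀ q ∈ (normalizedFactors (P.map (Int.castRingHom ℚ))).toFinset,
      (normalizedFactors (Q.map (Int.castRingHom ℚ))).count q = 1 := by
    intro q hq
    rw [Multiset.mem_toFinset] at hq
    have hqi := irreducible_of_normalized_factor q hq
    have hqW : q ∣ W.map (Int.castRingHom ℚ) := by
      by_contra hn
      obtain ⟨a, b, hab⟩ := (hqi.coprime_iff_not_dvd.2 hn).map (Polynomial.mapRingHom (algebraMap ℚ ℚ_[l]))
      simp only [Polynomial.coe_mapRingHom] at hab
      have hqP : q.map (algebraMap ℚ ℚ_[l]) ∣ LinearMap.charpoly L := by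
        rw [LinearMap.charpoly_baseChange,
          show AbDual.tateMapₗ (l := l) (T := SGA7.pt (K := k) Ω) πA = AbDual.tateMapₗ (l := l) (T := SGA7.pt (K := k) Ω) (EndAV.End.of πA).toHom from rfl,
          hP, Polynomial.map_map, RingHom.ext_int ((algebraMap ℤ_[l] ℚ_[l]).comp (Int.castRingHom ℤ_[l]))
          ((algebraMap ℚ ℚ_[l]).comp (Int.castRingHom ℚ)), ← Polynomial.map_map]
        exact Polynomial.map_dvd _ (dvd_of_mem_normalizedFactors hq)
      obtain ⟨r, hr, hrq⟩ := WfDvdMonoid.exists_irreducible_factor (a := q.map (algebraMap ℚ ℚ_[l]))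
        (fun hu => hqi.not_isUnit ((Polynomial.isUnit_map _).1 hu))
        ((Polynomial.map_ne_zero_iff (algebraMap ℚ ℚ_[l]).injective).2 hqi.ne_zero)
      obtain ⟨r', hr', hrr'⟩ := exists_mem_normalizedFactors_of_dvd (LinearMap.charpoly_monic L).ne_zero hr (hrq.trans hqP)
      have hr'i := irreducible_of_normalized_factor r' hr'
      have hr'm : r'.Monic := by
        rw [← normalize_normalized_factor r' hr']
        exact Polynomial.monic_normalize hr'i.ne_zero
      have hk' := H63.Intertwine.finrank_ker_aeval r' hr'i hr'm _ _ L hLss rfl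
      obtain ⟨c, hc⟩ := hrr'.symm.dvd.trans hrq
      have hker : LinearMap.ker (Polynomial.aeval L r') = ⊥ := by
        refine (LinearMap.ker_eq_bot').2 fun v hv => ?_
        have h := LinearMap.congr_fun (congrArg (Polynomial.aeval L) hab) v
        rw [hc, show a * (r' * c) = a * c * r' by ring] at h
        simp only [map_add, map_mul, hWL, mul_zero, add_zero, map_one] at h
        simpa [Module.End.mul_apply, hv] using h.symm
      rw [hker, finrank_bot] at hk'
      have := Nat.mul_pos (Multiset.count_pos.2 hr') hr'i.natDegree_pos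
      omega
    rw [Polynomial.map_prod] at hqW
    obtain ⟨j, -, hj⟩ := hqi.prime.exists_mem_finset_dvd hqW
    obtain ⟨q', hq', hqq'⟩ := exists_mem_normalizedFactors_of_dvd hneQ hqi
      (hj.trans (Polynomial.map_dvd _ (hdvdQ j)))
    have e : q = q' := by
      rw [← normalize_normalized_factor q hq, ← normalize_normalized_factor q' hq']
      exact normalize_eq_normalize hqq'.dvd hqq'.symm.dvd
    exact Multiset.count_eq_one_of_mem ((squarefree_iff_nodup_normalizedFactors hneQ).1 hsf) (e ▸ hq')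
  have hp := prod_normalizedFactors_eq hne
  rw [(hPm.map _).normalize_eq_self] at hp
  rw [← hPd, ← hPm.natDegree_map (Int.castRingHom ℚ), ← hp, Polynomial.natDegree_multiset_prod _
    (zero_notMem_normalizedFactors _), Finset.sum_multiset_map_count, hp]
  refine Finset.sum_congr rfl fun q hq => ?_
  rw [hcount q hq, _root_.mul_one]
  rfl

end Groth.Agent.S17993
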