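import Groth.Statements.S17999
import Groth.Agent.Lib.PicSurj99
-- import your own Groth.Agent.* helpers here

set_option autoImplicit false
universe u
open MvPolynomial
open WeilNum

namespace Groth.Agent.S17999

/-- The case of finite sets of Weil numbers; let p be a prime, e ≥ 1 and q = p^e; let (π_j)_{j ∈ J} be a
finite family of pairwise nonconjugate Weil q-numbers (π_j in a field K_j of characteristic zero,
integral over ℤ with minimal polynomial P_j, all complex roots of P_j of absolute value √q, P_i ≠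
P_j for i ≠ j), and let e : J' → J be an injective map selecting a subfamily. Let I_w, resp. I_v, be
the kernel of ℤ[F, V] → ∏_{j ∈ J} K_j, resp. → ∏_{j' ∈ J'} K_{e(j')}, sending F ↦ (π_j) and V ↦
(q/π_j); then I_w ⊆ I_v and ℤ[F,V]/I_w → ℤ[F,V]/I_v is the natural surjection R_w → R_v of minimal
central orders. Then the induced homomorphism of Picard groups Pic(R_w) → Pic(R_v) is surjective.
The published statement concerns the Picard groups of the pro-rings attached to arbitrary subsets V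
⊆ W of Weil q-number classes; only the case of finite sets is stated here. -/
theorem result (p e : ℕ) [Fact p.Prime] (he : 0 < e)
    (J J' : Type) [Fintype J] [Fintype J'] (emb : J' → J) (hemb : Function.Injective emb)
    (K : J → Type u) [∀ j, Field (K j)] [∀ j, CharZero (K j)] (ϖ : ∀ j, K j)
    (hint : ∀ j, IsIntegral ℤ (ϖ j))
    (hweil : ∀ j, ∀ z ∈ (minpoly ℤ (ϖ j)).aroots ℂ, ‖z‖ = Real.sqrt ((p : ℝ) ^ e))
    (hinj : ∀ i j, minpoly ℤ (ϖ i) = minpoly ℤ (ϖ j) → i = j)
    (hle : RingHom.ker (MvPolynomial.aeval ![fun j => ϖ j, fun j => ((p : K j) ^ e) / ϖ j] :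
          MvPolynomial (Fin 2) ℤ →ₐ[ℤ] ((j : J) → K j)) ≤
        RingHom.ker (MvPolynomial.aeval ![fun j' => ϖ (emb j'), fun j' => ((p : K (emb j')) ^ e) / ϖ (emb j')] :
          MvPolynomial (Fin 2) ℤ →ₐ[ℤ] ((j' : J') → K (emb j')))) :
    Function.Surjective (CommRing.Pic.mapRingHom (Ideal.Quotient.factor hle)) := by
  classical
  set ψw := (MvPolynomial.aeval ![fun j => ϖ j, fun j => ((p : K j) ^ e) / ϖ j] :
          MvPolynomial (Fin 2) ℤ →ₐ[ℤ] ((j : J) → K j)) with hψw
  set ψv := (MvPolynomial.aeval ![fun j' => ϖ (emb j'), fun j' => ((p : K (emb j')) ^ e) / ϖ (emb j')] :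
          MvPolynomial (Fin 2) ℤ →ₐ[ℤ] ((j' : J') → K (emb j'))) with hψv
  have hcompat : ∀ t j', ψv t j' = ψw t (emb j') := by
    intro t j'
    induction t using MvPolynomial.induction_on with
    | C z => simp
    | add a b ha hb => simp [map_add, ha, hb]
    | mul_X a i ha =>
      rw [map_mul, map_mul, Pi.mul_apply, Pi.mul_apply, ha]
      congr 1
      fin_cases i <;> simp [hψw, hψv]
  have hmin : ∀ j, Irreducible (minpoly ℤ (ϖ j)) ∧ (minpoly ℤ (ϖ j)).Monic := fun j =>
    ⟨minpoly.irreducible (hint j), minpoly.monic (hint j)⟩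
  have hdiv : ∀ j, IsIntegral ℤ (((p : K j) ^ e) / ϖ j) := by
    intro j
    have h := Groth.Agent.PicSurj99.isIntegral_div (ϖ j) (hint j) (p ^ e)
      (pow_ne_zero _ (Fact.out : p.Prime).ne_zero)
      (fun z hz => by rw [hweil j z hz]; push_cast; rfl)
    simpa using h
  have hcoord : ∀ t j', IsIntegral ℤ (ψv t j') := by
    intro t j'
    induction t using MvPolynomial.induction_on with
    | C z =>
      rw [show ψv (MvPolynomial.C z) j' = algebraMap ℤ (K (emb j')) z by simp]
      exact isIntegral_algebraMap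
    | add a b ha hb => rw [map_add, Pi.add_apply]; exact ha.add hb
    | mul_X a i ha =>
      rw [map_mul, Pi.mul_apply]
      refine ha.mul ?_
      fin_cases i
      · simpa [hψv] using hint (emb j')
      · simpa [hψv] using hdiv (emb j')
  have hzero : ∀ t, (∀ j', ψv t j' = 0) →
      Ideal.Quotient.mk (RingHom.ker ψv) t = 0 := fun t ht =>
    Ideal.Quotient.eq_zero_iff_mem.mpr (funext ht)
  haveI : Algebra.IsIntegral ℤ (MvPolynomial (Fin 2) ℤ ⧸ RingHom.ker ψv) := by
    refine ⟨fun x => ?_⟩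
    obtain ⟨t, rfl⟩ := Ideal.Quotient.mk_surjective x
    refine ⟨∏ j', minpoly ℤ (ψv t j'), Polynomial.monic_prod_of_monic _ _
      (fun j' _ => minpoly.monic (hcoord t j')), ?_⟩
    rw [← Polynomial.aeval_def, ← Ideal.Quotient.mkₐ_eq_mk ℤ, Polynomial.aeval_algHom_apply]
    refine hzero _ fun j' => ?_
    rw [← Polynomial.aeval_algHom_apply ψv]
    change Pi.evalAlgHom ℤ _ j' (Polynomial.aeval (ψv t) _) = 0
    rw [← Polynomial.aeval_algHom_apply, map_prod]
    exact Finset.prod_eq_zero (Finset.mem_univ j') (minpoly.aeval ℤ _)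
  haveI : Module.Finite ℤ (MvPolynomial (Fin 2) ℤ ⧸ RingHom.ker ψv) := Algebra.IsIntegral.finite
  let t₀ : MvPolynomial (Fin 2) ℤ := ∏ i ∈ Finset.univ.filter (fun i => i ∉ Set.range emb),
    Polynomial.aeval (MvPolynomial.X 0) (minpoly ℤ (ϖ i))
  have ht₀ : ∀ j, ψw t₀ j = ∏ i ∈ Finset.univ.filter (fun i => i ∉ Set.range emb),
      Polynomial.aeval (ϖ j) (minpoly ℤ (ϖ i)) := by
    intro j
    simp only [t₀, map_prod, Finset.prod_apply]
    refine Finset.prod_congr rfl fun i _ => ?_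
    rw [← Polynomial.aeval_algHom_apply ψw]
    change Pi.evalAlgHom ℤ _ j (Polynomial.aeval _ _) = _
    rw [← Polynomial.aeval_algHom_apply]
    simp [hψw]
  have hne : ∀ j', ψv t₀ j' ≠ 0 := by
    intro j'
    rw [hcompat, ht₀, Finset.prod_ne_zero_iff]
    intro i hi h0
    have hd := minpoly.isIntegrallyClosed_dvd (hint (emb j')) h0
    have he' := Polynomial.eq_of_monic_of_associated (hmin (emb j')).2 (hmin i).2
      ((hmin (emb j')).1.associated_of_dvd (hmin i).1 hd)
    exact (Finset.mem_filter.mp hi).2 ⟨j', hinj _ _ he'⟩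
  let Q : Polynomial ℤ := ∏ j', minpoly ℤ (ψv t₀ j')
  have ha : Q.coeff 0 ≠ 0 := by
    rw [Polynomial.coeff_zero_eq_eval_zero, Polynomial.eval_prod, Finset.prod_ne_zero_iff]
    intro j' _
    rw [← Polynomial.coeff_zero_eq_eval_zero]
    intro h0
    have hX : Polynomial.X ∣ minpoly ℤ (ψv t₀ j') := Polynomial.X_dvd_iff.mpr h0
    have hPX := Polynomial.eq_of_monic_of_associated Polynomial.monic_X
      (minpoly.monic (hcoord t₀ j'))
      (Polynomial.irreducible_X.associated_of_dvd (minpoly.irreducible (hcoord t₀ j')) hX)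
    have h1 := minpoly.aeval ℤ (ψv t₀ j')
    rw [← hPX, Polynomial.aeval_X] at h1
    exact hne j' h1
  let eS := Ideal.Quotient.mk (RingHom.ker ψv) t₀
  have hadvd : eS ∣ ((Q.coeff 0 : ℤ) : MvPolynomial (Fin 2) ℤ ⧸ RingHom.ker ψv) := by
    have h0 : Polynomial.aeval eS Q = 0 := by
      show Polynomial.aeval (Ideal.Quotient.mkₐ ℤ (RingHom.ker ψv) t₀) Q = 0
      rw [Polynomial.aeval_algHom_apply, Ideal.Quotient.mkₐ_eq_mk]
      refine hzero _ fun j' => ?_
      rw [← Polynomial.aeval_algHom_apply ψv]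
      change Pi.evalAlgHom ℤ _ j' (Polynomial.aeval (ψv t₀) Q) = 0
      rw [← Polynomial.aeval_algHom_apply, map_prod]
      exact Finset.prod_eq_zero (Finset.mem_univ j') (minpoly.aeval ℤ _)
    obtain ⟨Q', hQ'⟩ := Polynomial.X_dvd_sub_C (p := Q)
    have h1 := congrArg (Polynomial.aeval eS) hQ'
    rw [map_sub, h0, Polynomial.aeval_C, map_mul, Polynomial.aeval_X, zero_sub,
      show algebraMap ℤ (MvPolynomial (Fin 2) ℤ ⧸ RingHom.ker ψv) (Q.coeff 0) = ((Q.coeff 0 : ℤ) : MvPolynomial (Fin 2) ℤ ⧸ RingHom.ker ψv) from eq_intCast _ _] at h1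
    exact (dvd_neg).mp ⟨_, h1⟩
  let c : J' → Ideal (MvPolynomial (Fin 2) ℤ ⧸ RingHom.ker ψv) := fun j' =>
    RingHom.ker ((Pi.evalRingHom (fun j' => K (emb j')) j').comp (RingHom.kerLift ψv.toRingHom))
  have hcprime : ∀ j', (c j').IsPrime := fun j' => RingHom.ker_isPrime _
  choose mx hmx hmxle using fun j' => Ideal.exists_le_maximal (c j') (hcprime j').ne_top
  let T : Finset (Ideal (MvPolynomial (Fin 2) ℤ ⧸ RingHom.ker ψv)) :=
    (Groth.Agent.PicSurj99.finite_maximals_containing (Q.coeff 0) ha).toFinset ∪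
      Finset.univ.image mx
  have hT : ∀ m ∈ T, m.IsMaximal := by
    intro m hm
    rcases Finset.mem_union.mp hm with hm | hm
    · exact ((Set.Finite.mem_toFinset _).mp hm).1
    · obtain ⟨j', -, rfl⟩ := Finset.mem_image.mp hm
      exact hmx j'
  letI : Algebra (MvPolynomial (Fin 2) ℤ ⧸ RingHom.ker ψw)
      (MvPolynomial (Fin 2) ℤ ⧸ RingHom.ker ψv) := (Ideal.Quotient.factor hle).toAlgebra
  show Function.Surjective (CommRing.Pic.mapAlgebra (MvPolynomial (Fin 2) ℤ ⧸ RingHom.ker ψw)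
    (MvPolynomial (Fin 2) ℤ ⧸ RingHom.ker ψv))
  intro L
  obtain ⟨Jd, ⟨eJ⟩, hJ⟩ := Groth.Agent.PicSurj99.exists_ideal_avoiding (L := L) T hT c hcprime
    (by
      refine eq_bot_iff.mpr fun x hx => ?_
      obtain ⟨t, rfl⟩ := Ideal.Quotient.mk_surjective x
      exact hzero t fun j' => Submodule.mem_iInf _ |>.mp hx j')
    (fun j' => ⟨mx j', Finset.mem_union_right _ (Finset.mem_image_of_mem _ (Finset.mem_univ j')),
      hmxle j'⟩)
  rw [← CommRing.Pic.mk_eq_self (M := L)]
  refine Groth.Agent.PicSurj99.mem_range_mapAlgebra (Ideal.Quotient.factor_surjective hle)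
    (Ideal.Quotient.mk (RingHom.ker ψw) t₀) ?_ L Jd eJ ?_
  · intro x hx
    obtain ⟨t, rfl⟩ := Ideal.Quotient.mk_surjective x
    rw [RingHom.mem_ker] at hx
    have hx' : t ∈ RingHom.ker ψv := Ideal.Quotient.eq_zero_iff_mem.mp hx
    rw [← map_mul]
    refine Ideal.Quotient.eq_zero_iff_mem.mpr (funext fun j => ?_)
    rw [map_mul, Pi.mul_apply, Pi.zero_apply]
    by_cases hj : j ∈ Set.range emb
    · obtain ⟨j', rfl⟩ := hj
      rw [← hcompat t j', show ψv t = 0 from hx', Pi.zero_apply, mul_zero]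
    · rw [ht₀, Finset.prod_eq_zero (Finset.mem_filter.mpr ⟨Finset.mem_univ j, hj⟩)
        (minpoly.aeval ℤ _), zero_mul]
  · by_contra htop
    obtain ⟨m, hm, hle'⟩ := Ideal.exists_le_maximal _ htop
    refine hJ m (Finset.mem_union_left _ ((Set.Finite.mem_toFinset _).mpr ⟨hm, ?_⟩))
      (le_trans le_sup_left hle')
    exact m.mem_of_dvd hadvd (hle' (Ideal.mem_sup_right (Ideal.mem_span_singleton_self eS)))

end Groth.Agent.S17999
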