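import Groth.Statements.S18000
import Groth.Agent.S17993
import Groth.Agent.H63.TateCor.Separate
import Groth.Agent.H63.DegreePoly
import Groth.Agent.H63.KernelSubAV
import Groth.Agent.H63.QuasiSection
import Groth.Agent.H4.TorsionDense
import Groth.Agent.H2.FlatHom.Field
import Mathlib.GroupTheory.FiniteAbelian.Basic

set_option autoImplicit false
universe u
open CategoryTheory MonoidalCategory CartesianMonoidalCategory MonObj GrpObj AlgebraicGeometry MvPolynomial
open AbVar

namespace Groth.Agent.S18000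

/-- Stated for abelian varieties with Weil support in a fixed finite set w, where the lattice functor is
M_w = Hom(−, A_w); let p be a prime and k a field with p elements. Let (π_j) be a finite family of
pairwise nonconjugate nonreal Weil p-numbers (π_j in a field K_j of characteristic zero, integral
over ℤ with minimal polynomial P_j, all complex roots of P_j of absolute value √p and none real, P_i
≠ P_j for i ≠ j), P_w = ∏_j P_j, and R_w ⊆ ∏_j K_j the minimal central order, the image of ℤ[F, V] →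
∏_j K_j, F ↦ (π_j), V ↦ (p/π_j). An abelian variety over k means a proper, geometrically integral
commutative group scheme over k, taken with its p-Frobenius endomorphism π (the identity on points
and the p-th power map on sections; a homomorphism); it lies in AV_w when P_w(π) = 0 in its
endomorphism ring. Let A_w be an abelian variety over k together with a ring isomorphism ρ : R_w ≅
End(A_w) sending the class of F to the Frobenius of A_w (so A_w lies in AV_w and its endomorphism
ring is the minimal central order); Hom(X, A_w) is a module over End(A_w) ≅ R_w by postcomposition.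
Let A, B lie in AV_w and let f : B → A be a homomorphism. Then f is an isogeny — its underlying
morphism of schemes is finite and surjective — if and only if the map Hom(A, A_w) → Hom(B, A_w), φ ↦
(f followed by φ), is an isomorphism after tensoring with ℚ, that is, injective with finite
cokernel. -/
theorem result (p : ℕ) [Fact p.Prime] (k : Type u) [Field k] [Finite k] (hk : Nat.card k = p)
    (J : Type) [Fintype J] (K : J → Type) [∀ j, Field (K j)] [∀ j, CharZero (K j)] (ϖ : ∀ j, K j)
    (hint : ∀ j, IsIntegral ℤ (ϖ j))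
    (hweil : ∀ j, ∀ z ∈ (minpoly ℤ (ϖ j)).aroots ℂ, ‖z‖ = Real.sqrt p)
    (hnr : ∀ j, ∀ z ∈ (minpoly ℤ (ϖ j)).aroots ℂ, z.im ≠ 0)
    (hinj : ∀ i j, minpoly ℤ (ϖ i) = minpoly ℤ (ϖ j) → i = j)
    (Aw : Over (Spec (CommRingCat.of k))) [GrpObj Aw] [IsCommMonObj Aw] [IsProper Aw.hom] [GeometricallyIntegral Aw.hom]
    (πw : Aw ⟶ Aw) [IsMonHom πw] (hπwb : πw.left.base = 𝟙 _) (hπwle : ∀ U : Aw.left.Opens, U ≤ πw.left ⁻¹ᵁ U)
    (hπwapp : ∀ (U : Aw.left.Opens) (s : Γ(Aw.left, U)), (πw.left.appLE U U (hπwle U)).hom s = s ^ p)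
    (ρw : (MvPolynomial.aeval ![fun j => ϖ j, fun j => (p : K j) / ϖ j] : MvPolynomial (Fin 2) ℤ →ₐ[ℤ] ((j : J) → K j)).range ≃+* EndAV.End Aw)
    (hρw : ρw ⟨(MvPolynomial.aeval ![fun j => ϖ j, fun j => (p : K j) / ϖ j] : MvPolynomial (Fin 2) ℤ →ₐ[ℤ] ((j : J) → K j)) (X 0), AlgHom.mem_range_self _ _⟩ = EndAV.End.of πw)
    (A : Over (Spec (CommRingCat.of k))) [GrpObj A] [IsCommMonObj A] [IsProper A.hom] [GeometricallyIntegral A.hom]
    (πA : A ⟶ A) [IsMonHom πA] (hπAb : πA.left.base = 𝟙 _) (hπAle : ∀ U : A.left.Opens, U ≤ πA.left ⁻¹ᵁ U)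
    (hπAapp : ∀ (U : A.left.Opens) (s : Γ(A.left, U)), (πA.left.appLE U U (hπAle U)).hom s = s ^ p)
    (hPA : Polynomial.aeval (EndAV.End.of πA) (∏ j, minpoly ℤ (ϖ j)) = 0)
    (B : Over (Spec (CommRingCat.of k))) [GrpObj B] [IsCommMonObj B] [IsProper B.hom] [GeometricallyIntegral B.hom]
    (πB : B ⟶ B) [IsMonHom πB] (hπBb : πB.left.base = 𝟙 _) (hπBle : ∀ U : B.left.Opens, U ≤ πB.left ⁻¹ᵁ U)
    (hπBapp : ∀ (U : B.left.Opens) (s : Γ(B.left, U)), (πB.left.appLE U U (hπBle U)).hom s = s ^ p)
    (hPB : Polynomial.aeval (EndAV.End.of πB) (∏ j, minpoly ℤ (ϖ j)) = 0)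
    (f : EndAV.Hom B A) :
    (IsFinite f.toHom.left ∧ Surjective f.toHom.left) ↔
      (Function.Injective (Preadditive.leftComp (CommGrp.mk Aw) f) ∧
        Finite (EndAV.Hom B Aw ⧸ (Preadditive.leftComp (CommGrp.mk Aw) f).range)) := by
  classical
  let Ω := AlgebraicClosure k
  haveI : IsAlgClosed Ω := inferInstance
  obtain ⟨l, hlp, hl⟩ := H63.HomLattice.exists_prime_ne_zero k
  haveI : Fact l.Prime := ⟨hlp⟩
  haveI : IsIntegral A.left := GeometricallyIntegral.isIntegral_of_subsingleton A.hom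
  haveI : IsIntegral B.left := GeometricallyIntegral.isIntegral_of_subsingleton B.hom
  haveI : IsIntegral Aw.left := GeometricallyIntegral.isIntegral_of_subsingleton Aw.hom
  obtain ⟨ga, hga⟩ := H63.AVIsogeny.exists_dim (A := A)
  obtain ⟨gb, hgb⟩ := H63.AVIsogeny.exists_dim (A := B)
  obtain ⟨gw, hgw⟩ := H63.AVIsogeny.exists_dim (A := Aw)
  obtain ⟨fA, finA, rA⟩ := S17993.result p k hk J K ϖ hint hweil hnr hinj Aw πw hπwb hπwle hπwapp ρw hρw
    A πA hπAb hπAle hπAapp hPA ga hga
  obtain ⟨fB, finB, rB⟩ := S17993.result p k hk J K ϖ hint hweil hnr hinj Aw πw hπwb hπwle hπwapp ρw hρw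
    B πB hπBb hπBle hπBapp hPB gb hgb
  haveI := fA; haveI := finA; haveI := fB; haveI := finB
  let F : EndAV.Hom A Aw →ₗ[ℤ] EndAV.Hom B Aw := (Preadditive.leftComp (CommGrp.mk Aw) f).toIntLinearMap
  constructor
  · rintro ⟨hfin, hsur⟩
    haveI := hfin; haveI := hsur
    obtain ⟨g, n, hg, hn, hfg, hgf⟩ := H63.QuasiSection.exists_quasiInverse f.toHom
    haveI := hg
    have e1 : EndAV.Hom.of g ≫ f = (n : ℤ) • 𝟙 (CommGrp.mk A) := by
      rw [natCast_zsmul]
      apply EndAV.Hom.ext
      refine hgf.trans ?_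
      exact congrArg Additive.toMul (map_nsmul (AddMonoidHom.mk' (fun φ : EndAV.Hom A A => Additive.ofMul φ.toHom)
        fun _ _ => rfl) n (𝟙 (CommGrp.mk A))).symm
    have e2 : f ≫ EndAV.Hom.of g = (n : ℤ) • 𝟙 (CommGrp.mk B) := by
      rw [natCast_zsmul]
      apply EndAV.Hom.ext
      refine hfg.trans ?_
      exact congrArg Additive.toMul (map_nsmul (AddMonoidHom.mk' (fun φ : EndAV.Hom B B => Additive.ofMul φ.toHom)
        fun _ _ => rfl) n (𝟙 (CommGrp.mk B))).symm
    refine ⟨(injective_iff_map_eq_zero _).2 fun φ hφ => ?_, ?_⟩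
    · have h := congrArg (fun z => EndAV.Hom.of g ≫ z) (show f ≫ φ = 0 from hφ)
      simp only [Limits.comp_zero, ← Category.assoc, e1, Preadditive.zsmul_comp, Category.id_comp] at h
      exact (smul_eq_zero.1 h).resolve_left (Int.natCast_ne_zero.2 hn.ne')
    · haveI : Module.Finite ℤ (EndAV.Hom B Aw ⧸ (Preadditive.leftComp (CommGrp.mk Aw) f).range) :=
        Module.Finite.of_surjective (QuotientAddGroup.mk' (Preadditive.leftComp (CommGrp.mk Aw) f).range).toIntLinearMap
          (QuotientAddGroup.mk'_surjective _)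
      refine Module.finite_of_fg_torsion _ fun {z} => ?_
      obtain ⟨ψ, rfl⟩ := QuotientAddGroup.mk'_surjective _ z
      refine ⟨⟨(n : ℤ), mem_nonZeroDivisors_of_ne_zero (Int.natCast_ne_zero.2 hn.ne')⟩, ?_⟩
      show (n : ℤ) • QuotientAddGroup.mk' (Preadditive.leftComp (CommGrp.mk Aw) f).range ψ = 0
      rw [← map_zsmul, QuotientAddGroup.mk'_apply, QuotientAddGroup.eq_zero_iff]
      refine ⟨EndAV.Hom.of g ≫ ψ, ?_⟩
      show f ≫ EndAV.Hom.of g ≫ ψ = _
      rw [← Category.assoc, e2, Preadditive.zsmul_comp, Category.id_comp]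
  · rintro ⟨hinjF, hcok⟩
    haveI := hcok
    set N := Nat.card (EndAV.Hom B Aw ⧸ (Preadditive.leftComp (CommGrp.mk Aw) f).range)
    have hN : (N : ℤ) ≠ 0 := Int.natCast_ne_zero.2 Nat.card_pos.ne'
    have hdiv : ∀ ψ : EndAV.Hom B Aw, ∃ φ : EndAV.Hom A Aw, f ≫ φ = (N : ℤ) • ψ := fun ψ => by
      have h : QuotientAddGroup.mk' (Preadditive.leftComp (CommGrp.mk Aw) f).range ((N : ℤ) • ψ) = 0 := by
        rw [map_zsmul, natCast_zsmul]
        exact card_nsmul_eq_zero'
      exact (QuotientAddGroup.eq_zero_iff _).1 h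
    have hdim : ga = gb := by
      have h1 : Module.finrank ℤ (EndAV.Hom A Aw) ≤ Module.finrank ℤ (EndAV.Hom B Aw) :=
        LinearMap.finrank_le_finrank_of_injective (f := F) hinjF
      choose φ hφ using hdiv
      let G : EndAV.Hom B Aw →ₗ[ℤ] EndAV.Hom A Aw := (AddMonoidHom.mk' φ fun a b => hinjF (by
        rw [map_add]
        show f ≫ φ (a + b) = f ≫ φ a + f ≫ φ b
        rw [hφ, hφ, hφ, smul_add])).toIntLinearMap
      have hG : Function.Injective G := fun a b hab => by
        have e : f ≫ φ a = f ≫ φ b := congrArg (fun z => f ≫ z) hab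
        rw [hφ, hφ] at e
        exact smul_right_injective _ hN e
      have h2 := LinearMap.finrank_le_finrank_of_injective (f := G) hG
      omega
    subst hdim
    obtain ⟨a1, a2, -⟩ := H63.HomLattice.tate_free_finite Ω A l hl hga
    obtain ⟨b1, b2, b3⟩ := H63.HomLattice.tate_free_finite Ω B l hl hgb
    obtain ⟨w1, w2, -⟩ := H63.HomLattice.tate_free_finite Ω Aw l hl hgw
    haveI := a1; haveI := a2; haveI := b1; haveI := b2; haveI := w1; haveI := w2
    have hwapp : ∀ (U : Aw.left.Opens) (s : Γ(Aw.left, U)), (πw.left.appLE U U (hπwle U)).hom s = s ^ Nat.card k :=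
      fun U s => by rw [hk]; exact hπwapp U s
    have hBapp : ∀ (U : B.left.Opens) (s : Γ(B.left, U)), (πB.left.appLE U U (hπBle U)).hom s = s ^ Nat.card k :=
      fun U s => by rw [hk]; exact hπBapp U s
    obtain ⟨Q, -, -, -, hQ'⟩ := H63.TateEnd.exists_charpoly Ω hgw (EndAV.End.of πw)
    have hQ := hQ' l hl
    have hsfQ : Squarefree (Q.map (Int.castRingHom ℚ)) :=
      (S16844.result k Ω l hl Aw gw hgw πw hπwb hπwle hwapp Q hQ).1.1 fun a b => by
        obtain ⟨x, rfl⟩ := ρw.surjective a
        obtain ⟨y, rfl⟩ := ρw.surjective b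
        rw [← map_mul, ← map_mul]
        exact congrArg ρw (Subtype.ext (mul_comm x.1 y.1))
    set L₁ := (AbDual.tateMapₗ (l := l) (T := SGA7.pt (K := k) Ω) πB).baseChange ℚ_[l]
    set L₂ := (AbDual.tateMapₗ (l := l) (T := SGA7.pt (K := k) Ω) πw).baseChange ℚ_[l]
    have hsf : Squarefree L₂.charpoly := by
      rw [LinearMap.charpoly_baseChange,
        show AbDual.tateMapₗ (l := l) (T := SGA7.pt (K := k) Ω) πw = AbDual.tateMapₗ (l := l) (T := SGA7.pt (K := k) Ω) (EndAV.End.of πw).toHom from rfl,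
        hQ, Polynomial.map_map,
        RingHom.ext_int ((algebraMap ℤ_[l] ℚ_[l]).comp (Int.castRingHom ℤ_[l])) ((algebraMap ℚ ℚ_[l]).comp (Int.castRingHom ℚ)),
        ← Polynomial.map_map]
      exact ((PerfectField.separable_iff_squarefree.2 hsfQ).map).squarefree
    have hgalB := H63.TateCor.galAct_eq Ω πB hπBle hBapp
    have hgalw := H63.TateCor.galAct_eq Ω πw hπwle hwapp
    have hrank := H63.TateCor.finrank_hom hl (H63.TateCor.tateSpan (Ω := Ω) hl B Aw) πB πw hgalB hgalw
    -- injectivity on Tate modules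
    have hT : ∀ x : AbDual.TateMod B l (SGA7.pt (K := k) Ω),
        AbDual.tateMapₗ (l := l) (T := SGA7.pt (K := k) Ω) f.toHom x = 0 → x = 0 := by
      intro x hx
      by_contra hx0
      have hx1 : (1 : ℚ_[l]) ⊗ₜ[ℤ_[l]] x ≠ 0 := fun h => hx0 (H63.Tate.Reduce.one_tmul_injective _ (h.trans (TensorProduct.tmul_zero _ _).symm))
      obtain ⟨h, hh, hne⟩ := H63.TateCor.Separate.exists_intertwiner L₁ L₂
        (S14943.result k Ω l hl B πB hπBb hπBle hBapp) (S14943.result k Ω l hl Aw πw hπwb hπwle hwapp) hsf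
        (by rw [← hrank, rB, Module.finrank_baseChange]; exact b3.le) hx1
      obtain ⟨a, u, ha, hu⟩ := H63.TateCor.exists_lattice h
      have hcu : H63.TateCor.Comm Ω l B Aw u := H63.TateCor.comm_of_comp hgalB hgalw u (H63.TateCor.bcH_injective (by
        show (u ∘ₗ _).baseChange ℚ_[l] = (_ ∘ₗ u).baseChange ℚ_[l]
        rw [LinearMap.baseChange_comp, LinearMap.baseChange_comp, hu, LinearMap.smul_comp, LinearMap.comp_smul]
        congr 1
        exact LinearMap.ext fun v => H63.Intertwine.mem_C.1 hh v))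
      have key : ∀ v ∈ Submodule.span ℤ_[l] (Set.range (EndAV.Hom.tateMap (A := B) (B := Aw) l (SGA7.pt (K := k) Ω))),
          v x = 0 := by
        intro v hv
        induction hv using Submodule.span_induction with
        | mem y hy =>
          obtain ⟨ψ, rfl⟩ := hy
          obtain ⟨φ, hφ⟩ := hdiv ψ
          have e : EndAV.Hom.tateMap l (SGA7.pt (K := k) Ω) (f ≫ φ) x = 0 := by
            have e' : EndAV.Hom.tateMap l (SGA7.pt (K := k) Ω) (f ≫ φ) x =
                EndAV.Hom.tateMap l (SGA7.pt (K := k) Ω) φ (AbDual.tateMapₗ (l := l) (T := SGA7.pt (K := k) Ω) f.toHom x) :=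
              AbDual.TateMod.ext fun m => congrArg Additive.ofMul (Category.assoc _ _ _).symm
            rw [e', hx, map_zero]
          rw [hφ, map_zsmul, LinearMap.smul_apply, ← Int.cast_smul_eq_zsmul ℤ_[l]] at e
          exact (smul_eq_zero.1 e).resolve_left (Int.cast_ne_zero.2 hN)
        | zero => rfl
        | add y z _ _ hy hz => rw [LinearMap.add_apply, hy, hz, add_zero]
        | smul c y _ hy => rw [LinearMap.smul_apply, hy, smul_zero]
      have h1 := key u (H63.TateCor.tateSpan hl B Aw u hcu)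
      have h2 := LinearMap.congr_fun hu ((1 : ℚ_[l]) ⊗ₜ[ℤ_[l]] x)
      rw [LinearMap.baseChange_tmul, h1, TensorProduct.tmul_zero, LinearMap.smul_apply] at h2
      exact hne ((smul_eq_zero.1 h2.symm).resolve_left ((map_ne_zero_iff _ (IsFractionRing.injective ℤ_[l] ℚ_[l])).2 ha))
    have hfin : IsFinite f.toHom.left := by
      rcases H63.KernelSubAV.exists_kerSubAV f.toHom with h | ⟨M, gM, i, hi, hic, hMp, hMi, hif, hMn⟩
      · exact h
      exfalso
      haveI := hi; haveI := hic; haveI := hMp; haveI := hMi; haveI := hMn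
      haveI : Mono i := (Over.forget _).mono_of_mono_map (inferInstanceAs (Mono i.left))
      haveI : IsCommMonObj M := H4.TorsionDense.isCommMonObj_of_mono i
      have hi0 : EndAV.Hom.tateMap (A := M) (B := B) l (SGA7.pt (K := k) Ω) (EndAV.Hom.of i) = 0 :=
        LinearMap.ext fun y => hT _ (AbDual.TateMod.ext fun m => congrArg Additive.ofMul (by
          show (_ ≫ i) ≫ f.toHom = 1
          rw [Category.assoc, hif, MonObj.comp_one]))
      have hi1 : EndAV.Hom.of i = 0 := by
        by_contra hne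
        haveI := H63.HomLattice.moduleFree Ω M B l hl
        have hli : LinearIndependent ℤ (fun _ : Fin 1 => EndAV.Hom.of i) := .of_subsingleton 0 hne
        exact (H63.HomLattice.linearIndependent_tateMap Ω M B l hl _ hli).ne_zero 0 hi0
      have hi2 : i = toUnit M ≫ η[B] := (congrArg EndAV.Hom.toHom hi1).trans rfl
      obtain ⟨a, b, hab⟩ := exists_pair_ne M.left
      refine hab (i.left.isClosedEmbedding.injective ?_)
      rw [hi2, Over.comp_left, Scheme.Hom.comp_apply, Scheme.Hom.comp_apply]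
      exact congrArg η[B].left (Subsingleton.elim (α := PrimeSpectrum k) _ _)
    exact ⟨hfin, (H63.DegreePoly.surjective_iff_isFinite B A hgb hga f.toHom).1 hfin⟩

end Groth.Agent.S18000
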