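import Groth.Statements.S18003
import Groth.Agent.S17984
import Groth.Agent.Lib.WeilOrder99
-- import your own Groth.Agent.* helpers here

set_option autoImplicit false
universe u
open MvPolynomial
open WeilNum

namespace Groth.Agent.S18003

/-- Let p be a prime, e ≥ 1 and q = p^e; let (π_i) be a finite family of pairwise nonconjugate Weil
q-numbers (π_i in a field K_i of characteristic zero, integral over ℤ with minimal polynomial P_i,
all complex roots of P_i of absolute value √q, P_i ≠ P_j for i ≠ j) of even total degree Σ_i deg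
P_i, P_w = ∏_i P_i, and R_w ⊆ ∏_i K_i the minimal central order, the image of ℤ[F, V] → ∏_i K_i, F ↦
(π_i), V ↦ (q/π_i). Let T be a finitely generated free ℤ-module and F_T an endomorphism of T. Then
there exists an R_w-module structure on the additive group T in which the class of F acts as F_T if
and only if P_w(F_T) = 0 (equivalently: F_T is semisimple after tensoring with ℚ, with eigenvalues
among the conjugates of the π_i) and there is an endomorphism V_T of T with F_T ∘ V_T = q. When it
exists the structure is determined by F_T (the class of V acts as V_T = q·F_T⁻¹), and reflexive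
R_w-modules are exactly the ℤ-free finitely generated ones, so this identifies the objects of
Refl(R_w) with such pairs (T, F_T); the uniqueness remark is not part of the formal statement. -/
theorem result (p e : ℕ) [Fact p.Prime] (he : 0 < e)
    (ι : Type) [Fintype ι] (K : ι → Type u) [∀ i, Field (K i)] [∀ i, CharZero (K i)] (π : ∀ i, K i)
    (hint : ∀ i, IsIntegral ℤ (π i))
    (hweil : ∀ i, ∀ z ∈ (minpoly ℤ (π i)).aroots ℂ, ‖z‖ = Real.sqrt ((p : ℝ) ^ e))
    (hinj : ∀ i j, minpoly ℤ (π i) = minpoly ℤ (π j) → i = j)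
    (D : ℕ) (hD : ∑ i, (minpoly ℤ (π i)).natDegree = 2 * D)
    (T : Type) [AddCommGroup T] [Module.Finite ℤ T] [Module.Free ℤ T] (FT : T →ₗ[ℤ] T) :
    (∃ _ : Module (MvPolynomial.aeval ![fun i => π i, fun i => ((p : K i) ^ e) / π i] :
        MvPolynomial (Fin 2) ℤ →ₐ[ℤ] ((i : ι) → K i)).range T,
        ∀ t : T, (⟨(MvPolynomial.aeval ![fun i => π i, fun i => ((p : K i) ^ e) / π i] :
        MvPolynomial (Fin 2) ℤ →ₐ[ℤ] ((i : ι) → K i)) (X 0), AlgHom.mem_range_self _ _⟩ : (MvPolynomial.aeval ![fun i => π i, fun i => ((p : K i) ^ e) / π i] :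
        MvPolynomial (Fin 2) ℤ →ₐ[ℤ] ((i : ι) → K i)).range) • t = FT t) ↔
      (Polynomial.aeval FT (∏ i, minpoly ℤ (π i)) = 0 ∧
        ∃ VT : T →ₗ[ℤ] T, FT ∘ₗ VT = ((p : ℤ) ^ e) • LinearMap.id) := by
  classical
  obtain ⟨h, hh⟩ := Groth.Agent.WeilOrder99.exists_h p e π hint hweil D hD
  obtain ⟨hker, -⟩ := Groth.Agent.S17984.result p e he ι K π hint hweil hinj D hD h hh
  set ev := (MvPolynomial.aeval ![fun i => π i, fun i => ((p : K i) ^ e) / π i] :
        MvPolynomial (Fin 2) ℤ →ₐ[ℤ] ((i : ι) → K i)) with hev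
  set P := ∏ i, minpoly ℤ (π i) with hPdef
  have hq0 : ((p : ℤ) ^ e) ≠ 0 :=
    pow_ne_zero _ (Int.natCast_ne_zero.mpr (Fact.out : p.Prime).ne_zero)
  let F : ev.range := ⟨ev (X 0), AlgHom.mem_range_self _ _⟩
  let V : ev.range := ⟨ev (X 1), AlgHom.mem_range_self _ _⟩
  have hrel : ev (X 0 * X 1 - C ((p : ℤ) ^ e)) = 0 := by
    rw [← RingHom.mem_ker, hker]
    exact Ideal.subset_span (Set.mem_insert _ _)
  constructor
  · rintro ⟨M, hM⟩
    letI := M
    let L : ev.range → T →ₗ[ℤ] T := fun r => (DistribSMul.toAddMonoidHom T r).toIntLinearMap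
    have hL : ∀ r t, L r t = r • t := fun _ _ => rfl
    have hpow : ∀ (G : Polynomial ℤ) (t : T), Polynomial.aeval FT G t = Polynomial.aeval F G • t := by
      intro G
      induction G using Polynomial.induction_on with
      | C a =>
        intro t
        rw [Polynomial.aeval_C, Polynomial.aeval_C, Module.algebraMap_end_apply,
          eq_intCast (algebraMap ℤ ev.range), Int.cast_smul_eq_zsmul]
      | add a b ha hb =>
        intro t
        rw [map_add, map_add, LinearMap.add_apply, ha, hb, add_smul]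
      | monomial n a ih =>
        intro t
        rw [pow_succ, ← mul_assoc, map_mul, map_mul (Polynomial.aeval F), Polynomial.aeval_X,
          Polynomial.aeval_X, Module.End.mul_apply, ← hM, ih, smul_smul]
    refine ⟨LinearMap.ext fun t => ?_, L V, LinearMap.ext fun t => ?_⟩
    · rw [hpow, LinearMap.zero_apply]
      have h0 : Polynomial.aeval F P = 0 := by
        refine Subtype.ext (funext fun i => ?_)
        change Pi.evalAlgHom ℤ _ i (ev.range.val (Polynomial.aeval F P)) = _
        rw [← Polynomial.aeval_algHom_apply, ← Polynomial.aeval_algHom_apply, hPdef, map_prod]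
        refine Finset.prod_eq_zero (Finset.mem_univ i) ?_
        simp [F, hev]
      rw [h0, zero_smul]
    · rw [LinearMap.comp_apply, hL, ← hM, smul_smul, LinearMap.smul_apply, LinearMap.id_apply,
        show (⟨ev (X 0), AlgHom.mem_range_self _ _⟩ : ev.range) * V =
          algebraMap ℤ ev.range ((p : ℤ) ^ e) from Subtype.ext ?_,
        eq_intCast (algebraMap ℤ ev.range), Int.cast_smul_eq_zsmul]
      rw [map_sub, map_mul, sub_eq_zero, MvPolynomial.algHom_C] at hrel
      exact hrel
  · rintro ⟨hP, VT, hVT⟩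
    have hdet : LinearMap.det FT ≠ 0 := by
      intro h0
      have h1 := congrArg LinearMap.det hVT
      rw [LinearMap.det_comp, h0, zero_mul, LinearMap.det_smul, LinearMap.det_id, mul_one] at h1
      exact pow_ne_zero _ hq0 h1.symm
    have hinjF : Function.Injective FT := by
      rw [← LinearMap.ker_eq_bot]
      by_contra hne
      exact hdet (LinearMap.det_eq_zero_iff_ker_ne_bot.mpr hne)
    have hcomm : VT ∘ₗ FT = ((p : ℤ) ^ e) • LinearMap.id := by
      refine LinearMap.ext fun t => hinjF ?_
      have := LinearMap.congr_fun hVT (FT t)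
      simp only [LinearMap.comp_apply, LinearMap.smul_apply, LinearMap.id_apply, map_zsmul] at this ⊢
      exact this
    letI : CommRing (Algebra.adjoin ℤ ({FT, VT} : Set (T →ₗ[ℤ] T))) :=
      Algebra.adjoinCommRingOfComm ℤ (by
        intro a ha b hb
        rcases ha with rfl | rfl <;> rcases hb with rfl | rfl
        · rfl
        · exact (hVT.trans hcomm.symm)
        · exact (hcomm.trans hVT.symm)
        · rfl)
    let a : Algebra.adjoin ℤ ({FT, VT} : Set (T →ₗ[ℤ] T)) :=
      ⟨FT, Algebra.subset_adjoin (Set.mem_insert _ _)⟩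
    let b : Algebra.adjoin ℤ ({FT, VT} : Set (T →ₗ[ℤ] T)) :=
      ⟨VT, Algebra.subset_adjoin (Set.mem_insert_of_mem _ rfl)⟩
    let ψ₀ := (MvPolynomial.aeval ![a, b] :
      MvPolynomial (Fin 2) ℤ →ₐ[ℤ] Algebra.adjoin ℤ ({FT, VT} : Set (T →ₗ[ℤ] T)))
    let ψ : MvPolynomial (Fin 2) ℤ →ₐ[ℤ] (T →ₗ[ℤ] T) := (Algebra.adjoin ℤ _).val.comp ψ₀
    have hψX : ψ (X 0) = FT := by simp [ψ, ψ₀, a]
    have hψrel : ψ (X 0 * X 1 - C ((p : ℤ) ^ e)) = 0 := by
      rw [map_sub, map_mul, MvPolynomial.algHom_C, hψX, sub_eq_zero]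
      rw [show ψ (X 1) = VT by simp [ψ, ψ₀, b]]
      rw [Module.End.mul_eq_comp, hVT, Algebra.algebraMap_eq_smul_one]
      rfl
    have hψh : ψ h = 0 := by
      obtain ⟨c, hc⟩ := Ideal.mem_span_singleton'.mp hh
      have h1 := congrArg ψ hc
      rw [map_mul, hψrel, mul_zero, map_sub, map_mul, map_pow, hψX,
        ← Polynomial.aeval_algHom_apply, hψX, hP, sub_zero] at h1
      refine LinearMap.ext fun t => ?_
      have h2 := LinearMap.congr_fun h1.symm t
      rw [Module.End.mul_apply, LinearMap.zero_apply, Module.End.pow_apply] at h2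
      exact (hinjF.iterate D) (by rw [h2, LinearMap.zero_apply, ← Module.End.pow_apply, map_zero])
    have hle : RingHom.ker ev ≤ RingHom.ker ψ := by
      rw [hker, Ideal.span_le]
      rintro x (rfl | rfl)
      · exact hψrel
      · exact hψh
    choose σ hσ using fun r : ev.range => r.2
    have hwd : ∀ (r : ev.range) (t : MvPolynomial (Fin 2) ℤ), ev t = r → ψ (σ r) = ψ t := by
      intro r t ht
      rw [← sub_eq_zero, ← map_sub]
      refine hle ?_
      rw [RingHom.mem_ker, map_sub, ht]
      exact sub_eq_zero.mpr (hσ r)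
    let φ : ev.range →+* (T →ₗ[ℤ] T) :=
      { toFun := fun r => ψ (σ r)
        map_one' := by rw [hwd 1 1 (map_one ev), map_one]
        map_zero' := by rw [hwd 0 0 (map_zero ev), map_zero]
        map_add' := fun r r' => by
          rw [hwd _ (σ r + σ r') (by rw [map_add]; exact congrArg₂ (· + ·) (hσ r) (hσ r')), map_add]
        map_mul' := fun r r' => by
          rw [hwd _ (σ r * σ r') (by rw [map_mul]; exact congrArg₂ (· * ·) (hσ r) (hσ r')), map_mul] }
    refine ⟨Module.compHom T φ, fun t => ?_⟩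
    show φ ⟨ev (X 0), _⟩ t = FT t
    rw [show φ ⟨ev (X 0), AlgHom.mem_range_self _ _⟩ = ψ (X 0) from hwd _ _ rfl, hψX]

end Groth.Agent.S18003
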