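import Groth.Statements.S18016
import Groth.Agent.H69.FPApprox
import Mathlib.Algebra.Category.Ring.Constructions
import Mathlib.RingTheory.IntegralClosure.IsIntegralClosure.Basic

set_option autoImplicit false
set_option backward.isDefEq.respectTransparency false
set_option backward.isDefEq.respectTransparency.types false
set_option linter.style.haveILetI false
universe u
open CategoryTheory CategoryTheory.Limits
open Lim

namespace Groth.Agent.S18016

open MvPolynomial Groth.Agent.H69.FPApprox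

variable {R B D D' : Type u} [CommRing R] [CommRing B] [CommRing D] [CommRing D']
  [Algebra R B] [Algebra R D] [Algebra R D']

/-- An index: finite presentations of pieces of `B`, `D'` and `D`, compatible with `g : B → D'`. -/
structure Idx (i : D' →ₐ[R] D) (g : B → D') where
  b : Pt R B
  d' : Pt R D'
  d : Pt R D'
  hb : ∀ p ∈ b.rel, aeval (id : B → B) p = 0
  hd' : ∀ p ∈ d'.rel, aeval (id : D' → D') p = 0
  hd : ∀ p ∈ d.rel, aeval (fun x => i x) p = 0
  hs₁ : ∀ x ∈ d'.s, id x ∈ d.s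
  hs₂ : ∀ x ∈ d.s, x ∈ d'.s
  hsub : ∀ p ∈ d'.rel, rename id p ∈ d.rel
  hg : ∀ x ∈ b.s, g x ∈ d.s
  hrel : ∀ p ∈ b.rel, rename g p ∈ d.rel
  hnil : ∀ p ∈ d.rel, ∀ h : p ∈ supported R (↑d'.s : Set D'), IsNilpotent (cls d' ⟨p, h⟩)

variable {i : D' →ₐ[R] D} {g : B → D'}

structure Le (j k : Idx i g) : Prop where
  bs : ∀ x ∈ j.b.s, x ∈ k.b.s
  br : ∀ p ∈ j.b.rel, p ∈ k.b.rel
  d's : ∀ x ∈ j.d'.s, x ∈ k.d'.s
  d'r : ∀ p ∈ j.d'.rel, p ∈ k.d'.rel
  ds : ∀ x ∈ j.d.s, x ∈ k.d.s
  dr : ∀ p ∈ j.d.rel, p ∈ k.d.rel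

noncomputable instance : Preorder (Idx i g) where
  le := Le
  le_refl _ := ⟨fun _ h => h, fun _ h => h, fun _ h => h, fun _ h => h, fun _ h => h, fun _ h => h⟩
  le_trans _ _ _ h h' := ⟨fun x hx => h'.bs x (h.bs x hx), fun x hx => h'.br x (h.br x hx),
    fun x hx => h'.d's x (h.d's x hx), fun x hx => h'.d'r x (h.d'r x hx),
    fun x hx => h'.ds x (h.ds x hx), fun x hx => h'.dr x (h.dr x hx)⟩

noncomputable def inc {σ : Type u} (a b : Pt R σ) (hs : ∀ x ∈ a.s, x ∈ b.s) (hr : ∀ p ∈ a.rel, p ∈ b.rel) :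
    Q a →ₐ[R] Q b := mapQ id a b hs (fun p hp => by rw [rename_id_apply]; exact hr p hp)

noncomputable def phi (j : Idx i g) : Q j.b →ₐ[R] Q j.d := mapQ g j.b j.d j.hg j.hrel
noncomputable def psi (j : Idx i g) : Q j.d' →ₐ[R] Q j.d := mapQ id j.d' j.d j.hs₁ j.hsub
noncomputable def evB (j : Idx i g) : Q j.b →ₐ[R] B := ev id j.b j.hb
noncomputable def evD' (j : Idx i g) : Q j.d' →ₐ[R] D' := ev id j.d' j.hd'
noncomputable def evD (j : Idx i g) : Q j.d →ₐ[R] D := ev (fun x => i x) j.d j.hd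
noncomputable def iB {j k : Idx i g} (h : j ≤ k) : Q j.b →ₐ[R] Q k.b := inc _ _ h.bs h.br
noncomputable def iD' {j k : Idx i g} (h : j ≤ k) : Q j.d' →ₐ[R] Q k.d' := inc _ _ h.d's h.d'r
noncomputable def iD {j k : Idx i g} (h : j ≤ k) : Q j.d →ₐ[R] Q k.d := inc _ _ h.ds h.dr

theorem inc_cls {σ : Type u} (a b : Pt R σ) (hs : ∀ x ∈ a.s, x ∈ b.s) (hr : ∀ p ∈ a.rel, p ∈ b.rel)
    (x : supported R (↑a.s : Set σ)) (hx : x.1 ∈ supported R (↑b.s : Set σ)) :
    inc a b hs hr (cls a x) = cls b ⟨x.1, hx⟩ :=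
  congrArg (cls b) (Subtype.ext (rename_id_apply x.1))

theorem inc_inc {σ : Type u} {a b c : Pt R σ} (hs : ∀ x ∈ a.s, x ∈ b.s) (hr : ∀ p ∈ a.rel, p ∈ b.rel)
    (hs' : ∀ x ∈ b.s, x ∈ c.s) (hr' : ∀ p ∈ b.rel, p ∈ c.rel) (y : Q a) :
    inc b c hs' hr' (inc a b hs hr y) = inc a c (fun x h => hs' x (hs x h)) (fun x h => hr' x (hr x h)) y :=
  mapQ_mapQ _ _ _ (fun _ => rfl) a b c _ _ _ _ _ _ y

theorem inc_self {σ : Type u} {a : Pt R σ} (hs : ∀ x ∈ a.s, x ∈ a.s) (hr : ∀ p ∈ a.rel, p ∈ a.rel) (y : Q a) :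
    inc a a hs hr y = y :=
  mapQ_self a hs (fun p hp => by rw [rename_id_apply]; exact hp) y

theorem ev_inc {σ A : Type u} [CommRing A] [Algebra R A] (v : σ → A) {a b : Pt R σ}
    (hs : ∀ x ∈ a.s, x ∈ b.s) (hr : ∀ p ∈ a.rel, p ∈ b.rel) (ha : ∀ p ∈ a.rel, aeval v p = 0)
    (hb : ∀ p ∈ b.rel, aeval v p = 0) (y : Q a) : ev v b hb (inc a b hs hr y) = ev v a ha y :=
  ev_mapQ (AlgHom.id R A) id v v (fun _ => rfl) a b _ _ ha hb y

theorem phi_iB {j k : Idx i g} (h : j ≤ k) (y : Q j.b) : phi k (iB h y) = iD h (phi j y) := by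
  simp only [phi, iB, iD, inc]
  rw [mapQ_mapQ id g g (fun _ => rfl) j.b k.b k.d _ _ _ _ (fun x hx => h.ds _ (j.hg x hx))
      (fun p hp => h.dr _ (j.hrel p hp)),
    mapQ_mapQ g id g (fun _ => rfl) j.b j.d k.d _ _ _ _ (fun x hx => h.ds _ (j.hg x hx))
      (fun p hp => h.dr _ (j.hrel p hp))]

theorem psi_iD' {j k : Idx i g} (h : j ≤ k) (y : Q j.d') : psi k (iD' h y) = iD h (psi j y) := by
  simp only [psi, iD', iD, inc]
  rw [mapQ_mapQ id id id (fun _ => rfl) j.d' k.d' k.d _ _ _ _ (fun x hx => h.ds _ (j.hs₁ x hx))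
      (fun p hp => h.dr _ (j.hsub p hp)),
    mapQ_mapQ id id id (fun _ => rfl) j.d' j.d k.d _ _ _ _ (fun x hx => h.ds _ (j.hs₁ x hx))
      (fun p hp => h.dr _ (j.hsub p hp))]

theorem evB_iB {j k : Idx i g} (h : j ≤ k) (y : Q j.b) : evB k (iB h y) = evB j y := ev_inc _ _ _ _ _ y
theorem evD'_iD' {j k : Idx i g} (h : j ≤ k) (y : Q j.d') : evD' k (iD' h y) = evD' j y := ev_inc _ _ _ _ _ y
theorem evD_iD {j k : Idx i g} (h : j ≤ k) (y : Q j.d) : evD k (iD h y) = evD j y := ev_inc _ _ _ _ _ y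

theorem evD_psi (j : Idx i g) (y : Q j.d') : evD j (psi j y) = i (evD' j y) :=
  ev_mapQ i id id (fun x => i x) (fun _ => rfl) _ _ _ _ _ _ y

theorem evD_phi {f : B →ₐ[R] D} (hσ : ∀ b, i (g b) = f b) (j : Idx i g) (y : Q j.b) :
    evD j (phi j y) = f (evB j y) :=
  ev_mapQ f g id (fun x => i x) (fun b => hσ b) _ _ _ _ _ _ y

theorem psi_surjective (j : Idx i g) : Function.Surjective (psi j) :=
  surjective_of_gens _ _ fun x hx => ⟨gen j.d' x (j.hs₂ x hx), mapQ_gen id _ _ _ _ _⟩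

theorem psi_ker_nilpotent (j : Idx i g) {y : Q j.d'} (hy : psi j y = 0) : IsNilpotent y := by
  obtain ⟨x, rfl⟩ := cls_surjective j.d' y
  have h0 : ren id j.d' j.d j.hs₁ x ∈ j.d.I := (cls_eq_zero_iff _ _).1 hy
  have hmem : ∀ z : supported R (↑j.d.s : Set D'), z.1 ∈ supported R (↑j.d'.s : Set D') :=
    fun z => (supported_mono fun w hw => j.hs₂ w hw : _ ≤ _) z.2
  have key : ∀ z ∈ j.d.I, cls j.d' ⟨z.1, hmem z⟩ ∈ nilradical (Q j.d') := by
    intro z hz
    induction hz using Submodule.span_induction with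
    | mem z hz => exact mem_nilradical.2 (j.hnil _ hz _)
    | zero => exact (show cls j.d' 0 ∈ nilradical (Q j.d') by rw [map_zero]; exact zero_mem _)
    | add z w _ _ pz pw =>
      have : cls j.d' ⟨(z + w).1, hmem _⟩ = cls j.d' ⟨z.1, hmem z⟩ + cls j.d' ⟨w.1, hmem w⟩ := rfl
      rw [this]; exact add_mem pz pw
    | smul a z _ pz =>
      have : cls j.d' ⟨(a • z).1, hmem _⟩ = cls j.d' ⟨a.1, hmem a⟩ * cls j.d' ⟨z.1, hmem z⟩ := rfl
      rw [this]; exact Ideal.mul_mem_left _ _ pz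
  have h1 := key _ h0
  have e : (⟨(ren id j.d' j.d j.hs₁ x).1, hmem _⟩ : supported R (↑j.d'.s : Set D')) = x :=
    Subtype.ext (rename_id_apply x.1)
  rw [e] at h1
  exact mem_nilradical.1 h1

/-- Transport of nilpotency certificates. -/
theorem hnil_of_le (j : Idx i g) (b : Pt R D') (hs : ∀ x ∈ j.d'.s, x ∈ b.s) (hr : ∀ p ∈ j.d'.rel, p ∈ b.rel)
    {p : MvPolynomial D' R} (hp : p ∈ j.d.rel) (h : p ∈ supported R (↑b.s : Set D')) :
    IsNilpotent (cls b ⟨p, h⟩) := by
  have hp' : p ∈ supported R (↑j.d'.s : Set D') :=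
    (supported_mono fun w hw => j.hs₂ w hw : _ ≤ _) (j.d.sup p hp)
  rw [← inc_cls j.d' b hs hr ⟨p, hp'⟩ h]
  exact (j.hnil p hp hp').map _

theorem exists_union (j k : Idx i g) : ∃ l, j ≤ l ∧ k ≤ l := by
  classical
  let un {σ : Type u} (a b : Pt R σ) : Pt R σ := ⟨a.s ∪ b.s, a.rel ∪ b.rel, fun p hp =>
    (Finset.mem_union.1 hp).elim
      (fun h => (supported_mono (by simp) : _ ≤ _) (a.sup p h))
      (fun h => (supported_mono (by simp) : _ ≤ _) (b.sup p h))⟩
  let l : Idx i g :=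
  { b := un j.b k.b
    d' := un j.d' k.d'
    d := un j.d k.d
    hb := fun p hp => (Finset.mem_union.1 hp).elim (j.hb p) (k.hb p)
    hd' := fun p hp => (Finset.mem_union.1 hp).elim (j.hd' p) (k.hd' p)
    hd := fun p hp => (Finset.mem_union.1 hp).elim (j.hd p) (k.hd p)
    hs₁ := fun x hx => Finset.mem_union.2 ((Finset.mem_union.1 hx).imp (j.hs₁ x) (k.hs₁ x))
    hs₂ := fun x hx => Finset.mem_union.2 ((Finset.mem_union.1 hx).imp (j.hs₂ x) (k.hs₂ x))
    hsub := fun p hp => Finset.mem_union.2 ((Finset.mem_union.1 hp).imp (j.hsub p) (k.hsub p))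
    hg := fun x hx => Finset.mem_union.2 ((Finset.mem_union.1 hx).imp (j.hg x) (k.hg x))
    hrel := fun p hp => Finset.mem_union.2 ((Finset.mem_union.1 hp).imp (j.hrel p) (k.hrel p))
    hnil := fun p hp h => (Finset.mem_union.1 hp).elim
      (fun hp => hnil_of_le j _ (fun x => Finset.mem_union_left _) (fun x => Finset.mem_union_left _) hp h)
      (fun hp => hnil_of_le k _ (fun x => Finset.mem_union_right _) (fun x => Finset.mem_union_right _) hp h) }
  exact ⟨l, ⟨fun x => Finset.mem_union_left _, fun x => Finset.mem_union_left _,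
      fun x => Finset.mem_union_left _, fun x => Finset.mem_union_left _,
      fun x => Finset.mem_union_left _, fun x => Finset.mem_union_left _⟩,
    ⟨fun x => Finset.mem_union_right _, fun x => Finset.mem_union_right _,
      fun x => Finset.mem_union_right _, fun x => Finset.mem_union_right _,
      fun x => Finset.mem_union_right _, fun x => Finset.mem_union_right _⟩⟩

theorem exists_addS (j : Idx i g) (sB : Finset B) (sD : Finset D') :
    ∃ k, j ≤ k ∧ (∀ x ∈ sB, x ∈ k.b.s) ∧ (∀ x ∈ sD, x ∈ k.d'.s) ∧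
      ∀ x ∈ k.d.s, x ∈ j.d.s ∨ x ∈ sD ∨ ∃ b ∈ k.b.s, g b = x := by
  classical
  let e : Finset D' := sD ∪ sB.image g
  let d1 : Pt R D' := ⟨j.d'.s ∪ e, j.d'.rel, fun p hp => (supported_mono (by simp) : _ ≤ _) (j.d'.sup p hp)⟩
  let k : Idx i g :=
  { b := ⟨j.b.s ∪ sB, j.b.rel, fun p hp => (supported_mono (by simp) : _ ≤ _) (j.b.sup p hp)⟩
    d' := d1
    d := ⟨j.d.s ∪ e, j.d.rel, fun p hp => (supported_mono (by simp) : _ ≤ _) (j.d.sup p hp)⟩
    hb := j.hb
    hd' := j.hd'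
    hd := j.hd
    hs₁ := fun x hx => Finset.mem_union.2 ((Finset.mem_union.1 hx).imp (j.hs₁ x) id)
    hs₂ := fun x hx => Finset.mem_union.2 ((Finset.mem_union.1 hx).imp (j.hs₂ x) id)
    hsub := j.hsub
    hg := fun x hx => Finset.mem_union.2 ((Finset.mem_union.1 hx).imp (j.hg x)
      (fun h => Finset.mem_union_right _ (Finset.mem_image_of_mem g h)))
    hrel := j.hrel
    hnil := fun p hp h => hnil_of_le j d1 (fun x hx => Finset.mem_union_left _ hx) (fun _ hx => hx) hp h }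
  refine ⟨k, ⟨fun x => Finset.mem_union_left _, fun _ => id, fun x => Finset.mem_union_left _,
      fun _ => id, fun x => Finset.mem_union_left _, fun _ => id⟩,
    fun x => Finset.mem_union_right _,
    fun x hx => Finset.mem_union_right _ (Finset.mem_union_left _ hx), fun x hx => ?_⟩
  rcases Finset.mem_union.1 hx with h | h
  · exact Or.inl h
  · rcases Finset.mem_union.1 h with h | h
    · exact Or.inr (Or.inl h)
    · obtain ⟨b, hb, rfl⟩ := Finset.mem_image.1 h
      exact Or.inr (Or.inr ⟨b, Finset.mem_union_right _ hb, rfl⟩)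

theorem exists_addR (hnilI : ∀ x ∈ RingHom.ker i.toRingHom, IsNilpotent x) (j : Idx i g)
    (P : Finset (MvPolynomial D' R)) (hP : ∀ p ∈ P, p ∈ supported R (↑j.d'.s : Set D'))
    (hP0 : ∀ p ∈ P, aeval (fun x => i x) p = 0) :
    ∃ k, ∃ hjk : j ≤ k, k.d.s = j.d.s ∧ k.b = j.b ∧ (∀ p ∈ P, p ∈ k.d.rel) ∧
      (∀ p ∈ P, aeval (id : D' → D') p = 0 → p ∈ k.d'.rel) ∧
      ((∀ p ∈ P, ∀ h : p ∈ supported R (↑j.d.s : Set D'), cls j.d ⟨p, h⟩ = 0) →
        ∀ y, iD hjk y = 0 → y = 0) := by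
  classical
  have hn : ∀ p, ∃ n : ℕ, p ∈ P → aeval (id : D' → D') (p ^ (n + 1)) = 0 ∧
      (aeval (id : D' → D') p = 0 → n = 0) := by
    intro p
    by_cases h : p ∈ P
    · by_cases h0 : aeval (id : D' → D') p = 0
      · exact ⟨0, fun _ => ⟨by rw [zero_add, pow_one, h0], fun _ => rfl⟩⟩
      · obtain ⟨n, hn⟩ := hnilI (aeval (id : D' → D') p) (by
          show i (aeval (id : D' → D') p) = 0
          rw [comp_aeval_apply]; exact hP0 p h)
        exact ⟨n, fun _ => ⟨by rw [map_pow, pow_succ, hn, zero_mul], fun h1 => absurd h1 h0⟩⟩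
    · exact ⟨0, fun h' => absurd h' h⟩
  choose n hn using hn
  have hmem : ∀ p ∈ P, p ∈ supported R (↑j.d.s : Set D') := fun p hp =>
    (supported_mono fun w hw => j.hs₁ w hw : _ ≤ _) (hP p hp)
  let pw : Finset (MvPolynomial D' R) := P.image fun p => p ^ (n p + 1)
  have hpw : ∀ q ∈ pw, q ∈ supported R (↑j.d'.s : Set D') ∧ q ∈ supported R (↑j.d.s : Set D') ∧
      aeval (id : D' → D') q = 0 := by
    intro q hq
    obtain ⟨p, hp, rfl⟩ := Finset.mem_image.1 hq
    exact ⟨pow_mem (hP p hp) _, pow_mem (hmem p hp) _, (hn p hp).1⟩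
  let d1 : Pt R D' := ⟨j.d'.s, j.d'.rel ∪ pw, fun p hp =>
    (Finset.mem_union.1 hp).elim (j.d'.sup p) (fun h => (hpw p h).1)⟩
  have hev : ∀ q, aeval (id : D' → D') q = 0 → aeval (fun x => i x) q = 0 := fun q hq => by
    have := comp_aeval_apply (id : D' → D') i q
    rw [hq, map_zero] at this
    exact this.symm
  let k : Idx i g :=
  { b := j.b
    d' := d1
    d := ⟨j.d.s, j.d.rel ∪ pw ∪ P, fun p hp => (Finset.mem_union.1 hp).elim
      (fun hp => (Finset.mem_union.1 hp).elim (j.d.sup p) (fun h => (hpw p h).2.1)) (hmem p)⟩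
    hb := j.hb
    hd' := fun p hp => (Finset.mem_union.1 hp).elim (j.hd' p) (fun h => (hpw p h).2.2)
    hd := fun p hp => (Finset.mem_union.1 hp).elim
      (fun hp => (Finset.mem_union.1 hp).elim (j.hd p) (fun h => hev p (hpw p h).2.2)) (hP0 p)
    hs₁ := j.hs₁
    hs₂ := j.hs₂
    hsub := fun p hp => Finset.mem_union_left _ ((Finset.mem_union.1 hp).elim
      (fun h => Finset.mem_union_left _ (j.hsub p h))
      (fun h => Finset.mem_union_right _ (by rw [rename_id_apply]; exact h)))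
    hg := j.hg
    hrel := fun p hp => Finset.mem_union_left _ (Finset.mem_union_left _ (j.hrel p hp))
    hnil := fun p hp h => by
      rcases Finset.mem_union.1 hp with hp | hp
      · rcases Finset.mem_union.1 hp with hp | hp
        · exact hnil_of_le j d1 (fun _ hx => hx) (fun x hx => Finset.mem_union_left _ hx) hp h
        · rw [cls_eq_zero d1 (x := ⟨p, h⟩) (Finset.mem_union_right _ hp)]; exact IsNilpotent.zero
      · refine ⟨n p + 1, ?_⟩
        rw [← map_pow]
        exact cls_eq_zero d1 (Finset.mem_union_right _ (Finset.mem_image_of_mem _ hp)) }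
  have hjk : j ≤ k := ⟨fun _ => id, fun _ => id, fun _ => id, fun x hx => Finset.mem_union_left _ hx,
      fun _ => id, fun x hx => Finset.mem_union_left _ (Finset.mem_union_left _ hx)⟩
  refine ⟨k, hjk, rfl, rfl, fun p hp => Finset.mem_union_right _ hp, fun p hp h0 => ?_, fun hz' y hy => ?_⟩
  · refine Finset.mem_union_right _ (Finset.mem_image.2 ⟨p, hp, ?_⟩)
    rw [(hn p hp).2 h0, zero_add, pow_one]
  · obtain ⟨x, rfl⟩ := cls_surjective j.d y
    rw [cls_eq_zero_iff]
    have h1 : x ∈ k.d.I := by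
      rw [← cls_eq_zero_iff]
      exact ((inc_cls j.d k.d hjk.ds hjk.dr x x.2).symm.trans hy : cls k.d ⟨x.1, x.2⟩ = 0)
    refine (Ideal.span_le.2 fun z hz => ?_ : k.d.I ≤ j.d.I) h1
    rcases Finset.mem_union.1 hz with hz | hz
    · rcases Finset.mem_union.1 hz with hz | hz
      · exact Ideal.subset_span hz
      · obtain ⟨p, hp, hpz⟩ := Finset.mem_image.1 hz
        have : z = ⟨p, hmem p hp⟩ ^ (n p + 1) := Subtype.ext hpz.symm
        rw [this]
        exact Ideal.pow_mem_of_mem _ ((cls_eq_zero_iff _ _).1 (hz' p hp (hmem p hp))) _ (Nat.succ_pos _)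
    · exact (cls_eq_zero_iff _ _).1 (hz' z.1 hz z.2)

theorem exists_addB (hnilI : ∀ x ∈ RingHom.ker i.toRingHom, IsNilpotent x) {f : B →ₐ[R] D}
    (hσ : ∀ b, i (g b) = f b) (j : Idx i g) (P : Finset (MvPolynomial B R))
    (hP : ∀ p ∈ P, p ∈ supported R (↑j.b.s : Set B)) (hP0 : ∀ p ∈ P, aeval (id : B → B) p = 0) :
    ∃ k, ∃ hjk : j ≤ k, k.d.s = j.d.s ∧ k.b.s = j.b.s ∧ (∀ p ∈ P, p ∈ k.b.rel) ∧
      ((∀ p ∈ P, ∀ h : p ∈ supported R (↑j.b.s : Set B), phi j (cls j.b ⟨p, h⟩) = 0) →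
        ∀ y, iD hjk y = 0 → y = 0) := by
  classical
  have hPD : ∀ q ∈ P.image (rename g), q ∈ supported R (↑j.d'.s : Set D') ∧ aeval (fun x => i x) q = 0 := by
    intro q hq
    obtain ⟨p, hp, rfl⟩ := Finset.mem_image.1 hq
    refine ⟨rename_mem g (fun x hx => j.hs₂ _ (j.hg x hx)) (hP p hp), ?_⟩
    have := comp_aeval_apply (id : B → B) f p
    rw [hP0 p hp, map_zero] at this
    rw [aeval_rename, show ((fun x => i x) ∘ g) = fun b => f b from funext hσ]
    exact this.symm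
  obtain ⟨k, hjk, hks, hkb, hk, -, hinj⟩ := exists_addR hnilI j _ (fun q hq => (hPD q hq).1) (fun q hq => (hPD q hq).2)
  let l : Idx i g :=
  { k with
    b := ⟨k.b.s, k.b.rel ∪ P, fun p hp => (Finset.mem_union.1 hp).elim (k.b.sup p)
      (fun h => by rw [hkb]; exact hP p h)⟩
    hb := fun p hp => (Finset.mem_union.1 hp).elim (k.hb p) (hP0 p)
    hg := k.hg
    hrel := fun p hp => (Finset.mem_union.1 hp).elim (k.hrel p)
      (fun h => hk _ (Finset.mem_image_of_mem _ h)) }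
  refine ⟨l, ⟨hjk.bs, fun x hx => Finset.mem_union_left _ (hjk.br x hx), hjk.d's, hjk.d'r, hjk.ds, hjk.dr⟩,
    hks, (congrArg Pt.s hkb : k.b.s = j.b.s), fun p hp => Finset.mem_union_right _ hp, fun hz y hy => ?_⟩
  refine hinj (fun q hq h => ?_) y hy
  obtain ⟨p, hp, rfl⟩ := Finset.mem_image.1 hq
  exact hz p hp (hP p hp)

theorem injB (hnilI : ∀ x ∈ RingHom.ker i.toRingHom, IsNilpotent x) {f : B →ₐ[R] D}
    (hσ : ∀ b, i (g b) = f b) (j : Idx i g) {y z : Q j.b} (h : evB j y = evB j z) :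
    ∃ (k : Idx i g) (hjk : j ≤ k), iB hjk y = iB hjk z := by
  classical
  obtain ⟨d, hd0, hyz⟩ := exists_rel_of_ev_eq _ _ _ h
  obtain ⟨k, hjk, -, -, hk, -⟩ := exists_addB hnilI hσ j {d.1}
    (fun p hp => by rw [Finset.mem_singleton.1 hp]; exact d.2)
    (fun p hp => by rw [Finset.mem_singleton.1 hp]; exact hd0)
  refine ⟨k, hjk, ?_⟩
  rw [hyz, map_add, show iB hjk (cls j.b d) = 0 from ?_, add_zero]
  rw [iB, inc_cls _ _ _ _ _ ((supported_mono fun w hw => hjk.bs w hw : _ ≤ _) d.2)]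
  exact cls_eq_zero _ (hk _ (Finset.mem_singleton_self _))

theorem injD (hnilI : ∀ x ∈ RingHom.ker i.toRingHom, IsNilpotent x) (j : Idx i g)
    {y z : Q j.d} (h : evD j y = evD j z) : ∃ (k : Idx i g) (hjk : j ≤ k), iD hjk y = iD hjk z := by
  classical
  obtain ⟨d, hd0, hyz⟩ := exists_rel_of_ev_eq _ _ _ h
  obtain ⟨k, hjk, -, -, hk, -⟩ := exists_addR hnilI j {d.1}
    (fun p hp => by rw [Finset.mem_singleton.1 hp]; exact (supported_mono fun w hw => j.hs₂ w hw : _ ≤ _) d.2)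
    (fun p hp => by rw [Finset.mem_singleton.1 hp]; exact hd0)
  refine ⟨k, hjk, ?_⟩
  rw [hyz, map_add, show iD hjk (cls j.d d) = 0 from ?_, add_zero]
  rw [iD, inc_cls _ _ _ _ _ ((supported_mono fun w hw => hjk.ds w hw : _ ≤ _) d.2)]
  exact cls_eq_zero _ (hk _ (Finset.mem_singleton_self _))

theorem injD' (hnilI : ∀ x ∈ RingHom.ker i.toRingHom, IsNilpotent x) (j : Idx i g)
    {y z : Q j.d'} (h : evD' j y = evD' j z) : ∃ (k : Idx i g) (hjk : j ≤ k), iD' hjk y = iD' hjk z := by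
  classical
  obtain ⟨d, hd0, hyz⟩ := exists_rel_of_ev_eq _ _ _ h
  obtain ⟨k, hjk, -, -, -, hk, -⟩ := exists_addR hnilI j {d.1}
    (fun p hp => by rw [Finset.mem_singleton.1 hp]; exact d.2)
    (fun p hp => by
      rw [Finset.mem_singleton.1 hp]
      have := comp_aeval_apply (id : D' → D') i d.1
      rw [hd0, map_zero] at this
      exact this.symm)
  refine ⟨k, hjk, ?_⟩
  rw [hyz, map_add, show iD' hjk (cls j.d' d) = 0 from ?_, add_zero]
  rw [iD', inc_cls _ _ _ _ _ ((supported_mono fun w hw => hjk.d's w hw : _ ≤ _) d.2)]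
  exact cls_eq_zero _ (hk _ (Finset.mem_singleton_self _) hd0)

/-- The extra conditions. -/
structure Good (f : B →ₐ[R] D) (j : Idx i g) : Prop where
  surj : Function.Surjective f → Function.Surjective (phi j)
  nil : Function.Surjective f → (∀ x ∈ RingHom.ker f.toRingHom, IsNilpotent x) →
    ∀ x, phi j x = 0 → IsNilpotent x
  int : f.toRingHom.IsIntegral → (phi j).toRingHom.IsIntegral

theorem exists_surj (hnilI : ∀ x ∈ RingHom.ker i.toRingHom, IsNilpotent x) {f : B →ₐ[R] D}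
    (hσ : ∀ b, i (g b) = f b) (hf : Function.Surjective f) (j : Idx i g) :
    ∃ k, j ≤ k ∧ Function.Surjective (phi k) := by
  classical
  choose bx hbx using fun x : D' => hf (i x)
  obtain ⟨k, hjk, hkB, -, hkd⟩ := exists_addS j (j.d.s.image bx) ∅
  let P : Finset (MvPolynomial D' R) := j.d.s.image fun x => X x - X (g (bx x))
  have hmem : ∀ x ∈ j.d.s, bx x ∈ k.b.s := fun x hx => hkB _ (Finset.mem_image_of_mem _ hx)
  have hP : ∀ p ∈ P, p ∈ supported R (↑k.d'.s : Set D') ∧ aeval (fun x => i x) p = 0 := by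
    intro p hp
    obtain ⟨x, hx, rfl⟩ := Finset.mem_image.1 hp
    refine ⟨sub_mem (X_mem _ (k.hs₂ x (hjk.ds x hx))) (X_mem _ (k.hs₂ _ (k.hg _ (hmem x hx)))), ?_⟩
    rw [map_sub, aeval_X, aeval_X, hσ, hbx, sub_self]
  obtain ⟨l, hkl, hls, hlb, hl, -⟩ := exists_addR hnilI k P (fun p hp => (hP p hp).1) (fun p hp => (hP p hp).2)
  refine ⟨l, hjk.trans hkl, surjective_of_gens _ _ fun x hx => ?_⟩
  rcases hkd x (hls ▸ hx) with h | h | ⟨b, hb, rfl⟩
  · have hb : bx x ∈ l.b.s := hkl.bs _ (hmem x h)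
    refine ⟨gen l.b (bx x) hb, ?_⟩
    show mapQ g l.b l.d l.hg l.hrel (gen l.b (bx x) hb) = _
    rw [mapQ_gen]
    refine (sub_eq_zero.1 ?_).symm
    rw [gen, gen, ← map_sub]
    exact cls_eq_zero _ (hl _ (Finset.mem_image_of_mem _ h))
  · simp at h
  · exact ⟨gen l.b b (hkl.bs _ hb), mapQ_gen _ _ _ _ _ _⟩

theorem exists_int (hnilI : ∀ x ∈ RingHom.ker i.toRingHom, IsNilpotent x) {f : B →ₐ[R] D}
    (hσ : ∀ b, i (g b) = f b) (hf : f.toRingHom.IsIntegral) (j : Idx i g) :
    ∃ k, j ≤ k ∧ (phi k).toRingHom.IsIntegral := by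
  classical
  choose q hq hq0 using fun x : D' => hf (i x)
  obtain ⟨k, hjk, hkB, -, hkd⟩ :=
    exists_addS j (j.d.s.biUnion fun x => (Finset.range (q x).natDegree).image (q x).coeff) ∅
  have hmem : ∀ x ∈ j.d.s, ∀ t ∈ Finset.range (q x).natDegree, (q x).coeff t ∈ k.b.s := fun x hx t ht =>
    hkB _ (Finset.mem_biUnion.2 ⟨x, hx, Finset.mem_image_of_mem _ ht⟩)
  let P₁ : D' → MvPolynomial D' R := fun x =>
    X x ^ (q x).natDegree + ∑ t ∈ Finset.range (q x).natDegree, X (g ((q x).coeff t)) * X x ^ t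
  have hP : ∀ p ∈ j.d.s.image P₁, p ∈ supported R (↑k.d'.s : Set D') ∧ aeval (fun x => i x) p = 0 := by
    intro p hp
    obtain ⟨x, hx, rfl⟩ := Finset.mem_image.1 hp
    have hX : (X x : MvPolynomial D' R) ∈ supported R (↑k.d'.s : Set D') := X_mem _ (k.hs₂ x (hjk.ds x hx))
    refine ⟨add_mem (pow_mem hX _) (sum_mem fun t ht =>
      mul_mem (X_mem _ (k.hs₂ _ (k.hg _ (hmem x hx t ht)))) (pow_mem hX _)), ?_⟩
    have h := hq0 x
    rw [(hq x).as_sum] at h
    simpa [P₁, Polynomial.eval₂_finsetSum, hσ] using h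
  obtain ⟨l, hkl, hls, hlb, hl, -⟩ := exists_addR hnilI k _ (fun p hp => (hP p hp).1) (fun p hp => (hP p hp).2)
  refine ⟨l, hjk.trans hkl, isIntegral_of_gens _ _ fun x hx => ?_⟩
  rcases hkd x (hls ▸ hx) with h | h | ⟨b, hb, rfl⟩
  · let N := (q x).natDegree
    let c : Finset.range N → Q l.b := fun t => gen l.b ((q x).coeff t) (hkl.bs _ (hmem x h t t.2))
    refine ⟨Polynomial.X ^ N + ∑ t : Finset.range N, Polynomial.C (c t) * Polynomial.X ^ (t : ℕ),
      Polynomial.monic_X_pow_add ?_, ?_⟩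
    · refine lt_of_le_of_lt (Polynomial.degree_sum_le _ _) ((Finset.sup_lt_iff (WithBot.bot_lt_coe _)).2
        fun t _ => lt_of_le_of_lt (Polynomial.degree_C_mul_X_pow_le _ _) ?_)
      exact_mod_cast Finset.mem_range.1 t.2
    · have hc : ∀ t : Finset.range N, (phi l).toRingHom (c t) =
          gen l.d (g ((q x).coeff t)) (l.hg _ (hkl.bs _ (hmem x h t t.2))) := fun t => mapQ_gen _ _ _ _ _ _
      have hP1 : P₁ x ∈ supported R (↑l.d.s : Set D') := l.d.sup _ (hl _ (Finset.mem_image_of_mem _ h))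
      have h0 : cls l.d ⟨P₁ x, hP1⟩ = 0 := cls_eq_zero _ (hl _ (Finset.mem_image_of_mem _ h))
      simp only [Polynomial.eval₂_add, Polynomial.eval₂_pow, Polynomial.eval₂_X,
        Polynomial.eval₂_finsetSum, Polynomial.eval₂_mul, Polynomial.eval₂_C, hc]
      simp only [gen, ← map_pow, ← map_mul, ← map_sum, ← map_add]
      refine Eq.trans (congrArg (cls l.d) (Subtype.ext ?_)) h0
      simp only [AddMemClass.coe_add, SubmonoidClass.coe_pow, AddSubmonoidClass.coe_finsetSum,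
        MulMemClass.coe_mul]
      show _ = X x ^ N + ∑ t ∈ Finset.range N, X (g ((q x).coeff t)) * X x ^ t
      rw [← Finset.sum_coe_sort (Finset.range N)]
  · simp at h
  · have : gen l.d (g b) hx = (phi l).toRingHom (gen l.b b (hkl.bs _ hb)) :=
      (mapQ_gen _ _ _ _ _ _).symm
    rw [this]
    exact (phi l).toRingHom.isIntegralElem_map

theorem exists_good (hnilI : ∀ x ∈ RingHom.ker i.toRingHom, IsNilpotent x) {f : B →ₐ[R] D}
    (hσ : ∀ b, i (g b) = f b) (j : Idx i g) : ∃ k, j ≤ k ∧ Good f k := by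
  classical
  by_cases hf : Function.Surjective f
  swap
  · by_cases hi : f.toRingHom.IsIntegral
    · obtain ⟨k, hjk, hk⟩ := exists_int hnilI hσ hi j
      exact ⟨k, hjk, fun h => absurd h hf, fun h => absurd h hf, fun _ => hk⟩
    · exact ⟨j, le_rfl, fun h => absurd h hf, fun h => absurd h hf, fun h => absurd h hi⟩
  obtain ⟨k, hjk, hk⟩ := exists_surj hnilI hσ hf j
  by_cases hn : ∀ x ∈ RingHom.ker f.toRingHom, IsNilpotent x
  swap
  · exact ⟨k, hjk, fun _ => hk, fun _ h => absurd h hn, fun _ => RingHom.isIntegral_of_surjective _ hk⟩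
  haveI := finitePresentation_Q k.b
  haveI := finitePresentation_Q k.d
  obtain ⟨G, hG⟩ := Algebra.FinitePresentation.ker_fG_of_surjective (phi k) hk
  choose w hw using cls_surjective k.b
  have hN : ∀ y ∈ G, ∃ n : ℕ, n ≠ 0 ∧ aeval (id : B → B) ((w y).1 ^ n) = 0 := by
    intro y hy
    have hy0 : phi k y = 0 := show y ∈ RingHom.ker (phi k).toRingHom from hG ▸ Ideal.subset_span hy
    obtain ⟨n, hn'⟩ := hn (evB k y) (by
      show f (evB k y) = 0
      rw [← evD_phi hσ, hy0, map_zero])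
    refine ⟨n + 1, n.succ_ne_zero, ?_⟩
    rw [map_pow, ← ev_cls _ _ k.hb, hw, pow_succ]
    exact mul_eq_zero_of_left hn' _
  choose! N hN using hN
  obtain ⟨l, hkl, hls, hlb, hl, hinj⟩ := exists_addB hnilI hσ k (G.image fun y => (w y).1 ^ N y)
    (fun p hp => by obtain ⟨y, -, rfl⟩ := Finset.mem_image.1 hp; exact pow_mem (w y).2 _)
    (fun p hp => by obtain ⟨y, hy, rfl⟩ := Finset.mem_image.1 hp; exact (hN y hy).2)
  have hinj' : ∀ y, iD hkl y = 0 → y = 0 := by
    refine hinj fun p hp h => ?_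
    obtain ⟨y, hy, rfl⟩ := Finset.mem_image.1 hp
    have hy0 : phi k y = 0 := show y ∈ RingHom.ker (phi k).toRingHom from hG ▸ Ideal.subset_span hy
    rw [show (⟨(w y).1 ^ N y, h⟩ : supported R (↑k.b.s : Set B)) = w y ^ N y from Subtype.ext rfl,
      map_pow, hw, map_pow, hy0]
    exact zero_pow (hN y hy).1
  have hsD : Function.Surjective (iD hkl) :=
    surjective_of_gens _ _ fun x hx => ⟨gen k.d x (hls ▸ hx), mapQ_gen id k.d l.d _
      (fun p hp => by rw [rename_id_apply]; exact hkl.dr p hp) _⟩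
  have hsB : Function.Surjective (iB hkl) :=
    surjective_of_gens _ _ fun x hx => ⟨gen k.b x (hlb ▸ hx), mapQ_gen id k.b l.b _
      (fun p hp => by rw [rename_id_apply]; exact hkl.br p hp) _⟩
  have hsl : Function.Surjective (phi l) := fun z => by
    obtain ⟨y, rfl⟩ := hsD z
    obtain ⟨x, rfl⟩ := hk y
    exact ⟨iB hkl x, phi_iB hkl x⟩
  refine ⟨l, hjk.trans hkl, fun _ => hsl, fun _ _ x hx => ?_, fun _ => RingHom.isIntegral_of_surjective _ hsl⟩
  obtain ⟨y, rfl⟩ := hsB x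
  rw [phi_iB hkl] at hx
  have hy : y ∈ Ideal.span (G : Set (Q k.b)) := by
    rw [show Ideal.span (G : Set (Q k.b)) = RingHom.ker (phi k).toRingHom from hG]
    exact hinj' _ hx
  have hle : Ideal.span (G : Set (Q k.b)) ≤ Ideal.comap (iB hkl).toRingHom (nilradical (Q l.b)) := by
    refine Ideal.span_le.2 fun z hz => mem_nilradical.2 ⟨N z, ?_⟩
    show iB hkl z ^ N z = 0
    rw [← map_pow, show z ^ N z = cls k.b (w z ^ N z) by rw [map_pow, hw], iB,
      inc_cls _ _ _ _ _ ((supported_mono fun v hv => hkl.bs v hv : _ ≤ _) (w z ^ N z).2)]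
    exact cls_eq_zero _ (hl _ (Finset.mem_image_of_mem _ hz))
  exact mem_nilradical.1 (hle hy)

theorem exists_gen (hnilI : ∀ x ∈ RingHom.ker i.toRingHom, IsNilpotent x) {f : B →ₐ[R] D}
    (hσ : ∀ b, i (g b) = f b) (b : B) (x : D') :
    ∃ k : Idx i g, Good f k ∧ b ∈ k.b.s ∧ x ∈ k.d'.s := by
  let e : Pt R B := ⟨∅, ∅, fun p hp => absurd hp (Finset.notMem_empty p)⟩
  let e' : Pt R D' := ⟨∅, ∅, fun p hp => absurd hp (Finset.notMem_empty p)⟩
  let j0 : Idx i g :=
  { b := e, d' := e', d := e'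
    hb := fun p hp => absurd hp (Finset.notMem_empty p)
    hd' := fun p hp => absurd hp (Finset.notMem_empty p)
    hd := fun p hp => absurd hp (Finset.notMem_empty p)
    hs₁ := fun p hp => absurd hp (Finset.notMem_empty p)
    hs₂ := fun p hp => absurd hp (Finset.notMem_empty p)
    hsub := fun p hp => absurd hp (Finset.notMem_empty p)
    hg := fun p hp => absurd hp (Finset.notMem_empty p)
    hrel := fun p hp => absurd hp (Finset.notMem_empty p)
    hnil := fun p hp => absurd hp (Finset.notMem_empty p) }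
  obtain ⟨k, -, hb, hx, -⟩ := exists_addS j0 {b} {x}
  obtain ⟨l, hkl, hl⟩ := exists_good hnilI hσ k
  exact ⟨l, hl, hkl.bs _ (hb _ (Finset.mem_singleton_self b)), hkl.d's _ (hx _ (Finset.mem_singleton_self x))⟩

/-- Functor from a family of finitely presented pieces along a preorder. -/
noncomputable def sysFunctor {J : Type u} [Preorder J] {σ : Type u} (a : J → Pt R σ)
    (hs : ∀ {j k : J}, j ≤ k → ∀ x ∈ (a j).s, x ∈ (a k).s)
    (hr : ∀ {j k : J}, j ≤ k → ∀ p ∈ (a j).rel, p ∈ (a k).rel) : J ⥤ Under (CommRingCat.of R) where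
  obj j := mkU R (Q (a j))
  map h := homU (inc _ _ (hs h.le) (hr h.le))
  map_id j := hom_ext _ _ fun x => inc_self (hs le_rfl) (hr le_rfl) x
  map_comp h h' := hom_ext _ _ fun x => (inc_inc (hs h.le) (hr h.le) (hs h'.le) (hr h'.le) x).symm

noncomputable def Pair (f : B →ₐ[R] D) (j : Idx i g) : Subalgebra R (Q j.b × Q j.d') :=
  AlgHom.equalizer ((phi j).comp (AlgHom.fst R (Q j.b) (Q j.d'))) ((psi j).comp (AlgHom.snd R (Q j.b) (Q j.d')))

theorem mem_Pair (f : B →ₐ[R] D) (j : Idx i g) (x : Q j.b × Q j.d') :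
    x ∈ Pair f j ↔ phi j x.1 = psi j x.2 := Iff.rfl

noncomputable def iP (f : B →ₐ[R] D) {j k : Idx i g} (h : j ≤ k) : Pair f j →ₐ[R] Pair f k :=
  (((iB h).comp ((AlgHom.fst R (Q j.b) (Q j.d')).comp (Pair f j).val)).prod
    ((iD' h).comp ((AlgHom.snd R (Q j.b) (Q j.d')).comp (Pair f j).val))).codRestrict _ fun x => by
    show phi k (iB h x.1.1) = psi k (iD' h x.1.2)
    rw [phi_iB, psi_iD', (mem_Pair f j x.1).1 x.2]

/-- In ring form, let R be a commutative ring, f : B → D any map of R-algebras and i : D' → D a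
surjective map of R-algebras every element of whose kernel is nilpotent (so Spec D → Spec D' is a
locally nilpotent closed immersion of affine R-schemes and Spec D → Spec B is affine), and let q₁ :
P → B, q₂ : P → D' exhibit P as the fibre product ring B ×_D D' (the pushout of the two affine
schemes). Then the diagram B → D ← D' is a filtered colimit, in R-algebras, of diagrams B_j → D_j ←
D'_j of R-algebras of finite presentation in which D'_j → D_j is surjective with locally nilpotent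
kernel; and the fibre products P_j = B_j ×_{D_j} D'_j form a compatible diagram whose colimit is P.
Moreover: if f is surjective (resp. surjective with locally nilpotent kernel, resp. integral) then
every B_j → D_j can be taken surjective (resp. surjective with locally nilpotent kernel, resp.
integral). (The published statement also covers two further classes, maps that become a closed or a
locally nilpotent immersion after composing with a locally nilpotent closed immersion; those two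
clauses are not stated here.) -/
theorem result {R B D D' P : Type u} [CommRing R] [CommRing B]
    [CommRing D] [CommRing D'] [CommRing P] [Algebra R B] [Algebra R D] [Algebra R D'] [Algebra R P]
    (f : B →ₐ[R] D) (i : D' →ₐ[R] D) (hi : Function.Surjective i)
    (hnil : ∀ x ∈ RingHom.ker i.toRingHom, IsNilpotent x) (q₁ : P →ₐ[R] B) (q₂ : P →ₐ[R] D')
    (hP : IsPullback (CommRingCat.ofHom q₁.toRingHom) (CommRingCat.ofHom q₂.toRingHom)
      (CommRingCat.ofHom f.toRingHom) (CommRingCat.ofHom i.toRingHom)) :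
    ∃ (ι : Type u) (_ : SmallCategory ι) (_ : IsFiltered ι) (DB DD DD' DP : ι ⥤ Under (CommRingCat.of R))
      (φ : DB ⟶ DD) (ψ : DD' ⟶ DD) (π₁ : DP ⟶ DB) (π₂ : DP ⟶ DD')
      (cB : DB ⟶ (Functor.const ι).obj (Under.mk (CommRingCat.ofHom (algebraMap R B))))
      (cD : DD ⟶ (Functor.const ι).obj (Under.mk (CommRingCat.ofHom (algebraMap R D))))
      (cD' : DD' ⟶ (Functor.const ι).obj (Under.mk (CommRingCat.ofHom (algebraMap R D'))))
      (cP : DP ⟶ (Functor.const ι).obj (Under.mk (CommRingCat.ofHom (algebraMap R P)))),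
      Nonempty (IsColimit (Cocone.mk _ cB)) ∧ Nonempty (IsColimit (Cocone.mk _ cD)) ∧
      Nonempty (IsColimit (Cocone.mk _ cD')) ∧ Nonempty (IsColimit (Cocone.mk _ cP)) ∧
      (∀ j, (φ.app j).right ≫ (cD.app j).right = (cB.app j).right ≫ CommRingCat.ofHom f.toRingHom) ∧
      (∀ j, (ψ.app j).right ≫ (cD.app j).right = (cD'.app j).right ≫ CommRingCat.ofHom i.toRingHom) ∧
      (∀ j, (π₁.app j).right ≫ (cB.app j).right = (cP.app j).right ≫ CommRingCat.ofHom q₁.toRingHom) ∧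
      (∀ j, (π₂.app j).right ≫ (cD'.app j).right = (cP.app j).right ≫ CommRingCat.ofHom q₂.toRingHom) ∧
      (∀ j, (DB.obj j).hom.hom.FinitePresentation ∧ (DD.obj j).hom.hom.FinitePresentation ∧
        (DD'.obj j).hom.hom.FinitePresentation) ∧
      (∀ j, Function.Surjective (ψ.app j).right.hom ∧ ∀ x ∈ RingHom.ker (ψ.app j).right.hom, IsNilpotent x) ∧
      (∀ j, IsPullback (π₁.app j).right (π₂.app j).right (φ.app j).right (ψ.app j).right) ∧
      (Function.Surjective f → ∀ j, Function.Surjective (φ.app j).right.hom) ∧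
      (Function.Surjective f → (∀ x ∈ RingHom.ker f.toRingHom, IsNilpotent x) →
        ∀ j, Function.Surjective (φ.app j).right.hom ∧ ∀ x ∈ RingHom.ker (φ.app j).right.hom, IsNilpotent x) ∧
      (f.toRingHom.IsIntegral → ∀ j, (φ.app j).right.hom.IsIntegral) := by
  classical
  obtain ⟨σ, hσi⟩ := hi.hasRightInverse
  let g : B → D' := fun b => σ (f b)
  have hσ : ∀ b, i (g b) = f b := fun b => hσi (f b)
  let J : Type u := {j : Idx i g // Good f j}
  haveI : Nonempty J := ⟨⟨_, (exists_gen hnil hσ 0 0).choose_spec.1⟩⟩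
  haveI : IsDirectedOrder J := ⟨fun a b => by
    obtain ⟨l, ha, hb⟩ := exists_union a.1 b.1
    obtain ⟨m, hlm, hm⟩ := exists_good hnil hσ l
    exact ⟨⟨m, hm⟩, ha.trans hlm, hb.trans hlm⟩⟩
  have up : ∀ {j : J} {k : Idx i g}, j.1 ≤ k → ∃ l : J, j ≤ l ∧ k ≤ l.1 := fun {j k} h => by
    obtain ⟨m, hkm, hm⟩ := exists_good hnil hσ k
    exact ⟨⟨m, hm⟩, h.trans hkm, hkm⟩
  let DB : J ⥤ Under (CommRingCat.of R) := sysFunctor (fun j => j.1.b) (fun h => h.bs) (fun h => h.br)
  let DD : J ⥤ Under (CommRingCat.of R) := sysFunctor (fun j => j.1.d) (fun h => h.ds) (fun h => h.dr)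
  let DD' : J ⥤ Under (CommRingCat.of R) := sysFunctor (fun j => j.1.d') (fun h => h.d's) (fun h => h.d'r)
  let DP : J ⥤ Under (CommRingCat.of R) :=
  { obj := fun j => mkU R (Pair f j.1)
    map := fun h => homU (iP f h.le)
    map_id := fun j => hom_ext _ _ fun x => Subtype.ext (Prod.ext (inc_self (fun _ h => h) (fun _ h => h) _) (inc_self (fun _ h => h) (fun _ h => h) _))
    map_comp := fun h h' => hom_ext _ _ fun x =>
      Subtype.ext (Prod.ext (inc_inc h.le.bs h.le.br h'.le.bs h'.le.br _).symm (inc_inc h.le.d's h.le.d'r h'.le.d's h'.le.d'r _).symm) }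
  let φ : DB ⟶ DD := { app := fun j => homU (phi j.1), naturality := fun _ _ h => hom_ext _ _ fun x => phi_iB h.le x }
  let ψ : DD' ⟶ DD := { app := fun j => homU (psi j.1), naturality := fun _ _ h => hom_ext _ _ fun x => psi_iD' h.le x }
  let π₁ : DP ⟶ DB :=
  { app := fun j => homU ((AlgHom.fst R (Q j.1.b) (Q j.1.d')).comp (Pair f j.1).val)
    naturality := fun _ _ h => hom_ext _ _ fun x => rfl }
  let π₂ : DP ⟶ DD' :=
  { app := fun j => homU ((AlgHom.snd R (Q j.1.b) (Q j.1.d')).comp (Pair f j.1).val)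
    naturality := fun _ _ h => hom_ext _ _ fun x => rfl }
  -- the fibre product as pairs
  have hP' := CommRingCat.pullbackConeIsLimit (CommRingCat.ofHom f.toRingHom) (CommRingCat.ofHom i.toRingHom)
  let e := hP.isoIsPullback _ _ (IsPullback.of_isLimit hP')
  have he1 : ∀ p : P, (e.hom.hom p).1.1 = q₁ p := fun p => by
    have := congrArg (fun h => h.hom p) (hP.isoIsPullback_hom_fst _ _ (IsPullback.of_isLimit hP'))
    exact this
  have he2 : ∀ p : P, (e.hom.hom p).1.2 = q₂ p := fun p => by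
    have := congrArg (fun h => h.hom p) (hP.isoIsPullback_hom_snd _ _ (IsPullback.of_isLimit hP'))
    exact this
  have hinjP : ∀ p p' : P, q₁ p = q₁ p' → q₂ p = q₂ p' → p = p' := fun p p' h1 h2 => by
    have h : e.hom.hom p = e.hom.hom p' :=
      Subtype.ext (Prod.ext (by rw [he1, he1, h1]) (by rw [he2, he2, h2]))
    have := congrArg (fun z => e.inv.hom z) h
    simpa using this
  have hcomp : ∀ (j : J) (x : Pair f j.1), f (evB j.1 x.1.1) = i (evD' j.1 x.1.2) := fun j x => by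
    rw [← evD_phi hσ, ← evD_psi, (mem_Pair f j.1 x.1).1 x.2]
  let cPfun : ∀ (j : J), Pair f j.1 → P := fun j x => e.inv.hom ⟨(evB j.1 x.1.1, evD' j.1 x.1.2), hcomp j x⟩
  have hc1 : ∀ (j : J) (x : Pair f j.1), q₁ (cPfun j x) = evB j.1 x.1.1 := fun j x => by
    rw [← he1]; simp [cPfun]
  have hc2 : ∀ (j : J) (x : Pair f j.1), q₂ (cPfun j x) = evD' j.1 x.1.2 := fun j x => by
    rw [← he2]; simp [cPfun]
  let cPalg : ∀ j : J, Pair f j.1 →ₐ[R] P := fun j =>
  { toFun := cPfun j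
    map_one' := hinjP _ _ (by simp [hc1]) (by simp [hc2])
    map_mul' := fun x y => hinjP _ _ (by simp [hc1]) (by simp [hc2])
    map_zero' := hinjP _ _ (by simp [hc1]) (by simp [hc2])
    map_add' := fun x y => hinjP _ _ (by simp [hc1]) (by simp [hc2])
    commutes' := fun r => hinjP _ _ (by simp [hc1]) (by simp [hc2]) }
  let cB : DB ⟶ (Functor.const J).obj (Under.mk (CommRingCat.ofHom (algebraMap R B))) :=
  { app := fun j => homU (evB j.1), naturality := fun _ _ h => hom_ext _ _ fun x => evB_iB h.le x }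
  let cD : DD ⟶ (Functor.const J).obj (Under.mk (CommRingCat.ofHom (algebraMap R D))) :=
  { app := fun j => homU (evD j.1), naturality := fun _ _ h => hom_ext _ _ fun x => evD_iD h.le x }
  let cD' : DD' ⟶ (Functor.const J).obj (Under.mk (CommRingCat.ofHom (algebraMap R D'))) :=
  { app := fun j => homU (evD' j.1), naturality := fun _ _ h => hom_ext _ _ fun x => evD'_iD' h.le x }
  let cP : DP ⟶ (Functor.const J).obj (Under.mk (CommRingCat.ofHom (algebraMap R P))) :=
  { app := fun j => homU (cPalg j)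
    naturality := fun j k h => hom_ext _ _ fun x => by
      show cPfun k (iP f h.le x) = cPfun j x
      exact hinjP _ _ (by rw [hc1, hc1]; exact evB_iB h.le _) (by rw [hc2, hc2]; exact evD'_iD' h.le _) }
  refine ⟨J, inferInstance, inferInstance, DB, DD, DD', DP, φ, ψ, π₁, π₂, cB, cD, cD', cP, ?_, ?_, ?_, ?_,
    fun j => CommRingCat.hom_ext (RingHom.ext fun x => evD_phi hσ j.1 x),
    fun j => CommRingCat.hom_ext (RingHom.ext fun x => evD_psi j.1 x),
    fun j => CommRingCat.hom_ext (RingHom.ext fun x => (hc1 j x).symm),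
    fun j => CommRingCat.hom_ext (RingHom.ext fun x => (hc2 j x).symm),
    fun j => ⟨finitePresentation_hom (finitePresentation_Q _), finitePresentation_hom (finitePresentation_Q _),
      finitePresentation_hom (finitePresentation_Q _)⟩,
    fun j => ⟨psi_surjective j.1, fun x hx => psi_ker_nilpotent j.1 hx⟩,
    fun j => ?_,
    fun hf j => j.2.surj hf,
    fun hf hn j => ⟨j.2.surj hf, fun x hx => j.2.nil hf hn x hx⟩,
    fun hf j => j.2.int hf⟩
  · refine isColimit_of_bijective _ _ (fun (b : B) => ?_) (fun j x y h => ?_)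
    · obtain ⟨k, hk, hb, -⟩ := exists_gen hnil hσ b 0
      exact ⟨⟨k, hk⟩, gen k.b b hb, (ev_gen (id : B → B) k.b k.hb hb : evB k (gen k.b b hb) = b)⟩
    · obtain ⟨k, hjk, hk⟩ := injB hnil hσ j.1 h
      obtain ⟨l, hjl, hkl⟩ := up hjk
      exact ⟨l, homOfLE hjl, ((inc_inc hjk.bs hjk.br hkl.bs hkl.br x).symm.trans (congrArg (iB hkl) hk)).trans
        (inc_inc hjk.bs hjk.br hkl.bs hkl.br y)⟩
  · refine isColimit_of_bijective _ _ (fun (d : D) => ?_) (fun j x y h => ?_)
    · obtain ⟨k, hk, -, hb⟩ := exists_gen hnil hσ 0 (σ d)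
      exact ⟨⟨k, hk⟩, gen k.d (σ d) (k.hs₁ _ hb), ((ev_gen (fun x => i x) k.d k.hd (k.hs₁ _ hb)).trans (hσi d) : evD k (gen k.d (σ d) (k.hs₁ _ hb)) = d)⟩
    · obtain ⟨k, hjk, hk⟩ := injD hnil j.1 h
      obtain ⟨l, hjl, hkl⟩ := up hjk
      exact ⟨l, homOfLE hjl, ((inc_inc hjk.ds hjk.dr hkl.ds hkl.dr x).symm.trans (congrArg (iD hkl) hk)).trans
        (inc_inc hjk.ds hjk.dr hkl.ds hkl.dr y)⟩
  · refine isColimit_of_bijective _ _ (fun (d : D') => ?_) (fun j x y h => ?_)
    · obtain ⟨k, hk, -, hb⟩ := exists_gen hnil hσ 0 d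
      exact ⟨⟨k, hk⟩, gen k.d' d hb, (ev_gen (id : D' → D') k.d' k.hd' hb : evD' k (gen k.d' d hb) = d)⟩
    · obtain ⟨k, hjk, hk⟩ := injD' hnil j.1 h
      obtain ⟨l, hjl, hkl⟩ := up hjk
      exact ⟨l, homOfLE hjl, ((inc_inc hjk.d's hjk.d'r hkl.d's hkl.d'r x).symm.trans (congrArg (iD' hkl) hk)).trans
        (inc_inc hjk.d's hjk.d'r hkl.d's hkl.d'r y)⟩
  · refine isColimit_of_bijective _ _ (fun (p : P) => ?_) (fun j x y h => ?_)
    · obtain ⟨k, hkG, hb, hd⟩ := exists_gen hnil hσ (q₁ p) (q₂ p)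
      have hq : f (q₁ p) = i (q₂ p) := congrArg (fun h => h.hom p) hP.w
      obtain ⟨m, hkm, hm⟩ := injD hnil k (y := phi k (gen k.b _ hb)) (z := psi k (gen k.d' _ hd))
        (by rw [evD_phi hσ, evD_psi, evB, evD', ev_gen, ev_gen]; exact hq)
      obtain ⟨l, hkl, hml⟩ := up (j := ⟨k, hkG⟩) hkm
      have hmem : (iB hkl (gen k.b _ hb), iD' hkl (gen k.d' _ hd)) ∈ Pair f l.1 := by
        rw [mem_Pair, phi_iB, psi_iD']
        have := congrArg (iD hml) hm
        simp only [iD, inc_inc] at this ⊢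
        exact this
      refine ⟨l, ⟨_, hmem⟩, hinjP _ _ ?_ ?_⟩
      · exact (hc1 l _).trans ((evB_iB hkl _).trans (ev_gen _ _ _ hb))
      · exact (hc2 l _).trans ((evD'_iD' hkl _).trans (ev_gen _ _ _ hd))
    · have h1 : evB j.1 x.1.1 = evB j.1 y.1.1 := (hc1 j x).symm.trans ((congrArg q₁ h).trans (hc1 j y))
      have h2 : evD' j.1 x.1.2 = evD' j.1 y.1.2 := (hc2 j x).symm.trans ((congrArg q₂ h).trans (hc2 j y))
      obtain ⟨k1, hjk1, hk1⟩ := injB hnil hσ j.1 h1
      obtain ⟨k2, hjk2, hk2⟩ := injD' hnil j.1 h2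
      obtain ⟨m, hm1, hm2⟩ := exists_union k1 k2
      obtain ⟨l, hjl, hml⟩ := up (hjk1.trans hm1)
      refine ⟨l, homOfLE hjl, Subtype.ext (Prod.ext ?_ ?_)⟩
      · have := congrArg (iB (hm1.trans hml)) hk1
        simp only [iB, inc_inc] at this
        exact this
      · have := congrArg (iD' (hm2.trans hml)) hk2
        simp only [iD', inc_inc] at this
        exact this
  · exact IsPullback.of_isLimit (CommRingCat.pullbackConeIsLimit
      (CommRingCat.ofHom (phi j.1).toRingHom) (CommRingCat.ofHom (psi j.1).toRingHom))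


end Groth.Agent.S18016
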