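import Groth.Statements.S18014
import Groth.Agent.S18016
import Mathlib.RingTheory.Noetherian.Nilpotent
import Mathlib.RingTheory.IntegralClosure.Algebra.Basic

set_option autoImplicit false
set_option backward.isDefEq.respectTransparency false
set_option backward.isDefEq.respectTransparency.types false
set_option linter.style.haveILetI false
universe u
open CategoryTheory CategoryTheory.Limits
open Lim

namespace Groth.Agent.S18014

open MvPolynomial Groth.Agent.H69.FPApprox Groth.Agent.S18016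

variable {R B D : Type u} [CommRing R] [CommRing B] [CommRing D] [Algebra R B] [Algebra R D]
  {f : B →ₐ[R] D}

theorem hnilI (D : Type u) [CommRing D] [Algebra R D] :
    ∀ x ∈ RingHom.ker (AlgHom.id R D).toRingHom, IsNilpotent x := fun x hx => by
  rw [show x = 0 from hx]; exact IsNilpotent.zero

/-- A monic equation, linear if the base surjects. -/
theorem exists_eqn {S : Type u} [CommRing S] [Algebra R S] [Algebra.IsIntegral R S] (x : S) :
    ∃ q : Polynomial R, q.Monic ∧ Polynomial.aeval x q = 0 ∧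
      (Function.Surjective (algebraMap R S) → ∃ a, q = Polynomial.X - Polynomial.C a) := by
  by_cases h : Function.Surjective (algebraMap R S)
  · obtain ⟨a, rfl⟩ := h x
    exact ⟨_, Polynomial.monic_X_sub_C a, by simp, fun _ => ⟨a, rfl⟩⟩
  · obtain ⟨q, hq, hq0⟩ := Algebra.IsIntegral.isIntegral (R := R) x
    exact ⟨q, hq, hq0, fun h' => absurd h' h⟩

theorem aevalX_mem {σ : Type u} (a : Pt R σ) {x : σ} (hx : x ∈ a.s) (q : Polynomial R) :
    Polynomial.aeval (X x) q ∈ supported R (↑a.s : Set σ) := by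
  rw [show (X x : MvPolynomial σ R) = (supported R (↑a.s : Set σ)).val ⟨X x, X_mem a hx⟩ from rfl,
    Polynomial.aeval_algHom_apply]
  exact (Polynomial.aeval (⟨X x, X_mem a hx⟩ : supported R (↑a.s : Set σ)) q).2

theorem aeval_gen {σ : Type u} (a : Pt R σ) {x : σ} (hx : x ∈ a.s) (q : Polynomial R)
    (h : Polynomial.aeval (X x) q ∈ a.rel) : Polynomial.aeval (gen a x hx) q = 0 := by
  rw [gen, Polynomial.aeval_algHom_apply]
  refine cls_eq_zero a ?_
  rw [← Subalgebra.coe_val, ← Polynomial.aeval_algHom_apply]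
  exact h

/-- The pieces are finite, and surjectivity from the base is inherited. -/
structure Fin' (j : Idx (AlgHom.id R D) (fun b => f b)) : Prop where
  finB : Module.Finite R (Q j.b)
  finD : Module.Finite R (Q j.d)
  surB : Function.Surjective (algebraMap R B) → Function.Surjective (algebraMap R (Q j.b))
  surD : Function.Surjective (algebraMap R D) → Function.Surjective (algebraMap R (Q j.d))

theorem finite_Q {σ : Type u} (a : Pt R σ) (q : σ → Polynomial R) (hq : ∀ x, (q x).Monic)
    (h : ∀ x ∈ a.s, Polynomial.aeval (X x) (q x) ∈ a.rel) : Module.Finite R (Q a) := by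
  haveI := finitePresentation_Q a
  have hi : (algebraMap R (Q a)).IsIntegral := isIntegral_of_gens a (Algebra.ofId R (Q a))
    fun x hx => ⟨q x, hq x, (Polynomial.aeval_def _ _).symm.trans (aeval_gen a hx _ (h x hx))⟩
  haveI : Algebra.IsIntegral R (Q a) := ⟨hi⟩
  exact Algebra.IsIntegral.finite

theorem surjective_Q {σ : Type u} (a : Pt R σ) (q : σ → Polynomial R)
    (hq : ∀ x, ∃ c, q x = Polynomial.X - Polynomial.C c)
    (h : ∀ x ∈ a.s, Polynomial.aeval (X x) (q x) ∈ a.rel) : Function.Surjective (algebraMap R (Q a)) :=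
  surjective_of_gens a (Algebra.ofId R (Q a)) fun x hx => by
    obtain ⟨c, hc⟩ := hq x
    have := aeval_gen a hx _ (h x hx)
    rw [hc, map_sub, Polynomial.aeval_X, Polynomial.aeval_C, sub_eq_zero] at this
    exact ⟨c, this.symm⟩

theorem exists_fin [Algebra.IsIntegral R B] [Algebra.IsIntegral R D]
    (j : Idx (AlgHom.id R D) (fun b => f b)) :
    ∃ (k : Idx (AlgHom.id R D) (fun b => f b)) (hjk : j ≤ k), Fin' k ∧
      k.b.s = j.b.s ∧ k.d.s = j.d.s := by
  classical
  choose qB hB hB0 hBs using exists_eqn (R := R) (S := B)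
  choose qD hD hD0 hDs using exists_eqn (R := R) (S := D)
  obtain ⟨k, hjk, hkd, hkb, hk, -⟩ := exists_addB (hnilI D) (f := f) (fun _ => rfl) j
    (j.b.s.image fun x => Polynomial.aeval (X x) (qB x))
    (fun p hp => by obtain ⟨x, hx, rfl⟩ := Finset.mem_image.1 hp; exact aevalX_mem _ hx _)
    (fun p hp => by
      obtain ⟨x, hx, rfl⟩ := Finset.mem_image.1 hp
      rw [← Polynomial.aeval_algHom_apply, aeval_X]; exact hB0 x)
  obtain ⟨l, hkl, hld, hlb, hl, -⟩ := exists_addR (hnilI D) k
    (j.d.s.image fun x => Polynomial.aeval (X x) (qD x))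
    (fun p hp => by
      obtain ⟨x, hx, rfl⟩ := Finset.mem_image.1 hp; exact aevalX_mem _ (k.hs₂ _ (hjk.ds _ hx)) _)
    (fun p hp => by
      obtain ⟨x, hx, rfl⟩ := Finset.mem_image.1 hp
      rw [← Polynomial.aeval_algHom_apply, aeval_X]; exact hD0 x)
  have hbs : l.b.s = j.b.s := (congrArg Pt.s hlb).trans hkb
  have hds : l.d.s = j.d.s := hld.trans hkd
  have rB : ∀ x ∈ l.b.s, Polynomial.aeval (X x) (qB x) ∈ l.b.rel := fun x hx =>
    hkl.br _ (hk _ (Finset.mem_image_of_mem _ (hbs ▸ hx)))
  have rD : ∀ x ∈ l.d.s, Polynomial.aeval (X x) (qD x) ∈ l.d.rel := fun x hx =>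
    hl _ (Finset.mem_image_of_mem _ (hds ▸ hx))
  exact ⟨l, hjk.trans hkl, ⟨finite_Q _ qB hB rB, finite_Q _ qD hD rD,
    fun h => surjective_Q _ qB (fun x => hBs x h) rB, fun h => surjective_Q _ qD (fun x => hDs x h) rD⟩, hbs, hds⟩

theorem inc_surjective {σ : Type u} {a b : Pt R σ} (hs : ∀ x ∈ a.s, x ∈ b.s) (hr : ∀ p ∈ a.rel, p ∈ b.rel)
    (h : b.s = a.s) : Function.Surjective (inc a b hs hr) :=
  surjective_of_gens _ _ fun x hx => ⟨gen a x (h ▸ hx), mapQ_gen id a b _
    (fun p hp => by rw [rename_id_apply]; exact hr p hp) _⟩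

theorem phi_surj_of_le {j k : Idx (AlgHom.id R D) (fun b => f b)} (h : j ≤ k) (hd : k.d.s = j.d.s)
    (hj : Function.Surjective (phi j)) : Function.Surjective (phi k) := fun z => by
  obtain ⟨y, rfl⟩ := inc_surjective h.ds h.dr hd z
  obtain ⟨x, rfl⟩ := hj y
  exact ⟨iB h x, phi_iB h x⟩

theorem exists_nil (hn : ∀ x ∈ RingHom.ker f.toRingHom, IsNilpotent x)
    (k : Idx (AlgHom.id R D) (fun b => f b)) (hk : Function.Surjective (phi k)) :
    ∃ (l : Idx (AlgHom.id R D) (fun b => f b)) (hkl : k ≤ l), l.d.s = k.d.s ∧ l.b.s = k.b.s ∧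
      ∀ x, phi l x = 0 → IsNilpotent x := by
  classical
  haveI := finitePresentation_Q k.b
  haveI := finitePresentation_Q k.d
  obtain ⟨G, hG⟩ := Algebra.FinitePresentation.ker_fG_of_surjective (phi k) hk
  choose w hw using cls_surjective k.b
  have hG0 : ∀ y ∈ G, phi k y = 0 := fun y hy =>
    show y ∈ RingHom.ker (phi k).toRingHom from hG ▸ Ideal.subset_span hy
  have hN : ∀ y ∈ G, ∃ n : ℕ, n ≠ 0 ∧ aeval (id : B → B) ((w y).1 ^ n) = 0 := by
    intro y hy
    obtain ⟨n, hn'⟩ := hn (evB k y) (by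
      show f (evB k y) = 0
      exact (evD_phi (i := AlgHom.id R D) (f := f) (fun _ => rfl) k y).symm.trans ((congrArg (evD k) (hG0 y hy)).trans (map_zero _)))
    refine ⟨n + 1, n.succ_ne_zero, ?_⟩
    rw [map_pow, ← ev_cls _ _ k.hb, hw, pow_succ]
    exact mul_eq_zero_of_left hn' _
  choose! N hN using hN
  obtain ⟨l, hkl, hls, hlb, hl, hinj⟩ := exists_addB (hnilI D) (f := f) (fun _ => rfl) k
    (G.image fun y => (w y).1 ^ N y)
    (fun p hp => by obtain ⟨y, -, rfl⟩ := Finset.mem_image.1 hp; exact pow_mem (w y).2 _)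
    (fun p hp => by obtain ⟨y, hy, rfl⟩ := Finset.mem_image.1 hp; exact (hN y hy).2)
  have hinj' : ∀ y, iD hkl y = 0 → y = 0 := by
    refine hinj fun p hp h => ?_
    obtain ⟨y, hy, rfl⟩ := Finset.mem_image.1 hp
    rw [show (⟨(w y).1 ^ N y, h⟩ : supported R (↑k.b.s : Set B)) = w y ^ N y from Subtype.ext rfl,
      map_pow, hw, map_pow, hG0 y hy]
    exact zero_pow (hN y hy).1
  refine ⟨l, hkl, hls, hlb, fun x hx => ?_⟩
  obtain ⟨y, rfl⟩ := inc_surjective hkl.bs hkl.br hlb x
  have hx' : iD hkl (phi k y) = 0 := (phi_iB hkl y).symm.trans hx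
  have hy : y ∈ Ideal.span (G : Set (Q k.b)) := by
    rw [show Ideal.span (G : Set (Q k.b)) = RingHom.ker (phi k).toRingHom from hG]
    exact hinj' _ hx'
  have hle : Ideal.span (G : Set (Q k.b)) ≤ Ideal.comap (iB hkl).toRingHom (nilradical (Q l.b)) := by
    refine Ideal.span_le.2 fun z hz => mem_nilradical.2 ⟨N z, ?_⟩
    show iB hkl z ^ N z = 0
    rw [← map_pow, show z ^ N z = cls k.b (w z ^ N z) by rw [map_pow, hw], iB,
      inc_cls _ _ _ _ _ ((supported_mono fun v hv => hkl.bs v hv : _ ≤ _) (w z ^ N z).2)]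
    exact cls_eq_zero _ (hl _ (Finset.mem_image_of_mem _ hz))
  exact mem_nilradical.1 (hle hy)

/-- All the conditions. -/
structure Good' (j : Idx (AlgHom.id R D) (fun b => f b)) : Prop extends Fin' j where
  surj : Function.Surjective f → Function.Surjective (phi j)
  nil : Function.Surjective f → (∀ x ∈ RingHom.ker f.toRingHom, IsNilpotent x) →
    ∀ x, phi j x = 0 → IsNilpotent x

theorem exists_good' [Algebra.IsIntegral R B] [Algebra.IsIntegral R D]
    (j : Idx (AlgHom.id R D) (fun b => f b)) :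
    ∃ k : Idx (AlgHom.id R D) (fun b => f b), j ≤ k ∧ Good' k := by
  obtain ⟨k, hjk, hk⟩ : ∃ k, j ≤ k ∧ (Function.Surjective f → Function.Surjective (phi k)) := by
    by_cases hf : Function.Surjective f
    · obtain ⟨k, h1, h2⟩ := exists_surj (hnilI D) (f := f) (fun _ => rfl) hf j
      exact ⟨k, h1, fun _ => h2⟩
    · exact ⟨j, le_rfl, fun h => absurd h hf⟩
  obtain ⟨l, hkl, hl, -, hld⟩ := exists_fin k
  have hls : Function.Surjective f → Function.Surjective (phi l) := fun h => phi_surj_of_le hkl hld (hk h)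
  by_cases hn : Function.Surjective f ∧ ∀ x ∈ RingHom.ker f.toRingHom, IsNilpotent x
  swap
  · exact ⟨l, hjk.trans hkl, hl, hls, fun h h' => absurd ⟨h, h'⟩ hn⟩
  obtain ⟨m, hlm, hmd, hmb, hm⟩ := exists_nil hn.2 l (hls hn.1)
  have sB : Function.Surjective (iB hlm) := inc_surjective hlm.bs hlm.br hmb
  have sD : Function.Surjective (iD hlm) := inc_surjective hlm.ds hlm.dr hmd
  haveI := hl.finB
  haveI := hl.finD
  refine ⟨m, hjk.trans (hkl.trans hlm), ⟨?_, ?_, fun h => ?_, fun h => ?_⟩,
    fun h => phi_surj_of_le hlm hmd (hls h), fun _ _ => hm⟩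
  · exact Module.Finite.of_surjective (iB hlm).toLinearMap sB
  · exact Module.Finite.of_surjective (iD hlm).toLinearMap sD
  · rw [show (algebraMap R (Q m.b) : R → Q m.b) = fun r => iB hlm (algebraMap R (Q l.b) r) from
      funext fun r => ((iB hlm).commutes r).symm]
    exact sB.comp (hl.surB h)
  · rw [show (algebraMap R (Q m.d) : R → Q m.d) = fun r => iD hlm (algebraMap R (Q l.d) r) from
      funext fun r => ((iD hlm).commutes r).symm]
    exact sD.comp (hl.surD h)

theorem ker_le_of_algHom {S T : Type u} [CommRing S] [CommRing T] [Algebra R S] [Algebra R T]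
    (φ : S →ₐ[R] T) : RingHom.ker (algebraMap R S) ≤ RingHom.ker (algebraMap R T) := fun r hr => by
  rw [RingHom.mem_ker, ← φ.commutes r, show algebraMap R S r = 0 from hr, map_zero]

/-- Let A be a commutative ring, B an A-algebra and C a B-algebra, with B and C both integral over A.
Then B → C is a filtered colimit, in the category of A-algebras, of maps B_i → C_i between
A-algebras each of which is finite and of finite presentation over A: there are a small filtered
index category, two diagrams of A-algebras over it with a morphism of diagrams, and colimiting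
cocones with vertices B and C under which the morphism of diagrams induces B → C. Moreover the
system can be chosen so that if A → B (resp. B → C, resp. A → C) is surjective then so is every A →
B_i (resp. B_i → C_i, resp. A → C_i), and if A → B (resp. B → C, resp. A → C) is surjective with
nilpotent kernel then so is every A → B_i (resp. B_i → C_i, resp. A → C_i). -/
theorem result {A B C : Type u} [CommRing A] [CommRing B]
    [CommRing C] [Algebra A B] [Algebra A C] [Algebra B C] [IsScalarTower A B C]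
    [Algebra.IsIntegral A B] [Algebra.IsIntegral A C] :
    ∃ (ι : Type u) (_ : SmallCategory ι) (_ : IsFiltered ι) (DB DC : ι ⥤ Under (CommRingCat.of A)) (τ : DB ⟶ DC)
      (cB : DB ⟶ (Functor.const ι).obj (Under.mk (CommRingCat.ofHom (algebraMap A B))))
      (cC : DC ⟶ (Functor.const ι).obj (Under.mk (CommRingCat.ofHom (algebraMap A C)))),
      Nonempty (IsColimit (Cocone.mk _ cB)) ∧ Nonempty (IsColimit (Cocone.mk _ cC)) ∧
      (∀ i, (τ.app i).right ≫ (cC.app i).right = (cB.app i).right ≫ CommRingCat.ofHom (algebraMap B C)) ∧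
      (∀ i, (DB.obj i).hom.hom.Finite ∧ (DB.obj i).hom.hom.FinitePresentation ∧
        (DC.obj i).hom.hom.Finite ∧ (DC.obj i).hom.hom.FinitePresentation) ∧
      (Function.Surjective (algebraMap A B) → ∀ i, Function.Surjective (DB.obj i).hom.hom) ∧
      (Function.Surjective (algebraMap B C) → ∀ i, Function.Surjective (τ.app i).right.hom) ∧
      (Function.Surjective (algebraMap A C) → ∀ i, Function.Surjective (DC.obj i).hom.hom) ∧
      (Function.Surjective (algebraMap A B) → IsNilpotent (RingHom.ker (algebraMap A B)) →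
        ∀ i, Function.Surjective (DB.obj i).hom.hom ∧ IsNilpotent (RingHom.ker (DB.obj i).hom.hom)) ∧
      (Function.Surjective (algebraMap B C) → IsNilpotent (RingHom.ker (algebraMap B C)) →
        ∀ i, Function.Surjective (τ.app i).right.hom ∧ IsNilpotent (RingHom.ker (τ.app i).right.hom)) ∧
      (Function.Surjective (algebraMap A C) → IsNilpotent (RingHom.ker (algebraMap A C)) →
        ∀ i, Function.Surjective (DC.obj i).hom.hom ∧ IsNilpotent (RingHom.ker (DC.obj i).hom.hom)) := by
  classical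
  let f : B →ₐ[A] C := IsScalarTower.toAlgHom A B C
  have hσ : ∀ b, (AlgHom.id A C) (f b) = f b := fun _ => rfl
  let J : Type u := {j : Idx (AlgHom.id A C) (fun b => f b) // Good' j}
  have mk : ∀ j : Idx (AlgHom.id A C) (fun b => f b), ∃ l : J, j ≤ l.1 := fun j => by
    obtain ⟨k, h, hk⟩ := exists_good' j; exact ⟨⟨k, hk⟩, h⟩
  have gen' : ∀ (b : B) (c : C), ∃ l : J, b ∈ l.1.b.s ∧ c ∈ l.1.d.s := fun b c => by
    obtain ⟨k, -, hb, hc⟩ := exists_gen (hnilI C) (f := f) hσ b c
    obtain ⟨l, hl⟩ := mk k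
    exact ⟨l, hl.bs _ hb, hl.ds _ (k.hs₁ _ hc)⟩
  haveI : Nonempty J := ⟨(gen' 0 0).choose⟩
  haveI : IsDirectedOrder J := ⟨fun a b => by
    obtain ⟨l, ha, hb⟩ := exists_union a.1 b.1
    obtain ⟨m, hlm⟩ := mk l
    exact ⟨m, ha.trans hlm, hb.trans hlm⟩⟩
  let DB : J ⥤ Under (CommRingCat.of A) := sysFunctor (fun j => j.1.b) (fun h => h.bs) (fun h => h.br)
  let DC : J ⥤ Under (CommRingCat.of A) := sysFunctor (fun j => j.1.d) (fun h => h.ds) (fun h => h.dr)
  let τ : DB ⟶ DC := { app := fun j => homU (phi j.1), naturality := fun _ _ h => hom_ext _ _ fun x => phi_iB h.le x }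
  let cB : DB ⟶ (Functor.const J).obj (Under.mk (CommRingCat.ofHom (algebraMap A B))) :=
  { app := fun j => homU (evB j.1), naturality := fun _ _ h => hom_ext _ _ fun x => evB_iB h.le x }
  let cC : DC ⟶ (Functor.const J).obj (Under.mk (CommRingCat.ofHom (algebraMap A C))) :=
  { app := fun j => homU (evD j.1), naturality := fun _ _ h => hom_ext _ _ fun x => evD_iD h.le x }
  have hn : IsNilpotent (RingHom.ker (algebraMap B C)) → ∀ x ∈ RingHom.ker f.toRingHom, IsNilpotent x := by
    rintro ⟨n, hn⟩ x hx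
    refine ⟨n, ?_⟩
    have h : x ^ n ∈ RingHom.ker (algebraMap B C) ^ n := Ideal.pow_mem_pow hx n
    rw [hn] at h
    exact h
  have hker : ∀ {S T : Type u} [CommRing S] [CommRing T] [Algebra A S] [Algebra A T] (φ : S →ₐ[A] T),
      IsNilpotent (RingHom.ker (algebraMap A T)) → IsNilpotent (RingHom.ker (algebraMap A S)) := by
    intro S T _ _ _ _ φ ⟨n, hn⟩
    refine ⟨n, le_antisymm ?_ bot_le⟩
    exact (Ideal.pow_right_mono (ker_le_of_algHom φ) n).trans (le_of_eq hn)
  refine ⟨J, inferInstance, inferInstance, DB, DC, τ, cB, cC, ?_, ?_,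
    fun j => CommRingCat.hom_ext (RingHom.ext fun x => evD_phi hσ j.1 x),
    fun j => ⟨RingHom.finite_algebraMap.2 j.2.finB, finitePresentation_hom (finitePresentation_Q _),
      RingHom.finite_algebraMap.2 j.2.finD, finitePresentation_hom (finitePresentation_Q _)⟩,
    fun h j => j.2.surB h, fun h j => j.2.surj h, fun h j => j.2.surD h,
    fun h h' j => ⟨j.2.surB h, hker (evB j.1) h'⟩,
    fun h h' j => ⟨j.2.surj h, ?_⟩,
    fun h h' j => ⟨j.2.surD h, hker (evD j.1) h'⟩⟩
  · refine isColimit_of_bijective _ _ (fun (b : B) => ?_) (fun j x y h => ?_)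
    · obtain ⟨k, hb, -⟩ := gen' b 0
      exact ⟨k, gen k.1.b b hb, (ev_gen (id : B → B) k.1.b k.1.hb hb : evB k.1 (gen k.1.b b hb) = b)⟩
    · obtain ⟨k, hjk, hk⟩ := injB (hnilI C) (f := f) hσ j.1 h
      obtain ⟨l, hkl⟩ := mk k
      exact ⟨l, homOfLE (hjk.trans hkl), ((inc_inc hjk.bs hjk.br hkl.bs hkl.br x).symm.trans (congrArg (iB hkl) hk)).trans
        (inc_inc hjk.bs hjk.br hkl.bs hkl.br y)⟩
  · refine isColimit_of_bijective _ _ (fun (c : C) => ?_) (fun j x y h => ?_)
    · obtain ⟨k, -, hc⟩ := gen' 0 c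
      exact ⟨k, gen k.1.d c hc, (ev_gen (fun x => x) k.1.d k.1.hd hc : evD k.1 (gen k.1.d c hc) = c)⟩
    · obtain ⟨k, hjk, hk⟩ := injD (hnilI C) j.1 h
      obtain ⟨l, hkl⟩ := mk k
      exact ⟨l, homOfLE (hjk.trans hkl), ((inc_inc hjk.ds hjk.dr hkl.ds hkl.dr x).symm.trans (congrArg (iD hkl) hk)).trans
        (inc_inc hjk.ds hjk.dr hkl.ds hkl.dr y)⟩
  · haveI := finitePresentation_Q j.1.b
    haveI := finitePresentation_Q j.1.d
    refine (Ideal.FG.isNilpotent_iff_le_nilradical
      (Algebra.FinitePresentation.ker_fG_of_surjective (phi j.1) (j.2.surj h))).2 fun x hx => ?_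
    exact mem_nilradical.2 (j.2.nil h (hn h') x hx)

end Groth.Agent.S18014
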