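import Groth.Statements.S18015
import Mathlib.RingTheory.Ideal.AssociatedPrime.Finiteness
import Mathlib.Algebra.Homology.ShortComplex.ModuleCat

set_option autoImplicit false
universe u
open CategoryTheory
open Coh

namespace Groth.Agent.S18015

/-- Let A be a Noetherian commutative ring and F an additive functor from A-modules to A-modules which
is half-exact, i.e. for every short exact sequence 0 → M' → M → M'' → 0 the sequence F(M') → F(M) →
F(M'') is exact at F(M). Then F(M) is a finitely generated A-module for every finitely generated
A-module M if and only if F(A/p) is a finitely generated A-module for every prime ideal p of A. (The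
published statement takes F from quasi-coherent sheaves on Spec A to abelian groups, with A acting
on each F(M) through F; this row allows any additive functor between A-module categories, A-linear
or not, and the same argument applies, since it uses only that each map F(f) is A-linear.) -/
theorem result {A : Type u} [CommRing A] [IsNoetherianRing A]
    (F : ModuleCat.{u} A ⥤ ModuleCat.{u} A) [F.Additive]
    (hF : ∀ S : ShortComplex (ModuleCat.{u} A), S.ShortExact → (S.map F).Exact) :
    (∀ M : ModuleCat.{u} A, Module.Finite A M → Module.Finite A (F.obj M)) ↔
      ∀ p : PrimeSpectrum A, Module.Finite A (F.obj (ModuleCat.of A (A ⧸ p.asIdeal))) := by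
  refine ⟨fun h p => h _ (inferInstanceAs (Module.Finite A (A ⧸ p.asIdeal))), fun hp M hM => ?_⟩
  suffices h : ∀ (N : Type u) [AddCommGroup N] [Module A N] [Module.Finite A N],
      Module.Finite A (F.obj (ModuleCat.of A N)) from h M
  intro N _ _ hN
  induction hN using IsNoetherianRing.induction_on_isQuotientEquivQuotientPrime A with
  | subsingleton N =>
    have hz : Limits.IsZero (F.obj (ModuleCat.of A N)) :=
      F.map_isZero (ModuleCat.isZero_of_subsingleton _)
    have := ModuleCat.subsingleton_of_isZero hz
    infer_instance
  | quotient N p e =>
    haveI := hp p
    exact Module.Finite.equiv (F.mapIso e.toModuleIso).toLinearEquiv.symm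
  | exact N₁ N₂ N₃ f g hf hg hfg h₁ h₃ =>
    let S : ShortComplex (ModuleCat.{u} A) :=
      ShortComplex.mk (ModuleCat.ofHom f) (ModuleCat.ofHom g) (ModuleCat.hom_ext hfg.linearMap_comp_eq_zero)
    have hS : S.ShortExact :=
      { exact := (ShortComplex.ShortExact.moduleCat_exact_iff_function_exact S).mpr hfg
        mono_f := (ModuleCat.mono_iff_injective _).mpr hf
        epi_g := (ModuleCat.epi_iff_surjective _).mpr hg }
    have hex := (ShortComplex.ShortExact.moduleCat_exact_iff_function_exact _).mp (hF S hS)
    haveI : Module.Finite A (F.obj S.X₁) := h₁
    haveI : Module.Finite A (F.obj S.X₃) := h₃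
    let a := (F.map S.f).hom
    let b := (F.map S.g).hom
    haveI : Module.Finite A (LinearMap.range a) := Module.Finite.range a
    haveI : Module.Finite A (LinearMap.range b) := inferInstance
    have hk : LinearMap.ker b = LinearMap.range a := hex.linearMap_ker_eq
    haveI : Module.Finite A (LinearMap.ker b) := hk ▸ Module.Finite.range a
    haveI : Module.Finite A ((F.obj S.X₂) ⧸ LinearMap.ker b) :=
      Module.Finite.equiv b.quotKerEquivRange.symm
    exact Module.Finite.of_submodule_quotient (LinearMap.ker b)

end Groth.Agent.S18015
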