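import Groth.Statements.S18019
import Mathlib.Algebra.CharP.Two
import Mathlib.Algebra.Polynomial.Div
import Mathlib.Algebra.Polynomial.Degree.SmallDegree
import Mathlib.RingTheory.Adjoin.Basic
import Mathlib.Algebra.Polynomial.AlgebraMap
import Mathlib.Tactic.LinearCombination

set_option autoImplicit false
universe u
open ClassStk

namespace Groth.Agent.S18019

open Polynomial in
/-- Let R be an integral domain of characteristic 2 and let a be a nonzero element of R, so that x ↦ x +
a defines an R-algebra involution of the polynomial ring R[x] (an action of the group of order two).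
A polynomial f is invariant, f(x + a) = f(x), if and only if f belongs to the R-subalgebra generated
by u = x (x + a); in other words the ring of invariants is the polynomial ring R[u]. -/
theorem result (R : Type u) [CommRing R] [IsDomain R]
    [CharP R 2] (a : R) (ha : a ≠ 0) (f : Polynomial R) :
    f.comp (X + C a) = f ↔ f ∈ Algebra.adjoin R ({X * (X + C a)} : Set (Polynomial R)) := by
  have h2 : (2 : R[X]) = 0 := by
    rw [← map_ofNat (C : R →+* R[X]) 2, CharTwo.two_eq_zero, map_zero]
  let u : R[X] := X * (X + C a)
  have hu : u.Monic := monic_X.mul (monic_X_add_C a)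
  have hud : u.natDegree = 2 := by
    rw [monic_X.natDegree_mul (monic_X_add_C a), natDegree_X, natDegree_X_add_C]
  have huc : u.comp (X + C a) = u := by
    simp only [u, mul_comp, add_comp, X_comp, C_comp]
    linear_combination (C a * X + C a ^ 2) * h2
  constructor
  · intro hf
    induction hn : f.natDegree using Nat.strong_induction_on generalizing f with
    | _ n ih =>
      have hdeg : (f %ₘ u).degree < u.degree := degree_modByMonic_lt f hu
      have hud' : u.degree = 2 := by rw [degree_eq_natDegree hu.ne_zero, hud]; rfl
      have hr : f %ₘ u = C ((f %ₘ u).coeff 1) * X + C ((f %ₘ u).coeff 0) := by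
        refine eq_X_add_C_of_degree_le_one ?_
        refine degree_le_of_natDegree_le ?_
        show (f %ₘ u).natDegree ≤ 1
        have := natDegree_modByMonic_lt f hu (fun h => by rw [h, natDegree_one] at hud; omega)
        omega
      obtain ⟨c1, c0, e⟩ : ∃ c1 c0, f %ₘ u = C c1 * X + C c0 := ⟨_, _, hr⟩
      have key : f = (C c1 * X + C c0) + u * (f /ₘ u) := by rw [← e, modByMonic_add_div]
      have key2 := congrArg (fun g => g.comp (X + C a)) key
      simp only [hf, add_comp, mul_comp, C_comp, X_comp, huc] at key2
      have hd2 : (C c1 * (X + C a) + C c0).degree < u.degree := by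
        rw [hud', mul_add, ← map_mul, add_assoc, ← map_add]
        exact (degree_linear_le).trans_lt (by decide)
      obtain ⟨hq, hr'⟩ := div_modByMonic_unique ((f /ₘ u).comp (X + C a)) _ hu ⟨key2.symm, hd2⟩
      have hc1 : c1 = 0 := by
        have := congrArg (fun g => g.coeff 0) (e.symm.trans hr')
        simp at this
        exact this.resolve_right ha
      subst hc1
      rw [key, map_zero, zero_mul, zero_add]
      refine add_mem (Subalgebra.algebraMap_mem _ c0) (mul_mem (Algebra.subset_adjoin rfl) ?_)
      by_cases h0 : f.natDegree < 2
      · rw [(divByMonic_eq_zero_iff hu).2]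
        · exact zero_mem _
        · rw [hud']
          rcases eq_or_ne f 0 with rfl | hf0
          · exact bot_lt_iff_ne_bot.2 (by simp)
          · rw [degree_eq_natDegree hf0]; exact_mod_cast h0
      · refine ih _ ?_ _ hq.symm rfl
        rw [natDegree_divByMonic f hu, hud, ← hn]
        omega
  · intro hf
    induction hf using Algebra.adjoin_induction with
    | mem x hx => rw [Set.mem_singleton_iff.1 hx]; exact huc
    | algebraMap r => exact C_comp
    | add x y _ _ hx hy => rw [add_comp, hx, hy]
    | mul x y _ _ hx hy => rw [mul_comp, hx, hy]

end Groth.Agent.S18019
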