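import Groth.Statements.S1802
import Groth.Agent.Lib.LCFin.PuncturedAffine
-- import your own Groth.Agent.* helpers here

set_option autoImplicit false
universe u
open AlgebraicGeometry
open LocCoh

namespace Groth.Agent.S1802

/-- For a Noetherian ring. Let I be an ideal of a Noetherian ring A with cd(A, I) = 1, i.e. H^i_I(M) = 0
for all modules M and all i ≥ 2 but H^1_I(M) ≠ 0 for some M. Then the open subscheme Spec A minus
V(I) is nonempty and affine. -/
theorem result (A : Type u) [CommRing A] [IsNoetherianRing A] (I : Ideal A) (h1 : LocCoh.CdLE A I 1) (h0 : ¬ LocCoh.CdLE A I 0) : Nonempty (↑(LocCoh.puncturedOpen A I) : Scheme.{u}) ∧ IsAffine (↑(LocCoh.puncturedOpen A I) : Scheme.{u}) := by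
  refine ⟨?_, Groth.Agent.Lib.LCFin.PuncturedAffine.isAffine I h1⟩
  by_contra hne
  refine h0 fun M _ _ i hi => ?_
  have hI : I ≤ nilradical A := by
    intro a ha
    rw [nilpotent_iff_mem_prime.trans Iff.rfl |> fun h => mem_nilradical.trans h]
    intro P hP
    by_contra haP
    exact hne ⟨⟨(⟨P, hP⟩ : PrimeSpectrum A), fun h => haP (h ha)⟩⟩
  obtain ⟨n, hn⟩ : IsNilpotent I := IsNoetherianRing.isNilpotent_nilradical A |>.imp fun n hn =>
    le_bot_iff.1 ((Ideal.pow_right_mono hI n).trans hn.le)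
  obtain ⟨j, rfl⟩ := Nat.exists_eq_add_of_le' (show 1 ≤ i from hi)
  exact Groth.Agent.Lib.LocalCoh.lc_subsingleton_of_isPowerTorsion (I := I) j (ModuleCat.of A M)
    fun m => ⟨n, fun a ha => by rw [hn] at ha; rw [show a = 0 from ha, zero_smul]⟩


end Groth.Agent.S1802
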