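import Groth.Statements.S18027
import Groth.Agent.H63.GrpDim
import Groth.Agent.H63.GrpConnected
import Groth.Agent.H63.GrpComponent
import Groth.Agent.H63.GrpIrred
import Groth.Agent.Lib.VarDim.Basic
import Groth.Agent.Lib.VarDim.Fibre
import Groth.Agent.Lib.Cyc.FieldDim
-- import your own Groth.Agent.* helpers here

set_option autoImplicit false
universe u
open CategoryTheory MonoidalCategory CartesianMonoidalCategory MonObj GrpObj AlgebraicGeometry CategoryTheory.Limits
open AlgGrp

namespace Groth.Agent.S18027
open Groth.Agent.Lib.Cyc.FieldDim
open Groth.Agent.Lib.VarDim.Fibre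
open Groth.Agent.Lib.VarDim.Basic
open Groth.Agent.H63.GrpIrred
open Groth.Agent.H63.GrpComponent
open Groth.Agent.H63.GrpConnected
open Groth.Agent.H63.GrpDim

/-- Let `k` be a field and `u : G ⟶ H` a homomorphism of smooth `k`-group schemes which is a closed
immersion, where `G` and `H` have the same dimension. Then `u` carries the connected component of
the identity of `G` onto the connected component of the identity of `H`; as `u` is a closed
immersion and `H` is reduced, `u` therefore restricts to an isomorphism between the identity
components. (The second printed assertion, on the groups of components, is not included.) -/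
theorem result (k : Type u) [Field k]
    (G H : Over (Spec (CommRingCat.of k))) [GrpObj G] [GrpObj H]
    [Smooth G.hom] [Smooth H.hom] (u : G ⟶ H) [IsMonHom u] [IsClosedImmersion u.left]
    (hdim : topologicalKrullDim ↥G.left = topologicalKrullDim ↥H.left)
    (t : ↥((𝟙_ (Over (Spec (CommRingCat.of k)))).left)) :
    ⇑u.left.base '' connectedComponent (η[G].left.base t) = connectedComponent (η[H].left.base t) := by
  have hu : IsMonHom u := inferInstance
  rw [show η[G].left.base t = unitPt G from congrArg η[G].left (Subsingleton.elim (α := PrimeSpectrum k) _ _),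
    show η[H].left.base t = unitPt H from congrArg η[H].left (Subsingleton.elim (α := PrimeSpectrum k) _ _),
    connectedComponent_unit, connectedComponent_unit]
  have he : u.left (unitPt G) = unitPt H := by
    show (η[G].left ≫ u.left) _ = _
    rw [← Over.comp_left, IsMonHom.one_hom]
  have hcl : IsClosed (u.left '' comp0 G) :=
    u.left.isClosedEmbedding.isClosedMap _ isClosed_irreducibleComponent
  have hsub : u.left '' comp0 G ⊆ comp0 H := by
    rw [← connectedComponent_unit G, ← connectedComponent_unit H, ← he]
    exact Continuous.image_connectedComponent_subset (Scheme.Hom.continuous _) _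
  refine Set.Subset.antisymm hsub ?_
  rw [comp0, irreducibleComponent_eq]
  refine closure_minimal (Set.singleton_subset_iff.2 ?_) hcl
  have h1 : u.left (genPt G (unitPt G)) ∈ comp0 H :=
    hsub ⟨_, specializes_unit_mem G (genPt_specializes G _), rfl⟩
  rw [comp0, irreducibleComponent_eq] at h1
  have h2 : pdim H.hom (genPt H (unitPt H)) ≤ pdim H.hom (u.left (genPt G (unitPt G))) := by
    have h3 : pdim G.hom (genPt G (unitPt G)) = pdim H.hom (genPt H (unitPt H)) := by
      rw [Groth.Agent.H63.GrpDim.topologicalKrullDim_eq, Groth.Agent.H63.GrpDim.topologicalKrullDim_eq] at hdim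
      exact_mod_cast hdim
    rw [← h3, pdim_eq_add G.hom H.hom u.left (Over.w u),
      show tdAt u.left (genPt G (unitPt G)) = 0 from ?_]
    · simp
    · rw [tdAt, trdegAt_eq_zero_of_surjective u.left _ (residueFieldMap_surjective _ _)]
      simp
  exact ⟨_, specializes_unit_mem G (genPt_specializes G _),
    (eq_of_pdim_le H.hom (specializes_iff_mem_closure.2 h1) h2).symm⟩

end Groth.Agent.S18027
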