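import Groth.Statements.S18029
import Groth.Agent.Lib.SubSpread76.Main
import Groth.Prelude.Def_ActBC
import Mathlib.AlgebraicGeometry.FunctionField

set_option autoImplicit false
set_option linter.style.haveILetI false
universe u
open CategoryTheory MonoidalCategory CartesianMonoidalCategory MonObj GrpObj AlgebraicGeometry CategoryTheory.Limits
open AlgGrp

namespace Groth.Agent.S18029

open CategoryTheory CategoryTheory.Limits AlgebraicGeometry in
theorem inv_fst {S S' S'' : Scheme.{u}} (f : S'' ⟶ S') (g : S' ⟶ S) (G : Over S) {d : S'' ⟶ S} (h : f ≫ g = d) :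
    (ActBC.bcCompIso f g G h).inv.left ≫ pullback.fst (Red.bc g G).hom f ≫ pullback.fst G.hom g =
      pullback.fst G.hom d := by
  rw [show pullback.fst (Red.bc g G).hom f ≫ pullback.fst G.hom g =
      (ActBC.bcCompIso f g G h).hom.left ≫ pullback.fst G.hom d from (ActBC.bcCompIso_hom_left_fst f g G h).symm,
    ← Category.assoc, ← Over.comp_left, Iso.inv_hom_id]
  exact Category.id_comp _

open AlgebraicGeometry CategoryTheory CategoryTheory.Limits MonoidalCategory CartesianMonoidalCategory MonObj GrpObj in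
theorem spread {X : Scheme.{u}} (G : Over X) [GrpObj G] [IsAffineHom G.hom] [LocallyOfFinitePresentation G.hom]
    {A : Type u} [CommRing A] [IsDomain A] {K : Type u} [Field K] [Algebra A K] [IsFractionRing A K]
    (v : Spec (CommRingCat.of A) ⟶ X) [IsOpenImmersion v] (η₀ : Spec (CommRingCat.of K) ⟶ X)
    (hγ : Groth.Agent.Lib.SubSpread76.gen A K ≫ v = η₀)
    (Hη : Over (Spec (CommRingCat.of K))) [GrpObj Hη]
    (i : Hη ⟶ Red.bc η₀ G) [IsMonHom i] [IsClosedImmersion i.left] :
    ∃ (U : X.Opens) (ηU : Spec (CommRingCat.of K) ⟶ (U : Scheme.{u})) (HU : Over (U : Scheme.{u}))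
      (_ : GrpObj HU) (j : HU ⟶ Red.bc U.ι G) (φ : Hη.left ⟶ HU.left),
      ηU ≫ U.ι = η₀ ∧ IsMonHom j ∧ IsClosedImmersion j.left ∧
      IsPullback φ Hη.hom HU.hom ηU ∧
      φ ≫ j.left ≫ pullback.fst G.hom U.ι = i.left ≫ pullback.fst G.hom η₀ := by
  let γ : Spec (CommRingCat.of K) ⟶ Spec (CommRingCat.of A) := Groth.Agent.Lib.SubSpread76.gen A K
  change γ ≫ v = η₀ at hγ
  haveI hGa : IsAffineHom (pullback.snd G.hom v) := MorphismProperty.pullback_snd _ _ inferInstance
  haveI : IsAffine (Red.bc v G).left := isAffine_of_isAffineHom (pullback.snd G.hom v)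
  haveI : LocallyOfFinitePresentation (Red.bc v G).hom :=
    MorphismProperty.pullback_snd (P := @LocallyOfFinitePresentation) _ _ inferInstance
  let e := ActBC.bcCompIso γ v G hγ
  haveI : IsIso e.inv.left := inferInstanceAs (IsIso ((Over.forget _).map e.inv))
  haveI : IsClosedImmersion (i ≫ e.inv).left := by rw [Over.comp_left]; infer_instance
  obtain ⟨a, Z, c, φ, ha, hc, sq, hφ, hgrp⟩ :=
    Groth.Agent.Lib.SubSpread76.exists_spread (Red.bc v G) (i ≫ e.inv)
  let D : (Spec (CommRingCat.of A)).Opens := PrimeSpectrum.basicOpen a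
  let U : X.Opens := v ''ᵁ D
  have hU : Set.range U.ι.base ⊆ Set.range v.base := by
    rw [Scheme.Opens.range_ι]
    exact Set.image_subset_range _ _
  let w := IsOpenImmersion.lift v U.ι hU
  have hw : w ≫ v = U.ι := IsOpenImmersion.lift_fac _ _ _
  have hwD : ∀ z, w.base z ∈ D := by
    intro z
    obtain ⟨d, hd, hdz⟩ := z.2
    have : d = w.base z := v.isOpenEmbedding.injective (hdz.trans congr($hw z).symm)
    exact this ▸ hd
  have hγD : ∀ s, γ.base s ∈ D := by
    intro s h
    have h' : algebraMap A K a ∈ s.asIdeal := h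
    rw [Ideal.eq_bot_of_prime s.asIdeal, Ideal.mem_bot, map_eq_zero_iff _ (IsFractionRing.injective A K)] at h'
    exact ha h'
  have hηU : Set.range (η₀).base ⊆ Set.range U.ι.base := by
    rw [Scheme.Opens.range_ι, ← hγ]
    rintro _ ⟨s, rfl⟩
    exact ⟨γ.base s, hγD s, rfl⟩
  let ηU := IsOpenImmersion.lift U.ι (η₀) hηU
  have hη : ηU ≫ U.ι = η₀ := IsOpenImmersion.lift_fac _ _ _
  have hηw : ηU ≫ w = γ := by rw [← cancel_mono v, Category.assoc, hw, hη, hγ]
  let j₀ := (Over.pullback w).map c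
  haveI : IsClosedImmersion j₀.left :=
    MorphismProperty.overPullbackMap (P := @IsClosedImmersion) w c hc
  haveI : Mono j₀ := (Over.forget _).mono_of_mono_map (f := j₀) (inferInstanceAs (Mono j₀.left))
  have key : ∀ {T : Over (U : Scheme.{u})} (g : T ⟶ Red.bc w (Red.bc v G)),
      (∃ z : (Over.map w).obj T ⟶ Z, z ≫ c = Groth.Agent.Lib.RedPts.BC.down w g) → ∃ y, y ≫ j₀ = g := by
    rintro T g ⟨z, hz⟩
    refine ⟨Groth.Agent.Lib.RedPts.BC.up w z, Groth.Agent.Lib.RedPts.BC.down_injective ?_⟩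
    rw [Groth.Agent.Lib.RedPts.BC.down_map, Groth.Agent.Lib.RedPts.BC.down_up, hz]
  have hrange : ∀ T : Over (U : Scheme.{u}),
      Set.range ((Over.map w).obj T).hom.base ⊆ (PrimeSpectrum.basicOpen a : Set (PrimeSpectrum A)) := by
    rintro T _ ⟨s, rfl⟩
    exact hwD (T.hom.base s)
  obtain ⟨gU, hj₀⟩ := Groth.Agent.Lib.GrpQ.InfSub.exists_grpObj_of_mono j₀
    (key _ (by
      obtain ⟨⟨z, hz⟩, -⟩ := hgrp _ (hrange (𝟙_ _))
      refine ⟨z, hz.trans ?_⟩
      rw [show η[Red.bc w (Red.bc v G)] = 1 by rw [Hom.one_def, toUnit_unique (toUnit _) (𝟙 _), Category.id_comp],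
        Groth.Agent.Lib.RedPts.BC.down_one]))
    (key _ (by
      obtain ⟨z, hz⟩ := ((hgrp _ (hrange _)).2 (Groth.Agent.Lib.RedPts.BC.down w (fst _ _))
        (Groth.Agent.Lib.RedPts.BC.down w (snd _ _))).1
      refine ⟨z, hz.trans ?_⟩
      rw [Groth.Agent.Lib.RedPts.BC.down_mul, Groth.Agent.Lib.RedPts.BC.down_map,
        Groth.Agent.Lib.RedPts.BC.down_map]))
    (key _ (by
      obtain ⟨z, hz⟩ := ((hgrp _ (hrange _)).2 (Groth.Agent.Lib.RedPts.BC.down w (𝟙 _))
        (Groth.Agent.Lib.RedPts.BC.down w (𝟙 _))).2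
      refine ⟨z, hz.trans ?_⟩
      rw [Groth.Agent.Lib.RedPts.BC.down_inv, ← Groth.Agent.Lib.RedPts.BC.down_map, Category.id_comp]))
  let e' := ActBC.bcCompIso w v G hw
  haveI : IsIso e'.hom.left := inferInstanceAs (IsIso ((Over.forget _).map e'.hom))
  let ψ : Hη.left ⟶ (Red.bc w Z).left := pullback.lift φ (Hη.hom ≫ ηU) (by rw [sq.w, Category.assoc, hηw])
  refine ⟨U, ηU, Red.bc w Z, gU, j₀ ≫ e'.hom, ψ, hη, inferInstance, by rw [Over.comp_left]; infer_instance, ?_, ?_⟩
  · refine IsPullback.of_right ?_ (pullback.lift_snd _ _ _) (IsPullback.of_hasPullback Z.hom w)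
    rw [hηw, pullback.lift_fst]
    exact sq
  · rw [Over.comp_left, Category.assoc, ActBC.bcCompIso_hom_left_fst, ActBC.pullback_map_left_fst_assoc,
      ← Category.assoc ψ, show ψ ≫ pullback.fst Z.hom w = φ from pullback.lift_fst _ _ _, reassoc_of% hφ,
      Over.comp_left, Category.assoc]
    exact congrArg (i.left ≫ ·) (inv_fst γ v G hγ)


/-- Closed subgroups of the generic fibre spread out. Let `X` be an integral scheme with generic point
`η : Spec K(X) ⟶ X`, `G` an affine `X`-group scheme locally of finite presentation and `H_η` a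
closed subgroup scheme of the generic fibre `G_η = G ×_X Spec K(X)`. Then there are a non-empty open
`U ⊆ X` (through which `η` factors) and a closed subgroup scheme `H_U` of `G ×_X U` whose generic
fibre is `H_η`: a cartesian square presents `H_η` as `H_U ×_U Spec K(X)`, compatibly with the
embeddings into `G`. -/
theorem result
    (X : Scheme.{u}) [IsIntegral X] (G : Over X) [GrpObj G]
    [IsAffineHom G.hom] [LocallyOfFinitePresentation G.hom]
    (Hη : Over (Spec X.functionField)) [GrpObj Hη]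
    (i : Hη ⟶ Red.bc (X.fromSpecStalk (genericPoint X)) G) [IsMonHom i] [IsClosedImmersion i.left] :
    ∃ (U : X.Opens) (ηU : Spec X.functionField ⟶ (U : Scheme.{u})) (HU : Over (U : Scheme.{u}))
      (_ : GrpObj HU) (j : HU ⟶ Red.bc U.ι G) (φ : Hη.left ⟶ HU.left),
      ηU ≫ U.ι = X.fromSpecStalk (genericPoint X) ∧ IsMonHom j ∧ IsClosedImmersion j.left ∧
      IsPullback φ Hη.hom HU.hom ηU ∧
      φ ≫ j.left ≫ pullback.fst G.hom U.ι = i.left ≫ pullback.fst G.hom (X.fromSpecStalk (genericPoint X)) := by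
  obtain ⟨V, hV, hξ, -⟩ := exists_isAffineOpen_mem_and_subset (x := genericPoint X) (U := ⊤) trivial
  haveI : Nonempty V := ⟨⟨genericPoint X, hξ⟩⟩
  haveI : IsFractionRing Γ(X, V) X.functionField := functionField_isFractionRing_of_isAffineOpen X V hV
  exact spread G (A := Γ(X, V)) (K := X.functionField) hV.fromSpec (X.fromSpecStalk (genericPoint X))
    (hV.fromSpecStalk_eq_fromSpecStalk hξ) Hη i

end Groth.Agent.S18029
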