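import Groth.Statements.S1803
import Groth.Agent.Lib.Goren.Rings
import Mathlib.RingTheory.FiniteStability
import Mathlib.FieldTheory.IntermediateField.Adjoin.Algebra
-- import your own Groth.Agent.* helpers here

set_option autoImplicit false
universe u
open scoped TensorProduct
open Goren

namespace Groth.Agent.S1803

/-- Let k'/k be any field extension, C a k-algebra of finite type, q a prime of C ⊗_k k' and p its
contraction to C. Then C_p is Gorenstein if and only if (C ⊗_k k')_q is Gorenstein. -/
theorem result (k k' : Type u) [Field k] [Field k'] [Algebra k k'] (C : Type u) [CommRing C] [Algebra k C] [Algebra.FiniteType k C] (q : PrimeSpectrum (C ⊗[k] k')) : LocCoh.IsGorensteinLocalRing (Localization.AtPrime (q.asIdeal.comap (algebraMap C (C ⊗[k] k')))) ↔ LocCoh.IsGorensteinLocalRing (Localization.AtPrime q.asIdeal) := by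
  open Groth.Agent.Lib.Goren in
  have : IsNoetherianRing C := Algebra.FiniteType.isNoetherianRing k C
  have : IsNoetherianRing (C ⊗[k] k') := by
    have := Algebra.FiniteType.isNoetherianRing k' (k' ⊗[k] C)
    exact isNoetherianRing_of_ringEquiv _ (Algebra.TensorProduct.comm k k' C).toRingEquiv
  set p := q.asIdeal.comap (algebraMap C (C ⊗[k] k')) with hpdef
  have hess : Algebra.EssFiniteType k p.ResidueField := by
    have : Algebra.EssFiniteType C p.ResidueField := inferInstance
    exact Algebra.EssFiniteType.comp k C p.ResidueField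
  have hfg : ∃ s : Finset p.ResidueField, IntermediateField.adjoin k (s : Set p.ResidueField) = ⊤ :=
    IntermediateField.fg_top k p.ResidueField
  have hk' : LocCoh.IsGorensteinRing k' := Rings.isGorensteinRing_of_isRegularRing k'
  have hfib : LocCoh.IsGorensteinRing (p.Fiber (C ⊗[k] k')) := by
    have := Rings.isGorensteinRing_tensor_fg k p.ResidueField k' hfg
    exact Rings.isGorensteinRing_of_ringEquiv
      (Algebra.TensorProduct.cancelBaseChange k C C p.ResidueField k').toRingEquiv.symm
  let qF := PrimeSpectrum.preimageEquivFiber C (C ⊗[k] k') ⟨p, inferInstance⟩ ⟨q, rfl⟩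
  have hcomap : qF.asIdeal.comap (Algebra.TensorProduct.includeRight (R := C) (A := p.ResidueField)) = q.asIdeal :=
    congrArg (fun x => (Subtype.val x).asIdeal)
      ((PrimeSpectrum.preimageEquivFiber C (C ⊗[k] k') ⟨p, inferInstance⟩).symm_apply_apply ⟨q, rfl⟩)
  have e : ∀ (q' : Ideal (C ⊗[k] k')) [q'.IsPrime], q' = q.asIdeal →
      (LocCoh.IsGorensteinLocalRing (Localization.AtPrime q') ↔
        LocCoh.IsGorensteinLocalRing (Localization.AtPrime q.asIdeal)) := by
    intro q' _ h
    subst h
    exact Iff.rfl
  rw [← e _ hcomap, Rings.isGorensteinLocalRing_localization_iff p qF.asIdeal,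
    and_iff_left (hfib.isGorensteinLocalRing_localization qF.asIdeal)]


end Groth.Agent.S1803
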