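import Groth.Statements.S18040
import Groth.Agent.H95.CBPoints

set_option autoImplicit false
universe u
open AdjLin

namespace Groth.Agent.S18040

/-- Let k be an algebraically closed field of characteristic zero and Z a finite set of points of
projective 3-space over k, realised as points of the projectivization of k⁴, a homogeneous form in
four variables being evaluated at the chosen representative of a point (its vanishing does not
depend on the choice). Suppose Z has the Cayley–Bacharach property in degree n: every form of degree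
n vanishing at all points of Z but one vanishes at that point as well. Then for every m ≤ n, either
there is a nonzero form of degree n − m vanishing at every point of Z, or the rank of the evaluation
map from forms of degree m to functions on Z is at most the number of points of Z minus the
dimension of the space of forms of degree n − m. -/
theorem result (k : Type u) [Field k] [IsAlgClosed k] [CharZero k]
    (Z : Finset (Projectivization k (Fin 4 → k))) (n : ℕ)
    (hCB : (∀ z ∈ Z, ∀ p : MvPolynomial (Fin 4) k, p.IsHomogeneous n →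
      (∀ z' ∈ Z, z' ≠ z → MvPolynomial.eval z'.rep p = 0) → MvPolynomial.eval z.rep p = 0))
    (m : ℕ) (hm : m ≤ n) :
    (∃ s : MvPolynomial (Fin 4) k, s.IsHomogeneous (n - m) ∧ s ≠ 0 ∧ ∀ z ∈ Z, MvPolynomial.eval z.rep s = 0) ∨
      Module.finrank k (LinearMap.range
          ((LinearMap.pi fun z : ↥Z => (MvPolynomial.aeval (R := k) z.1.rep).toLinearMap) ∘ₗ
            (MvPolynomial.homogeneousSubmodule (Fin 4) k m).subtype)) +
        Module.finrank k ↥(MvPolynomial.homogeneousSubmodule (Fin 4) k (n - m)) ≤ Z.card := by
  classical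
  set evL : ∀ d : ℕ, ↥(MvPolynomial.homogeneousSubmodule (Fin 4) k d) →ₗ[k] (↥Z → k) := fun d =>
    (LinearMap.pi fun z : ↥Z => (MvPolynomial.aeval (R := k) z.1.rep).toLinearMap) ∘ₗ
      (MvPolynomial.homogeneousSubmodule (Fin 4) k d).subtype with hev
  have evL_apply : ∀ (d : ℕ) (p : ↥(MvPolynomial.homogeneousSubmodule (Fin 4) k d)) (z : ↥Z),
      evL d p z = MvPolynomial.eval z.1.rep p.1 := fun d p z => by
    simp [hev, MvPolynomial.aeval_eq_eval]
  by_cases hinj : Function.Injective (evL (n - m))
  swap
  · left
    rw [← LinearMap.ker_eq_bot, ← ne_eq, Submodule.ne_bot_iff] at hinj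
    obtain ⟨⟨s, hs⟩, hs0, hne⟩ := hinj
    refine ⟨s, hs, fun h => hne (Subtype.ext h), fun z hz => ?_⟩
    rw [LinearMap.mem_ker] at hs0
    have h1 := congrFun hs0 ⟨z, hz⟩
    rw [evL_apply] at h1
    exact h1
  right
  set W := LinearMap.range (evL n) with hW
  obtain ⟨μ, hμW, hμ⟩ := H95.CBPoints.exists_avoid W (Finset.univ : Finset ↥Z)
      (fun z => (Pi.single z (1 : k) : ↥Z → k)) (fun z _ => by
    rintro ⟨⟨p, hp⟩, hp'⟩
    have := hCB z.1 z.2 p hp (fun z' hz' hne => by
      have h1 := congrFun hp' ⟨z', hz'⟩
      rw [evL_apply, Pi.single_eq_of_ne (fun e => hne (congrArg Subtype.val e))] at h1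
      exact h1)
    have h1 := congrFun hp' z
    rw [evL_apply, Pi.single_eq_same] at h1
    exact one_ne_zero (h1.symm.trans this))
  let T : ↥(LinearMap.range (evL m)) →ₗ[k] Module.Dual k (↥Z → k) :=
    (LinearMap.llcomp k (↥Z → k) (↥Z → k) k μ) ∘ₗ (LinearMap.mul k (↥Z → k)) ∘ₗ
      (LinearMap.range (evL m)).subtype
  have T_apply : ∀ a v, T a v = μ (a.1 * v) := fun a v => rfl
  have hT : Function.Injective T := by
    rw [injective_iff_map_eq_zero]
    intro a ha
    ext z
    have h1 : μ (a.1 * Pi.single z (1 : k)) = 0 := by rw [← T_apply, ha]; rfl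
    have h2 : a.1 * (Pi.single z (1 : k) : ↥Z → k) = a.1 z • (Pi.single z (1 : k) : ↥Z → k) := by
      ext w
      by_cases hw : w = z
      · subst hw; simp
      · simp [Pi.single_eq_of_ne hw]
    rw [h2, map_smul, smul_eq_mul] at h1
    exact (mul_eq_zero.mp h1).resolve_right (hμ z (Finset.mem_univ z))
  have hTle : LinearMap.range T ≤ (LinearMap.range (evL (n - m))).dualAnnihilator := by
    rintro _ ⟨⟨_, p, rfl⟩, rfl⟩
    rw [Submodule.mem_dualAnnihilator]
    rintro _ ⟨q, rfl⟩
    rw [T_apply]
    apply hμW
    refine ⟨⟨p.1 * q.1, ?_⟩, ?_⟩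
    · have h2 := p.2
      have h3 := q.2
      rw [MvPolynomial.mem_homogeneousSubmodule] at h2 h3 ⊢
      convert h2.mul h3 using 1
      omega
    · ext z
      rw [Pi.mul_apply, evL_apply, map_mul]
      exact congrArg₂ (· * ·) (evL_apply m p z).symm (evL_apply (n - m) q z).symm
  have e1 := LinearMap.finrank_range_of_inj hT
  have e2 := Submodule.finrank_mono hTle
  have e3 := Subspace.finrank_add_finrank_dualAnnihilator_eq (LinearMap.range (evL (n - m)))
  rw [LinearMap.finrank_range_of_inj hinj, Module.finrank_fintype_fun_eq_card,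
    Fintype.card_coe] at e3
  change Module.finrank k ↥(LinearMap.range (evL m)) + _ ≤ _
  omega

end Groth.Agent.S18040
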