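import Groth.Statements.S18042
import Groth.Agent.H95.CBPoints

set_option autoImplicit false
universe u
open AdjLin

namespace Groth.Agent.S18042

/-- Let k be an algebraically closed field of characteristic zero, n ≥ 1, and Z a finite set of points
of projective 3-space over k (points of the projectivization of k⁴, forms in four variables being
evaluated at the chosen representative) with the Cayley–Bacharach property in degree n: every form
of degree n vanishing at all points of Z but one vanishes at that point as well. If Z has at most 3n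
+ 1 points, then either all points of Z lie in one plane (a common 3-dimensional subspace of k⁴), or
they lie on the union of two skew lines (two 2-dimensional subspaces of k⁴ meeting in zero), each
line carrying at least n + 1 points of Z, and Z has at least 2n + 3 points. (The source states this
for an arbitrary zero-dimensional subscheme, with a third alternative, containment in the
first-order thickening of a line; for the reduced subschemes treated here that alternative is a case
of coplanarity.) -/
theorem result (k : Type u) [Field k] [IsAlgClosed k] [CharZero k]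
    (Z : Finset (Projectivization k (Fin 4 → k))) (n : ℕ) (hn : 1 ≤ n)
    (hCB : (∀ z ∈ Z, ∀ p : MvPolynomial (Fin 4) k, p.IsHomogeneous n →
      (∀ z' ∈ Z, z' ≠ z → MvPolynomial.eval z'.rep p = 0) → MvPolynomial.eval z.rep p = 0))
    (hcard : Z.card ≤ 3 * n + 1) :
    (∃ W : Submodule k (Fin 4 → k), Module.finrank k ↥W = 3 ∧ ∀ z ∈ Z, z.submodule ≤ W) ∨
      (∃ W₁ W₂ : Submodule k (Fin 4 → k), Module.finrank k ↥W₁ = 2 ∧ Module.finrank k ↥W₂ = 2 ∧ W₁ ⊓ W₂ = ⊥ ∧
        (∀ z ∈ Z, z.submodule ≤ W₁ ∨ z.submodule ≤ W₂) ∧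
        n + 1 ≤ Set.ncard {z : Projectivization k (Fin 4 → k) | z ∈ Z ∧ z.submodule ≤ W₁} ∧
        n + 1 ≤ Set.ncard {z : Projectivization k (Fin 4 → k) | z ∈ Z ∧ z.submodule ≤ W₂} ∧
        2 * n + 3 ≤ Z.card) := by
  rcases H95.CBPoints.main n Z hCB hcard with ⟨W, hW, hWz⟩ | ⟨W₁, W₂, h₁, h₂, hd, hu, c₁, c₂⟩
  · exact Or.inl ⟨W, hW, fun z hz => H95.CBPoints.submodule_le_iff.mpr (hWz z hz)⟩
  right
  have hset : ∀ W : Submodule k (Fin 4 → k),
      {z : Projectivization k (Fin 4 → k) | z ∈ Z ∧ z.submodule ≤ W} = ↑(H95.CBPoints.inW Z W) := by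
    intro W; ext z
    simp [H95.CBPoints.mem_inW, H95.CBPoints.submodule_le_iff]
  obtain ⟨j, rfl⟩ : ∃ j, n = j + 1 := ⟨n - 1, by omega⟩
  have g₁ := H95.CBPoints.line_card_ge hCB hd hu (Finset.card_pos.mp (by omega))
  have hsub : H95.CBPoints.inW Z W₂ ⊆ H95.CBPoints.outW Z W₁ := fun z hz => by
    obtain ⟨hzZ, hz2⟩ := H95.CBPoints.mem_inW.mp hz
    refine H95.CBPoints.mem_outW.mpr ⟨hzZ, fun hz1 => ?_⟩
    have h0 : z.rep ∈ W₁ ⊓ W₂ := ⟨hz1, hz2⟩
    rw [hd, Submodule.mem_bot] at h0
    exact z.rep_nonzero h0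
  have hs := H95.CBPoints.card_in_out Z W₁
  have hl := Finset.card_le_card hsub
  refine ⟨W₁, W₂, h₁, h₂, hd, fun z hz => ?_, ?_, ?_, by omega⟩
  · exact (hu z hz).imp H95.CBPoints.submodule_le_iff.mpr H95.CBPoints.submodule_le_iff.mpr
  · rw [hset, Set.ncard_coe_finset]; omega
  · rw [hset, Set.ncard_coe_finset]; omega

end Groth.Agent.S18042
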