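import Groth.Statements.S18049
import Mathlib.Tactic.IntervalCases
import Mathlib.Tactic.Linarith

set_option autoImplicit false
open STCI

namespace Groth.Agent.S18049

/-- For natural numbers 0 < k < N such that k does not divide N, ⌊N/k⌋ ≤ (N - k)/gcd(k, N); stated here
in the equivalent cleared form ⌊N/k⌋ · gcd(k, N) ≤ N - k. -/
theorem result (k N : ℕ) (hk : 0 < k) (hkN : k < N) (hndvd : ¬ k ∣ N) :
    N / k * Nat.gcd k N ≤ N - k := by
  set g := Nat.gcd k N with hg
  obtain ⟨a, ha⟩ : g ∣ k := Nat.gcd_dvd_left k N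
  have hgN : g ∣ N := Nat.gcd_dvd_right k N
  have ha2 : 2 ≤ a := by
    rcases Nat.lt_or_ge a 2 with h | h
    · interval_cases a
      · omega
      · exact absurd (by rw [ha, mul_one]; exact hgN) hndvd
    · exact h
  have hgpos : 0 < g := Nat.gcd_pos_of_pos_left N hk
  have h1 : g ≤ N - k := Nat.le_of_dvd (by omega) (Nat.dvd_sub hgN ⟨a, ha⟩)
  set q := N / k
  have hq : q * k ≤ N := Nat.div_mul_le_self N k
  rcases Nat.lt_or_ge q 2 with h | h
  · interval_cases q <;> omega
  · have h2 : 2 * g ≤ k := by rw [ha]; nlinarith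
    obtain ⟨q', hq'⟩ : ∃ q', q = q' + 2 := ⟨q - 2, by omega⟩
    rw [hq'] at hq ⊢
    have : (q' + 2) * g + k ≤ N := by nlinarith
    omega

end Groth.Agent.S18049
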