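import Groth.Statements.S18053
import Mathlib.Tactic.Linarith
import Mathlib.Tactic.Positivity

set_option autoImplicit false
open STCI

namespace Groth.Agent.S18053

/-- Let (p_k)_{k ≥ 1} be a sequence of nonnegative integers and n a nonnegative integer such that (i)
p_1 ≤ 9 - (2/5)n, (ii) p_1 ≥ p_2 ≥ p_3 ≥ ⋯, (iii) Σ_k p_k ≤ 19 - n, and (iv) n/4 + Σ_{k ≥ 1}
p_k/(k(k+1)) ≥ 6. Then n = 0 and (p_k) is one of (9, 8, 2), (9, 9), (9, 9, 1) (followed by zeros).
Here the sequence is indexed from 0 (so p 0 is p_1 and the weight of p k is 1/((k+1)(k+2))), (iii)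
is stated for every partial sum, and the series in (iv) is the real sum Σ' over all k. -/
theorem result (p : ℕ → ℕ) (n : ℕ)
    (h1 : (p 0 : ℝ) ≤ 9 - (2 / 5 : ℝ) * n) (h2 : Antitone p)
    (h3 : ∀ m : ℕ, ((∑ k ∈ Finset.range m, p k : ℕ) : ℝ) ≤ 19 - (n : ℝ))
    (h4 : (6 : ℝ) ≤ (n : ℝ) / 4 + ∑' k : ℕ, (p k : ℝ) / (((k : ℝ) + 1) * ((k : ℝ) + 2))) :
    n = 0 ∧ (p = (fun k => if k = 0 then 9 else if k = 1 then 8 else if k = 2 then 2 else 0)
      ∨ p = (fun k => if k = 0 then 9 else if k = 1 then 9 else 0)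
      ∨ p = (fun k => if k = 0 then 9 else if k = 1 then 9 else if k = 2 then 1 else 0)) := by
  have hbound : ∀ m, (∑ k ∈ Finset.range m, p k) + n ≤ 19 := by
    intro m
    have := h3 m
    exact_mod_cast (by linarith : (((∑ k ∈ Finset.range m, p k : ℕ) : ℝ)) + n ≤ 19)
  have hzero : ∀ k, 19 ≤ k → p k = 0 := by
    intro k hk
    by_contra hne
    have h20 := hbound 20
    have : ∑ i ∈ Finset.range 20, 1 ≤ ∑ i ∈ Finset.range 20, p i :=
      Finset.sum_le_sum fun i hi => by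
        simp at hi
        have := h2 (show i ≤ 19 by omega)
        have := h2 hk
        by_cases hi19 : 19 ≤ i
        · have : i = 19 := by omega
          subst this; omega
        · omega
    simp at this
    omega
  rw [tsum_eq_sum (s := Finset.range 19) (fun k hk => by simp at hk; simp [hzero k hk])] at h4
  have hterm : ∀ k ∈ Finset.range 19, (p k : ℝ) / (((k : ℝ) + 1) * ((k : ℝ) + 2)) ≤
      (p k : ℝ) * (1 / 20) + (if k = 0 then (p 0 : ℝ) * (9 / 20) else if k = 1 then (p 1 : ℝ) * (7 / 60)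
        else if k = 2 then (p 2 : ℝ) * (1 / 30) else 0) := by
    intro k _
    rcases k with _ | _ | _ | k
    · simp; linarith
    · simp; norm_num; linarith
    · simp; norm_num; linarith
    · simp only [Nat.succ_ne_zero, if_false, add_zero, show k + 1 + 1 + 1 ≠ 1 by omega,
        show k + 1 + 1 + 1 ≠ 2 by omega]
      push_cast
      rw [div_le_iff₀ (by positivity)]
      have hk0 : (0 : ℝ) ≤ k := by positivity
      have hp0 : (0 : ℝ) ≤ p (k + 1 + 1 + 1) := by positivity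
      nlinarith [mul_nonneg hp0 hk0, mul_nonneg hp0 (mul_nonneg hk0 hk0)]
  have hs := le_trans h4 (add_le_add_right (Finset.sum_le_sum hterm) _)
  rw [Finset.sum_add_distrib, ← Finset.sum_mul] at hs
  have hsel : ∑ k ∈ Finset.range 19, (if k = 0 then (p 0 : ℝ) * (9 / 20) else if k = 1 then
      (p 1 : ℝ) * (7 / 60) else if k = 2 then (p 2 : ℝ) * (1 / 30) else 0) =
      (p 0 : ℝ) * (9 / 20) + (p 1 : ℝ) * (7 / 60) + (p 2 : ℝ) * (1 / 30) := by
    simp [Finset.sum_range_succ]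
  rw [hsel] at hs
  have h19 : (∑ k ∈ Finset.range 19, (p k : ℝ)) ≤ 19 - n := by simpa using h3 19
  have key : 303 ≤ 27 * p 0 + 7 * p 1 + 2 * p 2 + 12 * n := by
    exact_mod_cast (by linarith : (303 : ℝ) ≤ 27 * p 0 + 7 * p 1 + 2 * p 2 + 12 * n)
  have key0 : 5 * p 0 + 2 * n ≤ 45 := by
    exact_mod_cast (by linarith : 5 * (p 0 : ℝ) + 2 * n ≤ 45)
  have h01 := h2 (show 0 ≤ 1 by omega)
  have h12 := h2 (show 1 ≤ 2 by omega)
  have h23 := h2 (show 2 ≤ 3 by omega)
  have b3 : p 0 + p 1 + p 2 + n ≤ 19 := by simpa [Finset.sum_range_succ] using hbound 3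
  have b4 : p 0 + p 1 + p 2 + p 3 + n ≤ 19 := by simpa [Finset.sum_range_succ] using hbound 4
  have hcase : n = 0 ∧ p 0 = 9 ∧ ((p 1 = 8 ∧ p 2 = 2) ∨ (p 1 = 9 ∧ p 2 = 0) ∨ (p 1 = 9 ∧ p 2 = 1)) ∧
      p 3 = 0 := by omega
  obtain ⟨hn, hp0, hrest, hp3⟩ := hcase
  refine ⟨hn, ?_⟩
  have ht : ∀ k, 3 ≤ k → p k = 0 := fun k hk => by have := h2 hk; omega
  rcases hrest with ⟨a, b⟩ | ⟨a, b⟩ | ⟨a, b⟩
  · left; funext k; rcases k with _ | _ | _ | k <;> simp_all
  · right; left; funext k; rcases k with _ | _ | _ | k <;> simp_all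
  · right; right; funext k; rcases k with _ | _ | _ | k <;> simp_all

end Groth.Agent.S18053
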