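import Groth.Statements.S18054
import Mathlib.Tactic.Linarith
import Mathlib.Tactic.IntervalCases
import Mathlib.Algebra.Order.Ring.Abs

set_option autoImplicit false
open STCI

namespace Groth.Agent.S18054

/-- Let s, t, d, g be integers with t ≥ s ≥ 4, d ≥ 1, g ≥ 0 and d dividing st; put n = st/d and assume n
≥ 2; put r = d[n(s - 4) + t] + (2 - 2g)n and assume r ≤ (s/3)(2s² - 6s + 7) - 1. Then d ≤ g + 3.
(The bound is written cleared of the denominator 3; s(2s² - 6s + 7) is always divisible by 3, so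
this is the same condition.) -/
theorem result (s t d g n : ℤ) (hs : 4 ≤ s) (hst : s ≤ t) (hd : 1 ≤ d) (hg : 0 ≤ g)
    (hn : s * t = d * n) (hn2 : 2 ≤ n)
    (hr : 3 * (d * (n * (s - 4) + t) + (2 - 2 * g) * n) ≤ s * (2 * s ^ 2 - 6 * s + 7) - 3) :
    d ≤ g + 3 := by
  by_contra hcon
  have hd4 : g + 4 ≤ d := by omega
  have ht : 0 < t := by omega
  have hL : 3 * (s * t) * (s - 4) + 3 * (d * t) + 30 * n - 6 * (s * t) ≤ s * (2 * s ^ 2 - 6 * s + 7) - 3 := by
    have e : d * (n * (s - 4) + t) = s * t * (s - 4) + d * t := by rw [hn]; ring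
    have h6 : 0 ≤ (d - 4 - g) * n := mul_nonneg (by omega) (by omega)
    rw [e] at hr
    linarith
  have hsq : 360 * (s * t) * t ≤ (3 * (d * t) + 30 * n) ^ 2 := by
    rw [hn]
    nlinarith [sq_nonneg (3 * (d * t) - 30 * n)]
  have hpos : 0 < 3 * (d * t) + 30 * n := by nlinarith
  have hc : ∀ c : ℤ, c ^ 2 ≤ 360 * s → c * t ≤ 3 * (d * t) + 30 * n := by
    intro c hc
    have h2 : (c * t) ^ 2 ≤ (3 * (d * t) + 30 * n) ^ 2 :=
      le_trans (by nlinarith [mul_le_mul_of_nonneg_right hc (sq_nonneg t)]) hsq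
    exact (abs_le_of_sq_le_sq' h2 hpos.le).2
  rcases eq_or_lt_of_le hs with rfl | hs5
  · rcases eq_or_lt_of_le hst with rfl | ht5
    · have hd16 : d ≤ 8 := by nlinarith
      have hn8 : n ≤ 4 := by nlinarith
      interval_cases d <;> interval_cases n <;> omega
    · have := hc 37 (by norm_num)
      linarith
  · rcases eq_or_lt_of_le (show (5 : ℤ) ≤ s by omega) with rfl | hs6
    · have := hc 42 (by norm_num)
      linarith
    · have h46 := hc 46 (by nlinarith)
      have hpos' : 0 ≤ 3 * s * (s - 6) + 46 := by nlinarith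
      have := mul_nonneg (sub_nonneg.mpr hst) hpos'
      nlinarith [mul_nonneg (show (0:ℤ) ≤ s by omega) (sq_nonneg (s - 6))]

end Groth.Agent.S18054
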