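import Groth.Statements.S18063
import Groth.Agent.Lib.GrpQ.Laws


set_option autoImplicit false
universe u
open CategoryTheory MonoidalCategory CartesianMonoidalCategory MonObj GrpObj AlgebraicGeometry CategoryTheory.Limits
open AlgGrp
open scoped commutatorElement

namespace Groth.Agent.S18063

/-- A is a discrete valuation ring, K denotes its field of fractions and k its residue field, and G is
an A-group scheme that is flat, separated and of finite presentation. If the generic fibre G_K is
commutative, then the special fibre G_k is commutative. (The published statement does not require G
separated over A, and its proof argues by density of the generic fibre; without separatedness the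
conclusion fails: gluing copies of Spec A indexed by a finite non-abelian group along their common
generic point gives a flat group scheme of finite presentation over A whose generic fibre is the
trivial group and whose special fibre is that non-abelian constant group. So G is taken separated
here.) -/
theorem result (A : Type u) [CommRing A] [IsDomain A] [IsDiscreteValuationRing A]
    (K : Type u) [Field K] [Algebra A K] [IsFractionRing A K]
    (G : Over (Spec (CommRingCat.of A))) [GrpObj G] [Flat G.hom] [LocallyOfFinitePresentation G.hom] [QuasiCompact G.hom]
    [IsSeparated G.hom] [IsCommMonObj (Red.bc (Spec.map (CommRingCat.ofHom (algebraMap A K))) G)] :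
    IsCommMonObj (Red.bc (Spec.map (CommRingCat.ofHom (algebraMap A (IsLocalRing.ResidueField A)))) G) := by
  have := Lib.GrpQ.isSchemeTheoreticallyDominant_fractionRing A K
  have hcomm : ∀ (X : Over (Spec (CommRingCat.of (IsLocalRing.ResidueField A))))
      (x y : X ⟶ Red.bc (Spec.map (CommRingCat.ofHom (algebraMap A (IsLocalRing.ResidueField A)))) G),
      x * y = y * x := fun X x y =>
    commutatorElement_eq_one_iff_mul_comm.1 (Lib.GrpQ.law_of_dominant_base
      (Spec.map (CommRingCat.ofHom (algebraMap A K))) _ G
      (idx := Fin 2) (F := fun v => ⁅v 0, v 1⁆)
      (fun φ v => map_commutatorElement φ _ _)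
      (fun Y v => commutatorElement_eq_one_iff_mul_comm.2 (_root_.mul_comm _ _)) X ![x, y])
  refine ⟨?_⟩
  rw [MonObj.mul_eq_mul, MonObj.comp_mul]
  rw [CartesianMonoidalCategory.braiding_hom_fst, CartesianMonoidalCategory.braiding_hom_snd]
  exact hcomm _ _ _

end Groth.Agent.S18063
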