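import Groth.Statements.S18068
import Groth.Agent.Lib.GrpQ.AffKer
import Groth.Agent.Lib.GrpQ.FlatHom
import Groth.Agent.Lib.GrpQ.FlatInj
import Groth.Agent.Lib.GrpQ.AntiAff
import Groth.Agent.Lib.GrpQ.KerRho


set_option autoImplicit false
universe u
open CategoryTheory MonoidalCategory CartesianMonoidalCategory MonObj GrpObj AlgebraicGeometry CategoryTheory.Limits
open AlgGrp

namespace Groth.Agent.S18068

/-- Let k be a field and f : G → H an isogeny (a surjective homomorphism with finite kernel, i.e.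
surjective and finite) of connected commutative algebraic groups over k. Then G is anti-affine (O(G)
= k) if and only if H is anti-affine. -/
theorem result (k : Type u) [Field k]
    (G H : Over (Spec (CommRingCat.of k))) [GrpObj G] [Smooth G.hom] [QuasiCompact G.hom] [ConnectedSpace ↥G.left] [IsCommMonObj G]
    [GrpObj H] [Smooth H.hom] [QuasiCompact H.hom] [ConnectedSpace ↥H.left] [IsCommMonObj H]
    (f : G ⟶ H) [IsMonHom f] [Surjective f.left] [IsFinite f.left] :
    Function.Bijective ((Scheme.ΓSpecIso (CommRingCat.of k)).inv ≫ G.hom.appTop).hom ↔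
      Function.Bijective ((Scheme.ΓSpecIso (CommRingCat.of k)).inv ≫ H.hom.appTop).hom := by
  have : Flat f.left := Groth.Agent.Lib.GrpQ.flat_of_surjective_of_smooth f
  constructor
  · intro hG
    have hinj := Groth.Agent.Lib.GrpQ.FlatInj.app_injective f.left ⊤
    have e : ∀ c, f.left.app ⊤ (((Scheme.ΓSpecIso (CommRingCat.of k)).inv ≫ H.hom.appTop).hom c) =
        ((Scheme.ΓSpecIso (CommRingCat.of k)).inv ≫ G.hom.appTop).hom c := fun c => by
      rw [← Over.w f, Scheme.Hom.comp_appTop]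
      rfl
    refine ⟨fun c d hcd => hG.1 ?_, fun s => ?_⟩
    · rw [← e, ← e, hcd]
    · obtain ⟨c, hc⟩ := hG.2 (f.left.app ⊤ s)
      exact ⟨c, hinj ((e c).trans hc)⟩
  intro hH
  obtain ⟨_, _⟩ := Groth.Agent.Lib.GrpQ.Affinization.exists_grp G
  have := Groth.Agent.Lib.GrpSch.isSeparated_of_field G
  have := Groth.Agent.Lib.GrpSch.isSeparated_of_field H
  obtain ⟨hρs, hρf, hlft⟩ := Groth.Agent.Lib.GrpQ.Affinization.rho_faithfullyFlat G
  let ρ := Groth.Agent.Lib.GrpQ.Affinization.rho G
  let A := Groth.Agent.Lib.GrpQ.Affinization.aff G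
  have hsep := Groth.Agent.Lib.GrpSch.isSeparated_of_field A
  have := Groth.Agent.Lib.GrpQ.Affinization.qc_of_isAffine A
  have hρc : Groth.Agent.Lib.GrpQ.IsCover ρ := ⟨hρf, hρs, Groth.Agent.Lib.GrpQ.quasiCompact_left ρ⟩
  have hfc : Groth.Agent.Lib.GrpQ.IsCover f := ⟨inferInstance, inferInstance, inferInstance⟩
  obtain ⟨K, _, iK, hiK, hiKc, hK, -⟩ := Groth.Agent.Lib.GrpQ.exists_kernel f
  have : IsFinite K.hom := by
    have h : IsPullback iK.left (toUnit K).left f.left η[H].left := hK.map (Over.forget _)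
    have h2 : IsFinite (toUnit K).left := MorphismProperty.of_isPullback (P := @IsFinite) h ‹_›
    exact h2
  obtain ⟨C, _, p, i, hp, hi, hpi, hstd, hcl⟩ := Groth.Agent.Lib.GrpQ.Image.exists_image (iK ≫ ρ)
  have : IsAffine C.left := isAffine_of_isAffineHom i.left
  obtain ⟨-, hps⟩ := Groth.Agent.Lib.GrpQ.Image.flat_surjective p
  have : Finite K.left := by
    have h := Scheme.Hom.finite_preimage_singleton K.hom (IsLocalRing.closedPoint k)
    have hu : K.hom ⁻¹' {IsLocalRing.closedPoint k} = Set.univ :=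
      Set.eq_univ_of_forall fun x => Subsingleton.elim (α := Spec (CommRingCat.of k)) _ _
    exact Set.finite_univ_iff.1 (hu ▸ h)
  have : Mono i := Groth.Agent.Lib.GrpQ.mono_of_left i
  have hcomm : ∀ {T : Over (Spec (CommRingCat.of k))} (x y : T ⟶ A), x * y = y * x := by
    intro T x y
    obtain ⟨T₁, p₁, x', hp₁, hx⟩ := Groth.Agent.Lib.GrpQ.exists_lift hρc x
    obtain ⟨T₂, p₂, y', hp₂, hy⟩ := Groth.Agent.Lib.GrpQ.exists_lift hρc (p₁ ≫ y)
    refine Groth.Agent.Lib.GrpQ.cancel_cover (hp₂.comp hp₁) ?_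
    simp only [MonObj.comp_mul, Category.assoc, ← hx, ← hy]
    rw [← Category.assoc, ← MonObj.mul_comp, ← MonObj.mul_comp, _root_.mul_comm]
  have hn : AlgGrp.IsNormalHom i := fun T g m => ⟨m, by rw [hcomm g, mul_inv_cancel_right]⟩
  obtain ⟨Q, _, q, hq, hQ, -, -, -, hqK⟩ := Groth.Agent.Lib.GrpQ.AffKer.exists_quotient i hn (by
    intro T g hg
    have : IsIso (Groth.Agent.Lib.GrpQ.Affinization.rho A).left := inferInstanceAs (IsIso A.left.toSpecΓ)
    have : Mono (Groth.Agent.Lib.GrpQ.Affinization.rho A) := Groth.Agent.Lib.GrpQ.mono_of_left _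
    refine ⟨1, ?_⟩
    rw [← cancel_mono (Groth.Agent.Lib.GrpQ.Affinization.rho A), hg, ← Category.assoc (toUnit T),
      ← Hom.one_def, MonObj.one_comp])
  -- the composite to Q descends to H, hence is trivial
  obtain ⟨φ, hφ⟩ := Groth.Agent.Lib.GrpQ.exists_desc hfc (ρ ≫ q) fun Z x y hxy =>
    Groth.Agent.Lib.GrpQ.comp_eq_of_kernel hK (ρ ≫ q) (by
      rw [← Category.assoc, ← hpi, Category.assoc, Groth.Agent.Lib.GrpQ.kernel_comp hqK, MonObj.comp_one,
        Hom.one_def]) x y hxy
  have := Groth.Agent.Lib.GrpQ.AntiAff.isIso_of_bijective hH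
  have : IsIso (toUnit H).left.appTop := ‹IsIso H.hom.appTop›
  obtain ⟨c, hc⟩ := Groth.Agent.Lib.GrpQ.Affinization.exists_fac (toUnit H) φ
  have hρq : ρ ≫ q = toUnit G ≫ c := by
    rw [← hφ, ← hc, ← Category.assoc, toUnit_unique (f ≫ toUnit H) (toUnit G)]
  have hc1 : c = η[Q] := by
    rw [← IsMonHom.one_hom (f := ρ ≫ q), hρq, ← Category.assoc, toUnit_unique (η[G] ≫ toUnit G) (𝟙 _), Category.id_comp]
  have hq1 : q = 1 := Groth.Agent.Lib.GrpQ.cancel_cover hρc (by
    rw [hρq, hc1, MonObj.comp_one, Hom.one_def])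
  obtain ⟨s, hs⟩ := (Groth.Agent.Lib.GrpQ.mem_kernel hqK (𝟙 A)).2 (by rw [Category.id_comp, hq1])
  have : Surjective i.left := ⟨fun a => ⟨s.left a, by
    rw [← Scheme.Hom.comp_apply, ← Over.comp_left, hs]
    rfl⟩⟩
  have : Finite A.left := Finite.of_surjective (fun z => i.left (p.left z))
    (i.left.surjective.comp hps.surj)
  have : JacobsonSpace A.left := LocallyOfFiniteType.jacobsonSpace A.hom
  have : ConnectedSpace A.left := (hρs.surj).connectedSpace ρ.left.continuous
  have : Subsingleton A.left := by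
    have hd : DiscreteTopology A.left := inferInstance
    exact PreconnectedSpace.trivial_of_discrete
  have : IsReduced G.left := Groth.Agent.Lib.GrpSch.isReduced_of_smooth_field G.hom
  have : IsReduced A.left := by
    have : IsReduced (Spec Γ(G.left, ⊤)) := inferInstance
    exact this
  have : IsClosedImmersion η[A].left := by
    have : IsClosedImmersion (η[A].left ≫ A.hom) := by
      rw [Over.w]; exact inferInstanceAs (IsClosedImmersion (𝟙 _))
    exact IsClosedImmersion.of_comp η[A].left A.hom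
  have : Surjective η[A].left := ⟨fun a => ⟨IsLocalRing.closedPoint k, Subsingleton.elim _ _⟩⟩
  have := isIso_of_isClosedImmersion_of_surjective η[A].left
  have : IsIso A.hom := by
    have h : η[A].left ≫ A.hom = 𝟙 _ := Over.w η[A]
    rw [(IsIso.eq_inv_comp η[A].left).2 h]
    infer_instance
  have h1 : IsIso A.hom.appTop := inferInstanceAs (IsIso (A.hom.app ⊤))
  have h2 : IsIso ρ.left.appTop := Groth.Agent.Lib.GrpQ.Affinization.isIso_rho_appTop G
  have : IsIso G.hom.appTop := by
    rw [← Over.w ρ, Scheme.Hom.comp_appTop]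
    exact IsIso.comp_isIso' h1 h2
  exact ConcreteCategory.bijective_of_isIso _

end Groth.Agent.S18068
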