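import Groth.Statements.S18069
import Groth.Agent.Lib.GrpQ.GlobalFn


set_option autoImplicit false
universe u
open CategoryTheory MonoidalCategory CartesianMonoidalCategory MonObj GrpObj AlgebraicGeometry CategoryTheory.Limits
open AlgGrp

namespace Groth.Agent.S18069

/-- Let k be a field and G₁, G₂ connected k-group schemes of finite type. Then G₁ × G₂ is anti-affine,
i.e. O(G₁ × G₂) = k, if and only if G₁ and G₂ are both anti-affine. -/
theorem result (k : Type u) [Field k]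
    (G₁ G₂ : Over (Spec (CommRingCat.of k))) [GrpObj G₁] [LocallyOfFiniteType G₁.hom] [QuasiCompact G₁.hom] [ConnectedSpace ↥G₁.left]
    [GrpObj G₂] [LocallyOfFiniteType G₂.hom] [QuasiCompact G₂.hom] [ConnectedSpace ↥G₂.left] :
    Function.Bijective ((Scheme.ΓSpecIso (CommRingCat.of k)).inv ≫ (G₁ ⊗ G₂).hom.appTop).hom ↔
      Function.Bijective ((Scheme.ΓSpecIso (CommRingCat.of k)).inv ≫ G₁.hom.appTop).hom ∧ Function.Bijective ((Scheme.ΓSpecIso (CommRingCat.of k)).inv ≫ G₂.hom.appTop).hom := by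
  have hne : ∀ (X : Over (Spec (CommRingCat.of k))) [GrpObj X], Nonempty X.left :=
    fun X _ => ⟨η[X].left (IsLocalRing.closedPoint k)⟩
  have := hne G₁
  have := hne G₂
  have : Nonempty (G₁ ⊗ G₂).left := ⟨(lift η[G₁] η[G₂]).left (IsLocalRing.closedPoint k)⟩
  have := Groth.Agent.Lib.GrpSch.isSeparated_of_field G₁
  have := Groth.Agent.Lib.GrpSch.isSeparated_of_field G₂
  rw [Groth.Agent.Lib.GrpQ.GlobalFn.bijective_iff, Groth.Agent.Lib.GrpQ.GlobalFn.bijective_iff,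
    Groth.Agent.Lib.GrpQ.GlobalFn.bijective_iff]
  have hw : (G₁ ⊗ G₂).hom.appTop = G₁.hom.appTop ≫ (fst G₁ G₂).left.appTop := by
    rw [← Scheme.Hom.comp_appTop, Over.w (fst G₁ G₂)]
  have hw' : (G₁ ⊗ G₂).hom.appTop = G₂.hom.appTop ≫ (snd G₁ G₂).left.appTop := by
    rw [← Scheme.Hom.comp_appTop, Over.w (snd G₁ G₂)]
  constructor
  · intro h
    constructor
    · intro a
      obtain ⟨c, hc⟩ := h ((fst G₁ G₂).left.appTop.hom a)
      have e : (fst G₁ G₂).left.appTop ≫ (lift (𝟙 G₁) (toUnit G₁ ≫ η[G₂])).left.appTop = 𝟙 _ := by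
        rw [← Scheme.Hom.comp_appTop, ← Over.comp_left, lift_fst]; rfl
      refine ⟨c, Function.LeftInverse.injective (g := (lift (𝟙 G₁) (toUnit G₁ ≫ η[G₂])).left.appTop.hom)
        (f := (fst G₁ G₂).left.appTop.hom) (fun x => congr($(e).hom x)) ?_⟩
      rw [← hc, hw]; rfl
    · intro a
      obtain ⟨c, hc⟩ := h ((snd G₁ G₂).left.appTop.hom a)
      have e : (snd G₁ G₂).left.appTop ≫ (lift (toUnit G₂ ≫ η[G₁]) (𝟙 G₂)).left.appTop = 𝟙 _ := by
        rw [← Scheme.Hom.comp_appTop, ← Over.comp_left, lift_snd]; rfl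
      refine ⟨c, Function.LeftInverse.injective (g := (lift (toUnit G₂ ≫ η[G₁]) (𝟙 G₂)).left.appTop.hom)
        (f := (snd G₁ G₂).left.appTop.hom) (fun x => congr($(e).hom x)) ?_⟩
      rw [← hc, hw']; rfl
  · rintro ⟨h1, h2⟩
    have := Groth.Agent.Lib.GrpQ.GlobalFn.isIso_appTop h1
    have := Groth.Agent.Lib.GrpQ.GlobalFn.isIso_appTop h2
    have := Groth.Agent.Lib.GrpQ.GlobalFn.isIso_fst_appTop (X := G₁) (Y := G₂)
    have : IsIso (G₁ ⊗ G₂).hom.appTop := by rw [hw]; infer_instance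
    exact (ConcreteCategory.bijective_of_isIso (G₁ ⊗ G₂).hom.appTop).2

end Groth.Agent.S18069
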