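import Groth.Statements.S18072
import Groth.Agent.Lib.IsogLaw.Torus

set_option autoImplicit false
universe u
open CategoryTheory MonoidalCategory CartesianMonoidalCategory MonObj GrpObj AlgebraicGeometry CategoryTheory.Limits
open AlgGrp

set_option backward.isDefEq.respectTransparency false
set_option linter.style.haveILetI false
open scoped commutatorElement

namespace Groth.Agent.S18072

/-- Let F be a field and f : G → H an isogeny between affine smooth connected F-groups (a surjective
homomorphism with finite kernel, i.e. surjective and finite). Then each of the properties unipotent,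
solvable, nilpotent and commutative holds for G exactly when it holds for H; here unipotence is
expressed as: the base change to an algebraic closure contains no non-trivial subtorus, solvable and
nilpotent through the derived and upper central series of the groups of points. -/
theorem result (F : Type u) [Field F]
    (G H : Over (Spec (CommRingCat.of F))) [GrpObj G] [Smooth G.hom] [QuasiCompact G.hom] [IsAffine G.left] [ConnectedSpace ↥G.left]
    [GrpObj H] [Smooth H.hom] [QuasiCompact H.hom] [IsAffine H.left] [ConnectedSpace ↥H.left]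
    (f : G ⟶ H) [IsMonHom f] [Surjective f.left] [IsFinite f.left] :
    (Red.HasNoSubtorus (AlgebraicClosure F) (Red.bc (Spec.map (CommRingCat.ofHom (algebraMap F (AlgebraicClosure F)))) G) ↔ Red.HasNoSubtorus (AlgebraicClosure F) (Red.bc (Spec.map (CommRingCat.ofHom (algebraMap F (AlgebraicClosure F)))) H)) ∧
    (Red.IsSolvableGrp G ↔ Red.IsSolvableGrp H) ∧ (AGF.IsNilpotentGrp G ↔ AGF.IsNilpotentGrp H) ∧
    (IsCommMonObj G ↔ IsCommMonObj H) := by
  haveI : IsSeparated G.hom := inferInstance
  haveI : QuasiCompact f.left := inferInstance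
  haveI : Flat f.left := Groth.Agent.Lib.GrpQ.flat_of_surjective_of_smooth f
  haveI : LocallyOfFinitePresentation f.left :=
    Groth.Agent.Lib.Flat55.FibreTransfer.locallyOfFinitePresentation_of_comp (g := H.hom)
      (by rw [Over.w f]; infer_instance) inferInstance
  refine ⟨?_, ?_, ?_, ?_⟩
  · exact Groth.Agent.Lib.IsogLaw.hasNoSubtorus_bc_iff f (AlgebraicClosure F)
  · constructor
    · rintro ⟨n, hn⟩
      refine ⟨n, fun X => (Groth.Agent.Lib.GrpQ.derivedSeries_eq_bot_iff n).2 fun v => ?_⟩
      exact Groth.Agent.Lib.IsogLaw.law_target f (idx := Groth.Agent.Lib.GrpQ.DerI n)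
        (F := fun v => Groth.Agent.Lib.GrpQ.derW n v) (fun φ v => Groth.Agent.Lib.GrpQ.map_derW φ n v)
        (fun Y v => (Groth.Agent.Lib.GrpQ.derivedSeries_eq_bot_iff n).1 (hn Y) v) X v
    · rintro ⟨n, hn⟩
      refine ⟨n, fun X => (Groth.Agent.Lib.GrpQ.derivedSeries_eq_bot_iff n).2 fun v => ?_⟩
      exact Groth.Agent.Lib.IsogLaw.law_source f (idx := Groth.Agent.Lib.GrpQ.DerI n)
        (F := fun v => Groth.Agent.Lib.GrpQ.derW n v) (fun φ v => Groth.Agent.Lib.GrpQ.map_derW φ n v)
        (fun Y v => (Groth.Agent.Lib.GrpQ.derivedSeries_eq_bot_iff n).1 (hn Y) v) X v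
  · constructor
    · rintro ⟨n, hn⟩
      refine ⟨n, fun X => (Groth.Agent.Lib.GrpQ.upperCentralSeries_eq_top_iff n).2 fun x y => ?_⟩
      exact Groth.Agent.Lib.IsogLaw.law_target f (idx := Fin (n + 1))
        (F := fun v => Groth.Agent.Lib.GrpQ.comW n (v 0) (Fin.tail v))
        (fun φ v => Groth.Agent.Lib.GrpQ.map_comW φ n _ _)
        (fun Y v => (Groth.Agent.Lib.GrpQ.upperCentralSeries_eq_top_iff n).1 (hn Y) _ _) X (Fin.cons x y)
    · rintro ⟨n, hn⟩
      refine ⟨n, fun X => (Groth.Agent.Lib.GrpQ.upperCentralSeries_eq_top_iff n).2 fun x y => ?_⟩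
      exact Groth.Agent.Lib.IsogLaw.law_source f (idx := Fin (n + 1))
        (F := fun v => Groth.Agent.Lib.GrpQ.comW n (v 0) (Fin.tail v))
        (fun φ v => Groth.Agent.Lib.GrpQ.map_comW φ n _ _)
        (fun Y v => (Groth.Agent.Lib.GrpQ.upperCentralSeries_eq_top_iff n).1 (hn Y) _ _) X (Fin.cons x y)
  · constructor
    · intro hc
      refine Groth.Agent.H87.CentralExt.isComm_of_points fun X a b => commutatorElement_eq_one_iff_mul_comm.1 ?_
      exact Groth.Agent.Lib.IsogLaw.law_target f (idx := Fin 2) (F := fun v => ⁅v 0, v 1⁆)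
        (fun φ v => map_commutatorElement φ _ _)
        (fun Y v => commutatorElement_eq_one_iff_mul_comm.2 (_root_.mul_comm (v 0) (v 1))) X ![a, b]
    · intro hc
      refine Groth.Agent.H87.CentralExt.isComm_of_points fun X a b => commutatorElement_eq_one_iff_mul_comm.1 ?_
      exact Groth.Agent.Lib.IsogLaw.law_source f (idx := Fin 2) (F := fun v => ⁅v 0, v 1⁆)
        (fun φ v => map_commutatorElement φ _ _)
        (fun Y v => commutatorElement_eq_one_iff_mul_comm.2 (_root_.mul_comm (v 0) (v 1))) X ![a, b]

end Groth.Agent.S18072
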