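import Groth.Statements.S18074
import Groth.Agent.Lib.GrpQ.AntiAffSub
import Groth.Agent.Lib.GrpQ.AffKer2


set_option autoImplicit false
universe u
open CategoryTheory MonoidalCategory CartesianMonoidalCategory MonObj GrpObj AlgebraicGeometry CategoryTheory.Limits
open AlgGrp

namespace Groth.Agent.S18074

/-- Let k be a field and G a non-trivial k-group scheme of finite type. Then G is non-affine with every
closed subgroup scheme H ≠ G affine if and only if G is anti-affine and every anti-affine closed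
subgroup scheme H ≠ G of G is trivial. -/
theorem result (k : Type u) [Field k]
    (G : Over (Spec (CommRingCat.of k))) [GrpObj G] [LocallyOfFiniteType G.hom] [QuasiCompact G.hom] (hG : ¬ Red.IsTrivialGrp G) :
    (¬ IsAffine G.left ∧ ∀ (H : Over (Spec (CommRingCat.of k))) [GrpObj H] (h : H ⟶ G) [IsMonHom h] [IsClosedImmersion h.left], ¬ IsIso h → IsAffine H.left) ↔
    (Function.Bijective ((Scheme.ΓSpecIso (CommRingCat.of k)).inv ≫ G.hom.appTop).hom ∧ ∀ (H : Over (Spec (CommRingCat.of k))) [GrpObj H] (h : H ⟶ G) [IsMonHom h] [IsClosedImmersion h.left], ¬ IsIso h → Function.Bijective ((Scheme.ΓSpecIso (CommRingCat.of k)).inv ≫ H.hom.appTop).hom → Red.IsTrivialGrp H) := by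
  have triv : ∀ (X : Over (Spec (CommRingCat.of k))), IsAffine X.left →
      Groth.Agent.Lib.GrpQ.AntiAffSub.AntiAffine X → IsIso X.hom := fun X hX hb => by
    have := Groth.Agent.Lib.GrpQ.AntiAff.isIso_of_bijective hb
    rw [show X.hom = X.left.isoSpec.hom ≫ Spec.map X.hom.appTop ≫ (Spec (CommRingCat.of k)).isoSpec.inv by
      rw [Scheme.isoSpec_hom, ← Scheme.toSpecΓ_naturality_assoc, ← Scheme.isoSpec_hom, Iso.hom_inv_id,
        Category.comp_id]]
    infer_instance
  have aff : ∀ (H : Over (Spec (CommRingCat.of k))) [GrpObj H] [LocallyOfFiniteType H.hom] [QuasiCompact H.hom]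
      (L : Over (Spec (CommRingCat.of k))) (l : L ⟶ H),
      (∀ (T : Over (Spec (CommRingCat.of k))) (g : T ⟶ H), Groth.Agent.Lib.GrpQ.AffKer.Killed g ↔ ∃ z, z ≫ l = g) →
      IsIso L.hom → IsAffine H.left := fun H _ _ _ L l hl hL => by
    refine Groth.Agent.Lib.GrpQ.AffKer.isAffine_of_killed_eq_one fun T g hg => ?_
    obtain ⟨z, rfl⟩ := (hl T g).1 hg
    have : IsIso (toUnit L).left := hL
    have : Mono (toUnit L) := Groth.Agent.Lib.GrpQ.mono_of_left _
    obtain ⟨z₁, hz₁⟩ := (hl T 1).1 (by
      rw [Groth.Agent.Lib.GrpQ.AffKer.Killed, Hom.one_def, Category.assoc])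
    rw [← hz₁, show z = z₁ by rw [← cancel_mono (toUnit L)]; exact toUnit_unique _ _]
  constructor
  · rintro ⟨hna, hsub⟩
    obtain ⟨L, _, l, hl, hlc, _, _, hL, hmem⟩ := Groth.Agent.Lib.GrpQ.AntiAffSub.exists_antiAffPart G
    have hiso : IsIso l := by
      by_contra h
      exact hna (aff G L l hmem (triv L (hsub L l h) hL))
    refine ⟨?_, fun H _ h _ _ hi hb => triv H (hsub H h hi) hb⟩
    have : IsIso l.left := ((Over.forget _).mapIso (asIso l)).isIso_hom
    have e : G.hom = inv l.left ≫ L.hom := by rw [IsIso.eq_inv_comp, Over.w]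
    have h1 : IsIso L.hom.appTop := Groth.Agent.Lib.GrpQ.AntiAff.isIso_of_bijective hL
    have h2 : IsIso (inv l.left).appTop := inferInstanceAs (IsIso ((inv l.left).app ⊤))
    have : IsIso G.hom.appTop := by
      rw [e, Scheme.Hom.comp_appTop]
      exact IsIso.comp_isIso' h1 h2
    exact ConcreteCategory.bijective_of_isIso _
  · rintro ⟨hb, hsub⟩
    refine ⟨fun ha => hG (triv G ha hb), fun H _ h _ _ hi => ?_⟩
    have : LocallyOfFiniteType H.hom := by rw [← Over.w h]; infer_instance
    have : QuasiCompact H.hom := by rw [← Over.w h]; infer_instance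
    obtain ⟨L, _, l, hl, hlc, _, _, hL, hmem⟩ := Groth.Agent.Lib.GrpQ.AntiAffSub.exists_antiAffPart H
    have : IsClosedImmersion (l ≫ h).left := by rw [Over.comp_left]; infer_instance
    refine aff H L l hmem (hsub L (l ≫ h) (fun hlh => hi ?_) hL)
    have : Mono h := Groth.Agent.Lib.GrpQ.mono_of_left h
    have : IsSplitEpi h := IsSplitEpi.mk' ⟨inv (l ≫ h) ≫ l, by rw [Category.assoc, IsIso.inv_hom_id]⟩
    exact isIso_of_mono_of_isSplitEpi h

end Groth.Agent.S18074
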