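import Groth.Statements.S18075
import Groth.Agent.Lib.AntiAffParts.Field
import Groth.Agent.Lib.GrpQ.AntiAffSmooth
import Groth.Agent.Lib.GrpQ.AntiAffSub
import Groth.Agent.H4.HomImage
import Mathlib.AlgebraicGeometry.Morphisms.Proper

set_option autoImplicit false
universe u
open CategoryTheory MonoidalCategory CartesianMonoidalCategory MonObj GrpObj AlgebraicGeometry CategoryTheory.Limits
open AlgGrp

open Groth.Agent.Lib Groth.Agent.Lib.GrpQ
set_option backward.isDefEq.respectTransparency false
set_option linter.style.haveILetI false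
set_option synthInstance.maxHeartbeats 200000
namespace Groth.Agent.S18075

/-- Let k be a field and G a non-trivial anti-affine k-group scheme of finite type, and let i : N → G be
a connected affine closed subgroup scheme which is the kernel of a flat surjective homomorphism q :
G → A onto an abelian variety A (for instance N = G_aff and A = G/G_aff, but any such N is allowed).
Then G has no anti-affine closed subgroup scheme other than G and the trivial group if and only if
the abelian variety A is simple (every smooth connected closed subgroup scheme of A is trivial or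
equal to A). -/
theorem result (k : Type u) [Field k]
    (G : Over (Spec (CommRingCat.of k))) [GrpObj G] [LocallyOfFiniteType G.hom] [QuasiCompact G.hom] (hG : ¬ Red.IsTrivialGrp G)
    (hGa : Function.Bijective ((Scheme.ΓSpecIso (CommRingCat.of k)).inv ≫ G.hom.appTop).hom)
    (N A : Over (Spec (CommRingCat.of k))) [GrpObj N] [GrpObj A] (i : N ⟶ G) [IsMonHom i] [IsClosedImmersion i.left]
    [IsAffine N.left] [ConnectedSpace ↥N.left]
    (q : G ⟶ A) [IsMonHom q] [Surjective q.left] [Flat q.left] [IsProper A.hom] [Smooth A.hom] [ConnectedSpace ↥A.left]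
    (hq : AlgGrp.IsKernel i q) :
    (∀ (H : Over (Spec (CommRingCat.of k))) [GrpObj H] (h : H ⟶ G) [IsMonHom h] [IsClosedImmersion h.left], ¬ IsIso h → Function.Bijective ((Scheme.ΓSpecIso (CommRingCat.of k)).inv ≫ H.hom.appTop).hom → Red.IsTrivialGrp H) ↔
    (∀ (B : Over (Spec (CommRingCat.of k))) [GrpObj B] (b : B ⟶ A) [IsMonHom b] [IsClosedImmersion b.left], Smooth B.hom → ConnectedSpace ↥B.left → IsIso b ∨ Red.IsTrivialGrp B) := by
  haveI : Mono i := Over.mono_of_mono_left i
  haveI : IsSeparated G.hom := GrpSch.isSeparated_of_field G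
  haveI : IsSeparated A.hom := inferInstance
  have hant : ∀ (B : Over (Spec (CommRingCat.of k))) [GrpObj B] [IsProper B.hom] [Smooth B.hom] [ConnectedSpace B.left],
      Function.Bijective ((Scheme.ΓSpecIso (CommRingCat.of k)).inv ≫ B.hom.appTop).hom := by
    intro B _ _ _ _
    haveI : GeometricallyReduced B.hom := GrpSch.geometricallyReduced_of_smooth_field B.hom
    haveI : GeometricallyIntegral B.hom := H4.HomImage.geometricallyIntegral_of_connected B
    haveI : IsIntegral B.left := GeometricallyIntegral.isIntegral_of_subsingleton B.hom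
    have hF := isField_of_universallyClosed k B.hom
    letI := hF.toField
    let ev : Γ(B.left, ⊤) →+* k := (η[B].left.appTop ≫ (Scheme.ΓSpecIso (CommRingCat.of k)).hom).hom
    have he : (((Scheme.ΓSpecIso (CommRingCat.of k)).inv ≫ B.hom.appTop) ≫ η[B].left.appTop ≫
        (Scheme.ΓSpecIso (CommRingCat.of k)).hom) = 𝟙 _ := by
      have e : B.hom.appTop ≫ η[B].left.appTop = 𝟙 _ := by
        rw [← Scheme.Hom.comp_appTop, Over.w η[B]]
        exact Scheme.Hom.id_app ..
      rw [Category.assoc, reassoc_of% e, Iso.inv_hom_id]
    have hev : ∀ x, ev (((Scheme.ΓSpecIso (CommRingCat.of k)).inv ≫ B.hom.appTop).hom x) = x := fun x => by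
      exact congrArg (fun f => f.hom x) he
    exact ⟨fun a b hab => by rw [← hev a, ← hev b, hab], fun y => ⟨ev y, ev.injective (hev _)⟩⟩
  constructor
  · intro hmin B _ b _ _ hBs hBc
    haveI := hBs
    haveI := hBc
    refine or_iff_not_imp_left.2 fun hb => ?_
    haveI : IsProper B.hom := by rw [← Over.w b]; infer_instance
    obtain ⟨P, _, iP, p, hiP, hp, hiPc, hPpb, hPw, -⟩ := AntiAffSub.exists_preimage q b
    haveI := hiP; haveI := hp; haveI := hiPc
    haveI : LocallyOfFiniteType P.hom := by rw [← Over.w iP]; infer_instance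
    haveI : QuasiCompact P.hom := by rw [← Over.w iP]; infer_instance
    haveI : Surjective p.left := MorphismProperty.of_isPullback (P := @Surjective) hPpb ‹Surjective q.left›
    obtain ⟨L, _, l, hl, hlc, hlft, hlq, hLa, hLu⟩ := AntiAffSub.exists_antiAffPart P
    haveI := hl; haveI := hlc; haveI := hlft; haveI := hlq
    haveI : IsClosedImmersion (Over.Hom.left (𝟙 B)) := by rw [Over.id_left]; infer_instance
    have hsub := AntiAffSub.range_subset p (𝟙 B) (hant B) l fun M _ _ _ j _ _ hM => by
      obtain ⟨z, hz⟩ := (hLu M j).1 (AntiAffSub.killed_of_antiAffine j hM)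
      exact ⟨z, hz⟩
    haveI : IsClosedImmersion (l ≫ iP).left := by rw [Over.comp_left]; infer_instance
    have hLne : ¬ IsIso (l ≫ iP) := fun hiso => by
      haveI := hiso
      haveI : Surjective b.left := by
        have e : (CategoryTheory.inv (l ≫ iP) ≫ l ≫ p) ≫ b = q := by
          rw [Category.assoc, Category.assoc, ← hPw, ← Category.assoc l, IsIso.inv_hom_id_assoc]
        exact SemiAbExt.surjective_of_lift b q _ e
      haveI : IsReduced A.left := GrpSch.isReduced_of_smooth_field A.hom
      haveI : IsIso b.left := isIso_of_isClosedImmersion_of_surjective b.left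
      haveI : IsIso ((Over.forget _).map b) := inferInstanceAs (IsIso b.left)
      exact hb (isIso_of_reflects_iso _ (Over.forget _))
    have hLtriv : IsIso L.hom := hmin L (l ≫ iP) hLne hLa
    haveI : Surjective (l ≫ p).left := ⟨fun y => hsub ⟨y, by rw [Over.id_left]; rfl⟩⟩
    have hl1 : l ≫ p = 1 := by
      rw [← Category.id_comp (l ≫ p), AntiAffParts.eq_one_of_trivial hLtriv (𝟙 L), MonObj.one_comp]
    haveI : IsReduced B.left := GrpSch.isReduced_of_smooth_field B.hom
    haveI : IsClosedImmersion η[B].left := by
      haveI : IsClosedImmersion (η[B].left ≫ B.hom) := by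
        rw [Over.w η[B]]
        exact inferInstanceAs (IsClosedImmersion (𝟙 _))
      exact IsClosedImmersion.of_comp η[B].left B.hom
    haveI : Surjective η[B].left :=
      SemiAbExt.surjective_of_lift η[B] (l ≫ p) (toUnit L) (by rw [hl1, Hom.one_def])
    haveI : IsIso η[B].left := isIso_of_isClosedImmersion_of_surjective η[B].left
    haveI : IsIso (η[B].left ≫ B.hom) := by rw [Over.w η[B]]; exact inferInstanceAs (IsIso (𝟙 _))
    exact IsIso.of_isIso_comp_left η[B].left B.hom
  · intro hsimple H _ h _ _ hne hH
    haveI : LocallyOfFiniteType H.hom := by rw [← Over.w h]; infer_instance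
    haveI : QuasiCompact H.hom := by rw [← Over.w h]; infer_instance
    haveI : Smooth H.hom := AntiAffSmooth.smooth H hH
    haveI : ConnectedSpace H.left := by
      haveI := AntiAff.isIso_of_bijective hH
      exact AntiAff.connectedSpace hH
    obtain ⟨B, _, pB, b, hpm, hbm, hpb, hbc, hps, hpf, hpl, hBs, hBc, hBq⟩ := SemiAbIsog.Image.exists_image_smooth (h ≫ q)
    haveI := hpm; haveI := hbm; haveI := hbc; haveI := hps; haveI := hpf; haveI := hpl
    rcases hsimple B b hBs hBc with hb | hB
    · haveI := hb
      haveI : IsIso b.left := ((Over.forget _).mapIso (asIso b)).isIso_hom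
      haveI : QuasiCompact pB.left := GrpQ.quasiCompact_left pB
      have hcov : IsCover (h ≫ q) := by
        rw [← hpb]
        haveI : Flat (pB ≫ b).left := by rw [Over.comp_left]; infer_instance
        haveI : Surjective (pB ≫ b).left := by rw [Over.comp_left]; infer_instance
        haveI : QuasiCompact (pB ≫ b).left := by rw [Over.comp_left]; infer_instance
        exact IsCover.mk' _
      exact absurd (AntiAffSub.isIso_of_affine_kernel hGa q i hq h hcov) hne
    · have hq1 : h ≫ q = 1 := by
        rw [← hpb, ← Category.comp_id pB, AntiAffParts.eq_one_of_trivial hB (𝟙 B), MonObj.comp_one, MonObj.one_comp]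
      obtain ⟨f, hf⟩ := (GrpQ.mem_kernel hq h).2 hq1
      have hf1 : η[H] ≫ f = η[N] := by
        rw [← cancel_mono i, Category.assoc, hf, IsMonHom.one_hom, IsMonHom.one_hom]
      have h1 : h = 1 := by rw [← hf, AntiAffParts.eq_one_of_antiAffine hH f hf1, MonObj.one_comp]
      haveI : Mono h := Over.mono_of_mono_left h
      have hid : 𝟙 H = toUnit H ≫ η[H] := by
        rw [← Hom.one_def, ← cancel_mono h, Category.id_comp, MonObj.one_comp, h1]
      exact ⟨⟨η[H].left, (congrArg Over.Hom.left hid).symm, Over.w η[H]⟩⟩

end Groth.Agent.S18075
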