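import Groth.Statements.S18079
import Groth.Agent.Lib.IsogLaw.Sub
import Groth.Agent.H87.SchDense

set_option autoImplicit false
universe u
open CategoryTheory MonoidalCategory CartesianMonoidalCategory MonObj GrpObj AlgebraicGeometry CategoryTheory.Limits
open AlgGrp

set_option backward.isDefEq.respectTransparency false
set_option linter.style.haveILetI false

namespace Groth.Agent.S18079

/-- Let k be a field with algebraic closure k̄ and f : G → H an isogeny of algebraic k-groups (a
surjective homomorphism of k-group schemes of finite type with finite kernel, i.e. surjective and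
finite). Then for every d, G_{k̄} contains a smooth connected unipotent subgroup of dimension at
least d (unipotent: no non-trivial subtorus) if and only if H_{k̄} does; that is, d_u(G) = d_u(H). -/
theorem result (k : Type u) [Field k]
    (G H : Over (Spec (CommRingCat.of k))) [GrpObj G] [LocallyOfFiniteType G.hom] [QuasiCompact G.hom]
    [GrpObj H] [LocallyOfFiniteType H.hom] [QuasiCompact H.hom]
    (f : G ⟶ H) [IsMonHom f] [Surjective f.left] [IsFinite f.left] (d : ℕ) :
    (∃ (U : Over (Spec (CommRingCat.of (AlgebraicClosure k)))) (_ : GrpObj U) (i : U ⟶ Red.bc (Spec.map (CommRingCat.ofHom (algebraMap k (AlgebraicClosure k)))) G), IsMonHom i ∧ IsClosedImmersion i.left ∧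
        Smooth U.hom ∧ IsAffine U.left ∧ ConnectedSpace ↥U.left ∧ Red.HasNoSubtorus (AlgebraicClosure k) U ∧
        (d : WithBot ℕ∞) ≤ topologicalKrullDim ↥U.left) ↔
    (∃ (U : Over (Spec (CommRingCat.of (AlgebraicClosure k)))) (_ : GrpObj U) (i : U ⟶ Red.bc (Spec.map (CommRingCat.ofHom (algebraMap k (AlgebraicClosure k)))) H), IsMonHom i ∧ IsClosedImmersion i.left ∧
        Smooth U.hom ∧ IsAffine U.left ∧ ConnectedSpace ↥U.left ∧ Red.HasNoSubtorus (AlgebraicClosure k) U ∧
        (d : WithBot ℕ∞) ≤ topologicalKrullDim ↥U.left) := by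
  let K := AlgebraicClosure k
  let b := Spec.map (CommRingCat.ofHom (algebraMap k K))
  haveI : LocallyOfFiniteType (Red.bc b G).hom := Groth.Agent.Lib.GrpSch.bc_hom_of (P := @LocallyOfFiniteType) b G ‹_›
  haveI : QuasiCompact (Red.bc b G).hom := Groth.Agent.Lib.GrpSch.bc_hom_of (P := @QuasiCompact) b G ‹_›
  haveI : LocallyOfFiniteType (Red.bc b H).hom := Groth.Agent.Lib.GrpSch.bc_hom_of (P := @LocallyOfFiniteType) b H ‹_›
  haveI : QuasiCompact (Red.bc b H).hom := Groth.Agent.Lib.GrpSch.bc_hom_of (P := @QuasiCompact) b H ‹_›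
  let f' := (Over.pullback b).map f
  haveI : Surjective f'.left := Groth.Agent.Lib.GrpSch.bc_map_left_of (P := @Surjective) _ f ‹_›
  haveI : IsFinite f'.left := Groth.Agent.Lib.GrpSch.bc_map_left_of (P := @IsFinite) _ f ‹_›
  constructor
  · rintro ⟨U, _, i, hi, hic, hUs, hUa, hUc, hP, hd⟩
    obtain ⟨V, _, j, p, hj, hjc, hp, hpf, hps, hVs, hVc, hdim, haff⟩ := Groth.Agent.Lib.IsogLaw.exists_down f' i
    haveI : IsAffine V.left := haff hUa
    haveI : QuasiCompact U.hom := by rw [← Over.w i]; infer_instance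
    haveI : QuasiCompact V.hom := by rw [← Over.w j]; infer_instance
    exact ⟨V, inferInstance, j, hj, hjc, hVs, inferInstance, hVc, (Groth.Agent.Lib.IsogLaw.hasNoSubtorus_iff_of_isogeny p).1 hP, hdim ▸ hd⟩
  · rintro ⟨V, _, j, hj, hjc, hVs, hVa, hVc, hP, hd⟩
    obtain ⟨U, _, i, p, hi, hic, hp, hpf, hps, hUs, hUc, hdim⟩ := Groth.Agent.Lib.IsogLaw.exists_up f' j
    haveI : IsAffine U.left := isAffine_of_isAffineHom p.left
    haveI : QuasiCompact U.hom := by rw [← Over.w i]; infer_instance
    haveI : QuasiCompact V.hom := by rw [← Over.w j]; infer_instance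
    exact ⟨U, inferInstance, i, hi, hic, hUs, inferInstance, hUc, (Groth.Agent.Lib.IsogLaw.hasNoSubtorus_iff_of_isogeny p).2 hP, hdim ▸ hd⟩

end Groth.Agent.S18079
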