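import Groth.Statements.S1808
import Groth.Agent.H20.TopRep.DRepr
import Groth.Agent.Lib.DMod.LocalCase
import Groth.Agent.Lib.FibreDim.Semicont
import Groth.Agent.Lib.FibreVanish36.Affine
import Groth.Agent.Lib.FibreVanish36.Coherent

set_option autoImplicit false
set_option linter.style.haveILetI false
universe u
open CategoryTheory CategoryTheory.Limits AlgebraicGeometry
attribute [local instance] HasDerivedCategory.standard
open Dual

namespace Groth.Agent.S1808

open Groth.Agent Groth.Agent.Lib in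
theorem fibre_bound (A : Type u) [CommRing A] [IsLocalRing A] {X : Scheme.{u}}
    (f : X ⟶ Spec (CommRingCat.of A)) [IsProper f] (d : ℕ)
    (hd : topologicalKrullDim (f.fiber (IsLocalRing.closedPoint A)) ≤ d) (y : Spec (CommRingCat.of A)) :
    topologicalKrullDim ↥(f.fiber y) ≤ d := by
  refine FibreDim.Basic.topologicalKrullDim_fiber_le f fun x _ => ?_
  by_contra hx
  have hK : IsClosed {x : X | FlatMor.fibreDimAt f x ≤ (d : WithBot ℕ∞)}ᶜ :=
    (FibreDim.Semicont.isOpen_setOf_fibreDimAt_le f d).isClosed_compl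
  obtain ⟨x0, hx0, h0⟩ := (IsLocalRing.specializes_closedPoint (f.base x)).mem_closed
    (f.isClosedMap _ hK) ⟨x, hx, rfl⟩
  exact hx0 ((FibreDim.Basic.fibreDimAt_le_topologicalKrullDim f h0).trans hd)

open Groth.Agent Groth.Agent.Lib in
theorem isGE_dualizing (A : Type u) [CommRing A] [IsLocalRing A] [IsNoetherianRing A] (ω : Dual.D A)
    (hω : Dual.IsDualizing A ω) (hn : Dual.IsNormalized A ω) (dA : ℕ) (hdA : ringKrullDim A = dA) :
    DerivedCategory.IsGE ω (-(dA : ℤ)) := (DerivedCategory.isGE_iff _ _).2 fun i hi => by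
  haveI : Subsingleton (Dual.inD A A ⟶ ω⟦i⟧) := by
    rw [← Module.support_eq_empty_iff (R := A), Set.eq_empty_iff_forall_notMem]
    intro p
    refine DMod.Degree.notMem_support_hom_of_outside hω p A i (Or.inr fun q _ _ => ?_)
    have h1 := DMod.LocalCase.ringKrullDim_quotient_eq_neg_deg hω hn q
    have h2 : ringKrullDim (A ⧸ q.asIdeal) ≤ ringKrullDim A := ringKrullDim_quotient_le _
    rw [h1, hdA] at h2
    have h3 : (-DMod.Degree.deg hω q).toNat ≤ dA := by exact_mod_cast h2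
    have := DMod.LocalCase.deg_nonpos hω hn q
    lia
  haveI : Subsingleton (Dual.HD A ω i) :=
    (DMod.Basic.homUnitShiftEquiv ω i).symm.toEquiv.subsingleton
  exact ModuleCat.isZero_of_subsingleton _

/-- Let A be a Noetherian local ring with normalized dualizing complex ω_A^• and ω_A = H^{−dim
A}(ω_A^•); let X be proper over Spec A with Rf_* on D_QCoh assumed to exist and to preserve
quasi-coherence of cohomology, a a right adjoint of it, and W an object of D_QCoh(Spec A) isomorphic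
to the derived tilde of ω_A^• (tilde assumed left exact). Put ω_X = H^{−dim X}(a(W)). Let d be the
dimension of the closed fibre and suppose dim X = d + dim A. Then there is an A-linear map t :
H^d(X, ω_X) → ω_A such that for every coherent O_X-module F and every A-linear ψ : H^d(X, F) → ω_A
there is exactly one φ : F → ω_X with ψ = t ∘ H^d(φ); that is, ω_X represents F ↦ Hom_A(H^d(X, F),
ω_A). -/
theorem result (A : Type u) [CommRing A] [IsLocalRing A] [IsNoetherianRing A] (ω : Dual.D A) (hω : Dual.IsDualizing A ω) (hn : Dual.IsNormalized A ω) (dA : ℕ) (hdA : ringKrullDim A = dA) (X : Scheme.{u}) [X.Over (Spec (CommRingCat.of A))] [IsProper (X ↘ Spec (CommRingCat.of A))] [DCoh.HasRpush (X ↘ Spec (CommRingCat.of A))] (h : ∀ K : DCoh.D X, DCoh.IsQCohD K → DCoh.IsQCohD ((DCoh.Rpush (X ↘ Spec (CommRingCat.of A))).obj K)) (a : DCoh.DQCoh (Spec (CommRingCat.of A)) ⥤ DCoh.DQCoh X) (adj : (ObjectProperty.lift DCoh.IsQCohD (ObjectProperty.ι DCoh.IsQCohD ⋙ DCoh.Rpush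 (X ↘ Spec (CommRingCat.of A))) (fun K => h K.obj K.property)) ⊣ a) [PreservesFiniteLimits (tilde.functor (CommRingCat.of A))] (W : DCoh.DQCoh (Spec (CommRingCat.of A))) (hW : Nonempty (W.obj ≅ (DCoh.tildeD (CommRingCat.of A)).obj ω)) (dX d : ℕ) (hdX : topologicalKrullDim X = dX) (hd : topologicalKrullDim ((X ↘ Spec (CommRingCat.of A)).fiber (IsLocalRing.closedPoint A)) = d) (hdim : dX = d + dA) : ∃ t : Coh.HH X (DCoh.HD (a.obj W).obj (-(dX : ℤ))) d →ₗ[A] Dual.HD A ω (-(dA : ℤ)), ∀ (F : X.Modules), Coh.IsCoh F → ∀ ψ : Coh.HH X F d →ₗ[A] Dual.HD A ω (-(dA : ℤ)), ∃! φ : F ⟶ DCoh.HD (a.obj W).obj (-(dX : ℤ)), ∀ x : Coh.HH X F d, ψ x = t (Sheaf.H.map ((SheafOfModules.toSheaf X.ringCatSheaf).map φ) d x) := by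
  letI : HasExt.{u} X.Modules := inferInstance
  let S := Spec (CommRingCat.of A)
  let f := X ↘ S
  haveI : CompactSpace X := QuasiCompact.compactSpace_of_compactSpace f
  haveI : QuasiSeparatedSpace X := quasiSeparatedSpace_of_quasiSeparated f
  have hv : ∀ M : X.Modules, M.IsQuasicoherent → ∀ p : ℕ, d ≤ p →
      Subsingleton (Coh.HH X M (p + 1)) := fun M hM p hp =>
    Groth.Agent.Lib.FibreVanish36.Affine.subsingleton_HH Groth.Agent.Lib.FibreVanish36.Coherent.cohVanish
      f d (fibre_bound A f d hd.le) M p hp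
  -- normalise to degree zero
  let n : ℤ := -(dA : ℤ)
  haveI := isGE_dualizing A ω hω hn dA hdA
  let ω0 : Dual.D (CommRingCat.of A) := ω⟦n⟧
  haveI : DerivedCategory.IsGE ω0 0 :=
    DerivedCategory.TStructure.t.isGE_shift ω n n 0 (by lia)
  let W' : DCoh.DQCoh S := W⟦n⟧
  let eT : (DCoh.tildeD (CommRingCat.of A)).obj ω0 ≅ W'.obj :=
    ((DCoh.tildeD (CommRingCat.of A)).commShiftIso n).app ω ≪≫
      (shiftFunctor _ n).mapIso hW.some.symm ≪≫
      (((ObjectProperty.ι (DCoh.IsQCohD (X := S))).commShiftIso n).app W).symm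
  obtain ⟨τ, hτs, hτ⟩ := Groth.Agent.H20.TopRep.DRepr.exists_trace (k := A) h adj ω0 W' eT d hv
  obtain ⟨eS⟩ := Groth.Agent.S1767.nonempty_shift_iso f h a adj W n
  let e1 : DCoh.HD (a.obj W').obj (-(d : ℤ)) ≅ DCoh.HD (a.obj W).obj (-(dX : ℤ)) :=
    (DerivedCategory.homologyFunctor X.Modules _).mapIso eS ≪≫
      ((DerivedCategory.homologyFunctor X.Modules 0).shiftIso n (-(d : ℤ)) (-(dX : ℤ))
        (by lia)).app (a.obj W).obj
  let e2 : Dual.HD A ω0 0 ≃ₗ[A] Dual.HD A ω (-(dA : ℤ)) :=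
    Groth.Agent.Lib.DMod.Basic.HDShift ω n 0 (-(dA : ℤ)) (add_zero _)
  let τl : Coh.HH X (DCoh.HD (a.obj W').obj (-(d : ℤ))) d →ₗ[A] Dual.HD A ω0 0 :=
    { toFun := τ, map_add' := map_add τ, map_smul' := hτs }
  refine ⟨e2.toLinearMap.comp (τl.comp (Groth.Agent.Lib.Curves.LES.mapK A e1.inv d)),
    fun F hF ψ => ?_⟩
  obtain ⟨φ, hφ, huniq⟩ := hτ F hF.1 (e2.symm.toLinearMap.comp ψ).toAddMonoidHom
    (fun r z => map_smul (e2.symm.toLinearMap.comp ψ) r z)
  refine ⟨φ ≫ e1.hom, fun x => ?_, fun φ' hφ' => ?_⟩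
  · change ψ x = e2 (τ (Groth.Agent.Lib.Curves.LES.mapK A e1.inv d
      (Groth.Agent.Lib.Curves.LES.mapK A (φ ≫ e1.hom) d x)))
    rw [← LinearMap.comp_apply, ← Groth.Agent.Lib.Curves.LES.mapK_comp, Category.assoc,
      Iso.hom_inv_id, Category.comp_id, ← hφ]
    exact (e2.apply_symm_apply (ψ x)).symm
  · have h1 : φ' ≫ e1.inv = φ := huniq _ fun x => by
      change e2.symm (ψ x) = _
      rw [hφ' x, Groth.Agent.Lib.Curves.LES.mapK_comp]
      exact e2.symm_apply_apply _
    rw [← h1, Category.assoc, Iso.inv_hom_id, Category.comp_id]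

end Groth.Agent.S1808
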