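import Groth.Statements.S18083
import Groth.Agent.Lib.SpecSub.Regular
import Groth.Agent.S18082
import Groth.Agent.S18063
-- import your own Groth.Agent.* helpers here

set_option autoImplicit false
universe u
open CategoryTheory MonoidalCategory CartesianMonoidalCategory MonObj GrpObj AlgebraicGeometry CategoryTheory.Limits
open AlgGrp

set_option backward.isDefEq.respectTransparency false
set_option linter.style.haveILetI false
open Groth.Agent.Lib.SpecSub
namespace Groth.Agent.S18083

/-- A is a regular local ring, K denotes its field of fractions and k its residue field; G is a flat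
separated A-group scheme of finite presentation, and d is a natural number. If G_K contains a
commutative (resp. nilpotent, resp. solvable) closed subgroup scheme of dimension d, then so does
G_k. (The published statement does not require G separated; its proof goes through the
specialisation of commutativity, nilpotency and solvability over a discrete valuation ring by a
density argument that is valid for separated group schemes, so G is taken separated here.) -/
theorem result (A : Type u) [CommRing A] [IsDomain A] [IsRegularLocalRing A]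
    (K : Type u) [Field K] [Algebra A K] [IsFractionRing A K]
    (G : Over (Spec (CommRingCat.of A))) [GrpObj G] [Flat G.hom] [LocallyOfFinitePresentation G.hom] [QuasiCompact G.hom]
    [IsSeparated G.hom] (d : ℕ) :
    ((∃ (H : Over (Spec (CommRingCat.of K))) (_ : GrpObj H) (i : H ⟶ Red.bc (Spec.map (CommRingCat.ofHom (algebraMap A K))) G),
        IsMonHom i ∧ IsClosedImmersion i.left ∧ IsCommMonObj H ∧ topologicalKrullDim ↥H.left = (d : WithBot ℕ∞)) → ∃ (H : Over (Spec (CommRingCat.of (IsLocalRing.ResidueField A)))) (_ : GrpObj H) (i : H ⟶ Red.bc (Spec.map (CommRingCat.ofHom (algebraMap A (IsLocalRing.ResidueField A)))) G),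
        IsMonHom i ∧ IsClosedImmersion i.left ∧ IsCommMonObj H ∧ topologicalKrullDim ↥H.left = (d : WithBot ℕ∞)) ∧
    ((∃ (H : Over (Spec (CommRingCat.of K))) (_ : GrpObj H) (i : H ⟶ Red.bc (Spec.map (CommRingCat.ofHom (algebraMap A K))) G),
        IsMonHom i ∧ IsClosedImmersion i.left ∧ AGF.IsNilpotentGrp H ∧ topologicalKrullDim ↥H.left = (d : WithBot ℕ∞)) → ∃ (H : Over (Spec (CommRingCat.of (IsLocalRing.ResidueField A)))) (_ : GrpObj H) (i : H ⟶ Red.bc (Spec.map (CommRingCat.ofHom (algebraMap A (IsLocalRing.ResidueField A)))) G),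
        IsMonHom i ∧ IsClosedImmersion i.left ∧ AGF.IsNilpotentGrp H ∧ topologicalKrullDim ↥H.left = (d : WithBot ℕ∞)) ∧
    ((∃ (H : Over (Spec (CommRingCat.of K))) (_ : GrpObj H) (i : H ⟶ Red.bc (Spec.map (CommRingCat.ofHom (algebraMap A K))) G),
        IsMonHom i ∧ IsClosedImmersion i.left ∧ Red.IsSolvableGrp H ∧ topologicalKrullDim ↥H.left = (d : WithBot ℕ∞)) → ∃ (H : Over (Spec (CommRingCat.of (IsLocalRing.ResidueField A)))) (_ : GrpObj H) (i : H ⟶ Red.bc (Spec.map (CommRingCat.ofHom (algebraMap A (IsLocalRing.ResidueField A)))) G),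
        IsMonHom i ∧ IsClosedImmersion i.left ∧ Red.IsSolvableGrp H ∧ topologicalKrullDim ↥H.left = (d : WithBot ℕ∞)) := by
  refine ⟨?_, ?_, ?_⟩ <;> rintro ⟨H, _, i, hm, hc, hP, hd⟩
  · obtain ⟨H', g', i', hm', hc', -, hP', hd'⟩ := hasSub_residue_of_regular (nrm := False)
      (R := fun {_} H [_] => IsCommMonObj H) inherited_comm True
      (fun A _ _ _ K _ _ _ H _ _ _ _ hs hK => by
        haveI := hs trivial
        haveI := hK
        exact Groth.Agent.S18063.result A K H)
      _ A rfl K G (fun _ => inferInstance) ⟨H, inferInstance, i, hm, hc, fun h => h.elim, hP, hd⟩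
    exact ⟨H', g', i', hm', hc', hP', hd'⟩
  · obtain ⟨H', g', i', hm', hc', -, hP', hd'⟩ := hasSub_residue_of_regular (nrm := False)
      (R := fun {_} H [_] => AGF.IsNilpotentGrp H) inherited_nilpotent True
      (fun A _ _ _ K _ _ _ H _ _ _ _ hs hK => by
        haveI := hs trivial
        exact (Groth.Agent.S18082.result A K H).1 hK)
      _ A rfl K G (fun _ => inferInstance) ⟨H, inferInstance, i, hm, hc, fun h => h.elim, hP, hd⟩
    exact ⟨H', g', i', hm', hc', hP', hd'⟩
  · obtain ⟨H', g', i', hm', hc', -, hP', hd'⟩ := hasSub_residue_of_regular (nrm := False)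
      (R := fun {_} H [_] => Red.IsSolvableGrp H) inherited_solvable True
      (fun A _ _ _ K _ _ _ H _ _ _ _ hs hK => by
        haveI := hs trivial
        exact (Groth.Agent.S18082.result A K H).2 hK)
      _ A rfl K G (fun _ => inferInstance) ⟨H, inferInstance, i, hm, hc, fun h => h.elim, hP, hd⟩
    exact ⟨H', g', i', hm', hc', hP', hd'⟩

end Groth.Agent.S18083
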