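import Groth.Statements.S18096
import Groth.Agent.Lib.GrpQ.RepCrit


set_option autoImplicit false
universe u
open CategoryTheory MonoidalCategory CartesianMonoidalCategory MonObj GrpObj AlgebraicGeometry CategoryTheory.Limits
open AlgGrp

namespace Groth.Agent.S18096

/-- Let k be a field and G a k-group scheme of finite type. Then G is anti-affine, i.e. O(G) = k, if and
only if every finite-dimensional linear representation of G is trivial, i.e. for every n every
homomorphism G → GL_{n,k} is trivial. -/
theorem result (k : Type u) [Field k]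
    (G : Over (Spec (CommRingCat.of k))) [GrpObj G] [LocallyOfFiniteType G.hom] [QuasiCompact G.hom] :
    Function.Bijective ((Scheme.ΓSpecIso (CommRingCat.of k)).inv ≫ G.hom.appTop).hom ↔
      ∀ (n : ℕ) (ρ : G ⟶ FrB.GLn n (Spec (CommRingCat.of k))), IsMonHom ρ → ρ = 1 := by
  refine ⟨fun hG n ρ hρ => ?_, fun h => Lib.GrpQ.RepCrit.antiAffine_of_hom h⟩
  have : IsAffine (FrB.GLn n (Spec (CommRingCat.of k))).left := by
    have : IsAffineHom (FrB.GLZ.{u} n).hom := inferInstanceAs (IsAffineHom (Spec.map (CommRingCat.ofHom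
      (algebraMap (ULift.{u} ℤ) (CoordGrp.GLn n (ULift.{u} ℤ))))))
    have : IsAffineHom (FrB.GLn n (Spec (CommRingCat.of k))).hom := inferInstanceAs (IsAffineHom (pullback.snd _ _))
    exact isAffine_of_isAffineHom (FrB.GLn n (Spec (CommRingCat.of k))).hom
  exact Lib.GrpQ.RepCrit.hom_eq_one hG ρ

end Groth.Agent.S18096
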