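import Groth.Statements.S18097
import Groth.Agent.Lib.SpecSub.Geometric

set_option autoImplicit false
universe u
open CategoryTheory MonoidalCategory CartesianMonoidalCategory MonObj GrpObj AlgebraicGeometry CategoryTheory.Limits
open AlgGrp

set_option backward.isDefEq.respectTransparency false
set_option linter.style.haveILetI false
open Groth.Agent Groth.Agent.Lib.SpecSub CategoryTheory.Limits
namespace Groth.Agent.S18097

/-- Let k be an algebraically closed field, F an algebraically closed field extension of k, G an
algebraic k-group (a k-group scheme of finite type) and d a natural number. Then G_F contains a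
smooth connected solvable closed subgroup of dimension at least d if and only if G does; that is,
D'_s(k, G) = D'_s(F, G). -/
theorem result (k : Type u) [Field k] [IsAlgClosed k]
    (F : Type u) [Field F] [IsAlgClosed F] [Algebra k F]
    (G : Over (Spec (CommRingCat.of k))) [GrpObj G] [LocallyOfFiniteType G.hom] [QuasiCompact G.hom] (d : ℕ) :
    (∃ (U : Over (Spec (CommRingCat.of F))) (_ : GrpObj U) (i : U ⟶ Red.bc (Spec.map (CommRingCat.ofHom (algebraMap k F))) G), IsMonHom i ∧ IsClosedImmersion i.left ∧
        Smooth U.hom ∧ ConnectedSpace ↥U.left ∧ Red.IsSolvableGrp U ∧ (d : WithBot ℕ∞) ≤ topologicalKrullDim ↥U.left) ↔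
    (∃ (U : Over (Spec (CommRingCat.of k))) (_ : GrpObj U) (i : U ⟶ G), IsMonHom i ∧ IsClosedImmersion i.left ∧
        Smooth U.hom ∧ ConnectedSpace ↥U.left ∧ Red.IsSolvableGrp U ∧ (d : WithBot ℕ∞) ≤ topologicalKrullDim ↥U.left) := by
  let f := Spec.map (CommRingCat.ofHom (algebraMap k F))
  constructor
  · rintro ⟨U, _, i, hm, hc, -, -, hP, hd⟩
    haveI := hm; haveI := hc
    obtain ⟨V, π, a, ha, hπ, -⟩ := Place.exists_valuationSubring_hom (algebraMap k F) (RingHom.id k)
      (by rw [(RingHom.injective_iff_ker_eq_bot _).1 (algebraMap k F).injective]; exact bot_le)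
    obtain ⟨C, _, c, hcm, hcc, hCs, hCc, hCd, hP'⟩ := Geometric.exists_specialisation (F := F) π G
      (Spec.map (CommRingCat.ofHom a)) (a := f) (b := 𝟙 _)
      (by rw [← Spec.map_comp, ← CommRingCat.ofHom_comp, show (algebraMap V F).comp a = algebraMap k F from ha])
      (by rw [← Spec.map_comp, ← CommRingCat.ofHom_comp, hπ]; exact Spec.map_id _) U i
    haveI := hcm; haveI := hcc; haveI := Geometric.isMonHom_idIso G
    haveI : IsIso (Geometric.idIso G).hom.left := ((Over.forget _).mapIso (Geometric.idIso G)).isIso_hom
    exact ⟨C, inferInstance, c ≫ (Geometric.idIso G).hom, inferInstance, by rw [Over.comp_left]; infer_instance,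
      hCs, hCc, hP'.solvable hP, hd.trans hCd⟩
  · rintro ⟨U, _, i, hm, hc, hs, hcn, hP, hd⟩
    haveI := hm; haveI := hc; haveI := hs; haveI := hcn
    haveI : LocallyOfFiniteType U.hom := inferInstance
    haveI : Unique ↥(Spec (CommRingCat.of F)) := inferInstanceAs (Unique (PrimeSpectrum F))
    haveI : ConnectedSpace ↥(Spec (CommRingCat.of F)) := inferInstance
    refine ⟨Red.bc f U, inferInstance, (Over.pullback f).map i, inferInstance,
      Lib.GrpSch.bc_map_left_of (P := @IsClosedImmersion) f i hc,
      MorphismProperty.pullback_snd (P := @Smooth) _ _ hs,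
      Groth.Agent.S5342.result k U.left _ U.hom f η[U].left (Over.w η[U]),
      inherited_solvable _ _ (subPts_bc f U) hP, ?_⟩
    refine hd.trans (le_of_eq ?_)
    exact (Groth.Agent.H56.DimBaseChange.topologicalKrullDim_baseChange f _ _ _
      (IsPullback.of_hasPullback U.hom f)).symm

end Groth.Agent.S18097
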