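import Groth.Statements.S18100
import Groth.Agent.Lib.GenSub.Bounded
import Groth.Agent.Lib.GenSub.Connected
import Groth.Agent.H63.ReducedSubAV

set_option autoImplicit false
universe u
open CategoryTheory MonoidalCategory CartesianMonoidalCategory MonObj GrpObj AlgebraicGeometry CategoryTheory.Limits
open AlgGrp

open Groth.Agent.Lib Groth.Agent

namespace Groth.Agent.S18100

/-- Let k be a field and G a non-trivial anti-affine k-group scheme of finite type with no anti-affine
closed subgroup scheme other than G and the trivial one. Then G is either an abelian variety (proper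
over k), or every complete subvariety of G has dimension zero: any closed subscheme of G that is
geometrically integral and proper over k has dimension 0. -/
theorem result (k : Type u) [Field k]
    (G : Over (Spec (CommRingCat.of k))) [GrpObj G] [LocallyOfFiniteType G.hom] [QuasiCompact G.hom] (hG : ¬ Red.IsTrivialGrp G)
    (hGa : Function.Bijective ((Scheme.ΓSpecIso (CommRingCat.of k)).inv ≫ G.hom.appTop).hom)
    (hmin : ∀ (H : Over (Spec (CommRingCat.of k))) [GrpObj H] (h : H ⟶ G) [IsMonHom h] [IsClosedImmersion h.left], ¬ IsIso h → Function.Bijective ((Scheme.ΓSpecIso (CommRingCat.of k)).inv ≫ H.hom.appTop).hom → Red.IsTrivialGrp H) :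
    IsProper G.hom ∨
      ∀ (Z : Over (Spec (CommRingCat.of k))) (z : Z ⟶ G) [IsClosedImmersion z.left] [IsProper Z.hom] [GeometricallyIntegral Z.hom],
        topologicalKrullDim ↥Z.left = 0 := by
  by_cases hP : IsProper G.hom
  · exact Or.inl hP
  refine Or.inr fun Z z _ _ _ => ?_
  have hZc : GeometricallyConnected Z.hom :=
    ⟨fun {K _} y {W} fst' snd' h =>
      have : IsIntegral W := GeometricallyIntegral.geometrically_isIntegral (f := Z.hom) y fst' snd' h
      inferInstance⟩
  have : IsSeparated G.hom := GrpSch.isSeparated_of_field G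
  have : Nonempty Z.left := by
    obtain ⟨x, -⟩ := Z.hom.surjective (IsLocalRing.closedPoint k)
    exact ⟨x⟩
  let X : Over (Spec (CommRingCat.of k)) := Z ⊗ Z
  have : GeometricallyReduced X.hom := H52.FBase.GeomRedSch.geometricallyReduced_prod Z.hom Z.hom
  have : GeometricallyConnected X.hom := GenSub.geometricallyConnected_prod
  have hXp : IsProper X.hom := by
    show IsProper (pullback.fst Z.hom Z.hom ≫ Z.hom)
    infer_instance
  let ψ : X ⟶ G := (fst Z Z ≫ z) * (snd Z Z ≫ z)⁻¹
  have he : ∃ x, ψ.left x ∈ Set.range η[G].left := by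
    obtain ⟨z₀⟩ := ‹Nonempty Z.left›
    refine ⟨(lift (𝟙 Z) (𝟙 Z)).left z₀, (toUnit Z).left z₀, ?_⟩
    have hd : lift (𝟙 Z) (𝟙 Z) ≫ ψ = toUnit Z ≫ η[G] := by
      show lift (𝟙 Z) (𝟙 Z) ≫ ((fst Z Z ≫ z) * (snd Z Z ≫ z)⁻¹) = _
      rw [MonObj.comp_mul, GrpObj.comp_inv, lift_fst_assoc, lift_snd_assoc, mul_inv_cancel, Hom.one_def]
    rw [← Scheme.Hom.comp_apply, ← Scheme.Hom.comp_apply, ← Over.comp_left, ← Over.comp_left, hd]
  obtain ⟨Q, _, i, _, _, hf, _, hQ, -⟩ := GenSub.exists_smallest ψ
  obtain ⟨f', hf'⟩ := id hf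
  have : LocallyOfFiniteType Q.hom := by rw [← Over.w i]; infer_instance
  have : QuasiCompact Q.hom := by rw [← Over.w i]; infer_instance
  have : IsSeparated Q.hom := GrpSch.isSeparated_of_field Q
  have : ConnectedSpace Q.left := GenSub.connectedSpace_of_geometricallyConnected ψ he Q i hf hQ
  have : IrreducibleSpace Q.left := H63.ReducedSubAV.irreducibleSpace_of_connected Q
  have hmonoi : Mono i := Over.mono_of_mono_left i
  have he' : ∃ x, f'.left x ∈ Set.range η[Q].left := by
    obtain ⟨x, p, hp⟩ := he
    refine ⟨x, p, ?_⟩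
    apply (IsClosedImmersion.base_closed (f := i.left)).injective
    rw [← Scheme.Hom.comp_apply, ← Scheme.Hom.comp_apply, ← Over.comp_left, ← Over.comp_left, hf',
      IsMonHom.one_hom]
    exact hp.trans rfl
  have hQ' : ∀ (Q' : Over (Spec (CommRingCat.of k))) (_ : GrpObj Q') (i' : Q' ⟶ Q), IsMonHom i' →
      IsClosedImmersion i'.left → (∃ f'' : X ⟶ Q', f'' ≫ i' = f') → ∃ j : Q ⟶ Q', j ≫ i' = 𝟙 Q := by
    intro Q' _ i' _ _ ⟨f'', hf''⟩
    have : IsClosedImmersion (i' ≫ i).left := by rw [Over.comp_left]; infer_instance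
    obtain ⟨j, hj⟩ := hQ Q' _ (i' ≫ i) inferInstance this ⟨f'', by rw [← Category.assoc, hf'', hf']⟩
    exact ⟨j, by rw [← cancel_mono i, Category.assoc, hj, Category.id_comp]⟩
  have : LocallyOfFiniteType X.hom := inferInstance
  obtain ⟨N, hN⟩ := GenSub.exists_wordSet_eq_univ f' he' hQ'
  have hproper : ∀ l : List Bool, IsProper (GenSub.wordObj X l).hom := by
    intro l
    induction l with
    | nil => exact inferInstanceAs (IsProper (𝟙 (Spec (CommRingCat.of k))))
    | cons b l ih =>
      show IsProper (pullback.fst X.hom (GenSub.wordObj X l).hom ≫ X.hom)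
      infer_instance
  have hQp : IsProper Q.hom := by
    obtain ⟨T, hTfin, hT⟩ : ∃ T : Set (List Bool), T.Finite ∧
        GenSub.wordSet f' N = ⋃ l ∈ T, Set.range (GenSub.wordHom f' l).left :=
      ⟨_, List.finite_length_eq Bool N, GenSub.wordSet_eq f' N⟩
    have hcl : ∀ l, IsClosed (Set.range (GenSub.wordHom f' l).left) := by
      intro l
      have := hproper l
      have : IsProper ((GenSub.wordHom f' l).left ≫ Q.hom) := by rw [Over.w]; infer_instance
      have : IsProper (GenSub.wordHom f' l).left := IsProper.of_comp _ Q.hom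
      exact (GenSub.wordHom f' l).left.isClosedMap.isClosed_range
    obtain ⟨s, hs, hl⟩ := isIrreducible_iff_sUnion_isClosed.1 (IrreducibleSpace.isIrreducible_univ Q.left)
      (hTfin.image fun l => Set.range (GenSub.wordHom f' l).left).toFinset
      (fun s hs => by
        obtain ⟨l, -, rfl⟩ := (Set.Finite.mem_toFinset _).1 hs
        exact hcl l)
      (by
        rw [Set.Finite.coe_toFinset, Set.sUnion_image, ← hT, hN])
    obtain ⟨l, hlT, rfl⟩ := (Set.Finite.mem_toFinset _).1 hs
    have : Surjective (GenSub.wordHom f' l).left := ⟨fun q => hl (Set.mem_univ q)⟩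
    have := hproper l
    have : UniversallyClosed ((GenSub.wordHom f' l).left ≫ Q.hom) := by rw [Over.w]; infer_instance
    have : UniversallyClosed Q.hom := UniversallyClosed.of_comp_surjective (GenSub.wordHom f' l).left Q.hom
    exact ⟨⟩
  have : IsReduced Q.left := GenSub.isReduced_left Q
  have : IsIntegral Q.left := isIntegral_of_irreducibleSpace_of_isReduced _
  have hQa : Function.Bijective ((Scheme.ΓSpecIso (CommRingCat.of k)).inv ≫ Q.hom.appTop).hom := by
    let ε : CommRingCat.of k ⟶ Γ(Q.left, ⊤) := (Scheme.ΓSpecIso (CommRingCat.of k)).inv ≫ Q.hom.appTop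
    let r : Γ(Q.left, ⊤) ⟶ CommRingCat.of k := η[Q].left.appTop ≫ (Scheme.ΓSpecIso (CommRingCat.of k)).hom
    have hr : ε ≫ r = 𝟙 _ := by
      show ((Scheme.ΓSpecIso (CommRingCat.of k)).inv ≫ Q.hom.appTop) ≫ η[Q].left.appTop ≫ (Scheme.ΓSpecIso (CommRingCat.of k)).hom = _
      rw [Category.assoc, ← Category.assoc Q.hom.appTop, ← Scheme.Hom.comp_appTop,
        show η[Q].left ≫ Q.hom = 𝟙 _ from Over.w η[Q]]
      simp
    letI := (isField_of_universallyClosed k Q.hom).toField
    have hri : Function.Injective r.hom := RingHom.injective _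
    have h1 : ∀ x, r.hom (ε.hom x) = x := fun x => ConcreteCategory.congr_hom hr x
    exact ⟨fun a b h => by rw [← h1 a, ← h1 b]; exact congrArg r.hom h,
      fun y => ⟨r.hom y, hri (h1 _)⟩⟩
  by_cases hi : IsIso i
  · exfalso
    apply hP
    have : IsIso i.left := (Over.forget _).map_isIso i
    have : IsProper (i.left ≫ G.hom) := by rw [Over.w]; exact hQp
    rw [show G.hom = inv i.left ≫ i.left ≫ G.hom by simp]
    infer_instance
  have : IsIso Q.hom := hmin Q i hi hQa
  have hf1 : f' = 1 := by
    refine Over.OverMorphism.ext ?_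
    rw [← cancel_mono Q.hom, Over.w, Over.w]
  have hψ : ψ = 1 := by rw [← hf', hf1, MonObj.one_comp]
  have hfs : fst Z Z ≫ z = snd Z Z ≫ z := by
    have := mul_inv_eq_one.1 hψ
    exact this
  have : Mono z := Over.mono_of_mono_left z
  have hfs' : fst Z Z = snd Z Z := by rw [← cancel_mono z, hfs]
  have : Mono Z.hom := by
    constructor
    intro W a b hab
    let a' : Over.mk (a ≫ Z.hom) ⟶ Z := Over.homMk a rfl
    let b' : Over.mk (a ≫ Z.hom) ⟶ Z := Over.homMk b hab.symm
    have : a' = b' := by
      rw [← lift_fst a' b', hfs', lift_snd]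
    exact congrArg CommaMorphism.left this
  have : Subsingleton (Spec (CommRingCat.of k)) := inferInstanceAs (Subsingleton (PrimeSpectrum k))
  have : IsClosedImmersion Z.hom := (IsClosedImmersion.iff_isProper_and_mono Z.hom).2 ⟨inferInstance, inferInstance⟩
  have : Subsingleton Z.left := (IsClosedImmersion.base_closed (f := Z.hom)).injective.subsingleton
  refine le_antisymm (topologicalKrullDim_zero_of_discreteTopology Z.left) ?_
  have : Nonempty (TopologicalSpace.IrreducibleCloseds Z.left) := ⟨⟨closure {Classical.arbitrary Z.left}, isIrreducible_singleton.closure, isClosed_closure⟩⟩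
  exact Order.krullDim_nonneg

end Groth.Agent.S18100
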