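import Groth.Statements.S18101
import Groth.Agent.Lib.GrpQ.RepCrit


set_option autoImplicit false
universe u
open CategoryTheory MonoidalCategory CartesianMonoidalCategory MonObj GrpObj AlgebraicGeometry CategoryTheory.Limits
open AlgGrp

namespace Groth.Agent.S18101

/-- Let k be a field and G a k-group scheme of finite type. Then G is anti-affine, i.e. O(G) = k, if and
only if every action of G on a variety having a fixed point is trivial; the fixed point is taken
k-rational here (the published condition allows any closed fixed point, which gives a formally
stronger necessary condition; the equivalence with a rational fixed point is what the published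
argument through linear representations yields). -/
theorem result (k : Type u) [Field k]
    (G : Over (Spec (CommRingCat.of k))) [GrpObj G] [LocallyOfFiniteType G.hom] [QuasiCompact G.hom] :
    Function.Bijective ((Scheme.ΓSpecIso (CommRingCat.of k)).inv ≫ G.hom.appTop).hom ↔
      ∀ (X : Over (Spec (CommRingCat.of k))) [LocallyOfFiniteType X.hom] [QuasiCompact X.hom] [IsSeparated X.hom] [GeometricallyIntegral X.hom]
        (a : AlgGrp.Action G X) (x : 𝟙_ (Over (Spec (CommRingCat.of k))) ⟶ X), a.IsFixedPt x → a.act = snd G X := by
  refine ⟨fun hG X _ _ _ _ a x hx => ?_, fun h => ?_⟩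
  · have := Lib.GrpQ.AntiAff.isIso_of_bijective hG
    have : IsIntegral X.left := GeometricallyIntegral.isIntegral_of_subsingleton X.hom
    exact Lib.GrpQ.NatFun.act_eq_snd a x hx
  · refine Lib.GrpQ.RepCrit.antiAffine_of_action fun n a x hx => ?_
    obtain ⟨_, _, _, _, _, _⟩ := Lib.GrpQ.RepCrit.affineSpace_inst (k := k) n
    exact h _ a x hx

end Groth.Agent.S18101
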