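import Groth.Statements.S18110
import Groth.Agent.Lib.CartierOne45.Main

set_option autoImplicit false
universe u
open DeRham

namespace Groth.Agent.S18110

open exteriorPower in
/-- Let p be a prime, A a perfect ring of characteristic p (its Frobenius is bijective), B a smooth
A-algebra, and d a de Rham differential on the exterior powers of Ω_{B/A} (a degreewise family
obeying the de Rham rule with d ∘ d = 0). Then there is exactly one additive map C from the closed
1-forms (the kernel of d in degree 1) to the 1-forms such that C(f^p ω) = f C(ω) for f in B and ω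
closed, C(ω) = 0 if and only if ω is exact, and C(f^{p-1} df) = df for f in B. (The source states
this for all degrees r at once on a smooth scheme over a perfect base, with two further conditions,
C(1) = 1 in degree 0 and multiplicativity for wedge products of closed forms, which involve other
degrees; this row is the degree-one, affine case, where those two conditions are empty.) -/
theorem result
    (p : ℕ) [Fact p.Prime] (A B : Type u) [CommRing A] [CharP A p] [PerfectRing A p]
    [CommRing B] [Algebra A B] [Algebra.Smooth A B]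
    (d : ∀ q : ℕ, ↥(⋀[B]^q (Ω[B⁄A])) →ₗ[A] ↥(⋀[B]^(q + 1) (Ω[B⁄A])))
    (hd : DeRham.IsDiff (KaehlerDifferential.D A B) d) :
    ∃! C : ↥(DeRham.cocycles d 1) →+ ↥(⋀[B]^1 (Ω[B⁄A])),
      (∀ (f : B) (ω ω' : ↥(DeRham.cocycles d 1)),
          (ω' : ↥(⋀[B]^1 (Ω[B⁄A]))) = f ^ p • (ω : ↥(⋀[B]^1 (Ω[B⁄A]))) → C ω' = f • C ω) ∧
      (∀ ω : ↥(DeRham.cocycles d 1), C ω = 0 ↔ (ω : ↥(⋀[B]^1 (Ω[B⁄A]))) ∈ DeRham.coboundaries d 1) ∧
      (∀ (f : B) (ω : ↥(DeRham.cocycles d 1)),
          (ω : ↥(⋀[B]^1 (Ω[B⁄A]))) = f ^ (p - 1) • d 0 ((exteriorPower.zeroEquiv B (Ω[B⁄A])).symm f) →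
            C ω = d 0 ((exteriorPower.zeroEquiv B (Ω[B⁄A])).symm f)) := by
  let e := exteriorPower.oneEquiv B (Ω[B⁄A])
  have hcl : ∀ ω : ↥(DeRham.cocycles d 1),
      Lib.CartierOne45.Closed d (e (ω : ↥(⋀[B]^1 (Ω[B⁄A])))) := fun ω => by
    show d 1 (e.symm (e _)) = 0
    rw [LinearEquiv.symm_apply_apply]
    exact ω.2
  have hinj := Lib.CartierOne45.T_injective p (A := A) (B := B)
  have hrange := fun ω => Lib.CartierOne45.closed_mem_range p hd (hcl ω)
  choose η hη using fun ω => LinearMap.mem_range.1 (hrange ω)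
  have hD : ∀ f : B, e (d 0 ((exteriorPower.zeroEquiv B (Ω[B⁄A])).symm f)) = KaehlerDifferential.D A B f := by
    intro f
    have hz : (exteriorPower.zeroEquiv B (Ω[B⁄A])).symm f =
        DeRham.gen (KaehlerDifferential.D A B) 0 f ![] := by
      rw [LinearEquiv.symm_apply_eq, DeRham.gen, map_smul, exteriorPower.zeroEquiv_ιMulti, smul_eq_mul,
        mul_one]
    rw [hz, hd.1 0 f ![], exteriorPower.oneEquiv_ιMulti]
    rfl
  have hexact : ∀ x : ↥(⋀[B]^1 (Ω[B⁄A])),
      Lib.CartierOne45.cl p A B (e x) = 0 ↔ x ∈ DeRham.coboundaries d 1 := by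
    intro x
    rw [Lib.CartierOne45.cl_eq_zero]
    constructor
    · rintro ⟨g, hg⟩
      refine ⟨(exteriorPower.zeroEquiv B (Ω[B⁄A])).symm g, e.injective ?_⟩
      rw [hD, hg]
    · rintro ⟨z, hz⟩
      refine ⟨exteriorPower.zeroEquiv B (Ω[B⁄A]) z, ?_⟩
      rw [← hz, ← hD, LinearEquiv.symm_apply_apply]
  let C : ↥(DeRham.cocycles d 1) →+ ↥(⋀[B]^1 (Ω[B⁄A])) :=
    AddMonoidHom.mk' (fun ω => e.symm (η ω)) fun a b => by
      rw [← map_add]
      refine congrArg _ (hinj ?_)
      rw [map_add, hη, hη, hη, Submodule.coe_add, map_add, map_add]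
  refine ⟨C, ⟨fun f ω ω' h => ?_, fun ω => ?_, fun f ω h => ?_⟩, ?_⟩
  · show e.symm (η ω') = f • e.symm (η ω)
    rw [← map_smul]
    refine congrArg _ (hinj ?_)
    rw [hη, map_smul, hη, h, map_smul, Lib.CartierOne45.smul_cl]
  · show e.symm (η ω) = 0 ↔ _
    rw [LinearEquiv.map_eq_zero_iff, ← map_eq_zero_iff _ hinj, hη]
    exact hexact _
  · show e.symm (η ω) = _
    rw [LinearEquiv.symm_apply_eq, hD]
    refine hinj ?_
    rw [hη, Lib.CartierOne45.T_D, h, map_smul, hD]
  · rintro C' ⟨hsmul, hker, hgen⟩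
    have mem : ∀ {a : Ω[B⁄A]}, Lib.CartierOne45.Closed d a → e.symm a ∈ DeRham.cocycles d 1 := fun h => h
    let C₁ : {a : Ω[B⁄A] // Lib.CartierOne45.Closed d a} → Ω[B⁄A] :=
      fun a => e (C' ⟨e.symm a.1, mem a.2⟩)
    refine AddMonoidHom.ext fun ω => ?_
    show C' ω = e.symm (η ω)
    rw [LinearEquiv.eq_symm_apply]
    obtain ⟨a, ha, ha'⟩ := Lib.CartierOne45.exists_closed_repr p hd C₁
      (fun a b => by
        simp only [C₁]
        rw [← map_add, ← map_add]
        exact congrArg (fun z => e (C' z)) (Subtype.ext (map_add e.symm a.1 b.1)))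
      (fun f a => by
        simp only [C₁]
        rw [← map_smul]
        exact congrArg _ (hsmul f _ _ (map_smul e.symm (f ^ p) a.1)))
      (fun g => by
        simp only [C₁]
        rw [hgen g _ ((map_smul e.symm _ _).trans (by rw [← hD g, LinearEquiv.symm_apply_apply])), hD])
      (η ω)
    let a' : ↥(DeRham.cocycles d 1) := ⟨e.symm a.1, mem a.2⟩
    have h0 : C' (ω - a') = 0 := (hker _).2 ((hexact _).1 (by
      rw [Submodule.coe_sub, map_sub, map_sub, ← hη ω, ← ha]
      show _ - Lib.CartierOne45.cl p A B (e (e.symm a.1)) = 0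
      rw [LinearEquiv.apply_symm_apply, sub_self]))
    rw [show C' (ω - a') = C' ω - C' a' from map_sub C' ω a', sub_eq_zero] at h0
    rw [h0]
    exact ha'

end Groth.Agent.S18110
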