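import Groth.Statements.S18121
import Mathlib.RingTheory.AdjoinRoot
import Mathlib.Tactic.Ring

set_option autoImplicit false
universe u
open Pinch

namespace Groth.Agent.S18121

/-- Let B be a commutative ring, b an element of B, B' := B[z]/(z^2 - b) the rank-two B-algebra with z^2
= b, and Ψ : B[u, v] → B'[t] the B-algebra homomorphism with u ↦ z t and v ↦ t. Then the kernel of Ψ
is the principal ideal generated by u^2 - b v^2, and a polynomial of B'[t] lies in the image of Ψ as
soon as its constant coefficient lies in B. Equivalently, B[u, v]/(u^2 - b v^2) is the fibre product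
of B'[t] and B over B' (for t ↦ 0 and the inclusion of B): the pinching of Spec B' × 𝔸¹ along Spec
B' × {0} by the double cover Spec B' → Spec B is the hypersurface u^2 = b v^2 over B; for B = K[w]
and b = w this is the pinch point u^2 = v^2 w. -/
theorem result (B : Type u) [CommRing B] (b : B) :
    letI Ψ : MvPolynomial (Fin 2) B →ₐ[B] Polynomial (AdjoinRoot (Polynomial.X ^ 2 - Polynomial.C b)) :=
      MvPolynomial.aeval
        ![Polynomial.C (AdjoinRoot.root (Polynomial.X ^ 2 - Polynomial.C b)) * Polynomial.X, Polynomial.X]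
    RingHom.ker Ψ.toRingHom =
        Ideal.span {MvPolynomial.X 0 ^ 2 - MvPolynomial.C b * MvPolynomial.X 1 ^ 2} ∧
      ∀ G : Polynomial (AdjoinRoot (Polynomial.X ^ 2 - Polynomial.C b)),
        (∃ c : B, G.coeff 0 = algebraMap B (AdjoinRoot (Polynomial.X ^ 2 - Polynomial.C b)) c) →
          G ∈ Ψ.range := by
  classical
  set g : Polynomial B := Polynomial.X ^ 2 - Polynomial.C b
  set Ψ : MvPolynomial (Fin 2) B →ₐ[B] Polynomial (AdjoinRoot g) :=
    MvPolynomial.aeval ![Polynomial.C (AdjoinRoot.root g) * Polynomial.X, Polynomial.X]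
  set J : Ideal (MvPolynomial (Fin 2) B) := Ideal.span {MvPolynomial.X 0 ^ 2 - MvPolynomial.C b * MvPolynomial.X 1 ^ 2}
  have hg : g.Monic := Polynomial.monic_X_pow_sub_C b (by norm_num)
  have hz : AdjoinRoot.root g ^ 2 = algebraMap B (AdjoinRoot g) b := by
    have := AdjoinRoot.eval₂_root g
    simpa [g, Polynomial.eval₂_sub, sub_eq_zero, AdjoinRoot.algebraMap_eq] using this
  have hΨu : Ψ (MvPolynomial.X 0) = Polynomial.C (AdjoinRoot.root g) * Polynomial.X := by simp [Ψ]
  have hΨv : Ψ (MvPolynomial.X 1) = Polynomial.X := by simp [Ψ]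
  have hdec : ∀ c : AdjoinRoot g, ∃ c0 c1 : B, c = algebraMap B _ c0 + algebraMap B _ c1 * AdjoinRoot.root g := by
    intro c
    obtain ⟨f, rfl⟩ := AdjoinRoot.mk_surjective c
    rcases subsingleton_or_nontrivial B with hB | hB
    · exact ⟨0, 0, (AdjoinRoot.mk g).congr_arg (Subsingleton.elim f 0) |>.trans (by simp)⟩
    have hd : (f %ₘ g).natDegree ≤ 1 := by
      have := Polynomial.natDegree_modByMonic_lt f hg (fun h => by
        have := congrArg Polynomial.natDegree h
        rw [Polynomial.natDegree_one, Polynomial.natDegree_X_pow_sub_C] at this; omega)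
      rw [Polynomial.natDegree_X_pow_sub_C] at this
      omega
    refine ⟨(f %ₘ g).coeff 0, (f %ₘ g).coeff 1, ?_⟩
    rw [show AdjoinRoot.mk g f = AdjoinRoot.mk g (f %ₘ g) from
      AdjoinRoot.mk_eq_mk.2 ⟨f /ₘ g, by rw [eq_comm, eq_sub_iff_add_eq, add_comm]; exact Polynomial.modByMonic_add_div f g⟩]
    conv_lhs => rw [Polynomial.eq_X_add_C_of_natDegree_le_one hd]
    simp [AdjoinRoot.algebraMap_eq, AdjoinRoot.mk_C, AdjoinRoot.mk_X, add_comm]
  have huniq : ∀ c0 c1 : B, algebraMap B (AdjoinRoot g) c0 + algebraMap B _ c1 * AdjoinRoot.root g = 0 → c0 = 0 ∧ c1 = 0 := by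
    intro c0 c1 h
    rcases subsingleton_or_nontrivial B with hB | hB
    · exact ⟨Subsingleton.elim _ _, Subsingleton.elim _ _⟩
    have h' : AdjoinRoot.mk g (Polynomial.C c1 * Polynomial.X + Polynomial.C c0) = 0 := by
      simpa [AdjoinRoot.algebraMap_eq, AdjoinRoot.mk_C, AdjoinRoot.mk_X, add_comm] using h
    by_contra hne
    refine AdjoinRoot.mk_ne_zero_of_natDegree_lt hg (fun h0 => hne ⟨?_, ?_⟩) ?_ h'
    · simpa using congrArg (fun q => Polynomial.coeff q 0) h0
    · simpa using congrArg (fun q => Polynomial.coeff q 1) h0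
    · rw [Polynomial.natDegree_X_pow_sub_C]
      exact (Polynomial.natDegree_linear_le).trans_lt (by norm_num)
  let ι : Polynomial B →ₐ[B] MvPolynomial (Fin 2) B := Polynomial.aeval (MvPolynomial.X 1)
  have hι : ∀ A : Polynomial B, Ψ (ι A) = A.map (algebraMap B (AdjoinRoot g)) := by
    intro A
    rw [← Polynomial.aeval_algHom_apply, hΨv]
    induction A using Polynomial.induction_on' with
    | add u v hu hv => rw [map_add, hu, hv, Polynomial.map_add]
    | monomial i a => rw [Polynomial.aeval_monomial, Polynomial.map_monomial, ← Polynomial.C_mul_X_pow_eq_monomial]; rfl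
  refine ⟨le_antisymm ?_ ?_, ?_⟩
  · intro F hF
    have hred : ∀ F : MvPolynomial (Fin 2) B, ∃ A A' : Polynomial B, F - (ι A + MvPolynomial.X 0 * ι A') ∈ J := by
      intro F
      induction F using MvPolynomial.induction_on with
      | C a => exact ⟨Polynomial.C a, 0, by simp [ι, MvPolynomial.algebraMap_eq]⟩
      | add u v hu hv =>
        obtain ⟨A, A', hA⟩ := hu
        obtain ⟨C, C', hC⟩ := hv
        refine ⟨A + C, A' + C', ?_⟩
        have := J.add_mem hA hC
        convert this using 1
        simp only [map_add]; ring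
      | mul_X u l hu =>
        obtain ⟨A, A', hA⟩ := hu
        fin_cases l
        · refine ⟨Polynomial.C b * Polynomial.X ^ 2 * A', A, ?_⟩
          have := J.add_mem (J.mul_mem_right (MvPolynomial.X 0) hA) (J.mul_mem_right (ι A') (Ideal.subset_span rfl : MvPolynomial.X 0 ^ 2 - MvPolynomial.C b * MvPolynomial.X 1 ^ 2 ∈ J))
          convert this using 1
          simp [ι, MvPolynomial.algebraMap_eq]; ring
        · refine ⟨A * Polynomial.X, A' * Polynomial.X, ?_⟩
          have := J.mul_mem_right (MvPolynomial.X 1) hA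
          convert this using 1
          simp [ι]; ring
    obtain ⟨A, A', hA⟩ := hred F
    have hJ : ∀ q ∈ J, Ψ q = 0 := fun q hq => by
      obtain ⟨t, rfl⟩ := Ideal.mem_span_singleton'.1 hq
      rw [map_mul, map_sub, map_mul, map_pow, map_pow, hΨu, hΨv, mul_pow, ← map_pow, hz, ← MvPolynomial.algebraMap_eq, Ψ.commutes, Polynomial.algebraMap_apply, sub_self, mul_zero]
    have h0 : A.map (algebraMap B (AdjoinRoot g)) + Polynomial.C (AdjoinRoot.root g) * Polynomial.X * A'.map (algebraMap B (AdjoinRoot g)) = 0 := by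
      rw [← hι, ← hι, ← hΨu, ← map_mul, ← map_add]
      have := hJ _ hA
      rw [map_sub, sub_eq_zero] at this
      rw [← this]
      exact hF
    have hA0 : A = 0 ∧ A' = 0 := by
      have hz0 : A.coeff 0 = 0 := by
        have := congrArg (fun q => Polynomial.coeff q 0) h0
        simp [mul_assoc] at this
        exact (huniq (A.coeff 0) 0 (by simpa using this)).1
      have hn : ∀ i, A.coeff (i + 1) = 0 ∧ A'.coeff i = 0 := fun i => by
        have := congrArg (fun q => Polynomial.coeff q (i + 1)) h0
        simp [mul_assoc, mul_comm (AdjoinRoot.root g)] at this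
        exact huniq _ _ this
      refine ⟨Polynomial.ext fun i => ?_, Polynomial.ext fun i => (hn i).2⟩
      cases i with
      | zero => exact hz0
      | succ i => exact (hn i).1
    rw [hA0.1, hA0.2, map_zero, mul_zero, add_zero, sub_zero] at hA
    exact hA
  · rw [Ideal.span_le, Set.singleton_subset_iff, SetLike.mem_coe, RingHom.mem_ker]
    show Ψ _ = 0
    rw [map_sub, map_mul, map_pow, map_pow, hΨu, hΨv, mul_pow, ← map_pow, hz, ← MvPolynomial.algebraMap_eq, Ψ.commutes, Polynomial.algebraMap_apply, sub_self]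
  · rintro G ⟨c, hc⟩
    rw [← Polynomial.X_mul_divX_add G, hc]
    refine Subalgebra.add_mem _ ?_ ⟨MvPolynomial.C c, by
      show Ψ _ = _
      rw [← MvPolynomial.algebraMap_eq, Ψ.commutes, Polynomial.algebraMap_apply]⟩
    induction G.divX using Polynomial.induction_on' with
    | add u v hu hv => rw [mul_add]; exact Subalgebra.add_mem _ hu hv
    | monomial i a =>
      obtain ⟨c0, c1, rfl⟩ := hdec a
      refine ⟨MvPolynomial.C c0 * MvPolynomial.X 1 ^ (i + 1) + MvPolynomial.C c1 * MvPolynomial.X 0 * MvPolynomial.X 1 ^ i, ?_⟩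
      show Ψ _ = _
      rw [map_add, map_mul, map_mul, map_mul, map_pow, map_pow, hΨu, hΨv, ← MvPolynomial.algebraMap_eq, Ψ.commutes, Ψ.commutes,
        Polynomial.algebraMap_apply, Polynomial.algebraMap_apply, ← Polynomial.C_mul_X_pow_eq_monomial, map_add, map_mul]
      ring

end Groth.Agent.S18121
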