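import Groth.Statements.S18122
import Mathlib.Algebra.MvPolynomial.Derivation
import Mathlib.Algebra.MvPolynomial.Division
import Mathlib.Tactic.LinearCombination

set_option autoImplicit false
universe u
open Pinch

namespace Groth.Agent.S18122

/-- Let K be a field in which 2 ≠ 0, S = K[x, y], and R ⊆ S the K-subalgebra generated by x^2, x y and
y; R is the coordinate ring of the pinch point u^2 = v^2 w (u = x y, v = y, w = x^2) and S is its
normalization. Then restriction along R ⊆ S is a bijection from the K-derivations S → S onto the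
K-derivations R → S: every K-derivation R → S extends uniquely to S. In sheaf terms, the natural
injective map from the tangent sheaf of the normalization to the dual of the pulled-back sheaf of
differentials of the pinch point is an isomorphism. (The text works over an algebraically closed
field of characteristic different from 2 and for every semi-smooth variety; only this model case is
stated, and the computation uses only 2 ≠ 0.) -/
theorem result
    (K : Type u) [Field K] [NeZero (2 : K)] :
    letI R : Subalgebra K (MvPolynomial (Fin 2) K) :=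
      Algebra.adjoin K {MvPolynomial.X 0 ^ 2, MvPolynomial.X 0 * MvPolynomial.X 1, MvPolynomial.X 1}
    ∀ δ : Derivation K R (MvPolynomial (Fin 2) K),
      ∃! D : Derivation K (MvPolynomial (Fin 2) K) (MvPolynomial (Fin 2) K),
        ∀ r : R, D (r : MvPolynomial (Fin 2) K) = δ r := by
  classical
  set R : Subalgebra K (MvPolynomial (Fin 2) K) :=
    Algebra.adjoin K {MvPolynomial.X 0 ^ 2, MvPolynomial.X 0 * MvPolynomial.X 1, MvPolynomial.X 1} with hRdef
  intro δ
  set x : MvPolynomial (Fin 2) K := MvPolynomial.X 0
  set y : MvPolynomial (Fin 2) K := MvPolynomial.X 1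
  have mx : x ^ 2 ∈ R := Algebra.subset_adjoin (by simp [x])
  have mxy : x * y ∈ R := Algebra.subset_adjoin (by simp [x, y])
  have my : y ∈ R := Algebra.subset_adjoin (by simp [y])
  set A : MvPolynomial (Fin 2) K := δ ⟨x ^ 2, mx⟩
  set Bv : MvPolynomial (Fin 2) K := δ ⟨x * y, mxy⟩
  set Cv : MvPolynomial (Fin 2) K := δ ⟨y, my⟩
  have hrel : (⟨x * y, mxy⟩ : R) * ⟨x * y, mxy⟩ = ⟨x ^ 2, mx⟩ * (⟨y, my⟩ * ⟨y, my⟩) := Subtype.ext (by show x * y * (x * y) = x ^ 2 * (y * y); ring)
  have h1 := congrArg δ hrel
  simp only [Derivation.leibniz] at h1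
  simp only [Subalgebra.smul_def, smul_eq_mul, Subalgebra.coe_mul] at h1
  have hy0 : y ≠ 0 := MvPolynomial.X_ne_zero 1
  have hx0 : x ≠ 0 := MvPolynomial.X_ne_zero 0
  have h2 : (2 : MvPolynomial (Fin 2) K) ≠ 0 := by
    rw [show (2 : MvPolynomial (Fin 2) K) = MvPolynomial.C 2 from (map_ofNat MvPolynomial.C 2).symm]
    exact (MvPolynomial.C_eq_zero).not.2 (NeZero.ne (2 : K))
  have hA : y * A = x * (2 * Bv - 2 * (x * Cv)) := mul_left_cancel₀ hy0 (by linear_combination -h1)
  have hxdvd : x ∣ A := by
    have hp : Prime x := MvPolynomial.X_prime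
    refine (hp.dvd_or_dvd ⟨_, hA⟩).resolve_left fun h => ?_
    rw [MvPolynomial.X_dvd_X] at h
    exact absurd h (by decide)
  obtain ⟨q, hq⟩ := hxdvd
  let half : MvPolynomial (Fin 2) K := MvPolynomial.C (2⁻¹ : K)
  have hhalf : 2 * half = 1 := by
    rw [show (2 : MvPolynomial (Fin 2) K) = MvPolynomial.C 2 from (map_ofNat MvPolynomial.C 2).symm, ← map_mul,
      mul_inv_cancel₀ (NeZero.ne (2 : K)), map_one]
  let D : Derivation K (MvPolynomial (Fin 2) K) (MvPolynomial (Fin 2) K) := MvPolynomial.mkDerivation K ![half * q, Cv]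
  have hDx : D x = half * q := MvPolynomial.mkDerivation_X K _ 0
  have hDy : D y = Cv := MvPolynomial.mkDerivation_X K _ 1
  have hq' : y * q = 2 * Bv - 2 * (x * Cv) := mul_left_cancel₀ hx0 (by linear_combination hA - y * hq)
  refine ⟨D, ?_, ?_⟩
  · rintro ⟨r, hr⟩
    induction hr using Algebra.adjoin_induction with
    | mem r hr =>
      simp only [Set.mem_insert_iff, Set.mem_singleton_iff] at hr
      rcases hr with rfl | rfl | rfl
      · show D (x ^ 2) = A
        rw [Derivation.leibniz_pow, hDx, hq]
        simp only [smul_eq_mul, nsmul_eq_mul]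
        push_cast
        linear_combination (x * q) * hhalf
      · show D (x * y) = Bv
        rw [Derivation.leibniz, hDx, hDy, smul_eq_mul, smul_eq_mul]
        linear_combination half * hq' + (Bv - x * Cv) * hhalf
      · exact hDy
    | algebraMap c =>
      show D (algebraMap K _ c) = δ (algebraMap K R c)
      rw [Derivation.map_algebraMap, Derivation.map_algebraMap]
    | add u v hu hv eu ev =>
      show D (u + v) = δ (⟨u, hu⟩ + ⟨v, hv⟩)
      rw [map_add, map_add, eu, ev]
    | mul u v hu hv eu ev =>
      show D (u * v) = δ (⟨u, hu⟩ * ⟨v, hv⟩)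
      rw [Derivation.leibniz, Derivation.leibniz, Subalgebra.smul_def, Subalgebra.smul_def, eu, ev]
  · intro D' hD'
    have e1 : D' y = Cv := hD' ⟨y, my⟩
    have e2 : D' (x ^ 2) = A := hD' ⟨x ^ 2, mx⟩
    rw [Derivation.leibniz_pow] at e2
    simp only [smul_eq_mul, nsmul_eq_mul] at e2
    push_cast at e2
    have e3 : D' x = half * q := mul_left_cancel₀ (mul_ne_zero h2 hx0) (by linear_combination e2 + hq - x * q * hhalf)
    refine MvPolynomial.derivation_ext fun i => ?_
    fin_cases i
    · exact e3.trans hDx.symm
    · exact e1.trans hDy.symm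

end Groth.Agent.S18122
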