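import Groth.Statements.S18123
import Mathlib

set_option autoImplicit false
universe u
open Pinch

namespace Groth.Agent.S18123

/-- Let K be a field in which 2 ≠ 0, S = K[x, y], and R ⊆ S the K-subalgebra generated by x^2, x y, y,
the coordinate ring of the pinch point with normalization S, obtained by gluing the plane along the
line y = 0 via x ↦ -x. A K-derivation D of S maps R into R if and only if D(y) is a multiple of y
and D(x) = y s + x p(x^2) for some s in S and some polynomial p in one variable. Every K-derivation
R → S extends uniquely to S, and under this identification the derivations mapping R into R form the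
image of the tangent sheaf of the pinch point in that of its normalization; so this image contains y
times all derivations of S, and modulo those it is spanned by the odd multiples x^(2k+1) ∂/∂x, the
part of the tangent sheaf of the line y = 0 invariant under x ↦ -x. (The text works over an
algebraically closed field of characteristic different from 2; the computation uses only 2 ≠ 0.) -/
theorem result
    (K : Type u) [Field K] [NeZero (2 : K)]
    (D : Derivation K (MvPolynomial (Fin 2) K) (MvPolynomial (Fin 2) K)) :
    letI x : MvPolynomial (Fin 2) K := MvPolynomial.X 0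
    letI y : MvPolynomial (Fin 2) K := MvPolynomial.X 1
    letI R : Subalgebra K (MvPolynomial (Fin 2) K) := Algebra.adjoin K {x ^ 2, x * y, y}
    (∀ r ∈ R, D r ∈ R) ↔
      (D y ∈ Ideal.span {y} ∧
        ∃ (s : MvPolynomial (Fin 2) K) (p : Polynomial K), D x = y * s + x * Polynomial.aeval (x ^ 2) p) := by
  set x : MvPolynomial (Fin 2) K := MvPolynomial.X 0
  set y : MvPolynomial (Fin 2) K := MvPolynomial.X 1
  set R : Subalgebra K (MvPolynomial (Fin 2) K) := Algebra.adjoin K {x ^ 2, x * y, y} with hR
  let φ : MvPolynomial (Fin 2) K →ₐ[K] Polynomial K := MvPolynomial.aeval ![Polynomial.X, 0]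
  let ι : Polynomial K →ₐ[K] MvPolynomial (Fin 2) K := Polynomial.aeval x
  have mx : x ^ 2 ∈ R := Algebra.subset_adjoin (by simp)
  have mxy : x * y ∈ R := Algebra.subset_adjoin (by simp)
  have my : y ∈ R := Algebra.subset_adjoin (by simp)
  have φx : φ x = Polynomial.X := by simp [φ, x]
  have φy : φ y = 0 := by simp [φ, y]
  have dec : ∀ f, ∃ s, f = y * s + ι (φ f) := by
    intro f
    induction f using MvPolynomial.induction_on with
    | C c => exact ⟨0, by simp [φ, ι]⟩
    | add f g hf hg =>
      obtain ⟨s, hs⟩ := hf; obtain ⟨t, ht⟩ := hg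
      exact ⟨s + t, by rw [map_add, map_add]; linear_combination hs + ht⟩
    | mul_X f i hf =>
      obtain ⟨s, hs⟩ := hf
      fin_cases i
      · exact ⟨s * x, by simp [φ, ι, x] at hs ⊢; linear_combination MvPolynomial.X 0 * hs⟩
      · exact ⟨f, by simp [φ, ι, y]; ring⟩
  have ev : ∀ f ∈ R, ∃ p : Polynomial K, φ f = Polynomial.aeval (Polynomial.X ^ 2) p := by
    intro f hf
    induction hf using Algebra.adjoin_induction with
    | mem r hr =>
      simp only [Set.mem_insert_iff, Set.mem_singleton_iff] at hr
      rcases hr with rfl | rfl | rfl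
      · exact ⟨Polynomial.X, by simp [φx]⟩
      · exact ⟨0, by simp [φy]⟩
      · exact ⟨0, by simp [φy]⟩
    | algebraMap c => exact ⟨Polynomial.C c, by simp⟩
    | add a b _ _ ha hb =>
      obtain ⟨p, hp⟩ := ha; obtain ⟨q, hq⟩ := hb
      exact ⟨p + q, by simp [hp, hq]⟩
    | mul a b _ _ ha hb =>
      obtain ⟨p, hp⟩ := ha; obtain ⟨q, hq⟩ := hb
      exact ⟨p * q, by simp [hp, hq]⟩
  have mp' : ∀ p : Polynomial K, Polynomial.aeval (x ^ 2) p ∈ R := fun p => by
    have := (Polynomial.aeval (⟨x ^ 2, mx⟩ : R) p).2
    rwa [← Subalgebra.coe_val, ← Polynomial.aeval_algHom_apply] at this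
  have ys : ∀ s, y * s ∈ R ∧ x * y * s ∈ R := by
    intro s
    induction s using MvPolynomial.induction_on with
    | C c => exact ⟨R.mul_mem my (R.algebraMap_mem c), R.mul_mem mxy (R.algebraMap_mem c)⟩
    | add f g hf hg => exact ⟨by rw [mul_add]; exact add_mem hf.1 hg.1, by rw [mul_add]; exact add_mem hf.2 hg.2⟩
    | mul_X f i hf =>
      fin_cases i
      · refine ⟨?_, ?_⟩
        · convert hf.2 using 1
          show y * (f * x) = _
          ring
        · convert R.mul_mem mx hf.1 using 1
          show x * y * (f * x) = _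
          ring
      · refine ⟨?_, ?_⟩
        · convert R.mul_mem hf.1 my using 1
          show y * (f * y) = _
          ring
        · convert R.mul_mem hf.2 my using 1
          show x * y * (f * y) = _
          ring
  have h2 : (2 : Polynomial K) ≠ 0 := by
    rw [← map_ofNat Polynomial.C 2]; exact Polynomial.C_eq_zero.not.2 (NeZero.ne (2 : K))
  have h2' : (2 : K) * 2⁻¹ = 1 := mul_inv_cancel₀ (NeZero.ne (2 : K))
  have co : ∀ (p : Polynomial K) (n : ℕ), ¬ 2 ∣ n → (Polynomial.aeval (Polynomial.X ^ 2 : Polynomial K) p).coeff n = 0 := by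
    intro p n hn
    show (Polynomial.expand K 2 p).coeff n = 0
    rw [Polynomial.coeff_expand (by norm_num), if_neg hn]
  constructor
  · intro h
    obtain ⟨a, ha⟩ := ev _ (h _ mx)
    obtain ⟨b, hb⟩ := ev _ (h _ mxy)
    obtain ⟨c, hc⟩ := ev _ (h _ my)
    rw [Derivation.leibniz, smul_eq_mul, smul_eq_mul, map_add, map_mul, map_mul, φx, φy, zero_mul, add_zero] at hb
    rw [Derivation.leibniz_pow, map_nsmul, smul_eq_mul, map_mul, map_pow, φx, nsmul_eq_mul] at ha
    have hy0 : φ (D y) = 0 := by
      refine Polynomial.ext fun n => ?_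
      rcases Nat.even_or_odd n with hn | hn
      · have := congrArg (fun f => Polynomial.coeff f (n + 1)) hb
        simp only [Polynomial.coeff_X_mul] at this
        rw [this, co b _ (by rw [← even_iff_two_dvd]; exact Nat.not_even_iff_odd.2 hn.add_one)]; simp
      · rw [hc, co c _ (by rw [← even_iff_two_dvd]; exact Nat.not_even_iff_odd.2 hn)]; simp
    refine ⟨?_, ?_⟩
    · obtain ⟨s, hs⟩ := dec (D y)
      rw [hy0, map_zero, add_zero] at hs
      exact Ideal.mem_span_singleton.2 ⟨s, hs⟩
    · obtain ⟨s, hs⟩ := dec (D x)
      refine ⟨s, Polynomial.C (2⁻¹ : K) * a.divX, ?_⟩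
      have hx0 : φ (D x) = Polynomial.X * Polynomial.aeval (Polynomial.X ^ 2) (Polynomial.C (2⁻¹ : K) * a.divX) := by
        have h3 : (2 : Polynomial K) * (Polynomial.X * φ (D x)) = Polynomial.aeval (Polynomial.X ^ 2) (Polynomial.X * a.divX + Polynomial.C (a.coeff 0)) := by
          rw [Polynomial.X_mul_divX_add, ← ha]; simp
        have h0 : a.coeff 0 = 0 := by
          have := congrArg (fun f => Polynomial.coeff f 0) h3
          simpa [Polynomial.coeff_zero_eq_eval_zero, Polynomial.eval_mul] using this.symm
        have hc2 : (2 : Polynomial K) * Polynomial.C (2⁻¹ : K) = 1 := by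
          rw [← map_ofNat Polynomial.C 2, ← map_mul, h2', map_one]
        rw [h0, map_zero, add_zero, map_mul, Polynomial.aeval_X] at h3
        rw [map_mul, Polynomial.aeval_C, Polynomial.algebraMap_eq]
        refine mul_left_cancel₀ (mul_ne_zero h2 Polynomial.X_ne_zero) ?_
        linear_combination h3 - Polynomial.X ^ 2 * (Polynomial.aeval (Polynomial.X ^ 2)) a.divX * hc2
      have e : ∀ q : Polynomial K, ι (Polynomial.aeval (Polynomial.X ^ 2) q) = Polynomial.aeval (x ^ 2) q := fun q => by
        rw [← Polynomial.aeval_algHom_apply, map_pow]; simp [ι]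
      rw [hx0, map_mul, e] at hs
      simpa [ι] using hs
  · rintro ⟨hy, s, p, hx⟩ r hr
    obtain ⟨t, ht⟩ := Ideal.mem_span_singleton.1 hy
    induction hr using Algebra.adjoin_induction with
    | mem r hr =>
      simp only [Set.mem_insert_iff, Set.mem_singleton_iff] at hr
      rcases hr with rfl | rfl | rfl
      · rw [Derivation.leibniz_pow, hx, smul_eq_mul, nsmul_eq_mul]
        refine R.mul_mem (natCast_mem R 2) ?_
        convert R.add_mem (ys (x * s)).1 (R.mul_mem mx (mp' p)) using 1
        ring
      · rw [Derivation.leibniz, hx, ht, smul_eq_mul, smul_eq_mul]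
        convert (ys (x * t + (y * s + x * Polynomial.aeval (x ^ 2) p))).1 using 1
        ring
      · rw [ht]; exact (ys t).1
    | algebraMap c => rw [Derivation.map_algebraMap]; exact zero_mem _
    | add a b _ _ ha hb => rw [map_add]; exact add_mem ha hb
    | mul a b ha' hb' ha hb =>
      rw [Derivation.leibniz, smul_eq_mul, smul_eq_mul]
      exact add_mem (R.mul_mem ha' hb) (R.mul_mem hb' ha)

end Groth.Agent.S18123
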