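import Groth.Statements.S18125
import Mathlib

set_option autoImplicit false
universe u
open Pinch

namespace Groth.Agent.S18125

/-- Let K be a field in which 2 ≠ 0, n ≥ 0, S = K[u, v, w, t_1, …, t_n] (u, v, w the first three
variables), h = u^2 - v^2 w the equation of the pinch-point model, and Jac the ideal generated by h
and its three partial derivatives 2u, -2vw, -v^2, which cuts out the scheme-theoretic singular locus
of {h = 0}. Then the ideal (u, v) of the double locus is Jac + (v), and the colon ideal of Jac by
(v) is (u, v, w). Consequently (u, v)/Jac, the ideal of the double locus restricted to the singular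
locus, is an invertible sheaf on the pinch locus u = v = w = 0: it is free of rank one over K[t_1,
…, t_n] on the class of v. (The text states this for every semi-smooth variety and reduces to this
model; K algebraically closed is not needed for the model computation.) -/
theorem result
    (K : Type u) [Field K] [NeZero (2 : K)] (n : ℕ) :
    letI u : MvPolynomial (Fin (n + 3)) K := MvPolynomial.X 0
    letI v : MvPolynomial (Fin (n + 3)) K := MvPolynomial.X 1
    letI w : MvPolynomial (Fin (n + 3)) K := MvPolynomial.X 2
    letI Jac : Ideal (MvPolynomial (Fin (n + 3)) K) :=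
      Ideal.span {u ^ 2 - v ^ 2 * w, 2 * u, -(2 * v * w), -(v ^ 2)}
    Ideal.span {u, v} = Jac ⊔ Ideal.span {v} ∧ Jac.colon (Ideal.span {v}) = Ideal.span {u, v, w} := by
  set u : MvPolynomial (Fin (n + 3)) K := MvPolynomial.X 0
  set v : MvPolynomial (Fin (n + 3)) K := MvPolynomial.X 1
  set w : MvPolynomial (Fin (n + 3)) K := MvPolynomial.X 2
  set J : Ideal (MvPolynomial (Fin (n + 3)) K) := Ideal.span {u ^ 2 - v ^ 2 * w, 2 * u, -(2 * v * w), -(v ^ 2)} with hJ
  have h2 : (2 : MvPolynomial (Fin (n + 3)) K) * MvPolynomial.C (2⁻¹ : K) = 1 := by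
    rw [← map_ofNat MvPolynomial.C 2, ← map_mul, mul_inv_cancel₀ (NeZero.ne (2 : K)), map_one]
  have hu : u ∈ J := by
    have : (2 * u) * MvPolynomial.C (2⁻¹ : K) ∈ J := J.mul_mem_right _ (Ideal.subset_span (by simp))
    convert this using 1
    linear_combination (-u) * h2
  have hv2 : v * v ∈ J := by
    have : -(v ^ 2) ∈ J := Ideal.subset_span (by simp)
    convert neg_mem this using 1
    ring
  have hvw : v * w ∈ J := by
    have : -(2 * v * w) * MvPolynomial.C (2⁻¹ : K) ∈ J := J.mul_mem_right _ (Ideal.subset_span (by simp))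
    convert neg_mem this using 1
    linear_combination (-(v * w)) * h2
  have hle : J ≤ Ideal.span {u, v * v, v * w} := by
    rw [hJ, Ideal.span_le]
    intro z hz
    simp only [Set.mem_insert_iff, Set.mem_singleton_iff] at hz
    simp only [SetLike.mem_coe, Ideal.mem_span_insert, Ideal.mem_span_singleton']
    rcases hz with rfl | rfl | rfl | rfl
    · exact ⟨u, _, ⟨-w, _, ⟨0, rfl⟩, rfl⟩, by ring⟩
    · exact ⟨2, _, ⟨0, _, ⟨0, rfl⟩, rfl⟩, by ring⟩
    · exact ⟨0, _, ⟨0, _, ⟨-2, rfl⟩, rfl⟩, by ring⟩
    · exact ⟨0, _, ⟨-1, _, ⟨0, rfl⟩, rfl⟩, by ring⟩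
  constructor
  · refine le_antisymm ?_ ?_
    · rw [Ideal.span_le]
      rintro z (rfl | rfl)
      · exact Submodule.mem_sup_left hu
      · exact Submodule.mem_sup_right (Ideal.subset_span rfl)
    · refine sup_le (hle.trans ?_) (Ideal.span_mono (by simp))
      rw [Ideal.span_le]
      have hvm : v ∈ Ideal.span {u, v} := Ideal.subset_span (by simp)
      rintro z (rfl | rfl | rfl)
      · exact Ideal.subset_span (by simp)
      · exact Ideal.mul_mem_left _ _ hvm
      · exact Ideal.mul_mem_right _ _ hvm
  · refine le_antisymm ?_ ?_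
    · intro f hf
      have hfv : f * v ∈ J := Submodule.mem_colon.1 hf v (Ideal.subset_span rfl)
      have := hle hfv
      simp only [Ideal.mem_span_insert, Ideal.mem_span_singleton'] at this
      obtain ⟨a, _, ⟨b, _, ⟨c, rfl⟩, rfl⟩, he⟩ := this
      have hdvd : u ∣ v * (f - v * b - w * c) := ⟨a, by linear_combination he⟩
      obtain ⟨g, hg⟩ := ((MvPolynomial.X_prime (i := (0 : Fin (n + 3)))).dvd_or_dvd hdvd).resolve_left fun h => by
        rw [MvPolynomial.X_dvd_X] at h
        exact absurd (congrArg Fin.val h) (by simp)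
      simp only [Ideal.mem_span_insert, Ideal.mem_span_singleton']
      exact ⟨g, _, ⟨b, _, ⟨c, rfl⟩, rfl⟩, by linear_combination hg⟩
    · rw [Ideal.span_le]
      intro z hz
      rw [SetLike.mem_coe, Submodule.mem_colon]
      intro p hp
      obtain ⟨r, rfl⟩ := Ideal.mem_span_singleton'.1 hp
      rw [smul_eq_mul]
      rcases hz with rfl | rfl | rfl
      · exact J.mul_mem_right _ hu
      · convert J.mul_mem_left r hv2 using 1; ring
      · convert J.mul_mem_left r hvw using 1; ring

end Groth.Agent.S18125
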