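import Groth.Statements.S18127
import Mathlib.LinearAlgebra.Matrix.Rank
import Mathlib.LinearAlgebra.Matrix.Basis
import Mathlib.LinearAlgebra.Dimension.Finite

set_option autoImplicit false
universe u
open LocAlg

namespace Groth.Agent.S18127

/-- Let R be a local ring with maximal ideal m and algebraically closed residue field, and M an n × n
matrix over R whose reduction modulo m has rank at most r. Then the determinant of M lies in m^(n −
r). (The published setting is the local ring of germs of holomorphic functions at a point of a
complex manifold, where this says that the determinant vanishes to order at least n − r at a point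
where the matrix has rank at most r.) -/
theorem result
    {R : Type u} [CommRing R] [IsLocalRing R] [IsAlgClosed (IsLocalRing.ResidueField R)]
    {n : ℕ} (M : Matrix (Fin n) (Fin n) R) (r : ℕ)
    (hr : (M.map (IsLocalRing.residue R)).rank ≤ r) :
    M.det ∈ IsLocalRing.maximalIdeal R ^ (n - r) := by
  classical
  let N := M.map (IsLocalRing.residue R)
  let K := LinearMap.ker N.mulVecLin
  have hK : n - r ≤ Module.finrank (IsLocalRing.ResidueField R) K := by
    have h := LinearMap.finrank_range_add_finrank_ker N.mulVecLin
    rw [Module.finrank_fin_fun] at h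
    have h2 : Module.finrank (IsLocalRing.ResidueField R) (LinearMap.range N.mulVecLin) ≤ r := hr
    change n - r ≤ Module.finrank (IsLocalRing.ResidueField R) (LinearMap.ker N.mulVecLin)
    omega
  obtain ⟨W, hW⟩ := K.exists_isCompl
  let d := Module.finrank (IsLocalRing.ResidueField R) K
  let b := ((Module.finBasis (IsLocalRing.ResidueField R) K).prod
    (Module.finBasis (IsLocalRing.ResidueField R) W)).map (Submodule.prodEquivOfIsCompl K W hW)
  let e : Fin d ⊕ Fin (Module.finrank (IsLocalRing.ResidueField R) W) ≃ Fin n :=
    Fintype.equivOfCardEq (by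
      rw [← Module.finrank_eq_card_basis b, Module.finrank_fin_fun, Fintype.card_fin])
  let b' := b.reindex e
  choose V hV using fun i j => IsLocalRing.residue_surjective (R := R) (b' j i)
  let V' : Matrix (Fin n) (Fin n) R := Matrix.of V
  have hVdet : IsUnit V'.det := by
    rw [← IsLocalRing.residue_ne_zero_iff_isUnit, RingHom.map_det,
      show (IsLocalRing.residue R).mapMatrix V' = (Pi.basisFun (IsLocalRing.ResidueField R) (Fin n)).toMatrix b' from
        Matrix.ext fun i j => by simp [V', hV, Module.Basis.toMatrix_apply]]
    exact (Matrix.isUnit_iff_isUnit_det _).1 (by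
      haveI := (Pi.basisFun (IsLocalRing.ResidueField R) (Fin n)).invertibleToMatrix b'
      exact isUnit_of_invertible _) |>.ne_zero
  have hcol : ∀ j : Fin d, ∀ i, (M * V') i (e (Sum.inl j)) ∈ IsLocalRing.maximalIdeal R := by
    intro j i
    rw [← IsLocalRing.residue_eq_zero_iff, Matrix.mul_apply, map_sum]
    have hk : N.mulVec (b' (e (Sum.inl j))) = 0 := by
      have hb : b' (e (Sum.inl j)) = (Module.finBasis (IsLocalRing.ResidueField R) K j : Fin n → _) := by
        simp [b', b, Submodule.coe_prodEquivOfIsCompl']
      rw [hb]
      exact (Module.finBasis (IsLocalRing.ResidueField R) K j).2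
    refine Eq.trans ?_ (congrFun hk i)
    simp [N, Matrix.mulVec, dotProduct, V', hV]
  suffices h : (M * V').det ∈ IsLocalRing.maximalIdeal R ^ (n - r) by
    rw [Matrix.det_mul] at h
    obtain ⟨u, hu⟩ := hVdet
    rw [← hu] at h
    exact (Ideal.mul_unit_mem_iff_mem _ u.isUnit).1 h
  rw [Matrix.det_apply]
  refine Submodule.sum_mem _ fun σ _ => ?_
  refine Submodule.smul_of_tower_mem _ _ ?_
  rw [← Finset.prod_sdiff (Finset.subset_univ ((Finset.univ : Finset (Fin d)).map
    ⟨fun j => e (Sum.inl j), fun a c h => Sum.inl_injective (e.injective h)⟩))]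
  refine Ideal.mul_mem_left _ _ (Ideal.pow_le_pow_right hK ?_)
  rw [Finset.prod_map]
  have := Ideal.prod_mem_prod (s := (Finset.univ : Finset (Fin d)))
    (I := fun _ => IsLocalRing.maximalIdeal R) (fun j _ => hcol j (σ (e (Sum.inl j))))
  rwa [Finset.prod_const, Finset.card_univ, Fintype.card_fin] at this

end Groth.Agent.S18127
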