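import Groth.Statements.S18128
import Mathlib.RingTheory.Regular.RegularSequence
import Mathlib.Tactic.LinearCombination

set_option autoImplicit false
universe u
open CAlg

namespace Groth.Agent.S18128

section
open RingTheory.Sequence

theorem isWeaklyRegular_piFin {R : Type*} [CommRing R] {rs : List R} (h : IsWeaklyRegular R rs)
    (k : ℕ) : IsWeaklyRegular (Fin k → R) rs := by
  rw [isWeaklyRegular_iff_Fin] at h ⊢
  intro i
  have hi := h i
  rw [isSMulRegular_quotient_iff_mem_of_smul_mem] at hi ⊢
  intro z hz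
  have hI : ∀ w ∈ Ideal.ofList (rs.take i) • (⊤ : Submodule R (Fin k → R)),
      ∀ j, w j ∈ Ideal.ofList (rs.take i) := by
    intro w hw j
    refine Submodule.smul_induction_on hw (fun r hr m _ => ?_) (fun a b ha hb => ?_)
    · simpa using Ideal.mul_mem_right (m j) _ hr
    · simpa using add_mem ha hb
  have hz' : ∀ j, z j ∈ Ideal.ofList (rs.take i) := by
    intro j
    have := hI _ hz j
    have h2 := hi (z j) (by simpa using this)
    simpa using h2
  rw [pi_eq_sum_univ z]
  exact Submodule.sum_mem _ fun j _ => Submodule.smul_mem_smul (hz' j) trivial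

theorem core {R : Type*} [CommRing R] :
    ∀ (rs : List R) (M : ℕ → Type _) [∀ i, AddCommGroup (M i)] [∀ i, Module R (M i)]
      (d : ∀ i, M (i + 1) →ₗ[R] M i), (∀ i (z : M (i + 2)), d i (d (i + 1) z) = 0) →
      (∀ i, IsWeaklyRegular (M i) rs) → (∀ z, d rs.length z = 0) →
      (∀ t ∈ rs, ∀ i < rs.length, ∀ z, d i z = 0 → ∃ (N : ℕ) (w : M (i + 2)), d (i + 1) w = t ^ N • z) →
      ∀ i < rs.length, ∀ z, d i z = 0 → ∃ w, d (i + 1) w = z := by
  intro rs
  induction rs with
  | nil => intro M _ _ d _ _ _ _ i hi; simp at hi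
  | cons x rs ih =>
    intro M _ _ d hd hreg htop hloc
    have hx : ∀ i, IsSMulRegular (M i) x := fun i => ((isWeaklyRegular_cons_iff _ _ _).mp (hreg i)).1
    have hmem : ∀ {i} {a : M i}, (Submodule.Quotient.mk a : QuotSMulTop x (M i)) = 0 ↔ ∃ b, x • b = a := by
      intro i a
      rw [Submodule.Quotient.mk_eq_zero, Submodule.mem_smul_pointwise_iff_exists]
      simp
    have key := ih (fun i => QuotSMulTop x (M (i + 1))) (fun i => QuotSMulTop.map x (d (i + 1)))
      (by
        intro i z
        obtain ⟨z, rfl⟩ := Submodule.Quotient.mk_surjective _ z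
        have h := hd (i + 1) z
        change (Submodule.Quotient.mk (d (i + 1) (d (i + 1 + 1) z)) : QuotSMulTop x (M (i + 1))) = 0
        rw [h, Submodule.Quotient.mk_zero])
      (fun i => ((isWeaklyRegular_cons_iff _ _ _).mp (hreg (i + 1))).2)
      (by
        intro z
        obtain ⟨z, rfl⟩ := Submodule.Quotient.mk_surjective _ z
        have h := htop z
        simp only [List.length_cons] at h
        change (Submodule.Quotient.mk (d (rs.length + 1) z) : QuotSMulTop x (M (rs.length + 1))) = 0
        rw [h, Submodule.Quotient.mk_zero])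
      (by
        intro t ht i hi z hz
        obtain ⟨z, rfl⟩ := Submodule.Quotient.mk_surjective _ z
        have hz' : (Submodule.Quotient.mk (d (i + 1) z) : QuotSMulTop x (M (i + 1))) = 0 := hz
        obtain ⟨y, hy⟩ := hmem.mp hz'
        have hy0 : d i y = 0 := by
          apply hx i
          simp only [smul_zero, ← map_smul, hy, hd]
        obtain ⟨N, w, hw⟩ := hloc t (List.mem_cons_of_mem _ ht) i (by simp; omega) y hy0
        have h1 : d (i + 1) (t ^ N • z - x • w) = 0 := by
          rw [map_sub, map_smul, map_smul, hw, ← hy, smul_comm, sub_self]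
        obtain ⟨K, v, hv⟩ := hloc t (List.mem_cons_of_mem _ ht) (i + 1) (by simp; omega) _ h1
        refine ⟨K + N, Submodule.Quotient.mk v, ?_⟩
        change (Submodule.Quotient.mk (d (i + 1 + 1) v) : QuotSMulTop x (M (i + 2))) =
          Submodule.Quotient.mk (t ^ (K + N) • z)
        rw [Submodule.Quotient.eq', neg_add_eq_sub, Submodule.mem_smul_pointwise_iff_exists]
        exact ⟨t ^ K • w, trivial, by rw [hv, pow_add, mul_smul, smul_sub, sub_sub_cancel, smul_comm]⟩)
    have step : ∀ i < (x :: rs).length, ∀ z : M (i + 1),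
        (∃ w, d (i + 1) w = x • z) → ∃ w, d (i + 1) w = z := by
      intro i hi z ⟨w, hw⟩
      rw [List.length_cons] at hi
      rcases Nat.lt_or_ge i rs.length with hi' | hi'
      · have hcyc : QuotSMulTop.map x (d (i + 1)) (Submodule.Quotient.mk w) = 0 := by
          change (Submodule.Quotient.mk (d (i + 1) w) : QuotSMulTop x (M (i + 1))) = 0
          exact hmem.mpr ⟨z, hw.symm⟩
        obtain ⟨v, hv⟩ := key i hi' _ hcyc
        obtain ⟨v, rfl⟩ := Submodule.Quotient.mk_surjective _ v
        have hv' : (Submodule.Quotient.mk (d (i + 1 + 1) v - w) : QuotSMulTop x (M (i + 2))) = 0 := by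
          rw [Submodule.Quotient.mk_sub, sub_eq_zero]; exact hv
        obtain ⟨u, hu⟩ := hmem.mp hv'
        refine ⟨-u, hx (i + 1) ?_⟩
        show x • d (i + 1) (-u) = x • z
        rw [← hw, ← map_smul, smul_neg, hu, map_neg, map_sub, hd, zero_sub, neg_neg]
      · obtain rfl : i = rs.length := by omega
        have hw0 := htop w
        refine ⟨0, ?_⟩
        rw [map_zero]
        exact (hx _ (show x • z = x • 0 by rw [smul_zero, ← hw]; exact hw0)).symm
    intro i hi z hz
    obtain ⟨N, w, hw⟩ := hloc x List.mem_cons_self i hi z hz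
    induction N generalizing w z with
    | zero => exact ⟨w, by simpa using hw⟩
    | succ N ihN =>
      obtain ⟨w', hw'⟩ := step i hi (x ^ N • z) ⟨w, by rw [hw, pow_succ', mul_smul]⟩
      exact ihN z hz w' hw'

theorem exists_isLocalized_kernel {R : Type*} [CommRing R] (p : Ideal R) [p.IsPrime] {a b c : ℕ}
    (D : Matrix (Fin a) (Fin b) R) (E : Matrix (Fin b) (Fin c) R)
    (h : ∀ v, (D.map (algebraMap R (Localization.AtPrime p))).mulVecLin v = 0 →
      ∃ w, (E.map (algebraMap R (Localization.AtPrime p))).mulVecLin w = v)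
    (z : Fin b → R) (hz : D.mulVecLin z = 0) : ∃ s ∉ p, ∃ w, E.mulVecLin w = s • z := by
  set φ := algebraMap R (Localization.AtPrime p)
  obtain ⟨w, hw⟩ := h (φ ∘ z) (by
    funext j
    have hj := congrFun hz j
    simp only [Matrix.mulVecLin_apply, Pi.zero_apply] at hj ⊢
    rw [← RingHom.map_mulVec, hj, map_zero])
  obtain ⟨s, hs⟩ := IsLocalization.exist_integer_multiples_of_finite p.primeCompl w
  choose w' hw' using hs
  have h1 : ∀ j, φ ((E.mulVecLin w') j) = φ ((s.1 • z) j) := by
    intro j
    have hw'' : φ ∘ w' = φ s.1 • w := by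
      funext l
      rw [Function.comp_apply, hw' l]
      simp [Algebra.smul_def, φ]
    rw [Matrix.mulVecLin_apply, RingHom.map_mulVec, hw'', Matrix.mulVec_smul]
    rw [Matrix.mulVecLin_apply] at hw
    simp [hw]
  choose u hu using fun j => IsLocalization.exists_of_eq (M := p.primeCompl) (h1 j)
  refine ⟨(∏ j, u j).1 * s.1, ((∏ j, u j) * s).2, (∏ j, u j).1 • w', ?_⟩
  funext j
  rw [map_smul, Pi.smul_apply, Pi.smul_apply, mul_comm, smul_eq_mul, smul_eq_mul]
  have hu' := hu j
  rw [Pi.smul_apply, smul_eq_mul] at hu'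
  rw [← Finset.prod_erase_mul Finset.univ u (Finset.mem_univ j), Submonoid.coe_mul]
  linear_combination (((Finset.univ.erase j).prod u : p.primeCompl) : R) * hu'

theorem exists_pow_of_local {R : Type*} [CommRing R] [IsLocalRing R] {a b c : ℕ}
    (D : Matrix (Fin a) (Fin b) R) (E : Matrix (Fin b) (Fin c) R)
    (h : ∀ (p : Ideal R) [p.IsPrime], p ≠ IsLocalRing.maximalIdeal R →
      ∀ v, (D.map (algebraMap R (Localization.AtPrime p))).mulVecLin v = 0 →
      ∃ w, (E.map (algebraMap R (Localization.AtPrime p))).mulVecLin w = v)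
    (z : Fin b → R) (hz : D.mulVecLin z = 0) (t : R) (ht : t ∈ IsLocalRing.maximalIdeal R) :
    ∃ (N : ℕ) (w : Fin c → R), E.mulVecLin w = t ^ N • z := by
  let J : Ideal R := (LinearMap.range E.mulVecLin).comap (LinearMap.toSpanSingleton R _ z)
  have htJ : t ∈ J.radical := by
    rw [Ideal.radical_eq_sInf, Submodule.mem_sInf]
    intro p ⟨hJ, hp⟩
    by_contra htp
    obtain ⟨s, hs, w, hw⟩ := exists_isLocalized_kernel p D E
      (h p fun e => htp (e ▸ ht)) z hz
    exact hs (hJ ⟨w, by simpa [LinearMap.toSpanSingleton_apply] using hw⟩)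
  obtain ⟨N, w, hw⟩ := htJ
  exact ⟨N, w, by simpa [LinearMap.toSpanSingleton_apply] using hw⟩
end

/-- Local step of Buchsbaum–Eisenbud: let R be a Noetherian local ring with maximal ideal m, and 0 →
R^(n_e) → ⋯ → R^(n_1) → R^(n_0) a complex of finite free modules, the map R^(n_(i+1)) → R^(n_i)
being given by the matrix A i, with 1 ≤ e and e at most the depth of R (there is an R-regular
sequence of length e inside m). If for every prime ideal p ≠ m the complex of matrices over R_p
obtained by localization is exact at R_p^(n_e), …, R_p^(n_1), then the complex is exact at R^(n_e),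
…, R^(n_1). -/
theorem result
    {R : Type u} [CommRing R] [IsLocalRing R] [IsNoetherianRing R]
    (e : ℕ) (he : 1 ≤ e) (n : ℕ → ℕ) (A : (i : ℕ) → Matrix (Fin (n i)) (Fin (n (i + 1))) R)
    (hA : ∀ i, i + 2 ≤ e → A i * A (i + 1) = 0)
    (rs : List R) (hlen : rs.length = e) (hmem : ∀ x ∈ rs, x ∈ IsLocalRing.maximalIdeal R)
    (hreg : RingTheory.Sequence.IsRegular R rs)
    (hloc : ∀ (p : Ideal R) [p.IsPrime], p ≠ IsLocalRing.maximalIdeal R →
      LinearMap.ker ((A (e - 1)).map (algebraMap R (Localization.AtPrime p))).mulVecLin = ⊥ ∧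
        ∀ i, i + 2 ≤ e →
          LinearMap.ker ((A i).map (algebraMap R (Localization.AtPrime p))).mulVecLin =
            LinearMap.range ((A (i + 1)).map (algebraMap R (Localization.AtPrime p))).mulVecLin) :
    LinearMap.ker (A (e - 1)).mulVecLin = ⊥ ∧
      ∀ i, i + 2 ≤ e → LinearMap.ker (A i).mulVecLin = LinearMap.range (A (i + 1)).mulVecLin := by
  classical
  have hwr := hreg.toIsWeaklyRegular
  let d : ∀ i, (Fin (n (i + 1)) → R) →ₗ[R] (Fin (n i) → R) := fun i =>
    if i < e then (A i).mulVecLin else 0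
  have hd_pos : ∀ i, i < e → d i = (A i).mulVecLin := fun i hi => if_pos hi
  have hd : ∀ i z, d i (d (i + 1) z) = 0 := by
    intro i z
    by_cases h2 : i + 1 < e
    · rw [hd_pos i (by omega), hd_pos (i + 1) h2, ← LinearMap.comp_apply, ← Matrix.mulVecLin_mul,
        hA i (by omega)]
      simp
    · simp [d, h2]
  have htop : ∀ z, d rs.length z = 0 := by intro z; simp [d, hlen]
  have main := core rs (fun i => Fin (n i) → R) d hd (fun i => isWeaklyRegular_piFin hwr _) htop
    (by
      intro t ht i hi z hz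
      rw [hlen] at hi
      rw [hd_pos i hi] at hz
      by_cases h2 : i + 1 < e
      · obtain ⟨N, w, hw⟩ := exists_pow_of_local (A i) (A (i + 1))
          (fun p _ hp v hv => by
            have := (hloc p hp).2 i (by omega)
            have hv' : v ∈ LinearMap.ker ((A i).map (algebraMap R (Localization.AtPrime p))).mulVecLin := hv
            rw [this] at hv'
            exact hv') z hz t (hmem t ht)
        exact ⟨N, w, by rw [hd_pos _ h2]; exact hw⟩
      · obtain rfl : i = e - 1 := by omega
        obtain ⟨N, w, hw⟩ := exists_pow_of_local (A (e - 1)) (0 : Matrix _ (Fin 0) R)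
          (fun p _ hp v hv => by
            have := (hloc p hp).1
            have hv' : v ∈ LinearMap.ker ((A (e - 1)).map (algebraMap R (Localization.AtPrime p))).mulVecLin := hv
            rw [this, Submodule.mem_bot] at hv'
            exact ⟨0, by rw [map_zero, hv']⟩) z hz t (hmem t ht)
        refine ⟨N, 0, ?_⟩
        rw [map_zero, ← hw]
        simp)
  refine ⟨?_, fun i hi => ?_⟩
  · rw [LinearMap.ker_eq_bot']
    intro z hz
    obtain ⟨w, hw⟩ := main (e - 1) (by omega) z (by rw [hd_pos _ (by omega)]; exact hz)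
    rw [← hw]
    simp [d, show ¬ (e - 1 + 1 < e) by omega]
  · apply le_antisymm
    · intro z hz
      obtain ⟨w, hw⟩ := main i (by omega) z (by rw [hd_pos _ (by omega)]; exact hz)
      exact ⟨w, by rw [← hd_pos _ (by omega)]; exact hw⟩
    · rintro z ⟨w, rfl⟩
      rw [LinearMap.mem_ker, ← LinearMap.comp_apply, ← Matrix.mulVecLin_mul, hA i hi]
      simp

end Groth.Agent.S18128
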