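import Groth.Statements.S1813
import Groth.Agent.Lib.RGamma.Derived

set_option autoImplicit false
universe u
open CategoryTheory
attribute [local instance] HasDerivedCategory.standard
open LocCoh

namespace Groth.Agent.S1813

/-- Let A be a Noetherian ring, I an ideal, and K an object of D(A) all of whose cohomology modules are
I-power torsion; assume the total right derived functor RΓ_I exists. Then the canonical map RΓ_I(K)
→ K is an isomorphism. -/
theorem result (A : Type u) [CommRing A] [IsNoetherianRing A] (I : Ideal A) [DRing.HasRgammaI I] (K : Dual.D A) (hK : ∀ i : ℤ, LocCoh.IsPowerTorsion I (Dual.HD A K i)) : IsIso ((DRing.RgammaIε I).app K) := by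
  obtain ⟨J, hJ, hinj, ⟨e⟩⟩ := Groth.Agent.Lib.RGamma.exists_rep K
  rw [NatTrans.isIso_app_iff_of_iso _ e]
  have := Groth.Agent.Lib.RGamma.isIso_unit_of_isKInjective I J
  rw [Groth.Agent.Lib.RGamma.isIso_ε_app_iff]
  obtain ⟨l, hl⟩ := Groth.Agent.Lib.RGamma.exists_ide_eq (IsNoetherian.noetherian I)
  subst hl
  refine Groth.Agent.Lib.RGamma.quasiIso_gamι l J (fun i =>
    Groth.Agent.Lib.RGamma.good_of_injective l _
      (Module.injective_module_of_injective_object A _ (inj := hinj i))) (fun f hf i a => ?_)
  let ε := ((DerivedCategory.homologyFunctor (ModuleCat.{u} A) i).mapIso e ≪≫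
    Groth.Agent.Lib.RGamma.hdIso J i).toLinearEquiv
  obtain ⟨n, hn⟩ := hK i (ε.symm a)
  refine ⟨n, ε.symm.injective ?_⟩
  rw [map_smul, map_zero]
  exact hn _ (Ideal.pow_mem_pow (Groth.Agent.Lib.RGamma.mem_ide hf) n)

end Groth.Agent.S1813
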