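import Groth.Statements.S18136
import Mathlib.RingTheory.Ideal.Cotangent
import Mathlib.RingTheory.RegularLocalRing.Defs

set_option autoImplicit false
universe u v
open IsLocalRing
open CAlg

namespace Groth.Agent.S18136

/-- Let A be a regular local ring with maximal ideal m and residue field k, written as a directed
colimit of regular local rings A_j with local transition maps (compatible maps ψ_j : A_j → A that
are jointly surjective, an element dying in A dying at some later stage). Let f_1, …, f_c, g_1, …,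
g_d ∈ m have linearly independent classes in m/m^2 over k, and put I = (f_1, …, f_c) ⊆ I' = (f_1, …,
f_c, g_1, …, g_d) (so I is generated by part of a regular system of parameters of A and I'/I by part
of a regular system of parameters of A/I; for a regular local ring the condition on I ⊆ I' is stated
through such a joint family). Then there are an index j_0 and ideals I_j ⊆ I'_j ⊆ A_j for j ≥ j_0
such that: each I_j is generated by c elements and I'_j by these together with d further elements of
the maximal ideal m_j, the c + d classes in m_j/m_j^2 being linearly independent over the residue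
field of A_j; the transition maps carry I_i, I'_i onto generators of I_j, I'_j for j_0 ≤ i ≤ j; and
I_j, I'_j generate I, I' in A. -/
theorem result
    {A : Type u} [CommRing A] [IsRegularLocalRing A]
    {ι : Type v} [Preorder ι] [Nonempty ι] [IsDirected ι (· ≤ ·)]
    (B : ι → Type u) [∀ j, CommRing (B j)] [∀ j, IsRegularLocalRing (B j)]
    (φ : ∀ i j, i ≤ j → (B i →+* B j)) (hφloc : ∀ i j (h : i ≤ j), IsLocalHom (φ i j h))
    (hφ : ∀ i j l (hij : i ≤ j) (hjl : j ≤ l), (φ j l hjl).comp (φ i j hij) = φ i l (hij.trans hjl))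
    (ψ : ∀ j, B j →+* A) (hψ : ∀ i j (h : i ≤ j), (ψ j).comp (φ i j h) = ψ i)
    (hsurj : ∀ a : A, ∃ j, ∃ x : B j, ψ j x = a)
    (hker : ∀ j (x : B j), ψ j x = 0 → ∃ l, ∃ h : j ≤ l, φ j l h x = 0)
    (c d : ℕ) (f : Fin c → maximalIdeal A) (g : Fin d → maximalIdeal A)
    (hind : LinearIndependent (ResidueField A) (⇑(maximalIdeal A).toCotangent ∘ Sum.elim f g)) :
    ∃ j₀ : ι, ∃ (P : ∀ j, j₀ ≤ j → Ideal (B j)) (Q : ∀ j, j₀ ≤ j → Ideal (B j)),
      (∀ j (hj : j₀ ≤ j), ∃ (F : Fin c → maximalIdeal (B j)) (E : Fin d → maximalIdeal (B j)),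
        LinearIndependent (ResidueField (B j)) (⇑(maximalIdeal (B j)).toCotangent ∘ Sum.elim F E) ∧
        P j hj = Ideal.span (Set.range (fun s => (F s : B j))) ∧
        Q j hj = P j hj ⊔ Ideal.span (Set.range (fun t => (E t : B j)))) ∧
      (∀ i j (hi : j₀ ≤ i) (hij : i ≤ j),
        (P i hi).map (φ i j hij) = P j (le_trans hi hij) ∧ (Q i hi).map (φ i j hij) = Q j (le_trans hi hij)) ∧
      (∀ j (hj : j₀ ≤ j),
        (P j hj).map (ψ j) = Ideal.span (Set.range (fun s => (f s : A))) ∧
        (Q j hj).map (ψ j) = Ideal.span (Set.range (fun s => (f s : A))) ⊔ Ideal.span (Set.range (fun t => (g t : A)))) := by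
  classical
  have hloc : ∀ j, IsLocalHom (ψ j) := fun j => by
    refine ⟨fun x hx => ?_⟩
    obtain ⟨z, hz⟩ := hx.exists_right_inv
    obtain ⟨i, y, rfl⟩ := hsurj z
    obtain ⟨k, hjk, hik⟩ := exists_ge_ge j i
    obtain ⟨l, hl, h0⟩ := hker k (φ j k hjk x * φ i k hik y - 1) (by
      rw [map_sub, map_one, map_mul, ← RingHom.comp_apply, ← RingHom.comp_apply, hψ, hψ, hz, sub_self])
    rw [map_sub, map_mul, map_one, sub_eq_zero] at h0
    haveI := hφloc j k hjk
    haveI := hφloc k l hl
    exact (isUnit_map_iff (φ j k hjk) x).mp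
      ((isUnit_map_iff (φ k l hl) _).mp (IsUnit.of_mul_eq_one _ h0))
  have lift : ∀ s : Finset A, ∃ j, ∀ a ∈ s, ∃ x, ψ j x = a := by
    intro s
    induction s using Finset.induction_on with
    | empty => exact ⟨Classical.arbitrary ι, by simp⟩
    | insert a s _ ih =>
      obtain ⟨j, hj⟩ := ih
      obtain ⟨i, x, hx⟩ := hsurj a
      obtain ⟨k, hjk, hik⟩ := exists_ge_ge j i
      refine ⟨k, fun b hb => ?_⟩
      rcases Finset.mem_insert.mp hb with rfl | hb
      · exact ⟨φ i k hik x, by rw [← RingHom.comp_apply, hψ, hx]⟩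
      · obtain ⟨y, hy⟩ := hj b hb
        exact ⟨φ j k hjk y, by rw [← RingHom.comp_apply, hψ, hy]⟩
  obtain ⟨j₀, hj₀⟩ := lift (Finset.univ.image fun s => ((Sum.elim f g s : maximalIdeal A) : A))
  choose x hx using fun s => hj₀ _ (Finset.mem_image.mpr ⟨s, Finset.mem_univ s, rfl⟩)
  have hψx : ∀ j (hj : j₀ ≤ j) s, ψ j (φ j₀ j hj (x s)) = ((Sum.elim f g s : maximalIdeal A) : A) := fun j hj s => by
    rw [← RingHom.comp_apply, hψ, hx]
  have hmem : ∀ j (hj : j₀ ≤ j) s, φ j₀ j hj (x s) ∈ maximalIdeal (B j) := fun j hj s =>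
    fun hu => (mem_maximalIdeal _).mp (Sum.elim f g s).2 (hψx j hj s ▸ hu.map (ψ j))
  let P : ∀ j, j₀ ≤ j → Ideal (B j) := fun j hj =>
    Ideal.span (Set.range fun s => φ j₀ j hj (x (Sum.inl s)))
  let Q : ∀ j, j₀ ≤ j → Ideal (B j) := fun j hj =>
    P j hj ⊔ Ideal.span (Set.range fun t => φ j₀ j hj (x (Sum.inr t)))
  refine ⟨j₀, P, Q, fun j hj => ⟨fun s => ⟨_, hmem j hj (Sum.inl s)⟩,
    fun t => ⟨_, hmem j hj (Sum.inr t)⟩, ?_, rfl, rfl⟩, fun i j hi hij => ?_, fun j hj => ?_⟩
  · haveI := hloc j
    rw [Fintype.linearIndependent_iff] at hind ⊢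
    intro co hco
    choose cl hcl using fun s => Ideal.Quotient.mk_surjective (co s)
    have hco' : (∑ s, cl s • (⟨φ j₀ j hj (x s), hmem j hj s⟩ : maximalIdeal (B j))).1 ∈
        maximalIdeal (B j) ^ 2 := by
      rw [← Ideal.toCotangent_eq_zero]
      rw [map_sum]
      refine Eq.trans (Finset.sum_congr rfl fun s _ => ?_) hco
      rw [map_smul, ← hcl s]
      cases s <;> exact (IsScalarTower.algebraMap_smul (ResidueField (B j)) (cl _) _).symm
    have hA : (∑ s, ψ j (cl s) • Sum.elim f g s : maximalIdeal A).1 ∈ maximalIdeal A ^ 2 := by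
      have h1 := Ideal.mem_map_of_mem (ψ j) hco'
      rw [Ideal.map_pow] at h1
      have hle : (maximalIdeal (B j)).map (ψ j) ≤ maximalIdeal A :=
        Ideal.map_le_iff_le_comap.mpr fun y hy => map_nonunit (ψ j) y hy
      have h2 := Ideal.pow_right_mono hle 2 h1
      simp only [Submodule.coe_sum, SetLike.val_smul, smul_eq_mul, map_sum, map_mul, hψx] at h2
      simpa using h2
    rw [← Ideal.toCotangent_eq_zero, map_sum] at hA
    have h0 := hind (fun s => residue A (ψ j (cl s))) (by
      refine Eq.trans (Finset.sum_congr rfl fun s _ => ?_) hA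
      rw [map_smul]
      exact IsScalarTower.algebraMap_smul (ResidueField A) (ψ j (cl s)) _)
    intro s
    rw [← hcl s]
    refine Ideal.Quotient.eq_zero_iff_mem.mpr fun hu => ?_
    exact (residue_eq_zero_iff _).mp (h0 s) (hu.map (ψ j))
  · have hc : ∀ y, φ i j hij (φ j₀ i hi y) = φ j₀ j (hi.trans hij) y := fun y => by
      rw [← RingHom.comp_apply, hφ]
    simp only [P, Q, Ideal.map_sup, Ideal.map_span, ← Set.range_comp, Function.comp_def, hc, and_self]
  · simp only [P, Q, Ideal.map_sup, Ideal.map_span, ← Set.range_comp, Function.comp_def, hψx,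
      Sum.elim_inl, Sum.elim_inr, and_self]

end Groth.Agent.S18136
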