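import Groth.Statements.S18150
import Groth.Agent.Lib.FrobSplit53.Basic
import Groth.Agent.Lib.DepthTwist.Zero
import Groth.Agent.Lib.AffineCompl.Dim
import Groth.Agent.Lib.Cyc.SmoothReg
import Groth.Agent.Lib.Depth.CM
import Groth.Agent.Lib.Regular.Quotient

set_option autoImplicit false
universe u
open CategoryTheory AlgebraicGeometry Opposite TopologicalSpace
open FrobSch

namespace Groth.Agent.S18150

/-- Let p be a prime, k a perfect field of characteristic p, and X an irreducible smooth proper k-scheme
of dimension n. Let φ be the p-th power map on the sheaf of additive groups underlying O_X and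
suppose X is Frobenius split: φ admits a retraction s, an additive endomorphism of O_X with s ∘ φ
the identity and s(a^p·b) = a·s(b) on every open. Then Kodaira vanishing holds on X: for every ample
invertible module L with tensor inverse L⁻¹ and every i < n, the cohomology group H^i(X, L⁻¹)
vanishes. (The source allows X Gorenstein projective; X is taken smooth, proper with an ample
invertible module, and irreducible so that n is the dimension of every component.) -/
theorem result (p : ℕ) [Fact p.Prime]
    (k : Type u) [Field k] [CharP k p] [PerfectRing k p]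
    (X : Scheme.{u}) [X.Over (Spec (CommRingCat.of k))] [IsProper (X ↘ Spec (CommRingCat.of k))]
    [Smooth (X ↘ Spec (CommRingCat.of k))] [IrreducibleSpace X] (n : ℕ) (hn : topologicalKrullDim X = n)
    (φ : Coh.toAb (Coh.structureModule X) ⟶ Coh.toAb (Coh.structureModule X))
    (hφ : ∀ (U : X.Opens) (t : Γ(X, U)), φ.hom.app (op U) t = t ^ p)
    (s : Coh.toAb (Coh.structureModule X) ⟶ Coh.toAb (Coh.structureModule X))
    (hs : φ ≫ s = 𝟙 _)
    (hlin : ∀ (U : X.Opens) (a b : Γ(X, U)),
      s.hom.app (op U) (a ^ p * b) = a * @id Γ(X, U) (s.hom.app (op U) b))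
    (L Linv : X.Modules) (hL : CohB1.IsAmple L) (hLinv : ClSub.IsInverseOf Linv L)
    (i : ℕ) (hi : i < n) :
    Subsingleton (Coh.HH X Linv i) := by
  haveI : IsLocallyNoetherian X := LocallyOfFiniteType.isLocallyNoetherian (X ↘ Spec (CommRingCat.of k))
  have hinj : ∀ (M : X.Modules), PicF.IsInvertible M → ∀ j : ℕ,
      Subsingleton (Coh.HH X (CohB1.tensorPow M p) j) → Subsingleton (Coh.HH X M j) := by
    intro M hM j hj
    obtain ⟨f, g, hfg⟩ := Lib.FrobSplit53.Basic.exists_split p φ hφ s hs hlin M hM
    refine ⟨fun a b => ?_⟩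
    have key : ∀ z, Sheaf.H.map g j (Sheaf.H.map f j z) = z := fun z => by
      rw [← Sheaf.H.map_comp_apply, hfg]
      exact Sheaf.H.map_id_apply z
    rw [← key a, ← key b, @Subsingleton.elim _ hj (Sheaf.H.map f j a) (Sheaf.H.map f j b)]
  obtain ⟨eI⟩ := hLinv
  have hMi : PicF.IsInvertible Linv := Lib.TensorMod.TensorInv.isInvertible_of_tensor_iso eI
  have hdown : ∀ e : ℕ, Subsingleton (Coh.HH X (CohB1.tensorPow Linv (p ^ e)) i) →
      Subsingleton (Coh.HH X Linv i) := by
    intro e
    induction e with
    | zero =>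
      exact fun h => Lib.ProjKoszul.Chase.subsingleton_of_iso k
        (Lib.Ample.Pow.powCongr Linv (pow_zero p) ≪≫ Lib.Ample.Pow.powOne Linv) h
    | succ e ih =>
      exact fun h => ih (hinj _ (Lib.TensorMod.Invertible.isInvertible_tensorPow hMi _) i
        (Lib.ProjKoszul.Chase.subsingleton_of_iso k
          (Lib.Ample.Pow.powCongr Linv (pow_succ p e) ≪≫ (Lib.Ample.Pow.powMul Linv (p ^ e) p).symm) h))
  have hO : Coh.IsCoh (Coh.structureModule X) :=
    Lib.Ample.GG.isCoh_of_isInvertible (_root_.PicLoc.isInvertible_structureModule X)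
  obtain ⟨m₀, hv⟩ := Lib.DepthTwist.Basic.exists_vanish k hL
    ⟨Lib.TensorMod.Basic.comm L Linv ≪≫ eI⟩ hO i fun x hx => by
    rw [Lib.Depth.Basic.depth_congr (Lib.SurfInt.Stalk.oStalk x)]
    haveI := Lib.Cyc.SmoothReg.isRegularLocalRing_stalk (X ↘ Spec (CommRingCat.of k)) x
    haveI : LocCoh.IsCohenMacaulayLocalRing (X.presheaf.stalk x) := by
      obtain ⟨t, ht, hspan⟩ := Submodule.FG.exists_span_finset_card_eq_spanFinrank
        (IsNoetherian.noetherian (IsLocalRing.maximalIdeal (X.presheaf.stalk x)))
      have hlen : t.toList.length = (IsLocalRing.maximalIdeal (X.presheaf.stalk x)).spanFinrank := by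
        rw [Finset.length_toList, ht]
      refine Lib.Depth.CM.isCohenMacaulayLocalRing_of_isRegular
        (Lib.Regular.Quotient.isRegular_of_span_eq_maximalIdeal t.toList ?_ hlen) ?_
      · rw [_root_.Ideal.ofList, ← hspan]
        congr 1
        ext; simp
      · rw [hlen, IsRegularLocalRing.spanFinrank_maximalIdeal]
    have hd := Lib.AffineCompl.Dim.ringKrullDim_stalk_of_isClosed (X ↘ Spec (CommRingCat.of k)) hx
    rw [Lib.Depth.CM.ringKrullDim_eq_depth, hn] at hd
    have hd' : LocCoh.depth (X.presheaf.stalk x) (X.presheaf.stalk x) = (n : ℕ∞) := by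
      exact_mod_cast hd
    rw [hd']
    exact_mod_cast hi
  refine hdown m₀ (Lib.ProjKoszul.Chase.subsingleton_of_iso k (Lib.TensorMod.Basic.leftUnit _)
    (hv (p ^ m₀) (le_of_lt (Nat.lt_pow_self (Fact.out : p.Prime).one_lt)) i le_rfl))

end Groth.Agent.S18150
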