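import Groth.Statements.S18153
import Mathlib.LinearAlgebra.Matrix.Determinant.Basic
import Mathlib.Algebra.MvPolynomial.PDeriv
-- import your own Groth.Agent.* helpers here

set_option autoImplicit false
universe u w
open FrobAlg

namespace Groth.Agent.S18153

/-- Let R be a commutative ring of prime characteristic p and f_1, …, f_m (m ≥ 1) polynomials over R in
the variables t_1, …, t_m and a further, possibly empty, family of variables s_a. Then in the m × m
Jacobian determinant det(∂f_i/∂t_j) with respect to the t-variables, the coefficient of the monomial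
t_1^{p-1} ⋯ t_m^{p-1} (all s-exponents zero) vanishes. (In the source this is the claim, for formal
power series in n ≥ m variables over the base field, to which the proof of the proposition reduces;
the coefficient in question only involves truncations of the f_i, so the polynomial form over any
ring of characteristic p is the same assertion.) -/
theorem result
    (p : ℕ) [Fact p.Prime] (R : Type u) [CommRing R] [CharP R p]
    {m : ℕ} (hm : 0 < m) (σ : Type w) (f : Fin m → MvPolynomial (Fin m ⊕ σ) R) :
    MvPolynomial.coeff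
        (Finsupp.sumElim (Finsupp.equivFunOnFinite.symm fun _ : Fin m => p - 1) (0 : σ →₀ ℕ))
        (Matrix.of fun i j : Fin m => MvPolynomial.pderiv (Sum.inl j) (f i)).det = 0 := by
  classical
  let D : Fin m ⊕ σ →₀ ℕ := Finsupp.sumElim (Finsupp.equivFunOnFinite.symm fun _ : Fin m => p - 1) (0 : σ →₀ ℕ)
  have key : ∀ (a : Fin m → (Fin m ⊕ σ →₀ ℕ)) (c : Fin m → R),
      MvPolynomial.coeff D (Matrix.of fun i j : Fin m => MvPolynomial.pderiv (Sum.inl j) (MvPolynomial.monomial (a i) (c i))).det = 0 := by
    intro a c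
    let J : Matrix (Fin m) (Fin m) R := Matrix.of fun i j => (a i (Sum.inl j) : R)
    set E : Fin m ⊕ σ →₀ ℕ := ∑ j : Fin m, Finsupp.single (Sum.inl j) 1 with hE
    have hterm : ∀ τ : Equiv.Perm (Fin m), MvPolynomial.coeff D (∏ i, MvPolynomial.pderiv (Sum.inl i) (MvPolynomial.monomial (a (τ i)) (c (τ i)))) =
        if ∑ i, a i = D + E then (∏ i, c i) * ∏ i, J (τ i) i else 0 := by
      intro τ
      simp only [MvPolynomial.pderiv_monomial, ← MvPolynomial.monomial_sum_prod, MvPolynomial.coeff_monomial, Finset.prod_mul_distrib,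
        Equiv.prod_comp τ c]
      by_cases hz : ∃ i, a (τ i) (Sum.inl i) = 0
      · obtain ⟨i, hi⟩ := hz
        have h0 : ∏ i, (a (τ i) (Sum.inl i) : R) = 0 := Finset.prod_eq_zero (Finset.mem_univ i) (by rw [hi, Nat.cast_zero])
        have h1 : ∏ i, J (τ i) i = 0 := h0
        simp [h0, h1]
      · push Not at hz
        have hsum : (∑ i, (a (τ i) - Finsupp.single (Sum.inl i) 1)) + E = ∑ i, a i := by
          rw [hE, ← Finset.sum_add_distrib, ← Equiv.sum_comp τ a]
          exact Finset.sum_congr rfl fun i _ => Finsupp.sub_add_single_one_cancel (hz i)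
        have hiff : (∑ i, (a (τ i) - Finsupp.single (Sum.inl i) 1)) = D ↔ ∑ i, a i = D + E :=
          ⟨fun h => by rw [← hsum, h], fun h => add_right_cancel (hsum.trans h)⟩
        simp only [hiff]
        rfl
    rw [Matrix.det_apply', MvPolynomial.coeff_sum]
    simp only [Matrix.of_apply, ← MvPolynomial.C_eq_coe_nat, Int.cast_inj]
    have h2 : ∀ τ : Equiv.Perm (Fin m), MvPolynomial.coeff D
        (((Equiv.Perm.sign τ : ℤ) : MvPolynomial (Fin m ⊕ σ) R) * ∏ i, MvPolynomial.pderiv (Sum.inl i) (MvPolynomial.monomial (a (τ i)) (c (τ i)))) =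
        if ∑ i, a i = D + E then (∏ i, c i) * (((Equiv.Perm.sign τ : ℤ) : R) * ∏ i, J (τ i) i) else 0 := fun τ => by
      rw [← map_intCast (MvPolynomial.C (σ := Fin m ⊕ σ) (R := R)), MvPolynomial.coeff_C_mul, hterm]
      split_ifs <;> ring
    rw [Finset.sum_congr rfl fun τ _ => h2 τ]
    split_ifs with h
    · rw [← Finset.mul_sum, ← Matrix.det_apply']
      obtain ⟨i₀⟩ : Nonempty (Fin m) := ⟨⟨0, hm⟩⟩
      have hJ : J.det = 0 := by
        have h3 := Matrix.det_updateRow_sum J i₀ (fun _ => (1 : R))
        rw [one_smul] at h3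
        rw [← h3]
        refine Matrix.det_eq_zero_of_row_eq_zero i₀ fun j => ?_
        rw [Matrix.updateRow_self, Finset.sum_apply]
        have h4 := congrArg (fun q : Fin m ⊕ σ →₀ ℕ => (q (Sum.inl j) : R)) h
        simp only [Finsupp.finsetSum_apply, Nat.cast_sum, Finsupp.add_apply, Nat.cast_add] at h4
        simp only [one_smul]
        show ∑ i, (a i (Sum.inl j) : R) = 0
        rw [h4, ← Nat.cast_add]
        have h5 : D (Sum.inl j) + E (Sum.inl j) = p := by
          have : E (Sum.inl j) = 1 := by
            rw [hE, Finsupp.finsetSum_apply]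
            simp [Finsupp.single_apply]
          rw [this]
          show p - 1 + 1 = p
          exact Nat.sub_add_cancel (Fact.out : p.Prime).one_le
        rw [h5, CharP.cast_eq_zero]
      rw [hJ, mul_zero]
    · exact Finset.sum_const_zero
  show MvPolynomial.coeff D _ = 0
  have hrow : (Matrix.of fun i j : Fin m => MvPolynomial.pderiv (Sum.inl j) (f i)) =
      Matrix.of fun i => ∑ a ∈ (f i).support, fun j : Fin m => MvPolynomial.pderiv (Sum.inl j) (MvPolynomial.monomial a (MvPolynomial.coeff a (f i))) := by
    ext1 i j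
    simp only [Matrix.of_apply, Finset.sum_apply]
    rw [← map_sum, ← MvPolynomial.as_sum]
  rw [hrow]
  rw [show ∀ M : Fin m → Fin m → MvPolynomial (Fin m ⊕ σ) R, (Matrix.of M).det = (Matrix.detRowAlternating : (Fin m → MvPolynomial (Fin m ⊕ σ) R) [⋀^Fin m]→ₗ[MvPolynomial (Fin m ⊕ σ) R] _).toMultilinearMap M from fun _ => rfl,
    MultilinearMap.map_sum_finset, MvPolynomial.coeff_sum]
  exact Finset.sum_eq_zero fun r _ => key r fun i => MvPolynomial.coeff (r i) (f i)

end Groth.Agent.S18153
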