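import Groth.Statements.S18154
import Groth.Agent.Lib.H58FrobJacobian
-- import your own Groth.Agent.* helpers here

set_option autoImplicit false
universe u v
open FrobAlg

namespace Groth.Agent.S18154

/-- Let k be an algebraically closed field of characteristic p, A a smooth k-algebra that is an integral
domain, and t_1, …, t_n ∈ A such that dt_1, …, dt_n is a basis of the module of Kähler differentials
Ω_{A/k}. Let (B, ι, π, Φ) be a flat lifting of A over W_2(k) together with a lift Φ of Frobenius,
T_i ∈ B lifts of the t_i, and F_i ∈ B with Φ(T_i) = T_i^p + p·F_i; put f_i = π(F_i) ∈ A. Then the n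
× n matrix over A with entries δ_{ij} t_i^{p-1} + ∂f_i/∂t_j, the partial derivatives being the
coordinates of df_i in the basis dt_j, has nonzero determinant. This is the matrix of the A-linear
map F_A^*Ω_{A/k} → Ω_{A/k} obtained from dΦ after dividing by p, which is therefore generically
bijective. (The source states generic bijectivity for a smooth variety and reduces it to this
determinant on an affine open with étale coordinates.) -/
theorem result
    (p : ℕ) [Fact p.Prime] (k : Type u) [Field k] [IsAlgClosed k] [CharP k p]
    (A : Type v) [CommRing A] [IsDomain A] [Algebra k A] [Algebra.Smooth k A]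
    {n : ℕ} (t : Fin n → A) (b : Module.Basis (Fin n) A (KaehlerDifferential k A))
    (hb : ∀ i, b i = KaehlerDifferential.D k A (t i))
    (B : Type v) [CommRing B] (ι : FrobAlg.W2 p k →+* B) (π : B →+* A) (Φ : B →+* B)
    (hΦ : FrobAlg.IsFrobLift p k A B ι π Φ)
    (T F : Fin n → B) (hT : ∀ i, π (T i) = t i) (hF : ∀ i, Φ (T i) = T i ^ p + (p : B) * F i) :
    (Matrix.of fun i j : Fin n =>
        (if i = j then t i ^ (p - 1) else 0) +
          b.coord j (KaehlerDifferential.D k A (π (F i)))).det ≠ 0 := by
  classical
  have hAp : CharP A p := charP_of_injective_algebraMap (algebraMap k A).injective p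
  let d : Fin n → Derivation k A A := fun j => (b.coord j).compDer (KaehlerDifferential.D k A)
  have hd : ∀ j x, d j x = b.coord j (KaehlerDifferential.D k A x) := fun j x => rfl
  have hdt : ∀ i j, d i (t j) = if i = j then 1 else 0 := by
    intro i j
    rw [hd, ← hb, Module.Basis.coord_apply, Module.Basis.repr_self, Finsupp.single_apply]
    simp [eq_comm]
  have hext : ∀ D1 D2 : Derivation k A A, (∀ i, D1 (t i) = D2 (t i)) → D1 = D2 := by
    intro D1 D2 h
    have e : D1.liftKaehlerDifferential = D2.liftKaehlerDifferential := b.ext fun i => by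
      rw [hb, Derivation.liftKaehlerDifferential_comp_D, Derivation.liftKaehlerDifferential_comp_D, h]
    refine Derivation.ext fun x => ?_
    rw [← D1.liftKaehlerDifferential_comp_D, e, D2.liftKaehlerDifferential_comp_D]
  have hcomm : ∀ i j x, d i (d j x) = d j (d i x) := by
    intro i j x
    have h := hext ⁅d i, d j⁆ 0 fun l => by
      rw [Derivation.commutator_apply, hdt, hdt, Derivation.coe_zero, Pi.zero_apply]
      split_ifs <;> simp
    have hx := congrArg (fun D : Derivation k A A => D x) h
    simp only [Derivation.commutator_apply, Derivation.coe_zero, Pi.zero_apply] at hx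
    exact sub_eq_zero.1 hx
  have hp1 : p - 1 + 1 = p := Nat.sub_add_cancel (Fact.out : p.Prime).one_le
  have hpow : ∀ i x, (d i)^[p - 1 + 1] x = 0 := by
    intro i x
    rw [hp1, ← Lib.H58FrobJacobian.iterateDer_apply p (d i) x,
      hext (Lib.H58FrobJacobian.iterateDer p (d i)) 0 fun l => ?_]
    · rfl
    · rw [Lib.H58FrobJacobian.iterateDer_apply, ← hp1, Function.iterate_succ_apply, hdt,
        Derivation.coe_zero, Pi.zero_apply]
      rcases Nat.exists_eq_succ_of_ne_zero (show p - 1 ≠ 0 from by
        have := (Fact.out : p.Prime).two_le; omega) with ⟨q, hq⟩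
      rw [hq, Function.iterate_succ_apply]
      split_ifs <;> simp
  let L := Lib.H58FrobJacobian.topOp d (p - 1) (List.finRange n)
  have hL : ∀ i x, L (d i x) = 0 := fun i x =>
    LinearMap.congr_fun (Lib.H58FrobJacobian.topOp_mul_eq_zero d (p - 1) hcomm hpow _ i (List.mem_finRange i)) x
  have h1 := Lib.H58FrobJacobian.det_eq d t (fun i => π (F i)) (p - 1) hdt hcomm L hL
  have h2 := Lib.H58FrobJacobian.topOp_prod d t (p - 1) hdt _ (List.nodup_finRange n) 1
    fun i _ => (d i).map_one_eq_zero
  simp only [List.toFinset_finRange, List.length_finRange, mul_one] at h2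
  intro h0
  change L (∏ i, t i ^ (p - 1)) = _ at h2
  rw [h2] at h1
  have hfac : ((p - 1).factorial : A) ≠ 0 := by
    rw [Ne, CharP.cast_eq_zero_iff A p, (Fact.out : p.Prime).dvd_factorial]
    omega
  apply pow_ne_zero n hfac
  have h0' : (Matrix.of fun i j => (if i = j then t i ^ (p - 1) else 0) + (d j) (π (F i))).det = 0 := h0
  rw [← h1, h0', map_zero]

end Groth.Agent.S18154
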