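import Groth.Statements.S18161
import Groth.Agent.Lib.Henselian.Sections
import Groth.Agent.S0537
import Groth.Agent.S0539
import Mathlib.AlgebraicGeometry.ValuativeCriterion
import Mathlib.AlgebraicGeometry.ZariskisMainTheorem
import Mathlib.AlgebraicGeometry.Morphisms.QuasiFinite
import Mathlib.AlgebraicGeometry.Morphisms.FlatMono
import Mathlib.RingTheory.Etale.Field
import Mathlib.FieldTheory.IsAlgClosed.AlgebraicClosure

set_option autoImplicit false
set_option linter.style.haveILetI false
set_option backward.isDefEq.respectTransparency false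
universe u
open BSB

namespace Groth.Agent.S18161

open AlgebraicGeometry CategoryTheory CategoryTheory.Limits IsLocalRing TensorProduct

noncomputable section

/-- An étale algebra over a field has as many points in a separably closed field as its rank. -/
theorem natCard_algHom (K Ω E : Type u) [Field K] [Field Ω] [IsSepClosed Ω] [Algebra K Ω]
    [CommRing E] [Algebra K E] [Algebra.Etale K E] :
    Nat.card (E →ₐ[K] Ω) = Module.finrank K E ∧ Finite (E →ₐ[K] Ω) := by
  classical
  haveI := Algebra.FormallyUnramified.finite_of_free K E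
  let B := Ω ⊗[K] E
  haveI : Algebra.Etale Ω B := inferInstance
  let e := Algebra.FormallyEtale.equivPiOfIsSepClosed Ω B
  haveI : IsArtinianRing B := IsArtinianRing.of_finite Ω B
  haveI : Fintype (PrimeSpectrum B) := Fintype.ofFinite _
  have hr : Module.finrank Ω B = Nat.card (PrimeSpectrum B) := by
    rw [e.toLinearEquiv.finrank_eq, Module.finrank_fintype_fun_eq_card, Nat.card_eq_fintype_card]
  let ev : PrimeSpectrum B → (B →ₐ[Ω] Ω) := fun p => (Pi.evalAlgHom Ω (fun _ => Ω) p).comp e.toAlgHom
  have hev : Function.Injective ev := fun p q h => by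
    have := AlgHom.congr_fun h (e.symm (Pi.single p 1))
    by_contra hne
    simp [ev, Pi.single_eq_of_ne (Ne.symm hne)] at this
  have hc : Nat.card (B →ₐ[Ω] Ω) = Module.finrank Ω B :=
    le_antisymm (card_algHom_le_finrank Ω B Ω)
      (hr ▸ Nat.card_le_card_of_injective ev hev)
  let g : (E →ₐ[K] Ω) ≃ (B →ₐ[Ω] Ω) :=
    { toFun := fun σ => Algebra.TensorProduct.lift (AlgHom.id Ω Ω) σ fun _ _ => .all _ _
      invFun := fun τ => (τ.restrictScalars K).comp Algebra.TensorProduct.includeRight
      left_inv := fun σ => AlgHom.ext fun x => by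
        change Algebra.TensorProduct.lift (AlgHom.id Ω Ω) σ (fun _ _ => .all _ _) ((1 : Ω) ⊗ₜ[K] x) = σ x
        simp
      right_inv := fun τ => by
        ext x
        change _ = τ ((1 : Ω) ⊗ₜ[K] x)
        simp
        rfl }
  exact ⟨by rw [Nat.card_congr g, hc, Module.finrank_baseChange], Finite.of_equiv _ g.symm⟩

variable {T S : Scheme.{u}} (f : T ⟶ S)

/-- The lifts of a morphism to the source. -/
abbrev Lift {Z : Scheme.{u}} (η : Z ⟶ S) : Type u := {ξ : Z ⟶ T // ξ ≫ f = η}

theorem natCard_lift [Etale f] [QuasiCompact f] (d : ℕ)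
    (hd : ∀ s : S, Module.finrank (S.residueField s) Γ(f.fiber s, ⊤) = d)
    {Ω : Type u} [Field Ω] [IsSepClosed Ω] (η : Spec (CommRingCat.of Ω) ⟶ S) :
    Nat.card (Lift f η) = d ∧ Finite (Lift f η) := by
  haveI : LocallyQuasiFinite f := by
    refine ⟨fun {U} hU {V} hV e ↦ ?_⟩
    have h1 := HasRingHomProperty.appLE @FormallyUnramified f inferInstance ⟨U, hU⟩ ⟨V, hV⟩ e
    have h2 := HasRingHomProperty.appLE @LocallyOfFiniteType f inferInstance ⟨U, hU⟩ ⟨V, hV⟩ e
    algebraize [(f.appLE U V e).hom]
    have : Algebra.FormallyUnramified Γ(S, U) Γ(T, V) := h1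
    have : Algebra.FiniteType Γ(S, U) Γ(T, V) := h2
    exact (inferInstance : Algebra.QuasiFinite Γ(S, U) Γ(T, V))
  let p := Scheme.SpecToEquivOfField Ω S η
  let s : S := p.1
  let ι : S.residueField s ⟶ CommRingCat.of Ω := p.2
  have hη : Spec.map ι ≫ S.fromSpecResidueField s = η := (Scheme.SpecToEquivOfField Ω S).symm_apply_apply η
  let F := f.fiber s
  let π := f.fiberToSpecResidueField s
  haveI : IsFinite π := locallyQuasiFinite_iff_isFinite_fiber.mp inferInstance s
  haveI : IsAffine F := isAffine_of_isAffineHom π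
  haveI : Etale π := MorphismProperty.pullback_snd (P := @Etale) _ _ inferInstance
  let φ : S.residueField s ⟶ Γ(F, ⊤) := (Scheme.ΓSpecIso (S.residueField s)).inv ≫ π.appTop
  letI : Algebra (S.residueField s) Ω := ι.hom.toAlgebra
  haveI : Algebra.Etale (S.residueField s) Γ(F, ⊤) := by
    have h : RingHom.Etale φ.hom := by
      have h1 : π.appTop.hom.Etale := HasRingHomProperty.appTop (P := @Etale) π inferInstance
      exact (RingHom.Etale.respectsIso.2 π.appTop.hom
        (Scheme.ΓSpecIso (S.residueField s)).symm.commRingCatIsoToRingEquiv h1)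
    exact RingHom.etale_algebraMap.mp h
  have key : ∀ ξ : Spec (CommRingCat.of Ω) ⟶ F, ξ ≫ π = Spec.map ι ↔
      φ ≫ ξ.appTop ≫ (Scheme.ΓSpecIso (CommRingCat.of Ω)).hom = ι := fun ξ => by
    have hnat := Scheme.ΓSpecIso_naturality ι
    constructor
    · intro h
      have := congrArg (fun m : Spec (CommRingCat.of Ω) ⟶ Spec (S.residueField s) => m.appTop) h
      simp only [Scheme.Hom.comp_appTop] at this
      simp only [φ, Category.assoc]
      rw [reassoc_of% this, hnat, Iso.inv_hom_id_assoc]
    · intro h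
      apply ext_of_isAffine
      rw [← cancel_mono (Scheme.ΓSpecIso (CommRingCat.of Ω)).hom, hnat, ← h]
      simp [φ]
  let e₁ : Lift f η ≃ {ξ : Spec (CommRingCat.of Ω) ⟶ F // ξ ≫ π = Spec.map ι} :=
    { toFun := fun ξ => ⟨pullback.lift ξ.1 (Spec.map ι) (ξ.2.trans hη.symm),
        pullback.lift_snd _ _ _⟩
      invFun := fun ξ => ⟨ξ.1 ≫ f.fiberι s, by
        rw [Category.assoc, f.fiber_fac, reassoc_of% ξ.2, hη]⟩
      left_inv := fun ξ => Subtype.ext (pullback.lift_fst _ _ _)
      right_inv := fun ξ => Subtype.ext (by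
        apply pullback.hom_ext
        · simp [Scheme.Hom.fiberι]
        · rw [pullback.lift_snd]; exact ξ.2.symm) }
  have hinj : ∀ χ : Γ(F, ⊤) ⟶ CommRingCat.of Ω,
      (Spec.map χ ≫ F.isoSpec.inv).appTop ≫ (Scheme.ΓSpecIso (CommRingCat.of Ω)).hom = χ := fun χ => by
    simp [Scheme.isoSpec, Scheme.Hom.comp_appTop]
  let e₂ : {ξ : Spec (CommRingCat.of Ω) ⟶ F // ξ ≫ π = Spec.map ι} ≃
      (Γ(F, ⊤) →ₐ[S.residueField s] Ω) :=
    { toFun := fun ξ =>
        { (ξ.1.appTop ≫ (Scheme.ΓSpecIso (CommRingCat.of Ω)).hom).hom with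
          commutes' := fun a => congrArg (fun m : S.residueField s ⟶ CommRingCat.of Ω => m.hom a)
            ((key ξ.1).1 ξ.2) }
      invFun := fun σ => ⟨Spec.map (CommRingCat.ofHom σ.toRingHom) ≫ F.isoSpec.inv, by
        rw [key, hinj]
        exact CommRingCat.hom_ext (RingHom.ext σ.commutes)⟩
      left_inv := fun ξ => Subtype.ext (by
        apply ext_of_isAffine
        rw [← cancel_mono (Scheme.ΓSpecIso (CommRingCat.of Ω)).hom]
        exact hinj _)
      right_inv := fun σ => AlgHom.ext fun x =>
        congrArg (fun m : Γ(F, ⊤) ⟶ CommRingCat.of Ω => m.hom x) (hinj _) }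
  obtain ⟨hc, hfin⟩ := natCard_algHom (S.residueField s) Ω Γ(F, ⊤)
  exact ⟨by rw [Nat.card_congr (e₁.trans e₂), hc]; exact hd s, Finite.of_equiv _ (e₁.trans e₂).symm⟩

section sh

variable {A : Type u} [CommRing A] (σ : Spec (CommRingCat.of A) ⟶ S)

/-- Restriction of lifts. -/
def rest {Z : Scheme.{u}} (z : Z ⟶ Spec (CommRingCat.of A)) (ξ : Lift f σ) : Lift f (z ≫ σ) :=
  ⟨z ≫ ξ.1, by rw [Category.assoc, ξ.2]⟩

variable [HenselianLocalRing A]

theorem rest_residue_bijective [Etale f] :
    Function.Bijective (rest f σ (Spec.map (CommRingCat.ofHom (residue A)))) := by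
  constructor
  · intro u v h
    have h' := congrArg Subtype.val h
    let w := pullback.lift u.1 v.1 (u.2.trans v.2.symm)
    let E := pullback.snd (pullback.diagonal f) w
    haveI : IsOpenImmersion E := inferInstance
    have hz : closedPoint A ∈ Set.range E.base := by
      let z : Spec (CommRingCat.of (ResidueField A)) ⟶ pullback (pullback.diagonal f) w :=
        pullback.lift (Spec.map (CommRingCat.ofHom (residue A)) ≫ u.1)
          (Spec.map (CommRingCat.ofHom (residue A))) (by
            apply pullback.hom_ext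
            · simp [w]
            · simpa [w, rest] using h')
      refine ⟨z.base (closedPoint (ResidueField A)), ?_⟩
      rw [← Scheme.Hom.comp_apply, pullback.lift_snd]
      exact PrimeSpectrum.ext (by
        show (maximalIdeal (ResidueField A)).comap (residue A) = maximalIdeal A
        rw [IsLocalRing.maximalIdeal_eq_bot, ← RingHom.ker_eq_comap_bot, ker_residue])
    haveI : Surjective E := ⟨fun x =>
      ((IsLocalRing.specializes_closedPoint x).mem_open E.opensRange.isOpen hz)⟩
    haveI : IsIso E := (isIso_iff_isOpenImmersion_and_surjective E).2 ⟨inferInstance, inferInstance⟩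
    have hw : inv E ≫ pullback.fst (pullback.diagonal f) w ≫ pullback.diagonal f = w := by
      rw [pullback.condition, IsIso.inv_hom_id_assoc]
    apply Subtype.ext
    have h1 := congrArg (· ≫ pullback.fst f f) hw
    have h2 := congrArg (· ≫ pullback.snd f f) hw
    simp [w] at h1 h2
    exact (cancel_epi E).1 (h1.symm.trans h2)
  · intro ξ
    let u₀ := pullback.lift ξ.1 (Spec.map (CommRingCat.ofHom (residue A))) ξ.2
    obtain ⟨u, hu, hu'⟩ := Lib.Henselian.Sections.exists_section_of_smooth (pullback.snd f σ) u₀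
      (pullback.lift_snd _ _ _)
    refine ⟨⟨u ≫ pullback.fst f σ, by rw [Category.assoc, pullback.condition, reassoc_of% hu]⟩, ?_⟩
    apply Subtype.ext
    show Spec.map (CommRingCat.ofHom (residue A)) ≫ u ≫ pullback.fst f σ = ξ.1
    rw [reassoc_of% hu']
    exact pullback.lift_fst _ _ _

theorem rest_surjective [Etale f] [UniversallyClosed f] [IsSepClosed (ResidueField A)]
    {Ω : Type u} [Field Ω] (z : Spec (CommRingCat.of Ω) ⟶ Spec (CommRingCat.of A)) :
    Function.Surjective (rest f σ z) := by
  intro ξ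
  let q := pullback.snd f σ
  let ξ' := pullback.lift ξ.1 z ξ.2
  let p := ξ'.base (closedPoint Ω)
  haveI : UniversallyClosed q := MorphismProperty.pullback_snd _ _ inferInstance
  obtain ⟨x, hx, hxc⟩ : closedPoint A ∈ q.base '' closure {p} :=
    (IsLocalRing.specializes_closedPoint (q.base p)).mem_closed
      (q.isClosedMap _ isClosed_closure) ⟨p, subset_closure rfl, rfl⟩
  obtain ⟨u, hu, hux⟩ := Lib.Henselian.Sections.exists_section_through q x hxc
  haveI : IsSplitMono u := ⟨⟨⟨q, hu⟩⟩⟩
  haveI : Etale (u ≫ q) := by rw [hu]; infer_instance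
  haveI : Etale u := Etale.of_comp u q
  haveI : IsOpenImmersion u := IsOpenImmersion.of_flat_of_mono u
  have hp : Set.range ξ'.base ⊆ Set.range u.base := by
    rintro _ ⟨y, rfl⟩
    rw [Subsingleton.elim y (closedPoint Ω)]
    exact (specializes_iff_mem_closure.mpr hx).mem_open u.opensRange.isOpen ⟨_, hux⟩
  refine ⟨⟨u ≫ pullback.fst f σ, by rw [Category.assoc, pullback.condition, reassoc_of% hu]⟩, ?_⟩
  apply Subtype.ext
  have hlift : IsOpenImmersion.lift u ξ' hp ≫ u = ξ' := IsOpenImmersion.lift_fac _ _ _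
  have hz : IsOpenImmersion.lift u ξ' hp = z := by
    calc IsOpenImmersion.lift u ξ' hp = IsOpenImmersion.lift u ξ' hp ≫ u ≫ q := by
          rw [hu, Category.comp_id]
      _ = ξ' ≫ q := by rw [reassoc_of% hlift]
      _ = z := pullback.lift_snd _ _ _
  show z ≫ u ≫ pullback.fst f σ = ξ.1
  rw [hz] at hlift
  rw [reassoc_of% hlift]
  exact pullback.lift_fst _ _ _

theorem rest_injective [Etale f] [QuasiCompact f] [UniversallyClosed f] [IsSepClosed (ResidueField A)]
    (d : ℕ) (hd : ∀ s : S, Module.finrank (S.residueField s) Γ(f.fiber s, ⊤) = d)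
    {Ω : Type u} [Field Ω] [IsSepClosed Ω] (z : Spec (CommRingCat.of Ω) ⟶ Spec (CommRingCat.of A)) :
    Function.Injective (rest f σ z) := by
  have hb := rest_residue_bijective f σ
  obtain ⟨hk, hkf⟩ := natCard_lift f d hd (Spec.map (CommRingCat.ofHom (residue A)) ≫ σ)
  obtain ⟨hz, hzf⟩ := natCard_lift f d hd (z ≫ σ)
  haveI : Finite (Lift f σ) := Finite.of_injective _ hb.1
  exact ((rest_surjective f σ z).bijective_of_nat_card_le
    (le_of_eq ((Nat.card_congr (Equiv.ofBijective _ hb)).trans (hk.trans hz.symm)))).1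

end sh

theorem exists_specMap_fac {R K Ω : Type u} [CommRing R] [IsDomain R] [Field K] [Algebra R K]
    [IsFractionRing R K] [Field Ω] (ψ : R →+* Ω) (hψ : Function.Injective ψ) :
    ∃ χ : K →+* Ω, χ.comp (algebraMap R K) = ψ :=
  ⟨IsFractionRing.lift hψ, RingHom.ext fun r => IsFractionRing.lift_algebraMap hψ r⟩

theorem uniqueness [Etale f] [QuasiCompact f] [UniversallyClosed f] (d : ℕ)
    (hd : ∀ s : S, Module.finrank (S.residueField s) Γ(f.fiber s, ⊤) = d) :
    ValuativeCriterion.Uniqueness f := by
  intro D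
  constructor
  intro a b
  obtain ⟨A, _, _, _, _, hA⟩ := Groth.Agent.S0537.result D.R
  haveI := hA.henselian
  haveI : IsSepClosed (ResidueField A) := hA.isSepClosure.sep_closed
  haveI := Groth.Agent.S0539.result D.R A
  let g : Spec (CommRingCat.of A) ⟶ Spec (CommRingCat.of D.R) :=
    Spec.map (CommRingCat.ofHom (algebraMap D.R A))
  haveI : Flat g := HasRingHomProperty.Spec_iff.mpr
    (RingHom.flat_algebraMap_iff.mpr (inferInstanceAs (Module.Flat D.R A)))
  haveI : Surjective g := ⟨PrimeSpectrum.comap_surjective_of_faithfullyFlat⟩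
  haveI : Epi g := Flat.epi_of_flat_of_surjective g
  obtain ⟨Q, hQ⟩ := PrimeSpectrum.comap_surjective_of_faithfullyFlat (A := D.R) (B := A)
    ⟨⊥, Ideal.isPrime_bot⟩
  let Ω := AlgebraicClosure Q.asIdeal.ResidueField
  let φ : A →+* Ω := (algebraMap Q.asIdeal.ResidueField Ω).comp (algebraMap A Q.asIdeal.ResidueField)
  let ψ : D.R →+* Ω := φ.comp (algebraMap D.R A)
  have hψ : Function.Injective ψ := by
    refine (injective_iff_map_eq_zero ψ).2 fun r hr => ?_
    have h0 : algebraMap A Q.asIdeal.ResidueField (algebraMap D.R A r) = 0 :=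
      (algebraMap Q.asIdeal.ResidueField Ω).injective (hr.trans (map_zero _).symm)
    rw [Ideal.algebraMap_residueField_eq_zero] at h0
    have h1 : r ∈ (PrimeSpectrum.comap (algebraMap D.R A) Q).asIdeal := h0
    rw [hQ] at h1
    exact (Ideal.mem_bot).1 h1
  let z := Spec.map (CommRingCat.ofHom φ)
  obtain ⟨χ, hχ⟩ := exists_specMap_fac (K := D.K) ψ hψ
  let t := Spec.map (CommRingCat.ofHom χ)
  have ht : z ≫ g = t ≫ Spec.map (CommRingCat.ofHom (algebraMap D.R D.K)) := by
    simp only [z, g, t, ← Spec.map_comp, ← CommRingCat.ofHom_comp, hχ, ψ]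
  let σ := g ≫ D.i₂
  let a' : Lift f σ := ⟨g ≫ a.l, by rw [Category.assoc, a.fac_right]⟩
  let b' : Lift f σ := ⟨g ≫ b.l, by rw [Category.assoc, b.fac_right]⟩
  have hz : z ≫ a'.1 = z ≫ b'.1 := by
    simp only [a', b']
    rw [← Category.assoc, ← Category.assoc, ht, Category.assoc, Category.assoc, a.fac_left, b.fac_left]
  have hab : a' = b' := rest_injective f σ d hd z (Subtype.ext hz)
  have hl : a.l = b.l := (cancel_epi g).1 (congrArg Subtype.val hab)
  exact CommSq.LiftStruct.ext hl

end

open AlgebraicGeometry CategoryTheory in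
/-- Let f : T ⟶ S be an étale, quasi-compact, quasi-separated and universally closed morphism of
schemes, and suppose that for some natural number d the global functions of every scheme-theoretic
fibre of f form a d-dimensional vector space over the residue field of the corresponding point of S.
Then f is finite. (Separatedness of f is not assumed.) -/
theorem result {T S : Scheme.{u}} (f : T ⟶ S)
    [Etale f] [QuasiCompact f] [QuasiSeparated f] [UniversallyClosed f] (d : ℕ)
    (hd : ∀ s : S, Module.finrank (S.residueField s) Γ(f.fiber s, ⊤) = d) :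
    IsFinite f := by
  haveI : IsSeparated f := IsSeparated.of_valuativeCriterion f (uniqueness f d hd)
  haveI : IsProper f := {}
  haveI : LocallyQuasiFinite f := by
    refine ⟨fun {U} hU {V} hV e ↦ ?_⟩
    have h1 := HasRingHomProperty.appLE @FormallyUnramified f inferInstance ⟨U, hU⟩ ⟨V, hV⟩ e
    have h2 := HasRingHomProperty.appLE @LocallyOfFiniteType f inferInstance ⟨U, hU⟩ ⟨V, hV⟩ e
    algebraize [(f.appLE U V e).hom]
    have : Algebra.FormallyUnramified Γ(S, U) Γ(T, V) := h1
    have : Algebra.FiniteType Γ(S, U) Γ(T, V) := h2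
    exact (inferInstance : Algebra.QuasiFinite Γ(S, U) Γ(T, V))
  exact IsFinite.of_isProper_of_locallyQuasiFinite f

end Groth.Agent.S18161
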