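import Groth.Statements.S18162
import Groth.Agent.Lib.H98.BiVanish
import Groth.Agent.Lib.Exchange.RelVanish
import Groth.Agent.S11319

set_option autoImplicit false
universe u
open BSB

namespace Groth.Agent.S18162

open Groth.Agent.Lib Groth.Agent.Lib.Exchange.RelVanish TopologicalSpace in
open AlgebraicGeometry CategoryTheory CategoryTheory.Limits in
/-- Let S be a Noetherian scheme, π : X ⟶ S a proper morphism, L and M invertible O_X-modules each ample
relative to π, and F a coherent O_X-module. Then there is n such that R^i π_* (F ⊗ L^a ⊗ M^b) = 0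
for every i > 0 and all a, b ≥ 0 with max(a, b) ≥ n. (Projectivity of π in the source is rendered as
properness together with the given relatively ample invertible modules; the instance argument
recording injective resolutions of O_X-modules is true but not yet in Mathlib.) -/
theorem result {X S : Scheme.{u}} (π : X ⟶ S) [IsNoetherian S] [IsProper π]
    [HasInjectiveResolutions X.Modules]
    (L M : X.Modules) (hLi : PicF.IsInvertible L) (hMi : PicF.IsInvertible M)
    (hL : RelAmple.IsRelAmple π L) (hM : RelAmple.IsRelAmple π M)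
    (F : X.Modules) (hF : Coh.IsCoh F) :
    ∃ n : ℕ, ∀ (i a b : ℕ), 0 < i → n ≤ max a b →
      IsZero ((Coh.Rpush π i).obj (CohB1.tensorMod F (CohB1.tensorMod (CohB1.tensorPow L a) (CohB1.tensorPow M b)))) := by
  classical
  suffices ∃ n : ℕ, ∀ a b q : ℕ, n ≤ max a b → IsZero ((Coh.RpushAb π (q + 1)).obj
      (Coh.toAb (H98.BiVanish.tw2 F L M a b))) by
    obtain ⟨n, hn⟩ := this
    refine ⟨n, fun i a b hi h => ?_⟩
    obtain ⟨q, rfl⟩ := Nat.exists_eq_add_of_le' hi
    obtain ⟨e⟩ := Groth.Agent.S11319.result π (H98.BiVanish.tw2 F L M a b) (q + 1)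
    exact (IsZero.iff_id_eq_zero _).2 ((SheafOfModules.toSheaf S.ringCatSheaf).map_injective
      (((hn a b q h).of_iso e).eq_of_src _ _))
  choose V hV hxV using fun x : S =>
    (exists_isAffineOpen_mem_and_subset (X := S) (x := x) (U := ⊤) trivial).imp
      fun V hV => And.intro hV.1 hV.2.1
  obtain ⟨T, hT⟩ := isCompact_univ.elim_finite_subcover (fun x => (V x : Set S))
    (fun x => (V x).2) fun x _ => Set.mem_iUnion.2 ⟨x, hxV x⟩
  haveI : IsLocallyNoetherian X := LocallyOfFiniteType.isLocallyNoetherian π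
  have hn : ∀ x : S, ∃ n₀ : ℕ, ∀ a b q : ℕ, n₀ ≤ max a b → Subsingleton (Coh.HH _
      ((H98.BiVanish.tw2 F L M a b).restrict (π ⁻¹ᵁ V x).ι) (q + 1)) := fun x => by
    haveI : IsNoetherianRing Γ(S, V x) := IsLocallyNoetherian.component_noetherian ⟨V x, hV x⟩
    letI : (π ⁻¹ᵁ V x : Scheme.{u}).Over (Spec (CommRingCat.of Γ(S, V x))) := ⟨overA π (hV x)⟩
    haveI : IsProper (π ∣_ V x) :=
      MorphismProperty.of_isPullback (P := @IsProper) (isPullback_morphismRestrict π (V x)).flip
        inferInstance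
    haveI : IsProper ((π ⁻¹ᵁ V x : Scheme.{u}) ↘ Spec (CommRingCat.of Γ(S, V x))) :=
      inferInstanceAs (IsProper (overA π (hV x)))
    obtain ⟨n₀, hn₀⟩ := H98.BiVanish.exists_vanish_max Γ(S, V x)
      (hL.2 ⟨V x, hV x⟩) (hM.2 ⟨V x, hV x⟩)
      (CohBasics.Closure.isCoh_of_iso ((Scheme.Modules.restrictFunctorIsoPullback _).app F).symm
        (Cyc.FP.Stalk.isCoh_pullback (π ⁻¹ᵁ V x).ι hF))
    refine ⟨n₀, fun a b q h => ?_⟩
    haveI := hn₀ a b q h
    exact (Curves.LES.isoK Γ(S, V x) (TensorMod.Pullback.restrictTensorIso (π ⁻¹ᵁ V x).ι F _ ≪≫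
      TensorMod.Basic.tensorIso (Iso.refl _)
        (TensorMod.Pullback.restrictTensorIso (π ⁻¹ᵁ V x).ι _ _ ≪≫
          TensorMod.Basic.tensorIso (Ample.Pow.restrictPow _ L a) (Ample.Pow.restrictPow _ M b)))
        (q + 1)).toEquiv.subsingleton
  choose n₀ hn₀ using hn
  refine ⟨T.sup n₀, fun a b q h => ?_⟩
  haveI : (H98.BiVanish.tw2 F L M a b).IsQuasicoherent :=
    (CohBasics.Closure.isCoh_of_iso (TensorMod.Basic.comm _ F) (Snapper.Twist.isCoh_twist
      (TensorMod.Invertible.isInvertible_tensorMod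
        (TensorMod.Invertible.isInvertible_tensorPow hLi a)
        (TensorMod.Invertible.isInvertible_tensorPow hMi b)) hF)).1
  refine ZarCoh.RpushVanish.isZero_RpushAb π.base
    (B := {W | ∃ x ∈ T, IsAffineOpen (W : S.Opens) ∧ W ≤ V x}) ?_ q fun W ⟨x, hx, hW, hWV⟩ =>
      subsingleton_preimage_of_le π _ (hV x) hW hWV (q + 1)
        (hn₀ x a b q ((Finset.le_sup hx).trans h))
  refine Opens.isBasis_iff_nbhd.2 fun {U y} hy => ?_
  obtain ⟨x, hx, hyx⟩ := Set.mem_iUnion₂.1 (hT (Set.mem_univ y))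
  obtain ⟨W, hW, hyW, hle⟩ := exists_isAffineOpen_mem_and_subset (U := U ⊓ V x) (x := y) ⟨hy, hyx⟩
  exact ⟨W, ⟨x, hx, hW, fun z hz => (hle hz).2⟩, hyW, fun z hz => (hle hz).1⟩

end Groth.Agent.S18162
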