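import Groth.Statements.S18163
import Groth.Agent.H52.PushInv
import Groth.Agent.Lib.Ample.GG
import Groth.Agent.H34.GlobGen
import Groth.Agent.Lib.UnifReg.OnX

set_option autoImplicit false
universe u
open BSB

namespace Groth.Agent.S18163

section helpers

open AlgebraicGeometry CategoryTheory CategoryTheory.Limits
open Groth.Agent.Lib Groth.Agent.Lib.TensorMod Groth.Agent.Lib.TensorMod.Basic Groth.Agent.Lib.TensorMod.Dual
  Groth.Agent.Lib.TensorMod.Gen Groth.Agent.Lib.TensorMod.Pullback Groth.Agent.Lib.Ample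
  Groth.Agent.Lib.Ample.GenLocus Groth.Agent.Lib.Ample.Pow

variable {X X' : Scheme.{u}} (π : X ⟶ X')

/-- A proper morphism with `O ≅ π_* O` is surjective. -/
theorem exists_preimage [IsProper π] (hπ : ∀ U : X'.Opens, IsIso (π.app U)) (y : X') : ∃ x, π x = y := by
  by_contra hc
  push Not at hc
  let U : X'.Opens := ⟨(Set.range π)ᶜ, π.isClosedMap.isClosed_range.isOpen_compl⟩
  have hy : y ∈ U := by rintro ⟨x, hx⟩; exact hc x hx
  have hb : π ⁻¹ᵁ U = ⊥ := by
    ext x
    simp only [TopologicalSpace.Opens.coe_bot, Set.mem_empty_iff_false, iff_false]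
    exact fun hx => hx ⟨x, rfl⟩
  haveI : Subsingleton Γ(X, π ⁻¹ᵁ U) := by
    rw [hb]; exact inferInstance
  haveI := hπ U
  haveI : Subsingleton Γ(X', U) :=
    (ConcreteCategory.bijective_of_isIso (π.app U)).1.subsingleton
  have h1 : (1 : X'.presheaf.stalk y) = 0 := by
    rw [← map_one (X'.presheaf.germ U y hy).hom, ← map_zero (X'.presheaf.germ U y hy).hom,
      Subsingleton.elim (1 : Γ(X', U)) 0]
  exact one_ne_zero h1

/-- A globally generated power is generated over preimages of small opens. -/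
theorem exists_gen [IsProper π] (hπ : ∀ U : X'.Opens, IsIso (π.app U)) {L : X.Modules} (hL : PicF.IsInvertible L)
    {M : X'.Modules} (hM : PicF.IsInvertible M) {m : ℕ} (hm : 0 < m)
    (e0 : (Scheme.Modules.pullback π).obj M ≅ CohB1.tensorPow L m) {n : ℕ}
    (hg : Curv2.IsGloballyGenerated (CohB1.tensorPow L n)) (y : X') :
    ∃ (W : X'.Opens) (e : Γ(CohB1.tensorPow L n, π ⁻¹ᵁ W)), y ∈ W ∧ IsGen (CohB1.tensorPow L n) (π ⁻¹ᵁ W) e := by
  obtain ⟨U, b, hyU, hb⟩ := isInvertible_iff.1 hM y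
  obtain ⟨x, rfl⟩ := exists_preimage π hπ y
  have hLn := Invertible.isInvertible_tensorPow hL n
  obtain ⟨s, hs⟩ := GG.exists_genLocus_of_genAt hLn (H34.GlobGen.gl_eq_top_of_gg hg x)
  let ψ : (Scheme.Modules.pullback π).obj (CohB1.tensorPow M n) ≅ CohB1.tensorPow (CohB1.tensorPow L n) m :=
    pullbackPow π M n ≪≫ powIso e0 n ≪≫ powMul L m n ≪≫ powCongr L (mul_comm m n) ≪≫ (powMul L n m).symm
  have hge := Groth.Agent.H52.PushInv.isGen_of_iso ψ (isGen_unitSec π (Extend.isGen_powSec hb n))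
  obtain ⟨a, ha⟩ := exists_coord hge (sv (SecTwist.powHom s m) (π ⁻¹ᵁ U))
  haveI := hπ U
  obtain ⟨g, rfl⟩ := (ConcreteCategory.bijective_of_isIso (π.app U)).2 a
  have heq := genLocus_inf_eq hge _ ha
  rw [genLocus_powHom hLn s m hm, ← Scheme.preimage_basicOpen] at heq
  refine ⟨X'.basicOpen g, sv s _, ?_, ?_⟩
  · show x ∈ π ⁻¹ᵁ X'.basicOpen g
    rw [← heq]
    exact ⟨hs, hyU⟩
  · have hle : π ⁻¹ᵁ X'.basicOpen g ≤ CohB1.genLocus _ s := heq ▸ inf_le_left
    rw [← rs_sv s hle]
    exact (Basis.isGen_genLocus s).res hle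

end helpers

open AlgebraicGeometry CategoryTheory CategoryTheory.Limits in
/-- Let X and X' be proper over a field k, π : X ⟶ X' a k-morphism such that O_{X'} ⟶ π_* O_X is an
isomorphism, L an invertible O_X-module, M an ample invertible module on X' whose pullback along π
is isomorphic to L^m for some m > 0, and d > 0 such that for all large n the power L^n is globally
generated exactly when d ∣ n (d is the exponent of the semiample module L, and X' with π is the
contraction L determines). Then for e > 0 the power L^e is isomorphic to the pullback of an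
invertible module on X' if and only if d ∣ e. -/
theorem result (k : Type u) [Field k] (X X' : Scheme.{u})
    [X.Over (Spec (CommRingCat.of k))] [X'.Over (Spec (CommRingCat.of k))]
    [IsProper (X ↘ Spec (CommRingCat.of k))] [IsProper (X' ↘ Spec (CommRingCat.of k))]
    (π : X ⟶ X') (hover : π ≫ (X' ↘ Spec (CommRingCat.of k)) = X ↘ Spec (CommRingCat.of k))
    (hπ : ∀ U : X'.Opens, IsIso (π.app U))
    (L : X.Modules) (hL : PicF.IsInvertible L) (M : X'.Modules) (hM : PicF.IsInvertible M) (hMa : CohB1.IsAmple M)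
    (m : ℕ) (hm : 0 < m) (e0 : Nonempty ((Scheme.Modules.pullback π).obj M ≅ CohB1.tensorPow L m))
    (d : ℕ) (hd : 0 < d)
    (hexp : ∃ m0 : ℕ, ∀ n : ℕ, m0 ≤ n → (Curv2.IsGloballyGenerated (CohB1.tensorPow L n) ↔ d ∣ n)) :
    ∀ e : ℕ, 0 < e →
      ((∃ L' : X'.Modules, PicF.IsInvertible L' ∧ Nonempty ((Scheme.Modules.pullback π).obj L' ≅ CohB1.tensorPow L e)) ↔ d ∣ e) := by
  open Groth.Agent.Lib Groth.Agent.Lib.TensorMod Groth.Agent.Lib.Ample in
  intro e he
  obtain ⟨e0⟩ := e0
  obtain ⟨m0, hexp⟩ := hexp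
  haveI : IsProper π :=
    haveI : IsProper (π ≫ (X' ↘ Spec (CommRingCat.of k))) := by rw [hover]; infer_instance
    IsProper.of_comp π (X' ↘ Spec (CommRingCat.of k))
  have hinvL := fun n => TensorMod.Invertible.isInvertible_tensorPow hL n
  constructor
  · rintro ⟨L', hL', ⟨eL'⟩⟩
    haveI := Ample.Pullback.quasiSeparatedSpace_of_isAmple hMa
    obtain ⟨a, -, ha⟩ := Ample.GG.exists_isAmple_isGloballyGenerated hMa hL'
    obtain ⟨b, -, hb⟩ := Ample.GG.exists_isAmple_isGloballyGenerated hMa (PicLoc.isInvertible_structureModule X')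
    let j := a + b + m0
    have hj : m0 ≤ j * m := le_trans (by omega) (Nat.le_mul_of_pos_right j hm)
    have h1 : Curv2.IsGloballyGenerated (CohB1.tensorPow L (j * m + e)) :=
      UnifReg.OnX.gg_iso (TensorMod.Pullback.pullbackTensorIso π _ _ ≪≫
        TensorMod.Basic.tensorIso (Ample.Pow.pullbackPow π M j ≪≫ Ample.Pow.powIso e0 j ≪≫ Ample.Pow.powMul L m j ≪≫
          Ample.Pow.powCongr L (mul_comm m j)) eL' ≪≫ (Ample.Pow.powAdd L (j * m) e).symm)
        (UnifReg.OnX.gg_pullback π (ha j (by omega)).2)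
    have h2 : Curv2.IsGloballyGenerated (CohB1.tensorPow L (j * m)) :=
      UnifReg.OnX.gg_iso (TensorMod.Pullback.pullbackTensorIso π _ _ ≪≫
        TensorMod.Basic.tensorIso (Ample.Pow.pullbackPow π M j ≪≫ Ample.Pow.powIso e0 j ≪≫ Ample.Pow.powMul L m j ≪≫
          Ample.Pow.powCongr L (mul_comm m j)) (PicLoc.pullbackStructureIso π) ≪≫ TensorMod.Basic.rightUnit _)
        (UnifReg.OnX.gg_pullback π (hb j (by omega)).2)
    exact (Nat.dvd_add_right ((hexp _ hj).1 h2)).1 ((hexp _ (by omega)).1 h1)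
  · intro hde
    let n := d * (m0 + 1)
    have hn : m0 ≤ n := le_trans (Nat.le_succ m0) (Nat.le_mul_of_pos_left _ hd)
    have hbij : ∀ V : X'.Opens, Function.Bijective (π.app V) := fun V =>
      haveI := hπ V
      ConcreteCategory.bijective_of_isIso (π.app V)
    have key : ∀ l, m0 ≤ l → d ∣ l → PicF.IsInvertible ((Scheme.Modules.pushforward π).obj (CohB1.tensorPow L l)) ∧
        IsIso ((Scheme.Modules.pullbackPushforwardAdjunction π).counit.app (CohB1.tensorPow L l)) := fun l hl hdl =>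
      have hgen := exists_gen π hπ hL hM hm e0 ((hexp l hl).2 hdl)
      ⟨Groth.Agent.H52.PushInv.isInvertible_push π hbij hgen, Groth.Agent.H52.PushInv.isIso_counit π hbij hgen⟩
    obtain ⟨hB, iB⟩ := key n hn (dvd_mul_right d _)
    obtain ⟨hA, iA⟩ := key (e + n) (by omega) (dvd_add hde (dvd_mul_right d _))
    let A := (Scheme.Modules.pushforward π).obj (CohB1.tensorPow L (e + n))
    let B := (Scheme.Modules.pushforward π).obj (CohB1.tensorPow L n)
    let L' := CohB1.tensorMod A (TensorMod.Dual.dual B)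
    refine ⟨L', TensorMod.Invertible.isInvertible_tensorMod hA (TensorMod.Invertible.isInvertible_dual hB), ⟨?_⟩⟩
    let i1 : CohB1.tensorMod L' B ≅ A :=
      TensorMod.Basic.assoc _ _ _ ≪≫ TensorMod.Basic.tensorIso (Iso.refl A)
        (TensorMod.Basic.comm _ _ ≪≫ TensorMod.Invertible.tensorDualIso hB) ≪≫ TensorMod.Basic.rightUnit A
    let cA := @asIso _ _ _ _ ((Scheme.Modules.pullbackPushforwardAdjunction π).counit.app (CohB1.tensorPow L (e + n))) iA
    let cB := @asIso _ _ _ _ ((Scheme.Modules.pullbackPushforwardAdjunction π).counit.app (CohB1.tensorPow L n)) iB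
    exact TensorMod.Invertible.cancelRight (hinvL n)
      (TensorMod.Basic.tensorIso (Iso.refl _) cB.symm ≪≫ (TensorMod.Pullback.pullbackTensorIso π L' B).symm ≪≫
        (Scheme.Modules.pullback π).mapIso i1 ≪≫ cA ≪≫ Ample.Pow.powAdd L e n)

end Groth.Agent.S18163
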