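import Groth.Statements.S18165
import Groth.Agent.H26.EquivSection


set_option autoImplicit false
set_option maxHeartbeats 1000000
set_option linter.all false
universe u
open BSB
open Groth.Agent.H26.EquivSection

namespace Groth.Agent.S18165

open AlgebraicGeometry CategoryTheory in
/-- Let A be a Henselian local ring with residue field κ and f : X ⟶ Spec A a smooth morphism. Let a
finite group G, of order invertible in κ, act on A by ring automorphisms inducing the identity on κ,
and on X by morphisms σ_g with σ_1 = 𝟙 and σ_{gh} = σ_g ≫ σ_h, compatibly with f (σ_g ≫ f = f ≫ Spec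
of the action of g on A). If x is a κ-point of X over the closed point that is fixed by every σ_g,
then f has a section a : Spec A ⟶ X through x which is equivariant: Spec of the action of g,
followed by a, equals a followed by σ_g. -/
theorem result (A : Type u) [CommRing A] [HenselianLocalRing A]
    (X : Scheme.{u}) (f : X ⟶ Spec (CommRingCat.of A)) [Smooth f]
    (G : Type u) [Group G] [Finite G] [MulSemiringAction G A]
    (hG : IsUnit ((Nat.card G : ℕ) : IsLocalRing.ResidueField A))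
    (htriv : ∀ (g : G) (a : A), g • a - a ∈ IsLocalRing.maximalIdeal A)
    (σ : G → (X ⟶ X)) (hσ1 : σ 1 = 𝟙 X) (hσmul : ∀ g h : G, σ (g * h) = σ g ≫ σ h)
    (hσf : ∀ g : G, σ g ≫ f = f ≫ Spec.map (CommRingCat.ofHom (MulSemiringAction.toRingHom G A g)))
    (x : Spec (CommRingCat.of (IsLocalRing.ResidueField A)) ⟶ X)
    (hx : x ≫ f = Spec.map (CommRingCat.ofHom (IsLocalRing.residue A)))
    (hfix : ∀ g : G, x ≫ σ g = x) :
    ∃ a : Spec (CommRingCat.of A) ⟶ X, a ≫ f = 𝟙 _ ∧
      Spec.map (CommRingCat.ofHom (IsLocalRing.residue A)) ≫ a = x ∧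
      ∀ g : G, Spec.map (CommRingCat.ofHom (MulSemiringAction.toRingHom G A g)) ≫ a = a ≫ σ g := by
  classical
  obtain ⟨x₀, hx₀⟩ : ∃ x₀, x.base (IsLocalRing.closedPoint (IsLocalRing.ResidueField A)) = x₀ :=
    ⟨_, rfl⟩
  obtain ⟨U, hU, hxU, -⟩ := exists_isAffineOpen_mem_and_subset (x := x₀) (U := ⊤) trivial
  let L := X.presheaf.stalk x₀
  let ι : Spec L ⟶ X := X.fromSpecStalk x₀
  have hsmooth : Smooth (hU.fromSpec ≫ f) := inferInstance
  rw [← Spec.map_preimage (hU.fromSpec ≫ f), HasRingHomProperty.Spec_iff (P := @Smooth)] at hsmooth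
  let : Algebra A Γ(X, U) := (Spec.preimage (hU.fromSpec ≫ f)).hom.toAlgebra
  have : Algebra.Smooth A Γ(X, U) := hsmooth
  let := TopCat.Presheaf.algebra_section_stalk X.presheaf (⟨x₀, hxU⟩ : U)
  let : Algebra A L := ((algebraMap Γ(X, U) L).comp (algebraMap A Γ(X, U))).toAlgebra
  have : IsScalarTower A Γ(X, U) L := .of_algebraMap_eq' rfl
  have : IsLocalization (hU.primeIdealOf ⟨x₀, hxU⟩).asIdeal.primeCompl L :=
    hU.isLocalization_stalk ⟨x₀, hxU⟩
  let i : CommRingCat.of A ⟶ L := CommRingCat.ofHom (algebraMap A L)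
  have hi : Spec.map i = ι ≫ f := by
    have : i = Spec.preimage (hU.fromSpec ≫ f) ≫ X.presheaf.germ U x₀ hxU := rfl
    rw [this, Spec.map_comp, Spec.map_preimage, ← Category.assoc]
    simp only [ι, ← hU.fromSpecStalk_eq_fromSpecStalk hxU]
    rfl
  obtain ⟨π, hπloc, hπ⟩ : ∃ π : L ⟶ CommRingCat.of (IsLocalRing.ResidueField A),
      IsLocalHom π.hom ∧ Spec.map π ≫ ι = x := by
    subst hx₀
    exact ⟨Scheme.stalkClosedPointTo x, inferInstance,
      Scheme.Spec_stalkClosedPointTo_fromSpecStalk x⟩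
  have hψex : ∀ g, ∃ ψ : L ⟶ L, Spec.map ψ ≫ ι = ι ≫ σ g := by
    intro g
    have hg : (σ g).base x₀ = x₀ := by
      rw [← hx₀, ← Scheme.Hom.comp_apply, hfix]
    refine ⟨(X.presheaf.stalkCongr (.of_eq hg)).inv ≫ (σ g).stalkMap x₀, ?_⟩
    rw [Spec.map_comp, Category.assoc, ← Scheme.SpecMap_stalkMap_fromSpecStalk]
    congr 1
    simp [ι, TopCat.Presheaf.stalkCongr]
  choose ψ hψ using hψex
  have hinj : ∀ {R : CommRingCat.{u}} (a b : L ⟶ R), Spec.map a ≫ ι = Spec.map b ≫ ι → a = b :=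
    fun a b h => Spec.map_injective ((cancel_mono ι).mp h)
  have hψ1 : ψ 1 = 𝟙 L := hinj _ _ (by rw [hψ, hσ1, Spec.map_id, Category.comp_id, Category.id_comp])
  have hψmul : ∀ g h, ψ (g * h) = ψ h ≫ ψ g := fun g h => hinj _ _ (by
    rw [hψ, hσmul, Spec.map_comp, Category.assoc, hψ, ← Category.assoc, ← hψ, Category.assoc])
  have hψa : ∀ g, i ≫ ψ g = CommRingCat.ofHom (MulSemiringAction.toRingHom G A g) ≫ i := fun g => by
    apply Spec.map_injective
    rw [Spec.map_comp, Spec.map_comp, hi, ← Category.assoc, hψ, Category.assoc, hσf,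
      ← Category.assoc]
  have hψπ : ∀ g, ψ g ≫ π = π := fun g => hinj _ _ (by
    rw [Spec.map_comp, Category.assoc, hψ, ← Category.assoc, hπ, hfix])
  have hπa : i ≫ π = CommRingCat.ofHom (IsLocalRing.residue A) := by
    apply Spec.map_injective
    rw [Spec.map_comp, hi, ← Category.assoc, hπ, hx]
  obtain ⟨s, hsπ, hsg⟩ := exists_section (hU.primeIdealOf ⟨x₀, hxU⟩).asIdeal (L := L) π.hom
    (fun a => congr($hπa a)) hG htriv (fun g => (ψ g).hom) (by rw [hψ1]; rfl)
    (fun g h => by rw [hψmul]; rfl) (fun g a => congr($(hψa g) a)) (fun g l => congr($(hψπ g) l))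
  refine ⟨Spec.map (CommRingCat.ofHom s.toRingHom) ≫ ι, ?_, ?_, fun g => ?_⟩
  · rw [Category.assoc, ← hi, ← Spec.map_comp, ← Spec.map_id]
    congr 1
    exact CommRingCat.hom_ext (RingHom.ext s.commutes)
  · rw [← Category.assoc, ← Spec.map_comp, ← hπ]
    congr 2
    exact CommRingCat.hom_ext (RingHom.ext hsπ)
  · rw [Category.assoc, ← hψ, ← Category.assoc, ← Category.assoc, ← Spec.map_comp, ← Spec.map_comp]
    congr 2
    exact CommRingCat.hom_ext (RingHom.ext fun l => (hsg g l).symm)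

end Groth.Agent.S18165
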