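import Groth.Statements.S18166
import Groth.Agent.Lib.H98.BiVanish
import Groth.Agent.Lib.Exchange.RelVanish
import Groth.Agent.Lib.ZarCoh.Push
import Groth.Agent.H54.TwistFlat.Vanish
import Groth.Agent.Lib.Modules.ProjFormula
import Groth.Agent.Lib.ProjTilde.LocTriv
import Groth.Agent.Lib.Cyc.PP.Push
import Groth.Agent.S11319
-- import your own Groth.Agent.* helpers here

set_option autoImplicit false
universe u
open BSB

namespace Groth.Agent.S18166

open Groth.Agent.Lib TopologicalSpace Groth.Agent.Lib.Exchange.RelVanish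

open AlgebraicGeometry CategoryTheory CategoryTheory.Limits in
/-- Vanishing over the preimage of an affine open of the base. -/
theorem key {X Y S : Scheme.{u}} [IsNoetherian S]
    (q : Y ⟶ S) [IsProper q] (ψ : X ⟶ Y) [Flat ψ] [IsProper ψ]
    (L : X.Modules) (hLi : PicF.IsInvertible L) (N : Y.Modules) (hNi : PicF.IsInvertible N)
    (hN : RelAmple.IsRelAmple q N) (ℓ : ℕ) (hℓ : 0 < ℓ)
    (eN : (Scheme.Modules.pullback ψ).obj N ≅ CohB1.tensorPow L ℓ)
    (M : X.Modules) (hMi : PicF.IsInvertible M) (hM : RelAmple.IsRelAmple (ψ ≫ q) M)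
    (c d : ℕ) (hfib : ∀ (y : Y) (i r j : ℕ), 1 ≤ i → i ≤ c → d ≤ j →
      Subsingleton (CohIII.fiberH ψ (CohB1.tensorMod (CohB1.tensorPow L r) (CohB1.tensorPow M j)) y i))
    {V : S.Opens} (hV : IsAffineOpen V) :
    ∃ n : ℕ, ∀ (i a b : ℕ), i < c → d ≤ b → n ≤ max a b →
      Subsingleton (CohTop.HU (Coh.toAb (CohB1.tensorMod (CohB1.tensorPow L a) (CohB1.tensorPow M b)))
        (i + 1) ((ψ ≫ q) ⁻¹ᵁ V)) := by
  haveI : IsLocallyNoetherian Y := LocallyOfFiniteType.isLocallyNoetherian q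
  haveI : IsLocallyNoetherian X := LocallyOfFiniteType.isLocallyNoetherian ψ
  haveI : IsNoetherianRing Γ(S, V) := IsLocallyNoetherian.component_noetherian ⟨V, hV⟩
  letI : ((ψ ≫ q) ⁻¹ᵁ V : Scheme.{u}).Over (Spec (CommRingCat.of Γ(S, V))) := ⟨overA (ψ ≫ q) hV⟩
  haveI : IsProper ((ψ ≫ q) ∣_ V) :=
    MorphismProperty.of_isPullback (P := @IsProper) (isPullback_morphismRestrict (ψ ≫ q) V).flip
      inferInstance
  haveI : IsProper (((ψ ≫ q) ⁻¹ᵁ V : Scheme.{u}) ↘ Spec (CommRingCat.of Γ(S, V))) :=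
    inferInstanceAs (IsProper (overA (ψ ≫ q) hV))
  letI : (q ⁻¹ᵁ V : Scheme.{u}).Over (Spec (CommRingCat.of Γ(S, V))) := ⟨overA q hV⟩
  haveI : IsProper (q ∣_ V) :=
    MorphismProperty.of_isPullback (P := @IsProper) (isPullback_morphismRestrict q V).flip
      inferInstance
  haveI : IsProper ((q ⁻¹ᵁ V : Scheme.{u}) ↘ Spec (CommRingCat.of Γ(S, V))) :=
    inferInstanceAs (IsProper (overA q hV))
  let O := q ⁻¹ᵁ V
  let J := ψ ⁻¹ᵁ O
  letI : (J : Scheme.{u}).Over (Spec (CommRingCat.of Γ(S, V))) := ⟨overA (ψ ≫ q) hV⟩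
  haveI : IsProper ((J : Scheme.{u}) ↘ Spec (CommRingCat.of Γ(S, V))) :=
    inferInstanceAs (IsProper (overA (ψ ≫ q) hV))
  let N' := N.restrict O.ι
  let L' := L.restrict J.ι
  have hN'i : PicF.IsInvertible N' := (hN.2 ⟨V, hV⟩).1
  have hL'i : PicF.IsInvertible L' :=
    ProjTilde.LocTriv.isInvertible_restrict J fun x _ => hLi x
  obtain ⟨d₁, hd₁, T, s, -, hcov⟩ := Ample.GG.exists_common_pow (hN.2 ⟨V, hV⟩)
  let e₁ : (Scheme.Modules.pullback (ψ ∣_ O)).obj N' ≅ CohB1.tensorPow L' ℓ :=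
    (Scheme.Modules.pullback (ψ ∣_ O)).mapIso ((Scheme.Modules.restrictFunctorIsoPullback O.ι).app N) ≪≫
      (Scheme.Modules.pullbackComp (ψ ∣_ O) O.ι).app N ≪≫
      (Scheme.Modules.pullbackCongr (morphismRestrict_ι ψ O)).app N ≪≫
      ((Scheme.Modules.pullbackComp J.ι ψ).app N).symm ≪≫
      (Scheme.Modules.pullback J.ι).mapIso eN ≪≫
      ((Scheme.Modules.restrictFunctorIsoPullback J.ι).app _).symm ≪≫
      Ample.Pow.restrictPow J.ι L ℓ
  let e₂ : (Scheme.Modules.pullback (ψ ∣_ O)).obj (CohB1.tensorPow N' d₁) ≅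
      CohB1.tensorPow L' (ℓ * d₁) :=
    Ample.Pow.pullbackPow _ _ d₁ ≪≫ Ample.Pow.powIso e₁ d₁ ≪≫ Ample.Pow.powMul L' ℓ d₁
  let u := PicLoc.pullbackStructureIso (ψ ∣_ O)
  let s' : Fin T → (Coh.structureModule (J : Scheme.{u}) ⟶ CohB1.tensorPow L' (ℓ * d₁)) := fun t =>
    (u.symm.hom ≫ (Scheme.Modules.pullback (ψ ∣_ O)).map (s t)) ≫ e₂.hom
  have hcov' : ∀ x, ∃ t, x ∈ CohB1.genLocus _ (s' t) := fun x => by
    obtain ⟨t, ht⟩ := hcov ((ψ ∣_ O) x)
    refine ⟨t, ?_⟩
    rw [Ample.GenLocus.genLocus_comp_iso, Ample.GenLocus.genLocus_pullback _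
      (TensorMod.Invertible.isInvertible_tensorPow hN'i d₁)]
    exact ht
  obtain ⟨n₁, hn₁⟩ := H98.BiVanish.exists_vanish_of_sections Γ(S, V)
    (F := Coh.structureModule (J : Scheme.{u})) hL'i (Nat.mul_pos hℓ hd₁) s' hcov' (hM.2 ⟨V, hV⟩)
    (Ample.GG.isCoh_of_isInvertible (TensorMod.Invertible.isInvertible_tensorPow hL'i 0))
  let G : ℕ → ℕ → X.Modules := fun a b =>
    CohB1.tensorMod (CohB1.tensorPow L a) (CohB1.tensorPow M b)
  have hGi : ∀ a b, PicF.IsInvertible (G a b) := fun a b =>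
    TensorMod.Invertible.isInvertible_tensorMod (TensorMod.Invertible.isInvertible_tensorPow hLi a)
      (TensorMod.Invertible.isInvertible_tensorPow hMi b)
  have hbig : ∀ (i a b : ℕ), n₁ ≤ b →
      Subsingleton (CohTop.HU (Coh.toAb (G a b)) (i + 1) ((ψ ≫ q) ⁻¹ᵁ V)) := fun i a b hb => by
    have h0 := hn₁ b hb a i
    haveI : Subsingleton (Coh.HH _ ((G a b).restrict J.ι) (i + 1)) :=
      @Equiv.subsingleton _ _ (Curves.LES.isoK Γ(S, V) (TensorMod.Pullback.restrictTensorIso J.ι _ _ ≪≫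
        TensorMod.Basic.tensorIso (Ample.Pow.restrictPow _ L a) (Ample.Pow.restrictPow _ M b) ≪≫
        (TensorMod.Basic.leftUnit _).symm) (i + 1)).toEquiv h0
    have h := (ZarCoh.Morph.openEquiv J.ι (G a b) (i + 1)).symm.toEquiv.subsingleton
    rw [Scheme.Opens.ι_image_top] at h
    exact h
  have hvan : ∀ (i a b : ℕ), i ≤ c → d ≤ b →
      ZarCoh.Push.Van ψ.base {W | IsAffineOpen (W : Y.Opens)} (Coh.toAb (G a b)) i :=
      fun i a b hi hb W hW p hp => by
    have hl : FlatMod.IsFinLocFree (G a b) :=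
      TensorMod.LocFree.of_rank (TensorMod.LocFree.of_isInvertible (hGi a b))
    haveI : (G a b).IsQuasicoherent := (Ample.GG.isCoh_of_isInvertible (hGi a b)).1
    haveI : LocallyOfFinitePresentation ψ := inferInstance
    have h := Groth.Agent.H54.TwistFlat.subsingleton_HHon ψ (G a b)
      (TensorMod.FPConv.isFP_of_isFinLocFree hl)
      (_root_.ZarCoh.Exchange.NearFibre.isFlatOver_of_isFinLocFree ψ hl) (p + 1) hW fun y _ => by
        haveI := hfib y (p + 1) a b (by omega) (by omega) hb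
        exact Module.finrank_zero_of_subsingleton
    obtain ⟨e⟩ := ZarCoh.Morph.nonempty_HHon_equiv (G a b) (ψ ⁻¹ᵁ W) (p + 1)
    exact e.symm.toEquiv.subsingleton
  have hsmall : ∀ (r b : ℕ), ∃ m₀, ∀ m, m₀ ≤ m → ∀ i, i < c → d ≤ b →
      Subsingleton (CohTop.HU (Coh.toAb (G (ℓ * m + r) b)) (i + 1) ((ψ ≫ q) ⁻¹ᵁ V)) := fun r b => by
    let H := (Coh.push ψ).obj (G r b)
    have hH : Coh.IsCoh H := Cyc.PP.Push.isCoh_push ψ (Ample.GG.isCoh_of_isInvertible (hGi r b))
    obtain ⟨m₀, hm₀⟩ := Groth.Agent.H78.Existence.AmpleVanish.exists_subsingleton Γ(S, V)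
      (hN.2 ⟨V, hV⟩) (CohBasics.Closure.isCoh_of_iso
        ((Scheme.Modules.restrictFunctorIsoPullback O.ι).app H).symm
        (Cyc.FP.Stalk.isCoh_pullback O.ι hH))
    refine ⟨m₀, fun m hm i hi hb => ?_⟩
    let eP : CohB1.tensorMod H (CohB1.tensorPow N m) ≅ (Coh.push ψ).obj (G (ℓ * m + r) b) :=
      TensorMod.Basic.comm _ _ ≪≫
        (Modules.ProjFormula.projIso ψ (Modules.DualBasis.hasDBases_of_isFinLocFree
          (TensorMod.LocFree.of_rank (TensorMod.LocFree.of_isInvertible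
            (TensorMod.Invertible.isInvertible_tensorPow hNi m))))).app (G r b) ≪≫
        (Coh.push ψ).mapIso (TensorMod.Basic.tensorIso
            (Ample.Pow.pullbackPow ψ N m ≪≫ Ample.Pow.powIso eN m ≪≫ Ample.Pow.powMul L ℓ m)
            (Iso.refl _) ≪≫
          (TensorMod.Basic.assoc _ _ _).symm ≪≫
          TensorMod.Basic.tensorIso (Ample.Pow.powAdd L (ℓ * m) r).symm (Iso.refl _))
    haveI := hm₀ m hm i
    haveI : Subsingleton (Coh.HH _ (((Coh.push ψ).obj (G (ℓ * m + r) b)).restrict O.ι) (i + 1)) :=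
      (Curves.LES.isoK Γ(S, V) ((Scheme.Modules.restrictFunctor O.ι).mapIso eP.symm ≪≫
        TensorMod.Pullback.restrictTensorIso O.ι _ _ ≪≫
        TensorMod.Basic.tensorIso (Iso.refl _) (Ample.Pow.restrictPow _ N m)) (i + 1)).toEquiv.subsingleton
    have h := (ZarCoh.Morph.openEquiv O.ι ((Coh.push ψ).obj (G (ℓ * m + r) b)) (i + 1)).symm.toEquiv.subsingleton
    rw [Scheme.Opens.ι_image_top] at h
    have hb2 := (ZarCoh.Push.bijective_and_injective (f := ψ.base) O Y.isBasis_affineOpens (i + 1)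
      (Coh.toAb (G (ℓ * m + r) b)) (hvan (i + 1) _ b (by omega) hb)).1
    exact @Function.Surjective.subsingleton _ _ _ h hb2.2
  choose m₀ hm₀ using hsmall
  refine ⟨max n₁ (ℓ * ((Finset.range ℓ ×ˢ Finset.range n₁).sup (fun p => m₀ p.1 p.2) + 1)),
    fun i a b hi hb h => ?_⟩
  by_cases hb₁ : n₁ ≤ b
  · exact hbig i a b hb₁
  · have hr := Nat.mod_lt a hℓ
    have hle : m₀ (a % ℓ) b ≤ a / ℓ := by
      refine (Finset.le_sup (f := fun p : ℕ × ℕ => m₀ p.1 p.2) (b := (a % ℓ, b))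
        (Finset.mem_product.2 ⟨Finset.mem_range.2 hr, Finset.mem_range.2 (not_le.1 hb₁)⟩)).trans ?_
      rw [Nat.le_div_iff_mul_le hℓ]
      have h' : max n₁ (ℓ * ((Finset.range ℓ ×ˢ Finset.range n₁).sup (fun p => m₀ p.1 p.2) + 1)) ≤ a := by
        rcases le_max_iff.1 h with h | h
        · exact h
        · exact absurd ((le_max_left _ _).trans h) hb₁
      have := (le_max_right _ _).trans h'
      nlinarith
    have := hm₀ (a % ℓ) b (a / ℓ) hle i hi hb
    rwa [Nat.div_add_mod] at this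

open AlgebraicGeometry CategoryTheory CategoryTheory.Limits in
/-- Let S be a Noetherian scheme, π : X ⟶ S and q : Y ⟶ S proper, ψ : X ⟶ Y a flat S-morphism with O_Y ⟶
ψ_* O_X an isomorphism, L an invertible O_X-module and N an invertible O_Y-module ample relative to
q with ψ^* N ≅ L^ℓ for some ℓ > 0 (over affine opens of S the module L is then semiample and ψ is
the flat contraction it determines), and M an invertible O_X-module ample relative to π. If c and d
are such that H^i(X_y, (L^r ⊗ M^j) restricted to X_y) = 0 for every point y of Y, all r ≥ 0, all 1 ≤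
i ≤ c and all j ≥ d, then there is n with R^i π_* (L^a ⊗ M^b) = 0 for all 1 ≤ i ≤ c and all a, b
with b ≥ d and max(a, b) ≥ n. (The published statement asks the fibrewise vanishing only for the
powers M^j, that is for r = 0; since L restricted to a fibre of ψ is merely a torsion module of
order dividing ℓ, that is not enough: for a curve of genus two over a field, with ψ = π its
structure morphism, ℓ = 2, L a non-trivial invertible module with L^2 trivial and M the canonical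
module twisted by L, the published hypothesis holds with c = d = 1 while H^1(L^a ⊗ M) ≠ 0 for every
odd a. The published proof uses the vanishing of the higher direct images under ψ, in degrees 1 to
c, of the twists L^e ⊗ M^b with 0 ≤ e < ℓ, which is what the fibrewise hypothesis of this row
supplies through cohomology and base change; as L^ℓ is trivial on the fibres of ψ, asking it for all
r ≥ 0 is the same as asking it for 0 ≤ r < ℓ. The instance argument recording injective resolutions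
of O_X-modules is true but not yet in Mathlib.) -/
theorem result {X Y S : Scheme.{u}} [IsNoetherian S]
    (π : X ⟶ S) [IsProper π] (q : Y ⟶ S) [IsProper q] (ψ : X ⟶ Y) [Flat ψ] (hψ : ψ ≫ q = π)
    (hψO : ∀ U : Y.Opens, IsIso (ψ.app U)) [HasInjectiveResolutions X.Modules]
    (L : X.Modules) (hLi : PicF.IsInvertible L) (N : Y.Modules) (hNi : PicF.IsInvertible N) (hN : RelAmple.IsRelAmple q N)
    (ℓ : ℕ) (hℓ : 0 < ℓ) (eN : Nonempty ((Scheme.Modules.pullback ψ).obj N ≅ CohB1.tensorPow L ℓ))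
    (M : X.Modules) (hMi : PicF.IsInvertible M) (hM : RelAmple.IsRelAmple π M)
    (c d : ℕ) (hfib : ∀ (y : Y) (i r j : ℕ), 1 ≤ i → i ≤ c → d ≤ j →
      Subsingleton (CohIII.fiberH ψ (CohB1.tensorMod (CohB1.tensorPow L r) (CohB1.tensorPow M j)) y i)) :
    ∃ n : ℕ, ∀ (i a b : ℕ), 1 ≤ i → i ≤ c → d ≤ b → n ≤ max a b →
      IsZero ((Coh.Rpush π i).obj (CohB1.tensorMod (CohB1.tensorPow L a) (CohB1.tensorPow M b))) := by
  classical
  subst hψ
  obtain ⟨eN⟩ := eN
  haveI : IsProper ψ := IsProper.of_comp ψ q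
  choose V hV hxV using fun x : S =>
    (exists_isAffineOpen_mem_and_subset (X := S) (x := x) (U := ⊤) trivial).imp
      fun V hV => And.intro hV.1 hV.2.1
  obtain ⟨T, hT⟩ := isCompact_univ.elim_finite_subcover (fun x => (V x : Set S))
    (fun x => (V x).2) fun x _ => Set.mem_iUnion.2 ⟨x, hxV x⟩
  choose n₀ hn₀ using fun x => key q ψ L hLi N hNi hN ℓ hℓ eN M hMi hM c d hfib (hV x)
  refine ⟨T.sup n₀, fun i a b hi hic hb h => ?_⟩
  obtain ⟨p, rfl⟩ := Nat.exists_eq_add_of_le' hi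
  have hGi := TensorMod.Invertible.isInvertible_tensorMod
    (TensorMod.Invertible.isInvertible_tensorPow hLi a) (TensorMod.Invertible.isInvertible_tensorPow hMi b)
  haveI : (CohB1.tensorMod (CohB1.tensorPow L a) (CohB1.tensorPow M b)).IsQuasicoherent :=
    (Ample.GG.isCoh_of_isInvertible hGi).1
  obtain ⟨e⟩ := Groth.Agent.S11319.result (ψ ≫ q)
    (CohB1.tensorMod (CohB1.tensorPow L a) (CohB1.tensorPow M b)) (p + 1)
  refine (IsZero.iff_id_eq_zero _).2 ((SheafOfModules.toSheaf _).map_injective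
    ((IsZero.of_iso ?_ e).eq_of_src _ _))
  refine ZarCoh.RpushVanish.isZero_RpushAb (ψ ≫ q).base
    (B := {W | ∃ x ∈ T, IsAffineOpen (W : S.Opens) ∧ W ≤ V x}) ?_ p ?_
  · refine Opens.isBasis_iff_nbhd.2 fun {U y} hy => ?_
    obtain ⟨x, hx, hyx⟩ := Set.mem_iUnion₂.1 (hT (Set.mem_univ y))
    obtain ⟨W, hW, hyW, hle⟩ := exists_isAffineOpen_mem_and_subset (U := U ⊓ V x) (x := y) ⟨hy, hyx⟩
    exact ⟨W, ⟨x, hx, hW, fun z hz => (hle hz).2⟩, hyW, fun z hz => (hle hz).1⟩
  · rintro W ⟨x, hx, hW, hWV⟩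
    refine subsingleton_preimage_of_le (ψ ≫ q) _ (hV x) hW hWV (p + 1) ?_
    refine @Equiv.subsingleton _ _
      (ZarCoh.Morph.openEquiv ((ψ ≫ q) ⁻¹ᵁ V x).ι _ (p + 1)).toEquiv ?_
    rw [Scheme.Opens.ι_image_top]
    exact hn₀ x p a b (by omega) hb ((Finset.le_sup hx).trans h)

end Groth.Agent.S18166
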