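import Groth.Statements.S1817
import Groth.Agent.Lib.RGamma.Adj

set_option autoImplicit false
universe u
open CategoryTheory
attribute [local instance] HasDerivedCategory.standard
open LocCoh

namespace Groth.Agent.S1817

/-- First statement, for a Noetherian ring (where the functor with supports in V(I) is RΓ_I). Let A be a
Noetherian ring and I an ideal, and assume RΓ_I exists as a total right derived functor. Then every
RΓ_I(K) has I-power torsion cohomology modules, and the resulting functor from D(A) to the full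
subcategory of such objects is right adjoint to the inclusion. -/
theorem result (A : Type u) [CommRing A] [IsNoetherianRing A] (I : Ideal A) [DRing.HasRgammaI I] : ∃ h : ∀ K : Dual.D A, (fun L : Dual.D A => ∀ i : ℤ, LocCoh.IsPowerTorsion I (Dual.HD A L i)) ((DRing.RgammaI I).obj K), Nonempty (ObjectProperty.ι (fun L : Dual.D A => ∀ i : ℤ, LocCoh.IsPowerTorsion I (Dual.HD A L i)) ⊣ ObjectProperty.lift (fun L : Dual.D A => ∀ i : ℤ, LocCoh.IsPowerTorsion I (Dual.HD A L i)) (DRing.RgammaI I) h) := by
  let P : ObjectProperty (Dual.D A) :=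
    fun L : Dual.D A => ∀ i : ℤ, LocCoh.IsPowerTorsion I (Dual.HD A L i)
  have hP : ∀ K, P ((DRing.RgammaI I).obj K) :=
    Groth.Agent.Lib.RGamma.isPowerTorsion_HD_RgammaI I
  have hε : ∀ L : Dual.D A, P L → IsIso ((DRing.RgammaIε I).app L) := fun L hL => by
    obtain ⟨J, hJ, hinj, ⟨e⟩⟩ := Groth.Agent.Lib.RGamma.exists_rep L
    rw [NatTrans.isIso_app_iff_of_iso _ e]
    have := Groth.Agent.Lib.RGamma.isIso_unit_of_isKInjective I J
    rw [Groth.Agent.Lib.RGamma.isIso_ε_app_iff]
    obtain ⟨l, hl⟩ := Groth.Agent.Lib.RGamma.exists_ide_eq (IsNoetherian.noetherian I)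
    subst hl
    refine Groth.Agent.Lib.RGamma.quasiIso_gamι l J (fun i =>
      Groth.Agent.Lib.RGamma.good_of_injective l _
        (Module.injective_module_of_injective_object A _ (inj := hinj i))) (fun f hf i a => ?_)
    let ε := ((DerivedCategory.homologyFunctor (ModuleCat.{u} A) i).mapIso e ≪≫
      Groth.Agent.Lib.RGamma.hdIso J i).toLinearEquiv
    obtain ⟨n, hn⟩ := hL i (ε.symm a)
    refine ⟨n, ε.symm.injective ?_⟩
    rw [map_smul, map_zero]
    exact hn _ (Ideal.pow_mem_pow (Groth.Agent.Lib.RGamma.mem_ide hf) n)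
  have hb : ∀ (L : P.FullSubcategory) (K : Dual.D A), Function.Bijective
      fun h : L ⟶ (ObjectProperty.lift P (DRing.RgammaI I) hP).obj K =>
        h.hom ≫ (DRing.RgammaIε I).app K := by
    intro L K
    have := hε L.obj L.property
    refine ⟨fun h₁ h₂ hh => ?_, fun g => ⟨ObjectProperty.homMk
      (inv ((DRing.RgammaIε I).app L.obj) ≫ (DRing.RgammaI I).map g), ?_⟩⟩
    · apply ObjectProperty.hom_ext
      have h := congrArg (DRing.RgammaI I).map hh
      simp only [Functor.map_comp] at h
      have := Groth.Agent.Lib.RGamma.isIso_map_ε I K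
      have := hε ((DRing.RgammaI I).obj K) (hP K)
      have h' := (cancel_mono _).1 h
      have n1 := (DRing.RgammaIε I).naturality h₁.hom
      have n2 := (DRing.RgammaIε I).naturality h₂.hom
      rw [h'] at n1
      exact (cancel_epi ((DRing.RgammaIε I).app L.obj)).1 (n1.symm.trans n2)
    · show (inv ((DRing.RgammaIε I).app L.obj) ≫ (DRing.RgammaI I).map g) ≫
        (DRing.RgammaIε I).app K = g
      rw [Category.assoc]
      exact (congrArg (inv ((DRing.RgammaIε I).app L.obj) ≫ ·)
        ((DRing.RgammaIε I).naturality g)).trans (IsIso.inv_hom_id_assoc _ _)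
  refine ⟨hP, ⟨Adjunction.mkOfHomEquiv
    { homEquiv := fun L K => (Equiv.ofBijective _ (hb L K)).symm
      homEquiv_naturality_left_symm := fun {L L' K} f g => ?_
      homEquiv_naturality_right := fun {L K K'} f g => ?_ }⟩⟩
  · show (f ≫ g).hom ≫ _ = f.hom ≫ g.hom ≫ _
    exact Category.assoc _ _ _
  · apply (hb L K').1
    show ((Equiv.ofBijective _ (hb L K')).symm (f ≫ g)).hom ≫ _ =
      (((Equiv.ofBijective _ (hb L K)).symm f).hom ≫ (DRing.RgammaI I).map g) ≫ _
    refine ((Equiv.ofBijective _ (hb L K')).apply_symm_apply (f ≫ g)).trans ?_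
    refine Eq.trans ?_ ((Category.assoc _ _ _).trans
      (congrArg (_ ≫ ·) ((DRing.RgammaIε I).naturality g))).symm
    exact (congrArg (· ≫ g) ((Equiv.ofBijective _ (hb L K)).apply_symm_apply f).symm).trans
      (Category.assoc _ _ _)

end Groth.Agent.S1817
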