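import Groth.Statements.S18175
import Groth.Agent.Lib.FunFld.LinSer.Members
-- import your own Groth.Agent.* helpers here

set_option autoImplicit false
open FunFld

namespace Groth.Agent.S18175
open Groth.Agent.Lib.FunFld.LinSer

/-- Let `k` be an algebraically closed field of characteristic zero and `K/k` a function field of one
variable (the function field of a smooth projective curve over `k`). A `g^r_d` is a divisor `D` of
degree `d` with a subspace `V ⊆ L(D)` of dimension `r + 1`; for a place `P` and `n ≥ 0`, `V(-nP) = V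
∩ L(D - nP)` is the space of members vanishing to order at least `n` at `P`, so `dim V(-nP)` counts
the vanishing orders `m_0 < ⋯ < m_r` of `V` at `P` that are at least `n`, and the weight of `V` at
`P` is `∑_{n=1}^{d} dim V(-nP) - r(r+1)/2`. Assume `K` has genus `0` and the `g^r_d` `(D, V)` has at
least a cusp at the place `Q` (`dim V(-2Q) ≥ r`), and let `P, P'` be places other than `Q`. Then up
to a constant factor there is at most one member of `V` vanishing only at `P` and `P'`: if `f, g ∈
V` are nonzero and the divisors `div f + D`, `div g + D` are both supported on `{P, P'}`, then `g =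
c f` for some `c ∈ k`. (In the source `Q` is the point where the rational component `Y` meets a
chain of curves ending in a curve of positive genus, a situation that forces the cusp condition
assumed here.) (The source states this for curves over the complex numbers.) -/
theorem result
    (k : Type*) [Field k] [IsAlgClosed k] [CharZero k]
    (K : Type*) [Field K] [Algebra k K] (hK : FunFld.IsFunctionField k K) (hg0 : FunFld.genus k K = 0)
    (d r : ℕ) (D : FunFld.Divisor k K) (hD : D.deg = d)
    (V : Submodule k K) (hV : V ≤ FunFld.L D) (hVr : Module.finrank k ↥V = r + 1)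
    (Q : FunFld.Place k K) (hcusp : r ≤ Module.finrank k ↥(V ⊓ FunFld.L (D - Finsupp.single Q ((2 : ℤ)))))
    (P P' : FunFld.Place k K) (hP : P ≠ Q) (hP' : P' ≠ Q)
    (f g : K) (hf : f ∈ V) (hg : g ∈ V) (hf0 : f ≠ 0) (hg0' : g ≠ 0)
    (hfs : ∀ R : FunFld.Place k K, R ≠ P → R ≠ P' → (FunFld.div k f + D) R = 0)
    (hgs : ∀ R : FunFld.Place k K, R ≠ P → R ≠ P' → (FunFld.div k g + D) R = 0) :
    ∃ c : k, g = c • f := by
  by_cases hc : ∃ c : k, g = c • f
  · exact hc
  exfalso
  have hne : ∀ {a : K}, a ≠ 0 → a ∈ V → 0 ≤ FunFld.div k a + D := fun ha h =>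
    ((Groth.Agent.Lib.FunFld.Degree.mem_L_iff_div hK).mp (hV h)).resolve_left ha
  have hEf := hne hf0 hf
  have hEg := hne hg0' hg
  have hdeg : ∀ a : K, (FunFld.div k a + D).deg = (d : ℤ) := fun a => by
    rw [Groth.Agent.Lib.FunFld.Degree.deg_add, Groth.Agent.Lib.FunFld.Degree.deg_div hK, hD, zero_add]
  rcases eq_or_ne P P' with rfl | hPP
  · have key : ∀ a : K, (∀ R, R ≠ P → R ≠ P → (FunFld.div k a + D) R = 0) →
        FunFld.div k a + D = Finsupp.single P (d : ℤ) := fun a ha => by
      have h : FunFld.div k a + D = Finsupp.single P ((FunFld.div k a + D) P) := by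
        ext R
        rcases eq_or_ne R P with rfl | hR
        · simp
        · rw [Finsupp.single_eq_of_ne hR]; exact ha R hR hR
      have h' := hdeg a
      rw [h, Groth.Agent.Lib.FunFld.Degree.deg_single, Groth.Agent.Lib.FunFld.Rational.deg_eq_one hK] at h'
      rw [h]
      congr 1
      simpa using h'
    exact hc (Members.eq_smul_of_div_eq hK hf0 hg0' ((key f hfs).trans (key g hgs).symm))
  have key : ∀ a : K, 0 ≤ FunFld.div k a + D →
      (∀ R, R ≠ P → R ≠ P' → (FunFld.div k a + D) R = 0) →
      ∃ n : ℕ, n ≤ d ∧ FunFld.div k a + D = Finsupp.single P (n : ℤ) + Finsupp.single P' ((d - n : ℕ) : ℤ) := by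
    intro a ha has
    have h : FunFld.div k a + D = Finsupp.single P ((FunFld.div k a + D) P) +
        Finsupp.single P' ((FunFld.div k a + D) P') := by
      ext R
      rcases eq_or_ne R P with rfl | hR
      · simp [Finsupp.single_eq_of_ne hPP]
      · rcases eq_or_ne R P' with rfl | hR'
        · simp [Finsupp.single_eq_of_ne hR]
        · rw [has R hR hR']; simp [Finsupp.single_eq_of_ne hR, Finsupp.single_eq_of_ne hR']
    have h' := hdeg a
    rw [h, Groth.Agent.Lib.FunFld.Degree.deg_add, Groth.Agent.Lib.FunFld.Degree.deg_single,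
      Groth.Agent.Lib.FunFld.Degree.deg_single, Groth.Agent.Lib.FunFld.Rational.deg_eq_one hK,
      Groth.Agent.Lib.FunFld.Rational.deg_eq_one hK] at h'
    have e1 := Finsupp.le_def.mp ha P
    have e2 := Finsupp.le_def.mp ha P'
    simp only [Finsupp.coe_zero, Pi.zero_apply] at e1 e2
    refine ⟨((FunFld.div k a + D) P).toNat, by omega, h.trans ?_⟩
    rw [show (((FunFld.div k a + D) P).toNat : ℤ) = (FunFld.div k a + D) P by omega,
      show ((d - ((FunFld.div k a + D) P).toNat : ℕ) : ℤ) = (FunFld.div k a + D) P' by omega]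
  obtain ⟨a, had, hfa⟩ := key f hEf hfs
  obtain ⟨a', ha'd, hga⟩ := key g hEg hgs
  have hmem : ∀ {x : K} {n : ℕ}, x ≠ 0 →
      FunFld.div k x + D = Finsupp.single P (n : ℤ) + Finsupp.single P' ((d - n : ℕ) : ℤ) →
      x ∈ FunFld.L (D - Finsupp.single P (n : ℤ)) ∧
        x ∈ FunFld.L (D - Finsupp.single P' ((d - n : ℕ) : ℤ)) := by
    intro x n hx h
    constructor <;> refine (Groth.Agent.Lib.FunFld.Degree.mem_L_iff_div hK).mpr (Or.inr ?_)
    · rw [← add_sub_assoc, h, add_sub_cancel_left, Finsupp.single_nonneg]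
      exact Int.natCast_nonneg _
    · rw [← add_sub_assoc, h, add_sub_cancel_right, Finsupp.single_nonneg]
      exact Int.natCast_nonneg _
  rcases lt_trichotomy a' a with hlt | rfl | hlt
  · refine Chain.unique_supported hK hg0 hD hV hVr hcusp hP hP' hPP hf hg hf0 hg0' had hlt
      (hmem hf0 hfa).1 (hmem hf0 hfa).2 (hmem hg0' hga).1 (hmem hg0' hga).2 ?_
    rw [linearIndependent_fin2]
    refine ⟨by simpa using hg0', fun s hs => hc ⟨s⁻¹, ?_⟩⟩
    have hs0 : s ≠ 0 := by rintro rfl; simp [eq_comm, hf0] at hs
    simp only [Matrix.cons_val_one, Matrix.cons_val_zero] at hs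
    rw [← hs, inv_smul_smul₀ hs0]
  · exact hc (Members.eq_smul_of_div_eq hK hf0 hg0' (hfa.trans hga.symm))
  · refine Chain.unique_supported hK hg0 hD hV hVr hcusp hP hP' hPP hg hf hg0' hf0 ha'd hlt
      (hmem hg0' hga).1 (hmem hg0' hga).2 (hmem hf0 hfa).1 (hmem hf0 hfa).2 ?_
    rw [linearIndependent_fin2]
    refine ⟨by simpa using hf0, fun s hs => hc ⟨s, ?_⟩⟩
    simpa using hs.symm

end Groth.Agent.S18175
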