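import Groth.Statements.S18177
import Groth.Agent.Lib.FunFld.LinSer.Members
-- import your own Groth.Agent.* helpers here

set_option autoImplicit false
open FunFld

namespace Groth.Agent.S18177
open Groth.Agent.Lib.FunFld.LinSer

/-- Let `k` be an algebraically closed field of characteristic zero and `K/k` a function field of one
variable (the function field of a smooth projective curve over `k`). A `g^r_d` is a divisor `D` of
degree `d` with a subspace `V ⊆ L(D)` of dimension `r + 1`; for a place `P` and `n ≥ 0`, `V(-nP) = V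
∩ L(D - nP)` is the space of members vanishing to order at least `n` at `P`, so `dim V(-nP)` counts
the vanishing orders `m_0 < ⋯ < m_r` of `V` at `P` that are at least `n`, and the weight of `V` at
`P` is `∑_{n=1}^{d} dim V(-nP) - r(r+1)/2`. Let `(D, V)` be a `g^r_d` with `r ≥ 1` and `P ≠ Q`
places at which the weights are large: `w(V, P) + w(V, Q) ≥ (r+1)(d-r) - (r-1)`, that is `(r+1)d + 1
≤ ∑_{n=1}^{d} dim V(-nP) + ∑_{n=1}^{d} dim V(-nQ) + r`. Then `V` contains members with divisors `m_i
Q + (d - m_i) P` for two different indices `i`, and hence `m(Q - P)` is a principal divisor for some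
`1 ≤ m ≤ d`. (In the source `K` is an elliptic tail of a degenerate curve, `P` its node and `Q` the
limit of the moving ramification point, the weight hypothesis coming from `ρ ≤ 0`; it concludes that
only finitely many `Q` are possible. The torsion assertion holds in any genus and is what is stated
here.) (The source states this for curves over the complex numbers.) -/
theorem result
    (k : Type*) [Field k] [IsAlgClosed k] [CharZero k]
    (K : Type*) [Field K] [Algebra k K] (hK : FunFld.IsFunctionField k K)
    (d r : ℕ) (hr : 1 ≤ r) (D : FunFld.Divisor k K) (hD : D.deg = d)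
    (V : Submodule k K) (hV : V ≤ FunFld.L D) (hVr : Module.finrank k ↥V = r + 1)
    (P Q : FunFld.Place k K) (hPQ : P ≠ Q)
    (hw : (r + 1) * d + 1 ≤
      (∑ n ∈ Finset.range d, Module.finrank k ↥(V ⊓ FunFld.L (D - Finsupp.single P ((n : ℤ) + 1)))) +
        (∑ n ∈ Finset.range d, Module.finrank k ↥(V ⊓ FunFld.L (D - Finsupp.single Q ((n : ℤ) + 1)))) + r) :
    ∃ m : ℕ, 1 ≤ m ∧ m ≤ d ∧ ∃ h : K, h ≠ 0 ∧
      FunFld.div k h = Finsupp.single Q (m : ℤ) - Finsupp.single P (m : ℤ) := by
  classical
  have hFP := Basic.isDimFun hK hD hV hVr P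
  have hFQ := Basic.isDimFun hK hD hV hVr Q
  set a := Orders.seq hFP with ha
  set b := fun i => Orders.seq hFQ (Fin.rev i) with hb
  have hle : ∀ i, a i + b i ≤ d := by
    intro i
    by_contra hlt
    have h := Basic.van_add_van_le hK hD hVr hPQ (a := (a i : ℤ)) (b := (b i : ℤ)) (by omega)
    have h1 : Basic.van V D P (a i : ℤ) = r + 1 - (i : ℕ) := Orders.F_seq hFP i
    have h2 : Basic.van V D Q (b i : ℤ) = r + 1 - (Fin.rev i : ℕ) := Orders.F_seq hFQ _
    have := i.2
    simp only [Fin.val_rev] at h2
    omega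
  have hmem : ∀ i, a i + b i = d → ∃ f, f ≠ 0 ∧
      FunFld.div k f + D = Finsupp.single P (a i : ℤ) + Finsupp.single Q (b i : ℤ) := by
    intro i hi
    have h1 : Basic.van V D P (a i : ℤ) = r + 1 - (i : ℕ) := Orders.F_seq hFP i
    have h2 : Basic.van V D Q (b i : ℤ) = r + 1 - (Fin.rev i : ℕ) := Orders.F_seq hFQ _
    have := i.2
    simp only [Fin.val_rev] at h2
    obtain ⟨f, -, hf0, hf1, hf2⟩ := Members.exists_mem (P := P) (Q := Q) (D := D) hVr
      (a := (a i : ℤ)) (b := (b i : ℤ)) (by omega)
    exact ⟨f, hf0, Members.div_add_eq hK hD hPQ hf0 (by omega) hf1 hf2⟩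
  have htwo : 1 < (Finset.univ.filter fun i => a i + b i = d).card := by
    by_contra hcard
    have hsum : ∑ i, (a i + b i + if a i + b i = d then 0 else 1) ≤ ∑ _i : Fin (r + 1), d :=
      Finset.sum_le_sum fun i _ => by have := hle i; split_ifs <;> omega
    have hc : ∑ i, (if a i + b i = d then 0 else 1) + (Finset.univ.filter fun i => a i + b i = d).card
        = r + 1 := by
      have h := Finset.card_filter_add_card_filter_not (s := (Finset.univ : Finset (Fin (r + 1))))
        (fun i => a i + b i = d)
      rw [Finset.card_univ, Fintype.card_fin] at h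
      rw [Finset.sum_ite, Finset.sum_const_zero, zero_add, Finset.sum_const, smul_eq_mul, mul_one]
      omega
    rw [Finset.sum_add_distrib, Finset.sum_add_distrib, Finset.sum_const, Finset.card_univ,
      Fintype.card_fin, smul_eq_mul] at hsum
    have e1 : ∑ i, a i = ∑ n ∈ Finset.range d,
        Module.finrank k ↥(V ⊓ FunFld.L (D - Finsupp.single P ((n : ℤ) + 1))) := by
      rw [ha, ← Orders.sum_F_eq_sum_seq hFP]; simp [Basic.van]
    have e2 : ∑ i, b i = ∑ n ∈ Finset.range d,
        Module.finrank k ↥(V ⊓ FunFld.L (D - Finsupp.single Q ((n : ℤ) + 1))) := by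
      rw [hb, show (∑ i, (fun i => Orders.seq hFQ (Fin.rev i)) i) = ∑ i, Orders.seq hFQ i from
        Equiv.sum_comp Fin.revPerm (Orders.seq hFQ), ← Orders.sum_F_eq_sum_seq hFQ]
      simp [Basic.van]
    omega
  obtain ⟨i, hi, j, hj, hij⟩ := Finset.one_lt_card.mp htwo
  simp only [Finset.mem_filter, Finset.mem_univ, true_and] at hi hj
  wlog hlt : j < i generalizing i j with H
  · exact H j i (Ne.symm hij) hj hi (lt_of_le_of_ne (not_lt.mp hlt) hij)
  obtain ⟨f, hf0, hf⟩ := hmem i hi
  obtain ⟨g, hg0, hg⟩ := hmem j hj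
  have hmono : a j < a i := Orders.strictMono_seq hFP hlt
  refine ⟨a i - a j, by omega, by omega, g / f, div_ne_zero hg0 hf0, ?_⟩
  rw [div_eq_mul_inv, Groth.Agent.Lib.FunFld.Degree.div_mul hK hg0 (inv_ne_zero hf0),
    Groth.Agent.Lib.FunFld.Degree.div_inv hK, ← sub_eq_add_neg,
    ← add_sub_add_right_eq_sub _ _ D, hg, hf]
  rw [show (b j : ℤ) = (d : ℤ) - a j by omega, show (b i : ℤ) = (d : ℤ) - a i by omega,
    Nat.cast_sub hmono.le]
  simp only [Finsupp.single_sub]
  abel

end Groth.Agent.S18177
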