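import Groth.Statements.S18182
import Groth.Agent.Lib.FunFld.Hasse.Ramified
import Groth.Agent.Lib.FunFld.SmallGenus
-- import your own Groth.Agent.* helpers here

set_option autoImplicit false
open FunFld

namespace Groth.Agent.S18182
open Groth.Agent.Lib.FunFld

/-- Let `k` be an algebraically closed field of characteristic zero and `K/k` a function field of one
variable (the function field of a smooth projective curve over `k`). A `g^r_d` is a divisor `D` of
degree `d` with a subspace `V ⊆ L(D)` of dimension `r + 1`; for a place `P` and `n ≥ 0`, `V(-nP) = V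
∩ L(D - nP)` is the space of members vanishing to order at least `n` at `P`, so `dim V(-nP)` counts
the vanishing orders `m_0 < ⋯ < m_r` of `V` at `P` that are at least `n`, and the weight of `V` at
`P` is `∑_{n=1}^{d} dim V(-nP) - r(r+1)/2`. Assume `K` has genus one, fix a place `P` and natural
numbers `d` and `r ≥ 1`. Then only finitely many places `Q ≠ P` admit a `g^r_d` `(D, V)` whose
weights at `P` and `Q` are large in the sense `w(V, P) + w(V, Q) ≥ (r+1)(d-r) - (r-1)`, that is
`(r+1)d + 1 ≤ ∑_{n=1}^{d} dim V(-nP) + ∑_{n=1}^{d} dim V(-nQ) + r`. (In the source `K` is an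
elliptic tail of a flag curve degenerating a general curve of genus `g`, `P` its node, `Q` the limit
of a moving ramification point, and the weight hypothesis is what `ρ ≤ 0` gives; the finiteness of
torsion points of bounded order on an elliptic curve is used.) (The source states this for curves
over the complex numbers.) -/
theorem result
    (k : Type*) [Field k] [IsAlgClosed k] [CharZero k]
    (K : Type*) [Field K] [Algebra k K] (hK : FunFld.IsFunctionField k K) (hg1 : FunFld.genus k K = 1)
    (P : FunFld.Place k K) (d r : ℕ) (hr : 1 ≤ r) :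
    Set.Finite {Q : FunFld.Place k K | Q ≠ P ∧ ∃ (D : FunFld.Divisor k K) (V : Submodule k K),
      D.deg = d ∧ V ≤ FunFld.L D ∧ Module.finrank k ↥V = r + 1 ∧
      (r + 1) * d + 1 ≤
        (∑ n ∈ Finset.range d, Module.finrank k ↥(V ⊓ FunFld.L (D - Finsupp.single P ((n : ℤ) + 1)))) +
          (∑ n ∈ Finset.range d, Module.finrank k ↥(V ⊓ FunFld.L (D - Finsupp.single Q ((n : ℤ) + 1)))) + r} := by
  classical
  refine (Set.Finite.biUnion (Finset.Icc 1 d).finite_toSet fun m hm => Hasse.Ramified.finite_torsion hK hg1 P
    (m := m) (by rw [Finset.mem_coe, Finset.mem_Icc] at hm; omega)).subset ?_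
  rintro Q ⟨hQ, D, V, hD, hV, hdim, hsum⟩
  have hp := LinSer.Basic.isDimFun (d := d) hK hD hV hdim P
  have hq := LinSer.Basic.isDimFun (d := d) hK hD hV hdim Q
  set a := LinSer.Orders.seq hp
  set b := LinSer.Orders.seq hq
  have hVf : FiniteDimensional k ↥V := FiniteDimensional.of_finrank_pos (by omega)
  -- opposite orders add up to at most `d`, and to `d` only for a principal difference
  have key : ∀ i : Fin (r + 1), a i + b i.rev ≤ d ∧ (a i + b i.rev = d →
      ∃ x : K, x ≠ 0 ∧ D - Finsupp.single P (a i : ℤ) - Finsupp.single Q (b i.rev : ℤ) = FunFld.div k x) := by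
    intro i
    have h1 : LinSer.Basic.van V D P (a i : ℤ) = r + 1 - (i : ℕ) := LinSer.Orders.F_seq hp i
    have h2 : LinSer.Basic.van V D Q (b i.rev : ℤ) = r + 1 - (i.rev : ℕ) := LinSer.Orders.F_seq hq i.rev
    have hi := i.2
    have hrev := Fin.val_rev i
    refine ⟨?_, fun he => ?_⟩
    · by_contra hlt
      have := LinSer.Basic.van_add_van_le (d := d) (V := V) hK hD hdim hQ.symm
        (a := (a i : ℤ)) (b := (b i.rev : ℤ)) (by omega)
      omega
    · refine SmallGenus.exists_div_of_deg_zero hK ?_ ?_
      · set A := V ⊓ FunFld.L (D - Finsupp.single P (a i : ℤ))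
        set B := V ⊓ FunFld.L (D - Finsupp.single Q (b i.rev : ℤ))
        have hA : FiniteDimensional k ↥A := Submodule.finiteDimensional_of_le inf_le_left
        have hB : FiniteDimensional k ↥B := Submodule.finiteDimensional_of_le inf_le_left
        change Module.finrank k ↥A = _ at h1
        change Module.finrank k ↥B = _ at h2
        have h3 := Submodule.finrank_sup_add_finrank_inf_eq A B
        have h4 := Submodule.finrank_mono (sup_le inf_le_left inf_le_left : A ⊔ B ≤ V)
        have hle : A ⊓ B ≤ FunFld.L (D - Finsupp.single P (a i : ℤ) - Finsupp.single Q (b i.rev : ℤ)) := by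
          rintro f ⟨hf1, hf2⟩ R
          rcases eq_or_ne R P with rfl | hR
          · simpa [Finsupp.single_eq_of_ne hQ.symm] using hf1.2 R
          · simpa [Finsupp.single_eq_of_ne hR] using hf2.2 R
        have := Degree.finiteDimensional_L hK (D - Finsupp.single P (a i : ℤ) - Finsupp.single Q (b i.rev : ℤ))
        have h5 := Submodule.finrank_mono hle
        unfold FunFld.ell
        omega
      · rw [Degree.deg_sub, Degree.deg_sub, SmallGenus.deg_single' hK, SmallGenus.deg_single' hK, hD]
        omega
  -- two of them attain `d`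
  have hS : (r + 1) * d + 1 ≤ (∑ i, a i) + (∑ i : Fin (r + 1), b i.rev) + r := by
    rw [show (∑ i : Fin (r + 1), b i.rev) = ∑ i, b i from Equiv.sum_comp Fin.revPerm b,
      ← LinSer.Orders.sum_F_eq_sum_seq hp, ← LinSer.Orders.sum_F_eq_sum_seq hq]
    simpa [LinSer.Basic.van] using hsum
  obtain ⟨i, hi, j, hj, hij⟩ : ∃ i, a i + b i.rev = d ∧ ∃ j, a j + b j.rev = d ∧ i < j := by
    have hcount : 1 < (Finset.univ.filter fun i => a i + b i.rev = d).card := by
      by_contra hle
      have h1 : ∀ i : Fin (r + 1), a i + b i.rev + 1 ≤ d + if a i + b i.rev = d then 1 else 0 := by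
        intro i
        have := (key i).1
        split_ifs with h <;> omega
      have := Finset.sum_le_sum fun i (_ : i ∈ Finset.univ) => h1 i
      rw [Finset.sum_add_distrib, Finset.sum_add_distrib, Finset.sum_add_distrib, ← Finset.card_filter] at this
      simp only [Finset.sum_const, Finset.card_univ, Fintype.card_fin, smul_eq_mul, mul_one] at this
      omega
    obtain ⟨x, hx, y, hy, hxy⟩ := Finset.one_lt_card.mp hcount
    simp only [Finset.mem_filter, Finset.mem_univ, true_and] at hx hy
    rcases lt_or_gt_of_ne hxy with h | h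
    exacts [⟨x, hx, y, hy, h⟩, ⟨y, hy, x, hx, h⟩]
  have hlt : a i < a j := LinSer.Orders.strictMono_seq hp hij
  have hle : a j ≤ d := LinSer.Orders.seq_le hp j
  obtain ⟨x, hx, hxe⟩ := (key i).2 hi
  obtain ⟨y, hy, hye⟩ := (key j).2 hj
  refine Set.mem_biUnion (x := a j - a i) (Finset.mem_coe.mpr (Finset.mem_Icc.mpr ⟨by omega, by omega⟩))
    ⟨hQ, y * x⁻¹, mul_ne_zero hy (inv_ne_zero hx), ?_⟩
  rw [Degree.div_mul hK hy (inv_ne_zero hx), Degree.div_inv hK, ← hxe, ← hye,
    show ((a j - a i : ℕ) : ℤ) = (a j : ℤ) - a i by omega, Finsupp.single_sub, Finsupp.single_sub]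
  have e : (Finsupp.single Q (b i.rev : ℤ) : FunFld.Divisor k K) =
      Finsupp.single Q (b j.rev : ℤ) + Finsupp.single Q (a j : ℤ) - Finsupp.single Q (a i : ℤ) := by
    rw [← Finsupp.single_add, ← Finsupp.single_sub]; congr 1; omega
  rw [e]; abel

end Groth.Agent.S18182
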