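import Groth.Statements.S18183
import Groth.Agent.Lib.FunFld.LinSer.Members
-- import your own Groth.Agent.* helpers here

set_option autoImplicit false
open FunFld

namespace Groth.Agent.S18183
open Groth.Agent.Lib.FunFld.LinSer

/-- Let `k` be an algebraically closed field of characteristic zero and `K/k` a function field of one
variable (the function field of a smooth projective curve over `k`). A `g^r_d` is a divisor `D` of
degree `d` with a subspace `V ⊆ L(D)` of dimension `r + 1`; for a place `P` and `n ≥ 0`, `V(-nP) = V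
∩ L(D - nP)` is the space of members vanishing to order at least `n` at `P`, so `dim V(-nP)` counts
the vanishing orders `m_0 < ⋯ < m_r` of `V` at `P` that are at least `n`, and the weight of `V` at
`P` is `∑_{n=1}^{d} dim V(-nP) - r(r+1)/2`. Aspects `(D_Y, V_Y)` on `K_Y` and `(D_Z, V_Z)` on `K_Z`
of a limit `g^r_d` on two components meeting in a node (a place `P` of `K_Y` and a place `Q` of
`K_Z`) are compatible there when `m_i(V_Y, P) + m_{r-i}(V_Z, Q) = d` for every `i`, equivalently
`dim V_Y(-nP) + dim V_Z(-(d+1-n)Q) = r + 1` for `0 ≤ n ≤ d + 1`. A backbone is a chain of rational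
components `Z_0, …, Z_N` (function fields `K_i` of genus `0`), `Z_i` meeting `Z_{i+1}` in a node
given by a place `B_i` of `K_i` and a place `A_{i+1}` of `K_{i+1}`, the two node places `A_i ≠ B_i`
of an inner component being distinct; each `Z_i` carries an aspect `(D_i, V_i)` of a limit `g^r_d`
and consecutive aspects are compatible at the nodes. A set `T` of indices marks the components
carrying a tail: for `i ∈ T` the aspect `V_i` has at least a cusp (`dim V_i(-2Q_i) ≥ r`) at a
further place `Q_i` of `K_i`, distinct from the node places of `Z_i`. (In the source these are the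
backbone components of a flag curve to which a chain of rational curves ending in an elliptic tail
is attached, `T` has `g` elements, and the cusp is forced by that chain.) Let `Q'` be a place of
some `Z_i` other than its node places and other than `Q_i` when `i ∈ T`. Then `w(V_i, Q') ≤
(r+1)(d-r) - r · |T|`, that is `∑_{j=1}^{d} dim V_i(-jQ') + r · |T| + r(r+1) ≤ (r+1)d + r(r+1)/2`.
Hence, when `|T| = g` and the moving-point Brill–Noether number `ρ = 1 + g - (r+1)(g+r-d) - ∑(m_i -
i)` is `≤ 0`, a point with vanishing sequence `(m_i)`, whose weight is then at least `(r+1)(d-r) -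
rg + 1`, cannot lie on a backbone component away from the nodes; the source states this as: the
limit of the ramification point lies on an elliptic tail. (The printed argument bounds such weights
only by `(r+1)(d-r) - r(g-1)`; the sharper bound here also uses that the aspect has weight at least
`r` at a cusp.) (The source states this for curves over the complex numbers.) -/
theorem result
    (k : Type*) [Field k] [IsAlgClosed k] [CharZero k]
    (N : ℕ) (Z : Fin (N + 1) → Type*) [∀ i, Field (Z i)] [∀ i, Algebra k (Z i)]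
    (hZ : ∀ i, FunFld.IsFunctionField k (Z i)) (hrat : ∀ i, FunFld.genus k (Z i) = 0)
    (d r : ℕ) (D : ∀ i, FunFld.Divisor k (Z i)) (hD : ∀ i, (D i).deg = d)
    (V : ∀ i, Submodule k (Z i)) (hV : ∀ i, V i ≤ FunFld.L (D i))
    (hVr : ∀ i, Module.finrank k ↥(V i) = r + 1)
    (A B : ∀ i, FunFld.Place k (Z i))
    (hAB : ∀ i : Fin (N + 1), 0 < (i : ℕ) → (i : ℕ) < N → A i ≠ B i)
    (hcomp : ∀ (l : Fin N) (m : ℕ), m ≤ d + 1 →
      Module.finrank k ↥((V l.castSucc) ⊓ FunFld.L ((D l.castSucc) - Finsupp.single (B l.castSucc) ((m : ℤ)))) +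
        Module.finrank k ↥((V l.succ) ⊓ FunFld.L ((D l.succ) - Finsupp.single (A l.succ) ((d : ℤ) + 1 - m))) = r + 1)
    (T : Finset (Fin (N + 1))) (Q : ∀ i, FunFld.Place k (Z i))
    (hQA : ∀ i ∈ T, 0 < (i : ℕ) → Q i ≠ A i) (hQB : ∀ i ∈ T, (i : ℕ) < N → Q i ≠ B i)
    (hcusp : ∀ i ∈ T, r ≤ Module.finrank k ↥((V i) ⊓ FunFld.L ((D i) - Finsupp.single (Q i) ((2 : ℤ)))))
    (i : Fin (N + 1)) (Q' : FunFld.Place k (Z i)) (hQ'A : 0 < (i : ℕ) → Q' ≠ A i)
    (hQ'B : (i : ℕ) < N → Q' ≠ B i) (hQ'Q : i ∈ T → Q' ≠ Q i) :
    (∑ j ∈ Finset.range d, Module.finrank k ↥((V i) ⊓ FunFld.L ((D i) - Finsupp.single Q' ((j : ℤ) + 1)))) + r * T.card + r * (r + 1) ≤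
      (r + 1) * d + r * (r + 1) / 2 := by
  classical
  obtain ⟨A', B', hAB', hQA', hQB', hA, hB, hfA, hfB⟩ :=
    Chain.exists_fresh (A := A) (B := B) hZ T Q (Function.update Q i Q') hAB hQA hQB
  have hS : ∀ l : Fin N, Basic.S (V l.castSucc) (D l.castSucc) (B' l.castSucc) d +
      Basic.S (V l.succ) (D l.succ) (A' l.succ) d = (r + 1) * d := fun l => by
    rw [hB l.castSucc (by simp), hA l.succ (by simp)]
    exact Basic.S_add_S_of_compat (hcomp l)
  have h1 := Chain.prefix_bound hZ hrat hD hV hVr hAB' hS T Q hQA' hQB' hcusp i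
  have h2 := Chain.suffix_bound hZ hrat hD hV hVr hAB' hS T Q hQA' hQB' hcusp i
  have hsp := Chain.card_split T i
  have hm := congrArg (r * ·) hsp
  simp only [mul_add] at hm
  have := Chain.two_tri r
  have hA' : A' i ≠ Q' := by
    by_cases h : 0 < (i : ℕ)
    · rw [hA i h]; exact (hQ'A h).symm
    · simpa using hfA i h
  have hB' : B' i ≠ Q' := by
    by_cases h : (i : ℕ) < N
    · rw [hB i h]; exact (hQ'B h).symm
    · simpa using hfB i h
  by_cases hi : i ∈ T
  · have h3 := Chain.four_point (hZ i) (hrat i) (hD i) (hV i) (hVr i) (hAB' i) (hQA' i hi).symm hA'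
      (hQB' i hi).symm hB' (hQ'Q hi).symm
    have h4 := Basic.le_S_of_cusp (hZ i) (hD i) (hV i) (hVr i) (Q i) (hcusp _ hi)
    rw [Finset.card_erase_of_mem hi] at hm
    have hpos := Finset.card_pos.mpr ⟨_, hi⟩
    have := Nat.mul_sub_one r T.card
    have := Nat.le_mul_of_pos_right r hpos
    unfold Basic.S Basic.van at h1 h2 h3 h4
    omega
  · have h3 := Chain.three_point (hZ i) (hrat i) (hD i) (hV i) (hVr i) (hAB' i) hA' hB'
    rw [Finset.erase_eq_of_notMem hi] at hm
    unfold Basic.S Basic.van at h1 h2 h3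
    omega

end Groth.Agent.S18183
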