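import Groth.Statements.S1819
import Groth.Agent.Lib.DMod.BidualityCx
import Groth.Agent.Lib.DMod.LBC

set_option autoImplicit false
universe u
open CategoryTheory
attribute [local instance] HasDerivedCategory.standard
open Dual

namespace Groth.Agent.S1819
open Groth.Agent.Lib.DR Groth.Agent.Lib.DMod
/-- Let A be a Noetherian ring with a dualizing complex ω and K a complex of A-modules all of whose
cohomology modules are finite; assume RHom(K, −) exists. Then every cohomology module of RHom_A(K,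
ω) is finite, and for every complex E representing RHom_A(K, ω) (with RHom(E, −) existing) there is
an isomorphism RHom_A(E, ω) ≅ K in D(A). -/
theorem result (A : Type u) [CommRing A] [IsNoetherianRing A] (ω : Dual.D A) (hω : Dual.IsDualizing A ω) (K : DRing.Cx A) [DRing.HasRHomCx K] (hK : ∀ i : ℤ, Module.Finite A (Dual.HD A (DRing.toD K) i)) : (∀ i : ℤ, Module.Finite A (Dual.HD A ((DRing.RHomCx K).obj ω) i)) ∧ ∀ (E : DRing.Cx A) [DRing.HasRHomCx E], Nonempty (DRing.toD E ≅ (DRing.RHomCx K).obj ω) → Nonempty ((DRing.RHomCx E).obj ω ≅ DRing.toD K) := by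
  obtain ⟨I, a, b, hI, hinj, ⟨e⟩⟩ := Biduality.exists_complex hω
  haveI := hinj
  haveI : I.IsStrictlyGE a := (CochainComplex.isStrictlyGE_iff _ _).2 fun q hq => hI q (Or.inl hq)
  haveI : I.IsKInjective := CochainComplex.isKInjective_of_injective I a
  have hω' : Dual.IsDualizing A (DerivedCategory.Q.obj I) := LBC.isDualizing_of_iso e.symm hω
  obtain ⟨r⟩ := BidualityCx.nonempty_RHomCx_kinj K I
  let eK : (DRing.RHomCx K).obj ω ≅ DerivedCategory.Q.obj (DRing.homCx K I) :=
    (DRing.RHomCx K).mapIso e.symm ≪≫ r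
  refine ⟨fun i => @Module.Finite.equiv _ _ _ _ _ _ _ _ (BidualityCx.finite_dual I hI hω' K hK i)
    ((DerivedCategory.homologyFunctor (ModuleCat.{u} A) i).mapIso eK.symm).toLinearEquiv, ?_⟩
  intro E _ hE
  obtain ⟨e'⟩ := hE
  let P := (KProjRes.res A).obj E
  let q : P ⟶ E := (KProjRes.aug A).app E
  haveI : QuasiIso q := KProjRes.quasiIso_aug A E
  haveI : P.IsKProjective := KProjRes.isKProjective_res A E
  obtain ⟨g, hg⟩ := Basic.exists_Q_map_eq (E := P) (DerivedCategory.Q.map q ≫ (e' ≪≫ eK).hom)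
  haveI : QuasiIso g := by
    rw [← DerivedCategory.isIso_Q_map_iff_quasiIso, hg]
    infer_instance
  obtain ⟨rE⟩ := BidualityCx.nonempty_RHomCx_kinj E I
  have h1 := RHomRes.isIso_precomp q I
  have h2 := RHomRes.isIso_precomp g I
  have h3 := (DerivedCategory.isIso_Q_map_iff_quasiIso _ _).2 (BidualityCx.quasiIso_bd I hI hω' K hK)
  exact ⟨(DRing.RHomCx E).mapIso e.symm ≪≫ rE ≪≫ (@asIso _ _ _ _ _ h1) ≪≫ (@asIso _ _ _ _ _ h2).symm ≪≫
    (@asIso _ _ _ _ _ h3).symm⟩

end Groth.Agent.S1819
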