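import Groth.Statements.S18199
import Groth.Agent.H48.LocImm.Factor

set_option autoImplicit false
universe u
open LocImm

namespace Groth.Agent.S18199

open CategoryTheory AlgebraicGeometry in
/-- A separated, universally closed morphism of Noetherian schemes that is essentially of finite type is
proper; thus no new class of proper-like morphisms arises among essentially finite-type ones. -/
theorem result {X S : Scheme.{u}} [IsNoetherian X] [IsNoetherian S] (f : X ⟶ S) [IsSeparated f] [EssFT.EssFiniteType f] [UniversallyClosed f] : IsProper f := by
  obtain ⟨Y, k, p, _, hk, _, _, _, h⟩ := Groth.Agent.H48.LocImm.exists_factorization f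
  subst h
  have : UniversallyClosed k := UniversallyClosed.of_comp_of_isSeparated k p
  have hc : IsClosed (Set.range k) := k.isClosedMap.isClosed_range
  have hgen := Groth.Agent.H48.LocImm.stableUnderGeneralization_range hk.1
  have heq : (Set.range k)ᶜ = ⋃ t ∈ {t ∈ irreducibleComponents Y | ¬ t ⊆ Set.range k}, t := by
    ext y
    simp only [Set.mem_compl_iff, Set.mem_iUnion, Set.mem_ofPred_eq, exists_prop]
    constructor
    · intro hy
      exact ⟨irreducibleComponent y, ⟨irreducibleComponent_mem_irreducibleComponents y, fun h => hy (h mem_irreducibleComponent)⟩, mem_irreducibleComponent⟩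
    · rintro ⟨t, ⟨ht, hnot⟩, hyt⟩ hy
      obtain ⟨z, hz⟩ := QuasiSober.sober ht.1 (isClosed_of_mem_irreducibleComponents t ht)
      exact hnot fun w hw => hc.stableUnderSpecialization (hz.specializes hw) (hgen (hz.specializes hyt) hy)
  have hcl : IsClosed (Set.range k)ᶜ := by
    rw [heq]
    exact (TopologicalSpace.NoetherianSpace.finite_irreducibleComponents.subset fun t ht => ht.1).isClosed_biUnion fun t ht => isClosed_of_mem_irreducibleComponents t ht.1
  have : IsOpenImmersion k := IsOpenImmersion.iff_isIso_stalkMap.2
    ⟨⟨Groth.Agent.H48.LocImm.isEmbedding_of_isLocImmersion hk, isClosed_compl_iff.1 hcl⟩,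
      fun x => Groth.Agent.H48.LocImm.isIso_stalkMap_of_isLocalizing hk.1 x⟩
  exact {}

end Groth.Agent.S18199
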