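import Groth.Statements.S18200
import Groth.Agent.H48.LocImm.Factor
import Groth.Agent.H48.LocImm.Common
import Groth.Agent.S0385
import Mathlib.AlgebraicGeometry.ZariskisMainTheorem

set_option autoImplicit false
universe u
open LocImm

namespace Groth.Agent.S18200

open CategoryTheory AlgebraicGeometry Groth.Agent.H48.LocImm

set_option backward.isDefEq.respectTransparency false in
theorem mem_quasiFiniteLocus {X Y S : Scheme.{u}} (k : X ⟶ Y) (p : Y ⟶ S) [LocallyOfFiniteType p]
    [LocallyQuasiFinite (k ≫ p)] (hk : LocImm.IsLocalizing k) (x : X) : k x ∈ p.quasiFiniteLocus := by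
  have := isIso_stalkMap_of_isLocalizing hk x
  have h := (k ≫ p).quasiFiniteAt x
  rwa [Scheme.Hom.QuasiFiniteAt, Scheme.Hom.stalkMap_comp, CommRingCat.hom_comp,
    RingHom.QuasiFinite.respectsIso.cancel_right_isIso] at h


open CategoryTheory AlgebraicGeometry in
/-- Let `f : X ⟶ Y` be a separated morphism of Noetherian schemes that is essentially quasi-finite:
essentially of finite type with every fibre the spectrum of a finite algebra over the residue field
(equivalently, `f` locally quasi-finite in the fibrewise sense, which carries no finite-type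
condition). Then `f` factors as a localizing immersion `i : X ⟶ Z` (localizing and injective on
points, `Z` Noetherian) followed by a finite morphism `h : Z ⟶ Y`. -/
theorem result {X Y : Scheme.{u}} [IsNoetherian X] [IsNoetherian Y] (f : X ⟶ Y) [IsSeparated f] [EssFT.EssFiniteType f] [LocallyQuasiFinite f] :
    ∃ (Z : Scheme.{u}) (i : X ⟶ Z) (h : Z ⟶ Y), IsNoetherian Z ∧ LocImm.IsLocImmersion i ∧ IsFinite h ∧ i ≫ h = f := by
  obtain ⟨Y₁, k, p, _, hk, _, _, _, rfl⟩ := exists_factorization f
  let W := p.quasiFiniteLocus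
  have hr : Set.range k ⊆ Set.range W.ι := by
    rintro _ ⟨x, rfl⟩; rw [Scheme.Opens.range_ι]; exact mem_quasiFiniteLocus k p hk.1 x
  let k' := IsOpenImmersion.lift W.ι k hr
  have hk' : k' ≫ W.ι = k := IsOpenImmersion.lift_fac _ _ hr
  have hkl : LocImm.IsLocImmersion k' := isLocImmersion_of_comp_openImmersion k' W.ι (by rwa [hk'])
  have : IsNoetherian (W : Scheme.{u}) := isNoetherian_of_finiteType W.ι
  obtain ⟨T, j, π, hj, -, hπ, hjπ⟩ := Groth.Agent.S0385.result (W.ι ≫ p)
  have : IsNoetherian T := isNoetherian_of_finiteType π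
  refine ⟨T, k' ≫ j, π, ‹_›, isLocImmersion_comp hkl (isLocImmersion_of_isOpenImmersion _), hπ, ?_⟩
  rw [Category.assoc, hjπ, ← Category.assoc, hk']

end Groth.Agent.S18200
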