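import Groth.Statements.S18205
import Groth.Agent.H48.LocImm.Immersion

set_option autoImplicit false
universe u
open LocImm

namespace Groth.Agent.S18205

open CategoryTheory AlgebraicGeometry in
/-- Let `f : X ⟶ Y` be a localizing immersion (localizing and injective on points) of Noetherian schemes
whose image is closed. Then `f` is an open immersion (so its image is open and closed and `f` is an
isomorphism onto a union of connected components of `Y`); in particular a surjective localizing
immersion is an isomorphism. -/
theorem result {X Y : Scheme.{u}} [IsNoetherian X] [IsNoetherian Y]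
    (f : X ⟶ Y) (hf : LocImm.IsLocImmersion f) (hc : IsClosed (Set.range (fun x => f x))) : IsOpenImmersion f := by
  refine IsOpenImmersion.iff_isIso_stalkMap.2 ⟨?_, fun x => Groth.Agent.H48.LocImm.isIso_stalkMap_of_isLocalizing hf.1 x⟩
  refine ⟨Groth.Agent.H48.LocImm.isEmbedding_of_isLocImmersion hf, ?_⟩
  have hgen := Groth.Agent.H48.LocImm.stableUnderGeneralization_range hf.1
  have hfin := TopologicalSpace.NoetherianSpace.finite_irreducibleComponents (α := Y)
  have heq : (Set.range (fun x => f x))ᶜ = ⋃ t ∈ {t ∈ irreducibleComponents Y | ¬ t ⊆ Set.range (fun x => f x)}, t := by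
    ext y
    simp only [Set.mem_compl_iff, Set.mem_iUnion, Set.mem_ofPred_eq, exists_prop]
    constructor
    · intro hy
      exact ⟨irreducibleComponent y, ⟨irreducibleComponent_mem_irreducibleComponents y, fun h => hy (h mem_irreducibleComponent)⟩, mem_irreducibleComponent⟩
    · rintro ⟨t, ⟨ht, hnot⟩, hyt⟩ hy
      obtain ⟨z, hz⟩ := QuasiSober.sober ht.1 (isClosed_of_mem_irreducibleComponents t ht)
      have hzr := hgen (hz.specializes hyt) hy
      exact hnot fun w hw => hc.stableUnderSpecialization (hz.specializes hw) hzr
  have : IsClosed (Set.range (fun x => f x))ᶜ := by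
    rw [heq]
    exact (hfin.subset fun t ht => ht.1).isClosed_biUnion fun t ht => isClosed_of_mem_irreducibleComponents t ht.1
  simpa using this.isOpen_compl

end Groth.Agent.S18205
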