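import Groth.Statements.S18206
import Groth.Agent.H48.LocImm.Affine
import Groth.Agent.Lib.Ideal.Comap

set_option autoImplicit false
universe u
open LocImm

namespace Groth.Agent.S18206

open CategoryTheory AlgebraicGeometry in
/-- Let `f : X ⟶ Y` be a localizing immersion (localizing and injective on points) of Noetherian
schemes. Then every quasi-coherent ideal sheaf `I` on `X` is the inverse image ideal `J·O_X` of some
quasi-coherent ideal sheaf `J` on `Y` (all such ideals are coherent, the schemes being Noetherian). -/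
theorem result {X Y : Scheme.{u}} [IsNoetherian X] [IsNoetherian Y]
    (f : X ⟶ Y) (hf : LocImm.IsLocImmersion f) (I : X.IdealSheafData) : ∃ J : Y.IdealSheafData, J.comap f = I := by
  refine ⟨I.map f, le_antisymm (Scheme.IdealSheafData.comap_map_le I f) ?_⟩
  choose U hxU _ hU hV hl using fun x : X => Groth.Agent.H48.LocImm.exists_nice_nhd hf x (show f x ∈ (⊤ : Y.Opens) from trivial)
  refine Scheme.IdealSheafData.le_of_iSup_eq_top (fun x => ⟨f ⁻¹ᵁ U x, hV x⟩)
    (eq_top_iff.2 fun x _ => TopologicalSpace.Opens.mem_iSup.2 ⟨x, hxU x⟩) fun x => ?_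
  rw [Groth.Agent.Lib.Ideal.Comap.ideal_comap f _ ⟨U x, hU x⟩ ⟨_, hV x⟩ le_rfl,
    Scheme.IdealSheafData.ideal_map I f ⟨U x, hU x⟩ (hV x), ← Scheme.Hom.app_eq_appLE]
  intro b hb
  obtain ⟨a, s, hs, hbs⟩ := ((Groth.Agent.H48.LocImm.isLocHom_iff _).1 (hl x)).1 b
  have ha : a ∈ Ideal.comap (f.app (U x)).hom (I.ideal ⟨_, hV x⟩) := by
    rw [Ideal.mem_comap, ← hbs]
    exact Ideal.mul_mem_right _ _ hb
  obtain ⟨u, hu⟩ := hs
  have : b = (f.app (U x)).hom a * ↑u⁻¹ := by
    rw [← hbs, ← hu, mul_assoc, Units.mul_inv, mul_one]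
  rw [this]
  exact Ideal.mul_mem_right _ _ (Ideal.mem_map_of_mem _ ha)

end Groth.Agent.S18206
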