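import Groth.Statements.S18209
import Groth.Agent.S18198
import Groth.Agent.S18202
import Groth.Agent.H22.LocBlow.Iso
import Groth.Agent.H22.StrictTransform.CommonTargetMany

set_option autoImplicit false
universe u
open LocImm

namespace Groth.Agent.S18209

open CategoryTheory AlgebraicGeometry Limits in
/-- Let `f : X ⟶ Y` and `g : Y ⟶ Z` be separated morphisms of Noetherian schemes, essentially of finite
type, such that `f` and `f ≫ g` are localizing immersions (localizing and injective on points). Then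
there are blow-ups `b : Ỹ ⟶ Y` and `c : Z̃ ⟶ Z` in quasi-coherent (hence coherent) ideals whose
closed subschemes are disjoint from the image of `X`, and a localizing immersion `g' : Ỹ ⟶ Z̃`
lifting `g`, i.e. `g' ≫ c = b ≫ g`. -/
theorem result {X Y Z : Scheme.{u}} [IsNoetherian X] [IsNoetherian Y] [IsNoetherian Z]
    (f : X ⟶ Y) (g : Y ⟶ Z) [IsSeparated f] [IsSeparated g] [EssFT.EssFiniteType f] [EssFT.EssFiniteType g]
    (hf : LocImm.IsLocImmersion f) (hfg : LocImm.IsLocImmersion (f ≫ g)) :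
    ∃ (𝓘 : Y.IdealSheafData) (𝓙 : Z.IdealSheafData) (Yt Zt : Scheme.{u}) (b : Yt ⟶ Y) (c : Zt ⟶ Z) (g' : Yt ⟶ Zt),
      BlowUp.IsBlowUp b 𝓘 ∧ Disjoint (𝓘.support : Set Y) (Set.range (fun x => f x)) ∧
      BlowUp.IsBlowUp c 𝓙 ∧ Disjoint (𝓙.support : Set Z) (Set.range (fun x => g (f x))) ∧
      LocImm.IsLocImmersion g' ∧ g' ≫ c = b ≫ g := by
  obtain ⟨W, k, p, hN, hk, hp, hkp⟩ := Groth.Agent.S18198.result g
  haveI := hN; haveI := hp
  have hfk := Groth.Agent.H48.LocImm.isLocImmersion_comp hf hk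
  obtain ⟨I, J, W', c, hc, hI, hcp, hJ⟩ := Groth.Agent.H22.LocBlow.exists_iso p (f ≫ k) hfk
    (by rwa [Category.assoc, hkp])
  haveI : IsProper c := Groth.Agent.Lib.BlowUpExists.isProper_of_isBlowUp hc
    (Groth.Agent.H22.LocBlow.isFG_of_noetherian _)
  haveI : IsLocallyNoetherian W' := LocallyOfFiniteType.isLocallyNoetherian c
  haveI : CompactSpace W' := QuasiCompact.compactSpace_of_compactSpace c
  haveI : IsNoetherian W' := { }
  haveI : Flat k := Groth.Agent.H48.LocImm.flat_of_isLocalizing hk.1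
  refine ⟨I.comap k, J, pullback k c, W', pullback.fst k c, c ≫ p, pullback.snd k c,
    Groth.Agent.H22.StrictTransform.isBlowUp_pullback_fst hc k, ?_, hcp, ?_,
    Groth.Agent.S18202.result k c hk, ?_⟩
  · refine Set.disjoint_right.2 ?_
    rintro _ ⟨x, rfl⟩ h
    rw [SetLike.mem_coe, Scheme.IdealSheafData.support_comap] at h
    exact hI x h
  · refine Set.disjoint_right.2 ?_
    rintro _ ⟨x, rfl⟩ h
    refine hJ x ?_
    show (f ≫ k ≫ p) x ∈ J.support
    rw [hkp, Scheme.Hom.comp_apply]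
    exact h
  · rw [← pullback.condition_assoc, hkp]

end Groth.Agent.S18209
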