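import Groth.Statements.S1821
import Groth.Agent.Lib.DMod.RelDual.Main
import Groth.Agent.Lib.DMod.ShriekComp
import Groth.Agent.Lib.DMod.ShriekKT

set_option autoImplicit false
universe u
open CategoryTheory
open scoped TensorProduct
attribute [local instance] HasDerivedCategory.standard
open Dual2

namespace Groth.Agent.S1821
open Groth.Agent.Lib.DR Groth.Agent.Lib.DMod


/-- Let R → A and A → B be flat ring maps of finite presentation, K a relative dualizing complex for R →
A and L a complex of B-modules whose class is a relative dualizing complex for A → B (relative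
dualizing in the sense: R-perfect with RHom_{S⊗S}(S, − ⊗^L (S ⊗ S)) ≅ S, the base change and RHom
functors being the assumed ones). Assuming the derived base change D(A) → D(B) and − ⊗^L_B L exist,
(K ⊗^L_A B) ⊗^L_B L is a relative dualizing complex for R → B. -/
theorem result (R A B : Type u) [CommRing R] [CommRing A] [CommRing B] [Algebra R A] [Algebra A B] [Algebra R B] [IsScalarTower R A B] [Module.Flat R A] [Algebra.FinitePresentation R A] [Module.Flat A B] [Algebra.FinitePresentation A B] [DRing.HasLBaseChange (Algebra.TensorProduct.includeLeftRingHom : A →+* TensorProduct R A A)] (RμA : Dual.D (TensorProduct R A A) ⥤ Dual.D A) (adjA : DRing.restrictD (Algebra.TensorProduct.lmul' R (S := A)).toRingHom ⊣ RμA) [DRing.HasLBaseChange (Algebra.TensorProduct.includeLeftRingHom : B →+* TensorProduct A B B)] (RμBA : Dual.D (TensorProduct A B B) ⥤ Dual.D B) (adjBA : DRing.restrictD (Algebra.TensorProduct.lmul' A (S := B)).toRingHom ⊣ RμBA) [DRing.HasLBaseChange (Algebra.TensorProduct.includeLeftRingHom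 : B →+* TensorProduct R B B)] (RμB : Dual.D (TensorProduct R B B) ⥤ Dual.D B) (adjB : DRing.restrictD (Algebra.TensorProduct.lmul' R (S := B)).toRingHom ⊣ RμB) (K : Dual.D A) (hK : Dual2.IsRelDualizing R A RμA K) (L : DRing.Cx B) (hL : Dual2.IsRelDualizing A B RμBA (DRing.toD L)) [DRing.HasLBaseChange (algebraMap A B)] [DRing.HasLTensorCx B L] : Dual2.IsRelDualizing R B RμB ((DRing.LTensorCx B L).obj ((DRing.LBaseChange (algebraMap A B)).obj K)) := by
  obtain ⟨n, ψ, hψ, -⟩ := Algebra.FinitePresentation.out (R := R) (A := A)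
  haveI : DRing.HasLBaseChange (algebraMap R (MvPolynomial (Fin n) R)) := BaseChangeU.hasLBaseChange _
  haveI := ShriekBC.hasRHomRel ψ.toRingHom
  let Rψ := DTen.RHomRel ψ.toRingHom
  let adj : DRing.restrictD ψ.toRingHom ⊣ Rψ := DTen.relAdj _
  obtain ⟨m, χ, hχ, -⟩ := Algebra.FinitePresentation.out (R := A) (A := B)
  haveI : DRing.HasLBaseChange (algebraMap A (MvPolynomial (Fin m) A)) := BaseChangeU.hasLBaseChange _
  haveI := ShriekBC.hasRHomRel χ.toRingHom
  let Rχ := DTen.RHomRel χ.toRingHom
  let adjχ : DRing.restrictD χ.toRingHom ⊣ Rχ := DTen.relAdj _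
  haveI : Module.Flat R B := Module.Flat.trans R A B
  haveI : Algebra.FinitePresentation R B := Algebra.FinitePresentation.trans R A B
  obtain ⟨k, θ, hθ, -⟩ := Algebra.FinitePresentation.out (R := R) (A := B)
  haveI : DRing.HasLBaseChange (algebraMap R (MvPolynomial (Fin k) R)) := BaseChangeU.hasLBaseChange _
  haveI := ShriekBC.hasRHomRel θ.toRingHom
  let Rθ := DTen.RHomRel θ.toRingHom
  let adjθ : DRing.restrictD θ.toRingHom ⊣ Rθ := DTen.relAdj _
  obtain ⟨eK⟩ := RelDual.Main.nonempty_iso_shriek hψ adj adjA hK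
  obtain ⟨eL⟩ := RelDual.Main.nonempty_iso_shriek hχ adjχ adjBA hL
  obtain ⟨t⟩ := ShriekKT.nonempty_shriek_tensor_iso χ hχ adjχ L ⟨eL⟩ K
  have hunit : ∀ i : ℤ, i < 0 → Subsingleton (Dual.HD R (Dual.inD R R) i) := fun i hi =>
    Basic.subsingleton_HD_inD R (by omega)
  have hpc : letI := ψ.toRingHom.toAlgebra; DRing.IsPseudoCoherentModule' (MvPolynomial (Fin n) R) A := by
    letI := ψ.toRingHom.toAlgebra
    exact (Representative.isPseudoCoherent'_iff_forall _).2 fun j => (RelDual.Perfect.pcRing ψ hψ j).of_iso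
      ((DerivedCategory.singleFunctor _ 0).mapIso (BcRHomCases.algIso (MvPolynomial (Fin n) R) A).symm)
  obtain ⟨c⟩ := ShriekComp.nonempty_comp_iso_of_pc n ψ hψ Rψ adj m χ hχ Rχ adjχ k θ hθ Rθ adjθ
    (Dual.inD R R) 0 hunit hpc
  let T := (DRing.LBaseChange (algebraMap A (MvPolynomial (Fin m) A))).mapIso eK.symm
  exact RelDual.Main.isRelDualizing_of_iso (c ≪≫ (shiftFunctor _ (m : ℤ)).mapIso (Rχ.mapIso T) ≪≫ t)
    (RelDual.Main.isRelDualizing_shriek hθ adjθ adjB)

end Groth.Agent.S1821
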