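import Groth.Statements.S18212
import Groth.Agent.S18198
import Groth.Agent.S18202
import Groth.Agent.H22.LocBlow.Extend

set_option autoImplicit false
universe u
open LocImm

namespace Groth.Agent.S18212

open CategoryTheory AlgebraicGeometry Limits in
/-- Let `S` be a Noetherian scheme, `a : X ⟶ S` and `b : Y ⟶ S` separated morphisms essentially of
finite type with `X, Y` Noetherian, `Z` a Noetherian scheme, `j : Z ⟶ X` a localizing immersion
(localizing and injective on points) and `f : Z ⟶ Y` a morphism over `S`. Then there are a blow-up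
`c : X̃ ⟶ X` in a quasi-coherent ideal whose closed subscheme misses `j(Z)`, a localizing immersion
`j' : Z' ⟶ X̃` and a morphism `e : Z ⟶ Z'` with `e ≫ j' ≫ c = j` (so `j'` extends the lift of `j` to
`X̃`), and a morphism `f' : Z' ⟶ Y` over `S` extending `f` (`e ≫ f' = f`), such that the morphism
`Z' ⟶ X̃ ×_S Y` induced by `j'` and `f'` is a closed immersion. -/
theorem result {S X Y Z : Scheme.{u}} [IsNoetherian S] [IsNoetherian X] [IsNoetherian Y] [IsNoetherian Z]
    (a : X ⟶ S) (b : Y ⟶ S) [IsSeparated a] [IsSeparated b] [EssFT.EssFiniteType a] [EssFT.EssFiniteType b]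
    (j : Z ⟶ X) (hj : LocImm.IsLocImmersion j) (f : Z ⟶ Y) (hjf : j ≫ a = f ≫ b) :
    ∃ (𝓘 : X.IdealSheafData) (Xt Z' : Scheme.{u}) (c : Xt ⟶ X) (j' : Z' ⟶ Xt) (e : Z ⟶ Z') (f' : Z' ⟶ Y)
      (h : j' ≫ (c ≫ a) = f' ≫ b),
      BlowUp.IsBlowUp c 𝓘 ∧ Disjoint (𝓘.support : Set X) (Set.range (fun x => j x)) ∧
      LocImm.IsLocImmersion j' ∧ e ≫ j' ≫ c = j ∧ e ≫ f' = f ∧
      IsClosedImmersion (pullback.lift j' f' h) := by
  obtain ⟨Yb, k, p, hN, hk, hp, hkp⟩ := Groth.Agent.S18198.result b
  haveI := hN; haveI := hp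
  obtain ⟨I, Xt, c, e, f₀, hc, hI, hcP, he, hef, hca⟩ :=
    Groth.Agent.H22.LocBlow.exists_extend a p j hj (f ≫ k) (by rw [Category.assoc, hkp, hjf])
  haveI := hcP
  haveI : IsLocallyNoetherian Xt := LocallyOfFiniteType.isLocallyNoetherian c
  haveI : CompactSpace Xt := QuasiCompact.compactSpace_of_compactSpace c
  haveI : IsNoetherian Xt := { }
  have hw : pullback.snd k f₀ ≫ (c ≫ a) = pullback.fst k f₀ ≫ b := by
    rw [← hkp, hca, ← pullback.condition_assoc]
  refine ⟨I, Xt, pullback k f₀, c, pullback.snd k f₀, pullback.lift f e hef.symm,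
    pullback.fst k f₀, hw, hc, Set.disjoint_right.2 (by rintro _ ⟨x, rfl⟩; exact hI x),
    Groth.Agent.S18202.result k f₀ hk, by rw [pullback.lift_snd_assoc, he], pullback.lift_fst _ _ _, ?_⟩
  have key : pullback.lift (pullback.snd k f₀) (pullback.fst k f₀) hw =
      (pullbackSymmetry k f₀).hom ≫ pullback.mapDesc f₀ k p ≫
        (pullback.congrHom hca.symm hkp).hom := by
    apply pullback.hom_ext
    · simp only [pullback.mapDesc, pullback.map, pullback.congrHom, asIso_hom, Category.assoc,
        pullback.lift_fst, pullback.lift_fst_assoc, Category.comp_id, pullbackSymmetry_hom_comp_fst]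
    · simp only [pullback.mapDesc, pullback.map, pullback.congrHom, asIso_hom, Category.assoc,
        pullback.lift_snd, pullback.lift_snd_assoc, Category.comp_id, pullbackSymmetry_hom_comp_snd]
  rw [key]
  infer_instance

end Groth.Agent.S18212
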