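import Groth.Statements.S18213
import Groth.Agent.H48.LocImm.PropLocus
import Groth.Agent.H19.FlatLocus.Scheme

set_option autoImplicit false
universe u
open LocImm

namespace Groth.Agent.S18213

open CategoryTheory AlgebraicGeometry Groth.Agent.H48.LocImm

theorem flat_iff_stalk {X Y : Scheme.{u}} (f : X ⟶ Y) (x : X) :
    Flat (X.fromSpecStalk x ≫ f) ↔ (f.stalkMap x).hom.Flat := by
  rw [← Scheme.SpecMap_stalkMap_fromSpecStalk]
  have : Flat (Y.fromSpecStalk (f x)) := flat_of_isLocalizing (isLocImmersion_fromSpecStalk Y (f x)).1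
  constructor
  · intro h
    exact (HasRingHomProperty.Spec_iff (P := @Flat)).1 (MorphismProperty.of_isPullback (P := @Flat)
      (IsPullback.of_horiz_isIso_mono (fst := 𝟙 _) (snd := Spec.map (f.stalkMap x))
        (f := Spec.map (f.stalkMap x) ≫ Y.fromSpecStalk (f x)) (g := Y.fromSpecStalk (f x)) ⟨by simp⟩) h)
  · intro h
    have : Flat (Spec.map (f.stalkMap x)) := (HasRingHomProperty.Spec_iff (P := @Flat)).2 h
    infer_instance

theorem localizable_flat : Localizable (@Flat : MorphismProperty Scheme.{u}) where
  comp i f _ _ hi h := by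
    have := flat_of_isLocalizing hi.1
    infer_instance
  local_ft f _ _ h := (Flat.iff_flat_stalkMap f).2 fun x => (flat_iff_stalk f x).1 (h x)
  open_ft f _ _ := by
    simp_rw [flat_iff_stalk f]
    exact Groth.Agent.H19.FlatLocus.Scheme.isOpen_flat_stalkMap f


open CategoryTheory AlgebraicGeometry in
/-- Let `f : X ⟶ Y` be a separated morphism of Noetherian schemes, essentially of finite type. Then the
set of points `x` for which the composite `Spec O_{X,x} ⟶ X ⟶ Y` is flat is open, and if `f` is flat
it factors as a localizing immersion `i : X ⟶ Z` (localizing and injective on points, `Z`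
Noetherian) followed by a separated flat morphism of finite type `h : Z ⟶ Y`. -/
theorem result {X Y : Scheme.{u}} [IsNoetherian X] [IsNoetherian Y] (f : X ⟶ Y) [IsSeparated f] [EssFT.EssFiniteType f] :
    IsOpen {x : X | Flat (X.fromSpecStalk x ≫ f)} ∧
      (Flat f → ∃ (Z : Scheme.{u}) (i : X ⟶ Z) (h : Z ⟶ Y), IsNoetherian Z ∧ LocImm.IsLocImmersion i ∧ IsSeparated h ∧ LocallyOfFiniteType h ∧ QuasiCompact h ∧ Flat h ∧ i ≫ h = f) := by
  exact ⟨isOpen_stalks localizable_flat f,
    fun h => exists_factor_prop localizable_flat f (stalks_of_prop localizable_flat f h)⟩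

end Groth.Agent.S18213
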