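import Groth.Statements.S18223
import Groth.Agent.Lib.ProjKoszul.Surj
import Groth.Agent.H34.HOne
import Groth.Agent.Lib.TensorMod.Colimit
import Groth.Agent.Lib.DerivedOX.Calculus
import Groth.Agent.Lib.Cyc.CH.FiltTensor

set_option autoImplicit false
universe u
open CategoryTheory CategoryTheory.Limits AlgebraicGeometry
open Coh

namespace Groth.Agent.S18223

open MonoidalCategory Opposite
open Groth.Agent.Lib Groth.Agent.Lib.Modules.StalkModule Groth.Agent.Lib.Modules.TensorSec Groth.Agent.Lib.ProjKoszul.Surj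
open Groth.Agent.Lib.TensorMod.Basic (tmap sh fgt adj rightUnit tensorBy tensorIso comm assoc tmap_comp)
open Groth.Agent.Lib.TensorMod.Dual (rs)

variable {X : Scheme.{u}}

lemma addTensorBy (N : X.Modules) : (tensorBy N).Additive := by
  have : PreservesColimitsOfShape (CategoryTheory.Discrete PEmpty.{1}) (tensorBy N) :=
    (preservesSmallestColimits_of_preservesColimits (tensorBy N)).preservesColimitsOfShape
  have : (tensorBy N).PreservesZeroMorphisms :=
    Functor.preservesZeroMorphisms_of_preserves_initial_object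
  have : PreservesColimitsOfShape (CategoryTheory.Discrete WalkingPair) (tensorBy N) :=
    (preservesSmallestColimits_of_preservesColimits (tensorBy N)).preservesColimitsOfShape
  have := preservesBinaryBiproducts_of_preservesBinaryCoproducts (tensorBy N)
  exact Functor.additive_of_preservesBinaryBiproducts _

lemma comm_tens {M N : X.Modules} {U : X.Opens} (a : Γ(M, U)) (b : Γ(N, U)) :
    (comm M N).hom.app U (tens a b) = tens b a := by
  rw [tens_eq_η, tens_eq_η]
  exact η_natural (β_ ((fgt X).obj M) ((fgt X).obj N)).hom _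

/-- Images of products are products. -/
lemma tmap_mem_prods {M M' N N' : X.Modules} (f : M ⟶ M') (g : N ⟶ N')
    {w : Γ(CohB1.tensorMod M N, ⊤)} (hw : w ∈ prods M N) : (tmap f g).app ⊤ w ∈ prods M' N' := by
  refine AddSubgroup.closure_induction (p := fun w _ => (tmap f g).app ⊤ w ∈ prods M' N') ?_ ?_ ?_ ?_ hw
  · rintro _ ⟨⟨a, b⟩, rfl⟩
    rw [tmap_tens]
    exact tens_mem_prods _ _
  · rw [map_zero]; exact zero_mem _
  · intro a b _ _ ha hb; rw [map_add]; exact add_mem ha hb
  · intro a _ ha; rw [map_neg]; exact neg_mem ha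

lemma mem_prods_unit_left {N : X.Modules} (z : Γ(CohB1.tensorMod (Coh.structureModule X) N, ⊤)) :
    z ∈ prods (Coh.structureModule X) N := by
  have h := mem_prods_of_unit (N := N) (Iso.refl (Coh.structureModule X))
    ((comm (Coh.structureModule X) N).hom.app ⊤ z)
  have e : (comm N (Coh.structureModule X)).hom.app ⊤ ((comm (Coh.structureModule X) N).hom.app ⊤ z) = z := by
    refine Eq.trans ?_ (congrArg (fun φ => Scheme.Modules.Hom.app φ ⊤ z) (comm (Coh.structureModule X) N).hom_inv_id)
    rw [Scheme.Modules.Hom.comp_app, CategoryTheory.comp_apply]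
    congr 2
  rw [← e]
  refine AddSubgroup.closure_induction
    (p := fun w _ => (comm N (Coh.structureModule X)).hom.app ⊤ w ∈ prods (Coh.structureModule X) N) ?_ ?_ ?_ ?_ h
  · rintro _ ⟨⟨a, b⟩, rfl⟩
    rw [comm_tens]
    exact tens_mem_prods _ _
  · rw [map_zero]; exact zero_mem _
  · intro a b _ _ ha hb; rw [map_add]; exact add_mem ha hb
  · intro a _ ha; rw [map_neg]; exact neg_mem ha

/-- On a quasi-compact scheme a global section of a coproduct is fixed by a finite projection. -/
lemma exists_finset_fixed [CompactSpace X] {J : Type u} {A : J → X.Modules} (c : Cofan A)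
    (hc : IsColimit c) (P : Finset J → (c.pt ⟶ c.pt)) (hP : ∀ (t : Finset J) (j : J), j ∈ t → c.inj j ≫ P t = c.inj j)
    (hP0 : ∀ (t : Finset J) (j : J), j ∉ t → c.inj j ≫ P t = 0)
    (y : Γ(c.pt, ⊤)) : ∃ t, (P t).app ⊤ y = y := by
  classical
  have hloc : ∀ x : X, ∃ (t : Finset J) (W : X.Opens), x ∈ W ∧
      ∀ t' : Finset J, t ⊆ t' → rs c.pt (le_top : W ≤ ⊤) ((P t').app ⊤ y) = rs c.pt le_top y := by
    intro x
    have hx : x ∈ (⊤ : X.Opens) := trivial
    let G := stalkModFunctor X x
    have hG := isColimitCofanMkObjOfIsColimit G (P := c.pt) A c.inj (IsColimit.ofIsoColimit hc (Cofan.ext (Iso.refl _) (fun _ => Category.comp_id _)))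
    let S : Submodule (X.presheaf.stalk x) (c.pt.presheaf.stalk x) := ⨆ j, LinearMap.range (stalkMapₗ (c.inj j) x)
    have hS : S = ⊤ := by
      have e : (ModuleCat.ofHom S.mkQ : G.obj c.pt ⟶ ModuleCat.of _ _) = 0 :=
        Cofan.IsColimit.hom_ext hG _ _ fun j => ModuleCat.hom_ext (LinearMap.ext fun v => by
          show S.mkQ (stalkMapₗ (c.inj j) x v) = 0
          exact (Submodule.Quotient.mk_eq_zero S).2 (le_iSup (fun j => LinearMap.range (stalkMapₗ (c.inj j) x)) j ⟨v, rfl⟩))
      refine eq_top_iff.2 fun v _ => (Submodule.Quotient.mk_eq_zero S).1 ?_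
      exact congrArg (fun f => f.hom v) e
    obtain ⟨t, ht⟩ := Submodule.exists_finset_of_mem_iSup _
      (show c.pt.presheaf.germ ⊤ x hx y ∈ S by rw [hS]; trivial)
    have hfix : ∀ t', t ⊆ t' → stalkMapₗ (P t') x (c.pt.presheaf.germ ⊤ x hx y) = c.pt.presheaf.germ ⊤ x hx y := by
      intro t' htt'
      refine Submodule.iSup_induction (fun j : J => ⨆ (_ : j ∈ t), LinearMap.range (stalkMapₗ (c.inj j) x))
        (motive := fun v => stalkMapₗ (P t') x v = v) ht (fun j v hv => ?_) (map_zero _)
        (fun a b ha hb => by rw [map_add, ha, hb])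
      by_cases hj : j ∈ t
      · rw [iSup_pos hj] at hv
        obtain ⟨v, rfl⟩ := hv
        exact (LinearMap.congr_fun (stalkMapₗ_comp (c.inj j) (P t') x) v).symm.trans
          (by rw [hP t' j (htt' hj)])
      · rw [iSup_neg hj, Submodule.mem_bot] at hv
        subst hv; exact map_zero _
    obtain ⟨W, hxW, i₁, i₂, hW⟩ := TopCat.Presheaf.germ_eq c.pt.presheaf x hx hx _ _
      ((stalkMapₗ_germ (P t) hx y).symm.trans (hfix t subset_rfl))
    refine ⟨t, W, hxW, fun t' htt' => ?_⟩
    have : rs c.pt (le_top : W ≤ ⊤) ((P t').app ⊤ ((P t).app ⊤ y)) = rs c.pt le_top ((P t).app ⊤ y) := by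
      have hcomp : P t ≫ P t' = P t := by
        refine Cofan.IsColimit.hom_ext hc _ _ fun j => ?_
        by_cases hj : j ∈ t
        · rw [← Category.assoc, hP t j hj, hP t' j (htt' hj)]
        · rw [← Category.assoc, hP0 t j hj, zero_comp]
      rw [← CategoryTheory.comp_apply, ← Scheme.Modules.Hom.comp_app, hcomp]
    rw [← app_rs, show rs c.pt (le_top : W ≤ ⊤) ((P t).app ⊤ y) = rs c.pt le_top y from hW] at this
    rwa [app_rs] at this
  choose t W hxW hW using hloc
  obtain ⟨F, hF⟩ := (CompactSpace.isCompact_univ (X := X)).elim_finite_subcover (fun x => (W x : Set X))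
    (fun x => (W x).2) fun x _ => Set.mem_iUnion.2 ⟨x, hxW x⟩
  refine ⟨F.biUnion t, section_ext _ _ _ fun z _ => ?_⟩
  obtain ⟨x, hxF, hzx⟩ := Set.mem_iUnion₂.1 (hF (Set.mem_univ z))
  exact ⟨W x, le_top, hzx, hW x _ (Finset.subset_biUnion_of_mem t hxF)⟩

set_option maxHeartbeats 800000 in
/-- Global sections of `O^(J) ⊗ N` map to products under `ev ⊗ N`. -/
lemma app_mem_prods [CompactSpace X] {J : Type u} {L : X.Modules} (ev : (SheafOfModules.free J : X.Modules) ⟶ L)
    (N : X.Modules) (y : Γ(CohB1.tensorMod (SheafOfModules.free J : X.Modules) N, ⊤)) :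
    (tmap ev (𝟙 N)).app ⊤ y ∈ prods L N := by
  classical
  let F : X.Modules := SheafOfModules.free J
  let ι' : J → (Coh.structureModule X ⟶ F) := fun j => SheafOfModules.ιFree j
  let π' : J → (F ⟶ Coh.structureModule X) := fun j =>
    Cofan.IsColimit.desc (SheafOfModules.isColimitFreeCofan J) (fun i => if i = j then 𝟙 _ else 0)
  have hπ : ∀ i j, ι' i ≫ π' j = if i = j then 𝟙 _ else 0 := fun i j =>
    Cofan.IsColimit.fac (SheafOfModules.isColimitFreeCofan J) _ i
  let T := tensorBy N
  haveI : T.Additive := addTensorBy N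
  have hc := isColimitCofanMkObjOfIsColimit T (P := F) _ ι' (SheafOfModules.isColimitFreeCofan J)
  obtain ⟨t, ht⟩ := exists_finset_fixed _ hc (fun t => ∑ j ∈ t, T.map (π' j) ≫ T.map (ι' j))
    (fun t i hi => by
      show T.map (ι' i) ≫ _ = T.map (ι' i)
      rw [Preadditive.comp_sum, Finset.sum_eq_single i]
      · rw [← Category.assoc, ← T.map_comp, hπ, if_pos rfl, T.map_id, Category.id_comp]
      · intro j _ hj
        rw [← Category.assoc, ← T.map_comp, hπ, if_neg (Ne.symm hj), T.map_zero, zero_comp]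
      · intro h; exact absurd hi h)
    (fun t i hi => by
      show T.map (ι' i) ≫ _ = 0
      rw [Preadditive.comp_sum, Finset.sum_eq_zero fun j hj => ?_]
      rw [← Category.assoc, ← T.map_comp, hπ, if_neg (fun e : i = j => hi (e ▸ hj)), T.map_zero, zero_comp]) y
  rw [← ht]
  have : ∀ (s : Finset J) (φ : J → (T.obj F ⟶ T.obj F)), (∑ j ∈ s, φ j).app ⊤ y = ∑ j ∈ s, (φ j).app ⊤ y := by
    intro s φ
    induction s using Finset.induction_on with
    | empty => rfl
    | insert a s ha ih => rw [Finset.sum_insert ha, Finset.sum_insert ha, Scheme.Modules.Hom.add_app]; exact congrArg (_ + ·) ih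
  erw [this, map_sum]
  refine sum_mem fun j _ => ?_
  have h := tmap_mem_prods (ι' j ≫ (show F ⟶ L from ev)) (𝟙 N) (mem_prods_unit_left ((T.map (π' j)).app ⊤ y))
  rw [show (tmap (ι' j ≫ (show F ⟶ L from ev)) (𝟙 N)) = T.map (ι' j ≫ (show F ⟶ L from ev)) from rfl, T.map_comp] at h
  exact h

/-- Let k be an algebraically closed field, X a proper k-scheme and L an invertible O_X-module which is
globally generated, its evaluation map H^0(X, L) ⊗ O_X → L given as an epimorphism ev from a free
module inducing a bijection on global sections; let M_L = ker ev be the kernel bundle. Let i ≥ 0 and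
h ≥ 1 and suppose H^1(X, M_L^{⊗(i+1)} ⊗ L^{⊗h}) = 0. Then the multiplication map on global sections
H^0(X, L) ⊗ H^0(X, M_L^{⊗i} ⊗ L^{⊗h}) → H^0(X, L ⊗ (M_L^{⊗i} ⊗ L^{⊗h})), written as the map from the
global sections of the sectionwise tensor product presheaf to the global sections of its
sheafification, is surjective (its target is H^0(X, M_L^{⊗i} ⊗ L^{⊗(h+1)}) up to the canonical
isomorphism; the published statement writes both sides as the iterated kernels K(L^h, L, …, L) of
multiplication maps, which its first part identifies with these section spaces). The published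
statement is for a projective variety; this row allows any proper k-scheme. -/
theorem result (k : Type u) [Field k] [IsAlgClosed k]
    (X : Scheme.{u}) [X.Over (Spec (CommRingCat.of k))] [IsProper (X ↘ Spec (CommRingCat.of k))]
    (L : X.Modules) (hL : PicF.IsInvertible L)
    (J : Type u) (ev : (SheafOfModules.free J : X.Modules) ⟶ L) [Epi ev]
    (hev : Function.Bijective (Sheaf.H.map ((SheafOfModules.toSheaf X.ringCatSheaf).map ev) 0))
    (i h : ℕ) (hh : 1 ≤ h)
    (hvan : Subsingleton (Coh.HH X (CohB1.tensorMod (CohB1.tensorPow (kernel ev) (i + 1)) (CohB1.tensorPow L h)) 1)) :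
    Function.Surjective ((toSheafify (Opens.grothendieckTopology ↥X)
      (CohB1.tensorPre L (CohB1.tensorMod (CohB1.tensorPow (kernel ev) i) (CohB1.tensorPow L h))).presheaf).app
        (Opposite.op ⊤)) := by
  haveI : CompactSpace X := QuasiCompact.compactSpace_of_compactSpace (X ↘ Spec (CommRingCat.of k))
  set N := CohB1.tensorMod (CohB1.tensorPow (kernel ev) i) (CohB1.tensorPow L h) with hN
  let evX : Quiver.Hom (V := X.Modules) (SheafOfModules.free J : X.Modules) L := ev
  haveI hepi : Epi evX := ⟨fun g g' e => (cancel_epi (C := SheafOfModules X.ringCatSheaf) ev).1 e⟩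
  let S : ShortComplex X.Modules := ShortComplex.mk (kernel.ι evX) evX (kernel.condition evX)
  have hS : S.ShortExact := { exact := ShortComplex.exact_kernel evX }
  haveI : PreservesFiniteColimits (tensorBy N) := PreservesColimitsOfSize.preservesFiniteColimits _
  haveI : (tensorBy N).Additive := addTensorBy N
  have hT : (S.map (tensorBy N)).ShortExact := by
    haveI := (DerivedOX.Calculus.mono_tensor_of_flat_cokernel hS (Cyc.CH.isFlat_of_isInvertible hL) N).2
    exact
      { exact := ShortComplex.exact_of_g_is_cokernel _ (CokernelCofork.mapIsColimit _ hS.gIsCokernel (tensorBy N))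
        mono_f := this
        epi_g := (tensorBy N).map_epi evX }
  have h1 : Subsingleton (Coh.HH X (S.map (tensorBy N)).X₁ 1) :=
    H34.HOne.h1_of_iso (tensorIso (comm (CohB1.tensorPow (kernel ev) i) (kernel ev)) (Iso.refl (CohB1.tensorPow L h)) ≪≫
      assoc _ _ _) hvan
  intro z
  obtain ⟨y, rfl⟩ := H34.HOne.app_top_surjective hT h1 z
  have hy := app_mem_prods ev N y
  refine AddSubgroup.closure_induction (p := fun (w : Γ(CohB1.tensorMod L N, ⊤)) _ => ∃ p,
    (toSheafify (Opens.grothendieckTopology ↥X) (CohB1.tensorPre L N).presheaf).app (op ⊤) p = w) ?_ ?_ ?_ ?_ hy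
  · rintro _ ⟨⟨a, b⟩, rfl⟩
    exact ⟨TensorProduct.tmul _ a b, (tens_eq_η a b).symm⟩
  · exact ⟨0, map_zero _⟩
  · rintro a b _ _ ⟨p, rfl⟩ ⟨q, rfl⟩
    exact ⟨p + q, map_add _ _ _⟩
  · rintro a _ ⟨p, rfl⟩
    exact ⟨-p, map_neg _ _⟩

end Groth.Agent.S18223
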