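import Groth.Statements.S18227
import Groth.Agent.Lib.KoszulChain62.Basic

set_option autoImplicit false
set_option linter.unusedSectionVars false
universe u
open GrSyz

namespace Groth.Agent.S18227

open Groth.Agent.Lib.KoszulChain62

section

variable {k : Type u} [Field k] {n : ℕ}

local notation "P" => MvPolynomial (Fin n) k

theorem mem_stdGr {g : ℤ} {a : P} :
    a ∈ GrSyz.stdGr k (Fin n) g ↔ MvPolynomial.IsWeightedHomogeneous (fun _ => (1 : ℤ)) a g :=
  Iff.rfl

theorem X_mem (v : Fin n) : (MvPolynomial.X v : P) ∈ GrSyz.stdGr k (Fin n) 1 :=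
  MvPolynomial.isWeightedHomogeneous_X k _ v

/-- Taking a weighted homogeneous component. -/
noncomputable def comp (g : ℤ) (a : P) : P := MvPolynomial.weightedHomogeneousComponent (fun _ => (1 : ℤ)) g a

theorem comp_mem (g : ℤ) (a : P) : comp g a ∈ GrSyz.stdGr k (Fin n) g :=
  MvPolynomial.weightedHomogeneousComponent_isWeightedHomogeneous g a

theorem comp_of_mem {g : ℤ} {a : P} (ha : a ∈ GrSyz.stdGr k (Fin n) g) : comp g a = a := by
  rw [comp, MvPolynomial.weightedHomogeneousComponent_of_mem ha, if_pos rfl]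

theorem comp_X_mul (v : Fin n) (g : ℤ) (a : P) :
    comp g (MvPolynomial.X v * a) = MvPolynomial.X v * comp (g - 1) a := by
  classical
  ext m
  simp only [comp, MvPolynomial.coeff_weightedHomogeneousComponent, MvPolynomial.coeff_X_mul']
  by_cases hv : v ∈ m.support
  · simp only [if_pos hv, MvPolynomial.coeff_weightedHomogeneousComponent]
    have h : Finsupp.weight (fun _ : Fin n => (1 : ℤ)) m =
        Finsupp.weight (fun _ : Fin n => (1 : ℤ)) (m - Finsupp.single v 1) + 1 := by
      conv_lhs => rw [← tsub_add_cancel_of_le (Finsupp.single_le_iff.mpr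
        (Nat.one_le_iff_ne_zero.mpr (Finsupp.mem_support_iff.mp hv)) : Finsupp.single v 1 ≤ m)]
      rw [map_add, Finsupp.weight_single]; simp
    split_ifs with h1 h2 h2 <;> first | rfl | omega
  · simp only [if_neg hv, ite_self]

theorem comp_neg (g : ℤ) (a : P) : comp g (-a) = -comp g a := map_neg _ a

/-- Cycles with homogeneous coefficients are boundaries of chains with homogeneous coefficients. -/
theorem exists_bd_eq_homog (q : ℕ) (g : ℤ) (y : Finset (Fin n) → P)
    (hy : ∀ S, S.card ≠ q → y S = 0) (hg : ∀ S, y S ∈ GrSyz.stdGr k (Fin n) g) (hc : bd k P y = 0)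
    (h0 : y ∅ ∈ Ideal.span (Set.range (MvPolynomial.X : Fin n → P))) :
    ∃ η : Finset (Fin n) → P, (∀ S, S.card ≠ q + 1 → η S = 0) ∧
      (∀ S, η S ∈ GrSyz.stdGr k (Fin n) (g - 1)) ∧ bd k P η = y := by
  classical
  obtain ⟨η, -, -, hη⟩ := exists_bd_eq Finset.univ y (fun S h => absurd (Finset.subset_univ S) h) hc
    (by rwa [Finset.coe_univ, Set.image_univ])
  refine ⟨fun S => if S.card = q + 1 then comp (g - 1) (η S) else 0, fun S h => if_neg h,
    fun S => ?_, ?_⟩
  · dsimp only; split_ifs with h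
    · exact comp_mem _ _
    · exact zero_mem _
  funext S
  rw [bd_apply]
  by_cases hS : S.card = q
  · have h1 := congrArg (comp g) (congrFun hη S)
    rw [bd_apply, comp_of_mem (hg S)] at h1
    rw [← h1, comp, map_sum]
    refine Finset.sum_congr rfl fun v hv => ?_
    rw [if_pos (by rw [Finset.card_insert_of_notMem (Finset.mem_compl.mp hv), hS]), smul_eq_mul,
      smul_eq_mul, ← comp, eps, mul_assoc, mul_assoc]
    rcases neg_one_pow_eq_or P (S.filter (· < v)).card with h | h <;> rw [h]
    · rw [one_mul, one_mul, comp_X_mul]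
    · rw [neg_one_mul, neg_one_mul, comp_neg, comp_X_mul]
  · rw [hy S hS]
    refine Finset.sum_eq_zero fun v hv => smul_eq_zero_of_right _ (if_neg ?_)
    rw [Finset.card_insert_of_notMem (Finset.mem_compl.mp hv)]
    omega

theorem bd_eq_zero_of_card_zero {M : Type u} [AddCommGroup M] [Module P M]
    {y : Finset (Fin n) → M} (hy : ∀ S, S.card ≠ 0 → y S = 0) : bd k M y = 0 := by
  funext S
  rw [bd_apply]
  exact Finset.sum_eq_zero fun v hv => smul_eq_zero_of_right _ (hy _ (by
    rw [Finset.card_insert_of_notMem (Finset.mem_compl.mp hv)]; omega))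

/-- A homogeneous element of the irrelevant ideal is a combination of the variables with
homogeneous coefficients. -/
theorem exists_coeff {g : ℤ} {a : P} (hg : a ∈ GrSyz.stdGr k (Fin n) g)
    (ha : a ∈ Ideal.span (Set.range (MvPolynomial.X : Fin n → P))) :
    ∃ b : Fin n → P, (∀ v, b v ∈ GrSyz.stdGr k (Fin n) (g - 1)) ∧
      ∑ v, MvPolynomial.X v * b v = a := by
  classical
  obtain ⟨η, -, hη, hbd⟩ := exists_bd_eq_homog 0 g (Pi.single ∅ a)
    (fun S h => Pi.single_eq_of_ne (fun e => h (Finset.card_eq_zero.mpr e)) _)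
    (fun S => by
      rcases eq_or_ne S ∅ with rfl | h
      · rwa [Pi.single_eq_same]
      · rw [Pi.single_eq_of_ne h]; exact zero_mem _)
    (bd_eq_zero_of_card_zero fun S h => Pi.single_eq_of_ne (fun e => h (Finset.card_eq_zero.mpr e)) _)
    (by rwa [Pi.single_eq_same])
  refine ⟨fun v => η {v}, fun v => hη _, ?_⟩
  have h1 := congrFun hbd ∅
  rw [Pi.single_eq_same, bd_apply, Finset.compl_empty] at h1
  rw [← h1]
  refine Finset.sum_congr rfl fun v _ => ?_
  simp [eps]

theorem irrel_le :
    (GrSyz.irrel (GrSyz.stdGr k (Fin n))).toIdeal ≤ Ideal.span (Set.range (MvPolynomial.X : Fin n → P)) := by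
  classical
  refine Ideal.span_le.mpr ?_
  rintro a ⟨g, hg, ha⟩
  rw [← Set.image_univ, SetLike.mem_coe, MvPolynomial.mem_ideal_span_X_image]
  intro m hm
  by_contra hc
  push Not at hc
  have : m = 0 := Finsupp.ext fun v => hc v trivial
  subst this
  have := ha (MvPolynomial.mem_support_iff.mp hm)
  rw [map_zero] at this
  omega

theorem mem_span_of_pos {g : ℤ} (hg : 0 < g) {a : P} (ha : a ∈ GrSyz.stdGr k (Fin n) g) :
    a ∈ Ideal.span (Set.range (MvPolynomial.X : Fin n → P)) :=
  irrel_le (Ideal.subset_span ⟨g, hg, ha⟩)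

end

section

variable {k : Type u} [Field k] {n : ℕ} {R : Type u} [AddCommGroup R] [Module k R]
  [Module (MvPolynomial (Fin n) k) R]
  (ℛ : ℤ → Submodule k R) [DirectSum.Decomposition ℛ] [SetLike.GradedSMul (GrSyz.stdGr k (Fin n)) ℛ]

local notation "P" => MvPolynomial (Fin n) k

variable (k n R) in
/-- The iterated syzygies of the variables with values in a module. -/
def Z (i : ℕ) : Submodule P ((Fin i → Fin n) → R) where
  carrier := {m | ∀ (s : Fin i) (c : Fin i → Fin n),
    ∑ v : Fin n, (MvPolynomial.X v : P) • m (Function.update c s v) = 0}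
  zero_mem' s c := by simp
  add_mem' ha hb s c := by simp [Finset.sum_add_distrib, ha s c, hb s c]
  smul_mem' a m hm s c := by
    simp only [Pi.smul_apply, smul_comm _ a, ← Finset.smul_sum, hm s c, smul_zero]

theorem smul_mem_add {g e : ℤ} {a : P} (ha : a ∈ GrSyz.stdGr k (Fin n) g) {x : R} (hx : x ∈ ℛ e) :
    a • x ∈ ℛ (g + e) :=
  SetLike.GradedSMul.smul_mem ha hx

/-- A homogeneous element of the span of elements of lower degree is a combination of the
variables. -/
theorem exists_decomp {i : ℕ} {D : ℤ}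
    (hgen : ∀ m ∈ Z k n R i, m ∈ Submodule.span P {m' | m' ∈ Z k n R i ∧
      ∃ e : ℤ, e ≤ D - 1 ∧ ∀ c, m' c ∈ ℛ e})
    {m : (Fin i → Fin n) → R} (hm : m ∈ Z k n R i) (hmD : ∀ c, m c ∈ ℛ D) :
    ∃ mv : Fin n → (Fin i → Fin n) → R, (∀ v, mv v ∈ Z k n R i) ∧ (∀ v c, mv v c ∈ ℛ (D - 1)) ∧
      ∑ v, (MvPolynomial.X v : P) • mv v = m := by
  classical
  let pr : ((Fin i → Fin n) → R) →+ ((Fin i → Fin n) → R) :=
    { toFun := fun x c => (DirectSum.decompose ℛ (x c) D : R)
      map_zero' := by funext c; simp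
      map_add' := fun x y => by funext c; simp }
  let Good : ((Fin i → Fin n) → R) → Prop := fun w =>
    ∃ mv : Fin n → (Fin i → Fin n) → R, (∀ v, mv v ∈ Z k n R i) ∧ (∀ v c, mv v c ∈ ℛ (D - 1)) ∧
      ∑ v, (MvPolynomial.X v : P) • mv v = w
  have good0 : Good 0 := ⟨0, fun _ => zero_mem _, fun _ _ => zero_mem _, by simp⟩
  have goodadd : ∀ w w', Good w → Good w' → Good (w + w') := by
    rintro w w' ⟨a, ha1, ha2, rfl⟩ ⟨b, hb1, hb2, rfl⟩
    exact ⟨a + b, fun v => add_mem (ha1 v) (hb1 v), fun v c => add_mem (ha2 v c) (hb2 v c),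
      by simp [smul_add, Finset.sum_add_distrib]⟩
  have key : ∀ x ∈ Submodule.span P {m' | m' ∈ Z k n R i ∧
      ∃ e : ℤ, e ≤ D - 1 ∧ ∀ c, m' c ∈ ℛ e}, ∀ a : P, Good (pr (a • x)) := by
    intro x hx
    induction hx using Submodule.span_induction with
    | zero => intro a; rw [smul_zero, map_zero]; exact good0
    | add x y _ _ hx hy => intro a; rw [smul_add, map_add]; exact goodadd _ _ (hx a) (hy a)
    | smul b x _ hx => intro a; rw [smul_smul]; exact hx (a * b)
    | mem x hx =>
      obtain ⟨hxZ, e, he, hxe⟩ := hx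
      intro a
      induction a using DirectSum.Decomposition.inductionOn (GrSyz.stdGr k (Fin n)) with
      | zero => rw [zero_smul, map_zero]; exact good0
      | add a b ha hb => rw [add_smul, map_add]; exact goodadd _ _ ha hb
      | @homogeneous g a =>
        have hax : ∀ c, ((a : P) • x) c ∈ ℛ (g + e) := fun c => smul_mem_add ℛ a.2 (hxe c)
        by_cases hgD : g + e = D
        · have hpr : pr ((a : P) • x) = (a : P) • x := by
            funext c
            exact DirectSum.decompose_of_mem_same ℛ (hgD ▸ hax c)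
          obtain ⟨b, hb, hab⟩ := exists_coeff a.2 (mem_span_of_pos (by omega) a.2)
          refine ⟨fun v => b v • x, fun v => Submodule.smul_mem _ _ hxZ, fun v c => ?_, ?_⟩
          · have h2 := smul_mem_add ℛ (hb v) (hxe c)
            rwa [show g - 1 + e = D - 1 by omega] at h2
          · rw [hpr]
            conv_rhs => rw [← hab]
            rw [Finset.sum_smul]
            exact Finset.sum_congr rfl fun v _ => smul_smul _ _ _
        · have hpr : pr ((a : P) • x) = 0 := by
            funext c
            exact DirectSum.decompose_of_mem_ne ℛ (hax c) hgD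
          rw [hpr]; exact good0
  have h1 := key m (hgen m hm) 1
  rwa [one_smul, show pr m = m from funext fun c => DirectSum.decompose_of_mem_same ℛ (hmD c)] at h1

theorem eps_smul_mem {D : ℤ} {x : R} (hx : x ∈ ℛ D) (v : Fin n) (S : Finset (Fin n)) :
    (eps (k := k) v S * MvPolynomial.X v : P) • x ∈ ℛ (D + 1) := by
  rw [mul_smul]
  have h1 := smul_mem_add ℛ (X_mem (k := k) v) hx
  rw [add_comm] at h1
  rcases neg_one_pow_eq_or P (S.filter (· < v)).card with h | h <;> rw [eps, h]
  · rwa [one_smul]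
  · rw [neg_one_smul]; exact neg_mem h1

/-- Vanishing of Koszul homology with values in the iterated syzygies. -/
theorem exists_bd (D : ℤ) (p : ℕ)
    (hgen : ∀ i ≤ p, ∀ m ∈ Z k n R i, m ∈ Submodule.span P {m' | m' ∈ Z k n R i ∧
      ∃ e : ℤ, e ≤ D - 1 ∧ ∀ c, m' c ∈ ℛ e}) :
    ∀ (q i : ℕ), q + i = p → ∀ z : Finset (Fin n) → (Fin i → Fin n) → R,
      (∀ S, z S ∈ Z k n R i) → (∀ S c, z S c ∈ ℛ D) → (∀ S, S.card ≠ q → z S = 0) →
      bd k _ z = 0 →
      ∃ η : Finset (Fin n) → (Fin i → Fin n) → R, (∀ S, η S ∈ Z k n R i) ∧ bd k _ η = z := by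
  classical
  intro q
  induction q with
  | zero =>
    intro i hi z hzZ hzD hzq _
    choose mv hmv1 hmv2 hmv3 using fun S => exists_decomp ℛ (hgen i (by omega)) (hzZ S) (hzD S)
    let y : Fin n → Finset (Fin n) → (Fin i → Fin n) → R := fun v S =>
      if S.card = 0 then mv S v else 0
    refine ⟨wedge (k := k) y, fun S => Submodule.sum_mem _ fun v _ => Submodule.smul_mem _ _ ?_,
      (sum_smul_eq_bd_wedge y fun v => bd_eq_zero_of_card_zero fun S h => if_neg h).symm.trans ?_⟩
    · simp only [y]; split_ifs with h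
      · exact hmv1 _ _
      · exact zero_mem _
    · funext S
      rw [Finset.sum_apply]
      simp only [Pi.smul_apply, y]
      by_cases h : S.card = 0
      · simp only [if_pos h, hmv3]
      · rw [hzq S h]; simp only [if_neg h, Pi.zero_apply, smul_zero, Finset.sum_const_zero]
  | succ q ih =>
    intro i hi z hzZ hzD hzq hcyc
    choose mv hmv1 hmv2 hmv3 using fun S => exists_decomp ℛ (hgen i (by omega)) (hzZ S) (hzD S)
    let y : Fin n → Finset (Fin n) → (Fin i → Fin n) → R := fun v S =>
      if S.card = q + 1 then mv S v else 0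
    have hyZ : ∀ v S, y v S ∈ Z k n R i := fun v S => by
      simp only [y]; split_ifs with h
      · exact hmv1 _ _
      · exact zero_mem _
    have hyD : ∀ v S c, y v S c ∈ ℛ (D - 1) := fun v S c => by
      simp only [y]; split_ifs with h
      · exact hmv2 _ _ _
      · exact zero_mem _
    have hzy : z = ∑ v, (MvPolynomial.X v : P) • y v := by
      funext S
      rw [Finset.sum_apply]
      simp only [Pi.smul_apply, y]
      by_cases h : S.card = q + 1
      · simp only [if_pos h, hmv3]
      · rw [hzq S h]; simp only [if_neg h, Pi.zero_apply, smul_zero, Finset.sum_const_zero]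
    have hbdZ : ∀ v S, bd k _ (y v) S ∈ Z k n R i := fun v S => by
      rw [bd_apply]
      exact Submodule.sum_mem _ fun u _ => Submodule.smul_mem _ _ (hyZ _ _)
    let z' : Finset (Fin n) → (Fin (i + 1) → Fin n) → R := fun S c =>
      bd k _ (y (c 0)) S (Fin.tail c)
    have hzero : ∀ S (c : Fin i → Fin n),
        ∑ v, (MvPolynomial.X v : P) • bd k _ (y v) S c = 0 := fun S c => by
      have h1 : bd k _ z S c = 0 := by rw [hcyc]; rfl
      rw [hzy, map_sum] at h1
      simpa only [map_smul, Finset.sum_apply, Pi.smul_apply] using h1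
    have hz'Z : ∀ S, z' S ∈ Z k n R (i + 1) := fun S s c => by
      refine Fin.cases ?_ (fun s' => ?_) s
      · simp only [z', Function.update_self, Fin.tail_update_zero]
        exact hzero S _
      · simp only [z', Fin.tail_update_succ,
          Function.update_of_ne (Fin.succ_ne_zero s').symm]
        exact hbdZ (c 0) S s' (Fin.tail c)
    have hz'D : ∀ S c, z' S c ∈ ℛ D := fun S c => by
      simp only [z', bd_apply, Finset.sum_apply, Pi.smul_apply]
      refine sum_mem fun u _ => ?_
      have h1 := eps_smul_mem ℛ (hyD (c 0) (insert u S) (Fin.tail c)) u S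
      rwa [sub_add_cancel] at h1
    have hz'q : ∀ S, S.card ≠ q → z' S = 0 := fun S hS => by
      funext c
      simp only [z', bd_apply, Finset.sum_apply, Pi.smul_apply, Pi.zero_apply]
      refine Finset.sum_eq_zero fun u hu => ?_
      simp only [y]
      rw [if_neg, Pi.zero_apply, smul_zero]
      rw [Finset.card_insert_of_notMem (Finset.mem_compl.mp hu)]
      omega
    have hz'c : bd k _ z' = 0 := by
      funext S c
      have h1 : bd k _ (bd k _ (y (c 0))) S (Fin.tail c) = 0 := by rw [bd_bd]; rfl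
      simpa only [z', bd_apply, Finset.sum_apply, Pi.smul_apply, Pi.zero_apply] using h1
    obtain ⟨w, hwZ, hw⟩ := ih (i + 1) (by omega) z' hz'Z hz'D hz'q hz'c
    let wv : Fin n → Finset (Fin n) → (Fin i → Fin n) → R := fun v S c => w S (Fin.cons v c)
    have hwvZ : ∀ v S, wv v S ∈ Z k n R i := fun v S s c => by
      have h1 := hwZ S s.succ (Fin.cons v c)
      simpa only [wv, ← Fin.cons_update] using h1
    have hwv0 : ∑ v, (MvPolynomial.X v : P) • wv v = 0 := by
      funext S c
      simp only [Finset.sum_apply, Pi.smul_apply, Pi.zero_apply, wv]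
      rcases isEmpty_or_nonempty (Fin n) with hn | hn
      · exact Finset.sum_of_isEmpty _
      · have h1 := hwZ S 0 (Fin.cons (Classical.arbitrary (Fin n)) c)
        simpa only [Fin.update_cons_zero] using h1
    have hwvbd : ∀ v, bd k _ (wv v) = bd k _ (y v) := fun v => by
      funext S c
      have h1 : bd k _ w S (Fin.cons v c) = z' S (Fin.cons v c) := by rw [hw]
      simpa only [z', wv, bd_apply, Finset.sum_apply, Pi.smul_apply, Fin.cons_zero,
        Fin.tail_cons] using h1
    refine ⟨wedge (k := k) (fun v => y v - wv v),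
      fun S => Submodule.sum_mem _ fun v _ => Submodule.smul_mem _ _ (sub_mem (hyZ _ _) (hwvZ _ _)),
      (sum_smul_eq_bd_wedge _ fun v => by rw [map_sub, hwvbd, sub_self]).symm.trans ?_⟩
    rw [hzy]
    simp only [smul_sub, Finset.sum_sub_distrib, hwv0, sub_zero]

end

/-- Let k be an algebraically closed field, S = k[x_0, …, x_r] with its standard grading, 𝔪 = (x_0, …,
x_r) so that k = S/𝔪, and R a finitely generated ℤ-graded S-module. Put T^0(R) = R, T^1(R) =
Ker[R(−1) ⊗_k S_1 → R] (the kernel of (m_v) ↦ Σ_v x_v m_v on R(−1)^{r+1}) and T^i(R) =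
T^{i−1}(T^1(R)); concretely T^i(R) is the module of R-valued functions m on words c of length i in
the indices 0, …, r such that Σ_v x_v m(c with the letter in slot s replaced by v) = 0 for every
slot s and every word c, an element being homogeneous of degree j when all its values lie in
R_{j−i}; let d_i(R) be the least d such that T^i(R) is generated over S by elements of degree ≤ d.
Let p ≥ 0 and j an integer with j > p − i + d_i(R) for all 0 ≤ i ≤ p, that is: for every i ≤ p,
T^i(R) is generated over S by its homogeneous elements of degree ≤ j − p + i − 1. Then Tor_p^S(R,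
k)_j = 0: every graded free resolution of R by finite-rank free modules with homogeneous bases which
is minimal (all matrix entries in 𝔪) has no basis vector of degree j in its p-th term. -/
theorem result (k : Type u) [Field k] [IsAlgClosed k] (r : ℕ)
    (R : Type u) [AddCommGroup R] [Module k R] [Module (MvPolynomial (Fin (r + 1)) k) R]
    [IsScalarTower k (MvPolynomial (Fin (r + 1)) k) R] [Module.Finite (MvPolynomial (Fin (r + 1)) k) R]
    (ℛ : ℤ → Submodule k R) [DirectSum.Decomposition ℛ] [SetLike.GradedSMul (GrSyz.stdGr k (Fin (r + 1))) ℛ]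
    (p : ℕ) (j : ℤ)
    (hgen : ∀ i : ℕ, i ≤ p → ∀ m : (Fin i → Fin (r + 1)) → R, (∀ (s : Fin i) (c : Fin i → Fin (r + 1)), ∑ v : Fin (r + 1), (MvPolynomial.X v : MvPolynomial (Fin (r + 1)) k) • m (Function.update c s v) = 0) →
      m ∈ Submodule.span (MvPolynomial (Fin (r + 1)) k) {m' : (Fin i → Fin (r + 1)) → R |
        (∀ (s : Fin i) (c : Fin i → Fin (r + 1)), ∑ v : Fin (r + 1), (MvPolynomial.X v : MvPolynomial (Fin (r + 1)) k) • m' (Function.update c s v) = 0) ∧ ∃ e : ℤ, e ≤ j - (p : ℤ) + (i : ℤ) - 1 ∧ ∀ c : Fin i → Fin (r + 1), m' c ∈ ℛ (e - (i : ℤ))})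
    (F : GrSyz.FreeRes (GrSyz.stdGr k (Fin (r + 1))) ℛ)
    (hF : F.IsMinimal (GrSyz.irrel (GrSyz.stdGr k (Fin (r + 1)))).toIdeal) :
    F.betti p j = 0 := by
  classical
  have hD : ∀ i ≤ p, ∀ m ∈ Z k (r + 1) R i, m ∈ Submodule.span (MvPolynomial (Fin (r + 1)) k)
      {m' | m' ∈ Z k (r + 1) R i ∧ ∃ e : ℤ, e ≤ (j - p) - 1 ∧ ∀ c, m' c ∈ ℛ e} := by
    intro i hi m hm
    refine Submodule.span_mono ?_ (hgen i hi m hm)
    rintro m' ⟨h1, e, he, h2⟩
    exact ⟨h1, e - i, by omega, h2⟩
  by_contra hb
  obtain ⟨b, hb⟩ := Finset.card_pos.mp (Nat.pos_of_ne_zero hb)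
  rw [Finset.mem_filter] at hb
  -- zigzag through the double complex
  let Reach : ∀ t : ℕ, (Finset (Fin (r + 1)) → Fin (F.rk t) → MvPolynomial (Fin (r + 1)) k) → Prop :=
    fun t ω => ∃ (η : Finset (Fin (r + 1)) → Fin (F.rk (t + 1)) → MvPolynomial (Fin (r + 1)) k)
      (η' : Finset (Fin (r + 1)) → Fin (F.rk t) → MvPolynomial (Fin (r + 1)) k),
      ω = (fun S => F.dLin t (η S)) + bd k _ η'
  suffices key : ∀ t q : ℕ, q + t = p → ∃ ω : Finset (Fin (r + 1)) → Fin (F.rk t) → MvPolynomial (Fin (r + 1)) k,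
      (∀ S, S.card ≠ q → ω S = 0) ∧
      (∀ S c, ω S c ∈ GrSyz.stdGr k (Fin (r + 1)) (j - q - F.deg t c)) ∧
      (∃ ρ : Finset (Fin (r + 1)) → Fin (F.rk (t + 1)) → MvPolynomial (Fin (r + 1)) k,
        bd k _ ω = fun S => F.dLin t (ρ S)) ∧ ¬ Reach t ω by
    obtain ⟨ω, hωq, hωD, ⟨ρ, hρ⟩, hR⟩ := key 0 p (add_zero p)
    let z : Finset (Fin (r + 1)) → (Fin 0 → Fin (r + 1)) → R := fun S _ => F.augLin (ω S)
    obtain ⟨η, -, hη⟩ := exists_bd ℛ (j - p) p hD p 0 (add_zero p) z (fun S s => Fin.elim0 s)
      (fun S c => by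
        simp only [z, Fintype.linearCombination_apply]
        refine sum_mem fun b _ => ?_
        have h1 := smul_mem_add ℛ (hωD S b) (F.aug_mem b)
        rwa [sub_add_cancel] at h1)
      (fun S h => by funext c; simp only [z, hωq S h, map_zero, Pi.zero_apply])
      (by
        funext S c
        have h1 : F.augLin (bd k _ ω S) = 0 := by
          rw [hρ]
          have : F.dLin 0 (ρ S) ∈ LinearMap.ker F.augLin := by
            rw [F.exact_zero]; exact ⟨_, rfl⟩
          exact this
        simpa only [z, bd_apply, map_sum, map_smul, Finset.sum_apply, Pi.smul_apply,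
          Pi.zero_apply] using h1)
    choose y hy using fun S => F.aug_surjective (η S ![])
    have hk : ∀ S, ω S - bd k _ y S ∈ LinearMap.range (F.dLin 0) := fun S => by
      rw [← F.exact_zero, LinearMap.mem_ker, map_sub, sub_eq_zero]
      have h1 : bd k _ η S ![] = z S ![] := by rw [hη]
      simp only [bd_apply, Finset.sum_apply, Pi.smul_apply, z] at h1
      rw [← h1, bd_apply, map_sum]
      simp only [map_smul, hy]
    choose η₁ hη₁ using hk
    exact hR ⟨η₁, y, funext fun S => by
      rw [Pi.add_apply]; exact (sub_eq_iff_eq_add.mp (hη₁ S).symm)⟩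
  intro t
  induction hpt : p - t generalizing t with
  | zero =>
    intro q hq
    obtain rfl : t = p := by omega
    obtain rfl : q = 0 := by omega
    refine ⟨Pi.single ∅ (Pi.single b 1), fun S h => Pi.single_eq_of_ne (fun e => h (Finset.card_eq_zero.mpr e)) _,
      fun S c => ?_, ⟨0, ?_⟩, ?_⟩
    · rcases eq_or_ne S ∅ with rfl | hS
      · rw [Pi.single_eq_same]
        rcases eq_or_ne c b with rfl | hc
        · rw [Pi.single_eq_same, hb.2, Nat.cast_zero, sub_zero, sub_self]
          exact SetLike.one_mem_graded _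
        · rw [Pi.single_eq_of_ne hc]; exact zero_mem _
      · rw [Pi.single_eq_of_ne hS]; exact zero_mem _
    · rw [bd_eq_zero_of_card_zero fun S h => Pi.single_eq_of_ne (fun e => h (Finset.card_eq_zero.mpr e)) _]
      funext S; simp
    · rintro ⟨η, η', h⟩
      have h1 := congrFun (congrFun h ∅) b
      rw [Pi.single_eq_same, Pi.single_eq_same, Pi.add_apply, Pi.add_apply] at h1
      have hX : (1 : MvPolynomial (Fin (r + 1)) k) ∈ Ideal.span (Set.range MvPolynomial.X) := by
        rw [h1]
        refine add_mem ?_ ?_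
        · show ∑ c, F.d t b c * η ∅ c ∈ _
          exact Ideal.sum_mem _ fun c _ => Ideal.mul_mem_right _ _ (irrel_le (hF t b c))
        · rw [bd_apply, Finset.sum_apply]
          refine Ideal.sum_mem _ fun v _ => ?_
          rw [Pi.smul_apply, smul_eq_mul]
          exact Ideal.mul_mem_right _ _ (Ideal.mul_mem_left _ _ (Ideal.subset_span ⟨v, rfl⟩))
      rw [← Set.image_univ, MvPolynomial.mem_ideal_span_X_image] at hX
      obtain ⟨v, -, hv⟩ := hX 0 (by simp [MvPolynomial.mem_support_iff])
      exact hv rfl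
  | succ m ih =>
    intro q hq
    obtain ⟨q', rfl⟩ : ∃ q', q = q' + 1 := ⟨q - 1, by omega⟩
    obtain ⟨ω, hωq, hωD, ⟨ρ, hρ⟩, hR⟩ := ih (t + 1) (by omega) q' (by omega)
    let y : Finset (Fin (r + 1)) → Fin (F.rk t) → MvPolynomial (Fin (r + 1)) k :=
      fun S => F.dLin t (ω S)
    have hdd : ∀ x, F.dLin t (F.dLin (t + 1) x) = 0 := fun x => by
      have : F.dLin (t + 1) x ∈ LinearMap.ker (F.dLin t) := by
        rw [F.exact_succ t]; exact ⟨_, rfl⟩
      exact this
    have hy0 : bd k _ y = 0 := by
      rw [bd_map, hρ]; funext S; exact hdd _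
    have hmul : ∀ S c, y S c = ∑ b' : Fin (F.rk (t + 1)), F.d t c b' * ω S b' := fun S c => rfl
    have hc : ∀ c, ∃ η : Finset (Fin (r + 1)) → MvPolynomial (Fin (r + 1)) k,
        (∀ S, S.card ≠ q' + 1 → η S = 0) ∧
        (∀ S, η S ∈ GrSyz.stdGr k (Fin (r + 1)) (j - q' - F.deg t c - 1)) ∧
        bd k _ η = fun S => y S c := fun c => by
      refine exists_bd_eq_homog q' (j - q' - F.deg t c) (fun S => y S c)
        (fun S h => by simp [y, hωq S h]) (fun S => ?_) ?_ ?_
      · rw [hmul]
        refine sum_mem fun b' _ => ?_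
        have h1 := SetLike.mul_mem_graded (F.d_mem t c b') (hωD S b')
        rwa [show F.deg (t + 1) b' - F.deg t c + (j - q' - F.deg (t + 1) b') =
          j - q' - F.deg t c by ring] at h1
      · funext S
        have h1 : bd k _ y S c = 0 := by rw [hy0]; rfl
        simpa only [bd_apply, Finset.sum_apply, Pi.smul_apply, Pi.zero_apply] using h1
      · rw [hmul]
        exact Ideal.sum_mem _ fun b' _ => Ideal.mul_mem_right _ _ (irrel_le (hF t c b'))
    choose η hηq hηD hη using hc
    have hbdη : bd k _ (fun S c => η c S) = y := by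
      funext S c
      have h1 := congrFun (hη c) S
      simpa only [bd_apply, Finset.sum_apply, Pi.smul_apply] using h1
    refine ⟨fun S c => η c S, fun S h => funext fun c => hηq c S h, fun S c => ?_, ⟨ω, hbdη⟩, ?_⟩
    · have h1 := hηD c S
      rwa [show j - q' - F.deg t c - 1 = j - ↑(q' + 1) - F.deg t c by push_cast; ring] at h1
    · rintro ⟨η₁, η₂, h⟩
      apply hR
      have h2 : y = fun S => F.dLin t (bd k _ η₁ S) := by
        rw [← hbdη, h, map_add, bd_bd, add_zero, bd_map]
      have hk : ∀ S, ω S - bd k _ η₁ S ∈ LinearMap.range (F.dLin (t + 1)) := fun S => by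
        rw [← F.exact_succ t, LinearMap.mem_ker, map_sub, sub_eq_zero]
        exact congrFun h2 S
      choose η₃ hη₃ using hk
      exact ⟨η₃, η₁, funext fun S => by
        rw [Pi.add_apply]; exact (sub_eq_iff_eq_add.mp (hη₃ S).symm)⟩

end Groth.Agent.S18227
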