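import Groth.Statements.S18229
import Groth.Agent.H52.SimpleAmple
import Groth.Agent.H2.Rigid.GeomIrred

set_option autoImplicit false
universe u
open CategoryTheory CategoryTheory.Limits MonoidalCategory CartesianMonoidalCategory MonObj GrpObj AlgebraicGeometry
open AbVar

namespace Groth.Agent.S18229

/-- Let k be an algebraically closed field (any characteristic) and X a simple abelian variety over k: a
proper smooth k-group scheme with geometrically connected fibres whose only geometrically integral
closed k-subgroup schemes are the trivial subgroup and X itself. Let G be an invertible O_X-module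
which is effective and non-trivial: H^0(X, G) ≠ 0 and G is not isomorphic to O_X. Then G is ample.
(In other words, when the abelian variety is simple, any line bundle that is effective and not
trivial must be ample.) -/
theorem result (k : Type u) [Field k] [IsAlgClosed k]
    (X : Over (Spec (CommRingCat.of k))) [GrpObj X] [IsProper X.hom] [Smooth X.hom] [GeometricallyConnected X.hom]
    (hsimple : ∀ (B : Over (Spec (CommRingCat.of k))) [GrpObj B] [GeometricallyIntegral B.hom] (i : B ⟶ X) [IsMonHom i]
      [IsClosedImmersion i.left], Subsingleton ↥B.left ∨ IsIso i)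
    (G : X.left.Modules) (hG : PicF.IsInvertible G)
    (hsec : Nontrivial (Coh.HH X.left G 0)) (hne : ¬ Nonempty (G ≅ Coh.structureModule X.left)) :
    CohB1.IsAmple G := by
  letI : ∀ Y : Scheme.{u}, PicGrp.Law Y := Groth.Agent.Lib.TensorMod.Invertible.law
  haveI := Groth.Agent.H2.Rigid.GeomIrred.geometricallyIntegral_of_smooth X.hom
  obtain ⟨s, hs⟩ := Groth.Agent.Lib.Curves.Positivity.exists_section_of_nontrivial hsec
  refine Groth.Agent.H52.NondegAmple.isAmple G hG s hs ?_
  by_contra hinf
  let ℓ := PicGrp.cls G hG
  have hall := Groth.Agent.H52.SimpleAmple.inv_of_infinite hsimple ℓ fun hfin => hinf (hfin.subset fun b hb =>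
    (Groth.Agent.H3.PicCalc.iso_iff (Groth.Agent.H3.PicCalc.cl_pullback _ (a := ℓ) rfl) (b := ℓ) rfl).mp hb)
  haveI := Groth.Agent.H52.PicZeroTranslate.acyclic G hG hall (fun h => hne ((PicGrp.cls_eq_one_iff hG).mp h)) 0
  exact false_of_nontrivial_of_subsingleton (Coh.HH X.left G 0)

end Groth.Agent.S18229
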