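import Groth.Statements.S18231

import Groth.Agent.Lib.GrpSch.EqvLiftApp
import Groth.Prelude.Def_Magnet4

set_option autoImplicit false
universe u
open CategoryTheory MonoidalCategory CartesianMonoidalCategory AlgebraicGeometry Opposite
open Magnet

open Groth.Agent.Lib.GrpSch.AttrAffine

namespace Groth.Agent.S18231

attribute [local instance] baseAlg

/-- The statement for a surjection of rings with square-zero kernel. -/
theorem exists_lift (S : Scheme.{u}) (M : Type) [AddCommGroup M]
    (N : AddSubmonoid M) {X Y : Over S} (aX : Magnet.MonAct (Magnet.AMonS S M) X)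
    (aY : Magnet.MonAct (Magnet.AMonS S M) Y) (f : X ⟶ Y) (hf : Magnet.MonAct.IsEquivariant aX aY f)
    [Smooth f.left] {A B : CommRingCat.{u}} (m : A ⟶ B) (hm : Function.Surjective m.hom)
    (hsq : RingHom.ker m.hom ^ 2 = ⊥) (str : Spec A ⟶ S)
    (x : (Magnet.attr aX N).obj (op (specOver B (Spec.map m ≫ str))))
    (y : (Magnet.attr aY N).obj (op (specOver A str)))
    (hw : x.1 ≫ f = (Magnet.AMonS S ↥N ◁ sMap m rfl) ≫ y.1) :
    ∃ l : (Magnet.attr aX N).obj (op (specOver A str)),
      (Magnet.AMonS S ↥N ◁ sMap m rfl) ≫ l.1 = x.1 ∧ l.1 ≫ f = y.1 := by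
  let g : specOver B (Spec.map m ≫ str) ⟶ specOver A str := sMap m rfl
  let e := dIso (M := ↥N) A str
  let e0 := dIso (M := ↥N) B (Spec.map m ≫ str)
  let ρ := transportAct e ((Magnet.subAct S M N).prod
    (Magnet.MonAct.trivial (Magnet.AMonS S M) (specOver A str)))
  let ρ0 := transportAct e0 ((Magnet.subAct S M N).prod
    (Magnet.MonAct.trivial (Magnet.AMonS S M) (specOver B (Spec.map m ≫ str))))
  let i := dMap (M := ↥N) m (t := str) rfl
  have hie : i = e0.hom ≫ (Magnet.AMonS S ↥N ◁ g) ≫ e.inv := by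
    rw [← Category.assoc, Iso.eq_comp_inv]
    exact dMap_dIso m rfl
  have hi : Magnet.MonAct.IsEquivariant ρ0 ρ i := by
    rw [hie]
    exact (isEquivariant_transport_hom e0 _).comp
      (Magnet.MonAct.IsEquivariant.comp (Magnet.MonAct.prod_trivial_act_whiskerLeft _ g)
        (isEquivariant_transport_inv e _))
  obtain ⟨l, hl, hl0, hlf⟩ := exists_eqv_lift_spec (bcNat R0.{u} (toAlgHom' m))
    (bcNat_surjective R0.{u} (toAlgHom' m) hm) (ker_bcNat_sq m hsq)
    (Over.w i) aX aY f hf ρ ρ0.act hi (e0.hom ≫ x.1) ((isEquivariant_transport_hom e0 _).comp x.2)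
    (e.hom ≫ y.1) ((isEquivariant_transport_hom e _).comp y.2)
    (by
      change (e0.hom ≫ x.1) ≫ f = i ≫ e.hom ≫ y.1
      rw [Category.assoc, hw, hie, Category.assoc, Category.assoc, e.inv_hom_id_assoc])
  refine ⟨⟨e.inv ≫ l, (isEquivariant_transport_inv e _).comp hl⟩, ?_, ?_⟩
  · change (Magnet.AMonS S ↥N ◁ g) ≫ e.inv ≫ l = x.1
    rw [← cancel_epi e0.hom, ← hl0]
    change e0.hom ≫ (Magnet.AMonS S ↥N ◁ g) ≫ e.inv ≫ l = i ≫ l
    rw [hie]
    simp only [Category.assoc]
  · change (e.inv ≫ l) ≫ f = y.1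
    rw [Category.assoc, hlf, e.inv_hom_id_assoc]

/-- Let S be a scheme, M a finitely generated abelian group, N a submonoid of M, and let X, Y be
S-schemes with actions of the diagonalizable group scheme D(M)_S and f : X → Y an equivariant
S-morphism which is smooth (formally smooth and locally of finite presentation). Then f^N : X^N →
Y^N is formally smooth as a transformation of functors on S-schemes: for every ring A, ideal I of A
with I² = 0 and structure morphism Spec A → S, writing T = Spec (A/I) ⊂ T' = Spec A, every x in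
X^N(T) and y in Y^N(T') with f^N(x) = y|_T admit some l in X^N(T') with l|_T = x and f^N(l) = y.
(Stated for schemes; the published statement is for algebraic spaces over S.) -/
theorem result (S : Scheme.{u}) (M : Type) [AddCommGroup M] [AddGroup.FG M]
    (N : AddSubmonoid M) {X Y : Over S} (aX : Magnet.MonAct (Magnet.AMonS S M) X)
    (aY : Magnet.MonAct (Magnet.AMonS S M) Y) (f : X ⟶ Y) (hf : Magnet.MonAct.IsEquivariant aX aY f)
    [Smooth f.left] (A : Type u) [CommRing A] (I : Ideal A) (hI : I ^ 2 = ⊥)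
    (str : Spec (CommRingCat.of A) ⟶ S)
    (x : (Magnet.attr aX N).obj (op (Over.mk (Spec.map (CommRingCat.ofHom (Ideal.Quotient.mk I)) ≫ str))))
    (y : (Magnet.attr aY N).obj (op (Over.mk str)))
    (h : (Magnet.MonAct.eqvHom.postcomp (Magnet.subAct S M N) f hf).app _ x =
      (Magnet.attr aY N).map (Over.homMk (Spec.map (CommRingCat.ofHom (Ideal.Quotient.mk I))) rfl :
        Over.mk (Spec.map (CommRingCat.ofHom (Ideal.Quotient.mk I)) ≫ str) ⟶ Over.mk str).op y) :
    ∃ l : (Magnet.attr aX N).obj (op (Over.mk str)),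
      (Magnet.attr aX N).map (Over.homMk (Spec.map (CommRingCat.ofHom (Ideal.Quotient.mk I))) rfl :
        Over.mk (Spec.map (CommRingCat.ofHom (Ideal.Quotient.mk I)) ≫ str) ⟶ Over.mk str).op l = x ∧
      (Magnet.MonAct.eqvHom.postcomp (Magnet.subAct S M N) f hf).app _ l = y := by
  obtain ⟨l, h0, h1⟩ := exists_lift S M N aX aY f hf (A := CommRingCat.of A) (B := CommRingCat.of (A ⧸ I))
    (CommRingCat.ofHom (Ideal.Quotient.mk I)) Ideal.Quotient.mk_surjective
    (by
      rw [show RingHom.ker (CommRingCat.ofHom (Ideal.Quotient.mk I)).hom = I from Ideal.mk_ker]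
      exact hI)
    str x y (congrArg Subtype.val h)
  exact ⟨l, Subtype.ext h0, Subtype.ext h1⟩

end Groth.Agent.S18231
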