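import Groth.Statements.S18235

import Groth.Agent.Lib.GrpSch.AttrOpen

set_option autoImplicit false
universe u
open CategoryTheory MonoidalCategory CartesianMonoidalCategory AlgebraicGeometry Opposite
open Magnet

namespace Groth.Agent.S18235

open Groth.Agent.Lib.GrpSch in
/-- A point of the big attractor lifts to the open subscheme iff its vertex does. -/
theorem exists_lift_of_vertex {S : Scheme.{u}} {M : Type} [AddCommGroup M] [AddGroup.FG M] (N : AddSubmonoid M)
    {X Y : Over S} {aX : Magnet.MonAct (Magnet.AMonS S M) X} {aY : Magnet.MonAct (Magnet.AMonS S M) Y}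
    (f : X ⟶ Y) (hf : Magnet.MonAct.IsEquivariant aX aY f) [IsOpenImmersion f.left] {T : Over S}
    (ξ : (Magnet.attr aY N).obj (op T)) (y : T ⟶ X) (hy : y ≫ f = lift (AttrOpen.vertex N T) (𝟙 T) ≫ ξ.1) :
    ∃ φ : (Magnet.attr aX N).obj (op T),
      (Magnet.MonAct.eqvHom.postcomp (Magnet.subAct S M N) f hf).app (op T) φ = ξ := by
  haveI : Mono f := Over.mono_of_mono_left _
  have hr := AttrOpen.range_subset N f hf ξ y hy
  let φ₀ : Magnet.AMonS S N ⊗ T ⟶ X := Over.homMk (IsOpenImmersion.lift f.left ξ.1.left hr)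
    (by rw [← Over.w f, IsOpenImmersion.lift_fac_assoc, Over.w])
  have hφ₀ : φ₀ ≫ f = ξ.1 := Over.OverMorphism.ext (IsOpenImmersion.lift_fac _ _ _)
  refine ⟨⟨φ₀, (Magnet.MonAct.mem_eqvHom_iff _).2 fun U g b t => ?_⟩, Subtype.ext hφ₀⟩
  rw [← cancel_mono f, Category.assoc, Category.assoc, hφ₀, (Magnet.MonAct.mem_eqvHom_iff _).1 ξ.2 U g b t,
    (Magnet.MonAct.isEquivariant_iff _ _ _).1 hf]
  simp only [Category.assoc, hφ₀]
/-- Let S be a scheme, M a finitely generated abelian group, N a submonoid of M, X and Y schemes locally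
of finite presentation over S with actions of the diagonalizable group scheme D(M)_S, and f : X → Y
an equivariant S-morphism which is an open immersion. If the attractors X^N and Y^N are represented
by S-schemes Z_X and Z_Y, and j : Z_X → Z_Y is the S-morphism that corresponds to f^N under the two
representing bijections, then j is an open immersion. (Stated for schemes; the published statement
is for algebraic spaces over S.) -/
theorem result (S : Scheme.{u}) (M : Type) [AddCommGroup M]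
    [AddGroup.FG M] (N : AddSubmonoid M) {X Y : Over S} [LocallyOfFinitePresentation X.hom]
    [LocallyOfFinitePresentation Y.hom] (aX : Magnet.MonAct (Magnet.AMonS S M) X)
    (aY : Magnet.MonAct (Magnet.AMonS S M) Y) (f : X ⟶ Y) (hf : Magnet.MonAct.IsEquivariant aX aY f)
    [IsOpenImmersion f.left] {ZX ZY : Over S} (eX : (Magnet.attr aX N).RepresentableBy ZX) (eY : (Magnet.attr aY N).RepresentableBy ZY)
    (j : ZX ⟶ ZY) (hj : ∀ (T : Over S) (z : T ⟶ ZX),
      eY.homEquiv (z ≫ j) = (Magnet.MonAct.eqvHom.postcomp (Magnet.subAct S M N) f hf).app (op T) (eX.homEquiv z)) :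
    IsOpenImmersion j.left := by
  haveI : Mono f := Over.mono_of_mono_left _
  let vx := fun (T : Over S) => Groth.Agent.Lib.GrpSch.AttrOpen.vertex N T
  let ξ₀ := eY.homEquiv (𝟙 ZY)
  let x₀ : ZY ⟶ Y := lift (vx ZY) (𝟙 ZY) ≫ ξ₀.1
  let U : ZY.left.Opens := x₀.left ⁻¹ᵁ f.left.opensRange
  let u : Over.mk (U.ι ≫ ZY.hom) ⟶ ZY := Over.homMk U.ι rfl
  have hU : Set.range (U.ι ≫ x₀.left).base ⊆ Set.range f.left.base := by
    rintro _ ⟨z, rfl⟩
    exact z.2
  let y : Over.mk (U.ι ≫ ZY.hom) ⟶ X := Over.homMk (IsOpenImmersion.lift f.left (U.ι ≫ x₀.left) hU)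
    (by rw [← Over.w f, IsOpenImmersion.lift_fac_assoc, Category.assoc, Over.w]; rfl)
  have hy : y ≫ f = u ≫ x₀ := Over.OverMorphism.ext (IsOpenImmersion.lift_fac _ _ _)
  obtain ⟨φ, hφ⟩ := exists_lift_of_vertex N f hf ((Magnet.attr aY N).map u.op ξ₀) y (by
    rw [hy]
    change _ = lift (vx _) (𝟙 _) ≫ (Magnet.AMonS S N ◁ u) ≫ ξ₀.1
    rw [lift_whiskerLeft_assoc, Category.id_comp, comp_lift_assoc,
      Groth.Agent.Lib.GrpSch.AttrOpen.comp_vertex, Category.comp_id])
  let k := eX.homEquiv.symm φ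
  have hk : k ≫ j = u := eY.homEquiv.injective (by
    rw [hj, Equiv.apply_symm_apply, hφ]
    exact ((eY.homEquiv_comp u (𝟙 ZY)).symm.trans (congrArg eY.homEquiv (Category.comp_id u))))
  have hjU : Set.range j.left.base ⊆ Set.range U.ι.base := by
    rintro _ ⟨z, rfl⟩
    rw [Scheme.Opens.range_ι]
    let φ' := eX.homEquiv (𝟙 ZX)
    have h1 : (Magnet.attr aY N).map j.op ξ₀ =
        (Magnet.MonAct.eqvHom.postcomp (Magnet.subAct S M N) f hf).app (op ZX) φ' := by
      rw [← hj, Category.id_comp, ← eY.homEquiv_comp, Category.comp_id]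
    have h2 : j ≫ x₀ = (lift (vx ZX) (𝟙 ZX) ≫ φ'.1) ≫ f := by
      rw [comp_lift_assoc, Groth.Agent.Lib.GrpSch.AttrOpen.comp_vertex, Category.comp_id, Category.assoc]
      rw [show φ'.1 ≫ f = (Magnet.AMonS S N ◁ j) ≫ ξ₀.1 from (congrArg Subtype.val h1).symm,
        lift_whiskerLeft_assoc, Category.id_comp]
    show x₀.left.base (j.left.base z) ∈ Set.range f.left.base
    exact ⟨(lift (vx ZX) (𝟙 ZX) ≫ φ'.1).left.base z,
      (congrArg (fun m : ZX ⟶ Y => m.left.base z) h2).symm⟩
  let l := IsOpenImmersion.lift U.ι j.left hjU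
  have hl : l ≫ U.ι = j.left := IsOpenImmersion.lift_fac _ _ _
  let lo : ZX ⟶ Over.mk (U.ι ≫ ZY.hom) := Over.homMk l (by
    change l ≫ U.ι ≫ ZY.hom = ZX.hom
    rw [reassoc_of% hl, Over.w])
  have hlo : lo ≫ u = j := Over.OverMorphism.ext hl
  have h3 : lo ≫ k = 𝟙 ZX := eX.homEquiv.injective (Subtype.ext ((cancel_mono f).mp (by
    have := (hj ZX (lo ≫ k)).symm.trans ((congrArg eY.homEquiv
      (show (lo ≫ k) ≫ j = 𝟙 ZX ≫ j by rw [Category.assoc, hk, hlo, Category.id_comp])).trans (hj ZX (𝟙 ZX)))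
    exact congrArg Subtype.val this)))
  have h4 : k.left ≫ l = 𝟙 _ := by
    rw [← cancel_mono U.ι, Category.assoc, hl, Category.id_comp]
    exact congrArg CommaMorphism.left hk
  haveI : IsIso l := ⟨k.left, congrArg CommaMorphism.left h3, h4⟩
  rw [← hl]
  infer_instance


end Groth.Agent.S18235
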