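import Groth.Statements.S18236

import Groth.Agent.Lib.GrpSch.Magnet
import Mathlib.AlgebraicGeometry.IdealSheaf.Functorial

set_option autoImplicit false
universe u
open CategoryTheory MonoidalCategory CartesianMonoidalCategory AlgebraicGeometry Opposite
open Magnet

namespace Groth.Agent.S18236

/-- Over a closed immersion, a point of the big attractor whose value lies in the small one lifts. -/
theorem exists_lift_of_closedImmersion {S : Scheme.{u}} {M : Type} [AddCommMonoid M] (N : AddSubmonoid M)
    {X Y : Over S} (aX : Magnet.MonAct (Magnet.AMonS S M) X) (aY : Magnet.MonAct (Magnet.AMonS S M) Y)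
    (f : X ⟶ Y) (hf : Magnet.MonAct.IsEquivariant aX aY f) [IsClosedImmersion f.left] {T : Over S}
    (ξ : (Magnet.attr aY N).obj (op T)) (x : T ⟶ X) (hx : (Magnet.attrToX aY N).app (op T) ξ = x ≫ f) :
    ∃ φ : (Magnet.attr aX N).obj (op T),
      (Magnet.MonAct.eqvHom.postcomp (Magnet.subAct S M N) f hf).app (op T) φ = ξ ∧
        (Magnet.attrToX aX N).app (op T) φ = x := by
  haveI : Mono f := Over.mono_of_mono_left _
  have horb := Groth.Agent.Lib.GrpSch.attr_restrict_eq aY N ξ
  have hcomm : ((Magnet.AMonS S M ◁ x) ≫ aX.act) ≫ f = (Magnet.AMonS.map S N.subtype ▷ T) ≫ ξ.1 := by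
    rw [horb, hx, Category.assoc, hf, MonoidalCategory.whiskerLeft_comp_assoc]
  haveI := Groth.Agent.Lib.GrpSch.std_AMonS_map_whiskerRight (S := S) N.subtype Subtype.val_injective T
  have hker : f.left.ker ≤ ξ.1.left.ker := by
    have h : ((Magnet.AMonS.map S N.subtype ▷ T) ≫ ξ.1).left.ker = ξ.1.left.ker := by
      rw [Over.comp_left, Scheme.Hom.ker_comp, Scheme.Hom.ker_eq_bot, Scheme.IdealSheafData.map_bot]
    rw [← h, ← hcomm, Over.comp_left]
    exact Scheme.Hom.le_ker_comp _ _
  let l := IsClosedImmersion.lift f.left ξ.1.left hker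
  have hl : l ≫ f.left = ξ.1.left := IsClosedImmersion.lift_fac _ _ _
  let φ₀ : Magnet.AMonS S N ⊗ T ⟶ X := Over.homMk l (by rw [← Over.w f, ← Category.assoc, hl, Over.w])
  have hφ₀ : φ₀ ≫ f = ξ.1 := Over.OverMorphism.ext hl
  refine ⟨⟨φ₀, (Magnet.MonAct.mem_eqvHom_iff _).2 fun U g b t => ?_⟩, Subtype.ext hφ₀, ?_⟩
  · rw [← cancel_mono f, Category.assoc, Category.assoc, hφ₀, (Magnet.MonAct.mem_eqvHom_iff _).1 ξ.2 U g b t,
      (Magnet.MonAct.isEquivariant_iff _ _ _).1 hf]
    simp only [Category.assoc, hφ₀]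
  · rw [← cancel_mono f, ← hx]
    simp only [Magnet.MonAct.eqvHom.evalAt_app, Category.assoc, hφ₀]
/-- Let S be a scheme, M a finitely generated abelian group, N a submonoid of M and Z = N* its subgroup
of invertible elements; let X and Y be schemes locally of finite presentation over S with actions of
the diagonalizable group scheme D(M)_S, and f : X → Y an equivariant S-morphism which is a closed
immersion. Assume that Y admits an N*-FPR atlas: an equivariant, étale and surjective g : U → Y
where U is a disjoint union of D(M)_S-stable open subschemes each affine over S, such that for the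
actions restricted along D(M/Z)_S → D(M)_S the square of fixed-point subfunctors U^{D(M/Z)} →
Y^{D(M/Z)} over U → Y is cartesian; assume also that N is finitely generated or X is separated over
S. Then the commutative square with top f^N : X^N → Y^N, sides the evaluation maps X^N → X and Y^N →
Y at the unit section, and bottom f is cartesian, i.e. X^N = Y^N ×_Y X as functors on S-schemes (so
that f^N is a closed immersion whenever X^N and Y^N are representable). (Stated for schemes; the
published statement is for algebraic spaces over S.) -/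
theorem result (S : Scheme.{u}) (M : Type)
    [AddCommGroup M] [AddGroup.FG M] (N : AddSubmonoid M) (Z : AddSubgroup M)
    (hZ : ∀ m : M, m ∈ Z ↔ (m ∈ N ∧ -m ∈ N)) {X Y : Over S} [LocallyOfFinitePresentation X.hom]
    [LocallyOfFinitePresentation Y.hom] (aX : Magnet.MonAct (Magnet.AMonS S M) X)
    (aY : Magnet.MonAct (Magnet.AMonS S M) Y) (f : X ⟶ Y) (hf : Magnet.MonAct.IsEquivariant aX aY f)
    [IsClosedImmersion f.left] (U : Over S) (aU : Magnet.MonAct (Magnet.AMonS S M) U) (g : U ⟶ Y)
    (hg : Magnet.MonAct.IsEquivariant aU aY g) [Etale g.left] [Surjective g.left]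
    (ι : Type u) (V : ι → U.left.Opens) (hVd : ∀ i i', i ≠ i' → Disjoint (V i) (V i'))
    (hVc : ⨆ i, V i = ⊤) (hVa : ∀ i, IsAffineHom ((V i).ι ≫ U.hom))
    (hVs : ∀ i, (CartesianMonoidalCategory.snd (Magnet.AMonS S M) U).left ⁻¹ᵁ (V i) ≤ aU.act.left ⁻¹ᵁ (V i))
    (hgZ : Magnet.MonAct.IsEquivariant (aU.restrict (Magnet.AMonS.map S (QuotientAddGroup.mk' Z))) (aY.restrict (Magnet.AMonS.map S (QuotientAddGroup.mk' Z))) g)
    (hfpr : IsPullback (Magnet.MonAct.fixedPsh.map g hgZ)
      (Magnet.MonAct.fixedPshι (aU.restrict (Magnet.AMonS.map S (QuotientAddGroup.mk' Z))))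
      (Magnet.MonAct.fixedPshι (aY.restrict (Magnet.AMonS.map S (QuotientAddGroup.mk' Z)))) (yoneda.map g))
    (hc : N.FG ∨ IsSeparated X.hom) :
    IsPullback (Magnet.MonAct.eqvHom.postcomp (Magnet.subAct S M N) f hf) (Magnet.attrToX aX N)
      (Magnet.attrToX aY N) (yoneda.map f) := by
  haveI : Mono f := Over.mono_of_mono_left _
  refine IsPullback.of_forall_isPullback_app fun T => (Limits.Types.isPullback_iff _ _ _ _).mpr ⟨?_, ?_, ?_⟩
  · ext φ
    change lift (toUnit _ ≫ MonObj.one) (𝟙 _) ≫ φ.1 ≫ f = (lift (toUnit _ ≫ MonObj.one) (𝟙 _) ≫ φ.1) ≫ f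
    rw [Category.assoc]
  · exact fun φ ψ h => Subtype.ext ((cancel_mono f).mp (congrArg Subtype.val h.1))
  · intro ξ x h
    exact exists_lift_of_closedImmersion N aX aY f hf ξ x h


end Groth.Agent.S18236
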