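import Groth.Statements.S18237

import Groth.Agent.Lib.GrpSch.AttrRange

set_option autoImplicit false
universe u
open CategoryTheory MonoidalCategory CartesianMonoidalCategory AlgebraicGeometry Opposite
open Magnet

namespace Groth.Agent.S18237

/-- Let S be a quasi-compact scheme, M a finitely generated abelian group, X a scheme which is
quasi-compact, separated and locally of finite presentation over S with an action of the
diagonalizable group scheme D(M)_S, and N a submonoid of M with subgroup of invertible elements Z =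
N*. Assume X admits an S-affine N*-FPR atlas: an equivariant, étale and surjective g : U → X with U
affine over S such that, for the actions restricted along D(M/Z)_S → D(M)_S, the square of
fixed-point subfunctors U^{D(M/Z)} → X^{D(M/Z)} over U → X is cartesian. Then there is a finitely
generated submonoid N_c of N with the same invertible elements as N such that the canonical map of
attractors X^{N_c} → X^N is an isomorphism of functors. (Stated for schemes, the published statement
being for algebraic spaces. The published statement assumes only M finitely generated and X → S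
quasi-compact and separated; it fails without X locally of finite presentation over S or without S
quasi-compact, so this row assumes both, and it assumes an S-affine N*-FPR atlas, which the
published argument obtains from a general existence result.) -/
theorem result (S : Scheme.{u}) [CompactSpace S] (M : Type)
    [AddCommGroup M] [AddGroup.FG M] {X : Over S} [QuasiCompact X.hom] [IsSeparated X.hom]
    [LocallyOfFinitePresentation X.hom] (a : Magnet.MonAct (Magnet.AMonS S M) X) (N : AddSubmonoid M)
    (Z : AddSubgroup M) (hZ : ∀ m : M, m ∈ Z ↔ (m ∈ N ∧ -m ∈ N)) (U : Over S) [IsAffineHom U.hom]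
    (aU : Magnet.MonAct (Magnet.AMonS S M) U) (g : U ⟶ X) (hg : Magnet.MonAct.IsEquivariant aU a g)
    [Etale g.left] [Surjective g.left]
    (hgZ : Magnet.MonAct.IsEquivariant (aU.restrict (Magnet.AMonS.map S (QuotientAddGroup.mk' Z))) (a.restrict (Magnet.AMonS.map S (QuotientAddGroup.mk' Z))) g)
    (hfpr : IsPullback (Magnet.MonAct.fixedPsh.map g hgZ)
      (Magnet.MonAct.fixedPshι (aU.restrict (Magnet.AMonS.map S (QuotientAddGroup.mk' Z))))
      (Magnet.MonAct.fixedPshι (a.restrict (Magnet.AMonS.map S (QuotientAddGroup.mk' Z)))) (yoneda.map g)) :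
    ∃ (Nc : AddSubmonoid M) (h : Nc ≤ N), Nc.FG ∧ (∀ m : M, (m ∈ Nc ∧ -m ∈ Nc) ↔ (m ∈ N ∧ -m ∈ N)) ∧
      IsIso (Magnet.attrMap a h) := by
  classical
  have hlft : LocallyOfFiniteType U.hom := by
    haveI : LocallyOfFinitePresentation U.hom := by rw [← Over.w g]; infer_instance
    infer_instance
  obtain ⟨E, hE⟩ := Groth.Agent.Lib.GrpSch.AttrRange.exists_finset_weights aU
  have hZfg : Z.toAddSubmonoid.FG := by
    haveI : Module.Finite ℤ M := Module.Finite.iff_addGroup_fg.2 ‹_›
    have h1 : (AddSubgroup.toIntSubmodule Z).FG := IsNoetherian.noetherian _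
    rw [Submodule.fg_iff_addSubgroup_fg] at h1
    exact (AddSubgroup.fg_iff_addSubmonoid_fg Z).1 h1
  let Nc : AddSubmonoid M := AddSubmonoid.closure (↑E ∩ (N : Set M)) ⊔ Z.toAddSubmonoid
  have hle : Nc ≤ N := sup_le (AddSubmonoid.closure_le.2 Set.inter_subset_right) fun m hm => ((hZ m).1 hm).1
  have hQ : Magnet.IsFace N Z.toAddSubmonoid := ⟨fun m hm => ((hZ m).1 hm).1, fun x hx y hy hxy => by
    obtain ⟨-, h⟩ := (hZ _).1 hxy
    refine ⟨(hZ x).2 ⟨hx, ?_⟩, (hZ y).2 ⟨hy, ?_⟩⟩
    · rw [show -x = -(x + y) + y by abel]; exact N.add_mem h hy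
    · rw [show -y = -(x + y) + x by abel]; exact N.add_mem h hx⟩
  refine ⟨Nc, hle, ?_, fun m => ⟨fun h => ⟨hle h.1, hle h.2⟩, fun h => ?_⟩, ?_⟩
  · exact AddSubmonoid.FG.sup ⟨((E.finite_toSet.inter_of_left _).toFinset), by rw [Set.Finite.coe_toFinset]⟩ hZfg
  · exact ⟨le_sup_right (a := AddSubmonoid.closure _) ((hZ m).2 h),
      le_sup_right (a := AddSubmonoid.closure _) ((hZ (-m)).2 ⟨h.2, by rw [neg_neg]; exact h.1⟩)⟩
  · rw [NatTrans.isIso_iff_isIso_app]
    intro T
    rw [isIso_iff_bijective]
    obtain ⟨T⟩ := T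
    refine ⟨Groth.Agent.Lib.GrpSch.FaceCartesian.attrMap_injective a hle T, fun ξ => ?_⟩
    obtain ⟨η', hη'⟩ := Groth.Agent.Lib.GrpSch.AttrRange.range_subset_of_atlas hg N Nc Z hQ hgZ hfpr (fun T x hx =>
      (Groth.Agent.Lib.GrpSch.AttrAffine.exists_attr_iff aU Nc x).2 (hE N Nc
        (fun m hm => le_sup_left (b := Z.toAddSubmonoid) (AddSubmonoid.subset_closure hm)) x
        ((Groth.Agent.Lib.GrpSch.AttrAffine.exists_attr_iff aU N x).1 hx))) T ⟨ξ, rfl⟩
    refine ⟨η', Groth.Agent.Lib.GrpSch.attrToX_injective a N T ?_⟩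
    rw [Groth.Agent.Lib.GrpSch.AttrRange.attrToX_attrMap a hle η', hη']


end Groth.Agent.S18237
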