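import Groth.Statements.S18238
import Mathlib

set_option autoImplicit false
universe u
open DiagMon

namespace Groth.Agent.S18238
open MvPolynomial

section
variable {R : Type u} [CommRing R] {N : Type} [AddCommMonoid N]
  [IsCancelAdd N] (hsharp : ∀ n : N, IsAddUnit n → n = 0)

lemma exists_minimal_gen [AddMonoid.FG N] : ∃ S : Finset N, AddSubmonoid.closure (S : Set N) = ⊤ ∧
    ∀ s ∈ S, s ∉ AddSubmonoid.closure ((S : Set N) \ {s}) := by
  classical
  have h : ∃ n, ∃ S : Finset N, S.card = n ∧ AddSubmonoid.closure (S : Set N) = ⊤ := by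
    obtain ⟨S, hS⟩ := (AddMonoid.FG.fg_top : (⊤ : AddSubmonoid N).FG)
    exact ⟨S.card, S, rfl, hS⟩
  obtain ⟨S, hc, hS⟩ := Nat.find_spec h
  refine ⟨S, hS, fun s hs hmem => ?_⟩
  have hlt : (S.erase s).card < Nat.find h := hc ▸ Finset.card_erase_lt_of_mem hs
  refine Nat.find_min h hlt ⟨_, rfl, ?_⟩
  rw [eq_top_iff, ← hS, AddSubmonoid.closure_le]
  intro x hx
  rw [Finset.coe_erase]
  by_cases hxs : x = s
  · exact hxs ▸ hmem
  · exact AddSubmonoid.subset_closure ⟨hx, hxs⟩

noncomputable def phiN (S : Finset N) : (S →₀ ℕ) →+ N :=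
  Finsupp.liftAddHom fun s : S => multiplesHom N (s : N)

lemma phiN_single (S : Finset N) (s : S) (m : ℕ) : phiN S (Finsupp.single s m) = m • (s : N) := by
  simp [phiN]

lemma phiN_surjective (S : Finset N) (hS : AddSubmonoid.closure (S : Set N) = ⊤) :
    Function.Surjective (phiN S) := by
  intro x
  have hx : x ∈ AddSubmonoid.closure (S : Set N) := hS ▸ AddSubmonoid.mem_top x
  induction hx using AddSubmonoid.closure_induction with
  | mem y hy => exact ⟨Finsupp.single ⟨y, hy⟩ 1, by rw [phiN_single, one_smul]⟩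
  | zero => exact ⟨0, map_zero _⟩
  | add y z _ _ hy hz =>
    obtain ⟨a, rfl⟩ := hy; obtain ⟨b, rfl⟩ := hz
    exact ⟨a + b, map_add _ _ _⟩

include hsharp in
lemma phiN_eq_zero (S : Finset N) (hmin : ∀ s ∈ S, s ∉ AddSubmonoid.closure ((S : Set N) \ {s}))
    {a : S →₀ ℕ} (h : phiN S a = 0) : a = 0 := by
  by_contra hne
  obtain ⟨j, hj⟩ := Finsupp.ne_iff.1 hne
  have hle : Finsupp.single j 1 ≤ a :=
    Finsupp.single_le_iff.2 (Nat.one_le_iff_ne_zero.2 (by simpa using hj))
  rw [← add_tsub_cancel_of_le hle, map_add, phiN_single, one_smul] at h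
  have h0 : (j : N) = 0 := hsharp _ (IsAddUnit.of_add_eq_zero _ h)
  exact hmin j j.2 (h0 ▸ zero_mem _)

include hsharp in
lemma phiN_eq_gen (S : Finset N) (hmin : ∀ s ∈ S, s ∉ AddSubmonoid.closure ((S : Set N) \ {s}))
    {a : S →₀ ℕ} {j : S} (h : phiN S a = (j : N)) : a = Finsupp.single j 1 := by
  classical
  by_cases hj : a j = 0
  · exfalso
    apply hmin j j.2
    suffices phiN S a ∈ AddSubmonoid.closure ((S : Set N) \ {(j : N)}) by rwa [h] at this
    have he : phiN S a = ∑ s ∈ a.support, a s • (s : N) := by simp [phiN, Finsupp.sum]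
    rw [he]
    refine AddSubmonoid.sum_mem _ fun s hs => AddSubmonoid.nsmul_mem _
      (AddSubmonoid.subset_closure
        (show (s : N) ∈ (S : Set N) \ {(j : N)} from ⟨s.2, fun hsj => ?_⟩)) _
    obtain rfl : s = j := Subtype.ext hsj
    exact Finsupp.mem_support_iff.1 hs hj
  · have hle : Finsupp.single j 1 ≤ a := Finsupp.single_le_iff.2 (Nat.one_le_iff_ne_zero.2 hj)
    rw [← add_tsub_cancel_of_le hle, map_add, phiN_single, one_smul] at h
    have h0 : phiN S (a - Finsupp.single j 1) = 0 := add_left_cancel (h.trans (add_zero _).symm)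
    rw [← add_tsub_cancel_of_le hle, phiN_eq_zero hsharp S hmin h0, add_zero]

lemma eq_zero_of_mul_eq_zero {σ : Type} (r f : MvPolynomial σ R) (hr : constantCoeff r = 1)
    (h : r * f = 0) : f = 0 := by
  classical
  suffices ∀ (n : ℕ) (a : σ →₀ ℕ), a.degree = n → coeff a f = 0 by
    ext a; simpa using this _ a rfl
  intro n
  induction n using Nat.strong_induction_on with
  | _ n ih =>
    intro a ha
    have hc : coeff a (r * f) = 0 := by simp [h]
    rw [coeff_mul] at hc
    rw [Finset.sum_eq_single (0, a)] at hc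
    · rwa [show coeff 0 r = 1 from hr, one_mul] at hc
    · rintro ⟨x, y⟩ hxy hne
      rw [Finset.HasAntidiagonal.mem_antidiagonal] at hxy
      have hx : x ≠ 0 := fun h0 => hne (by subst h0; simp only [zero_add] at hxy; rw [hxy])
      have hy : y.degree < n := by
        have hd : x.degree + y.degree = n := by rw [← ha, ← hxy, map_add]
        have : x.degree ≠ 0 := fun hd0 => hx ((Finsupp.degree_eq_zero_iff x).1 hd0)
        omega
      simp [ih _ hy y rfl]
    · intro hn; exact absurd (Finset.HasAntidiagonal.mem_antidiagonal.2 (zero_add a)) hn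

include hsharp in
lemma key [AddMonoid.FG N] [Algebra.Smooth R (AddMonoidAlgebra R N)] :
    ∃ S : Finset N, Nonempty (MvPolynomial S R ≃ₐ[R] AddMonoidAlgebra R N) := by
  classical
  obtain ⟨S, hS, hmin⟩ := exists_minimal_gen (N := N)
  refine ⟨S, ?_⟩
  let φ : MvPolynomial S R →ₐ[R] AddMonoidAlgebra R N :=
    AddMonoidAlgebra.mapDomainAlgHom R R (phiN S)
  have hφm : ∀ a c, φ (monomial a c) = AddMonoidAlgebra.single (phiN S a) c := fun a c =>
    AddMonoidAlgebra.mapDomain_single ..
  have hsurj : Function.Surjective φ := by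
    intro x
    induction x using AddMonoidAlgebra.induction_linear with
    | zero => exact ⟨0, map_zero _⟩
    | add x y hx hy =>
      obtain ⟨p, rfl⟩ := hx; obtain ⟨q, rfl⟩ := hy
      exact ⟨p + q, map_add _ _ _⟩
    | single n c =>
      obtain ⟨a, rfl⟩ := phiN_surjective S hS n
      exact ⟨monomial a c, hφm a c⟩
  let I : Ideal (MvPolynomial S R) := RingHom.ker φ.toRingHom
  let M : Ideal (MvPolynomial S R) := RingHom.ker (constantCoeff (σ := S) (R := R))
  have hIf : ∀ f, f ∈ I ↔ φ f = 0 := fun f => RingHom.mem_ker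
  have hIM : I ≤ M := by
    let ε : AddMonoidAlgebra R N →ₗ[R] R :=
      (Finsupp.lapply (0 : N)).comp (AddMonoidAlgebra.coeffLinearEquiv R).toLinearMap
    have hε : ∀ f : MvPolynomial S R, constantCoeff f = ε (φ f) := by
      intro f
      induction f using MvPolynomial.induction_on' with
      | monomial a c =>
        rw [hφm, constantCoeff_monomial]
        by_cases ha : a = 0
        · subst ha; simp [ε]
        · have : phiN S a ≠ 0 := fun h => ha (phiN_eq_zero hsharp S hmin h)
          simp [ε, ha, this]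
      | add p q hp hq => simp only [map_add, hp, hq]
    intro f hf
    rw [RingHom.mem_ker, hε, (hIf f).1 hf, map_zero]
  let g : MvPolynomial S R ⧸ I ^ 2 →ₐ[R] AddMonoidAlgebra R N :=
    Ideal.Quotient.liftₐ (I ^ 2) φ fun x hx => (hIf x).1 (Ideal.pow_le_self two_ne_zero hx)
  have hg : ∀ f, g (Ideal.Quotient.mk (I ^ 2) f) = φ f := fun f => rfl
  have hgs : Function.Surjective g := fun x => by
    obtain ⟨f, rfl⟩ := hsurj x; exact ⟨_, hg f⟩
  have hnil : IsNilpotent (RingHom.ker (g : MvPolynomial S R ⧸ I ^ 2 →+* AddMonoidAlgebra R N)) := by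
    refine ⟨2, ?_⟩
    have hker : RingHom.ker (g : MvPolynomial S R ⧸ I ^ 2 →+* AddMonoidAlgebra R N) ≤
        I.map (Ideal.Quotient.mk (I ^ 2)) := by
      intro x hx
      obtain ⟨f, rfl⟩ := Ideal.Quotient.mk_surjective x
      exact Ideal.mem_map_of_mem _ ((hIf f).2 hx)
    exact le_bot_iff.1 ((Ideal.pow_right_mono hker 2).trans_eq
      (by rw [← Ideal.map_pow, Ideal.map_quotient_self]))
  let sec := Algebra.FormallySmooth.liftOfSurjective (AlgHom.id R _) g hgs hnil
  have hsec : ∀ x, g (sec x) = x := fun x =>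
    Algebra.FormallySmooth.liftOfSurjective_apply (AlgHom.id R _) g hgs hnil x
  have hy : ∀ j : S, ∃ y : MvPolynomial S R,
      Ideal.Quotient.mk (I ^ 2) y = sec (φ (X j)) ∧ y - X j ∈ I := by
    intro j
    obtain ⟨y, hy⟩ := Ideal.Quotient.mk_surjective (sec (φ (X j)))
    refine ⟨y, hy, ?_⟩
    rw [hIf, map_sub, ← hg y, hy]
    rw [hsec, sub_self]
  choose y hy hyI using hy
  let η : MvPolynomial S R →ₐ[R] MvPolynomial S R := aeval y
  have hη : (Ideal.Quotient.mkₐ R (I ^ 2)).comp η = sec.comp φ := by
    apply MvPolynomial.algHom_ext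
    intro j
    simp [η, hy]
  have hηI : ∀ f, η f - f ∈ I := by
    intro f
    rw [hIf, map_sub, ← hg (η f)]
    have := AlgHom.congr_fun hη f
    simp only [AlgHom.comp_apply, Ideal.Quotient.mkₐ_eq_mk] at this
    rw [this]
    rw [hsec, sub_self]
  have hηM : ∀ f ∈ M, η f ∈ M := fun f hf => by
    simpa using M.add_mem (hIM (hηI f)) hf
  have hJ : I ^ 2 ≤ M * I := by rw [pow_two]; exact Ideal.mul_mono_left hIM
  have hXM : ∀ j, (X j : MvPolynomial S R) ∈ M := fun j => constantCoeff_X R j
  have hmon : ∀ a c, a ≠ 0 → (∀ j, a ≠ Finsupp.single j 1) →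
      η (monomial a c) - monomial a c ∈ M * I := by
    intro a c ha ha1
    obtain ⟨j, hj⟩ := Finsupp.ne_iff.1 ha
    have hle : Finsupp.single j 1 ≤ a :=
      Finsupp.single_le_iff.2 (Nat.one_le_iff_ne_zero.2 (by simpa using hj))
    have hb : a - Finsupp.single j 1 ≠ 0 := fun h => ha1 j (by
      rw [← add_tsub_cancel_of_le hle, h, add_zero])
    have hmul : monomial a c = X j * monomial (a - Finsupp.single j 1) c := by
      rw [X, monomial_mul, one_mul, add_tsub_cancel_of_le hle]
    set m := monomial (a - Finsupp.single j 1) c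
    have hmM : m ∈ M := by
      rw [RingHom.mem_ker, constantCoeff_monomial]; simp [hb]
    rw [hmul, map_mul, show η (X j) * η m - X j * m =
      η m * (η (X j) - X j) + X j * (η m - m) by ring]
    exact Ideal.add_mem _ (Ideal.mul_mem_mul (hηM m hmM) (hηI _))
      (Ideal.mul_mem_mul (hXM j) (hηI _))
  let rep := Function.surjInv (phiN_surjective S hS)
  have hrep : ∀ n, phiN S (rep n) = n := Function.surjInv_eq (phiN_surjective S hS)
  have hbin : ∀ a c, monomial a c - monomial (rep (phiN S a)) c ∈ M * I := by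
    intro a c
    set b := rep (phiN S a) with hbdef
    by_cases hab : a = b
    · rw [← hab, sub_self]; exact zero_mem _
    · have hbv : phiN S b = phiN S a := hrep _
      have ha0 : a ≠ 0 := fun h => hab (by
        rw [h, map_zero] at hbv; rw [h, phiN_eq_zero hsharp S hmin hbv])
      have hb0 : b ≠ 0 := fun h => ha0 (by
        rw [h, map_zero] at hbv; exact phiN_eq_zero hsharp S hmin hbv.symm)
      have ha1 : ∀ j, a ≠ Finsupp.single j 1 := fun j h => hab (by
        rw [h, phiN_single, one_smul] at hbv; rw [h, phiN_eq_gen hsharp S hmin hbv])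
      have hb1 : ∀ j, b ≠ Finsupp.single j 1 := fun j h => hab (by
        rw [h, phiN_single, one_smul] at hbv; rw [h, phiN_eq_gen hsharp S hmin hbv.symm])
      have heq : η (monomial a c) - η (monomial b c) ∈ M * I := by
        apply hJ
        rw [← Ideal.Quotient.eq_zero_iff_mem, map_sub, sub_eq_zero]
        have h1 := AlgHom.congr_fun hη (monomial a c)
        have h2 := AlgHom.congr_fun hη (monomial b c)
        simp only [AlgHom.comp_apply, Ideal.Quotient.mkₐ_eq_mk, hφm, hbv] at h1 h2
        rw [h1, h2]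
      have := Ideal.add_mem _ (Ideal.sub_mem _ heq (hmon a c ha0 ha1)) (hmon b c hb0 hb1)
      convert this using 1
      ring
  have hIJ : I ≤ M • I := by
    let ψ : AddMonoidAlgebra R N →ₗ[R] MvPolynomial S R :=
      AddMonoidAlgebra.mapDomainLinearMap R R rep
    have hψ : ∀ n c, ψ (AddMonoidAlgebra.single n c) = monomial (rep n) c := fun n c =>
      AddMonoidAlgebra.mapDomain_single ..
    have : ∀ f, f - ψ (φ f) ∈ M * I := by
      intro f
      induction f using MvPolynomial.induction_on' with
      | monomial a c => rw [hφm, hψ]; exact hbin a c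
      | add p q hp hq =>
        rw [map_add, map_add, add_sub_add_comm]; exact add_mem hp hq
    intro f hf
    simpa [(hIf f).1 hf] using this f
  have hIfg : I.FG := Algebra.FinitePresentation.ker_fG_of_surjective φ hsurj
  obtain ⟨r, hr, hr0⟩ := Submodule.exists_sub_one_mem_and_smul_eq_zero_of_fg_of_le_smul M I hIfg hIJ
  have hr1 : constantCoeff r = 1 := by
    have := RingHom.mem_ker.1 hr
    rwa [map_sub, map_one, sub_eq_zero] at this
  exact ⟨AlgEquiv.ofBijective φ ⟨(injective_iff_map_eq_zero φ).2 fun f hf =>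
    eq_zero_of_mul_eq_zero r f hr1 (hr0 f ((hIf f).2 hf)), hsurj⟩⟩

end


/-- Let R be a commutative ring and N a fine and sharp commutative monoid (finitely generated,
cancellative, and 0 its only invertible element). If the diagonalizable monoid scheme A(N)_R = Spec
R[N] is smooth over Spec R, then it is a vector bundle over Spec R: the monoid algebra R[N] is
isomorphic as an R-algebra to the symmetric algebra of a finitely generated projective R-module
(existence of such a module and isomorphism). (Affine base; the published statement is over an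
arbitrary base scheme S.) -/
theorem result (R : Type u) [CommRing R] (N : Type)
    [AddCommMonoid N] [AddMonoid.FG N] [IsCancelAdd N] (hsharp : ∀ n : N, IsAddUnit n → n = 0)
    [Algebra.Smooth R (AddMonoidAlgebra R N)] :
    ∃ (P : Type u) (_ : AddCommGroup P) (_ : Module R P), Module.Finite R P ∧ Module.Projective R P ∧
      Nonempty (AddMonoidAlgebra R N ≃ₐ[R] SymmetricAlgebra R P) := by
  obtain ⟨S, ⟨e⟩⟩ := key (R := R) hsharp
  exact ⟨S →₀ R, inferInstance, inferInstance, inferInstance, inferInstance,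
    ⟨e.symm.trans (SymmetricAlgebra.equivMvPolynomial (Finsupp.basisSingleOne (R := R) (ι := S))).symm⟩⟩

end Groth.Agent.S18238
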