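import Groth.Statements.S18239
import Mathlib

set_option autoImplicit false
universe u
open DiagMon

namespace Groth.Agent.S18239
open DirectSum TensorProduct

lemma eq_zero_of_mul_eq_zero {B : Type u} [CommRing B] {P : Type u} [AddCommGroup P] [Module B P]
    [Module.Finite B P] [Module.Projective B P] (r f : SymmetricAlgebra B P)
    (hr : SymmetricAlgebra.algebraMapInv r = 1) (h : r * f = 0) : f = 0 := by
  obtain ⟨m, p, hp⟩ := Module.Finite.exists_fin' B P
  obtain ⟨i, hi⟩ := Module.projective_lifting_property p LinearMap.id hp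
  let b := Pi.basisFun B (Fin m)
  let e := SymmetricAlgebra.equivMvPolynomial b
  let j : SymmetricAlgebra B P →ₐ[B] MvPolynomial (Fin m) B :=
    e.toAlgHom.comp (SymmetricAlgebra.lift ((SymmetricAlgebra.ι B _).comp i))
  let q : MvPolynomial (Fin m) B →ₐ[B] SymmetricAlgebra B P :=
    (SymmetricAlgebra.lift ((SymmetricAlgebra.ι B P).comp p)).comp e.symm.toAlgHom
  have hqj : q.comp j = AlgHom.id B _ := by
    apply SymmetricAlgebra.algHom_ext
    ext x
    simp [q, j, ← LinearMap.comp_apply p i, hi]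
  have hcc : (MvPolynomial.aeval (fun _ : Fin m => (0 : B))).comp j =
      SymmetricAlgebra.algebraMapInv := by
    have he : (MvPolynomial.aeval (fun _ : Fin m => (0 : B))).comp e.toAlgHom =
        SymmetricAlgebra.algebraMapInv := by
      apply SymmetricAlgebra.algHom_ext
      refine b.ext fun k => ?_
      simp [e, SymmetricAlgebra.algebraMapInv_ι]
    rw [← AlgHom.comp_assoc, he]
    apply SymmetricAlgebra.algHom_ext
    ext x
    simp [SymmetricAlgebra.algebraMapInv_ι]
  suffices hjf : j f = 0 by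
    have := AlgHom.congr_fun hqj f
    rw [AlgHom.comp_apply, hjf, map_zero] at this
    simpa using this.symm
  have hr' : MvPolynomial.constantCoeff (j r) = 1 := by
    have := AlgHom.congr_fun hcc r
    rw [hr] at this
    simpa [MvPolynomial.aeval_zero'] using this
  have hjrf : j r * j f = 0 := by rw [← map_mul, h, map_zero]
  revert hjrf hr'
  generalize j r = r' , j f = f'
  intro hr' hjrf
  classical
  suffices ∀ (n : ℕ) (a : Fin m →₀ ℕ), a.degree = n → f'.coeff a = 0 by
    ext a; simpa using this _ a rfl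
  intro n
  induction n using Nat.strong_induction_on with
  | _ n ih =>
    intro a ha
    have hc : (r' * f').coeff a = 0 := by simp [hjrf]
    rw [MvPolynomial.coeff_mul] at hc
    rw [Finset.sum_eq_single (0, a)] at hc
    · rwa [show r'.coeff 0 = 1 from hr', one_mul] at hc
    · rintro ⟨x, y⟩ hxy hne
      rw [Finset.HasAntidiagonal.mem_antidiagonal] at hxy
      have hx : x ≠ 0 := fun h0 => hne (by subst h0; simp only [zero_add] at hxy; rw [hxy])
      have hy : y.degree < n := by
        have hd : x.degree + y.degree = n := by rw [← ha, ← hxy, map_add]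
        have : x.degree ≠ 0 := fun hd0 => hx ((Finsupp.degree_eq_zero_iff x).1 hd0)
        omega
      simp [ih _ hy y rfl]
    · intro hn; exact absurd (Finset.HasAntidiagonal.mem_antidiagonal.2 (zero_add a)) hn

lemma nakayama_step {R A B S : Type u} [CommRing R] [CommRing A] [CommRing B] [CommRing S]
    [Algebra R A] [Algebra R B] [Algebra B A] [IsScalarTower R B A] [Algebra B S]
    [Algebra.FormallySmooth R A] (Φ : S →ₐ[B] A) (hsurj : Function.Surjective Φ) (M K : Ideal S)
    (hK : ∀ f, f ∈ K ↔ Φ f = 0) (hKM : K ≤ M) (hKM2 : K ≤ M ^ 2) : K ≤ M • K := by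
  letI : Algebra R S := ((algebraMap B S).comp (algebraMap R B)).toAlgebra
  haveI : IsScalarTower R B S := IsScalarTower.of_algebraMap_eq' rfl
  let g : S ⧸ K ^ 2 →ₐ[R] A := Ideal.Quotient.liftₐ (K ^ 2) (Φ.restrictScalars R) fun x hx =>
    (hK x).1 (Ideal.pow_le_self two_ne_zero hx)
  have hg : ∀ f, g (Ideal.Quotient.mk (K ^ 2) f) = Φ f := fun f => rfl
  have hgs : Function.Surjective g := fun x => by
    obtain ⟨f, rfl⟩ := hsurj x; exact ⟨_, hg f⟩
  have hker : ∀ x, g x = 0 → x ∈ K.map (Ideal.Quotient.mk (K ^ 2)) := fun x hx => by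
    obtain ⟨f, rfl⟩ := Ideal.Quotient.mk_surjective x
    exact Ideal.mem_map_of_mem _ ((hK f).2 hx)
  have hnil : IsNilpotent (RingHom.ker (g : S ⧸ K ^ 2 →+* A)) :=
    ⟨2, le_bot_iff.1 ((Ideal.pow_right_mono (fun x hx => hker x hx) 2).trans_eq
      (by rw [← Ideal.map_pow, Ideal.map_quotient_self]))⟩
  let sec := Algebra.FormallySmooth.liftOfSurjective (AlgHom.id R _) g hgs hnil
  have hsec : ∀ x, g (sec x) = x := fun x =>
    Algebra.FormallySmooth.liftOfSurjective_apply (AlgHom.id R _) g hgs hnil x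
  let qh := Ideal.Quotient.mk (K ^ 2)
  let h : S →+* S ⧸ K ^ 2 := sec.toRingHom.comp Φ.toRingHom
  have hδ : ∀ f, h f - qh f ∈ K.map qh := fun f => hker _ (by
    rw [map_sub, hg]; exact sub_eq_zero.2 (hsec _))
  have hhM : ∀ f ∈ M, h f ∈ M.map qh := fun f hf => by
    simpa using add_mem (Ideal.map_mono hKM (hδ f)) (Ideal.mem_map_of_mem qh hf)
  have hmap : ∀ f ∈ M ^ 2, h f - qh f ∈ (M * K).map qh := by
    intro f hf
    rw [pow_two] at hf
    refine Submodule.mul_induction_on hf (fun x hx y hy => ?_) fun x y hx hy => ?_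
    · rw [map_mul, map_mul, Ideal.map_mul,
        show h x * h y - qh x * qh y = h x * (h y - qh y) + qh y * (h x - qh x) by ring]
      exact add_mem (Ideal.mul_mem_mul (hhM x hx) (hδ y))
        (Ideal.mul_mem_mul (Ideal.mem_map_of_mem qh hy) (hδ x))
    · rw [map_add, map_add, add_sub_add_comm]; exact add_mem hx hy
  intro f hf
  have := hmap f (hKM2 hf)
  rw [show h f = 0 from (congrArg sec ((hK f).1 hf)).trans (map_zero sec), zero_sub, neg_mem_iff,
    Ideal.mem_quotient_iff_mem_sup] at this
  refine sup_le (le_refl (M * K)) ?_ this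
  rw [pow_two]; exact Ideal.mul_mono_left hKM

lemma ker_fg {R A B S : Type u} [CommRing R] [CommRing A] [CommRing B] [CommRing S]
    [Algebra B A] [Algebra B S] [Algebra.FinitePresentation B A] {m : ℕ}
    (π' : MvPolynomial (Fin m) B →ₐ[B] S) (hπ' : Function.Surjective π') (Φ : S →ₐ[B] A)
    (hsurj : Function.Surjective Φ) : (RingHom.ker Φ.toRingHom).FG := by
  have h1 := (Algebra.FinitePresentation.ker_fG_of_surjective (Φ.comp π')
    (hsurj.comp hπ')).map π'.toRingHom
  convert h1 using 1
  exact (Ideal.map_comap_of_surjective π'.toRingHom hπ' _).symm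

lemma exists_kill {S : Type u} [CommRing S] (M K : Ideal S) (hfg : K.FG) (h : K ≤ M • K) :
    ∃ r : S, r - 1 ∈ M ∧ ∀ n ∈ K, r * n = 0 :=
  Submodule.exists_sub_one_mem_and_smul_eq_zero_of_fg_of_le_smul M K hfg h

lemma exists_sym (B : Type u) [CommRing B] (P : Type u) [AddCommGroup P] [Module B P]
    [Module.Finite B P] [Module.Projective B P] :
    ∃ (S : Type u) (_ : CommRing S) (_ : Algebra B S) (ι : P →ₗ[B] S) (cst : S →ₐ[B] B),
      (∀ q, cst (ι q) = 0) ∧ Algebra.adjoin B (Set.range ι) = ⊤ ∧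
      (∀ (A : Type u) [CommRing A] [Algebra B A] (σ : P →ₗ[B] A),
        ∃ Φ : S →ₐ[B] A, ∀ q, Φ (ι q) = σ q) ∧
      (∀ r f : S, cst r = 1 → r * f = 0 → f = 0) ∧ Nonempty (S ≃ₐ[B] SymmetricAlgebra B P) := by
  refine ⟨SymmetricAlgebra B P, inferInstance, inferInstance, SymmetricAlgebra.ι B P,
    SymmetricAlgebra.algebraMapInv, SymmetricAlgebra.algebraMapInv_ι, ?_, ?_,
    fun r f => eq_zero_of_mul_eq_zero r f, ⟨AlgEquiv.refl⟩⟩
  · rw [eq_top_iff]
    rintro f -
    induction f using SymmetricAlgebra.induction with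
    | algebraMap r => exact Subalgebra.algebraMap_mem _ r
    | ι x => exact Algebra.subset_adjoin ⟨x, rfl⟩
    | add f g hf hg => exact Subalgebra.add_mem _ hf hg
    | mul f g hf hg => exact Subalgebra.mul_mem _ hf hg
  · intro A _ _ σ
    exact ⟨SymmetricAlgebra.lift σ, SymmetricAlgebra.lift_ι_apply σ⟩

section
variable {N : Type} [AddCommMonoid N] [IsCancelAdd N] (hsharp : ∀ n : N, IsAddUnit n → n = 0)

include hsharp in
lemma wellFounded_lt [AddMonoid.FG N] :
    WellFounded (fun i n : N => ∃ j, j ≠ 0 ∧ i + j = n) := by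
  classical
  obtain ⟨S, hS⟩ := (AddMonoid.FG.fg_top : (⊤ : AddSubmonoid N).FG)
  let φ : (S → ℕ) →+ N :=
    { toFun := fun a => ∑ s : S, a s • (s : N)
      map_zero' := by simp
      map_add' := fun a b => by simp [add_smul, Finset.sum_add_distrib] }
  have hφ : Function.Surjective φ := by
    intro x
    have hx : x ∈ AddSubmonoid.closure (S : Set N) := hS ▸ AddSubmonoid.mem_top x
    induction hx using AddSubmonoid.closure_induction with
    | mem y hy =>
      exact ⟨Pi.single ⟨y, hy⟩ 1, by simp [φ, Pi.single_apply]⟩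
    | zero => exact ⟨0, map_zero _⟩
    | add y z _ _ hy hz =>
      obtain ⟨a, rfl⟩ := hy; obtain ⟨b, rfl⟩ := hz
      exact ⟨a + b, map_add _ _ _⟩
  rw [wellFounded_iff_isEmpty_descending_chain]
  refine ⟨fun ⟨f, hf⟩ => ?_⟩
  choose a ha using fun k => hφ (f k)
  obtain ⟨k, l, hkl, hle⟩ := wellQuasiOrdered_le a
  have hdesc : ∀ d k, ∃ j, j ≠ 0 ∧ f (k + d + 1) + j = f k := by
    intro d
    induction d with
    | zero => exact fun k => hf k
    | succ d ih =>
      intro k
      obtain ⟨j, hj, he⟩ := ih k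
      obtain ⟨j', hj', he'⟩ := hf (k + d + 1)
      refine ⟨j' + j, fun h0 => hj' (hsharp _ (IsAddUnit.of_add_eq_zero _ h0)), ?_⟩
      rw [← add_assoc, show k + (d + 1) + 1 = k + d + 1 + 1 by omega, he', he]
  obtain ⟨j, hj, he⟩ := hdesc (l - k - 1) k
  rw [show k + (l - k - 1) + 1 = l by omega] at he
  have hc : f l = f k + φ (a l - a k) := by
    rw [← ha, ← ha, ← map_add, add_tsub_cancel_of_le hle]
  rw [hc, add_assoc] at he
  have h0 : φ (a l - a k) + j = 0 := add_left_cancel (he.trans (add_zero _).symm)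
  rw [add_comm] at h0
  exact hj (hsharp _ (IsAddUnit.of_add_eq_zero _ h0))

variable {R : Type u} [CommRing R] {A : Type u} [CommRing A] [Algebra R A] [DecidableEq N]
  (𝒜 : N → Submodule R A) [GradedAlgebra 𝒜]

lemma proj_mem (n : N) (a : A) : GradedAlgebra.proj 𝒜 n a ∈ 𝒜 n := by
  rw [GradedAlgebra.proj_apply]; exact SetLike.coe_mem _

lemma proj_of_mem {i : N} {a : A} (ha : a ∈ 𝒜 i) (n : N) :
    GradedAlgebra.proj 𝒜 n a = if i = n then a else 0 := by
  rw [GradedAlgebra.proj_apply]
  split_ifs with h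
  · subst h; exact DirectSum.decompose_of_mem_same 𝒜 ha
  · exact DirectSum.decompose_of_mem_ne 𝒜 ha h

lemma proj_mul_zero_deg {b : A} (hb : b ∈ 𝒜 0) (n : N) (a : A) :
    GradedAlgebra.proj 𝒜 n (b * a) = b * GradedAlgebra.proj 𝒜 n a := by
  induction a using DirectSum.Decomposition.inductionOn 𝒜 with
  | zero => simp
  | homogeneous m =>
    have := SetLike.mul_mem_graded hb m.2
    rw [zero_add] at this
    rw [proj_of_mem 𝒜 this, proj_of_mem 𝒜 m.2]
    split_ifs <;> simp
  | add x y hx hy => simp only [mul_add, map_add, hx, hy]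

include hsharp in
lemma proj0_mul (a b : A) : GradedAlgebra.proj 𝒜 0 (a * b) =
    GradedAlgebra.proj 𝒜 0 a * GradedAlgebra.proj 𝒜 0 b := by
  induction a using DirectSum.Decomposition.inductionOn 𝒜 with
  | zero => simp
  | add x y hx hy => simp only [add_mul, map_add, hx, hy]
  | @homogeneous i x =>
    induction b using DirectSum.Decomposition.inductionOn 𝒜 with
    | zero => simp
    | add y z hy hz => simp only [mul_add, map_add, hy, hz]
    | @homogeneous j y =>
      rw [proj_of_mem 𝒜 (SetLike.mul_mem_graded x.2 y.2), proj_of_mem 𝒜 x.2, proj_of_mem 𝒜 y.2]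
      by_cases hi : i = 0
      · by_cases hj : j = 0
        · simp [hi, hj]
        · simp [hi, hj]
      · have hij : i + j ≠ 0 := fun h => hi (hsharp _ (IsAddUnit.of_add_eq_zero _ h))
        simp [hi, hij]

omit [IsCancelAdd N] in
instance tower0 : IsScalarTower R (𝒜 0) A := IsScalarTower.of_algebraMap_eq fun _ => rfl

noncomputable def eps : A →ₐ[𝒜 0] 𝒜 0 where
  toFun a := DirectSum.decompose 𝒜 a 0
  map_one' := Subtype.ext (DirectSum.decompose_of_mem_same 𝒜 (SetLike.one_mem_graded 𝒜))
  map_mul' a b := Subtype.ext (proj0_mul hsharp 𝒜 a b)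
  map_zero' := by simp
  map_add' a b := by simp
  commutes' b := Subtype.ext (DirectSum.decompose_of_mem_same 𝒜 b.2)

lemma coe_eps (a : A) : (eps hsharp 𝒜 a : A) = GradedAlgebra.proj 𝒜 0 a := rfl

set_option maxHeartbeats 1000000 in
include hsharp in
lemma key [AddMonoid.FG N] [Algebra.Smooth R A] :
    ∃ (P : Type u) (_ : AddCommGroup P) (_ : Module (𝒜 0) P), Module.Finite (𝒜 0) P ∧
      Module.Projective (𝒜 0) P ∧ Nonempty (A ≃ₐ[𝒜 0] SymmetricAlgebra (𝒜 0) P) := by
  classical
  let ε := eps hsharp 𝒜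
  letI : Algebra A (𝒜 0) := ε.toRingHom.toAlgebra
  haveI t1 : IsScalarTower R A (𝒜 0) :=
    IsScalarTower.of_algebraMap_eq' (RingHom.ext fun r => by
      change algebraMap R (𝒜 0) r = ε (algebraMap R A r)
      rw [IsScalarTower.algebraMap_apply R (𝒜 0) A, ε.commutes]; rfl)
  haveI t2 : IsScalarTower (𝒜 0) A (𝒜 0) :=
    IsScalarTower.of_algebraMap_eq' (RingHom.ext fun b => (ε.commutes b).symm)
  have hεs : Function.Surjective ε := fun b => ⟨algebraMap (𝒜 0) A b, ε.commutes b⟩
  haveI : Algebra.FormallySmooth R (𝒜 0) := by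
    refine Algebra.FormallySmooth.of_split (ε.restrictScalars R)
      ((Ideal.Quotient.mkₐ R _).comp (IsScalarTower.toAlgHom R (𝒜 0) A)) ?_
    ext b
    change ((ε (algebraMap (𝒜 0) A b) : 𝒜 0) : A) = _
    rw [ε.commutes]; rfl
  let AP : Ideal A := RingHom.ker (algebraMap A (𝒜 0))
  have hAP : ∀ a, a ∈ AP ↔ ε a = 0 := fun a => RingHom.mem_ker
  obtain ⟨l, hl⟩ := (Algebra.FormallySmooth.iff_split_injection (R := R) (P := A) (A := 𝒜 0) hεs).1
    inferInstance
  haveI : Module.Finite (𝒜 0) AP.Cotangent :=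
    Module.Finite.of_surjective (l.restrictScalars (𝒜 0)) fun x => ⟨_, LinearMap.congr_fun hl x⟩
  haveI : Module.Projective (𝒜 0) AP.Cotangent :=
    Module.Projective.of_split ((KaehlerDifferential.kerCotangentToTensor R A (𝒜 0)).restrictScalars
      (𝒜 0)) (l.restrictScalars (𝒜 0)) (LinearMap.ext fun x => LinearMap.congr_fun hl x)
  have hsub : ∀ a, a - algebraMap (𝒜 0) A (ε a) ∈ AP := fun a => by
    rw [hAP, map_sub, ε.commutes]; exact sub_self _
  let cl : A →ₗ[𝒜 0] AP.Cotangent :=
    { toFun := fun a => AP.toCotangent ⟨_, hsub a⟩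
      map_add' := fun a b => by
        rw [← map_add]
        congr 1
        exact Subtype.ext (by simp only [map_add, AddMemClass.mk_add_mk]; ring)
      map_smul' := fun c a => by
        rw [RingHom.id_apply, ← IsScalarTower.algebraMap_smul A c (AP.toCotangent _), ← map_smul]
        congr 1
        refine Subtype.ext ?_
        simp only [Algebra.smul_def, map_mul, ε.commutes, SetLike.val_smul, smul_eq_mul,
          Algebra.algebraMap_self, RingHom.id_apply]
        ring }
  have hclap : ∀ x (hx : x ∈ AP), cl x = AP.toCotangent ⟨x, hx⟩ := fun x hx => by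
    change AP.toCotangent _ = _
    congr 1
    exact Subtype.ext (by simp [(hAP x).1 hx])
  have hcls : Function.Surjective cl := fun q => by
    obtain ⟨⟨x, hx⟩, rfl⟩ := AP.toCotangent_surjective q
    exact ⟨x, hclap x hx⟩
  have hclb : ∀ b : 𝒜 0, cl (algebraMap (𝒜 0) A b) = 0 := fun b => by
    change AP.toCotangent _ = 0
    rw [Ideal.toCotangent_eq_zero]
    change algebraMap (𝒜 0) A b - algebraMap (𝒜 0) A (ε (algebraMap (𝒜 0) A b)) ∈ AP ^ 2
    rw [show ε (algebraMap (𝒜 0) A b) = b from ε.commutes b, sub_self]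
    exact zero_mem _
  have hclsq : ∀ x ∈ AP ^ 2, cl x = 0 := fun x hx => by
    rw [hclap x (Ideal.pow_le_self two_ne_zero hx), Ideal.toCotangent_eq_zero]; exact hx
  have hclker : ∀ a, cl a = 0 → a - algebraMap (𝒜 0) A (ε a) ∈ AP ^ 2 := fun a h =>
    (Ideal.toCotangent_eq_zero _ _).1 h
  -- homogeneous elements
  have hmemAP : ∀ {i : N} {a : A}, a ∈ 𝒜 i → i ≠ 0 → a ∈ AP := fun {i a} ha hi => by
    rw [hAP]; exact Subtype.ext (DirectSum.decompose_of_mem_ne 𝒜 ha hi)
  let sub0 : A → A := fun a => a - algebraMap (𝒜 0) A (ε a)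
  have hsub0add : ∀ a b, sub0 (a + b) = sub0 a + sub0 b := fun a b => by simp [sub0]; ring
  have hsub0z : sub0 0 = 0 := by simp [sub0]
  have hsub0h : ∀ {i : N} {a : A}, a ∈ 𝒜 i → sub0 a = if i = 0 then 0 else a := fun {i a} ha => by
    change a - (ε a : A) = _
    rw [coe_eps, proj_of_mem 𝒜 ha]
    split_ifs <;> simp
  -- decomposition of the square of the augmentation ideal
  have hsq : ∀ (Q : Submodule (𝒜 0) A) (n : N),
      (∀ i j x y, i ≠ 0 → j ≠ 0 → i + j = n → x ∈ 𝒜 i → y ∈ 𝒜 j → x * y ∈ Q) →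
      ∀ z ∈ AP ^ 2, GradedAlgebra.proj 𝒜 n z ∈ Q := by
    intro Q n hQ z hz
    rw [pow_two] at hz
    refine Submodule.mul_induction_on hz (fun x hx y hy => ?_) fun x y hx hy => by
      rw [map_add]; exact Q.add_mem hx hy
    suffices H : ∀ x y, GradedAlgebra.proj 𝒜 n (sub0 x * sub0 y) ∈ Q by
      have := H x y
      simpa [sub0, (hAP x).1 hx, (hAP y).1 hy] using this
    intro x y
    induction x using DirectSum.Decomposition.inductionOn 𝒜 with
    | zero => simp [hsub0z]
    | add a b ha hb => rw [hsub0add, add_mul, map_add]; exact Q.add_mem ha hb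
    | @homogeneous i x =>
      induction y using DirectSum.Decomposition.inductionOn 𝒜 with
      | zero => simp [hsub0z]
      | add a b ha hb => rw [hsub0add, mul_add, map_add]; exact Q.add_mem ha hb
      | @homogeneous j y =>
        rw [hsub0h x.2, hsub0h y.2]
        by_cases hi : i = 0
        · simp [hi]
        by_cases hj : j = 0
        · simp [hj]
        rw [if_neg hi, if_neg hj, proj_of_mem 𝒜 (SetLike.mul_mem_graded x.2 y.2)]
        split_ifs with h
        · exact hQ i j x y hi hj h x.2 y.2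
        · exact Q.zero_mem
  let pr : N → (A →ₗ[𝒜 0] A) := fun n =>
    { toFun := GradedAlgebra.proj 𝒜 n
      map_add' := map_add _
      map_smul' := fun c a => proj_mul_zero_deg 𝒜 c.2 n a }
  obtain ⟨σ0, hσ0⟩ := Module.projective_lifting_property cl LinearMap.id hcls
  have hσ0' : ∀ q, cl (σ0 q) = q := fun q => LinearMap.congr_fun hσ0 q
  let π : N → (AP.Cotangent →ₗ[𝒜 0] AP.Cotangent) := fun n => cl.comp ((pr n).comp σ0)
  have hclpr : ∀ n a, π n (cl a) = cl (pr n a) := by
    intro n a
    have h1 : cl (σ0 (cl a) - a) = 0 := by rw [map_sub, hσ0', sub_self]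
    have h2 : cl (pr n (σ0 (cl a) - a)) = 0 := by
      have h3 := hclker _ h1
      set d := σ0 (cl a) - a
      have h4 : d = (d - algebraMap (𝒜 0) A (ε d)) + algebraMap (𝒜 0) A (ε d) := by ring
      rw [h4, map_add, map_add]
      have h5 : cl (pr n (algebraMap (𝒜 0) A (ε d))) = 0 := by
        have : pr n (algebraMap (𝒜 0) A (ε d)) =
            if (0 : N) = n then algebraMap (𝒜 0) A (ε d) else 0 := proj_of_mem 𝒜 (ε d).2 n
        rw [this]; split_ifs
        · exact hclb _
        · exact map_zero _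
      have h6 : pr n (d - algebraMap (𝒜 0) A (ε d)) ∈ (AP ^ 2).restrictScalars (𝒜 0) :=
        hsq _ n (fun i j x y hi hj _ hx hy => by
          rw [Submodule.restrictScalars_mem, pow_two]
          exact Ideal.mul_mem_mul (hmemAP hx hi) (hmemAP hy hj)) _ h3
      rw [hclsq _ h6, h5, add_zero]
    simp only [map_sub, sub_eq_zero] at h2
    simpa [π] using h2
  have hπid : ∀ n q, π n (π n q) = π n q := fun n q => by
    change π n (cl (pr n (σ0 q))) = cl (pr n (σ0 q))
    rw [hclpr]
    congr 1
    change GradedAlgebra.proj 𝒜 n (GradedAlgebra.proj 𝒜 n (σ0 q)) = _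
    rw [proj_of_mem 𝒜 (proj_mem 𝒜 n _), if_pos rfl]; rfl
  obtain ⟨m, v, hv⟩ := Module.Finite.exists_fin (R := 𝒜 0) (M := AP.Cotangent)
  choose w hw using fun k => hcls (v k)
  let D : Finset N := Finset.univ.biUnion fun k : Fin m => (DirectSum.decompose 𝒜 (w k)).support
  have hD : ∑ n ∈ D, π n = LinearMap.id := by
    apply LinearMap.ext_on_range hv
    intro k
    rw [LinearMap.sum_apply, LinearMap.id_apply, ← hw k]
    simp only [hclpr, ← map_sum]
    congr 1
    conv_rhs => rw [← DirectSum.sum_support_decompose 𝒜 (w k)]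
    refine (Finset.sum_subset (Finset.subset_biUnion_of_mem
      (fun k => (DirectSum.decompose 𝒜 (w k)).support) (Finset.mem_univ k)) fun n _ hn => ?_).symm
    change ((DirectSum.decompose 𝒜 (w k) n : 𝒜 n) : A) = 0
    rw [DFinsupp.notMem_support_iff.1 hn]; rfl
  let σ : AP.Cotangent →ₗ[𝒜 0] A := ∑ n ∈ D, (pr n).comp (σ0.comp (π n))
  have hσcl : ∀ q, cl (σ q) = q := fun q => by
    conv_rhs => rw [← LinearMap.id_apply (R := 𝒜 0) q, ← hD]
    simp only [σ, LinearMap.sum_apply, LinearMap.comp_apply, map_sum]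
    exact Finset.sum_congr rfl fun n _ => hπid n q
  have hσh : ∀ {n : N} {a : A}, a ∈ 𝒜 n → σ (cl a) ∈ 𝒜 n := fun {n a} ha => by
    simp only [σ, LinearMap.sum_apply, LinearMap.comp_apply, hclpr]
    refine sum_mem fun i _ => ?_
    by_cases hin : n = i
    · subst hin; exact proj_mem 𝒜 _ _
    · have : pr i a = 0 := (proj_of_mem 𝒜 ha i).trans (if_neg hin)
      simp [this]
  have hσAP : ∀ q, σ q ∈ AP := fun q => by
    obtain ⟨a, rfl⟩ := hcls q
    simp only [σ, LinearMap.sum_apply, LinearMap.comp_apply, hclpr]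
    refine Submodule.sum_mem _ fun i _ => ?_
    by_cases hi : i = 0
    · subst hi
      have : pr 0 a = algebraMap (𝒜 0) A (ε a) := rfl
      rw [this, hclb, map_zero, map_zero]; exact zero_mem _
    · exact hmemAP (proj_mem 𝒜 i _) hi
  -- the algebra map
  obtain ⟨S, iS1, iS2, ι, cst, hcst, hgen, hlift, hnzd, ⟨eS⟩⟩ := exists_sym (𝒜 0) AP.Cotangent
  obtain ⟨Φ, hΦ⟩ := hlift A σ
  have hεΦ : ε.comp Φ = cst := by
    apply AlgHom.ext_of_adjoin_eq_top hgen
    rintro x ⟨q, rfl⟩
    simp [hΦ, hcst, (hAP _).1 (hσAP q)]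
  have hsurj : Function.Surjective Φ := by
    have hhom : ∀ n, ∀ a ∈ 𝒜 n, a ∈ Φ.range := by
      intro n
      induction n using (wellFounded_lt hsharp).induction with
      | _ n ih =>
        intro a ha
        by_cases hn : n = 0
        · subst hn; exact Φ.range.algebraMap_mem ⟨a, ha⟩
        · have h1 : cl (a - σ (cl a)) = 0 := by rw [map_sub, hσcl, sub_self]
          have h2 := hclker _ h1
          have hmem : a - σ (cl a) ∈ 𝒜 n := sub_mem ha (hσh ha)
          rw [(hAP _).1 (hmemAP hmem hn), map_zero, sub_zero] at h2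
          have h3 := hsq (Subalgebra.toSubmodule Φ.range) n (fun i j x y hi hj hij hx hy =>
            Φ.range.mul_mem (ih i ⟨j, hj, hij⟩ x hx)
              (ih j ⟨i, hi, (add_comm j i).trans hij⟩ y hy)) _ h2
          rw [proj_of_mem 𝒜 hmem, if_pos rfl, Subalgebra.mem_toSubmodule] at h3
          have h4 : σ (cl a) ∈ Φ.range :=
            ⟨ι (cl a), hΦ _⟩
          simpa using Φ.range.add_mem h3 h4
    intro a
    change a ∈ Φ.range
    induction a using DirectSum.Decomposition.inductionOn 𝒜 with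
    | zero => exact Φ.range.zero_mem
    | homogeneous x => exact hhom _ _ x.2
    | add x y hx hy => exact Φ.range.add_mem hx hy
  let K : Ideal S := RingHom.ker Φ.toRingHom
  have hK : ∀ f, f ∈ K ↔ Φ f = 0 := fun f => RingHom.mem_ker
  let M : Ideal S := RingHom.ker cst.toRingHom
  have hM : ∀ f, f ∈ M ↔ cst f = 0 := fun f => RingHom.mem_ker
  have hι : ∀ q, ι q ∈ M := fun q =>
    (hM _).2 (hcst q)
  have hKM : K ≤ M := fun f hf => by
    rw [hM, ← hεΦ, AlgHom.comp_apply, (hK f).1 hf, map_zero]
  have hlin : ∀ f : S, ∃ q, f - algebraMap (𝒜 0) S (cst f) - ι q ∈ M ^ 2 := by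
    intro f
    have hf : f ∈ Algebra.adjoin (𝒜 0) (Set.range ι) := hgen ▸ Algebra.mem_top
    induction hf using Algebra.adjoin_induction with
    | algebraMap r =>
      refine ⟨0, ?_⟩
      rw [show cst (algebraMap _ _ r) = r from cst.commutes r]
      simp
    | mem y hy =>
      obtain ⟨x, rfl⟩ := hy
      refine ⟨x, ?_⟩
      simp [hcst]
    | add f g _ _ hf hg =>
      obtain ⟨p, hp⟩ := hf; obtain ⟨q, hq⟩ := hg
      refine ⟨p + q, ?_⟩
      convert add_mem hp hq using 1
      simp; ring
    | mul f g _ _ hf hg =>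
      obtain ⟨p, hp⟩ := hf; obtain ⟨q, hq⟩ := hg
      refine ⟨cst f • q + cst g • p, ?_⟩
      have hfm : f - algebraMap (𝒜 0) S (cst f) ∈ M := by
        rw [hM, map_sub, AlgHom.commutes]; exact sub_self _
      have hgm : g - algebraMap (𝒜 0) S (cst g) ∈ M := by
        rw [hM, map_sub, AlgHom.commutes]; exact sub_self _
      have h1 := (M ^ 2).mul_mem_left (algebraMap (𝒜 0) S (cst f)) hq
      have h2 := (M ^ 2).mul_mem_left (algebraMap (𝒜 0) S (cst g)) hp
      have h3 : _ ∈ M ^ 2 := pow_two M ▸ Ideal.mul_mem_mul hfm hgm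
      convert add_mem (add_mem h1 h2) h3 using 1
      simp only [map_mul, map_add, map_smul, Algebra.smul_def]; ring
  have hΦM : M.map Φ.toRingHom ≤ AP := by
    rw [Ideal.map_le_iff_le_comap]
    intro f hf
    change Φ f ∈ AP
    rw [hAP, ← AlgHom.comp_apply, hεΦ]
    exact (hM f).1 hf
  have hKM2 : K ≤ M ^ 2 := by
    intro f hf
    obtain ⟨q, hq⟩ := hlin f
    rw [(hM f).1 (hKM hf), map_zero, sub_zero] at hq
    have h1 : Φ (f - ι q) ∈ AP ^ 2 := by
      have := Ideal.mem_map_of_mem Φ.toRingHom hq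
      rw [Ideal.map_pow] at this
      exact Ideal.pow_right_mono hΦM 2 this
    rw [map_sub, (hK f).1 hf, zero_sub, neg_mem_iff] at h1
    have h2 : q = 0 := by
      rw [← hσcl q]
      exact hclsq _ (by simpa [hΦ] using h1)
    rw [h2] at hq
    convert hq using 1
    rw [map_zero, sub_zero]
  have hKJ : K ≤ M • K := nakayama_step (R := R) (B := 𝒜 0) Φ hsurj M K hK hKM hKM2
  have hKfg : K.FG := by
    haveI : Algebra.FiniteType R (𝒜 0) :=
      Algebra.FiniteType.of_surjective (ε.restrictScalars R) hεs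
    haveI : Algebra.FinitePresentation (𝒜 0) A :=
      Algebra.FinitePresentation.of_restrict_scalars_finitePresentation R (𝒜 0) A
    let π' : MvPolynomial (Fin m) (𝒜 0) →ₐ[𝒜 0] S :=
      MvPolynomial.aeval fun k => ι (v k)
    have hπ' : Function.Surjective π' := by
      intro f
      change f ∈ π'.range
      have hf : f ∈ Algebra.adjoin (𝒜 0) (Set.range ι) := hgen ▸ Algebra.mem_top
      revert hf
      suffices Algebra.adjoin (𝒜 0) (Set.range ι) ≤ π'.range from fun hf => this hf
      rw [Algebra.adjoin_le_iff]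
      rintro _ ⟨x, rfl⟩
      have hx : x ∈ Submodule.span (𝒜 0) (Set.range v) := hv ▸ Submodule.mem_top
      induction hx using Submodule.span_induction with
      | mem y hy => obtain ⟨k, rfl⟩ := hy; exact ⟨MvPolynomial.X k, by simp [π']⟩
      | zero => rw [map_zero]; exact π'.range.zero_mem
      | add y z _ _ hy hz => rw [map_add]; exact π'.range.add_mem hy hz
      | smul c y _ hy => rw [map_smul]; exact π'.range.smul_mem hy c
    exact ker_fg (R := R) π' hπ' Φ hsurj
  obtain ⟨r, hr, hr0⟩ := exists_kill M K hKfg hKJ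
  have hr1 : cst r = 1 := by
    have := (hM _).1 hr
    rwa [map_sub, map_one, sub_eq_zero] at this
  have hinj : Function.Injective Φ := (injective_iff_map_eq_zero Φ).2 fun f hf =>
    hnzd r f hr1 (hr0 f ((hK f).2 hf))
  exact ⟨AP.Cotangent, inferInstance, inferInstance, inferInstance, inferInstance,
    ⟨(AlgEquiv.ofBijective Φ ⟨hinj, hsurj⟩).symm.trans eS⟩⟩

end


/-- Let R be a commutative ring, N a fine and sharp commutative monoid (finitely generated,
cancellative, and 0 its only invertible element) and A a commutative R-algebra graded by N which is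
smooth over R. Then A is isomorphic, as an algebra over its degree-zero part A_0, to the symmetric
algebra of a finitely generated projective A_0-module; that is, Spec A → Spec A_0 is a vector bundle
whose zero section is the closed subscheme Spec A_0 cut out by the elements of non-zero degree.
(This is the affine, graded form of the statement that for a smooth S-scheme X with a
Zariski-locally linearizable action of a diagonalizable group D(M)_S and a finitely generated
submonoid N of M the map from the attractor X^N to X^{N*} is a vector bundle: here the base is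
affine, N* = 0, and X = Spec A equals its own attractor X^N, an N-grading of A being an action of
the monoid scheme of N; the fixed-point scheme X^0 is Spec A_0.) -/
theorem result (R : Type u) [CommRing R] (A : Type u)
    [CommRing A] [Algebra R A] (N : Type) [AddCommMonoid N] [DecidableEq N] [AddMonoid.FG N] [IsCancelAdd N]
    (hsharp : ∀ n : N, IsAddUnit n → n = 0) (𝒜 : N → Submodule R A) [GradedAlgebra 𝒜]
    [Algebra.Smooth R A] :
    ∃ (P : Type u) (_ : AddCommGroup P) (_ : Module (𝒜 0) P), Module.Finite (𝒜 0) P ∧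
      Module.Projective (𝒜 0) P ∧ Nonempty (A ≃ₐ[𝒜 0] SymmetricAlgebra (𝒜 0) P) := by
  exact key hsharp 𝒜

end Groth.Agent.S18239
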