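import Groth.Statements.S18242

import Groth.Agent.Lib.GrpSch.AttrHomotopy

set_option autoImplicit false
universe u
open CategoryTheory MonoidalCategory CartesianMonoidalCategory AlgebraicGeometry Opposite
open Magnet

namespace Groth.Agent.S18242

/-- The connectedness statements for a morphism with a section and connecting lines. -/
theorem connected_of_lines {S : Scheme.{u}} {A B : Over S} (j : A ⟶ B) (s : B ⟶ A) (hs : s ≫ j = 𝟙 B)
    (hl : ∀ (L : Type u) [Field L] (T : Over S) (eT : T.left ≅ Spec (.of L))
      (z : T ⟶ A), ∃ (T₁ : Over S) (π : T₁ ⟶ T) (σ₀ σ₁ : T ⟶ T₁) (w : T₁ ⟶ A),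
        PreconnectedSpace T₁.left ∧ w ≫ j = π ≫ z ≫ j ∧ σ₀ ≫ π = 𝟙 T ∧ σ₁ ≫ π = 𝟙 T ∧
          σ₁ ≫ w = z ∧ σ₀ ≫ w = z ≫ j ≫ s) :
    (∀ (K : Type u) [Field K] (k : Spec (CommRingCat.of K) ⟶ B.left),
        ConnectedSpace ↥(Limits.pullback j.left k)) ∧
      Function.Bijective (Continuous.connectedComponentsMap (Scheme.Hom.continuous j.left)) := by
  have hs' : s.left ≫ j.left = 𝟙 B.left := congrArg CommaMorphism.left hs
  constructor
  · intro K _ k
    let P := Limits.pullback j.left k
    let σ : Spec (CommRingCat.of K) ⟶ P := Limits.pullback.lift (k ≫ s.left) (𝟙 _) (by simp [hs'])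
    obtain ⟨pt⟩ : Nonempty ↥(Spec (CommRingCat.of K)) := inferInstance
    rw [connectedSpace_iff_connectedComponent]
    refine ⟨σ.base pt, Set.eq_univ_of_forall fun p => ?_⟩
    let T : Over S := Over.mk ((P.fromSpecResidueField p ≫ Limits.pullback.fst j.left k) ≫ A.hom)
    let z : T ⟶ A := Over.homMk (P.fromSpecResidueField p ≫ Limits.pullback.fst j.left k)
    obtain ⟨T₁, π, σ₀, σ₁, w, hc, hw, h₀, h₁, e₁, e₀⟩ := hl (P.residueField p) T (Iso.refl _) z
    have hw' : w.left ≫ j.left = π.left ≫ z.left ≫ j.left := congrArg CommaMorphism.left hw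
    let v : T₁.left ⟶ P := Limits.pullback.lift w.left
      (π.left ≫ P.fromSpecResidueField p ≫ Limits.pullback.snd j.left k) (by
        rw [hw']
        simp [z, Limits.pullback.condition])
    have hsec : ∀ σ' : T ⟶ T₁, σ' ≫ π = 𝟙 T → ∀ y : Spec (P.residueField p) ⟶ P,
        (σ' ≫ w).left = y ≫ Limits.pullback.fst j.left k →
        P.fromSpecResidueField p ≫ Limits.pullback.snd j.left k = y ≫ Limits.pullback.snd j.left k →
        σ'.left ≫ v = y := by
      intro σ' hσ y h h'
      refine Limits.pullback.hom_ext ?_ ?_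
      · rw [Category.assoc, Limits.pullback.lift_fst]; exact h
      · have hσ' : σ'.left ≫ π.left = 𝟙 _ := congrArg CommaMorphism.left hσ
        rw [Category.assoc, Limits.pullback.lift_snd, reassoc_of% hσ', h']
    have hv₁ : σ₁.left ≫ v = P.fromSpecResidueField p := hsec σ₁ h₁ _ (congrArg CommaMorphism.left e₁) rfl
    have hv₀ : σ₀.left ≫ v = (P.fromSpecResidueField p ≫ Limits.pullback.snd j.left k) ≫ σ :=
      hsec σ₀ h₀ _ (by
        rw [e₀]
        dsimp only [σ, P]
        rw [Category.assoc, Category.assoc, Limits.pullback.lift_fst]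
        simp [z, Limits.pullback.condition_assoc]
        rfl) (by
        dsimp only [σ, P]
        rw [Category.assoc, Category.assoc, Limits.pullback.lift_snd, Category.comp_id])
    let t : ↥T.left := IsLocalRing.closedPoint (P.residueField p)
    have hp : v.base (σ₁.left.base t) = p := by
      rw [← Scheme.Hom.comp_apply, hv₁]
      exact P.fromSpecResidueField_apply p _
    have hp0 : v.base (σ₀.left.base t) = σ.base pt := by
      rw [← Scheme.Hom.comp_apply, hv₀, Scheme.Hom.comp_apply]
      exact congrArg σ.base (Subsingleton.elim _ _)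
    have := hc
    exact (isPreconnected_range v.continuous).subset_connectedComponent ⟨_, hp0⟩ ⟨_, hp⟩
  · have hsj : ∀ b, j.left.base (s.left.base b) = b := fun b => by
      rw [← Scheme.Hom.comp_apply, hs']; rfl
    have hjs : ∀ p, ConnectedComponents.mk (s.left.base (j.left.base p)) = ConnectedComponents.mk p := by
      intro p
      let T : Over S := Over.mk (A.left.fromSpecResidueField p ≫ A.hom)
      let z : T ⟶ A := Over.homMk (A.left.fromSpecResidueField p)
      obtain ⟨T₁, π, σ₀, σ₁, w, hc, -, -, -, e₁, e₀⟩ := hl (A.left.residueField p) T (Iso.refl _) z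
      let t : ↥T.left := IsLocalRing.closedPoint (A.left.residueField p)
      have e₁' : w.left.base (σ₁.left.base t) = p := by
        rw [← Scheme.Hom.comp_apply, ← Over.comp_left, e₁]
        exact A.left.fromSpecResidueField_apply p _
      have e₀' : w.left.base (σ₀.left.base t) = s.left.base (j.left.base p) := by
        rw [← Scheme.Hom.comp_apply, ← Over.comp_left, e₀, Over.comp_left, Over.comp_left, Scheme.Hom.comp_apply,
          Scheme.Hom.comp_apply]
        exact congrArg (fun x => s.left.base (j.left.base x)) (A.left.fromSpecResidueField_apply p _)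
      rw [ConnectedComponents.coe_eq_coe']
      have := hc
      exact (isPreconnected_range w.left.continuous).subset_connectedComponent ⟨_, e₁'⟩ ⟨_, e₀'⟩
    refine Function.bijective_iff_has_inverse.2 ⟨s.left.continuous.connectedComponentsMap, ?_, ?_⟩
    · rintro ⟨p⟩
      exact hjs p
    · rintro ⟨b⟩
      exact congrArg ConnectedComponents.mk (hsj b)

/-- Let S be a scheme, M a finitely generated abelian group, N a finitely generated submonoid of M and Z
= N* its subgroup of invertible elements (a face of N); let X be a scheme locally of finite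
presentation over S with an action of the diagonalizable group scheme D(M)_S, admitting an N*-FPR
atlas: an equivariant, étale and surjective g : U → X where U is a disjoint union of D(M)_S-stable
open subschemes each affine over S, such that for the actions restricted along D(M/Z)_S → D(M)_S the
square of fixed-point subfunctors U^{D(M/Z)} → X^{D(M/Z)} over U → X is cartesian. If the attractors
X^N and X^{N*} are represented by S-schemes Z_N and Z_* and j : Z_N → Z_* is the S-morphism
corresponding to the canonical map X^N → X^{N*} under the two representing bijections, then for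
every field K and every K-valued point of Z_* the fibre of j is connected (the fibres are
geometrically connected), and j induces a bijection on the sets of connected components. (Stated for
schemes; the published statement is for algebraic spaces over S.) -/
theorem result (S : Scheme.{u}) (M : Type) [AddCommGroup M]
    [AddGroup.FG M] (N : AddSubmonoid M) (hN : N.FG) (Z : AddSubgroup M)
    (hZ : ∀ m : M, m ∈ Z ↔ m ∈ Magnet.unitFace N)
    {X : Over S} [LocallyOfFinitePresentation X.hom] (a : Magnet.MonAct (Magnet.AMonS S M) X)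
    (U : Over S) (aU : Magnet.MonAct (Magnet.AMonS S M) U) (g : U ⟶ X)
    (hg : Magnet.MonAct.IsEquivariant aU a g) [Etale g.left] [Surjective g.left]
    (ι : Type u) (V : ι → U.left.Opens) (hVd : ∀ i i', i ≠ i' → Disjoint (V i) (V i'))
    (hVc : ⨆ i, V i = ⊤) (hVa : ∀ i, IsAffineHom ((V i).ι ≫ U.hom))
    (hVs : ∀ i, (CartesianMonoidalCategory.snd (Magnet.AMonS S M) U).left ⁻¹ᵁ (V i) ≤ aU.act.left ⁻¹ᵁ (V i))
    (hgZ : Magnet.MonAct.IsEquivariant (aU.restrict (Magnet.AMonS.map S (QuotientAddGroup.mk' Z))) (a.restrict (Magnet.AMonS.map S (QuotientAddGroup.mk' Z))) g)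
    (hfpr : IsPullback (Magnet.MonAct.fixedPsh.map g hgZ)
      (Magnet.MonAct.fixedPshι (aU.restrict (Magnet.AMonS.map S (QuotientAddGroup.mk' Z))))
      (Magnet.MonAct.fixedPshι (a.restrict (Magnet.AMonS.map S (QuotientAddGroup.mk' Z)))) (yoneda.map g))
    {ZN Z0 : Over S} (eN : (Magnet.attr a N).RepresentableBy ZN)
    (e0 : (Magnet.attr a (Magnet.unitFace N)).RepresentableBy Z0) (j : ZN ⟶ Z0)
    (hj : ∀ (T : Over S) (z : T ⟶ ZN), e0.homEquiv (z ≫ j) = (Magnet.attrFace a (Magnet.isFace_unitFace N)).app (op T) (eN.homEquiv z)) :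
    (∀ (K : Type u) [Field K] (k : Spec (CommRingCat.of K) ⟶ Z0.left),
        ConnectedSpace ↥(Limits.pullback j.left k)) ∧
      Function.Bijective (Continuous.connectedComponentsMap (Scheme.Hom.continuous j.left)) := by
  obtain ⟨s, hs, hl⟩ := Groth.Agent.Lib.GrpSch.AttrHomotopy.exists_line hN hj
  exact connected_of_lines j s hs hl


end Groth.Agent.S18242
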