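import Groth.Statements.S18243

import Groth.Agent.Lib.GrpSch.PushoutAct
import Groth.Agent.Lib.GrpSch.FacePushout

set_option autoImplicit false
universe u
open CategoryTheory MonoidalCategory CartesianMonoidalCategory AlgebraicGeometry Opposite
open Magnet

namespace Groth.Agent.S18243

theorem affine_flat_AMonS (S : Scheme.{u}) [IsAffine S] (M : Type) [AddCommMonoid M] :
    IsAffine (Magnet.AMonS S M).left ∧ Flat (Magnet.AMonS S M).hom := by
  have h := Groth.Agent.Lib.GrpSch.isPullback_bc (Limits.IsTerminal.from specULiftZIsTerminal S)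
    (Magnet.AMon (ULift.{u} ℤ) M)
  haveI : IsAffineHom (Magnet.AMonS S M).hom :=
    MorphismProperty.of_isPullback (P := @IsAffineHom) h
      (inferInstanceAs (IsAffineHom (Spec.map (CommRingCat.ofHom
        (algebraMap (ULift.{u} ℤ) (MonoidAlgebra (ULift.{u} ℤ) (Multiplicative M)))))))
  exact ⟨isAffine_of_isAffineHom (Magnet.AMonS S M).hom, MorphismProperty.of_isPullback (P := @Flat) h
    ((HasRingHomProperty.Spec_iff (P := @Flat)).mpr ((RingHom.flat_algebraMap_iff).mpr inferInstance))⟩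

open Groth.Agent.Lib.GrpSch in
theorem isClosedImmersion_faceMap {S : Scheme.{u}} {M : Type} [AddCommMonoid M] {N F : AddSubmonoid M}
    (hF : Magnet.IsFace N F) (T : Over S) : IsClosedImmersion (Magnet.AMonS.faceMap S hF ▷ T).left := by
  refine MorphismProperty.of_isPullback (P := @IsClosedImmersion)
    (FacePushout.isPullback_faceMap_whiskerRight hF T).flip ?_
  refine IsClosedImmersion.spec_of_surjective _ fun z => ⟨FacePushout.inclHom _ hF.le z,
    MonoidAlgebra.ext (Finsupp.ext fun k => ?_)⟩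
  obtain ⟨k, rfl⟩ := Multiplicative.ofAdd.surjective k
  exact (FacePushout.face_coeff _ hF _ k).trans (FacePushout.incl_coeff _ hF.le z k)
/-- Let T be an affine scheme and T̄ → T a first-order thickening, M a finitely generated abelian group,
N a submonoid of M and F a face of N. Consider the span A(F)_T ← A(F)_T ×_T T̄ → A(N)_T ×_T T̄
formed by the first projection and by the face closed immersion A(F) → A(N) times T̄, everything
with its action of the diagonalizable group scheme D(M)_T (acting trivially on T̄). Then there are a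
T-scheme P, affine, with morphisms ν₁ : A(F)_T → P and ν₂ : A(N)_T ×_T T̄ → P forming a push-out
square in T-schemes, and an action of D(M)_T on P for which ν₁ and ν₂ are equivariant, such that P
is also a push-out for equivariant morphisms: for every T-scheme X with an action of D(M)_T and
equivariant f₁ : A(F)_T → X, f₂ : A(N)_T ×_T T̄ → X agreeing on A(F)_T ×_T T̄, the induced morphism
P → X is equivariant. (Stated for schemes over T; the published statement is in algebraic spaces
over T.) -/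
theorem result (T : Scheme.{u}) [IsAffine T] (M : Type) [AddCommGroup M]
    [AddGroup.FG M] {N F : AddSubmonoid M} (hF : Magnet.IsFace N F) (Tb : Over T)
    (hTb : MoreMor.IsFirstOrderThickening Tb.hom) :
    ∃ (P : Over T) (ν₁ : Magnet.AMonS T F ⟶ P) (ν₂ : Magnet.AMonS T N ⊗ Tb ⟶ P)
      (hP : IsPushout (CartesianMonoidalCategory.fst (Magnet.AMonS T F) Tb) (Magnet.AMonS.faceMap T hF ▷ Tb) ν₁ ν₂)
      (aP : Magnet.MonAct (Magnet.AMonS T M) P),
      IsAffine P.left ∧ Magnet.MonAct.IsEquivariant (Magnet.subAct T M F) aP ν₁ ∧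
      Magnet.MonAct.IsEquivariant ((Magnet.subAct T M N).prod (Magnet.MonAct.trivial (Magnet.AMonS T M) Tb)) aP ν₂ ∧
      ∀ (X : Over T) (aX : Magnet.MonAct (Magnet.AMonS T M) X) (f₁ : Magnet.AMonS T F ⟶ X)
        (f₂ : Magnet.AMonS T N ⊗ Tb ⟶ X)
        (w : CartesianMonoidalCategory.fst (Magnet.AMonS T F) Tb ≫ f₁ = (Magnet.AMonS.faceMap T hF ▷ Tb) ≫ f₂),
        Magnet.MonAct.IsEquivariant (Magnet.subAct T M F) aX f₁ →
        Magnet.MonAct.IsEquivariant ((Magnet.subAct T M N).prod (Magnet.MonAct.trivial (Magnet.AMonS T M) Tb)) aX f₂ →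
        Magnet.MonAct.IsEquivariant aP aX (hP.desc f₁ f₂ w) := by
  haveI := hTb.1.1
  haveI : IsAffine Tb.left := isAffine_of_isAffineHom Tb.hom
  obtain ⟨_, _⟩ := affine_flat_AMonS T M
  obtain ⟨_, _⟩ := affine_flat_AMonS T ↥F
  obtain ⟨_, _⟩ := affine_flat_AMonS T ↥N
  haveI : IsAffine (Magnet.AMonS T ↥F ⊗ Tb).left :=
    IsAffine.of_isPullback (Groth.Agent.Lib.GrpSch.isPullback_left _ _)
  haveI : IsAffine (Magnet.AMonS T ↥N ⊗ Tb).left :=
    IsAffine.of_isPullback (Groth.Agent.Lib.GrpSch.isPullback_left _ _)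
  let i := Magnet.AMonS.faceMap T hF ▷ Tb
  let j := fst (Magnet.AMonS T ↥F) Tb
  haveI : IsClosedImmersion i.left := isClosedImmersion_faceMap hF Tb
  obtain ⟨P₀, a, b, h⟩ := Groth.Agent.Lib.Ferrand.exists_affSq i.left j.left
  haveI : IsAffine P₀ := h.affP
  let p : P₀ ⟶ T := h.isPushout.desc (Magnet.AMonS T ↥N ⊗ Tb).hom (Magnet.AMonS T ↥F).hom
    (by rw [Over.w, Over.w])
  let P : Over T := Over.mk p
  let ν₁ : Magnet.AMonS T ↥F ⟶ P := Over.homMk b (h.isPushout.inr_desc _ _ _)
  let ν₂ : Magnet.AMonS T ↥N ⊗ Tb ⟶ P := Over.homMk a (h.isPushout.inl_desc _ _ _)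
  have w : i ≫ ν₂ = j ≫ ν₁ := Over.OverMorphism.ext h.w
  let triv := Magnet.MonAct.trivial (Magnet.AMonS T M) Tb
  have hi : Magnet.MonAct.IsEquivariant ((Magnet.subAct T M F).prod triv) ((Magnet.subAct T M N).prod triv) i := by
    rw [Magnet.MonAct.isEquivariant_iff]
    intro U g z
    obtain ⟨x, t, rfl⟩ : ∃ x t, z = lift x t := ⟨_, _, (lift_comp_fst_snd z).symm⟩
    simp only [i, Magnet.MonAct.lift_prod_act_assoc, lift_whiskerRight, Magnet.MonAct.lift_prod_act,
      Category.assoc, (Magnet.MonAct.isEquivariant_iff _ _ _).1 (Magnet.isEquivariant_faceMapS T hF)]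
  obtain ⟨aP, hν₂, hν₁, huniv⟩ := Groth.Agent.Lib.GrpSch.exists_pushout_action (Magnet.AMonS T M)
    (a := ν₂) (b := ν₁) h w hi
    (Magnet.MonAct.isEquivariant_prod_fst (Magnet.subAct T M F) triv)
  have hpo := (Groth.Agent.Lib.GrpSch.isPushout_of_affSq (a := ν₂) (b := ν₁) h w).flip
  refine ⟨P, ν₁, ν₂, hpo, aP, ‹IsAffine P₀›, hν₁, hν₂, fun X aX f₁ f₂ w' hf₁ hf₂ => ?_⟩
  refine huniv X aX _ ?_ ?_
  · rw [hpo.inr_desc]; exact hf₂
  · rw [hpo.inl_desc]; exact hf₁


end Groth.Agent.S18243
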