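import Groth.Statements.S18244

import Groth.Agent.Lib.GrpSch.FaceGrading
import Groth.Agent.Lib.GrpSch.MonPts

set_option autoImplicit false
universe u
open CategoryTheory MonoidalCategory CartesianMonoidalCategory AlgebraicGeometry Opposite
open Magnet

open CategoryTheory MonoidalCategory CartesianMonoidalCategory MonObj AlgebraicGeometry Opposite

namespace Groth.Agent.S18244

open Classical in
theorem monFn_faceMap {S : Scheme.{u}} {M : Type} [AddCommMonoid M] {N F : AddSubmonoid M}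
    (hF : Magnet.IsFace N F) {W : Over S} (y : W ⟶ Magnet.AMonS S F) (n : ↥N) :
    Groth.Agent.Lib.GrpSch.monFn (y ≫ Magnet.AMonS.faceMap S hF) n =
      if h : (n : M) ∈ F then Groth.Agent.Lib.GrpSch.monFn y ⟨n, h⟩ else 0 := by
  unfold Groth.Agent.Lib.GrpSch.monFn
  rw [Magnet.AMonS.faceMap, Groth.Agent.Lib.RedPts.BC.down_map]
  refine (Groth.Agent.Lib.RedPts.Affine.ringHomOf_specMap _ _ _).trans ?_
  change Groth.Agent.Lib.RedPts.Points.ringHomOf _ (Magnet.faceAlgHom (ULift.{u} ℤ) hF _) = _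
  split_ifs with h
  · rw [Magnet.faceAlgHom_single_of_mem _ hF n h]; rfl
  · rw [Magnet.faceAlgHom_single_of_not_mem _ hF n h, map_zero]

theorem AMonS_mul_comm {S : Scheme.{u}} {M : Type} [AddCommMonoid M] {W : Over S}
    (x y : W ⟶ Magnet.AMonS S M) : x * y = y * x :=
  Groth.Agent.Lib.GrpSch.monFn_ext fun m => by
    rw [Groth.Agent.Lib.GrpSch.monFn_mul, Groth.Agent.Lib.GrpSch.monFn_mul, _root_.mul_comm]

/-- Let S be a scheme, M a finitely generated abelian group, X a scheme locally of finite presentation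
over S with an action of the diagonalizable group scheme D(M)_S, N a finitely generated submonoid of
M and F a face of N; let ι : X^F → X^N be the canonical section and r : X^N → X^F the face
projection. Then (ι, r) is a strong deformation retract: there is a morphism δ : X^N ×_S 𝔸¹_S → X^N
of functors on S-schemes — here a family of maps X^N(T) × Γ(T, O_T) → X^N(T) natural in T — such
that δ(x, 0) = ι(r(x)), δ(x, 1) = x, and δ(ι(y), c) = ι(y) for all x in X^N(T), y in X^F(T) and
functions c on T. (Stated for schemes; the published statement is for algebraic spaces over S.) -/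
theorem result (S : Scheme.{u}) (M : Type) [AddCommGroup M] [AddGroup.FG M]
    {X : Over S} [LocallyOfFinitePresentation X.hom] (a : Magnet.MonAct (Magnet.AMonS S M) X)
    {N F : AddSubmonoid M} (hN : N.FG) (hF : Magnet.IsFace N F) :
    ∃ δ : ∀ T : Over S, (Magnet.attr a N).obj (op T) → Γ(T.left, ⊤) → (Magnet.attr a N).obj (op T),
      (∀ (T T' : Over S) (t : T' ⟶ T) (x : (Magnet.attr a N).obj (op T)) (c : Γ(T.left, ⊤)),
          δ T' ((Magnet.attr a N).map t.op x) (t.left.appTop c) = (Magnet.attr a N).map t.op (δ T x c)) ∧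
      (∀ (T : Over S) (x : (Magnet.attr a N).obj (op T)),
          δ T x 0 = (Magnet.attrMap a hF.le).app (op T) ((Magnet.attrFace a hF).app (op T) x)) ∧
      (∀ (T : Over S) (x : (Magnet.attr a N).obj (op T)), δ T x 1 = x) ∧
      (∀ (T : Over S) (y : (Magnet.attr a F).obj (op T)) (c : Γ(T.left, ⊤)),
          δ T ((Magnet.attrMap a hF.le).app (op T) y) c = (Magnet.attrMap a hF.le).app (op T) y) := by
  classical
  obtain ⟨h, hh⟩ := Groth.Agent.Lib.GrpSch.exists_face_grading hN hF
  let χ : ∀ T : Over S, Γ(T.left, ⊤) → (Multiplicative ↥N →* Γ(T.left, ⊤)) := fun T c =>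
    (powersHom _ c).comp (AddMonoidHom.toMultiplicative h)
  let P : ∀ T : Over S, Γ(T.left, ⊤) → (T ⟶ Magnet.AMonS S ↥N) := fun T c =>
    Groth.Agent.Lib.GrpSch.monPt (χ T c)
  have hP : ∀ (T : Over S) (c : Γ(T.left, ⊤)) (n : ↥N), Groth.Agent.Lib.GrpSch.monFn (P T c) n = c ^ h n :=
    fun T c n => (Groth.Agent.Lib.GrpSch.monFn_monPt _ _).trans rfl
  let e : ∀ T : Over S, Γ(T.left, ⊤) → (Magnet.AMonS S ↥N ⊗ T ⟶ Magnet.AMonS S ↥N ⊗ T) := fun T c =>
    lift (fst _ _ * (snd _ _ ≫ P T c)) (snd _ _)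
  have he : ∀ (T T' : Over S) (c : Γ(T.left, ⊤)) (b : T' ⟶ Magnet.AMonS S ↥N) (t : T' ⟶ T),
      lift b t ≫ e T c = lift (b * (t ≫ P T c)) t := by
    intro T T' c b t
    simp [e, MonObj.comp_mul]
  refine ⟨fun T x c => ⟨e T c ≫ x.1, (Magnet.MonAct.mem_eqvHom_iff _).2 fun T' g b t => ?_⟩, ?_, ?_, ?_, ?_⟩
  · have h1 := (Magnet.MonAct.mem_eqvHom_iff _).1 x.2 T' g (b * (t ≫ P T c)) t
    simp only [reassoc_of% he]
    have hs : ∀ q : T' ⟶ Magnet.AMonS S ↥N,
        lift g q ≫ (Magnet.subAct S M N).act = (g ≫ Magnet.AMonS.map S N.subtype) * q :=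
      fun q => (Magnet.MonAct.lift_restrict_act _ _ _ _).trans (Magnet.MonAct.lift_regular_act _ _)
    rw [hs, _root_.mul_assoc]
    rw [hs] at h1
    exact h1
  · intro T T' t x c
    apply Subtype.ext
    change e T' (t.left.appTop c) ≫ (Magnet.AMonS S ↥N ◁ t) ≫ x.1 = (Magnet.AMonS S ↥N ◁ t) ≫ e T c ≫ x.1
    rw [← Category.assoc, ← Category.assoc (Magnet.AMonS S ↥N ◁ t)]
    congr 1
    apply Magnet.hom_ext_lift₂
    intro W b w
    rw [reassoc_of% he, lift_whiskerLeft, lift_whiskerLeft_assoc, he, Category.assoc]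
    congr 2
    refine congrArg (w ≫ ·) (Groth.Agent.Lib.GrpSch.monFn_ext fun n => ?_)
    rw [Groth.Agent.Lib.GrpSch.monFn_comp, hP, hP, map_pow]
  · intro T x
    apply Subtype.ext
    change e T 0 ≫ x.1 = (Magnet.AMonS.map S (AddSubmonoid.inclusion hF.le) ▷ T) ≫
      (Magnet.AMonS.faceMap S hF ▷ T) ≫ x.1
    rw [← Category.assoc (Magnet.AMonS.map S _ ▷ T)]
    congr 1
    apply Magnet.hom_ext_lift₂
    intro W b w
    rw [he, lift_whiskerRight_assoc, lift_whiskerRight]
    congr 1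
    refine Groth.Agent.Lib.GrpSch.monFn_ext fun n => ?_
    rw [Groth.Agent.Lib.GrpSch.monFn_mul, Groth.Agent.Lib.GrpSch.monFn_comp, hP, monFn_faceMap]
    split_ifs with hn
    · rw [(hh n).2 hn, pow_zero, map_one, _root_.mul_one, Groth.Agent.Lib.GrpSch.monFn_map]
      rfl
    · rw [zero_pow (fun h0 => hn ((hh n).1 h0)), map_zero, mul_zero]
  · intro T x
    apply Subtype.ext
    change e T 1 ≫ x.1 = x.1
    have : e T 1 = 𝟙 _ := by
      apply Magnet.hom_ext_lift₂
      intro W b w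
      rw [he, Category.comp_id]
      congr 1
      refine Groth.Agent.Lib.GrpSch.monFn_ext fun n => ?_
      rw [Groth.Agent.Lib.GrpSch.monFn_mul, Groth.Agent.Lib.GrpSch.monFn_comp, hP, one_pow, map_one, _root_.mul_one]
    rw [this, Category.id_comp]
  · intro T y c
    apply Subtype.ext
    change e T c ≫ (Magnet.AMonS.map S (AddSubmonoid.inclusion hF.le) ▷ T) ≫ y.1 =
      (Magnet.AMonS.map S (AddSubmonoid.inclusion hF.le) ▷ T) ≫ y.1
    rw [← Category.assoc]
    congr 1
    apply Magnet.hom_ext_lift₂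
    intro W b w
    rw [reassoc_of% he, lift_whiskerRight, lift_whiskerRight]
    congr 1
    refine Groth.Agent.Lib.GrpSch.monFn_ext fun k => ?_
    rw [Groth.Agent.Lib.GrpSch.monFn_map, Groth.Agent.Lib.GrpSch.monFn_map, Groth.Agent.Lib.GrpSch.monFn_mul,
      Groth.Agent.Lib.GrpSch.monFn_comp, hP, (hh _).2 k.2, pow_zero, map_one, _root_.mul_one]

end Groth.Agent.S18244
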