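import Groth.Statements.S18251
import Groth.Agent.Lib.CurveAlg.Ops
import Mathlib.Tactic.LinearCombination

set_option autoImplicit false
universe u
open W4c5m1nsnscurves
open Curves

namespace Groth.Agent.S18251

open Finsupp (single linearCombination)
open Groth.Agent.Lib.CurveAlg

variable {R : Type u} [CommRing R] (a b c d : R)

/-- The index type of the monomial family. -/
abbrev B := Option (ℕ ⊕ (Fin 2 × ℕ))

/-- Values of multiplication by `x₃`. -/
noncomputable def yVal : B → (B →₀ R)
  | none => single (some (Sum.inr (1, 0))) 1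
  | some (Sum.inr (0, k)) => single (some (Sum.inl k)) 1
  | some (Sum.inr (1, k)) => single (some (Sum.inr (1, k + 1))) 1
  | some (Sum.inl 0) => single (some (Sum.inl 1)) 1 + a • single (some (Sum.inl 0)) 1 +
      b • single (some (Sum.inr (0, 0))) 1 + c • single (some (Sum.inr (1, 0))) 1 + d • single none 1
  | some (Sum.inl (k + 1)) => single (some (Sum.inl (k + 2))) 1 + a • single (some (Sum.inl (k + 1))) 1 +
      b • single (some (Sum.inr (0, k + 1))) 1 + c • single (some (Sum.inl k)) 1 + d • single (some (Sum.inr (0, k))) 1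

noncomputable def Ty : Module.End R (B →₀ R) := linearCombination R (yVal a b c d)

/-- Values of multiplication by `x₂`. -/
noncomputable def xVal : B → (B →₀ R)
  | none => single (some (Sum.inr (0, 0))) 1
  | some (Sum.inl k) => single (some (Sum.inl (k + 1))) 1
  | some (Sum.inr (0, k)) => single (some (Sum.inr (0, k + 1))) 1
  | some (Sum.inr (1, 0)) => single (some (Sum.inl 0)) 1
  | some (Sum.inr (1, k + 1)) => Ty a b c d (xVal (some (Sum.inr (1, k))))

noncomputable def Tx : Module.End R (B →₀ R) := linearCombination R (xVal a b c d)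

noncomputable def T : Fin 2 → Module.End R (B →₀ R) := ![Tx a b c d, Ty a b c d]

theorem comm : ∀ i j, T a b c d i * T a b c d j = T a b c d j * T a b c d i := by
  have key : Tx a b c d * Ty a b c d = Ty a b c d * Tx a b c d := by
    refine Finsupp.lhom_ext' fun v => LinearMap.ext_ring ?_
    rcases v with _ | (_ | k) | ⟨i, k⟩
    · simp [Tx, Ty, yVal, xVal]
    · simp [Tx, Ty, yVal, xVal]
    · simp [Tx, Ty, yVal, xVal]
    · fin_cases i
      · simp [Tx, Ty, yVal, xVal]
      · simp [Tx, Ty, yVal, xVal]
  intro i j
  fin_cases i <;> fin_cases j <;> simp [T, key]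

/-- The monomials. -/
noncomputable def mon : B → MvPolynomial (Fin 2) R
  | none => 1
  | some (Sum.inl k) => MvPolynomial.X 0 ^ (k + 1) * MvPolynomial.X 1
  | some (Sum.inr (y, k)) => MvPolynomial.X y ^ (k + 1)


/-- Case n = 3: let R be a commutative ring and a, b, c, d elements of R (a point of U_3, which is
affine 4-space, so no condition is imposed). Then in the R-algebra R[x_2, x_3]/(x_2 x_3² − x_2² x_3
− a x_2 x_3 − b x_2 − c x_3 − d) the classes of the monomials 1, x_2^k x_3, x_2^k and x_3^k (k ≥ 1)
are linearly independent over R and span, i.e. form an R-basis. -/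
theorem result (R : Type u) [CommRing R] (a b c d : R) :
    LinearIndependent R (cmon3 R a b c d) ∧
      Submodule.span R (Set.range (cmon3 R a b c d)) = ⊤ := by
  open MvPolynomial in
  let S : Set (MvPolynomial (Fin 2) R) := {X 0 * X 1 ^ 2 - X 0 ^ 2 * X 1 -
    (C a * X 0 * X 1 + C b * X 0 + C c * X 1 + C d)}
  set mk := Ideal.Quotient.mk (Ideal.span S)
  have hcm : cmon3 R a b c d = fun v => mk (mon v) := funext fun v => by
    rcases v with _ | k | ⟨y, k⟩
    · exact (map_one mk).symm
    · rfl
    · rfl
  have hrel : mk (MvPolynomial.X 0) * mk (MvPolynomial.X 1) ^ 2 = mk (MvPolynomial.X 0) ^ 2 * mk (MvPolynomial.X 1) +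
      (mk (MvPolynomial.C a) * mk (MvPolynomial.X 0) * mk (MvPolynomial.X 1) + mk (MvPolynomial.C b) * mk (MvPolynomial.X 0) +
        mk (MvPolynomial.C c) * mk (MvPolynomial.X 1) + mk (MvPolynomial.C d)) := by
    have h : mk _ = 0 := Ideal.Quotient.eq_zero_iff_mem.mpr (Ideal.subset_span (Set.mem_singleton _))
    simp only [map_sub, map_add, map_mul, map_pow] at h
    linear_combination h
  have hsmul : ∀ (r : R) (z : MvPolynomial (Fin 2) R ⧸ Ideal.span S), r • z = mk (MvPolynomial.C r) * z :=
    fun r z => Algebra.smul_def r z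
  set ι := Finsupp.linearCombination R (fun v => mk (mon v)) with hι
  have hy : ∀ v, ι (yVal a b c d v) = mk (MvPolynomial.X 1) * mk (mon v) := by
    intro v
    rcases v with _ | (_ | k) | ⟨i, k⟩
    · simp [hι, yVal, mon]
    · simp [hι, yVal, mon, hsmul]
      linear_combination -hrel
    · simp [hι, yVal, mon, hsmul]
      linear_combination -(mk (MvPolynomial.X 0) ^ (k + 1)) * hrel
    · fin_cases i
      · simp [hι, yVal, mon]; ring
      · simp [hι, yVal, mon]; ring
  have hTy : ∀ f, ι (Ty a b c d f) = mk (MvPolynomial.X 1) * ι f := fun f => by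
    induction f using Finsupp.induction_linear with
    | zero => simp
    | add f g hf hg => rw [map_add, map_add, map_add, hf, hg, mul_add]
    | single v r =>
      rw [Ty, Finsupp.linearCombination_single, map_smul, hy v]
      simp [hι, mul_smul_comm]
  have hx : ∀ v, ι (xVal a b c d v) = mk (MvPolynomial.X 0) * mk (mon v) := by
    intro v
    rcases v with _ | k | ⟨i, k⟩
    · simp [hι, xVal, mon]
    · simp [hι, xVal, mon]; ring
    · fin_cases i
      · simp [hι, xVal, mon]; ring
      · induction k with
        | zero => simp [hι, xVal, mon]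
        | succ k ih =>
          simp only [Fin.mk_one] at ih ⊢
          rw [xVal]
          rw [hTy]; erw [ih]
          simp [mon]; ring
  rw [hcm]
  refine Ops.linearIndependent_and_span (T a b c d) (comm a b c d) S none mon (map_one _) (fun i v => ?_) ?_ ?_
  · rw [map_mul]
    fin_cases i
    · simpa [T, Tx] using hx v
    · simpa [T, Ty] using hy v
  · intro p hp
    rw [Set.mem_singleton_iff.mp hp]
    simp [T, pow_two, Ops.act_X, Tx, Ty, xVal, yVal, Module.algebraMap_end_apply, ← MvPolynomial.algebraMap_eq]
    abel
  · intro v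
    have hpy : ∀ k, ((Ty a b c d) ^ (k + 1)) (single none 1) = single (some (Sum.inr (1, k))) 1 := fun k => by
      induction k with
      | zero => simp [Ty, yVal]
      | succ k ih => rw [pow_succ', Module.End.mul_apply, ih]; simp [Ty, yVal]
    have hpx : ∀ k, ((Tx a b c d) ^ (k + 1)) (single none 1) = single (some (Sum.inr (0, k))) 1 := fun k => by
      induction k with
      | zero => simp [Tx, xVal]
      | succ k ih => rw [pow_succ', Module.End.mul_apply, ih]; simp [Tx, xVal]
    rcases v with _ | k | ⟨i, k⟩
    · simp [mon]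
    · rw [mon, mul_comm, map_mul, map_pow, Ops.act_X, Ops.act_X, Module.End.mul_apply]
      simp only [T, Matrix.cons_val_zero, Matrix.cons_val_one, hpx]
      simp [Ty, yVal]
    · rw [mon, map_pow, Ops.act_X]
      fin_cases i
      · exact hpx k
      · exact hpy k

end Groth.Agent.S18251
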