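import Groth.Statements.S18263
import Groth.Agent.H60.PointConfig
-- import your own Groth.Agent.* helpers here

set_option autoImplicit false
universe u
open InvQ

namespace Groth.Agent.S18263

/-- Let k be an algebraically closed field in which m! is non-zero, n ≥ 1 and m ≤ n natural numbers, and
p_1, …, p_m non-zero vectors of k^(n+1), an ordered configuration of m points of projective n-space,
encoded by the product π = ∏_i (Σ_j p_i,j x_j) of its linear forms, on which the special linear
group SL(n+1) acts by substitution; let a be the point of the affine space of degree-m forms in n +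
1 variables whose form is π. Then a is not stable for SL(n+1): a configuration of at most n points
of projective n-space is never stable. (The case n = 0 is excluded: there the group is trivial and
the empty configuration is stable. The published statement allows any characteristic; this row
assumes m! non-zero in k, as the space of forms used here requires.) -/
theorem result (k : Type u) [Field k] [IsAlgClosed k] (n m : ℕ) (hn : 1 ≤ n) (hmn : m ≤ n)
    (hm : (Nat.factorial m : k) ≠ 0) (p : Fin m → Fin (n + 1) → k) (hp : ∀ i, p i ≠ 0)
    (a : CoordGrp.FormIdx (n + 1) m → k)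
    (ha : CoordGrp.formPoly a = ∏ i, ∑ j, MvPolynomial.C (p i j) * MvPolynomial.X j) :
    ¬ @GLin.IsStableVec k _ (CoordGrp.SLn (n + 1) k) _ _ (CoordGrp.FormIdx (n + 1) m)
      (GLin.comodAlong ((CoordGrp.SLn.mkHom (n + 1) k).comp (CoordGrp.Mat.toGLn (n + 1) k)) (CoordGrp.formsCoact k (n + 1) m))
      (GLin.isCoactAlg_comodAlong ((CoordGrp.SLn.mkHom (n + 1) k).comp (CoordGrp.Mat.toGLn (n + 1) k)) (CoordGrp.formsCoact k (n + 1) m) (CoordGrp.formsCoact_isCoactAlg k (n + 1) m)) a := by
  refine Groth.Agent.H60.SLHM.not_isStableVec_of_dest hm ?_
  classical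
  rcases Nat.eq_zero_or_pos m with rfl | hpos
  · refine ⟨1, fun j => if j = 0 then (n : ℤ) else -1, Matrix.det_one, fun h => ?_, ?_, fun e he => ?_⟩
    · have := congrFun h 0
      simp at this
      omega
    · rw [Finset.sum_ite, Finset.sum_const, Finset.sum_const, Finset.filter_eq', if_pos (Finset.mem_univ _),
        Finset.filter_ne', Finset.card_singleton, Finset.card_erase_of_mem (Finset.mem_univ _), Finset.card_univ,
        Fintype.card_fin]
      simp
    · have hdeg := Groth.Agent.H60.SLHM.exists_idx (Groth.Agent.H60.FormSubst.isHomogeneous_sub 1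
        (Groth.Agent.H60.SLHM.isHomogeneous_formPoly a)) he
      rw [(Finsupp.degree_eq_zero_iff e).1 hdeg]
      simp [Groth.Agent.H60.SLHM.wt]
  · set W := Submodule.span k (Set.range p) with hW
    have hrk : Module.finrank k W ≤ m := (finrank_range_le_card p).trans (le_of_eq (Fintype.card_fin m))
    have hb : W ≠ ⊥ := fun h => hp ⟨0, hpos⟩ (by
      have : p ⟨0, hpos⟩ ∈ W := Submodule.subset_span ⟨_, rfl⟩
      rwa [h, Submodule.mem_bot] at this)
    have ht : W ≠ ⊤ := fun h => by
      rw [h, finrank_top, Module.finrank_fin_fun] at hrk
      omega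
    refine (Groth.Agent.H60.PointConfig.exists_destab p W hb ht a ha).1 ?_
    have hcard : Nat.card {i : Fin m // p i ∈ W} = m := by
      rw [Nat.card_congr (Equiv.subtypeUnivEquiv fun i => show p i ∈ W from Submodule.subset_span (Set.mem_range_self i)), Nat.card_fin]
    rw [hcard]
    exact Nat.mul_le_mul_left m (by omega)

end Groth.Agent.S18263
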