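import Groth.Statements.S18265
import Mathlib.RingTheory.Polynomial.UniqueFactorization
import Mathlib.RingTheory.Polynomial.RationalRoot
import Mathlib.RingTheory.IntegralClosure.IntegrallyClosed

set_option autoImplicit false
set_option backward.isDefEq.respectTransparency false
universe u
open InvQ

namespace Groth.Agent.S18265

/-- The fixed points of endomorphisms of an integrally closed domain are integrally closed. -/
theorem isIntegrallyClosed_fixed {k P : Type u} [Field k] [CommRing P] [IsDomain P] [IsIntegrallyClosed P]
    [Algebra k P] (S : Subalgebra k P)
    (h : ∀ f : P, ∀ x ∈ S, ∀ y ∈ S, y ≠ 0 → y * f = x → f ∈ S) : IsIntegrallyClosed S := by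
  refine (isIntegrallyClosed_iff (FractionRing S)).mpr fun {z} hz => ?_
  obtain ⟨x, y, hy, rfl⟩ := IsFractionRing.div_surjective S z
  have hinj : Function.Injective ((algebraMap P (FractionRing P)).comp (S.val.toRingHom)) :=
    (IsFractionRing.injective P (FractionRing P)).comp Subtype.val_injective
  let φ : FractionRing S →+* FractionRing P := IsFractionRing.lift hinj
  have hφ : ∀ s : S, φ (algebraMap S (FractionRing S) s) = algebraMap P (FractionRing P) (s : P) :=
    fun s => IsFractionRing.lift_algebraMap hinj s
  obtain ⟨p, hp, hpz⟩ := hz
  have hint : IsIntegral P (φ (algebraMap S _ x / algebraMap S _ y)) := by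
    refine ⟨p.map S.val.toRingHom, hp.map _, ?_⟩
    rw [Polynomial.eval₂_map, show (algebraMap P (FractionRing P)).comp S.val.toRingHom =
      φ.comp (algebraMap S (FractionRing S)) from RingHom.ext fun s => (hφ s).symm,
      ← Polynomial.hom_eval₂, hpz, map_zero]
  obtain ⟨f, hf⟩ := IsIntegrallyClosed.algebraMap_eq_of_integral hint
  rw [map_div₀, hφ, hφ] at hf
  have hy0 : (y : P) ≠ 0 := fun h0 => nonZeroDivisors.ne_zero hy (Subtype.ext h0)
  have hy1 : algebraMap P (FractionRing P) (y : P) ≠ 0 :=
    (map_ne_zero_iff _ (IsFractionRing.injective P (FractionRing P))).mpr hy0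
  rw [eq_div_iff hy1, ← map_mul] at hf
  have hfe : (y : P) * f = x := (mul_comm _ _).trans (IsFractionRing.injective P (FractionRing P) hf)
  refine ⟨⟨f, h f x x.2 y y.2 hy0 hfe⟩, ?_⟩
  rw [eq_div_iff ((map_ne_zero_iff _ (IsFractionRing.injective S (FractionRing S))).mpr
    (nonZeroDivisors.ne_zero hy)), ← map_mul]
  exact congrArg _ (Subtype.ext ((mul_comm _ _).trans hfe))


/-- Let k be an algebraically closed field and n, m natural numbers, and let R be the ring of polynomial
functions of m vectors of k^(n+1) invariant under the special linear group SL(n+1, k) acting on all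
the vectors at once and under the rescalings of the individual vectors by units with product 1
(equivalently: invariant and homogeneous of one and the same degree in each vector) — the graded
ring of invariant sections whose Proj is the quotient variety of ordered m-point sets in projective
n-space. Then R is integrally closed in its field of fractions; hence that quotient variety is
normal. (Only the normality assertion of the source's statement is given here; its dimension,
rationality and singular-locus assertions are not.) -/
theorem result (k : Type u) [Field k] [IsAlgClosed k] (n m : ℕ) :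
    IsIntegrallyClosed (W4c5pointsetsdelpezzo.invRing k n m) := by
  refine isIntegrallyClosed_fixed _ fun f x hx y hy hy0 he => ?_
  simp only [W4c5pointsetsdelpezzo.invRing, Algebra.mem_inf, Algebra.mem_iInf, AlgHom.mem_equalizer,
    AlgHom.id_apply] at hx hy ⊢
  exact ⟨fun g => mul_left_cancel₀ hy0 (by rw [he, ← hx.1 g, ← he, map_mul, hy.1 g]),
    fun s => mul_left_cancel₀ hy0 (by rw [he, ← hx.2 s, ← he, map_mul, hy.2 s])⟩

end Groth.Agent.S18265
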