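import Groth.Statements.S18266
import Groth.Agent.H52.FDesc.SchClosure

set_option autoImplicit false
universe u
open Groth.Agent.H52.FDesc.TorsionFree Groth.Agent.H52.FDesc.SchClosure CategoryTheory.Limits
open CategoryTheory AlgebraicGeometry
open FDesc

namespace Groth.Agent.S18266

theorem isPrincipalIdealRing_localization (R : Type u) [CommRing R] [IsPrincipalIdealRing R]
    (p : Ideal R) [p.IsPrime] : IsPrincipalIdealRing (Localization.AtPrime p) := ⟨fun I => by
  obtain ⟨a, ha⟩ := (IsPrincipalIdealRing.principal (Ideal.under R I)).principal
  rw [← IsLocalization.map_comap p.primeCompl _ I, ha]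
  exact ⟨algebraMap R _ a, by rw [← Ideal.span, Ideal.map_span, Set.image_singleton]⟩⟩


/-- Let A be a discrete valuation ring, η the generic point of Spec A, and f : X → Spec A a morphism
from an arbitrary scheme X. The scheme-theoretic closure of the generic fibre X_η in X (the flat
completion) is flat over Spec A, and it is the largest closed subscheme of X flat over Spec A: for
every closed immersion i : Z → X with Z flat over Spec A, the ideal sheaf of the flat completion is
contained in the ideal sheaf of i. -/
theorem result (A : Type u) [CommRing A] [IsDomain A]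
    [IsDiscreteValuationRing A] {X : Scheme.{u}} (f : X ⟶ Spec (CommRingCat.of A))
    (η : ↥(Spec (CommRingCat.of A))) (hη : η.asIdeal = ⊥) :
    Flat ((f.fiberι η).imageι ≫ f) ∧
      ∀ (Z : Scheme.{u}) (i : Z ⟶ X), IsClosedImmersion i → Flat (i ≫ f) → (f.fiberι η).ker ≤ i.ker := by
  obtain rfl : η = genericPoint (Spec (CommRingCat.of A)) := by
    rw [genericPoint_eq_bot_of_affine]
    exact PrimeSpectrum.ext hη
  have := flat_fiberι_generic f
  have := isAffineHom_fiberι_generic f
  have hgen : ∀ a, f (f.fiberι (genericPoint (Spec (CommRingCat.of A))) a) =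
      genericPoint (Spec (CommRingCat.of A)) := fun a => by
    have h : f.fiberι (genericPoint (Spec (CommRingCat.of A))) a ∈
        f ⁻¹' {genericPoint (Spec (CommRingCat.of A))} := by
      rw [← f.range_fiberι]; exact ⟨a, rfl⟩
    exact h
  refine ⟨flat_of_schDense _ (schDense_toImage _) (fun a => ?_) (fun y => ?_), fun Z i _ _ => ?_⟩
  · rw [← Scheme.Hom.comp_apply, Scheme.Hom.toImage_imageι_assoc]
    exact hgen a
  · have : y.asIdeal.IsPrime := y.isPrime
    have := (Spec.stalkIso (CommRingCat.of A) y).commRingCatIsoToRingEquiv
    have h := isPrincipalIdealRing_localization A y.asIdeal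
    exact IsPrincipalIdealRing.of_surjective this.symm.toRingHom this.symm.surjective
  · refine ker_le_of_flat (i ≫ f) _ i (pullback.fst i (f.fiberι (genericPoint (Spec (CommRingCat.of A)))))
      (pullback.snd _ _) pullback.condition
      (fun a => (Groth.Agent.H52.FBase.StalkBC.bijective_stalkMap _ a).1) fun t ht => ?_
    rw [Scheme.Pullback.range_fst]
    show i t ∈ Set.range (f.fiberι _)
    rw [f.range_fiberι]
    exact ht

end Groth.Agent.S18266
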