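import Groth.Statements.S18267
import Groth.Agent.S0220
import Groth.Agent.Lib.ProjSpace.BaseChange
import Mathlib.AlgebraicGeometry.ZariskisMainTheorem
import Mathlib.Analysis.Complex.Polynomial.Basic

set_option autoImplicit false
open CategoryTheory CategoryTheory.Limits AlgebraicGeometry
open ZCorr

namespace Groth.Agent.S18267

/-- Over the complex numbers, suppose C is a quasi-projective curve that is smooth and irreducible and X
is a projective variety that is smooth and irreducible; take Z to be an integral closed subscheme of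
C × X of dimension one whose projection to C is surjective (a non-vertical irreducible component of
a correspondence from C to X). Then the projection Z → C is finite and flat. -/
theorem result
    (C X : Scheme.{0}) [C.Over (Spec (CommRingCat.of ℂ))] [X.Over (Spec (CommRingCat.of ℂ))]
    [AlgebraicGeometry.IsIntegral C] [Smooth (C ↘ Spec (CommRingCat.of ℂ))] (hC : RelProj.IsHQuasiProjective (C ↘ Spec (CommRingCat.of ℂ)))
    (hdimC : topologicalKrullDim C = 1)
    [AlgebraicGeometry.IsIntegral X] [Smooth (X ↘ Spec (CommRingCat.of ℂ))] (hX : RelProj.IsHProjective (X ↘ Spec (CommRingCat.of ℂ)))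
    {Z : Scheme.{0}} (i : Z ⟶ pullback (C ↘ Spec (CommRingCat.of ℂ)) (X ↘ Spec (CommRingCat.of ℂ))) [IsClosedImmersion i]
    [AlgebraicGeometry.IsIntegral Z] (hdimZ : topologicalKrullDim Z = 1)
    (hsurj : Function.Surjective ⇑(i ≫ pullback.fst (C ↘ Spec (CommRingCat.of ℂ)) (X ↘ Spec (CommRingCat.of ℂ)))) :
    IsFinite (i ≫ pullback.fst (C ↘ Spec (CommRingCat.of ℂ)) (X ↘ Spec (CommRingCat.of ℂ))) ∧
      Flat (i ≫ pullback.fst (C ↘ Spec (CommRingCat.of ℂ)) (X ↘ Spec (CommRingCat.of ℂ))) := by
  let p := C ↘ Spec (CommRingCat.of ℂ)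
  let q := X ↘ Spec (CommRingCat.of ℂ)
  obtain ⟨n, c, hc, hcC, hcp⟩ := hC
  obtain ⟨m, d, hd, hdq⟩ := hX
  have := hc
  have := hcC
  have := hd
  have : IsProper (CohB1.ProjSpaceOver.toBase n (Spec (CommRingCat.of ℂ))) :=
    Groth.Agent.Lib.ProjSpace.BaseChange.isProper_toBase n _
  have : IsProper (CohB1.ProjSpaceOver.toBase m (Spec (CommRingCat.of ℂ))) :=
    Groth.Agent.Lib.ProjSpace.BaseChange.isProper_toBase m _
  have : IsSeparated p := by rw [show p = _ from hcp.symm]; infer_instance
  have : QuasiCompact p := by rw [show p = _ from hcp.symm]; infer_instance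
  have : IsProper q := by rw [show q = _ from hdq.symm]; infer_instance
  let π := i ≫ pullback.fst p q
  have : IsProper π := inferInstanceAs (IsProper (i ≫ pullback.fst p q))
  have hs : Function.Surjective ⇑π := hsurj
  have hnc : (Set.range π.base).Nontrivial := by
    have hr : Set.range π.base = Set.univ := Set.range_eq_univ.mpr hs
    rw [hr, Set.nontrivial_univ_iff]
    by_contra hsub
    rw [not_nontrivial_iff_subsingleton] at hsub
    exact (Groth.Agent.Lib.SmoothCurve.Stalk.ne_genericPoint_of_isClosed (by rw [hdimC]; exact one_ne_zero)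
      (x := genericPoint C) (by
        rw [Set.eq_univ_of_forall fun y => Set.mem_singleton_iff.mpr (Subsingleton.elim y (genericPoint C))]
        exact isClosed_univ)) rfl
  have hN : ∀ y : C, IsDomain (C.presheaf.stalk y) ∧ IsIntegrallyClosed (C.presheaf.stalk y) := fun y => by
    refine ⟨inferInstance, ?_⟩
    rcases Groth.Agent.Lib.SmoothCurve.Curve.eq_genericPoint_or_isClosed hdimC y with h | h
    · subst h
      change IsIntegrallyClosed C.functionField
      infer_instance
    · have := Groth.Agent.Lib.SmoothCurve.Stalk.isDiscreteValuationRing_stalk p hdimC.le h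
        (Groth.Agent.Lib.SmoothCurve.Stalk.ne_genericPoint_of_isClosed (by rw [hdimC]; exact one_ne_zero) h)
      infer_instance
  have : QuasiSeparatedSpace C := quasiSeparatedSpace_of_quasiSeparated p
  have hqf : LocallyQuasiFinite π := Groth.Agent.Lib.CurveMaps.Basic.locallyQuasiFinite (π ≫ p) p π
    hdimZ hdimC rfl (Groth.Agent.Lib.CurveMaps.Basic.map_genericPoint π hdimC hnc)
  exact ⟨IsFinite.of_isProper_of_locallyQuasiFinite π,
    Groth.Agent.S0220.result ℂ Z C (π ≫ p) p hdimZ hdimC hN π rfl hnc⟩

end Groth.Agent.S18267
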