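import Groth.Statements.S18268
import Groth.Agent.Lib.Cyc.DimFun
import Mathlib.AlgebraicGeometry.AlgClosed.Basic
import Mathlib.RingTheory.HopkinsLevitzki
import Mathlib.Analysis.Complex.Polynomial.Basic

set_option autoImplicit false
open CategoryTheory CategoryTheory.Limits AlgebraicGeometry
open ZCorr

namespace Groth.Agent.S18268

open Groth.Agent.Lib.Cyc in
/-- A finite closed fibre of the closure of a point has nonzero multiplicity at its closed points. -/
theorem fibreMult_ne_zero {P C : Scheme.{0}} [IsLocallyNoetherian P] (g : P ⟶ C) (v w : P) (h : w ⤳ v)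
    (hfin : ∀ y, w ⤳ y → y ⤳ v → g y = g v → y = v) : AlgEqCyc.fibreMult g v w h ≠ 0 := by
  let A := P.presheaf.stalk v
  let J := (IsLocalRing.maximalIdeal (C.presheaf.stalk (g v))).map
    ((Ideal.Quotient.mk (RingHom.ker (Cyc.specMap v w h))).comp (g.stalkMap v).hom)
  let T := Cyc.LocQuot v w h ⧸ J
  let φ : A →+* T := (Ideal.Quotient.mk J).comp (Ideal.Quotient.mk (RingHom.ker (Cyc.specMap v w h)))
  have hφ : Function.Surjective φ := Ideal.Quotient.mk_surjective.comp Ideal.Quotient.mk_surjective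
  have hpr : ∀ Q : Ideal T, Q.IsPrime → Q.comap φ = IsLocalRing.maximalIdeal A := by
    intro Q hQ
    let p : PrimeSpectrum A := ⟨Q.comap φ, inferInstance⟩
    have hker : RingHom.ker (Cyc.specMap v w h) ≤ p.asIdeal := fun a ha => by
      show φ a ∈ Q
      rw [RingHom.comp_apply, Ideal.Quotient.eq_zero_iff_mem.2 ha, map_zero]
      exact zero_mem _
    have hmax : ∀ c ∈ IsLocalRing.maximalIdeal (C.presheaf.stalk (g v)), (g.stalkMap v).hom c ∈ p.asIdeal := fun c hc => by
      have h0 : φ ((g.stalkMap v).hom c) = 0 := Ideal.Quotient.eq_zero_iff_mem.2 (Ideal.mem_map_of_mem _ hc)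
      show φ _ ∈ Q
      rw [h0]
      exact zero_mem _
    have hwy : w ⤳ P.fromSpecStalk v p := by
      rw [← DimFun.fromSpecStalk_genPrime v w h, DimFun.fromSpecStalk_specializes_iff]
      exact hker
    have hgy : g (P.fromSpecStalk v p) = g v := by
      refine (Scheme.Hom.comp_apply _ _ _).symm.trans ?_
      rw [← Scheme.SpecMap_stalkMap_fromSpecStalk]
      refine (Scheme.Hom.comp_apply _ _ _).trans ?_
      have he : (Spec.map (g.stalkMap v)) p = IsLocalRing.closedPoint _ := PrimeSpectrum.ext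
        (le_antisymm (IsLocalRing.le_maximalIdeal (Ideal.IsPrime.ne_top (PrimeSpectrum.isPrime _))) hmax)
      exact (congrArg (fun q => C.fromSpecStalk (g v) q) he).trans Scheme.fromSpecStalk_closedPoint
    have hy := hfin _ hwy (DimFun.fromSpecStalk_specializes_self v p) hgy
    exact congrArg PrimeSpectrum.asIdeal
      (DimFun.fromSpecStalk_injective v (hy.trans Scheme.fromSpecStalk_closedPoint.symm))
  haveI : IsNoetherianRing A := inferInstance
  haveI : IsNoetherianRing T := isNoetherianRing_of_surjective A T φ hφ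
  haveI : IsArtinianRing T := isArtinianRing_iff_krullDimLE_zero.2 <| Ring.krullDimLE_zero_iff.2 fun Q hQ =>
    Ideal.isMaximal_def.2 ⟨hQ.ne_top, fun Q' hQ' => by
      by_contra hne
      obtain ⟨Q'', hQ'', hle⟩ := Ideal.exists_le_maximal Q' hne
      exact (hQ'.trans_le hle).ne (Ideal.comap_injective_of_surjective φ hφ
        ((hpr Q hQ).trans (hpr Q'' hQ''.isPrime).symm))⟩
  haveI : Nontrivial T := Ideal.Quotient.nontrivial_iff.2 fun htop => by
    have hle : J ≤ (IsLocalRing.maximalIdeal A).map (Ideal.Quotient.mk (RingHom.ker (Cyc.specMap v w h))) := by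
      refine Ideal.map_le_iff_le_comap.2 fun c hc => ?_
      show Ideal.Quotient.mk (RingHom.ker (Cyc.specMap v w h)) ((g.stalkMap v).hom c) ∈
        (IsLocalRing.maximalIdeal A).map (Ideal.Quotient.mk (RingHom.ker (Cyc.specMap v w h)))
      exact Ideal.mem_map_of_mem _ (map_nonunit (g.stalkMap v).hom c hc)
    rw [htop, top_le_iff] at hle
    have hle' := congrArg (Ideal.comap (Ideal.Quotient.mk (RingHom.ker (Cyc.specMap v w h)))) hle
    rw [Ideal.comap_map_of_surjective _ Ideal.Quotient.mk_surjective, Ideal.comap_top,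
      ← RingHom.ker_eq_comap_bot, Ideal.mk_ker,
      sup_eq_left.2 (IsLocalRing.le_maximalIdeal (RingHom.ker_ne_top _))] at hle'
    exact (IsLocalRing.maximalIdeal.isMaximal A).ne_top hle' 
  have hlen : Module.length A T = Module.length T T := Module.length_eq_of_surjective (R := T) hφ
  show (Module.length A T).toNat ≠ 0
  rw [hlen]
  intro h0
  rcases ENat.toNat_eq_zero.1 h0 with h1 | h1
  · exact not_subsingleton T (Module.length_eq_zero_iff.1 h1)
  · exact Module.length_ne_top_iff.2 ((isArtinianRing_iff_isFiniteLength T).1 inferInstance) h1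

/-- Over the complex numbers let W be a smooth irreducible quasi-projective variety of dimension n, X a
smooth irreducible projective variety and Γ an n-cycle on X × W, viewed as a correspondence from W
to X, with no vertical component (every point of the support of Γ maps to the generic point of W).
If there is a nonempty open U ⊂ W over whose points the closures of the support points of Γ have
finite fibres, and such that for every complex point u of U the fibre cycle Γ_u on X vanishes, then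
Γ = 0. Here Γ_u is the sum, over the support points ξ of Γ with coefficient Γ(ξ), of the fundamental
cycles of the scheme-theoretic fibres over u of the closures of ξ, read on X (the cycle-level fibre
of the family at u; it agrees with the refined intersection of Γ with X × {u} where the components
are flat over u and has the same support wherever they are finite over u). -/
theorem result
    (W X : Scheme.{0}) [W.Over (Spec (CommRingCat.of ℂ))] [X.Over (Spec (CommRingCat.of ℂ))]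
    [AlgebraicGeometry.IsIntegral W] [Smooth (W ↘ Spec (CommRingCat.of ℂ))] (hW : RelProj.IsHQuasiProjective (W ↘ Spec (CommRingCat.of ℂ)))
    (n : ℕ) (hdimW : topologicalKrullDim W = n)
    [AlgebraicGeometry.IsIntegral X] [Smooth (X ↘ Spec (CommRingCat.of ℂ))] (hX : RelProj.IsHProjective (X ↘ Spec (CommRingCat.of ℂ)))
    (δ : ↥(pullback (X ↘ Spec (CommRingCat.of ℂ)) (W ↘ Spec (CommRingCat.of ℂ))) → ℤ)
    (hδ : Cyc.DeltaCompat (pullback.fst (X ↘ Spec (CommRingCat.of ℂ)) (W ↘ Spec (CommRingCat.of ℂ)) ≫ (X ↘ Spec (CommRingCat.of ℂ))) δ (fun _ => 0))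
    (Γ : AlgebraicCycle (pullback (X ↘ Spec (CommRingCat.of ℂ)) (W ↘ Spec (CommRingCat.of ℂ))) ℤ)
    (hΓ : Γ ∈ Cyc.Zk (pullback (X ↘ Spec (CommRingCat.of ℂ)) (W ↘ Spec (CommRingCat.of ℂ))) δ n)
    (hvert : ∀ ξ, Γ ξ ≠ 0 → pullback.snd (X ↘ Spec (CommRingCat.of ℂ)) (W ↘ Spec (CommRingCat.of ℂ)) ξ = genericPoint W)
    (U : W.Opens) (hU : (U : Set W).Nonempty)
    (hfin : ∀ ξ, Γ ξ ≠ 0 → ∀ w ∈ U,
      (closure {ξ} ∩ pullback.snd (X ↘ Spec (CommRingCat.of ℂ)) (W ↘ Spec (CommRingCat.of ℂ)) ⁻¹' {w}).Finite)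
    (hzero : ∀ (u : Spec (CommRingCat.of ℂ) ⟶ W) (hu : u ≫ (W ↘ Spec (CommRingCat.of ℂ)) = 𝟙 _),
      u (IsLocalRing.closedPoint ℂ) ∈ U →
        ∀ x : X, AlgEqCyc.fibreFun (X ↘ Spec (CommRingCat.of ℂ)) (W ↘ Spec (CommRingCat.of ℂ)) Γ u hu x = 0) :
    Γ = 0 := by
  let pX := X ↘ Spec (CommRingCat.of ℂ)
  let pW := W ↘ Spec (CommRingCat.of ℂ)
  let P := pullback pX pW
  let π : P ⟶ W := pullback.snd pX pW
  haveI : LocallyOfFiniteType (π ≫ pW) := inferInstance
  haveI : IsLocallyNoetherian P := LocallyOfFiniteType.isLocallyNoetherian (π ≫ pW)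
  haveI : JacobsonSpace P := LocallyOfFiniteType.jacobsonSpace (π ≫ pW)
  haveI : JacobsonSpace W := LocallyOfFiniteType.jacobsonSpace pW
  ext ξ₁
  by_contra hξ₁
  replace hξ₁ : Γ ξ₁ ≠ 0 := hξ₁
  -- support points specializing to `ξ₁`
  let G : Set P := Function.support ⇑Γ
  have hlf : LocallyFinite fun ξ : G => ({(ξ : P)} : Set P) :=
    LocallyFiniteSupport.locallyFinite_support _ (Function.locallyFinsupp.locallyFiniteSupport Γ)
  have hfinG : ∀ v : P, {ξ | ξ ∈ G ∧ ξ ⤳ v}.Finite := by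
    intro v
    obtain ⟨N, hN, hNf⟩ := hlf v
    obtain ⟨O, hON, hO, hvO⟩ := mem_nhds_iff.1 hN
    refine (hNf.image Subtype.val).subset fun ξ hξ => ⟨⟨ξ, hξ.1⟩, ?_, rfl⟩
    exact ⟨ξ, rfl, hON (hξ.2.mem_open hO hvO)⟩
  obtain ⟨ξ₀, ⟨hξ₀, hξ₀₁⟩, hmin⟩ : ∃ ξ₀, (ξ₀ ∈ G ∧ ξ₀ ⤳ ξ₁) ∧ ∀ ξ ∈ G, ξ ⤳ ξ₀ → ξ = ξ₀ := by
    let := specializationOrder P
    obtain ⟨m, hm, hmax⟩ := (hfinG ξ₁).exists_maximal ⟨ξ₁, hξ₁, specializes_rfl⟩
    refine ⟨m, hm, fun ξ hξ hs => ?_⟩
    exact le_antisymm (hmax ⟨hξ, hs.trans hm.2⟩ hs) hs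
  obtain ⟨_, ⟨A, hA, rfl⟩, hξA, -⟩ :=
    P.isBasis_affineOpens.exists_subset_of_mem_open (Set.mem_univ ξ₀) isOpen_univ
  have hGA : (G ∩ (A : Set P)).Finite := by
    rw [Set.inter_comm]
    exact LocallyFiniteSupport.finite_inter_support_of_isCompact
      (Function.locallyFinsupp.locallyFiniteSupport Γ) hA.isCompact
  let Bad : Set P := ⋃ ξ ∈ (G ∩ (A : Set P)) \ {ξ₀}, closure {ξ}
  have hBad : IsClosed Bad := (hGA.sdiff).isClosed_biUnion fun _ _ => isClosed_closure
  have hloc : IsLocallyClosed (closure {ξ₀} ∩ ((A : Set P) ∩ π ⁻¹' (U : Set W) ∩ Badᶜ)) :=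
    isClosed_closure.isLocallyClosed.inter
      ((A.isOpen.inter (U.isOpen.preimage π.continuous)).inter hBad.isOpen_compl).isLocallyClosed
  have hne : (closure {ξ₀} ∩ ((A : Set P) ∩ π ⁻¹' (U : Set W) ∩ Badᶜ)).Nonempty := by
    refine ⟨ξ₀, subset_closure rfl, ⟨hξA, ?_⟩, ?_⟩
    · show π ξ₀ ∈ U
      rw [show π ξ₀ = genericPoint W from hvert ξ₀ hξ₀]
      exact ((genericPoint_spec W).mem_open_set_iff U.isOpen).2 (by simpa using hU)
    · intro hb
      obtain ⟨ξ, hξ, hs⟩ := Set.mem_iUnion₂.1 hb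
      exact hξ.2 (hmin ξ hξ.1.1 (specializes_iff_mem_closure.2 hs))
  obtain ⟨v, ⟨hvξ, ⟨hvA, hvU⟩, hvB⟩, hvc⟩ := nonempty_inter_closedPoints hne hloc
  have hξv : ξ₀ ⤳ v := specializes_iff_mem_closure.2 hvξ
  let a : Spec (CommRingCat.of ℂ) ⟶ P := pointOfClosedPoint (π ≫ pW) v hvc
  have ha : a ≫ π ≫ pW = 𝟙 _ := pointOfClosedPoint_comp _ _ _
  have hav : a (IsLocalRing.closedPoint ℂ) = v := pointOfClosedPoint_apply _ _ _ _
  let u : Spec (CommRingCat.of ℂ) ⟶ W := a ≫ π
  have hu : u ≫ pW = 𝟙 _ := (Category.assoc _ _ _).trans ha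
  let b : Spec (CommRingCat.of ℂ) ⟶ X := a ≫ pullback.fst pX pW
  have hb : b ≫ pX = 𝟙 _ := by
    rw [Category.assoc, pullback.condition]; exact ha
  have hsl : b ≫ AlgEqCyc.slice pX pW u hu = a := by
    apply pullback.hom_ext
    · simp only [AlgEqCyc.slice, b, Category.assoc, pullback.lift_fst, Category.comp_id]
    · simp only [AlgEqCyc.slice, Category.assoc, pullback.lift_snd]
      rw [← Category.assoc, hb, Category.id_comp]
  let x : X := b (IsLocalRing.closedPoint ℂ)
  have hxv : AlgEqCyc.slice pX pW u hu x = v := by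
    rw [← hav, ← hsl]; rfl
  have hu' : u (IsLocalRing.closedPoint ℂ) = π v :=
    (Scheme.Hom.comp_apply a π _).trans (congrArg (fun q => π q) hav)
  have huU : u (IsLocalRing.closedPoint ℂ) ∈ U := hu'.symm ▸ hvU
  have h0 := hzero u hu huU x
  have honly : ∀ ξ, Γ ξ ≠ 0 → ξ ⤳ AlgEqCyc.slice pX pW u hu x → ξ = ξ₀ := by
    intro ξ hξ hs
    rw [hxv] at hs
    by_contra hne'
    exact hvB (Set.mem_biUnion (x := ξ) ⟨⟨hξ, hs.mem_open A.isOpen hvA⟩, hne'⟩
      (specializes_iff_mem_closure.1 hs))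
  unfold AlgEqCyc.fibreFun at h0
  rw [finsum_eq_single _ (⟨ξ₀, hξ₀, by rw [hxv]; exact hξv⟩ :
    {w : ↥(pullback pX pW) // Γ w ≠ 0 ∧ w ⤳ AlgEqCyc.slice pX pW u hu x}) (fun w hw =>
      (hw (Subtype.ext (honly w.1 w.2.1 w.2.2))).elim)] at h0
  refine hξ₀ ((mul_eq_zero.1 h0).resolve_right (Nat.cast_ne_zero.2 (fibreMult_ne_zero _ _ _ _ ?_)))
  intro y hy hys hgy
  rw [hxv] at hys hgy ⊢
  let F : Set P := closure {ξ₀} ∩ π ⁻¹' {π v}
  have hFfin : F.Finite := hfin ξ₀ hξ₀ _ hvU
  have hvcl : IsClosed ({π v} : Set W) := by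
    have := ((pointEquivClosedPoint pW) ⟨u, hu⟩).2
    rw [← hu']
    exact this
  have hFc : IsClosed F := isClosed_closure.inter (hvcl.preimage π.continuous)
  haveI : JacobsonSpace F := JacobsonSpace.of_isClosedEmbedding hFc.isClosedEmbedding_subtypeVal
  haveI : Finite F := hFfin.to_subtype
  haveI : DiscreteTopology F := JacobsonSpace.discreteTopology (Set.toFinite _)
  exact congrArg Subtype.val
    ((subtype_specializes_iff (⟨y, specializes_iff_mem_closure.1 hy, hgy⟩ : F) ⟨v, hvξ, rfl⟩).2 hys).eq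

end Groth.Agent.S18268
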