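import Groth.Statements.S18271
import Groth.Agent.Lib.Cyc.CH.BlowPtMain
import Groth.Agent.Lib.Cyc.CH.MovePt
import Groth.Agent.Lib.ProjSpace.BaseChange

set_option autoImplicit false
open CategoryTheory CategoryTheory.Limits AlgebraicGeometry
open ZCorr

namespace Groth.Agent.S18271

/-- Over the complex numbers let X be a smooth irreducible projective variety, x a closed point of X and
π : X' → X a blow-up of X at x (universal property of blowing up in the ideal sheaf of the reduced
closed point x). Then, with the dimension functions induced from the base, π_* : CH_0(X') → CH_0(X)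
is bijective: a 0-cycle on X' whose push-forward is rationally equivalent to zero on X is rationally
equivalent to zero on X', and every 0-cycle on X is rationally equivalent to the push-forward of a
0-cycle on X'. (The variety is taken of dimension at least one: for X a single point the blow-up at
that point is empty and the assertion fails.) -/
theorem result
    (X : Scheme.{0}) [X.Over (Spec (CommRingCat.of ℂ))]
    [AlgebraicGeometry.IsIntegral X] [Smooth (X ↘ Spec (CommRingCat.of ℂ))] (hX : RelProj.IsHProjective (X ↘ Spec (CommRingCat.of ℂ)))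
    (hdim : 1 ≤ topologicalKrullDim X)
    (x : X) (hx : IsClosed ({x} : Set X))
    {X' : Scheme.{0}} (π : X' ⟶ X) [QuasiCompact π]
    (hπ : BlowUp.IsBlowUp π (Scheme.IdealSheafData.vanishingIdeal ⟨{x}, hx⟩))
    (δ : X → ℤ) (hδ : Cyc.DeltaCompat (X ↘ Spec (CommRingCat.of ℂ)) δ (fun _ => 0))
    (δ' : X' → ℤ) (hδ' : Cyc.DeltaCompat (π ≫ (X ↘ Spec (CommRingCat.of ℂ))) δ' (fun _ => 0)) :
    (∀ z : AlgebraicCycle X' ℤ, z ∈ Cyc.Zk X' δ' 0 →
        Cyc.RatEquivZero δ 0 (AlgebraicCycle.map π δ' δ z) → Cyc.RatEquivZero δ' 0 z) ∧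
      ∀ α : AlgebraicCycle X ℤ, α ∈ Cyc.Zk X δ 0 →
        ∃ z : AlgebraicCycle X' ℤ, z ∈ Cyc.Zk X' δ' 0 ∧ Cyc.RatEquiv δ 0 (AlgebraicCycle.map π δ' δ z) α := by
  have hproj := hX
  obtain ⟨n, i, hi, hip⟩ := hproj
  have := hi
  have : IsProper (CohB1.ProjSpaceOver.toBase n (Spec (CommRingCat.of ℂ))) :=
    Groth.Agent.Lib.ProjSpace.BaseChange.isProper_toBase n _
  haveI : IsProper (X ↘ Spec (CommRingCat.of ℂ)) := by rw [show _ = _ from hip.symm]; infer_instance
  haveI := Groth.Agent.Lib.Cyc.CH.BlowPt.isProper (X ↘ Spec (CommRingCat.of ℂ)) hx π hπ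
  have hne : genericPoint X ≠ x := fun e => by
    have h1 : ({x} : Set X) = Set.univ := by rw [← hx.closure_eq, ← e]; exact genericPoint_spec X
    haveI : Subsingleton X := Set.subsingleton_univ_iff.1 (h1 ▸ Set.subsingleton_singleton)
    have h2 : topologicalKrullDim X ≤ 0 := by
      haveI : Subsingleton (TopologicalSpace.IrreducibleCloseds X) := ⟨fun a b => by
        ext z
        obtain ⟨p, hp⟩ := a.isIrreducible'.1
        obtain ⟨q, hq⟩ := b.isIrreducible'.1
        exact ⟨fun _ => Subsingleton.elim q z ▸ hq, fun _ => Subsingleton.elim p z ▸ hp⟩⟩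
      exact Order.krullDim_nonpos_of_subsingleton
    exact absurd (hdim.trans h2) (by norm_num)
  have hd : δ = Groth.Agent.Lib.Cyc.FieldDim.fdelta (X ↘ Spec (CommRingCat.of ℂ)) :=
    funext fun z => Groth.Agent.Lib.Cyc.CH.MovePt.delta_eq _ hδ z
  have hd' : δ' = Groth.Agent.Lib.Cyc.FieldDim.fdelta (π ≫ (X ↘ Spec (CommRingCat.of ℂ))) :=
    funext fun z => Groth.Agent.Lib.Cyc.CH.MovePt.delta_eq _ hδ' z
  subst hd hd'
  refine ⟨fun z hz h => Groth.Agent.Lib.Cyc.CH.BlowPt.ratEquivZero_of_map _ hx hne π hπ z hz h,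
    fun α hα => ?_⟩
  obtain ⟨z, hz, hzα⟩ := Groth.Agent.Lib.Cyc.CH.BlowPt.exists_lift _ hx hne π hπ α hα
  exact ⟨z, hz, hzα ▸ Groth.Agent.Lib.Cyc.Ord.ratEquiv_refl _ _ _⟩

end Groth.Agent.S18271
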