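import Groth.Statements.S18272
import Groth.Agent.Lib.GenSub.Connected
import Groth.Agent.Lib.GenSub.Bounded
import Groth.Agent.H4.HomImage

set_option autoImplicit false
open CategoryTheory MonoidalCategory CartesianMonoidalCategory MonObj GrpObj AlgebraicGeometry
open AbVar

namespace Groth.Agent.S18272
open scoped Pointwise

/-- Let A be an abelian variety over the complex numbers (a proper integral group scheme over Spec of
the complex numbers), G an abstract group and f : A(ℂ) → G a homomorphism from the group of complex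
points. If V ⊂ A is an irreducible closed subset containing the neutral element and every complex
point lying in V is in the kernel of f, then there is an abelian subvariety A' ⊂ A (an integral
closed subgroup scheme) containing V and with all its complex points in the kernel of f. -/
theorem result
    (A : Over (Spec (CommRingCat.of ℂ))) [GrpObj A] [IsProper A.hom] [AlgebraicGeometry.IsIntegral A.left]
    (G : Type) [Group G] (f : (𝟙_ (Over (Spec (CommRingCat.of ℂ))) ⟶ A) →* G)
    (V : Set ↥A.left) (hVcl : IsClosed V) (hVirr : IsIrreducible V)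
    (hV1 : Set.range ⇑(η[A]).left ⊆ V)
    (hVker : ∀ a : 𝟙_ (Over (Spec (CommRingCat.of ℂ))) ⟶ A, Set.range ⇑a.left ⊆ V → f a = 1) :
    ∃ (B : Over (Spec (CommRingCat.of ℂ))) (_ : GrpObj B) (incl : B ⟶ A), IsMonHom incl ∧ IsClosedImmersion incl.left ∧
      AlgebraicGeometry.IsIntegral B.left ∧ V ⊆ Set.range ⇑incl.left ∧
      ∀ b : 𝟙_ (Over (Spec (CommRingCat.of ℂ))) ⟶ B, f (b ≫ incl) = 1 := by
  let I := Scheme.IdealSheafData.vanishingIdeal (X := A.left) ⟨V, hVcl⟩
  let X : Over (Spec (CommRingCat.of ℂ)) := Over.mk (I.subschemeι ≫ A.hom)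
  let g : X ⟶ A := Over.homMk I.subschemeι rfl
  haveI : AlgebraicGeometry.IsReduced X.left := H75.RedSub.isReduced_vanishingIdeal _
  have hgr : Set.range g.left = V := by
    show Set.range I.subschemeι = _
    rw [Scheme.IdealSheafData.range_subschemeι, Scheme.IdealSheafData.coe_support_vanishingIdeal]
    rfl
  haveI : ConnectedSpace X.left := by
    obtain ⟨v, hv⟩ := hVirr.nonempty
    obtain ⟨x, rfl⟩ := hgr.ge hv
    haveI : IsClosedImmersion g.left := inferInstanceAs (IsClosedImmersion I.subschemeι)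
    exact
      { toPreconnectedSpace := ⟨g.left.isClosedEmbedding.isInducing.isPreconnected_image.1 (by
          rw [Set.image_univ, hgr]; exact hVirr.isConnected.isPreconnected)⟩
        toNonempty := ⟨x⟩ }
  haveI : GeometricallyReduced X.hom := H52.FBase.GeomRedSch.geometricallyReduced_of_perfectField X.hom
  obtain ⟨e, he⟩ : ∃ e : 𝟙_ _ ⟶ X, e ≫ g = η[A] := by
    haveI : IsClosedImmersion g.left := inferInstanceAs (IsClosedImmersion I.subschemeι)
    haveI : AlgebraicGeometry.IsReduced (𝟙_ (Over (Spec (CommRingCat.of ℂ)))).left :=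
      inferInstanceAs (AlgebraicGeometry.IsReduced (Spec (CommRingCat.of ℂ)))
    exact H4.HomImage.exists_factor g η[A] (hV1.trans hgr.ge)
  haveI : GeometricallyConnected X.hom :=
    Lib.GrpSch.geometricallyConnected_of_rationalPoint X.hom e.left (Over.w e)
  haveI : LocallyOfFiniteType X.hom := inferInstanceAs (LocallyOfFiniteType (I.subschemeι ≫ A.hom))
  haveI : QuasiCompact X.hom := inferInstanceAs (QuasiCompact (I.subschemeι ≫ A.hom))
  obtain ⟨Γ, _, i, _, _, ⟨f', hf'⟩, _, hmin, -⟩ := Lib.GenSub.exists_smallest g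
  haveI : Mono i := (Over.forget _).mono_of_mono_map (show Mono i.left from inferInstance)
  haveI : IsProper Γ.hom := by rw [← Over.w i]; infer_instance
  have hmin' : ∀ (Γ' : Over (Spec (CommRingCat.of ℂ))) (_ : GrpObj Γ') (i' : Γ' ⟶ Γ), IsMonHom i' →
      IsClosedImmersion i'.left → (∃ f'' : X ⟶ Γ', f'' ≫ i' = f') → ∃ j : Γ ⟶ Γ', j ≫ i' = 𝟙 Γ := by
    intro Γ' hG' i' hi' hc' ⟨f'', hf''⟩
    haveI : IsClosedImmersion (i' ≫ i).left := by rw [Over.comp_left]; infer_instance
    obtain ⟨j, hj⟩ := hmin Γ' hG' (i' ≫ i) inferInstance this ⟨f'', by rw [← Category.assoc, hf'', hf']⟩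
    exact ⟨j, by rw [← cancel_mono i, Category.assoc, hj, Category.id_comp]⟩
  have he' : e ≫ f' = η[Γ] := by
    rw [← cancel_mono i, Category.assoc, hf', he, IsMonHom.one_hom]
  let p₀ : ↥(𝟙_ (Over (Spec (CommRingCat.of ℂ)))).left := IsLocalRing.closedPoint ℂ
  have hx₀ : f'.left (e.left p₀) ∈ Set.range η[Γ].left :=
    ⟨p₀, by rw [← he', Over.comp_left, Scheme.Hom.comp_apply]⟩
  haveI : ConnectedSpace Γ.left := Lib.GenSub.connectedSpace_of_pieces Γ f'
    (fun x => ⟨Set.univ, isPreconnected_univ, trivial, e.left p₀, trivial, hx₀⟩) hmin'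
  haveI : GeometricallyIntegral Γ.hom := H4.HomImage.geometricallyIntegral_of_connected Γ
  refine ⟨Γ, inferInstance, i, inferInstance, inferInstance,
    GeometricallyIntegral.isIntegral_of_subsingleton Γ.hom, ?_, fun b => ?_⟩
  · rw [← hgr, ← hf', Over.comp_left]
    rintro _ ⟨x, rfl⟩
    exact ⟨f'.left x, (Scheme.Hom.comp_apply _ _ _).symm⟩
  · obtain ⟨N, hN⟩ := Lib.GenSub.exists_wordSet_eq_univ f' ⟨_, hx₀⟩ hmin'
    have hb : b ∈ Lib.GenSub.signed f' (𝟙_ _) ^ N :=
      (Lib.GenSub.pt_mem_wordSet_iff f' (𝟙 _) N b).1 (hN ▸ Set.mem_univ _)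
    let φ : (𝟙_ (Over (Spec (CommRingCat.of ℂ))) ⟶ Γ) →* G :=
      MonoidHom.mk' (fun b => f (b ≫ i)) fun a c => by rw [MonObj.mul_comp, map_mul]
    have hs : Lib.GenSub.signed f' (𝟙_ _) ⊆ φ.ker := by
      have h1 : ∀ x : 𝟙_ _ ⟶ X, φ (x ≫ f') = 1 := fun x => hVker _ (by
        rw [Category.assoc, hf', Over.comp_left]
        rintro _ ⟨p, rfl⟩
        exact hgr.le ⟨x.left p, (Scheme.Hom.comp_apply _ _ _).symm⟩)
      rintro a (⟨x, rfl⟩ | ⟨x, hx⟩)
      · exact h1 x
      · have hx' : φ a⁻¹ = 1 := hx ▸ h1 x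
        rw [map_inv, inv_eq_one] at hx'
        exact hx'
    have hpow : ∀ n : ℕ, ∀ a ∈ Lib.GenSub.signed f' (𝟙_ _) ^ n, φ a = 1 := by
      intro n
      induction n with
      | zero => intro a ha; rw [pow_zero, Set.mem_one] at ha; rw [ha, map_one]
      | succ n ih =>
        intro a ha
        rw [pow_succ] at ha
        obtain ⟨u, hu, v, hv, rfl⟩ := ha
        rw [map_mul, ih u hu, hs hv, _root_.one_mul]
    exact hpow N b hb

end Groth.Agent.S18272
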