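import Groth.Statements.S18273
import Groth.Agent.Lib.Cyc.CH.RatConnSurf
import Groth.Agent.Lib.ProjSpace.BaseChange

set_option autoImplicit false
open CategoryTheory CategoryTheory.Limits AlgebraicGeometry
open ZCorr

namespace Groth.Agent.S18273

/-- Over the complex numbers let X be a smooth irreducible projective surface carrying an ample
invertible module L with a nonzero global section s whose zero set H is connected and is a union of
rational curves: every closed point of H lies on the image of a nonconstant morphism from the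
projective line to X with image inside H. If x and y are closed points of X each lying on the image
of a nonconstant morphism from the projective line, then [x] and [y] are rationally equivalent
0-cycles on X. (For a projective K3 surface the existence of such an ample rational curve is a cited
input of the source, carried here as the hypothesis on H; the K3 condition plays no further role.) -/
theorem result
    (X : Scheme.{0}) [X.Over (Spec (CommRingCat.of ℂ))]
    [AlgebraicGeometry.IsIntegral X] [Smooth (X ↘ Spec (CommRingCat.of ℂ))] (hX : RelProj.IsHProjective (X ↘ Spec (CommRingCat.of ℂ)))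
    (hdim : topologicalKrullDim X = 2)
    (L : X.Modules) (hL : CohB1.IsAmple L) (s : Coh.structureModule X ⟶ L) (hs : s ≠ 0)
    (hconn : _root_.IsConnected ((CohB1.genLocus L s : Set X)ᶜ))
    (hrat : ∀ h ∈ ((CohB1.genLocus L s : Set X)ᶜ), IsClosed ({h} : Set X) →
      ∃ g : CohB1.ProjSpace 1 ℂ ⟶ X, g ≫ (X ↘ Spec (CommRingCat.of ℂ)) = CohB1.ProjSpace.toSpec 1 ℂ ∧ (Set.range ⇑g).Nontrivial ∧
        h ∈ Set.range ⇑g ∧ Set.range ⇑g ⊆ (CohB1.genLocus L s : Set X)ᶜ)
    (x y : X) (hx : IsClosed ({x} : Set X)) (hy : IsClosed ({y} : Set X))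
    (hxr : ∃ g : CohB1.ProjSpace 1 ℂ ⟶ X, g ≫ (X ↘ Spec (CommRingCat.of ℂ)) = CohB1.ProjSpace.toSpec 1 ℂ ∧ (Set.range ⇑g).Nontrivial ∧ x ∈ Set.range ⇑g)
    (hyr : ∃ g : CohB1.ProjSpace 1 ℂ ⟶ X, g ≫ (X ↘ Spec (CommRingCat.of ℂ)) = CohB1.ProjSpace.toSpec 1 ℂ ∧ (Set.range ⇑g).Nontrivial ∧ y ∈ Set.range ⇑g)
    (δ : X → ℤ) (hδ : Cyc.DeltaCompat (X ↘ Spec (CommRingCat.of ℂ)) δ (fun _ => 0))
    (cx cy : AlgebraicCycle X ℤ) (hcx : ⇑cx = Set.indicator {x} 1) (hcy : ⇑cy = Set.indicator {y} 1) :
    Cyc.RatEquiv δ 0 cx cy := by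
  obtain ⟨n, i, hi, hip⟩ := hX
  have := hi
  have : IsProper (CohB1.ProjSpaceOver.toBase n (Spec (CommRingCat.of ℂ))) :=
    Groth.Agent.Lib.ProjSpace.BaseChange.isProper_toBase n _
  haveI : IsProper (X ↘ Spec (CommRingCat.of ℂ)) := by rw [show _ = _ from hip.symm]; infer_instance
  have hd : δ = Groth.Agent.Lib.Cyc.FieldDim.fdelta (X ↘ Spec (CommRingCat.of ℂ)) :=
    funext fun z => Groth.Agent.Lib.Cyc.CH.MovePt.delta_eq _ hδ z
  have ex : cx = Groth.Agent.Lib.Cyc.CH.RatConn.pc x := Function.locallyFinsuppWithin.ext fun z => by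
    rw [Groth.Agent.Lib.Cyc.CH.RatConn.pc_apply, hcx]
  have ey : cy = Groth.Agent.Lib.Cyc.CH.RatConn.pc y := Function.locallyFinsuppWithin.ext fun z => by
    rw [Groth.Agent.Lib.Cyc.CH.RatConn.pc_apply, hcy]
  rw [hd, ex, ey]
  exact Groth.Agent.Lib.Cyc.CH.RatConn.ratEquiv_of_ample _ hdim L hL s hs hconn hrat hx hy hxr hyr

end Groth.Agent.S18273
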