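import Groth.Statements.S18281
import Groth.Agent.Lib.GenFinite.Basic
import Groth.Agent.Lib.ProjSpace.BaseChange
import Groth.Agent.H19.FlatLocus.Scheme
import Mathlib.AlgebraicGeometry.ZariskisMainTheorem

set_option autoImplicit false
open CategoryTheory CategoryTheory.Limits AlgebraicGeometry
open ZCorr

namespace Groth.Agent.S18281

/-- Over the complex numbers let W be a smooth irreducible quasi-projective variety of dimension n, X a
smooth irreducible projective variety, and Z an integral closed subscheme of X × W of dimension n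
(an irreducible component of a correspondence from W to X), with projection π : Z → W. (a) The set
of points of W over which π is flat (flat at every point of the fibre) is open and nonempty. (b) The
set U of points of W with finite fibre is open and nonempty, and π restricted over U is finite. -/
theorem result
    (W X : Scheme.{0}) [W.Over (Spec (CommRingCat.of ℂ))] [X.Over (Spec (CommRingCat.of ℂ))]
    [AlgebraicGeometry.IsIntegral W] [Smooth (W ↘ Spec (CommRingCat.of ℂ))] (hW : RelProj.IsHQuasiProjective (W ↘ Spec (CommRingCat.of ℂ)))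
    (n : ℕ) (hdimW : topologicalKrullDim W = n)
    [AlgebraicGeometry.IsIntegral X] [Smooth (X ↘ Spec (CommRingCat.of ℂ))] (hX : RelProj.IsHProjective (X ↘ Spec (CommRingCat.of ℂ)))
    {Z : Scheme.{0}} (i : Z ⟶ pullback (X ↘ Spec (CommRingCat.of ℂ)) (W ↘ Spec (CommRingCat.of ℂ))) [IsClosedImmersion i]
    [AlgebraicGeometry.IsIntegral Z] (hdimZ : topologicalKrullDim Z = n) :
    (IsOpen {w : W | ∀ z : Z, (i ≫ pullback.snd (X ↘ Spec (CommRingCat.of ℂ)) (W ↘ Spec (CommRingCat.of ℂ))) z = w →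
        ((i ≫ pullback.snd (X ↘ Spec (CommRingCat.of ℂ)) (W ↘ Spec (CommRingCat.of ℂ))).stalkMap z).hom.Flat} ∧
      {w : W | ∀ z : Z, (i ≫ pullback.snd (X ↘ Spec (CommRingCat.of ℂ)) (W ↘ Spec (CommRingCat.of ℂ))) z = w →
        ((i ≫ pullback.snd (X ↘ Spec (CommRingCat.of ℂ)) (W ↘ Spec (CommRingCat.of ℂ))).stalkMap z).hom.Flat}.Nonempty) ∧
    ∃ U : W.Opens, (U : Set W) = {w : W | ((i ≫ pullback.snd (X ↘ Spec (CommRingCat.of ℂ)) (W ↘ Spec (CommRingCat.of ℂ))) ⁻¹' {w}).Finite} ∧
      (U : Set W).Nonempty ∧ IsFinite ((i ≫ pullback.snd (X ↘ Spec (CommRingCat.of ℂ)) (W ↘ Spec (CommRingCat.of ℂ))) ∣_ U) := by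
  let pX := X ↘ Spec (CommRingCat.of ℂ)
  let pW := W ↘ Spec (CommRingCat.of ℂ)
  obtain ⟨m, d, hd, hdq⟩ := hX
  obtain ⟨_, c, hc, hcq, hcW⟩ := hW
  have := hd
  have : IsProper (CohB1.ProjSpaceOver.toBase m (Spec (CommRingCat.of ℂ))) :=
    Groth.Agent.Lib.ProjSpace.BaseChange.isProper_toBase m _
  have : IsProper pX := by rw [show pX = _ from hdq.symm]; infer_instance
  let π := i ≫ pullback.snd pX pW
  have : IsProper π := inferInstanceAs (IsProper (i ≫ pullback.snd pX pW))
  have : IsLocallyNoetherian W := LocallyOfFiniteType.isLocallyNoetherian pW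
  have hdim : topologicalKrullDim Z = topologicalKrullDim W := hdimZ.trans hdimW.symm
  have hgen : π.base ⁻¹' {genericPoint W} ⊆ {genericPoint Z} :=
    Groth.Agent.Lib.GenFinite.Basic.preimage_subset (π ≫ pW) pW π rfl hdim
  show (IsOpen {w : W | ∀ z : Z, π z = w → (π.stalkMap z).hom.Flat} ∧
      {w : W | ∀ z : Z, π z = w → (π.stalkMap z).hom.Flat}.Nonempty) ∧
    ∃ U : W.Opens, (U : Set W) = {w : W | (π ⁻¹' {w}).Finite} ∧ (U : Set W).Nonempty ∧ IsFinite (π ∣_ U)
  refine ⟨⟨?_, genericPoint W, ?_⟩, ?_⟩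
  · have h : {w : W | ∀ z : Z, π z = w → (π.stalkMap z).hom.Flat} =
        (π.base '' {z : Z | (π.stalkMap z).hom.Flat}ᶜ)ᶜ := by
      ext w
      simp only [Set.mem_ofPred_eq, Set.mem_compl_iff, Set.mem_image, not_exists, not_and]
      exact ⟨fun h z hz e => hz (h z e), fun h z e => by_contra fun hz => h z hz e⟩
    rw [h]
    exact (π.isClosedMap _ (Groth.Agent.H19.FlatLocus.Scheme.isOpen_flat_stalkMap π).isClosed_compl).isOpen_compl
  · intro z hz
    refine RingHom.Flat.of_isField ?_ _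
    rw [hz]
    exact Semifield.toIsField W.functionField
  · have hopen : IsOpen {w : W | (π ⁻¹' {w}).Finite} := by
      rw [isOpen_iff_forall_mem_open]
      intro w hw
      obtain ⟨V, hwV, hV⟩ := exists_isFinite_morphismRestrict_of_finite_preimage_singleton π w hw
      refine ⟨V, fun v hv => ?_, V.isOpen, hwV⟩
      refine ((π ∣_ V).finite_preimage_singleton ⟨v, hv⟩).image (π ⁻¹ᵁ V).ι |>.subset fun z hz => ?_
      have hzV : π z ∈ V := (show π z = v from hz) ▸ hv
      exact ⟨⟨z, hzV⟩, Subtype.ext ((morphismRestrict_base_coe π V ⟨z, hzV⟩).trans hz), rfl⟩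
    refine ⟨⟨_, hopen⟩, rfl, ⟨genericPoint W, (Set.finite_singleton _).subset hgen⟩, ?_⟩
    have : LocallyQuasiFinite (π ∣_ ⟨_, hopen⟩) := by
      refine LocallyQuasiFinite.of_finite_preimage_singleton _ fun w => ?_
      refine Set.Finite.of_finite_image (f := (π ⁻¹ᵁ ⟨_, hopen⟩).ι) (w.2.subset ?_)
        (Scheme.Opens.ι _).isEmbedding.injective.injOn
      rintro _ ⟨z, hz, rfl⟩
      exact (morphismRestrict_base_coe π _ z).symm.trans (congrArg Subtype.val hz)
    exact IsFinite.of_isProper_of_locallyQuasiFinite _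

end Groth.Agent.S18281
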