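import Groth.Statements.S18283
import Mathlib.LinearAlgebra.Matrix.Block
import Mathlib.LinearAlgebra.Multilinear.Pi

set_option autoImplicit false
universe u v
open CAlgX

namespace Groth.Agent.S18283

/-- Let A be a commutative ring, ι a finite index type, H a finite set of indices (the head indices) and
c : ι → ι → A a table of coefficients; for j ∈ H put f_j = e_j − Σ_{i ∉ H} c_{ji} e_i in the free
module A^ι, so that each f_j has head e_j with coefficient 1 and tail supported outside H. If a
submodule M of A^ι contains every f_j with j ∈ H, then M is the A-span of these f_j if and only if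
every wedge product of |H|+1 elements of M vanishes in the (|H|+1)-st exterior power of A^ι
(equivalently, every (|H|+1)-minor of every matrix whose rows lie in M vanishes). The published
statement is the case where A is a Noetherian algebra over a field of characteristic zero, A^ι is
the degree-(m+1) part of the polynomial ring over A with its basis of terms, H is the set of
degree-(m+1) terms of a strongly stable monomial ideal generated in degree m, and M is the
degree-(m+1) part of an ideal generated by a marked set on that monomial ideal; this row allows any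
commutative ring and any submodule containing the marked polynomials. -/
theorem result
    {A : Type u} [CommRing A] {ι : Type v} [Fintype ι] [DecidableEq ι]
    (H : Finset ι) (c : ι → ι → A) (M : Submodule A (ι → A))
    (hf : ∀ j ∈ H, (Pi.single j (1 : A) - ∑ i ∈ Hᶜ, c j i • Pi.single i (1 : A)) ∈ M) :
    M = Submodule.span A ((fun j => Pi.single j (1 : A) - ∑ i ∈ Hᶜ, c j i • Pi.single i (1 : A)) '' ↑H)
      ↔ ∀ v : Fin (H.card + 1) → ι → A, (∀ k, v k ∈ M) →
          exteriorPower.ιMulti A (H.card + 1) v = 0 := by
  classical
  set F : ι → (ι → A) := fun j => Pi.single j (1 : A) - ∑ i ∈ Hᶜ, c j i • Pi.single i (1 : A) with hF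
  constructor
  · intro hM v hv
    have hm : ∀ k, ∃ r : H → A, v k = ∑ j : H, r j • F j := by
      intro k
      have h := hv k
      rw [hM, Set.image_eq_range] at h
      obtain ⟨r, hr⟩ := (Submodule.mem_span_range_iff_exists_fun A).1 h
      exact ⟨r, hr.symm⟩
    choose r hr using hm
    rw [show v = fun k => ∑ j : H, r k j • F j from funext hr, ← AlternatingMap.coe_multilinearMap, MultilinearMap.map_sum]
    refine Finset.sum_eq_zero fun g _ => ?_
    rw [MultilinearMap.map_smul_univ, AlternatingMap.coe_multilinearMap]
    obtain ⟨a, b, hne, hab⟩ := Fintype.exists_ne_map_eq_of_card_lt g (by simp)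
    rw [AlternatingMap.map_eq_zero_of_eq _ _ (by rw [hab]) hne, smul_zero]
  · intro hw
    refine le_antisymm (fun m hm => ?_) (Submodule.span_le.2 (by rintro _ ⟨j, hj, rfl⟩; exact hf j hj))
    set m' := m - ∑ j ∈ H, m j • F j with hm'
    have hm'M : m' ∈ M := M.sub_mem hm (M.sum_mem fun j hj => M.smul_mem _ (hf j hj))
    have hFH : ∀ j ∈ H, ∀ l ∈ H, F j l = if l = j then 1 else 0 := by
      intro j _ l hl
      simp only [hF, Pi.sub_apply, Finset.sum_apply, Pi.smul_apply, smul_eq_mul, Pi.single_apply]
      rw [Finset.sum_eq_zero fun i hi => by rw [if_neg (show ¬ l = i from fun h => Finset.mem_compl.1 hi (h ▸ hl)), mul_zero], sub_zero]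
    have hz : ∀ l ∈ H, m' l = 0 := by
      intro l hl
      simp only [hm', Pi.sub_apply, Finset.sum_apply, Pi.smul_apply, smul_eq_mul]
      rw [Finset.sum_eq_single l (fun j hj hjl => by rw [hFH j hj l hl, if_neg (Ne.symm hjl), mul_zero]) (fun h => absurd hl h),
        hFH l hl l hl, if_pos rfl, mul_one, sub_self]
    suffices h0 : m' = 0 by
      rw [hm', sub_eq_zero] at h0
      rw [h0]
      exact Submodule.sum_mem _ fun j hj => Submodule.smul_mem _ _ (Submodule.subset_span ⟨j, hj, rfl⟩)
    funext i
    let e : Fin H.card → ι := fun a => (H.equivFin.symm a : ι)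
    let v : Fin (H.card + 1) → ι → A := Fin.snoc (fun a => F (e a)) m'
    have hv : ∀ k, v k ∈ M := fun k => Fin.lastCases (by simpa [v] using hm'M) (fun a => by simpa [v] using hf (e a) (H.equivFin.symm a).2) k
    let co : Fin (H.card + 1) → ι := Fin.snoc e i
    let ψ : (ι → A) [⋀^Fin (H.card + 1)]→ₗ[A] A := (Matrix.detRowAlternating (R := A) (n := Fin (H.card + 1))).compLinearMap (LinearMap.funLeft A A co)
    have hψ : ψ v = 0 := by
      rw [← exteriorPower.alternatingMapLinearEquiv_apply_ιMulti ψ, hw v hv, map_zero]
    have hdet : ψ v = Matrix.det (Matrix.of fun a b => v a (co b)) := rfl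
    rw [hdet, Matrix.det_of_upperTriangular] at hψ
    · rw [Fin.prod_univ_castSucc] at hψ
      simpa [v, co, e, hFH] using hψ
    · intro a b hba
      simp only [id_eq] at hba
      induction b using Fin.lastCases with
      | last => exact absurd hba (Fin.le_last a).not_gt
      | cast b =>
        induction a using Fin.lastCases with
        | last => simpa [v, co, e] using hz _ (H.equivFin.symm b).2
        | cast a =>
          simp only [v, co, e, Matrix.of_apply, Fin.snoc_castSucc]
          rw [hFH _ (H.equivFin.symm a).2 _ (H.equivFin.symm b).2, if_neg]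
          intro h
          have := H.equivFin.symm.injective (Subtype.ext h)
          subst this
          exact lt_irrefl _ hba

end Groth.Agent.S18283
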