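import Groth.Statements.S18287

import Groth.Agent.Lib.GrpSch.AttrCoassoc

set_option autoImplicit false
universe u
open CategoryTheory MonoidalCategory CartesianMonoidalCategory MonObj AlgebraicGeometry Opposite
open Magnet

namespace Groth.Agent.S18287

attribute [local instance] Groth.Agent.Lib.GrpSch.AttrAffine.baseAlg

open Limits Groth.Agent.Lib.GrpSch Groth.Agent.Lib.GrpSch.AttrAffine in
theorem orbitFactors_comap {S : Scheme.{u}} {M Z : Type} [AddCommMonoid M] [AddCommMonoid Z] (f : M →+ Z)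
    (Y : AddSubmonoid Z) {X : Over S} [IsAffineHom X.hom] (a : Magnet.MonAct (Magnet.AMonS S M) X)
    {T : Over S} (x : T ⟶ X) (h : OrbitFactors (a.restrict (Magnet.AMonS.map S f)) Y x) :
    OrbitFactors a (Y.comap f) x := by
  have hex : ∀ t : T.left, ∃ (V : S.Opens) (_ : IsAffineOpen V) (W : T.left.Opens),
      IsAffineOpen W ∧ t ∈ W ∧ W ≤ x.left ⁻¹ᵁ (X.hom ⁻¹ᵁ V) := by
    intro t
    obtain ⟨V, hV, htV, -⟩ := exists_isAffineOpen_mem_and_subset (X := S) (x := X.hom.base (x.left.base t)) (U := ⊤) trivial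
    obtain ⟨W, hW, htW, hle⟩ := exists_isAffineOpen_mem_and_subset (X := T.left) (x := t) (U := x.left ⁻¹ᵁ (X.hom ⁻¹ᵁ V)) htV
    exact ⟨V, hV, W, hW, htW, hle⟩
  choose V hV W hW htW hle using hex
  refine OrbitFactors.of_openCover x (T.left.openCoverOfIsOpenCover W
    (TopologicalSpace.IsOpenCover.mk (top_le_iff.mp fun t _ => TopologicalSpace.Opens.mem_iSup.mpr ⟨t, htW t⟩)))
    fun k => ?_
  change T.left at k
  let xk : Over.mk ((W k).ι ≫ T.hom) ⟶ T := Over.homMk (W k).ι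
  change OrbitFactors a (Y.comap f) (xk ≫ x)
  set U := X.hom ⁻¹ᵁ V k
  have hr : Set.range ((hW k).isoSpec.inv ≫ (W k).ι ≫ x.left).base ⊆ Set.range ((hV k).preimage X.hom).fromSpec.base := by
    rintro _ ⟨y, rfl⟩
    rw [((hV k).preimage X.hom).range_fromSpec]
    exact hle k ((hW k).isoSpec.inv.base y).2
  obtain ⟨τ, hτ⟩ := Spec.map_surjective (IsOpenImmersion.lift _ _ hr)
  have hτc : Spec.map τ ≫ ((hV k).preimage X.hom).fromSpec = (hW k).isoSpec.inv ≫ (W k).ι ≫ x.left := by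
    rw [hτ, IsOpenImmersion.lift_fac]
  let e : Over.mk ((Spec.map τ ≫ ((hV k).preimage X.hom).fromSpec) ≫ X.hom) ≅ Over.mk ((W k).ι ≫ T.hom) :=
    Over.isoMk (hW k).isoSpec.symm (by
      show (hW k).isoSpec.inv ≫ (W k).ι ≫ T.hom = _
      rw [hτc, ← Over.w x]; simp)
  have he : e.hom ≫ xk ≫ x = Over.homMk (Spec.map τ ≫ ((hV k).preimage X.hom).fromSpec) rfl :=
    Over.OverMorphism.ext hτc.symm
  have key : OrbitFactors a (Y.comap f)
      (Over.homMk (U := Over.mk ((Spec.map τ ≫ ((hV k).preimage X.hom).fromSpec) ≫ X.hom))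
        (Spec.map τ ≫ ((hV k).preimage X.hom).fromSpec) rfl) := by
    obtain ⟨ρ, hρ⟩ := exists_coaction a (hV k)
    let ρ' := ρ ≫ @bcMap R0.{u} _ Z _ M _ Γ(X.left, X.hom ⁻¹ᵁ V k) (baseAlg _) f
    have hρ' : Spec.map ρ' ≫ ((hV k).preimage X.hom).fromSpec =
        chartOrbit (a.restrict (Magnet.AMonS.map S f)) ((hV k).preimage X.hom) := by
      rw [Spec.map_comp, Category.assoc, hρ, chartOrbit, chartOrbit, ← reassoc_of% prodIso_map f]
      congr 1
      simp only [Magnet.MonAct.restrict_act, ← Over.comp_left]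
      congr 1
      rw [whisker_exchange_assoc]
    have h' := (chart_iff _ Y (hV k) ρ' hρ' _ τ).2 (by
      rw [← he]; exact (h.precomp xk).precomp e.hom)
    refine (chart_iff a _ (hV k) ρ hρ _ τ).1 (le_trans ?_ h')
    refine Ideal.span_le.2 ?_
    rintro z ⟨b, m, hm, hz⟩
    refine Ideal.subset_span ⟨z, AddMonoidHom.toMultiplicative f m, ?_, ?_⟩
    · rintro ⟨y, hy⟩
      refine hm ⟨Multiplicative.ofAdd ⟨m.toAdd, ?_⟩, rfl⟩
      show f m.toAdd ∈ Y
      have : (y.toAdd : Z) = f m.toAdd := congrArg Multiplicative.toAdd hy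
      rw [← this]; exact y.toAdd.2
    · have h1 := coaction_coassoc a (hV k) ρ hρ b m
      rw [hz] at h1
      show coord R0.{u} _ ((ρ ≫ bcMap R0.{u} _ f).hom z) _ = z
      rw [CommRingCat.hom_comp, RingHom.comp_apply, h1, bcMap_inl_mul_inr]
      classical
      rw [coord_inl_mul_inr, if_pos rfl]
  have := key.precomp e.inv
  rwa [← he, Iso.inv_hom_id_assoc] at this

/-- Let f : M → Z be a homomorphism of commutative monoids, Y a submonoid of Z and N its preimage in M,
and let X be an S-scheme affine over S with an action of the diagonalizable monoid scheme A(M)_S.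
Regard X as an A(Z)_S-scheme through A(Z)_S → A(M)_S. Then the canonical map of attractors X^{N ⊂ M}
→ X^{Y ⊂ Z} (precomposition with A(Y)_S → A(N)_S) is an isomorphism. -/
theorem result (S : Scheme.{u}) (M Z : Type) [AddCommMonoid M] [AddCommMonoid Z]
    (f : M →+ Z) (Y : AddSubmonoid Z) (X : Over S) [IsAffineHom X.hom] (a : Magnet.MonAct (Magnet.AMonS S M) X) :
    IsIso (Magnet.attrComap a f Y) := by
  have : IsSeparated X.hom := inferInstance
  refine @NatIso.isIso_of_isIso_app _ _ _ _ _ _ _ fun T => ?_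
  rw [isIso_iff_bijective]
  have hcomm : ∀ φ : (Magnet.attr a (Y.comap f)).obj T,
      (Magnet.attrToX (a.restrict (Magnet.AMonS.map S f)) Y).app T ((Magnet.attrComap a f Y).app T φ) =
        (Magnet.attrToX a (Y.comap f)).app T φ := by
    intro φ
    change lift (toUnit _ ≫ η[Magnet.AMonS S Y]) (𝟙 _) ≫
        (Magnet.AMonS.map S ((f.comp (Y.comap f).subtype).codRestrict Y (fun x => x.2)) ▷ _) ≫ φ.1 =
      lift (toUnit _ ≫ η[Magnet.AMonS S (Y.comap f)]) (𝟙 _) ≫ φ.1
    rw [lift_whiskerRight_assoc, Category.assoc, IsMonHom.one_hom]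
  have hinj := Groth.Agent.Lib.GrpSch.attrToX_injective a (Y.comap f) T.unop
  refine ⟨fun φ ψ h => hinj ?_, fun ψ => ?_⟩
  · rw [← hcomm φ, ← hcomm ψ, h]
  · obtain ⟨φ, hφ⟩ := (Groth.Agent.Lib.GrpSch.AttrAffine.exists_attr_iff a (Y.comap f) _).2
      (orbitFactors_comap f Y a _ ((Groth.Agent.Lib.GrpSch.AttrAffine.exists_attr_iff
        (a.restrict (Magnet.AMonS.map S f)) Y _).1 ⟨ψ, rfl⟩))
    refine ⟨φ, Groth.Agent.Lib.GrpSch.attrToX_injective _ Y T.unop ?_⟩
    exact (hcomm φ).trans hφ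

end Groth.Agent.S18287
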