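import Groth.Statements.S18288

import Groth.Agent.Lib.GrpSch.AttrAffine

set_option autoImplicit false
universe u
open CategoryTheory MonoidalCategory CartesianMonoidalCategory MonObj AlgebraicGeometry Opposite
open Magnet

namespace Groth.Agent.S18288

/-- Let M be a commutative monoid with an injective homomorphism f : M → Z into a commutative group Z
(so M is cancellative; the published statement takes Z to be the group completion of M, and the same
argument applies to any such Z), let Y be a submonoid of Z contained in the image of M, and let X be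
an S-scheme separated over S with an action of the diagonalizable monoid scheme A(M)_S. Regard X as
a D(Z)_S-scheme through D(Z)_S → A(M)_S. Then the canonical map of attractors X^{f⁻¹Y ⊂ M} → X^{Y ⊂
Z} is an isomorphism: a D(Z)_S-equivariant family out of A(Y)_S is automatically A(M)_S-equivariant.
(The published statement allows X to be an algebraic space; here X is a scheme.) -/
theorem result (S : Scheme.{u}) (M Z : Type) [AddCommMonoid M]
    [AddCommGroup Z] (f : M →+ Z) (hf : Function.Injective f) (Y : AddSubmonoid Z)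
    (hY : Y ≤ AddMonoidHom.mrange f) (X : Over S) [IsSeparated X.hom]
    (a : Magnet.MonAct (Magnet.AMonS S M) X) :
    IsIso (Magnet.attrComap a f Y) := by
  refine @NatIso.isIso_of_isIso_app _ _ _ _ _ _ _ fun T => ?_
  rw [isIso_iff_bijective]
  have hcomm : ∀ φ : (Magnet.attr a (Y.comap f)).obj T,
      (Magnet.attrToX (a.restrict (Magnet.AMonS.map S f)) Y).app T ((Magnet.attrComap a f Y).app T φ) =
        (Magnet.attrToX a (Y.comap f)).app T φ := by
    intro φ
    change lift (toUnit _ ≫ η[Magnet.AMonS S Y]) (𝟙 _) ≫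
        (Magnet.AMonS.map S ((f.comp (Y.comap f).subtype).codRestrict Y (fun x => x.2)) ▷ _) ≫ φ.1 =
      lift (toUnit _ ≫ η[Magnet.AMonS S (Y.comap f)]) (𝟙 _) ≫ φ.1
    rw [lift_whiskerRight_assoc, Category.assoc, IsMonHom.one_hom]
  refine ⟨fun φ ψ h => Groth.Agent.Lib.GrpSch.attrToX_injective a (Y.comap f) T.unop ?_, fun ψ => ?_⟩
  · rw [← hcomm φ, ← hcomm ψ, h]
  · let g : (Y.comap f) →+ Y := (f.comp (Y.comap f).subtype).codRestrict Y (fun x => x.2)
    have hg : Function.Bijective g := by
      refine ⟨fun p q h => Subtype.ext (hf (congrArg Subtype.val h)), fun y => ?_⟩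
      obtain ⟨m, hm⟩ := hY y.2
      exact ⟨⟨m, by show f m ∈ Y; rw [hm]; exact y.2⟩, Subtype.ext hm⟩
    let e := AddEquiv.ofBijective g hg
    obtain ⟨ψ', hψ'⟩ := (Groth.Agent.Lib.GrpSch.AttrAffine.exists_attr_iff
        (a.restrict (Magnet.AMonS.map S f)) Y _).1 ⟨ψ, rfl⟩
    obtain ⟨φ, hφ⟩ := (Groth.Agent.Lib.GrpSch.AttrAffine.exists_attr_iff a (Y.comap f)
        ((Magnet.attrToX (a.restrict (Magnet.AMonS.map S f)) Y).app T ψ)).2
      ⟨(Magnet.AMonS.map S e.symm.toAddMonoidHom ▷ T.unop) ≫ ψ', by
        refine Groth.Agent.Lib.GrpSch.ext_of_AMonS_map f hf ?_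
        have hc : Magnet.AMonS.map S f ≫ Magnet.AMonS.map S (Y.comap f).subtype ≫
            Magnet.AMonS.map S e.symm.toAddMonoidHom = Magnet.AMonS.map S Y.subtype := by
          rw [← Magnet.AMonS.map_comp, ← Magnet.AMonS.map_comp]
          congr 1
          ext y
          exact congrArg Subtype.val (e.apply_symm_apply y)
        rw [← MonoidalCategory.comp_whiskerRight_assoc, ← MonoidalCategory.comp_whiskerRight_assoc,
          Category.assoc, hc, hψ', Magnet.MonAct.restrict_act, whisker_exchange_assoc]⟩
    exact ⟨φ, Groth.Agent.Lib.GrpSch.attrToX_injective _ Y T.unop ((hcomm φ).trans hφ)⟩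

end Groth.Agent.S18288
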