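import Groth.Statements.S18290

import Groth.Agent.Lib.GrpSch.AttrLimit
import Mathlib.AlgebraicGeometry.AffineTransitionLimit

set_option autoImplicit false
universe u
open CategoryTheory MonoidalCategory CartesianMonoidalCategory MonObj AlgebraicGeometry Opposite
open Magnet

namespace Groth.Agent.S18290

open Groth.Agent.Lib.GrpSch Groth.Agent.Lib.GrpSch.AttrAffine in
theorem spec_case {S : Scheme.{u}} {M : Type} [AddCommMonoid M] {X : Over S} [IsSeparated X.hom]
    [LocallyOfFinitePresentation X.hom] (a : Magnet.MonAct (Magnet.AMonS S M) X) {J : Type} [Preorder J]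
    [IsDirected J (· ≤ ·)] [Nonempty J] (N : J → AddSubmonoid M) (hN : Monotone N)
    (B : CommRingCat.{u}) (t : Spec B ⟶ S) (φ : (Magnet.attr a (⨆ i, N i)).obj (op (specOver B t))) :
    ∃ (i : J) (ψ : (Magnet.attr a (N i)).obj (op (specOver B t))),
      (Magnet.attrMap a (le_iSup N i)).app (op (specOver B t)) ψ = φ := by
  obtain ⟨i, ψ₀, hψ⟩ := exists_factor N hN B t φ.1
  have hfac : OrbitFactors a (N i) ((Magnet.attrToX a (⨆ i, N i)).app (op (specOver B t)) φ) := by
    refine ⟨ψ₀, ?_⟩
    rw [← attr_restrict_eq a (⨆ i, N i) φ, ← hψ, ← MonoidalCategory.comp_whiskerRight_assoc,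
      ← Magnet.AMonS.map_comp]
    rfl
  obtain ⟨ξ, hξ⟩ := (exists_attr_iff a (N i) _).2 hfac
  refine ⟨i, ξ, attrToX_injective a (⨆ i, N i) _ ?_⟩
  rw [← hξ]
  change lift (toUnit _ ≫ η) (𝟙 _) ≫ (Magnet.AMonS.map S (AddSubmonoid.inclusion (le_iSup N i)) ▷ _) ≫ ξ.1 =
    lift (toUnit _ ≫ η) (𝟙 _) ≫ ξ.1
  rw [lift_whiskerRight_assoc, Category.assoc, IsMonHom.one_hom]

theorem transport {S : Scheme.{u}} {M : Type} [AddCommMonoid M] {X : Over S}
    (a : Magnet.MonAct (Magnet.AMonS S M) X) {J : Type} {N : J → AddSubmonoid M} {L : AddSubmonoid M}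
    (h : ∀ i, N i ≤ L) {T' T : Over S} (e : T' ≅ T) (φ : (Magnet.attr a L).obj (op T))
    (hT : ∀ φ' : (Magnet.attr a L).obj (op T'),
      ∃ (i : J) (ψ : (Magnet.attr a (N i)).obj (op T')), (Magnet.attrMap a (h i)).app (op T') ψ = φ') :
    ∃ (i : J) (ψ : (Magnet.attr a (N i)).obj (op T)), (Magnet.attrMap a (h i)).app (op T) ψ = φ := by
  obtain ⟨i, ψ, hψ⟩ := hT ((Magnet.attr a L).map e.hom.op φ)
  refine ⟨i, (Magnet.attr a (N i)).map e.inv.op ψ, ?_⟩
  refine (NatTrans.naturality_apply (Magnet.attrMap a (h i)) e.inv.op ψ).trans ?_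
  rw [hψ, ← Functor.map_comp_apply, ← op_comp, Iso.inv_hom_id, op_id, Functor.map_id_apply]

/-- Let X be an S-scheme locally of finite presentation and separated over S with an action of the
diagonalizable monoid scheme A(M)_S of a commutative monoid M, and let N be the union of a nonempty
directed family of submonoids N_i of M. Then for every S-scheme T whose underlying scheme is affine,
every element of X^N(T) comes from X^{N_i}(T) for some i, so that X^N(T) is the directed union of
the X^{N_i}(T) (the maps X^{N_i}(T) → X^N(T) are injective since X is separated). (The published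
statement takes T an arbitrary S-scheme and X an algebraic space; for T an infinite disjoint union
of points and X an infinite disjoint union of affine lines, the n-th with coordinate of degree the
n-th basis vector of a free commutative monoid M, the element of X^N(T) that is the n-th coordinate
inclusion on the n-th point comes from no single X^{N_i}(T) when N_i is generated by the first i
basis vectors, so T is taken affine here, the case the limit argument proves.) -/
theorem result (S : Scheme.{u}) (M : Type) [AddCommMonoid M]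
    (X : Over S) [IsSeparated X.hom] [LocallyOfFinitePresentation X.hom]
    (a : Magnet.MonAct (Magnet.AMonS S M) X) {J : Type} [Preorder J] [IsDirected J (· ≤ ·)] [Nonempty J]
    (N : J → AddSubmonoid M) (hN : Monotone N) (T : Over S) [IsAffine T.left]
    (φ : (Magnet.attr a (⨆ i, N i)).obj (op T)) :
    ∃ (i : J) (ψ : (Magnet.attr a (N i)).obj (op T)), (Magnet.attrMap a (le_iSup N i)).app (op T) ψ = φ := by
  let t : Spec Γ(T.left, ⊤) ⟶ S := T.left.isoSpec.inv ≫ T.hom
  let e : Groth.Agent.Lib.GrpSch.AttrAffine.specOver Γ(T.left, ⊤) t ≅ T := Over.isoMk T.left.isoSpec.symm rfl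
  exact transport a (le_iSup N) e φ (fun φ' => spec_case a N hN _ t φ')

end Groth.Agent.S18290
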