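import Groth.Statements.S18300
-- import your own Groth.Agent.* helpers here

set_option autoImplicit false
universe u
open CategoryTheory MonoidalCategory CartesianMonoidalCategory MonObj AlgebraicGeometry Opposite
open Magnet

namespace Groth.Agent.S18300
open CategoryTheory.Limits ActBC

variable {S S' S'' : Scheme.{u}} (f : S'' ⟶ S') (g : S' ⟶ S) {d : S'' ⟶ S} {A X : Over S} [MonObj A]

theorem act_bcComp (a : MonAct A X) (h : f ≫ g = d) :
    ((a.bc g).bc f).act ≫ (bcCompIso f g X h).hom =
      ((bcCompIso f g A h).hom ⊗ₘ (bcCompIso f g X h).hom) ≫ (a.bc d).act := by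
  ext
  apply pullback.hom_ext
  · simp only [MonAct.bc_act, Over.comp_left, Category.assoc, bcCompIso_hom_left_fst, pullback_map_left_fst,
      pullback_map_left_fst_assoc]
    simp only [← Category.assoc]
    congr 1
    simp only [Category.assoc]
    apply pullback.hom_ext
    · simp only [Category.assoc]
      rw [μ_left_fst_fst, μ_left_fst_fst_assoc, μ_left_fst_fst, tensorHom_left_fst'_assoc,
        bcCompIso_hom_left_fst]
    · simp only [Category.assoc]
      rw [μ_left_fst_snd, μ_left_fst_snd_assoc, μ_left_fst_snd, tensorHom_left_snd'_assoc,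
        bcCompIso_hom_left_fst]
  · exact (Over.w _).trans (Over.w _).symm

theorem conj_equivariant {B : Over S} (ρ : MonAct A B) (a : MonAct A X) (h : f ≫ g = d)
    (ψ : Red.bc f (Red.bc g B) ⟶ Red.bc f (Red.bc g X)) :
    MonAct.IsEquivariant ((ρ.bc g).bc f) ((a.bc g).bc f) ψ ↔
      MonAct.IsEquivariant (ρ.bc d) (a.bc d)
        ((bcCompIso f g B h).inv ≫ ψ ≫ (bcCompIso f g X h).hom) := by
  unfold MonAct.IsEquivariant
  constructor
  · intro hψ
    rw [← cancel_epi ((bcCompIso f g A h).hom ⊗ₘ (bcCompIso f g B h).hom),
      ← reassoc_of% (act_bcComp f g ρ h), Iso.hom_inv_id_assoc, reassoc_of% hψ, act_bcComp,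
      ← id_tensorHom, ← id_tensorHom, tensorHom_comp_tensorHom_assoc, tensorHom_comp_tensorHom_assoc,
      Category.id_comp, Category.comp_id, Iso.hom_inv_id_assoc]
  · intro hψ
    rw [← cancel_mono (bcCompIso f g X h).hom, Category.assoc, Category.assoc, act_bcComp,
      ← id_tensorHom, tensorHom_comp_tensorHom_assoc, Category.id_comp]
    have := ((bcCompIso f g A h).hom ⊗ₘ (bcCompIso f g B h).hom) ≫= hψ
    rw [← reassoc_of% (act_bcComp f g ρ h), Iso.hom_inv_id_assoc, ← id_tensorHom,
      tensorHom_comp_tensorHom_assoc, Category.comp_id, Iso.hom_inv_id_assoc] at this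
    exact this


/-- Let X be an S-scheme with an action of the diagonalizable monoid scheme A(M)_S of a commutative
monoid M, N a submonoid of M, and T an S-scheme; X_T = X ×_S T carries the base-changed action of
A(M)_T. Then X^N ×_S T = (X_T)^N objectwise: for every scheme T'' over T, the value of the attractor
X^N at T'' (regarded over S) is in bijection with the value at T'' of the attractor of X_T, namely
the maps A(N)_T ×_T T'' → X_T equivariant for the base-changed actions; the bijection is pinned by
requiring that, under the identifications of both sides with equivariant morphisms between base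
changes to T'', it is conjugation by the canonical isomorphisms (Y ×_S T) ×_T T'' ≅ Y ×_S T'' for Y
= A(N)_S and Y = X. (Naturality in T'' is not part of this statement; X may be an algebraic space in
the source, here it is a scheme.) -/
theorem result (S : Scheme.{u}) (M : Type) [AddCommMonoid M] (N : AddSubmonoid M)
    (X : Over S) (a : Magnet.MonAct (Magnet.AMonS S M) X) (T : Over S) (T'' : Over T.left) :
    ∃ Φ : (Magnet.attr a N).obj (op ((Over.map T.hom).obj T'')) ≃
        (Magnet.MonAct.eqvHom ((Magnet.subAct S M N).bc T.hom) (a.bc T.hom)).obj (op T''),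
      ∀ φ, (Magnet.eqvHomEquivBc T'' ((Magnet.subAct S M N).bc T.hom) (a.bc T.hom) (Φ φ)).1 ≫
          (ActBC.bcCompIso T''.hom T.hom X rfl).hom =
        (ActBC.bcCompIso T''.hom T.hom (Magnet.AMonS S N) rfl).hom ≫
          (Magnet.eqvHomEquivBc ((Over.map T.hom).obj T'') (Magnet.subAct S M N) a φ).1 := by
  let eB := bcCompIso T''.hom T.hom (Magnet.AMonS S N) rfl
  let eX := bcCompIso T''.hom T.hom X rfl
  refine ⟨(Magnet.eqvHomEquivBc ((Over.map T.hom).obj T'') (Magnet.subAct S M N) a).trans
    ((Equiv.subtypeEquiv (eB.homCongr eX) fun ψ => conj_equivariant T''.hom T.hom _ a rfl ψ).symm.trans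
      (Magnet.eqvHomEquivBc T'' ((Magnet.subAct S M N).bc T.hom) (a.bc T.hom)).symm), fun φ => ?_⟩
  simp [eB, eX, Iso.homCongr]

end Groth.Agent.S18300
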