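import Groth.Statements.S18303

import Groth.Agent.Lib.GrpSch.FacePushout
import Mathlib.CategoryTheory.Limits.Types.Pullbacks

set_option autoImplicit false
universe u
open CategoryTheory MonoidalCategory CartesianMonoidalCategory MonObj AlgebraicGeometry Opposite
open Magnet

namespace Groth.Agent.S18303

/-- Let M be a commutative group, X an S-scheme with an action of the diagonalizable group scheme
D(M)_S, and N, N', L, L' submonoids (magnets) of M with N ≤ L ≤ L', N' ≤ L', L a face of L', N a
face of N', N = L ∩ N', L' = L + N' and N' = L' minus (L minus N). Then the square formed by the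
inclusion maps of attractors X^{N'} → X^{L'}, X^N → X^L and the face projections X^{N'} → X^N,
X^{L'} → X^L is cartesian as a square of functors on S-schemes. (The published statement assumes the
four attractors representable by schemes and concludes that the square of schemes is cartesian; its
argument is on T-valued points and gives the square of functors, which is what is stated.) -/
theorem result (S : Scheme.{u}) (M : Type) [AddCommGroup M] (X : Over S)
    (a : AlgGrp.Action (Red.DS S M) X) (N N' L L' : AddSubmonoid M) (hNL : N ≤ L) (hN'L' : N' ≤ L')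
    (hL : Magnet.IsFace L' L) (hN : Magnet.IsFace N' N) (hmeet : N = L ⊓ N') (hjoin : L' = L ⊔ N')
    (hdiff : (N' : Set M) = (L' : Set M) \ ((L : Set M) \ (N : Set M))) :
    IsPullback (Magnet.attrMap (Magnet.MonAct.ofAction a) hN'L') (Magnet.attrFace (Magnet.MonAct.ofAction a) hN)
      (Magnet.attrFace (Magnet.MonAct.ofAction a) hL) (Magnet.attrMap (Magnet.MonAct.ofAction a) hNL) := by
  have hp := fun T : Over S =>
    Groth.Agent.Lib.GrpSch.FacePushout.isPushout_whiskerRight (S := S) hNL hN'L' hL hN hdiff T
  refine IsPullback.of_forall_isPullback_app fun T => ?_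
  rw [Limits.Types.isPullback_iff]
  refine ⟨?_, fun φ ψ ⟨h1, h2⟩ => Subtype.ext ((hp T.unop).hom_ext (congrArg Subtype.val h1) (congrArg Subtype.val h2)),
    fun φ ψ hw => ?_⟩
  · ext χ
    apply Subtype.ext
    exact ((Category.assoc _ _ _).symm.trans (congrArg (· ≫ χ.1) (hp T.unop).w)).trans (Category.assoc _ _ _)
  · let χ := (hp T.unop).desc φ.1 ψ.1 (congrArg Subtype.val hw)
    have hχ1 : (Magnet.AMonS.map S (AddSubmonoid.inclusion hN'L') ▷ T.unop) ≫ χ = φ.1 := (hp T.unop).inl_desc _ _ _
    have hχ2 : (Magnet.AMonS.faceMap S hN ▷ T.unop) ≫ χ = ψ.1 := (hp T.unop).inr_desc _ _ _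
    refine ⟨⟨χ, (Magnet.MonAct.mem_eqvHom_iff _).2 ?_⟩, Subtype.ext hχ1, Subtype.ext hχ2⟩
    intro T' g b t
    let P := Magnet.AMonS S M ⊗ T.unop
    let u : Magnet.AMonS S N' ⊗ P ⟶ X :=
      lift (lift (snd _ P ≫ fst _ _) (fst _ P) ≫ (Magnet.subAct S M N').act) (snd _ P ≫ snd _ _) ≫ χ
    let v : Magnet.AMonS S N' ⊗ P ⟶ X :=
      lift (snd _ P ≫ fst _ _) (lift (fst _ P) (snd _ P ≫ snd _ _) ≫ χ) ≫ (Magnet.MonAct.ofAction a).act
    have e1 := Magnet.MonAct.isEquivariant_restrict_regular (AMonS.map S L'.subtype) (AMonS.map S N'.subtype)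
      (AMonS.map S (AddSubmonoid.inclusion hN'L')) (by rw [← Magnet.AMonS.map_comp]; rfl)
    have e2 := Magnet.isEquivariant_faceMapS S hN
    have key : u = v := by
      refine (hp P).hom_ext ?_ ?_
      · have h := (Magnet.MonAct.mem_eqvHom_iff _).1 φ.2 (Magnet.AMonS S L' ⊗ P) (snd _ P ≫ fst _ _) (fst _ P) (snd _ P ≫ snd _ _)
        simp only [u, v, comp_lift_assoc, whiskerRight_snd_assoc, whiskerRight_snd, whiskerRight_fst_assoc,
          whiskerRight_fst, comp_lift, ← Category.assoc]
        rw [← hχ1] at h
        simp only [lift_whiskerRight_assoc, Category.assoc] at h ⊢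
        unfold Magnet.MonAct.IsEquivariant at e1
        rw [show (Magnet.subAct S M L').act ≫ AMonS.map S (AddSubmonoid.inclusion hN'L') =
          (Magnet.AMonS S M ◁ AMonS.map S (AddSubmonoid.inclusion hN'L')) ≫ (Magnet.subAct S M N').act from e1,
          lift_whiskerLeft_assoc] at h
        exact h
      · have h := (Magnet.MonAct.mem_eqvHom_iff _).1 ψ.2 (Magnet.AMonS S N ⊗ P) (snd _ P ≫ fst _ _) (fst _ P) (snd _ P ≫ snd _ _)
        simp only [u, v, comp_lift_assoc, whiskerRight_snd_assoc, whiskerRight_snd, whiskerRight_fst_assoc,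
          whiskerRight_fst, comp_lift, ← Category.assoc]
        rw [← hχ2] at h
        simp only [lift_whiskerRight_assoc, Category.assoc] at h ⊢
        unfold Magnet.MonAct.IsEquivariant at e2
        rw [e2, lift_whiskerLeft_assoc] at h
        exact h
    have h := congrArg (lift b (lift g t) ≫ ·) key
    simp only [u, v, P, comp_lift_assoc, lift_fst, lift_snd, lift_snd_assoc, lift_fst_assoc] at h
    exact h

end Groth.Agent.S18303
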