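import Groth.Statements.S18309
import Groth.Agent.Lib.HensChart.Lift

set_option autoImplicit false
set_option backward.isDefEq.respectTransparency false
set_option backward.isDefEq.respectTransparency.types false
set_option linter.style.haveILetI false
universe u
open CategoryTheory CategoryTheory.Limits AlgebraicGeometry
open AlgSp

namespace Groth.Agent.S18309

/-- Let S be a scheme, f : Z → X a morphism of algebraic spaces over S which is smooth (étale locally on
source and target), R a Henselian local ring with residue field k = R/m and structure morphism Spec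
R → S, z : h_{Spec R} → X an R-point of X, and z₀' : h_{Spec k} → Z a k-point of Z whose composite
with f is the restriction of z to Spec k. Then there is an R-point z' : h_{Spec R} → Z with z'
followed by f equal to z and whose restriction to Spec k is z₀'. The source states this for X an
algebraic stack (lifting up to isomorphism); the algebraic-space case is stated here. -/
theorem result {S : Scheme.{u}} {Z X : AlgSp.Space S}
    (f : Z ⟶ X) (hf : AlgSp.LocP @Smooth f.hom)
    (R : Type u) [CommRing R] [HenselianLocalRing R] (str : Spec (CommRingCat.of R) ⟶ S)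
    (z : (AlgSp.yon S).obj (Over.mk str) ⟶ X.obj)
    (z₀ : (AlgSp.yon S).obj (Over.mk (Spec.map (CommRingCat.ofHom (IsLocalRing.residue R)) ≫ str)) ⟶ Z.obj)
    (w : z₀ ≫ f.hom = (AlgSp.yon S).map (Over.homMk (Spec.map (CommRingCat.ofHom (IsLocalRing.residue R))) rfl :
        Over.mk (Spec.map (CommRingCat.ofHom (IsLocalRing.residue R)) ≫ str) ⟶ Over.mk str) ≫ z) :
    ∃ z' : (AlgSp.yon S).obj (Over.mk str) ⟶ Z.obj, z' ≫ f.hom = z ∧
      (AlgSp.yon S).map (Over.homMk (Spec.map (CommRingCat.ofHom (IsLocalRing.residue R))) rfl :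
        Over.mk (Spec.map (CommRingCat.ofHom (IsLocalRing.residue R)) ≫ str) ⟶ Over.mk str) ≫ z' = z₀ := by
  have hsm := Groth.Agent.Lib.SourceDescent.Scheme.smooth.{u}
  have sq := IsPullback.of_hasPullback f.hom z
  let res : Over.mk (Spec.map (CommRingCat.ofHom (IsLocalRing.residue R)) ≫ str) ⟶ Over.mk str :=
    Over.homMk (Spec.map (CommRingCat.ofHom (IsLocalRing.residue R))) rfl
  have hW := Groth.Agent.Lib.AlgSpace.isAlgSpace_of_isPullback sq X.property.diag Z.property (AlgSp.IsAlgSpace.yon_obj _)
  have hloc : AlgSp.LocP @Smooth (pullback.snd f.hom z) :=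
    Groth.Agent.Lib.AlgSpMor.LocP.locP_of_isPullback hsm Z.property X.property (AlgSp.IsAlgSpace.yon_obj _) sq hf
  obtain ⟨V, pV, v₀, hV, hpV, hv₀⟩ := Groth.Agent.Lib.HensChart.exists_affine_chart_field hW
    (k := IsLocalRing.ResidueField R) (pullback.lift z₀ ((AlgSp.yon S).map res) w)
  obtain ⟨k, hk⟩ := (AlgSp.yon S).map_surjective (pV ≫ pullback.snd f.hom z)
  have : Smooth k.left :=
    hloc pV (𝟙 _) k hpV (AlgSp.repWith_id _ _) (by rw [Category.comp_id, hk])
  have e₀ : v₀ ≫ k = res := (AlgSp.yon S).map_injective (by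
    rw [Functor.map_comp, hk, ← Category.assoc, hv₀, pullback.lift_snd])
  obtain ⟨s, hs, hs'⟩ := Groth.Agent.Lib.HensChart.exists_section_local k.left v₀.left (congrArg (fun m => m.left) e₀)
  let s' : Over.mk str ⟶ V := Over.homMk s (by rw [← Over.w k, reassoc_of% hs])
  refine ⟨(AlgSp.yon S).map s' ≫ pV ≫ pullback.fst f.hom z, ?_, ?_⟩
  · rw [Category.assoc, Category.assoc, pullback.condition, ← Category.assoc pV, ← hk, ← Category.assoc,
      ← Functor.map_comp, show s' ≫ k = 𝟙 _ from Over.OverMorphism.ext hs, CategoryTheory.Functor.map_id,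
      Category.id_comp]
  · show (AlgSp.yon S).map res ≫ (AlgSp.yon S).map s' ≫ pV ≫ pullback.fst f.hom z = z₀
    rw [← Category.assoc, ← Functor.map_comp, show res ≫ s' = v₀ from Over.OverMorphism.ext hs', ← Category.assoc,
      hv₀, pullback.lift_fst]

end Groth.Agent.S18309
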