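import Groth.Statements.S18313
import Groth.Agent.Lib.HensChart.Lift
import Groth.Agent.Lib.Unram.SmoothBranches

set_option autoImplicit false
set_option backward.isDefEq.respectTransparency false
set_option backward.isDefEq.respectTransparency.types false
set_option linter.style.haveILetI false
universe u
open CategoryTheory CategoryTheory.Limits AlgebraicGeometry
open AlgSp

namespace Groth.Agent.S18313

/-- Let R be a Henselian local ring, S = Spec R, and X an algebraic space over S which is smooth over S,
in the sense that there are a scheme U over S with smooth structure morphism U → S and a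
representable étale, representable surjective morphism h_U → X. Then for every ideal a ≠ R, every
point h_{Spec (R/a)} → X over S is the composite of h_q with a point h_S → X over S, where q : Spec
(R/a) → S is the closed immersion. The source states this for smooth algebraic stacks over R whose
diagonal has a separated fibre over the closed point (essential surjectivity on R/a-points); the
algebraic-space case is stated here. -/
theorem result (R : Type u) [CommRing R] [HenselianLocalRing R]
    (X : AlgSp.Space (Spec (CommRingCat.of R)))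
    (hX : ∃ (U : Over (Spec (CommRingCat.of R))) (c : (AlgSp.yon (Spec (CommRingCat.of R))).obj U ⟶ X.obj),
      Smooth U.hom ∧ AlgSp.RepWith @Etale c ∧ AlgSp.RepWith @Surjective c)
    (a : Ideal R) (ha : a ≠ ⊤)
    (x₀ : (AlgSp.yon (Spec (CommRingCat.of R))).obj (Over.mk (Spec.map (CommRingCat.ofHom (Ideal.Quotient.mk a)))) ⟶ X.obj) :
    ∃ x : (AlgSp.yon (Spec (CommRingCat.of R))).obj (Over.mk (𝟙 (Spec (CommRingCat.of R)))) ⟶ X.obj,
      (AlgSp.yon (Spec (CommRingCat.of R))).map (Over.homMk (Spec.map (CommRingCat.ofHom (Ideal.Quotient.mk a)))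
        (Category.comp_id _) : Over.mk (Spec.map (CommRingCat.ofHom (Ideal.Quotient.mk a))) ⟶ Over.mk (𝟙 _)) ≫ x = x₀ := by
  obtain ⟨U, c, hU, hc, hcs⟩ := hX
  haveI : Nontrivial (R ⧸ a) := Ideal.Quotient.nontrivial_iff.2 ha
  haveI : IsLocalRing (R ⧸ a) := IsLocalRing.of_surjective' (Ideal.Quotient.mk a) Ideal.Quotient.mk_surjective
  haveI := Groth.Agent.Lib.Unram.SmoothBranches.henselianLocalRing_quotient R a
  obtain ⟨Z, pZ, g₀, hZ, hp, hg₀⟩ := Groth.Agent.Lib.HensChart.exists_affine_chart X.property (R := R ⧸ a) x₀
  obtain ⟨W, q, r, sq⟩ := Groth.Agent.Lib.AlgSpace.exists_isPullback_yon X.property.diag pZ c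
  haveI : Etale q.left := Groth.Agent.Lib.AlgSpace.repWith_property hc sq.flip
  haveI : Surjective q.left := Groth.Agent.Lib.AlgSpace.repWith_property hcs sq.flip
  haveI : Etale r.left := Groth.Agent.Lib.AlgSpace.repWith_property hp sq
  haveI : Smooth Z.hom := by
    refine Groth.Agent.Lib.SourceDescent.Scheme.smooth.descends q.left Z.hom inferInstance inferInstance ?_
    rw [Over.w q, ← Over.w r]
    infer_instance
  haveI := Groth.Agent.Lib.Henselian.Basic.henselianRing_of_le (I := a) (J := IsLocalRing.maximalIdeal R)
    (IsLocalRing.le_maximalIdeal ha)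
  obtain ⟨s, hs, hs'⟩ := Groth.Agent.Lib.HensChart.exists_section (I := a) Z.hom g₀.left (Over.w g₀)
  let s' : Over.mk (𝟙 (Spec (CommRingCat.of R))) ⟶ Z := Over.homMk s hs
  refine ⟨(AlgSp.yon _).map s' ≫ pZ, ?_⟩
  rw [← Category.assoc, ← Functor.map_comp, ← hg₀]
  exact congrArg (fun m => (AlgSp.yon (Spec (CommRingCat.of R))).map m ≫ pZ) (Over.OverMorphism.ext hs')

end Groth.Agent.S18313
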