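import Groth.Statements.S18317
import Groth.Agent.Lib.TorsorSch.Field

set_option autoImplicit false
universe u
open CategoryTheory AlgebraicGeometry
open NonAbH1

namespace Groth.Agent.S18317

/-- Let K be a field and G a finite connected K-group scheme (G → Spec K finite, G connected as a
topological space). Then every G-torsor X over Spec K for the étale topology (a K-scheme with an
action of G whose shear map G ×_K X → X ×_K X is an isomorphism and which acquires a section over
the members of some étale covering of Spec K) is trivial: X has a K-point. -/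
theorem result (K : Type u) [Field K]
    (G X : Over (Spec (CommRingCat.of K))) [GrpObj G] [IsFinite G.hom] [ConnectedSpace G.left]
    (a : AlgGrp.Action G X) (h : NonAbH1.IsTorsorFor Scheme.etalePrecoverage a) :
    NonAbH1.HasSectionOver X (𝟙 (Spec (CommRingCat.of K))) := by
  obtain ⟨hp, R, hR, hs⟩ := h
  obtain ⟨𝒰, rfl⟩ := Precoverage.mem_iff_exists_zeroHypercover.mp
    (show R ∈ Scheme.precoverage @Etale _ from hR)
  obtain ⟨i, u, -⟩ := Scheme.Cover.exists_eq 𝒰
    (Classical.arbitrary (Spec (CommRingCat.of K)))
  obtain ⟨V, hV, hu, -⟩ := TopologicalSpace.Opens.isBasis_iff_nbhd.mp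
    (𝒰.X i).isBasis_affineOpens (TopologicalSpace.Opens.mem_top u)
  have : Nonempty (V : Scheme.{u}) := ⟨⟨u, hu⟩⟩
  have : IsAffine (V : Scheme.{u}) := hV
  have : Etale (𝒰.f i) := Scheme.Cover.map_prop (P := @Etale) 𝒰 i
  obtain ⟨s, hs⟩ := hs _ (Presieve.ofArrows.mk i)
  exact Groth.Agent.Lib.TorsorSch.Field.hasSectionOver_id_of_etale_point hp (Scheme.Opens.ι V ≫ 𝒰.f i)
    (Scheme.Opens.ι V ≫ s) (by rw [Category.assoc, hs])

end Groth.Agent.S18317
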