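import Groth.Statements.S18318
import Groth.Agent.Lib.TorsorSch.Field

set_option autoImplicit false
universe u
open CategoryTheory AlgebraicGeometry
open NonAbH1

namespace Groth.Agent.S18318

/-- Let K be a field of exponential characteristic p and G a finite connected K-group scheme. Then there
is an integer n ≥ 0 such that every G-torsor X over Spec K for the fppf topology (simply transitive
action, a section over the members of some fppf covering) becomes trivial over the purely
inseparable extension K^{1/p^n} of K: equivalently, X admits a K-morphism from Spec K regarded as a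
K-scheme through the n-th iterate x ↦ x^(p^n) of the Frobenius endomorphism of K. The source
moreover bounds n by p^n ≤ (#G)!; only the existence of a uniform n is stated here. In particular (p
= 1, characteristic zero) every such torsor is trivial. -/
theorem result (K : Type u) [Field K]
    (p : ℕ) [ExpChar K p] (G : Over (Spec (CommRingCat.of K))) [GrpObj G] [IsFinite G.hom] [ConnectedSpace G.left] :
    ∃ n : ℕ, ∀ (X : Over (Spec (CommRingCat.of K))) (a : AlgGrp.Action G X), NonAbH1.IsTorsorFor Scheme.fppfPrecoverage a →
      NonAbH1.HasSectionOver X (Spec.map (CommRingCat.ofHom (iterateFrobenius K p n))) := by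
  refine ⟨G.hom.finrank (Classical.arbitrary _), fun X a h ↦ ?_⟩
  set n := G.hom.finrank (Classical.arbitrary _)
  have h' := Groth.Agent.Lib.TorsorSch.Descent.isTorsorFor_mono
    Scheme.fppfPrecoverage_le_fpqcPrecoverage h
  have : IsFinite X.hom := Groth.Agent.Lib.TorsorSch.Basic.of_hom (P := @IsFinite) h' inferInstance
  have : Surjective X.hom := Groth.Agent.Lib.TorsorSch.Basic.of_hom (P := @Surjective) h'
    Groth.Agent.Lib.TorsorSch.Field.surjective_hom
  obtain ⟨x₀, -⟩ := X.hom.surjective (Classical.arbitrary _)
  have : Nonempty X.left := ⟨x₀⟩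
  obtain ⟨L, _, _, _, x, _, hx, hd⟩ := Groth.Agent.Lib.TorsorSch.Field.exists_field_point X
  have hpi : IsPurelyInseparable K L := by
    rw [isPurelyInseparable_iff_subsingleton_emb]
    refine ⟨fun σ τ ↦ ?_⟩
    let mkpt (σ : Field.Emb K L) :
        Over.mk (Spec.map (CommRingCat.ofHom (algebraMap K (AlgebraicClosure L)))) ⟶ X :=
      Over.homMk (Spec.map (CommRingCat.ofHom σ.toRingHom) ≫ x) (by
        rw [Category.assoc, hx, ← Spec.map_comp, ← CommRingCat.ofHom_comp]
        simp)
    have : IsReduced (Over.mk (Spec.map
        (CommRingCat.ofHom (algebraMap K (AlgebraicClosure L))))).left :=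
      inferInstanceAs (IsReduced (Spec (CommRingCat.of (AlgebraicClosure L))))
    have e : Spec.map (CommRingCat.ofHom σ.toRingHom) ≫ x =
        Spec.map (CommRingCat.ofHom τ.toRingHom) ≫ x :=
      congr(($(Groth.Agent.Lib.TorsorSch.Field.eq_of_isReduced h'.1 (mkpt σ) (mkpt τ))).left)
    have e' := Spec.map_injective ((cancel_mono x).mp e)
    exact AlgHom.coe_ringHom_injective congr(CommRingCat.Hom.hom $e')
  have hs : Nonempty (Over.mk (Spec.map (CommRingCat.ofHom (algebraMap K L)))).left :=
    inferInstanceAs (Nonempty (PrimeSpectrum L))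
  have hle : Module.finrank K L ≤ n := (hd (Classical.arbitrary _)).trans_eq
    (Groth.Agent.Lib.TorsorSch.Field.finrank_eq h'.1
      (Over.homMk (U := Over.mk (Spec.map (CommRingCat.ofHom (algebraMap K L)))) x hx) _)
  have key : ∀ b : L, ∃ c : K, algebraMap K L c = b ^ p ^ n := by
    intro b
    obtain rfl | hp := eq_or_ne p 1
    · have : CharZero K := by
        cases ‹ExpChar K 1› with
        | zero => infer_instance
        | prime hp => exact absurd hp Nat.not_prime_one
      obtain ⟨c, hc⟩ := IsPurelyInseparable.pow_mem K 1 b
      exact ⟨hc.choose, by simpa using hc.choose_spec⟩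
    · obtain ⟨m, hm, c, hc⟩ : ∃ m ≤ n, b ^ p ^ m ∈ (algebraMap K L).range := by
        refine ⟨IsPurelyInseparable.elemExponent K b, ?_,
          IsPurelyInseparable.elemReduct K b, IsPurelyInseparable.algebraMap_elemReduct_eq' K p b⟩
        refine le_trans (Nat.lt_pow_self (Nat.lt_of_le_of_ne ?_ (Ne.symm hp))).le ?_
        · exact Nat.one_le_iff_ne_zero.mpr fun h0 ↦ by
            have := expChar_pos K p
            omega
        rw [← IsPurelyInseparable.minpoly_natDegree_eq' K p b]
        exact (minpoly.natDegree_le b).trans hle
      exact ⟨c ^ p ^ (n - m), by rw [map_pow, hc, ← pow_mul, ← pow_add, Nat.add_sub_cancel' hm]⟩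
  choose f hf using key
  have : ExpChar L p := expChar_of_injective_ringHom (algebraMap K L).injective p
  let F : L →+* K :=
    { toFun := f
      map_one' := (algebraMap K L).injective (by simp [hf])
      map_mul' := fun b b' ↦ (algebraMap K L).injective (by simp [hf, mul_pow])
      map_zero' := (algebraMap K L).injective (by rw [hf, map_zero, zero_pow (expChar_pow_pos K p n).ne'])
      map_add' := fun b b' ↦ (algebraMap K L).injective
        (by simp [hf, add_pow_expChar_pow]) }
  refine ⟨Spec.map (CommRingCat.ofHom F) ≫ x, ?_⟩
  rw [Category.assoc, hx, ← Spec.map_comp, ← CommRingCat.ofHom_comp]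
  congr 2
  ext c
  apply (algebraMap K L).injective
  simp [F, hf, iterateFrobenius_def]

end Groth.Agent.S18318
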