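import Groth.Statements.S18319
import Groth.Agent.Lib.TorsorSch.Field

set_option autoImplicit false
universe u
open CategoryTheory AlgebraicGeometry
open NonAbH1

namespace Groth.Agent.S18319

/-- Let K be a perfect field and G a finite connected K-group scheme (G → Spec K finite, G connected).
Then every G-torsor X over Spec K for the fppf topology (simply transitive action, a section over
the members of some fppf covering of Spec K) is trivial: X has a K-point. -/
theorem result (K : Type u) [Field K]
    [PerfectField K] (G X : Over (Spec (CommRingCat.of K))) [GrpObj G] [IsFinite G.hom] [ConnectedSpace G.left]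
    (a : AlgGrp.Action G X) (h : NonAbH1.IsTorsorFor Scheme.fppfPrecoverage a) :
    NonAbH1.HasSectionOver X (𝟙 (Spec (CommRingCat.of K))) := by
  have h' := Groth.Agent.Lib.TorsorSch.Descent.isTorsorFor_mono
    Scheme.fppfPrecoverage_le_fpqcPrecoverage h
  have : IsFinite X.hom := Groth.Agent.Lib.TorsorSch.Basic.of_hom (P := @IsFinite) h' inferInstance
  have : Surjective X.hom := Groth.Agent.Lib.TorsorSch.Basic.of_hom (P := @Surjective) h'
    Groth.Agent.Lib.TorsorSch.Field.surjective_hom
  obtain ⟨x₀, -⟩ := X.hom.surjective (Classical.arbitrary _)
  have : Nonempty X.left := ⟨x₀⟩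
  obtain ⟨L, _, _, _, x, _, hx, -⟩ := Groth.Agent.Lib.TorsorSch.Field.exists_field_point X
  have : Algebra.IsSeparable K L := inferInstance
  have : Algebra.FormallyEtale K L := Algebra.FormallyEtale.of_isSeparable K L
  have : Algebra.FinitePresentation K L :=
    Algebra.FinitePresentation.of_finiteType.mp inferInstance
  have : Algebra.Etale K L := ⟨inferInstance, inferInstance⟩
  have : Etale (Spec.map (CommRingCat.ofHom (algebraMap K L))) := by
    rw [HasRingHomProperty.Spec_iff (P := @Etale)]
    exact RingHom.etale_algebraMap.mpr inferInstance
  exact Groth.Agent.Lib.TorsorSch.Field.hasSectionOver_id_of_etale_point h'.1 _ x hx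

end Groth.Agent.S18319
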