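import Groth.Statements.S18320

import Groth.Agent.Lib.GrpQ.FrobQuot
import Groth.Agent.Lib.GrpdQuot.ActionQuot
import Groth.Agent.Lib.GrpSch.Basic

set_option autoImplicit false
universe u
open CategoryTheory AlgebraicGeometry
open AlgGrp

open MonoidalCategory CartesianMonoidalCategory MonObj

namespace Groth.Agent.S18320

/-- Let K be a field and G a K-group scheme whose structure morphism is locally of finite type. Then G
is an extension of a smooth K-group scheme by a finite connected one: there are a K-group scheme H
with H → Spec K finite and H connected, a K-group scheme Q with Q → Spec K smooth, and homomorphisms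
i : H → G and v : G → Q with i a closed immersion, such that 1 → H → G → Q → 1 is exact for the fppf
topology (i followed by v is trivial, G with H acting through i is a pseudo-torsor over Q, and v
acquires sections over the members of some fppf covering of Q). -/
theorem result (K : Type u) [Field K]
    (G : Over (Spec (CommRingCat.of K))) [GrpObj G] [LocallyOfFiniteType G.hom] :
    ∃ (H Q : Over (Spec (CommRingCat.of K))) (_ : GrpObj H) (_ : GrpObj Q) (i : H ⟶ G) (v : G ⟶ Q),
      IsFinite H.hom ∧ ConnectedSpace H.left ∧ Smooth Q.hom ∧ IsClosedImmersion i.left ∧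
        NonAbH1.IsExactSeq Scheme.fppfPrecoverage i v := by
  obtain ⟨p, hp⟩ := CharP.exists K
  rcases CharP.char_is_prime_or_zero K p with hpr | rfl
  · have : Fact p.Prime := ⟨hpr⟩
    obtain ⟨H, Q, _, _, i, v, hi, hv, hfin, hcon, hsm, hcl, hk, hs, hf, hfp, hpb⟩ :=
      Lib.GrpQ.FrobQuot.exists_kernel_smooth_quotient p G
    exact ⟨H, Q, inferInstance, inferInstance, i, v, hfin, hcon, hsm, hcl, hi, hv,
      Lib.GrpQ.kernel_comp hk, hpb, Lib.GrpdQuot.isLocallyTrivialFor_of_fppfCover v.left⟩
  · have : CharZero K := CharP.charP_to_charZero K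
    have hsm : Smooth G.hom := H63.GrpSmooth.smooth_of_charZero G
    have : IsSeparated G.hom := Lib.GrpSch.isSeparated_of_field G
    have hcl : IsClosedImmersion η[G].left := Lib.GrpSch.isClosedImmersion_η G
    have hc : ConnectedSpace ↥(𝟙_ (Over (Spec (CommRingCat.of K)))).left :=
      inferInstanceAs (ConnectedSpace ↥(Spec (CommRingCat.of K)))
    have hfin : IsFinite (𝟙_ (Over (Spec (CommRingCat.of K)))).hom := inferInstanceAs (IsFinite (𝟙 _))
    have h1 : (G ◁ η[G]) ≫ μ[G] = fst G (𝟙_ _) := by rw [MonObj.mul_one, rightUnitor_hom]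
    have hiso : IsIso (fst G (𝟙_ (Over (Spec (CommRingCat.of K))))) := by
      rw [← rightUnitor_hom]; infer_instance
    refine ⟨𝟙_ _, G, inferInstance, inferInstance, η[G], 𝟙 G, hfin, hc, hsm, hcl, inferInstance, inferInstance,
      ?_, ?_, ?_⟩
    · rw [Category.comp_id, Hom.one_def, toUnit_unique (toUnit _) (𝟙 _), Category.id_comp]
    · rw [h1]
      exact IsPullback.of_vert_isIso ⟨rfl⟩
    · exact Lib.GrpdQuot.isLocallyTrivialFor_of_fppfCover (𝟙 G : G ⟶ G).left

end Groth.Agent.S18320
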