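import Groth.Statements.S18329
import Groth.Agent.Lib.Hopf.SepTensor
import Groth.Agent.Lib.Hopf.Irred
import Mathlib.RingTheory.HopfAlgebra.Convolution

set_option autoImplicit false
universe u
open TensorProduct
open SGA3

namespace Groth.Agent.S18329

/-- Let k be an algebraically closed field of prime characteristic p and A a commutative Hopf algebra
over k, the coordinate ring of an affine k-group G, quotient groups of G being read as
sub-Hopf-algebras of A (subalgebras stable under comultiplication and antipode). Let B₀ be the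
subalgebra of elements of A that are separable over k (its spectrum is the group of connected
components π₀(G)) and let C be the largest cocommutative sub-Hopf-algebra of A (its spectrum is the
largest commutative quotient group G_ab). Then B₀ ⊓ C, whose spectrum is π₀(G_ab), is the largest
cocommutative sub-Hopf-algebra of A contained in B₀, whose spectrum is the largest commutative
quotient of π₀(G): the canonical homomorphism from π₀(G_ab) to (π₀(G))_ab is an isomorphism. (The
abelianization is rendered through its universal property among affine quotient groups, as the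
largest cocommutative sub-Hopf-algebra, rather than as the quotient by the derived subgroup.) -/
theorem result (k A : Type u) [Field k] [IsAlgClosed k]
    (p : ℕ) [Fact p.Prime] [CharP k p] [CommRing A] [HopfAlgebra k A]
    (B₀ : Subalgebra k A) (hB₀ : ∀ a : A, a ∈ B₀ ↔ IsSeparable k a)
    (C : Subalgebra k A) (hC : SGA3.IsHopfSubalgebra k A C)
    (hCc : ∀ c ∈ C, TensorProduct.comm k A A (Coalgebra.comul c) = Coalgebra.comul c)
    (hCmax : ∀ D : Subalgebra k A, SGA3.IsHopfSubalgebra k A D →
      (∀ d ∈ D, TensorProduct.comm k A A (Coalgebra.comul d) = Coalgebra.comul d) → D ≤ C) :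
    IsGreatest {D : Subalgebra k A | SGA3.IsHopfSubalgebra k A D ∧
      (∀ d ∈ D, TensorProduct.comm k A A (Coalgebra.comul d) = Coalgebra.comul d) ∧ D ≤ B₀}
      (B₀ ⊓ C) := by
  refine ⟨⟨⟨?_, ?_⟩, fun d hd => hCc d hd.2, inf_le_left⟩,
    fun D ⟨hD, hDc, hDB⟩ => le_inf hDB (hCmax D hD hDc)⟩
  · intro b hb
    have h1 : ∀ φ : A →ₗ[k] k,
        Groth.Agent.Lib.Hopf.ComodRing.slice φ (Coalgebra.comul (R := k) b) ∈ B₀ := fun φ =>
      Groth.Agent.Lib.Hopf.ComodRing.slice_mem_of_mem
        (Groth.Agent.Lib.Hopf.SepTensor.mem_tensorRight p (fun a ha => (hB₀ a).2 ha)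
          (Groth.Agent.Lib.Hopf.SepTensor.isSeparable_map (Bialgebra.comulAlgHom k A)
            ((hB₀ b).1 hb.1))) φ
    have h2 : Coalgebra.comul (R := k) b ∈
        Groth.Agent.Lib.Hopf.ComodRing.tensorRight A (Subalgebra.toSubmodule C) := by
      obtain ⟨z, hz⟩ := hC.1 b hb.2
      rw [← hz]
      clear hz
      induction z using TensorProduct.induction_on with
      | zero => simp
      | tmul x y =>
          rw [TensorProduct.map_tmul]
          exact Groth.Agent.Lib.Hopf.ComodRing.tmul_mem_tensorRight
            (U := Subalgebra.toSubmodule C) (v := (x : A)) x.2 (y : A)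
      | add x y hx hy => rw [map_add]; exact add_mem hx hy
    have h3 : Coalgebra.comul (R := k) b ∈
        Groth.Agent.Lib.Hopf.ComodRing.tensorRight A (Subalgebra.toSubmodule (B₀ ⊓ C)) :=
      Groth.Agent.Lib.Hopf.ComodRing.mem_tensorRight_of_slices fun φ =>
        ⟨h1 φ, Groth.Agent.Lib.Hopf.ComodRing.slice_mem_of_mem h2 φ⟩
    obtain ⟨w, hw⟩ := Groth.Agent.Lib.Hopf.Irred.mem_range_map_subtype h3
      ((hCc b hb.2).symm ▸ h3)
    let e : Subalgebra.toSubmodule (B₀ ⊓ C) →ₗ[k] ↥(B₀ ⊓ C) :=
      { toFun := fun x => ⟨x.1, x.2⟩, map_add' := fun _ _ => rfl, map_smul' := fun _ _ => rfl }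
    refine ⟨TensorProduct.map e e w, ?_⟩
    rw [← hw]
    clear hw
    induction w using TensorProduct.induction_on with
    | zero => rw [map_zero, map_zero]; exact (map_zero _).symm
    | tmul x y =>
        simp only [TensorProduct.map_tmul]
        rfl
    | add x y hx hy => simp only [map_add, hx, hy]
  · exact fun b hb => ⟨(hB₀ _).2 (Groth.Agent.Lib.Hopf.SepTensor.isSeparable_map
      (HopfAlgebra.antipodeAlgHom k A) ((hB₀ b).1 hb.1)), hC.2 b hb.2⟩

end Groth.Agent.S18329
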