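import Groth.Statements.S1833
import Groth.Agent.Lib.Cyc.LengthFormula

set_option autoImplicit false
universe u v
open Pointwise
open CycAlg

namespace Groth.Agent.S1833

/-- Let R be Noetherian local, M a finite R-module whose support has dimension at most 1, and x an
element with M/xM supported in dimension ≤ 0. Then length(M/xM) = length(ker(x : M → M)) + Σ_q
ord_{R/q}(x) · length_{R_q}(M_q), the sum running over the primes q of the support other than the
maximal ideal (stated in ℕ∞; all terms are finite under the hypotheses). -/
theorem result (R : Type u) [CommRing R] [IsNoetherianRing R] [IsLocalRing R] (M : Type u) [AddCommGroup M] [Module R M] [Module.Finite R M] (x : R) (h1 : Module.supportDim R M ≤ 1) (h0 : Module.supportDim R (M ⧸ x • (⊤ : Submodule R M)) ≤ 0) : Module.length R (M ⧸ x • (⊤ : Submodule R M)) = Module.length R (LinearMap.ker (LinearMap.lsmul R M x)) + ∑ᶠ (p : PrimeSpectrum R) (_ : p ∈ Module.support R M ∧ p.asIdeal ≠ IsLocalRing.maximalIdeal R), Ring.ord (R ⧸ p.asIdeal) (Ideal.Quotient.mk p.asIdeal x) * Module.length (Localization.AtPrime p.asIdeal) (LocalizedModule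 p.asIdeal.primeCompl M) := by
  classical
  have h := Groth.Agent.Lib.Cyc.LengthFormula.hyp_of_supportDim h1 h0
  rw [Groth.Agent.Lib.Cyc.LengthFormula.length_quot_eq h]
  congr 1
  refine finsum_congr fun p => ?_
  rw [finsum_eq_if, finsum_eq_if]
  by_cases hp : p ∈ Module.support R M
  · simp only [hp, true_and]; rfl
  · simp [hp, Groth.Agent.Lib.Cyc.LengthFormula.term_eq_zero M x p hp]

end Groth.Agent.S1833
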