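import Groth.Statements.S1834
import Groth.Agent.Lib.Tame.Exist

set_option autoImplicit false
universe u
open CycAlg

namespace Groth.Agent.S1834

/-- Let R be a Noetherian local ring of dimension 1 and a, b nonzerodivisors. There is a finite
extension ring R ⊆ R' with R'/R killed by a power of the maximal ideal, and nonzerodivisors t, a',
b' of R' with a = t a', b = t b' and (a', b') the unit ideal of R'. -/
theorem result (R : Type u) [CommRing R] [IsNoetherianRing R] [IsLocalRing R] (hR : ringKrullDim R = 1) (a b : R) (ha : a ∈ nonZeroDivisors R) (hb : b ∈ nonZeroDivisors R) : ∃ (R' : Type u) (_ : CommRing R') (_ : Algebra R R'), CycAlg.IsFinExt R R' (IsLocalRing.maximalIdeal R) ∧ ∃ t a' b' : R', t ∈ nonZeroDivisors R' ∧ a' ∈ nonZeroDivisors R' ∧ b' ∈ nonZeroDivisors R' ∧ algebraMap R R' a = t * a' ∧ algebraMap R R' b = t * b' ∧ Ideal.span {a', b'} = ⊤ := by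
  have : Ring.KrullDimLE 1 R := Ring.krullDimLE_iff.2 hR.le
  by_cases hu : IsUnit (a * b)
  · refine ⟨R, inferInstance, Algebra.id R, ⟨fun x y h => h, Module.Finite.self R, 0, fun r _ x => ⟨r • x, rfl⟩⟩,
      1, a, b, one_mem _, ha, hb, (one_mul a).symm, (one_mul b).symm, ?_⟩
    exact Ideal.eq_top_of_isUnit_mem _ (Ideal.subset_span (by simp)) (isUnit_of_mul_isUnit_left hu)
  · have hc : a * b ∈ nonZeroDivisors R := mul_mem ha hb
    have hau : IsUnit (algebraMap R (Localization.Away (a * b)) a) := Lib.Tame.Exist.isUnit_of_dvd (dvd_mul_right a b)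
    have hbu : IsUnit (algebraMap R (Localization.Away (a * b)) b) := Lib.Tame.Exist.isUnit_of_dvd (dvd_mul_left b a)
    let B₀ : Subalgebra R (Localization.Away (a * b)) := ⊥
    have hB₀ : B₀.toSubmodule.FG := by
      rw [Algebra.toSubmodule_bot, Submodule.one_eq_span]; exact Submodule.fg_span_singleton _
    obtain ⟨B', t, a', b', -, hB', hat, hbt, hcop⟩ :=
      Lib.Tame.Blowup.exists_step hc hu hB₀ (algebraMap R B₀ a) (algebraMap R B₀ b) hau
    have h1 : IsUnit ((t : Localization.Away (a * b)) * a') := hat ▸ hau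
    have h2 : IsUnit ((t : Localization.Away (a * b)) * b') := hbt ▸ hbu
    exact ⟨B', inferInstance, inferInstance, Lib.Tame.Lattice.isFinExt hc hu hB', t, a', b',
      Lib.Tame.Lattice.mem_nonZeroDivisors_L hc (isUnit_of_mul_isUnit_left h1),
      Lib.Tame.Lattice.mem_nonZeroDivisors_L hc (isUnit_of_mul_isUnit_right h1),
      Lib.Tame.Lattice.mem_nonZeroDivisors_L hc (isUnit_of_mul_isUnit_right h2),
      Subtype.ext hat, Subtype.ext hbt, hcop⟩

end Groth.Agent.S1834
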