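import Groth.Statements.S18340
import Groth.Agent.H60.FPColim
import Groth.Agent.H60.GRingField
import Groth.Agent.Lib.Smoothing.ArtinApprox
import Mathlib.Algebra.Category.CommAlgCat.Basic
-- import your own Groth.Agent.* helpers here

set_option autoImplicit false
universe u
open ArtinApx

namespace Groth.Agent.S18340

open CategoryTheory in
private theorem transfer {D : Type*} [Category D] (F : D ⥤ Type u) {A1 B T T1 C0 C1 : D}
    (a : A1 ⟶ B) (f : B ⟶ T) (g : A1 ⟶ T1) (v : T1 ⟶ T) (c : C0 ⟶ C1) (d : C1 ⟶ T1) (e : C0 ⟶ T)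
    (w : T ⟶ T1) (h1 : a ≫ f = g ≫ v) (h2 : c ≫ d = e ≫ w) (h3 : w ≫ v = 𝟙 T)
    (η : F.obj A1) (ξ : F.obj C0) (h : F.map g η = F.map d (F.map c ξ)) :
    F.map f (F.map a η) = F.map e ξ := by
  rw [← ConcreteCategory.comp_apply, ← F.map_comp, h1, F.map_comp, ConcreteCategory.comp_apply, h]
  simp only [← ConcreteCategory.comp_apply, ← F.map_comp]
  rw [h2, Category.assoc, h3, Category.comp_id]

open CategoryTheory in
/-- Let k be an algebraically closed field, A a finitely generated k-algebra with a maximal ideal m (a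
k-point of Spec A), F a functor from commutative A-algebras to sets which preserves filtered
colimits, and ξ an element of F(Â), Â the m-adic completion of A. Then for every natural number N
there are an étale A-algebra A′, a surjective A-algebra homomorphism ψ : A′ → A/m^(N+1) and an
element ξ′ of F(A′) whose image under F(ψ) is the image of ξ under F of the canonical map Â →
A/m^(N+1). (Affine form of the statement for limit-preserving functors on schemes over a finite-type
k-scheme S with a k-point s: Spec A′ is the étale neighbourhood of s, the kernel of ψ is the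
(N+1)-st power of the maximal ideal of the point above s, and the equation says that ξ′ and ξ agree
to order N.) -/
theorem result (k : Type u) [Field k] [IsAlgClosed k]
    (A : Type u) [CommRing A] [Algebra k A] [Algebra.FiniteType k A] (m : Ideal A) [m.IsMaximal]
    (F : CommAlgCat.{u} A ⥤ Type u) [Limits.PreservesFilteredColimits F]
    (ξ : F.obj (CommAlgCat.of A (AdicCompletion m A))) (N : ℕ) :
    ∃ (A' : Type u) (_ : CommRing A') (_ : Algebra A A') (_ : Algebra.Etale A A')
      (ψ : A' →ₐ[A] (A ⧸ m ^ (N + 1))) (_ : Function.Surjective ψ) (ξ' : F.obj (CommAlgCat.of A A')),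
      F.map (CommAlgCat.ofHom ψ) ξ' =
        F.map (CommAlgCat.ofHom (AdicCompletion.evalₐ m (N + 1))) ξ := by
  classical
  haveI : IsNoetherianRing A := Algebra.FiniteType.isNoetherianRing k A
  let L := Localization.AtPrime m
  have hG : _root_.CAlg.IsGRing L :=
    Groth.Agent.Lib.Excellent.GRingStability.isGRing_of_isLocalization m.primeCompl
      (Groth.Agent.H60.GRingField.isGRing k A)
  haveI : IsNoetherianRing L := hG.1
  let M := IsLocalRing.maximalIdeal L
  let C := AdicCompletion m A
  let D := AdicCompletion M L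
  let q := fun n => IsLocalization.AtPrime.equivQuotMaximalIdealPow m L n
  let fn : ∀ n, C →ₐ[A] (L ⧸ M ^ n) := fun n => (q n).toAlgHom.comp (AdicCompletion.evalₐ m n)
  let θ : C →ₐ[A] D := AdicCompletion.liftAlgHom M fn fun {a b} hle => AlgHom.ext fun x => by
    obtain ⟨s, rfl⟩ := AdicCompletion.mk_surjective m A x
    simp only [fn, AlgHom.comp_apply, AdicCompletion.evalₐ_mk]
    change Ideal.Quotient.factor (Ideal.pow_le_pow_right hle) (q b (Ideal.Quotient.mk _ (s b))) =
      q a (Ideal.Quotient.mk _ (s a))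
    rw [IsLocalization.AtPrime.equivQuotMaximalIdealPow_apply_mk,
      IsLocalization.AtPrime.equivQuotMaximalIdealPow_apply_mk, Ideal.Quotient.factor_mk,
      ← IsLocalization.AtPrime.equivQuotMaximalIdealPow_apply_mk m L a (s b),
      ← IsLocalization.AtPrime.equivQuotMaximalIdealPow_apply_mk m L a (s a)]
    exact congrArg _ (AdicCompletion.Ideal.mk_eq_mk m hle s)
  let e : C →ₐ[A] A ⧸ m ^ (N + 1) := AdicCompletion.evalₐ m (N + 1)
  let eD : D →ₐ[A] A ⧸ m ^ (N + 1) :=
    (q (N + 1)).symm.toAlgHom.comp ((AdicCompletion.evalₐ M (N + 1)).restrictScalars A)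
  have hθ : ∀ x, eD (θ x) = e x := fun x => by
    change (q (N + 1)).symm (AdicCompletion.evalₐ M (N + 1) (θ x)) = _
    rw [AdicCompletion.evalₐ_liftAlgHom]
    exact (q (N + 1)).symm_apply_apply _
  let E := commAlgCatEquivUnder (CommRingCat.of A)
  let u := fun (X : CommAlgCat.{u} A) => E.unitIso.app X
  obtain ⟨A', _, _, het, ψ, η, hη⟩ := Groth.Agent.H60.FPColim.exists_approx (E.inverse ⋙ F)
    (fun J _ _ => inferInstance) e (F.map (u (CommAlgCat.of A C)).hom ξ) (fun n r P a ha => by
      haveI : IsScalarTower A L D := IsScalarTower.of_algebraMap_eq fun _ => rfl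
      obtain ⟨R', _, _, het, ψ, _, _, _, _, _, b, hb, hab⟩ :=
        Groth.Agent.Lib.Smoothing.ArtinApprox.exists_etale_solution m L hG P (fun i => θ (a i))
          (fun j => by rw [← MvPolynomial.comp_aeval_apply, ha j, map_zero]) (N + 1)
      refine ⟨R', inferInstance, inferInstance, het, eD.comp ψ, b, hb, fun i => ?_⟩
      have hker : (M ^ (N + 1)).map (algebraMap L D) ≤ RingHom.ker eD :=
        Ideal.map_le_iff_le_comap.2 fun r hr => by
          rw [Ideal.mem_comap, RingHom.mem_ker]
          change (q (N + 1)).symm (AdicCompletion.evalₐ M (N + 1) (algebraMap L D r)) = 0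
          rw [AlgHom.commutes, Ideal.Quotient.algebraMap_eq, Ideal.Quotient.eq_zero_iff_mem.2 hr,
            map_zero]
      rw [← hθ, ← sub_eq_zero]
      change eD (θ (a i)) - eD (ψ (b i)) = 0
      rw [← map_sub]
      exact hker (hab i))
  refine ⟨A', inferInstance, inferInstance, het, ψ, fun x => ?_,
    F.map (u (CommAlgCat.of A A')).inv η, ?_⟩
  · obtain ⟨r, rfl⟩ := Ideal.Quotient.mk_surjective x
    exact ⟨algebraMap A A' r, ψ.commutes r⟩
  · have h1 : (u (CommAlgCat.of A A')).inv ≫ CommAlgCat.ofHom ψ =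
        E.inverse.map (Groth.Agent.H60.FPColim.hom ψ) ≫ (u (CommAlgCat.of A (A ⧸ m ^ (N + 1)))).inv :=
      (E.unitIso.inv.naturality (CommAlgCat.ofHom ψ)).symm
    have h2 : (u (CommAlgCat.of A C)).hom ≫ E.inverse.map (Groth.Agent.H60.FPColim.hom e) =
        CommAlgCat.ofHom e ≫ (u (CommAlgCat.of A (A ⧸ m ^ (N + 1)))).hom :=
      (E.unitIso.hom.naturality (CommAlgCat.ofHom e)).symm
    exact transfer F _ _ _ _ _ _ _ _ h1 h2 (Iso.hom_inv_id _) η ξ hη

end Groth.Agent.S18340
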