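import Groth.Statements.S18342
import Groth.Agent.Lib.CurveBundle.HomDeg
import Groth.Agent.Lib.CurveBundle.Ctx
import Groth.Agent.Lib.CurveFF.Consts

set_option autoImplicit false
universe u
open CategoryTheory CategoryTheory.Limits AlgebraicGeometry
open VBCurve

namespace Groth.Agent.S18342

/-- Let k be an algebraically closed field of characteristic zero and X a smooth proper geometrically
connected curve over k (topological dimension one) of genus g ≥ 2. Let E be a finite locally free
O_X-module of rank r ≥ 1 and degree 0, and F a finite locally free O_X-module of rank n ≥ 1 and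
degree n(g − 1), degrees being χ − rank · χ(O_X). If every morphism E → F is zero, then E is
slope-semistable: deg G · r ≤ 0 for every finite locally free submodule G of E of positive rank. The
published statement concerns quasi-parabolic bundles of rank r with trivial determinant and flags at
a finite set of points, and says that for n ≥ ⌈r²/4⌉ the closed substack of bundles that are not
semistable for a given system of weights is the base locus of the parabolic theta functions of order
n, these being attached to semistable F; this row is one inclusion of it (a bundle at which the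
theta function of some F does not vanish is semistable) for a single bundle with no parabolic
points, for every n ≥ 1 and every F of the stated rank and degree, with degree 0 in place of trivial
determinant, and with the vanishing of Hom(E, F) in place of the vanishing of both Hom(E, F) and
Ext^1(E, F). -/
theorem result (k : Type u) [Field k] [IsAlgClosed k] [CharZero k]
    (X : Scheme.{u}) [X.Over (Spec (CommRingCat.of k))]
    [IsProper (X ↘ Spec (CommRingCat.of k))] [Smooth (X ↘ Spec (CommRingCat.of k))]
    [GeometricallyConnected (X ↘ Spec (CommRingCat.of k))] (hdim : topologicalKrullDim ↥X = 1)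
    (g : ℕ) (hg : Curv2.genus k X = g) (hg2 : 2 ≤ g)
    (E : X.Modules) (r : ℕ) (hr : 0 < r) (hE : FlatMod.IsFinLocFreeOfRank r E)
    (hEdeg : Curv2.deg k X E r = 0)
    (F : X.Modules) (n : ℕ) (hn : 0 < n) (hF : FlatMod.IsFinLocFreeOfRank n F)
    (hFdeg : Curv2.deg k X F n = (n : ℤ) * ((g : ℤ) - 1))
    (hhom : ∀ φ : E ⟶ F, φ = 0) :
    ModFun.IsSlopeSemistable k X E r := by
  have hC := Groth.Agent.Lib.CurveBundle.Ctx.ofConnected k hdim
  have := hC.integral
  have := hC.locNoeth
  have h0 := Groth.Agent.Lib.CurveFF.finrank_h0_eq_one k X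
  have hO : Curv2.euler k X (Coh.structureModule X) = 1 - (g : ℤ) :=
    hg ▸ Groth.Agent.Lib.Curves.Degree.euler_structureModule hdim.le h0
  obtain ⟨hEc, hET, eE, edE⟩ := Groth.Agent.Lib.CurveBundle.Slope.bundle (k := k) hE
  obtain ⟨hFc, -, eF, edF⟩ := Groth.Agent.Lib.CurveBundle.Slope.bundle (k := k) hF
  refine Groth.Agent.Lib.CurveBundle.Slope.isSlopeSemistable hE fun G i hi hG => ?_
  rw [← edE, hEdeg, zero_mul]
  obtain ⟨G', j, a, hj, ha, -, hG', hgr, hT, hc⟩ := Groth.Agent.Lib.CurveBundle.Saturation.exists_saturation i hG hEc
  have hgr' : Groth.Agent.Lib.CurveBundle.Degree.gr k G' = Groth.Agent.Lib.CurveBundle.Degree.gr k G := hgr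
  have hle := Groth.Agent.Lib.CurveBundle.Degree.dg_le_of_mono k a hG hG' hgr'.symm
  refine mul_nonpos_of_nonpos_of_nonneg (hle.trans ?_) (Int.natCast_nonneg _)
  obtain ⟨-, hgQ, hdQ⟩ := Groth.Agent.Lib.CurveBundle.Degree.cokernel_ses k j hG' hEc
  rw [← edE, hEdeg] at hdQ
  by_contra hlt
  rw [not_le] at hlt
  have hQb := Groth.Agent.Lib.CurveBundle.Degree.rank_gr k hc hT
  obtain ⟨f, hf⟩ := Groth.Agent.Lib.CurveBundle.HomDeg.exists_hom_ne_zero (k := k) hQb hF (by
    rw [hO, ← edF, hFdeg]
    have : (0 : ℤ) < n := by exact_mod_cast hn
    nlinarith)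
  exact hf (by rw [← cancel_epi (cokernel.π j), hhom (cokernel.π j ≫ f), comp_zero])

end Groth.Agent.S18342
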