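import Groth.Statements.S18343
import Groth.Agent.Lib.Ideal.Comap

set_option autoImplicit false
set_option linter.style.haveILetI false
universe u
open CategoryTheory CategoryTheory.Limits AlgebraicGeometry
open MultCurve

namespace Groth.Agent.S18343

/-- Suppose C is a ribbon on the reduced scheme D via the closed immersion i : D ⟶ C (meaning the ideal
of D squares to zero and is locally generated by a single section z whose annihilator lies in (z)),
and consider an arbitrary morphism of schemes f : C ⟶ X. The morphism f is a closed immersion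
exactly when two things hold: the composite i ≫ f, i.e. f restricted to D, is a closed immersion,
and pulling back along f the ideal of the scheme-theoretic image of D in X yields the entire ideal
of D in C. This second requirement amounts to surjectivity of the map α_f that sends the pullback of
the conormal sheaf of the image of D in X onto the conormal bundle of D in C. (The statement is
given for arbitrary schemes and any morphism f; the published version assumes all schemes are of
finite type over a field and D is connected, but the proof relies on neither assumption.) -/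
theorem result (D C X : Scheme.{u}) (i : D ⟶ C)
    (hR : MultCurve.IsRibbon i) (f : C ⟶ X) :
    IsClosedImmersion f ↔ (IsClosedImmersion (i ≫ f) ∧ (i ≫ f).ker.comap f = i.ker) := by
  obtain ⟨⟨hi, hsq, -⟩, -⟩ := hR
  haveI := hi
  have hsurj : Function.Surjective i := by
    intro c
    have h1 : (i.ker ^ 2).support = (⊤ : TopologicalSpace.Closeds C) := by
      rw [hsq, Scheme.IdealSheafData.support_bot]
    have h2 : c ∈ (i.ker.support : Set C) := by
      rw [Scheme.IdealSheafData.support_pow _ _ (by norm_num)] at h1
      rw [h1]; trivial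
    rw [Scheme.Hom.support_ker] at h2
    have hcl : IsClosed (Set.range i) := i.isClosedEmbedding.isClosed_range
    exact hcl.closure_subset h2
  constructor
  · intro hf
    haveI := hf
    refine ⟨inferInstance, ?_⟩
    have sq : IsPullback (𝟙 D) i (i ≫ f) f := by
      refine IsPullback.of_isLimit' ⟨by simp⟩ ?_
      exact PullbackCone.IsLimit.mk _ (fun s => s.fst) (fun s => Category.comp_id _)
        (fun s => by rw [← cancel_mono f, Category.assoc, ← s.condition])
        (fun s m hm _ => by simpa using hm)
    rw [← Scheme.IdealSheafData.ker_fst_of_isClosedImmersion (i ≫ f) f]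
    have e : sq.flip.isoPullback.hom ≫ pullback.fst f (i ≫ f) = i := sq.flip.isoPullback_hom_fst
    conv_rhs => rw [← e]
    rw [Scheme.Hom.ker_comp_of_isIso]
  · rintro ⟨hif, hker⟩
    haveI := hif
    let e : D ≃ₜ C := i.isClosedEmbedding.toIsEmbedding.toHomeomorphOfSurjective hsurj
    have hfe : ⇑f = ⇑(i ≫ f) ∘ e.symm := funext fun c => by
      conv_lhs => rw [← e.apply_symm_apply c]
      rfl
    have hemb : Topology.IsClosedEmbedding ⇑f := by
      rw [hfe]
      exact (i ≫ f).isClosedEmbedding.comp e.symm.isClosedEmbedding
    haveI : IsAffineHom f := isAffineHom_of_isInducing f hemb.isInducing hemb.isClosed_range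
    rw [isClosedImmersion_iff_isAffineHom]
    refine ⟨inferInstance, fun U hU b => ?_⟩
    let V : C.affineOpens := ⟨f ⁻¹ᵁ U, hU.preimage f⟩
    have hI : i.ker.ideal V = Ideal.map (f.appLE U V.1 le_rfl).hom ((i ≫ f).ker.ideal ⟨U, hU⟩) := by
      rw [← hker]
      exact Lib.Ideal.Comap.ideal_comap f _ ⟨U, hU⟩ V le_rfl
    have hα : (f.appLE U V.1 le_rfl) = f.app U := Scheme.Hom.appLE_eq_app _
    rw [hα] at hI
    have hsurjD : Function.Surjective ((i ≫ f).app U).hom := (i ≫ f).app_surjective U hU
    have hmod : ∀ x : Γ(C, f ⁻¹ᵁ U), ∃ a, x - (f.app U).hom a ∈ i.ker.ideal V := by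
      intro x
      obtain ⟨a, ha⟩ := hsurjD ((i.app (f ⁻¹ᵁ U)).hom x)
      refine ⟨a, ?_⟩
      rw [Scheme.Hom.ker_apply, RingHom.mem_ker, map_sub, ← ha]
      exact sub_eq_zero.2 rfl
    have hzero : ∀ x y, x ∈ i.ker.ideal V → y ∈ i.ker.ideal V → x * y = 0 := by
      intro x y hx hy
      have h2 : (i.ker ^ 2).ideal V = ⊥ := by rw [hsq, Scheme.IdealSheafData.ideal_bot]; rfl
      rw [Scheme.IdealSheafData.ideal_pow, Pi.pow_apply, pow_two] at h2
      exact Ideal.mem_bot.1 (h2 ▸ Ideal.mul_mem_mul hx hy)
    have hrange : ∀ x ∈ i.ker.ideal V, x ∈ (f.app U).hom.range := by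
      intro x hx
      rw [hI] at hx
      obtain ⟨n, c, v, rfl⟩ := Submodule.mem_span_set'.1 hx
      refine Subring.sum_mem _ fun k _ => ?_
      obtain ⟨j, hj, hjv⟩ := (v k).2
      obtain ⟨a, ha⟩ := hmod (c k)
      refine ⟨a * j, ?_⟩
      have hjI : (f.app U).hom j ∈ i.ker.ideal V := hI ▸ Ideal.mem_map_of_mem _ hj
      have h0 := hzero _ _ ha hjI
      rw [sub_mul, sub_eq_zero] at h0
      rw [map_mul, ← h0, hjv]
      rfl
    obtain ⟨a, ha⟩ := hmod b
    obtain ⟨j, hj⟩ := hrange _ ha
    exact ⟨a + j, by rw [map_add, hj]; abel⟩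

end Groth.Agent.S18343
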