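import Groth.Statements.S18344
import Groth.Agent.Lib.Conormal92.Affine
import Groth.Agent.H95.Frame.Basis
import Groth.Agent.Lib.TensorMod.Gen

set_option autoImplicit false
universe u
open CategoryTheory CategoryTheory.Limits AlgebraicGeometry
open MultCurve

namespace Groth.Agent.S18344

section Helpers

open OmegaSh Groth.Agent.Lib Groth.Agent.Lib.Conormal92.Affine
open Groth.Agent.Lib.TensorMod.Dual (rs rf)

variable {Z X : Scheme.{u}} {i : Z ⟶ X} [IsClosedImmersion i] {V : X.Opens}

theorem conormalSect_eq_zero (h : IsChart i V) (h2 : (RingHom.ker (i.app V).hom) ^ 2 = ⊥)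
    (k : Γ(ClSub.idealMod i.ker, V)) : conormalSect i V k = 0 ↔ k = 0 := by
  refine ⟨fun hk => ?_, fun hk => by rw [hk, map_zero]⟩
  have := (conormalSect_spec h).2 k |>.1 hk
  rw [h2, Submodule.mem_bot] at this
  exact Kaehler.Conormal.idealSect_injective i V (this.trans (map_zero _).symm)

theorem isGen_of_principal (h : IsChart i V) (h2 : (RingHom.ker (i.app V).hom) ^ 2 = ⊥)
    (z : Γ(X, V)) (hz : RingHom.ker (i.app V).hom = Ideal.span {z})
    (ha : ∀ a, a * z = 0 → a ∈ RingHom.ker (i.app V).hom) :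
    ∃ e, TensorMod.Gen.IsGen (Omega.conormal i) (i ⁻¹ᵁ V) e := by
  obtain ⟨k₀, hk₀⟩ := (exists_idealSect_iff h.affine z).2 (hz ▸ Ideal.mem_span_singleton_self z)
  let e := conormalSect i V k₀
  let L := LinearMap.toSpanSingleton Γ(Z, i ⁻¹ᵁ V) Γ(Omega.conormal i, i ⁻¹ᵁ V) e
  have hL : Function.Bijective L := by
    refine ⟨(injective_iff_map_eq_zero L).2 fun c hc => ?_, fun y => ?_⟩
    · obtain ⟨r, rfl⟩ := h.surj c
      change i.app V r • e = 0 at hc
      rw [← Kaehler.Conormal.conormalSect_smul i V r k₀, conormalSect_eq_zero h h2] at hc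
      have hrz := congrArg (idealSect i.ker V) hc
      rw [Kaehler.Conormal.idealSect_smul, hk₀, map_zero] at hrz
      exact ha r hrz
    · obtain ⟨k, rfl⟩ := (conormalSect_spec h).1 y
      have hk : idealSect i.ker V k ∈ Ideal.span {z} :=
        hz ▸ (exists_idealSect_iff h.affine _).1 ⟨k, rfl⟩
      obtain ⟨r, hr⟩ := Ideal.mem_span_singleton'.1 hk
      refine ⟨i.app V r, (Kaehler.Conormal.conormalSect_smul i V r k₀).symm.trans (congrArg _ ?_)⟩
      refine Kaehler.Conormal.idealSect_injective i V ?_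
      rw [Kaehler.Conormal.idealSect_smul, hk₀, hr]
  let b : Module.Basis (Fin 1) Γ(Z, i ⁻¹ᵁ V) Γ(Omega.conormal i, i ⁻¹ᵁ V) :=
    (Module.Basis.singleton (Fin 1) Γ(Z, i ⁻¹ᵁ V)).map (LinearEquiv.ofBijective L hL)
  haveI := isQCoh_conormal i
  have hb := Groth.Agent.H95.Frame.isBasis h.affine_preimage b
  refine ⟨b 0, fun W hW => ?_⟩
  refine (Function.Bijective.of_comp_iff _ (Equiv.funUnique (Fin 1) Γ(Z, W)).bijective).1 ?_
  convert hb W hW using 1
  funext a
  simp [TensorMod.Basis.comb]

theorem principal_of_isGen (h : IsChart i V) (h2 : (RingHom.ker (i.app V).hom) ^ 2 = ⊥)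
    (e : Γ(Omega.conormal i, i ⁻¹ᵁ V))
    (he : TensorMod.Gen.IsGen (Omega.conormal i) (i ⁻¹ᵁ V) e) :
    ∃ z : Γ(X, V), RingHom.ker (i.app V).hom = Ideal.span {z} ∧
      ∀ a, a * z = 0 → a ∈ RingHom.ker (i.app V).hom := by
  obtain ⟨k₀, rfl⟩ := (conormalSect_spec h).1 e
  have hb : Function.Bijective fun c : Γ(Z, i ⁻¹ᵁ V) => c • conormalSect i V k₀ := by
    simpa using he _ le_rfl
  refine ⟨idealSect i.ker V k₀, le_antisymm (fun t ht => ?_) ?_, fun a ha => ?_⟩
  · obtain ⟨k, rfl⟩ := (exists_idealSect_iff h.affine t).2 ht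
    obtain ⟨c, hc⟩ := hb.2 (conormalSect i V k)
    obtain ⟨r, rfl⟩ := h.surj c
    dsimp only at hc
    rw [← Kaehler.Conormal.conormalSect_smul i V r k₀, ← sub_eq_zero, ← map_sub,
      conormalSect_eq_zero h h2, sub_eq_zero] at hc
    rw [← hc, Kaehler.Conormal.idealSect_smul]
    exact Ideal.mul_mem_left _ r (Ideal.mem_span_singleton_self _)
  · rw [Ideal.span_le, Set.singleton_subset_iff]
    exact (exists_idealSect_iff h.affine _).1 ⟨k₀, rfl⟩
  · have hk : a • k₀ = 0 := Kaehler.Conormal.idealSect_injective i V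
      ((Kaehler.Conormal.idealSect_smul i V a k₀).trans (ha.trans (map_zero _).symm))
    refine hb.1 ?_
    show i.app V a • conormalSect i V k₀ = (0 : Γ(Z, i ⁻¹ᵁ V)) • conormalSect i V k₀
    rw [← Kaehler.Conormal.conormalSect_smul i V a k₀, hk, map_zero, zero_smul]

end Helpers

/-- Let C be a scheme and I ⊂ O_C a quasi-coherent ideal with I² = 0, and let D ⊂ C be the closed
subscheme it defines. Then the following are equivalent: (a) every point of C has an affine open
neighbourhood U on which I(U) is generated by one section z such that every a with a z = 0 lies in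
I(U); (b) the conormal sheaf of D in C (the ideal I regarded as an O_D-module, which makes sense
because I² = 0) is an invertible O_D-module. This identifies the line-bundle clause in the
definition of a ribbon with the section-level principal-of-order-two condition. -/
theorem result (C : Scheme.{u}) (I : C.IdealSheafData)
    (hI : I ^ 2 = ⊥) :
    MultCurve.IsPrincipalOfOrder I 2 ↔ PicF.IsInvertible (Omega.conormal I.subschemeι) := by
  have hker : ∀ U : C.affineOpens,
      I.ideal U = RingHom.ker (I.subschemeι.app (U : C.Opens)).hom := fun U => by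
    rw [← Scheme.Hom.ker_apply I.subschemeι U, Scheme.IdealSheafData.ker_subschemeι]
  have h2 : ∀ U : C.affineOpens, (RingHom.ker (I.subschemeι.app (U : C.Opens)).hom) ^ 2 = ⊥ := fun U => by
    rw [← hker U]
    have := congrArg (fun J : C.IdealSheafData => J.ideal U) hI
    simpa [Scheme.IdealSheafData.ideal_pow] using this
  constructor
  · intro h
    refine Groth.Agent.Lib.TensorMod.Gen.isInvertible_iff.2 fun p => ?_
    obtain ⟨U, hU, z, hz, ha⟩ := h (I.subschemeι p)
    obtain ⟨e, he⟩ := isGen_of_principal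
      (Groth.Agent.Lib.Conormal92.Affine.isChart_of_closed I.subschemeι U.2) (h2 U) z
      ((hker U).symm.trans hz) fun a h0 => hker U ▸ ha a (by simpa using h0)
    exact ⟨_, e, hU, he⟩
  · intro h x
    have hs : (I.support : Set C) = Set.univ := by
      rw [← Scheme.IdealSheafData.support_pow I 2 (by norm_num), hI,
        Scheme.IdealSheafData.support_bot]
      rfl
    obtain ⟨p, rfl⟩ : x ∈ Set.range I.subschemeι := by
      rw [Scheme.IdealSheafData.range_subschemeι, hs]; trivial
    obtain ⟨W, e, hp, he⟩ := Groth.Agent.Lib.TensorMod.Gen.isInvertible_iff.1 h p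
    obtain ⟨W', hW', hWW'⟩ := I.subschemeι.isEmbedding.isInducing.isOpen_iff.1 W.2
    obtain ⟨U, hU, hpU, hUW⟩ := exists_isAffineOpen_mem_and_subset (X := C)
      (x := I.subschemeι p) (U := ⟨W', hW'⟩) (by
        show p ∈ I.subschemeι ⁻¹' W'
        rw [hWW']; exact hp)
    have hle : I.subschemeι ⁻¹ᵁ U ≤ W := fun q hq => by
      show q ∈ W.carrier
      rw [← hWW']
      exact hUW hq
    obtain ⟨z, hz, ha⟩ := principal_of_isGen
      (Groth.Agent.Lib.Conormal92.Affine.isChart_of_closed I.subschemeι hU) (h2 ⟨U, hU⟩) _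
      (he.res hle)
    exact ⟨⟨U, hU⟩, hpU, z, (hker ⟨U, hU⟩).trans hz, fun a h0 =>
      (hker ⟨U, hU⟩).ge (ha a (by simpa using h0))⟩

end Groth.Agent.S18344
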