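import Groth.Statements.S18345
import Groth.Agent.RB92.Lift
import Groth.Agent.Lib.Kaehler.Seq

set_option autoImplicit false
universe w u
open CategoryTheory CategoryTheory.Limits AlgebraicGeometry
open MultCurve

namespace Groth.Agent.S18345

/-- Let k be a field and C a ribbon, locally of finite type over k, on the reduced connected scheme D
along i : D ⟶ C, with its restricted cotangent sequence 0 → L → Ω_C|_D → Ω_D → 0 presented by a
universal k-derivation d₁ : O_C → Ω₁, a universal k-derivation d₂ : O_D → Ω₂, the map φ from the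
conormal bundle L of D in C to i^*Ω₁ induced by d₁ and the map c : i^*Ω₁ → Ω₂ compatible with d₁ and
d₂, assumed short exact, that is, with φ injective; let e_C ∈ Ext¹(Ω_D, L) be the class of that
sequence. Then the ribbon is split — i admits a retraction C ⟶ D that is a morphism over k — if and
only if e_C = 0. (The published text treats the restricted cotangent sequence as short exact for
every ribbon and puts the retractions in bijection with the splittings of e_C. Short exactness holds
over a perfect field but not in general: for k of characteristic p and a ∈ k not a p-th power, the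
ribbon Spec k[x]/((x^p − a)²) on D = Spec k(a^{1/p}) has φ = 0 and admits no retraction, although
Ext¹(Ω_D, L) = 0 there. So short exactness is assumed here, and this row states the existence part
of the bijection.) -/
theorem result (k : Type u) [Field k] (D C : Scheme.{u}) (i : D ⟶ C)
    (pC : C ⟶ Spec (CommRingCat.of k)) [LocallyOfFiniteType pC] [ConnectedSpace D] (hR : MultCurve.IsRibbon i)
    (Ω₁ : C.Modules) (d₁ : OmegaSh.Der pC Ω₁) (hd₁ : OmegaSh.IsUniversal d₁)
    (Ω₂ : D.Modules) (d₂ : OmegaSh.Der (i ≫ pC) Ω₂) (hd₂ : OmegaSh.IsUniversal d₂)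
    (φ : Omega.conormal i ⟶ (Scheme.Modules.pullback i).obj Ω₁) (hφ : OmegaSh.IsConormalDiff i d₁ φ)
    (c : (Scheme.Modules.pullback i).obj Ω₁ ⟶ Ω₂) (hc : OmegaSh.IsDiffCompat i d₁ d₂ c)
    (hw : φ ≫ c = 0) (hS : (ShortComplex.mk φ c hw).ShortExact) [HasExt.{w} D.Modules] :
    (∃ r : C ⟶ D, i ≫ r = 𝟙 D ∧ r ≫ i ≫ pC = pC) ↔ hS.extClass = 0 := by
  haveI : Groth.Agent.Lib.SqZeroLift.Thick.SqZero i := Groth.Agent.RB92.sqZero_of_isRibbon hR
  have hdf : OmegaSh.IsDiffCompat (𝟙 D) d₂ d₂ ((Scheme.Modules.pullbackId D).app Ω₂).hom := fun U a => by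
    rw [← Groth.Agent.Lib.Kaehler.Seq.pullbackId_inv_app]
    exact (congr($((Scheme.Modules.pullbackId D).inv_hom_id_app Ω₂).app U (d₂.app U a))).trans rfl
  constructor
  · rintro ⟨r, hr, hrp⟩
    obtain ⟨s, hs⟩ := Groth.Agent.RB92.exists_map i (d₁ := d₁) (d₃ := d₂) hr hrp hd₂
    have e := Groth.Agent.RB92.comp_eq_of_compat i hc hdf hr hd₂ hs
    let σ : Ω₂ ⟶ (Scheme.Modules.pullback i).obj Ω₁ := ((Scheme.Modules.pullbackId D).app Ω₂).inv ≫ s
    have hσ : σ ≫ c = 𝟙 Ω₂ := by
      rw [Category.assoc, e, Iso.inv_hom_id]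
    have h1 := hS.comp_extClass
    calc hS.extClass = (Abelian.Ext.mk₀ (𝟙 Ω₂)).comp hS.extClass (zero_add 1) := (Abelian.Ext.mk₀_id_comp _).symm
      _ = 0 := by
        rw [← hσ, ← Abelian.Ext.mk₀_comp_mk₀_assoc]
        erw [h1]
        rw [Abelian.Ext.comp_zero]
  · intro h
    obtain ⟨x, hx⟩ := Abelian.Ext.covariant_sequence_exact₃ Ω₂ hS (Abelian.Ext.mk₀ (𝟙 Ω₂)) (zero_add 1)
      (by rw [h, Abelian.Ext.comp_zero])
    obtain ⟨σ, rfl⟩ := (Abelian.Ext.mk₀_bijective _ _).2 x
    rw [Abelian.Ext.mk₀_comp_mk₀] at hx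
    have hσ : σ ≫ c = 𝟙 Ω₂ := (Abelian.Ext.mk₀_bijective _ _).1 hx
    have hs : (((Scheme.Modules.pullbackId D).app Ω₂).hom ≫ σ) ≫ c =
        ((Scheme.Modules.pullbackId D).app Ω₂).hom := by
      rw [Category.assoc, hσ]
      exact Category.comp_id _
    obtain ⟨r, hr, hrp, -⟩ := Groth.Agent.RB92.exists_hom i hc hdf hφ hS rfl (Category.id_comp _) hs
    exact ⟨r, hr, hrp⟩

end Groth.Agent.S18345
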