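import Groth.Statements.S18348
import Groth.Agent.RB92.Class

set_option autoImplicit false
universe w u
open CategoryTheory CategoryTheory.Limits AlgebraicGeometry
open MultCurve

namespace Groth.Agent.S18348

/-- Let k be a field and D a reduced connected scheme locally of finite type over k, with structure
morphism pD and a universal k-derivation d₂ : O_D → Ω₂. Let C and C′ be ribbons on D over k
(k-schemes locally of finite type with closed immersions i, i′ of D over k making them ribbons),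
each with its restricted cotangent sequence 0 → L → Ω_C|_D → Ω_D → 0 presented by a universal
k-derivation d₁ : O_C → Ω₁, the fixed universal k-derivation d₂ of D, the map φ from the conormal
bundle L of D in C to i^*Ω₁ induced by d₁ and the map c : i^*Ω₁ → Ω₂ compatible with d₁ and d₂,
assumed short exact, that is, with φ and φ′ injective, with classes e ∈ Ext¹(Ω₂, L) and e′ ∈
Ext¹(Ω₂, L′). Then C and C′ are isomorphic over D (by an isomorphism under D that is a k-morphism)
if and only if there is an isomorphism of O_D-modules α : L ≅ L′ carrying e to e′. In particular a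
ribbon with short exact restricted cotangent sequence is determined up to isomorphism over D by its
conormal bundle together with its class. (The published statement asserts the uniqueness for all
ribbons, treating the restricted cotangent sequence as short exact for every ribbon; it is so over a
perfect field but not in general: for k of characteristic p and a ∈ k not a p-th power, D = Spec
k(a^{1/p}) has Ext¹(Ω_D, L) = 0 for every L, yet the split ribbon with conormal bundle O_D and Spec
k[x]/((x^p − a)²) are ribbons on D with conormal bundle O_D that are not isomorphic over D, the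
second having φ = 0; so short exactness is assumed here for both ribbons. The published statement
also, for D proper over k, phrases the criterion as e = a·e′ with a a nonzero scalar, identifying
the automorphisms of the line bundle L with the nonzero constants; that identification needs Γ(D,
O_D) = k and fails, for example, for the projective line over a quadratic extension of k regarded as
a k-scheme, so the criterion is stated here with an arbitrary automorphism of the conormal bundle,
in which form it holds for every reduced connected D.) -/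
theorem result (k : Type u) [Field k] (D : Scheme.{u})
    (pD : D ⟶ Spec (CommRingCat.of k)) [LocallyOfFiniteType pD] [ConnectedSpace D]
    (Ω₂ : D.Modules) (d₂ : OmegaSh.Der pD Ω₂) (hd₂ : OmegaSh.IsUniversal d₂) [HasExt.{w} D.Modules]
    (C : Scheme.{u}) (i : D ⟶ C) (pC : C ⟶ Spec (CommRingCat.of k)) [LocallyOfFiniteType pC]
    (hp : i ≫ pC = pD) (hR : MultCurve.IsRibbon i)
    (Ω₁ : C.Modules) (d₁ : OmegaSh.Der pC Ω₁) (hd₁ : OmegaSh.IsUniversal d₁)
    (φ : Omega.conormal i ⟶ (Scheme.Modules.pullback i).obj Ω₁) (hφ : OmegaSh.IsConormalDiff i d₁ φ)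
    (c : (Scheme.Modules.pullback i).obj Ω₁ ⟶ Ω₂) (hc : OmegaSh.IsDiffCompat i d₁ d₂ c)
    (hw : φ ≫ c = 0) (hS : (ShortComplex.mk φ c hw).ShortExact)
    (C' : Scheme.{u}) (i' : D ⟶ C') (pC' : C' ⟶ Spec (CommRingCat.of k)) [LocallyOfFiniteType pC']
    (hp' : i' ≫ pC' = pD) (hR' : MultCurve.IsRibbon i')
    (Ω₁' : C'.Modules) (d₁' : OmegaSh.Der pC' Ω₁') (hd₁' : OmegaSh.IsUniversal d₁')
    (φ' : Omega.conormal i' ⟶ (Scheme.Modules.pullback i').obj Ω₁') (hφ' : OmegaSh.IsConormalDiff i' d₁' φ')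
    (c' : (Scheme.Modules.pullback i').obj Ω₁' ⟶ Ω₂) (hc' : OmegaSh.IsDiffCompat i' d₁' d₂ c')
    (hw' : φ' ≫ c' = 0) (hS' : (ShortComplex.mk φ' c' hw').ShortExact) :
    (∃ ψ : C ≅ C', i ≫ ψ.hom = i' ∧ ψ.hom ≫ pC' = pC) ↔
      ∃ α : Omega.conormal i ≅ Omega.conormal i',
        hS.extClass.comp (Abelian.Ext.mk₀ α.hom) (add_zero 1) = hS'.extClass := by
  haveI : Groth.Agent.Lib.SqZeroLift.Thick.SqZero i := Groth.Agent.RB92.sqZero_of_isRibbon hR
  haveI : Groth.Agent.Lib.SqZeroLift.Thick.SqZero i' := Groth.Agent.RB92.sqZero_of_isRibbon hR'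
  haveI : Mono φ := hS.mono_f
  haveI : Mono φ' := hS'.mono_f
  constructor
  · rintro ⟨ψ, hψi, hψp⟩
    have hψi' : i' ≫ ψ.inv = i := by rw [← hψi, Category.assoc, Iso.hom_inv_id, Category.comp_id]
    have hψp' : ψ.inv ≫ pC = pC' := by rw [← hψp, Iso.inv_hom_id_assoc]
    obtain ⟨s, hs⟩ := Groth.Agent.RB92.exists_map i (d₁ := d₁) hψi hψp hd₁'
    obtain ⟨t, ht⟩ := Groth.Agent.RB92.exists_map i' (d₁ := d₁') hψi' hψp' hd₁
    have hsc := Groth.Agent.RB92.comp_eq_of_compat i hc hc' hψi hd₁' hs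
    have htc := Groth.Agent.RB92.comp_eq_of_compat i' hc' hc hψi' hd₁ ht
    have hts : t ≫ s = 𝟙 _ := Groth.Agent.RB92.s_comp_eq_id i i' hd₁ ψ.hom_inv_id hψi hψi' hs ht
    have hst : s ≫ t = 𝟙 _ := Groth.Agent.RB92.s_comp_eq_id i' i hd₁' ψ.inv_hom_id hψi' hψi ht hs
    let a : Omega.conormal i ⟶ Omega.conormal i' := hS'.exact.lift (φ ≫ t) (by
      show (φ ≫ t) ≫ c' = 0
      rw [Category.assoc, htc, hw])
    let b : Omega.conormal i' ⟶ Omega.conormal i := hS.exact.lift (φ' ≫ s) (by
      show (φ' ≫ s) ≫ c = 0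
      rw [Category.assoc, hsc, hw'])
    have ha : a ≫ φ' = φ ≫ t := hS'.exact.lift_f _ _
    have hb : b ≫ φ = φ' ≫ s := hS.exact.lift_f _ _
    refine ⟨⟨a, b, ?_, ?_⟩, ?_⟩
    · rw [← cancel_mono φ, Category.assoc, hb, ← Category.assoc, ha, Category.assoc, hts]
      exact (Category.comp_id _).trans (Category.id_comp _).symm
    · rw [← cancel_mono φ', Category.assoc, ha, ← Category.assoc, hb, Category.assoc, hst]
      exact (Category.comp_id _).trans (Category.id_comp _).symm
    · let F : ShortComplex.mk φ c hw ⟶ ShortComplex.mk φ' c' hw' :=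
        ShortComplex.homMk a t (𝟙 Ω₂) ha (htc.trans (Category.comp_id c).symm)
      exact (ShortComplex.ShortExact.extClass_naturality hS hS' F).trans (Abelian.Ext.mk₀_id_comp _)
  · rintro ⟨α, hα⟩
    have h0 : (Abelian.Ext.mk₀ c).comp hS'.extClass (zero_add 1) = 0 := by
      rw [← hα, ← Abelian.Ext.comp_assoc_of_third_deg_zero]
      have h := hS.comp_extClass
      erw [h]
      rw [Abelian.Ext.zero_comp]
    obtain ⟨x, hx⟩ := Abelian.Ext.covariant_sequence_exact₃ _ hS' (Abelian.Ext.mk₀ c) (zero_add 1) h0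
    obtain ⟨β₀, rfl⟩ := (Abelian.Ext.mk₀_bijective _ _).2 x
    rw [Abelian.Ext.mk₀_comp_mk₀] at hx
    have hβ₀ : β₀ ≫ c' = c := (Abelian.Ext.mk₀_bijective _ _).1 hx
    let α₀ : Omega.conormal i ⟶ Omega.conormal i' := hS'.exact.lift (φ ≫ β₀) (by
      show (φ ≫ β₀) ≫ c' = 0
      rw [Category.assoc, hβ₀, hw])
    have hα₀ : α₀ ≫ φ' = φ ≫ β₀ := hS'.exact.lift_f _ _
    let F : ShortComplex.mk φ c hw ⟶ ShortComplex.mk φ' c' hw' :=
      ShortComplex.homMk α₀ β₀ (𝟙 Ω₂) hα₀ (hβ₀.trans (Category.comp_id c).symm)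
    have he : hS.extClass.comp (Abelian.Ext.mk₀ α₀) (add_zero 1) = hS'.extClass :=
      (ShortComplex.ShortExact.extClass_naturality hS hS' F).trans (Abelian.Ext.mk₀_id_comp _)
    have hd : hS.extClass.comp (Abelian.Ext.mk₀ (α.hom - α₀)) (add_zero 1) = 0 := by
      rw [sub_eq_add_neg, Abelian.Ext.mk₀_add, Abelian.Ext.comp_add, hα, Abelian.Ext.mk₀_neg,
        Abelian.Ext.comp_neg, he, add_neg_cancel]
    obtain ⟨y, hy⟩ := Abelian.Ext.contravariant_sequence_exact₁ hS _ (Abelian.Ext.mk₀ (α.hom - α₀)) (add_zero 1) hd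
    obtain ⟨γ, rfl⟩ := (Abelian.Ext.mk₀_bijective _ _).2 y
    rw [Abelian.Ext.mk₀_comp_mk₀] at hy
    have hγ : φ ≫ γ = α.hom - α₀ := (Abelian.Ext.mk₀_bijective _ _).1 hy
    let β : (Scheme.Modules.pullback i).obj Ω₁ ⟶ (Scheme.Modules.pullback i').obj Ω₁' := β₀ + γ ≫ φ'
    have hβ₁ : φ ≫ β = α.hom ≫ φ' := by
      rw [Preadditive.comp_add, ← hα₀, ← Category.assoc, hγ, Preadditive.sub_comp, add_sub_cancel]
    have hβ₂ : β ≫ c' = c := by
      rw [Preadditive.add_comp, hβ₀, Category.assoc, hw', Limits.comp_zero, add_zero]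
    let G : ShortComplex.mk φ c hw ⟶ ShortComplex.mk φ' c' hw' :=
      ShortComplex.homMk α.hom β (𝟙 Ω₂) hβ₁.symm (hβ₂.trans (Category.comp_id c).symm)
    haveI : IsIso G.τ₁ := inferInstanceAs (IsIso α.hom)
    haveI : IsIso G.τ₃ := inferInstanceAs (IsIso (𝟙 Ω₂))
    haveI : IsIso β := ShortComplex.isIso₂_of_shortExact_of_isIso₁₃ G hS hS'
    have hβ₃ : inv β ≫ c = c' := by rw [IsIso.inv_comp_eq, hβ₂]
    obtain ⟨g, hg, hgp, hgs⟩ := Groth.Agent.RB92.exists_hom i hc hc' hφ hS hp hp' hβ₃
    obtain ⟨g', hg', hgp', hgs'⟩ := Groth.Agent.RB92.exists_hom i' hc' hc hφ' hS' hp' hp hβ₂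
    exact ⟨⟨g, g', Groth.Agent.RB92.hom_comp_eq_id i i' hφ hg hg' hgp hgp' hgs hgs' (IsIso.hom_inv_id β),
      Groth.Agent.RB92.hom_comp_eq_id i' i hφ' hg' hg hgp' hgp hgs' hgs (IsIso.inv_hom_id β)⟩, hg, hgp⟩

end Groth.Agent.S18348
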