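import Groth.Statements.S1835
import Groth.Agent.Lib.CycAlg.OrdSum
import Mathlib.RingTheory.Ideal.GoingUp

set_option autoImplicit false
universe u
open CycAlg
open Pointwise

namespace Groth.Agent.S1835

/-- Let R be a Noetherian local ring of dimension 1, a a nonzerodivisor in the maximal ideal and b a
nonzerodivisor. There is an integer n such that whenever b = a^m c in some finite extension ring R ⊆
R', one has m ≤ n. -/
theorem result (R : Type u) [CommRing R] [IsNoetherianRing R] [IsLocalRing R] (hR : ringKrullDim R = 1) (a b : R) (ha : a ∈ nonZeroDivisors R) (ham : a ∈ IsLocalRing.maximalIdeal R) (hb : b ∈ nonZeroDivisors R) : ∃ n : ℕ, ∀ (R' : Type u) [CommRing R'] [Algebra R R'], Function.Injective (algebraMap R R') → Module.Finite R R' → ∀ (m : ℕ) (c : R'), algebraMap R R' b = algebraMap R R' a ^ m * c → m ≤ n := by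
  obtain ⟨q, hq⟩ := Ideal.exists_minimalPrimes_le (bot_le : (⊥ : Ideal R) ≤ IsLocalRing.maximalIdeal R)
  obtain ⟨hqmin, hqle⟩ := hq
  change q ∈ minimalPrimes R at hqmin
  haveI hqp : q.IsPrime := hqmin.1.1
  have hnmem : ∀ {x : R}, x ∈ nonZeroDivisors R → x ∉ q := fun {x} hx h =>
    Set.disjoint_left.1 (Ideal.disjoint_nonZeroDivisors_of_mem_minimalPrimes hqmin) h hx
  have : Ring.KrullDimLE 1 (R ⧸ q) := Ring.krullDimLE_iff.2 ((ringKrullDim_quotient_le q).trans hR.le)
  have hne : ∀ {x : R}, x ∈ nonZeroDivisors R → Ideal.Quotient.mk q x ∈ nonZeroDivisors (R ⧸ q) := fun {x} hx =>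
    mem_nonZeroDivisors_of_ne_zero fun h => hnmem hx (Ideal.Quotient.eq_zero_iff_mem.1 h)
  refine ⟨(Ring.ord (R ⧸ q) (Ideal.Quotient.mk q b)).toNat, fun R' _ _ hinj hfin m c hc => ?_⟩
  haveI : Module.Finite R R' := hfin
  haveI : Algebra.IsIntegral R R' := Algebra.IsIntegral.of_finite R R'
  obtain ⟨Q, -, hQp, hQq⟩ := Ideal.exists_ideal_over_prime_of_isIntegral (S := R') q ⊥ (by
    intro r hr
    rw [Ideal.mem_comap, Ideal.mem_bot] at hr
    rw [(injective_iff_map_eq_zero _).1 hinj r hr]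
    exact q.zero_mem)
  haveI := hQp
  have hann : Module.annihilator R (R' ⧸ Q) = q := by
    rw [← hQq]
    ext r
    rw [Module.mem_annihilator, Ideal.mem_comap]
    constructor
    · intro h
      have := h 1
      rwa [Algebra.smul_def, mul_one, IsScalarTower.algebraMap_apply R R' (R' ⧸ Q), Ideal.Quotient.algebraMap_eq,
        Ideal.Quotient.eq_zero_iff_mem] at this
    · intro h z
      rw [Algebra.smul_def, IsScalarTower.algebraMap_apply R R' (R' ⧸ Q), Ideal.Quotient.algebraMap_eq,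
        Ideal.Quotient.eq_zero_iff_mem.2 h, zero_mul]
  have hsupp : Module.support R (R' ⧸ Q) = PrimeSpectrum.zeroLocus (q : Set R) := by
    rw [Module.support_eq_zeroLocus, hann]
  let qp : PrimeSpectrum R := ⟨q, hqp⟩
  have hqm : q ≠ IsLocalRing.maximalIdeal R :=
    (Groth.Agent.Lib.CycAlg.OrdSum.mem_minimalPrimes_iff hR qp).1 hqmin
  have hset : ∀ p : PrimeSpectrum R, (p ∈ Module.support R (R' ⧸ Q) ∧ p.asIdeal ≠ IsLocalRing.maximalIdeal R) ↔
      p = qp := by
    intro p
    rw [hsupp, PrimeSpectrum.mem_zeroLocus]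
    refine ⟨fun ⟨h, hm⟩ => PrimeSpectrum.ext (le_antisymm ?_ h), fun h => by subst h; exact ⟨le_refl _, hqm⟩⟩
    exact ((Groth.Agent.Lib.CycAlg.OrdSum.mem_minimalPrimes_iff hR p).2 hm).2 ⟨hqp, bot_le⟩ h
  have hlen : ∀ x : R, x ∈ nonZeroDivisors R →
      Module.length R ((R' ⧸ Q) ⧸ x • (⊤ : Submodule R (R' ⧸ Q))) =
        Ring.ord (R ⧸ q) (Ideal.Quotient.mk q x) *
          Module.length (Localization.AtPrime q) (LocalizedModule q.primeCompl (R' ⧸ Q)) := by
    intro x hx
    have h0 : Module.supportDim R ((R' ⧸ Q) ⧸ x • (⊤ : Submodule R (R' ⧸ Q))) ≤ 0 := by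
      have key : ∀ p ∈ Module.support R ((R' ⧸ Q) ⧸ x • (⊤ : Submodule R (R' ⧸ Q))),
          p.asIdeal = IsLocalRing.maximalIdeal R := by
        intro p hp
        by_contra hm
        have h1 := Module.support_subset_of_surjective _ (Submodule.mkQ_surjective _) hp
        have hpq := (hset p).1 ⟨h1, hm⟩
        subst hpq
        rw [Module.support_eq_zeroLocus, PrimeSpectrum.mem_zeroLocus] at hp
        refine hnmem hx (hp (Module.mem_annihilator.2 fun z => ?_))
        obtain ⟨v, rfl⟩ := Submodule.Quotient.mk_surjective _ z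
        rw [← Submodule.Quotient.mk_smul, Submodule.Quotient.mk_eq_zero]
        exact Submodule.smul_mem_pointwise_smul v x ⊤ trivial
      have : Subsingleton (Module.support R ((R' ⧸ Q) ⧸ x • (⊤ : Submodule R (R' ⧸ Q)))) :=
        ⟨fun p p' => Subtype.ext (PrimeSpectrum.ext ((key _ p.2).trans (key _ p'.2).symm))⟩
      exact Order.krullDim_nonpos_of_subsingleton
    rw [Groth.Agent.S1833.result R (R' ⧸ Q) x ((Module.supportDim_le_ringKrullDim R _).trans hR.le) h0]
    have hker : Module.length R (LinearMap.ker (LinearMap.lsmul R (R' ⧸ Q) x)) = 0 := by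
      rw [Module.length_eq_zero_iff, Submodule.subsingleton_iff_eq_bot, eq_bot_iff]
      intro z hz
      rw [LinearMap.mem_ker, LinearMap.lsmul_apply, Algebra.smul_def, mul_eq_zero,
        IsScalarTower.algebraMap_apply R R' (R' ⧸ Q), Ideal.Quotient.algebraMap_eq,
        Ideal.Quotient.eq_zero_iff_mem] at hz
      refine hz.resolve_left fun h => hnmem hx ?_
      rw [← hQq]
      exact h
    rw [hker, zero_add]
    simp only [hset]
    rw [finsum_cond_eq_left]
  set lq := Module.length (Localization.AtPrime q) (LocalizedModule q.primeCompl (R' ⧸ Q))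
  have hlq0 : lq ≠ 0 := by
    intro h
    rw [Module.length_eq_zero_iff] at h
    exact (Module.notMem_support_iff.2 h : qp ∉ _) ((hset qp).2 rfl).1
  have hlqtop : lq ≠ ⊤ := by
    have hmin : Minimal (fun p : PrimeSpectrum R => p ∈ Module.support R (R' ⧸ Q)) qp :=
      ⟨((hset qp).2 rfl).1, fun p _ hle => hqmin.2 ⟨p.2, bot_le⟩ hle⟩
    have := Groth.Agent.Lib.CycAlg.Endo.isArtinian_localized hmin
    have : Module.Finite (Localization.AtPrime qp.asIdeal) (LocalizedModule qp.asIdeal.primeCompl (R' ⧸ Q)) :=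
      Module.Finite.of_isLocalizedModule qp.asIdeal.primeCompl (LocalizedModule.mkLinearMap qp.asIdeal.primeCompl _)
    exact Module.length_ne_top (R := Localization.AtPrime qp.asIdeal)
      (M := LocalizedModule qp.asIdeal.primeCompl (R' ⧸ Q))
  have hle : b • (⊤ : Submodule R (R' ⧸ Q)) ≤ a ^ m • (⊤ : Submodule R (R' ⧸ Q)) := by
    rintro _ ⟨v, -, rfl⟩
    refine ⟨c • v, trivial, ?_⟩
    show a ^ m • (c • v) = b • v
    rw [← algebraMap_smul R' b v, hc, mul_smul, ← map_pow, algebraMap_smul]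
  have h1 := Module.length_le_of_surjective (Submodule.factor hle) (Submodule.factor_surjective _)
  rw [hlen b hb, hlen (a ^ m) (pow_mem ha m), map_pow, Ring.ord_pow (hne ha)] at h1
  obtain ⟨L, hL⟩ := ENat.ne_top_iff_exists.1 hlqtop
  obtain ⟨oa, hoa⟩ := ENat.ne_top_iff_exists.1 (Ring.ord_ne_top (hne ha))
  obtain ⟨ob, hob⟩ := ENat.ne_top_iff_exists.1 (Ring.ord_ne_top (hne hb))
  rw [← hL, ← hoa, ← hob, nsmul_eq_mul] at h1
  rw [← hob, ENat.toNat_natCast]
  have h2 : m * oa * L ≤ ob * L := by exact_mod_cast h1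
  have hLpos : 0 < L := Nat.pos_of_ne_zero fun h => hlq0 (by rw [← hL, h]; rfl)
  have hoapos : 1 ≤ oa := by
    refine Nat.one_le_iff_ne_zero.2 fun h => ?_
    have hsub : Subsingleton ((R ⧸ q) ⧸ Ideal.span {Ideal.Quotient.mk q a}) := by
      rw [← Module.length_eq_zero_iff (R := R ⧸ q), show Module.length (R ⧸ q) _ = Ring.ord (R ⧸ q)
        (Ideal.Quotient.mk q a) from rfl, ← hoa, h]
      rfl
    rw [Ideal.Quotient.subsingleton_iff, Ideal.span_singleton_eq_top] at hsub
    have : IsLocalHom (Ideal.Quotient.mk q) := IsLocalHom.of_surjective _ Ideal.Quotient.mk_surjective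
    exact (IsLocalRing.mem_maximalIdeal a).1 ham (isUnit_of_map_unit (Ideal.Quotient.mk q) a hsub)
  calc m ≤ m * oa := Nat.le_mul_of_pos_right _ hoapos
    _ ≤ ob := Nat.le_of_mul_le_mul_right h2 hLpos

end Groth.Agent.S1835
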