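import Groth.Statements.S18353
import Groth.Agent.H34.NormalTotal
import Groth.Agent.S2280
import Groth.Agent.S2422

set_option autoImplicit false
universe u
open Curv2

namespace Groth.Agent.S18353

open CategoryTheory CategoryTheory.Limits AlgebraicGeometry in
theorem isIntegral_family {C S : Scheme.{u}} [IsIntegral S] [IsNoetherian S] (hS : Pi1.IsNormalScheme S)
    (f : C ⟶ S) [Flat f] [IsProper f] [LocallyOfFinitePresentation f] [GeometricallyReduced f]
    [GeometricallyConnected f] (hsm : Smooth (f.fiberToSpecResidueField (genericPoint ↥S))) :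
    Pi1.IsNormalScheme C ∧ IsIntegral C := by
  haveI := hsm
  have hn : Pi1.IsNormalScheme C := Groth.Agent.H34.NormalTotal.isNormalScheme f hS
  haveI : IsLocallyNoetherian C := LocallyOfFiniteType.isLocallyNoetherian f
  haveI : ConnectedSpace ↥C := GeometricallyConnected.connectedSpace f f.isOpenMap
  exact ⟨hn, (Groth.Agent.S2280.result C).2.2 ⟨inferInstance, fun x => (hn x).1⟩⟩

open CategoryTheory AlgebraicGeometry in
/-- Let S be an integral Noetherian scheme all of whose local rings are integrally closed domains, and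
let f₁ : C₁ → S and f₂ : C₂ → S be flat, proper, locally finitely presented morphisms of schemes
whose fibres are geometrically reduced and geometrically connected, all of Krull dimension one, and
whose fibres over the generic point of S are smooth. Let φ : C₁ → C₂ be a morphism over S which is
birational, in the sense that it restricts to an isomorphism over some dense open subset of C₂. Then
the canonical map O_{C₂} → φ_* O_{C₁} is an isomorphism: for every open V of C₂ the pull-back map
from sections over V to sections over φ⁻¹(V) is an isomorphism of rings. The total spaces are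
schemes here; the source also allows algebraic spaces. -/
theorem result (S C₁ C₂ : Scheme.{u}) [IsIntegral S]
    [IsNoetherian S] (hS : Pi1.IsNormalScheme S) (f₁ : C₁ ⟶ S) (f₂ : C₂ ⟶ S)
    [Flat f₁] [IsProper f₁] [LocallyOfFinitePresentation f₁] [GeometricallyReduced f₁] [GeometricallyConnected f₁]
    [Flat f₂] [IsProper f₂] [LocallyOfFinitePresentation f₂] [GeometricallyReduced f₂] [GeometricallyConnected f₂]
    (hdim₁ : ∀ s : ↥S, topologicalKrullDim ↥(f₁.fiber s) = 1) (hdim₂ : ∀ s : ↥S, topologicalKrullDim ↥(f₂.fiber s) = 1)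
    (hsm₁ : Smooth (f₁.fiberToSpecResidueField (genericPoint ↥S)))
    (hsm₂ : Smooth (f₂.fiberToSpecResidueField (genericPoint ↥S)))
    (φ : C₁ ⟶ C₂) (hφ : φ ≫ f₂ = f₁) (hbir : ∃ U : C₂.Opens, Dense (U : Set ↥C₂) ∧ IsIso (φ ∣_ U)) :
    ∀ V : C₂.Opens, IsIso (φ.app V) := by
  obtain ⟨hn₁, hi₁⟩ := isIntegral_family hS f₁ hsm₁
  obtain ⟨hn₂, hi₂⟩ := isIntegral_family hS f₂ hsm₂
  haveI : IsLocallyNoetherian C₁ := LocallyOfFiniteType.isLocallyNoetherian f₁
  haveI : IsLocallyNoetherian C₂ := LocallyOfFiniteType.isLocallyNoetherian f₂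
  haveI : IsProper (φ ≫ f₂) := by rw [hφ]; infer_instance
  haveI : IsProper φ := IsProper.of_comp φ f₂
  obtain ⟨U, hU, hiso⟩ := hbir
  have h2 : genericPoint C₂ ∈ U := by
    obtain ⟨y, hy⟩ := hU.nonempty
    exact ((genericPoint_spec C₂).specializes trivial).mem_open U.2 hy
  obtain ⟨x, hx⟩ := (φ ∣_ U).surjective ⟨genericPoint C₂, h2⟩
  have h1 : genericPoint C₁ ∈ φ ⁻¹ᵁ U :=
    ((genericPoint_spec C₁).specializes trivial).mem_open (φ ⁻¹ᵁ U).2 x.2
  have hgen : φ.base (genericPoint C₁) = genericPoint C₂ := by
    apply (genericPoint_spec C₂).specializes trivial |>.antisymm ?_ |>.eq |>.symm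
    have hxv : φ.base x.1 = genericPoint C₂ := by
      have := congrArg (fun y : U.toScheme => U.ι.base y) hx
      simp only [← Scheme.Hom.comp_apply, morphismRestrict_ι] at this
      exact this
    rw [← hxv]
    exact ((genericPoint_spec C₁).specializes trivial).map φ.continuous
  have hstalk : IsIso (φ.stalkMap (genericPoint C₁)) :=
    ((MorphismProperty.isomorphisms CommRingCat.{u}).arrow_mk_iso_iff
      (morphismRestrictStalkMap φ U ⟨genericPoint C₁, h1⟩)).mp
      (inferInstanceAs (IsIso ((φ ∣_ U).stalkMap ⟨genericPoint C₁, h1⟩)))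
  refine S2422.result hn₂ φ (hgen ▸ specializes_rfl) fun z _ => ?_
  obtain ⟨b, hb⟩ := (ConcreteCategory.bijective_of_isIso (φ.stalkMap (genericPoint C₁))).2 z
  refine ⟨(C₂.presheaf.stalkSpecializes (hgen ▸ specializes_rfl : genericPoint C₂ ⤳ φ.base (genericPoint C₁))).hom b, ?_⟩
  show (φ.stalkMap (genericPoint C₁)).hom ((C₂.presheaf.stalkSpecializes _).hom ((C₂.presheaf.stalkSpecializes _).hom b)) = z
  refine (congrArg (φ.stalkMap (genericPoint C₁)).hom ?_).trans hb
  rw [← CommRingCat.comp_apply, TopCat.Presheaf.stalkSpecializes_comp, TopCat.Presheaf.stalkSpecializes_refl]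
  rfl

end Groth.Agent.S18353
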