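import Groth.Statements.S18354
import Groth.Agent.Lib.Curves.UniformVeryAmple

set_option autoImplicit false
universe u
open Curves

namespace Groth.Agent.S18354

open Groth.Agent.Lib

open CategoryTheory CategoryTheory.Limits AlgebraicGeometry in
/-- For all natural numbers g and e there is a natural number D with the following property. For every
algebraically closed field k and every reduced, connected scheme X proper over k, of Krull dimension
one, with finitely many and at most e irreducible components and with dim_k H^1(X, O_X) = g, there
is an invertible O_X-module L of degree at most D with H^1(X, L) = 0, together with a closed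
immersion i of X into some projective space P^m_k over k with i^* O(1) ≅ L. The source phrases the
conclusion as the existence of an embedding of degree at most D and reduces it to this form at the
start of its proof; its genus is the arithmetic genus 1 − χ(O_X), which equals dim_k H^1(X, O_X) for
X reduced, connected and proper over an algebraically closed field. -/
theorem result (g e : ℕ) :
    ∃ D : ℕ, ∀ (k : Type u) [Field k] [IsAlgClosed k] (X : Scheme.{u}) [X.Over (Spec (CommRingCat.of k))]
      [IsProper (X ↘ Spec (CommRingCat.of k))] [IsReduced X] [ConnectedSpace ↥X],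
      topologicalKrullDim ↥X = 1 → (irreducibleComponents (↥X : Type u)).Finite →
      (irreducibleComponents (↥X : Type u)).ncard ≤ e → Curv2.genus k X = g →
      ∃ L : X.Modules, PicF.IsInvertible L ∧ Curv2.deg k X L 1 ≤ (D : ℤ) ∧ Subsingleton (Coh.HH X L 1) ∧
        ∃ (m : ℕ) (i : X ⟶ CohB1.ProjSpace m k), IsClosedImmersion i ∧
          i ≫ CohB1.ProjSpace.toSpec m k = X ↘ Spec (CommRingCat.of k) ∧
          Nonempty ((Scheme.Modules.pullback i).obj (Twist.twistProjSpace m k 1) ≅ L) :=  by
  refine ⟨2 * ((2 * g + 1) * e), fun k _ _ X _ _ _ _ hdim hfin hcard hg => ?_⟩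
  obtain ⟨L, hL, hdeg, h1, m, i, hi, hic, hiso⟩ := Curves.UniformVeryAmple.exists_veryAmple k hdim g hg
  refine ⟨L, hL, hdeg.trans ?_, h1, m, i, hi, hic, hiso⟩
  haveI := Curves.GlobalSections.noetherianSpace_of_proper k X
  have hc : (Curves.SubUnion.gens (X := X) k).card ≤ e := by
    refine le_trans (le_of_eq ?_) hcard
    rw [Curves.SubUnion.gens, ← Set.ncard_eq_toFinset_card _ (genericPoints.finite hfin), ← Nat.card_coe_set_eq, ← Nat.card_coe_set_eq]
    exact Nat.card_congr genericPoints.equiv
  have : 2 * ((2 * g + 1) * (Curves.SubUnion.gens (X := X) k).card) ≤ 2 * ((2 * g + 1) * e) := by gcongr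
  exact_mod_cast this

end Groth.Agent.S18354
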