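import Groth.Statements.S1836
import Groth.Agent.Lib.Tame.Exist

set_option autoImplicit false
universe u
open CycAlg

namespace Groth.Agent.S1836

/-- Let A be a Noetherian local ring of dimension 1 and a₁, …, a_r (r ≥ 2) nonzerodivisors, not all
units. There is a finite extension ring A ⊆ B with B/A killed by a power of the maximal ideal such
that at every maximal ideal of B there is a nonzerodivisor π of the local ring B_𝔪 with each a_i
equal to a unit of B_𝔪 times a power of π. -/
theorem result (A : Type u) [CommRing A] [IsNoetherianRing A] [IsLocalRing A] (hA : ringKrullDim A = 1) (r : ℕ) (hr : 2 ≤ r) (a : Fin r → A) (ha : ∀ i, a i ∈ nonZeroDivisors A) (hna : ∃ i, ¬ IsUnit (a i)) : ∃ (B : Type u) (_ : CommRing B) (_ : Algebra A B), CycAlg.IsFinExt A B (IsLocalRing.maximalIdeal A) ∧ ∀ q : MaximalSpectrum B, ∃ π : Localization.AtPrime q.asIdeal, π ∈ nonZeroDivisors (Localization.AtPrime q.asIdeal) ∧ ∀ i, ∃ (v : (Localization.AtPrime q.asIdeal)ˣ) (e : ℕ), algebraMap A (Localization.AtPrime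 q.asIdeal) (a i) = (v : Localization.AtPrime q.asIdeal) * π ^ e := by
  classical
  have : Ring.KrullDimLE 1 A := Ring.krullDimLE_iff.2 hA.le
  obtain ⟨i₀, hi₀⟩ := hna
  have hc : ∏ i, a i ∈ nonZeroDivisors A := prod_mem fun i _ => ha i
  have hcm : ∏ i, a i ∈ IsLocalRing.maximalIdeal A := fun h => hi₀ ((IsUnit.prod_iff.1 h) i₀ (Finset.mem_univ _))
  let B₀ : Subalgebra A (Localization.Away (∏ i, a i)) := ⊥
  have hB₀ : B₀.toSubmodule.FG := by
    rw [Algebra.toSubmodule_bot, Submodule.one_eq_span]; exact Submodule.fg_span_singleton _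
  have hu : ∀ i, IsUnit (algebraMap A (Localization.Away (∏ i, a i)) (a i)) := fun i =>
    Lib.Tame.Exist.isUnit_of_dvd (Finset.dvd_prod_of_mem _ (Finset.mem_univ i))
  obtain ⟨B', h, hB', hfac⟩ := Lib.Tame.Exist.exists_factorizations hc hcm hB₀
    (Finset.univ.image fun i => algebraMap A _ (a i))
    (fun s hs => by obtain ⟨i, -, rfl⟩ := Finset.mem_image.1 hs; exact B₀.algebraMap_mem _)
    (fun s hs => by obtain ⟨i, -, rfl⟩ := Finset.mem_image.1 hs; exact hu i)
  refine ⟨B', inferInstance, inferInstance, Lib.Tame.Lattice.isFinExt hc hcm hB', fun q => ?_⟩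
  obtain ⟨π, hπ, hx⟩ := hfac q
  refine ⟨π, hπ, fun i => ?_⟩
  obtain ⟨v, e, he⟩ := hx (algebraMap A B₀ (a i)) (Finset.mem_image.2 ⟨i, Finset.mem_univ _, rfl⟩)
  exact ⟨v, e, by rw [← he, IsScalarTower.algebraMap_apply A B' (Localization.AtPrime q.asIdeal)]; rfl⟩

end Groth.Agent.S1836
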