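import Groth.Statements.S18360
import Groth.Agent.H26.FinCover.Main


set_option autoImplicit false
set_option maxHeartbeats 1000000
set_option linter.all false
universe u
open CategoryTheory CategoryTheory.Limits AlgebraicGeometry
open Alter

namespace Groth.Agent.S18360

/-- Let Y be a Noetherian scheme, i : F ⟶ Y a closed immersion and s : F' ⟶ F a finite surjective
morphism. Then there are a scheme Y' and a finite surjective morphism g : Y' ⟶ Y such that every
irreducible component of F ×_Y Y', with its reduced closed-subscheme structure, is the source of an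
F-morphism to F': for every reduced scheme G and every closed immersion ι : G ⟶ F ×_Y Y' whose image
is an irreducible component, there is φ : G ⟶ F' with φ ≫ s = ι ≫ pr₁. -/
theorem result {Y F F' : Scheme.{u}} [IsNoetherian Y]
    (i : F ⟶ Y) [IsClosedImmersion i] (s : F' ⟶ F) [IsFinite s] [Surjective s] :
    ∃ (Y' : Scheme.{u}) (g : Y' ⟶ Y), IsFinite g ∧ Surjective g ∧
      ∀ (G : Scheme.{u}) (ι : G ⟶ pullback i g) [IsClosedImmersion ι] [AlgebraicGeometry.IsReduced G],
        Set.range ι.base ∈ irreducibleComponents ↥(pullback i g) →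
          ∃ φ : G ⟶ F', φ ≫ s = ι ≫ pullback.fst i g := by
  obtain ⟨Y', g, hg, hgs, h⟩ := Groth.Agent.H26.FinCover.Main.exists_cover i s
  refine ⟨Y', g, hg, hgs, fun G ι _ _ hG => ?_⟩
  haveI : IrreducibleSpace G := by
    have h1 : IsIrreducible (Set.range ι.base) := hG.prop
    have h2 : IsPreirreducible (ι.base '' Set.univ) := by rw [Set.image_univ]; exact h1.2
    haveI : PreirreducibleSpace G := ⟨by
      intro u v hu hv hnu hnv
      obtain ⟨u', hu', rfl⟩ := ι.isClosedEmbedding.isEmbedding.isInducing.isOpen_iff.1 hu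
      obtain ⟨v', hv', rfl⟩ := ι.isClosedEmbedding.isEmbedding.isInducing.isOpen_iff.1 hv
      obtain ⟨a, -, ha⟩ := hnu
      obtain ⟨b, -, hb⟩ := hnv
      obtain ⟨_, ⟨c, -, rfl⟩, hcu, hcv⟩ := h2 u' v' hu' hv' ⟨_, ⟨a, trivial, rfl⟩, ha⟩ ⟨_, ⟨b, trivial, rfl⟩, hb⟩
      exact ⟨c, trivial, hcu, hcv⟩⟩
    exact { toNonempty := Set.range_nonempty_iff_nonempty.1 h1.1 }
  haveI : IsIntegral G := isIntegral_of_irreducibleSpace_of_isReduced G
  exact h G ‹_› (ι ≫ pullback.fst i g) (ι ≫ pullback.snd i g) (by rw [Category.assoc, Category.assoc, pullback.condition])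

end Groth.Agent.S18360
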