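import Groth.Statements.S18362
import Groth.Agent.H99.PthRoot
import Mathlib.RingTheory.Etale.Pi
import Mathlib.Algebra.Group.Pi.Units
import Mathlib.Algebra.Algebra.Pi

set_option autoImplicit false
universe u
open SGA1t

namespace Groth.Agent.S18362

open Polynomial

/-- Localizing a finite power of a ring. -/
theorem isLocalization_pi (A L : Type u) [CommRing A] [CommRing L] [Algebra A L] (f : A)
    [IsLocalization.Away f L] (ι : Type u) [Finite ι] :
    Nonempty (Localization.Away (algebraMap A (ι → A) f) ≃ₐ[A] (ι → L)) := by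
  classical
  have : IsScalarTower A (ι → A) (ι → L) :=
    IsScalarTower.of_algebraMap_eq fun a => funext fun i => by simp; rfl
  have : IsLocalization.Away (algebraMap A (ι → A) f) (ι → L) := by
    refine { map_units := ?_, surj := ?_, exists_of_eq := ?_ }
    · rintro ⟨_, n, rfl⟩
      refine Pi.isUnit_iff.mpr fun i => ?_
      show IsUnit (algebraMap A L ((algebraMap A (ι → A) f ^ n) i))
      rw [Pi.pow_apply, Pi.algebraMap_apply]
      exact IsLocalization.map_units L (⟨_, n, rfl⟩ : Submonoid.powers f)
    · intro z
      obtain ⟨⟨_, n, rfl⟩, hb⟩ :=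
        IsLocalization.exist_integer_multiples_of_finite (Submonoid.powers f) z
      choose a ha using hb
      refine ⟨(fun i => a i, ⟨algebraMap A (ι → A) f ^ n, n, rfl⟩), funext fun i => ?_⟩
      show z i * algebraMap A L ((algebraMap A (ι → A) f ^ n) i) = algebraMap A L (a i)
      rw [ha, Pi.pow_apply, Pi.algebraMap_apply, mul_comm]
      exact (Algebra.smul_def _ _).symm
    · intro x y h
      choose c hc using fun i => IsLocalization.exists_of_eq (M := Submonoid.powers f) (S := L)
        (show algebraMap A L (x i) = algebraMap A L (y i) from congrFun h i)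
      choose n hn using fun i => (c i).2
      cases nonempty_fintype ι
      refine ⟨⟨algebraMap A (ι → A) f ^ (Finset.univ.sup n), _, rfl⟩, funext fun i => ?_⟩
      show (algebraMap A (ι → A) f ^ _) i * x i = (algebraMap A (ι → A) f ^ _) i * y i
      rw [Pi.pow_apply, Pi.algebraMap_apply, ← Nat.sub_add_cancel (Finset.le_sup (f := n) (Finset.mem_univ i))]
      simp only [pow_add, Algebra.algebraMap_self, RingHom.id_apply, mul_assoc]
      rw [show f ^ n i = (c i : A) from hn i, hc i]
  exact ⟨((IsLocalization.algEquiv (Submonoid.powers (algebraMap A (ι → A) f))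
    (Localization.Away (algebraMap A (ι → A) f)) (ι → L)).restrictScalars A)⟩

/-- Let A be a regular local ring which is henselian with separably closed residue field of
characteristic p > 0, and let f be an element of A such that A/(f) is a regular local ring in which
p is nonzero. Write A₁ = A[t]/(t^p - f) and let B be a finite étale algebra over A[1/f]. If there is
a finite étale A₁-algebra C₁ with C₁[1/f] isomorphic to A₁ ⊗_A B as A₁-algebras, then there is a
finite étale A-algebra C with C[1/f] isomorphic to B as A-algebras. The published statement also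
assumes the cover connected and tamely ramified along f = 0; this row assumes neither, tameness
being automatic here because the generic point of the divisor f = 0 has residue characteristic zero. -/
theorem result {A : Type u} [CommRing A]
    [IsRegularLocalRing A] [HenselianLocalRing A] [IsSepClosed (IsLocalRing.ResidueField A)]
    (p : ℕ) [Fact p.Prime] [CharP (IsLocalRing.ResidueField A) p] (f : A)
    (hreg : IsRegularLocalRing (A ⧸ Ideal.span {f})) (hp : (p : A) ∉ Ideal.span {f})
    (B : Type u) [CommRing B] [Algebra A B] [Algebra (Localization.Away f) B]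
    [IsScalarTower A (Localization.Away f) B] [Module.Finite (Localization.Away f) B]
    [Algebra.Etale (Localization.Away f) B]
    (h : ∃ (C₁ : Type u) (_ : CommRing C₁) (_ : Algebra (AdjoinRoot (Polynomial.X ^ p - Polynomial.C f)) C₁),
      Module.Finite (AdjoinRoot (Polynomial.X ^ p - Polynomial.C f)) C₁ ∧
      Algebra.Etale (AdjoinRoot (Polynomial.X ^ p - Polynomial.C f)) C₁ ∧
      Nonempty (Localization.Away (algebraMap (AdjoinRoot (Polynomial.X ^ p - Polynomial.C f)) C₁
          (AdjoinRoot.of (Polynomial.X ^ p - Polynomial.C f) f))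
        ≃ₐ[AdjoinRoot (Polynomial.X ^ p - Polynomial.C f)]
          TensorProduct A (AdjoinRoot (Polynomial.X ^ p - Polynomial.C f)) B)) :
    ∃ (C : Type u) (_ : CommRing C) (_ : Algebra A C), Module.Finite A C ∧ Algebra.Etale A C ∧
      Nonempty (Localization.Away (algebraMap A C f) ≃ₐ[A] B) := by
  classical
  have : IsDomain A := Lib.Regular.Quotient.isDomain A
  have : IsIntegrallyClosed A := Lib.Regular.UFD.isIntegrallyClosed A
  by_cases hf0 : f = 0
  · have : Subsingleton (Localization.Away f) :=
      IsLocalization.subsingleton (M := Submonoid.powers f) ⟨1, show f ^ 1 = 0 by rw [pow_one, hf0]⟩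
    have : Subsingleton B := Module.subsingleton (Localization.Away f) B
    have : Subsingleton (Localization.Away (algebraMap A A f)) :=
      IsLocalization.subsingleton (M := Submonoid.powers (algebraMap A A f))
        ⟨1, show (algebraMap A A f) ^ 1 = 0 by rw [pow_one, hf0, map_zero]⟩
    exact ⟨A, inferInstance, inferInstance, inferInstance, inferInstance,
      ⟨AlgEquiv.ofBijective
        { toFun := fun _ => 0
          map_one' := Subsingleton.elim _ _
          map_mul' := fun _ _ => Subsingleton.elim _ _
          map_zero' := rfl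
          map_add' := fun _ _ => Subsingleton.elim _ _
          commutes' := fun _ => Subsingleton.elim _ _ }
        ⟨fun _ _ _ => Subsingleton.elim _ _, fun x => ⟨0, Subsingleton.elim _ _⟩⟩⟩⟩
  have hpp : p.Prime := Fact.out
  have hpm : (p : A) ∈ IsLocalRing.maximalIdeal A := by
    rw [← IsLocalRing.residue_eq_zero_iff, map_natCast]
    exact CharP.cast_eq_zero _ p
  have : (Ideal.span {f}).IsPrime := (Ideal.Quotient.isDomain_iff_prime _).mp
    (@Lib.Regular.Quotient.isDomain (A ⧸ Ideal.span {f}) _ hreg)
  have hfm : f ∈ IsLocalRing.maximalIdeal A :=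
    IsLocalRing.le_maximalIdeal ‹(Ideal.span {f}).IsPrime›.ne_top (Ideal.mem_span_singleton_self f)
  have hfu : ¬ IsUnit f := hfm
  let g : A[X] := X ^ p - C f
  have hg : g.Monic := monic_X_pow_sub_C f hpp.ne_zero
  have hdeg : g.natDegree = p := natDegree_X_pow_sub_C
  have hirrA : Irreducible g := by
    have he : g.IsEisensteinAt (Ideal.span {f}) := by
      refine ⟨?_, fun {n} hn => ?_, ?_⟩
      · rw [hg.leadingCoeff]
        exact (Ideal.ne_top_iff_one _).mp ‹(Ideal.span {f}).IsPrime›.ne_top
      · rw [hdeg] at hn
        rw [Ideal.mem_span_singleton]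
        rcases Nat.eq_zero_or_pos n with rfl | h0
        · simp [g, hpp.ne_zero, hpp.ne_zero.symm, coeff_X_pow]
        · simp [g, coeff_C, coeff_X_pow, hn.ne, h0.ne']
      · rw [Ideal.span_singleton_pow, Ideal.mem_span_singleton]
        intro hd
        simp [g, hpp.ne_zero.symm, coeff_X_pow] at hd
        obtain ⟨c, hc⟩ := hd
        exact hfu (IsUnit.of_mul_eq_one c (mul_left_cancel₀ hf0 (by rw [mul_one]; linear_combination hc.symm)))
    exact he.irreducible inferInstance hg.isPrimitive (by rw [hdeg]; exact hpp.pos)
  let L := Localization.Away f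
  have hle : Submonoid.powers f ≤ nonZeroDivisors A :=
    powers_le_nonZeroDivisors_of_noZeroDivisors hf0
  have : IsDomain L := IsLocalization.isDomain_localization hle
  have : IsIntegrallyClosed L := isIntegrallyClosed_of_isLocalization L (Submonoid.powers f) hle
  have hAL : Function.Injective (algebraMap A L) := IsLocalization.injective L hle
  let a : L := algebraMap A L f
  let gL : L[X] := X ^ p - C a
  have hgL : gL = g.map (algebraMap A L) := by simp [gL, g, a]
  have hirr : Irreducible (gL.map (algebraMap L (FractionRing L))) := by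
    have : FaithfulSMul A (FractionRing L) := (faithfulSMul_iff_algebraMap_injective _ _).mpr (by
      rw [IsScalarTower.algebraMap_eq A L (FractionRing L)]
      exact (IsFractionRing.injective L (FractionRing L)).comp hAL)
    have : IsFractionRing A (FractionRing L) := IsFractionRing.of_field A _ fun z => by
      obtain ⟨x, y, -, rfl⟩ := IsFractionRing.div_surjective (A := L) z
      obtain ⟨x', ⟨s, hs⟩, rfl⟩ := IsLocalization.exists_mk'_eq (Submonoid.powers f) x
      obtain ⟨y', ⟨t, ht⟩, rfl⟩ := IsLocalization.exists_mk'_eq (Submonoid.powers f) y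
      have hk : ∀ (x : A) (s : Submonoid.powers f),
          algebraMap L (FractionRing L) (IsLocalization.mk' L x s) =
            algebraMap A (FractionRing L) x / algebraMap A (FractionRing L) s := by
        intro x s
        rw [eq_div_iff, IsScalarTower.algebraMap_apply A L (FractionRing L) x,
          IsScalarTower.algebraMap_apply A L (FractionRing L) (s : A),
          ← map_mul, IsLocalization.mk'_spec]
        exact (map_ne_zero_iff _ (FaithfulSMul.algebraMap_injective A _)).mpr
          (nonZeroDivisors.ne_zero (hle s.2))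
      refine ⟨x' * t, s * y', ?_⟩
      rw [hk, hk, div_div_div_eq, map_mul, map_mul]
    rw [hgL, Polynomial.map_map, ← IsScalarTower.algebraMap_eq]
    exact (Polynomial.Monic.irreducible_iff_irreducible_map_fraction_map hg).mp hirrA
  have hau : IsUnit a := IsLocalization.Away.algebraMap_isUnit f
  have hnu : ¬ IsUnit ((p : L) * a) := fun h => by
    have h' : IsUnit (algebraMap A L p) := by
      rw [map_natCast]
      exact isUnit_of_mul_isUnit_left h
    obtain ⟨z, hz⟩ := (IsLocalization.algebraMap_isUnit_iff (Submonoid.powers f)).mp h'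
    obtain ⟨⟨k, hk⟩, hd⟩ := hz
    obtain ⟨c, hc⟩ := hd
    have key : ∀ (k : ℕ) (c : A), f ^ k = (p : A) * c → False := by
      intro k
      induction k with
      | zero =>
        intro c hc
        exact hpm (IsUnit.of_mul_eq_one c (by rw [← hc, pow_zero]))
      | succ k ih =>
        intro c hc
        have h1 : (p : A) * c ∈ Ideal.span {f} := by
          rw [← hc, pow_succ]
          exact Ideal.mul_mem_left _ _ (Ideal.mem_span_singleton_self f)
        obtain ⟨c', rfl⟩ := Ideal.mem_span_singleton.mp
          ((‹(Ideal.span {f}).IsPrime›.mem_or_mem h1).resolve_left hp)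
        exact ih c' (mul_left_cancel₀ hf0 (by rw [← pow_succ', hc]; ring))
    exact key k c (hk.trans hc)
  obtain ⟨C₁, _, _, _, _, ⟨e⟩⟩ := h
  let A₁ := AdjoinRoot g
  have : Module.Finite A A₁ := hg.finite_adjoinRoot
  have : Module.Free A A₁ := Module.Free.of_basis (AdjoinRoot.powerBasis' hg).basis
  have hinjA : Function.Injective (algebraMap A A₁) :=
    AdjoinRoot.of.injective_of_degree_ne_zero (by
      rw [degree_eq_natDegree hg.ne_zero, hdeg]; exact_mod_cast hpp.ne_zero)
  let k := IsLocalRing.ResidueField A
  let π₀ : A₁ →+* k := AdjoinRoot.lift (IsLocalRing.residue A) 0 (by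
    simp [g, hpp.ne_zero, (IsLocalRing.residue_eq_zero_iff f).mpr hfm])
  have hπ : ∀ x, π₀ (algebraMap A A₁ x) = IsLocalRing.residue A x := fun x =>
    AdjoinRoot.lift_of _
  have hMmax : (RingHom.ker π₀).IsMaximal := RingHom.ker_isMaximal_of_surjective π₀ fun y => by
    obtain ⟨x, rfl⟩ := IsLocalRing.residue_surjective y
    exact ⟨_, hπ x⟩
  have hMuniq : ∀ N : Ideal A₁, N.IsMaximal → N = RingHom.ker π₀ := by
    intro N hN
    have hc : N.comap (algebraMap A A₁) = IsLocalRing.maximalIdeal A :=
      IsLocalRing.eq_maximalIdeal (Ideal.isMaximal_comap_of_isIntegral_of_isMaximal N)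
    refine (hMmax.eq_of_le hN.ne_top fun x hx => ?_).symm
    obtain ⟨P, rfl⟩ := AdjoinRoot.mk_surjective x
    have h0 : P.coeff 0 ∈ IsLocalRing.maximalIdeal A := by
      rw [← IsLocalRing.residue_eq_zero_iff]
      rw [RingHom.mem_ker] at hx
      rw [← hx, ← Polynomial.eval₂_at_zero]
      exact (AdjoinRoot.lift_mk _ P).symm
    have hroot : AdjoinRoot.root g ∈ N := by
      refine hN.isPrime.mem_of_pow_mem p ?_
      have : AdjoinRoot.root g ^ p = algebraMap A A₁ f := by
        show AdjoinRoot.root g ^ p = AdjoinRoot.of g f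
        simpa [g, sub_eq_zero] using AdjoinRoot.eval₂_root g
      rw [this]
      exact Ideal.mem_comap.mp (hc.ge hfm)
    rw [← X_mul_divX_add P, map_add, map_mul, AdjoinRoot.mk_X, AdjoinRoot.mk_C]
    exact N.add_mem (N.mul_mem_right _ hroot) (Ideal.mem_comap.mp (hc.ge h0))
  have : IsLocalRing A₁ := IsLocalRing.of_unique_max_ideal ⟨_, hMmax, hMuniq⟩
  have : IsLocalHom (algebraMap A A₁) := ⟨fun x hx => by
    have := hx.map π₀
    rw [hπ, isUnit_iff_ne_zero] at this
    exact (IsLocalRing.residue_ne_zero_iff_isUnit x).mp this⟩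
  obtain ⟨hH, hS⟩ := Lib.Henselian.QFLocalization.henselian_and_sepClosed (A := A) A₁
  have hcomap : ∀ q : MaximalSpectrum C₁,
      q.asIdeal.comap (algebraMap A₁ C₁) = IsLocalRing.maximalIdeal A₁ := fun q => by
    have := q.isMaximal
    exact IsLocalRing.eq_maximalIdeal (Ideal.isMaximal_comap_of_isIntegral_of_isMaximal q.asIdeal)
  choose τ hτ using fun q : MaximalSpectrum C₁ =>
    H99.PthRoot.exists_retraction A₁ C₁ q.asIdeal (hqp := q.isMaximal.isPrime) (hcomap q)
  have : Finite (MaximalSpectrum C₁) := by
    have := (Algebra.QuasiFinite.finite_primesOver (R := A₁) (S := C₁)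
      (IsLocalRing.maximalIdeal A₁)).to_subtype
    exact Finite.of_injective (fun q : MaximalSpectrum C₁ =>
      (⟨q.asIdeal, q.isMaximal.isPrime, ⟨(hcomap q).symm⟩⟩ :
        (IsLocalRing.maximalIdeal A₁).primesOver C₁))
      fun q q' h => MaximalSpectrum.ext (congrArg Subtype.val h)
  let L₁ := AdjoinRoot gL
  let ι₁ : A₁ →+* L₁ := AdjoinRoot.map (algebraMap A L) g gL hgL.dvd
  have hι : Function.Injective ι₁ := H99.PthRoot.adjoinRoot_map_injective _ hAL g hg gL hgL
  have hιof : ∀ x, ι₁ (algebraMap A A₁ x) = algebraMap L L₁ (algebraMap A L x) := fun x => by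
    simp [ι₁, AdjoinRoot.map, AdjoinRoot.algebraMap_eq]
    exact AdjoinRoot.lift_of _
  let F : C₁ := algebraMap A₁ C₁ (AdjoinRoot.of g f)
  have hFu : ∀ q, IsUnit (ι₁.comp (τ q).toRingHom F) := fun q => by
    show IsUnit (ι₁ (τ q (algebraMap A₁ C₁ (algebraMap A A₁ f))))
    rw [(τ q).commutes, Algebra.algebraMap_self, RingHom.id_apply, hιof]
    exact hau.map _
  let φ : MaximalSpectrum C₁ → (Localization.Away F →+* L₁) := fun q =>
    IsLocalization.Away.lift F (hFu q)
  have hφ : ∀ q c, φ q (algebraMap C₁ _ c) = ι₁ (τ q c) := fun q c =>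
    IsLocalization.Away.lift_eq F (hFu q) c
  let inc : B →ₐ[A] TensorProduct A A₁ B := Algebra.TensorProduct.includeRight
  have hcomm : ∀ q (x : A), φ q (e.symm (inc (algebraMap A B x))) = algebraMap A L₁ x := fun q x => by
    rw [inc.commutes, IsScalarTower.algebraMap_apply A A₁ (TensorProduct A A₁ B), e.symm.commutes,
      IsScalarTower.algebraMap_apply A₁ C₁ (Localization.Away F), hφ, (τ q).commutes,
      Algebra.algebraMap_self, RingHom.id_apply, hιof, ← IsScalarTower.algebraMap_apply]
  let ψ₀ : MaximalSpectrum C₁ → (B →+* L₁) := fun q =>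
    (φ q).comp ((e.symm.toRingEquiv.toRingHom).comp inc.toRingHom)
  have hψL : ∀ q, (ψ₀ q).comp (algebraMap L B) = algebraMap L L₁ := fun q =>
    IsLocalization.ringHom_ext (Submonoid.powers f) (RingHom.ext fun x => by
      show φ q (e.symm (inc (algebraMap L B (algebraMap A L x)))) = algebraMap L L₁ (algebraMap A L x)
      rw [← IsScalarTower.algebraMap_apply A L B, ← IsScalarTower.algebraMap_apply A L L₁]
      exact hcomm q x)
  let ψ : MaximalSpectrum C₁ → (B →ₐ[L] L₁) := fun q =>
    { ψ₀ q with commutes' := fun x => congrFun (congrArg DFunLike.coe (hψL q)) x }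
  have hL₁inj : Function.Injective (algebraMap L L₁) :=
    AdjoinRoot.of.injective_of_degree_ne_zero (by
      show (X ^ p - C a : L[X]).degree ≠ 0
      rw [degree_X_pow_sub_C hpp.pos]; exact_mod_cast hpp.ne_zero)
  have hmem : ∀ q b, ψ q b ∈ (Algebra.ofId L L₁).range := fun q b =>
    H99.PthRoot.mem_range p L a hnu hirr B (ψ q) b
  let χ : MaximalSpectrum C₁ → (B →ₐ[L] L) := fun q =>
    (AlgEquiv.ofInjective (Algebra.ofId L L₁) hL₁inj).symm.toAlgHom.comp
      ((ψ q).codRestrict _ (hmem q))
  have hχ : ∀ b, (∀ q, χ q b = 0) → b = 0 := by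
    intro b hb
    have hb' : ∀ q, φ q (e.symm (inc b)) = 0 := fun q => by
      have h1 : (ψ q).codRestrict _ (hmem q) b = 0 :=
        (AlgEquiv.ofInjective (Algebra.ofId L L₁) hL₁inj).symm.map_eq_zero_iff.mp (hb q)
      exact congrArg Subtype.val h1
    obtain ⟨⟨c, s⟩, hcs⟩ := IsLocalization.surj (Submonoid.powers F) (e.symm (inc b))
    have hc0 : c = 0 := H99.PthRoot.eq_zero_of_forall_retraction A₁ C₁ τ hτ c fun q => by
      apply hι
      rw [map_zero, ← hφ, ← hcs, map_mul, hb', zero_mul]
    have h0 : e.symm (inc b) = 0 := by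
      rw [hc0, map_zero] at hcs
      exact (IsLocalization.map_units (Localization.Away F) s).mul_left_eq_zero.mp hcs
    have hinc : inc b = 0 := e.symm.map_eq_zero_iff.mp h0
    have : Module.Flat A B := Module.Flat.trans A L B
    exact (map_eq_zero_iff inc (Algebra.TensorProduct.includeRight_injective hinjA)).mp hinc
  obtain ⟨ι, hfin, ⟨E⟩⟩ := H99.PthRoot.exists_algEquiv_pi L B χ hχ
  obtain ⟨E'⟩ := isLocalization_pi A L f ι
  exact ⟨ι → A, inferInstance, inferInstance, inferInstance, inferInstance,
    ⟨E'.trans (E.restrictScalars A)⟩⟩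

end Groth.Agent.S18362
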