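import Groth.Statements.S18363
import Groth.Agent.Lib.Depth.Ext
import Groth.Agent.Lib.Depth.Assoc
import Mathlib.RingTheory.KrullDimension.NonZeroDivisors

set_option autoImplicit false
set_option backward.isDefEq.respectTransparency false
universe u
open CategoryTheory
open CAlg

namespace Groth.Agent.S18363

open CategoryTheory CategoryTheory.Abelian

lemma exists_nzd {R : Type u} [CommRing R] [IsNoetherianRing R] [IsLocalRing R] (P A : Ideal R)
    [IsReduced (R ⧸ P)] (hdim : ringKrullDim (R ⧸ P) = 1) (n : ℕ)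
    (hA : IsLocalRing.maximalIdeal R ^ n ≤ P ⊔ A) :
    ∃ x ∈ A, x ∈ IsLocalRing.maximalIdeal R ∨ A = ⊤ → Ideal.Quotient.mk P x ∈ nonZeroDivisors (R ⧸ P) := by
  have hPrad : P.IsRadical := (Ideal.isRadical_iff_quotient_reduced P).mpr inferInstance
  obtain ⟨x, hxA, hx⟩ : ∃ x ∈ A, ∀ p ∈ P.minimalPrimes, x ∉ p := by
    by_contra hc
    push Not at hc
    obtain ⟨p, hp, hle⟩ := (A.subset_union_prime_finite P.finite_minimalPrimes_of_isNoetherianRing
      (f := id) 0 0 fun p hp _ _ => hp.1.1).1
      (fun x hx => by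
        obtain ⟨p, hp, hxp⟩ := hc x hx
        exact Set.mem_biUnion hp hxp)
    have hpp := hp.1.1
    have hle' : IsLocalRing.maximalIdeal R ≤ p := by
      intro y hy
      exact hpp.mem_of_pow_mem n ((hA.trans (sup_le hp.1.2 hle)) (Ideal.pow_mem_pow hy n))
    have hpm : p = IsLocalRing.maximalIdeal R := le_antisymm (IsLocalRing.le_maximalIdeal hpp.ne_top) hle'
    have h0 : ∀ q : PrimeSpectrum (R ⧸ P), q.asIdeal.comap (Ideal.Quotient.mk P) = p := fun q => by
      refine le_antisymm (hpm ▸ IsLocalRing.le_maximalIdeal ((Ideal.IsPrime.comap _).ne_top)) ?_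
      refine hp.2 ⟨Ideal.IsPrime.comap _, ?_⟩ (hpm ▸ IsLocalRing.le_maximalIdeal ((Ideal.IsPrime.comap _).ne_top))
      intro z hz
      rw [Ideal.mem_comap, Ideal.Quotient.eq_zero_iff_mem.mpr hz]
      exact zero_mem _
    have : Subsingleton (PrimeSpectrum (R ⧸ P)) := ⟨fun a b => PrimeSpectrum.ext
      (Ideal.comap_injective_of_surjective _ Ideal.Quotient.mk_surjective ((h0 a).trans (h0 b).symm))⟩
    have : Order.krullDim (PrimeSpectrum (R ⧸ P)) ≤ 0 := Order.krullDim_nonpos_of_subsingleton
    change ringKrullDim (R ⧸ P) ≤ 0 at this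
    rw [hdim] at this
    exact absurd this (by norm_num)
  refine ⟨x, hxA, fun _ => mem_nonZeroDivisors_iff_right.mpr fun z hz => ?_⟩
  obtain ⟨z, rfl⟩ := Ideal.Quotient.mk_surjective z
  rw [← map_mul, Ideal.Quotient.eq_zero_iff_mem] at hz
  rw [Ideal.Quotient.eq_zero_iff_mem, ← hPrad.radical, ← Ideal.sInf_minimalPrimes, Submodule.mem_sInf]
  exact fun p hp => (hp.1.1.mem_or_mem (hp.1.2 hz)).resolve_right (hx p hp)

/-- Let R be a Noetherian local ring with maximal ideal m, and P, Q ideals of R such that P + Q contains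
a power of m while R/P and R/Q are both reduced of Krull dimension one. Let I and J be nonzero
finitely generated R-modules with P·I = 0 and Q·J = 0, such that every element of R whose class in
R/P is a non-zero-divisor acts injectively on I, and every element whose class in R/Q is a
non-zero-divisor acts injectively on J. Then the group Ext¹_R(I, J) is nonzero. (This is the stalk
statement behind the existence of a non-split extension of a torsion-free rank-one sheaf on a
subcurve Y by one on a subcurve Z of a reduced projective curve, at a point where Y and Z meet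
without sharing a component; in that situation the modules moreover have rank one at the generic
points of their supports and P ∩ Q = 0, two assumptions the argument does not use.) -/
theorem result
    (R : Type u) [CommRing R] [IsNoetherianRing R] [IsLocalRing R]
    (P Q : Ideal R) (hPQ : ∃ n : ℕ, IsLocalRing.maximalIdeal R ^ n ≤ P ⊔ Q)
    [IsReduced (R ⧸ P)] [IsReduced (R ⧸ Q)]
    (hPdim : ringKrullDim (R ⧸ P) = 1) (hQdim : ringKrullDim (R ⧸ Q) = 1)
    (I J : Type u) [AddCommGroup I] [Module R I] [Module.Finite R I] [Nontrivial I]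
    [AddCommGroup J] [Module R J] [Module.Finite R J] [Nontrivial J]
    (hPI : ∀ p ∈ P, ∀ x : I, p • x = 0) (hQJ : ∀ q ∈ Q, ∀ y : J, q • y = 0)
    (hItf : ∀ r : R, Ideal.Quotient.mk P r ∈ nonZeroDivisors (R ⧸ P) → ∀ x : I, r • x = 0 → x = 0)
    (hJtf : ∀ r : R, Ideal.Quotient.mk Q r ∈ nonZeroDivisors (R ⧸ Q) → ∀ y : J, r • y = 0 → y = 0) :
    Nontrivial (Abelian.Ext (ModuleCat.of R I) (ModuleCat.of R J) 1) := by
  classical
  obtain ⟨n, hn⟩ := hPQ
  have hQne : Q ≠ ⊤ := fun h => by
    rw [h] at hQdim
    have : Subsingleton (R ⧸ (⊤ : Ideal R)) := Ideal.Quotient.subsingleton_iff.mpr rfl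
    rw [ringKrullDim_eq_bot_of_subsingleton] at hQdim
    exact WithBot.bot_ne_one hQdim
  have hPne : P ≠ ⊤ := fun h => by
    rw [h] at hPdim
    have : Subsingleton (R ⧸ (⊤ : Ideal R)) := Ideal.Quotient.subsingleton_iff.mpr rfl
    rw [ringKrullDim_eq_bot_of_subsingleton] at hPdim
    exact WithBot.bot_ne_one hPdim
  obtain ⟨x, hxQ, hx'⟩ := exists_nzd P Q hPdim n hn
  have hxm : x ∈ IsLocalRing.maximalIdeal R := IsLocalRing.le_maximalIdeal hQne hxQ
  have hx := hx' (Or.inl hxm)
  obtain ⟨y, hym, hy'⟩ := exists_nzd Q (IsLocalRing.maximalIdeal R) hQdim 1 (by rw [pow_one]; exact le_sup_right)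
  have hy := hy' (Or.inl hym)
  -- elements of `J` killed by a power of the maximal ideal vanish
  have hJ0 : ∀ j : J, (∀ r ∈ IsLocalRing.maximalIdeal R ^ n, r • j = 0) → j = 0 := fun j hj =>
    hJtf (y ^ n) (by rw [map_pow]; exact pow_mem hy n) j (hj _ (Ideal.pow_mem_pow hym n))
  have hhom : ∀ (N : ModuleCat.{u} R), (∀ z : N, ∀ p ∈ P, p • z = 0) →
      Subsingleton (Ext N (ModuleCat.of R J) 0) := by
    intro N hN
    have : Subsingleton (N ⟶ ModuleCat.of R J) := ⟨fun f g => ModuleCat.hom_ext (LinearMap.ext fun z => by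
      rw [← sub_eq_zero]
      refine hJ0 _ fun r hr => ?_
      obtain ⟨a, ha, b, hb, rfl⟩ := Submodule.mem_sup.mp (hn hr)
      have e1 : a • f.hom z = 0 := by rw [← map_smul, hN z a ha, map_zero]
      have e2 : a • g.hom z = 0 := by rw [← map_smul, hN z a ha, map_zero]
      rw [smul_sub, add_smul, add_smul, e1, e2, hQJ b hb, hQJ b hb]
      simp)⟩
    exact Ext.addEquiv₀.toEquiv.subsingleton
  by_contra hnt
  rw [not_nontrivial_iff_subsingleton] at hnt
  let N := I ⧸ LinearMap.range (LinearMap.lsmul R I x)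
  have hinj : Function.Injective (LinearMap.lsmul R I x) :=
    (injective_iff_map_eq_zero _).mpr (hItf x hx)
  let S : ShortComplex (ModuleCat.{u} R) := ShortComplex.mk (ModuleCat.ofHom (LinearMap.lsmul R I x))
    (ModuleCat.ofHom (LinearMap.range (LinearMap.lsmul R I x)).mkQ)
    (ModuleCat.hom_ext (LinearMap.range_mkQ_comp _))
  have hS : S.ShortExact := by
    refine { exact := ?_, mono_f := (ModuleCat.mono_iff_injective _).mpr hinj,
             epi_g := (ModuleCat.epi_iff_surjective _).mpr (Submodule.mkQ_surjective _) }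
    rw [ShortComplex.ShortExact.moduleCat_exact_iff_function_exact]
    exact LinearMap.exact_map_mkQ_range _
  have hNnt : Nontrivial N := by
    refine Submodule.Quotient.nontrivial_iff.mpr fun h => ?_
    have h' : (⊤ : Submodule R I) ≤ Ideal.span {x} • (⊤ : Submodule R I) := by
      intro i _
      obtain ⟨j, rfl⟩ : i ∈ LinearMap.range (LinearMap.lsmul R I x) := by rw [h]; trivial
      exact Submodule.smul_mem_smul (Ideal.mem_span_singleton_self x) trivial
    have := Submodule.eq_bot_of_le_smul_of_le_jacobson_bot (Ideal.span {x}) (⊤ : Submodule R I)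
      Module.Finite.fg_top h' (((Ideal.span_singleton_le_iff_mem _).mpr hxm).trans
        (IsLocalRing.maximalIdeal_le_jacobson _))
    exact top_ne_bot this
  have hNP : ∀ z : N, ∀ p ∈ P, p • z = 0 := by
    intro z p hp
    obtain ⟨z, rfl⟩ := Submodule.Quotient.mk_surjective _ z
    rw [← Submodule.Quotient.mk_smul, hPI p hp, Submodule.Quotient.mk_zero]
  obtain ⟨x', hx'Q, hx'P⟩ : ∃ x' : R, x' = x ∧ x' ∈ Q := ⟨x, rfl, hxQ⟩
  have h0I : Subsingleton (Ext S.X₁ (ModuleCat.of R J) 0) := hhom _ (fun z p hp => hPI p hp z)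
  have h0 : Subsingleton (Ext (ModuleCat.of R N) (ModuleCat.of R J) 0) := hhom _ hNP
  have h1 : Subsingleton (Ext (ModuleCat.of R N) (ModuleCat.of R J) 1) :=
    Groth.Agent.Lib.Depth.Ext.subsingleton_src_X₃_succ (N := ModuleCat.of R J) hS (i := 0) h0I hnt
  have hsupp : Module.support R N = PrimeSpectrum.zeroLocus (IsLocalRing.maximalIdeal R : Set R) := by
    ext q
    constructor
    · intro hq
      rw [Module.support_eq_zeroLocus, PrimeSpectrum.mem_zeroLocus, SetLike.coe_subset_coe] at hq
      rw [PrimeSpectrum.mem_zeroLocus, SetLike.coe_subset_coe]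
      have hP : P ≤ q.asIdeal := fun p hp => hq (Module.mem_annihilator.mpr fun z => hNP z p hp)
      have hxq : x ∈ q.asIdeal := hq (Module.mem_annihilator.mpr fun z => by
        obtain ⟨z, rfl⟩ := Submodule.Quotient.mk_surjective _ z
        rw [← Submodule.Quotient.mk_smul, Submodule.Quotient.mk_eq_zero]
        exact ⟨z, rfl⟩)
      intro r hr
      by_contra hrq
      -- a prime over `P` containing a non-zero-divisor is the maximal ideal
      have hlt : q < IsLocalRing.closedPoint R := lt_of_le_of_ne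
        (IsLocalRing.le_maximalIdeal q.2.ne_top) (fun h => hrq (by rw [h]; exact hr))
      obtain ⟨q₀, hq₀, hq₀le⟩ := Ideal.exists_minimalPrimes_le hP
      have hxq₀ : x ∉ q₀ := by
        intro hmem
        have hq' := hq₀
        rw [Ideal.minimalPrimes_eq_comap] at hq'
        obtain ⟨q', hq', rfl⟩ := hq'
        exact (Ideal.disjoint_nonZeroDivisors_of_mem_minimalPrimes hq').le_bot ⟨hmem, hx⟩
      let a : PrimeSpectrum.zeroLocus (P : Set R) := ⟨⟨q₀, hq₀.1.1⟩, hq₀.1.2⟩
      let b : PrimeSpectrum.zeroLocus (P : Set R) := ⟨q, hP⟩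
      let c : PrimeSpectrum.zeroLocus (P : Set R) :=
        ⟨IsLocalRing.closedPoint R, IsLocalRing.le_maximalIdeal hPne⟩
      have hab : a < b := lt_of_le_of_ne hq₀le (fun h => hxq₀ (by
        rw [show q₀ = q.asIdeal from congrArg (fun z : PrimeSpectrum.zeroLocus (P : Set R) => z.1.asIdeal) h]
        exact hxq))
      have hbc : b < c := hlt
      let l : LTSeries (PrimeSpectrum.zeroLocus (P : Set R)) :=
        ((RelSeries.singleton _ a).snoc b (by simpa using hab)).snoc c (by simpa using hbc)
      have := Order.LTSeries.length_le_krullDim l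
      rw [← ringKrullDim_quotient, hPdim] at this
      simp [l] at this
    · intro hq
      have : q = IsLocalRing.closedPoint R := PrimeSpectrum.ext (le_antisymm
        (IsLocalRing.le_maximalIdeal q.2.ne_top) (fun z hz => hq hz))
      rw [this]
      exact IsLocalRing.closedPoint_mem_support R N
  have hd := (Groth.Agent.Lib.Depth.Ext.le_idealDepth_iff_ext (IsLocalRing.maximalIdeal R) J
    (ModuleCat.of R N) hsupp 2).mpr fun i hi => by
      interval_cases i
      · exact h0
      · exact h1
  have hsd : Module.supportDim R J ≤ 1 := by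
    rw [← hQdim, ← Module.supportDim_quotient_eq_ringKrullDim]
    refine Order.krullDim_le_of_strictMono (fun a => ⟨a.1, ?_⟩) (fun a b h => h)
    rw [Module.support_eq_zeroLocus, Ideal.annihilator_quotient, PrimeSpectrum.mem_zeroLocus, SetLike.coe_subset_coe]
    have ha : Module.annihilator R J ≤ a.1.asIdeal := Module.annihilator_le_of_mem_support a.2
    exact fun z hz => ha (Module.mem_annihilator.mpr (hQJ z hz))
  have := (Groth.Agent.Lib.Depth.Assoc.depth_le_supportDim (R := R) J).trans hsd
  have h2 : ((2 : ℕ∞) : WithBot ℕ∞) ≤ 1 := le_trans (WithBot.coe_le_coe.mpr hd) this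
  exact absurd h2 (by rw [← WithBot.coe_one, WithBot.coe_le_coe]; norm_num)

end Groth.Agent.S18363
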