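import Groth.Statements.S18364
import Groth.Agent.Lib.ModifDec.Basic

set_option autoImplicit false
universe u
open CAlg

namespace Groth.Agent.S18364

/-- Let A be a Noetherian ring, π an element of A, and (𝔓_i)_{i ∈ ι} an injective finite family listing
exactly the minimal prime ideals over (π). Let M be a finitely generated A-module and M̄ = M/πM. For
a subset T of ι let K(T) ⊆ M̄ be the submodule of elements whose image in the localisation of M̄ at
𝔓_i is zero for every i ∈ T, and N(T) ⊆ M its preimage in M. Assume K(ι) = 0, i.e. no nonzero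
element of M̄ vanishes at all the minimal primes (every associated prime of M̄ is one of the 𝔓_i).
Then for every subset Y of ι with complement Z one has N(Y) ∩ N(Z) = πM, and the same construction
applied to the module N(Y) instead of M — the preimage in N(Y) of the elements of N(Y)/πN(Y)
vanishing at every 𝔓_i with i ∈ Z — is, as a submodule of M, equal to N(Y) ∩ N(Z). (Geometric
meaning: A is the local ring of a flat family of curves over a discrete valuation ring with
uniformizer π at a point of the reduced special fibre, M the stalk of a torsion-free rank-one sheaf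
I, Y a set of components of the special fibre through the point, and N(Y) the stalk of the kernel
I^Y of I → I(s)_Y; the statement is (I^Y)^Z = I^Y ∩ I^Z = πI. Reducedness of A/πA, flatness and rank
one are not used.) -/
theorem result
    (A : Type u) [CommRing A] [IsNoetherianRing A] (π : A)
    (ι : Type) [Finite ι] (𝔓 : ι → Ideal A) [∀ i, (𝔓 i).IsPrime]
    (h𝔓 : ∀ i, 𝔓 i ∈ (Ideal.span {π}).minimalPrimes) (h𝔓inj : Function.Injective 𝔓)
    (h𝔓surj : ∀ 𝔔 ∈ (Ideal.span {π}).minimalPrimes, ∃ i, 𝔓 i = 𝔔)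
    (M : Type u) [AddCommGroup M] [Module A M] [Module.Finite A M]
    (K : Set ι → Submodule A (M ⧸ Ideal.span {π} • (⊤ : Submodule A M)))
    (hK : ∀ T : Set ι, K T = ⨅ i ∈ T, LinearMap.ker
      (LocalizedModule.mkLinearMap (𝔓 i).primeCompl (M ⧸ Ideal.span {π} • (⊤ : Submodule A M))))
    (htf : K Set.univ = ⊥)
    (N : Set ι → Submodule A M)
    (hN : ∀ T : Set ι, N T = (K T).comap (Submodule.mkQ (Ideal.span {π} • (⊤ : Submodule A M))))
    (Y : Set ι) :
    N Y ⊓ N Yᶜ = Ideal.span {π} • (⊤ : Submodule A M) ∧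
    Submodule.map (N Y).subtype
      ((⨅ i ∈ Yᶜ, LinearMap.ker (LocalizedModule.mkLinearMap (𝔓 i).primeCompl
          (↥(N Y) ⧸ Ideal.span {π} • (⊤ : Submodule A ↥(N Y))))).comap
        (Submodule.mkQ (Ideal.span {π} • (⊤ : Submodule A ↥(N Y)))))
      = N Y ⊓ N Yᶜ := by
  have hNmem : ∀ (T : Set ι) (x : M), x ∈ N T ↔ ∀ i ∈ T, Lib.ModifDec.At π 𝔓 i x := fun T x => by
    simp only [hN, hK, Submodule.mem_comap, Submodule.mem_iInf, Lib.ModifDec.mk_mem_ker_iff]
  have hfull : ∀ x : M, (∀ i, Lib.ModifDec.At π 𝔓 i x) → x ∈ Ideal.span {π} • (⊤ : Submodule A M) := by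
    intro x hx
    have : x ∈ N Set.univ := (hNmem _ x).2 fun i _ => hx i
    rw [hN, htf, Submodule.mem_comap, Submodule.mem_bot, Submodule.mkQ_apply, Submodule.Quotient.mk_eq_zero] at this
    exact this
  have hfst : N Y ⊓ N Yᶜ = Ideal.span {π} • (⊤ : Submodule A M) := by
    ext x
    rw [Submodule.mem_inf, hNmem, hNmem]
    refine ⟨fun h => hfull x fun i => ?_, fun h => ?_⟩
    · by_cases hi : i ∈ Y
      · exact h.1 i hi
      · exact h.2 i hi
    · obtain ⟨y, rfl⟩ := Lib.ModifDec.mem_span_smul_top.1 h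
      exact ⟨fun i _ => Lib.ModifDec.at_smul i y, fun i _ => Lib.ModifDec.at_smul i y⟩
  refine ⟨hfst, le_antisymm ?_ ?_⟩
  · rintro _ ⟨x, hx, rfl⟩
    simp only [SetLike.mem_coe, Submodule.mem_comap, Submodule.mem_iInf] at hx
    refine ⟨x.2, (hNmem _ _).2 fun i hi => ?_⟩
    obtain ⟨s, hs, y, hy⟩ := (Lib.ModifDec.mk_mem_ker_iff i x).1 (hx i hi)
    exact ⟨s, hs, (y : M), congrArg Subtype.val hy⟩
  · intro x hx
    refine ⟨⟨x, hx.1⟩, ?_, rfl⟩
    simp only [SetLike.mem_coe, Submodule.mem_comap, Submodule.mem_iInf]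
    intro i hi
    refine (Lib.ModifDec.mk_mem_ker_iff i _).2 ?_
    obtain ⟨y, rfl⟩ := Lib.ModifDec.mem_span_smul_top.1 (hfst ▸ hx : x ∈ Ideal.span {π} • (⊤ : Submodule A M))
    obtain ⟨s, hs, hsY⟩ := Lib.ModifDec.exists_sep (π := π) (M := M) h𝔓 h𝔓inj (Set.notMem_of_mem_compl hi)
    exact ⟨s, hs, ⟨s • y, (hNmem _ _).2 fun j hj => hsY j hj y⟩, Subtype.ext (smul_comm s π y)⟩

end Groth.Agent.S18364
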