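import Groth.Statements.S18365
import Groth.Agent.Lib.ModifDec.Basic

set_option autoImplicit false
universe u
open CAlg

namespace Groth.Agent.S18365

/-- Let A be a Noetherian ring, π an element of A, (𝔓_i)_{i ∈ ι} an injective finite family listing
exactly the minimal prime ideals over (π), and M a finitely generated A-module on which π acts
injectively; put M̄ = M/πM. For T ⊆ ι let K(T) ⊆ M̄ be the submodule of elements whose image in the
localisation of M̄ at 𝔓_i vanishes for every i ∈ T, and N(T) ⊆ M its preimage; assume K(ι) = 0.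
Suppose that M̄ decomposes at Y, i.e. K(Y) + K(Yᶜ) = M̄, and that for a subset Z the module
N(Y)/πN(Y) decomposes at Z, i.e. its submodule of elements vanishing at every 𝔓_i (i ∈ Z) and its
submodule of elements vanishing at every 𝔓_i (i ∉ Z) together span it. Then M̄ decomposes at Z: K(Z)
+ K(Zᶜ) = M̄. (Geometric meaning: for a flat family of curves over a discrete valuation ring with
uniformizer π, I a torsion-free rank-one sheaf flat over the base, Y a subcurve of the special fibre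
X(s) at which I(s) decomposes and I^Y = ker(I → I(s)_Y): if I^Y(s) decomposes at a subcurve Z then
so does I(s); decomposition of a sheaf at Z is the surjectivity of I(s) → I(s)_Z ⊕ I(s)_{Z^c},
checked on stalks. Reducedness of the special fibre and rank one are not used.) -/
theorem result
    (A : Type u) [CommRing A] [IsNoetherianRing A] (π : A)
    (ι : Type) [Finite ι] (𝔓 : ι → Ideal A) [∀ i, (𝔓 i).IsPrime]
    (h𝔓 : ∀ i, 𝔓 i ∈ (Ideal.span {π}).minimalPrimes) (h𝔓inj : Function.Injective 𝔓)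
    (h𝔓surj : ∀ 𝔔 ∈ (Ideal.span {π}).minimalPrimes, ∃ i, 𝔓 i = 𝔔)
    (M : Type u) [AddCommGroup M] [Module A M] [Module.Finite A M]
    (hπ : ∀ m : M, π • m = 0 → m = 0)
    (K : Set ι → Submodule A (M ⧸ Ideal.span {π} • (⊤ : Submodule A M)))
    (hK : ∀ T : Set ι, K T = ⨅ i ∈ T, LinearMap.ker
      (LocalizedModule.mkLinearMap (𝔓 i).primeCompl (M ⧸ Ideal.span {π} • (⊤ : Submodule A M))))
    (htf : K Set.univ = ⊥)
    (N : Set ι → Submodule A M)
    (hN : ∀ T : Set ι, N T = (K T).comap (Submodule.mkQ (Ideal.span {π} • (⊤ : Submodule A M))))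
    (Y Z : Set ι) (hY : K Y ⊔ K Yᶜ = ⊤)
    (K' : Set ι → Submodule A (↥(N Y) ⧸ Ideal.span {π} • (⊤ : Submodule A ↥(N Y))))
    (hK' : ∀ T : Set ι, K' T = ⨅ i ∈ T, LinearMap.ker
      (LocalizedModule.mkLinearMap (𝔓 i).primeCompl (↥(N Y) ⧸ Ideal.span {π} • (⊤ : Submodule A ↥(N Y)))))
    (hZ : K' Z ⊔ K' Zᶜ = ⊤) :
    K Z ⊔ K Zᶜ = ⊤ := by
  have hNmem : ∀ (T : Set ι) (x : M), x ∈ N T ↔ ∀ i ∈ T, Lib.ModifDec.At π 𝔓 i x := fun T x => by
    simp only [hN, hK, Submodule.mem_comap, Submodule.mem_iInf, Lib.ModifDec.mk_mem_ker_iff]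
  have hfull : ∀ x : M, (∀ i, Lib.ModifDec.At π 𝔓 i x) → x ∈ Ideal.span {π} • (⊤ : Submodule A M) := by
    intro x hx
    have : x ∈ N Set.univ := (hNmem _ x).2 fun i _ => hx i
    rw [hN, htf, Submodule.mem_comap, Submodule.mem_bot, Submodule.mkQ_apply, Submodule.Quotient.mk_eq_zero] at this
    exact this
  set q := Submodule.mkQ (Ideal.span {π} • (⊤ : Submodule A M)) with hq
  have hKmem : ∀ (T : Set ι) (x : M), q x ∈ K T ↔ ∀ i ∈ T, Lib.ModifDec.At π 𝔓 i x := fun T x => by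
    simp only [hK, Submodule.mem_iInf, hq, Lib.ModifDec.mk_mem_ker_iff]
  have hK'mem : ∀ (T : Set ι) (x : ↥(N Y)),
      Submodule.mkQ (Ideal.span {π} • (⊤ : Submodule A ↥(N Y))) x ∈ K' T →
        ∀ i ∈ T, ∃ s ∉ 𝔓 i, ∃ y ∈ N Y, s • (x : M) = π • y := by
    intro T x hx i hi
    simp only [hK', Submodule.mem_iInf] at hx
    obtain ⟨s, hs, y, hy⟩ := (Lib.ModifDec.mk_mem_ker_iff i x).1 (hx i hi)
    exact ⟨s, hs, y.1, y.2, congrArg Subtype.val hy⟩
  -- splitting along Y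
  have splitY : ∀ m : M, ∃ a b : M, a ∈ N Y ∧ b ∈ N Yᶜ ∧ ∀ i, Lib.ModifDec.At π 𝔓 i (m - a - b) := by
    intro m
    obtain ⟨u, hu, v, hv, huv⟩ := Submodule.mem_sup.1 (hY ▸ Submodule.mem_top (x := q m) : q m ∈ K Y ⊔ K Yᶜ)
    obtain ⟨a, rfl⟩ := Submodule.mkQ_surjective _ u
    obtain ⟨b, rfl⟩ := Submodule.mkQ_surjective _ v
    refine ⟨a, b, (hNmem _ _).2 ((hKmem _ _).1 hu), (hNmem _ _).2 ((hKmem _ _).1 hv), fun i => ?_⟩
    have h0 : m - a - b ∈ Ideal.span {π} • (⊤ : Submodule A M) := by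
      rw [← Submodule.Quotient.mk_eq_zero, Submodule.Quotient.mk_sub, Submodule.Quotient.mk_sub]
      change q m - q a - q b = 0
      rw [← huv]; abel
    obtain ⟨y, hy⟩ := Lib.ModifDec.mem_span_smul_top.1 h0
    exact hy ▸ Lib.ModifDec.at_smul i y
  -- splitting of N Y along Z
  have splitZ : ∀ x : ↥(N Y), ∃ c₁ c₂ n : ↥(N Y), (x : M) = c₁ + c₂ + π • (n : M) ∧
      (∀ i ∈ Z, ∃ s ∉ 𝔓 i, ∃ y ∈ N Y, s • (c₁ : M) = π • y) ∧
      (∀ i ∈ Zᶜ, ∃ s ∉ 𝔓 i, ∃ y ∈ N Y, s • (c₂ : M) = π • y) := by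
    intro x
    obtain ⟨u, hu, v, hv, huv⟩ := Submodule.mem_sup.1
      (hZ ▸ Submodule.mem_top (x := Submodule.mkQ (Ideal.span {π} • (⊤ : Submodule A ↥(N Y))) x))
    obtain ⟨a, rfl⟩ := Submodule.mkQ_surjective _ u
    obtain ⟨b, rfl⟩ := Submodule.mkQ_surjective _ v
    rw [← map_add, Submodule.mkQ_apply, Submodule.mkQ_apply, Submodule.Quotient.eq] at huv
    obtain ⟨n, hn⟩ := Lib.ModifDec.mem_span_smul_top.1 huv
    refine ⟨a, b, -n, ?_, hK'mem Z a hu, hK'mem Zᶜ b hv⟩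
    have := congrArg Subtype.val hn
    simp only [Submodule.coe_sub, Submodule.coe_add, Submodule.coe_smul_of_tower] at this
    simp only [Submodule.coe_neg, smul_neg]
    rw [← this]; abel
  refine eq_top_iff.2 fun z _ => ?_
  obtain ⟨m, rfl⟩ := Submodule.mkQ_surjective _ z
  obtain ⟨a, b, ha, hb, hab⟩ := splitY m
  -- enough for `a` and `b`
  suffices hsuff : q a ∈ K Z ⊔ K Zᶜ ∧ q b ∈ K Z ⊔ K Zᶜ by
    have h0 : q (m - a - b) = 0 := (Submodule.Quotient.mk_eq_zero _).2 (hfull _ hab)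
    rw [map_sub, map_sub, sub_sub, sub_eq_zero] at h0
    rw [h0]; exact add_mem hsuff.1 hsuff.2
  have mk2 : ∀ x u v : M, (∀ i, Lib.ModifDec.At π 𝔓 i (x - u - v)) →
      (∀ i ∈ Z, Lib.ModifDec.At π 𝔓 i u) → (∀ i ∈ Zᶜ, Lib.ModifDec.At π 𝔓 i v) → q x ∈ K Z ⊔ K Zᶜ := by
    intro x u v h hu hv
    have h0 : q (x - u - v) = 0 := (Submodule.Quotient.mk_eq_zero _).2 (hfull _ h)
    rw [map_sub, map_sub, sub_sub, sub_eq_zero] at h0
    rw [h0]
    exact Submodule.add_mem_sup ((hKmem Z u).2 hu) ((hKmem Zᶜ v).2 hv)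
  refine ⟨?_, ?_⟩
  · obtain ⟨c₁, c₂, n, h, h1, h2⟩ := splitZ ⟨a, ha⟩
    refine mk2 a c₁ c₂ (fun i => ?_) ?_ ?_
    · rw [show a - (c₁ : M) - c₂ = π • (n : M) by simp only [] at h; rw [h]; abel]
      exact Lib.ModifDec.at_smul i _
    · intro i hi; obtain ⟨s, hs, y, -, hy⟩ := h1 i hi; exact ⟨s, hs, y, hy⟩
    · intro i hi; obtain ⟨s, hs, y, -, hy⟩ := h2 i hi; exact ⟨s, hs, y, hy⟩
  · have hπb : π • b ∈ N Y := (hNmem _ _).2 fun i _ => Lib.ModifDec.at_smul i b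
    obtain ⟨c₁, c₂, n, h, h1, h2⟩ := splitZ ⟨π • b, hπb⟩
    simp only [] at h
    have hdiv : ∀ (c c' : ↥(N Y)) (W : Set ι), π • b = c + c' + π • (n : M) →
        (∀ i ∈ W, ∃ s ∉ 𝔓 i, ∃ y ∈ N Y, s • (c : M) = π • y) →
        (∀ i ∈ Wᶜ, ∃ s ∉ 𝔓 i, ∃ y ∈ N Y, s • (c' : M) = π • y) → ∃ d : M, (c : M) = π • d := by
      intro c c' W h h1 h2
      refine Lib.ModifDec.mem_span_smul_top.1 (hfull _ fun i => ?_)
      by_cases hi : i ∈ W
      · obtain ⟨s, hs, y, -, hy⟩ := h1 i hi; exact ⟨s, hs, y, hy⟩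
      · obtain ⟨s, hs, y, -, hy⟩ := h2 i hi
        rw [show (c : M) = π • b - c' - π • (n : M) by rw [h]; abel]
        exact ((Lib.ModifDec.at_smul i b).sub ⟨s, hs, y, hy⟩).sub (Lib.ModifDec.at_smul i _)
    obtain ⟨d, hd⟩ := hdiv c₁ c₂ Z h h1 h2
    obtain ⟨e, he⟩ := hdiv c₂ c₁ Zᶜ (by rw [h]; abel) h2 (by rw [compl_compl]; exact h1)
    have hsum : b = d + e + (n : M) := by
      rw [← sub_eq_zero]
      refine hπ _ ?_
      rw [smul_sub, smul_add, smul_add, ← hd, ← he, ← h, sub_self]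
    have hlow : ∀ (c : ↥(N Y)) (x : M) (W : Set ι), (c : M) = π • x →
        (∀ i ∈ W, ∃ s ∉ 𝔓 i, ∃ y ∈ N Y, s • (c : M) = π • y) →
        ∀ i ∈ W, i ∈ Y → Lib.ModifDec.At π 𝔓 i x := by
      intro c x W hcx h1 i hiW hiY
      obtain ⟨s, hs, y, hyN, hy⟩ := h1 i hiW
      have hsx : s • x = y := by
        rw [← sub_eq_zero]
        refine hπ _ ?_
        rw [smul_sub, smul_comm π s x, ← hcx, hy, sub_self]
      obtain ⟨t, ht, w, hw⟩ := (hNmem _ _).1 hyN i hiY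
      exact ⟨t * s, fun hm => ((‹∀ i, (𝔓 i).IsPrime› i).mem_or_mem hm).elim ht hs, w,
        by rw [mul_smul, hsx, hw]⟩
    obtain ⟨a', b', ha', hb', hd'⟩ := splitY d
    obtain ⟨a'', b'', ha'', hb'', he'⟩ := splitY e
    have congY : ∀ i ∈ Y, Lib.ModifDec.At π 𝔓 i (d - b') ∧ Lib.ModifDec.At π 𝔓 i (e - b'') := fun i hi =>
      ⟨by rw [show d - b' = (d - a' - b') + a' by abel]; exact (hd' i).add ((hNmem _ _).1 ha' i hi),
       by rw [show e - b'' = (e - a'' - b'') + a'' by abel]; exact (he' i).add ((hNmem _ _).1 ha'' i hi)⟩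
    refine mk2 b b' b'' (fun i => ?_) (fun i hi => ?_) (fun i hi => ?_)
    · by_cases hiY : i ∈ Y
      · rw [show b - b' - b'' = (d - b') + (e - b'') + (n : M) by rw [hsum]; abel]
        exact ((congY i hiY).1.add (congY i hiY).2).add ((hNmem _ _).1 n.2 i hiY)
      · exact (((hNmem _ _).1 hb i hiY).sub ((hNmem _ _).1 hb' i hiY)).sub ((hNmem _ _).1 hb'' i hiY)
    · by_cases hiY : i ∈ Y
      · rw [show b' = d - (d - b') by abel]
        exact (hlow c₁ d Z hd h1 i hi hiY).sub (congY i hiY).1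
      · exact (hNmem _ _).1 hb' i hiY
    · by_cases hiY : i ∈ Y
      · rw [show b'' = e - (e - b'') by abel]
        exact (hlow c₂ e Zᶜ he h2 i hi hiY).sub (congY i hiY).2
      · exact (hNmem _ _).1 hb'' i hiY

end Groth.Agent.S18365
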