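import Groth.Statements.S18366
import Groth.Agent.H2.Rigid.SmoothDense
import Groth.Agent.Lib.GrpSch.SepPoints

set_option autoImplicit false
universe u
open CategoryTheory CategoryTheory.Limits AlgebraicGeometry
open Variety

namespace Groth.Agent.S18366

/-- Let k be a separably closed field and X a non-empty k-scheme of finite type which is geometrically
reduced. Then X has a k-rational point, i.e. the structure morphism admits a section. (Non-emptiness
is part of the hypotheses: the empty scheme is geometrically reduced of finite type and has no
point. The published statement does not assume X non-empty; this row does, since the empty scheme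
has no rational point.) -/
theorem result (k : Type u) [Field k] [IsSepClosed k]
    {X : Scheme.{u}} (f : X ⟶ Spec (CommRingCat.of k)) [LocallyOfFiniteType f] [QuasiCompact f] [GeometricallyReduced f]
    [Nonempty X] :
    ∃ s : Spec (CommRingCat.of k) ⟶ X, s ≫ f = 𝟙 (Spec (CommRingCat.of k)) := by
  letI : X.Over (Spec (CommRingCat.of k)) := ⟨f⟩
  have : LocallyOfFinitePresentation f :=
    Groth.Agent.Lib.JacCrit.OverField.locallyOfFinitePresentation f
  have : LocallyOfFinitePresentation (X ↘ Spec (CommRingCat.of k)) := this
  have : IsReduced X :=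
    GeometricallyReduced.geometrically_isReduced (f := f) (𝟙 _) (𝟙 X) f
      (IsPullback.of_horiz_isIso ⟨by simp⟩)
  have : GeometricallyReduced (X ↘ Spec (CommRingCat.of k)) := ‹GeometricallyReduced f›
  have hd := Groth.Agent.H2.Rigid.SmoothDense.dense_smoothLocus k X
  obtain ⟨x, hx⟩ := hd.nonempty
  let U := f.smoothLocus
  have : Smooth (U.ι ≫ f) := by
    rw [← Scheme.Hom.smoothLocus_eq_top_iff, ← Scheme.Hom.preimage_smoothLocus_eq]
    exact U.ι_preimage_self
  have : Nonempty U.toScheme := ⟨⟨x, hx⟩⟩
  obtain ⟨s, hs⟩ := Groth.Agent.Lib.GrpSch.exists_section_of_smooth (U.ι ≫ f)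
  exact ⟨s ≫ U.ι, by rw [Category.assoc, hs]⟩


end Groth.Agent.S18366
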