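import Groth.Statements.S18368
import Groth.Agent.H2.Rigid.Const
import Mathlib.AlgebraicGeometry.Morphisms.Descent

set_option autoImplicit false
universe u
open CategoryTheory CategoryTheory.Limits MonoidalCategory CartesianMonoidalCategory AlgebraicGeometry
open AbVar
open Groth.Agent.H2.Rigid

namespace Groth.Agent.S18368

/-- Let k be a field, X and Y geometrically integral k-schemes of finite type with X proper, Z a
separated k-scheme and f : X ×_k Y → Z a k-morphism (products in the cartesian monoidal category of
k-schemes). If for some algebraically closed field K over k there are points y₀ : Spec K → Y and z₀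
: Spec K → Z over k such that f restricted to X ×_k Spec K along y₀ is the constant map z₀, then f
factors uniquely through the second projection: there is exactly one g : Y → Z over k with f = pr₂ ≫
g. (The target Z is not assumed to be of finite type over k.) -/
theorem result (k : Type u) [Field k]
    (X Y Z : Over (Spec (CommRingCat.of k)))
    [IsProper X.hom] [GeometricallyIntegral X.hom]
    [LocallyOfFiniteType Y.hom] [QuasiCompact Y.hom] [GeometricallyIntegral Y.hom]
    [IsSeparated Z.hom] (f : X ⊗ Y ⟶ Z)
    (K : Type u) [Field K] [Algebra k K] [IsAlgClosed K]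
    (y₀ : (Over.mk (Spec.map (CommRingCat.ofHom (algebraMap k K))) : Over (Spec (CommRingCat.of k))) ⟶ Y)
    (z₀ : (Over.mk (Spec.map (CommRingCat.ofHom (algebraMap k K))) : Over (Spec (CommRingCat.of k))) ⟶ Z)
    (h : (X ◁ y₀) ≫ f = snd X _ ≫ z₀) :
    ∃! g : Y ⟶ Z, f = snd X Y ≫ g := by
  haveI : GeometricallyConnected X.hom := geometricallyConnected_of_integral X.hom
  haveI : IsIntegral Y.left :=
    GeometricallyIntegral.geometrically_isIntegral (f := Y.hom) (𝟙 _) (𝟙 _) Y.hom
      (IsPullback.id_horiz Y.hom)
  haveI : IsIntegral X.left :=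
    GeometricallyIntegral.geometrically_isIntegral (f := X.hom) (𝟙 _) (𝟙 _) X.hom
      (IsPullback.id_horiz X.hom)
  haveI : Surjective X.hom := ⟨fun t => ⟨Classical.arbitrary _, Subsingleton.elim _ _⟩⟩
  haveI : Flat X.hom := inferInstance
  haveI : UniversallyOpen X.hom := inferInstance
  haveI : IsLocallyNoetherian Y.left := LocallyOfFiniteType.isLocallyNoetherian Y.hom
  let g : (X ⊗ Y).left ⟶ Y.left := (snd X Y).left
  haveI : IsProper g := inferInstanceAs (IsProper (pullback.snd X.hom Y.hom))
  haveI : Flat g := inferInstanceAs (Flat (pullback.snd X.hom Y.hom))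
  haveI : Surjective g := inferInstanceAs (Surjective (pullback.snd X.hom Y.hom))
  haveI : UniversallyOpen g := inferInstanceAs (UniversallyOpen (pullback.snd X.hom Y.hom))
  have hH : H0 g := (H0.of_geometrically X.hom).pullback_snd X.hom Y.hom
  have hP : Push g := push_of_flat g hH
  have hw : f.left ≫ Z.hom = g ≫ Y.hom := (Over.w f).trans (Over.w (snd X Y)).symm
  have hcl : IsClopen (constSet g f.left) :=
    ⟨isClosed_constSet g f.left hH Y.hom Z.hom hw, isOpen_constSet g f.left g.isClosedMap hH⟩
  have hmem : ∀ pt, y₀.left pt ∈ constSet g f.left := by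
    intro pt
    refine mem_constSet.2 ?_
    suffices H : ∀ P, g P = y₀.left pt → f.left P = z₀.left pt from
      fun P P' hP hP' => (H P hP).trans (H P' hP').symm
    intro P hP
    obtain ⟨w, hw₁, -⟩ := Scheme.Pullback.exists_preimage_pullback P pt (f := g) (g := y₀.left) hP
    let W : Over (Spec (CommRingCat.of k)) := Over.mk (pullback.fst g y₀.left ≫ (X ⊗ Y).hom)
    let a : W ⟶ X ⊗ Y := Over.homMk (pullback.fst g y₀.left) rfl
    let b : W ⟶ Over.mk (Spec.map (CommRingCat.ofHom (algebraMap k K))) :=
      Over.homMk (pullback.snd g y₀.left) ((congrArg (pullback.snd g y₀.left ≫ ·) (Over.w y₀)).symm.trans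
        (((Category.assoc _ _ _).symm.trans (congrArg (· ≫ Y.hom) pullback.condition.symm)).trans
          ((Category.assoc _ _ _).trans (congrArg (pullback.fst g y₀.left ≫ ·) (Over.w (snd X Y))))))
    have hab : lift (a ≫ fst X Y) b ≫ (X ◁ y₀) = a := by
      apply CartesianMonoidalCategory.hom_ext
      · simp
      · simp only [Category.assoc, whiskerLeft_snd, lift_snd_assoc]
        apply Over.OverMorphism.ext
        exact pullback.condition.symm
    have e : a ≫ f = b ≫ z₀ := by rw [← hab, Category.assoc, h, lift_snd_assoc]
    rw [← hw₁]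
    exact (congr(($e).left w)).trans (congrArg z₀.left (Subsingleton.elim (α := Spec (CommRingCat.of K)) _ _))
  have huniv : constSet g f.left = Set.univ := hcl.eq_univ ⟨_, hmem (IsLocalRing.closedPoint K)⟩
  obtain ⟨u, hu⟩ := hP.exists_factor f.left g.isClosedMap huniv
  have hu' : u ≫ Z.hom = Y.hom := hP.hom_ext (by rw [← Category.assoc, hu, hw])
  refine ⟨Over.homMk u hu', Over.OverMorphism.ext hu.symm, fun v hv => ?_⟩
  apply Over.OverMorphism.ext
  exact hP.hom_ext ((congr(($hv).left)).symm.trans hu.symm)

end Groth.Agent.S18368
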