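import Groth.Statements.S18369
import Groth.Agent.S14140
import Groth.Agent.S1152
import Groth.Agent.H3.TransInv
import Groth.Agent.H4.KerDual.PolLocus
import Groth.Agent.Lib.Ample.Pullback
import Groth.Agent.Lib.Ample.RelAmple
-- import your own Groth.Agent.* helpers here

set_option autoImplicit false
universe u
open CategoryTheory CategoryTheory.Limits MonoidalCategory CartesianMonoidalCategory MonObj GrpObj AlgebraicGeometry
open AbVar Groth.Agent Groth.Agent.H3 Groth.Agent.H4
set_option linter.style.haveILetI false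
noncomputable local instance s18369Law (Y : Scheme.{u}) : PicGrp.Law Y := Groth.Agent.Lib.TensorMod.Invertible.law Y

namespace Groth.Agent.S18369

/-- Let k be a field, A an abelian variety over k (a proper smooth k-group scheme with geometrically
connected fibres) with group law m : A × A → A and projections p₁, p₂, L an ample invertible
O_A-module, and N an invertible O_A-module whose class lies in the dual abelian variety, expressed
as m^*N ≅ p₁^*N ⊗ p₂^*N. Then L ⊗ N is again ample; so ampleness of an invertible module on A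
depends only on its class modulo Pic⁰. -/
theorem result (k : Type u) [Field k]
    (A : Over (Spec (CommRingCat.of k))) [GrpObj A] [IsProper A.hom] [Smooth A.hom] [GeometricallyConnected A.hom]
    (L N : A.left.Modules) (hL : CohB1.IsAmple L) (hN : PicF.IsInvertible N)
    (hN0 : Nonempty ((Scheme.Modules.pullback μ[A].left).obj N ≅
      CohB1.tensorMod ((Scheme.Modules.pullback (fst A A).left).obj N) ((Scheme.Modules.pullback (snd A A).left).obj N))) :
    CohB1.IsAmple (CohB1.tensorMod L N) := by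
  haveI := H2.Rigid.GeomIrred.geometricallyIntegral_of_smooth A.hom
  let K := AlgebraicClosure k
  let t : Spec (CommRingCat.of K) ⟶ Spec (CommRingCat.of k) := Spec.map (CommRingCat.ofHom (algebraMap k K))
  haveI : Surjective t := ⟨fun x => ⟨IsLocalRing.closedPoint K, Subsingleton.elim (α := PrimeSpectrum k) _ x⟩⟩
  let A' := Red.bc t A
  haveI : IsProper A'.hom := inferInstanceAs (IsProper (pullback.snd A.hom t))
  haveI : Smooth A'.hom := inferInstanceAs (Smooth (pullback.snd A.hom t))
  haveI : GeometricallyConnected A'.hom := inferInstanceAs (GeometricallyConnected (pullback.snd A.hom t))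
  haveI : GeometricallyIntegral A'.hom := inferInstanceAs (GeometricallyIntegral (pullback.snd A.hom t))
  let n : PicLoc.PicSet A.left := PicGrp.cls N hN
  let l : PicLoc.PicSet A.left := PicGrp.cls L hL.1
  let π : KerDual.res t A' ⟶ A := KerDual.dn t (𝟙 A')
  have hπ : π.left = pullback.fst A.hom t := Category.id_comp _
  have hrel : ∀ {W : Over (Spec (CommRingCat.of k))} (p q : W ⟶ A),
      PicCalc.ph (p * q) n = PicCalc.ph p n * PicCalc.ph q n := fun p q => by
    have h : PicCalc.ph μ[A] n = PicCalc.ph (fst A A) n * PicCalc.ph (snd A A) n :=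
      (PicCalc.iso_iff (PicCalc.cl_pullback μ[A] (a := n) rfl)
        (PicCalc.cl_tensor (PicCalc.cl_pullback (fst A A) (a := n) rfl)
          (PicCalc.cl_pullback (snd A A) (a := n) rfl))).1 hN0
    have h2 := congrArg (PicCalc.ph (lift p q)) h
    rwa [map_mul, ← PicCalc.ph_comp, ← PicCalc.ph_comp, ← PicCalc.ph_comp, lift_fst, lift_snd,
      ← Hom.mul_def] at h2
  let n' : PicLoc.PicSet A'.left := PicCalc.ph π n
  let l' : PicLoc.PicSet A'.left := PicCalc.ph π l
  have hn : ∀ {U : Over (Spec (CommRingCat.of K))} (a : U ⟶ A'),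
      PicCalc.ph a n' = (PicCalc.ph (KerDual.dn t a) n : PicLoc.PicSet (KerDual.res t U).left) := fun a => by
    have e : KerDual.resMap t a ≫ π = KerDual.dn t a := by
      rw [← KerDual.dn_comp, Category.comp_id]
    rw [← e, PicCalc.ph_comp]
    rfl
  have hinv : TransInv.Inv n' := TransInv.inv_of_mul_eq n' (by
    rw [hn, hn, hn, KerDual.dn_mul]
    exact hrel _ _)
  let L1 := (Scheme.Modules.pullback (pullback.fst A.hom t)).obj L
  let N1 := (Scheme.Modules.pullback (pullback.fst A.hom t)).obj N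
  have hl1 : PicF.cl L1 = l'.1 := by
    rw [PicCalc.ph_val, hπ, PicGrp.cls_val, PicLoc.pullCl_cl]
  have hn1 : PicF.cl N1 = n'.1 := by
    rw [PicCalc.ph_val, hπ, PicGrp.cls_val, PicLoc.pullCl_cl]
  haveI : IsAffineHom t := isAffineHom_of_isAffine t
  haveI : IsAffineHom (pullback.fst A.hom t) := MorphismProperty.pullback_fst _ _ ‹_›
  have hL1 : CohB1.IsAmple L1 := Groth.Agent.Lib.Ample.Pullback.isAmple_pullback _
    (Groth.Agent.Lib.Ample.Pullback.isQuasiAffine_of_isAffineHom _) hL
  obtain ⟨Li, hLi, hLie⟩ := PicGrp.exists_eq_cls l'⁻¹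
  obtain ⟨x, hx⟩ := Groth.Agent.S14140.result K A' L1 Li hL1
    ((PicCalc.iso_iff (PicCalc.cl_tensor hl1 (b := l'⁻¹) (congrArg Subtype.val hLie).symm) (b := 1)
      PicGrp.one_val.symm).2 (mul_inv_cancel l'))
    N1 (PicLoc.isInvertible_pullback _ hN)
    (fun a => (PicCalc.iso_iff (PicCalc.cl_pullback _ hn1) hn1).2 (hinv a))
  let tr : A' ⟶ A' := 𝟙 A' * (toUnit A' ≫ x)
  have hx' : n' = ((PicCalc.ph tr l' : PicLoc.PicSet A'.left) * l'⁻¹ : PicLoc.PicSet A'.left) :=
    (PicCalc.iso_iff hn1 (PicCalc.cl_tensor (PicCalc.cl_pullback tr hl1) (b := l'⁻¹) (congrArg Subtype.val hLie).symm)).1 hx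
  haveI : IsIso tr := by
    refine ⟨𝟙 A' * (toUnit A' ≫ x)⁻¹, ?_, ?_⟩
    · show tr ≫ (𝟙 A' * (toUnit A' ≫ x)⁻¹) = 𝟙 A'
      rw [MonObj.comp_mul, Category.comp_id, GrpObj.comp_inv, comp_toUnit_assoc, mul_inv_cancel_right]
    · show (𝟙 A' * (toUnit A' ≫ x)⁻¹) ≫ (𝟙 A' * (toUnit A' ≫ x)) = 𝟙 A'
      rw [MonObj.comp_mul, Category.comp_id, comp_toUnit_assoc, inv_mul_cancel_right]
  haveI : IsIso tr.left := (Over.forget _).map_isIso tr
  have hLN : PicF.IsInvertible (CohB1.tensorMod L N) :=
    Groth.Agent.Lib.TensorMod.Invertible.isInvertible_tensorMod hL.1 hN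
  have hamp : CohB1.IsAmple ((Scheme.Modules.pullback (pullback.fst A.hom t)).obj (CohB1.tensorMod L N)) := by
    have h1 : CohB1.IsAmple ((Scheme.Modules.pullback tr.left).obj L1) :=
      Groth.Agent.Lib.Ample.Pullback.isAmple_pullback _
        (Groth.Agent.Lib.Ample.Pullback.isQuasiAffine_of_isAffineHom _) hL1
    have hc : PicF.cl ((Scheme.Modules.pullback (pullback.fst A.hom t)).obj (CohB1.tensorMod L N)) = (l' * n').1 := by
      rw [← hπ]
      exact (PicCalc.cl_pullback π (a := l * n) (PicCalc.cl_tensor (a := l) (b := n) rfl rfl)).trans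
        (congrArg Subtype.val ((PicCalc.ph π).map_mul l n))
    refine Groth.Agent.Lib.Ample.Pow.isAmple_of_iso (Nonempty.some ((PicCalc.iso_iff (PicCalc.cl_pullback tr hl1) hc).2 ?_)) h1
    have gen : ∀ a b : PicLoc.PicSet A'.left, a = b * (a * b⁻¹) := fun a b => by
      rw [mul_comm a, mul_inv_cancel_left]
    rw [hx']
    exact gen _ _
  exact (Groth.Agent.Lib.Ample.RelAmple.isRelAmple_iff_isAmple A.hom).1
    (Groth.Agent.S1152.result A.hom _ hLN t
      ((Groth.Agent.Lib.Ample.RelAmple.isRelAmple_iff_isAmple (pullback.snd A.hom t)).2 hamp))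

end Groth.Agent.S18369
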