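import Groth.Statements.S1837
import Groth.Agent.Lib.CycGlue.Main

set_option autoImplicit false
universe u
open TensorProduct
open CycAlg

namespace Groth.Agent.S1837

/-- Let A be Noetherian with pairwise distinct maximal ideals 𝔪₁, …, 𝔪_r, and for each i a ring map φ_i
from A_{𝔪_i} to B_i whose kernel and cokernel are killed by a power of 𝔪_i. Then there is an
A-algebra B whose base change to each A_{𝔪_i} is isomorphic to B_i and whose structure map has
kernel and cokernel killed by a power of 𝔪₁ ∩ … ∩ 𝔪_r; if every φ_i is finite (resp. injective,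
resp. surjective) B can be taken with the same property. -/
theorem result (A : Type u) [CommRing A] [IsNoetherianRing A] (r : ℕ) (m : Fin r → Ideal A) (hm : ∀ i, (m i).IsMaximal) (hinj : Function.Injective m) (B : Fin r → Type u) [∀ i, CommRing (B i)] [∀ i, Algebra (Localization.AtPrime (m i)) (B i)] (hker : ∀ i, ∃ n : ℕ, ∀ x ∈ RingHom.ker (algebraMap (Localization.AtPrime (m i)) (B i)), ∀ y ∈ Ideal.map (algebraMap A (Localization.AtPrime (m i))) (m i) ^ n, y * x = 0) (hcoker : ∀ i, ∃ n : ℕ, ∀ y ∈ Ideal.map (algebraMap A (Localization.AtPrime (m i))) (m i) ^ n, ∀ b : B i, y • b ∈ (algebraMap (Localization.AtPrime (m i)) (B i)).range) : ∃ (C : Type u) (_ : CommRing C) (_ : Algebra A C), (∀ i, Nonempty ((Localization.AtPrime (m i)) ⊗[A] C ≃ₐ[Localization.AtPrime (m i)] B i)) ∧ (∃ n : ℕ, (∀ x ∈ RingHom.ker (algebraMap A C), ∀ y ∈ (⨅ i, m i) ^ n, y * x = 0) ∧ (∀ y ∈ (⨅ i, m i) ^ n, ∀ c : C, y • c ∈ (algebraMap A C).range)) ∧ ((∀ i, (algebraMap (Localization.AtPrime (m i)) (B i)).Finite) → (algebraMap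 A C).Finite) ∧ ((∀ i, Function.Injective (algebraMap (Localization.AtPrime (m i)) (B i))) → Function.Injective (algebraMap A C)) ∧ ((∀ i, Function.Surjective (algebraMap (Localization.AtPrime (m i)) (B i))) → Function.Surjective (algebraMap A C)) := by
  classical
  letI : ∀ i, Algebra A (B i) := fun i =>
    ((algebraMap (Localization.AtPrime (m i)) (B i)).comp (algebraMap A _)).toAlgebra
  haveI : ∀ i, IsScalarTower A (Localization.AtPrime (m i)) (B i) := fun i => IsScalarTower.of_algebraMap_eq fun _ => rfl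
  choose n₁ h₁ using hker
  choose n₂ h₂ using hcoker
  let N := Finset.univ.sup (fun i => max (n₁ i) (n₂ i))
  have hN : ∀ i, n₁ i ≤ N ∧ n₂ i ≤ N := fun i =>
    ⟨(le_max_left _ _).trans (Finset.le_sup (f := fun i => max (n₁ i) (n₂ i)) (Finset.mem_univ i)),
      (le_max_right _ _).trans (Finset.le_sup (f := fun i => max (n₁ i) (n₂ i)) (Finset.mem_univ i))⟩
  have hk : ∀ i, ∀ g ∈ m i ^ N, ∀ x : Localization.AtPrime (m i), algebraMap _ (B i) x = 0 →
      algebraMap A (Localization.AtPrime (m i)) g * x = 0 := fun i g hg x hx =>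
    h₁ i x hx _ (by rw [← Ideal.map_pow]; exact Ideal.mem_map_of_mem _ (Ideal.pow_le_pow_right (hN i).1 hg))
  have hc : ∀ i, ∀ g ∈ m i ^ N, ∀ b : B i, ∃ x : Localization.AtPrime (m i), algebraMap _ (B i) x = g • b :=
    fun i g hg b => by
      obtain ⟨x, hx⟩ := h₂ i _ (by rw [← Ideal.map_pow]; exact Ideal.mem_map_of_mem _ (Ideal.pow_le_pow_right (hN i).2 hg)) b
      exact ⟨x, hx.trans (algebraMap_smul _ g b)⟩
  open Groth.Agent.Lib.CycGlue in
  exact ⟨glue m B, inferInstance, inferInstance, nonempty_equiv hinj hk hc,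
    ⟨N, fun x hx y hy => ker_kill hk x hx y hy, fun y hy c => smul_mem_range hinj hk hc y hy c⟩,
    fun h => RingHom.finite_algebraMap.2 (finite_glue hinj hk hc fun i => RingHom.finite_algebraMap.1 (h i)),
    fun h => injective_glue h, fun h => surjective_glue hinj hk hc h⟩

end Groth.Agent.S1837
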