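import Groth.Statements.S18370
import Mathlib.RingTheory.Coprime.Lemmas
-- import your own Groth.Agent.* helpers here

set_option autoImplicit false
universe u
open CategoryTheory CategoryTheory.Limits MonoidalCategory CartesianMonoidalCategory MonObj GrpObj AlgebraicGeometry
open GrpSch

namespace Groth.Agent.S18370

/-- Let S be a scheme and G a commutative S-group scheme which is killed by a natural number n, i.e. the
n-th power map of G is the trivial homomorphism, and let n = a·b with a and b coprime. If i_a : G_a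
→ G and i_b : G_b → G are scheme-theoretic kernels of the a-th and b-th power maps of G, then the
morphism G_a ×_S G_b → G sending (x, y) to i_a(x)·i_b(y) is an isomorphism of S-schemes. (The
published statement assumes n ≠ 0; the case n = 0, where {a, b} = {0, 1} and one kernel is all of G
while the other is trivial, is included here.) -/
theorem result {S : Scheme.{u}} (G Ga Gb : Over S)
    [GrpObj G] [IsCommMonObj G] (n a b : ℕ) (hn : n = a * b) (hab : Nat.Coprime a b)
    (hG : (𝟙 G) ^ n = 1)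
    (ia : Ga ⟶ G) (hia : AlgGrp.IsKernel ia ((𝟙 G) ^ a))
    (ib : Gb ⟶ G) (hib : AlgGrp.IsKernel ib ((𝟙 G) ^ b)) :
    IsIso ((fst Ga Gb ≫ ia) * (snd Ga Gb ≫ ib)) := by
  obtain ⟨u, v, huv⟩ := (Nat.isCoprime_iff_coprime.2 hab)
  have hn1 : ∀ {T : Over S} (g : T ⟶ G), g ^ n = 1 := by
    intro T g
    have := congrArg (fun h => g ≫ h) hG
    rwa [MonObj.comp_pow, MonObj.comp_one, Category.comp_id] at this
  have hz : ∀ {T : Over S} (g : T ⟶ G) (w : ℤ), g ^ ((a : ℤ) * b * w) = 1 := by
    intro T g w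
    rw [← Nat.cast_mul, ← hn, zpow_mul, zpow_natCast, hn1, one_zpow]
  have mono_lift : ∀ {N : Over S} {c : ℕ} (ic : N ⟶ G) (_ : AlgGrp.IsKernel ic ((𝟙 G) ^ c)) {T : Over S}
      (x y : T ⟶ N), x ≫ ic = y ≫ ic → x = y := fun ic h T x y hxy =>
    h.hom_ext hxy (toUnit_unique _ _)
  have hkill : ∀ {N : Over S} {c : ℕ} (ic : N ⟶ G) (_ : AlgGrp.IsKernel ic ((𝟙 G) ^ c)) {T : Over S}
      (x : T ⟶ N), (x ≫ ic) ^ c = 1 := by
    intro N c ic h T x
    have := congrArg (fun k => x ≫ k) h.w
    simpa [MonObj.comp_pow, Hom.one_def] using this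
  have hpa : ((𝟙 G) ^ (v * b)) ≫ ((𝟙 G) ^ a) = toUnit G ≫ η[G] := by
    rw [MonObj.comp_pow, Category.comp_id, ← zpow_natCast, ← zpow_mul, ← Hom.one_def,
      show v * (b : ℤ) * a = a * b * v by ring, hz]
  have hpb : ((𝟙 G) ^ (u * a)) ≫ ((𝟙 G) ^ b) = toUnit G ≫ η[G] := by
    rw [MonObj.comp_pow, Category.comp_id, ← zpow_natCast, ← zpow_mul, ← Hom.one_def,
      show u * (a : ℤ) * b = a * b * u by ring, hz]
  let ca : G ⟶ Ga := hia.lift _ _ hpa
  let cb : G ⟶ Gb := hib.lift _ _ hpb
  have hca : ca ≫ ia = (𝟙 G) ^ (v * b) := hia.lift_fst _ _ _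
  have hcb : cb ≫ ib = (𝟙 G) ^ (u * a) := hib.lift_fst _ _ _
  refine ⟨lift ca cb, ?_, ?_⟩
  · apply CartesianMonoidalCategory.hom_ext
    · apply mono_lift ia hia
      simp only [Category.assoc, lift_fst_assoc, hca, GrpObj.comp_zpow, Category.comp_id,
        Category.id_comp, mul_zpow]
      have h2 : (snd Ga Gb ≫ ib) ^ (v * b) = 1 := by
        rw [mul_comm, zpow_mul, zpow_natCast, hkill ib hib, one_zpow]
      have h1 : (fst Ga Gb ≫ ia) ^ (u * a) = 1 := by
        rw [mul_comm, zpow_mul, zpow_natCast, hkill ia hia, one_zpow]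
      rw [h2, _root_.mul_one]
      calc (fst Ga Gb ≫ ia) ^ (v * b) = (fst Ga Gb ≫ ia) ^ (u * a) * (fst Ga Gb ≫ ia) ^ (v * b) := by
            rw [h1, _root_.one_mul]
        _ = _ := by rw [← zpow_add, huv, zpow_one]
    · apply mono_lift ib hib
      simp only [Category.assoc, lift_snd_assoc, hcb, GrpObj.comp_zpow, Category.comp_id,
        Category.id_comp, mul_zpow]
      have h2 : (snd Ga Gb ≫ ib) ^ (v * b) = 1 := by
        rw [mul_comm, zpow_mul, zpow_natCast, hkill ib hib, one_zpow]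
      have h1 : (fst Ga Gb ≫ ia) ^ (u * a) = 1 := by
        rw [mul_comm, zpow_mul, zpow_natCast, hkill ia hia, one_zpow]
      rw [h1, _root_.one_mul]
      calc (snd Ga Gb ≫ ib) ^ (u * a) = (snd Ga Gb ≫ ib) ^ (u * a) * (snd Ga Gb ≫ ib) ^ (v * b) := by
            rw [h2, _root_.mul_one]
        _ = _ := by rw [← zpow_add, huv, zpow_one]
  · rw [MonObj.comp_mul, lift_fst_assoc, lift_snd_assoc, hca, hcb, ← zpow_add, add_comm, huv, zpow_one]

end Groth.Agent.S18370
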