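import Groth.Statements.S18372
import Mathlib.AlgebraicGeometry.AlgClosed.Basic
import Mathlib.AlgebraicGeometry.Morphisms.Finite
import Mathlib.AlgebraicGeometry.IdealSheaf.Subscheme

set_option autoImplicit false
universe u
open CategoryTheory CategoryTheory.Limits MonoidalCategory CartesianMonoidalCategory MonObj GrpObj AlgebraicGeometry
open AbVar

namespace Groth.Agent.S18372

/-- Let k be an algebraically closed field, A an abelian variety over k (a proper smooth k-group scheme
with geometrically connected fibres), U an affine open subset of A containing the unit point and D =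
A ∖ U. Then only finitely many k-rational points x of A have a translation t_x : z ↦ z + x (the
product of the identity and the constant map x in the group Hom(A, A)) with t_x⁻¹(D) = D as sets. -/
theorem result (k : Type u) [Field k] [IsAlgClosed k]
    (A : Over (Spec (CommRingCat.of k))) [GrpObj A] [IsProper A.hom] [Smooth A.hom] [GeometricallyConnected A.hom]
    (U : A.left.Opens) (hU : IsAffineOpen U) (he : Set.range η[A].left.base ⊆ (U : Set A.left)) :
    Set.Finite {x : 𝟙_ (Over (Spec (CommRingCat.of k))) ⟶ A |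
      (𝟙 A * (toUnit A ≫ x)).left.base ⁻¹' ((U : Set A.left)ᶜ) = (U : Set A.left)ᶜ} := by
  have : JacobsonSpace A.left := LocallyOfFiniteType.jacobsonSpace A.hom
  let pt : (𝟙_ (Over (Spec (CommRingCat.of k)))).left := IsLocalRing.closedPoint k
  let D : Set A.left := (U : Set A.left)ᶜ
  let R : (𝟙_ (Over (Spec (CommRingCat.of k))) ⟶ A) → (A ⟶ A) := fun c => 𝟙 A * (toUnit A ≫ c)
  let Lt : (𝟙_ (Over (Spec (CommRingCat.of k))) ⟶ A) → (A ⟶ A) := fun c => (toUnit A ≫ c) * 𝟙 A
  have hR : ∀ d c : 𝟙_ (Over (Spec (CommRingCat.of k))) ⟶ A,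
      (R c).left (d.left pt) = (d * c).left pt := by
    intro d c
    have : d ≫ R c = d * c := by
      simp only [R, MonObj.comp_mul, Category.comp_id, ← Category.assoc]
      rw [toUnit_unique (d ≫ toUnit A) (𝟙 _), Category.id_comp]
    rw [← this]; rfl
  have hL : ∀ d c : 𝟙_ (Over (Spec (CommRingCat.of k))) ⟶ A,
      (Lt d).left (c.left pt) = (d * c).left pt := by
    intro d c
    have : c ≫ Lt d = d * c := by
      simp only [Lt, MonObj.comp_mul, Category.comp_id, ← Category.assoc]
      rw [toUnit_unique (c ≫ toUnit A) (𝟙 _), Category.id_comp]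
    rw [← this]; rfl
  let H1 : Set A.left := ⋂ d ∈ {d : 𝟙_ (Over (Spec (CommRingCat.of k))) ⟶ A | d.left pt ∈ D},
    (Lt d).left ⁻¹' D
  have hH1 : IsClosed H1 := isClosed_biInter fun d _ =>
    U.isOpen.isClosed_compl.preimage (Lt d).left.continuous
  let H : Set A.left := H1 ∩ ((𝟙 A)⁻¹).left ⁻¹' H1
  have hH : IsClosed H := hH1.inter (hH1.preimage ((𝟙 A)⁻¹).left.continuous)
  have hinv : ∀ c : 𝟙_ (Over (Spec (CommRingCat.of k))) ⟶ A,
      ((𝟙 A)⁻¹).left (c.left pt) = (c⁻¹).left pt := by
    intro c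
    have : c ≫ (𝟙 A)⁻¹ = c⁻¹ := by rw [GrpObj.comp_inv, Category.comp_id]
    rw [← this]; rfl
  have hclosed : ∀ c : 𝟙_ (Over (Spec (CommRingCat.of k))) ⟶ A, IsClosed {c.left pt} := fun c =>
    (pointEquivClosedPoint A.hom ⟨c.left, Over.w c⟩).2
  have pts : ∀ z : A.left, IsClosed {z} → ∃ c : 𝟙_ (Over (Spec (CommRingCat.of k))) ⟶ A,
      c.left pt = z := by
    intro z hz
    obtain ⟨⟨a', ha'⟩, ea⟩ := (pointEquivClosedPoint A.hom).surjective ⟨z, hz⟩
    exact ⟨Over.homMk a' ha', congr(($ea).1)⟩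
  have hHU : H ⊆ (U : Set A.left) := by
    intro z hz
    by_contra hzU
    obtain ⟨w, ⟨hw1, hw2⟩, hwc⟩ := nonempty_inter_closedPoints (Z := H ∩ D) ⟨z, hz, hzU⟩
      (hH.inter U.isOpen.isClosed_compl).isLocallyClosed
    obtain ⟨c, rfl⟩ := pts w hwc
    have h := hw1.2
    simp only [H1, Set.mem_preimage, Set.mem_iInter] at h
    have h' := h c hw2
    rw [hinv, hL, mul_inv_cancel, ← MonObj.one_eq_one] at h'
    exact h' (he ⟨pt, rfl⟩)
  let Z := (Scheme.IdealSheafData.vanishingIdeal ⟨H, hH⟩).subscheme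
  let iZ : Z ⟶ A.left := (Scheme.IdealSheafData.vanishingIdeal ⟨H, hH⟩).subschemeι
  have hrange : Set.range iZ = H := by
    show Set.range (Scheme.IdealSheafData.vanishingIdeal ⟨H, hH⟩).subschemeι = H
    rw [Scheme.IdealSheafData.range_subschemeι, Scheme.IdealSheafData.coe_support_vanishingIdeal]
    rfl
  have hsubU : Set.range iZ ⊆ Set.range U.ι := by
    rw [hrange, Scheme.Opens.range_ι]; exact hHU
  let l := IsOpenImmersion.lift U.ι iZ hsubU
  have hl : l ≫ U.ι = iZ := IsOpenImmersion.lift_fac _ _ _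
  have : IsAffine U := hU
  have : IsClosedImmersion (l ≫ U.ι) := by rw [hl]; infer_instance
  have : IsClosedImmersion l := .of_comp _ U.ι
  have : IsAffine Z := isAffine_of_isAffineHom l
  have : IsFinite (iZ ≫ A.hom) := IsFinite.iff_isProper_and_isAffineHom.mpr ⟨inferInstance, inferInstance⟩
  have : Finite Z := by
    have hfin := (iZ ≫ A.hom).finite_preimage_singleton (IsLocalRing.closedPoint k)
    have huniv : (iZ ≫ A.hom) ⁻¹' {IsLocalRing.closedPoint k} = Set.univ :=
      Set.eq_univ_of_forall fun z => Subsingleton.elim (α := Spec (CommRingCat.of k)) _ _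
    exact Set.finite_univ_iff.mp (huniv ▸ hfin)
  have hHfin : H.Finite := hrange ▸ Set.finite_range iZ
  refine Set.Finite.of_finite_image (f := fun c : 𝟙_ (Over (Spec (CommRingCat.of k))) ⟶ A => c.left pt)
    (hHfin.subset ?_) ?_
  · rintro _ ⟨x, hx, rfl⟩
    have hstab : ∀ d : 𝟙_ (Over (Spec (CommRingCat.of k))) ⟶ A,
        (d * x).left pt ∈ D ↔ d.left pt ∈ D := fun d => by
      rw [← hR]
      exact Set.ext_iff.mp hx (d.left pt)
    simp only [H, H1, Set.mem_inter_iff, Set.mem_preimage, Set.mem_iInter]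
    refine ⟨fun d hd => ?_, fun d hd => ?_⟩
    · rw [hL]; exact (hstab d).mpr hd
    · rw [hinv, hL]
      exact (hstab (d * x⁻¹)).mp (by rwa [inv_mul_cancel_right])
  · intro a _ b _ h
    exact Over.OverMorphism.ext (ext_of_apply_closedPoint_eq A.hom (Over.w a) (Over.w b) h)

end Groth.Agent.S18372
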