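import Groth.Statements.S18375
import Groth.Agent.Lib.LabGraph.TreeSides

set_option autoImplicit false
universe u
open PhiStab

namespace Groth.Agent.S18375

open PhiStab in
/-- Let (V, E, ends) be a finite multigraph and T a set of edges forming a spanning tree (the spanning
subgraph with edge set T is connected and contains no circuit), b an integer and φ a nondegenerate
real weighting of the vertices with Σ_v φ v = b. Then there is a unique integer multidegree m for
which the sheaf datum (m, Tᶜ), not locally free exactly at the edges outside T, has total degree b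
and is φ-stable. This is the statement that a stable pointed curve with this dual graph carries a
φ-stable rank-1 torsion-free sheaf of degree g - 1 = b failing to be locally free exactly at the
nodes outside T, of uniquely determined multidegree, written for the combinatorial datum. -/
theorem result {V E : Type u} [Fintype V] [Fintype E] [DecidableEq V] [DecidableEq E]
    (ends : E → V × V) (T : Finset E)
    (hT : DualGr.IsTree (spanEnds ends T)) (b : ℤ) (φ : V → ℝ) (hφ : (∑ v : V, φ v) = (b : ℝ))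
    (hnd : Nondegenerate ends φ) :
    ∃! m : V → ℤ, totDeg m Tᶜ = b ∧ IsStable ends φ m Tᶜ := by
  classical
  -- the weight function attached to a multidegree
  let w : V → ℝ := fun v => ∑ e ∈ Tᶜ, ((if (ends e).1 = v then 1 / 2 else 0) + (if (ends e).2 = v then 1 / 2 else 0))
  let ψ : (V → ℤ) → V → ℝ := fun m v => (m v : ℝ) - φ v + w v
  have hψtot : ∀ m : V → ℤ, totDeg m Tᶜ = b → ∑ v, ψ m v = 0 := fun m hm => by
    have hw : ∑ v, w v = (Tᶜ.card : ℝ) := by
      simp only [w]
      rw [Finset.sum_comm]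
      simp only [Finset.sum_add_distrib, Finset.sum_ite_eq, Finset.mem_univ, if_true, Finset.sum_const, nsmul_eq_mul]
      ring
    simp only [ψ, Finset.sum_add_distrib, Finset.sum_sub_distrib, hw, hφ, ← hm, totDeg]
    push_cast
    ring
  let x : (V → ℤ) → {e // e ∈ T} → ℝ := fun m e => ∑ v ∈ side (spanEnds ends T) e, ψ m v
  -- the margin is a sum over crossing tree edges
  have hmarg : ∀ (m : V → ℤ), totDeg m Tᶜ = b → ∀ S : Finset V,
      Groth.Agent.Lib.LabGraph.TreeSides.marg ends φ m Tᶜ S = ∑ e : {e // e ∈ T},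
        (if (ends e.1).1 ∈ S ∧ (ends e.1).2 ∉ S then 1 / 2 + x m e
         else if (ends e.1).1 ∉ S ∧ (ends e.1).2 ∈ S then 1 / 2 - x m e else 0) := by
    intro m hm S
    rw [Groth.Agent.Lib.LabGraph.TreeSides.marg_eq]
    have h1 : ∑ v ∈ S, ψ m v = ∑ e : {e // e ∈ T},
        ((if (ends e.1).1 ∈ S then x m e else 0) - (if (ends e.1).2 ∈ S then x m e else 0)) := by
      conv_lhs => rw [Groth.Agent.Lib.LabGraph.TreeSides.eq_flow (spanEnds ends T) hT (ψ m) (hψtot m hm)]
      exact Groth.Agent.Lib.LabGraph.TreeSides.sum_flow (spanEnds ends T) (x m) S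
    have h2 : ∑ v ∈ S, w v = ∑ e ∈ Tᶜ, ((if (ends e).1 ∈ S then (1 : ℝ) / 2 else 0) + (if (ends e).2 ∈ S then 1 / 2 else 0)) := by
      simp only [w]
      rw [Finset.sum_comm]
      simp only [Finset.sum_add_distrib, Finset.sum_ite_eq]
    have h3 : ∑ v ∈ S, ψ m v = ∑ v ∈ S, ((m v : ℝ) - φ v) + ∑ v ∈ S, w v := Finset.sum_add_distrib
    rw [← Finset.sum_compl_add_sum T]
    have h4 : ∑ e ∈ Tᶜ, Groth.Agent.Lib.LabGraph.TreeSides.edgeTerm ends Tᶜ S e =
        ∑ e ∈ Tᶜ, ((if (ends e).1 ∈ S then (1 : ℝ) / 2 else 0) + (if (ends e).2 ∈ S then 1 / 2 else 0)) := by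
      refine Finset.sum_congr rfl fun e he => ?_
      rw [Groth.Agent.Lib.LabGraph.TreeSides.edgeTerm]
      by_cases a1 : (ends e).1 ∈ S <;> by_cases a2 : (ends e).2 ∈ S <;> simp [he, a1, a2] <;> norm_num
    have h5 : ∑ e ∈ T, Groth.Agent.Lib.LabGraph.TreeSides.edgeTerm ends Tᶜ S e =
        ∑ e : {e // e ∈ T}, (if ((ends e.1).1 ∈ S ∧ (ends e.1).2 ∉ S) ∨ ((ends e.1).1 ∉ S ∧ (ends e.1).2 ∈ S)
          then (1 : ℝ) / 2 else 0) := by
      rw [← Finset.sum_coe_sort T]
      refine Finset.sum_congr rfl fun e _ => ?_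
      rw [Groth.Agent.Lib.LabGraph.TreeSides.edgeTerm, if_neg (fun h => Finset.mem_compl.mp h.1 e.2), zero_add]
    rw [h4, h5, ← add_assoc, ← h2, ← h3, h1, ← Finset.sum_add_distrib]
    refine Finset.sum_congr rfl fun e _ => ?_
    by_cases a1 : (ends e.1).1 ∈ S <;> by_cases a2 : (ends e.1).2 ∈ S <;> simp [a1, a2] <;> ring
  have hcross : ∀ S : Finset V, S.Nonempty → S ≠ Finset.univ → ∃ e : {e // e ∈ T},
      ((ends e.1).1 ∈ S ∧ (ends e.1).2 ∉ S) ∨ ((ends e.1).1 ∉ S ∧ (ends e.1).2 ∈ S) := fun S hne hu =>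
    Groth.Agent.Lib.LabGraph.TreeSides.exists_crossing (spanEnds ends T) hT.1 hne hu
  -- stability bounds the side sums
  have hbound : ∀ m : V → ℤ, totDeg m Tᶜ = b → IsStable ends φ m Tᶜ → ∀ e, |x m e| < 1 / 2 := by
    intro m hm hst e
    set S := side (spanEnds ends T) e
    have h1 := Groth.Agent.Lib.LabGraph.TreeSides.fst_mem_side (spanEnds ends T) e
    have h2 := Groth.Agent.Lib.LabGraph.TreeSides.snd_notMem_side (spanEnds ends T) hT e
    have hothers : ∀ e', e' ≠ e → ((ends e'.1).1 ∈ S ↔ (ends e'.1).2 ∈ S) := fun e' he' =>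
      Groth.Agent.Lib.LabGraph.TreeSides.mem_side_iff (spanEnds ends T) he'
    have hS : S ≠ Finset.univ := fun h => h2 (h ▸ Finset.mem_univ _ : _ ∈ S)
    have hSc : Sᶜ ≠ Finset.univ := fun h => Finset.mem_compl.mp (h ▸ Finset.mem_univ _) h1
    have p1 : 0 < Groth.Agent.Lib.LabGraph.TreeSides.marg ends φ m Tᶜ S := sub_pos.mpr (hst S ⟨_, h1⟩ hS)
    have p2 : 0 < Groth.Agent.Lib.LabGraph.TreeSides.marg ends φ m Tᶜ Sᶜ :=
      sub_pos.mpr (hst Sᶜ ⟨_, Finset.mem_compl.mpr h2⟩ hSc)
    rw [hmarg m hm] at p1 p2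
    rw [Finset.sum_eq_single e, if_pos ⟨h1, h2⟩] at p1
    · rw [Finset.sum_eq_single e, if_neg (fun h => Finset.mem_compl.mp h.1 h1),
        if_pos ⟨fun h => Finset.mem_compl.mp h h1, Finset.mem_compl.mpr h2⟩] at p2
      · rw [abs_lt]; constructor <;> linarith
      · intro e' _ he'
        rw [if_neg, if_neg] <;> simp only [Finset.mem_compl, hothers e' he'] <;> tauto
      · exact fun h => absurd (Finset.mem_univ e) h
    · intro e' _ he'
      rw [if_neg, if_neg] <;> simp only [hothers e' he'] <;> tauto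
    · exact fun h => absurd (Finset.mem_univ e) h
  -- existence
  let c : {e // e ∈ T} → ℝ := fun e => ∑ v ∈ side (spanEnds ends T) e, (w v - φ v)
  obtain ⟨m, hm1, hm2⟩ := Groth.Agent.Lib.LabGraph.TreeSides.exists_sides (spanEnds ends T) hT
    (fun e => ⌈-(1 / 2 : ℝ) - c e⌉) (b - (Tᶜ.card : ℤ))
  have hm : totDeg m Tᶜ = b := by simp only [totDeg, hm2]; ring
  have hxc : ∀ (m : V → ℤ) e, x m e = ((∑ v ∈ side (spanEnds ends T) e, m v : ℤ) : ℝ) + c e := fun m e => by
    simp only [x, ψ, c]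
    push_cast
    rw [← Finset.sum_add_distrib]
    exact Finset.sum_congr rfl fun v _ => by ring
  have hst : IsStable ends φ m Tᶜ := by
    refine hnd m Tᶜ (by rw [hφ, hm]) fun S hne hu => sub_nonneg.mp ?_
    show 0 ≤ Groth.Agent.Lib.LabGraph.TreeSides.marg ends φ m Tᶜ S
    rw [hmarg m hm]
    refine Finset.sum_nonneg fun e _ => ?_
    have hl := Int.le_ceil (-(1 / 2 : ℝ) - c e)
    have hu := Int.ceil_lt_add_one (-(1 / 2 : ℝ) - c e)
    have := hxc m e
    rw [hm1] at this
    split_ifs <;> linarith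
  refine ⟨m, ⟨hm, hst⟩, fun m' hm' => ?_⟩
  have heq : ∀ e, ∑ v ∈ side (spanEnds ends T) e, m' v = ∑ v ∈ side (spanEnds ends T) e, m v := fun e => by
    have h1 := abs_lt.mp (hbound m hm hst e)
    have h2 := abs_lt.mp (hbound m' hm'.1 hm'.2 e)
    rw [hxc] at h1 h2
    have h3 : (((∑ v ∈ side (spanEnds ends T) e, m' v) - ∑ v ∈ side (spanEnds ends T) e, m v : ℤ) : ℝ) < 1 := by
      push_cast at h1 h2 ⊢; linarith
    have h4 : (-1 : ℝ) < (((∑ v ∈ side (spanEnds ends T) e, m' v) - ∑ v ∈ side (spanEnds ends T) e, m v : ℤ) : ℝ) := by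
      push_cast at h1 h2 ⊢; linarith
    have h3' : (∑ v ∈ side (spanEnds ends T) e, m' v) - ∑ v ∈ side (spanEnds ends T) e, m v < 1 := by exact_mod_cast h3
    have h4' : (-1 : ℤ) < (∑ v ∈ side (spanEnds ends T) e, m' v) - ∑ v ∈ side (spanEnds ends T) e, m v := by exact_mod_cast h4
    omega
  have := Groth.Agent.Lib.LabGraph.TreeSides.sides_unique (spanEnds ends T) hT (fun v => (m' v : ℝ)) (fun v => (m v : ℝ))
    (fun e => by exact_mod_cast heq e) (by
      have h1 := hm'.1
      simp only [totDeg] at h1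
      have : ∑ v, m' v = ∑ v, m v := by rw [hm2]; omega
      exact_mod_cast this)
  funext v
  exact_mod_cast congrFun this v

end Groth.Agent.S18375
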