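import Groth.Statements.S18378
import Groth.Agent.H68.VerlindeSums

set_option autoImplicit false
open Complex
open VerlindeComb

namespace Groth.Agent.S18378

open Groth.Agent.H68.Verlinde Groth.Agent.H68.VerlindeSums

theorem anti_gap {r N : ℕ} {m : Fin r → Fin N} (hm : StrictAnti m) {a b : Fin r} (hab : a ≤ b) :
    (m b : ℕ) + ((b : ℕ) - a) ≤ m a := by
  obtain ⟨b, hb⟩ := b
  rw [Fin.le_def] at hab
  induction b with
  | zero => simp at hab; rw [show a = (⟨0, hb⟩ : Fin r) from Fin.ext (by simpa using hab)]; simp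
  | succ n ih =>
    rcases Nat.lt_or_ge (a : ℕ) (n + 1) with h | h
    · have h1 := ih (by omega) (by simp; omega)
      have h2 := hm (show (⟨n, by omega⟩ : Fin r) < ⟨n + 1, hb⟩ by simp)
      rw [Fin.lt_def] at h2
      simp at h1 h2 ⊢
      omega
    · rw [show a = (⟨n + 1, hb⟩ : Fin r) from Fin.ext (by simp at hab ⊢; omega)]; simp

theorem bounds {r N : ℕ} {m : Fin r → Fin N} (hm : StrictAnti m) (i : Fin r) :
    r - 1 - (i : ℕ) ≤ (m i : ℕ) ∧ (m i : ℕ) + (i : ℕ) < N := by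
  have hr : 0 < r := i.pos
  have h1 := anti_gap hm (show i ≤ ⟨r - 1, by omega⟩ by rw [Fin.le_def]; simp; omega)
  have h2 := anti_gap hm (show (⟨0, hr⟩ : Fin r) ≤ i by rw [Fin.le_def]; simp)
  have := (m ⟨0, hr⟩).isLt
  simp at h1 h2
  omega

/-- Let r, k ≥ 1 be integers and v, v' two integer vectors with r + k > v_1 > ⋯ > v_r ≥ 0 and r + k >
v'_1 > ⋯ > v'_r ≥ 0 whose difference v - v' is not a constant vector (a, …, a). Put z_j = exp(2πi
v_j / (r + k)), z'_j = exp(2πi v'_j / (r + k)), let S_μ(w) = det(w_j^{μ_i + r - i}) / det(w_j^{r -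
i}) be the Schur value at w = z or z', and write |x| for the sum of the coordinates of a vector and
μ* = (k - μ_r, …, k - μ_1). Then the sum over all μ with k ≥ μ_1 ≥ ⋯ ≥ μ_{r-1} ≥ μ_r = 0 of exp(-2πi
|μ| |v| / (r (r + k))) · exp(-2πi |μ*| |v'| / (r (r + k))) · S_μ(z) · S_{μ*}(z') is zero. The
vanishing is the orthogonality of distinct characters and holds exactly for non-equivalent v, v';
for v - v' constant the sum is nonzero. Indices are 0-based below: μ i stands for μ_{i+1}. -/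
theorem result (r k : ℕ) (hr : 1 ≤ r)
    (hk : 1 ≤ k) (v v' : Fin r → ℕ) (hv : StrictAnti v) (hvlt : ∀ i, v i < r + k) (hv' : StrictAnti v')
    (hv'lt : ∀ i, v' i < r + k) (hne : ¬ ∃ a : ℤ, ∀ i, (v i : ℤ) - (v' i : ℤ) = a)
    (z z' : Fin r → ℂ) (hz : ∀ j, z j = Complex.exp (2 * Real.pi * Complex.I * (v j : ℂ) / ((r : ℂ) + k)))
    (hz' : ∀ j, z' j = Complex.exp (2 * Real.pi * Complex.I * (v' j : ℂ) / ((r : ℂ) + k)))
    (S S' : (Fin r → ℕ) → ℂ)
    (hS : ∀ μ : Fin r → ℕ, S μ =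
      (Matrix.of fun i j : Fin r => z j ^ (μ i + (r - 1 - (i : ℕ)))).det /
        (Matrix.of fun i j : Fin r => z j ^ (r - 1 - (i : ℕ))).det)
    (hS' : ∀ μ : Fin r → ℕ, S' μ =
      (Matrix.of fun i j : Fin r => z' j ^ (μ i + (r - 1 - (i : ℕ)))).det /
        (Matrix.of fun i j : Fin r => z' j ^ (r - 1 - (i : ℕ))).det) :
    (∑ μ ∈ (Finset.univ : Finset (Fin r → Fin (k + 1))).filter
        (fun μ : Fin r → Fin (k + 1) => Antitone μ ∧ ∀ i : Fin r, (i : ℕ) = r - 1 → (μ i : ℕ) = 0),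
      Complex.exp (-(2 * Real.pi * Complex.I * ((∑ i, (μ i : ℕ) : ℕ) : ℂ) * ((∑ j, v j : ℕ) : ℂ) /
          ((r : ℂ) * ((r : ℂ) + k)))) *
      Complex.exp (-(2 * Real.pi * Complex.I * ((∑ i, (k - (μ (Fin.rev i) : ℕ)) : ℕ) : ℂ) *
          ((∑ j, v' j : ℕ) : ℂ) / ((r : ℂ) * ((r : ℂ) + k)))) *
      S (fun i => (μ i : ℕ)) * S' (fun i => k - (μ (Fin.rev i) : ℕ))) = 0 := by
  have hz0 : z = fun j => E (r + k) (v j : ℂ) := by funext j; rw [hz, E]; push_cast; rfl
  have hz0' : z' = fun j => E (r + k) (v' j : ℂ) := by funext j; rw [hz', E]; push_cast; rfl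
  have hr0 : (r : ℂ) ≠ 0 := by exact_mod_cast (by omega : r ≠ 0)
  have hN0 : ((r : ℂ) + k) ≠ 0 := by exact_mod_cast (by omega : r + k ≠ 0)
  set t := E (r + k) (-(((∑ j, v j : ℕ) : ℂ) - ((∑ j, v' j : ℕ) : ℂ)) / r) with ht
  set w' := fun j => E (r + k) (-(v' j : ℂ)) with hw'
  set C : ℂ := Complex.exp (-(2 * Real.pi * Complex.I * ((r : ℂ) * k) * ((∑ j, v' j : ℕ) : ℂ) /
      ((r : ℂ) * ((r : ℂ) + k)))) / t ^ (∑ i : Fin r, (r - 1 - (i : ℕ))) *
      (((Equiv.Perm.sign (Fin.revPerm : Equiv.Perm (Fin r)) : ℤ) : ℂ) * (∏ j, z' j) ^ (k + (r - 1))) /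
      (delta z * delta z')
  have hlift : ∀ μ : Fin r → Fin (k + 1), ∀ i : Fin r, (μ i : ℕ) + (r - 1 - (i : ℕ)) < r + k := fun μ i => by omega
  calc _ = ∑ μ ∈ (Finset.univ : Finset (Fin r → Fin (k + 1))).filter
        (fun μ : Fin r → Fin (k + 1) => Antitone μ ∧ ∀ i : Fin r, (i : ℕ) = r - 1 → (μ i : ℕ) = 0),
        C * (t ^ (∑ i, ((⟨(μ i : ℕ) + (r - 1 - (i : ℕ)), hlift μ i⟩ : Fin (r + k)) : ℕ)) *
          pair z w' (fun i => (⟨(μ i : ℕ) + (r - 1 - (i : ℕ)), hlift μ i⟩ : Fin (r + k)))) := by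
        refine Finset.sum_congr rfl fun μ _ => ?_
        have hle : ∀ i, (μ i : ℕ) ≤ k := fun i => Nat.le_of_lt_succ (μ i).isLt
        have hzw : ∀ j, z' j * w' j = 1 := fun j => by rw [hz0']; exact E_mul_self _
        have hstar : ((∑ i, (k - (μ (Fin.rev i) : ℕ)) : ℕ) : ℂ) = (r : ℂ) * k - ((∑ i, (μ i : ℕ) : ℕ) : ℂ) := by
          rw [show (∑ i, (k - (μ (Fin.rev i) : ℕ))) = ∑ i, (k - (μ i : ℕ)) from
            Equiv.sum_comp Fin.revPerm (fun i => k - (μ i : ℕ))]
          have h : (∑ i, (k - (μ i : ℕ))) + ∑ i, (μ i : ℕ) = r * k := by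
            rw [← Finset.sum_add_distrib, Finset.sum_congr rfl (fun i _ => Nat.sub_add_cancel (hle i))]
            simp
          have h' : (((∑ i, (k - (μ i : ℕ))) + ∑ i, (μ i : ℕ) : ℕ) : ℂ) = ((r * k : ℕ) : ℂ) := by rw [h]
          push_cast at h' ⊢
          linear_combination h'
        have hexp : Complex.exp (-(2 * Real.pi * Complex.I * ((∑ i, (μ i : ℕ) : ℕ) : ℂ) * ((∑ j, v j : ℕ) : ℂ) /
              ((r : ℂ) * ((r : ℂ) + k)))) *
            Complex.exp (-(2 * Real.pi * Complex.I * ((∑ i, (k - (μ (Fin.rev i) : ℕ)) : ℕ) : ℂ) *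
              ((∑ j, v' j : ℕ) : ℂ) / ((r : ℂ) * ((r : ℂ) + k)))) =
            Complex.exp (-(2 * Real.pi * Complex.I * ((r : ℂ) * k) * ((∑ j, v' j : ℕ) : ℂ) /
              ((r : ℂ) * ((r : ℂ) + k)))) * t ^ (∑ i, (μ i : ℕ)) := by
          rw [hstar, ht, E, ← Complex.exp_nat_mul, ← Complex.exp_add, ← Complex.exp_add]
          congr 1
          push_cast
          field_simp
          ring
        have ht0 : t ≠ 0 := Complex.exp_ne_zero _
        rw [hexp, hS, hS', show (Matrix.of fun i j : Fin r => z' j ^ (k - (μ (Fin.rev i) : ℕ) + (r - 1 - (i : ℕ)))).det =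
          alt z' (fun i => k - (μ (Fin.rev i) : ℕ) + (r - 1 - (i : ℕ))) from rfl,
          reflect_schur z' w' hzw (fun i => (μ i : ℕ)) hle, pair]
        simp only [Finset.sum_add_distrib, pow_add, alt, delta, C]
        field_simp

    _ = C * ∑ m ∈ (Finset.univ : Finset (Fin r → Fin (r + k))).filter
          (fun m : Fin r → Fin (r + k) => StrictAnti m ∧ ∀ i : Fin r, (i : ℕ) = r - 1 → (m i : ℕ) = 0),
          t ^ (∑ i, (m i : ℕ)) * pair z w' m := by
        rw [← Finset.mul_sum]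
        congr 1
        refine Finset.sum_bij' (fun μ _ i => (⟨(μ i : ℕ) + (r - 1 - (i : ℕ)), hlift μ i⟩ : Fin (r + k)))
          (fun m hm i => ⟨(m i : ℕ) - (r - 1 - (i : ℕ)), ?_⟩) ?_ ?_ ?_ ?_ ?_
        · simp at hm
          have := (bounds hm.1 i).2
          omega
        · intro μ hμ
          simp at hμ ⊢
          refine ⟨fun a b hab => ?_, fun i hi => ?_⟩
          · have := hμ.1 hab.le
            rw [Fin.le_def] at this
            rw [Fin.lt_def] at hab ⊢
            simp; omega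
          · exact ⟨hμ.2 i hi, by omega⟩
        · intro m hm
          simp at hm ⊢
          refine ⟨fun a b hab => ?_, fun i hi => ?_⟩
          · have := anti_gap hm.1 hab
            rw [Fin.le_def] at hab ⊢
            simp; omega
          · simp [hm.2 i hi]
        · intro μ hμ; funext i; simp
        · intro m hm
          simp at hm
          funext i
          have := (bounds hm.1 i).1
          ext; simp; omega
        · intro μ _; rfl
    _ = 0 := by
        rw [hz0, hw', ht, twisted_zero hr v v' hv hvlt hv' hv'lt hne, mul_zero]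

end Groth.Agent.S18378
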