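import Groth.Statements.S18381
import Groth.Agent.H68.VerlindeSums

set_option autoImplicit false
open Complex
open VerlindeComb

namespace Groth.Agent.S18381

open Groth.Agent.H68.Verlinde Groth.Agent.H68.VerlindeSums

/-- Fix integers r, k ≥ 1. For g ≥ 0, d ∈ ℤ and parabolic data ω given by a finite family of partitions
λ_x with k ≥ λ_{x,1} ≥ ⋯ ≥ λ_{x,r} ≥ 0, write |ω| = Σ_x |λ_x|, z(v)_j = exp(2πi v_j / (r + k)),
S_λ(v) = det(z(v)_j^{λ_i + r - i}) / det(z(v)_j^{r - i}) (Schur value), P(v) = ∏_{i<j} (2 sin(π (v_i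
- v_j)/(r + k)))², and let V_g(r, d, ω) = (-1)^{d(r-1)} (k/r)^g (r (r+k)^{r-1})^{g-1} Σ_v exp(2πi
(d/r - |ω| / (r (r+k))) Σ_j v_j) · ∏_x S_{λ_x}(v) / P(v)^{g-1}, the sum over integer vectors r + k >
v_1 > ⋯ > v_{r-1} > v_r = 0 (the right-hand side of the Verlinde formula; it depends on ω only
through |ω| and the function v ↦ ∏_x S_{λ_x}(v), and is written that way below, with (r
(r+k)^{r-1})^{g-1} as the g-th power divided once and 1/P^{g-1} as P/P^g). Then V_{g+1}(r, d, ω) =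
Σ_μ V_g(r, d, ω^μ), the sum over all μ with k > μ_1 ≥ ⋯ ≥ μ_r ≥ 0, where ω^μ adjoins to ω the two
partitions μ and μ* = (k - μ_r, …, k - μ_1). Indices are 0-based below. -/
theorem result (r k : ℕ) (hr : 1 ≤ r) (hk : 1 ≤ k)
    (g : ℕ) (d : ℤ) (ι : Type) [Fintype ι] (lam : ι → Fin r → ℕ)
    (hlam : ∀ x, Antitone (lam x) ∧ ∀ i, lam x i ≤ k)
    (z : (Fin r → ℕ) → Fin r → ℂ)
    (hz : ∀ v j, z v j = Complex.exp (2 * Real.pi * Complex.I * (v j : ℂ) / ((r : ℂ) + k)))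
    (S : (Fin r → ℕ) → (Fin r → ℕ) → ℂ)
    (hS : ∀ μ v, S μ v = (Matrix.of fun i j : Fin r => z v j ^ (μ i + (r - 1 - (i : ℕ)))).det /
        (Matrix.of fun i j : Fin r => z v j ^ (r - 1 - (i : ℕ))).det)
    (P : (Fin r → ℕ) → ℝ)
    (hP : ∀ v, P v = ∏ p ∈ (Finset.univ : Finset (Fin r × Fin r)).filter (fun p => p.1 < p.2),
        ((2 : ℝ) * Real.sin (Real.pi * ((v p.1 : ℝ) - (v p.2 : ℝ)) / ((r : ℝ) + k))) ^ 2)
    (V : ℕ → ℤ → ℕ → ((Fin r → ℕ) → ℂ) → ℂ)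
    (hV : ∀ (g' : ℕ) (d' : ℤ) (w : ℕ) (Sω : (Fin r → ℕ) → ℂ), V g' d' w Sω =
        (-1 : ℂ) ^ (d' * ((r : ℤ) - 1)) * ((k : ℂ) / r) ^ g' *
          ((((r : ℂ) * ((r : ℂ) + k) ^ (r - 1)) ^ g') / ((r : ℂ) * ((r : ℂ) + k) ^ (r - 1))) *
          ∑ v ∈ (Finset.univ : Finset (Fin r → Fin (r + k))).filter
            (fun v : Fin r → Fin (r + k) => StrictAnti v ∧ ∀ i : Fin r, (i : ℕ) = r - 1 → (v i : ℕ) = 0),
            Complex.exp (2 * Real.pi * Complex.I * ((d' : ℂ) / r - (w : ℂ) / ((r : ℂ) * ((r : ℂ) + k))) *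
                ((∑ j, (v j : ℕ) : ℕ) : ℂ)) *
              Sω (fun j => (v j : ℕ)) *
              (((P (fun j => (v j : ℕ)) : ℂ)) / ((P (fun j => (v j : ℕ)) : ℂ)) ^ g')) :
    V (g + 1) d (∑ x, ∑ i, lam x i) (fun v => ∏ x, S (lam x) v) =
      ∑ μ ∈ (Finset.univ : Finset (Fin r → Fin k)).filter (fun μ : Fin r → Fin k => Antitone μ),
        V g d ((∑ x, ∑ i, lam x i) + (∑ i, (μ i : ℕ)) + (∑ i, (k - (μ (Fin.rev i) : ℕ))))
          (fun v => (∏ x, S (lam x) v) * S (fun i => (μ i : ℕ)) v *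
            S (fun i => k - (μ (Fin.rev i) : ℕ)) v) := by
  have hr0 : (r : ℂ) ≠ 0 := by exact_mod_cast (by omega : r ≠ 0)
  have hk0 : (k : ℂ) ≠ 0 := by exact_mod_cast (by omega : k ≠ 0)
  have hN0 : ((r : ℂ) + k) ≠ 0 := by exact_mod_cast (by omega : r + k ≠ 0)
  have hz0 : ∀ v, z v = fun j => E (r + k) (v j : ℂ) := by
    intro v; funext j; rw [hz, E]; push_cast; rfl
  have hstar : ∀ μ : Fin r → Fin k,
      (∑ i, (μ i : ℕ)) + ∑ i, (k - (μ (Fin.rev i) : ℕ)) = r * k := by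
    intro μ
    rw [show (∑ i, (k - (μ (Fin.rev i) : ℕ))) = ∑ i, (k - (μ i : ℕ)) from
      Equiv.sum_comp Fin.revPerm (fun i => k - (μ i : ℕ)), ← Finset.sum_add_distrib,
      Finset.sum_congr rfl (fun i _ => Nat.add_sub_cancel' (μ i).isLt.le)]
    simp
  simp only [hV, add_assoc, hstar]
  simp only [Finset.mul_sum]
  conv_rhs => rw [Finset.sum_comm]
  refine Finset.sum_congr rfl fun v hv => ?_
  simp at hv
  set vv : Fin r → ℕ := fun j => (v j : ℕ)
  have hvi : Function.Injective vv := fun a b h => hv.1.injective (Fin.ext h)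
  have hs := schur_sum hr hk vv hvi (fun i => (v i).isLt)
  have hsum : ∑ μ ∈ (Finset.univ : Finset (Fin r → Fin k)).filter (fun μ : Fin r → Fin k => Antitone μ),
      S (fun i => (μ i : ℕ)) vv * S (fun i => k - (μ (Fin.rev i) : ℕ)) vv =
      E (r + k) ((k : ℂ) * ((∑ j, vv j : ℕ) : ℂ)) * ((k : ℂ) * ((r : ℂ) + k) ^ (r - 1)) / ((P vv : ℝ) : ℂ) := by
    rw [hP, ← hs]
    refine Finset.sum_congr rfl fun μ _ => ?_
    rw [hS, hS, hz0]; rfl
  set W := (∑ x, ∑ i, lam x i)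
  set Ω := ∏ x, S (lam x) vv
  set c : ℂ := (-1 : ℂ) ^ (d * ((r : ℤ) - 1)) * ((k : ℂ) / r) ^ g *
    ((((r : ℂ) * ((r : ℂ) + k) ^ (r - 1)) ^ g) / ((r : ℂ) * ((r : ℂ) + k) ^ (r - 1)))
  set e : ℂ := Complex.exp (2 * Real.pi * Complex.I * ((d : ℂ) / r - (((W + r * k : ℕ)) : ℂ) /
    ((r : ℂ) * ((r : ℂ) + k))) * ((∑ j, vv j : ℕ) : ℂ))
  set p : ℂ := ((P vv : ℝ) : ℂ)
  calc _ = c * (e * Ω * (p / p ^ g)) * (E (r + k) ((k : ℂ) * ((∑ j, vv j : ℕ) : ℂ)) *
        ((k : ℂ) * ((r : ℂ) + k) ^ (r - 1)) / p) := by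
        have he : Complex.exp (2 * Real.pi * Complex.I * ((d : ℂ) / r - (W : ℂ) /
            ((r : ℂ) * ((r : ℂ) + k))) * ((∑ j, vv j : ℕ) : ℂ)) =
            e * E (r + k) ((k : ℂ) * ((∑ j, vv j : ℕ) : ℂ)) := by
          simp only [e, E, ← Complex.exp_add]
          congr 1
          push_cast
          field_simp
          ring
        have hp : p ≠ 0 := by
          simp only [p, hP]
          rw [show ((r : ℝ) + k) = ((r + k : ℕ) : ℝ) by push_cast; rfl, ← delta_mul_delta]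
          refine mul_ne_zero (delta_ne_zero _ (E_injective_comp (by omega) hvi fun i => (v i).isLt)) ?_
          have h0 := delta_ne_zero _ (E_injective_comp (N := r + k) (by omega) hvi fun i => (v i).isLt)
          rw [delta_reflect _ (fun j => E (r + k) (-(vv j : ℂ))) (fun j => E_mul_self _)] at h0
          exact right_ne_zero_of_mul h0
        rw [he]
        simp only [c, pow_succ]
        field_simp
    _ = _ := by
        rw [← hsum, Finset.mul_sum]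
        refine Finset.sum_congr rfl fun μ _ => ?_
        simp only [c, e, p, Ω, W, vv]
        ring

end Groth.Agent.S18381
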