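import Groth.Statements.S18383
import Mathlib.CategoryTheory.Limits.Constructions.Over.Connected
-- import your own Groth.Agent.* helpers here

set_option autoImplicit false
universe u
open CategoryTheory CategoryTheory.Limits MonoidalCategory CartesianMonoidalCategory MonObj GrpObj AlgebraicGeometry
open GrpSch

namespace Groth.Agent.S18383

/-- Let S be a scheme, H an S-group scheme and i : G → H a homomorphism of S-group schemes which is a
closed immersion (G a closed subgroup scheme of H). Then the left-translation action of G on H is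
strictly free: the S-morphism G ×_S H → H ×_S H, (g, h) ↦ (i(g)·h, h), is a closed immersion. -/
theorem result {S : Scheme.{u}} (G H : Over S)
    [GrpObj G] [GrpObj H] (i : G ⟶ H) [IsMonHom i] [IsClosedImmersion i.left] :
    IsClosedImmersion (CartesianMonoidalCategory.lift ((i ▷ H) ≫ μ[H]) (snd G H)).left := by
  let σ : H ⊗ H ⟶ H := fst H H * (snd H H)⁻¹
  let φ : G ⊗ H ⟶ H ⊗ H := lift ((i ▷ H) ≫ μ[H]) (snd G H)
  have h1 : (i ▷ H) ≫ μ[H] = (fst G H ≫ i) * snd G H := by
    rw [Hom.mul_def]
    congr 1
  have w : φ ≫ σ = fst G H ≫ i := by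
    simp only [σ, φ, MonObj.comp_mul, GrpObj.comp_inv, lift_fst, lift_snd, h1]
    rw [mul_inv_cancel_right]
  have pb : IsPullback φ (fst G H) σ i := by
    refine ⟨⟨w⟩, ⟨PullbackCone.IsLimit.mk _ (fun c => lift c.snd (c.fst ≫ snd H H)) ?_ ?_ ?_⟩⟩
    · intro c
      apply CartesianMonoidalCategory.hom_ext
      · have hc : (c.fst ≫ fst H H) * (c.fst ≫ snd H H)⁻¹ = c.snd ≫ i := by
          rw [← c.condition]; simp [σ, MonObj.comp_mul, GrpObj.comp_inv]
        simp only [φ, Category.assoc, lift_fst, h1, MonObj.comp_mul, lift_fst_assoc, lift_snd]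
        rw [← hc, inv_mul_cancel_right]
      · simp [φ]
    · intro c; simp
    · intro c m h₁ h₂
      apply CartesianMonoidalCategory.hom_ext
      · simpa using h₂
      · simp [← h₁, φ]
  exact MorphismProperty.of_isPullback (P := @IsClosedImmersion) (pb.map (Over.forget S)).flip ‹_›

end Groth.Agent.S18383
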