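import Groth.Statements.S18384
import Mathlib

set_option autoImplicit false
universe u
open CategoryTheory CategoryTheory.Limits AlgebraicGeometry
open Coherent

namespace Groth.Agent.S18384

open TopologicalSpace Opposite

/-- Ideal sections have vanishing germs at the points over `t`. -/
lemma germ_eq_zero {X S : Scheme.{u}} [IsLocallyNoetherian X] (p : X ⟶ S) (t : S)
    (I : X.IdealSheafData)
    (h : ∀ n : ℕ, ∃ g : pullback p (Spec.map (CommRingCat.ofHom (Ideal.Quotient.mk
        (IsLocalRing.maximalIdeal ↑(S.presheaf.stalk t) ^ (n + 1)))) ≫ S.fromSpecStalk t) ⟶ I.subscheme,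
        g ≫ I.subschemeι = pullback.fst p _)
    (x : X) (hx : p x = t) (W : X.affineOpens) (hxW : x ∈ W.1) (s : Γ(X, W.1)) (hs : s ∈ I.ideal W) :
    X.presheaf.germ W.1 x hxW s = 0 := by
  subst hx
  let O := X.presheaf.stalk x
  have hmem : ∀ n : ℕ, X.presheaf.germ W.1 x hxW s ∈ IsLocalRing.maximalIdeal O ^ (n + 1) := by
    intro n
    let mx : Ideal O := IsLocalRing.maximalIdeal O ^ (n + 1)
    let mt : Ideal (S.presheaf.stalk (p x)) := IsLocalRing.maximalIdeal (S.presheaf.stalk (p x)) ^ (n + 1)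
    have hle : mt ≤ mx.comap (p.stalkMap x).hom := by
      rw [← Ideal.map_le_iff_le_comap, Ideal.map_pow]
      exact Ideal.pow_right_mono (Ideal.map_le_iff_le_comap.2
        (IsLocalRing.maximalIdeal_comap (p.stalkMap x).hom).ge) _
    let q : Spec (CommRingCat.of (O ⧸ mx)) ⟶ X :=
      Spec.map (CommRingCat.ofHom (Ideal.Quotient.mk mx)) ≫ X.fromSpecStalk x
    let r : Spec (CommRingCat.of (O ⧸ mx)) ⟶ Spec (CommRingCat.of (S.presheaf.stalk (p x) ⧸ mt)) :=
      Spec.map (CommRingCat.ofHom (Ideal.quotientMap mx (p.stalkMap x).hom hle))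
    have w : q ≫ p = r ≫ Spec.map (CommRingCat.ofHom (Ideal.Quotient.mk mt)) ≫
        S.fromSpecStalk (p x) := by
      simp only [q, r, Category.assoc, ← Scheme.SpecMap_stalkMap_fromSpecStalk, ← Spec.map_comp_assoc]
      congr 1
    obtain ⟨g, hg⟩ := h n
    have hker : I ≤ q.ker := by
      have e : (pullback.lift q r w ≫ g) ≫ I.subschemeι = q := by
        rw [Category.assoc, hg, pullback.lift_fst]
      calc I = I.subschemeι.ker := I.ker_subschemeι.symm
        _ ≤ ((pullback.lift q r w ≫ g) ≫ I.subschemeι).ker := Scheme.Hom.le_ker_comp _ _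
        _ = q.ker := by rw [e]
    have htop : (⊤ : (Spec (CommRingCat.of (O ⧸ mx))).Opens) ≤
        Spec.map (CommRingCat.ofHom (Ideal.Quotient.mk mx)) ⁻¹ᵁ (X.fromSpecStalk x ⁻¹ᵁ W.1) := by
      intro z _
      refine (show X.fromSpecStalk x _ ∈ W.1 from ?_)
      have : X.fromSpecStalk x (Spec.map (CommRingCat.ofHom (Ideal.Quotient.mk mx)) z) ⤳ x := by
        rw [← Set.mem_ofPred (p := fun y => y ⤳ x) , ← Scheme.range_fromSpecStalk]
        exact ⟨_, rfl⟩
      exact this.mem_open W.1.2 hxW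
    have e : q.appLE W.1 ⊤ htop = X.presheaf.germ W.1 x hxW ≫
        CommRingCat.ofHom (Ideal.Quotient.mk mx) ≫
          (Scheme.ΓSpecIso (CommRingCat.of (O ⧸ mx))).inv := by
      erw [Scheme.ΓSpecIso_inv_naturality]
      refine (Scheme.Hom.comp_appLE (Spec.map (CommRingCat.ofHom (Ideal.Quotient.mk mx)))
        (X.fromSpecStalk x) W.1 ⊤ htop).trans ?_
      rw [Scheme.fromSpecStalk_app hxW, Category.assoc, Category.assoc,
        Scheme.Hom.map_appLE]
      congr 2
    have h2 := congrArg (fun φ => φ.hom s) e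
    simp only [Scheme.Hom.appLE, CommRingCat.hom_comp, RingHom.comp_apply] at h2
    have h0' : q.app W.1 s = 0 := Scheme.Hom.ideal_ker_le q W (hker W hs)
    rw [h0', map_zero] at h2
    exact Ideal.Quotient.eq_zero_iff_mem.1 ((map_eq_zero_iff _
      (ConcreteCategory.bijective_of_isIso
        (Scheme.ΓSpecIso (CommRingCat.of (O ⧸ mx))).inv).1).1 h2.symm)
  have hbot := Ideal.iInf_pow_eq_bot_of_isLocalRing (IsLocalRing.maximalIdeal O)
    (IsLocalRing.maximalIdeal.isMaximal O).ne_top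
  rw [← Ideal.mem_bot, ← hbot, Ideal.mem_iInf]
  intro n
  cases n with
  | zero => simp
  | succ n => exact hmem n

/-- Let p : X → S be a morphism of locally Noetherian schemes, t a point of S, m the maximal ideal of
the local ring O_{S,t}, and Z the closed subscheme of X defined by a quasi-coherent ideal I. Suppose
that for every n ≥ 1 the projection X ×_S Spec(O_{S,t}/m^n) → X factors through Z. Then there is an
open subscheme U of X containing every point of the fibre p⁻¹(t) such that the inclusion U → X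
factors through Z. -/
theorem result {X S : Scheme.{u}}
    [IsLocallyNoetherian X] [IsLocallyNoetherian S] (p : X ⟶ S) (t : S) (I : X.IdealSheafData)
    (h : ∀ n : ℕ, ∃ g : pullback p (Spec.map (CommRingCat.ofHom (Ideal.Quotient.mk
        (IsLocalRing.maximalIdeal ↑(S.presheaf.stalk t) ^ (n + 1)))) ≫ S.fromSpecStalk t) ⟶ I.subscheme,
        g ≫ I.subschemeι = pullback.fst p _) :
    ∃ U : X.Opens, (∀ x : X, p.base x = t → x ∈ U) ∧
      ∃ g : (U : Scheme.{u}) ⟶ I.subscheme, g ≫ I.subschemeι = U.ι := by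
  let U : X.Opens := ⨆ (W : X.affineOpens) (_ : I.ideal W = ⊥), W.1
  refine ⟨U, fun x hx => ?_, ?_⟩
  · obtain ⟨W, hW, hxW, -⟩ := exists_isAffineOpen_mem_and_subset (Opens.mem_top x)
    haveI : IsNoetherianRing Γ(X, W) := IsLocallyNoetherian.component_noetherian ⟨W, hW⟩
    obtain ⟨gs, hgs⟩ := (IsNoetherian.noetherian (I.ideal ⟨W, hW⟩) : (I.ideal ⟨W, hW⟩).FG)
    have hs : ∀ s : {s // s ∈ gs}, ∃ (V : X.Opens) (_ : x ∈ V) (hle : V ≤ W),
        X.presheaf.map (homOfLE hle).op s.1 = 0 := by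
      intro s
      have hmem : s.1 ∈ I.ideal ⟨W, hW⟩ := by
        rw [← hgs]
        exact Ideal.subset_span s.2
      have h0 := germ_eq_zero p t I h x hx ⟨W, hW⟩ hxW s.1 hmem
      obtain ⟨V, hxV, i, j, hij⟩ := X.presheaf.germ_eq x hxW hxW s.1 0 (by rw [h0, map_zero])
      exact ⟨V, hxV, leOfHom i, by rw [show homOfLE (leOfHom i) = i from rfl, hij, map_zero]⟩
    choose V hxV hle hV using hs
    have hopen : IsOpen ((W : Set X) ∩ ⋂ s, (V s : Set X)) :=
      W.2.inter (isOpen_iInter_of_finite fun s => (V s).2)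
    obtain ⟨W', hW', hxW', hsub⟩ := exists_isAffineOpen_mem_and_subset
      (U := ⟨_, hopen⟩) (show x ∈ (W : Set X) ∩ ⋂ s, (V s : Set X) from ⟨hxW, Set.mem_iInter.2 hxV⟩)
    have hle' : W' ≤ W := fun y hy => (hsub hy).1
    have hbot : I.ideal ⟨W', hW'⟩ = ⊥ := by
      rw [← I.map_ideal (U := ⟨W', hW'⟩) (V := ⟨W, hW⟩) hle', Ideal.map_eq_bot_iff_le_ker, ← hgs,
        Ideal.span_le]
      intro s hs
      have hle'' : W' ≤ V ⟨s, hs⟩ := fun y hy => Set.mem_iInter.1 (hsub hy).2 ⟨s, hs⟩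
      change X.presheaf.map (homOfLE hle').op s = 0
      rw [show (homOfLE hle').op = (homOfLE (hle ⟨s, hs⟩)).op ≫ (homOfLE hle'').op from rfl,
        X.presheaf.map_comp, CommRingCat.comp_apply, hV, map_zero]
    exact Opens.mem_iSup.2 ⟨⟨W', hW'⟩, Opens.mem_iSup.2 ⟨hbot, hxW'⟩⟩
  · have hker : I.subschemeι.ker ≤ U.ι.ker := by
      rw [I.ker_subschemeι]
      refine Scheme.IdealSheafData.le_ofIdeals_iff.2 fun V s hs => ?_
      change U.ι.app V.1 s = 0
      refine TopCat.Presheaf.section_ext (U : Scheme.{u}).sheaf _ _ _ fun y hy => ?_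
      obtain ⟨W, hW0, hyW⟩ : ∃ W : X.affineOpens, I.ideal W = ⊥ ∧ U.ι y ∈ W.1 := by
        obtain ⟨W, hW⟩ := Opens.mem_iSup.1 y.2
        obtain ⟨h1, h2⟩ := Opens.mem_iSup.1 hW
        exact ⟨W, h1, h2⟩
      obtain ⟨W'', hW'', hyW'', hsub⟩ := exists_isAffineOpen_mem_and_subset
        (U := V.1 ⊓ W.1) (⟨hy, hyW⟩ : U.ι y ∈ V.1 ⊓ W.1)
      have h1 : W'' ≤ V.1 := fun z hz => (hsub hz).1
      have h2 : W'' ≤ W.1 := fun z hz => (hsub hz).2
      have hb : I.ideal ⟨W'', hW''⟩ = ⊥ := by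
        rw [← I.map_ideal (U := ⟨W'', hW''⟩) (V := W) h2, hW0, Ideal.map_bot]
      have hz : X.presheaf.map (homOfLE h1).op s = 0 := by
        have := I.ideal_le_comap_ideal (U := ⟨W'', hW''⟩) (V := V) h1 hs
        rw [Ideal.mem_comap, hb, Ideal.mem_bot] at this
        exact this
      have hg : X.presheaf.germ V.1 (U.ι y) hy s = 0 := by
        rw [← TopCat.Presheaf.germ_res_apply X.presheaf (homOfLE h1) _ hyW'' s, hz, map_zero]
      erw [map_zero, ← Scheme.Hom.germ_stalkMap_apply, hg, map_zero]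
      rfl
    exact ⟨IsClosedImmersion.lift I.subschemeι U.ι hker, IsClosedImmersion.lift_fac _ _ _⟩

end Groth.Agent.S18384
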