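import Groth.Statements.S18386
import Mathlib.RingTheory.Ideal.IdempotentFG
import Mathlib.AlgebraicGeometry.Morphisms.QuasiCompact
import Mathlib.AlgebraicGeometry.Noetherian

set_option autoImplicit false
universe u
open LVCorr

namespace Groth.Agent.S18386

open AlgebraicGeometry in
/-- Let X be a connected Noetherian scheme and I a quasi-coherent sheaf of ideals on X, different from
the structure sheaf, such that I^k = I^(k+1) for some natural number k. Then I^k = 0. -/
theorem result (X : Scheme.{u}) [AlgebraicGeometry.IsNoetherian X]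
    [ConnectedSpace X] (I : X.IdealSheafData) (hI : I ≠ ⊤) (k : ℕ)
    (h : I ^ k = I ^ (k + 1)) : I ^ k = ⊥ := by
  rcases Nat.eq_zero_or_pos k with rfl | hk
  · refine absurd (Scheme.IdealSheafData.ext ?_) hI
    have h1 := congrArg Scheme.IdealSheafData.ideal h
    simpa using h1.symm
  have key : ∀ U : X.affineOpens, ∃ e : Γ(X, U), IsIdempotentElem e ∧ (I ^ k).ideal U = Ideal.span {e} := by
    intro U
    haveI := IsLocallyNoetherian.component_noetherian (X := X) U
    have h1 : I.ideal U ^ k = I.ideal U ^ (k + 1) := congrFun (congrArg Scheme.IdealSheafData.ideal h) U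
    have h2 : ∀ j, I.ideal U ^ (k + j) = I.ideal U ^ k := by
      intro j
      induction j with
      | zero => rfl
      | succ j ih => rw [← add_assoc, pow_succ, ih, ← pow_succ, ← h1]
    obtain ⟨e, he, he'⟩ := (Ideal.isIdempotentElem_iff_of_fg ((I ^ k).ideal U) (IsNoetherian.noetherian _)).mp (by
      show I.ideal U ^ k * I.ideal U ^ k = I.ideal U ^ k
      rw [← pow_add, h2])
    exact ⟨e, he, he'⟩
  have hsupp : ∀ (U : X.affineOpens) (e : Γ(X, U)), (I ^ k).ideal U = Ideal.span {e} →
      ((I ^ k).support : Set X) ∩ U = (↑(X.basicOpen e) : Set X)ᶜ ∩ U := by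
    intro U e he
    rw [Scheme.IdealSheafData.coe_support_inter, he, Scheme.zeroLocus_span, Scheme.zeroLocus_singleton]
  have hclopen : IsClopen ((I ^ k).support : Set X) := by
    refine ⟨(I ^ k).support.isClosed, isOpen_iff_forall_mem_open.mpr fun x hx => ?_⟩
    obtain ⟨_, ⟨U, hU, rfl⟩, hxU, -⟩ := X.isBasis_affineOpens.exists_subset_of_mem_open (Set.mem_univ x) isOpen_univ
    obtain ⟨e, he, hIe⟩ := key ⟨U, hU⟩
    have hs := hsupp ⟨U, hU⟩ e hIe
    refine ⟨X.basicOpen (1 - e), fun y hy => ?_, (X.basicOpen (1 - e)).isOpen, ?_⟩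
    · have hyU : y ∈ U := X.basicOpen_le _ hy
      have hye : y ∉ X.basicOpen e := fun hye => by
        have h2 : y ∈ X.basicOpen (e * (1 - e)) := by rw [Scheme.basicOpen_mul]; exact ⟨hye, hy⟩
        rw [he.mul_one_sub_self, Scheme.basicOpen_zero] at h2
        exact h2
      have h3 : y ∈ ((I ^ k).support : Set X) ∩ U := hs ▸ ⟨hye, hyU⟩
      exact h3.1
    · have h3 : x ∈ (↑(X.basicOpen e) : Set X)ᶜ ∩ U := hs ▸ ⟨hx, hxU⟩
      rw [SetLike.mem_coe, Scheme.mem_basicOpen _ _ _ hxU, map_sub, map_one]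
      exact IsLocalRing.isUnit_one_sub_self_of_mem_nonunits _ fun hu => h3.1 ((Scheme.mem_basicOpen _ _ _ hxU).mpr hu)
  rcases isClopen_iff.mp hclopen with hz | hz
  · exfalso
    apply hI
    rw [Scheme.IdealSheafData.support_pow _ _ (by omega)] at hz
    exact (Scheme.IdealSheafData.support_eq_bot_iff (I := I)).mp (SetLike.coe_injective hz)
  · refine Scheme.IdealSheafData.ext (funext fun U => ?_)
    obtain ⟨e, he, hIe⟩ := key U
    have hs := hsupp U e hIe
    rw [hz, Set.univ_inter] at hs
    have hb : X.basicOpen e = ⊥ := by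
      refine eq_bot_iff.mpr fun y hy => ?_
      have h3 : y ∈ (↑(X.basicOpen e) : Set X)ᶜ ∩ (U : X.Opens) := hs ▸ X.basicOpen_le e hy
      exact (h3.1 hy).elim
    have h0 : e = 0 := by
      obtain ⟨n, hn⟩ := (Scheme.isNilpotent_iff_basicOpen_eq_bot_of_isCompact U.2.isCompact e).mpr hb
      rw [← he.pow_succ_eq n, pow_succ, hn, zero_mul]
    rw [hIe, h0]
    simp

end Groth.Agent.S18386
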