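import Groth.Statements.S18387
import Mathlib.LinearAlgebra.FiniteDimensional.Lemmas
import Mathlib.RingTheory.Artinian.Ring

set_option autoImplicit false
universe u
open LVCorr

namespace Groth.Agent.S18387

/-- In the affine form which its proof establishes. Let A be a commutative algebra over a field F which
is finite-dimensional of dimension d over F. Then the d-th power of the nilradical of A vanishes.
(Applied to the fibre algebra A = B/mB of a quasi-finite morphism over a closed point with maximal
ideal m, this says that the d-th power of the radical of mB lies in mB, i.e. the ramification of the
morphism at that point is at most the degree d of the fibre.) -/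
theorem result (F A : Type u) [Field F] [CommRing A] [Algebra F A]
    [FiniteDimensional F A] : nilradical A ^ Module.finrank F A = ⊥ := by
  haveI : IsArtinianRing A := IsArtinianRing.of_finite F A
  obtain ⟨N, hN⟩ := IsArtinianRing.isNilpotent_nilradical (R := A)
  have key : ∀ i : ℕ, nilradical A ^ i = ⊥ ∨
      Module.finrank F ((nilradical A ^ i).restrictScalars F) + i ≤ Module.finrank F A := by
    intro i
    induction i with
    | zero => right; simp only [add_zero]; exact Submodule.finrank_le _
    | succ i ih =>
      by_cases he : nilradical A ^ (i + 1) = nilradical A ^ i
      · left
        have : ∀ j, nilradical A ^ (i + j) = nilradical A ^ i := by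
          intro j
          induction j with
          | zero => rfl
          | succ j ihj => rw [← add_assoc, pow_succ, ihj, ← pow_succ, he]
        rw [he, ← this N, pow_add, hN]
        simp
      · rcases ih with ih | ih
        · left; rw [pow_succ, ih, Ideal.bot_mul]
        · right
          have hlt : (nilradical A ^ (i + 1)).restrictScalars F < (nilradical A ^ i).restrictScalars F :=
            lt_of_le_of_ne (fun x hx => Ideal.pow_le_pow_right (Nat.le_succ i) hx)
              fun h => he (Submodule.restrictScalars_injective F _ _ h)
          have := Submodule.finrank_lt_finrank_of_lt hlt
          omega
  rcases key (Module.finrank F A) with h | h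
  · exact h
  · have h0 : Module.finrank F ((nilradical A ^ Module.finrank F A).restrictScalars F) = 0 := by omega
    rw [Submodule.finrank_eq_zero] at h0
    exact (Submodule.restrictScalars_eq_bot_iff F _ _).mp h0

end Groth.Agent.S18387
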