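import Groth.Statements.S18389
import Mathlib.AlgebraicGeometry.Morphisms.Proper

set_option autoImplicit false
universe u
open LVCorr

namespace Groth.Agent.S18389

open AlgebraicGeometry CategoryTheory in
/-- Let j : C → C̄ be an open immersion with dense image and jX : X → X̄ an open immersion, and let c₁ :
C → X and c̄₁ : C̄ → X̄ satisfy j followed by c̄₁ equals c₁ followed by jX, with c̄₁ separated. Let
U be an open subset of X such that c₁⁻¹(U) is dense in C and the restriction c₁⁻¹(U) → U of c₁ is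
proper. Then c̄₁⁻¹(jX(U)) = j(c₁⁻¹(U)) as open subsets of C̄. (In the source all schemes are
separated of finite type over a field, C̄ and X̄ are compactifications of a correspondence and of X,
so that c̄₁ is automatically separated.) -/
theorem result {C Cb X Xb : Scheme.{u}}
    (j : C ⟶ Cb) [IsOpenImmersion j] (hj : DenseRange j.base)
    (jX : X ⟶ Xb) [IsOpenImmersion jX] (c₁ : C ⟶ X) (cb₁ : Cb ⟶ Xb) [IsSeparated cb₁]
    (h : j ≫ cb₁ = c₁ ≫ jX) (U : X.Opens) (hU : Dense ((c₁ ⁻¹ᵁ U : C.Opens) : Set C))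
    [IsProper (c₁ ∣_ U)] :
    cb₁ ⁻¹ᵁ (jX ''ᵁ U) = j ''ᵁ (c₁ ⁻¹ᵁ U) := by
  set U' : Xb.Opens := jX ''ᵁ U with hU'
  set W : Cb.Opens := cb₁ ⁻¹ᵁ U' with hW
  have hle : ∀ y, y ∈ c₁ ⁻¹ᵁ U → j.base y ∈ W := fun y hy => by
    show cb₁.base (j.base y) ∈ U'
    rw [← Scheme.Hom.comp_apply, h, Scheme.Hom.comp_apply]
    exact ⟨_, hy, rfl⟩
  let φ : (c₁ ⁻¹ᵁ U).toScheme ⟶ W.toScheme := IsOpenImmersion.lift W.ι ((c₁ ⁻¹ᵁ U).ι ≫ j) (by
    rintro _ ⟨y, rfl⟩
    rw [Scheme.Opens.range_ι, Scheme.Hom.comp_apply]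
    exact hle _ y.2)
  have hφ : φ ≫ W.ι = (c₁ ⁻¹ᵁ U).ι ≫ j := IsOpenImmersion.lift_fac _ _ _
  have hcomp : φ ≫ (cb₁ ∣_ U') = (c₁ ∣_ U) ≫ (jX.isoImage U).hom := by
    rw [← cancel_mono U'.ι, Category.assoc, morphismRestrict_ι, ← Category.assoc, hφ, Category.assoc, Category.assoc, h,
      Scheme.Hom.isoImage_hom_ι, morphismRestrict_ι_assoc]
  haveI : IsProper (φ ≫ (cb₁ ∣_ U')) := by rw [hcomp]; infer_instance
  haveI : IsSeparated (cb₁ ∣_ U') := IsZariskiLocalAtTarget.restrict (P := @IsSeparated) ‹IsSeparated cb₁› _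
  haveI : IsProper φ := IsProper.of_comp φ (cb₁ ∣_ U')
  have hdense : Dense ((j.base) '' ((c₁ ⁻¹ᵁ U : C.Opens) : Set C)) := hj.dense_image (Scheme.Hom.continuous j) hU
  apply le_antisymm
  · intro w hw
    obtain ⟨K, hK, hKeq⟩ : ∃ K : Set Cb, IsClosed K ∧ Subtype.val ⁻¹' K = Set.range φ.base :=
      isClosed_induced_iff.mp (φ.isClosedMap.isClosed_range)
    have hsub : (W : Set Cb) ∩ (j.base '' ((c₁ ⁻¹ᵁ U : C.Opens) : Set C)) ⊆ K := by
      rintro _ ⟨hyW, y, hy, rfl⟩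
      have hmem : φ.base ⟨y, hy⟩ ∈ Set.range φ.base := ⟨_, rfl⟩
      rw [← hKeq] at hmem
      have e : (W.ι) (φ.base ⟨y, hy⟩) = j.base y :=
        (Scheme.Hom.comp_apply φ W.ι ⟨y, hy⟩).symm.trans (by rw [hφ]; rfl)
      exact e ▸ hmem
    have hwK : w ∈ K := hK.closure_subset_iff.mpr hsub (hdense.open_subset_closure_inter W.isOpen hw)
    have hwr : (⟨w, hw⟩ : W) ∈ Set.range φ.base := hKeq ▸ hwK
    obtain ⟨y, hy⟩ := hwr
    refine ⟨y.1, y.2, ?_⟩
    have e : (W.ι) (φ.base y) = j.base y.1 :=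
      (Scheme.Hom.comp_apply φ W.ι y).symm.trans (by rw [hφ]; rfl)
    exact e.symm.trans (congrArg W.ι hy)
  · rintro _ ⟨y, hy, rfl⟩
    exact hle y hy

end Groth.Agent.S18389
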