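import Groth.Statements.S18390
import Mathlib.RingTheory.Ideal.Operations

set_option autoImplicit false
universe u
open LVCorr

namespace Groth.Agent.S18390

/-- In the affine, ring-theoretic form which its proof establishes. Let φ : A' → A be a ring
homomorphism, I' a finitely generated ideal of A' and I an ideal of A containing the image of I'.
Then some power I'^k is mapped into I^(k+1) if and only if for every n ≥ 1 and every a ∈ I'^n there
is a k with φ(a)^k ∈ I^(nk+1). (Geometrically, for a morphism f : (X, Z) → (X', Z') of pairs with Z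
a closed subscheme of the preimage of Z', the normal cone of Z in X is the spectrum of the
associated graded algebra of I, and the second condition says that the induced map of normal cones
sends the normal cone of Z set-theoretically into the zero section Z'; the source states the
equivalence in that language.) -/
theorem result (A' A : Type u) [CommRing A'] [CommRing A]
    (φ : A' →+* A) (I' : Ideal A') (hI' : I'.FG) (I : Ideal A) (hle : I'.map φ ≤ I) :
    (∃ k : ℕ, (I' ^ k).map φ ≤ I ^ (k + 1)) ↔
      ∀ n : ℕ, 1 ≤ n → ∀ a ∈ I' ^ n, ∃ k : ℕ, 1 ≤ k ∧ φ a ^ k ∈ I ^ (n * k + 1) := by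
  classical
  constructor
  · rintro ⟨k, hk⟩ n hn a ha
    have hk1 : ((I' ^ (k + 1)).map φ) ≤ I ^ (k + 1 + 1) := by
      rw [pow_succ, Ideal.map_mul]
      exact (Ideal.mul_mono hk hle).trans (le_of_eq (pow_succ _ _).symm)
    refine ⟨k + 1, Nat.succ_pos _, ?_⟩
    have h1 : φ a ^ (k + 1) ∈ ((I' ^ (k + 1)) ^ n).map φ := by
      rw [← map_pow, ← pow_mul, mul_comm, pow_mul]
      exact Ideal.mem_map_of_mem φ (Ideal.pow_mem_pow ha _)
    rw [Ideal.map_pow] at h1
    have h2 := Ideal.pow_right_mono hk1 n h1
    rw [← pow_mul] at h2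
    refine Ideal.pow_le_pow_right ?_ h2
    calc n * (k + 1) + 1 ≤ n * (k + 1) + n := by omega
      _ = (k + 1 + 1) * n := by ring
  · intro h
    obtain ⟨s, hs⟩ := hI'
    suffices ∀ t : Finset A', (∀ a ∈ t, a ∈ I') → ∃ k : ℕ, ((Ideal.span (t : Set A')) ^ k).map φ ≤ I ^ (k + 1) by
      obtain ⟨k, hk⟩ := this s fun a ha => hs ▸ Ideal.subset_span ha
      exact ⟨k, by rwa [show Ideal.span (s : Set A') = I' from hs] at hk⟩
    intro t
    induction t using Finset.induction with
    | empty =>
      intro _
      exact ⟨1, by simp⟩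
    | insert a t _ ih =>
      intro hat
      obtain ⟨k2, hk2⟩ := ih fun b hb => hat b (Finset.mem_insert_of_mem hb)
      obtain ⟨k1, hk1pos, hk1⟩ := h 1 le_rfl a (by rw [pow_one]; exact hat a (Finset.mem_insert_self _ _))
      rw [one_mul] at hk1
      set J1 := (Ideal.span {a}).map φ
      set J2 := (Ideal.span (t : Set A')).map φ
      have hJ1 : J1 ≤ I := (Ideal.map_mono (Ideal.span_le.mpr (by simpa using hat a (Finset.mem_insert_self _ _)))).trans hle
      have hJ2 : J2 ≤ I := (Ideal.map_mono (Ideal.span_le.mpr (fun b hb => hat b (Finset.mem_insert_of_mem hb)))).trans hle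
      have hA : J1 ^ k1 ≤ I ^ (k1 + 1) := by
        simp only [J1, Ideal.map_span, Set.image_singleton, Ideal.span_singleton_pow, Ideal.span_le, Set.singleton_subset_iff]
        exact hk1
      have hB : J2 ^ k2 ≤ I ^ (k2 + 1) := by rw [← Ideal.map_pow]; exact hk2
      refine ⟨k1 + k2, ?_⟩
      rw [Ideal.map_pow, Finset.coe_insert, Ideal.span_insert, Ideal.map_sup]
      show (J1 + J2) ^ (k1 + k2) ≤ _
      rw [add_pow, Ideal.sum_eq_sup]
      refine Finset.sup_le fun i hi => ?_
      refine (Ideal.mul_le_left).trans ?_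
      rcases le_total k1 i with h1 | h1
      · have hi' : i ≤ k1 + k2 := Nat.lt_succ_iff.mp (Finset.mem_range.mp hi)
        calc J1 ^ i * J2 ^ (k1 + k2 - i) = J1 ^ k1 * J1 ^ (i - k1) * J2 ^ (k1 + k2 - i) := by
              rw [← pow_add, Nat.add_sub_cancel' h1]
          _ ≤ I ^ (k1 + 1) * I ^ (i - k1) * I ^ (k1 + k2 - i) :=
              Ideal.mul_mono (Ideal.mul_mono hA (Ideal.pow_right_mono hJ1 _)) (Ideal.pow_right_mono hJ2 _)
          _ = I ^ (k1 + k2 + 1) := by rw [← pow_add, ← pow_add]; congr 1; omega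
      · calc J1 ^ i * J2 ^ (k1 + k2 - i) = J1 ^ i * (J2 ^ k2 * J2 ^ (k1 - i)) := by
              rw [← pow_add, show k2 + (k1 - i) = k1 + k2 - i by omega]
          _ ≤ I ^ i * (I ^ (k2 + 1) * I ^ (k1 - i)) :=
              Ideal.mul_mono (Ideal.pow_right_mono hJ1 _) (Ideal.mul_mono hB (Ideal.pow_right_mono hJ2 _))
          _ = I ^ (k1 + k2 + 1) := by rw [← pow_add, ← pow_add]; congr 1; omega

end Groth.Agent.S18390
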