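import Groth.Statements.S18391

import Mathlib.RingTheory.Ideal.KrullsHeightTheorem
import Mathlib.RingTheory.DiscreteValuationRing.TFAE
import Mathlib.RingTheory.Localization.Ideal
import Mathlib.RingTheory.Localization.AtPrime.Basic
import Mathlib.RingTheory.Localization.Submodule

set_option autoImplicit false
universe u
open LVCorr

namespace Groth.Agent.S18391

/-- Let A be a normal (integrally closed) Noetherian domain and z an element of A such that the radical
of the principal ideal (z) is prime. Then there exist elements w, t of A and a natural number r,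
with w not in the radical of (z), such that in the localization A[1/w] the ideal generated by z
equals the ideal generated by t^r and the ideal generated by t is prime. (The condition on w is the
one the printed proof produces and the later use of the lemma needs.) -/
theorem result (A : Type u) [CommRing A] [IsDomain A]
    [IsNoetherianRing A] [IsIntegrallyClosed A] (z : A) (hz : (Ideal.span {z}).radical.IsPrime) :
    ∃ (w t : A) (r : ℕ), w ∉ (Ideal.span {z}).radical ∧
      Ideal.span {algebraMap A (Localization.Away w) z} =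
        Ideal.span {algebraMap A (Localization.Away w) t ^ r} ∧
      (Ideal.span {algebraMap A (Localization.Away w) t}).IsPrime := by
  classical
  set P := (Ideal.span {z}).radical with hP
  have hPp : P.IsPrime := hz
  have hone : (1 : A) ∉ P := fun h => hPp.ne_top ((Ideal.eq_top_iff_one _).2 h)
  by_cases hz0 : z = 0
  · refine ⟨1, 0, 1, hone, by simp [hz0], ?_⟩
    have : IsDomain (Localization.Away (1 : A)) :=
      IsLocalization.isDomain_localization (powers_le_nonZeroDivisors_of_noZeroDivisors one_ne_zero)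
    rw [map_zero, Ideal.span_singleton_eq_bot.2 rfl]
    exact Ideal.isPrime_bot
  have hmin : P ∈ (Ideal.span {z}).minimalPrimes :=
    ⟨⟨hPp, Ideal.le_radical⟩, fun Q hQ _ => hQ.1.isRadical.radical_le_iff.2 hQ.2⟩
  have hht : P.height ≤ 1 := Ideal.height_le_one_of_isPrincipal_of_mem_minimalPrimes _ P hmin
  have : P.FiniteHeight := ⟨Or.inr (hht.trans_lt (WithTop.coe_lt_top 1)).ne⟩
  let R := Localization.AtPrime P
  have : IsNoetherianRing R := IsLocalization.isNoetherianRing P.primeCompl R ‹_›
  have : IsIntegrallyClosed R :=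
    isIntegrallyClosed_of_isLocalization _ P.primeCompl P.primeCompl_le_nonZeroDivisors
  have hinj : Function.Injective (algebraMap A R) :=
    IsLocalization.injective R P.primeCompl_le_nonZeroDivisors
  have huniq : ∀ Q : Ideal R, Q ≠ ⊥ → Q.IsPrime → Q = IsLocalRing.maximalIdeal R := by
    intro Q hQ0 hQ
    set q := Q.comap (algebraMap A R) with hq
    have hQmap : q.map (algebraMap A R) = Q := IsLocalization.map_under P.primeCompl R Q
    have hq0 : q ≠ ⊥ := fun h => hQ0 (by rw [← hQmap, h, Ideal.map_bot])
    have hqP : q ≤ P := by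
      refine (Ideal.comap_mono (IsLocalRing.le_maximalIdeal hQ.ne_top)).trans ?_
      exact (IsLocalization.AtPrime.under_maximalIdeal R P).le
    have hqeq : q = P := by
      by_contra hne
      have h1 := Ideal.height_strict_mono_of_isPrime_of_isPrime (lt_of_le_of_ne hqP hne)
      have : q.FiniteHeight :=
        Ideal.finiteHeight_iff _ |>.2 (Or.inr (lt_of_le_of_lt (Ideal.height_mono hqP) (hht.trans_lt (WithTop.coe_lt_top 1))).ne)
      have h2 := Ideal.height_strict_mono_of_isPrime_of_isPrime (bot_lt_iff_ne_bot.2 hq0)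
      have h3 : q.height < 1 := h1.trans_le hht
      rw [Order.lt_one_iff] at h3
      rw [h3] at h2
      exact not_lt_bot h2
    rw [← hQmap, hqeq, ← IsLocalization.AtPrime.map_eq_maximalIdeal P R]
  have hpr : (IsLocalRing.maximalIdeal R).IsPrincipal :=
    (((tfae_of_isNoetherianRing_of_isLocalRing_of_isDomain R).out 3 4 :
      (IsIntegrallyClosed R ∧ ∀ Q : Ideal R, Q ≠ ⊥ → Q.IsPrime → Q = IsLocalRing.maximalIdeal R) ↔ (IsLocalRing.maximalIdeal R).IsPrincipal)).1 ⟨inferInstance, huniq⟩
  obtain ⟨π, hπ⟩ := hpr.principal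
  obtain ⟨⟨t, d⟩, htd⟩ := IsLocalization.surj P.primeCompl π
  have hπt : IsLocalRing.maximalIdeal R = Ideal.span {algebraMap A R t} := by
    rw [← htd, Ideal.span_singleton_mul_right_unit (IsLocalization.map_units R d), hπ]
  have hspan : ∀ g : A, g ∈ P → ∃ s ∉ P, ∃ a : A, g * s = t * a := by
    intro g hg
    have : algebraMap A R g ∈ IsLocalRing.maximalIdeal R := by
      rw [← IsLocalization.AtPrime.map_eq_maximalIdeal P R]
      exact Ideal.mem_map_of_mem _ hg
    rw [hπt, Ideal.mem_span_singleton'] at this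
    obtain ⟨c, hc⟩ := this
    obtain ⟨⟨a, s⟩, has⟩ := IsLocalization.surj P.primeCompl c
    refine ⟨s, s.2, a, hinj ?_⟩
    rw [map_mul, map_mul, ← hc, ← has]
    ring
  have htP : t ∈ P := by
    have : algebraMap A R t ∈ IsLocalRing.maximalIdeal R := hπt ▸ Ideal.mem_span_singleton_self _
    exact (IsLocalization.AtPrime.to_map_mem_maximal_iff R P t).1 this
  have hzR : Ideal.span {algebraMap A R z} ≠ ⊥ := by
    rw [Ne, Ideal.span_singleton_eq_bot]
    exact fun h => hz0 (hinj (h.trans (map_zero _).symm))
  obtain ⟨r, hr⟩ := (((tfae_of_isNoetherianRing_of_isLocalRing_of_isDomain R).out 3 6 :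
      (IsIntegrallyClosed R ∧ ∀ Q : Ideal R, Q ≠ ⊥ → Q.IsPrime → Q = IsLocalRing.maximalIdeal R) ↔ ∀ I ≠ (⊥ : Ideal R), ∃ n : ℕ, I = IsLocalRing.maximalIdeal R ^ n).1 ⟨inferInstance, huniq⟩) _ hzR
  rw [hπt, Ideal.span_singleton_pow, Ideal.span_singleton_eq_span_singleton] at hr
  obtain ⟨u, hu⟩ := hr
  obtain ⟨⟨a, s⟩, has⟩ := IsLocalization.surj P.primeCompl (u : R)
  have hz' : z * a = t ^ r * s := by
    refine hinj ?_
    rw [map_mul, map_mul, map_pow, ← has, ← hu]
    ring
  have haP : a ∉ P := by
    intro h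
    have : algebraMap A R a ∈ IsLocalRing.maximalIdeal R :=
      (IsLocalization.AtPrime.to_map_mem_maximal_iff R P a).2 h
    rw [← has] at this
    exact this (u.isUnit.mul (IsLocalization.map_units R s))
  obtain ⟨G, hG⟩ := IsNoetherian.noetherian P
  choose sg hsg ag hag using fun g : G => hspan g.1 (hG ▸ Submodule.subset_span g.2)
  set w := a * s * ∏ g : G, sg g with hw
  have hwP : w ∉ P := by
    intro h
    rcases hPp.mem_or_mem h with h | h
    · exact (hPp.mem_or_mem h).elim haP s.2
    · obtain ⟨g, -, hg⟩ := (hPp.prod_mem_iff).1 h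
      exact hsg g hg
  let L := Localization.Away w
  have hwu : IsUnit (algebraMap A L w) := IsLocalization.Away.algebraMap_isUnit w
  have hunit : ∀ x, x ∣ w → IsUnit (algebraMap A L x) := fun x hx =>
    isUnit_of_dvd_unit (map_dvd (algebraMap A L) hx) hwu
  have ha1 : IsUnit (algebraMap A L a) := hunit a ⟨s * ∏ g : G, sg g, by rw [hw, mul_assoc]⟩
  have hs1 : IsUnit (algebraMap A L s) := hunit s ⟨a * ∏ g : G, sg g, by rw [hw]; ring⟩
  refine ⟨w, t, r, hwP, ?_, ?_⟩
  · rw [← Ideal.span_singleton_mul_right_unit ha1, ← map_mul, hz', map_mul, map_pow,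
      Ideal.span_singleton_mul_right_unit hs1]
  · have : Ideal.span {algebraMap A L t} = P.map (algebraMap A L) := by
      refine le_antisymm (Ideal.span_le.2 (Set.singleton_subset_iff.2 (Ideal.mem_map_of_mem _ htP))) ?_
      rw [← hG, Ideal.map_span, Ideal.span_le]
      rintro _ ⟨g, hg, rfl⟩
      have hu : IsUnit (algebraMap A L (sg ⟨g, hg⟩)) :=
        hunit _ (Dvd.dvd.mul_left (Finset.dvd_prod_of_mem sg (Finset.mem_univ _)) _)
      refine Ideal.mem_of_dvd _ ?_ (Ideal.mem_span_singleton_self _)
      rw [← hu.dvd_mul_right, ← map_mul, hag ⟨g, hg⟩, map_mul]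
      exact dvd_mul_right _ _
    show (Ideal.span {algebraMap A L t}).IsPrime
    rw [this]
    refine IsLocalization.isPrime_of_isPrime_disjoint (Submonoid.powers w) L P hPp ?_
    rw [Set.disjoint_left]
    rintro _ ⟨n, rfl⟩ h
    exact hwP (hPp.mem_of_pow_mem n h)

end Groth.Agent.S18391
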