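import Groth.Statements.S18392
import Mathlib.RingTheory.Ideal.KrullsHeightTheorem
import Mathlib.RingTheory.Spectrum.Prime.Topology

set_option autoImplicit false
universe u
open LVCorr

namespace Groth.Agent.S18392

/-- Let A be a normal (integrally closed) Noetherian domain and z an element of A such that the radical
of (z) is prime. Then for every non-empty open subset V of Spec A contained in the basic open set
D(z) (that is, every non-empty open subset of Spec A[1/z]) there is an element x of A, not in the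
radical of (z), such that the basic open set D(xz) = Spec A[1/xz] is contained in V. -/
theorem result (A : Type u) [CommRing A]
    [IsDomain A] [IsNoetherianRing A] [IsIntegrallyClosed A] (z : A)
    (hz : (Ideal.span {z}).radical.IsPrime) (V : Set (PrimeSpectrum A)) (hV : IsOpen V)
    (hVz : V ⊆ (PrimeSpectrum.basicOpen z : Set (PrimeSpectrum A))) (hne : V.Nonempty) :
    ∃ x : A, x ∉ (Ideal.span {z}).radical ∧
      ((PrimeSpectrum.basicOpen (x * z) : TopologicalSpace.Opens (PrimeSpectrum A)) :
        Set (PrimeSpectrum A)) ⊆ V := by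
  classical
  obtain ⟨q, hq⟩ := hne
  obtain ⟨_, ⟨a, rfl⟩, hqa, haV⟩ := PrimeSpectrum.isTopologicalBasis_basic_opens.exists_subset_of_mem_open hq hV
  have ha0 : a ≠ 0 := fun h => (show a ∉ q.asIdeal from hqa) (h ▸ Submodule.zero_mem _)
  have hz0 : z ≠ 0 := fun h => (show z ∉ q.asIdeal from hVz hq) (h ▸ Submodule.zero_mem _)
  set P := (Ideal.span {z}).radical with hPdef
  haveI := hz
  have hPmin : P ∈ (Ideal.span {z}).minimalPrimes :=
    ⟨⟨hz, Ideal.le_radical⟩, fun Q hQ _ => hQ.1.radical_le_iff.mpr hQ.2⟩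
  have hP1 : P.height ≤ 1 := Ideal.height_le_one_of_isPrincipal_of_mem_minimalPrimes (Ideal.span {z}) P hPmin
  set s := (Ideal.span {a}).finite_minimalPrimes_of_isNoetherianRing.toFinset.erase P
  have hnle : ¬ s.inf id ≤ P := by
    rw [Ideal.IsPrime.inf_le' hz]
    rintro ⟨Q, hQ, hQP⟩
    rw [Finset.mem_erase, Set.Finite.mem_toFinset] at hQ
    haveI := hQ.2.isPrime
    have hQ0 : (⊥ : Ideal A) < Q := bot_lt_iff_ne_bot.mpr fun h => ha0 (by
      simpa [h] using hQ.2.le (Ideal.mem_span_singleton_self a))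
    have hlt : Q < P := lt_of_le_of_ne hQP hQ.1
    haveI : P.FiniteHeight := ⟨Or.inr (ne_top_of_le_ne_top ENat.one_ne_top hP1)⟩
    haveI : (⊥ : Ideal A).IsPrime := Ideal.isPrime_bot
    haveI : Q.FiniteHeight := ⟨Or.inr (ne_top_of_le_ne_top ENat.one_ne_top
      ((Ideal.height_mono hlt.le).trans hP1))⟩
    have h1 := Ideal.height_strict_mono_of_isPrime_of_isPrime hlt
    have h2 := Ideal.height_strict_mono_of_isPrime_of_isPrime hQ0
    have h3 : Q.height < 1 := h1.trans_le hP1
    rw [ENat.lt_one_iff_eq_zero] at h3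
    rw [h3] at h2
    exact not_lt_zero h2
  obtain ⟨x, hxs, hxP⟩ := SetLike.not_le_iff_exists.mp hnle
  refine ⟨x, hxP, subset_trans (fun r hr => ?_) haV⟩
  show a ∉ r.asIdeal
  intro har
  obtain ⟨Q, hQ, hQr⟩ := Ideal.exists_minimalPrimes_le (show Ideal.span {a} ≤ r.asIdeal by simpa [Ideal.span_le] using har)
  have hr' : x * z ∉ r.asIdeal := hr
  refine hr' (hQr ?_)
  by_cases h : Q = P
  · exact Ideal.mul_mem_left _ _ (h ▸ Ideal.le_radical (Ideal.mem_span_singleton_self z))
  · exact Ideal.mul_mem_right _ _ (Finset.inf_le (f := id)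
      (Finset.mem_erase.mpr ⟨h, (Set.Finite.mem_toFinset _).mpr hQ⟩) hxs)

end Groth.Agent.S18392
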