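import Groth.Statements.S18393
import Mathlib.Topology.NoetherianSpace

set_option autoImplicit false
universe u v
open LVCorr

namespace Groth.Agent.S18393

/-- Stated for the underlying continuous maps. Let c₁, c₂ : C → X be continuous maps with C a Noetherian
topological space, let Z be a closed subset of X and B the closure in C of c₂⁻¹(Z) ∖ c₁⁻¹(Z). Call Z
locally invariant when every point x of Z has an open neighbourhood U such that every y in C with
c₂(y) ∈ Z ∩ U and c₁(y) ∈ U satisfies c₁(y) ∈ Z. Then Z is locally invariant if and only if for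
every irreducible subset T of B the closures of c₁(T) and of c₂(T) in X are disjoint. (The source
states this for a correspondence c = (c₁, c₂) : C → X × X of separated schemes of finite type over
an algebraically closed field and for the irreducible components of B; the condition for all
irreducible subsets of B is the same condition.) -/
theorem result {C : Type u} {X : Type v}
    [TopologicalSpace C] [TopologicalSpace X] [TopologicalSpace.NoetherianSpace C]
    (c₁ c₂ : C → X) (hc₁ : Continuous c₁) (hc₂ : Continuous c₂) (Z : Set X) (hZ : IsClosed Z) :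
    (∀ x ∈ Z, ∃ U : Set X, IsOpen U ∧ x ∈ U ∧
        ∀ y : C, c₂ y ∈ Z → c₂ y ∈ U → c₁ y ∈ U → c₁ y ∈ Z) ↔
      ∀ T : Set C, T ⊆ closure (c₂ ⁻¹' Z \ c₁ ⁻¹' Z) → IsIrreducible T →
        closure (c₁ '' T) ∩ closure (c₂ '' T) = ∅ := by
  classical
  set E := c₂ ⁻¹' Z \ c₁ ⁻¹' Z with hE
  constructor
  · intro h T hTB hT
    rw [Set.eq_empty_iff_forall_notMem]
    rintro x ⟨hx1, hx2⟩
    have hxZ : x ∈ Z := by
      refine closure_minimal ?_ hZ hx2
      rintro _ ⟨y, hy, rfl⟩
      exact closure_minimal (fun y hy => hy.1) (hZ.preimage hc₂) (hTB hy)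
    obtain ⟨U, hU, hxU, hloc⟩ := h x hxZ
    obtain ⟨_, hy1U, y1, hy1, rfl⟩ := mem_closure_iff.mp hx1 U hU hxU
    obtain ⟨_, hy2U, y2, hy2, rfl⟩ := mem_closure_iff.mp hx2 U hU hxU
    obtain ⟨y, hyT, hyW⟩ := hT.2 (c₁ ⁻¹' U) (c₂ ⁻¹' U) (hU.preimage hc₁) (hU.preimage hc₂) ⟨y1, hy1, hy1U⟩ ⟨y2, hy2, hy2U⟩
    obtain ⟨w, hwW, hwE⟩ := mem_closure_iff.mp (hTB hyT) _ ((hU.preimage hc₁).inter (hU.preimage hc₂)) hyW
    exact hwE.2 (hloc w hwE.1 hwW.2 hwW.1)
  · intro h x hx
    obtain ⟨S, hSf, hSc, hSi, hSeq⟩ :=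
      TopologicalSpace.NoetherianSpace.exists_finite_set_isClosed_irreducible (isClosed_closure (s := E))
    let bad : Set C → Set X := fun T => if x ∈ closure (c₁ '' T) then closure (c₂ '' T) else closure (c₁ '' T)
    have hbad : ∀ T ∈ S, x ∉ bad T := fun T hT => by
      simp only [bad]
      split_ifs with hc
      · intro hc2
        have h0 := h T (hSeq ▸ Set.subset_sUnion_of_mem hT) (hSi T hT)
        exact (Set.eq_empty_iff_forall_notMem.mp h0) x ⟨hc, hc2⟩
      · exact hc
    refine ⟨⋂ T ∈ S, (bad T)ᶜ, hSf.isOpen_biInter fun T _ => ?_, Set.mem_iInter₂.mpr hbad, fun y hy2 hy2U hy1U => ?_⟩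
    · simp only [bad]; split_ifs <;> exact isClosed_closure.isOpen_compl
    · by_contra hy1
      have hyB : y ∈ ⋃₀ S := hSeq ▸ subset_closure ⟨hy2, hy1⟩
      obtain ⟨T, hT, hyT⟩ := hyB
      have h1 := Set.mem_iInter₂.mp hy1U T hT
      have h2 := Set.mem_iInter₂.mp hy2U T hT
      simp only [bad, Set.mem_compl_iff] at h1 h2
      split_ifs at h1 h2
      · exact h2 (subset_closure ⟨y, hyT, rfl⟩)
      · exact h1 (subset_closure ⟨y, hyT, rfl⟩)

end Groth.Agent.S18393
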