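import Groth.Statements.S18394
import Groth.Agent.S0384
import Groth.Agent.H22.StrictTransform.Disjoint

set_option autoImplicit false
universe u v
open LVCorr

namespace Groth.Agent.S18394

open AlgebraicGeometry CategoryTheory in
/-- Let X be a scheme separated and of finite type over a field k, and let (C₁ᵢ, C₂ᵢ), i ranging over a
finite set, be pairs of closed subsets of X with C₁ᵢ and C₂ᵢ disjoint for every i. Then X admits a
compactification in which each pair stays disjoint: there are a scheme X̄ proper over k and an open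
immersion j : X → X̄ over k with dense image such that for every i the closures of j(C₁ᵢ) and of
j(C₂ᵢ) in X̄ do not meet. (The source has k algebraically closed.) -/
theorem result {X : Scheme.{u}} (k : Type u) [Field k]
    (pX : X ⟶ Spec (CommRingCat.of k)) [IsSeparated pX] [QuasiCompact pX] [LocallyOfFiniteType pX]
    {ι : Type v} [Finite ι] (C₁ C₂ : ι → Set X) (h₁ : ∀ i, IsClosed (C₁ i)) (h₂ : ∀ i, IsClosed (C₂ i))
    (hd : ∀ i, C₁ i ∩ C₂ i = ∅) :
    ∃ (Xb : Scheme.{u}) (j : X ⟶ Xb) (p : Xb ⟶ Spec (CommRingCat.of k)),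
      IsProper p ∧ IsOpenImmersion j ∧ DenseRange j.base ∧ j ≫ p = pX ∧
      ∀ i, closure (j.base '' C₁ i) ∩ closure (j.base '' C₂ i) = ∅ := by
  haveI : CompactSpace X := QuasiCompact.compactSpace_of_compactSpace pX
  obtain ⟨Y, j₀, p₀, hj₀, hq₀, hp₀, e₀⟩ := Groth.Agent.S0384.result pX
  haveI := hj₀; haveI := hq₀; haveI := hp₀
  obtain ⟨D₀⟩ := Groth.Agent.H22.Nagata.exists_comp_of (g := pX) (V := ⊤) Y (X.topIso.hom ≫ j₀) p₀
    (by rw [Category.assoc, e₀]; rfl)
  classical
  haveI := Fintype.ofFinite ι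
  suffices h : ∀ s : Finset ι, ∃ D : Groth.Agent.H22.Nagata.Comp pX ⊤,
      ∀ i ∈ s, closure ((fun x : X => D.j ⟨x, trivial⟩) '' C₁ i) ∩
        closure ((fun x : X => D.j ⟨x, trivial⟩) '' C₂ i) = ∅ by
    obtain ⟨D, hD⟩ := h Finset.univ
    refine ⟨D.Y, X.topIso.inv ≫ D.j, D.π, D.proper, inferInstance, ?_, ?_, fun i => ?_⟩
    · exact D.dense.comp X.topIso.inv.surjective.denseRange D.j.continuous
    · rw [Category.assoc, D.fac]; exact X.topIso.inv_hom_id_assoc pX
    · exact hD i (Finset.mem_univ i)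
  intro s
  induction s using Finset.induction_on with
  | empty => exact ⟨D₀, fun i hi => absurd hi (Finset.notMem_empty i)⟩
  | insert a s _ ih =>
    obtain ⟨D, hD⟩ := ih
    haveI := Groth.Agent.H22.Nagata.compactSpace_of_noetherian D
    haveI : IsLocallyNoetherian D.Y := LocallyOfFiniteType.isLocallyNoetherian D.π
    let j : X → D.Y := fun x => D.j ⟨x, trivial⟩
    have hje : Topology.IsEmbedding j :=
      D.j.isOpenEmbedding.isEmbedding.comp X.topIso.inv.isOpenEmbedding.isEmbedding
    let J₁ := Scheme.IdealSheafData.vanishingIdeal ⟨closure (j '' C₁ a), isClosed_closure⟩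
    let J₂ := Scheme.IdealSheafData.vanishingIdeal ⟨closure (j '' C₂ a), isClosed_closure⟩
    have hs₁ : (J₁.support : Set D.Y) = closure (j '' C₁ a) := by simp [J₁]
    have hs₂ : (J₂.support : Set D.Y) = closure (j '' C₂ a) := by simp [J₂]
    have hin : ∀ (C : Set X), IsClosed C → ∀ x, j x ∈ closure (j '' C) → x ∈ C := fun C hC x hx => by
      have : x ∈ closure C := (hje.closure_eq_preimage_closure_image C).ge hx
      rwa [hC.closure_eq] at this
    have hoff : ∀ y ∈ Set.range D.j, y ∉ (J₁ ⊔ J₂).support := by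
      rintro _ ⟨x, rfl⟩ hx
      rw [← SetLike.mem_coe, Groth.Agent.Lib.Flat55.GenericStrataScheme.support_sup, hs₁, hs₂] at hx
      exact (Set.ext_iff.1 (hd a) x.1).1 ⟨hin _ (h₁ a) _ hx.1, hin _ (h₂ a) _ hx.2⟩
    obtain ⟨D', c, hc, -, hjc, -⟩ := Groth.Agent.H22.Nagata.exists_lift_comp D (J₁ ⊔ J₂)
      (fun U => (isNoetherianRing_iff_ideal_fg _).1 (IsLocallyNoetherian.component_noetherian U) _) hoff
    let j' : X → D'.Y := fun x => D'.j ⟨x, trivial⟩
    have hcj : ∀ x, c (j' x) = j x := fun x => by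
      show c (D'.j ⟨x, trivial⟩) = D.j ⟨x, trivial⟩
      rw [← Scheme.Hom.comp_apply, hjc]
    refine ⟨D', fun i hi => ?_⟩
    rcases Finset.mem_insert.1 hi with rfl | hi
    · refine Set.subset_empty_iff.1 ?_
      rw [← Groth.Agent.H22.StrictTransform.disjoint_closure_two J₁ J₂ c hc.1]
      have hsub : ∀ (C : Set X) (J : D.Y.IdealSheafData), (J.support : Set D.Y) = closure (j '' C) →
          closure (j' '' C) ⊆
            closure ((fun z => c z) ⁻¹' ((J.support : Set D.Y) \ ((J₁ ⊔ J₂).support : Set D.Y))) := by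
        intro C J hJ
        refine closure_mono ?_
        rintro _ ⟨x, hx, rfl⟩
        rw [Set.mem_preimage, hcj, hJ]
        exact ⟨subset_closure ⟨x, hx, rfl⟩, hoff _ ⟨_, rfl⟩⟩
      exact Set.inter_subset_inter (hsub _ J₁ hs₁) (hsub _ J₂ hs₂)
    · refine Set.eq_empty_iff_forall_notMem.2 fun z hz => ?_
      have hsub : ∀ (C : Set X), z ∈ closure (j' '' C) → c z ∈ closure (j '' C) := fun C hC => by
        have := image_closure_subset_closure_image (f := fun w => c w) c.continuous ⟨z, hC, rfl⟩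
        rw [Set.image_image] at this
        simpa [hcj] using this
      exact (Set.ext_iff.1 (hD i hi) (c z)).1 ⟨hsub _ hz.1, hsub _ hz.2⟩

end Groth.Agent.S18394
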