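import Groth.Statements.S18395
import Groth.Agent.S18388
import Groth.Agent.S18394
import Mathlib.AlgebraicGeometry.Noetherian

set_option autoImplicit false
universe u
open LVCorr

namespace Groth.Agent.S18395

open AlgebraicGeometry CategoryTheory in
/-- Let X and C be schemes separated and of finite type over a field k, let c₁, c₂ : C → X be morphisms
over k (a correspondence C → X × X), and fix an open U ⊆ X whose preimage c₁⁻¹(U) forms a dense
subset of C, such that the restriction c₁⁻¹(U) → U of c₁ is proper, and the closed subset Z = X ∖ U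
is locally invariant: every point x of Z has an open neighbourhood U' such that every y in C with
c₂(y) ∈ Z ∩ U' and c₁(y) ∈ U' satisfies c₁(y) ∈ Z. Then the correspondence has a compactification
for which the complement of U is again locally invariant: there are schemes C̄ and X̄ proper over k,
open immersions j : C → C̄ and jX : X → X̄ over k with dense images, and morphisms c̄₁, c̄₂ : C̄ →
X̄ over k with j followed by c̄ᵢ equal to cᵢ followed by jX, such that X̄ ∖ jX(U) is locally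
invariant for (c̄₁, c̄₂) in the same sense. (The source has k algebraically closed.) -/
theorem result {C X : Scheme.{u}} (k : Type u) [Field k]
    (pC : C ⟶ Spec (CommRingCat.of k)) [IsSeparated pC] [QuasiCompact pC] [LocallyOfFiniteType pC]
    (pX : X ⟶ Spec (CommRingCat.of k)) [IsSeparated pX] [QuasiCompact pX] [LocallyOfFiniteType pX]
    (c₁ c₂ : C ⟶ X) (hc₁ : c₁ ≫ pX = pC) (hc₂ : c₂ ≫ pX = pC) (U : X.Opens)
    (hU : Dense ((c₁ ⁻¹ᵁ U : C.Opens) : Set C)) [IsProper (c₁ ∣_ U)]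
    (hZ : ∀ x ∈ ((U : Set X)ᶜ), ∃ U' : Set X, IsOpen U' ∧ x ∈ U' ∧
        ∀ y, c₂.base y ∈ ((U : Set X)ᶜ) → c₂.base y ∈ U' → c₁.base y ∈ U' → c₁.base y ∈ ((U : Set X)ᶜ)) :
    ∃ (Cb Xb : Scheme.{u}) (pCb : Cb ⟶ Spec (CommRingCat.of k)) (pXb : Xb ⟶ Spec (CommRingCat.of k))
      (j : C ⟶ Cb) (jX : X ⟶ Xb) (cb₁ cb₂ : Cb ⟶ Xb),
      IsProper pCb ∧ IsProper pXb ∧ IsOpenImmersion j ∧ IsOpenImmersion jX ∧
      DenseRange j.base ∧ DenseRange jX.base ∧ j ≫ pCb = pC ∧ jX ≫ pXb = pX ∧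
      cb₁ ≫ pXb = pCb ∧ cb₂ ≫ pXb = pCb ∧ j ≫ cb₁ = c₁ ≫ jX ∧ j ≫ cb₂ = c₂ ≫ jX ∧
      ∀ x ∈ ((jX.base '' (U : Set X))ᶜ), ∃ U' : Set Xb, IsOpen U' ∧ x ∈ U' ∧
        ∀ y, cb₂.base y ∈ ((jX.base '' (U : Set X))ᶜ) → cb₂.base y ∈ U' → cb₁.base y ∈ U' → cb₁.base y ∈ ((jX.base '' (U : Set X))ᶜ) := by
  haveI : IsLocallyNoetherian C := LocallyOfFiniteType.isLocallyNoetherian pC
  haveI : CompactSpace C := QuasiCompact.compactSpace_of_compactSpace pC
  haveI : IsNoetherian C := ⟨⟩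
  have hKc : IsClosed (c₂.base ⁻¹' ((U : Set X)ᶜ)) := U.2.isClosed_compl.preimage c₂.continuous
  obtain ⟨T, hTfin, hTc, hTi, hKT⟩ :=
    TopologicalSpace.NoetherianSpace.exists_finite_set_isClosed_irreducible hKc
  haveI : Finite T := hTfin
  choose d hd using fun t : T => QuasiSober.sober (hTi t.1 t.2) (hTc t.1 t.2)
  have hdK : ∀ t, c₂ (d t) ∈ (U : Set X)ᶜ := fun t =>
    hKT.ge (Set.mem_sUnion.2 ⟨t.1, t.2, (hd t).mem⟩)
  have hdisj : ∀ t : {t : T // c₁ (d t) ∈ U},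
      closure {c₁ (d t.1)} ∩ closure {c₂ (d t.1)} = (∅ : Set X) := fun t => by
    refine Set.eq_empty_iff_forall_notMem.2 fun x ⟨h1, h2⟩ => ?_
    obtain ⟨U', hU', hxU', h⟩ := hZ x (closure_minimal (Set.singleton_subset_iff.2 (hdK t.1))
      U.2.isClosed_compl h2)
    exact h (d t.1) (hdK t.1) ((specializes_iff_mem_closure.2 h2).mem_open hU' hxU')
      ((specializes_iff_mem_closure.2 h1).mem_open hU' hxU') t.2
  obtain ⟨Xb, jX, pXb, hpXb, hjX, hjXd, hjXp, hsep⟩ := S18394.result k pX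
    (fun t : {t : T // c₁ (d t) ∈ U} => closure {c₁ (d t.1)}) (fun t => closure {c₂ (d t.1)})
    (fun _ => isClosed_closure) (fun _ => isClosed_closure) hdisj
  haveI := hpXb
  haveI := hjX
  obtain ⟨Cb, pCb, j, cb₁, cb₂, hpCb, hj, hjd, hjp, hp₁, hp₂, hj₁, hj₂⟩ :=
    S18388.result pC pX pX pXb pXb c₁ c₂ hc₁ hc₂ jX jX hjXp hjXp
  haveI := hj
  refine ⟨Cb, Xb, pCb, pXb, j, jX, cb₁, cb₂, hpCb, hpXb, hj, hjX, hjd, hjXd, hjp, hjXp, hp₁, hp₂,
    hj₁, hj₂, fun x hx => ?_⟩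
  -- over `U` the compactified correspondence is the original one
  let V : Xb.Opens := jX ''ᵁ U
  let W : Cb.Opens := cb₁ ⁻¹ᵁ V
  let W₀ : C.Opens := c₁ ⁻¹ᵁ U
  haveI : IsSeparated (cb₁ ≫ pXb) := by rw [hp₁]; infer_instance
  haveI : IsSeparated cb₁ := IsSeparated.of_comp cb₁ pXb
  have hcomm : ∀ w : C, cb₁ (j w) = jX (c₁ w) := fun w => by
    rw [← Scheme.Hom.comp_apply, hj₁, Scheme.Hom.comp_apply]
  let e : (W₀ : Scheme.{u}) ⟶ (W : Scheme.{u}) := IsOpenImmersion.lift W.ι (W₀.ι ≫ j) (by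
    rintro _ ⟨w, rfl⟩
    rw [Scheme.Opens.range_ι]
    exact ⟨c₁ w.1, w.2, (hcomm w.1).symm⟩)
  let h : (U : Scheme.{u}) ⟶ (V : Scheme.{u}) := IsOpenImmersion.lift V.ι (U.ι ≫ jX) (by
    rintro _ ⟨w, rfl⟩
    rw [Scheme.Opens.range_ι]
    exact ⟨w.1, w.2, rfl⟩)
  have hh : h ≫ V.ι = U.ι ≫ jX := IsOpenImmersion.lift_fac _ _ _
  have he : e ≫ W.ι = W₀.ι ≫ j := IsOpenImmersion.lift_fac _ _ _
  have hsurj : Function.Surjective h := fun ⟨v, w, hw, hv⟩ => ⟨⟨w, hw⟩, V.ι.isOpenEmbedding.injective (by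
    show (h ≫ V.ι) ⟨w, hw⟩ = _
    rw [hh]; exact hv)⟩
  haveI : IsOpenImmersion (h ≫ V.ι) := by rw [hh]; infer_instance
  haveI : IsOpenImmersion h := IsOpenImmersion.of_comp h V.ι
  haveI : Surjective h := ⟨hsurj⟩
  haveI : IsIso h := (isIso_iff_isOpenImmersion_and_surjective h).2 ⟨‹_›, ‹_›⟩
  have hfac : e ≫ (cb₁ ∣_ V) = (c₁ ∣_ U) ≫ h := by
    rw [← cancel_mono V.ι, Category.assoc, Category.assoc, morphismRestrict_ι,
      reassoc_of% he, hh, morphismRestrict_ι_assoc,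
      hj₁]
  haveI : IsProper (e ≫ (cb₁ ∣_ V)) := by rw [hfac]; infer_instance
  haveI : IsSeparated (cb₁ ∣_ V) := IsZariskiLocalAtTarget.restrict ‹_› V
  haveI : IsProper e := IsProper.of_comp e (cb₁ ∣_ V)
  have hin : ∀ y : Cb, cb₁ y ∈ V → ∃ w : C, c₁ w ∈ U ∧ j w = y := fun y hy => by
    have hd0 : Dense (j.base '' (W₀ : Set C)) := hjd.dense_image j.continuous hU
    have h1 : (⟨y, hy⟩ : (W : Scheme.{u})) ∈ closure (Set.range e) := by
      rw [W.ι.isOpenEmbedding.isInducing.closure_eq_preimage_closure_image]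
      show W.ι ⟨y, hy⟩ ∈ closure (W.ι '' Set.range e)
      refine closure_mono ?_ (hd0 y)
      rintro _ ⟨w, hw, rfl⟩
      refine ⟨e ⟨w, hw⟩, ⟨_, rfl⟩, ?_⟩
      show (e ≫ W.ι) ⟨w, hw⟩ = _
      rw [he]
      rfl
    rw [(e.isClosedMap.isClosed_range).closure_eq] at h1
    obtain ⟨w, hw⟩ := h1
    refine ⟨w.1, w.2, ?_⟩
    have h2 : (e ≫ W.ι) w = y := congrArg W.ι hw
    rw [he] at h2
    exact h2
  -- avoid the closures
  let F : {t : T // c₁ (d t) ∈ U} → Set Xb := fun t => by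
    classical
    exact if x ∈ closure (jX.base '' closure {c₁ (d t.1)}) then
      closure (jX.base '' closure {c₂ (d t.1)}) else closure (jX.base '' closure {c₁ (d t.1)})
  have hF : ∀ t, IsClosed (F t) ∧ x ∉ F t := fun t => by
    simp only [F]
    split_ifs with hx₁
    · exact ⟨isClosed_closure, fun hx₂ => Set.eq_empty_iff_forall_notMem.1 (hsep t) x ⟨hx₁, hx₂⟩⟩
    · exact ⟨isClosed_closure, hx₁⟩
  refine ⟨(⋃ t, F t)ᶜ, (isClosed_iUnion_of_finite fun t => (hF t).1).isOpen_compl,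
    fun hm => (Set.mem_iUnion.1 hm).elim fun t ht => (hF t).2 ht, fun y hy2 hy2' hy1' hy1 => ?_⟩
  obtain ⟨w, hw, rfl⟩ := hin y hy1
  have hwZ : c₂ w ∈ (U : Set X)ᶜ := fun hm => hy2 ⟨c₂ w, hm, by
    show jX (c₂ w) = cb₂ (j w)
    rw [← Scheme.Hom.comp_apply, ← hj₂, Scheme.Hom.comp_apply]⟩
  obtain ⟨t, ht, hwt⟩ := Set.mem_sUnion.1 (hKT.le hwZ)
  have hs : d ⟨t, ht⟩ ⤳ w := (hd ⟨t, ht⟩).specializes hwt
  have hm : ∀ c : C ⟶ X, jX (c w) ∈ closure (jX.base '' closure {c (d ⟨t, ht⟩)}) := fun c =>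
    subset_closure ⟨c w, specializes_iff_mem_closure.1 (hs.map c.continuous), rfl⟩
  let t' : {t : T // c₁ (d t) ∈ U} := ⟨⟨t, ht⟩, (hs.map c₁.continuous).mem_open U.2 hw⟩
  by_cases hx₁ : x ∈ closure (jX.base '' closure {c₁ (d t'.1)})
  · refine hy2' (Set.mem_iUnion.2 ⟨t', ?_⟩)
    simp only [F, if_pos hx₁]
    rw [← Scheme.Hom.comp_apply, hj₂, Scheme.Hom.comp_apply]
    exact hm c₂
  · refine hy1' (Set.mem_iUnion.2 ⟨t', ?_⟩)
    simp only [F, if_neg hx₁]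
    rw [hcomm]
    exact hm c₁

end Groth.Agent.S18395
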