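import Groth.Statements.S18397
import Groth.Agent.Lib.TwistContract.Basic
import Mathlib.AlgebraicGeometry.Morphisms.QuasiFinite

set_option autoImplicit false
universe u
open LVCorr

namespace Groth.Agent.S18397

open AlgebraicGeometry CategoryTheory CategoryTheory.Limits in
/-- Let k₀ be a finite field with p^e elements, K an algebraic closure of k₀, C₀ a scheme locally of
finite type over k₀, C = C₀ ×_{k₀} Spec K with its projections, and Fr : C → C the n-th power of the
geometric Frobenius (over K, compatible with the (e·n)-th power of the absolute p-Frobenius of C₀).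
Let X be locally of finite type over K and c₁, c₂ : C → X morphisms over K with c₂ quasi-finite, and
let d < p^(e n) be such that for every closed point x of X, with J_x the inverse image under c₂ of
the ideal sheaf of the reduced point x, one has (√J_x)^d ⊂ J_x (d bounds the ramification of c₂).
Then the twisted correspondence (c₁ ∘ Fr, c₂) is contracting near every closed point in a
neighbourhood of its fixed points: for every closed point x of X there is an open subset W of C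
containing every point of C whose image under (c₁ ∘ Fr, c₂) : C → X ×_K X lies in the diagonal, such
that, writing L and J for the inverse image ideal sheaves on W of the ideal of x under c₁ ∘ Fr and
under c₂, one has L ⊂ J and L^k ⊂ J^(k+1) for some k. (In the source the correspondence is defined
over k₀ and the twist is written with the geometric Frobenius of X.) -/
theorem result {C C₀ X : Scheme.{u}}
    (p : ℕ) [Fact p.Prime] (k₀ : Type u) [Field k₀] [Fintype k₀] [CharP k₀ p] (e : ℕ)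
    (hq : Fintype.card k₀ = p ^ e) (K : Type u) [Field K] [Algebra k₀ K] [IsAlgClosure k₀ K]
    (f₀ : C₀ ⟶ Spec (CommRingCat.of k₀)) [LocallyOfFiniteType f₀] [FrobSch.IsCharP C₀ p]
    (πC₀ : C ⟶ C₀) (πK : C ⟶ Spec (CommRingCat.of K))
    (hC : IsPullback πC₀ πK f₀ (Spec.map (CommRingCat.ofHom (algebraMap k₀ K))))
    (n : ℕ) (Fr : C ⟶ C)
    (hFr₀ : Fr ≫ πC₀ = πC₀ ≫ End.asHom (End.of (FrobSch.frob C₀ p) ^ (e * n)))
    (hFrK : Fr ≫ πK = πK)
    (pX : X ⟶ Spec (CommRingCat.of K)) [LocallyOfFiniteType pX]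
    (c₁ c₂ : C ⟶ X) (hc₁ : c₁ ≫ pX = πK) (hc₂ : c₂ ≫ pX = πK)
    [LocallyQuasiFinite c₂] [LocallyOfFiniteType c₂]
    (hcomm : (Fr ≫ c₁) ≫ pX = c₂ ≫ pX) (d : ℕ) (hn : d < p ^ (e * n))
    (hd : ∀ (x : X) (hx : IsClosed ({x} : Set X)),
      ((Scheme.IdealSheafData.vanishingIdeal ⟨{x}, hx⟩).comap c₂).radical ^ d ≤
        (Scheme.IdealSheafData.vanishingIdeal ⟨{x}, hx⟩).comap c₂)
    (x : X) (hx : IsClosed ({x} : Set X)) :
    ∃ W : C.Opens,
      (pullback.lift (Fr ≫ c₁) c₂ hcomm).base ⁻¹' Set.range (pullback.diagonal pX).base ⊆ (W : Set C) ∧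
      (Scheme.IdealSheafData.vanishingIdeal ⟨{x}, hx⟩).comap (W.ι ≫ Fr ≫ c₁) ≤
        (Scheme.IdealSheafData.vanishingIdeal ⟨{x}, hx⟩).comap (W.ι ≫ c₂) ∧
      ∃ k : ℕ, (Scheme.IdealSheafData.vanishingIdeal ⟨{x}, hx⟩).comap (W.ι ≫ Fr ≫ c₁) ^ k ≤
        (Scheme.IdealSheafData.vanishingIdeal ⟨{x}, hx⟩).comap (W.ι ≫ c₂) ^ (k + 1) := by
  haveI : CharP K p := charP_of_injective_algebraMap (algebraMap k₀ K).injective p
  haveI : FrobSch.IsCharP C p := FrobSch.IsCharP.of_hom πC₀ p
  obtain ⟨σ, rfl, hσ⟩ := Groth.Agent.Lib.TwistContract.Basic.exists_factor p k₀ e hq K f₀ πC₀ πK hC n Fr hFr₀ hFrK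
  set I := Scheme.IdealSheafData.vanishingIdeal ⟨{x}, hx⟩ with hI
  have hsup : ∀ z : X, z ∈ I.support ↔ z = x := fun z => by
    rw [hI, ← SetLike.mem_coe, Scheme.IdealSheafData.coe_support_vanishingIdeal]
    exact Set.mem_singleton_iff
  set a := (Groth.Agent.Lib.TwistContract.Basic.FN p C (e * n) ≫ σ) ≫ c₁ with ha
  have hdisc : DiscreteTopology ↥(c₂ ⁻¹' {x}) :=
    isDiscrete_iff_discreteTopology.mp (c₂.isDiscrete_preimage_singleton x)
  have hcl : IsClosed {y : C | c₂ y = x ∧ a y ≠ x} := by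
    have hF : IsClosed (c₂ ⁻¹' {x}) := hx.preimage c₂.continuous
    have h := hF.isClosedEmbedding_subtypeVal.isClosedMap _ (isClosed_discrete {y : ↥(c₂ ⁻¹' {x}) | a y.1 ≠ x})
    refine (congrArg IsClosed ?_).mp h
    ext y
    exact ⟨fun ⟨z, hz, he⟩ => he ▸ ⟨z.2, hz⟩, fun ⟨h1, h2⟩ => ⟨⟨y, h1⟩, h2, rfl⟩⟩
  refine ⟨⟨{y : C | c₂ y = x ∧ a y ≠ x}ᶜ, hcl.isOpen_compl⟩, ?_, ?_⟩
  · rintro y ⟨z, hz⟩ ⟨hy1, hy2⟩
    have h1 : a y = z := by
      have h := congrArg (fun w => (pullback.fst pX pX) w) hz.symm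
      simp only [← Scheme.Hom.comp_apply, pullback.lift_fst, pullback.diagonal_fst] at h
      exact h
    have h2 : c₂ y = z := by
      have h := congrArg (fun w => (pullback.snd pX pX) w) hz.symm
      simp only [← Scheme.Hom.comp_apply, pullback.lift_snd, pullback.diagonal_snd] at h
      exact h
    exact hy2 (h1.trans (h2.symm.trans hy1))
  · set W : C.Opens := ⟨{y : C | c₂ y = x ∧ a y ≠ x}ᶜ, hcl.isOpen_compl⟩ with hW
    haveI : FrobSch.IsCharP (W : Scheme.{u}) p := FrobSch.IsCharP.of_hom W.ι p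
    have e1 : W.ι ≫ (Groth.Agent.Lib.TwistContract.Basic.FN p C (e * n) ≫ σ) ≫ c₁ =
        Groth.Agent.Lib.TwistContract.Basic.FN p (W : Scheme.{u}) (e * n) ≫ (W.ι ≫ σ ≫ c₁) := by
      rw [reassoc_of% Groth.Agent.Lib.TwistContract.Basic.FN_comp, Category.assoc]
    rw [e1]
    have hdW : (I.comap (W.ι ≫ c₂)).radical ^ d ≤ I.comap (W.ι ≫ c₂) := by
      intro V
      rw [Scheme.IdealSheafData.comap_comp, Scheme.IdealSheafData.ideal_pow, Pi.pow_apply]
      show (((I.comap c₂).comap W.ι).ideal V).radical ^ d ≤ _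
      rw [Scheme.IdealSheafData.ideal_comap_of_isOpenImmersion, Scheme.Opens.ι_appIso]
      simp only [Iso.refl_inv, CommRingCat.hom_id, Ideal.comap_id]
      exact hd x hx ⟨W.ι ''ᵁ V.1, V.2.image_of_isOpenImmersion W.ι⟩
    have h := Groth.Agent.Lib.TwistContract.Basic.contracting p (e * n) (W.ι ≫ σ ≫ c₁) (W.ι ≫ c₂) I d hdW hn fun y hy => by
      rw [hsup] at hy ⊢
      by_contra hne
      have he : a (W.ι y) = (W.ι ≫ σ ≫ c₁) y := by
        rw [ha, ← Scheme.Hom.comp_apply, e1, Scheme.Hom.comp_apply, Groth.Agent.Lib.TwistContract.Basic.FN_apply]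
      exact y.2 ⟨hy, fun hh => hne (he.symm.trans hh)⟩
    exact ⟨h.1, d, h.2⟩

end Groth.Agent.S18397
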