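import Groth.Statements.S18399
import Groth.Agent.Lib.Regular.Indep

set_option autoImplicit false
universe u
open CAlg

namespace Groth.Agent.S18399

/-- Let k be a field and A a regular local k-algebra with residue field k (the structure map from k onto
the residue field of A is surjective), let σ be a k-algebra endomorphism of A of finite order n with
n invertible in k, and let I_σ be the ideal of A generated by the elements f - σ f. Then I_σ is
generated by finitely many elements of the maximal ideal whose classes in the cotangent space m/m^2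
are linearly independent over the residue field. (Such elements are part of a regular system of
parameters of A, hence part of a regular sequence, which is the printed conclusion; the generators
with independent classes are what the argument produces.) -/
theorem result {k : Type u} [Field k] {A : Type u} [CommRing A] [Algebra k A] [IsRegularLocalRing A] (hres : Function.Surjective ⇑(algebraMap k (IsLocalRing.ResidueField A))) (σ : A →ₐ[k] A) (n : ℕ) (hσ : ∀ a : A, (⇑σ)^[n] a = a) (hn : (n : k) ≠ 0) : ∃ (m : ℕ) (f : Fin m → ↥(IsLocalRing.maximalIdeal A)), Ideal.span (Set.range fun i : Fin m => (f i : A)) = Ideal.span (Set.range fun a : A => a - σ a) ∧ LinearIndependent (IsLocalRing.ResidueField A) (fun i : Fin m => (IsLocalRing.maximalIdeal A).toCotangent (f i)) := by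
  rcases Nat.eq_zero_or_pos n with rfl | hpos
  · simp at hn
  let τ : Fin n → A →ₐ[k] A := fun i => σ ^ (i : ℕ)
  have hpow : ∀ (i : ℕ) (a : A), (σ ^ i) a = σ^[i] a := fun i a => by
    rw [AlgHom.coe_pow]
  have hper : ∀ (i : ℕ) (a : A), σ^[i % n] a = σ^[i] a := fun i a =>
    (show Function.IsPeriodicPt σ n a from hσ a).iterate_mod_apply i
  have hinv : ∀ j a, ∑ i, τ i (τ j a) = ∑ i, τ i a := fun j a => by
    simp only [τ, hpow, ← Function.iterate_add_apply]
    have hne : NeZero n := ⟨by omega⟩
    rw [← Equiv.sum_comp (Equiv.addRight j) (fun i : Fin n => σ^[(i : ℕ)] a)]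
    refine Finset.sum_congr rfl fun i _ => ?_
    rw [Equiv.coe_addRight, Fin.val_add, hper]
  obtain ⟨c, f, hsp, hli⟩ := Lib.Regular.Indep.exists_fixed_gens hres τ (by simpa using hn) hinv
  refine ⟨c, f, ?_, hli⟩
  rw [hsp]
  refine le_antisymm (Ideal.span_le.mpr ?_) (Ideal.span_le.mpr ?_)
  · rintro x ⟨j, a, rfl⟩
    simp only [τ, hpow]
    generalize (j : ℕ) = i
    induction i with
    | zero => simp
    | succ i ih =>
      rw [Function.iterate_succ_apply',
        show a - σ (σ^[i] a) = (a - σ^[i] a) + (σ^[i] a - σ (σ^[i] a)) by ring]
      exact add_mem ih (Ideal.subset_span ⟨σ^[i] a, rfl⟩)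
  · rintro x ⟨a, rfl⟩
    refine Ideal.subset_span ⟨⟨1 % n, Nat.mod_lt 1 hpos⟩, a, ?_⟩
    simp only [τ, hpow, hper, Function.iterate_one]

end Groth.Agent.S18399
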