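import Groth.Statements.S1840
import Groth.Agent.Lib.CycDetVec.Main
import Mathlib.RingTheory.Length
import Mathlib.LinearAlgebra.FiniteDimensional.Basic

set_option autoImplicit false
universe u v
open CycDet

namespace Groth.Agent.S1840

/-- Let M be a finite-dimensional vector space over the residue field κ of a local ring R, viewed as an
R-module. There is a κ-linear isomorphism from det_κ(M) to the top exterior power of M sending the
symbol of an admissible tuple (e₁, …, e_l) to e₁ ∧ … ∧ e_l. -/
theorem result (R : Type u) [CommRing R] [IsLocalRing R] (M : Type v) [AddCommGroup M] [Module R M] [Module (IsLocalRing.ResidueField R) M] [IsScalarTower R (IsLocalRing.ResidueField R) M] [Module.Finite (IsLocalRing.ResidueField R) M] : ∃ Φ : CycDet.Det R M ≃ₗ[IsLocalRing.ResidueField R] (⋀[IsLocalRing.ResidueField R]^((Module.length R M).toNat) M), ∀ e : CycDet.Adm R M (Module.length R M).toNat, Φ (CycDet.symbol R M e) = exteriorPower.ιMulti (IsLocalRing.ResidueField R) ((Module.length R M).toNat) e.1 := by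
  have hl : (Module.length R M).toNat = Module.finrank (IsLocalRing.ResidueField R) M := by
    rw [Module.length_eq_of_surjective (R := IsLocalRing.ResidueField R) (S := R) (M := M)
      (by rw [IsLocalRing.ResidueField.algebraMap_eq]; exact IsLocalRing.residue_surjective),
      Module.length_eq_finrank, ENat.toNat_coe]
  exact Lib.CycDetVec.exists_equiv
    ((Module.finBasis (IsLocalRing.ResidueField R) M).reindex (finCongr hl.symm))

end Groth.Agent.S1840
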