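import Groth.Statements.S18403
import Groth.Agent.H83.Cubic.Hesse
import Groth.Agent.H83.Cubic.FlexExist

set_option autoImplicit false
universe u
open Cubic

namespace Groth.Agent.S18403

open MvPolynomial in
/-- Let f be a nonzero homogeneous cubic in three variables over ℂ whose plane curve is smooth (at every
nonzero zero of f some partial derivative of f is nonzero). Then f is projectively equivalent to a
Hesse cubic: there are an invertible matrix A, a constant c ≠ 0 and a parameter k with k³ ≠ 1 such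
that the linear substitution X_i ↦ Σ_j A_ij X_j carries f to c · (X₀³ + X₁³ + X₂³ − 3k·X₀X₁X₂). -/
theorem result (f : MvPolynomial (Fin 3) ℂ) (hf : f.IsHomogeneous 3)
    (hf0 : f ≠ 0) (hsm : ∀ v : Fin 3 → ℂ, v ≠ 0 → eval v f = 0 → ∃ i : Fin 3, eval v (pderiv i f) ≠ 0) :
    ∃ (A : Matrix (Fin 3) (Fin 3) ℂ) (k c : ℂ), IsUnit A.det ∧ k ^ 3 ≠ 1 ∧ c ≠ 0 ∧
      aeval (fun i : Fin 3 => ∑ j : Fin 3, C (A i j) * X j) f = C c * HesseCubic.form k := by
  obtain ⟨T, hT⟩ := Groth.Agent.H83.Cubic.exists_isPolar hf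
  obtain ⟨P, κ, c, hκ, hc, hP, hF⟩ :=
    Groth.Agent.H83.Cubic.exists_hesse_basis hT (hT.smooth hsm)
  have hmul : ∀ x, (Matrix.of fun i j => P j i).mulVec x = x 0 • P 0 + x 1 • P 1 + x 2 • P 2 := by
    intro x
    funext i
    simp [Matrix.mulVec, dotProduct, Fin.sum_univ_three, mul_comm]
  refine ⟨Matrix.of fun i j => P j i, κ, c, ?_, hκ, hc, ?_⟩
  · rw [isUnit_iff_ne_zero, ne_eq, ← Matrix.exists_mulVec_eq_zero_iff]
    rintro ⟨x, hx, hx0⟩
    rw [hmul] at hx0
    obtain ⟨h0, h1, h2⟩ := hP _ _ _ hx0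
    exact hx (funext fun i => by fin_cases i <;> assumption)
  · rw [Groth.Agent.H83.Cubic.subst_eq_iff]
    intro x
    rw [hmul, hF, Groth.Agent.H83.Cubic.eval_hesse]

end Groth.Agent.S18403
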