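import Groth.Statements.S18404
import Groth.Agent.H83.Cubic.Hesse

set_option autoImplicit false
universe u
open Cubic

namespace Groth.Agent.S18404

open MvPolynomial in
/-- Let k ∈ ℂ with k³ ≠ 1 and let h = X₀³ + X₁³ + X₂³ − 3k·X₀X₁X₂ be the Hesse cubic. For a nonzero
vector v with h(v) = 0, the corresponding point is a flex of the plane curve of h — some line
through it meets the curve there with multiplicity three, i.e. there is a vector w linearly
independent from v with h(v + t·w) = t³·h(w) for every t — exactly when v is a scalar multiple of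
one of the nine vectors (0, 1, −γ), (−γ, 0, 1), (1, −γ, 0) with γ³ = 1. -/
theorem result (k : ℂ) (hk : k ^ 3 ≠ 1) (v : Fin 3 → ℂ) (hv : v ≠ 0)
    (hCv : eval v (HesseCubic.form k) = 0) :
    (∃ w : Fin 3 → ℂ, LinearIndependent ℂ ![v, w] ∧
        ∀ t : ℂ, eval (v + t • w) (HesseCubic.form k) = t ^ 3 * eval w (HesseCubic.form k)) ↔
      ∃ γ c : ℂ, γ ^ 3 = 1 ∧ (v = c • ![0, 1, -γ] ∨ v = c • ![-γ, 0, 1] ∨ v = c • ![1, -γ, 0]) := by
  constructor
  · rintro ⟨w, hw, hwt⟩
    have hst := Groth.Agent.H83.Cubic.star_of_flex (Groth.Agent.H83.Cubic.isPolar_hesse k)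
      (Groth.Agent.H83.Cubic.hesse_smooth hk) hv hCv hw hwt
    have hp := Groth.Agent.H83.Cubic.star_hesse_prod hk hst
    rw [Groth.Agent.H83.Cubic.eval_hesse] at hCv
    have hne : ¬ (v 0 = 0 ∧ v 1 = 0 ∧ v 2 = 0) := fun h => hv (by
      funext i; fin_cases i <;> simp [h.1, h.2.1, h.2.2])
    rcases mul_eq_zero.1 hp with h | h2
    · rcases mul_eq_zero.1 h with h0 | h1
      · have hs : v 1 ^ 3 + v 2 ^ 3 = 0 := by simpa [h0] using hCv
        have hv1 : v 1 ≠ 0 := fun h1 => hne ⟨h0, h1, by simpa [h1] using hs⟩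
        refine ⟨-(v 2 / v 1), v 1, ?_, Or.inl ?_⟩
        · field_simp; linear_combination -hs
        · funext i; fin_cases i <;> simp [h0] <;> field_simp
      · have hs : v 0 ^ 3 + v 2 ^ 3 = 0 := by simpa [h1] using hCv
        have hv2 : v 2 ≠ 0 := fun h2 => hne ⟨by simpa [h2] using hs, h1, h2⟩
        refine ⟨-(v 0 / v 2), v 2, ?_, Or.inr (Or.inl ?_)⟩
        · field_simp; linear_combination -hs
        · funext i; fin_cases i <;> simp [h1] <;> field_simp
    · have hs : v 0 ^ 3 + v 1 ^ 3 = 0 := by simpa [h2] using hCv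
      have hv0 : v 0 ≠ 0 := fun h0 => hne ⟨h0, by simpa [h0] using hs, h2⟩
      refine ⟨-(v 1 / v 0), v 0, ?_, Or.inr (Or.inr ?_)⟩
      · field_simp; linear_combination -hs
      · funext i; fin_cases i <;> simp [h2] <;> field_simp
  · rintro ⟨γ, c, hγ, h⟩
    have hc : c ≠ 0 := by
      rintro rfl
      rcases h with rfl | rfl | rfl <;> simp at hv
    have hγ0 : γ ≠ 0 := by rintro rfl; norm_num at hγ
    rcases h with rfl | rfl | rfl
    · refine ⟨![1, -k * γ, 0], LinearIndependent.pair_iff.2 fun s t hst => ?_, fun t =>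
        Groth.Agent.H83.Cubic.hesse_flex_identity hγ c t _ _ (Or.inl ⟨rfl, rfl⟩)⟩
      have h0 := congrFun hst 0
      have h1 := congrFun hst 1
      simp at h0 h1
      exact ⟨by simpa [h0, hc] using h1, h0⟩
    · refine ⟨![0, 1, -k * γ], LinearIndependent.pair_iff.2 fun s t hst => ?_, fun t =>
        Groth.Agent.H83.Cubic.hesse_flex_identity hγ c t _ _ (Or.inr (Or.inl ⟨rfl, rfl⟩))⟩
      have h0 := congrFun hst 0
      have h1 := congrFun hst 1
      simp at h0 h1
      exact ⟨by simpa [hc, hγ0] using h0, h1⟩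
    · refine ⟨![-k * γ, 0, 1], LinearIndependent.pair_iff.2 fun s t hst => ?_, fun t =>
        Groth.Agent.H83.Cubic.hesse_flex_identity hγ c t _ _ (Or.inr (Or.inr ⟨rfl, rfl⟩))⟩
      have h1 := congrFun hst 1
      have h2 := congrFun hst 2
      simp at h1 h2
      exact ⟨by simpa [hc, hγ0] using h1, h2⟩

end Groth.Agent.S18404
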