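import Groth.Statements.S18405
import Groth.Agent.H83.Cubic.Hesse
import Groth.Agent.H83.Cubic.FlexExist

set_option autoImplicit false
universe u
open Cubic

namespace Groth.Agent.S18405

/-- A linear map with three eigenvectors in a plane is scalar on it. -/
theorem eigen_of_three (L : (Fin 3 → ℂ) →ₗ[ℂ] (Fin 3 → ℂ)) (P Q : Fin 3 → ℂ)
    (hi : ∀ a b : ℂ, a • P + b • Q = 0 → a = 0 ∧ b = 0)
    (h : ∀ γ : ℂ, γ ^ 3 = 1 → ∃ d : ℂ, L (P - γ • Q) = d • (P - γ • Q)) :
    ∃ d : ℂ, L P = d • P ∧ L Q = d • Q := by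
  obtain ⟨ω, hω0⟩ := IsAlgClosed.exists_root
    (Polynomial.C (1 : ℂ) * Polynomial.X ^ 2 + Polynomial.C 1 * Polynomial.X + Polynomial.C 1)
    (by rw [Polynomial.degree_quadratic one_ne_zero]; exact two_ne_zero)
  have hω : ω ^ 2 + ω + 1 = 0 := by simpa [Polynomial.IsRoot.def] using hω0
  have hω1 : ω - 1 ≠ 0 := fun h1 => by
    rw [sub_eq_zero.1 h1] at hω; norm_num at hω
  obtain ⟨d₀, e₀⟩ := h 1 (one_pow 3)
  obtain ⟨d₁, e₁⟩ := h ω (by linear_combination (ω - 1) * hω)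
  obtain ⟨d₂, e₂⟩ := h (ω ^ 2) (by linear_combination (ω - 1) * (ω ^ 3 + 1) * hω)
  rw [map_sub, map_smul] at e₀ e₁ e₂
  have key : (d₀ + ω * d₁ + ω ^ 2 * d₂) • P + (-(d₀ + ω ^ 2 * d₁ + ω ^ 4 * d₂)) • Q = 0 := by
    have h3 : (ω ^ 2 + ω + 1) • L P - (1 + ω ^ 2 + ω ^ 4) • L Q = 0 := by
      rw [hω, show 1 + ω ^ 2 + ω ^ 4 = 0 by linear_combination (ω ^ 2 - ω + 1) * hω, zero_smul,
        zero_smul, sub_zero]
    rw [← h3]
    linear_combination (norm := module) -e₀ - ω • e₁ - ω ^ 2 • e₂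
  obtain ⟨k1, k2⟩ := hi _ _ key
  have h12 : d₂ = d₁ := by
    have h5 : (ω ^ 2 - ω) * (d₂ - d₁) = 0 := by
      linear_combination k1 + k2 + (ω ^ 2 - ω) * d₂ * hω
    have : ω ^ 2 - ω ≠ 0 := by
      rw [show ω ^ 2 - ω = ω * (ω - 1) by ring]
      exact mul_ne_zero (fun h0 => by rw [h0] at hω; norm_num at hω) hω1
    exact sub_eq_zero.1 ((mul_eq_zero.1 h5).resolve_left this)
  have h01 : d₀ = d₁ := by
    rw [h12] at k1
    linear_combination k1 - d₁ * hω
  rw [h01] at e₀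
  have hQ : L Q = d₁ • Q := by
    refine smul_right_injective (Fin 3 → ℂ) hω1 ?_
    linear_combination (norm := module) e₀ - e₁
  exact ⟨d₁, by linear_combination (norm := module) e₀ + hQ, hQ⟩


open MvPolynomial in
/-- Let f be a nonzero homogeneous cubic in three variables over ℂ whose plane curve is smooth (at every
nonzero zero of f some partial derivative is nonzero), and let A be an invertible matrix whose
linear substitution X_i ↦ Σ_j A_ij X_j multiplies f by a constant, so that v ↦ A·v is a projective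
automorphism of the curve. If A·v is proportional to v for every flex v of the curve (every nonzero
zero v of f through which some line meets the curve with multiplicity three: there is w linearly
independent from v with f(v + t·w) = t³·f(w) for all t), then A is a scalar matrix: the projective
automorphisms of a smooth plane cubic act faithfully on its flexes. -/
theorem result (f : MvPolynomial (Fin 3) ℂ) (hf : f.IsHomogeneous 3)
    (hf0 : f ≠ 0) (hsm : ∀ v : Fin 3 → ℂ, v ≠ 0 → eval v f = 0 → ∃ i : Fin 3, eval v (pderiv i f) ≠ 0)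
    (A : Matrix (Fin 3) (Fin 3) ℂ) (hA : IsUnit A.det)
    (hAf : ∃ c : ℂ, aeval (fun i : Fin 3 => ∑ j : Fin 3, C (A i j) * X j) f = C c * f)
    (hfix : ∀ v : Fin 3 → ℂ, v ≠ 0 → eval v f = 0 →
      (∃ w : Fin 3 → ℂ, LinearIndependent ℂ ![v, w] ∧ ∀ t : ℂ, eval (v + t • w) f = t ^ 3 * eval w f) →
      ∃ d : ℂ, A.mulVec v = d • v) :
    ∃ c : ℂ, A = c • (1 : Matrix (Fin 3) (Fin 3) ℂ) := by
  obtain ⟨T, hT⟩ := Groth.Agent.H83.Cubic.exists_isPolar hf
  obtain ⟨P, κ, c, hκ, hc, hP, hF⟩ :=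
    Groth.Agent.H83.Cubic.exists_hesse_basis hT (hT.smooth hsm)
  let g : (Fin 3 → ℂ) → (Fin 3 → ℂ) := fun x => x 0 • P 0 + x 1 • P 1 + x 2 • P 2
  have hg : ∀ x, eval (g x) f = c * eval x (HesseCubic.form κ) := fun x => by
    rw [hF, Groth.Agent.H83.Cubic.eval_hesse]
  have hlin : ∀ (s t : ℂ) (a b : Fin 3 → ℂ), g (s • a + t • b) = s • g a + t • g b := by
    intro s t a b
    simp only [g, Pi.add_apply, Pi.smul_apply, smul_eq_mul]
    module
  have hfix' : ∀ (γ : ℂ), γ ^ 3 = 1 → ∀ (a w : Fin 3 → ℂ), LinearIndependent ℂ ![a, w] →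
      (∀ t : ℂ, eval (a + t • w) (HesseCubic.form κ) = t ^ 3 * eval w (HesseCubic.form κ)) →
      ∃ d : ℂ, A.mulVec (g a) = d • g a := by
    intro γ _ a w haw hw
    have hinj : ∀ z, g z = 0 → z = 0 := fun z hz => by
      obtain ⟨h0, h1, h2⟩ := hP _ _ _ hz
      exact funext fun i => by fin_cases i <;> assumption
    have ha : a ≠ 0 := by simpa using haw.ne_zero 0
    refine hfix (g a) (fun h0 => ha (hinj a h0)) ?_ ⟨g w, ?_, fun t => ?_⟩
    · have := hw 0
      rw [hg]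
      simp only [zero_smul, add_zero] at this
      rw [this]; ring
    · rw [LinearIndependent.pair_iff] at haw ⊢
      intro s t hst
      rw [← hlin] at hst
      exact haw s t (hinj _ hst)
    · rw [show g a + t • g w = g ((1 : ℂ) • a + t • w) by rw [hlin, one_smul], one_smul, hg, hw, hg]
      ring
  have hind : ∀ a b : Fin 3 → ℂ, ∀ i j : Fin 3, a i = 0 → b i ≠ 0 → a j ≠ 0 →
      LinearIndependent ℂ ![a, b] := by
    intro a b i j hai hbi haj
    refine LinearIndependent.pair_iff.2 fun s t hst => ?_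
    have ht : t = 0 := by simpa [hai, hbi] using congrFun hst i
    refine ⟨?_, ht⟩
    simpa [ht, haj] using congrFun hst j
  have hpair : ∀ i j : Fin 3, (i = 1 ∧ j = 2) ∨ (i = 2 ∧ j = 0) ∨ (i = 0 ∧ j = 1) →
      ∃ d : ℂ, A.mulVec (P i) = d • P i ∧ A.mulVec (P j) = d • P j := by
    intro i j hij
    refine eigen_of_three A.mulVecLin (P i) (P j) ?_ ?_
    · intro a b hab
      rcases hij with ⟨rfl, rfl⟩ | ⟨rfl, rfl⟩ | ⟨rfl, rfl⟩
      · obtain ⟨-, h1, h2⟩ := hP 0 a b (by rw [← hab]; module)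
        exact ⟨h1, h2⟩
      · obtain ⟨h0, -, h2⟩ := hP b 0 a (by rw [← hab]; module)
        exact ⟨h2, h0⟩
      · obtain ⟨h0, h1, -⟩ := hP a b 0 (by rw [← hab]; module)
        exact ⟨h0, h1⟩
    · intro γ hγ
      rcases hij with ⟨rfl, rfl⟩ | ⟨rfl, rfl⟩ | ⟨rfl, rfl⟩
      · have he : g ((1 : ℂ) • ![0, 1, -γ]) = P 1 - γ • P 2 := by simp [g]; module
        rw [Matrix.mulVecLin_apply, ← he]
        exact hfix' γ hγ _ ![1, -κ * γ, 0] (hind _ _ 0 1 (by simp) (by simp) (by simp)) fun t =>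
          Groth.Agent.H83.Cubic.hesse_flex_identity hγ 1 t _ _ (Or.inl ⟨rfl, rfl⟩)
      · have he : g ((1 : ℂ) • ![-γ, 0, 1]) = P 2 - γ • P 0 := by simp [g]; module
        rw [Matrix.mulVecLin_apply, ← he]
        exact hfix' γ hγ _ ![0, 1, -κ * γ] (hind _ _ 1 2 (by simp) (by simp) (by simp)) fun t =>
          Groth.Agent.H83.Cubic.hesse_flex_identity hγ 1 t _ _ (Or.inr (Or.inl ⟨rfl, rfl⟩))
      · have he : g ((1 : ℂ) • ![1, -γ, 0]) = P 0 - γ • P 1 := by simp [g]; module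
        rw [Matrix.mulVecLin_apply, ← he]
        exact hfix' γ hγ _ ![-κ * γ, 0, 1] (hind _ _ 2 0 (by simp) (by simp) (by simp)) fun t =>
          Groth.Agent.H83.Cubic.hesse_flex_identity hγ 1 t _ _ (Or.inr (Or.inr ⟨rfl, rfl⟩))
  obtain ⟨d, h1, h2⟩ := hpair 1 2 (Or.inl ⟨rfl, rfl⟩)
  obtain ⟨d', h2', h0⟩ := hpair 2 0 (Or.inr (Or.inl ⟨rfl, rfl⟩))
  have hd : d' = d := by
    have h22 : (d' - d) • P 2 = 0 := by rw [sub_smul, ← h2', ← h2, sub_self]
    exact sub_eq_zero.1 ((smul_eq_zero.1 h22).resolve_right fun h =>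
      one_ne_zero (hP 0 0 1 (by rw [h]; simp)).2.2)
  rw [hd] at h0
  refine ⟨d, Matrix.ext_iff_mulVec.2 fun z => ?_⟩
  let Q : Matrix (Fin 3) (Fin 3) ℂ := Matrix.of fun i j => P j i
  have hQ : ∀ x, Q.mulVec x = g x := by
    intro x
    funext i
    simp [Q, g, Matrix.mulVec, dotProduct, Fin.sum_univ_three, mul_comm]
  have hsurj : Function.Surjective Q.mulVec := by
    rw [Matrix.mulVec_surjective_iff_isUnit, Matrix.isUnit_iff_isUnit_det, isUnit_iff_ne_zero,
      ne_eq, ← Matrix.exists_mulVec_eq_zero_iff]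
    rintro ⟨x, hx, hx0⟩
    rw [hQ] at hx0
    obtain ⟨e0, e1, e2⟩ := hP _ _ _ hx0
    exact hx (funext fun i => by fin_cases i <;> assumption)
  obtain ⟨x, rfl⟩ := hsurj z
  rw [hQ]
  simp only [g, Matrix.smul_mulVec, Matrix.one_mulVec, Matrix.mulVec_add, Matrix.mulVec_smul, h0,
    h1, h2]

end Groth.Agent.S18405
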