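import Groth.Statements.S18406
import Groth.Agent.H83.Cubic.Plane

set_option autoImplicit false
universe u
open Cubic

namespace Groth.Agent.S18406

open MvPolynomial in
/-- Let f be a nonzero homogeneous cubic in three variables over ℂ whose plane curve is smooth (at every
nonzero zero of f some partial derivative is nonzero), and let v and v′ be flexes of the curve, that
is nonzero zeros of f through each of which some line meets the curve with multiplicity three (there
is a vector w linearly independent from the point with f(point + t·w) = t³·f(w) for every t). Then a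
projective automorphism of the curve carries the point of v to the point of v′: there are an
invertible matrix A whose substitution X_i ↦ Σ_j A_ij X_j multiplies f by a constant c, and a
constant d with A·v = d·v′. (The published statement gives more: a subgroup of the projective
automorphism group isomorphic to C₃ × C₃ acts simply transitively on the nine flexes; only
transitivity is stated here.) -/
theorem result (f : MvPolynomial (Fin 3) ℂ) (hf : f.IsHomogeneous 3)
    (hf0 : f ≠ 0) (hsm : ∀ v : Fin 3 → ℂ, v ≠ 0 → eval v f = 0 → ∃ i : Fin 3, eval v (pderiv i f) ≠ 0)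
    (v v' : Fin 3 → ℂ) (hv : v ≠ 0) (hv' : v' ≠ 0) (hfv : eval v f = 0) (hfv' : eval v' f = 0)
    (hflex : (∃ w : Fin 3 → ℂ, LinearIndependent ℂ ![v, w] ∧ ∀ t : ℂ, eval (v + t • w) f = t ^ 3 * eval w f))
    (hflex' : (∃ w : Fin 3 → ℂ, LinearIndependent ℂ ![v', w] ∧ ∀ t : ℂ, eval (v' + t • w) f = t ^ 3 * eval w f)) :
    ∃ (A : Matrix (Fin 3) (Fin 3) ℂ) (c d : ℂ), IsUnit A.det ∧
      aeval (fun i : Fin 3 => ∑ j : Fin 3, C (A i j) * X j) f = C c * f ∧ A.mulVec v = d • v' := by
  obtain ⟨T, hT⟩ := Groth.Agent.H83.Cubic.exists_isPolar hf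
  have hs := hT.smooth hsm
  have hst : ∀ p : Fin 3 → ℂ, p ≠ 0 → eval p f = 0 →
      (∃ w : Fin 3 → ℂ, LinearIndependent ℂ ![p, w] ∧
        ∀ t : ℂ, eval (p + t • w) f = t ^ 3 * eval w f) →
      Groth.Agent.H83.Cubic.Star T p := by
    rintro p hp hfp ⟨w, hw, hwt⟩
    exact Groth.Agent.H83.Cubic.star_of_flex hT hs hp hfp hw hwt
  have h1 := hst v hv hfv hflex
  have h2 := hst v' hv' hfv' hflex'
  obtain ⟨g, g', c, hgg, hgg', hg, hgv⟩ := Groth.Agent.H83.Cubic.exists_auto_map hT hs h1 h2
  have hc : ∀ x, (LinearMap.toMatrix' g).mulVec x = g x := fun x => by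
    rw [← Matrix.toLin'_apply, Matrix.toLin'_toMatrix']
  obtain ⟨d, hd⟩ := hgv
  refine ⟨LinearMap.toMatrix' g, c, d, ?_, ?_, by rw [hc, hd]⟩
  · have : LinearMap.toMatrix' g' * LinearMap.toMatrix' g = 1 := by
      rw [← LinearMap.toMatrix'_comp, ← LinearMap.toMatrix'_id]
      exact congrArg _ (LinearMap.ext hgg)
    exact Matrix.isUnit_det_of_left_inverse this
  · rw [Groth.Agent.H83.Cubic.subst_eq_iff]
    intro x
    rw [hc, hg]

end Groth.Agent.S18406
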