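import Groth.Statements.S18407
import Groth.Agent.H83.Cubic.Eckardt

set_option autoImplicit false
universe u
open Cubic

namespace Groth.Agent.S18407

open MvPolynomial in
/-- Let f be a nonzero homogeneous cubic in four variables over ℂ whose surface S = V_+(f) ⊂ P³ is
smooth (at every nonzero zero of f some partial derivative is nonzero); a line on S is a
2-dimensional subspace of ℂ⁴ on which f vanishes, and an Eckardt point of S is a nonzero vector
lying on three distinct lines on S. If e is an Eckardt point of S, there is exactly one involutory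
matrix A (A² = 1) whose +1-eigenspace is a hyperplane and with A·e = −e, such that the substitution
X_i ↦ Σ_j A_ij X_j multiplies f by a constant — that is, a projective involution preserving S whose
fixed locus is the disjoint union of a plane and the point of e. (Normalising A² = 1 and A·e = −e
singles out one matrix in the class of the involution.) -/
theorem result (f : MvPolynomial (Fin 4) ℂ) (hf : f.IsHomogeneous 3)
    (hf0 : f ≠ 0) (hsm : ∀ v : Fin 4 → ℂ, v ≠ 0 → eval v f = 0 → ∃ i : Fin 4, eval v (pderiv i f) ≠ 0)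
    (e : Fin 4 → ℂ) (he : e ≠ 0)
    (hE : (∃ U : Fin 3 → Submodule ℂ (Fin 4 → ℂ), Function.Injective U ∧
        ∀ i : Fin 3, Module.finrank ℂ ↥(U i) = 2 ∧ e ∈ U i ∧ ∀ u ∈ U i, eval u f = 0)) :
    ∃! A : Matrix (Fin 4) (Fin 4) ℂ, A * A = 1 ∧ Module.finrank ℂ ↥(LinearMap.ker (Matrix.toLin' A - LinearMap.id)) = 3 ∧
        A.mulVec e = -e ∧ ∃ c : ℂ, aeval (fun i : Fin 4 => ∑ j : Fin 4, C (A i j) * X j) f = C c * f := by
  obtain ⟨T, hT⟩ := Groth.Agent.H83.Cubic.exists_isPolar hf
  have hs := hT.smooth hsm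
  open Groth.Agent.H83.Cubic in
  have hst := star_of_lines hT hs he hE
  obtain ⟨m, hm1, hm⟩ := hst.exists_m hT hs
  have hfe : eval e f = 0 := by rw [hT.eval_eq, hst.2.1]
  obtain ⟨A, hA, hAA, hfin, hAe⟩ := Groth.Agent.H83.Cubic.exists_matrix_refl m hm1
  refine ⟨A, ⟨hAA, by simpa using hfin, hAe, 1, ?_⟩, ?_⟩
  · rw [Groth.Agent.H83.Cubic.subst_eq_iff]
    intro x
    rw [hA, hst.eval_refl hT hm, one_mul]
  · rintro B ⟨-, hfinB, hBe, c, hc⟩
    obtain ⟨μ, -, hμ, hB, -, -⟩ := Groth.Agent.H83.Cubic.involution_eq hT hs (by simp) he hfe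
      (by rw [hfinB]; simp) hBe hc
    refine Matrix.ext_iff_mulVec.2 fun x => ?_
    rw [hA, hB, Groth.Agent.H83.Cubic.m_unique hs he hm hμ]

end Groth.Agent.S18407
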