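import Groth.Statements.S18409
import Groth.Agent.H83.Cubic.Eckardt

set_option autoImplicit false
universe u
open Cubic

namespace Groth.Agent.S18409

open MvPolynomial in
/-- Let f be a nonzero homogeneous cubic in four variables over ℂ whose surface S = V_+(f) ⊂ P³ is
smooth (at every nonzero zero of f some partial derivative is nonzero); a line on S is a
2-dimensional subspace of ℂ⁴ on which f vanishes, and an Eckardt point of S is a nonzero vector
lying on three distinct lines on S. Let e and e′ be Eckardt points of S that are not proportional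
and let L be their span, a plane in ℂ⁴, i.e. the line of P³ through the two points. Then exactly one
of the two cases occurs: either f vanishes identically on L (the line lies on S), or L contains a
third Eckardt point e″, proportional to neither e nor e′, and every zero of f in L is proportional
to e, e′ or e″ (the line meets S in exactly three points, all Eckardt points). -/
theorem result (f : MvPolynomial (Fin 4) ℂ) (hf : f.IsHomogeneous 3)
    (hf0 : f ≠ 0) (hsm : ∀ v : Fin 4 → ℂ, v ≠ 0 → eval v f = 0 → ∃ i : Fin 4, eval v (pderiv i f) ≠ 0)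
    (e e' : Fin 4 → ℂ) (he : e ≠ 0) (he' : e' ∉ Submodule.span ℂ {e})
    (hE : (∃ U : Fin 3 → Submodule ℂ (Fin 4 → ℂ), Function.Injective U ∧
        ∀ i : Fin 3, Module.finrank ℂ ↥(U i) = 2 ∧ e ∈ U i ∧ ∀ u ∈ U i, eval u f = 0))
    (hE' : (∃ U : Fin 3 → Submodule ℂ (Fin 4 → ℂ), Function.Injective U ∧
        ∀ i : Fin 3, Module.finrank ℂ ↥(U i) = 2 ∧ e' ∈ U i ∧ ∀ u ∈ U i, eval u f = 0)) :
    Xor (∀ u ∈ Submodule.span ℂ {e, e'}, eval u f = 0)
      (∃ e'' : Fin 4 → ℂ, e'' ∈ Submodule.span ℂ {e, e'} ∧ e'' ∉ Submodule.span ℂ {e} ∧ e'' ∉ Submodule.span ℂ {e'} ∧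
        (∃ U : Fin 3 → Submodule ℂ (Fin 4 → ℂ), Function.Injective U ∧
        ∀ i : Fin 3, Module.finrank ℂ ↥(U i) = 2 ∧ e'' ∈ U i ∧ ∀ u ∈ U i, eval u f = 0) ∧
        ∀ u ∈ Submodule.span ℂ {e, e'}, eval u f = 0 →
          u ∈ Submodule.span ℂ {e} ∨ u ∈ Submodule.span ℂ {e'} ∨ u ∈ Submodule.span ℂ {e''}) := by
  obtain ⟨T, hT⟩ := Groth.Agent.H83.Cubic.exists_isPolar hf
  have hs := hT.smooth hsm
  have hne' : e' ≠ 0 := fun h0 => he' (h0 ▸ Submodule.zero_mem _)
  have hst := Groth.Agent.H83.Cubic.star_of_lines hT hs he hE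
  have hst' := Groth.Agent.H83.Cubic.star_of_lines hT hs hne' hE'
  have hindep : ∀ a b : ℂ, a • e + b • e' = 0 → a = 0 ∧ b = 0 := by
    intro a b hab
    have hb : b = 0 := by
      by_contra hb
      refine he' (Submodule.mem_span_singleton.2 ⟨-(a / b), ?_⟩)
      have : e' = b⁻¹ • (-(a • e)) := by
        rw [eq_inv_smul_iff₀ hb]; linear_combination (norm := module) hab
      rw [this]; module
    rw [hb, zero_smul, add_zero, smul_eq_zero] at hab
    exact ⟨hab.resolve_right he, hb⟩
  by_cases hL : ∀ u ∈ Submodule.span ℂ {e, e'}, eval u f = 0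
  · refine Or.inl ⟨hL, ?_⟩
    rintro ⟨e'', he''L, he''1, he''2, -, hz⟩
    obtain ⟨p, q, rfl⟩ := Submodule.mem_span_pair.1 he''L
    have hp : p ≠ 0 := fun h0 => he''2 (Submodule.mem_span_singleton.2 ⟨q, by simp [h0]⟩)
    have hq : q ≠ 0 := fun h0 => he''1 (Submodule.mem_span_singleton.2 ⟨p, by simp [h0]⟩)
    have hm : (2 * p) • e + q • e' ∈ Submodule.span ℂ {e, e'} :=
      Submodule.mem_span_pair.2 ⟨_, _, rfl⟩
    have hcases : ∀ r x y : ℂ, r • (x • e + y • e') = (2 * p) • e + q • e' →
        r * x = 2 * p ∧ r * y = q := by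
      intro r x y hr
      obtain ⟨h1, h2⟩ := hindep (r * x - 2 * p) (r * y - q)
        (by linear_combination (norm := module) hr)
      exact ⟨sub_eq_zero.1 h1, sub_eq_zero.1 h2⟩
    rcases hz _ hm (hL _ hm) with h1 | h1 | h1
    · obtain ⟨r, hr⟩ := Submodule.mem_span_singleton.1 h1
      exact hq (by simpa [eq_comm] using (hcases r 1 0 (by rw [← hr]; module)).2)
    · obtain ⟨r, hr⟩ := Submodule.mem_span_singleton.1 h1
      exact hp (by simpa [eq_comm] using (hcases r 0 1 (by rw [← hr]; module)).1)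
    · obtain ⟨r, hr⟩ := Submodule.mem_span_singleton.1 h1
      obtain ⟨h2, h3⟩ := hcases r p q hr
      have : r = 1 := (mul_right_cancel₀ hq (by rw [one_mul]; exact h3))
      rw [this, one_mul] at h2
      exact hp (by linear_combination -h2)
  · refine Or.inr ⟨?_, hL⟩
    obtain ⟨s, z, hs0, rfl, hz, hzero⟩ := Groth.Agent.H83.Cubic.chord_third hT hs hst hst' hL
    refine ⟨_, Submodule.mem_span_pair.2 ⟨s, 1, by module⟩, fun hm => ?_, fun hm => ?_,
      Groth.Agent.H83.Cubic.exists_lines_of_star hT hs hz, hzero⟩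
    · obtain ⟨r, hr⟩ := Submodule.mem_span_singleton.1 hm
      exact one_ne_zero (hindep (s - r) 1 (by linear_combination (norm := module) -hr)).2
    · obtain ⟨r, hr⟩ := Submodule.mem_span_singleton.1 hm
      exact hs0 (hindep s (1 - r) (by linear_combination (norm := module) -hr)).1

end Groth.Agent.S18409
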