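import Groth.Statements.S18410
import Groth.Agent.H83.Cubic.Eckardt

set_option autoImplicit false
universe u
open Cubic

namespace Groth.Agent.S18410

open MvPolynomial in
/-- Let f be a nonzero homogeneous cubic in four variables over ℂ whose surface S = V_+(f) ⊂ P³ is
smooth (at every nonzero zero of f some partial derivative is nonzero); a line on S is a
2-dimensional subspace of ℂ⁴ on which f vanishes, and an Eckardt point of S is a nonzero vector
lying on three distinct lines on S. Let e, e′ be non-proportional Eckardt points of S such that f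
vanishes on their span (the line joining them lies on S), and let A, A′ be their Eckardt
involutions: an involutory matrix A (A² = 1) whose +1-eigenspace is a hyperplane and with A·e = −e,
such that the substitution X_i ↦ Σ_j A_ij X_j multiplies f by a constant — that is, a projective
involution preserving S whose fixed locus is the disjoint union of a plane and the point of e, and
likewise A′ for e′. Then the two involutions commute as projective transformations (A·A′ is a scalar
multiple of A′·A) and each fixes the other point (A·e′ is proportional to e′ and A′·e to e). -/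
theorem result (f : MvPolynomial (Fin 4) ℂ) (hf : f.IsHomogeneous 3)
    (hf0 : f ≠ 0) (hsm : ∀ v : Fin 4 → ℂ, v ≠ 0 → eval v f = 0 → ∃ i : Fin 4, eval v (pderiv i f) ≠ 0)
    (e e' : Fin 4 → ℂ) (he : e ≠ 0) (he' : e' ∉ Submodule.span ℂ {e})
    (hE : (∃ U : Fin 3 → Submodule ℂ (Fin 4 → ℂ), Function.Injective U ∧
        ∀ i : Fin 3, Module.finrank ℂ ↥(U i) = 2 ∧ e ∈ U i ∧ ∀ u ∈ U i, eval u f = 0))
    (hE' : (∃ U : Fin 3 → Submodule ℂ (Fin 4 → ℂ), Function.Injective U ∧
        ∀ i : Fin 3, Module.finrank ℂ ↥(U i) = 2 ∧ e' ∈ U i ∧ ∀ u ∈ U i, eval u f = 0))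
    (hL : ∀ u ∈ Submodule.span ℂ {e, e'}, eval u f = 0)
    (A A' : Matrix (Fin 4) (Fin 4) ℂ)
    (hA : A * A = 1 ∧ Module.finrank ℂ ↥(LinearMap.ker (Matrix.toLin' A - LinearMap.id)) = 3 ∧
        A.mulVec e = -e ∧ ∃ c : ℂ, aeval (fun i : Fin 4 => ∑ j : Fin 4, C (A i j) * X j) f = C c * f)
    (hA' : A' * A' = 1 ∧ Module.finrank ℂ ↥(LinearMap.ker (Matrix.toLin' A' - LinearMap.id)) = 3 ∧
        A'.mulVec e' = -e' ∧ ∃ c : ℂ, aeval (fun i : Fin 4 => ∑ j : Fin 4, C (A' i j) * X j) f = C c * f) :
    (∃ c : ℂ, A * A' = c • (A' * A)) ∧ (∃ d : ℂ, A.mulVec e' = d • e') ∧ (∃ d : ℂ, A'.mulVec e = d • e) := by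
  obtain ⟨T, hT⟩ := Groth.Agent.H83.Cubic.exists_isPolar hf
  have hs := hT.smooth hsm
  have hne' : e' ≠ 0 := fun h0 => he' (h0 ▸ Submodule.zero_mem _)
  have hfe : eval e f = 0 := hL e (Submodule.subset_span (by simp))
  have hfe' : eval e' f = 0 := hL e' (Submodule.subset_span (by simp))
  obtain ⟨-, hfin, hAe, c, hc⟩ := hA
  obtain ⟨-, hfin', hAe', c', hc'⟩ := hA'
  obtain ⟨m, hm1, hm, hA, -, hst⟩ := Groth.Agent.H83.Cubic.involution_eq hT hs (by simp) he hfe
    (by rw [hfin]; simp) hAe hc
  obtain ⟨m', hm1', hm', hA', -, hst'⟩ := Groth.Agent.H83.Cubic.involution_eq hT hs (by simp) hne'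
    hfe' (by rw [hfin']; simp) hAe' hc'
  have hℓ : T e e e' = 0 := (Groth.Agent.H83.Cubic.forall_span_iff hT hst hfe').1 hL
  have hℓ' : T e' e' e = 0 :=
    (Groth.Agent.H83.Cubic.forall_span_iff hT hst' hfe).1 (Set.pair_comm e e' ▸ hL)
  have hind : ∀ a b : ℂ, a • e + b • e' = 0 → a = 0 ∧ b = 0 := by
    intro a b hab
    have hb : b = 0 := by
      by_contra hb
      refine he' (Submodule.mem_span_singleton.2 ⟨-(a / b), ?_⟩)
      have : e' = b⁻¹ • (-(a • e)) := by
        rw [eq_inv_smul_iff₀ hb]; linear_combination (norm := module) hab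
      rw [this]; module
    rw [hb, zero_smul, add_zero, smul_eq_zero] at hab
    exact ⟨hab.resolve_right he, hb⟩
  have key : ∀ y, m e' * T e e y = m' e * T e' e' y := by
    intro y
    have h1 := hm e' y
    have h2 := hm' e y
    rw [hℓ] at h1
    rw [hℓ', hT.symm₁ e' e y] at h2
    linear_combination h2 - h1
  have hme : m e' = 0 := by
    by_contra hne
    refine Groth.Agent.H83.Cubic.no_pencil hT hs (T e' e') e e' hind (fun y hy => ?_)
      (fun y hy => ?_) (fun y hy => hy)
    all_goals have h0 := key y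
    all_goals rw [hy, mul_zero] at h0
    · exact (mul_eq_zero.1 h0).resolve_left hne
    · rw [hm, hℓ, (mul_eq_zero.1 h0).resolve_left hne]; simp
  have hme' : m' e = 0 := by
    obtain ⟨y, hy⟩ := Groth.Agent.H83.Cubic.exists_apply_eq_one (hs e' hne')
    have h0 := key y
    rw [hy, hme] at h0
    linear_combination -h0
  refine ⟨⟨1, ?_⟩, ⟨1, ?_⟩, ⟨1, ?_⟩⟩
  · refine Matrix.ext_iff_mulVec.2 fun x => ?_
    simp only [one_smul, ← Matrix.mulVec_mulVec, hA, hA', Groth.Agent.H83.Cubic.refl_apply,
      map_add, map_smul, hme, hme', smul_eq_mul]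
    module
  · rw [hA, Groth.Agent.H83.Cubic.refl_apply, hme]; simp
  · rw [hA', Groth.Agent.H83.Cubic.refl_apply, hme']; simp

end Groth.Agent.S18410
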