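import Groth.Statements.S18411
import Groth.Agent.H83.Cubic.Eckardt

set_option autoImplicit false
universe u
open Cubic

namespace Groth.Agent.S18411

open MvPolynomial in
/-- Let f be a nonzero homogeneous cubic in four variables over ℂ whose surface S = V_+(f) ⊂ P³ is
smooth (at every nonzero zero of f some partial derivative is nonzero); a line on S is a
2-dimensional subspace of ℂ⁴ on which f vanishes, and an Eckardt point of S is a nonzero vector
lying on three distinct lines on S. Let e, e′, e″ be pairwise non-proportional Eckardt points of S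
spanning a single plane L = span(e, e′) of ℂ⁴ on which f does not vanish identically (three
collinear Eckardt points whose line is not on S), and let A, A′, A″ be their Eckardt involutions: an
involutory matrix A (A² = 1) whose +1-eigenspace is a hyperplane and with A·e = −e, such that the
substitution X_i ↦ Σ_j A_ij X_j multiplies f by a constant — that is, a projective involution
preserving S whose fixed locus is the disjoint union of a plane and the point of e, and likewise for
e′ and e″. Then the three involutions generate, as projective transformations, a group isomorphic to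
the symmetric group on three letters: the product A·A′ is not a scalar matrix, its cube is, and A″
is a scalar multiple of A·A′·A. -/
theorem result (f : MvPolynomial (Fin 4) ℂ) (hf : f.IsHomogeneous 3)
    (hf0 : f ≠ 0) (hsm : ∀ v : Fin 4 → ℂ, v ≠ 0 → eval v f = 0 → ∃ i : Fin 4, eval v (pderiv i f) ≠ 0)
    (e e' e'' : Fin 4 → ℂ) (he : e ≠ 0) (he' : e' ∉ Submodule.span ℂ {e})
    (he''1 : e'' ∉ Submodule.span ℂ {e}) (he''2 : e'' ∉ Submodule.span ℂ {e'}) (he''L : e'' ∈ Submodule.span ℂ {e, e'})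
    (hE : (∃ U : Fin 3 → Submodule ℂ (Fin 4 → ℂ), Function.Injective U ∧
        ∀ i : Fin 3, Module.finrank ℂ ↥(U i) = 2 ∧ e ∈ U i ∧ ∀ u ∈ U i, eval u f = 0))
    (hE' : (∃ U : Fin 3 → Submodule ℂ (Fin 4 → ℂ), Function.Injective U ∧
        ∀ i : Fin 3, Module.finrank ℂ ↥(U i) = 2 ∧ e' ∈ U i ∧ ∀ u ∈ U i, eval u f = 0))
    (hE'' : (∃ U : Fin 3 → Submodule ℂ (Fin 4 → ℂ), Function.Injective U ∧
        ∀ i : Fin 3, Module.finrank ℂ ↥(U i) = 2 ∧ e'' ∈ U i ∧ ∀ u ∈ U i, eval u f = 0))
    (hL : ¬ ∀ u ∈ Submodule.span ℂ {e, e'}, eval u f = 0)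
    (A A' A'' : Matrix (Fin 4) (Fin 4) ℂ)
    (hA : A * A = 1 ∧ Module.finrank ℂ ↥(LinearMap.ker (Matrix.toLin' A - LinearMap.id)) = 3 ∧
        A.mulVec e = -e ∧ ∃ c : ℂ, aeval (fun i : Fin 4 => ∑ j : Fin 4, C (A i j) * X j) f = C c * f)
    (hA' : A' * A' = 1 ∧ Module.finrank ℂ ↥(LinearMap.ker (Matrix.toLin' A' - LinearMap.id)) = 3 ∧
        A'.mulVec e' = -e' ∧ ∃ c : ℂ, aeval (fun i : Fin 4 => ∑ j : Fin 4, C (A' i j) * X j) f = C c * f)
    (hA'' : A'' * A'' = 1 ∧ Module.finrank ℂ ↥(LinearMap.ker (Matrix.toLin' A'' - LinearMap.id)) = 3 ∧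
        A''.mulVec e'' = -e'' ∧ ∃ c : ℂ, aeval (fun i : Fin 4 => ∑ j : Fin 4, C (A'' i j) * X j) f = C c * f) :
    (¬ ∃ c : ℂ, A * A' = c • (1 : Matrix (Fin 4) (Fin 4) ℂ)) ∧ (∃ c : ℂ, (A * A') ^ 3 = c • (1 : Matrix (Fin 4) (Fin 4) ℂ)) ∧
      ∃ c : ℂ, A'' = c • (A * A' * A) := by
  obtain ⟨T, hT⟩ := Groth.Agent.H83.Cubic.exists_isPolar hf
  have hs := hT.smooth hsm
  have hne' : e' ≠ 0 := fun h0 => he' (h0 ▸ Submodule.zero_mem _)
  have hne'' : e'' ≠ 0 := fun h0 => he''1 (h0 ▸ Submodule.zero_mem _)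
  have hst := Groth.Agent.H83.Cubic.star_of_lines hT hs he hE
  have hst' := Groth.Agent.H83.Cubic.star_of_lines hT hs hne' hE'
  have hst'' := Groth.Agent.H83.Cubic.star_of_lines hT hs hne'' hE''
  have hfe : eval e f = 0 := by rw [hT.eval_eq, hst.2.1]
  have hfe' : eval e' f = 0 := by rw [hT.eval_eq, hst'.2.1]
  have hfe'' : eval e'' f = 0 := by rw [hT.eval_eq, hst''.2.1]
  obtain ⟨hAA, hfin, hAe, c, hc⟩ := hA
  obtain ⟨hAA', hfin', hAe', c', hc'⟩ := hA'
  obtain ⟨hAA'', hfin'', hAe'', c'', hc''⟩ := hA''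
  obtain ⟨m, hm1, hm, hA, -, -⟩ := Groth.Agent.H83.Cubic.involution_eq hT hs (by simp) he hfe
    (by rw [hfin]; simp) hAe hc
  obtain ⟨m', hm1', hm', hA', -, -⟩ := Groth.Agent.H83.Cubic.involution_eq hT hs (by simp) hne'
    hfe' (by rw [hfin']; simp) hAe' hc'
  obtain ⟨m'', -, hm'', hA'', -, -⟩ := Groth.Agent.H83.Cubic.involution_eq hT hs (by simp) hne''
    hfe'' (by rw [hfin'']; simp) hAe'' hc''
  obtain ⟨a, b, hab⟩ := Submodule.mem_span_pair.1 he''L
  have ha : a ≠ 0 := fun h0 => he''2 (Submodule.mem_span_singleton.2 ⟨b, by rw [← hab, h0]; simp⟩)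
  have hb : b ≠ 0 := fun h0 => he''1 (Submodule.mem_span_singleton.2 ⟨a, by rw [← hab, h0]; simp⟩)
  have h0 : T e e e' ≠ 0 := fun h0 =>
    hL ((Groth.Agent.H83.Cubic.forall_span_iff hT hst hfe').2 h0)
  have h0' : T e' e' e ≠ 0 := fun h0 => hL (by
    rw [Set.pair_comm]; exact (Groth.Agent.H83.Cubic.forall_span_iff hT hst' hfe).2 h0)
  have hc1 : A * A' * A = A'' := Groth.Agent.H83.Cubic.conj_eq hT hs (by simp) hst hst' hst''
    hm1 hm1' hm hm' hm'' hA hA' hA'' h0 ha hb hab
  have hc2 : A' * A * A' = A'' := Groth.Agent.H83.Cubic.conj_eq hT hs (by simp) hst' hst hst''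
    hm1' hm1 hm' hm hm'' hA' hA hA'' h0' hb ha (by rw [← hab]; module)
  refine ⟨?_, ⟨1, ?_⟩, ⟨1, by rw [one_smul, hc1]⟩⟩
  · rintro ⟨d, hd⟩
    have h1 : A' = d • A := by
      have := congrArg (A * ·) hd
      simpa [← _root_.mul_assoc, hAA] using this
    have h2 : -e' = d • A.mulVec e' := by rw [← hAe', h1, Matrix.smul_mulVec]
    rw [hA, Groth.Agent.H83.Cubic.refl_chord hT hm h0] at h2
    have hs0 : T e e' e' / T e e e' ≠ 0 := by
      refine div_ne_zero ?_ h0
      rw [hT.symm₃ e e' e']; exact h0'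
    by_cases hd0 : d = 0
    · rw [hd0, zero_smul, neg_eq_zero] at h2
      exact hne' h2
    · refine he''1 (Submodule.mem_span_singleton.2 ?_)
      by_cases hd1 : d = -1
      · exfalso
        rw [hd1] at h2
        have : (T e e' e' / T e e e') • e = 0 := by linear_combination (norm := module) -h2
        exact (smul_ne_zero hs0 he) this
      · exfalso
        refine he' (Submodule.mem_span_singleton.2
          ⟨(d + 1)⁻¹ * (d * (T e e' e' / T e e e')), ?_⟩)
        rw [mul_smul, inv_smul_eq_iff₀ (fun h => hd1 (eq_neg_of_add_eq_zero_left h))]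
        linear_combination (norm := module) h2
  · rw [one_smul]
    calc (A * A') ^ 3 = (A * A' * A) * (A' * A * A') := by
          simp only [pow_succ, pow_zero, one_mul, _root_.mul_assoc]
      _ = 1 := by rw [hc1, hc2, hAA'']

end Groth.Agent.S18411
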