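import Groth.Statements.S18414
import Groth.Agent.Lib.EtSite.ASProper
import Groth.Agent.Lib.LangSep98.Basic

set_option autoImplicit false
universe u
open CategoryTheory AlgebraicGeometry
open EtCoh

namespace Groth.Agent.S18414

/-- In the case of a proper scheme — let k be a separably closed field of characteristic p > 0 and X a
scheme proper over k, so that p = 0 in Γ(X, O_X). Then for every q ≥ 0 the endomorphism of the étale
cohomology group H^q(X_et, G_a) induced by the Artin–Schreier endomorphism x ↦ x^p − x of G_a is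
surjective; by the long exact sequence of 0 → Z/p → G_a → G_a → 0 this says that 0 → H^q(X_et, Z/p)
→ H^q(X_et, G_a) → H^q(X_et, G_a) → 0 is exact for every q. (The published statement writes the
middle terms as the Zariski cohomology H^q(X, O_X), canonically isomorphic to H^q(X_et, G_a), and
also records the vanishing of H^q(X_et, Z/p) for q > dim X, and for q ≥ 2 when X is affine.) -/
theorem result
    {k : Type u} [Field k] [IsSepClosed k] (p : ℕ) [hp : Fact p.Prime] [CharP k p]
    {X : Scheme.{u}} (f : X ⟶ Spec (CommRingCat.of k)) [IsProper f]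
    (h0 : (p : Γ(X, ⊤)) = 0) (q : ℕ) :
    Function.Surjective
      ((EtCoh.HF X q).map (W4c5etcohweilstudent.artinSchreierEndo X p hp.out h0)) := by
  open Groth.Agent.Lib Groth.Agent.Lib.EtQCoh in
  letI := GaEnd.moduleGa (Coh.toGlobal f) q
  open Groth.Agent.Lib Groth.Agent.Lib.EtQCoh in
  haveI : Module.Finite k (EtCoh.H X (EtCoh.Ga X) q) := GaEnd.finite_moduleGa f q
  have hg : W4c5etcohweilstudent.artinSchreierEndo X p hp.out h0 =
      Groth.Agent.Lib.EtSite.ArtinSchreier.frobSub p h0 := by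
    apply Sheaf.hom_ext
    ext U x
    rfl
  rw [hg]
  let g := Groth.Agent.Lib.EtSite.ArtinSchreier.frobSub p h0
  let F : EtCoh.H X (EtCoh.Ga X) q →+ EtCoh.H X (EtCoh.Ga X) q :=
    (CategoryTheory.Abelian.Ext.mk₀ (g + 𝟙 _)).postcomp _ (add_zero q)
  have hF : ∀ (c : k) x, F (c • x) = c ^ p • F x := fun c x => by
    open Groth.Agent.Lib.EtQCoh CategoryTheory.Abelian in
    change Ext.comp (Ext.comp x (Ext.mk₀ (GaEnd.mulC (Coh.toGlobal f c))) (add_zero q))
      (Ext.mk₀ (g + 𝟙 _)) (add_zero q) = Ext.comp (Ext.comp x (Ext.mk₀ (g + 𝟙 _)) (add_zero q))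
      (Ext.mk₀ (GaEnd.mulC (Coh.toGlobal f (c ^ p)))) (add_zero q)
    open Groth.Agent.Lib.EtQCoh CategoryTheory.Abelian in
    rw [Ext.comp_assoc_of_third_deg_zero, Ext.comp_assoc_of_third_deg_zero, Ext.mk₀_comp_mk₀,
      Ext.mk₀_comp_mk₀, map_pow]
    exact congrArg (fun m => CategoryTheory.Abelian.Ext.comp x (CategoryTheory.Abelian.Ext.mk₀ m) (add_zero q))
      (Groth.Agent.Lib.EtSite.ASProper.mulC_frob p h0 _)
  intro w
  obtain ⟨v, hv⟩ := Groth.Agent.Lib.LangSep98.Basic.sub_id_surjective p F hF w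
  refine ⟨v, ?_⟩
  change CategoryTheory.Abelian.Ext.comp v (CategoryTheory.Abelian.Ext.mk₀ g) (add_zero q) = w
  rw [← hv]
  change _ = CategoryTheory.Abelian.Ext.comp v (CategoryTheory.Abelian.Ext.mk₀ (g + 𝟙 _)) (add_zero q) - v
  rw [CategoryTheory.Abelian.Ext.mk₀_add, CategoryTheory.Abelian.Ext.comp_add,
    CategoryTheory.Abelian.Ext.comp_mk₀_id, add_sub_cancel_right]

end Groth.Agent.S18414
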