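import Groth.Statements.S18415
import Groth.Agent.Lib.EtSite.Kummer

set_option autoImplicit false
universe u
open CategoryTheory AlgebraicGeometry
open EtCoh Opposite Groth.Agent.Lib.EtSite.Basic

namespace Groth.Agent.S18415

open Polynomial in
/-- The standard étale pair `(T^p - T - a, 1)`. -/
private noncomputable def asPair {R : Type u} [CommRing R] (a : R) {p : ℕ} (hp : p.Prime) (h0 : (p : R) = 0) :
    StandardEtalePair R where
  f := Polynomial.X ^ p - (Polynomial.X + Polynomial.C a)
  monic_f := Polynomial.monic_X_pow_sub (by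
    refine lt_of_le_of_lt (degree_add_le _ _) (max_lt ?_ ?_)
    · exact lt_of_le_of_lt degree_X_le (by exact_mod_cast hp.one_lt)
    · exact lt_of_le_of_lt degree_C_le (by exact_mod_cast hp.pos))
  g := 1
  cond := ⟨-1, 0, 1, by simp [derivative_X_pow, h0]⟩

private theorem exists_as_cover {R : CommRingCat.{u}} (a : R) {p : ℕ} (hp : p.Prime) (h0 : (p : R) = 0) :
    ∃ (D : CommRingCat.{u}) (π : R ⟶ D) (b : D), Etale (Spec.map π) ∧
      (∀ c, ∃ d, (Spec.map π).base d = c) ∧ b ^ p - b = π.hom a := by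
  let P := asPair a hp h0
  have hX : P.X ^ p - P.X = algebraMap R P.Ring a := by
    have h := P.hasMap_X.1
    change Polynomial.aeval P.X (Polynomial.X ^ p - (Polynomial.X + Polynomial.C a)) = 0 at h
    rw [map_sub, map_pow, map_add, Polynomial.aeval_X, Polynomial.aeval_C, sub_eq_zero] at h
    rw [h]; ring
  refine ⟨CommRingCat.of P.Ring, CommRingCat.ofHom (algebraMap R P.Ring), P.X,
    (HasRingHomProperty.Spec_iff (P := @Etale)).2 (RingHom.etale_algebraMap.2 inferInstance),
    fun c => ?_, hX⟩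
  let q : PrimeSpectrum R := c
  let K := AlgebraicClosure q.asIdeal.ResidueField
  obtain ⟨x, hx⟩ := IsAlgClosed.exists_root
    (Polynomial.X ^ p - (Polynomial.X + Polynomial.C (algebraMap R K a))) (by
      rw [Polynomial.degree_sub_eq_left_of_degree_lt] <;>
        simp [Polynomial.degree_X_pow, hp.one_lt, hp.ne_zero])
  have hm : P.HasMap x := by
    refine ⟨?_, ?_⟩
    · change Polynomial.aeval x (Polynomial.X ^ p - (Polynomial.X + Polynomial.C a)) = 0
      simpa [Polynomial.IsRoot] using hx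
    · change IsUnit (Polynomial.aeval x (1 : Polynomial R))
      rw [map_one]
      exact isUnit_one
  refine ⟨⟨RingHom.ker (P.lift x hm).toRingHom, RingHom.ker_isPrime _⟩,
    PrimeSpectrum.ext (Ideal.ext fun r => ?_)⟩
  change P.lift x hm (algebraMap R P.Ring r) = 0 ↔ r ∈ q.asIdeal
  rw [AlgHom.commutes, IsScalarTower.algebraMap_apply R q.asIdeal.ResidueField K,
    map_eq_zero_iff _ (RingHom.injective _), Ideal.algebraMap_residueField_eq_zero]

/-- Let p be a prime and X a scheme with p = 0 in Γ(X, O_X). Then the Artin–Schreier endomorphism x ↦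
x^p − x of the additive group sheaf G_a on the small étale site of X is an epimorphism of abelian
étale sheaves (the right-hand exactness of 0 → Z/p → G_a → G_a → 0 on X_et). (The published example
takes X a variety over a field of characteristic p; this row assumes only that p = 0 in Γ(X, O_X).) -/
theorem result
    (p : ℕ) (hp : p.Prime) {X : Scheme.{u}} (h0 : (p : Γ(X, ⊤)) = 0) :
    Epi (W4c5etcohweilstudent.artinSchreierEndo X p hp h0) := by
  rw [← Sheaf.isLocallySurjective_iff_epi']
  refine ⟨fun {U} t => (mem_topology_iff _).2 fun u => ?_⟩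
  obtain ⟨C, j, hj, ⟨c, hc⟩, -⟩ := Scheme.exists_affine_mem_range_and_range_subset
    (x := u) (U := (⊤ : U.left.Opens)) trivial
  have : Etale U.hom := U.prop
  let r : Γ(X, ⊤) ⟶ C := (j ≫ U.hom).appTop ≫ (Scheme.ΓSpecIso C).hom
  have hpC : (p : C) = 0 := by simpa using congrArg r.hom h0
  let a₀ : Γ(U.left, ⊤) := ULift.down t
  let ρ : Γ(U.left, ⊤) ⟶ C := j.appTop ≫ (Scheme.ΓSpecIso C).hom
  obtain ⟨D, π, b, hπ, hsurj, hb⟩ := exists_as_cover (ρ.hom a₀) hp hpC
  obtain ⟨d, hd⟩ := hsurj c
  let V : X.Etale := MorphismProperty.Over.mk ⊤ ((Spec.map π ≫ j) ≫ U.hom)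
    (show Etale _ from inferInstance)
  let g : V ⟶ U := MorphismProperty.Over.homMk (Spec.map π ≫ j) rfl
  refine ⟨V, g, ⟨ULift.up ((Scheme.ΓSpecIso D).inv.hom b), ?_⟩, d, ?_⟩
  · have key : ((Scheme.ΓSpecIso D).inv.hom b) ^ p - (Scheme.ΓSpecIso D).inv.hom b =
        (Spec.map π ≫ j).appTop.hom a₀ := by
      rw [← map_pow, ← map_sub, hb]
      change ((j.appTop ≫ (Scheme.ΓSpecIso C).hom) ≫ π ≫ (Scheme.ΓSpecIso D).inv).hom a₀ =
        (Spec.map π ≫ j).appTop.hom a₀
      rw [Scheme.Hom.comp_appTop, Category.assoc, Scheme.ΓSpecIso_inv_naturality,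
        Iso.hom_inv_id_assoc]
    exact congrArg ULift.up key
  · change (Spec.map π ≫ j).base d = u
    rw [Scheme.Hom.comp_apply, hd, hc]

end Groth.Agent.S18415
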