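import Groth.Statements.S18416
import Groth.Agent.H20.LocalSurj
import Mathlib.RingTheory.RingHom.Etale
import Mathlib.RingTheory.Smooth.Basic
import Mathlib.RingTheory.Etale.Kaehler
import Mathlib.LinearAlgebra.Dimension.Constructions
import Mathlib.RingTheory.LocalRing.Module

set_option autoImplicit false
universe u v w
open CAlg

namespace Groth.Agent.S18416

open TensorProduct KaehlerDifferential in
theorem etale_quot_of_basis {C T : Type*} [CommRing C] [CommRing T] [Algebra C T] [Algebra.Smooth C T]
    {d : ℕ} (g : Fin d → T) (b : Module.Basis (Fin d) T (Ω[T⁄C])) (hb : ∀ i, b i = D C T (g i)) :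
    Algebra.Etale C (T ⧸ Ideal.span (Set.range g)) := by
  classical
  let J0 : Ideal T := Ideal.span (Set.range g)
  let S := T ⧸ J0
  have hsurj : Function.Surjective (algebraMap T S) := Ideal.Quotient.mk_surjective
  have hmem : ∀ i, g i ∈ RingHom.ker (algebraMap T S) := fun i => by
    rw [RingHom.mem_ker]
    exact Ideal.Quotient.eq_zero_iff_mem.mpr (Ideal.subset_span ⟨i, rfl⟩)
  have hJ : ∀ x, x ∈ RingHom.ker (algebraMap T S) → x ∈ J0 := fun x hx =>
    Ideal.Quotient.eq_zero_iff_mem.mp (RingHom.mem_ker.mp hx)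
  haveI : Algebra.FormallySmooth C S := by
    let K := RingHom.ker (algebraMap T S)
    let l0 : Ω[T⁄C] →ₗ[T] K.Cotangent := b.constr T fun i => K.toCotangent ⟨g i, hmem i⟩
    let L : S →ₗ[T] Ω[T⁄C] →ₗ[T] K.Cotangent :=
      Submodule.liftQ J0 (LinearMap.toSpanSingleton T _ l0) fun j hj => by
        rw [LinearMap.mem_ker, LinearMap.toSpanSingleton_apply]
        refine LinearMap.ext fun ω => ?_
        exact Ideal.Cotangent.smul_eq_zero_of_mem
          (RingHom.mem_ker.mpr (Ideal.Quotient.eq_zero_iff_mem.mpr hj)) _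
    refine (Algebra.FormallySmooth.iff_split_injection (P := T) hsurj).mpr
      ⟨TensorProduct.lift L, LinearMap.ext fun z => ?_⟩
    obtain ⟨⟨x, hx⟩, rfl⟩ := K.toCotangent_surjective z
    rw [LinearMap.comp_apply, LinearMap.id_apply]
    show TensorProduct.lift L ((1 : S) ⊗ₜ[T] D C T x) = _
    rw [TensorProduct.lift.tmul]
    have h1 : ∀ ω, L 1 ω = l0 ω := fun ω => by
      show L (Submodule.Quotient.mk 1) ω = _
      rw [Submodule.liftQ_apply, LinearMap.toSpanSingleton_apply, one_smul]
    rw [h1]
    obtain ⟨c, hc⟩ := Submodule.mem_span_range_iff_exists_fun T |>.mp (hJ x hx)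
    have hrest : ∀ (i : Fin d), l0 (D C T (c i • g i)) = K.toCotangent (c i • ⟨g i, hmem i⟩) := fun i => by
      rw [smul_eq_mul, Derivation.leibniz, map_add, map_smul, map_smul, ← hb]
      simp only [l0, Module.Basis.constr_basis]
      rw [Ideal.Cotangent.smul_eq_zero_of_mem (hmem i), add_zero, map_smul]
    have hx' : (⟨x, hx⟩ : K) = ∑ i, c i • (⟨g i, hmem i⟩ : K) :=
      Subtype.ext (by simpa using hc.symm)
    rw [hx', map_sum, ← hc, map_sum, map_sum]
    exact Finset.sum_congr rfl fun i _ => hrest i
  haveI : Algebra.FormallyUnramified C S := by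
    refine ⟨?_⟩
    have hz : ∀ ω, KaehlerDifferential.map C C T S ω = 0 := by
      intro ω
      rw [← b.sum_repr ω, map_sum]
      refine Finset.sum_eq_zero fun i _ => ?_
      rw [map_smul, hb, map_D, RingHom.mem_ker.mp (hmem i), map_zero, smul_zero]
    have : (⊤ : Submodule S (Ω[S⁄C])) ≤ ⊥ := by
      rw [← span_range_derivation C S, Submodule.span_le]
      rintro _ ⟨s, rfl⟩
      obtain ⟨t, rfl⟩ := hsurj s
      rw [SetLike.mem_coe, Submodule.mem_bot, ← map_D C C T S]
      exact hz _
    exact subsingleton_of_forall_eq 0 fun x => (Submodule.mem_bot S).mp (this trivial)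
  haveI : Algebra.FormallyEtale C S :=
    Algebra.FormallyEtale.iff_formallyUnramified_and_formallySmooth.mpr ⟨‹_›, ‹_›⟩
  haveI : Algebra.FinitePresentation C S :=
    Algebra.FinitePresentation.quotient (Submodule.fg_span (Set.finite_range g))
  exact ⟨‹_›, ‹_›⟩

open TensorProduct KaehlerDifferential in
theorem exists_gens {C B : Type*} [CommRing C] [CommRing B] [Algebra C B] [Algebra.Smooth C B]
    (J : Ideal B) (hsurj : Function.Surjective ((Ideal.Quotient.mk J).comp (algebraMap C B)))
    (P : Ideal B) [P.IsPrime] :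
    ∃ (d : ℕ) (g : Fin d → B), (∀ i, g i ∈ J) ∧ ∃ r ∉ P,
      Function.Bijective (LocalizedModule.map (Submonoid.powers r)
        (Fintype.linearCombination B fun i => D C B (g i))) := by
  classical
  let κ := P.ResidueField
  have hspanΩ : Submodule.span B (D C B '' (J : Set B)) = ⊤ := by
    rw [eq_top_iff, ← span_range_derivation C B, Submodule.span_le]
    rintro _ ⟨b, rfl⟩
    obtain ⟨c, hc⟩ := hsurj (Ideal.Quotient.mk J b)
    have hj : b - algebraMap C B c ∈ J := by
      rw [← Ideal.Quotient.eq]; exact hc.symm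
    have : D C B b = D C B (b - algebraMap C B c) := by
      rw [map_sub, Derivation.map_algebraMap, sub_zero]
    rw [this]
    exact Submodule.subset_span ⟨_, hj, rfl⟩
  have hspan : Submodule.span κ (Set.range fun j : J => (1 : κ) ⊗ₜ[B] D C B (j : B)) = ⊤ := by
    have := congrArg (fun N => N.baseChange κ) hspanΩ
    rw [Submodule.baseChange_top, Submodule.baseChange_span] at this
    refine Eq.trans ?_ this
    congr 1
    ext z
    constructor
    · rintro ⟨j, rfl⟩; exact ⟨_, ⟨j, j.2, rfl⟩, rfl⟩
    · rintro ⟨_, ⟨j, hj, rfl⟩, rfl⟩; exact ⟨⟨j, hj⟩, rfl⟩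
  obtain ⟨s, hs⟩ := exists_linearIndependent κ (Set.range fun j : J => (1 : κ) ⊗ₜ[B] D C B (j : B))
  obtain ⟨hsub, hsp, hli⟩ := hs
  let bas : Module.Basis s κ (κ ⊗[B] Ω[B⁄C]) :=
    Module.Basis.mk hli (by rw [Subtype.range_coe_subtype, Set.setOf_mem_eq, hsp, hspan])
  haveI : Fintype s := FiniteDimensional.fintypeBasisIndex bas
  let e := (Fintype.equivFin s).symm
  choose j hj using fun i => hsub (e i).2
  refine ⟨Fintype.card s, fun i => (j i : B), fun i => (j i).2, ?_⟩
  let φ := Fintype.linearCombination B fun i => D C B (j i : B)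
  let p : PrimeSpectrum B := ⟨P, inferInstance⟩
  have h1 : Function.Surjective (φ.lTensor κ) := by
    rw [← LinearMap.range_eq_top]
    have : LinearMap.range (φ.baseChange κ) = ⊤ := by
      rw [eq_top_iff, ← (bas.reindex e.symm).span_eq, Submodule.span_le]
      rintro _ ⟨i, rfl⟩
      refine ⟨(1 : κ) ⊗ₜ Pi.single i 1, ?_⟩
      rw [LinearMap.baseChange_tmul, Fintype.linearCombination_apply_single, one_smul,
        Module.Basis.reindex_apply, Equiv.symm_symm, Module.Basis.mk_apply]
      exact hj i
    rw [eq_top_iff]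
    intro z _
    obtain ⟨y, hy⟩ := this.ge (Submodule.mem_top : z ∈ ⊤)
    exact ⟨y, hy⟩
  have h2 : Function.Surjective (LocalizedModule.map P.primeCompl φ) :=
    (Groth.Agent.H20.LocalSurj.surjective_localized_atPrime_iff φ p).mpr
      ((Groth.Agent.H20.LocalSurj.surjective_lTensor_residueField_iff φ p).mp h1)
  haveI : Module.Free (Localization.AtPrime P) (LocalizedModule P.primeCompl (Ω[B⁄C])) :=
    Module.free_of_flat_of_isLocalRing
  have h3 : Module.finrank (Localization.AtPrime P) (LocalizedModule P.primeCompl (Ω[B⁄C])) =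
      Fintype.card s := by
    rw [← Module.finrank_eq_card_basis bas]
    let u : κ ⊗[B] Ω[B⁄C] ≃ₗ[κ] κ ⊗[Localization.AtPrime P] LocalizedModule P.primeCompl (Ω[B⁄C]) :=
      (TensorProduct.AlgebraTensorModule.cancelBaseChange B (Localization.AtPrime P) κ κ (Ω[B⁄C])).symm ≪≫ₗ
        TensorProduct.AlgebraTensorModule.congr (LinearEquiv.refl κ κ)
          ((LocalizedModule.equivTensorProduct P.primeCompl (Ω[B⁄C])).symm)
    rw [u.finrank_eq, Module.finrank_baseChange]
  have h4 : Function.Bijective (LocalizedModule.map P.primeCompl φ) := by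
    haveI : Module.Free (Localization.AtPrime P) (LocalizedModule P.primeCompl (Fin (Fintype.card s) → B)) :=
      Module.free_of_flat_of_isLocalRing
    refine OrzechProperty.bijective_of_surjective_of_finrank_le _ h2 ?_
    rw [h3]
    refine le_of_eq ?_
    change Module.rankAtStalk (R := B) (Fin (Fintype.card s) → B) p = _
    rw [Module.rankAtStalk_eq_finrank_of_free]
    haveI : Nontrivial B := ⟨⟨0, 1, fun h => Ideal.IsPrime.ne_top ‹P.IsPrime›
      ((Ideal.eq_top_iff_one P).mpr (h ▸ P.zero_mem))⟩⟩
    simp [← Set.toFinset_card, Set.ncard_eq_toFinset_card']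
  haveI : Module.FinitePresentation B (Ω[B⁄C]) := Module.finitePresentation_of_projective B _
  obtain ⟨r, hr, hbij⟩ := exists_bijective_map_powers P.primeCompl
    (LocalizedModule.mkLinearMap P.primeCompl _) (LocalizedModule.mkLinearMap P.primeCompl _) φ h4
  exact ⟨r, hr, hbij r dvd_rfl⟩

/-- Let R → C and C → B be smooth ring homomorphisms, J an ideal of B and K the preimage of J in C, and
suppose that C surjects onto A = B/J (so that C/K = B/J = A). Then for every prime x of A there
exist f ∈ B whose image in A does not lie in x and an ideal J₀ of B_f contained in J B_f such that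
the composite C → B_f → B_f/J₀ is étale. -/
theorem result (R : Type u) (C : Type v) (B : Type w)
    [CommRing R] [CommRing C] [CommRing B] [Algebra R C] [Algebra C B] [Algebra R B] [IsScalarTower R C B]
    [Algebra.Smooth R C] [Algebra.Smooth C B] (J : Ideal B)
    (hsurj : Function.Surjective ((Ideal.Quotient.mk J).comp (algebraMap C B)))
    (x : PrimeSpectrum (B ⧸ J)) :
    ∃ f : B, Ideal.Quotient.mk J f ∉ x.asIdeal ∧
      ∃ J₀ : Ideal (Localization.Away f), J₀ ≤ J.map (algebraMap B (Localization.Away f)) ∧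
        ((Ideal.Quotient.mk J₀).comp ((algebraMap B (Localization.Away f)).comp (algebraMap C B))).Etale := by
  classical
  let P := x.asIdeal.comap (Ideal.Quotient.mk J)
  haveI : P.IsPrime := Ideal.IsPrime.comap _
  obtain ⟨d, g, hgJ, r, hr, hbij⟩ := exists_gens (C := C) J hsurj P
  let T := Localization.Away r
  haveI : Algebra.Smooth B T := ⟨Algebra.FormallySmooth.of_isLocalization (Submonoid.powers r),
    Algebra.FinitePresentation.of_isLocalizationAway r⟩
  haveI : Algebra.Smooth C T := Algebra.Smooth.comp C B T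
  let S₀ := Submonoid.powers r
  let φ := Fintype.linearCombination B fun i => KaehlerDifferential.D C B (g i)
  let fΩ := KaehlerDifferential.map C C B T
  haveI : IsLocalizedModule S₀ fΩ := KaehlerDifferential.isLocalizedModule_map C B T S₀
  let fM : (Fin d → B) →ₗ[B] (Fin d → T) :=
    LinearMap.pi fun i => (Algebra.linearMap B T).comp (LinearMap.proj i)
  haveI : IsLocalizedModule S₀ fM := inferInstance
  let e1 := IsLocalizedModule.iso S₀ fM
  let e2 := IsLocalizedModule.iso S₀ fΩ
  let ψ := IsLocalizedModule.map S₀ fM fΩ φ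
  have hψ : Function.Bijective ψ := by
    have : ψ = e2.toLinearMap ∘ₗ (LocalizedModule.map S₀ φ).restrictScalars B ∘ₗ e1.symm.toLinearMap := by
      refine IsLocalizedModule.ext S₀ fM (IsLocalizedModule.map_units fΩ) ?_
      refine LinearMap.ext fun v => ?_
      simp [ψ, e1, e2, IsLocalizedModule.iso_symm_apply', IsLocalizedModule.iso_apply_mk, LocalizedModule.map_mk]
    rw [this]
    exact e2.bijective.comp (hbij.comp e1.symm.bijective)
  let ψT : (Fin d → T) →ₗ[T] Ω[T⁄C] := ψ.extendScalarsOfIsLocalization S₀ T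
  let eT := LinearEquiv.ofBijective ψT hψ
  let b : Module.Basis (Fin d) T (Ω[T⁄C]) := (Pi.basisFun T (Fin d)).map eT
  have hb : ∀ i, b i = KaehlerDifferential.D C T (algebraMap B T (g i)) := by
    intro i
    have h1 : fM (Pi.single i 1) = Pi.basisFun T (Fin d) i := by
      ext k
      simp [fM, Pi.single_apply, apply_ite (algebraMap B T)]
    rw [Module.Basis.map_apply, ← h1]
    show ψ (fM (Pi.single i 1)) = _
    rw [IsLocalizedModule.map_apply, Fintype.linearCombination_apply_single, one_smul,
      KaehlerDifferential.map_D]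
  have het := etale_quot_of_basis (fun i => algebraMap B T (g i)) b hb
  refine ⟨r, hr, Ideal.span (Set.range fun i => algebraMap B T (g i)), ?_, ?_⟩
  · rw [Ideal.span_le]
    rintro _ ⟨i, rfl⟩
    exact Ideal.mem_map_of_mem _ (hgJ i)
  · rw [← IsScalarTower.algebraMap_eq C B T]
    exact RingHom.etale_algebraMap.mpr het

end Groth.Agent.S18416
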