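import Groth.Statements.S18418
import Mathlib.Data.ENat.BigOperators
import Mathlib.RingTheory.WittVector.DiscreteValuationRing
import Mathlib.RingTheory.Length
import Mathlib.Algebra.Module.PID
import Mathlib.RingTheory.Nakayama
import Mathlib.RingTheory.Artinian.Module
import Mathlib.RingTheory.FiniteLength
-- import your own Groth.Agent.* helpers here

set_option autoImplicit false
universe u v
open FonLaf

namespace Groth.Agent.S18418

/-- Let k be a perfect field of characteristic p and W = W(k) its ring of Witt vectors with Frobenius σ.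
Fix r and W-modules of finite length N_0 = M, N_1, N_2, … with W-linear maps α_i : N_{i+1} → N_i and
σ-semilinear maps φ_i : N_i → M such that φ_i ∘ α_i = p φ_{i+1} for all i < r. Let ι be the map
sending (x_1, …, x_r) ∈ N_1 ⊕ ⋯ ⊕ N_r to (α_0 x_1, α_1 x_2 − p x_1, …, α_{r−1} x_r − p x_{r−1}, −p
x_r) ∈ N_0 ⊕ ⋯ ⊕ N_r, and Φ the map N_0 ⊕ ⋯ ⊕ N_r → M, (y_i) ↦ Σ_i φ_i(y_i). Suppose that Φ is
surjective and that its kernel is contained in the image of ι (with the displayed relation this says
that Φ induces a σ-semilinear bijection from the cokernel of ι onto M). Then for every i < r the map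
α_i is injective and its image is a direct summand of N_i (so the N_i form a filtration of M by
direct summands, the data of a Fontaine–Laffaille module). Families are indexed by all natural
numbers; only the indices ≤ r enter. -/
theorem result (p : ℕ) [Fact p.Prime]
    (k : Type u) [Field k] [CharP k p] [PerfectRing k p] (r : ℕ)
    (N : ℕ → Type v) [∀ i, AddCommGroup (N i)] [∀ i, Module (WittVector p k) (N i)]
    (hfl : ∀ i, IsFiniteLength (WittVector p k) (N i))
    (α : ∀ i, N (i + 1) →ₗ[WittVector p k] N i)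
    (φ : ∀ i, N i →ₛₗ[(WittVector.frobenius : WittVector p k →+* WittVector p k)] N 0)
    (hφ : ∀ i, i < r → ∀ y : N (i + 1), φ i (α i y) = (p : WittVector p k) • φ (i + 1) y)
    (hsurj : ∀ m : N 0, ∃ y : (i : ℕ) → N i, (∀ i, r < i → y i = 0) ∧
      (Finset.range (r + 1)).sum (fun i => φ i (y i)) = m)
    (hker : ∀ y : (i : ℕ) → N i, (∀ i, r < i → y i = 0) →
      (Finset.range (r + 1)).sum (fun i => φ i (y i)) = 0 →
        ∃ z : (i : ℕ) → N (i + 1), (∀ i, r ≤ i → z i = 0) ∧
          y 0 = α 0 (z 0) ∧ ∀ i, y (i + 1) = α (i + 1) (z (i + 1)) - (p : WittVector p k) • z i)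
    (i : ℕ) (hi : i < r) :
    Function.Injective (α i) ∧
      ∃ Q : Submodule (WittVector p k) (N i), IsCompl (LinearMap.range (α i)) Q := by
  classical
  set W := WittVector p k
  set pW : W := (p : W) with hpW
  haveI hσ : RingHomSurjective (WittVector.frobenius : W →+* W) := ⟨(WittVector.frobenius_bijective p k).2⟩
  have hσp : ∀ n : ℕ, (WittVector.frobenius : W →+* W) (pW ^ n) = pW ^ n := fun n => by
    rw [map_pow, hpW, map_natCast]
  let T : ℕ → ∀ j, Submodule W (N j) := fun s j => LinearMap.range ((pW ^ s) • (LinearMap.id : N j →ₗ[W] N j))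
  have hT : ∀ s j (x : N j), x ∈ T s j ↔ ∃ m, pW ^ s • m = x := fun s j x => Iff.rfl
  -- purity
  have hA : ∀ (s i : ℕ), i < r → ∀ x : N (i + 1), α i x ∈ T s i → x ∈ T s (i + 1) := by
    intro s
    let P : ℕ → Type v := fun j => N j ⧸ T s j
    have hfin : ∀ j, Module.length W (P j) ≠ ⊤ := fun j =>
      Module.length_ne_top_iff.2 (IsFiniteLength.of_surjective (hfl j) (Submodule.mkQ_surjective _))
    have hαT : ∀ j, T s (j + 1) ≤ (T s j).comap (α j) := by
      rintro j _ ⟨m, rfl⟩
      exact ⟨α j m, by simp⟩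
    let A : ∀ t : Fin (r + 1), (Π j : Fin r, P (j.val + 1)) →ₗ[W] P t.val := fun t =>
      if h : t.val < r then (Submodule.mapQ _ _ (α t.val) (hαT t.val)).comp (LinearMap.proj (⟨t.val, h⟩ : Fin r)) else 0
    let B : ∀ t : Fin (r + 1), (Π j : Fin r, P (j.val + 1)) →ₗ[W] P t.val :=
      Fin.cases (motive := fun t : Fin (r + 1) => (Π j : Fin r, P (j.val + 1)) →ₗ[W] P t.val) 0 (fun j => pW • LinearMap.proj j)
    let g : (Π j : Fin r, P (j.val + 1)) →ₗ[W] (Π t : Fin (r + 1), P t.val) := LinearMap.pi fun t => A t - B t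
    have hφT : ∀ j, T s j ≤ (T s 0).comap (φ j) := by
      rintro j _ ⟨m, rfl⟩
      exact ⟨φ j m, by simp [hσp]⟩
    let Φ : (Π t : Fin (r + 1), P t.val) →ₛₗ[(WittVector.frobenius : W →+* W)] P 0 :=
      ∑ t : Fin (r + 1), (Submodule.mapQ (T s t.val) (T s 0) (φ t.val) (hφT t.val)).comp (LinearMap.proj t)
    have hΦapp : ∀ y : (i : ℕ) → N i, Φ (fun t => Submodule.Quotient.mk (y t.val)) =
        Submodule.Quotient.mk ((Finset.range (r + 1)).sum (fun i => φ i (y i))) := fun y => by
      rw [← Fin.sum_univ_eq_sum_range (fun i => φ i (y i)), ← Submodule.mkQ_apply, map_sum]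
      simp only [Φ, LinearMap.coe_sum, Finset.sum_apply]
      rfl
    have hΦsurj : Function.Surjective Φ := by
      intro m
      obtain ⟨m, rfl⟩ := Submodule.Quotient.mk_surjective _ m
      obtain ⟨y, -, hy⟩ := hsurj m
      exact ⟨_, (hΦapp y).trans (congrArg _ hy)⟩
    have hkerle : LinearMap.ker Φ ≤ LinearMap.range g := by
      intro y hy
      choose o ho using fun t => Submodule.Quotient.mk_surjective _ (y t)
      let yt : (i : ℕ) → N i := fun i => if h : i < r + 1 then o ⟨i, h⟩ else 0
      have hyt : (fun t : Fin (r + 1) => (Submodule.Quotient.mk (yt t.val) : P t.val)) = y := funext fun t => by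
        simp only [yt, dif_pos t.isLt]
        exact ho t
      rw [LinearMap.mem_ker, ← hyt, hΦapp, Submodule.Quotient.mk_eq_zero] at hy
      obtain ⟨m, hm⟩ := hy
      obtain ⟨y', hy'0, hy'⟩ := hsurj m
      obtain ⟨z, hz0, hzh, hzt⟩ := hker (fun i => yt i - pW ^ s • y' i)
        (fun i hi => by rw [hy'0 i hi, smul_zero, sub_zero]; simp only [yt, dif_neg (show ¬ i < r + 1 by omega)])
        (by
          simp only [map_sub, LinearMap.map_smulₛₗ, hσp, Finset.sum_sub_distrib, ← Finset.smul_sum, hy', ← hm]
          exact sub_self _)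
      refine ⟨fun j => Submodule.Quotient.mk (z j.val), ?_⟩
      rw [← hyt]
      funext t
      have key : ∀ i, (Submodule.Quotient.mk (yt i) : P i) = Submodule.Quotient.mk (yt i - pW ^ s • y' i) := fun i =>
        (Submodule.Quotient.eq _).2 ⟨y' i, by simp⟩
      rw [key]
      show A t _ - B t _ = _
      refine Fin.cases (motive := fun t : Fin (r + 1) => A t (fun j => Submodule.Quotient.mk (z j.val)) - B t (fun j => Submodule.Quotient.mk (z j.val)) = (Submodule.Quotient.mk (yt t.val - pW ^ s • y' t.val) : P t.val)) ?_ (fun j => ?_) t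
      · refine (sub_zero _).trans (Eq.trans ?_ (congrArg Submodule.Quotient.mk hzh).symm)
        simp only [A]
        split_ifs with h
        · rfl
        · rw [hz0 0 (by simpa using h), map_zero]; rfl
      · show _ - pW • (Submodule.Quotient.mk (z j.val) : P (j.val + 1)) = Submodule.Quotient.mk (yt (j.val + 1) - pW ^ s • y' (j.val + 1))
        rw [hzt j.val, Submodule.Quotient.mk_sub, Submodule.Quotient.mk_smul]
        congr 1
        simp only [A]
        split_ifs with h
        · rfl
        · rw [hz0 (j.val + 1) (by simpa using h), map_zero]; rfl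
    have hker0 : LinearMap.ker g = ⊥ := by
      set L := Module.length W (Π j : Fin r, P (j.val + 1)) with hL
      have hLtop : L ≠ ⊤ := by
        rw [hL, Module.length_pi_of_fintype]
        exact (ENat.sum_lt_top.2 fun j _ => (hfin _).lt_top).ne
      have h1 : Module.length W (Π t : Fin (r + 1), P t.val) = L + Module.length W (P 0) := by
        rw [hL, Module.length_pi_of_fintype, Module.length_pi_of_fintype, Fin.sum_univ_succ, add_comm]
        rfl
      have h2 : Module.length W ((Π t : Fin (r + 1), P t.val) ⧸ LinearMap.ker Φ) = Module.length W (P 0) := by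
        let Φq := (LinearMap.ker Φ).liftQ Φ le_rfl
        have hb : Function.Bijective Φq := ⟨LinearMap.ker_eq_bot.1 (by
          rw [Submodule.ker_liftQ, ← le_bot_iff, Submodule.map_le_iff_le_comap, Submodule.comap_bot, Submodule.ker_mkQ]), fun m => by
          obtain ⟨y, rfl⟩ := hΦsurj m
          exact ⟨Submodule.Quotient.mk y, rfl⟩⟩
        apply WithBot.coe_injective
        rw [Module.coe_length, Module.coe_length]
        exact Order.krullDim_eq_of_orderIso (Submodule.orderIsoMapComapOfBijective Φq hb)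
      have h3 := Module.length_eq_add_of_exact (R := W) (LinearMap.ker Φ).subtype (LinearMap.ker Φ).mkQ
        Subtype.val_injective (Submodule.mkQ_surjective _) (LinearMap.exact_subtype_mkQ _)
      rw [h1, h2] at h3
      replace h3 := le_antisymm ((ENat.add_le_add_iff_right (hfin 0)).1 h3.le) ((ENat.add_le_add_iff_right (hfin 0)).1 h3.ge)
      have h4 : L ≤ Module.length W (LinearMap.range g) := by
        rw [h3]
        exact Module.length_le_of_injective (Submodule.inclusion hkerle) (Submodule.inclusion_injective hkerle)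
      have h5 := Module.length_eq_add_of_exact (R := W) (LinearMap.ker g).subtype g.rangeRestrict
        Subtype.val_injective g.surjective_rangeRestrict
        (by intro y; simp [LinearMap.rangeRestrict, Subtype.ext_iff])
      rw [← hL] at h5
      have h6 : Module.length W (LinearMap.ker g) + L ≤ 0 + L := by
        rw [zero_add]
        exact le_trans (add_le_add le_rfl h4) h5.ge
      have h7 := (ENat.add_le_add_iff_right hLtop).1 h6
      exact Submodule.subsingleton_iff_eq_bot.1 (Module.length_eq_zero_iff.1 (le_antisymm h7 bot_le))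
    intro i hi x hx
    by_contra hxn
    have hex : ∃ b, pW ^ b • x ∈ T s (i + 1) := ⟨s, x, rfl⟩
    obtain ⟨b, hb, hbmin⟩ : ∃ b, pW ^ b • x ∈ T s (i + 1) ∧ ∀ c < b, ¬ pW ^ c • x ∈ T s (i + 1) :=
      ⟨Nat.find hex, Nat.find_spec hex, fun c => Nat.find_min hex⟩
    obtain ⟨b, rfl⟩ : ∃ b', b = b' + 1 := by
      rcases b with _ | b
      · simp [hxn] at hb
      · exact ⟨b, rfl⟩
    refine hbmin b (Nat.lt_succ_self b) ?_
    let w : Π j : Fin r, P (j.val + 1) := Pi.single (⟨i, hi⟩ : Fin r) (Submodule.Quotient.mk (pW ^ b • x))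
    have hw : g w = 0 := by
      funext t
      show A t w - B t w = 0
      have hAz : A t w = 0 := by
        simp only [A]
        split_ifs with h
        · by_cases ht : t.val = i
          · subst ht
            simp only [LinearMap.comp_apply, LinearMap.proj_apply, w, Pi.single_eq_same, Submodule.mapQ_apply, map_smul,
              Submodule.Quotient.mk_smul, (Submodule.Quotient.mk_eq_zero _).2 hx, smul_zero]
          · simp only [LinearMap.comp_apply, LinearMap.proj_apply, w]
            rw [Pi.single_eq_of_ne (fun e => ht (congrArg Fin.val e)), map_zero]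
        · rfl
      rw [hAz, zero_sub, neg_eq_zero]
      refine Fin.cases (motive := fun t => B t w = 0) rfl (fun j => ?_) t
      show pW • w j = 0
      by_cases hj : j = ⟨i, hi⟩
      · subst hj
        simp only [w, Pi.single_eq_same]
        rw [← Submodule.Quotient.mk_smul, smul_smul, ← pow_succ']
        exact (Submodule.Quotient.mk_eq_zero _).2 hb
      · simp only [w, Pi.single_eq_of_ne hj, smul_zero]
    have h0 : w ∈ LinearMap.ker g := hw
    rw [hker0, Submodule.mem_bot] at h0
    have := congrFun h0 ⟨i, hi⟩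
    simp only [w, Pi.single_eq_same, Pi.zero_apply] at this
    exact (Submodule.Quotient.mk_eq_zero _).1 this
  -- a power of `p` kills each module
  have hkill : ∀ j, ∃ S : ℕ, ∀ x : N j, pW ^ S • x = 0 := by
    intro j
    obtain ⟨hnoe, hart⟩ := isFiniteLength_iff_isNoetherian_isArtinian.1 (hfl j)
    obtain ⟨S, hS⟩ := IsArtinian.monotone_stabilizes (⟨fun n => OrderDual.toDual (T n j), fun a b hab => by
      obtain ⟨c, rfl⟩ := Nat.exists_eq_add_of_le hab
      rintro _ ⟨m, rfl⟩
      exact ⟨pW ^ c • m, by simp [smul_smul, pow_add, mul_comm]⟩⟩ : ℕ →o (Submodule W (N j))ᵒᵈ)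
    refine ⟨S, fun x => ?_⟩
    have hle : T S j ≤ Ideal.span {pW} • T S j := by
      rintro _ ⟨m, rfl⟩
      have hmem : (pW ^ S • LinearMap.id (R := W)) m ∈ T (S + 1) j := by
        have h : T S j = T (S + 1) j := hS (S + 1) (Nat.le_succ S)
        rw [← h]; exact ⟨m, rfl⟩
      obtain ⟨m', hm'⟩ := hmem
      rw [← hm', LinearMap.smul_apply, LinearMap.id_apply, pow_succ', mul_smul]
      exact Submodule.smul_mem_smul (Ideal.mem_span_singleton_self _) ⟨m', rfl⟩
    have hbot := Submodule.eq_bot_of_le_smul_of_le_jacobson_bot (Ideal.span {pW}) (T S j) (IsNoetherian.noetherian _) hle (by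
      refine le_trans (IsLocalRing.le_maximalIdeal ?_) (IsLocalRing.maximalIdeal_le_jacobson _)
      rw [Ne, Ideal.span_singleton_eq_top]
      exact (WittVector.irreducible p (k := k)).not_isUnit)
    exact (Submodule.eq_bot_iff _).1 hbot _ ⟨x, rfl⟩
  have hinj : Function.Injective (α i) := by
    refine (injective_iff_map_eq_zero (α i)).2 fun x hx => ?_
    obtain ⟨S, hS⟩ := hkill (i + 1)
    obtain ⟨m, rfl⟩ := hA S i hi x (by rw [hx]; exact zero_mem _)
    exact hS m
  refine ⟨hinj, ?_⟩
  set R₀ := LinearMap.range (α i) with hR₀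
  obtain ⟨S, hS⟩ := hkill i
  have htor : Module.IsTorsion W (N i ⧸ R₀) := by
    intro q
    obtain ⟨x, rfl⟩ := Submodule.Quotient.mk_surjective _ q
    refine ⟨⟨pW ^ S, mem_nonZeroDivisors_of_ne_zero (pow_ne_zero _ (WittVector.irreducible p (k := k)).ne_zero)⟩, ?_⟩
    rw [Submonoid.smul_def, ← Submodule.Quotient.mk_smul, hS, Submodule.Quotient.mk_zero]
  haveI : IsNoetherian W (N i) := (isFiniteLength_iff_isNoetherian_isArtinian.1 (hfl i)).1
  obtain ⟨ι, _, π, hπ, e, ⟨E⟩⟩ := Module.equiv_directSum_of_isTorsion htor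
  have hgen : ∀ j : ι, ∃ g : N i, π j ^ e j • g = 0 ∧
      Submodule.Quotient.mk g = E.symm (DirectSum.lof W ι (fun j => W ⧸ W ∙ π j ^ e j) j (Submodule.Quotient.mk 1)) := by
    intro j
    obtain ⟨v, hv⟩ := Submodule.Quotient.mk_surjective _ (E.symm (DirectSum.lof W ι (fun j => W ⧸ W ∙ π j ^ e j) j (Submodule.Quotient.mk 1)))
    have hmem : π j ^ e j • v ∈ R₀ := by
      rw [← Submodule.Quotient.mk_eq_zero, Submodule.Quotient.mk_smul, hv, ← map_smul, ← map_smul, ← Submodule.Quotient.mk_smul,
        smul_eq_mul, mul_one, (Submodule.Quotient.mk_eq_zero _).2 (Submodule.mem_span_singleton_self _), map_zero, map_zero]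
    obtain ⟨x, hx⟩ := hmem
    obtain ⟨u, hu⟩ := IsDiscreteValuationRing.associated_of_irreducible W (WittVector.irreducible p (k := k)) (hπ j)
    have hc : π j ^ e j = pW ^ e j * ↑(u ^ e j) := by rw [← hu, mul_pow, Units.val_pow_eq_pow_val]
    obtain ⟨x', hx'⟩ := hA (e j) i hi x (by
      rw [hx, hc, mul_smul]
      exact ⟨(↑(u ^ e j) : W) • v, rfl⟩)
    have hx'' : π j ^ e j • (↑(u ^ e j)⁻¹ : W) • x' = x := by
      rw [hc, smul_smul, mul_assoc, Units.mul_inv, mul_one]
      exact hx'
    refine ⟨v - α i ((↑(u ^ e j)⁻¹ : W) • x'), ?_, ?_⟩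
    · rw [smul_sub, ← map_smul, hx'', hx, sub_self]
    · rw [← hv, Submodule.Quotient.eq, sub_sub_cancel_left]
      exact neg_mem ⟨_, rfl⟩
  choose g hg0 hgq using hgen
  let sct : (N i ⧸ R₀) →ₗ[W] N i := (DirectSum.toModule W ι (N i) fun j =>
    (W ∙ π j ^ e j).liftQ (LinearMap.toSpanSingleton W (N i) (g j)) (by
      rw [Submodule.span_le, Set.singleton_subset_iff]
      exact hg0 j)).comp E.toLinearMap
  have hsct : ∀ q, Submodule.Quotient.mk (sct q) = q := by
    have h : R₀.mkQ.comp sct = LinearMap.id := by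
      have h1 : (R₀.mkQ.comp sct).comp E.symm.toLinearMap = E.symm.toLinearMap := by
        refine DirectSum.linearMap_ext W fun j => Submodule.linearMap_qext _ (LinearMap.ext_ring ?_)
        simp only [sct, LinearMap.comp_apply, LinearEquiv.coe_coe, LinearEquiv.apply_symm_apply, DirectSum.toModule_lof,
          Submodule.mkQ_apply, Submodule.liftQ_apply, LinearMap.toSpanSingleton_apply, one_smul, hgq]
      refine LinearMap.ext fun q => ?_
      obtain ⟨d, rfl⟩ := E.symm.surjective q
      exact LinearMap.congr_fun h1 d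
    exact fun q => LinearMap.congr_fun h q
  refine ⟨LinearMap.range sct, ?_, ?_⟩
  · rw [Submodule.disjoint_def]
    rintro _ h1 ⟨q, rfl⟩
    rw [← Submodule.Quotient.mk_eq_zero, hsct] at h1
    rw [h1, map_zero]
  · rw [codisjoint_iff, ← top_le_iff]
    intro x _
    refine Submodule.mem_sup.2 ⟨x - sct (Submodule.Quotient.mk x), ?_, _, LinearMap.mem_range_self _ _, sub_add_cancel _ _⟩
    rw [← Submodule.Quotient.mk_eq_zero, Submodule.Quotient.mk_sub, hsct, sub_self]

end Groth.Agent.S18418
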