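import Groth.Statements.S18422
import Mathlib.Tactic.Group
import Mathlib.Data.Nat.Prime.Basic
import Mathlib.Algebra.Prime.Lemmas
import Groth.Agent.H80.Profinite

set_option autoImplicit false
universe u v
open Pi1

namespace Groth.Agent.S18422

/-- Let p and l be distinct primes, G a profinite group (a compact totally disconnected topological
group) which is pro-p, meaning that every open normal subgroup of G has index a power of p, and H a
profinite group which is pro-l in the same sense. Then every continuous group homomorphism from G to
H is trivial. -/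
theorem result {p l : ℕ} (hp : p.Prime) (hl : l.Prime) (hpl : p ≠ l)
    (G : Type u) [Group G] [TopologicalSpace G] [IsTopologicalGroup G] [CompactSpace G]
    [TotallyDisconnectedSpace G]
    (H : Type v) [Group H] [TopologicalSpace H] [IsTopologicalGroup H] [CompactSpace H]
    [TotallyDisconnectedSpace H]
    (hG : ∀ U : OpenNormalSubgroup G, ∃ n : ℕ, U.toSubgroup.index = p ^ n)
    (hH : ∀ V : OpenNormalSubgroup H, ∃ n : ℕ, V.toSubgroup.index = l ^ n)
    (f : G →* H) (hf : Continuous f) (g : G) : f g = 1 := by
  apply Groth.Agent.H80.Profinite.eq_one_of_forall_open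
  intro V
  let U : OpenNormalSubgroup G :=
    { toSubgroup := V.toSubgroup.comap f
      isOpen' := V.isOpen.preimage hf }
  obtain ⟨n, hn⟩ := hG U
  obtain ⟨m, hm⟩ := hH V
  have hd : p ^ n ∣ l ^ m := by
    rw [← hn, ← hm]
    change (V.toSubgroup.comap f).index ∣ _
    rw [Subgroup.index_comap]
    exact Subgroup.relIndex_dvd_index_of_normal _ _
  have h0 : n = 0 := by
    by_contra h0
    have h := Prime.dvd_of_dvd_pow hp.prime ((dvd_pow_self p h0).trans hd)
    exact hpl ((Nat.prime_dvd_prime_iff_eq hp hl).mp h)
  have ht : U.toSubgroup = ⊤ := Subgroup.index_eq_one.mp (by rw [hn, h0, pow_zero])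
  have : g ∈ U.toSubgroup := ht ▸ Subgroup.mem_top g
  exact this

end Groth.Agent.S18422
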