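import Groth.Statements.S18424
import Groth.Agent.Lib.BiratPurity.Main
import Groth.Agent.S0244
import Groth.Agent.S0238
import Groth.Agent.Lib.PropHens.Basic

set_option autoImplicit false
set_option backward.isDefEq.respectTransparency false
universe u
open Pi1

namespace Groth.Agent.S18424

open AlgebraicGeometry CategoryTheory CategoryTheory.Limits in
/-- Let k be a field, X and Y integral schemes separated and of finite type over k with X normal and Y
nonsingular (every local ring of Y regular), and f : X → Y a proper k-morphism which is birational,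
i.e. an isomorphism over some nonempty open subset V of Y. Then pulling back finite etale covers
along f is an equivalence between the categories of finite etale covers of Y and of X; in particular
f induces an isomorphism of etale fundamental groups. -/
theorem result (k : Type u) [Field k]
    {X Y : Scheme.{u}} (f : X ⟶ Y) (g : Y ⟶ Spec (CommRingCat.of k))
    [IsSeparated g] [LocallyOfFiniteType g] [QuasiCompact g]
    [IsSeparated (f ≫ g)] [LocallyOfFiniteType (f ≫ g)] [QuasiCompact (f ≫ g)]
    [IsIntegral X] [IsIntegral Y] (hX : Pi1.IsNormalScheme X)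
    (hY : ∀ y : Y, IsRegularLocalRing (Y.presheaf.stalk y)) [IsProper f]
    (V : Y.Opens) (hV : (V : Set Y).Nonempty) (hf : IsIso (f ∣_ V)) :
    (FEt.restrict f).IsEquivalence := by
  open Groth.Agent.Lib in
  haveI : CompactSpace Y := QuasiCompact.compactSpace_of_compactSpace g
  haveI : IsLocallyNoetherian Y := LocallyOfFiniteType.isLocallyNoetherian g
  haveI : IsNoetherian Y := { }
  let U := f ⁻¹ᵁ V
  haveI hiso : IsIso (f ∣_ V) := hf
  let a : (V : Scheme.{u}) ⟶ X := inv (f ∣_ V) ≫ U.ι
  have hVd : Dense (V : Set Y) := V.2.dense hV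
  have ha : a ≫ f = V.ι ≫ 𝟙 Y := by
    rw [Category.comp_id, Category.assoc, IsIso.inv_comp_eq, morphismRestrict_ι]
  have hUne : (U : Set X).Nonempty := by
    obtain ⟨y, hy⟩ := hV
    obtain ⟨x, -⟩ := (f ∣_ V).surjective ⟨y, hy⟩
    exact ⟨x.1, x.2⟩
  obtain ⟨hUf, hUF⟩ := S0244.result hX U hUne
  obtain ⟨hVf, hVF⟩ := S0244.result (fun y => BiratPurity.Main.normal hY y) V hV
  haveI := hUf
  haveI := hUF
  haveI := hVf
  haveI := hVF
  haveI : (FEt.restrict (f ∣_ V)).IsEquivalence := S0238.result _
  let η : FEt.restrict f ⋙ FEt.restrict U.ι ≅ FEt.restrict V.ι ⋙ FEt.restrict (f ∣_ V) :=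
    (PropHens.restrictComp U.ι f).symm ≪≫ PropHens.restrictCongr (morphismRestrict_ι f V).symm ≪≫
      PropHens.restrictComp (f ∣_ V) V.ι
  haveI : (FEt.restrict f ⋙ FEt.restrict U.ι).Full := Functor.Full.of_iso η.symm
  haveI : (FEt.restrict f ⋙ FEt.restrict U.ι).Faithful := Functor.Faithful.of_iso η.symm
  haveI : (FEt.restrict f).Full := Functor.Full.of_comp_faithful _ (FEt.restrict U.ι)
  haveI : (FEt.restrict f).Faithful := Functor.Faithful.of_comp _ (FEt.restrict U.ι)
  haveI : (FEt.restrict f).EssSurj := ⟨fun Z => by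
    obtain ⟨W, ⟨i⟩⟩ := BiratPurity.Main.exists_lift hY (𝟙 Y) f V hVd a ha Z
    refine ⟨W, ⟨(FEt.restrict U.ι).preimageIso ?_⟩⟩
    exact η.app W ≪≫ (FEt.restrict (f ∣_ V)).mapIso i ≪≫ ((PropHens.restrictComp (f ∣_ V) a).app Z).symm ≪≫
      (PropHens.restrictCongr (show (f ∣_ V) ≫ a = U.ι from IsIso.hom_inv_id_assoc _ _)).app Z⟩
  exact { }

end Groth.Agent.S18424
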