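import Groth.Statements.S18425
import Mathlib.Topology.Algebra.Category.ProfiniteGrp.Completion
import Groth.Agent.H80.ForgetAut

set_option autoImplicit false
universe u
open Pi1

namespace Groth.Agent.S18425

open CategoryTheory in
/-- In the case of a discrete group G, let F be the forgetful functor from the category of finite G-sets
to finite sets. Then the canonical homomorphism from G to Aut(F), letting g act on every finite
G-set, extends to an isomorphism of topological groups from the profinite completion of G (the limit
of the finite quotients G/U over normal subgroups U of finite index) onto Aut(F) with its profinite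
topology. (The published statement is for an arbitrary topological group G, with finite G-sets
carrying a continuous action and the completion taken over open normal subgroups of finite index;
this row is the case of a discrete group.) -/
theorem result (G : Type u) [Group G] :
    ∃ φ : (ProfiniteGrp.ProfiniteCompletion.completion (GrpCat.of G)) ≃ₜ* Aut (Action.forget FintypeCat.{u} G),
      ∀ (g : G) (X : Action FintypeCat.{u} G) (x : X.V),
        (φ (ProfiniteGrp.ProfiniteCompletion.etaFn (GrpCat.of G) g)).hom.app X x = (X.ρ g).hom x := by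
  open Groth.Agent.H80 CategoryTheory.PreGaloisCategory in
  let J : Action FintypeCat.{u} G ⥤ Action FintypeCat.{u} G := 𝟭 _
  let F := Action.forget FintypeCat.{u} G
  let ι : G →* Aut F := ForgetAut.toAut J
  let ev (σ : Aut F) (H : FiniteIndexNormalSubgroup (GrpCat.of G)) : G ⧸ H.toSubgroup :=
    (σ.hom.app (ForgetAut.quot H.toSubgroup)).hom (QuotientGroup.mk (1 : G) : G ⧸ H.toSubgroup)
  have hright : ∀ (σ : Aut F) (H : FiniteIndexNormalSubgroup (GrpCat.of G)) (q : G ⧸ H.toSubgroup),
      (σ.hom.app (ForgetAut.quot H.toSubgroup)).hom q = ev σ H * q := by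
    intro σ H q
    let r : ForgetAut.quot H.toSubgroup ⟶ ForgetAut.quot H.toSubgroup :=
      { hom := FintypeCat.homMk fun y : G ⧸ H.toSubgroup => y * q
        comm := fun g => FintypeCat.hom_ext _ _ fun (y : G ⧸ H.toSubgroup) => by
          obtain ⟨a, rfl⟩ := QuotientGroup.mk_surjective y
          obtain ⟨b, rfl⟩ := QuotientGroup.mk_surjective q
          exact congrArg QuotientGroup.mk (mul_assoc g a b) }
    have := ConcreteCategory.congr_hom (σ.hom.naturality r)
      (QuotientGroup.mk (1 : G) : G ⧸ H.toSubgroup)
    refine Eq.trans (congrArg _ (show q = (1 : G ⧸ H.toSubgroup) * q from (one_mul q).symm)) ?_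
    exact this
  let Ψ : Aut F →* ProfiniteGrp.ProfiniteCompletion.completion (GrpCat.of G) :=
    MonoidHom.mk' (fun σ => ⟨fun H => ev σ H, fun {H K} f => by
      let t : ForgetAut.quot H.toSubgroup ⟶ ForgetAut.quot K.toSubgroup :=
        { hom := FintypeCat.homMk fun y : G ⧸ H.toSubgroup =>
            QuotientGroup.map _ _ (MonoidHom.id G) f.le y
          comm := fun g => FintypeCat.hom_ext _ _ fun (y : G ⧸ H.toSubgroup) => by
            obtain ⟨a, rfl⟩ := QuotientGroup.mk_surjective y
            rfl }
      exact (ConcreteCategory.congr_hom (σ.hom.naturality t)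
        (QuotientGroup.mk (1 : G) : G ⧸ H.toSubgroup)).symm⟩)
      fun σ τ => Subtype.ext (funext fun H => hright σ H (ev τ H))
  have hΨc : Continuous Ψ := by
    refine continuous_induced_rng.mpr (continuous_pi fun H => ?_)
    have h1 : Continuous fun σ : Aut F =>
        autEmbedding _ σ (ForgetAut.quot H.toSubgroup) :=
      (continuous_apply _).comp continuous_induced_dom
    exact (continuous_of_discreteTopology
      (f := fun e : Aut (F.obj (ForgetAut.quot H.toSubgroup)) =>
        (e.hom.hom (QuotientGroup.mk (1 : G) : G ⧸ H.toSubgroup)))).comp h1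
  have hΨι : ∀ g : G, Ψ (ι g) = ProfiniteGrp.ProfiniteCompletion.etaFn (GrpCat.of G) g := fun g =>
    Subtype.ext (funext fun H => congrArg QuotientGroup.mk (mul_one g))
  have hinj : Function.Injective Ψ := by
    rw [injective_iff_map_eq_one]
    intro σ hσ
    refine Iso.ext (NatTrans.ext (funext fun X => FintypeCat.hom_ext _ _ fun x => ?_))
    let H : FiniteIndexNormalSubgroup (GrpCat.of G) :=
      FiniteIndexNormalSubgroup.ofSubgroup (ForgetAut.actKer X)
    have hev : ev σ H = 1 := congrFun (congrArg Subtype.val hσ) H
    let t : ForgetAut.quot H.toSubgroup ⟶ X :=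
      ForgetAut.fromQuot H.toSubgroup X x fun u hu => hu x
    have := ConcreteCategory.congr_hom (σ.hom.naturality t)
      (QuotientGroup.mk (1 : G) : G ⧸ H.toSubgroup)
    change (σ.hom.app X).hom ((X.ρ 1).hom x) = t.hom (ev σ H) at this
    rw [hev] at this
    have h1 := ForgetAut.rho_one_apply X x
    exact ((congrArg (σ.hom.app X).hom h1).symm.trans this).trans h1
  have hsurj : Function.Surjective Ψ := by
    rw [← Set.range_eq_univ]
    refine eq_top_iff.mpr ?_
    rw [Set.top_eq_univ, ← (ProfiniteGrp.ProfiniteCompletion.denseRange (G := GrpCat.of G)).closure_range]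
    refine closure_minimal ?_ (isCompact_range hΨc).isClosed
    rintro _ ⟨g, rfl⟩
    exact ⟨ι g, hΨι g⟩
  let e := MulEquiv.ofBijective Ψ ⟨hinj, hsurj⟩
  have he : Continuous e := hΨc
  refine ⟨({ e with
      continuous_toFun := he
      continuous_invFun := Continuous.continuous_symm_of_equiv_compact_to_t2 (f := e.toEquiv) he } :
        Aut F ≃ₜ* ProfiniteGrp.ProfiniteCompletion.completion (GrpCat.of G)).symm, fun g X x => ?_⟩
  have : e.symm (ProfiniteGrp.ProfiniteCompletion.etaFn (GrpCat.of G) g) = ι g := by
    rw [← hΨι g]
    exact e.symm_apply_apply (ι g)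
  change (e.symm (ProfiniteGrp.ProfiniteCompletion.etaFn (GrpCat.of G) g)).hom.app X x = _
  rw [this]
  rfl

end Groth.Agent.S18425
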