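import Groth.Statements.S18427
import Groth.Agent.S2431
import Groth.Agent.Lib.ModelFibre.ConnFibre
import Groth.Agent.H2.Rigid.Smooth
import Groth.Agent.H2.Rigid.H0

set_option autoImplicit false
universe u
open Models

namespace Groth.Agent.S18427

open CategoryTheory AlgebraicGeometry in
/-- Let R be a discrete valuation ring with fraction field K, C a smooth proper geometrically connected
curve over K, and X a regular proper model of C over R (flat and proper over R, regular, with
generic fibre C). Then the structure morphism X → Spec R has geometrically connected fibres; in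
particular the special fibre of X is geometrically connected over the residue field of R. -/
theorem result (R : Type u) [CommRing R] [IsDomain R]
    [IsDiscreteValuationRing R] (C X : Scheme.{u})
    (f : C ⟶ Spec (CommRingCat.of (FractionRing R))) (p : X ⟶ Spec (CommRingCat.of R))
    (hC : Curve.IsSmoothProperCurve (FractionRing R) C f) [GeometricallyConnected f]
    (hX : Models.IsRegularProperModel R X p C f) :
    GeometricallyConnected p := by
  have hC' := hC
  obtain ⟨hp, hs, -, -⟩ := hC'
  haveI := hp
  haveI := hs
  haveI : GeometricallyReduced f := Groth.Agent.H2.Rigid.geometricallyReduced_of_smooth f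
  have hbc : IsPullback (𝟙 C) f f (𝟙 (Spec (CommRingCat.of (FractionRing R)))) := IsPullback.of_horiz_isIso ⟨by simp⟩
  have hsurj := (Groth.Agent.H2.Rigid.H0.of_geometrically f).isPullback hbc
  haveI := hC.2.2.1
  haveI : Nonempty ((⊤ : C.Opens) : Set C) := ⟨⟨genericPoint C, trivial⟩⟩
  have hinj : Function.Injective f.appTop.hom := by
    have h1 : Function.Injective ((Scheme.ΓSpecIso (CommRingCat.of (FractionRing R))).inv ≫ f.appTop).hom :=
      RingHom.injective _
    intro a b h
    have hb := ConcreteCategory.bijective_of_isIso (Scheme.ΓSpecIso (CommRingCat.of (FractionRing R))).inv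
    obtain ⟨a', rfl⟩ := hb.2 a
    obtain ⟨b', rfl⟩ := hb.2 b
    exact congrArg _ (h1 h)
  exact (Groth.Agent.Lib.ModelFibre.ConnFibre.conclusion @Groth.Agent.S2431.result hC ((ConcreteCategory.isIso_iff_bijective f.appTop).2 ⟨hinj, hsurj⟩) hX).2

end Groth.Agent.S18427
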