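import Groth.Statements.S18428
import Mathlib.Topology.Category.FinTopCat
import Mathlib.Topology.LocallyConstant.Basic
import Mathlib.CategoryTheory.Action.Continuous
import Groth.Agent.H80.ForgetAut

set_option autoImplicit false
universe u
open scoped FintypeCatDiscrete
open Pi1

namespace Groth.Agent.S18428

open CategoryTheory in
/-- Let G be a topological group, consider the category of finite sets (with the discrete topology)
equipped with a continuous action of G, and let F be the forgetful functor to finite sets, so that
Aut(F) is a profinite group. Then the homomorphism ι : G → Aut(F) letting g act on every finite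
continuous G-set exists and is continuous, has dense image, and every continuous homomorphism from G
to a finite discrete group factors uniquely through ι by a continuous homomorphism on Aut(F). As
Aut(F) is profinite, these properties say that ι induces an isomorphism of topological groups from
the profinite completion of G (the limit of the quotients G/U by open normal subgroups of finite
index) onto Aut(F). -/
theorem result (G : Type u) [Group G]
    [TopologicalSpace G] [IsTopologicalGroup G] :
    ∃ ι : G →* Aut (forget₂ (ContAction FintypeCat.{u} G) FintypeCat.{u}),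
      Continuous ι ∧
      (∀ (g : G) (X : ContAction FintypeCat.{u} G) (x : X.obj.V), (ι g).hom.app X x = (X.obj.ρ g).hom x) ∧
      DenseRange ι ∧
      ∀ (Q : Type u) [Group Q] [Finite Q] [TopologicalSpace Q] [DiscreteTopology Q] (π : G →* Q),
        Continuous π → ∃! ψ : Aut (forget₂ (ContAction FintypeCat.{u} G) FintypeCat.{u}) →* Q,
          Continuous ψ ∧ ψ.comp ι = π := by
  open Groth.Agent.H80 CategoryTheory.PreGaloisCategory in
  let J : ContAction FintypeCat.{u} G ⥤ Action FintypeCat.{u} G := ObjectProperty.ι _
  have hstab : ∀ (X : ContAction FintypeCat.{u} G) (x : X.obj.V),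
      IsOpen {g : G | (X.obj.ρ g).hom x = x} := by
    intro X x
    have hc : Continuous fun g : G => (X.obj.ρ g).hom x :=
      X.property.1.comp (Continuous.prodMk_left x)
    exact (isOpen_discrete ({x} : Set X.obj.V)).preimage hc
  have hker : ∀ X : ContAction FintypeCat.{u} G, IsOpen (ForgetAut.actKer (J.obj X) : Set G) := by
    intro X
    have : (ForgetAut.actKer (J.obj X) : Set G) =
        ⋂ x : X.obj.V, {g : G | (X.obj.ρ g).hom x = x} := by
      ext g
      rw [Set.mem_iInter]
      rfl
    rw [this]
    exact isOpen_iInter_of_finite fun x => hstab X x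
  have hcont : ∀ (Y : Action FintypeCat.{u} G),
      (∀ x : Y.V, IsOpen {g : G | (Y.ρ g).hom x = x}) → Action.IsContinuous Y := by
    intro Y h
    rw [Action.isContinuous_def]
    change Continuous fun p : G × Y.V => (Y.ρ p.1).hom p.2
    refine continuous_prod_of_discrete_right.mpr fun x => ?_
    change Continuous fun g : G => (Y.ρ g).hom x
    refine IsLocallyConstant.continuous (IsLocallyConstant.iff_isOpen_fiber.mpr fun y => ?_)
    by_cases hy : ∃ g : G, (Y.ρ g).hom x = y
    · obtain ⟨σ, rfl⟩ := hy
      convert (h x).preimage (continuous_const_mul σ⁻¹) using 1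
      ext τ
      change (Y.ρ τ).hom x = (Y.ρ σ).hom x ↔ (Y.ρ (σ⁻¹ * τ)).hom x = x
      rw [ForgetAut.rho_mul_apply]
      constructor
      · intro he
        rw [he, ← ForgetAut.rho_mul_apply, inv_mul_cancel, ForgetAut.rho_one_apply]
      · intro he
        have := congrArg (fun z => (Y.ρ σ).hom z) he
        rw [← ForgetAut.rho_mul_apply, ← ForgetAut.rho_mul_apply, mul_inv_cancel, one_mul] at this
        exact this
    · convert isOpen_empty
      ext τ
      simpa using not_exists.mp hy τ
  have hJ : ∀ (U : Subgroup G) [U.FiniteIndex] (I : Finset (ContAction FintypeCat.{u} G)),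
      U = I.inf (fun X => ForgetAut.actKer (J.obj X)) →
        ∃ Y, Nonempty (J.obj Y ≅ ForgetAut.quot U) := by
    intro U _ I hU
    have hopen : IsOpen (U : Set G) := by
      rw [hU]
      refine Finset.inf_induction (p := fun V : Subgroup G => IsOpen (V : Set G)) ?_
        (fun a ha b hb => ha.inter hb) fun X _ => hker X
      rw [Subgroup.coe_top]
      exact isOpen_univ
    refine ⟨⟨ForgetAut.quot U, hcont _ fun q => ?_⟩, ⟨Iso.refl _⟩⟩
    obtain ⟨k, rfl⟩ := QuotientGroup.mk_surjective (show G ⧸ U from q)
    convert hopen.preimage (show Continuous fun g : G => k⁻¹ * g * k by fun_prop) using 1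
    ext g
    change ((g * k : G) : G ⧸ U) = (k : G ⧸ U) ↔ k⁻¹ * g * k ∈ U
    rw [eq_comm, QuotientGroup.eq, mul_assoc]
  let ι : G →* Aut (forget₂ (ContAction FintypeCat.{u} G) FintypeCat.{u}) := ForgetAut.toAut J
  have hιc : Continuous ι := by
    refine continuous_induced_rng.mpr (continuous_pi fun X => ?_)
    let f : G →* Aut ((forget₂ (ContAction FintypeCat.{u} G) FintypeCat.{u}).obj X) :=
      ((Pi.evalMonoidHom _ X).comp (PreGaloisCategory.autEmbedding _)).comp ι
    refine continuous_of_continuousAt_one f ?_
    rw [ContinuousAt, map_one, nhds_discrete (Aut _), Filter.tendsto_pure]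
    refine Filter.mem_of_superset ((hker X).mem_nhds (Subgroup.one_mem _)) fun g hg => ?_
    exact Iso.ext (FintypeCat.hom_ext _ _ fun x => hg x)
  have hdense : DenseRange ι := ForgetAut.denseRange_toAut J hJ
  refine ⟨ι, hιc, fun g X x => rfl, hdense, ?_⟩
  intro Q _ _ _ _ π hπ
  letI : Fintype Q := Fintype.ofFinite Q
  letI : MulAction G Q := MulAction.compHom Q π
  let Y : Action FintypeCat.{u} G := Action.FintypeCat.ofMulAction G (FintypeCat.of Q)
  have hY : Action.IsContinuous Y := hcont Y fun (q : Q) =>
    (isOpen_discrete ({q} : Set Q)).preimage (show Continuous fun g : G => π g * q by fun_prop)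
  let YC : ContAction FintypeCat.{u} G := ⟨Y, hY⟩
  let ev : Aut (forget₂ (ContAction FintypeCat.{u} G) FintypeCat.{u}) → Q :=
    fun σ => (σ.hom.app YC).hom (1 : Q)
  have hright : ∀ (σ : Aut (forget₂ (ContAction FintypeCat.{u} G) FintypeCat.{u})) (q : Q),
      (σ.hom.app YC).hom q = ev σ * q := by
    intro σ q
    let r : YC ⟶ YC := ObjectProperty.homMk
      { hom := FintypeCat.homMk fun y : Q => y * q
        comm := fun g => FintypeCat.hom_ext _ _ fun (y : Q) => mul_assoc (π g) y q }
    have := ConcreteCategory.congr_hom (σ.hom.naturality r) (1 : Q)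
    change (σ.hom.app YC).hom ((1 : Q) * q) = ev σ * q at this
    rwa [one_mul] at this
  let ψ : Aut (forget₂ (ContAction FintypeCat.{u} G) FintypeCat.{u}) →* Q :=
    MonoidHom.mk' ev fun σ τ => hright σ (ev τ)
  have hψc : Continuous ψ := by
    have h1 : Continuous fun σ : Aut (forget₂ (ContAction FintypeCat.{u} G) FintypeCat.{u}) =>
        PreGaloisCategory.autEmbedding _ σ YC := (continuous_apply YC).comp continuous_induced_dom
    exact (continuous_of_discreteTopology
      (f := fun e : Aut ((forget₂ (ContAction FintypeCat.{u} G) FintypeCat.{u}).obj YC) =>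
        (show Q from e.hom.hom (1 : Q)))).comp h1
  have hψι : ψ.comp ι = π := by
    ext g
    exact mul_one (π g)
  refine ⟨ψ, ⟨hψc, hψι⟩, ?_⟩
  rintro ψ' ⟨hc', hι'⟩
  refine DFunLike.coe_injective (hdense.equalizer hc' hψc ?_)
  funext g
  exact (DFunLike.congr_fun hι' g).trans (DFunLike.congr_fun hψι g).symm

end Groth.Agent.S18428
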