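import Groth.Statements.S18429
import Mathlib.Tactic

set_option autoImplicit false
universe u
open SpinCurv

namespace Groth.Agent.S18429

/-- Let n ≥ 1 and r ≥ 2 be integers and let e_0, …, e_{nr} be integers with e_0 = e_{nr} = 0 (the
coefficients of a chain of nr - 1 exceptional curves joining two non-exceptional components with
coefficient zero) such that at every interior index 1 ≤ j ≤ nr - 1 the second difference e_{j-1} - 2
e_j + e_{j+1} (the degree of the divisor Σ e_i E_i on the j-th curve of the chain) is divisible by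
r. Then there are integers e'_0, …, e'_{nr}, with e'_j ≡ e_j modulo r for every interior j, with
e'_0 = e'_{nr} = 0 and every e'_j ≤ 0, whose second differences at the interior indices are each 0
or r, and are nonzero at no two distinct interior indices. -/
theorem result (n r : ℕ) (hn : 1 ≤ n) (hr : 2 ≤ r)
    (e : ℕ → ℤ) (he0 : e 0 = 0) (henr : e (n * r) = 0)
    (hdiv : ∀ j : ℕ, 1 ≤ j → j < n * r → (r : ℤ) ∣ e (j - 1) - 2 * e j + e (j + 1)) :
    ∃ e' : ℕ → ℤ, e' 0 = 0 ∧ e' (n * r) = 0 ∧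
      (∀ j : ℕ, 1 ≤ j → j < n * r → (r : ℤ) ∣ e' j - e j) ∧
      (∀ j : ℕ, j ≤ n * r → e' j ≤ 0) ∧
      (∀ j : ℕ, 1 ≤ j → j < n * r →
        (e' (j - 1) - 2 * e' j + e' (j + 1) = 0 ∨ e' (j - 1) - 2 * e' j + e' (j + 1) = r)) ∧
      (∀ j j' : ℕ, 1 ≤ j → j < n * r → 1 ≤ j' → j' < n * r →
        e' (j - 1) - 2 * e' j + e' (j + 1) ≠ 0 → e' (j' - 1) - 2 * e' j' + e' (j' + 1) ≠ 0 → j = j') := by
  let a : ℤ := (-e 1) % r
  have ha0 : 0 ≤ a := Int.emod_nonneg _ (by omega)
  have har : a < r := Int.emod_lt_of_pos _ (by omega)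
  have hae : (r : ℤ) ∣ -a - e 1 := by
    have := Int.dvd_sub_self_of_emod_eq (a := -e 1) (b := (r : ℤ)) (c := a) rfl
    exact Eq.mp (congrArg ((r : ℤ) ∣ ·) (by ring)) (dvd_neg.2 this)
  have key : ∀ j, j ≤ n * r → (r : ℤ) ∣ e j - j * e 1 := by
    intro j
    induction j using Nat.twoStepInduction with
    | zero => intro _; simp [he0]
    | one => intro _; simp
    | more j ih ih' =>
      intro hj
      have h1 := ih (by omega)
      have h2 := ih' (by omega)
      have h3 := hdiv (j + 1) (by omega) (by omega)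
      rw [Nat.add_sub_cancel] at h3
      have h4 := (dvd_add h3 (dvd_mul_of_dvd_right h2 2)).sub h1
      refine Eq.mp (congrArg ((r : ℤ) ∣ ·) ?_) h4
      simp only [show j + 1 + 1 = j + 2 from rfl]
      push_cast; ring
  let i₀ : ℤ := n * (r - a)
  have hi0 : i₀ = n * r - n * a := by simp only [i₀]; ring
  refine ⟨fun j => -a * j + r * max 0 ((j : ℤ) - i₀), ?_, ?_, ?_, ?_, ?_, ?_⟩
  · have : (0 : ℤ) ≤ i₀ := mul_nonneg (by positivity) (by linarith)
    show -a * ((0 : ℕ) : ℤ) + r * max 0 (((0 : ℕ) : ℤ) - i₀) = 0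
    rw [max_eq_left (by push_cast; linarith)]
    simp
  · push_cast
    rw [hi0, max_eq_right (by nlinarith)]
    ring
  · intro j _ hj
    have h1 := dvd_add (dvd_sub (hae.mul_left (j : ℤ)) (key j hj.le))
      (dvd_mul_right (r : ℤ) (max 0 ((j : ℤ) - i₀)))
    exact Eq.mp (congrArg ((r : ℤ) ∣ ·) (by ring)) h1
  · intro j hj
    dsimp only
    have hj' : (j : ℤ) ≤ n * r := by exact_mod_cast hj
    rcases max_cases 0 ((j : ℤ) - i₀) with ⟨h, _⟩ | ⟨h, _⟩ <;> rw [h] <;> nlinarith
  · intro j h1 _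
    obtain ⟨j, rfl⟩ := Nat.exists_eq_add_of_le h1
    simp only [show 1 + j - 1 = j by omega]
    push_cast
    rcases max_cases 0 ((j : ℤ) - i₀) with ⟨h, _⟩ | ⟨h, _⟩ <;>
      rcases max_cases 0 ((1 : ℤ) + j - i₀) with ⟨h', _⟩ | ⟨h', _⟩ <;>
      rcases max_cases 0 ((1 : ℤ) + j + 1 - i₀) with ⟨h'', _⟩ | ⟨h'', _⟩ <;>
      rw [h, h', h''] <;>
      first
        | (left; linarith)
        | (right; linarith)
        | (left; nlinarith)
        | (right; nlinarith)
        | omega
        | (left; rw [show (j : ℤ) = i₀ - 1 by omega]; ring)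
        | (right; rw [show (j : ℤ) = i₀ - 1 by omega]; ring)
  · intro j j' h1 _ h1' _ hne hne'
    suffices h : ∀ j : ℕ, 1 ≤ j → (j : ℤ) ≠ i₀ →
        (-a * ((j - 1 : ℕ) : ℤ) + r * max 0 (((j - 1 : ℕ) : ℤ) - i₀)) -
          2 * (-a * (j : ℤ) + r * max 0 ((j : ℤ) - i₀)) +
          (-a * ((j + 1 : ℕ) : ℤ) + r * max 0 (((j + 1 : ℕ) : ℤ) - i₀)) = 0 by
      have e1 : (j : ℤ) = i₀ := by_contra fun hh => hne (h j h1 hh)
      have e2 : (j' : ℤ) = i₀ := by_contra fun hh => hne' (h j' h1' hh)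
      omega
    intro j hj hne
    obtain ⟨j, rfl⟩ := Nat.exists_eq_add_of_le hj
    simp only [show 1 + j - 1 = j by omega]
    push_cast at hne ⊢
    rcases lt_or_gt_of_ne hne with hlt | hgt
    · rw [max_eq_left (by omega), max_eq_left (by omega), max_eq_left (by omega)]; ring
    · rw [max_eq_right (by omega), max_eq_right (by omega), max_eq_right (by omega)]; ring

end Groth.Agent.S18429
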