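import Groth.Statements.S1843
import Groth.Agent.H63.AVTorsion
-- import your own Groth.Agent.* helpers here

set_option autoImplicit false
universe u v
open CategoryTheory MonoidalCategory CartesianMonoidalCategory MonObj GrpObj AlgebraicGeometry
open GrpSch

namespace Groth.Agent.S1843

/-- Let A be an abelian variety of dimension g over a field of characteristic p > 0. The set of points
of A mapped to the identity point by multiplication by p has at most p^g elements. -/
theorem result (K : Type u) [Field K] (p : ℕ) [Fact p.Prime] [CharP K p] (A : Over (Spec (CommRingCat.of K))) [GrpObj A] [IsProper A.hom] [GeometricallyIntegral A.hom] (g : ℕ) (hg : topologicalKrullDim A.left = g) : Set.encard {a : A.left | (𝟙 A ^ p).left a = η[A].left (IsLocalRing.closedPoint K)} ≤ (p ^ g : ℕ) := by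
  classical
  let L := AlgebraicClosure K
  let c : Spec (CommRingCat.of L) ⟶ Spec (CommRingCat.of K) :=
    Spec.map (CommRingCat.ofHom (algebraMap K L))
  haveI : IsCommMonObj A := isCommMonObj_of_isProper_of_geometricallyIntegral A
  let T := {x : (Over.map c).obj (𝟙_ (Over (Spec (CommRingCat.of L)))) ⟶ A // x ^ p = 1}
  have hT : Nat.card T ≤ p ^ g := Groth.Agent.H63.AVTorsion.natCard_torsion_le p A c hg
  obtain ⟨hfin, -, -⟩ := Groth.Agent.H4.MulIso.nat A (Fact.out : p.Prime).pos
  haveI : IsFinite (𝟙 A ^ p).left := hfin
  haveI : Finite T := by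
    refine ((Groth.Agent.H4.AVPoints.finite_fibre (𝟙 _ ≫ c) ((𝟙 A : A ⟶ A) ^ p)
      (1 : Over.mk (𝟙 _ ≫ c) ⟶ A)).subset fun x hx => ?_).to_subtype
    show x ≫ _ = 1
    rw [MonObj.comp_pow, Category.comp_id]
    exact hx
  let img : T → A.left := fun x => x.1.left (IsLocalRing.closedPoint L)
  have hsub : {a : A.left | (𝟙 A ^ p).left a = η[A].left (IsLocalRing.closedPoint K)} ⊆ Set.range img := by
    intro a ha
    let y : Spec (CommRingCat.of L) ⟶ A.left := c ≫ η[A].left
    let q := (𝟙 A ^ p).left
    obtain ⟨z, hz, -⟩ := Scheme.Pullback.exists_preimage_pullback (f := q) (g := y) a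
      (IsLocalRing.closedPoint L) (ha.trans (by
        show _ = η[A].left (c (IsLocalRing.closedPoint L))
        exact congrArg η[A].left (Subsingleton.elim (α := PrimeSpectrum K) _ _)))
    let h : Limits.pullback q y ⟶ Spec (CommRingCat.of L) := Limits.pullback.snd q y
    haveI : IsFinite q := hfin
    haveI : IsFinite h := inferInstanceAs (IsFinite (Limits.pullback.snd q y))
    have huniv : (Set.univ : Set ↥(Limits.pullback q y)).Finite := by
      refine (IsFinite.finite_preimage_singleton h (IsLocalRing.closedPoint _)).subset fun z _ => ?_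
      exact Subsingleton.elim (α := PrimeSpectrum L) _ _
    haveI : Finite ↥(Limits.pullback q y) := Set.finite_univ_iff.1 huniv
    have hzc : IsClosed ({z} : Set ↥(Limits.pullback q y)) := by
      haveI : JacobsonSpace ↥(Limits.pullback q y) := LocallyOfFiniteType.jacobsonSpace h
      haveI : DiscreteTopology ↥(Limits.pullback q y) := inferInstance
      exact isClosed_discrete _
    let s := (pointEquivClosedPoint h).symm ⟨z, hzc⟩
    have hw : (s.1 ≫ Limits.pullback.fst q y) ≫ A.hom = 𝟙 _ ≫ c := by
      have e : q ≫ A.hom = A.hom := Over.w _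
      have e2 : y ≫ A.hom = c := by
        rw [Category.assoc, Over.w η[A]]
        exact Category.comp_id _
      rw [Category.assoc]
      conv_lhs => rw [← e, Limits.pullback.condition_assoc, e2, ← Category.assoc]
      exact congrArg (· ≫ c) s.2
    let x : (Over.map c).obj (𝟙_ (Over (Spec (CommRingCat.of L)))) ⟶ A :=
      Over.homMk (s.1 ≫ Limits.pullback.fst q y) hw
    refine ⟨⟨x, ?_⟩, ?_⟩
    · rw [show x ^ p = x ≫ (𝟙 A ^ p) by rw [MonObj.comp_pow, Category.comp_id]]
      ext1
      rw [Over.comp_left, Hom.one_def, Over.comp_left]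
      change (s.1 ≫ Limits.pullback.fst q y) ≫ q = (𝟙 _ ≫ c) ≫ η[A].left
      rw [Category.assoc, Limits.pullback.condition, ← Category.assoc, s.2, Category.assoc]
    · show Limits.pullback.fst q y (s.1 (IsLocalRing.closedPoint L)) = a
      rw [show s.1 (IsLocalRing.closedPoint L) = z from
        congrArg Subtype.val ((pointEquivClosedPoint h).apply_symm_apply ⟨z, hzc⟩)]
      exact hz
  refine (Set.encard_le_encard hsub).trans ?_
  rw [← Set.image_univ]
  refine (Set.encard_image_le _ _).trans ?_
  rw [Set.encard_univ, ENat.card_eq_coe_natCard]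
  exact_mod_cast hT

end Groth.Agent.S1843
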