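import Groth.Statements.S18430

set_option autoImplicit false
universe u
open SpinCurv

namespace Groth.Agent.S18430

/-- Let n ≥ 1 and r ≥ 2 be integers and let e_0, …, e_{nr} be integers, thought of as the coefficients
of two non-exceptional components C = E_0 and D = E_{nr} of the special fibre and of the chain of nr
- 1 exceptional curves joining them. If at every interior index 1 ≤ j ≤ nr - 1 the second difference
e_{j-1} - 2 e_j + e_{j+1} is divisible by r (the degree of the divisor on each exceptional curve of
the chain is a multiple of r), then e_0 ≡ e_{nr} modulo r. (The published statement deduces from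
this step, using that the special fibre is connected, that all non-exceptional components are joined
by such chains and that one non-exceptional coefficient may be taken to be 0, that every
non-exceptional coefficient can be assumed divisible by r; only the chain step is stated here.) -/
theorem result (n r : ℕ) (hn : 1 ≤ n) (hr : 2 ≤ r)
    (e : ℕ → ℤ)
    (hdiv : ∀ j : ℕ, 1 ≤ j → j < n * r → (r : ℤ) ∣ e (j - 1) - 2 * e j + e (j + 1)) :
    (r : ℤ) ∣ e (n * r) - e 0 := by
  have step : ∀ j : ℕ, j < n * r → (r : ℤ) ∣ (e (j + 1) - e j) - (e 1 - e 0) := by
    intro j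
    induction j with
    | zero => intro _; simp
    | succ j ih =>
      intro hj
      obtain ⟨a, ha⟩ := hdiv (j + 1) (by omega) hj
      obtain ⟨b, hb⟩ := ih (by omega)
      rw [show j + 1 - 1 = j by omega] at ha
      exact ⟨a + b, by linear_combination ha + hb⟩
  have tot : ∀ j : ℕ, j ≤ n * r → (r : ℤ) ∣ e j - e 0 - (j : ℤ) * (e 1 - e 0) := by
    intro j
    induction j with
    | zero => intro _; simp
    | succ j ih =>
      intro hj
      obtain ⟨a, ha⟩ := step j (by omega)
      obtain ⟨b, hb⟩ := ih (by omega)
      exact ⟨a + b, by push_cast; linear_combination ha + hb⟩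
  have h := tot (n * r) le_rfl
  have h2 : (r : ℤ) ∣ ((n * r : ℕ) : ℤ) * (e 1 - e 0) := (Int.natCast_dvd_natCast.2 (dvd_mul_left r n)).mul_right _
  simpa using dvd_add h h2

end Groth.Agent.S18430
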