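import Groth.Statements.S18431
import Mathlib.RingTheory.LocalRing.ResidueField.Basic
import Mathlib.Algebra.Ring.GeomSum
import Mathlib.Tactic.Ring

set_option autoImplicit false
universe u
open SpinCurv

namespace Groth.Agent.S18431

/-- Let R be a Noetherian local ring in which the natural number r is invertible and let ξ, ζ ∈ R
satisfy ξ^r = 1 and ζ^r = 1. Then either ξ = ζ, or ξ - ζ is a unit of R. (Consequently an element of
R annihilated by ξ - ζ is zero unless ξ = ζ. In the published setting R is moreover complete; the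
step does not use completeness.) -/
theorem result (R : Type u) [CommRing R] [IsNoetherianRing R] [IsLocalRing R]
    (r : ℕ) (hr : IsUnit (r : R)) (ξ ζ : R) (hξ : ξ ^ r = 1) (hζ : ζ ^ r = 1) :
    ξ = ζ ∨ IsUnit (ξ - ζ) := by
  classical
  by_cases h : IsUnit (ξ - ζ)
  · exact Or.inr h
  refine Or.inl ?_
  rcases Nat.eq_zero_or_pos r with rfl | hrpos
  · rw [Nat.cast_zero] at hr; exact absurd hr not_isUnit_zero
  let π := IsLocalRing.residue R
  have hm : π (ξ - ζ) = 0 := by
    rw [IsLocalRing.residue_eq_zero_iff]; exact h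
  have he : π ξ = π ζ := sub_eq_zero.1 (by rw [← map_sub]; exact hm)
  have hg := geom_sum₂_mul ξ ζ r
  rw [hξ, hζ, sub_self] at hg
  have hu : IsUnit (∑ i ∈ Finset.range r, ξ ^ i * ζ ^ (r - 1 - i)) := by
    refine isUnit_of_map_unit π _ ?_
    rw [map_sum]
    simp only [map_mul, map_pow, he]
    rw [Finset.sum_congr rfl (fun i hi => by rw [← pow_add, show i + (r - 1 - i) = r - 1 by have := Finset.mem_range.1 hi; omega]),
      Finset.sum_const, Finset.card_range, nsmul_eq_mul, ← map_natCast π, ← map_pow, ← map_mul]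
    refine (IsUnit.mul hr (IsUnit.pow _ ?_)).map π
    exact IsUnit.of_mul_eq_one (ζ ^ (r - 1)) (by rw [← pow_succ', show r - 1 + 1 = r by omega, hζ])
  exact sub_eq_zero.1 (hu.mul_right_eq_zero.1 hg)

end Groth.Agent.S18431
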