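import Groth.Statements.S18432
import Groth.Agent.H24.NodeAxes
import Mathlib.Tactic

set_option autoImplicit false
universe u
open SpinCurv

namespace Groth.Agent.S18432

/-- Let R be a complete Noetherian local ring, p, q elements of its maximal ideal, A = R[[x, y]]/(xy -
pq), and α(p, q) the A-linear endomorphism of A² with matrix (x p; q y), sending a column (a, b) to
(x a + p b, q a + y b). Then the kernel of α(p, q) is the submodule of A² generated by the columns
(p, -x) and (y, -q); equivalently the image of α(p, q) (the standard rank-one torsion-free module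
E(p, q)) is presented by two generators ξ, v with the relations p ξ = x v and y ξ = q v. -/
theorem result (R : Type u) [CommRing R] [IsNoetherianRing R] [IsLocalRing R]
    [IsAdicComplete (IsLocalRing.maximalIdeal R) R]
    (p q : R) (hp : p ∈ IsLocalRing.maximalIdeal R) (hq : q ∈ IsLocalRing.maximalIdeal R) :
    LinearMap.ker (Matrix.mulVecLin (SpinCurv.nodeAlpha R p q)) =
      Submodule.span (SpinCurv.NodeRing R (p * q))
        {![algebraMap R (SpinCurv.NodeRing R (p * q)) p, -SpinCurv.NodeRing.x R (p * q)],
         ![SpinCurv.NodeRing.y R (p * q), -algebraMap R (SpinCurv.NodeRing R (p * q)) q]} := by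
  have hI : p * q ∈ IsLocalRing.maximalIdeal R := Ideal.mul_mem_right _ _ hp
  refine le_antisymm (fun v hv => ?_) (Submodule.span_le.2 ?_)
  · obtain ⟨f, g, c, d, rfl⟩ := Groth.Agent.H24.NodeAxes.exists_reduce _ hI v
    have h1 : Matrix.mulVec (SpinCurv.nodeAlpha R p q)
        ![SpinCurv.NodeRing.ofX R (p * q) f, SpinCurv.NodeRing.ofY R (p * q) g] = 0 := by
      rw [LinearMap.mem_ker, Matrix.mulVecLin_apply] at hv
      rw [← hv]
      funext i
      have hxy : SpinCurv.NodeRing.x R (p * q) * SpinCurv.NodeRing.y R (p * q) =
          algebraMap R _ p * algebraMap R _ q :=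
        (Groth.Agent.H24.NodeAxes.xy (R := R) (p * q)).trans (map_mul _ _ _)
      fin_cases i <;>
        simp [SpinCurv.nodeAlpha, Matrix.mulVec, dotProduct, Fin.sum_univ_two]
      · linear_combination (-c) * hxy
      · linear_combination d * hxy
    obtain ⟨rfl, rfl⟩ := Groth.Agent.H24.NodeAxes.alpha_injective _ hI h1
    refine add_mem (add_mem ?_ (Submodule.smul_mem _ _ (Submodule.subset_span (by simp))))
      (Submodule.smul_mem _ _ (Submodule.subset_span (by simp)))
    convert Submodule.zero_mem _
    funext i
    fin_cases i <;> simp [SpinCurv.NodeRing.ofX, SpinCurv.NodeRing.ofY]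
  · have hxy : SpinCurv.NodeRing.x R (p * q) * SpinCurv.NodeRing.y R (p * q) =
          algebraMap R _ p * algebraMap R _ q :=
        (Groth.Agent.H24.NodeAxes.xy (R := R) (p * q)).trans (map_mul _ _ _)
    rintro v (rfl | rfl) <;> rw [SetLike.mem_coe, LinearMap.mem_ker, Matrix.mulVecLin_apply] <;>
      funext i <;> fin_cases i <;>
      simp [SpinCurv.nodeAlpha, Matrix.mulVec, dotProduct, Fin.sum_univ_two]
    all_goals (first | ring1 | linear_combination hxy | linear_combination (-1 : SpinCurv.NodeRing R (p * q)) * hxy)

end Groth.Agent.S18432
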