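import Groth.Statements.S18433
import Groth.Agent.H24.NodeAxes
import Mathlib.Tactic

set_option autoImplicit false
universe u
open SpinCurv

namespace Groth.Agent.S18433

/-- Let R be a complete Noetherian local ring, p, q elements of its maximal ideal, A = R[[x, y]]/(xy -
pq), and α(p, q) the endomorphism (a, b) ↦ (x a + p b, q a + y b) of A². Restrict α(p, q) to pairs
(f, g) with f a power series in x alone and g a power series in y alone: the resulting map R[[x]] ×
R[[y]] → A², (f, g) ↦ (x f + p g, q f + y g), is injective and has the same image as α(p, q). Thus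
the image E(p, q) of α(p, q) is identified, R-linearly, with R[[x]] ⊕ R[[y]]. -/
theorem result (R : Type u) [CommRing R] [IsNoetherianRing R] [IsLocalRing R]
    [IsAdicComplete (IsLocalRing.maximalIdeal R) R]
    (p q : R) (hp : p ∈ IsLocalRing.maximalIdeal R) (hq : q ∈ IsLocalRing.maximalIdeal R) :
    Function.Injective (fun fg : PowerSeries R × PowerSeries R =>
        Matrix.mulVec (SpinCurv.nodeAlpha R p q)
          ![SpinCurv.NodeRing.ofX R (p * q) fg.1, SpinCurv.NodeRing.ofY R (p * q) fg.2]) ∧
    Set.range (fun fg : PowerSeries R × PowerSeries R =>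
        Matrix.mulVec (SpinCurv.nodeAlpha R p q)
          ![SpinCurv.NodeRing.ofX R (p * q) fg.1, SpinCurv.NodeRing.ofY R (p * q) fg.2]) =
      Set.range (Matrix.mulVec (SpinCurv.nodeAlpha R p q)) := by
  have hI : p * q ∈ IsLocalRing.maximalIdeal R := Ideal.mul_mem_right _ _ hp
  constructor
  · intro a b h
    have h1 : Matrix.mulVec (SpinCurv.nodeAlpha R p q)
        ![SpinCurv.NodeRing.ofX R (p * q) (a.1 - b.1), SpinCurv.NodeRing.ofY R (p * q) (a.2 - b.2)] = 0 := by
      rw [show ![SpinCurv.NodeRing.ofX R (p * q) (a.1 - b.1), SpinCurv.NodeRing.ofY R (p * q) (a.2 - b.2)] =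
        ![SpinCurv.NodeRing.ofX R (p * q) a.1, SpinCurv.NodeRing.ofY R (p * q) a.2] -
          ![SpinCurv.NodeRing.ofX R (p * q) b.1, SpinCurv.NodeRing.ofY R (p * q) b.2] by
        funext i; fin_cases i <;> simp [SpinCurv.NodeRing.ofX, SpinCurv.NodeRing.ofY],
        Matrix.mulVec_sub]
      exact sub_eq_zero.2 h
    obtain ⟨e1, e2⟩ := Groth.Agent.H24.NodeAxes.alpha_injective _ hI h1
    exact Prod.ext (sub_eq_zero.1 e1) (sub_eq_zero.1 e2)
  · refine le_antisymm (fun y hy => ?_) (fun y hy => ?_)
    · obtain ⟨fg, rfl⟩ := hy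
      exact ⟨_, rfl⟩
    · obtain ⟨v, rfl⟩ := hy
      obtain ⟨f, g, c, d, rfl⟩ := Groth.Agent.H24.NodeAxes.exists_reduce _ hI v
      refine ⟨(f, g), ?_⟩
      have hxy : SpinCurv.NodeRing.x R (p * q) * SpinCurv.NodeRing.y R (p * q) =
          algebraMap R _ p * algebraMap R _ q :=
        (Groth.Agent.H24.NodeAxes.xy (R := R) (p * q)).trans (map_mul _ _ _)
      funext i
      fin_cases i <;> simp [SpinCurv.nodeAlpha, Matrix.mulVec, dotProduct, Fin.sum_univ_two]
      · linear_combination (-c) * hxy
      · linear_combination d * hxy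

end Groth.Agent.S18433
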