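import Groth.Statements.S18434
import Groth.Agent.H24.NodeAxes
import Mathlib.Tactic
import Mathlib.LinearAlgebra.Dimension.Constructions

set_option autoImplicit false
universe u
open SpinCurv

namespace Groth.Agent.S18434

/-- Let k be a field, u, v ≥ 1 integers and w ∈ k nonzero. In the ring A = k[[x, y]]/(xy), the quotient
A/(x^u, w y^v) has dimension u + v - 1 over k (a basis is 1, x, …, x^{u-1}, y, …, y^{v-1}); this is
the length of the cokernel at the node of a map whose image is generated by x^u and w y^v. -/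
theorem result (k : Type u) [Field k] (u v : ℕ) (hu : 1 ≤ u) (hv : 1 ≤ v)
    (w : k) (hw : w ≠ 0) :
    Module.finrank k (SpinCurv.NodeRing k 0 ⧸
      Ideal.span {SpinCurv.NodeRing.x k 0 ^ u, algebraMap k (SpinCurv.NodeRing k 0) w * SpinCurv.NodeRing.y k 0 ^ v}) =
      u + v - 1 := by
  classical
  obtain ⟨v, rfl⟩ := Nat.exists_eq_add_of_le hv
  let ext : ∀ {n : ℕ}, (Fin n → k) → ℕ → k := fun {n} a m => if h : m < n then a ⟨m, h⟩ else 0
  let ax : ((Fin u → k) × (Fin v → k)) →ₗ[k] MvPowerSeries (Fin 2) k :=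
    { toFun := fun ab => Groth.Agent.H24.NodeRing.axes (ext ab.1) (ext ab.2)
      map_add' := fun a b => MvPowerSeries.ext fun d => by
        simp only [map_add, Groth.Agent.H24.NodeRing.coeff_axes, ext, Prod.fst_add, Prod.snd_add, Pi.add_apply]
        split_ifs <;> simp
      map_smul' := fun c a => MvPowerSeries.ext fun d => by
        simp only [RingHom.id_apply, map_smul, Groth.Agent.H24.NodeRing.coeff_axes, ext, Prod.smul_fst,
          Prod.smul_snd, Pi.smul_apply]
        split_ifs <;> simp }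
  let J : Ideal (SpinCurv.NodeRing k 0) := Ideal.span {SpinCurv.NodeRing.x k 0 ^ u,
    algebraMap k (SpinCurv.NodeRing k 0) w * SpinCurv.NodeRing.y k 0 ^ (1 + v)}
  let Φ : ((Fin u → k) × (Fin v → k)) →ₗ[k] SpinCurv.NodeRing k 0 ⧸ J :=
    ((Ideal.Quotient.mkₐ k J).toLinearMap.comp (Ideal.Quotient.mkₐ k _).toLinearMap).comp ax
  suffices hbij : Function.Bijective Φ by
    rw [← (LinearEquiv.ofBijective Φ hbij).finrank_eq, Module.finrank_prod, Module.finrank_pi,
      Module.finrank_pi]
    simp; omega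
  refine ⟨(injective_iff_map_eq_zero Φ).2 fun ab hab => ?_, fun z => ?_⟩
  · obtain ⟨A, B, hAB⟩ := Ideal.mem_span_pair.1 (Ideal.Quotient.eq_zero_iff_mem.1 hab)
    obtain ⟨A, rfl⟩ := Ideal.Quotient.mk_surjective A
    obtain ⟨B, rfl⟩ := Ideal.Quotient.mk_surjective B
    have hAB' : Ideal.Quotient.mk (Ideal.span {MvPowerSeries.X 0 * MvPowerSeries.X 1 -
        MvPowerSeries.C (0 : k)}) (A * MvPowerSeries.X 0 ^ u +
        B * (MvPowerSeries.C w * MvPowerSeries.X 1 ^ (1 + v))) = Ideal.Quotient.mk _ (ax ab) := by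
      rw [map_add, map_mul, map_mul, map_mul, map_pow, map_pow]; exact hAB
    obtain ⟨h, hh⟩ := Ideal.mem_span_singleton'.1 (Ideal.Quotient.eq.1 hAB')
    have key : ∀ d : Fin 2 →₀ ℕ, (d 0 = 0 ∨ d 1 = 0) → d 0 < u → d 1 < 1 + v →
        MvPowerSeries.coeff d (ax ab) = 0 := by
      intro d hd h0 h1
      have h2 := congrArg (MvPowerSeries.coeff d) hh
      rw [map_zero, sub_zero, mul_comm, Groth.Agent.H24.NodeRing.coeff_X0X1_mul, if_neg (by omega), map_sub,
        map_add, ← mul_assoc,
        MvPowerSeries.X_pow_dvd_iff.1 (Dvd.intro_left A rfl) d h0,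
        MvPowerSeries.X_pow_dvd_iff.1 (Dvd.intro_left (B * MvPowerSeries.C w) rfl) d h1] at h2
      simpa using h2.symm
    refine Prod.ext (funext fun i => ?_) (funext fun i => ?_)
    · have h3 := key (Finsupp.single 0 i) (Or.inr (by simp)) (by simp) (by simp)
      simpa [ax, ext, Groth.Agent.H24.NodeRing.coeff_axes, i.2] using h3
    · have h3 := key (Finsupp.single 1 (i + 1)) (Or.inl (by simp)) (by simp; omega) (by simp; omega)
      simpa [ax, ext, Groth.Agent.H24.NodeRing.coeff_axes, i.2] using h3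
  · obtain ⟨z, rfl⟩ := Ideal.Quotient.mk_surjective z
    obtain ⟨F, rfl⟩ := Ideal.Quotient.mk_surjective z
    obtain ⟨a, b, hF⟩ := Groth.Agent.H24.NodeRing.exists_axes (⊥ : Ideal k) (r := 0) (zero_mem _) F
    refine ⟨(fun i => a i, fun i => b i), ?_⟩
    show Ideal.Quotient.mk J (Ideal.Quotient.mk _ (Groth.Agent.H24.NodeRing.axes (ext _) (ext _))) =
      Ideal.Quotient.mk J (Ideal.Quotient.mk _ F)
    rw [show Ideal.Quotient.mk (Ideal.span {MvPowerSeries.X 0 * MvPowerSeries.X 1 -
        MvPowerSeries.C (0 : k)}) F = Ideal.Quotient.mk _ (Groth.Agent.H24.NodeRing.axes a b) from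
      Ideal.Quotient.eq.2 hF]
    symm
    rw [Ideal.Quotient.eq, ← map_sub, Ideal.mem_span_pair]
    refine ⟨Ideal.Quotient.mk _ (Groth.Agent.H24.NodeRing.ser 0 fun m => a (u + m)),
      algebraMap k _ w⁻¹ * Ideal.Quotient.mk _ (Groth.Agent.H24.NodeRing.ser 1 fun m => b (v + m)), ?_⟩
    rw [show ∀ s t y : SpinCurv.NodeRing k 0, algebraMap k _ w⁻¹ * s * (algebraMap k _ w * y) =
        algebraMap k _ (w⁻¹ * w) * (s * y) from fun s t y => by rw [map_mul]; ring,
      inv_mul_cancel₀ hw, map_one, one_mul, ← map_pow, ← map_pow, ← map_mul, ← map_mul, ← map_add]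
    swap; · exact 0
    congr 1
    ext d
    simp only [map_add, map_sub, MvPowerSeries.X_pow_eq, MvPowerSeries.coeff_mul_monomial, mul_one,
      MvPowerSeries.coeff_monomial_mul, Groth.Agent.H24.NodeRing.coeff_ser,
      Groth.Agent.H24.NodeRing.coeff_axes, Finsupp.single_le_iff, Finsupp.tsub_apply,
      Finsupp.single_apply, one_mul, ext]
    simp only [Fin.isValue, show (1 - 0 : Fin 2) = 1 from rfl, show (1 - 1 : Fin 2) = 0 from rfl,
      zero_ne_one, one_ne_zero, if_true, if_false, Nat.sub_zero]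
    split_ifs <;> simp <;>
      (try (first | (exfalso; omega) | (congr 1; omega) | omega))

end Groth.Agent.S18434
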