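import Groth.Statements.S18435
import Groth.Agent.H24.PolyNodeSections

set_option autoImplicit false
universe u
open SpinCurv

namespace Groth.Agent.S18435

open Groth.Agent.H24.PolyNode in
theorem aux {k : Type u} [CommRing k] (g : SpinCurv.PolyNodeRing k 0)
    (h : SpinCurv.PolyNodeRing.y k 0 * g = 0) : ∃ A : Polynomial k, nf k 0 (Polynomial.X * A, 0) = g := by
  obtain ⟨⟨A, B⟩, rfl⟩ := nf_surjective k 0 g
  rw [y_mul_nf, map_eq_zero_iff _ (nf_injective 0), Prod.mk_eq_zero] at h
  have h0 : A.coeff 0 = 0 := by simpa using congrArg (fun P => Polynomial.coeff P 0) h.2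
  have hB : B = 0 := by
    ext i
    simpa using congrArg (fun P => Polynomial.coeff P (i + 1)) h.2
  refine ⟨A.divX, ?_⟩
  rw [hB]
  congr 2
  conv_rhs => rw [← Polynomial.X_mul_divX_add A]
  rw [h0, map_zero, add_zero]

/-- Let k be a field and A = k[x, y]/(xy) the node, with the two affine charts U = Spec k[s, y]/(sy) and
V = Spec k[t, x]/(tx) of the curve obtained by the (p, q)-construction with p = q = 0, glued along
k[s, s⁻¹] by t = s⁻¹ (y ↦ 0 from U, x ↦ 0 from V), and with A → O(U) given by x ↦ 0, y ↦ y and A →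
O(V) by x ↦ x, y ↦ 0. A global section of O(1) is a pair (g, f) with g = s f on U ∩ V. If such a
pair is annihilated by both x and y (acting through the two restriction maps), then g = 0 and f = 0;
so the module of global sections of O(1) has no nonzero element killed by the maximal ideal (x, y),
i.e. its direct image on the node is torsion-free there. All three coordinate rings are written as
the quotient of the polynomial ring in two variables by the product of the variables, and the four
restriction homomorphisms are k-algebra maps pinned by their values on generators. (The published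
proof reduces the torsion-freeness of the direct image of O(1), for general R, p, q, to exactly this
case of a field with p = q = 0.) -/
theorem result (k : Type u) [Field k]
    (rU : SpinCurv.PolyNodeRing k 0 →ₐ[k] SpinCurv.PolyNodeRing k 0)
    (hrUx : rU (SpinCurv.PolyNodeRing.x k 0) = 0)
    (hrUy : rU (SpinCurv.PolyNodeRing.y k 0) = SpinCurv.PolyNodeRing.y k 0)
    (rV : SpinCurv.PolyNodeRing k 0 →ₐ[k] SpinCurv.PolyNodeRing k 0)
    (hrVx : rV (SpinCurv.PolyNodeRing.x k 0) = SpinCurv.PolyNodeRing.y k 0)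
    (hrVy : rV (SpinCurv.PolyNodeRing.y k 0) = 0)
    (gU : SpinCurv.PolyNodeRing k 0 →ₐ[k] LaurentPolynomial k)
    (hgUs : gU (SpinCurv.PolyNodeRing.x k 0) = LaurentPolynomial.T 1)
    (hgUy : gU (SpinCurv.PolyNodeRing.y k 0) = 0)
    (gV : SpinCurv.PolyNodeRing k 0 →ₐ[k] LaurentPolynomial k)
    (hgVt : gV (SpinCurv.PolyNodeRing.x k 0) = LaurentPolynomial.T (-1))
    (hgVx : gV (SpinCurv.PolyNodeRing.y k 0) = 0)
    (g f : SpinCurv.PolyNodeRing k 0) (hsec : gU g = LaurentPolynomial.T 1 * gV f)
    (hx : rU (SpinCurv.PolyNodeRing.x k 0) * g = 0 ∧ rV (SpinCurv.PolyNodeRing.x k 0) * f = 0)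
    (hy : rU (SpinCurv.PolyNodeRing.y k 0) * g = 0 ∧ rV (SpinCurv.PolyNodeRing.y k 0) * f = 0) :
    g = 0 ∧ f = 0 := by
  rw [hrUy] at hy
  rw [hrVx] at hx
  obtain ⟨A, rfl⟩ := aux g hy.1
  obtain ⟨C', rfl⟩ := aux f hx.2
  open Groth.Agent.H24.PolyNode in
  rw [hom_nf 0 gU hgUs (by rw [hgUy, map_zero, zero_mul]),
    hom_nf' 0 gV hgVt (by rw [hgVx, map_zero, zero_mul])] at hsec
  simp only [map_zero, zero_mul, add_zero, map_mul, Polynomial.toLaurent_X,
    LaurentPolynomial.invert_T, ← mul_assoc, ← LaurentPolynomial.T_add, add_neg_cancel] at hsec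
  obtain ⟨rfl, rfl⟩ := Groth.Agent.H24.PolyNode.split A C' 1 0 (by norm_num)
    (by rw [pow_one, map_mul, Polynomial.toLaurent_X, hsec])
  simp only [mul_zero, Prod.mk_zero_zero, map_zero, and_self]

end Groth.Agent.S18435
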