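import Groth.Statements.S18436
import Groth.Agent.H24.PolyNodeSections
import Mathlib.LinearAlgebra.FreeModule.Basic
import Mathlib.Tactic

set_option autoImplicit false
universe u
open SpinCurv

namespace Groth.Agent.S18436

/-- Let R be a commutative ring and p, q ∈ R, and consider the two affine charts U = Spec R[s, y]/(sy -
q) and V = Spec R[t, x]/(xt - p) of the curve obtained from the node xy = pq by the (p,
q)-construction, glued along R[s, s⁻¹] by t = s⁻¹ (so y = q s⁻¹ on U and x = p s on V). For an
integer n ≥ -1 the global sections of the twisting sheaf O(n) (equal to vⁿ O on U and to ξⁿ O on V,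
ξ = s v) are the pairs (g, f) of functions on U and V with g = sⁿ f on U ∩ V. This R-module, written
as the kernel of the R-linear map (g, f) ↦ g|_{U ∩ V} - sⁿ · f|_{U ∩ V} into R[s, s⁻¹], is free over
R (hence the direct image of O(n) on the node is flat over R). Both chart rings are written as the
quotient of the polynomial ring in two variables by (first variable)·(second variable) - constant,
and the two restriction homomorphisms to R[s, s⁻¹] are R-algebra maps pinned by their values on
generators. (The published setting has R complete local and p, q in the maximal ideal; the printed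
computation uses neither.) -/
theorem result (R : Type u) [CommRing R] (p q : R)
    (gU : SpinCurv.PolyNodeRing R q →ₐ[R] LaurentPolynomial R)
    (hgUs : gU (SpinCurv.PolyNodeRing.x R q) = LaurentPolynomial.T 1)
    (hgUy : gU (SpinCurv.PolyNodeRing.y R q) = LaurentPolynomial.C q * LaurentPolynomial.T (-1))
    (gV : SpinCurv.PolyNodeRing R p →ₐ[R] LaurentPolynomial R)
    (hgVt : gV (SpinCurv.PolyNodeRing.x R p) = LaurentPolynomial.T (-1))
    (hgVx : gV (SpinCurv.PolyNodeRing.y R p) = LaurentPolynomial.C p * LaurentPolynomial.T 1)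
    (n : ℤ) (hn : -1 ≤ n) :
    Module.Free R (LinearMap.ker
      (gU.toLinearMap.comp (LinearMap.fst R (SpinCurv.PolyNodeRing R q) (SpinCurv.PolyNodeRing R p)) -
        (LinearMap.mulLeft R (LaurentPolynomial.T n)).comp
          (gV.toLinearMap.comp (LinearMap.snd R (SpinCurv.PolyNodeRing R q) (SpinCurv.PolyNodeRing R p))))) := by
  obtain ⟨m, rfl⟩ : ∃ m : ℕ, n = (m : ℤ) - 1 := ⟨(n + 1).toNat, by omega⟩
  open Groth.Agent.H24.PolyNode in
  let Φ : ((Fin m → R) × Polynomial R × Polynomial R) →ₗ[R]
      SpinCurv.PolyNodeRing R q × SpinCurv.PolyNodeRing R p :=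
    { toFun := fun x => sect p q x.1 x.2.1 x.2.2
      map_add' := fun x y => by
        simp only [sect, low, Prod.fst_add, Prod.snd_add, Pi.add_apply, map_add,
          Finset.sum_add_distrib, Polynomial.add_comp, mul_add]
        rw [Prod.mk_add_mk, ← map_add, ← map_add, Prod.mk_add_mk, Prod.mk_add_mk]
        congr 3 <;> abel
      map_smul' := fun c x => by
        simp only [sect, low, RingHom.id_apply, Prod.smul_fst, Prod.smul_snd, Pi.smul_apply,
          map_smul (Polynomial.monomial _), Polynomial.smul_comp, mul_smul_comm]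
        rw [← Finset.smul_sum, ← Finset.smul_sum, ← smul_add, ← smul_add, Prod.smul_mk,
          ← map_smul, ← map_smul, Prod.smul_mk, Prod.smul_mk] }
  have hinj : Function.Injective Φ := (injective_iff_map_eq_zero Φ).2 fun x hx => by
    obtain ⟨h1, h2, h3⟩ := Groth.Agent.H24.PolyNode.sect_eq_zero x.1 x.2.1 x.2.2 hx
    exact Prod.ext h1 (Prod.ext h2 h3)
  have hrange : LinearMap.range Φ = LinearMap.ker
      (gU.toLinearMap.comp (LinearMap.fst R (SpinCurv.PolyNodeRing R q) (SpinCurv.PolyNodeRing R p)) -
        (LinearMap.mulLeft R (LaurentPolynomial.T ((m : ℤ) - 1))).comp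
          (gV.toLinearMap.comp
            (LinearMap.snd R (SpinCurv.PolyNodeRing R q) (SpinCurv.PolyNodeRing R p)))) := by
    refine le_antisymm ?_ fun z hz => ?_
    · rintro _ ⟨x, rfl⟩
      exact sub_eq_zero.2
        (Groth.Agent.H24.PolyNode.sect_mem gU hgUs hgUy gV hgVt hgVx x.1 x.2.1 x.2.2)
    · obtain ⟨a, B, D, h⟩ := Groth.Agent.H24.PolyNode.exists_sect gU hgUs hgUy gV hgVt hgVx z.1 z.2
        (sub_eq_zero.1 hz)
      exact ⟨(a, B, D), h⟩
  exact Module.Free.of_equiv ((LinearEquiv.ofInjective Φ hinj).trans (LinearEquiv.ofEq _ _ hrange))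

end Groth.Agent.S18436
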