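import Groth.Statements.S18437
import Groth.Agent.H24.PolyNodeSections
import Mathlib.LinearAlgebra.Pi
import Mathlib.Tactic

set_option autoImplicit false
universe u
open SpinCurv

namespace Groth.Agent.S18437

open Groth.Agent.H24.PolyNode

section

variable {R : Type u} [CommRing R] (p q : R) (n : ℕ)

local notation "A" => SpinCurv.PolyNodeRing R (p * q)
local notation "M" => (Fin (n + 1) → SpinCurv.PolyNodeRing R (p * q))

/-- Lifts of the parametrization to the free module. -/
noncomputable def lift : ((Fin (n + 1) → R) × Polynomial R × Polynomial R) →ₗ[R] M :=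
  (LinearMap.pi fun i : Fin (n + 1) => (Algebra.linearMap R A).comp (LinearMap.proj i.rev)).comp
      (LinearMap.fst R _ _) +
    ((LinearMap.single R (fun _ : Fin (n + 1) => A) (Fin.last n)).comp
      ((LinearMap.mulLeft R (SpinCurv.PolyNodeRing.y R (p * q))).comp
        (Polynomial.aeval (SpinCurv.PolyNodeRing.y R (p * q))).toLinearMap)).comp
      ((LinearMap.fst R _ _).comp (LinearMap.snd R _ _)) +
    ((LinearMap.single R (fun _ : Fin (n + 1) => A) 0).comp
      ((LinearMap.mulLeft R (SpinCurv.PolyNodeRing.x R (p * q))).comp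
        (Polynomial.aeval (SpinCurv.PolyNodeRing.x R (p * q))).toLinearMap)).comp
      ((LinearMap.snd R _ _).comp (LinearMap.snd R _ _))

theorem lift_apply (a : Fin (n + 1) → R) (B D : Polynomial R) :
    lift p q n (a, B, D) = (fun i => algebraMap R A (a i.rev)) +
      Pi.single (Fin.last n) (SpinCurv.PolyNodeRing.y R (p * q) *
        Polynomial.aeval (SpinCurv.PolyNodeRing.y R (p * q)) B) +
      Pi.single 0 (SpinCurv.PolyNodeRing.x R (p * q) *
        Polynomial.aeval (SpinCurv.PolyNodeRing.x R (p * q)) D) := rfl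

theorem smul_single {ι : Type} [DecidableEq ι] {S : Type u} [CommRing S] (i : ι) (z w : S) :
    z • (Pi.single i w : ι → S) = Pi.single i (z * w) := by
  funext j
  rcases eq_or_ne j i with rfl | h
  · simp
  · simp [h]

theorem exists_lift_sub_mem (N : Submodule A M)
    (hN1 : ∀ i : Fin n, Pi.single (Fin.castSucc i) (algebraMap R A p) -
      Pi.single (Fin.succ i) (SpinCurv.PolyNodeRing.x R (p * q)) ∈ N)
    (hN2 : ∀ i : Fin n, Pi.single (Fin.castSucc i) (SpinCurv.PolyNodeRing.y R (p * q)) -
      Pi.single (Fin.succ i) (algebraMap R A q) ∈ N) (F : M) :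
    ∃ v, F - lift p q n v ∈ N := by
  classical
  let x : A := SpinCurv.PolyNodeRing.x R (p * q)
  let y : A := SpinCurv.PolyNodeRing.y R (p * q)
  have hxy : x * y = algebraMap R A (p * q) := x_mul_y R _
  let W : Submodule R M := LinearMap.range (lift p q n) ⊔ N.restrictScalars R
  have hN : ∀ ν ∈ N, ν ∈ W := fun ν hν => Submodule.mem_sup_right hν
  have hc : ∀ (i : Fin (n + 1)) (c : R), (Pi.single i (algebraMap R A c) : M) ∈ W := fun i c =>
    Submodule.mem_sup_left ⟨(Pi.single i.rev c, 0, 0), by
      rw [lift_apply, map_zero, map_zero, mul_zero, mul_zero, Pi.single_zero, Pi.single_zero,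
        add_zero, add_zero]
      funext j
      rcases eq_or_ne j i with rfl | h
      · rw [Pi.single_eq_same, Pi.single_eq_same]
      · rw [Pi.single_eq_of_ne h, Pi.single_eq_of_ne (fun h' => h (Fin.rev_injective h')), map_zero]⟩
  have hB : ∀ B : Polynomial R, (Pi.single (Fin.last n) (y * Polynomial.aeval y B) : M) ∈ W :=
    fun B => Submodule.mem_sup_left ⟨(0, B, 0), by
      rw [lift_apply, map_zero, mul_zero, Pi.single_zero, add_zero]
      simp only [Pi.zero_apply, map_zero]
      exact zero_add _⟩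
  have hD : ∀ D : Polynomial R, (Pi.single 0 (x * Polynomial.aeval x D) : M) ∈ W :=
    fun D => Submodule.mem_sup_left ⟨(0, 0, D), by
      rw [lift_apply, map_zero, mul_zero, Pi.single_zero, add_zero]
      simp only [Pi.zero_apply, map_zero]
      exact zero_add _⟩
  have hxc : ∀ (i : Fin (n + 1)) (c : R), x • (Pi.single i (algebraMap R A c) : M) ∈ W := by
    intro i c
    rw [smul_single]
    induction i using Fin.cases with
    | zero => simpa using hD (Polynomial.C c)
    | succ j =>
      have h1 := sub_mem (hc j.castSucc (c * p)) (hN _ (N.smul_mem (algebraMap R A c) (hN1 j)))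
      rwa [smul_sub, smul_single, smul_single, ← map_mul,
        sub_sub_cancel, mul_comm (algebraMap R A c)] at h1
  have hyc : ∀ (i : Fin (n + 1)) (c : R), y • (Pi.single i (algebraMap R A c) : M) ∈ W := by
    intro i c
    rw [smul_single]
    induction i using Fin.lastCases with
    | last => simpa using hB (Polynomial.C c)
    | cast j =>
      have h1 := add_mem (hN _ (N.smul_mem (algebraMap R A c) (hN2 j))) (hc j.succ (c * q))
      rwa [smul_sub, smul_single, smul_single, ← map_mul,
        sub_add_cancel, mul_comm (algebraMap R A c)] at h1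
  have hconst : ∀ (z : A), (∀ (i : Fin (n + 1)) (c : R),
      z • (Pi.single i (algebraMap R A c) : M) ∈ W) → ∀ a : Fin (n + 1) → R,
      z • (fun i => algebraMap R A (a i.rev) : M) ∈ W := by
    intro z hz a
    rw [← Finset.univ_sum_single (fun i => algebraMap R A (a i.rev) : M), Finset.smul_sum]
    exact sum_mem fun i _ => hz i _
  have hpq : ∀ (i : Fin (n + 1)) (z : A) (B : Polynomial R),
      (∀ B : Polynomial R, (Pi.single i (z * Polynomial.aeval z B) : M) ∈ W) →
      (Pi.single i (algebraMap R A (p * q) * Polynomial.aeval z B) : M) ∈ W := by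
    intro i z B hz
    rw [aeval_split R z B, mul_add, Pi.single_add, ← map_mul]
    refine add_mem ?_ (hc _ _)
    rw [← smul_single, algebraMap_smul]
    exact W.smul_mem _ (hz _)
  have hx : ∀ w ∈ W, x • w ∈ W := by
    intro w hw
    obtain ⟨_, ⟨⟨a, B, D⟩, rfl⟩, ν, hν, rfl⟩ := Submodule.mem_sup.1 hw
    rw [lift_apply, smul_add, smul_add, smul_add, smul_single, smul_single]
    refine add_mem (add_mem (add_mem (hconst x hxc a) ?_) ?_) (hN _ (N.smul_mem x hν))
    · rw [← mul_assoc, hxy]; exact hpq _ y B hB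
    · rw [show x * (x * Polynomial.aeval x D) = x * Polynomial.aeval x (Polynomial.X * D) from
        congrArg (x * ·) (by simp)]
      exact hD _
  have hy : ∀ w ∈ W, y • w ∈ W := by
    intro w hw
    obtain ⟨_, ⟨⟨a, B, D⟩, rfl⟩, ν, hν, rfl⟩ := Submodule.mem_sup.1 hw
    rw [lift_apply, smul_add, smul_add, smul_add, smul_single, smul_single]
    refine add_mem (add_mem (add_mem (hconst y hyc a) ?_) ?_) (hN _ (N.smul_mem y hν))
    · rw [show y * (y * Polynomial.aeval y B) = y * Polynomial.aeval y (Polynomial.X * B) from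
        congrArg (y * ·) (by simp)]
      exact hB _
    · rw [← mul_assoc, mul_comm y x, hxy]; exact hpq _ x D hD
  have htop : F ∈ W := by
    rw [← Finset.univ_sum_single F]
    refine sum_mem fun i _ => ?_
    have h1 := smul_mem_of_stable R W hx hy (F i) _ (hc i 1)
    rwa [map_one, smul_single, mul_one] at h1
  obtain ⟨_, ⟨v, rfl⟩, ν, hν, rfl⟩ := Submodule.mem_sup.1 htop
  exact ⟨v, by rwa [add_sub_cancel_left]⟩

theorem chart_lift (rU : A →ₐ[R] SpinCurv.PolyNodeRing R q)
    (hrUx : rU (SpinCurv.PolyNodeRing.x R (p * q)) = algebraMap R _ p * SpinCurv.PolyNodeRing.x R q)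
    (hrUy : rU (SpinCurv.PolyNodeRing.y R (p * q)) = SpinCurv.PolyNodeRing.y R q)
    (rV : A →ₐ[R] SpinCurv.PolyNodeRing R p)
    (hrVx : rV (SpinCurv.PolyNodeRing.x R (p * q)) = SpinCurv.PolyNodeRing.y R p)
    (hrVy : rV (SpinCurv.PolyNodeRing.y R (p * q)) = algebraMap R _ q * SpinCurv.PolyNodeRing.x R p)
    (a : Fin (n + 1) → R) (B D : Polynomial R) :
    (∑ i : Fin (n + 1), rU (lift p q n (a, B, D) i) * SpinCurv.PolyNodeRing.x R q ^ (n - (i : ℕ)),
      ∑ i : Fin (n + 1), rV (lift p q n (a, B, D) i) * SpinCurv.PolyNodeRing.x R p ^ (i : ℕ)) =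
      sect p q a B D := by
  classical
  have hsU : ∀ i : Fin (n + 1), n - (i : ℕ) = (i.rev : ℕ) := fun i => by rw [Fin.val_rev]; omega
  rw [lift_apply]
  simp only [Pi.add_apply, Pi.single_apply, apply_ite rU, apply_ite rV, map_add, map_zero, add_mul,
    Finset.sum_add_distrib, ite_mul, zero_mul, Finset.sum_ite_eq', Finset.mem_univ, if_true,
    Fin.val_last, Fin.val_zero, Nat.sub_self, Nat.sub_zero, pow_zero, mul_one, AlgHom.commutes,
    map_mul, ← Polynomial.aeval_algHom_apply, hrUx, hrUy, hrVx, hrVy, sect, nf_apply,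
    Polynomial.aeval_comp, Polynomial.aeval_C, Polynomial.aeval_X, map_pow, low, map_sum,
    Polynomial.aeval_monomial]
  congr 1
  · rw [Fintype.sum_equiv Fin.revPerm
      (fun i : Fin (n + 1) => algebraMap R (SpinCurv.PolyNodeRing R q) (a i.rev) *
        SpinCurv.PolyNodeRing.x R q ^ (n - (i : ℕ)))
      (fun i : Fin (n + 1) => algebraMap R (SpinCurv.PolyNodeRing R q) (a i) *
        SpinCurv.PolyNodeRing.x R q ^ (i : ℕ)) fun i => by rw [Fin.revPerm_apply, hsU]]
    ring
  · ring

end

/-- Let R be a commutative ring and p, q ∈ R; put A = R[x, y]/(xy - pq) and consider the two affine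
charts U = Spec R[s, y]/(sy - q) and V = Spec R[t, x]/(xt - p) of the curve obtained from Spec A by
blowing up as in the (p, q)-construction, glued along R[s, s⁻¹] by t = s⁻¹ (so y = q s⁻¹ on U and x
= p s on V), with the projection to Spec A given by x ↦ p s, y ↦ y on U and x ↦ x, y ↦ q t on V. For
n ≥ 0 the twisting sheaf O(n) is vⁿ O on U and ξⁿ O on V with ξ = s v, so its global sections are
the pairs (g, f) of functions on U and V with g = sⁿ f on U ∩ V. Then the map A^{n+1} → O(U) × O(V)
sending (F_0, …, F_n), i.e. the section Σ F_i ξ^{n-i} v^i, to (Σ F_i|_U s^{n-i}, Σ F_i|_V t^i) has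
image exactly the set of such pairs, and F is sent to zero exactly when it lies in the A-submodule
of A^{n+1} generated by the vectors p e_i - x e_{i+1} and y e_i - q e_{i+1} for 0 ≤ i < n (e_0, …,
e_n the standard basis). So the global sections of O(n) form the degree-n piece of A[ξ, v]/(p ξ - x
v, q v - y ξ). For n = 0 this says that a ↦ (a|_U, a|_V) is injective on A with image the pairs of
functions that agree on U ∩ V, so that the functions on the blown-up curve are exactly the functions
on Spec A (the direct image of its structure sheaf is the structure sheaf of Spec A); for n = 1 it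
presents the global sections of O(1) as A ξ ⊕ A v modulo the relations p ξ = x v and y ξ = q v. Here
R[s, y]/(sy - q) and R[t, x]/(xt - p) are both written as the quotient of the polynomial ring in two
variables by (first variable)·(second variable) - constant, the homomorphisms rU, rV are the
restriction maps from A to the two charts and gU, gV the restriction maps from the charts to their
intersection R[s, s⁻¹] (Laurent polynomials), each pinned by its values on the two generators. (The
published setting has R complete local and p, q in the maximal ideal, and reduces to this polynomial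
computation, which uses neither.) -/
theorem result (R : Type u) [CommRing R] (p q : R)
    (rU : SpinCurv.PolyNodeRing R (p * q) →ₐ[R] SpinCurv.PolyNodeRing R q)
    (hrUx : rU (SpinCurv.PolyNodeRing.x R (p * q)) = algebraMap R _ p * SpinCurv.PolyNodeRing.x R q)
    (hrUy : rU (SpinCurv.PolyNodeRing.y R (p * q)) = SpinCurv.PolyNodeRing.y R q)
    (rV : SpinCurv.PolyNodeRing R (p * q) →ₐ[R] SpinCurv.PolyNodeRing R p)
    (hrVx : rV (SpinCurv.PolyNodeRing.x R (p * q)) = SpinCurv.PolyNodeRing.y R p)
    (hrVy : rV (SpinCurv.PolyNodeRing.y R (p * q)) = algebraMap R _ q * SpinCurv.PolyNodeRing.x R p)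
    (gU : SpinCurv.PolyNodeRing R q →ₐ[R] LaurentPolynomial R)
    (hgUs : gU (SpinCurv.PolyNodeRing.x R q) = LaurentPolynomial.T 1)
    (hgUy : gU (SpinCurv.PolyNodeRing.y R q) = LaurentPolynomial.C q * LaurentPolynomial.T (-1))
    (gV : SpinCurv.PolyNodeRing R p →ₐ[R] LaurentPolynomial R)
    (hgVt : gV (SpinCurv.PolyNodeRing.x R p) = LaurentPolynomial.T (-1))
    (hgVx : gV (SpinCurv.PolyNodeRing.y R p) = LaurentPolynomial.C p * LaurentPolynomial.T 1) (n : ℕ) :
    Set.range (fun F : Fin (n + 1) → SpinCurv.PolyNodeRing R (p * q) =>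
        (∑ i : Fin (n + 1), rU (F i) * SpinCurv.PolyNodeRing.x R q ^ (n - (i : ℕ)),
         ∑ i : Fin (n + 1), rV (F i) * SpinCurv.PolyNodeRing.x R p ^ (i : ℕ))) =
      {gf : SpinCurv.PolyNodeRing R q × SpinCurv.PolyNodeRing R p |
        gU gf.1 = LaurentPolynomial.T (n : ℤ) * gV gf.2} ∧
    {F : Fin (n + 1) → SpinCurv.PolyNodeRing R (p * q) |
        (∑ i : Fin (n + 1), rU (F i) * SpinCurv.PolyNodeRing.x R q ^ (n - (i : ℕ)),
         ∑ i : Fin (n + 1), rV (F i) * SpinCurv.PolyNodeRing.x R p ^ (i : ℕ)) = 0} =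
      (Submodule.span (SpinCurv.PolyNodeRing R (p * q))
        (Set.range (fun i : Fin n =>
            (Pi.single (Fin.castSucc i) (algebraMap R (SpinCurv.PolyNodeRing R (p * q)) p) -
              Pi.single (Fin.succ i) (SpinCurv.PolyNodeRing.x R (p * q)) : Fin (n + 1) → SpinCurv.PolyNodeRing R (p * q))) ∪
         Set.range (fun i : Fin n =>
            (Pi.single (Fin.castSucc i) (SpinCurv.PolyNodeRing.y R (p * q)) -
              Pi.single (Fin.succ i) (algebraMap R (SpinCurv.PolyNodeRing R (p * q)) q) : Fin (n + 1) → SpinCurv.PolyNodeRing R (p * q)))) :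
        Set (Fin (n + 1) → SpinCurv.PolyNodeRing R (p * q))) := by
  classical
  let y₁ := SpinCurv.PolyNodeRing.y R (p * q)
  let N : Submodule (SpinCurv.PolyNodeRing R (p * q))
      (Fin (n + 1) → SpinCurv.PolyNodeRing R (p * q)) :=
    Submodule.span (SpinCurv.PolyNodeRing R (p * q))
      (Set.range (fun i : Fin n =>
          (Pi.single (Fin.castSucc i) (algebraMap R (SpinCurv.PolyNodeRing R (p * q)) p) -
            Pi.single (Fin.succ i) (SpinCurv.PolyNodeRing.x R (p * q)) :
              Fin (n + 1) → SpinCurv.PolyNodeRing R (p * q))) ∪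
       Set.range (fun i : Fin n =>
          (Pi.single (Fin.castSucc i) (SpinCurv.PolyNodeRing.y R (p * q)) -
            Pi.single (Fin.succ i) (algebraMap R (SpinCurv.PolyNodeRing R (p * q)) q) :
              Fin (n + 1) → SpinCurv.PolyNodeRing R (p * q))))
  let Ψ : (Fin (n + 1) → SpinCurv.PolyNodeRing R (p * q)) →+
      SpinCurv.PolyNodeRing R q × SpinCurv.PolyNodeRing R p :=
    { toFun := fun F => (∑ i : Fin (n + 1), rU (F i) * SpinCurv.PolyNodeRing.x R q ^ (n - (i : ℕ)),
        ∑ i : Fin (n + 1), rV (F i) * SpinCurv.PolyNodeRing.x R p ^ (i : ℕ))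
      map_zero' := by simp
      map_add' := fun F G => by
        simp [add_mul, Finset.sum_add_distrib] }
  have hmul : ∀ a F, Ψ (a • F) = (rU a, rV a) * Ψ F := fun a F => by
    simp [Ψ, Finset.mul_sum, mul_assoc]
  have hsingle : ∀ i c, Ψ (Pi.single i c) =
      (rU c * SpinCurv.PolyNodeRing.x R q ^ (n - (i : ℕ)),
        rV c * SpinCurv.PolyNodeRing.x R p ^ (i : ℕ)) := fun i c => by
    simp [Ψ, Pi.single_apply, apply_ite rU, apply_ite rV, ite_mul]
  have hNker : ∀ F ∈ N, Ψ F = 0 := by
    intro F hF
    induction hF using Submodule.span_induction with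
    | zero => exact map_zero Ψ
    | add F G _ _ hF hG => rw [map_add, hF, hG, add_zero]
    | smul a F _ hF => rw [hmul, hF, mul_zero]
    | mem F hF =>
      obtain ⟨i, rfl⟩ | ⟨i, rfl⟩ := hF
      all_goals
        rw [map_sub, hsingle, hsingle, Prod.mk_sub_mk, Prod.mk_eq_zero]
        have hi := i.2
        rw [Fin.val_castSucc, Fin.val_succ, show n - (i : ℕ) = n - ((i : ℕ) + 1) + 1 by omega,
          pow_succ', pow_succ']
        simp only [AlgHom.commutes, hrUx, hrUy, hrVx, hrVy]
        constructor
      · ring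
      · rw [← mul_assoc, mul_comm (SpinCurv.PolyNodeRing.y R p), Groth.Agent.H24.PolyNode.x_mul_y,
          sub_self]
      · rw [← mul_assoc, mul_comm (SpinCurv.PolyNodeRing.y R q), Groth.Agent.H24.PolyNode.x_mul_y,
          sub_self]
      · ring
  have hlift : ∀ v, Ψ (lift p q n v) = Groth.Agent.H24.PolyNode.sect p q v.1 v.2.1 v.2.2 := fun v =>
    chart_lift p q n rU hrUx hrUy rV hrVx hrVy v.1 v.2.1 v.2.2
  have hred : ∀ F, ∃ v, F - lift p q n v ∈ N := exists_lift_sub_mem p q n N
    (fun i => Submodule.subset_span (Or.inl ⟨i, rfl⟩))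
    (fun i => Submodule.subset_span (Or.inr ⟨i, rfl⟩))
  have hmn : ((n + 1 : ℕ) : ℤ) - 1 = (n : ℤ) := by omega
  refine ⟨Set.ext fun z => ⟨?_, ?_⟩, Set.ext fun F => ⟨?_, hNker F⟩⟩
  · rintro ⟨F, rfl⟩
    show gU (Ψ F).1 = _ * gV (Ψ F).2
    obtain ⟨v, hv⟩ := hred F
    have h0 := hNker _ hv
    rw [map_sub, sub_eq_zero, hlift] at h0
    rw [h0, ← hmn]
    exact Groth.Agent.H24.PolyNode.sect_mem gU hgUs hgUy gV hgVt hgVx v.1 v.2.1 v.2.2
  · intro hz
    obtain ⟨a, B, D, h⟩ := Groth.Agent.H24.PolyNode.exists_sect (m := n + 1) gU hgUs hgUy gV hgVt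
      hgVx z.1 z.2 (by rw [hmn]; exact hz)
    exact ⟨lift p q n (a, B, D), (hlift (a, B, D)).trans h⟩
  · intro hF
    obtain ⟨v, hv⟩ := hred F
    have h0 := hNker _ hv
    rw [map_sub, show Ψ F = 0 from hF, zero_sub, neg_eq_zero, hlift] at h0
    obtain ⟨h1, h2, h3⟩ := Groth.Agent.H24.PolyNode.sect_eq_zero _ _ _ h0
    rw [show v = 0 from Prod.ext h1 (Prod.ext h2 h3), map_zero, sub_zero] at hv
    exact hv

end Groth.Agent.S18437
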