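import Groth.Statements.S18438
import Groth.Agent.Lib.SurfRR.MinusOne

set_option autoImplicit false
universe u
open CategoryTheory CategoryTheory.Limits AlgebraicGeometry
open Surf

namespace Groth.Agent.S18438

/-- Let k be an algebraically closed field and X a smooth projective surface over k whose anticanonical
module is ample: X is an integral scheme, proper and smooth over k of dimension 2, W is a canonical
module (a second exterior power of Ω_{X/k}) and D a tensor inverse of W which is ample. Intersection
numbers of invertible modules are (L·M) = χ(O_X) − χ(L) − χ(M) + χ(L ⊗ M), so that for a closed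
subscheme C with ideal I_C one has C·C = (I_C·I_C) and K·C = −(I_C·W). If C ⊆ X is an integral
closed one-dimensional subscheme with C·C < 0, then C is an exceptional curve of the first kind: C·C
= −1, K·C = −1 and H¹(C, O_C) = 0. (The published statement concerns del Pezzo surfaces of degree d
embedded in projective d-space; its argument uses only the ampleness of the anticanonical module,
which is the hypothesis taken here.) -/
theorem result (k : Type u) [Field k] [IsAlgClosed k] (X : Scheme.{u})
    [X.Over (Spec (CommRingCat.of k))] [IsIntegral X] [IsProper (X ↘ (Spec (CommRingCat.of k)))] [Smooth (X ↘ (Spec (CommRingCat.of k)))]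
    (hdim : topologicalKrullDim X = 2)
    (W : X.Modules) (hW : ExtPow.IsExtPow 2 (Omega.sheaf (X ↘ (Spec (CommRingCat.of k)))) W)
    (D : X.Modules) (hD : ClSub.IsInverseOf D W) (hample : CohB1.IsAmple D)
    (C : X.IdealSheafData) (hC : IsIntegral C.subscheme) (hC1 : topologicalKrullDim (C.support : Set X) = 1)
    (hneg : FGA.intNum k X 2 ![ClSub.idealMod C, ClSub.idealMod C] (Coh.structureModule X) < 0) :
    FGA.intNum k X 2 ![ClSub.idealMod C, ClSub.idealMod C] (Coh.structureModule X) = -1 ∧
      FGA.intNum k X 2 ![ClSub.idealMod C, W] (Coh.structureModule X) = 1 ∧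
      Subsingleton (Coh.HH C.subscheme (Coh.structureModule C.subscheme) 1) := by
  haveI := hC
  haveI := Lib.Curves.GlobalSections.isNoetherian_of_proper k X
  have hfin := Lib.Snapper.Finite.cohFinite k X
  have hI := Lib.SurfInt.Effective.isInvertible_idealMod
    (Lib.SurfInt.Curve.isEffCartier (X ↘ Spec (CommRingCat.of k)) hdim
      (Lib.SurfInt.NegDef.regular_of_smooth (k := k)) C hC1)
  have hneg' := Lib.SurfInt.Surface.intNum_ample_neg (k := k) hfin hdim
    (Lib.SurfInt.NegDef.regular_of_smooth (k := k)) C hC1 hample
  obtain ⟨e⟩ := hD
  rw [Lib.Snapper.IntNum.intNum_pair_comm,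
    Lib.Snapper.IntNum.intNum_pair_inverse hfin hdim.le
      (Lib.SurfRR.Duality.isInvertible_canonical (k := k) hdim hW) hample.1
      (Lib.TensorMod.Basic.comm W D ≪≫ e) hI (Lib.Snapper.Twist.isCoh_structureModule X),
    Lib.Snapper.IntNum.intNum_pair_comm W] at hneg'
  exact Lib.SurfRR.MinusOne.minusOne hdim C hC1 hW hneg (by linarith)

end Groth.Agent.S18438

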