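import Groth.Statements.S1844
import Groth.Agent.H63.CubePow
import Groth.Agent.H3.CubeRel
-- import your own Groth.Agent.* helpers here

set_option autoImplicit false
universe u v
open CategoryTheory MonoidalCategory CartesianMonoidalCategory MonObj GrpObj AlgebraicGeometry
open GrpSch

namespace Groth.Agent.S1844

/-- Let A be an abelian variety over a field, L an invertible O_A-module and n ≥ 1. Then [n]^*L is
isomorphic to L^{⊗ n(n+1)/2} ⊗ ([-1]^*L)^{⊗ n(n-1)/2}, where [n] is multiplication by n and [-1] the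
inversion of A. -/
theorem result (K : Type u) [Field K] (A : Over (Spec (CommRingCat.of K))) [GrpObj A] [IsProper A.hom] [GeometricallyIntegral A.hom] (L : A.left.Modules) (hL : PicF.IsInvertible L) (n : ℕ) (hn : 1 ≤ n) : Nonempty ((Scheme.Modules.pullback (𝟙 A ^ n).left).obj L ≅ CohB1.tensorMod (CohB1.tensorPow L (n * (n + 1) / 2)) (CohB1.tensorPow ((Scheme.Modules.pullback ((𝟙 A)⁻¹).left).obj L) (n * (n - 1) / 2))) := by
  letI : ∀ Y : Scheme.{u}, PicGrp.Law Y := Groth.Agent.Lib.TensorMod.Invertible.law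
  have htp : ∀ {Y : Scheme.{u}} {M : Y.Modules} {a : PicLoc.PicSet Y} (_ : PicF.cl M = a.1) (m : ℕ),
      PicF.cl (CohB1.tensorPow M m) = (a ^ m).1 := by
    intro Y M a ha m
    induction m with
    | zero => rw [pow_zero, PicGrp.one_val]; rfl
    | succ m ih => rw [pow_succ]; exact Groth.Agent.H3.PicCalc.cl_tensor ih ha
  have h1 : (n + 1).choose 2 = n * (n + 1) / 2 := by
    rw [Nat.choose_two_right, Nat.add_sub_cancel, Nat.mul_comm]
  have hcube : Groth.Agent.H63.CubePow.CubeRel A := fun V f g h c =>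
    Groth.Agent.H3.CubeRel.cube_rel f g h c
  have key := Groth.Agent.H63.CubePow.ph_pow hcube (𝟙 A) (PicGrp.cls L hL) n
  open Groth.Agent.H3 in
  rw [PicCalc.ph_id, h1, Nat.choose_two_right] at key
  open Groth.Agent.H3 in
  exact (PicCalc.iso_iff (PicCalc.cl_pullback (𝟙 A ^ n) (a := PicGrp.cls L hL) rfl)
    (PicCalc.cl_tensor (htp (a := PicGrp.cls L hL) rfl _)
      (htp (PicCalc.cl_pullback (𝟙 A)⁻¹ (a := PicGrp.cls L hL) rfl) _))).mpr key

end Groth.Agent.S1844
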