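import Groth.Statements.S18440
import Groth.Agent.Lib.SurfRR.K3

set_option autoImplicit false
universe u
open CategoryTheory CategoryTheory.Limits AlgebraicGeometry
open Surf

namespace Groth.Agent.S18440

/-- Let k be an algebraically closed field and X a smooth projective surface over k (an integral scheme,
proper and smooth over k of dimension 2) with H¹(X, O_X) = 0, and W a canonical module of X (a
second exterior power of Ω_{X/k}). Let C ⊆ X be an integral closed one-dimensional subscheme, smooth
over k, of arithmetic genus one, written χ(O_C) = 0 with the Euler characteristic of O_C computed on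
X through the closed immersion (k being algebraically closed and C integral, H⁰(C, O_C) = k, so this
says dim_k H¹(C, O_C) = 1), whose module O_X(C) — a tensor inverse N of the ideal I_C — is ample.
Then W ≅ I_C, that is ω_X ≅ O_X(−C) (existence of an isomorphism of invertible modules). (The
published statement is that a smooth del Pezzo surface of degree d embedded in projective d-space
has canonical module O_X(−1); its argument takes C a general hyperplane section and uses about the
embedding only that C is a smooth curve of genus one and that H¹(X, O_X) vanishes, facts it draws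
from results quoted without proof; those two properties are the hypotheses here.) -/
theorem result (k : Type u) [Field k] [IsAlgClosed k] (X : Scheme.{u})
    [X.Over (Spec (CommRingCat.of k))] [IsIntegral X] [IsProper (X ↘ (Spec (CommRingCat.of k)))] [Smooth (X ↘ (Spec (CommRingCat.of k)))]
    (hdim : topologicalKrullDim X = 2)
    (W : X.Modules) (hW : ExtPow.IsExtPow 2 (Omega.sheaf (X ↘ (Spec (CommRingCat.of k)))) W)
    (hq : Subsingleton (Coh.HH X (Coh.structureModule X) 1))
    (C : X.IdealSheafData) (hC : IsIntegral C.subscheme) (hC1 : topologicalKrullDim (C.support : Set X) = 1)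
    (hCs : Smooth (C.subschemeι ≫ (X ↘ (Spec (CommRingCat.of k)))))
    (hg : Curv2.euler k X (ClSub.quotMod C) = 0)
    (N : X.Modules) (hN : ClSub.IsInverseOf N (ClSub.idealMod C)) (hNample : CohB1.IsAmple N) :
    Nonempty (W ≅ ClSub.idealMod C) := by
  haveI := hC
  haveI := Lib.Curves.GlobalSections.isNoetherian_of_proper k X
  have hfin := Lib.Snapper.Finite.cohFinite k X
  have hd : topologicalKrullDim X ≤ ((2 : ℕ) : WithBot ℕ∞) := by exact_mod_cast hdim.le
  have hO := Lib.Snapper.Twist.isCoh_structureModule X
  have hWi := Lib.SurfRR.Duality.isInvertible_canonical (k := k) hdim hW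
  have hI := Lib.SurfInt.Effective.isInvertible_idealMod
    (Lib.SurfInt.Curve.isEffCartier (X ↘ Spec (CommRingCat.of k)) hdim
      (Lib.SurfInt.NegDef.regular_of_smooth (k := k)) C hC1)
  obtain ⟨e⟩ := hN
  have hNi : PicF.IsInvertible N := Lib.TensorMod.TensorInv.isInvertible_of_tensor_iso e
  have e' := Lib.TensorMod.Basic.comm (ClSub.idealMod C) N ≪≫ e
  -- adjunction
  have hq0 := Lib.SurfInt.Effective.chi_quot hfin hd hI
  rw [← Lib.Snapper.Chi.euler_eq_eulerCharLE hd (ClSub.quotMod C), hg, add_zero] at hq0
  have hRR := Lib.SurfRR.Proper.riemannRoch hdim hW hI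
  rw [Lib.Snapper.Chi.euler_eq_eulerCharLE hd, Lib.Snapper.Chi.euler_eq_eulerCharLE hd] at hRR
  -- a section of W ⊗ N
  haveI := Lib.SurfRR.K3.subsingleton_h0_idealMod (k := k) hdim C hC1
  haveI := Lib.SurfRR.K3.subsingleton_h1_idealMod (k := k) hdim C hC1 hq
  haveI := hq
  have hO0 := Lib.Curves.GlobalSections.finrank_h0_structure k X
  have hO1 : Module.finrank k (Coh.HH X (Coh.structureModule X) 1) = 0 :=
    Module.finrank_zero_of_subsingleton
  have hI0 : Module.finrank k (Coh.HH X (ClSub.idealMod C) 0) = 0 :=
    Module.finrank_zero_of_subsingleton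
  have hI1 : Module.finrank k (Coh.HH X (ClSub.idealMod C) 1) = 0 :=
    Module.finrank_zero_of_subsingleton
  have hdual := Lib.SurfRR.Duality.finrank_duality hdim hW hI e' (p := 2) (q := 0) rfl
  have hF : PicF.IsInvertible (CohB1.tensorMod N W) :=
    Lib.TensorMod.Invertible.isInvertible_tensorMod hNi hWi
  have hne : Module.finrank k (Coh.HH X (CohB1.tensorMod N W) 0) ≠ 0 := by
    intro h0
    rw [h0] at hdual
    simp only [FGA.eulerCharLE, Finset.sum_range_succ, Finset.sum_range_zero, hO0, hO1, hI0, hI1,
      hdual] at hq0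
    push_cast at hq0
    omega
  have hz : FGA.intNum k X 2 ![CohB1.tensorMod N W, N] (Coh.structureModule X) = 0 := by
    rw [Lib.Snapper.IntNum.intNum_pair_tensor_left hfin hdim.le hNi hWi hNi hO,
      Lib.Snapper.IntNum.intNum_pair_comm W N,
      Lib.Snapper.IntNum.intNum_pair_inverse hfin hdim.le hI hNi e' hNi hO,
      Lib.Snapper.IntNum.intNum_pair_inverse hfin hdim.le hI hNi e' hWi hO,
      Lib.Snapper.IntNum.intNum_pair_comm (ClSub.idealMod C) N,
      Lib.Snapper.IntNum.intNum_pair_inverse hfin hdim.le hI hNi e' hI hO]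
    linarith
  obtain ⟨t⟩ := Lib.SurfRR.Duality.nonempty_iso_of_inter_ample_eq_zero hdim hNample hF hne hz
  exact ⟨(Lib.TensorMod.Basic.leftUnit W).symm ≪≫ Lib.TensorMod.Basic.tensorIso e'.symm (Iso.refl W) ≪≫
    Lib.TensorMod.Basic.assoc _ _ _ ≪≫ Lib.TensorMod.Basic.tensorIso (Iso.refl _) t ≪≫
    Lib.TensorMod.Basic.rightUnit _⟩

end Groth.Agent.S18440

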