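import Groth.Statements.S18442
import Groth.Agent.S7772
import Groth.Agent.Lib.ProjSpace.Canonical
import Groth.Agent.Lib.ProjCI.Regular
import Groth.Agent.Lib.ConormalSum.Main
import Groth.Agent.Lib.HypSeq89.Iso
import Groth.Agent.Lib.SurfRR.Proper
import Groth.Agent.Lib.TensorMod.Pullback
-- import your own Groth.Agent.* helpers here

set_option autoImplicit false
universe u
open CategoryTheory CategoryTheory.Limits AlgebraicGeometry TopologicalSpace
open Surf

open Groth.Agent.Lib Groth.Agent.Lib.TensorMod.Basic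

namespace Groth.Agent.S18442

/-- Let k be an algebraically closed field and X ⊆ P⁴_k a smooth surface which is the complete
intersection of two quadrics: X is an integral scheme, smooth over k of dimension 2, with a closed
immersion ι : X → P⁴_k over k whose kernel ideal sheaf is the ideal sheaf generated by two quadratic
forms G_0, G_1. Then a canonical module W of X (a second exterior power of Ω_{X/k}) is isomorphic to
ι^*O(−1) (existence of an isomorphism), so its tensor inverse ι^*O(1) is ample and X is a del Pezzo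
surface. -/
theorem result (k : Type u) [Field k] [IsAlgClosed k] (X : Scheme.{u})
    [X.Over (Spec (CommRingCat.of k))] [IsIntegral X] [Smooth (X ↘ (Spec (CommRingCat.of k)))] (hdim : topologicalKrullDim X = 2)
    (ι : X ⟶ CohB1.ProjSpace 4 k) [IsClosedImmersion ι] (hι : ι ≫ CohB1.ProjSpace.toSpec 4 k = X ↘ (Spec (CommRingCat.of k)))
    (G : Fin 2 → LefPen.Form 4 k 2) (hker : ι.ker = LefPen.ciIdeal G)
    (W : X.Modules) (hW : ExtPow.IsExtPow 2 (Omega.sheaf (X ↘ (Spec (CommRingCat.of k)))) W) :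
    Nonempty (W ≅ (Scheme.Modules.pullback ι).obj (Twist.twistProjSpace 4 k (-1))) := by
  classical
  let P := CohB1.ProjSpace 4 k
  let O : ℤ → X.Modules := fun c => (Scheme.Modules.pullback ι).obj (Twist.twistProjSpace 4 k c)
  -- regularity of the two forms
  have hr : Set.range ι = Set.range (LefPen.ciIdeal G).subschemeι := by
    rw [Scheme.IdealSheafData.range_subschemeι, ← hker, Scheme.Hom.support_ker,
      ι.isClosedEmbedding.isClosed_range.closure_eq]
  have hd : topologicalKrullDim ↥(LefPen.ciIdeal G).subscheme ≤ ((4 - 2 : ℕ) : WithBot ℕ∞) := by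
    refine le_of_eq ?_
    rw [← IsHomeomorph.topologicalKrullDim_eq _
      ((ι.isClosedEmbedding.isEmbedding.toHomeomorph.trans (Homeomorph.setCongr hr)).trans
        (LefPen.ciIdeal G).subschemeι.isClosedEmbedding.isEmbedding.toHomeomorph.symm).isHomeomorph, hdim]
    rfl
  have hreg : ProjCI.Cone.Reg (a := fun _ : Fin 2 => 2) G :=
    ProjCI.Cone.reg_of_dim (fun _ => by omega) (by omega) hd
  have hne : ∀ l, G l ≠ 0 := fun l h => by
    have h0 : ((G l).1 : MvPolynomial (Fin (4 + 1)) k) = 0 := by rw [h]; rfl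
    have h1 := hreg l.1 l.2 0 1 (MvPolynomial.isHomogeneous_one _ _) (by
      rw [mul_one]
      simp only [Fin.eta, h0, Submodule.zero_mem])
    have h2 := ProjCI.Cone.pre_le_irr (a := fun _ : Fin 2 => 2) (G := G) (fun _ => by omega) l.1 h1
    simp [ProjDim.Graded.irr, RingHom.mem_ker] at h2
  -- the conormal sheaf
  have hle : ∀ l, LefPen.hypIdeal (G l) ≤ LefPen.ciIdeal G := fun l => le_iSup (fun l => LefPen.hypIdeal (G l)) l
  have hj : ∀ l, RegImm.IsRegularImmersionOfCodim RegImm.Kind.koszul 1 (LefPen.hypIdeal (G l)).subschemeι := by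
    intro l
    have hr1 : ProjCI.Cone.Reg (fun _ : Fin 1 => G l) := by
      intro j hj i x _ h
      obtain rfl : j = 0 := by omega
      rw [ProjCI.Cone.pre_zero, Ideal.mem_bot] at h ⊢
      exact (mul_eq_zero.1 h).resolve_left fun h0 => hne l (Subtype.ext h0)
    refine ProjCI.Regular.isRegularImmersionOfCodim_of_ker hr1 _ ?_
    rw [Scheme.IdealSheafData.ker_subschemeι]
    exact (iSup_const (ι := Fin 1)).symm
  have hg : ∀ l, (LefPen.hypIdeal (G l)).subschemeι.ker ≤ ι.ker := fun l => by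
    rw [Scheme.IdealSheafData.ker_subschemeι, hker]; exact hle l
  let g : ∀ l, X ⟶ (LefPen.hypIdeal (G l)).subscheme := fun l => IsClosedImmersion.lift _ ι (hg l)
  obtain ⟨e₀⟩ := ConormalSum.nonempty_iso (fun l => (LefPen.hypIdeal (G l)).subschemeι) (fun _ => 1) hj ι
    (fun U => by
      simp only [Scheme.IdealSheafData.ker_subschemeι, hker]
      rw [LefPen.ciIdeal, Scheme.IdealSheafData.ideal_iSup, iSup_apply])
    g (fun l => IsClosedImmersion.lift_fac _ _ _)
    (ProjCI.Regular.isRegularImmersionOfCodim_of_ker (a := fun _ : Fin 2 => 2) hreg ι hker)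
  let E : ∀ l, (Scheme.Modules.pullback (g l)).obj
      (Omega.conormal (LefPen.hypIdeal (G l)).subschemeι) ≅ O (-2) := fun l =>
    (Scheme.Modules.pullback _).mapIso ((Scheme.Modules.pullback _).mapIso
      (eqToIso (congrArg _root_.ClSub.idealMod (Scheme.IdealSheafData.ker_subschemeι (LefPen.hypIdeal (G l)))) ≪≫
        (HypSeq89.idealIso (hne l)).symm ≪≫ (ProjCoh.Coherent.twIso (n := 4) (R := k) (-2)).symm)) ≪≫
      (Scheme.Modules.pullbackComp _ _).app _ ≪≫
      (Scheme.Modules.pullbackCongr (IsClosedImmersion.lift_fac _ _ _)).app _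
  let e : Omega.conormal ι ≅ ∐ fun _ : Fin 2 => O (-2) := e₀ ≪≫ Sigma.mapIso E
  have hO2 : PicF.IsInvertible (O (-2)) :=
    PicLoc.isInvertible_pullback ι (ProjCoh.Coherent.isInvertible_tw (-2))
  let a := Sigma.ι (fun _ : Fin 2 => O (-2)) 0
  let p₁ : (∐ fun _ : Fin 2 => O (-2)) ⟶ O (-2) := Sigma.desc fun l => if l = 1 then 𝟙 _ else 0
  let p₀ : (∐ fun _ : Fin 2 => O (-2)) ⟶ O (-2) := Sigma.desc fun l => if l = 0 then 𝟙 _ else 0
  let b := Sigma.ι (fun _ : Fin 2 => O (-2)) 1
  let S := ShortComplex.mk (a ≫ e.inv) (e.hom ≫ p₁) (by simp [a, p₁])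
  have hS : S.ShortExact := ShortComplex.Splitting.shortExact
    { r := e.hom ≫ p₀
      s := b ≫ e.inv
      f_r := by simp [S, a, p₀]
      s_g := by simp [S, b, p₁]
      id := by
        have h : p₀ ≫ a + p₁ ≫ b = 𝟙 _ := Sigma.hom_ext _ _ fun l => by
          fin_cases l <;> simp [p₀, p₁, a, b]
        simp only [S, Category.assoc]
        rw [← Preadditive.comp_add, ← Category.assoc p₀, ← Category.assoc p₁,
          ← Preadditive.add_comp, h, Category.id_comp, e.hom_inv_id] }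
  obtain ⟨B₀⟩ := Cyc.CH.Filt.nonempty_detAtlas (Cyc.CH.Filt.singleton hO2)
  obtain ⟨C⟩ := FundLocal.DetSES.nonempty_detAtlas hS (show 1 + 1 = 2 from rfl) B₀ B₀
  -- the conormal sequence
  haveI hXs : SmoothOfRelativeDimension 2 (ι ≫ CohB1.ProjSpace.toSpec 4 k) := by
    rw [hι]; exact SurfRR.Proper.smoothOfRelativeDimension 2 hdim
  haveI : SmoothOfRelativeDimension 4 (CohB1.ProjSpace.toSpec 4 k) := ProjSpace.Basic.smoothOfRelativeDimension_toSpec 4 k
  haveI : Smooth (CohB1.ProjSpace.toSpec 4 k) := SmoothOfRelativeDimension.smooth 4 _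
  haveI : Smooth (ι ≫ CohB1.ProjSpace.toSpec 4 k) := SmoothOfRelativeDimension.smooth 2 _
  haveI := ProjSpace.Basic.isProper_toSpec 4 k
  haveI : IsProper (ι ≫ CohB1.ProjSpace.toSpec 4 k) := inferInstance
  obtain ⟨φ, c, w, hT, -, h2⟩ := Groth.Agent.S7772.exists_seq (CohB1.ProjSpace.toSpec 4 k) ι 4 2
  rw [← hι] at hW
  obtain ⟨A₃⟩ := Cyc.CH.nonempty_detAtlas_of_isExtPow
    (FundLocal.Rank.isFinLocFreeOfRank_omega (ι ≫ CohB1.ProjSpace.toSpec 4 k) 2) hW
  obtain ⟨A₂⟩ := FundLocal.DetSES.nonempty_detAtlas hT (show 2 + 2 = 4 from rfl) C A₃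
  have hΩ := FundLocal.Rank.isFinLocFreeOfRank_omega (CohB1.ProjSpace.toSpec 4 k) 4
  haveI := CurveBundle.Coherent.isQCoh (TensorMod.LocFree.of_rank hΩ)
  obtain ⟨ΩP, hΩP⟩ := FundLocal.ExtPowExists.exists_isExtPow (Omega.sheaf (CohB1.ProjSpace.toSpec 4 k)) 4
  obtain ⟨eP⟩ := ProjSpace.Canonical.nonempty_iso 4 k ΩP hΩP
  obtain ⟨A⟩ := Cyc.CH.nonempty_detAtlas_of_isExtPow hΩ hΩP
  obtain ⟨A'⟩ := A.nonempty_pullback ι h2
  obtain ⟨c₂⟩ := A'.nonempty_iso A₂
  -- bookkeeping of twists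
  let mul : ∀ s t u : ℤ, s + t = u → (CohB1.tensorMod (O s) (O t) ≅ O u) := fun s t u h =>
    (TensorMod.Pullback.pullbackTensorIso ι _ _).symm ≪≫
      (Scheme.Modules.pullback ι).mapIso (ProjCoh.Coherent.twTensor (n := 4) (R := k) s t ≪≫ eqToIso (congrArg _ h))
  let z : O 0 ≅ Coh.structureModule X :=
    (Scheme.Modules.pullback ι).mapIso (ProjCoh.Coherent.twZero (n := 4) (R := k)) ≪≫ PicLoc.pullbackStructureIso ι
  let L := CohB1.tensorMod (Cyc.CH.detList [O (-2)]) (Cyc.CH.detList [O (-2)])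
  let eL : L ≅ O (-4) := tensorIso (rightUnit _) (rightUnit _) ≪≫ mul (-2) (-2) (-4) (by norm_num)
  exact ⟨(leftUnit W).symm ≪≫ tensorIso (z.symm ≪≫ (mul 4 (-4) 0 (by norm_num)).symm) (Iso.refl W) ≪≫
    assoc _ _ _ ≪≫ tensorIso (Iso.refl _) (tensorIso eL.symm (Iso.refl W) ≪≫ c₂.symm ≪≫
      (Scheme.Modules.pullback ι).mapIso eP) ≪≫
    mul 4 (-((4 : ℕ) + 1 : ℤ)) (-1) (by norm_num)⟩

end Groth.Agent.S18442
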