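import Groth.Statements.S18449
import Groth.Agent.Lib.SurfRR.Cycles

set_option autoImplicit false
universe u
open CategoryTheory CategoryTheory.Limits AlgebraicGeometry
open Surf

namespace Groth.Agent.S18449

/-- Let k be an algebraically closed field of characteristic zero and X a smooth projective surface over
k (an integral scheme, proper and smooth over k, of dimension 2). Let Z be a nonzero effective
Cartier divisor on X, given by its ideal sheaf I_Z ≠ O_X, and consider the nonzero effective Cartier
divisors Z' ≤ Z, i.e. those with I_Z = I_{Z'} · J for some effective Cartier ideal J. Then H¹(Z',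
O_{Z'}) = 0 for every such Z' if and only if χ(O_{Z'}) ≥ 1, i.e. the arithmetic genus 1 − χ(O_{Z'})
is at most 0, for every such Z'; here cohomology and Euler characteristics are computed on X through
the direct image of O_{Z'}. The published statement is about the cycles supported on the exceptional
curves of a resolution of a normal surface singularity over the complex numbers, where the first
condition is rationality of the singularity; this row states the equivalence, which the printed
induction proves using only adjunction and the sub-divisors of the given cycle, for the sub-divisors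
of one effective divisor. -/
theorem result (k : Type u) [Field k] [IsAlgClosed k] [CharZero k]
    (X : Scheme.{u}) [X.Over (Spec (CommRingCat.of k))] [IsProper (X ↘ (Spec (CommRingCat.of k)))]
    [Smooth (X ↘ (Spec (CommRingCat.of k)))] [IsIntegral X] (hdim : topologicalKrullDim X = 2)
    (Z : X.IdealSheafData) (hZ : FGA.IsEffCartier Z) (hZ0 : Z ≠ ⊤) :
    (∀ Z' J : X.IdealSheafData, FGA.IsEffCartier Z' → FGA.IsEffCartier J → Z' ≠ ⊤ → Z = Z' * J →
        Subsingleton (Coh.HH X (ClSub.quotMod Z') 1)) ↔
      (∀ Z' J : X.IdealSheafData, FGA.IsEffCartier Z' → FGA.IsEffCartier J → Z' ≠ ⊤ → Z = Z' * J →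
        1 ≤ Curv2.euler k X (ClSub.quotMod Z')) := by
  haveI := Lib.Curves.GlobalSections.isNoetherian_of_proper k X
  haveI : (Omega.sheaf (X ↘ Spec (CommRingCat.of k))).IsQuasicoherent :=
    Lib.Kaehler.Finite.isQuasicoherent (Lib.Kaehler.DOmega.isUniversal_dOmega _)
  obtain ⟨W, hW⟩ := Lib.FundLocal.ExtPowExists.exists_isExtPow (Omega.sheaf (X ↘ Spec (CommRingCat.of k))) 2
  refine ⟨fun h Z' J hZ' hJ hne he => ?_, fun h Z' J hZ' hJ hne he => ?_⟩
  · exact Lib.SurfRR.Cycles.one_le_euler (k := k) hdim hZ' hne (h Z' J hZ' hJ hne he)
  · exact Lib.SurfRR.Cycles.subsingleton_h1 (k := k) hdim hW Z' hZ' hne fun Z'' J' hZ'' hJ' hne' he' =>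
      h Z'' (J' * J) hZ'' (Lib.Ideal.EffCartier.isEffCartier_mul hJ' hJ) hne' (by rw [he, he', mul_assoc])

end Groth.Agent.S18449

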