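import Groth.Statements.S18451
import Groth.Agent.Lib.SurfInt.Config

set_option autoImplicit false
universe u
open CategoryTheory CategoryTheory.Limits AlgebraicGeometry TopologicalSpace
open Surf

namespace Groth.Agent.S18451

/-- Let k be an algebraically closed field of characteristic zero and X a smooth projective surface over
k (integral, proper and smooth over k, of dimension 2, carrying an ample invertible module). Let
C_1, …, C_r be pairwise distinct integral curves on X (integral closed one-dimensional subschemes
with ideal sheaves I_1, …, I_r) and write G_{ij} = (I_i·I_j) = χ(O_X) − χ(I_i) − χ(I_j) + χ(I_i ⊗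
I_j) for their intersection matrix. Suppose the classes of the C_i span a negative definite
sublattice modulo numerical equivalence: for every integer vector a such that Σ_i a_i [C_i] is
numerically nontrivial, meaning that Σ_i a_i (I_i·M) ≠ 0 for some invertible O_X-module M, one has
Σ_{i,j} a_i a_j G_{ij} < 0. Then the classes are linearly independent, i.e. G itself is negative
definite: Σ_{i,j} a_i a_j G_{ij} < 0 for every nonzero integer vector a. -/
theorem result (k : Type u) [Field k] [IsAlgClosed k] [CharZero k]
    (X : Scheme.{u}) [X.Over (Spec (CommRingCat.of k))] [IsProper (X ↘ (Spec (CommRingCat.of k)))]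
    [Smooth (X ↘ (Spec (CommRingCat.of k)))] [IsIntegral X] (hdim : topologicalKrullDim X = 2)
    (hproj : ∃ H : X.Modules, CohB1.IsAmple H)
    (r : ℕ) (C : Fin r → X.IdealSheafData) (hC : Function.Injective C)
    (hCi : ∀ i, IsIntegral (C i).subscheme) (hCd : ∀ i, topologicalKrullDim ((C i).support : Set X) = 1)
    (hneg : ∀ a : Fin r → ℤ,
      (∃ M : X.Modules, PicF.IsInvertible M ∧
        ∑ i, a i * FGA.intNum k X 2 ![(ClSub.idealMod (C i)), M] (Coh.structureModule X) ≠ 0) →
      ∑ i, ∑ j, a i * a j * FGA.intNum k X 2 ![(ClSub.idealMod (C i)), (ClSub.idealMod (C j))] (Coh.structureModule X) < 0) :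
    ∀ a : Fin r → ℤ, a ≠ 0 →
      ∑ i, ∑ j, a i * a j * FGA.intNum k X 2 ![(ClSub.idealMod (C i)), (ClSub.idealMod (C j))] (Coh.structureModule X) < 0 := by
  intro a ha
  haveI := Lib.Curves.GlobalSections.isNoetherian_of_proper k X
  obtain ⟨H, hH⟩ := hproj
  by_cases hnt : ∃ M : X.Modules, PicF.IsInvertible M ∧
      ∑ i, a i * FGA.intNum k X 2 ![(ClSub.idealMod (C i)), M] (Coh.structureModule X) ≠ 0
  · exact hneg a hnt
  exfalso
  push Not at hnt
  have key : ∀ b : Fin r → ℤ, (∀ j, ∑ i, b i * FGA.intNum k X 2
      ![(ClSub.idealMod (C i)), (ClSub.idealMod (C j))] (Coh.structureModule X) = 0) →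
      (fun i => max (b i) 0) = 0 := by
    intro b hb
    have hsq := Lib.SurfInt.Config.square_posPart _
      (fun i j h => Lib.SurfInt.Config.offDiag (k := k) hdim C hC hCi hCd i j h) b hb
    refine Lib.SurfInt.Config.eq_zero_of_sum_mul_eq_zero (fun i => le_max_right _ _)
      (fun i => Lib.SurfInt.Config.ample_neg (k := k) hdim C hC hCi hCd hH i) ?_
    by_contra hne
    exact absurd (hneg _ ⟨H, hH.1, hne⟩) (not_lt.mpr hsq)
  have hzero : ∀ j, ∑ i, a i * FGA.intNum k X 2
      ![(ClSub.idealMod (C i)), (ClSub.idealMod (C j))] (Coh.structureModule X) = 0 := fun j =>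
    hnt _ (Lib.SurfInt.Effective.isInvertible_idealMod
      (Lib.SurfInt.Config.isEff (k := k) hdim C hC hCi hCd j))
  refine ha (funext fun i => ?_)
  have h1 := congrFun (key a hzero) i
  have h2 := congrFun (key (fun i => - a i) fun j => by simp [neg_mul, hzero j]) i
  simp only [Pi.zero_apply] at h1 h2 ⊢
  omega

end Groth.Agent.S18451
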