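import Groth.Statements.S18452
import Groth.Agent.H34.Ruled.Fibre
import Groth.Agent.S16506
-- import your own Groth.Agent.* helpers here

set_option autoImplicit false
universe u
open CategoryTheory CategoryTheory.Limits AlgebraicGeometry TopologicalSpace
open Surf

namespace Groth.Agent.S18452

/-- Let k be an algebraically closed field, X a smooth projective surface over k (integral, proper and
smooth over k, of dimension 2), C a nonsingular complete curve over k (integral, proper over k, of
dimension 1, with regular local rings) and π : X → C a surjective k-morphism whose fibre over every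
closed point of C is isomorphic to the projective line over k, so that π : X → C is a geometrically
ruled surface. Then π admits a section: there is a morphism σ : C → X with σ followed by π equal to
the identity of C. The published statement is over the complex numbers; its algebraic proof works
over any algebraically closed field, so this row makes no characteristic assumption. -/
theorem result (k : Type u) [Field k] [IsAlgClosed k]
    (X : Scheme.{u}) [X.Over (Spec (CommRingCat.of k))] [IsProper (X ↘ (Spec (CommRingCat.of k)))]
    [Smooth (X ↘ (Spec (CommRingCat.of k)))] [IsIntegral X] (hdim : topologicalKrullDim X = 2)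
    (C : Scheme.{u}) [C.Over (Spec (CommRingCat.of k))] [IsIntegral C] [IsProper (C ↘ (Spec (CommRingCat.of k)))]
    (hdimC : topologicalKrullDim C = 1) (hregC : ∀ x : C, IsRegularLocalRing (C.presheaf.stalk x))
    (π : X ⟶ C) (hπ : π ≫ (C ↘ (Spec (CommRingCat.of k))) = (X ↘ (Spec (CommRingCat.of k))))
    (hsurj : Function.Surjective π)
    (hfib : ∀ y : C, IsClosed ({y} : Set C) → Nonempty (pullback π (C.fromSpecResidueField y) ≅ CohB1.ProjSpace 1 k)) :
    ∃ σ : C ⟶ X, σ ≫ π = 𝟙 C := by
  obtain ⟨hgi, hgen, -⟩ := Groth.Agent.H34.Ruled.generic_facts (k := k) hdim hdimC hregC π hπ hsurj hfib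
  haveI := hgi
  haveI : Smooth (C ↘ Spec (CommRingCat.of k)) := by
    haveI : LocallyOfFinitePresentation (C ↘ Spec (CommRingCat.of k)) :=
      LocallyOfFinitePresentation.iff_locallyOfFiniteType.2 inferInstance
    rw [← Scheme.Hom.smoothLocus_eq_top_iff]
    exact eq_top_iff.2 fun z _ =>
      Groth.Agent.Lib.JacCrit.OverField.mem_smoothLocus_of_isRegular _ z (hregC z)
  exact Groth.Agent.S16506.section_of_genus_zero X hdim C hdimC π hπ hsurj hgen

end Groth.Agent.S18452
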