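import Groth.Statements.S18455
import Groth.Agent.Lib.SurfFactor85.Euler
import Groth.Agent.Lib.SurfRR.Proper
-- import your own Groth.Agent.* helpers here

set_option autoImplicit false
universe u
open CategoryTheory CategoryTheory.Limits AlgebraicGeometry TopologicalSpace
open Surf

namespace Groth.Agent.S18455

/-- Let k be an algebraically closed field of characteristic zero and X a smooth projective surface over
k (integral, proper and smooth over k, of dimension 2) with canonical module W, a second exterior
power of Ω_{X/k}. Let x be a closed point of X and π : X' → X a blowing up of X in the ideal of x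
(characterised by its universal property), with X' again an integral scheme of dimension 2, proper
and smooth over k through π, W' a canonical module of X' and I_E the exceptional ideal (the inverse
image of the ideal of x). Let C be an integral curve on X with ideal I_C and C' an integral curve on
X' with ideal I_{C'}, such that the inverse image ideal of C on X' equals I_{C'} · I_E^m for some
natural number m; thus C' is the proper transform of C and m the multiplicity of C at x. Writing
(A·B) = χ(O) − χ(A) − χ(B) + χ(A ⊗ B) for intersection numbers on X and on X', one has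
(I_{C'}·I_{C'}) − (I_{C'}·W') = (I_C·I_C) − (I_C·W) − m(m − 1); in terms of arithmetic genera
2p_a(C') − 2 = K'·C' + C'² = K·C + C² − m(m−1) = 2p_a(C) − 2 − m(m−1), so p_a drops by m(m−1)/2. -/
theorem result (k : Type u) [Field k] [IsAlgClosed k] [CharZero k]
    (X : Scheme.{u}) [X.Over (Spec (CommRingCat.of k))] [IsProper (X ↘ (Spec (CommRingCat.of k)))]
    [Smooth (X ↘ (Spec (CommRingCat.of k)))] [IsIntegral X] (hdim : topologicalKrullDim X = 2)
    (W : X.Modules) (hW : ExtPow.IsExtPow 2 (Omega.sheaf (X ↘ (Spec (CommRingCat.of k)))) W)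
    (x : X) (hx : IsClosed ({x} : Set X))
    (X' : Scheme.{u}) (π : X' ⟶ X) (hπ : BlowUp.IsBlowUp π (Scheme.IdealSheafData.vanishingIdeal ⟨{x}, hx⟩))
    [IsIntegral X'] (hdim' : topologicalKrullDim X' = 2)
    [IsProper (π ≫ (X ↘ (Spec (CommRingCat.of k))))] [Smooth (π ≫ (X ↘ (Spec (CommRingCat.of k))))]
    (W' : X'.Modules) (hW' : ExtPow.IsExtPow 2 (Omega.sheaf (π ≫ (X ↘ (Spec (CommRingCat.of k))))) W')
    (C : X.IdealSheafData) (hCi : IsIntegral C.subscheme) (hCd : topologicalKrullDim (C.support : Set X) = 1)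
    (C' : X'.IdealSheafData) (hC'i : IsIntegral C'.subscheme) (hC'd : topologicalKrullDim (C'.support : Set X') = 1)
    (m : ℕ) (hm : C.comap π = C' * (BlowUp.exceptional π (Scheme.IdealSheafData.vanishingIdeal ⟨{x}, hx⟩)) ^ m) :
    letI : X'.Over (Spec (CommRingCat.of k)) := ⟨π ≫ (X ↘ (Spec (CommRingCat.of k)))⟩
    FGA.intNum k X' 2 ![(ClSub.idealMod C'), (ClSub.idealMod C')] (Coh.structureModule X') -
        FGA.intNum k X' 2 ![(ClSub.idealMod C'), W'] (Coh.structureModule X') =
      FGA.intNum k X 2 ![(ClSub.idealMod C), (ClSub.idealMod C)] (Coh.structureModule X) -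
        FGA.intNum k X 2 ![(ClSub.idealMod C), W] (Coh.structureModule X) - (m : ℤ) * ((m : ℤ) - 1) := by
  letI : X'.Over (Spec (CommRingCat.of k)) := ⟨π ≫ (X ↘ (Spec (CommRingCat.of k)))⟩
  haveI : IsProper (X' ↘ Spec (CommRingCat.of k)) :=
    inferInstanceAs (IsProper (π ≫ (X ↘ (Spec (CommRingCat.of k)))))
  haveI : Smooth (X' ↘ Spec (CommRingCat.of k)) :=
    inferInstanceAs (Smooth (π ≫ (X ↘ (Spec (CommRingCat.of k)))))
  haveI := Groth.Agent.Lib.Curves.GlobalSections.isNoetherian_of_proper k X
  haveI := Groth.Agent.Lib.Curves.GlobalSections.isNoetherian_of_proper k X'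
  have hreg := Groth.Agent.Lib.SurfInt.NegDef.regular_of_smooth (k := k) (X := X)
  have hreg' := Groth.Agent.Lib.SurfInt.NegDef.regular_of_smooth (k := k) (X := X')
  haveI := hCi
  haveI := hC'i
  have hC : BlowUp.IsEffCartierIdeal C :=
    Groth.Agent.Lib.SurfInt.Curve.isEffCartier (X ↘ Spec (CommRingCat.of k)) hdim hreg C hCd
  have hC' : BlowUp.IsEffCartierIdeal C' :=
    Groth.Agent.Lib.SurfInt.Curve.isEffCartier (X' ↘ Spec (CommRingCat.of k)) hdim' hreg' C' hC'd
  have key := Groth.Agent.Lib.SurfFactor85.Euler.two_mul_chi_strict k hdim hreg hx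
    (σ := π) rfl hπ hC hC' m hm
  have hO := Groth.Agent.Lib.PointBlow96.eulerCharLE_structure k hdim hreg hx (σ := π) rfl hπ 2
  have r := Groth.Agent.Lib.SurfRR.Proper.riemannRoch (k := k) hdim hW
    (Groth.Agent.Lib.SurfInt.Effective.isInvertible_idealMod hC)
  have r' := Groth.Agent.Lib.SurfRR.Proper.riemannRoch (k := k) hdim' hW'
    (Groth.Agent.Lib.SurfInt.Effective.isInvertible_idealMod hC')
  have hd2 : topologicalKrullDim X ≤ ((2 : ℕ) : WithBot ℕ∞) := by exact_mod_cast hdim.le
  have hd2' : topologicalKrullDim X' ≤ ((2 : ℕ) : WithBot ℕ∞) := by exact_mod_cast hdim'.le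
  simp only [Groth.Agent.Lib.Snapper.Chi.euler_eq_eulerCharLE hd2] at r
  simp only [Groth.Agent.Lib.Snapper.Chi.euler_eq_eulerCharLE hd2'] at r'
  linarith

end Groth.Agent.S18455
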