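import Groth.Statements.S18456
import Groth.Agent.Lib.SurfRR.Cycles

set_option autoImplicit false
universe u
open CategoryTheory CategoryTheory.Limits AlgebraicGeometry
open Surf

namespace Groth.Agent.S18456

/-- Let k be an algebraically closed field of characteristic zero and X a smooth projective surface over
k (integral, proper and smooth over k, of dimension 2). Let C_1, …, C_r be pairwise distinct
integral curves on X with ideal sheaves I_i, each with H¹(C_i, O_{C_i}) = 0 (so C_i ≅ P¹) and
self-intersection (I_i·I_i) = −2, and with negative definite intersection matrix: Σ_{i,j} a_i a_j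
(I_i·I_j) < 0 for every nonzero integer vector a, where (A·B) = χ(O_X) − χ(A) − χ(B) + χ(A ⊗ B).
Then H¹(Z, O_Z) = 0 for every nonzero effective Cartier divisor Z on X supported on ⋃ C_i,
cohomology computed on X through the direct image of O_Z. The published statement concludes that the
singularity obtained by contracting the configuration over the complex numbers is rational; the
vanishing for all supported nonzero effective divisors is the form of rationality the printed
argument establishes, and this row states that form. -/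
theorem result (k : Type u) [Field k] [IsAlgClosed k] [CharZero k]
    (X : Scheme.{u}) [X.Over (Spec (CommRingCat.of k))] [IsProper (X ↘ (Spec (CommRingCat.of k)))]
    [Smooth (X ↘ (Spec (CommRingCat.of k)))] [IsIntegral X] (hdim : topologicalKrullDim X = 2)
    (r : ℕ) (C : Fin r → X.IdealSheafData) (hC : Function.Injective C)
    (hCi : ∀ i, IsIntegral (C i).subscheme) (hCd : ∀ i, topologicalKrullDim ((C i).support : Set X) = 1)
    (hCrat : ∀ i, Subsingleton (Coh.HH X (ClSub.quotMod (C i)) 1))
    (hC2 : ∀ i, FGA.intNum k X 2 ![(ClSub.idealMod (C i)), (ClSub.idealMod (C i))] (Coh.structureModule X) = -2)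
    (hneg : ∀ a : Fin r → ℤ, a ≠ 0 →
      ∑ i, ∑ j, a i * a j * FGA.intNum k X 2 ![(ClSub.idealMod (C i)), (ClSub.idealMod (C j))] (Coh.structureModule X) < 0)
    (Z : X.IdealSheafData) (hZ : FGA.IsEffCartier Z) (hZ0 : Z ≠ ⊤)
    (hZs : (Z.support : Set X) ⊆ ⋃ i, ((C i).support : Set X)) :
    Subsingleton (Coh.HH X (ClSub.quotMod Z) 1) := by
  classical
  haveI := Lib.Curves.GlobalSections.isNoetherian_of_proper k X
  have hfin := Lib.Snapper.Finite.cohFinite k X
  have hreg := Lib.SurfInt.NegDef.regular_of_smooth (k := k) (X := X)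
  haveI : (Omega.sheaf (X ↘ Spec (CommRingCat.of k))).IsQuasicoherent :=
    Lib.Kaehler.Finite.isQuasicoherent (Lib.Kaehler.DOmega.isUniversal_dOmega _)
  obtain ⟨W, hW⟩ := Lib.FundLocal.ExtPowExists.exists_isExtPow (Omega.sheaf (X ↘ Spec (CommRingCat.of k))) 2
  have hWi := Lib.SurfRR.Duality.isInvertible_canonical (k := k) hdim hW
  refine Lib.SurfRR.Cycles.subsingleton_h1 (k := k) hdim hW Z hZ hZ0 fun Z' J hZ' hJ hne he => ?_
  have hsupp : (Z'.support : Set X) ⊆ ⋃ i, ((C i).support : Set X) :=
    Set.Subset.trans (SetLike.coe_subset_coe.2 (Scheme.IdealSheafData.support_antitone (show Z ≤ Z' from fun U => by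
      rw [he, Scheme.IdealSheafData.ideal_mul, Pi.mul_apply]
      exact Ideal.mul_le_left))) hZs
  have key := Lib.SurfInt.Mul.induction (X ↘ Spec (CommRingCat.of k)) hdim hreg
    (P := fun G => (G.support : Set X) ⊆ ⋃ i, ((C i).support : Set X) →
      ∃ a : Fin r → ℤ, (∀ i, 0 ≤ a i) ∧ (G ≠ ⊤ → a ≠ 0) ∧ ∀ M : X.Modules, PicF.IsInvertible M →
        FGA.intNum k X 2 ![ClSub.idealMod G, M] (Coh.structureModule X) =
          ∑ i, a i * FGA.intNum k X 2 ![ClSub.idealMod (C i), M] (Coh.structureModule X))
    (fun _ => ⟨0, fun _ => le_rfl, fun h => absurd rfl h, fun M hM => by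
      rw [Lib.SurfInt.NegDef.intNum_top hfin hdim hM]
      simp⟩)
    (fun D hint G hDd hG ih hsub => by
      haveI := hint
      have hle : (D * G) ≤ D := fun U => by
        rw [Scheme.IdealSheafData.ideal_mul, Pi.mul_apply]
        exact Ideal.mul_le_left
      have hle' : (D * G) ≤ G := fun U => by
        rw [Scheme.IdealSheafData.ideal_mul, Pi.mul_apply]
        exact Ideal.mul_le_right
      obtain ⟨a, ha0, -, ha⟩ := ih (Set.Subset.trans (SetLike.coe_subset_coe.2 (Scheme.IdealSheafData.support_antitone hle')) hsub)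
      obtain ⟨i, hi⟩ := Set.mem_iUnion.1
        (hsub (Scheme.IdealSheafData.support_antitone hle (Lib.Ideal.Prime.gen_mem D)))
      haveI := hCi i
      have hDC : D = C i := Lib.SurfInt.Curve.eq_of_gen_eq D (C i)
        (Lib.VarDim.Basic.eq_of_pdim_le (X ↘ Spec (CommRingCat.of k))
          (Lib.Ideal.Prime.gen_specializes (C i) hi) (by
            rw [Lib.SurfInt.Curve.pdim_gen _ D hDd, Lib.SurfInt.Curve.pdim_gen _ (C i) (hCd i)])).symm
      subst hDC
      refine ⟨a + Pi.single i 1, fun j => add_nonneg (ha0 j) (by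
        rcases eq_or_ne j i with rfl | h <;> simp [*]), fun _ h0 => ?_, fun M hM => ?_⟩
      · have := congrFun h0 i
        simp only [Pi.add_apply, Pi.single_eq_same, Pi.zero_apply] at this
        have := ha0 i
        omega
      · rw [Lib.SurfInt.NegDef.intNum_mul hfin hdim (Lib.SurfInt.NegDef.isEff hfin hdim hreg (C i) hDd) hG hM,
          ha M hM]
        simp [add_mul, Finset.sum_add_distrib, Pi.single_apply, add_comm]) hZ' hsupp
  obtain ⟨a, -, hne0, ha⟩ := key
  have hI := Lib.SurfInt.Effective.isInvertible_idealMod hZ'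
  have hIC := fun i => haveI := hCi i
    Lib.SurfInt.Effective.isInvertible_idealMod (Lib.SurfInt.NegDef.isEff hfin hdim hreg (C i) (hCd i))
  have hW0 : ∀ i, FGA.intNum k X 2 ![ClSub.idealMod (C i), W] (Coh.structureModule X) = 0 := fun i => by
    haveI := hCi i
    letI := Lib.SurfInt.Surface.overSub (k := k) (C i)
    haveI : IsProper ((C i).subscheme ↘ Spec (CommRingCat.of k)) :=
      inferInstanceAs (IsProper ((C i).subschemeι ≫ (X ↘ Spec (CommRingCat.of k))))
    have hadj := (Lib.SurfRR.Curve.adjunction hdim (C i) (hCd i) hW).2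
    haveI := Lib.TensorMod.QCohInv.isQCoh_structureModule (C i).subscheme
    have hg : Curv2.genus k (C i).subscheme = 0 := by
      haveI := hCrat i
      exact (Lib.SurfInt.Push.finrank_push (k := k) (C i).subschemeι rfl
        (Coh.structureModule (C i).subscheme) 1).symm.trans Module.finrank_zero_of_subsingleton
    rw [hC2 i, hg] at hadj
    omega
  have hsq : FGA.intNum k X 2 ![ClSub.idealMod Z', ClSub.idealMod Z'] (Coh.structureModule X) < 0 := by
    rw [ha _ hI]
    refine lt_of_eq_of_lt ?_ (hneg a (hne0 hne))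
    refine Finset.sum_congr rfl fun i _ => ?_
    rw [Lib.Snapper.IntNum.intNum_pair_comm, ha _ (hIC i), Finset.mul_sum]
    exact Finset.sum_congr rfl fun j _ => by
      rw [Lib.Snapper.IntNum.intNum_pair_comm (ClSub.idealMod (C j))]; ring
  have hadj := Lib.SurfRR.Cycles.adjunction (k := k) hdim hZ' hW
  rw [ha W hWi] at hadj
  simp only [hW0, mul_zero, Finset.sum_const_zero] at hadj
  omega

end Groth.Agent.S18456

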