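import Groth.Statements.S18457
import Mathlib.Algebra.Order.Chebyshev
import Mathlib.Tactic.Linarith
import Mathlib.Tactic.IntervalCases

set_option autoImplicit false
open Finset
open Surf

namespace Groth.Agent.S18457

/-- In the Picard lattice of the plane blown up at n ≤ 8 points, with basis h, e_1, …, e_n, form h² = 1,
e_i² = −1, all other products 0, and anticanonical class D = 3h − Σ e_i, let d·h − Σ a_i e_i be a
class with all a_i ≥ 0 (the class of the strict transform of a degree-d plane curve having
multiplicity a_i at the i-th point) which is a (−2)-class orthogonal to D, that is d² − Σ a_i² = −2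
and 3d = Σ a_i. Then one of the following holds: d = 1 and every a_i is 0 or 1 with exactly three
equal to 1; d = 2 and every a_i is 0 or 1 with exactly six equal to 1; d = 3, n = 8, and one a_i
equals 2 while the remaining seven equal 1. The published statement is geometric: under the
general-position hypotheses on the points, no smooth rational curve on the blown-up plane is
orthogonal to D; this row is the lattice enumeration its proof carries out (a line through three of
the points, a conic through six, a cubic through all eight and singular at one). -/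
theorem result (n : ℕ) (hn : n ≤ 8)
    (d : ℤ) (a : Fin n → ℤ) (ha : ∀ i, 0 ≤ a i)
    (hsq : d ^ 2 - ∑ i, (a i) ^ 2 = -2) (hK : 3 * d = ∑ i, a i) :
    (d = 1 ∧ (∀ i, a i = 0 ∨ a i = 1) ∧ (Finset.univ.filter (fun i => a i = 1)).card = 3) ∨
      (d = 2 ∧ (∀ i, a i = 0 ∨ a i = 1) ∧ (Finset.univ.filter (fun i => a i = 1)).card = 6) ∨
      (d = 3 ∧ n = 8 ∧ ∃ j, a j = 2 ∧ ∀ i, i ≠ j → a i = 1) := by
  have hcs := sq_sum_le_card_mul_sum_sq (s := (Finset.univ : Finset (Fin n))) (f := a)
  simp only [Finset.card_univ, Fintype.card_fin] at hcs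
  have hQ : ∑ i, a i ^ 2 = d ^ 2 + 2 := by linarith
  rw [hQ, ← hK] at hcs
  have hn' : (n : ℤ) ≤ 8 := by exact_mod_cast hn
  have hd0 : 0 ≤ d := by
    have := Finset.sum_nonneg fun i (_ : i ∈ (Finset.univ : Finset (Fin n))) => ha i
    linarith
  have hd4 : d ≤ 4 := by nlinarith
  have cnt : (∀ i, a i = 0 ∨ a i = 1) →
      ((Finset.univ.filter (fun i => a i = 1)).card : ℤ) = 3 * d := by
    intro h
    rw [hK, Finset.card_filter, Nat.cast_sum]
    refine Finset.sum_congr rfl fun i _ => ?_
    rcases h i with h | h <;> simp [h]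
  have small : ∑ i, (a i ^ 2 - a i) = 0 → ∀ i, a i = 0 ∨ a i = 1 := by
    intro hz i
    have hnn : ∀ i ∈ (Finset.univ : Finset (Fin n)), 0 ≤ a i ^ 2 - a i := by
      intro i _
      rcases le_or_gt (a i) 0 with h | h <;> nlinarith
    have h := (Finset.sum_eq_zero_iff_of_nonneg hnn).1 hz i (Finset.mem_univ i)
    have : a i * (a i - 1) = 0 := by linarith [show a i * (a i - 1) = a i ^ 2 - a i by ring]
    rcases mul_eq_zero.1 this with h | h <;> omega
  interval_cases d
  · exfalso
    have hz0 : ∀ i, a i = 0 := fun i =>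
      (Finset.sum_eq_zero_iff_of_nonneg fun i _ => ha i).1 (by linarith) i (Finset.mem_univ i)
    simp [hz0] at hQ
  · have h := small (by rw [Finset.sum_sub_distrib]; linarith)
    exact Or.inl ⟨rfl, h, by exact_mod_cast cnt h⟩
  · have h := small (by rw [Finset.sum_sub_distrib]; linarith)
    exact Or.inr (Or.inl ⟨rfl, h, by exact_mod_cast cnt h⟩)
  · right; right
    have hn8 : n = 8 := by
      have : (8 : ℤ) ≤ n := by nlinarith
      omega
    subst hn8
    refine ⟨rfl, rfl, ?_⟩
    have hz : ∑ i, (a i - 1) ^ 2 = 1 := by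
      simp only [sub_sq, mul_one, one_pow, Finset.sum_add_distrib, Finset.sum_sub_distrib,
        ← Finset.mul_sum, Finset.sum_const, Finset.card_univ, Fintype.card_fin]
      simp
      linarith
    obtain ⟨j, -, hj⟩ : ∃ j ∈ (Finset.univ : Finset (Fin 8)), (a j - 1) ^ 2 ≠ 0 :=
      Finset.exists_ne_zero_of_sum_ne_zero (by rw [hz]; norm_num)
    have hj1 : 1 ≤ (a j - 1) ^ 2 := by
      have := sq_nonneg (a j - 1)
      omega
    rw [← Finset.add_sum_erase _ _ (Finset.mem_univ j)] at hz
    have hrest : 0 ≤ ∑ i ∈ Finset.univ.erase j, (a i - 1) ^ 2 :=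
      Finset.sum_nonneg fun i _ => sq_nonneg _
    have h0 : ∑ i ∈ Finset.univ.erase j, (a i - 1) ^ 2 = 0 := by linarith
    have hi : ∀ i, i ≠ j → a i = 1 := by
      intro i hi
      have := (Finset.sum_eq_zero_iff_of_nonneg fun i _ => sq_nonneg (a i - 1)).1 h0 i
        (Finset.mem_erase.2 ⟨hi, Finset.mem_univ i⟩)
      have := pow_eq_zero_iff (n := 2) (by norm_num) |>.1 this
      omega
    refine ⟨j, ?_, hi⟩
    have hs : ∑ i ∈ Finset.univ.erase j, a i = 7 := by
      rw [Finset.sum_congr rfl fun i h => hi i (Finset.mem_erase.1 h).1]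
      simp
    rw [← Finset.add_sum_erase _ _ (Finset.mem_univ j)] at hK
    linarith
  · exfalso
    have hn8 : n = 8 := by
      have : (8 : ℤ) ≤ n := by nlinarith
      omega
    subst hn8
    have hz : ∑ i, (2 * a i - 3) ^ 2 = 0 := by
      simp only [sub_sq, mul_pow, Finset.sum_add_distrib, Finset.sum_sub_distrib,
        ← Finset.mul_sum, ← Finset.sum_mul, Finset.sum_const, Finset.card_univ, Fintype.card_fin]
      simp
      linarith
    have h := (Finset.sum_eq_zero_iff_of_nonneg fun i _ => sq_nonneg _).1 hz 0 (Finset.mem_univ 0)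
    have := pow_eq_zero_iff (n := 2) (by norm_num) |>.1 h
    omega

end Groth.Agent.S18457
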