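import Groth.Statements.S18458
import Groth.Agent.Lib.SurfInt.Orth
import Groth.Agent.Lib.Curves.GlobalSections

set_option autoImplicit false
universe u
open CategoryTheory CategoryTheory.Limits AlgebraicGeometry TopologicalSpace
open Surf

namespace Groth.Agent.S18458

/-- Let k be an algebraically closed field of characteristic zero and X a smooth projective surface over
k (integral, proper and smooth over k, of dimension 2, carrying an ample invertible module). Let
C_1, …, C_r be pairwise distinct integral curves on X with ideal sheaves I_i whose intersection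
matrix is negative definite: Σ_{i,j} a_i a_j (I_i·I_j) < 0 for every nonzero integer vector a, where
(A·B) = χ(O_X) − χ(A) − χ(B) + χ(A ⊗ B). Then there is an invertible O_X-module L (the sheaf of a
divisor H) which is nef and big and is orthogonal to exactly the curves C_i: writing (L·C) = χ(O_C ⊗
L) − χ(O_C) for the degree of L on an integral curve C, one has (L·C) ≥ 0 for every integral curve
C, (L·L) > 0, and (L·C) = 0 if and only if C is one of the C_i. -/
theorem result (k : Type u) [Field k] [IsAlgClosed k] [CharZero k]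
    (X : Scheme.{u}) [X.Over (Spec (CommRingCat.of k))] [IsProper (X ↘ (Spec (CommRingCat.of k)))]
    [Smooth (X ↘ (Spec (CommRingCat.of k)))] [IsIntegral X] (hdim : topologicalKrullDim X = 2)
    (hproj : ∃ H : X.Modules, CohB1.IsAmple H)
    (r : ℕ) (C : Fin r → X.IdealSheafData) (hC : Function.Injective C)
    (hCi : ∀ i, IsIntegral (C i).subscheme) (hCd : ∀ i, topologicalKrullDim ((C i).support : Set X) = 1)
    (hneg : ∀ a : Fin r → ℤ, a ≠ 0 →
      ∑ i, ∑ j, a i * a j * FGA.intNum k X 2 ![(ClSub.idealMod (C i)), (ClSub.idealMod (C j))] (Coh.structureModule X) < 0) :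
    ∃ L : X.Modules, PicF.IsInvertible L ∧
      (∀ D : X.IdealSheafData, IsIntegral D.subscheme → topologicalKrullDim (D.support : Set X) = 1 →
        0 ≤ Curv2.euler k X (CohB1.tensorMod (ClSub.quotMod D) L) - Curv2.euler k X (ClSub.quotMod D)) ∧
      0 < FGA.intNum k X 2 ![L, L] (Coh.structureModule X) ∧
      (∀ D : X.IdealSheafData, IsIntegral D.subscheme → topologicalKrullDim (D.support : Set X) = 1 →
        (Curv2.euler k X (CohB1.tensorMod (ClSub.quotMod D) L) - Curv2.euler k X (ClSub.quotMod D) = 0 ↔
          ∃ i, D = C i)) := by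
  haveI := Lib.Curves.GlobalSections.isNoetherian_of_proper k X
  obtain ⟨H, hH⟩ := hproj
  have hreg := Lib.SurfInt.NegDef.regular_of_smooth (k := k) (X := X)
  have hfin := Lib.Snapper.Finite.cohFinite k X
  obtain ⟨L, hL, hLL, -, h0, hlt⟩ := Lib.SurfInt.Orth.exists_orth hdim hreg hH C hC hCi hCd hneg
  have hdeg : ∀ D : X.IdealSheafData, IsIntegral D.subscheme → topologicalKrullDim (D.support : Set X) = 1 →
      Curv2.euler k X (CohB1.tensorMod (ClSub.quotMod D) L) - Curv2.euler k X (ClSub.quotMod D) =
        - FGA.intNum k X 2 ![ClSub.idealMod D, L] (Coh.structureModule X) := by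
    intro D hD hDd
    haveI := hD
    rw [Lib.Curves.Euler.euler_eq_of_iso (Lib.TensorMod.Basic.comm (ClSub.quotMod D) L),
      Lib.SurfInt.Effective.intNum_ideal hfin hdim.le (Lib.SurfInt.Effective.isInvertible_idealMod
        (Lib.SurfInt.NegDef.isEff hfin hdim hreg D hDd)) hL,
      Lib.Snapper.Chi.euler_eq_eulerCharLE (d := 2) hdim.le,
      Lib.Snapper.Chi.euler_eq_eulerCharLE (d := 2) hdim.le]
    ring
  refine ⟨L, hL, fun D hD hDd => ?_, hLL, fun D hD hDd => ?_⟩
  · rw [hdeg D hD hDd, neg_nonneg]
    by_cases hc : ∃ i, D = C i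
    · obtain ⟨i, rfl⟩ := hc
      exact (h0 i).le
    · exact (hlt D hD hDd (not_exists.mp hc)).le
  · rw [hdeg D hD hDd, neg_eq_zero]
    refine ⟨fun h => ?_, ?_⟩
    · by_contra hc
      exact absurd h (hlt D hD hDd (not_exists.mp hc)).ne
    · rintro ⟨i, rfl⟩
      exact h0 i

end Groth.Agent.S18458
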