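import Groth.Statements.S1846

import Mathlib.RingTheory.HopfAlgebra.Convolution
import Mathlib.RingTheory.Ideal.Cotangent
import Mathlib.RingTheory.TensorProduct.Maps
import Mathlib.RingTheory.TensorProduct.Free
import Mathlib.LinearAlgebra.Isomorphisms

set_option autoImplicit false
open scoped TensorProduct
universe u v
open GrpSch

namespace Groth.Agent.S1846


section
variable (K : Type u) [Field K] (B : Type v) [CommRing B] [HopfAlgebra K B]

/-- the augmentation ideal -/
abbrev augIdeal : Ideal B := RingHom.ker (Bialgebra.counitAlgHom K B)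

/-- the cotangent space at the counit -/
abbrev CotV : Type v := (augIdeal K B).Cotangent

theorem sub_counit_mem (x : B) : x - algebraMap K B (Coalgebra.counit x) ∈ augIdeal K B := by
  simp [RingHom.mem_ker]

/-- the projection to the cotangent space -/
noncomputable def proj : B →ₗ[K] CotV K B where
  toFun x := (augIdeal K B).toCotangent ⟨_, sub_counit_mem K B x⟩
  map_add' x y := by
    rw [← map_add]
    congr 1
    ext
    simp only [map_add, Submodule.coe_add]
    ring
  map_smul' c x := by
    rw [RingHom.id_apply, ← LinearMap.map_smul_of_tower]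
    congr 1
    ext
    simp only [map_smul, Submodule.coe_smul_of_tower, smul_eq_mul, Algebra.smul_def, map_mul, mul_sub]
    simp

theorem proj_mul (x y : B) :
    proj K B (x * y) = Coalgebra.counit (R := K) x • proj K B y + Coalgebra.counit (R := K) y • proj K B x := by
  simp only [proj, LinearMap.coe_mk, AddHom.coe_mk]
  rw [← LinearMap.map_smul_of_tower, ← LinearMap.map_smul_of_tower, ← map_add, Ideal.toCotangent_eq]
  have h := Ideal.mul_mem_mul (sub_counit_mem K B x) (sub_counit_mem K B y)
  rw [← pow_two] at h
  convert h using 1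
  simp only [Submodule.coe_add, Submodule.coe_smul_of_tower, Algebra.smul_def, Bialgebra.counit_mul, map_mul]
  ring

/-- `B ⊗ B → B ⊗ V` -/
noncomputable def projR : B ⊗[K] B →ₗ[K] B ⊗[K] CotV K B := (proj K B).lTensor B

/-- `id ⊗ ε` -/
noncomputable def evR : B ⊗[K] B →ₐ[K] B :=
  Algebra.TensorProduct.lift (AlgHom.id K B) ((Algebra.ofId K B).comp (Bialgebra.counitAlgHom K B))
    (fun _ _ => Commute.all _ _)

theorem projR_mul (u w : B ⊗[K] B) :
    projR K B (u * w) = evR K B u • projR K B w + evR K B w • projR K B u := by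
  induction u using TensorProduct.induction_on with
  | zero => simp
  | add u₁ u₂ h₁ h₂ => simp only [add_mul, map_add, h₁, h₂, add_smul, smul_add]; abel
  | tmul x y =>
    induction w using TensorProduct.induction_on with
    | zero => simp
    | add w₁ w₂ h₁ h₂ => simp only [mul_add, map_add, h₁, h₂, add_smul, smul_add]; abel
    | tmul x' y' =>
      simp only [Algebra.TensorProduct.tmul_mul_tmul, projR, evR, LinearMap.lTensor_tmul,
        Algebra.TensorProduct.lift_tmul, AlgHom.comp_apply, AlgHom.id_apply, Algebra.ofId_apply,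
        proj_mul, TensorProduct.tmul_add, TensorProduct.tmul_smul, Bialgebra.counitAlgHom_apply,
        TensorProduct.smul_tmul', smul_eq_mul, Algebra.smul_def]
      congr 2 <;> ring

theorem evR_comul (x : B) : evR K B (Coalgebra.comul x) = x := by
  have h : (evR K B).toLinearMap = (TensorProduct.rid K B).toLinearMap ∘ₗ Coalgebra.counit.lTensor B := by
    refine TensorProduct.ext' fun a b => ?_
    simp [evR, Algebra.smul_def, mul_comm]
  show (evR K B).toLinearMap _ = x
  rw [h, LinearMap.comp_apply, Coalgebra.lTensor_counit_comul]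
  simp

/-- the universal invariant derivation -/
noncomputable def invDer : Derivation K B (B ⊗[K] CotV K B) :=
  Derivation.mk' ((projR K B).comp Coalgebra.comul) fun x y => by
    simp only [LinearMap.comp_apply, Bialgebra.comul_mul, projR_mul, evR_comul]

/-- `a ⊗ b ↦ S a • db` -/
noncomputable def antiD : B ⊗[K] B →ₗ[K] Ω[B⁄K] :=
  TensorProduct.lift (((LinearMap.lsmul B Ω[B⁄K]).restrictScalars₁₂ K K ∘ₗ (HopfAlgebra.antipodeAlgHom K B).toLinearMap).compl₂
    (KaehlerDifferential.D K B).toLinearMap)

theorem antiD_tmul (a b : B) :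
    antiD K B (a ⊗ₜ b) = HopfAlgebra.antipodeAlgHom K B a • KaehlerDifferential.D K B b := rfl

/-- `a ⊗ b ↦ S a * b` -/
noncomputable def antiL : B ⊗[K] B →ₐ[K] B :=
  Algebra.TensorProduct.lift (HopfAlgebra.antipodeAlgHom K B) (AlgHom.id K B) (fun _ _ => Commute.all _ _)

theorem antiD_mul (u w : B ⊗[K] B) :
    antiD K B (u * w) = antiL K B u • antiD K B w + antiL K B w • antiD K B u := by
  induction u using TensorProduct.induction_on with
  | zero => simp
  | add u₁ u₂ h₁ h₂ => simp only [add_mul, map_add, h₁, h₂, add_smul, smul_add]; abel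
  | tmul x y =>
    induction w using TensorProduct.induction_on with
    | zero => simp
    | add w₁ w₂ h₁ h₂ => simp only [mul_add, map_add, h₁, h₂, add_smul, smul_add]; abel
    | tmul x' y' =>
      simp only [Algebra.TensorProduct.tmul_mul_tmul, antiD_tmul, antiL, Algebra.TensorProduct.lift_tmul,
        AlgHom.id_apply, Derivation.leibniz, map_mul, smul_add, smul_smul]
      congr 2 <;> ring

theorem antiL_comul (x : B) : antiL K B (Coalgebra.comul x) = algebraMap K B (Coalgebra.counit x) := by
  have h : (antiL K B).toLinearMap = LinearMap.mul' K B ∘ₗ (HopfAlgebra.antipode K).rTensor B :=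
    TensorProduct.ext' fun a b => by simp [antiL]
  show (antiL K B).toLinearMap _ = _
  rw [h, LinearMap.comp_apply, HopfAlgebra.mul_antipode_rTensor_comul_apply]

/-- the invariant differential of a function -/
noncomputable def invForm₀ : B →ₗ[K] Ω[B⁄K] := (antiD K B).comp Coalgebra.comul

theorem invForm₀_mul (x y : B) : invForm₀ K B (x * y) =
    Coalgebra.counit (R := K) x • invForm₀ K B y + Coalgebra.counit (R := K) y • invForm₀ K B x := by
  simp only [invForm₀, LinearMap.comp_apply, Bialgebra.comul_mul, antiD_mul, antiL_comul, algebraMap_smul]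

theorem invForm₀_one : invForm₀ K B 1 = 0 := by
  rw [invForm₀, LinearMap.comp_apply, Bialgebra.comul_one, Algebra.TensorProduct.one_def, antiD_tmul,
    Derivation.map_one_eq_zero, smul_zero]

/-- invariant forms from cotangent vectors -/
noncomputable def invForm : CotV K B →ₗ[K] Ω[B⁄K] :=
  (LinearMap.ker (((augIdeal K B).toCotangent).restrictScalars K)).liftQ
    ((invForm₀ K B).comp (((augIdeal K B).subtype).restrictScalars K)) (by
      intro z hz
      rw [LinearMap.mem_ker] at hz ⊢
      have h2 : (z : B) ∈ augIdeal K B ^ 2 := (Ideal.toCotangent_eq_zero _ _).1 hz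
      show invForm₀ K B (z : B) = 0
      rw [pow_two] at h2
      refine Submodule.mul_induction_on h2 (fun a ha b hb => ?_) (fun a b ha hb => by rw [map_add, ha, hb, add_zero])
      rw [invForm₀_mul]
      have ha' : Coalgebra.counit (R := K) a = 0 := ha
      have hb' : Coalgebra.counit (R := K) b = 0 := hb
      rw [ha', hb', zero_smul, zero_smul, add_zero]) ∘ₗ
  (((((augIdeal K B).toCotangent).restrictScalars K)).quotKerEquivOfSurjective
      (augIdeal K B).toCotangent_surjective).symm.toLinearMap

theorem invForm_proj (x : B) : invForm K B (proj K B x) = invForm₀ K B x := by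
  have h : ∀ z : augIdeal K B, invForm K B ((augIdeal K B).toCotangent z) = invForm₀ K B (z : B) := by
    intro z
    rw [invForm, LinearMap.comp_apply]
    have := (((augIdeal K B).toCotangent).restrictScalars K).quotKerEquivOfSurjective_symm_apply
      (augIdeal K B).toCotangent_surjective z
    erw [this]
    rfl
  show invForm K B ((augIdeal K B).toCotangent ⟨_, sub_counit_mem K B x⟩) = _
  rw [h, map_sub, Algebra.algebraMap_eq_smul_one, map_smul, invForm₀_one, smul_zero, sub_zero]

/-- the two maps -/
noncomputable def toInv : Ω[B⁄K] →ₗ[B] B ⊗[K] CotV K B := (invDer K B).liftKaehlerDifferential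

noncomputable def ofInv : B ⊗[K] CotV K B →ₗ[B] Ω[B⁄K] := (invForm K B).liftBaseChange B

theorem ofInv_toInv : (ofInv K B).comp (toInv K B) = LinearMap.id := by
  refine LinearMap.ext_on_range (v := KaehlerDifferential.D K B)
    (KaehlerDifferential.span_range_derivation K B) fun x => ?_
  rw [LinearMap.comp_apply, toInv, Derivation.liftKaehlerDifferential_comp_D, LinearMap.id_apply]
  let H' : B ⊗[K] (B ⊗[K] B) →ₗ[K] Ω[B⁄K] :=
    TensorProduct.lift (((LinearMap.lsmul B Ω[B⁄K]).restrictScalars₁₂ K K).compl₂ (antiD K B))
  have e1 : ((ofInv K B).restrictScalars K) ∘ₗ projR K B = H' ∘ₗ Coalgebra.comul.lTensor B := by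
    refine TensorProduct.ext' fun a b => ?_
    simp [projR, ofInv, H', invForm_proj, invForm₀]
  let N : B ⊗[K] B →ₗ[K] B := LinearMap.mul' K B ∘ₗ (HopfAlgebra.antipode K).lTensor B
  have e2 : H' ∘ₗ (TensorProduct.assoc K B B B).toLinearMap =
      TensorProduct.lift (((LinearMap.lsmul B Ω[B⁄K]).restrictScalars₁₂ K K ∘ₗ N).compl₂
        (KaehlerDifferential.D K B).toLinearMap) := by
    refine TensorProduct.ext_threefold fun a b c => ?_
    simp [H', N, antiD_tmul, smul_smul, mul_comm]
  have e3 : ∀ w : B ⊗[K] B, TensorProduct.lift (((LinearMap.lsmul B Ω[B⁄K]).restrictScalars₁₂ K K ∘ₗ N).compl₂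
      (KaehlerDifferential.D K B).toLinearMap) (Coalgebra.comul.rTensor B w) =
      KaehlerDifferential.D K B (TensorProduct.lid K B (Coalgebra.counit.rTensor B w)) := by
    intro w
    induction w using TensorProduct.induction_on with
    | zero => simp
    | add w₁ w₂ h₁ h₂ => simp only [map_add, h₁, h₂]
    | tmul a b =>
      simp [N, HopfAlgebra.mul_antipode_lTensor_comul_apply, Derivation.map_smul, algebraMap_smul]
  show ((ofInv K B).restrictScalars K ∘ₗ projR K B) (Coalgebra.comul x) = _
  rw [e1, LinearMap.comp_apply, ← Coalgebra.coassoc_apply]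
  have e2' := LinearMap.congr_fun e2 (Coalgebra.comul.rTensor B (Coalgebra.comul x))
  simp only [LinearMap.comp_apply, LinearEquiv.coe_coe] at e2'
  rw [e2', e3, Coalgebra.rTensor_counit_comul]
  simp

theorem toInv_ofInv : (toInv K B).comp (ofInv K B) = LinearMap.id := by
  refine TensorProduct.AlgebraTensorModule.curry_injective (LinearMap.ext_ring (LinearMap.ext fun z => ?_))
  obtain ⟨⟨z, hz⟩, rfl⟩ := (augIdeal K B).toCotangent_surjective z
  have hπ : proj K B z = (augIdeal K B).toCotangent ⟨z, hz⟩ := by
    show (augIdeal K B).toCotangent _ = _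
    congr 1
    ext
    simp [show Coalgebra.counit (R := K) z = 0 from hz]
  show toInv K B (ofInv K B ((1 : B) ⊗ₜ[K] (augIdeal K B).toCotangent ⟨z, hz⟩)) = (1 : B) ⊗ₜ[K] (augIdeal K B).toCotangent ⟨z, hz⟩
  rw [← hπ]
  have h0 : ofInv K B ((1 : B) ⊗ₜ[K] proj K B z) = invForm₀ K B z := by
    simp [ofInv, invForm_proj]
  rw [h0, invForm₀, LinearMap.comp_apply]
  let H' : B ⊗[K] (B ⊗[K] B) →ₗ[K] B ⊗[K] CotV K B :=
    TensorProduct.lift (((LinearMap.lsmul B (B ⊗[K] CotV K B)).restrictScalars₁₂ K K ∘ₗ
      (HopfAlgebra.antipodeAlgHom K B).toLinearMap).compl₂ (projR K B))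
  have e1 : ((toInv K B).restrictScalars K) ∘ₗ antiD K B = H' ∘ₗ Coalgebra.comul.lTensor B := by
    refine TensorProduct.ext' fun a b => ?_
    simp [H', toInv, antiD_tmul, invDer]
  have e2 : H' ∘ₗ (TensorProduct.assoc K B B B).toLinearMap =
      TensorProduct.map (antiL K B).toLinearMap (proj K B) := by
    refine TensorProduct.ext_threefold fun a b c => ?_
    simp [H', antiL, projR, TensorProduct.smul_tmul']
  have e3 : ∀ w : B ⊗[K] B, TensorProduct.map (antiL K B).toLinearMap (proj K B) (Coalgebra.comul.rTensor B w) =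
      (1 : B) ⊗ₜ[K] proj K B (TensorProduct.lid K B (Coalgebra.counit.rTensor B w)) := by
    intro w
    induction w using TensorProduct.induction_on with
    | zero => simp
    | add w₁ w₂ h₁ h₂ => simp only [map_add, h₁, h₂, TensorProduct.tmul_add]
    | tmul a b =>
      simp [antiL_comul, Algebra.algebraMap_eq_smul_one, TensorProduct.smul_tmul]
  show ((toInv K B).restrictScalars K ∘ₗ antiD K B) (Coalgebra.comul z) = _
  rw [e1, LinearMap.comp_apply, ← Coalgebra.coassoc_apply]
  have e2' := LinearMap.congr_fun e2 (Coalgebra.comul.rTensor B (Coalgebra.comul z))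
  simp only [LinearMap.comp_apply, LinearEquiv.coe_coe] at e2'
  rw [e2', e3, Coalgebra.rTensor_counit_comul]
  simp

end

/-- Affine case of the last sentence: for a group scheme over a field the module of differentials is a
free module; stated for an affine group scheme Spec B, i.e. for a commutative Hopf algebra B over a
field K: Ω_{B/K} is a free B-module. -/
theorem result (K : Type u) [Field K] (B : Type v) [CommRing B] [HopfAlgebra K B] : Module.Free B (Ω[B⁄K]) := by
  exact Module.Free.of_equiv (LinearEquiv.ofLinearMap (ofInv K B) (toInv K B) (ofInv_toInv K B) (toInv_ofInv K B))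

end Groth.Agent.S1846
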