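import Groth.Statements.S18460
import Groth.Agent.Lib.SurfRR.Contraction

set_option autoImplicit false
set_option linter.style.haveILetI false
universe u
open CategoryTheory CategoryTheory.Limits AlgebraicGeometry TopologicalSpace
open Surf

namespace Groth.Agent.S18460

/-- Let k be an algebraically closed field of characteristic zero and X a smooth projective surface over
k (integral, proper and smooth over k, of dimension 2). Let Y be an integral normal scheme of
dimension 2, locally of finite type over k, y a closed point of Y, and π : X → Y a proper k-morphism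
which restricts to an isomorphism over Y ∖ {y} and whose fibre over y is, as a set, the union of
pairwise distinct integral curves C_1, …, C_r on X (r ≥ 1, ideal sheaves I_i), this union being
connected; so π contracts the connected curve C = ⋃ C_i to the normal point y. Then the intersection
matrix of the C_i is negative definite: Σ_{i,j} a_i a_j (I_i·I_j) < 0 for every nonzero integer
vector a, where (A·B) = χ(O_X) − χ(A) − χ(B) + χ(A ⊗ B). The published statement is about a
holomorphic contraction of a compact connected curve in a complex surface to a point of a normal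
analytic surface; this row is the algebraic case, with Y locally of finite type so that the local
ring at y is a two-dimensional Noetherian normal domain and a nonzero function vanishing at y cuts
out a curve through y, which is what the printed argument (pull back such a function and apply the
formal negativity lemma proved there) uses. -/
theorem result (k : Type u) [Field k] [IsAlgClosed k] [CharZero k]
    (X : Scheme.{u}) [X.Over (Spec (CommRingCat.of k))] [IsProper (X ↘ (Spec (CommRingCat.of k)))]
    [Smooth (X ↘ (Spec (CommRingCat.of k)))] [IsIntegral X] (hdim : topologicalKrullDim X = 2)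
    (Y : Scheme.{u}) [Y.Over (Spec (CommRingCat.of k))] [IsIntegral Y] (hYn : Pi1.IsNormalScheme Y)
    (hYd : topologicalKrullDim Y = 2)
    [LocallyOfFiniteType (Y ↘ (Spec (CommRingCat.of k)))]
    (π : X ⟶ Y) (hπk : π ≫ (Y ↘ (Spec (CommRingCat.of k))) = (X ↘ (Spec (CommRingCat.of k)))) [IsProper π]
    (y : Y) (hy : IsClosed ({y} : Set Y)) (hiso : IsIso (π ∣_ (⟨({y} : Set Y)ᶜ, hy.isOpen_compl⟩ : Y.Opens)))
    (r : ℕ) (hr : 0 < r) (C : Fin r → X.IdealSheafData) (hC : Function.Injective C)
    (hCi : ∀ i, IsIntegral (C i).subscheme) (hCd : ∀ i, topologicalKrullDim ((C i).support : Set X) = 1)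
    (hfib : (π.base : X → Y) ⁻¹' {y} = ⋃ i, ((C i).support : Set X))
    (hconn : _root_.IsConnected (⋃ i, ((C i).support : Set X))) :
    ∀ a : Fin r → ℤ, a ≠ 0 →
      ∑ i, ∑ j, a i * a j * FGA.intNum k X 2 ![(ClSub.idealMod (C i)), (ClSub.idealMod (C j))] (Coh.structureModule X) < 0 := by
  haveI := Groth.Agent.Lib.Curves.GlobalSections.isNoetherian_of_proper k X
  haveI : IsLocallyNoetherian Y := LocallyOfFiniteType.isLocallyNoetherian (Y ↘ Spec (CommRingCat.of k))
  let p := Y ↘ Spec (CommRingCat.of k)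
  obtain ⟨V, hV, hyV, -⟩ := exists_isAffineOpen_mem_and_subset (show y ∈ (⊤ : Y.Opens) from trivial)
  haveI : Nonempty V := ⟨⟨y, hyV⟩⟩
  haveI : IsNoetherianRing Γ(Y, V) := IsLocallyNoetherian.component_noetherian ⟨V, hV⟩
  let P := (hV.primeIdealOf ⟨y, hyV⟩).asIdeal
  have hht : (2 : WithBot ℕ∞) ≤ P.height := by
    rw [← Groth.Agent.Lib.Ideal.Prime.ringKrullDim_stalk_eq_height hV hyV]
    exact Groth.Agent.Lib.SurfInt.Transversal.two_le_ringKrullDim_stalk p
      (Groth.Agent.Lib.SurfInt.Surface.forall_component hYd) hy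
  have hP : P ≠ ⊥ := fun h => by
    rw [h, Ideal.height_bot] at hht
    exact absurd hht (by decide)
  obtain ⟨f, hfP, hf0⟩ := Submodule.exists_mem_ne_zero_of_ne_bot hP
  obtain ⟨Q, hQ, hQP⟩ := Ideal.exists_minimalPrimes_le (I := Ideal.span {f}) (J := P)
    ((Ideal.span_singleton_le_iff_mem _).2 hfP)
  have hQh := Ideal.height_le_one_of_isPrincipal_of_mem_minimalPrimes (Ideal.span {f}) Q hQ
  haveI := hQ.1.1
  obtain ⟨η, hηV, hηQ⟩ := Groth.Agent.Lib.AssPt.Basic.exists_point_of_prime hV Q
  have hηy : η ≠ y := by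
    intro hEq
    subst hEq
    have h1 : P = Q := hηQ
    rw [h1] at hht
    exact absurd (hht.trans (WithBot.coe_le_coe.2 hQh)) (by decide)
  have hsp : η ⤳ y := (Groth.Agent.Lib.AssPt.Basic.specializes_iff_primeIdealOf hV hyV hηV).2
    (by rw [hηQ]; exact hQP)
  have hnot : ∀ {z : Y} (hz : z ∈ V), f ∈ (hV.primeIdealOf ⟨z, hz⟩).asIdeal → z ∉ Y.basicOpen f := by
    intro z hz hf hmem
    rw [Groth.Agent.Lib.Ideal.EffCartier.mem_basicOpen_iff_notMem_prime hV hz] at hmem
    exact hmem hf
  have hyf := hnot hyV hfP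
  have hηf := hnot hηV (by rw [hηQ]; exact hQ.1.2 (Ideal.mem_span_singleton_self f))
  let g := π.app V f
  have hmax : ∀ (x : X) (hx : x ∈ π ⁻¹ᵁ V), π x ∉ Y.basicOpen f →
      X.presheaf.germ (π ⁻¹ᵁ V) x hx g ∈ IsLocalRing.maximalIdeal _ := by
    intro x hx hnf
    rw [IsLocalRing.mem_maximalIdeal, mem_nonunits_iff]
    intro hu
    have h1 : x ∈ X.basicOpen g := (X.mem_basicOpen g x hx).2 hu
    rw [← Scheme.preimage_basicOpen] at h1
    exact hnf h1
  let U₀ : Y.Opens := ⟨({y} : Set Y)ᶜ, hy.isOpen_compl⟩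
  haveI := hiso
  obtain ⟨⟨η', hη'U⟩, hη'⟩ := (π ∣_ U₀).surjective ⟨η, hηy⟩
  have hπη : π η' = η := by
    have h1 := congrArg (fun a => U₀.ι a) hη'
    have h0 : ((π ∣_ U₀) ≫ U₀.ι) ⟨η', hη'U⟩ = ((π ⁻¹ᵁ U₀).ι ≫ π) ⟨η', hη'U⟩ := by
      rw [morphismRestrict_ι]
    exact h0.symm.trans h1
  have hη'V : η' ∈ π ⁻¹ᵁ V := by show π η' ∈ V; rw [hπη]; exact hηV
  have hg : g ≠ 0 := by
    intro h0
    haveI : IsIso (π.stalkMap η') :=
      ((MorphismProperty.isomorphisms CommRingCat).arrow_mk_iso_iff
        (morphismRestrictStalkMap π U₀ ⟨η', hη'U⟩)).1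
        (show IsIso ((π ∣_ U₀).stalkMap ⟨η', hη'U⟩) by infer_instance)
    have h1 := π.germ_stalkMap_apply V η' hη'V f
    rw [show π.app V f = 0 from h0, map_zero] at h1
    have h2 : Y.presheaf.germ V (π η') hη'V f = 0 :=
      (ConcreteCategory.bijective_of_isIso (π.stalkMap η')).1 (h1.trans (map_zero _).symm)
    exact hf0 (germ_injective_of_isIntegral Y (π η') hη'V (h2.trans (map_zero _).symm))
  have hmem : ∀ x ∈ ⋃ i, ((C i).support : Set X), π x = y := fun x hx => by
    rw [← hfib] at hx; exact hx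
  refine Groth.Agent.Lib.SurfRR.Contraction.negDef (k := k) hdim hr C hC hCi hCd hconn g hg
    (fun x hx => ?_) (fun x hx hxW => hmax x hxW (by rw [hmem x hx]; exact hyf)) (η := η') hη'V
    (fun hc => hηy (hπη.symm.trans (hmem η' hc))) (hmax η' hη'V (by rw [hπη]; exact hηf)) ?_
  · show π x ∈ V
    rw [hmem x hx]; exact hyV
  · have hclosed : IsClosed (π.base '' closure ({η'} : Set X)) := π.isClosedMap _ isClosed_closure
    obtain ⟨x, hx, hxy⟩ := hsp.mem_closed hclosed ⟨η', subset_closure rfl, hπη⟩
    exact ⟨x, hx, by rw [← hfib]; exact hxy⟩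

end Groth.Agent.S18460

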