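import Groth.Statements.S18462
import Groth.Agent.Lib.SurfInt.Config

set_option autoImplicit false
universe u
open CategoryTheory CategoryTheory.Limits AlgebraicGeometry TopologicalSpace
open Surf

namespace Groth.Agent.S18462

/-- Let k be an algebraically closed field of characteristic zero and X a smooth projective surface over
k (integral, proper and smooth over k, of dimension 2, carrying an ample invertible module). Let
C_1, …, C_r be pairwise distinct integral curves on X with ideal sheaves I_i and negative definite
intersection matrix (Σ_{i,j} a_i a_j (I_i·I_j) < 0 for every nonzero integer vector a, where (A·B) =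
χ(O_X) − χ(A) − χ(B) + χ(A ⊗ B)), let F be an effective Cartier divisor on X, with ideal I_F, none
of whose components is a C_i, and let s_1, …, s_r be integers such that the divisor class F + Σ_i
s_i C_i is orthogonal to every C_j, that is (F·C_j) + Σ_i s_i (C_i·C_j) = 0, written here as
deg(I_F|_{C_j}) = χ(O_{C_j} ⊗ I_F) − χ(O_{C_j}) = Σ_i s_i (I_i·I_j) for every j. Then all the s_i
are nonnegative. The published statement allows real coefficients s_i; this row takes integer
coefficients. Its second assertion, that s_i > 0 on every connected group of the C_i one of which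
meets F positively, is not restated. -/
theorem result (k : Type u) [Field k] [IsAlgClosed k] [CharZero k]
    (X : Scheme.{u}) [X.Over (Spec (CommRingCat.of k))] [IsProper (X ↘ (Spec (CommRingCat.of k)))]
    [Smooth (X ↘ (Spec (CommRingCat.of k)))] [IsIntegral X] (hdim : topologicalKrullDim X = 2)
    (hproj : ∃ H : X.Modules, CohB1.IsAmple H)
    (r : ℕ) (C : Fin r → X.IdealSheafData) (hC : Function.Injective C)
    (hCi : ∀ i, IsIntegral (C i).subscheme) (hCd : ∀ i, topologicalKrullDim ((C i).support : Set X) = 1)
    (hneg : ∀ a : Fin r → ℤ, a ≠ 0 →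
      ∑ i, ∑ j, a i * a j * FGA.intNum k X 2 ![(ClSub.idealMod (C i)), (ClSub.idealMod (C j))] (Coh.structureModule X) < 0)
    (F : X.IdealSheafData) (hF : FGA.IsEffCartier F) (hFC : ∀ i, ¬ ((C i).support : Set X) ⊆ (F.support : Set X))
    (s : Fin r → ℤ)
    (horth : ∀ j, Curv2.euler k X (CohB1.tensorMod (ClSub.quotMod (C j)) (ClSub.idealMod F)) - Curv2.euler k X (ClSub.quotMod (C j)) =
      ∑ i, s i * FGA.intNum k X 2 ![(ClSub.idealMod (C i)), (ClSub.idealMod (C j))] (Coh.structureModule X)) :
    ∀ i, 0 ≤ s i := by
  haveI := Lib.Curves.GlobalSections.isNoetherian_of_proper k X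
  have hfin := Lib.Snapper.Finite.cohFinite k X
  refine Lib.SurfInt.NegDef.nonneg_of_negDef _
    (fun i j h => Lib.SurfInt.Config.offDiag (k := k) hdim C hC hCi hCd i j h) hneg s fun j => ?_
  have hI := Lib.SurfInt.Effective.isInvertible_idealMod
    (Lib.SurfInt.Config.isEff (k := k) hdim C hC hCi hCd j)
  have h := Lib.SurfInt.Effective.intNum_ideal hfin (d := 2) hdim.le hI
    (Lib.SurfInt.Effective.isInvertible_idealMod hF)
  rw [← horth j, Lib.Snapper.Chi.euler_eq_eulerCharLE (d := 2) hdim.le,
    Lib.Snapper.Chi.euler_eq_eulerCharLE (d := 2) hdim.le,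
    Lib.Snapper.Chi.eulerCharLE_of_iso (Lib.TensorMod.Basic.comm _ _)]
  linarith [Lib.SurfInt.Config.nonneg_of_notComponent (k := k) hdim C hC hCi hCd hF hFC j]

end Groth.Agent.S18462
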