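import Groth.Statements.S18463
import Groth.Agent.Lib.SurfInt.Config

set_option autoImplicit false
universe u
open CategoryTheory CategoryTheory.Limits AlgebraicGeometry TopologicalSpace
open Surf

namespace Groth.Agent.S18463

/-- Let k be an algebraically closed field of characteristic zero and X a smooth projective surface over
k (integral, proper and smooth over k, of dimension 2, carrying an ample invertible module). Let
C_1, …, C_r be pairwise distinct integral curves on X with ideal sheaves I_i and negative definite
intersection matrix (Σ_{i,j} a_i a_j (I_i·I_j) < 0 for every nonzero integer vector a, where (A·B) =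
χ(O_X) − χ(A) − χ(B) + χ(A ⊗ B)), let F be an effective Cartier divisor on X, with ideal I_F, none
of whose components is a C_i, and let s_1, …, s_r be integers such that F is numerically equivalent
to Σ_i s_i C_i: (I_F·M) = Σ_i s_i (I_i·M) for every invertible O_X-module M (equivalently (F·D) = Σ
s_i (C_i·D) for every divisor D). Then F = 0, i.e. I_F = O_X, and every s_i is 0. The published
statement writes the hypothesis as [F] + Σ s_i[C_i] = 0 with real s_i; this row writes F ≡ Σ s_i C_i
with integer s_i, which is the same after changing the signs of the s_i. -/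
theorem result (k : Type u) [Field k] [IsAlgClosed k] [CharZero k]
    (X : Scheme.{u}) [X.Over (Spec (CommRingCat.of k))] [IsProper (X ↘ (Spec (CommRingCat.of k)))]
    [Smooth (X ↘ (Spec (CommRingCat.of k)))] [IsIntegral X] (hdim : topologicalKrullDim X = 2)
    (hproj : ∃ H : X.Modules, CohB1.IsAmple H)
    (r : ℕ) (C : Fin r → X.IdealSheafData) (hC : Function.Injective C)
    (hCi : ∀ i, IsIntegral (C i).subscheme) (hCd : ∀ i, topologicalKrullDim ((C i).support : Set X) = 1)
    (hneg : ∀ a : Fin r → ℤ, a ≠ 0 →
      ∑ i, ∑ j, a i * a j * FGA.intNum k X 2 ![(ClSub.idealMod (C i)), (ClSub.idealMod (C j))] (Coh.structureModule X) < 0)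
    (F : X.IdealSheafData) (hF : FGA.IsEffCartier F) (hFC : ∀ i, ¬ ((C i).support : Set X) ⊆ (F.support : Set X))
    (s : Fin r → ℤ)
    (hnum : ∀ M : X.Modules, PicF.IsInvertible M →
      FGA.intNum k X 2 ![(ClSub.idealMod F), M] (Coh.structureModule X) =
        ∑ i, s i * FGA.intNum k X 2 ![(ClSub.idealMod (C i)), M] (Coh.structureModule X)) :
    F = ⊤ ∧ ∀ i, s i = 0 := by
  haveI := Lib.Curves.GlobalSections.isNoetherian_of_proper k X
  have hfin := Lib.Snapper.Finite.cohFinite k X
  obtain ⟨H, hH⟩ := hproj
  have hI := fun j => Lib.SurfInt.Effective.isInvertible_idealMod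
    (Lib.SurfInt.Config.isEff (k := k) hdim C hC hCi hCd j)
  have hs : ∀ i, 0 ≤ - s i := by
    refine Lib.SurfInt.NegDef.nonneg_of_negDef _
      (fun i j h => Lib.SurfInt.Config.offDiag (k := k) hdim C hC hCi hCd i j h) hneg _ fun j => ?_
    simp only [neg_mul, Finset.sum_neg_distrib, neg_nonpos]
    rw [← hnum _ (hI j), Lib.Snapper.IntNum.intNum_pair_comm]
    exact Lib.SurfInt.Config.nonneg_of_notComponent (k := k) hdim C hC hCi hCd hF hFC j
  have hFtop : F = ⊤ := by
    by_contra hne
    have h1 := Lib.SurfInt.NegDef.intNum_eff_ample_neg hfin hdim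
      (Lib.SurfInt.NegDef.regular_of_smooth (k := k)) hH hF hne
    rw [hnum H hH.1] at h1
    refine absurd h1 (not_lt.mpr (Finset.sum_nonneg fun i _ => mul_nonneg_of_nonpos_of_nonpos
      (by linarith [hs i]) (Lib.SurfInt.Config.ample_neg (k := k) hdim C hC hCi hCd hH i).le))
  refine ⟨hFtop, fun i => ?_⟩
  by_contra hsi
  refine absurd (hneg s fun h => hsi (congrFun h i)) (not_lt.mpr (le_of_eq ?_))
  rw [Finset.sum_comm]
  refine (Finset.sum_eq_zero fun j _ => ?_).symm
  have h := hnum _ (hI j)
  rw [hFtop, Lib.SurfInt.NegDef.intNum_top hfin hdim (hI j)] at h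
  calc ∑ i, s i * s j * FGA.intNum k X 2 ![(ClSub.idealMod (C i)), (ClSub.idealMod (C j))] (Coh.structureModule X)
      = s j * ∑ i, s i * FGA.intNum k X 2 ![(ClSub.idealMod (C i)), (ClSub.idealMod (C j))] (Coh.structureModule X) := by
        rw [Finset.mul_sum]; exact Finset.sum_congr rfl fun i _ => by ring
    _ = 0 := by rw [← h, mul_zero]

end Groth.Agent.S18463
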