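import Groth.Statements.S18464
import Groth.Agent.Lib.PolyFun45.Basic
import Groth.Agent.Lib.PolyFun45.Forms
import Mathlib.LinearAlgebra.Matrix.NonsingularInverse
import Mathlib.LinearAlgebra.Dual.Lemmas
import Mathlib.Algebra.MvPolynomial.Funext


set_option autoImplicit false
universe u
open CategoryTheory CategoryTheory.Limits AlgebraicGeometry
open LefPen

namespace Groth.Agent.S18464

/-- Let k be an infinite field, r a natural number, d ≥ 1 an integer, and m ≥ C(r+d, d), the number of
monomials of degree d in r+1 variables. In the space of m-tuples of vectors of k^(r+1) (homogeneous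
coordinate vectors of m points of projective r-space; a zero vector is allowed and imposes no
condition), the tuples such that the only form of degree d vanishing at all of them is the zero form
make up a Zariski-open subset which contains the non-vanishing locus of a not identically zero
polynomial function, so a dense open subset. (The published statement is the openness and density of
the corresponding locus in the m-fold product of projective r-space over the ground field; here the
ground field is any infinite field and the statement is made on coordinate vectors.) -/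
theorem result (k : Type u) [Field k] [Infinite k]
    (r d m : ℕ) (hd : 1 ≤ d) (hm : Nat.choose (r + d) d ≤ m) :
    LefPen.IsZOpen k {x : Fin m → (Fin (r + 1) → k) |
      ∀ G : LefPen.Form r k d, (∀ i : Fin m, MvPolynomial.aeval (x i) G.1 = 0) → G = 0} ∧
    LefPen.IsGeneric k {x : Fin m → (Fin (r + 1) → k) |
      ∀ G : LefPen.Form r k d, (∀ i : Fin m, MvPolynomial.aeval (x i) G.1 = 0) → G = 0} := by
  classical
  let I := Groth.Agent.H83.LineExist.Idx r d
  let row : (Fin (r + 1) → k) → I → k := fun v e => ∏ l, v l ^ e.1 l
  let coef := (Lib.PolyFun45.Forms.coef : LefPen.Form r k d ≃ₗ[k] (I → k))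
  have heval : ∀ (G : LefPen.Form r k d) v, MvPolynomial.aeval v G.1 = ∑ e, coef G e * row v e := fun G v => by
    conv_lhs => rw [← Lib.PolyFun45.Forms.form_coef G, Groth.Agent.H83.LineExist.form, map_sum]
    refine Finset.sum_congr rfl fun e _ => ?_
    rw [MvPolynomial.aeval_monomial, Finsupp.prod_fintype _ _ (fun l => by simp)]
    rfl
  let S := {x : Fin m → (Fin (r + 1) → k) | ∀ G : LefPen.Form r k d, (∀ i : Fin m, MvPolynomial.aeval (x i) G.1 = 0) → G = 0}
  have hmem : ∀ x, x ∈ S ↔ ∀ c : I → k, (∀ i, ∑ e, c e * row (x i) e = 0) → c = 0 := fun x => by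
    refine ⟨fun h c hc => ?_, fun h G hG => coef.map_eq_zero_iff.mp (h _ fun i => by rw [← heval]; exact hG i)⟩
    have := h (coef.symm c) fun i => by rw [heval, LinearEquiv.apply_symm_apply]; exact hc i
    simpa using congrArg coef this
  -- the minors
  let φ : (Fin m → Fin (r + 1) → k) ≃ₗ[k] (Fin m × Fin (r + 1) → k) := (LinearEquiv.curry k k (Fin m) (Fin (r + 1))).symm
  let P : (I → Fin m) → MvPolynomial (Fin m × Fin (r + 1)) k := fun σ =>
    (Matrix.of fun e' e : I => ∏ l, MvPolynomial.X (σ e', l) ^ e.1 l).det
  have hP : ∀ σ x, MvPolynomial.eval (φ x) (P σ) = (Matrix.of fun e' e : I => row (x (σ e')) e).det := fun σ x => by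
    rw [RingHom.map_det]
    congr 1
    ext e' e
    simp [row, φ]
  have hsub : ∀ σ x, MvPolynomial.eval (φ x) (P σ) ≠ 0 → x ∈ S := fun σ x hne => by
    rw [hmem]
    intro c hc
    rw [hP] at hne
    exact Matrix.eq_zero_of_mulVec_eq_zero hne (funext fun e' => by
      simp only [Matrix.mulVec, dotProduct, Matrix.of_apply, Pi.zero_apply]
      rw [← hc (σ e')]
      exact Finset.sum_congr rfl fun e _ => mul_comm _ _)
  -- selection of rows
  have hsel : ∀ {J : Type u} [Nonempty J] (y : J → Fin (r + 1) → k),
      (∀ c : I → k, (∀ i, ∑ e, c e * row (y i) e = 0) → c = 0) →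
      ∃ σ : I → J, (Matrix.of fun e' e : I => row (y (σ e')) e).det ≠ 0 := by
    intro J _ y h
    have hspan : Submodule.span k (Set.range fun i => row (y i)) = ⊤ := by
      rw [← Subspace.dualAnnihilator_inj, Submodule.dualAnnihilator_top, eq_bot_iff]
      intro f hf
      rw [Submodule.mem_bot]
      rw [Submodule.mem_dualAnnihilator] at hf
      have hfc : ∀ v : I → k, f v = ∑ e, f (Pi.single e 1) * v e := fun v => by
        conv_lhs => rw [← Finset.univ_sum_single v]
        rw [map_sum]
        refine Finset.sum_congr rfl fun i _ => ?_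
        rw [show Pi.single i (v i) = v i • (Pi.single i (1 : k) : I → k) by
          rw [← Pi.single_smul, smul_eq_mul, mul_one], map_smul, smul_eq_mul, mul_comm]
      have h0 := h (fun e => f (Pi.single e 1)) fun i => by rw [← hfc]; exact hf _ (Submodule.subset_span ⟨i, rfl⟩)
      exact LinearMap.ext fun v => by rw [hfc, LinearMap.zero_apply]; exact Finset.sum_eq_zero fun e _ => by rw [congrFun h0 e]; simp
    obtain ⟨b, hbs, hbspan, hbli⟩ := exists_linearIndependent k (Set.range fun i => row (y i))
    rw [hspan] at hbspan
    let B := Module.Basis.mk hbli (by rw [Subtype.range_coe]; exact hbspan.ge)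
    haveI : Fintype b := FiniteDimensional.fintypeBasisIndex B
    have hcard : Fintype.card b = Fintype.card I := by
      rw [← Module.finrank_eq_card_basis B, Module.finrank_fintype_fun_eq_card]
    let e := (Fintype.equivOfCardEq hcard).symm
    choose σ hσ using fun i : I => hbs (e i).2
    refine ⟨σ, ?_⟩
    have hli : LinearIndependent k fun e' : I => row (y (σ e')) := by
      simp only [hσ]
      exact hbli.comp e e.injective
    exact ((Matrix.isUnit_iff_isUnit_det _).mp (Matrix.linearIndependent_rows_iff_isUnit.mp hli)).ne_zero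
  have hN : Fintype.card I ≤ m := by
    rw [← Nat.card_eq_fintype_card, Lib.PolyFun45.Forms.card_idx]
    exact hm
  have hI : Nonempty I := Fintype.card_pos_iff.mp (by
    rw [← Nat.card_eq_fintype_card, Lib.PolyFun45.Forms.card_idx]
    exact Nat.choose_pos (by omega))
  have hm0 : 0 < m := lt_of_lt_of_le Fintype.card_pos hN
  refine ⟨fun x hx => ?_, ?_⟩
  · haveI : Nonempty (ULift.{u} (Fin m)) := ⟨⟨⟨0, hm0⟩⟩⟩
    obtain ⟨σ, hσ⟩ := hsel (fun i : ULift.{u} (Fin m) => x i.down) fun c hc => (hmem x).mp hx c fun i => hc ⟨i⟩
    refine ⟨fun w => MvPolynomial.eval (φ w) (P fun e => (σ e).down), Lib.PolyFun45.Basic.isPolyFun_eval φ _, ?_, hsub _⟩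
    show MvPolynomial.eval (φ x) _ ≠ 0
    rw [hP]; exact hσ
  · obtain ⟨τ, hτ⟩ := hsel (fun v : Fin (r + 1) → k => v) fun c hc => by
      have h0 : (coef.symm c).1 = 0 := MvPolynomial.funext fun v => by
        have := heval (coef.symm c) v
        rw [LinearEquiv.apply_symm_apply, hc v, MvPolynomial.aeval_eq_eval] at this
        simpa using this
      simpa using congrArg coef (Subtype.ext h0 : coef.symm c = 0)
    obtain ⟨ε⟩ : Nonempty (I ↪ Fin m) := Function.Embedding.nonempty_of_card_le (by simpa using hN)
    refine ⟨fun w => MvPolynomial.eval (φ w) (P ε), Lib.PolyFun45.Basic.isPolyFun_eval φ _,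
      ⟨Function.extend ε τ 0, ?_⟩, hsub _⟩
    show MvPolynomial.eval (φ (Function.extend ε τ 0)) _ ≠ 0
    rw [hP]
    simpa [ε.injective.extend_apply] using hτ


end Groth.Agent.S18464
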