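import Groth.Statements.S18466
import Mathlib

set_option autoImplicit false
universe u
open Hopf

namespace Groth.Agent.S18466

/-- Let k be a field and n ≥ 1. The constant group scheme ℤ/n over k is self-dual, that is, isomorphic
to its Cartier dual μ_n — equivalently the Hopf algebra of k-valued functions on the cyclic group of
order n and the group algebra of that group over k (group elements group-like) are isomorphic as
bialgebras — precisely when the field k has a primitive n-th root of unity, i.e. k contains n
distinct n-th roots of unity in k. (The published statement assumes that the characteristic of k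
does not divide n; both directions hold without that assumption by the same argument, since a
primitive n-th root of unity forces n to be nonzero in k, so it is omitted here.) -/
theorem result
    (k : Type u) [Field k] (n : ℕ) [NeZero n] :
    Nonempty (ConstGrp.F k (Multiplicative (ZMod n)) ≃ₐc[k] MonoidAlgebra k (Multiplicative (ZMod n))) ↔
      ∃ ζ : k, IsPrimitiveRoot ζ n := by
  open TensorProduct in
  classical
  set G := Multiplicative (ZMod n)
  let g0 : G := Multiplicative.ofAdd 1
  have hg0 : ∀ m : ℕ, g0 ^ m = Multiplicative.ofAdd (m : ZMod n) := fun m => by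
    show Multiplicative.ofAdd (1 : ZMod n) ^ m = _
    rw [← ofAdd_nsmul]; simp
  have hgen : ∀ h : G, g0 ^ (Multiplicative.toAdd h).val = h := fun h => by
    rw [hg0, ZMod.natCast_zmod_val]; rfl
  constructor
  · rintro ⟨e⟩
    let u : G → ConstGrp.F k G := fun h => e.symm (MonoidAlgebra.single h 1)
    have hu : ∀ h, IsGroupLikeElem k (u h) := fun h =>
      (MonoidAlgebra.isGroupLikeElem_single_one h).map (e.symm : MonoidAlgebra k G →ₐc[k] ConstGrp.F k G)
    have hu1 : u g0 1 = 1 := by rw [← ConstGrp.counit_apply k G (u g0)]; exact (hu g0).counit_eq_one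
    have hum : ∀ a b : G, u g0 (a * b) = u g0 a * u g0 b := fun a b => by
      rw [← ConstGrp.pair_comul k G (u g0) a b, (hu g0).comul_eq_tmul_self, ConstGrp.pair_tmul]
    let χ : G →* k := { toFun := u g0, map_one' := hu1, map_mul' := hum }
    refine ⟨χ g0, ⟨?_, fun l hl => ?_⟩⟩
    · rw [← map_pow, hg0, ZMod.natCast_self]; exact hu1
    · have hpow : u g0 ^ l = 1 := by
        refine ConstGrp.ext fun h => ?_
        show _ = (1 : k)
        have : (u g0 ^ l) h = (χ h) ^ l := map_pow (ConstGrp.ev k h) (u g0) l
        rw [this, ← hgen h, map_pow, ← pow_mul, mul_comm, pow_mul, hl, one_pow]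
      have h2 := congrArg e hpow
      simp only [u, map_pow, BialgEquiv.apply_symm_apply, map_one] at h2
      rw [MonoidAlgebra.single_pow, one_pow, MonoidAlgebra.one_def] at h2
      have h3 : g0 ^ l = 1 := MonoidAlgebra.single_left_injective one_ne_zero h2
      rw [hg0] at h3
      exact (ZMod.natCast_eq_zero_iff l n).1 (Multiplicative.ofAdd.injective h3)
  · rintro ⟨ζ, hζ⟩
    have hw : ∀ a b : ZMod n, ζ ^ (a + b).val = ζ ^ a.val * ζ ^ b.val := fun a b => by
      rw [← pow_add, ZMod.val_add]
      exact (pow_eq_pow_mod (a.val + b.val) hζ.pow_eq_one).symm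
    let χ : G → G →* k := fun h =>
      { toFun := fun a => ζ ^ (Multiplicative.toAdd h * Multiplicative.toAdd a).val
        map_one' := show ζ ^ (Multiplicative.toAdd h * (0 : ZMod n)).val = 1 by simp
        map_mul' := fun a b => by
          show ζ ^ (Multiplicative.toAdd h * (Multiplicative.toAdd a + Multiplicative.toAdd b)).val = _
          rw [mul_add, hw] }
    let ι : G →* ConstGrp.F k G :=
      { toFun := fun h => fun a => χ h a
        map_one' := funext fun a => show ζ ^ ((0 : ZMod n) * Multiplicative.toAdd a).val = 1 by simp
        map_mul' := fun h h' => funext fun a => by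
          show ζ ^ ((Multiplicative.toAdd h + Multiplicative.toAdd h') * Multiplicative.toAdd a).val = _
          rw [add_mul, hw]
          rfl }
    let Φ : MonoidAlgebra k G →ₐ[k] ConstGrp.F k G := MonoidAlgebra.lift k (ConstGrp.F k G) G ι
    have hΦ : ∀ h, Φ (MonoidAlgebra.single h 1) = ι h := fun h => by simp [Φ]
    have hc : ∀ h, IsGroupLikeElem k (ι h) := fun h => by
      refine ⟨by rw [ConstGrp.counit_apply]; exact map_one (χ h), ?_⟩
      rw [ConstGrp.comul_eq_sum]
      conv_rhs => rw [ConstGrp.eq_sum_smul_e (ι h)]
      rw [TensorProduct.sum_tmul]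
      refine Finset.sum_congr rfl fun a _ => ?_
      rw [TensorProduct.tmul_sum]
      refine Finset.sum_congr rfl fun b _ => ?_
      rw [TensorProduct.smul_tmul_smul]
      congr 1
      exact map_mul (χ h) a b
    have hB1 : (Bialgebra.counitAlgHom k (ConstGrp.F k G)).comp Φ = Bialgebra.counitAlgHom k _ := by
      refine MonoidAlgebra.algHom_ext (fun h => ?_) (Subsingleton.elim _ _)
      rw [AlgHom.comp_apply, hΦ]
      show Coalgebra.counit (R := k) (ι h) = _
      rw [(hc h).counit_eq_one]
      simp
    have hB2 : (Algebra.TensorProduct.map Φ Φ).comp (Bialgebra.comulAlgHom k _) =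
        (Bialgebra.comulAlgHom k (ConstGrp.F k G)).comp Φ := by
      refine MonoidAlgebra.algHom_ext (fun h => ?_) (Subsingleton.elim _ _)
      rw [AlgHom.comp_apply, AlgHom.comp_apply, hΦ]
      show _ = Coalgebra.comul (R := k) (ι h)
      rw [(hc h).comul_eq_tmul_self, Bialgebra.comulAlgHom_apply,
        (MonoidAlgebra.isGroupLikeElem_single_one h).comul_eq_tmul_self, Algebra.TensorProduct.map_tmul, hΦ]
    have hinj : Function.Injective Φ := by
      have hli : LinearIndependent k (fun h : G => (χ h : G → k)) := by
        refine (linearIndependent_monoidHom G k).comp χ fun h h' hh => ?_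
        have := DFunLike.congr_fun hh g0
        simp only [χ, MonoidHom.coe_mk, OneHom.coe_mk] at this
        rw [show Multiplicative.toAdd g0 = (1 : ZMod n) from rfl, mul_one, mul_one] at this
        exact Multiplicative.toAdd.injective (ZMod.val_injective n
          (hζ.pow_inj (ZMod.val_lt _) (ZMod.val_lt _) this))
      rw [injective_iff_map_eq_zero]
      intro y hy
      have : y = ∑ h : G, y.coeff h • MonoidAlgebra.single h (1 : k) := by
        conv_lhs => rw [← MonoidAlgebra.sum_coeff_single y]
        rw [Finsupp.sum_fintype _ _ (by simp)]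
        simp [MonoidAlgebra.smul_single]
      rw [this, map_sum] at hy
      simp only [map_smul, hΦ] at hy
      have h0 := Fintype.linearIndependent_iff.1 hli (fun h => y.coeff h) (by
        funext a
        have := congrFun hy a
        simp only [ConstGrp.sum_apply, ConstGrp.smul_apply, ConstGrp.zero_apply] at this
        simp only [Finset.sum_apply, Pi.smul_apply, smul_eq_mul, Pi.zero_apply]
        exact this)
      rw [this]
      exact Finset.sum_eq_zero fun h _ => by rw [h0 h, zero_smul]
    have hsurj : Function.Surjective Φ := by
      have hd : Module.finrank k (MonoidAlgebra k G) = Module.finrank k (ConstGrp.F k G) := by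
        rw [Module.finrank_eq_card_basis (ConstGrp.basis k G),
          Module.finrank_eq_card_basis (MonoidAlgebra.basis G k)]
      exact (LinearMap.injective_iff_surjective_of_finrank_eq_finrank hd (f := Φ.toLinearMap)).1 hinj
    exact ⟨(BialgEquiv.ofBijective (BialgHom.ofAlgHom Φ hB1 hB2) ⟨hinj, hsurj⟩).symm⟩

end Groth.Agent.S18466
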