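import Groth.Statements.S18483
import Groth.Agent.Lib.WeilExt.Generic

set_option autoImplicit false
universe u
open CategoryTheory CategoryTheory.Limits AlgebraicGeometry MonObj
open Neron

namespace Groth.Agent.S18483

/-- Let R be a Dedekind domain with fraction field K and N a proper smooth group scheme over Spec R,
with no connectedness condition on its fibres. Then N is a Néron model of its generic fibre N_K: N
is smooth, separated and of finite type over Spec R, and for every smooth Spec R-scheme Y
restriction to generic fibres is a bijection from R-morphisms Y → N onto K-morphisms Y_K → N_K. (The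
source allows any connected Dedekind scheme as base; the affine case is stated.) -/
theorem result (R : Type u) [CommRing R] [IsDedekindDomain R]
    (N : Over (Spec (CommRingCat.of R))) [GrpObj N] [IsProper N.hom] [Smooth N.hom] :
    Neron.IsNeronModelOf R N ((Neron.genericFibre R).obj N) (Iso.refl _) := by
  refine ⟨inferInstance, inferInstance, inferInstance, inferInstance, fun Y hY => ?_⟩
  let : GrpObj (Over.mk N.hom) := inferInstanceAs (GrpObj N)
  simp only [Iso.refl_hom, Category.comp_id]
  have key := fun (k : (Neron.genericFibre R).obj Y ⟶ (Neron.genericFibre R).obj N) =>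
    Groth.Agent.Lib.WeilExt.Generic.existsUnique_of_genericFibre Y.hom N.hom
      (k.left ≫ pullback.fst N.hom (Neron.genPt R)) (by
        rw [Category.assoc, pullback.condition, ← Category.assoc]
        exact (congrArg (· ≫ Neron.genPt R) (Over.w k)).trans pullback.condition.symm)
  have hfst : ∀ g : Y ⟶ N, ((Neron.genericFibre R).map g).left ≫ pullback.fst N.hom (Neron.genPt R)
      = pullback.fst Y.hom (Neron.genPt R) ≫ g.left := fun g => pullback.lift_fst _ _ _
  refine ⟨fun g₁ g₂ hg => ?_, fun k => ?_⟩
  · apply Over.OverMorphism.ext
    refine (key ((Neron.genericFibre R).map g₁)).unique ⟨Over.w g₁, (hfst g₁).symm⟩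
      ⟨Over.w g₂, ?_⟩
    rw [show (Neron.genericFibre R).map g₁ = (Neron.genericFibre R).map g₂ from hg]
    exact (hfst g₂).symm
  · obtain ⟨g, ⟨hg, hgk⟩, -⟩ := key k
    refine ⟨Over.homMk g hg, ?_⟩
    apply Over.OverMorphism.ext
    apply pullback.hom_ext
    · exact (hfst (Over.homMk g hg)).trans hgk
    · exact (Over.w ((Neron.genericFibre R).map (Over.homMk g hg))).trans (Over.w k).symm

end Groth.Agent.S18483
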