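import Groth.Statements.S18484
import Groth.Agent.Lib.SchDense.Factor

set_option autoImplicit false
universe u
open CategoryTheory CategoryTheory.Limits AlgebraicGeometry MonObj
open Neron

namespace Groth.Agent.S18484

/-- Let R be a Dedekind domain with fraction field K, X a Spec R-scheme which is a Néron model of its
generic fibre X_K, and i : G → X a closed immersion with G smooth over Spec R. Then G is a Néron
model of its generic fibre G_K: smooth, separated, of finite type, and for every smooth Spec
R-scheme Y restriction to generic fibres is a bijection from R-morphisms Y → G onto K-morphisms Y_K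
→ G_K. (The source states this for a closed subgroup scheme of a Néron model; the group laws play no
part and are not assumed. The converse direction of the source, that a Néron model is a closed
subgroup of a Néron model, is immediate and not stated.) -/
theorem result (R : Type u) [CommRing R] [IsDedekindDomain R]
    (X G : Over (Spec (CommRingCat.of R))) (hX : Neron.IsNeronModelOf R X ((Neron.genericFibre R).obj X) (Iso.refl _))
    (i : G ⟶ X) [IsClosedImmersion i.left] [Smooth G.hom] :
    Neron.IsNeronModelOf R G ((Neron.genericFibre R).obj G) (Iso.refl _) := by
  obtain ⟨hs, hsep, hft, hqc, hb⟩ := hX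
  have := Groth.Agent.Lib.SchDense.Basic.std_genPt R
  have : IsSeparated G.hom := by rw [← Over.w i]; infer_instance
  have : QuasiCompact G.hom := by rw [← Over.w i]; infer_instance
  refine ⟨inferInstance, inferInstance, inferInstance, inferInstance, fun Y hY => ⟨?_, ?_⟩⟩
  · intro a b hab
    simp only [Iso.refl_hom, Category.comp_id] at hab
    exact Groth.Agent.Lib.SchDense.Basic.pullback_map_injective (Neron.genPt R) hab
  · intro φ
    obtain ⟨h, hh⟩ := (hb Y hY).2 (φ ≫ (Neron.genericFibre R).map i)
    simp only [Iso.refl_hom, Category.comp_id] at hh ⊢
    have hl : (φ.left ≫ pullback.fst G.hom (Neron.genPt R)) ≫ i.left =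
        pullback.fst Y.hom (Neron.genPt R) ≫ h.left := by
      have h1 := congrArg (fun m => CommaMorphism.left m ≫ pullback.fst X.hom (Neron.genPt R)) hh
      refine ((pullback.lift_fst _ _ _).symm.trans (h1.trans ?_)).symm
      erw [Category.assoc, pullback.lift_fst, Category.assoc]
    obtain ⟨h', hh'⟩ := Groth.Agent.Lib.SchDense.Factor.exists_factor i.left h.left
      (pullback.fst Y.hom (Neron.genPt R)) _ hl
    refine ⟨Over.homMk h' (by rw [← Over.w i, reassoc_of% hh', Over.w h]), ?_⟩
    have : Mono i.left := inferInstance
    ext1
    apply pullback.hom_ext
    · refine (pullback.lift_fst _ _ _).trans ?_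
      rw [← cancel_mono i.left]
      simp only [Over.homMk_left, Category.assoc, hh']
      rw [← hl, Category.assoc]
    · exact (pullback.lift_snd _ _ _).trans (Over.w φ).symm

end Groth.Agent.S18484
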