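import Groth.Statements.S18485
import Mathlib.AlgebraicGeometry.Morphisms.QuasiFinite
import Mathlib.RingTheory.QuasiFinite.Basic
import Mathlib.RingTheory.DedekindDomain.Dvr
import Mathlib.RingTheory.Flat.Basic

set_option autoImplicit false
universe u
open CategoryTheory CategoryTheory.Limits AlgebraicGeometry MonObj
open Neron

namespace Groth.Agent.S18485

/-- Over a Dedekind domain a nonzero finite family can be normalised at a prime. -/
theorem exists_normalized {R : Type u} [CommRing R] [IsDedekindDomain R] (P : Ideal R) [P.IsPrime]
    {n : ℕ} (r : Fin n → R) {i₀ : Fin n} (hri : r i₀ ≠ 0) :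
    ∃ (j : Fin n) (c : Fin n → R) (s : R), s ∉ P ∧
      r j ≠ 0 ∧ ∀ i, s * r i = c i * r j := by
  classical
  have : IsPrincipalIdealRing (Localization.AtPrime P) := by
    by_cases hP0 : P = ⊥
    · subst hP0
      have : IsFractionRing R (Localization.AtPrime (⊥ : Ideal R)) := by
        have he : (⊥ : Ideal R).primeCompl = nonZeroDivisors R := by
          ext x; simp [Ideal.primeCompl]
        unfold IsFractionRing
        rw [← he]; infer_instance
      let _ : Field (Localization.AtPrime (⊥ : Ideal R)) := IsFractionRing.toField R
      infer_instance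
    · exact (IsLocalization.AtPrime.isDiscreteValuationRing_of_dedekind_domain R hP0
        (Localization.AtPrime P)).toIsPrincipalIdealRing
  let ρ := algebraMap R (Localization.AtPrime P)
  have hinj : Function.Injective ρ :=
    IsLocalization.injective _ (Ideal.primeCompl_le_nonZeroDivisors P)
  obtain ⟨G, hG⟩ := (IsPrincipalIdealRing.principal (Ideal.span (Set.range fun i => ρ (r i)))).principal
  have hd : ∀ i, G ∣ ρ (r i) := fun i => Ideal.mem_span_singleton.mp (by
    show _ ∈ Submodule.span _ _
    rw [← hG]; exact Ideal.subset_span ⟨i, rfl⟩)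
  choose d hd using hd
  obtain ⟨e, he⟩ := Ideal.mem_span_range_iff_exists_fun.mp
    (show G ∈ Ideal.span (Set.range fun i => ρ (r i)) by
      rw [hG]; exact Submodule.mem_span_singleton_self G)
  have hG0 : G ≠ 0 := by
    intro h; apply hri; apply hinj; rw [map_zero, hd i₀, h, MulZeroClass.zero_mul]
  have hone : ∑ i, e i * d i = 1 := by
    have : IsDomain (Localization.AtPrime P) :=
      IsLocalization.isDomain_localization (Ideal.primeCompl_le_nonZeroDivisors P)
    apply mul_left_cancel₀ hG0
    rw [_root_.mul_one, Finset.mul_sum]
    conv_rhs => rw [← he]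
    exact Finset.sum_congr rfl fun i _ => by rw [hd i]; ring
  obtain ⟨j, hj⟩ : ∃ j, IsUnit (d j) := by
    by_contra h
    push Not at h
    have : (1 : Localization.AtPrime P) ∈ IsLocalRing.maximalIdeal _ :=
      hone ▸ Ideal.sum_mem _ fun i _ => Ideal.mul_mem_left _ _ (h i)
    exact (IsLocalRing.maximalIdeal.isMaximal _).ne_top ((Ideal.eq_top_iff_one _).mpr this)
  have hx : ∀ i, ρ (r i) = (d i * (↑hj.unit⁻¹ : Localization.AtPrime P)) * ρ (r j) := fun i => by
    rw [hd i, hd j, show d i * ↑hj.unit⁻¹ * (G * d j) = G * d i * (↑hj.unit⁻¹ * d j) by ring,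
      IsUnit.val_inv_mul, _root_.mul_one]
  obtain ⟨s, hs⟩ := IsLocalization.exist_integer_multiples_of_finite P.primeCompl
    (fun i => d i * (↑hj.unit⁻¹ : Localization.AtPrime P))
  choose c hc using hs
  replace hc : ∀ i, ρ (c i) = (s : R) • (d i * (↑hj.unit⁻¹ : Localization.AtPrime P)) := hc
  refine ⟨j, c, s, s.2, fun h => hri (hinj ?_), fun i => hinj ?_⟩
  · rw [hx i₀, h, map_zero, MulZeroClass.mul_zero]
  · rw [map_mul, map_mul, hc, Algebra.smul_def, hx i]; ring

open TensorProduct in
/-- A flat algebra over a Dedekind domain whose generic fibre is finite is quasi-finite. -/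
theorem quasiFinite_of_flat (R A : Type u) [CommRing R] [IsDedekindDomain R] [CommRing A]
    [Algebra R A] [Module.Flat R A] (K : Type u) [Field K] [Algebra R K] [IsFractionRing R K]
    [Module.Finite K (K ⊗[R] A)] : Algebra.QuasiFinite R A := by
  classical
  constructor
  intro P hP
  set n := Module.finrank K (K ⊗[R] A)
  have hdep : ∀ a : Fin (n + 1) → A,
      ¬ LinearIndependent P.ResidueField (fun i => (1 : P.ResidueField) ⊗ₜ[R] a i) := by
    intro a hli
    obtain ⟨g, hg, i₀, hgi⟩ := Fintype.not_linearIndependent_iff.mp
      (show ¬ LinearIndependent K (fun i => (1 : K) ⊗ₜ[R] a i) from fun h => by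
        have := h.fintype_card_le_finrank
        simp [n] at this)
    obtain ⟨b, hb⟩ := IsLocalization.exist_integer_multiples_of_finite (nonZeroDivisors R) g
    choose r hr using hb
    replace hr : ∀ i, algebraMap R K (r i) = (b : R) • g i := hr
    have hsum : ∑ i, r i • a i = 0 := by
      apply Algebra.TensorProduct.includeRight_injective (A := K) (R := R) (IsFractionRing.injective R K)
      simp only [map_zero, map_sum, map_smul, Algebra.TensorProduct.includeRight_apply]
      have h2 : ∀ i, r i • ((1 : K) ⊗ₜ[R] a i) = (b : R) • (g i • ((1 : K) ⊗ₜ[R] a i)) := fun i => by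
        rw [← algebraMap_smul K (r i), hr, smul_assoc]
      simp only [h2, ← Finset.smul_sum, hg, smul_zero]
    have hri : r i₀ ≠ 0 := by
      intro h
      have := hr i₀
      rw [h, map_zero, Algebra.smul_def] at this
      exact mul_ne_zero (IsFractionRing.to_map_ne_zero_of_mem_nonZeroDivisors b.2) hgi this.symm
    -- a valuation ring: some coefficient divides all the others
    obtain ⟨j, c, s, hs, hc⟩ := exists_normalized P r hri
    obtain ⟨hrj, hc⟩ := hc
    have hsum' : ∑ i, c i • a i = 0 := by
      have h1 : r j • ∑ i, c i • a i = 0 := by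
        rw [Finset.smul_sum]
        simp_rw [smul_smul, mul_comm (r j), ← hc, ← smul_smul, ← Finset.smul_sum, hsum, smul_zero]
      apply Algebra.TensorProduct.includeRight_injective (A := K) (R := R) (IsFractionRing.injective R K)
      have := congrArg (Algebra.TensorProduct.includeRight (R := R) (A := K) (B := A)) h1
      rw [map_smul, map_zero, ← algebraMap_smul K (r j)] at this
      rw [map_zero]
      exact (smul_eq_zero.mp this).resolve_left
        ((map_ne_zero_iff _ (IsFractionRing.injective R K)).mpr hrj)
    have hcj : algebraMap R P.ResidueField (c j) = 0 := by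
      refine Fintype.linearIndependent_iff.mp hli (fun i => algebraMap R P.ResidueField (c i)) ?_ j
      simp only [algebraMap_smul, ← TensorProduct.tmul_smul, ← TensorProduct.tmul_sum, hsum',
        TensorProduct.tmul_zero]
    have hcs : c j = s := by
      have := hc j
      exact (mul_right_cancel₀ hrj this).symm
    rw [hcs, Ideal.algebraMap_residueField_eq_zero] at hcj
    exact hs hcj
  have hspan : Submodule.span P.ResidueField (Set.range fun a : A => (1 : P.ResidueField) ⊗ₜ[R] a) = ⊤ := by
    rw [eq_top_iff]
    rintro x -
    induction x with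
    | zero => exact Submodule.zero_mem _
    | add x y hx hy => exact Submodule.add_mem _ hx hy
    | tmul c a =>
      rw [show c ⊗ₜ[R] a = c • ((1 : P.ResidueField) ⊗ₜ[R] a) by
        rw [TensorProduct.smul_tmul', smul_eq_mul, _root_.mul_one]]
      exact Submodule.smul_mem _ _ (Submodule.subset_span ⟨a, rfl⟩)
  obtain ⟨B, hB, hBspan, hBli⟩ := exists_linearIndependent P.ResidueField
    (Set.range fun a : A => (1 : P.ResidueField) ⊗ₜ[R] a)
  rw [hspan] at hBspan
  have hfin : B.Finite := by
    by_contra hinf
    let f : Fin (n + 1) ↪ B := (Fin.valEmbedding).trans (Set.Infinite.natEmbedding B hinf)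
    choose a ha using fun i => hB (f i).2
    apply hdep a
    have : (fun i => (1 : P.ResidueField) ⊗ₜ[R] a i) = Subtype.val ∘ f := funext ha
    rw [this]
    exact hBli.comp f f.injective
  exact ⟨Submodule.fg_def.mpr ⟨B, hfin, hBspan⟩⟩

open TensorProduct in
/-- The affine case. -/
theorem affine (R A : Type u) [CommRing R] [IsDedekindDomain R] [CommRing A] [Algebra R A]
    (hflat : Flat (Spec.map (CommRingCat.ofHom (algebraMap R A))))
    (hq : LocallyQuasiFinite (pullback.fst (Neron.genPt R)
      (Spec.map (CommRingCat.ofHom (algebraMap R A))))) :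
    LocallyQuasiFinite (Spec.map (CommRingCat.ofHom (algebraMap R A))) := by
  rw [HasRingHomProperty.Spec_iff (P := @Flat), CommRingCat.hom_ofHom,
    RingHom.flat_algebraMap_iff] at hflat
  have h3 : LocallyQuasiFinite (Spec.map (CommRingCat.ofHom
      (algebraMap (FractionRing R) (FractionRing R ⊗[R] A)))) := by
    rw [← pullbackSpecIso_inv_fst' R (FractionRing R) A]
    have := hq
    exact inferInstance
  rw [HasRingHomProperty.Spec_iff (P := @LocallyQuasiFinite), CommRingCat.hom_ofHom,
    RingHom.quasiFinite_algebraMap] at h3
  have : Module.Finite (FractionRing R) (FractionRing R ⊗[R] A) := Module.Finite.of_quasiFinite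
  rw [HasRingHomProperty.Spec_iff (P := @LocallyQuasiFinite), CommRingCat.hom_ofHom,
    RingHom.quasiFinite_algebraMap]
  exact quasiFinite_of_flat R A (FractionRing R)

/-- The statement on one affine chart. -/
theorem chart (R : Type u) [CommRing R] [IsDedekindDomain R] (H : Over (Spec (CommRingCat.of R)))
    [Flat H.hom] [LocallyQuasiFinite ((Neron.genericFibre R).obj H).hom]
    (A : CommRingCat.{u}) (j : Spec A ⟶ H.left) [IsOpenImmersion j] :
    LocallyQuasiFinite (j ≫ H.hom) := by
  obtain ⟨φ, hφ⟩ := Spec.map_surjective (j ≫ H.hom)
  have hflat : Flat (Spec.map φ) := by rw [hφ]; infer_instance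
  letI := φ.hom.toAlgebra
  have hq : LocallyQuasiFinite (pullback.snd (j ≫ H.hom) (Neron.genPt R)) := by
    rw [show pullback.snd (j ≫ H.hom) (Neron.genPt R) =
      (pullbackRightPullbackFstIso H.hom (Neron.genPt R) j).inv ≫
        pullback.snd _ _ ≫ pullback.snd H.hom (Neron.genPt R) by simp]
    have : LocallyQuasiFinite (pullback.snd H.hom (Neron.genPt R)) :=
      inferInstanceAs (LocallyQuasiFinite ((Neron.genericFibre R).obj H).hom)
    infer_instance
  rw [← hφ] at hq ⊢
  have hq' : LocallyQuasiFinite (pullback.fst (Neron.genPt R) (Spec.map φ)) := by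
    rw [← pullbackSymmetry_hom_comp_snd]; infer_instance
  exact affine R _ hflat hq'

/-- Let R be a Dedekind domain with fraction field K and H a Spec R-scheme which is flat and locally of
finite type over Spec R. If the generic fibre H_K is locally quasi-finite over K, then H is locally
quasi-finite over Spec R. (The published statement is about the schematic closure, in an S-group
algebraic space of finite type over a connected Dedekind scheme S, of a finite subgroup of the
generic fibre, which it asserts to be a quasi-finite S-group; this row is the statement about flat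
schemes locally of finite type over an affine Dedekind base on which that rests. Locally
quasi-finite is meant here without a finite type clause, which is assumed separately.) -/
theorem result (R : Type u) [CommRing R]
    [IsDedekindDomain R] (H : Over (Spec (CommRingCat.of R))) [Flat H.hom] [LocallyOfFiniteType H.hom]
    [LocallyQuasiFinite ((Neron.genericFibre R).obj H).hom] : LocallyQuasiFinite H.hom := by
  rw [HasRingHomProperty.iff_of_source_openCover (P := @LocallyQuasiFinite) H.left.affineCover]
  intro i
  rw [← HasRingHomProperty.iff_of_isAffine (P := @LocallyQuasiFinite)]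
  have : IsOpenImmersion (H.left.affineCover.f i) := H.left.affineCover.map_prop i
  exact @chart R _ _ H _ _ _ (H.left.affineCover.f i) this

end Groth.Agent.S18485
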