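import Groth.Statements.S18488
import Groth.Agent.Lib.TorsorSch.Classes
import Groth.Agent.Lib.TorsorSch.ExtProper

set_option autoImplicit false
universe u
open CategoryTheory CategoryTheory.Limits AlgebraicGeometry MonObj
open NonAbH1

namespace Groth.Agent.S18488

/-- Let R be a Dedekind domain with fraction field K and G a proper flat group scheme over Spec R. Then
restriction to the generic fibre, from the set of classes of G-torsors for the fppf topology (Spec
R-schemes with a G-action, pseudo-torsors trivialised on an fppf covering family, up to equivariant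
isomorphism) to the set of classes of G_K-torsors, is injective. (The source allows any connected
Dedekind scheme as base and all fppf torsors, which it shows to be schemes; the affine base and
torsors representable by schemes are stated.) -/
theorem result (R : Type u) [CommRing R] [IsDedekindDomain R]
    (G : Over (Spec (CommRingCat.of R))) [GrpObj G] [IsProper G.hom] [Flat G.hom] :
    Function.Injective (NonAbH1.H1Sch.bcMap (Neron.genPt R) G Scheme.fppfPrecoverage) := by
  intro c c' hcc
  obtain ⟨P, rfl⟩ := Quot.exists_rep c
  obtain ⟨P', rfl⟩ := Quot.exists_rep c'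
  obtain ⟨e⟩ := (Groth.Agent.Lib.TorsorSch.Classes.cl_eq_iff
    (P.bc (Neron.genPt R)) (P'.bc (Neron.genPt R))).mp hcc
  obtain ⟨h, hh⟩ := Groth.Agent.Lib.TorsorSch.Ext.exists_equivariantOver (Neron.genPt R) e
  obtain ⟨v⟩ := Groth.Agent.Lib.TorsorSch.ExtProper.exists_genOver_hom R
  have hK := Scheme.fppfPrecoverage_le_fpqcPrecoverage
  exact Quot.sound (Groth.Agent.Lib.TorsorSch.ExtProper.nonempty_equivIso
    (Groth.Agent.Lib.TorsorSch.Descent.isTorsorFor_mono hK P.isTorsor)
    (Groth.Agent.Lib.TorsorSch.Descent.isTorsorFor_mono hK P'.isTorsor) (hh.comp v))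

end Groth.Agent.S18488
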