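import Groth.Statements.S18493
import Groth.Agent.Lib.QFAffine.Basic
import Groth.Agent.Lib.Flat55.FlatEquidim
import Groth.Agent.Lib.Flat55.FibreDimVal
import Mathlib.AlgebraicGeometry.Artinian
import Mathlib.RingTheory.DedekindDomain.Basic

set_option autoImplicit false
universe u
open CategoryTheory CategoryTheory.Limits AlgebraicGeometry MonObj
open scoped CategoryTheory.Obj
open Neron
open CategoryTheory.MonoidalCategory CartesianMonoidalCategory

namespace Groth.Agent.S18493

/-- A flat scheme locally of finite type over a domain with quasi-finite generic fibre is quasi-finite. -/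
theorem lqf_of_generic {R : Type u} [CommRing R] [IsDomain R] {X : Scheme.{u}} (f : X ⟶ Spec (CommRingCat.of R))
    [Flat f] [LocallyOfFiniteType f] [LocallyQuasiFinite (pullback.snd f (Neron.genPt R))] : LocallyQuasiFinite f := by
  refine Lib.Flat55.FlatEquidim.locallyQuasiFinite_of_fibreDimAt_le_zero f fun x => ?_
  let z : ↥(Spec (CommRingCat.of (FractionRing R))) := IsLocalRing.closedPoint (FractionRing R)
  obtain ⟨x', -, hx', hd⟩ := Lib.Flat55.FibreDimVal.exists_specializes_fibreDimAt_le f x (Neron.genPt R z)
    ((PrimeSpectrum.le_iff_specializes _ _).1 (by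
      intro r hr
      have h : algebraMap R (FractionRing R) r ∈ IsLocalRing.maximalIdeal (FractionRing R) := hr
      rw [IsLocalRing.maximalIdeal_eq_bot, Ideal.mem_bot] at h
      rw [(IsFractionRing.injective R (FractionRing R)) (h.trans (map_zero _).symm)]
      exact Submodule.zero_mem _))
  obtain ⟨p, hp, -⟩ := Scheme.Pullback.exists_preimage_pullback (f := f) (g := Neron.genPt R) x' z hx'
  refine hd.trans ?_
  rw [← hp, ← Groth.Agent.H2.FibreDimPullback.fibreDimAt_of_isPullback (IsPullback.of_hasPullback f (Neron.genPt R)) p]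
  exact Lib.Flat55.FlatEquidim.fibreDimAt_le_zero _ p

/-- Let R be a Dedekind domain with fraction field K, let A and B be group schemes over Spec R which are
Néron models of their generic fibres, both abelian varieties over K (proper and geometrically
integral), let φ : A → B be a homomorphism whose generic fibre is an isogeny (surjective with finite
kernel), and let i : N → A be a kernel of φ (cartesian square against the unit section of B). If φ
is flat, then N → Spec R is locally quasi-finite, of finite type, flat and affine; if moreover A is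
proper over Spec R then N → Spec R is finite. -/
theorem result (R : Type u) [CommRing R]
    [IsDedekindDomain R] (A B : Over (Spec (CommRingCat.of R))) [GrpObj A] [GrpObj B]
    (hA : Neron.IsNeronModelOf R A ((Neron.genericFibre R).obj A) (Iso.refl _))
    (hB : Neron.IsNeronModelOf R B ((Neron.genericFibre R).obj B) (Iso.refl _))
    [IsProper ((Neron.genericFibre R).obj A).hom] [GeometricallyIntegral ((Neron.genericFibre R).obj A).hom]
    [IsProper ((Neron.genericFibre R).obj B).hom] [GeometricallyIntegral ((Neron.genericFibre R).obj B).hom]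
    (φ : A ⟶ B) [IsMonHom φ] (hφ : SGA7.IsIsogenyOver ((Neron.genericFibre R).map φ)) [Flat φ.left]
    (N : Over (Spec (CommRingCat.of R))) (i : N ⟶ A) (hN : AlgGrp.IsKernel i φ) :
    (LocallyQuasiFinite N.hom ∧ QuasiCompact N.hom ∧ Flat N.hom ∧ IsAffineHom N.hom) ∧
    (IsProper A.hom → IsFinite N.hom) := by
  obtain ⟨hAs, hAsep, hAlft, hAqc, -⟩ := hA
  obtain ⟨hBs, hBsep, hBlft, hBqc, -⟩ := hB
  have hker : IsPullback i.left (toUnit N).left φ.left η[B].left :=
    (hN.map (Over.forget _) :)
  have : IsClosedImmersion η[B].left := by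
    have : IsClosedImmersion (η[B].left ≫ B.hom) := by
      rw [Over.w η[B]]
      exact (inferInstanceAs (IsClosedImmersion (𝟙 (Spec (CommRingCat.of R)))))
    exact IsClosedImmersion.of_comp _ B.hom
  have hi : IsClosedImmersion i.left := MorphismProperty.of_isPullback hker.flip ‹IsClosedImmersion η[B].left›
  have hflat : Flat (toUnit N).left := MorphismProperty.of_isPullback hker ‹Flat φ.left›
  have eN : i.left ≫ A.hom = N.hom := Over.w i
  have : Flat N.hom := by
    rw [← Over.w (toUnit N)]
    exact MorphismProperty.comp_mem _ _ _ hflat (inferInstanceAs (Flat (𝟙 _)))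
  have : LocallyOfFiniteType N.hom := by rw [← eN]; infer_instance
  have : QuasiCompact N.hom := by rw [← eN]; infer_instance
  have : IsSeparated N.hom := by rw [← eN]; infer_instance
  have hgen : IsFinite ((Neron.genericFibre R).obj N).hom := by
    refine hφ.2 _ ((Neron.genericFibre R).map i) ?_
    have h := hN.map (Neron.genericFibre R)
    refine h.of_iso (Iso.refl _) (Iso.refl _) ?e (Iso.refl _) ?_ ?_ ?_ ?_
    case e => exact (Functor.Monoidal.εIso (Neron.genericFibre R)).symm
    · simp
    · exact (CartesianMonoidalCategory.toUnit_unique _ _)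
    · simp
    · rw [Iso.symm_hom, Iso.refl_hom, Category.comp_id, Functor.Monoidal.εIso_inv]
      have e₁ : η[(Neron.genericFibre R).obj B] = Functor.LaxMonoidal.ε (Neron.genericFibre R) ≫ (Neron.genericFibre R).map η[B] :=
        Functor.obj.η_def (F := Neron.genericFibre R) (X := B)
      rw [e₁, Functor.Monoidal.η_ε_assoc]
  have : LocallyQuasiFinite (pullback.snd N.hom (Neron.genPt R)) :=
    (inferInstanceAs (LocallyQuasiFinite ((Neron.genericFibre R).obj N).hom))
  have : LocallyQuasiFinite N.hom := lqf_of_generic N.hom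
  have : IsLocallyNoetherian (Spec (CommRingCat.of R)) := inferInstance
  have hdim : topologicalKrullDim ↥(Spec (CommRingCat.of R)) ≤ 1 := by
    show topologicalKrullDim (PrimeSpectrum R) ≤ 1
    rw [PrimeSpectrum.topologicalKrullDim_eq_ringKrullDim]
    exact (inferInstance : Ring.KrullDimLE 1 R).krullDim_le
  have haff : IsAffineHom N.hom := by
    refine Lib.QFAffine.isAffineHom hdim N.hom (𝟙 _) fun s => ?_
    set fs := (Spec (CommRingCat.of R)).fromSpecResidueField s
    have sq : IsPullback (pullback.map (N.hom ≫ 𝟙 _) fs (𝟙 _) fs N.hom (𝟙 _) (𝟙 _) (by simp) (by simp))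
        (pullback.fst (N.hom ≫ 𝟙 _) fs) (pullback.fst (𝟙 _) fs) N.hom := by
      refine IsPullback.flip ?_
      refine ((IsPullback.paste_horiz_iff (IsPullback.of_hasPullback (𝟙 _) fs).flip (pullback.lift_fst _ _ _)).1 ?_).flip
      rw [show pullback.map (N.hom ≫ 𝟙 _) fs (𝟙 _) fs N.hom (𝟙 _) (𝟙 _) (by simp) (by simp) ≫ pullback.snd (𝟙 _) fs =
        pullback.snd (N.hom ≫ 𝟙 _) fs from (pullback.lift_snd _ _ _).trans (Category.comp_id _)]
      exact (IsPullback.of_hasPullback _ fs).flip
    have h₁ : LocallyQuasiFinite (pullback.map (N.hom ≫ 𝟙 _) fs (𝟙 _) fs N.hom (𝟙 _) (𝟙 _) (by simp) (by simp)) :=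
      MorphismProperty.of_isPullback sq.flip ‹LocallyQuasiFinite N.hom›
    have h₂ : QuasiCompact (pullback.map (N.hom ≫ 𝟙 _) fs (𝟙 _) fs N.hom (𝟙 _) (𝟙 _) (by simp) (by simp)) :=
      MorphismProperty.of_isPullback sq.flip ‹QuasiCompact N.hom›
    have : IsIso (pullback.snd (𝟙 (Spec (CommRingCat.of R))) fs) := pullback_snd_iso_of_left_iso _ _
    have : IsLocallyArtinian (pullback (𝟙 (Spec (CommRingCat.of R))) fs) :=
      .of_locallyQuasiFinite (pullback.snd (𝟙 (Spec (CommRingCat.of R))) fs)
    have := IsFinite.of_locallyQuasiFinite (pullback.map (N.hom ≫ 𝟙 _) fs (𝟙 _) fs N.hom (𝟙 _) (𝟙 _) _ _)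
    infer_instance
  refine ⟨⟨inferInstance, inferInstance, inferInstance, haff⟩, fun hP => ?_⟩
  have : IsProper N.hom := by rw [← eN]; infer_instance
  exact IsFinite.of_isProper_of_locallyQuasiFinite N.hom

end Groth.Agent.S18493
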