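import Groth.Statements.S18489
import Groth.Agent.Lib.NeronIsog.Basic
import Groth.Agent.Lib.Flat55.CurveNormalizationBC
import Groth.Agent.S18493

set_option autoImplicit false
universe u
open CategoryTheory CategoryTheory.Limits AlgebraicGeometry MonObj
open Neron
open CategoryTheory.MonoidalCategory CartesianMonoidalCategory
open scoped CategoryTheory.Obj

namespace Groth.Agent.S18489

theorem fibreDimAt_fst {S : Scheme.{u}} (A : Over S) [GrpObj A] [LocallyOfFiniteType A.hom]
    {k : Type u} [Field k] (r : Spec (CommRingCat.of k) ⟶ S) (p : ↥((Over.pullback r).obj A).left) :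
    FlatMor.fibreDimAt A.hom (pullback.fst A.hom r p) = topologicalKrullDim ↥((Over.pullback r).obj A).left := by
  have : LocallyOfFiniteType ((Over.pullback r).obj A).hom :=
    MorphismProperty.pullback_snd (P := @LocallyOfFiniteType) _ _ ‹_›
  rw [← H2.FibreDimPullback.fibreDimAt_of_isPullback (IsPullback.of_hasPullback A.hom r) p]
  show FlatMor.fibreDimAt ((Over.pullback r).obj A).hom p = _
  rw [Lib.FibreDim.Basic.fibreDimAt_eq, ← Lib.ActSep.localDim_eq_topologicalKrullDim ((Over.pullback r).obj A) p]
  have hu : (((Over.pullback r).obj A).hom.base ⁻¹' {((Over.pullback r).obj A).hom.base p} : Set ((Over.pullback r).obj A).left) = Set.univ :=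
    Set.eq_univ_of_forall fun w => Subsingleton.elim (α := PrimeSpectrum k) _ _
  exact (Lib.FibreDim.Basic.localDim_eq_of_homeomorph ((Homeomorph.setCongr hu).trans (Homeomorph.Set.univ _)) ⟨p, rfl⟩).symm

/-- The fibres of a flat group scheme of finite type over a Dedekind base have the dimension of the generic one. -/
theorem dim_fibre {R : Type u} [CommRing R] [IsDomain R] (A : Over (Spec (CommRingCat.of R))) [GrpObj A]
    [LocallyOfFiniteType A.hom] [Flat A.hom] {k : Type u} [Field k] (r : Spec (CommRingCat.of k) ⟶ Spec (CommRingCat.of R)) :
    topologicalKrullDim ↥((Over.pullback r).obj A).left = topologicalKrullDim ↥((Neron.genericFibre R).obj A).left := by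
  let p : ↥((Over.pullback r).obj A).left := (η[(Over.pullback r).obj A]).left (IsLocalRing.closedPoint k)
  let x := pullback.fst A.hom r p
  rw [← fibreDimAt_fst A r p]
  let z : ↥(Spec (CommRingCat.of (FractionRing R))) := IsLocalRing.closedPoint (FractionRing R)
  have hgen : Neron.genPt R z ⤳ A.hom x := (PrimeSpectrum.le_iff_specializes _ _).1 (by
      intro a ha
      have h : algebraMap R (FractionRing R) a ∈ IsLocalRing.maximalIdeal (FractionRing R) := ha
      rw [IsLocalRing.maximalIdeal_eq_bot, Ideal.mem_bot] at h
      rw [(IsFractionRing.injective R (FractionRing R)) (h.trans (map_zero _).symm)]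
      exact Submodule.zero_mem _)
  obtain ⟨x', hs, hx', hd⟩ := Lib.Flat55.FibreDimVal.exists_specializes_fibreDimAt_le A.hom x (Neron.genPt R z) hgen
  obtain ⟨q, hq, -⟩ := Scheme.Pullback.exists_preimage_pullback (f := A.hom) (g := Neron.genPt R) x' z hx'
  have hle := hs.mem_open (Lib.FibreDim.Semicont.isOpen_setOf_fibreDimAt_le A.hom (FlatMor.fibreDimAt A.hom x))
    (le_refl (FlatMor.fibreDimAt A.hom x))
  rw [← fibreDimAt_fst A (Neron.genPt R) q, hq]
  exact le_antisymm hd hle

/-- Let R be a Dedekind domain with fraction field K, let A and B be group schemes over Spec R which are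
Néron models of their generic fibres A_K and B_K, both abelian varieties over K (proper and
geometrically integral), and let φ : A → B be a homomorphism of group schemes over Spec R whose
generic fibre φ_K is an isogeny (surjective with finite kernel). Then φ is locally quasi-finite (its
fibres are finite; it is of finite type in any case) if and only if φ is flat. (A third equivalent
condition, surjectivity of φ on the identity components of the fibres, is not part of this
statement. The published lemma is over any connected Dedekind scheme; the affine base is stated.) -/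
theorem result (R : Type u) [CommRing R]
    [IsDedekindDomain R] (A B : Over (Spec (CommRingCat.of R))) [GrpObj A] [GrpObj B]
    (hA : Neron.IsNeronModelOf R A ((Neron.genericFibre R).obj A) (Iso.refl _))
    (hB : Neron.IsNeronModelOf R B ((Neron.genericFibre R).obj B) (Iso.refl _))
    [IsProper ((Neron.genericFibre R).obj A).hom] [GeometricallyIntegral ((Neron.genericFibre R).obj A).hom]
    [IsProper ((Neron.genericFibre R).obj B).hom] [GeometricallyIntegral ((Neron.genericFibre R).obj B).hom]
    (φ : A ⟶ B) [IsMonHom φ] (hφ : SGA7.IsIsogenyOver ((Neron.genericFibre R).map φ)) :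
    LocallyQuasiFinite φ.left ↔ Flat φ.left := by
  obtain ⟨hAs, hAsep, hAlft, hAqc, -⟩ := hA
  obtain ⟨hBs, hBsep, hBlft, hBqc, -⟩ := hB
  have hkerlqf : LocallyQuasiFinite
      (pullback.snd φ.left η[B].left) → LocallyQuasiFinite φ.left := fun _ => Lib.NeronIsog.lqf_of_ker φ
  -- the kernel
  let N : Over (Spec (CommRingCat.of R)) := pullback φ η[B]
  have hN : AlgGrp.IsKernel (pullback.fst φ η[B]) φ := by
    have h := IsPullback.of_hasPullback φ η[B]
    rwa [toUnit_unique (pullback.snd φ η[B]) (toUnit N)] at h
  have : IsFinite ((Neron.genericFibre R).obj N).hom := by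
    refine hφ.2 _ ((Neron.genericFibre R).map (pullback.fst φ η[B])) ?_
    refine (hN.map (Neron.genericFibre R)).of_iso (Iso.refl _) (Iso.refl _) ?e (Iso.refl _) ?_ ?_ ?_ ?_
    case e => exact (Functor.Monoidal.εIso (Neron.genericFibre R)).symm
    · simp
    · exact (CartesianMonoidalCategory.toUnit_unique _ _)
    · simp
    · rw [Iso.symm_hom, Iso.refl_hom, Category.comp_id, Functor.Monoidal.εIso_inv]
      have e₁ : η[(Neron.genericFibre R).obj B] = Functor.LaxMonoidal.ε (Neron.genericFibre R) ≫ (Neron.genericFibre R).map η[B] :=
        Functor.obj.η_def (F := Neron.genericFibre R) (X := B)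
      rw [e₁, Functor.Monoidal.η_ε_assoc]
  have hAK : LocallyOfFiniteType ((Neron.genericFibre R).obj A).hom :=
    MorphismProperty.pullback_snd (P := @LocallyOfFiniteType) _ _ hAlft
  have hBK : LocallyOfFiniteType ((Neron.genericFibre R).obj B).hom :=
    MorphismProperty.pullback_snd (P := @LocallyOfFiniteType) _ _ hBlft
  constructor
  · intro hq
    have : LocallyQuasiFinite ((Neron.genericFibre R).map φ).left :=
      Lib.GrpSch.bc_map_left_of (P := @LocallyQuasiFinite) (Neron.genPt R) φ hq
    have : Surjective ((Neron.genericFibre R).map φ).left := hφ.1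
    have hdim := Lib.NeronIsog.dim_eq_of_surjective ((Neron.genericFibre R).map φ)
    refine Lib.ActSep.flat_of_map φ fun s => ?_
    let r := (Spec (CommRingCat.of R)).fromSpecResidueField s
    have : LocallyQuasiFinite ((Over.pullback r).map φ).left :=
      Lib.GrpSch.bc_map_left_of (P := @LocallyQuasiFinite) r φ hq
    have : LocallyOfFiniteType ((Over.pullback r).obj A).hom :=
      MorphismProperty.pullback_snd (P := @LocallyOfFiniteType) _ _ hAlft
    have : LocallyOfFiniteType ((Over.pullback r).obj B).hom :=
      MorphismProperty.pullback_snd (P := @LocallyOfFiniteType) _ _ hBlft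
    have : Smooth ((Over.pullback r).obj B).hom :=
      MorphismProperty.pullback_snd (P := @Smooth) _ _ hBs
    have : IsReduced ((Over.pullback r).obj B).left :=
      Lib.Flat55.CurveNormalizationBC.isReduced_of_smooth (k := (Spec (CommRingCat.of R)).residueField s)
        ((Over.pullback r).obj B).hom
    refine Lib.NeronIsog.flat_of_dim_eq (k := (Spec (CommRingCat.of R)).residueField s) ((Over.pullback r).map φ) ?_
    exact (dim_fibre (k := (Spec (CommRingCat.of R)).residueField s) A r).trans
      (hdim.trans (dim_fibre (k := (Spec (CommRingCat.of R)).residueField s) B r).symm)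
  · intro hf
    refine hkerlqf ?_
    have h := (IsPullback.of_hasPullback φ η[B]).map (Over.forget _)
    have hNeq : N.hom = h.isoPullback.hom ≫ pullback.snd φ.left η[B].left := by
      exact ((h.isoPullback_hom_snd).trans ((Category.comp_id _).symm.trans (Over.w (pullback.snd φ η[B])))).symm
    have : Flat N.hom := by
      rw [hNeq]
      exact (MorphismProperty.cancel_left_of_respectsIso @Flat h.isoPullback.hom _).2
        (MorphismProperty.pullback_snd (P := @Flat) φ.left η[B].left hf)
    have : LocallyOfFiniteType N.hom := by
      rw [hNeq]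
      have : LocallyOfFiniteType (φ.left ≫ B.hom) := by rw [Over.w φ]; infer_instance
      have hl : LocallyOfFiniteType φ.left := locallyOfFiniteType_of_comp φ.left B.hom
      exact (MorphismProperty.cancel_left_of_respectsIso @LocallyOfFiniteType h.isoPullback.hom _).2
        (MorphismProperty.pullback_snd (P := @LocallyOfFiniteType) φ.left η[B].left hl)
    have : LocallyQuasiFinite (pullback.snd N.hom (Neron.genPt R)) :=
      inferInstanceAs (LocallyQuasiFinite ((Neron.genericFibre R).obj N).hom)
    have : LocallyQuasiFinite N.hom := S18493.lqf_of_generic N.hom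
    rw [hNeq] at this
    exact (MorphismProperty.cancel_left_of_respectsIso @LocallyQuasiFinite h.isoPullback.hom _).1 this

end Groth.Agent.S18489
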