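import Groth.Statements.S18490
import Mathlib.AlgebraicGeometry.Morphisms.Flat

set_option autoImplicit false
universe u
open CategoryTheory CategoryTheory.Limits AlgebraicGeometry
open FlatMor

namespace Groth.Agent.S18490

/-- Let f : X → S and g : Y → S be morphisms of schemes and suppose that g has a section y : S → Y. If
the structure morphism X ×_S Y → S (first projection followed by f) is quasi-compact, then so is f;
likewise for locally of finite type, for separated, and for flat. (Finite type, also listed in the
source, is the conjunction of the first two.) -/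
theorem result {X Y S : Scheme.{u}} (f : X ⟶ S) (g : Y ⟶ S)
    (y : S ⟶ Y) (hy : y ≫ g = 𝟙 S) :
    (QuasiCompact (pullback.fst f g ≫ f) → QuasiCompact f) ∧
    (LocallyOfFiniteType (pullback.fst f g ≫ f) → LocallyOfFiniteType f) ∧
    (IsSeparated (pullback.fst f g ≫ f) → IsSeparated f) ∧
    (Flat (pullback.fst f g ≫ f) → Flat f) := by
  let s : X ⟶ pullback f g := pullback.lift (𝟙 X) (f ≫ y) (by simp [hy])
  have hs : s ≫ pullback.fst f g = 𝟙 X := pullback.lift_fst ..
  have hsplit : SplitMono s := ⟨pullback.fst f g, hs⟩
  have : Mono s := SplitMono.mono hsplit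
  have hf : f = s ≫ (pullback.fst f g ≫ f) := by rw [reassoc_of% hs]
  refine ⟨?_, ?_, ?_, ?_⟩
  · intro h
    refine ⟨fun U hU hc ↦ ?_⟩
    have hc' := QuasiCompact.isCompact_preimage (f := pullback.fst f g ≫ f) U hU hc
    have : f ⁻¹' U = pullback.fst f g '' ((pullback.fst f g ≫ f) ⁻¹' U) := by
      ext x
      constructor
      · intro hx
        refine ⟨s x, ?_, by rw [← Scheme.Hom.comp_apply, hs]; rfl⟩
        change (pullback.fst f g ≫ f) (s x) ∈ U
        rw [← Scheme.Hom.comp_apply]
        have e := congr($hf x)
        exact e ▸ hx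
      · rintro ⟨z, hz, rfl⟩
        exact hz
    rw [this]
    exact hc'.image (Scheme.Hom.continuous _)
  · intro h
    have : LocallyOfFiniteType (s ≫ pullback.fst f g) := by rw [hs]; infer_instance
    have := locallyOfFiniteType_of_comp s (pullback.fst f g)
    rw [hf]; infer_instance
  · intro h
    rw [hf]; infer_instance
  · intro h
    refine Flat.of_stalkMap f fun x ↦ ?_
    have hP := Flat.stalkMap (pullback.fst f g ≫ f) (s x)
    have hx : pullback.fst f g (s x) = x := by rw [← Scheme.Hom.comp_apply, hs]; rfl
    have key : (f.stalkMap (pullback.fst f g (s x))).hom.Flat := by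
      rw [Scheme.Hom.stalkMap_comp] at hP
      replace hP : RingHom.Flat (((pullback.fst f g).stalkMap (s x)).hom.comp (f.stalkMap (pullback.fst f g (s x))).hom) := hP
      revert hP
      generalize hα : (f.stalkMap (pullback.fst f g (s x))).hom = α
      generalize hβ : ((pullback.fst f g).stalkMap (s x)).hom = β
      intro hP
      obtain ⟨r, hr⟩ : ∃ r : _ →+* X.presheaf.stalk (pullback.fst f g (s x)), r.comp β = RingHom.id _ := by
        refine ⟨(s.stalkMap x ≫ X.presheaf.stalkSpecializes (specializes_of_eq hx)).hom, ?_⟩
        have h2 := Scheme.Hom.stalkMap_congr_hom (s ≫ pullback.fst f g) (𝟙 X) hs x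
        rw [Scheme.Hom.stalkMap_comp] at h2
        rw [← hβ, ← CommRingCat.hom_comp, ← CommRingCat.hom_id, ← Category.assoc, h2]
        simp [← CommRingCat.hom_comp, TopCat.Presheaf.stalkCongr]
      algebraize [α, β, β.comp α]
      refine Module.Flat.of_retract ((IsScalarTower.toAlgHom _ _ _).toLinearMap)
        ({ r.toAddMonoidHom with map_smul' := ?_ }) ?_
      · intro a z
        change r (β (α a) * z) = α a * r z
        rw [map_mul]
        exact congr_arg (· * r z) (RingHom.congr_fun hr (α a))
      · ext z
        exact RingHom.congr_fun hr z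
    exact hx ▸ key

end Groth.Agent.S18490
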