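import Groth.Statements.S18491
import Groth.Agent.Lib.HopfTraceForm
import Groth.Agent.Lib.GrpSch.UnramifiedFibre
import Mathlib

set_option autoImplicit false
universe u
open CategoryTheory CategoryTheory.Limits AlgebraicGeometry MonObj
open GrpSch

namespace Groth.Agent.S18491
open scoped CategoryTheory.Obj in
theorem etale_over_field {R : CommRingCat.{u}}
    (hlib : ∀ (A : Type u) [CommRing A] [HopfAlgebra R A] [Module.Finite R A] [Module.Free R A],
      (Module.finrank R A : R) ≠ 0 → Algebra.Etale R A)
    (hfree : ∀ (A : Type u) [CommRing A] [Algebra R A], Module.Free R A) (t : Spec R) [Nontrivial R]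
    (H : Over (Spec R)) [GrpObj H]
    [IsFinite H.hom] [Flat H.hom] (hn : (Scheme.Hom.finrank H.hom t : R) ≠ 0) : Etale H.hom := by
  have : IsAffine H.left := isAffine_of_isAffineHom H.hom
  let _ : H.left.Over (Spec R) := ⟨H.hom⟩
  let _ : GrpObj (H.left.asOver (Spec R)) := ‹GrpObj H›
  let φ : R ⟶ Γ(H.left, ⊤) := CommRingCat.ofHom (algebraMap R Γ(H.left, ⊤))
  have hH : H.left.isoSpec.hom ≫ Spec.map φ = H.hom :=
    comp_over H.left.isoSpec.hom (Spec R)
  have hφ : Spec.map φ = H.left.isoSpec.inv ≫ H.hom := by rw [← hH, Iso.inv_hom_id_assoc]
  have hfin' : IsFinite (Spec.map φ) := by rw [hφ]; infer_instance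
  have : Flat (Spec.map φ) := by rw [hφ]; infer_instance
  have hfin : RingHom.Finite (algebraMap R Γ(H.left, ⊤)) := (IsFinite.SpecMap_iff φ).1 hfin'
  have : Module.Finite R Γ(H.left, ⊤) := RingHom.finite_algebraMap.1 hfin
  have : Module.Free R Γ(H.left, ⊤) := hfree _
  have hrank : (Module.finrank R Γ(H.left, ⊤) : R) ≠ 0 := by
    rw [← hH, Scheme.Hom.finrank_comp_left_of_isIso] at hn
    have h2 := Scheme.Hom.finrank_SpecMap_algebraMap R Γ(H.left, ⊤) t
    rw [Module.rankAtStalk_eq_finrank_of_free] at h2
    intro h
    exact hn ((congrArg Nat.cast h2).trans h)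
  have : Algebra.Etale R Γ(H.left, ⊤) :=
    @hlib Γ(H.left, ⊤) _ _ (RingHom.finite_algebraMap.1 hfin) (hfree _) hrank
  have he : Etale (Spec.map φ) :=
    (HasRingHomProperty.Spec_iff (P := @Etale)).2 (RingHom.etale_algebraMap.2 this)
  rw [← hH]
  infer_instance


/-- Let S be a scheme and G an S-group scheme whose structure morphism is locally quasi-finite, of
finite type, flat and locally of finite presentation (a quasi-finite fppf group scheme). Suppose
that for every point s of S the fibre G_s, a finite group scheme over the residue field k(s), has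
order non-zero in k(s): the rank of G_s → Spec k(s) at the point of Spec k(s) is not divisible by
the characteristic. Then G → S is étale. -/
theorem result {S : Scheme.{u}} (G : Over S) [GrpObj G]
    [LocallyQuasiFinite G.hom] [QuasiCompact G.hom] [Flat G.hom] [LocallyOfFinitePresentation G.hom]
    (h : ∀ (s : S) (x : ↥(Spec (S.residueField s))),
      ((pullback.snd G.hom (S.fromSpecResidueField s)).finrank x : S.residueField s) ≠ 0) :
    Etale G.hom := by
  open scoped CategoryTheory.Obj in
  haveI hfu : FormallyUnramified G.hom := by
    refine Lib.GrpSch.formallyUnramified_of_field_points G.hom fun K _ y => ?_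
    set s := y (IsLocalRing.closedPoint K) with hs
    let js := S.fromSpecResidueField s
    let y' : Spec (CommRingCat.of K) ⟶ Spec (S.residueField s) :=
      Spec.map (S.descResidueField (Scheme.stalkClosedPointTo y))
    have hy : y' ≫ js = y := S.descResidueField_stalkClosedPointTo_fromSpecResidueField K y
    haveI : IsFinite ((Over.pullback js).obj G).hom := by
      show IsFinite (pullback.snd G.hom js)
      exact IsFinite.of_locallyQuasiFinite _
    haveI : Flat ((Over.pullback js).obj G).hom := inferInstanceAs (Flat (pullback.snd G.hom js))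
    haveI het : Etale ((Over.pullback js).obj G).hom :=
      etale_over_field (R := S.residueField s)
        (fun A _ _ _ _ => Lib.HopfTraceForm.etale_of_finrank_ne_zero (S.residueField s) A)
        (fun A _ _ => Module.Free.of_divisionRing _ A) (IsLocalRing.closedPoint (S.residueField s))
        ((Over.pullback js).obj G) (h s _)
    haveI : Etale (pullback.snd G.hom js) := het
    have hp := IsPullback.of_hasPullback (pullback.snd G.hom js) y'
    have hP : IsPullback (pullback.fst (pullback.snd G.hom js) y' ≫ pullback.fst G.hom js)
        (pullback.snd (pullback.snd G.hom js) y') G.hom (y' ≫ js) :=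
      hp.paste_horiz (IsPullback.of_hasPullback G.hom js)
    rw [hy] at hP
    have he := hP.isoPullback_inv_snd
    haveI : Etale (pullback.snd G.hom y) := by rw [← he]; infer_instance
    infer_instance
  exact Etale.of_formallyUnramified_of_flat G.hom

end Groth.Agent.S18491
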