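import Groth.Statements.S18497
import Groth.Agent.Lib.NeronEtale.Closure
import Groth.Agent.Lib.NeronEtale.Model
import Groth.Agent.H4.NPowEtale

set_option autoImplicit false
universe u
open CategoryTheory CategoryTheory.Limits AlgebraicGeometry MonObj
open Neron

namespace Groth.Agent.S18497

/-- Let R be a Dedekind domain with fraction field K and G a finite étale group scheme over K. Then G
has a Néron model over Spec R which is separated, quasi-finite and étale: there are a Spec R-scheme
N and an isomorphism e of its generic fibre N_K with G such that N is smooth, separated and of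
finite type over Spec R with the Néron mapping property (for every smooth Spec R-scheme Y, g ↦ e ∘
g_K is a bijection from R-morphisms Y → N onto K-morphisms Y_K → G), and N → Spec R is étale and
locally quasi-finite. -/
theorem result (R : Type u) [CommRing R] [IsDedekindDomain R]
    (G : Over (Spec (CommRingCat.of (FractionRing R)))) [GrpObj G] [IsFinite G.hom] [Etale G.hom] :
    ∃ (N : Over (Spec (CommRingCat.of R))) (e : (Neron.genericFibre R).obj N ≅ G),
      Neron.IsNeronModelOf R N G e ∧ Etale N.hom ∧ LocallyQuasiFinite N.hom := by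
  classical
  let K := FractionRing R
  have : IsAffine G.left := isAffine_of_isAffineHom G.hom
  let φ : CommRingCat.of K ⟶ Γ(G.left, ⊤) := Spec.preimage (G.left.isoSpec.inv ≫ G.hom)
  have hφ : Spec.map φ = G.left.isoSpec.inv ≫ G.hom := Spec.map_preimage _
  let A : Type u := Γ(G.left, ⊤)
  let : Algebra K A := φ.hom.toAlgebra
  let : Algebra R A := (φ.hom.comp (algebraMap R K)).toAlgebra
  have : IsScalarTower R K A := .of_algebraMap_eq fun _ => rfl
  have : Algebra.Etale K A := RingHom.etale_algebraMap.mp
    ((HasRingHomProperty.Spec_iff (P := @Etale)).mp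
      (hφ ▸ inferInstanceAs (Etale (G.left.isoSpec.inv ≫ G.hom))))
  let C := integralClosure R A
  have : Module.Finite R C := Lib.NeronEtale.Closure.finite R K A
  have : Module.Flat R C := Lib.NeronEtale.Closure.flat R K A
  have : Algebra.FinitePresentation R C :=
    Algebra.FinitePresentation.of_finiteType.mp inferInstance
  have : IsLocalization (Algebra.algebraMapSubmonoid C (nonZeroDivisors R)) A :=
    Lib.NeronEtale.Closure.isLocalization R K A
  obtain ⟨N, inc, hpb, het, hsep, hqc, hmap⟩ := Lib.NeronEtale.Model.exists_model (R := R) K C A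
    (fun q _ h => Lib.NeronEtale.Closure.isDiscreteValuationRing R K A q h)
    (fun q _ h => Lib.NeronEtale.Closure.isEtaleAt_generic R K A q h)
  let e : (Neron.genericFibre R).obj N ≅ G :=
    Over.isoMk (hpb.isoPullback.symm ≪≫ G.left.isoSpec.symm) (by
      show (hpb.isoPullback.inv ≫ G.left.isoSpec.inv) ≫ G.hom = pullback.snd _ _
      rw [Category.assoc, ← hφ, Iso.inv_comp_eq, IsPullback.isoPullback_hom_snd]
      rfl)
  have := het
  refine ⟨N, e, ⟨inferInstance, hsep, inferInstance, hqc, fun Y hY => ⟨fun g₁ g₂ h => ?_, fun h => ?_⟩⟩,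
    het, Groth.Agent.H4.NPowEtale.locallyQuasiFinite_of_formallyUnramified N.hom⟩
  · have h' : (Neron.genericFibre R).map g₁ = (Neron.genericFibre R).map g₂ := (cancel_mono e.hom).mp h
    have hv : (pullback.fst Y.hom (Neron.genPt R) ≫ g₁.left) ≫ N.hom = pullback.fst _ _ ≫ Y.hom := by
      rw [Category.assoc, Over.w g₁]
    refine Over.OverMorphism.ext ((hmap Y.left Y.hom _ hv).unique ⟨Over.w g₁, rfl⟩ ⟨Over.w g₂, ?_⟩)
    have := congrArg (fun k => k.left ≫ pullback.fst N.hom (Neron.genPt R)) h'
    exact ((pullback.lift_fst _ _ _).symm.trans (this.trans (pullback.lift_fst _ _ _))).symm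
  · let h' := h ≫ e.inv
    have hv : (h'.left ≫ pullback.fst N.hom (Neron.genPt R)) ≫ N.hom =
        pullback.fst Y.hom (Neron.genPt R) ≫ Y.hom := by
      have hw : h'.left ≫ pullback.snd _ _ = pullback.snd Y.hom (Neron.genPt R) := Over.w h'
      rw [Category.assoc, pullback.condition, reassoc_of% hw, pullback.condition]
    obtain ⟨g, ⟨hg, hgv⟩, -⟩ := hmap Y.left Y.hom _ hv
    refine ⟨Over.homMk g hg, ?_⟩
    show (Neron.genericFibre R).map (Over.homMk g hg) ≫ e.hom = h
    rw [← Iso.eq_comp_inv]
    refine Over.OverMorphism.ext (pullback.hom_ext ?_ ?_)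
    · exact (pullback.lift_fst _ _ _).trans hgv
    · have hw : h'.left ≫ pullback.snd _ _ = pullback.snd Y.hom (Neron.genPt R) := Over.w h'
      exact (pullback.lift_snd _ _ _).trans hw.symm

end Groth.Agent.S18497
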