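import Groth.Statements.S1850
import Groth.Agent.Lib.Tame.FlatBase
import Groth.Agent.Lib.Tame.Laws

set_option autoImplicit false
universe u
open CycAlg

namespace Groth.Agent.S1850

open IsLocalRing TensorProduct Groth.Agent.Lib.Tame Groth.Agent.Lib.Tame.LocLen Groth.Agent.Lib.Tame.Value

attribute [local instance] Algebra.TensorProduct.rightAlgebra

theorem locLen_pair {B : Type u} [CommRing B] (p : Ideal B) [p.IsPrime] {r c : B}
    {π : Localization.AtPrime p} (s w : (Localization.AtPrime p)ˣ) {E : ℕ} (hE : E ≠ 0)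
    (hr : algebraMap B (Localization.AtPrime p) r = π * s)
    (hc : algebraMap B (Localization.AtPrime p) c = w * π ^ E) :
    locLen p (B ⧸ Ideal.span {r, c}) = Ring.ord (Localization.AtPrime p) π := by
  let f : B →ₗ[B] Localization.AtPrime p := Algebra.linearMap B (Localization.AtPrime p)
  have : IsLocalizedModule p.primeCompl f := inferInstance
  rw [locLen_eq_of_isLocalizedModule p ((Ideal.span {r, c}).toLocalizedQuotient' (Localization.AtPrime p) p.primeCompl f)]
  refine LinearEquiv.length_eq (Submodule.quotEquivOfEq _ _ ?_)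
  change (Submodule.span B {r, c}).localized' (Localization.AtPrime p) p.primeCompl f = _
  rw [Submodule.localized'_span, Set.image_pair]
  show Ideal.span {algebraMap B (Localization.AtPrime p) r, algebraMap B _ c} = Ideal.span {π}
  rw [hr, hc]
  refine le_antisymm (Ideal.span_le.2 ?_) (Ideal.span_le.2 ?_)
  · rintro z (rfl | rfl)
    · exact Ideal.mul_mem_right _ _ (Ideal.mem_span_singleton_self _)
    · exact Ideal.mul_mem_left _ _ (Ideal.pow_mem_of_mem _ (Ideal.mem_span_singleton_self _) _ (Nat.pos_of_ne_zero hE))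
  · intro z hz
    rw [Set.mem_singleton_iff.1 hz]
    have h1 : π * (s : Localization.AtPrime p) ∈ Ideal.span {π * (s : Localization.AtPrime p), (w : Localization.AtPrime p) * π ^ E} :=
      Ideal.subset_span (Set.mem_insert _ _)
    simpa using Ideal.mul_mem_right (↑s⁻¹ : Localization.AtPrime p) _ h1

variable {A A' : Type u} [CommRing A] [CommRing A'] [Algebra A A'] [Module.Flat A A']

theorem map_mem_nonZeroDivisors {c : A} {B : Type u} [CommRing B] [Algebra A B]
    (hc : algebraMap A B c ∈ nonZeroDivisors B) :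
    algebraMap A (A' ⊗[A] B) c ∈ nonZeroDivisors (A' ⊗[A] B) := by
  rw [mem_nonZeroDivisors_iff_right]
  intro y hy
  have hinj : Function.Injective (LinearMap.lsmul A B c) := fun u v huv => by
    change c • u = c • v at huv
    rw [Algebra.smul_def, Algebra.smul_def] at huv
    exact (mul_cancel_left_mem_nonZeroDivisors hc).1 huv
  refine Module.Flat.lTensor_preserves_injective_linearMap (M := A') _ hinj ?_
  rw [map_zero]
  rw [mul_comm, ← Algebra.smul_def] at hy
  rw [← hy]
  clear hy
  induction y using TensorProduct.induction_on with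
  | zero => simp
  | tmul a b => rw [LinearMap.lTensor_tmul, LinearMap.lsmul_apply, tmul_smul]
  | add u v hu hv => rw [map_add, hu, hv, smul_add]


/-- Let A → A' be a flat local homomorphism of Noetherian local rings of dimension 1 and m =
length_{A'}(A'/𝔪_A A'). For nonzerodivisors a₁, a₂ of A the image of ∂_A(a₁, a₂)^m in the residue
field of A' equals ∂_{A'}(a₁, a₂). -/
theorem result (A A' : Type u) [CommRing A] [CommRing A'] [IsNoetherianRing A] [IsNoetherianRing A'] [IsLocalRing A] [IsLocalRing A'] [Algebra A A'] [IsLocalHom (algebraMap A A')] [Module.Flat A A'] (hA : ringKrullDim A = 1) (hA' : ringKrullDim A' = 1) (a₁ a₂ : A) (h₁ : a₁ ∈ nonZeroDivisors A) (h₂ : a₂ ∈ nonZeroDivisors A) : IsLocalRing.ResidueField.map (algebraMap A A') (CycAlg.tameSymbol A a₁ a₂) ^ (Module.length A' (A' ⧸ Ideal.map (algebraMap A A') (IsLocalRing.maximalIdeal A))).toNat = CycAlg.tameSymbol A' (algebraMap A A' a₁) (algebraMap A A' a₂) := by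
  classical
  haveI : Ring.KrullDimLE 1 A := Ring.krullDimLE_iff.2 hA.le
  haveI : Ring.KrullDimLE 1 A' := Ring.krullDimLE_iff.2 hA'.le
  by_cases hu : IsUnit a₁ ∧ IsUnit a₂
  · rw [Laws.tameSymbol_of_isUnit hu.1 hu.2, Laws.tameSymbol_of_isUnit (hu.1.map _) (hu.2.map _), map_one, one_pow]
  have hm : a₁ * a₂ ∈ maximalIdeal A := WellDef.mem_maximalIdeal_mul hu
  have hc := mul_mem h₁ h₂
  have hnzd : ∀ {a : A}, a ∈ nonZeroDivisors A → algebraMap A A' a ∈ nonZeroDivisors A' := fun {a} ha => by
    have reg : IsSMulRegular A a := fun u v huv => (mul_cancel_left_mem_nonZeroDivisors ha).1 huv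
    refine mem_nonZeroDivisors_iff_right.2 fun y hy => (IsSMulRegular.of_flat (S := A') reg) ?_
    show algebraMap A A' a * y = algebraMap A A' a * 0
    rw [mul_zero, mul_comm, hy]
  -- the closed fibre has finite length
  set mA := (maximalIdeal A).map (algebraMap A A')
  have hfin : IsFiniteLength A' (A' ⧸ mA) := by
    have h0 := isFiniteLength_quotient_span_singleton A' (hnzd hc)
    rw [← Module.length_ne_top_iff] at h0 ⊢
    exact ne_top_of_le_ne_top h0 (Module.length_le_of_surjective (Submodule.factor
      ((Ideal.span_singleton_le_iff_mem _).2 (Ideal.mem_map_of_mem _ hm) : Ideal.span _ ≤ mA))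
      (Submodule.factor_surjective _))
  -- data over A
  obtain ⟨D⟩ : Nonempty (CycAlg.TameData A a₁ a₂) := by
    have hfg : (⊥ : Subalgebra A (Lattice.L (a₁ * a₂))).toSubmodule.FG := by
      rw [Algebra.toSubmodule_bot, Submodule.one_eq_span]; exact Submodule.fg_span_singleton _
    obtain ⟨B₀, -, hB₀, hfac⟩ := WellDef.exists_fac hc hm hfg {a₁, a₂} fun s hs => by
      rcases Finset.mem_insert.1 hs with rfl | hs
      · exact Exist.isUnit_of_dvd (dvd_mul_right _ _)
      · rw [Finset.mem_singleton.1 hs]; exact Exist.isUnit_of_dvd (dvd_mul_left _ _)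
    have : Module.Finite A B₀ := Module.Finite.iff_fg.2 hB₀
    choose π hπ hs using hfac
    choose u e hue using fun q => hs q a₁ (by simp)
    choose v f hvf using fun q => hs q a₂ (by simp)
    exact ⟨{ B := B₀
             isFinExt := Lattice.isFinExt hc hm hB₀
             isLocalHom := fun q => Lattice.isLocalHom_atPrime (A := A) q.asIdeal
             π := π
             π_mem := hπ
             u₁ := u
             u₂ := v
             e₁ := e
             e₂ := f
             fac₁ := hue
             fac₂ := hvf }⟩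
  haveI := D.isFinExt.2.1
  let F := WellDef.facOf D
  haveI : IsNoetherianRing D.B := isNoetherian_of_tower A inferInstance
  haveI : ∀ q : MaximalSpectrum D.B, Ring.KrullDimLE 1 (Localization.AtPrime q.asIdeal) := fun q =>
    krullDimLE_atPrime (A := A) q.asIdeal
  haveI := Lattice.finite_maximalSpectrum A D.B
  haveI := Lattice.finite_maximalSpectrum A' (A' ⊗[A] D.B)
  letI := Fintype.ofFinite (MaximalSpectrum D.B)
  letI := Fintype.ofFinite (MaximalSpectrum (A' ⊗[A] D.B))
  -- the point below
  have hmax : ∀ K : MaximalSpectrum (A' ⊗[A] D.B),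
      (K.asIdeal.comap (algebraMap D.B (A' ⊗[A] D.B))).IsMaximal := fun K => by
    have h1 : K.asIdeal.comap (algebraMap A' (A' ⊗[A] D.B)) = maximalIdeal A' :=
      eq_maximalIdeal (Ideal.isMaximal_comap_of_isIntegral_of_isMaximal K.asIdeal)
    refine Ideal.isMaximal_of_isIntegral_of_isMaximal_comap (R := A) _ ?_
    rw [Ideal.comap_comap, ← IsScalarTower.algebraMap_eq, IsScalarTower.algebraMap_eq A A' (A' ⊗[A] D.B),
      ← Ideal.comap_comap, h1]
    rw [IsLocalRing.maximalIdeal_comap]
    infer_instance
  let cm : MaximalSpectrum (A' ⊗[A] D.B) → MaximalSpectrum D.B := fun K => ⟨_, hmax K⟩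
  let g := fun K : MaximalSpectrum (A' ⊗[A] D.B) =>
    Localization.localRingHom (cm K).asIdeal K.asIdeal (algebraMap D.B (A' ⊗[A] D.B)) rfl
  have hg : ∀ K (a : A), g K (algebraMap A _ a) =
      algebraMap A' (Localization.AtPrime K.asIdeal) (algebraMap A A' a) := fun K a => by
    rw [IsScalarTower.algebraMap_apply A D.B (Localization.AtPrime (cm K).asIdeal), Localization.localRingHom_to_map,
      ← IsScalarTower.algebraMap_apply A D.B, IsScalarTower.algebraMap_apply A A' (A' ⊗[A] D.B),
      ← IsScalarTower.algebraMap_apply A' (A' ⊗[A] D.B)]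
  have hE : ∀ q, (F q).e + (F q).f ≠ 0 ∧ algebraMap A (Localization.AtPrime q.asIdeal) (a₁ * a₂) =
      (((F q).u * (F q).v : (Localization.AtPrime q.asIdeal)ˣ) : Localization.AtPrime q.asIdeal) *
        (F q).π ^ ((F q).e + (F q).f) := fun q => by
    have e : algebraMap A (Localization.AtPrime q.asIdeal) (a₁ * a₂) = _ :=
      (map_mul _ _ _).trans (congrArg₂ (· * ·) (F q).ha (F q).hb)
    refine ⟨fun h0 => ?_, by rw [e, Units.val_mul, pow_add]; ring⟩
    have := Lattice.isLocalHom_atPrime (A := A) q.asIdeal
    refine hm (IsUnit.of_map (algebraMap A (Localization.AtPrime q.asIdeal)) _ ?_)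
    obtain ⟨h3, h4⟩ := Nat.add_eq_zero_iff.1 h0
    rw [e, h3, h4, pow_zero, mul_one, mul_one]
    exact (F q).u.isUnit.mul (F q).v.isUnit
  have hcB : algebraMap A D.B (a₁ * a₂) ∈ nonZeroDivisors D.B := Value.mem_nonZeroDivisors_of_local fun q => by
    rw [← IsScalarTower.algebraMap_apply, map_mul]
    exact mul_mem (F q).mem_left (F q).mem_right
  have hπ : ∀ K, g K (F (cm K)).π ∈ nonZeroDivisors (Localization.AtPrime K.asIdeal) := fun K => by
    have h0 : algebraMap A' (Localization.AtPrime K.asIdeal) (algebraMap A A' (a₁ * a₂)) ∈ nonZeroDivisors _ := by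
      rw [IsScalarTower.algebraMap_apply A' (A' ⊗[A] D.B), ← IsScalarTower.algebraMap_apply A A']
      exact IsLocalization.map_nonZeroDivisors_le K.asIdeal.primeCompl _ ⟨_, map_mem_nonZeroDivisors hcB, rfl⟩
    obtain ⟨h1, h2⟩ := hE (cm K)
    rw [← hg, h2, map_mul, map_pow] at h0
    obtain ⟨n, hn⟩ := Nat.exists_eq_succ_of_ne_zero h1
    have h3 := (mul_mem_nonZeroDivisors.1 h0).2
    rw [hn, pow_succ'] at h3
    exact (mul_mem_nonZeroDivisors.1 h3).1
  let G := fun K => ((F (cm K)).map (g K) (hπ K)).cast (hg K a₁) (hg K a₂)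
  -- data over A'
  let D' : CycAlg.TameData A' (algebraMap A A' a₁) (algebraMap A A' a₂) :=
    { B := A' ⊗[A] D.B
      isFinExt := by
        obtain ⟨hinj, -, n, hn⟩ := D.isFinExt
        refine ⟨?_, inferInstance, ?_⟩
        · intro x y h
          refine (Algebra.TensorProduct.rid A A' A').symm.injective ?_
          refine Module.Flat.lTensor_preserves_injective_linearMap (M := A') (Algebra.linearMap A D.B) hinj ?_
          simpa [Algebra.TensorProduct.algebraMap_apply] using h
        · obtain ⟨k, hk⟩ : ∃ k, maximalIdeal A' ^ k ≤ mA := by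
            have : IsArtinian A' (A' ⧸ mA) := (isFiniteLength_iff_isNoetherian_isArtinian.1 hfin).2
            haveI : IsArtinianRing (A' ⧸ mA) := isArtinian_of_tower A' inferInstance
            obtain ⟨k, hk⟩ := IsArtinianRing.isNilpotent_jacobson_bot (R := A' ⧸ mA)
            refine ⟨k, fun r hr => Ideal.Quotient.eq_zero_iff_mem.1 ?_⟩
            have h1 : (maximalIdeal A').map (Ideal.Quotient.mk mA) ≤ Ideal.jacobson ⊥ := by
              refine le_sInf fun M hM => ?_
              haveI : M.IsMaximal := hM.2
              rw [Ideal.map_le_iff_le_comap]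
              exact (eq_maximalIdeal (Ideal.comap_isMaximal_of_surjective _ Ideal.Quotient.mk_surjective)).ge
            have h2 := Ideal.pow_right_mono h1 k
            rw [← Ideal.map_pow, hk] at h2
            exact (Submodule.mem_bot _).1 (h2 (Ideal.mem_map_of_mem _ hr))
          refine ⟨k * n, fun r hr y => ?_⟩
          have hr' : r ∈ (maximalIdeal A ^ n).map (algebraMap A A') := by
            rw [Ideal.map_pow]
            exact Ideal.pow_right_mono hk n (by rwa [← pow_mul])
          suffices h : r • y ∈ LinearMap.range (Algebra.linearMap A' (A' ⊗[A] D.B)) from h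
          clear hr
          rw [Ideal.map] at hr'
          induction hr' using Submodule.span_induction with
          | mem r hr =>
            obtain ⟨s, hs, rfl⟩ := hr
            induction y using TensorProduct.induction_on with
            | zero => rw [smul_zero]; exact zero_mem _
            | tmul a b =>
              obtain ⟨t, ht⟩ := hn s hs b
              refine ⟨t • a, ?_⟩
              rw [algebraMap_smul, ← tmul_smul, ← ht, Algebra.algebraMap_eq_smul_one, tmul_smul, smul_tmul']
              rfl
            | add u v hu hv => rw [smul_add]; exact add_mem hu hv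
          | zero => rw [zero_smul]; exact zero_mem _
          | add u v _ _ hu hv => rw [add_smul]; exact add_mem hu hv
          | smul u v _ hv => rw [smul_eq_mul, mul_smul]; exact Submodule.smul_mem _ u hv
      isLocalHom := fun q => Lattice.isLocalHom_atPrime (A := A') q.asIdeal
      π := fun K => (G K).π
      π_mem := fun K => (G K).hπ
      u₁ := fun K => (G K).u
      u₂ := fun K => (G K).v
      e₁ := fun K => (G K).e
      e₂ := fun K => (G K).f
      fac₁ := fun K => (G K).ha
      fac₂ := fun K => (G K).hb }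
  rw [WellDef.tameSymbol_eq D h₁ h₂, WellDef.value_eq_finprod, finprod_eq_prod_of_fintype,
    WellDef.tameSymbol_eq D' (hnzd h₁) (hnzd h₂), WellDef.value_eq_finprod, map_prod, ← Finset.prod_pow]
  refine Eq.trans ?_ (finprod_eq_prod_of_fintype (fun K => nrm (A := A') K (G K).val)).symm
  rw [← Finset.prod_fiberwise Finset.univ cm fun K => nrm (A := A') K (G K).val]
  refine Finset.prod_congr rfl fun q _ => ?_
  obtain ⟨⟨r, s⟩, hrs⟩ := IsLocalization.surj q.asIdeal.primeCompl (F q).π
  dsimp only at hrs
  have hs : IsUnit (algebraMap D.B (Localization.AtPrime q.asIdeal) s) := IsLocalization.map_units _ s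
  obtain ⟨x, hx⟩ : ∃ x, algebraMap D.B q.asIdeal.ResidueField x = (F q).base := by
    obtain ⟨z, hz⟩ := (Ideal.bijective_algebraMap_quotient_residueField q.asIdeal).2 (F q).base
    obtain ⟨x, rfl⟩ := Ideal.Quotient.mk_surjective z
    exact ⟨x, hz⟩
  obtain ⟨hE1, hE2⟩ := hE q
  let J : Ideal D.B := Ideal.span {r, algebraMap A D.B (a₁ * a₂)}
  have hlq : locLen q.asIdeal (D.B ⧸ J) = Ring.ord (Localization.AtPrime q.asIdeal) (F q).π := by
    refine locLen_pair q.asIdeal hs.unit ((F q).u * (F q).v) hE1 ?_ ?_
    · rw [← hrs, IsUnit.unit_spec]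
    · rw [← IsScalarTower.algebraMap_apply, hE2]
  have hflJ : IsFiniteLength D.B (D.B ⧸ J) := by
    have : Module.Finite A (D.B ⧸ J) := Module.Finite.of_surjective (Ideal.Quotient.mkₐ A J).toLinearMap
      Ideal.Quotient.mk_surjective
    have h0 := Module.length_ne_top_iff.1 (Lattice.length_quot_ne_top_of_pow hc 1 fun z : D.B ⧸ J => by
      obtain ⟨z, rfl⟩ := Ideal.Quotient.mk_surjective z
      rw [pow_one, ← Ideal.Quotient.mkₐ_eq_mk A, ← map_smul, Ideal.Quotient.mkₐ_eq_mk,
        Ideal.Quotient.eq_zero_iff_mem, Algebra.smul_def]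
      exact J.mul_mem_right _ (Ideal.subset_span (Set.mem_insert_of_mem _ rfl)))
    obtain ⟨hN, hA⟩ := isFiniteLength_iff_isNoetherian_isArtinian.1 h0
    exact isFiniteLength_iff_isNoetherian_isArtinian.2 ⟨isNoetherian_of_tower A hN, isArtinian_of_tower A hA⟩
  obtain ⟨-, key⟩ := FlatBase.prod_pow_locLen (A := A) (A' := A') q x hfin hflJ
  rw [Fac.val, nrm_pow, map_pow, ← pow_mul, ← hx, mul_comm, ← hlq]
  refine key.symm.trans (Finset.prod_congr (Finset.filter_congr fun K _ => ?_) fun K hK => ?_)
  · exact ⟨fun h => MaximalSpectrum.ext h, fun h => congrArg MaximalSpectrum.asIdeal h⟩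
  obtain rfl : cm K = q := (Finset.mem_filter.1 hK).2
  rw [Fac.val, nrm_pow]
  congr 1
  · congr 1
    rw [show (G K).base = ResidueField.map (g K) (F (cm K)).base by
      simp only [Fac.base, G, Fac.cast, Fac.map, map_mul, map_pow, map_inv₀, map_neg, map_one]
      rfl, ← hx]
    exact (congrArg (residue _) (Localization.localRingHom_to_map _ _ _ rfl x)).symm
  · rw [locLen_congr K.asIdeal (Algebra.TensorProduct.quotIdealMapEquivTensorQuot (A' ⊗[A] D.B) J).symm.toLinearEquiv,
      Ideal.map_span, Set.image_pair]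
    refine congrArg ENat.toNat (locLen_pair K.asIdeal (hs.unit.map (g K).toMonoidHom)
      ((((F (cm K)).u * (F (cm K)).v)).map (g K).toMonoidHom) hE1 ?_ ?_)
    · rw [← Localization.localRingHom_to_map (cm K).asIdeal K.asIdeal (algebraMap D.B (A' ⊗[A] D.B)) rfl r, ← hrs,
        map_mul]
      rfl
    · rw [← Localization.localRingHom_to_map (cm K).asIdeal K.asIdeal (algebraMap D.B (A' ⊗[A] D.B)) rfl,
        ← IsScalarTower.algebraMap_apply, hE2, map_mul, map_pow]
      rfl

end Groth.Agent.S1850
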