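import Groth.Statements.S18501
import Groth.Agent.Lib.ActSep.NeutralHom
import Groth.Agent.Lib.Flat55.CurveNormalizationBC

set_option autoImplicit false
universe u
open CategoryTheory CategoryTheory.Limits AlgebraicGeometry MonObj
open Neron

namespace Groth.Agent.S18501

/-- Let R be a discrete valuation ring with fraction field K and residue field k, let A and B be group
schemes over Spec R which are Néron models of their generic fibres, both abelian varieties over K
(proper and geometrically integral), and let φ : A → B be a homomorphism whose generic fibre is an
isogeny (surjective with finite kernel). Then φ is flat if and only if the special fibre φ_k : A_k →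
B_k maps the connected component of the identity point of A_k onto the connected component of the
identity point of B_k, i.e. the image of the former subset is the latter (φ induces a surjection of
identity components; on the generic fibre this is automatic). (The published lemma is over a
connected Dedekind scheme, with this condition at every point, and includes a further equivalent
condition, quasi-finiteness of φ; the case of a discrete valuation ring is stated here, where only
the closed point matters.) -/
theorem result (R : Type u) [CommRing R]
    [IsDomain R] [IsDiscreteValuationRing R] (A B : Over (Spec (CommRingCat.of R))) [GrpObj A] [GrpObj B]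
    (hA : Neron.IsNeronModelOf R A ((Neron.genericFibre R).obj A) (Iso.refl _))
    (hB : Neron.IsNeronModelOf R B ((Neron.genericFibre R).obj B) (Iso.refl _))
    [IsProper ((Neron.genericFibre R).obj A).hom] [GeometricallyIntegral ((Neron.genericFibre R).obj A).hom]
    [IsProper ((Neron.genericFibre R).obj B).hom] [GeometricallyIntegral ((Neron.genericFibre R).obj B).hom]
    (φ : A ⟶ B) [IsMonHom φ] (hφ : SGA7.IsIsogenyOver ((Neron.genericFibre R).map φ)) :
    Flat φ.left ↔
      ((Over.pullback (Spec.map (CommRingCat.ofHom (IsLocalRing.residue R)))).map φ).left.base ''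
          connectedComponent ((η[Red.bc (Spec.map (CommRingCat.ofHom (IsLocalRing.residue R))) A]).left.base (IsLocalRing.closedPoint (IsLocalRing.ResidueField R))) =
        connectedComponent ((η[Red.bc (Spec.map (CommRingCat.ofHom (IsLocalRing.residue R))) B]).left.base (IsLocalRing.closedPoint (IsLocalRing.ResidueField R))) := by
  obtain ⟨hAs, hAsep, hAlft, hAqc, -⟩ := hA
  obtain ⟨hBs, hBsep, hBlft, hBqc, -⟩ := hB
  let kp := Spec.map (CommRingCat.ofHom (IsLocalRing.residue R))
  let k := IsLocalRing.ResidueField R
  have : LocallyOfFiniteType (Red.bc kp A).hom :=
    MorphismProperty.pullback_snd (P := @LocallyOfFiniteType) _ _ hAlft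
  have : LocallyOfFiniteType (Red.bc kp B).hom :=
    MorphismProperty.pullback_snd (P := @LocallyOfFiniteType) _ _ hBlft
  have sq := Lib.ActSep.isPullback_map φ kp
  constructor
  · intro hf
    have : Flat ((Over.pullback kp).map φ).left := MorphismProperty.of_isPullback sq hf
    have : LocallyOfFiniteType (φ.left ≫ B.hom) := by rw [Over.w φ]; infer_instance
    have hl : LocallyOfFiniteType φ.left := locallyOfFiniteType_of_comp φ.left B.hom
    have : IsLocallyNoetherian B.left := LocallyOfFiniteType.isLocallyNoetherian B.hom
    have : LocallyOfFinitePresentation ((Over.pullback kp).map φ).left :=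
      MorphismProperty.of_isPullback sq (inferInstanceAs (LocallyOfFinitePresentation φ.left))
    have h := Lib.ActSep.image_neutralSet_of_isOpenMap (k := k) (G := Red.bc kp A) (H := Red.bc kp B)
      ((Over.pullback kp).map φ) ((Over.pullback kp).map φ).left.isOpenMap
    rwa [Lib.ActSep.neutralSet_field_eq, Lib.ActSep.neutralSet_field_eq] at h
  · intro h
    have key : SGA3x.neutralSet B ⊆ Set.range φ.left := by
      intro b hb
      by_cases hbot : (B.hom b).asIdeal = ⊥
      · obtain ⟨b', hb', -⟩ := Scheme.Pullback.exists_preimage_pullback (f := B.hom) (g := Neron.genPt R) b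
          (IsLocalRing.closedPoint (FractionRing R)) (PrimeSpectrum.ext (by
            refine hbot.trans ?_
            show ⊥ = Ideal.comap (algebraMap R (FractionRing R)) (IsLocalRing.maximalIdeal (FractionRing R))
            rw [IsLocalRing.maximalIdeal_eq_bot]
            exact (Ideal.comap_bot_of_injective _ (IsFractionRing.injective R (FractionRing R))).symm))
        have : Surjective ((Neron.genericFibre R).map φ).left := hφ.1
        obtain ⟨a', rfl⟩ := ((Neron.genericFibre R).map φ).left.surjective b'
        refine ⟨pullback.fst A.hom (Neron.genPt R) a', ?_⟩
        rw [← hb']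
        exact congrArg (fun f : _ ⟶ B.left => f a') (Lib.ActSep.isPullback_map φ (Neron.genPt R)).w
      · obtain ⟨b', hb', -⟩ := Scheme.Pullback.exists_preimage_pullback (f := B.hom) (g := kp) b
          (IsLocalRing.closedPoint k) (PrimeSpectrum.ext (by
            have hm : (B.hom b).asIdeal.IsMaximal := (B.hom b).isPrime.isMaximal hbot
            refine (IsLocalRing.eq_maximalIdeal hm).trans ?_
            show _ = Ideal.comap (IsLocalRing.residue R) (IsLocalRing.maximalIdeal k)
            rw [IsLocalRing.maximalIdeal_eq_bot, ← RingHom.ker_eq_comap_bot, IsLocalRing.ker_residue]))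
        have hmem : b' ∈ SGA3x.neutralSet (Red.bc kp B) := by
          rw [Lib.ActSep.neutralSet_bc]
          show pullback.fst B.hom kp b' ∈ SGA3x.neutralSet B
          rwa [hb']
        rw [Lib.ActSep.neutralSet_field_eq] at hmem
        obtain ⟨a', -, ha'⟩ := h.ge hmem
        refine ⟨pullback.fst A.hom kp a', ?_⟩
        rw [← hb', ← ha']
        exact congrArg (fun f : _ ⟶ B.left => f a') sq.w
    refine Lib.ActSep.flat_of_map φ fun s => ?_
    let r := (Spec (CommRingCat.of R)).fromSpecResidueField s
    have : LocallyOfFiniteType ((Over.pullback r).obj A).hom :=
      MorphismProperty.pullback_snd (P := @LocallyOfFiniteType) _ _ hAlft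
    have : Smooth ((Over.pullback r).obj B).hom :=
      MorphismProperty.pullback_snd (P := @Smooth) _ _ hBs
    have : IsReduced ((Over.pullback r).obj B).left :=
      Lib.Flat55.CurveNormalizationBC.isReduced_of_smooth (k := (Spec (CommRingCat.of R)).residueField s)
        ((Over.pullback r).obj B).hom
    refine Lib.ActSep.flat_of_neutralSet_subset_range (k := (Spec (CommRingCat.of R)).residueField s)
      (G := Red.bc r A) (H := Red.bc r B) ((Over.pullback r).map φ) fun z hz => ?_
    rw [Lib.ActSep.neutralSet_bc] at hz
    obtain ⟨a, ha⟩ := key hz
    obtain ⟨w, hw, -⟩ := Scheme.exists_preimage_of_isPullback (Lib.ActSep.isPullback_map φ r).flip z a ha.symm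
    exact ⟨w, hw⟩

end Groth.Agent.S18501
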