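import Groth.Statements.S18502
import Groth.Agent.H60.TorsorGeom
import Groth.Agent.H60.GitQuot.Sep
-- import your own Groth.Agent.* helpers here

set_option autoImplicit false
universe u
open CategoryTheory MonoidalCategory CartesianMonoidalCategory MonObj GrpObj AlgebraicGeometry Topology
open EqInt

namespace Groth.Agent.S18502

/-- Over a field k, let an affine group scheme G of finite type act on X, let X and Y be separated and
of finite type over k, and let φ : X → Y be G-invariant, flat and surjective with (σ, p₂) : G × X →
X ×_Y X an isomorphism (X is a principal G-bundle over Y). Conclusion: the pair (Y, φ) realizes Y as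
a geometric quotient of X under G, and G acts freely, meaning (σ, p₂) : G × X → X × X is a closed
immersion. (The source takes X and Y integral; integrality plays no role. A geometric quotient is
taken here with φ universally submersive.) -/
theorem result (k : Type u) [Field k]
    (G X Y : Over (Spec (CommRingCat.of k))) [GrpObj G] [IsAffine G.left] [LocallyOfFiniteType G.hom]
    [LocallyOfFiniteType X.hom] [QuasiCompact X.hom] [IsSeparated X.hom]
    [LocallyOfFiniteType Y.hom] [QuasiCompact Y.hom] [IsSeparated Y.hom]
    (a : AlgGrp.Action G X) (φ : X ⟶ Y) (hinv : GIT.IsInvariant a φ) [Flat φ.left] [Surjective φ.left]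
    (hcart : IsIso (GIT.PsiY a φ hinv)) :
    GIT.IsGeomQuot a φ ∧ IsClosedImmersion (GIT.psi a (𝟙 X)).left := by
  haveI : QuasiCompact (φ.left ≫ Y.hom) := by rw [Over.w]; infer_instance
  haveI : QuasiCompact φ.left := QuasiCompact.of_comp φ.left Y.hom
  haveI := hcart
  have sq : IsPullback a.act.left (snd G X).left φ.left φ.left :=
    IsPullback.of_iso_pullback ⟨GIT.IsInvariant.left hinv⟩ (asIso (GIT.PsiY a φ hinv))
      (Limits.pullback.lift_fst _ _ _) (Limits.pullback.lift_snd _ _ _)
  have hc : IsPullback a.act (snd G X) φ φ :=
    IsPullback.of_map (Over.forget _) hinv sq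
  refine ⟨Groth.Agent.H60.TorsorGeom.isGeomQuot a φ hc ?_, ?_⟩
  · refine ⟨Presieve.singleton φ.left, Scheme.Hom.singleton_mem_fpqcPrecoverage φ.left, ?_⟩
    rintro _ _ ⟨⟩
    exact ⟨𝟙 X.left, Category.id_comp φ.left⟩
  · have e : (GIT.psi a (𝟙 X)).left = GIT.PsiY a φ hinv ≫ Limits.pullback.mapDesc φ.left φ.left Y.hom ≫
        (Limits.pullback.congrHom (Over.w φ) (Over.w φ)).hom := by
      refine Limits.pullback.hom_ext ?_ ?_
      · exact (congrArg (fun m => Over.Hom.left m) (show GIT.psi a (𝟙 X) ≫ fst X X = a.act by
          rw [GIT.psi, lift_fst, whiskerLeft_id, Category.id_comp])).trans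
          (by simp [GIT.PsiY, Limits.pullback.mapDesc, Limits.pullback.map]; first | (erw [Limits.pullback.lift_fst, Limits.pullback.lift_fst, Limits.pullback.lift_fst]) | (erw [Limits.pullback.lift_snd, Limits.pullback.lift_snd, Limits.pullback.lift_snd]))
      · exact (congrArg (fun m => Over.Hom.left m) (show GIT.psi a (𝟙 X) ≫ snd X X = snd G X by
          rw [GIT.psi, lift_snd])).trans (by simp [GIT.PsiY, Limits.pullback.mapDesc, Limits.pullback.map]; first | (erw [Limits.pullback.lift_fst, Limits.pullback.lift_fst, Limits.pullback.lift_fst]) | (erw [Limits.pullback.lift_snd, Limits.pullback.lift_snd, Limits.pullback.lift_snd]))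
    rw [e]
    infer_instance

end Groth.Agent.S18502
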