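import Groth.Statements.S18506
import Groth.Agent.H60.AssocBundle
import Groth.Agent.Lib.ZarRefine.LocSplit
-- import your own Groth.Agent.* helpers here

set_option autoImplicit false
universe u
open CategoryTheory MonoidalCategory CartesianMonoidalCategory MonObj GrpObj AlgebraicGeometry Topology
open EqInt

namespace Groth.Agent.S18506

/-- Over a field k, let an affine group scheme G of finite type act on X and on U (quasi-separated
schemes of finite type over k), and let π : U → B be a principal bundle quotient (π is G-invariant,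
flat and surjective and (σ, p₂) : G × U → U ×_B U is an isomorphism) which is locally trivial in the
Zariski topology: every point of B has an open neighbourhood over which π has a section. Then the
diagonal action of G on X × U has a principal bundle quotient X × U → Q in the category of schemes.
(The published hypothesis is that G is special, i.e. every principal G-bundle is Zariski-locally
trivial; only the local triviality of U → B is used, and it is what is assumed here.) -/
theorem result (k : Type u) [Field k]
    (G X U B : Over (Spec (CommRingCat.of k))) [GrpObj G] [IsAffine G.left] [LocallyOfFiniteType G.hom]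
    [LocallyOfFiniteType X.hom] [QuasiCompact X.hom] [QuasiSeparated X.hom]
    [LocallyOfFiniteType U.hom] [QuasiCompact U.hom] [QuasiSeparated U.hom]
    [LocallyOfFiniteType B.hom] [QuasiCompact B.hom] [QuasiSeparated B.hom]
    (a : AlgGrp.Action G X) (b : AlgGrp.Action G U) (π : U ⟶ B) (hinv : GIT.IsInvariant b π)
    [Flat π.left] [Surjective π.left] (hcart : IsIso (GIT.PsiY b π hinv))
    (hzar : ∀ y : ↥B.left, ∃ (W : B.left.Opens) (s : (↑W : Scheme.{u}) ⟶ U.left), y ∈ W ∧ s ≫ π.left = W.ι) :
    ∃ (Q : Over (Spec (CommRingCat.of k))) (ρ : X ⊗ U ⟶ Q) (hρ : GIT.IsInvariant (a.prod b) ρ),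
      Flat ρ.left ∧ Surjective ρ.left ∧ IsIso (GIT.PsiY (a.prod b) ρ hρ) := by
  have hsq : IsPullback b.act (snd G U) π π := CategoryTheory.IsPullback.of_map (Over.forget _) hinv
    (IsPullback.of_iso_pullback ⟨hinv.left⟩ (@asIso _ _ _ _ (GIT.PsiY b π hinv) hcart)
      (Limits.pullback.lift_fst _ _ _) (Limits.pullback.lift_snd _ _ _))
  haveI : QuasiCompact π.left := by
    haveI : QuasiCompact (π.left ≫ B.hom) := by rw [Over.w]; infer_instance
    exact QuasiCompact.of_comp π.left B.hom
  have hp := Groth.Agent.Lib.FFDesc.fpqcCover_of_quasiCompact π.left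
  obtain ⟨U', q₀, H⟩ := Groth.Agent.Lib.ZarRefine.LocSplit.exists_isDescended hp hzar
    (Groth.Agent.H60.AssocBundle.datum b π hsq a)
  obtain ⟨Q, q, r, hP, -, hq, -⟩ := Groth.Agent.H60.AssocBundle.bundle_of_descended b π hsq a hp H
  let e : X ⊗ U ≅ U ⊗ X := β_ X U
  have he : (a.prod b).act ≫ e.hom = (G ◁ e.hom) ≫ (b.prod a).act := AlgGrp.Action.hom_ext_lift₂ fun T g y => by
    have ey : y = lift (y ≫ fst X U) (y ≫ snd X U) := by simp
    have hb : ∀ (u : T ⟶ X) (v : T ⟶ U), lift u v ≫ e.hom = lift v u := fun u v => by simp [e]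
    rw [ey, ← Category.assoc, AlgGrp.Action.lift_prod_act, hb, lift_whiskerLeft_assoc, hb,
      AlgGrp.Action.lift_prod_act]
  have hρ : GIT.IsInvariant (a.prod b) (e.hom ≫ q) := by
    show (a.prod b).act ≫ e.hom ≫ q = snd G (X ⊗ U) ≫ e.hom ≫ q
    rw [← Category.assoc, he, Category.assoc, hq.w, whiskerLeft_snd_assoc]
  have h' : IsPullback (a.prod b).act (snd G (X ⊗ U)) (e.hom ≫ q) (e.hom ≫ q) :=
    hq.of_iso (whiskerLeftIso G e).symm e.symm e.symm (Iso.refl _)
      (by
        simp only [Iso.symm_hom, whiskerLeftIso_inv, whiskerLeftIso_hom]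
        rw [← cancel_mono e.hom]
        simp only [Category.assoc, Iso.inv_hom_id, Category.comp_id, he, ← MonoidalCategory.whiskerLeft_comp_assoc,
          MonoidalCategory.whiskerLeft_id, Category.id_comp])
      (by simp [MonoidalCategory.whiskerLeftIso]) (by simp) (by simp)
  have hl : IsPullback q.left (fst U X).left r.left π.left := hP.map (Over.forget _)
  haveI hf : Flat q.left := MorphismProperty.of_isPullback (P := @Flat) hl.flip inferInstance
  haveI hs : Surjective q.left := MorphismProperty.of_isPullback (P := @Surjective) hl.flip inferInstance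
  haveI : IsIso e.hom.left := ((Over.forget _).mapIso e).isIso_hom
  refine ⟨Q, e.hom ≫ q, hρ, ?_, ?_, ?_⟩
  · show Flat (e.hom.left ≫ q.left); infer_instance
  · show Surjective (e.hom.left ≫ q.left); infer_instance
  · have hL : IsPullback (a.prod b).act.left (snd G (X ⊗ U)).left (e.hom ≫ q).left (e.hom ≫ q).left :=
      h'.map (Over.forget _)
    have hΨ : GIT.PsiY (a.prod b) (e.hom ≫ q) hρ = hL.isoPullback.hom :=
      Limits.pullback.hom_ext ((Limits.pullback.lift_fst _ _ _).trans hL.isoPullback_hom_fst.symm)
        ((Limits.pullback.lift_snd _ _ _).trans hL.isoPullback_hom_snd.symm)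
    rw [hΨ]; infer_instance

end Groth.Agent.S18506
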