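import Groth.Statements.S18510
import Groth.Agent.H60.TorsMap
import Groth.Agent.Lib.GrpSch.Basic
-- import your own Groth.Agent.* helpers here

set_option autoImplicit false
universe u
open CategoryTheory MonoidalCategory CartesianMonoidalCategory MonObj GrpObj AlgebraicGeometry Topology
open EqInt

namespace Groth.Agent.S18510

/-- Over a field k, let an affine group scheme G of finite type act on X, on Y and on U (quasi-separated
schemes of finite type over k), let f : X → Y be G-equivariant, and let q_X : X × U → X_G and q_Y :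
Y × U → Y_G be principal bundle quotients for the diagonal actions (each is invariant, flat and
surjective, and (σ, p₂) into the fibre square over the quotient is an isomorphism), X_G and Y_G
being quasi-separated of finite type over k. Let f_G : X_G → Y_G satisfy f_G ∘ q_X = q_Y ∘ (f ×
id_U) as maps X × U → Y_G. If f is proper, resp. flat, resp. smooth, then so is f_G. (Stated for
schemes; the source allows algebraic spaces and also treats regular embeddings and local complete
intersection morphisms, which are not stated here.) -/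
theorem result (k : Type u) [Field k]
    (G X Y U XG YG : Over (Spec (CommRingCat.of k))) [GrpObj G] [IsAffine G.left] [LocallyOfFiniteType G.hom]
    [LocallyOfFiniteType X.hom] [QuasiCompact X.hom] [QuasiSeparated X.hom]
    [LocallyOfFiniteType Y.hom] [QuasiCompact Y.hom] [QuasiSeparated Y.hom]
    [LocallyOfFiniteType U.hom] [QuasiCompact U.hom] [QuasiSeparated U.hom]
    [LocallyOfFiniteType XG.hom] [QuasiCompact XG.hom] [QuasiSeparated XG.hom]
    [LocallyOfFiniteType YG.hom] [QuasiCompact YG.hom] [QuasiSeparated YG.hom]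
    (a : AlgGrp.Action G X) (aY : AlgGrp.Action G Y) (b : AlgGrp.Action G U)
    (f : X ⟶ Y) (hf : AlgGrp.Action.IsEquivariant a aY f)
    (qX : X ⊗ U ⟶ XG) (hqX : GIT.IsInvariant (a.prod b) qX) [Flat qX.left] [Surjective qX.left]
    (hcX : IsIso (GIT.PsiY (a.prod b) qX hqX))
    (qY : Y ⊗ U ⟶ YG) (hqY : GIT.IsInvariant (aY.prod b) qY) [Flat qY.left] [Surjective qY.left]
    (hcY : IsIso (GIT.PsiY (aY.prod b) qY hqY))
    (fG : XG ⟶ YG) (hfG : qX ≫ fG = (f ▷ U) ≫ qY) :
    (IsProper f.left → IsProper fG.left) ∧ (Flat f.left → Flat fG.left) ∧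
      (Smooth f.left → Smooth fG.left) := by
  have mkPB : ∀ {A A' : Over (Spec (CommRingCat.of k))} (c : AlgGrp.Action G A) (q : A ⟶ A') (h : GIT.IsInvariant c q),
      IsIso (GIT.PsiY c q h) → IsPullback c.act (snd G A) q q := fun c q h hc =>
    CategoryTheory.IsPullback.of_map (Over.forget _) h (IsPullback.of_iso_pullback ⟨h.left⟩ (@asIso _ _ _ _ (GIT.PsiY c q h) hc)
      (Limits.pullback.lift_fst _ _ _) (Limits.pullback.lift_snd _ _ _))
  haveI : QuasiCompact (X ⊗ U).hom := by
    rw [← Over.w (fst X U)]
    haveI : QuasiCompact (fst X U).left :=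
      Groth.Agent.Lib.GrpSch.fst_left_of X (P := @QuasiCompact) inferInstance
    infer_instance
  haveI : QuasiCompact (Y ⊗ U).hom := by
    rw [← Over.w (fst Y U)]
    haveI : QuasiCompact (fst Y U).left :=
      Groth.Agent.Lib.GrpSch.fst_left_of Y (P := @QuasiCompact) inferInstance
    infer_instance
  haveI : QuasiCompact qX.left := by
    haveI : QuasiCompact (qX.left ≫ XG.hom) := by rw [Over.w]; infer_instance
    exact QuasiCompact.of_comp qX.left XG.hom
  haveI : QuasiCompact qY.left := by
    haveI : QuasiCompact (qY.left ≫ YG.hom) := by rw [Over.w]; infer_instance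
    exact QuasiCompact.of_comp qY.left YG.hom
  have hl : NonAbH1.IsLocallyTrivialFor Scheme.fpqcPrecoverage (Over.mk qX.left : Over XG.left) :=
    ⟨_, qX.left.singleton_mem_fpqcPrecoverage, by rintro _ _ ⟨⟩; exact ⟨𝟙 _, Category.id_comp _⟩⟩
  have heq : (a.prod b).act ≫ (f ▷ U) = (G ◁ (f ▷ U)) ≫ (aY.prod b).act :=
    AlgGrp.Action.hom_ext_lift₂ fun T g y => by
      have e : y = lift (y ≫ fst X U) (y ≫ snd X U) := by simp
      rw [e, ← Category.assoc, AlgGrp.Action.lift_prod_act, lift_whiskerRight, lift_whiskerLeft_assoc,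
        lift_whiskerRight, AlgGrp.Action.lift_prod_act, Category.assoc, show a.act ≫ f = (G ◁ f) ≫ aY.act from hf,
        lift_whiskerLeft_assoc]
  have sq := Groth.Agent.H60.TorsMap.isPullback_of_torsors (a.prod b) (aY.prod b) qX qY (f ▷ U) fG
    (mkPB _ _ hqX hcX) (mkPB _ _ hqY hcY) hl heq hfG.symm
  have main : ∀ (P : MorphismProperty Scheme.{u}) [P.IsStableUnderBaseChange]
      [P.DescendsAlong (@Surjective ⊓ @Flat ⊓ @QuasiCompact)], P f.left → P fG.left := fun P _ _ h => by
    have h1 : P (f ▷ U).left := P.of_isPullback (Groth.Agent.Lib.GrpSch.isPullback_whiskerRight f U).flip h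
    refine P.of_pullback_snd_of_descendsAlong (Q := @Surjective ⊓ @Flat ⊓ @QuasiCompact) (g := qY.left)
      ⟨⟨inferInstance, inferInstance⟩, inferInstance⟩ ?_
    rw [← P.cancel_left_of_respectsIso sq.flip.isoPullback.hom]
    simpa using h1
  exact ⟨main @IsProper, main @Flat, main @Smooth⟩

end Groth.Agent.S18510
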