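import Groth.Statements.S18511
import Groth.Agent.H60.QuotDescent
import Groth.Agent.H60.GitQuot.Univ
-- import your own Groth.Agent.* helpers here

set_option autoImplicit false
universe u
open CategoryTheory MonoidalCategory CartesianMonoidalCategory MonObj GrpObj AlgebraicGeometry Topology
open EqInt

namespace Groth.Agent.S18511

/-- Over a field k, let an affine group scheme G of finite type act on X, with X and Y separated of
finite type over k, and let φ : X → Y be G-invariant. Let α : Y' → Y be faithfully flat and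
quasi-compact and let X' → Y' be the base change of φ with its induced action of G (X' → X
equivariant, X' → Y' invariant). If (Y', φ') is a universal geometric quotient of X' by G, then (Y,
φ) is a universal geometric quotient of X by G. (The source takes X and Y integral; integrality
plays no role. Geometric quotients are taken with universally submersive structure map.) -/
theorem result (k : Type u) [Field k]
    (G X Y X' Y' : Over (Spec (CommRingCat.of k))) [GrpObj G] [IsAffine G.left] [LocallyOfFiniteType G.hom]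
    [LocallyOfFiniteType X.hom] [QuasiCompact X.hom] [IsSeparated X.hom]
    [LocallyOfFiniteType Y.hom] [QuasiCompact Y.hom] [IsSeparated Y.hom]
    (a : AlgGrp.Action G X) (φ : X ⟶ Y) (hinv : GIT.IsInvariant a φ)
    (α : Y' ⟶ Y) [Flat α.left] [Surjective α.left] [QuasiCompact α.left]
    (pr : X' ⟶ X) (φ' : X' ⟶ Y') (hpb : IsPullback pr φ' φ α)
    (a' : AlgGrp.Action G X') (heq : a'.act ≫ pr = (G ◁ pr) ≫ a.act) (hinv' : GIT.IsInvariant a' φ')
    (h : GIT.IsUnivGeomQuot a' φ') :
    GIT.IsUnivGeomQuot a φ := by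
  haveI : QuasiCompact (φ.left ≫ Y.hom) := by rw [Over.w]; infer_instance
  haveI : QuasiCompact φ.left := QuasiCompact.of_comp φ.left Y.hom
  refine ⟨Groth.Agent.H60.QuotDescent.isGeomQuot a φ hinv α pr φ' hpb a' heq h.1, ?_⟩
  intro X₁ Y₁ pr₁ φ₁ g _ hpb₁ a₁ ha₁ hinv₁
  let Y₂ : Over (Spec (CommRingCat.of k)) := Over.mk (Limits.pullback.fst g.left α.left ≫ Y₁.hom)
  let β : Y₂ ⟶ Y₁ := Over.homMk (Limits.pullback.fst g.left α.left) rfl
  let g' : Y₂ ⟶ Y' := Over.homMk (Limits.pullback.snd g.left α.left) (by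
    show Limits.pullback.snd g.left α.left ≫ Y'.hom = Limits.pullback.fst g.left α.left ≫ Y₁.hom
    rw [← Over.w α, ← Limits.pullback.condition_assoc, Over.w])
  have hY : β ≫ g = g' ≫ α := Over.OverMorphism.ext Limits.pullback.condition
  let X₂ : Over (Spec (CommRingCat.of k)) := Over.mk (Limits.pullback.fst φ₁.left β.left ≫ X₁.hom)
  let q : X₂ ⟶ X₁ := Over.homMk (Limits.pullback.fst φ₁.left β.left) rfl
  let φ₂ : X₂ ⟶ Y₂ := Over.homMk (Limits.pullback.snd φ₁.left β.left) (by
    show Limits.pullback.snd φ₁.left β.left ≫ Limits.pullback.fst g.left α.left ≫ Y₁.hom =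
      Limits.pullback.fst φ₁.left β.left ≫ X₁.hom
    rw [← Over.w φ₁, Limits.pullback.condition_assoc]; rfl)
  have hpb₂ : IsPullback q φ₂ φ₁ β :=
    IsPullback.of_map (Over.forget _) (Over.OverMorphism.ext Limits.pullback.condition)
      (IsPullback.of_hasPullback _ _)
  have houter : IsPullback (q ≫ pr₁) φ₂ φ (g' ≫ α) := by
    rw [← hY]
    exact hpb₂.paste_horiz hpb₁
  let q' : X₂ ⟶ X' := hpb.lift (q ≫ pr₁) (φ₂ ≫ g') (by rw [houter.w, Category.assoc])
  have hq₁ : q' ≫ pr = q ≫ pr₁ := hpb.lift_fst _ _ _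
  have hq₂ : q' ≫ φ' = φ₂ ≫ g' := hpb.lift_snd _ _ _
  have hleft : IsPullback q' φ₂ φ' g' := IsPullback.of_right (by rw [hq₁]; exact houter) hq₂ hpb
  let a₂ := Groth.Agent.H60.GitQuot.bcAction hinv₁ hpb₂
  have ha₂ : a₂.act ≫ q = (G ◁ q) ≫ a₁.act := Groth.Agent.H60.GitQuot.bcAction_pr hinv₁ hpb₂
  have hinv₂ : GIT.IsInvariant a₂ φ₂ := Groth.Agent.H60.GitQuot.bcAction_invariant hinv₁ hpb₂
  have ha₂' : a₂.act ≫ q' = (G ◁ q') ≫ a'.act := by
    refine hpb.hom_ext ?_ ?_
    · rw [Category.assoc, Category.assoc, hq₁, heq, ← MonoidalCategory.whiskerLeft_comp_assoc, hq₁, reassoc_of% ha₂,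
        ha₁, MonoidalCategory.whiskerLeft_comp_assoc]
    · rw [Category.assoc, Category.assoc, hq₂, hinv', whiskerLeft_snd_assoc, hq₂, reassoc_of%
        (show a₂.act ≫ φ₂ = snd G X₂ ≫ φ₂ from hinv₂)]
  have h₂ : GIT.IsGeomQuot a₂ φ₂ := h.2 q' φ₂ g' trivial hleft a₂ ha₂' hinv₂
  have hαsq : IsPullback β.left g'.left g.left α.left := IsPullback.of_hasPullback _ _
  haveI : Flat β.left := inferInstanceAs (Flat (Limits.pullback.fst g.left α.left))
  haveI : Surjective β.left := inferInstanceAs (Surjective (Limits.pullback.fst g.left α.left))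
  haveI : QuasiCompact β.left := inferInstanceAs (QuasiCompact (Limits.pullback.fst g.left α.left))
  haveI : QuasiCompact φ₁.left := MorphismProperty.of_isPullback (hpb₁.map (Over.forget _)) ‹QuasiCompact φ.left›
  exact Groth.Agent.H60.QuotDescent.isGeomQuot a₁ φ₁ hinv₁ β q φ₂ hpb₂ a₂ ha₂ h₂

end Groth.Agent.S18511
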