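import Groth.Statements.S18512
import Groth.Agent.H60.TorsQuot.Fiber
import Groth.Agent.Lib.GrpSch.TorsorMap

set_option autoImplicit false
universe u
open CategoryTheory MonoidalCategory CartesianMonoidalCategory MonObj GrpObj AlgebraicGeometry Topology
open EqInt CategoryTheory.Limits

namespace Groth.Agent.S18512

/-- Over a field k, let G be an affine group scheme of finite type, i : H → G a closed subgroup scheme
with homogeneous space G/H (a G-scheme with base point q₀ whose orbit map G → G/H is an fppf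
H-torsor with stabilizer H), and π : E → B a principal G-bundle (π is G-invariant, flat and
surjective and (σ, p₂) : G × E → E ×_B E is an isomorphism), E and B separated of finite type over
k. Then the restricted action of H on E has a principal H-bundle quotient ρ : E → Q in schemes, with
Q separated of finite type over k, and the induced morphism φ : Q → B with ρ followed by φ equal to
π is flat and surjective; if G/H is proper over k then φ is proper. (The source takes E and B
integral and also identifies Q with the balanced product E ×^G (G/H) and gives the relative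
dimension of φ; these clauses are not stated.) -/
theorem result (k : Type u) [Field k]
    (G H GH E B : Over (Spec (CommRingCat.of k))) [GrpObj G] [GrpObj H] [IsAffine G.left] [LocallyOfFiniteType G.hom]
    (i : H ⟶ G) [IsMonHom i] [IsClosedImmersion i.left]
    (aQ : AlgGrp.Action G GH) (q₀ : 𝟙_ (Over (Spec (CommRingCat.of k))) ⟶ GH)
    (hGH : ChGrp.IsHomog Scheme.fppfPrecoverage i aQ q₀) [LocallyOfFiniteType GH.hom] [QuasiCompact GH.hom]
    [LocallyOfFiniteType E.hom] [QuasiCompact E.hom] [IsSeparated E.hom]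
    [LocallyOfFiniteType B.hom] [QuasiCompact B.hom] [IsSeparated B.hom]
    (a : AlgGrp.Action G E) (π : E ⟶ B) (hinv : GIT.IsInvariant a π) [Flat π.left] [Surjective π.left]
    (hcart : IsIso (GIT.PsiY a π hinv)) :
    ∃ (Q : Over (Spec (CommRingCat.of k))) (ρ : E ⟶ Q) (hρ : GIT.IsInvariant (a.restrict i) ρ) (φ : Q ⟶ B),
      LocallyOfFiniteType Q.hom ∧ QuasiCompact Q.hom ∧ IsSeparated Q.hom ∧
      Flat ρ.left ∧ Surjective ρ.left ∧ IsIso (GIT.PsiY (a.restrict i) ρ hρ) ∧ ρ ≫ φ = π ∧
      Flat φ.left ∧ Surjective φ.left ∧ (IsProper GH.hom → IsProper φ.left) := by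
  have hsq := Groth.Agent.Lib.GrpSch.isPullback_of_isIso_PsiY a π hinv hcart
  have hcart' : IsPullback a.act (snd G E) π π :=
    IsPullback.of_map (Over.forget _) (Over.OverMorphism.ext hsq.w) hsq
  haveI : QuasiCompact (π.left ≫ B.hom) := by rw [Over.w]; infer_instance
  haveI : QuasiCompact π.left := QuasiCompact.of_comp π.left B.hom
  obtain ⟨D, h1, h2, h3⟩ := H60.TorsQuot.exists_quotient i a π hsq
  haveI := h1; haveI := h2; haveI := h3
  haveI := D.flat; haveI := D.surj
  obtain ⟨-, hπ, hloc⟩ := hGH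
  haveI : Mono i := Over.mono_of_mono_left _
  have hpG := H60.TorsQuot.isPullback_inv_orbit i (aQ.orbitMap q₀) hπ
  have hinv : IsIso ((𝟙 G)⁻¹ : G ⟶ G) := ⟨(𝟙 G)⁻¹, by simp [GrpObj.comp_inv], by simp [GrpObj.comp_inv]⟩
  haveI : IsIso ((𝟙 G)⁻¹ : G ⟶ G).left := ((Over.forget _).mapIso (asIso ((𝟙 G)⁻¹ : G ⟶ G))).isIso_hom
  let pG := (𝟙 G)⁻¹ ≫ aQ.orbitMap q₀
  let aL : AlgGrp.Action H G := (NonAbH1.trivialAction G).restrict i
  have haL : IsPullback aL.act (snd H G) pG pG := by
    rw [show aL.act = (i ▷ G) ≫ μ[G] from AlgGrp.Action.hom_ext_lift₂ fun T h g => by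
      rw [AlgGrp.Action.lift_restrict_act, lift_whiskerRight_assoc, ← Hom.mul_def]; rfl]
    exact hpG
  obtain ⟨R, hR, hsec⟩ := hloc
  have hlocG : NonAbH1.IsLocallyTrivialFor Scheme.fpqcPrecoverage (Over.mk pG.left : Over GH.left) :=
    ⟨R, Scheme.fppfPrecoverage_le_fpqcPrecoverage _ hR, fun U u hu => by
      obtain ⟨s, hs⟩ := hsec u hu
      refine ⟨s ≫ inv ((𝟙 G)⁻¹ : G ⟶ G).left, ?_⟩
      simpa [pG] using hs⟩
  haveI : Flat pG.left := H60.AssocBundle.of_group aL pG haL @Flat hlocG inferInstance
  haveI : Surjective pG.left := ⟨(H60.TorsorGeom.isGeomQuot aL pG haL hlocG).surj⟩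
  haveI : IsAffineHom G.hom := isAffineHom_of_isAffine _
  haveI : IsLocallyNoetherian GH.left := LocallyOfFiniteType.isLocallyNoetherian GH.hom
  haveI : QuasiCompact (pG.left ≫ GH.hom) := by rw [Over.w]; infer_instance
  haveI : QuasiCompact pG.left := QuasiCompact.of_comp pG.left GH.hom
  have hw : D.ψ.left ≫ B.hom = D.Z.hom := Over.w D.ψ
  refine ⟨D.Z, D.q, D.cart.w, D.ψ, ?_, ?_, ?_, D.flat, D.surj, ?_, D.fac,
    H60.TorsQuot.psi_of @Flat i pG hpG a π hcart' D inferInstance, ?_,
    fun hp => H60.TorsQuot.psi_of @IsProper i pG hpG a π hcart' D hp⟩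
  · rw [← hw]; infer_instance
  · rw [← hw]; infer_instance
  · rw [← hw]; infer_instance
  · have sq := D.cart.map (Over.forget _)
    have e : GIT.PsiY (a.restrict i) D.q D.cart.w = sq.isoPullback.hom := by
      apply Limits.pullback.hom_ext
      · rw [GIT.PsiY, Limits.pullback.lift_fst]; exact sq.isoPullback_hom_fst.symm
      · rw [GIT.PsiY, Limits.pullback.lift_snd]; exact sq.isoPullback_hom_snd.symm
    rw [e]; infer_instance
  · haveI : Surjective (D.q.left ≫ D.ψ.left) := by rw [← Over.comp_left, D.fac]; infer_instance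
    exact Surjective.of_comp D.q.left D.ψ.left

end Groth.Agent.S18512
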