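import Groth.Statements.S18515
import Mathlib.AlgebraicGeometry.ValuativeCriterion

set_option autoImplicit false
open CategoryTheory CategoryTheory.Limits MonoidalCategory CartesianMonoidalCategory MonObj GrpObj AlgebraicGeometry
universe u
open NonAbH1

namespace Groth.Agent.S18515

open CategoryTheory CategoryTheory.Limits MonoidalCategory CartesianMonoidalCategory MonObj AlgebraicGeometry

/-- Restriction of a torsor along an isomorphism of groups. -/
theorem isTorsorFor_restrict {S : Scheme.{u}} {G H Z : Over S} [GrpObj G] [GrpObj H] (φ : H ⟶ G)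
    [IsMonHom φ] [IsIso φ] (K : Precoverage Scheme.{u}) (a : AlgGrp.Action G Z)
    (h : NonAbH1.IsTorsorFor K a) : NonAbH1.IsTorsorFor K (a.restrict φ) := by
  refine ⟨?_, h.2⟩
  have : IsIso (lift a.act (snd G Z)) := h.1
  have e : lift (a.restrict φ).act (snd H Z) = (φ ▷ Z) ≫ lift a.act (snd G Z) := by
    ext <;> simp
  change IsIso (lift (a.restrict φ).act (snd H Z))
  rw [e]
  infer_instance

/-- Comparison of iterated base changes of a torsor restricted along group isomorphisms. -/
theorem nonempty_equivIso {S : Scheme.{u}} {A B C : Over S} {Z Z' : Over S} [GrpObj A] [GrpObj B]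
    [GrpObj C] (α : A ⟶ B) [IsMonHom α] (θ : B ⟶ C) [IsMonHom θ] (χ : A ⟶ C) [IsMonHom χ]
    (hθ : α ≫ θ = χ) (a : AlgGrp.Action B Z) (b : AlgGrp.Action C Z')
    (E : NonAbH1.EquivIso a (b.restrict θ)) :
    Nonempty (NonAbH1.EquivIso (a.restrict α) (b.restrict χ)) := by
  refine ⟨⟨E.iso, ?_⟩⟩
  subst hθ
  rw [AlgGrp.Action.restrict_act, AlgGrp.Action.restrict_act, Category.assoc, E.comm,
    AlgGrp.Action.restrict_act, comp_whiskerRight, Category.assoc, ← whisker_exchange_assoc]

/-- A class represented by a torsor over a complete variety is unramified at every discrete valuation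
ring of the function field. The published lemma assumes G finite, k algebraically closed of
characteristic zero and K finitely generated over k; this row allows any field k, any field K and
any affine k-group scheme of finite type: let k be a field, X a proper k-scheme, G an affine k-group
scheme of finite type and P a torsor over X, locally trivial for the etale topology, under the base
change of G. For every field K with a k-morphism e : Spec K ⟶ X (for instance the generic point of
an integral X) and every discrete valuation ring R with fraction field K containing k compatibly,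
there is a torsor Q over Spec R under the base change of G whose restriction to Spec K is
equivariantly isomorphic to the pullback of P along e, both regarded as actions of the base change
of G to Spec K through the canonical identifications of iterated base changes. -/
theorem result
    (k K R : Type u) [Field k] [Field K] [Algebra k K]
    [CommRing R] [IsDomain R] [IsDiscreteValuationRing R] [Algebra k R] [Algebra R K] [IsFractionRing R K]
    (hc : Spec.map (CommRingCat.ofHom (algebraMap R K)) ≫ Spec.map (CommRingCat.ofHom (algebraMap k R)) =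
      Spec.map (CommRingCat.ofHom (algebraMap k K)))
    (X : Scheme.{u}) (x : X ⟶ Spec (CommRingCat.of k)) [IsProper x]
    (G : Over (Spec (CommRingCat.of k))) [GrpObj G] [IsAffine G.left] [LocallyOfFiniteType G.hom]
    (P : NonAbH1.TorsorSch (Red.bc x G) Scheme.etalePrecoverage)
    (e : Spec (CommRingCat.of K) ⟶ X) (he : e ≫ x = Spec.map (CommRingCat.ofHom (algebraMap k K))) :
    ∃ Q : NonAbH1.TorsorSch (Red.bc (Spec.map (CommRingCat.ofHom (algebraMap k R))) G) Scheme.etalePrecoverage,
      Nonempty (NonAbH1.EquivIso
        ((Q.act.bc (Spec.map (CommRingCat.ofHom (algebraMap R K)))).restrict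
          (ActBC.bcCompIso (Spec.map (CommRingCat.ofHom (algebraMap R K)))
            (Spec.map (CommRingCat.ofHom (algebraMap k R))) G hc).inv)
        ((P.act.bc e).restrict (ActBC.bcCompIso e x G he).inv)) := by
  have hex : AlgebraicGeometry.ValuativeCriterion.Existence x := by
    have : UniversallyClosed x := inferInstance
    rw [UniversallyClosed.eq_valuativeCriterion] at this
    exact this.1
  obtain ⟨l⟩ := (hex ⟨R, K, e, Spec.map (CommRingCat.ofHom (algebraMap k R)),
    ⟨he.trans hc.symm⟩⟩).exists_lift
  let r : Spec (CommRingCat.of R) ⟶ Spec (CommRingCat.of k) :=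
    Spec.map (CommRingCat.ofHom (algebraMap k R))
  let j : Spec (CommRingCat.of K) ⟶ Spec (CommRingCat.of R) :=
    Spec.map (CommRingCat.ofHom (algebraMap R K))
  let e' : Spec (CommRingCat.of R) ⟶ X := l.l
  have he' : e' ≫ x = r := l.fac_right
  have hje : j ≫ e' = e := l.fac_left
  let φ : Red.bc r G ⟶ Red.bc e' (Red.bc x G) := (ActBC.bcCompIso e' x G he').inv
  refine ⟨⟨(P.bc e').X, (P.bc e').act.restrict φ,
    isTorsorFor_restrict φ _ _ (P.bc e').isTorsor⟩, ?_⟩
  change Nonempty (NonAbH1.EquivIso ((((P.act.bc e').restrict φ).bc j).restrict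
    (ActBC.bcCompIso j r G hc).inv) ((P.act.bc e).restrict (ActBC.bcCompIso e x G he).inv))
  rw [AlgGrp.Action.bc_restrict]
  let E := ActBC.equivIsoBcComp j e' hje P.act
  have hcomp : (ActBC.bcCompIso j r G hc).inv ≫ (Over.pullback j).map φ ≫
      (ActBC.bcCompIso j e' (Red.bc x G) hje).hom = (ActBC.bcCompIso e x G he).inv := by
    rw [Iso.inv_comp_eq, Iso.eq_comp_inv]
    apply Over.OverMorphism.ext
    apply pullback.hom_ext
    · simp only [Over.comp_left, Category.assoc, ActBC.bcCompIso_hom_left_fst,
        ActBC.bcCompIso_hom_left_fst_assoc, ActBC.pullback_map_left_fst_assoc]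
      congr 1
      have h1 := ActBC.bcCompIso_hom_left_fst e' x G he'
      rw [← h1, ← Category.assoc, ← Over.comp_left, Iso.inv_hom_id]
      exact Category.id_comp _
    · exact (Over.w _).trans (Over.w _).symm
  obtain ⟨F⟩ := nonempty_equivIso ((ActBC.bcCompIso j r G hc).inv ≫ (Over.pullback j).map φ)
    (ActBC.bcCompIso j e' (Red.bc x G) hje).hom (ActBC.bcCompIso e x G he).inv
    (by rw [Category.assoc, hcomp]) _ _ E
  refine ⟨⟨F.iso, ?_⟩⟩
  have := F.comm
  simpa [comp_whiskerRight] using this

end Groth.Agent.S18515
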