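import Groth.Statements.S18519
import Groth.Agent.Lib.CSA.Wedderburn
import Groth.Agent.Lib.CSA.Splitting
import Groth.Agent.Lib.CSA.Division
import Groth.Agent.Lib.BrauerSepBase
import Mathlib

set_option autoImplicit false
universe u
open scoped TensorProduct
open Brauer

namespace Groth.Agent.S18519

/-- For a field K with maximal abelian extension K_ab, cd(K_ab) ≤ 1 if and only if for every etale
K-algebra E the restriction map Br(E) ⟶ Br(E ⊗_K K_ab) is trivial; the same holds with the maximal
solvable extension. Stated here for an arbitrary separable algebraic extension F of K in place of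
K_ab (the published lemma takes for F the maximal abelian or the maximal solvable extension of K;
this row allows any separable algebraic extension), with cd(F) ≤ 1 unfolded by the Brauer-group
criterion (every finite separable extension of F has trivial Brauer group) and with etale algebras
replaced by their field factors: (a) every finite-dimensional central division algebra over a finite
separable extension F′ of F is F′ itself; if and only if (b) for every finite separable extension E
of K, every finite-dimensional central division algebra D over E and every field M containing E and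
F compatibly over K, the base change M ⊗_E D is isomorphic over M to a matrix algebra over M. -/
theorem result
    (K F : Type u) [Field K] [Field F] [Algebra K F] [Algebra.IsSeparable K F] :
    (∀ (F' : Type u) [Field F'] [Algebra F F'] [FiniteDimensional F F'] [Algebra.IsSeparable F F']
        (D : Type u) [DivisionRing D] [Algebra F' D] [Algebra.IsCentral F' D] [FiniteDimensional F' D],
        Module.finrank F' D = 1) ↔
    (∀ (E : Type u) [Field E] [Algebra K E] [FiniteDimensional K E] [Algebra.IsSeparable K E]
        (D : Type u) [DivisionRing D] [Algebra E D] [Algebra.IsCentral E D] [FiniteDimensional E D]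
        (M : Type u) [Field M] [Algebra K M] [Algebra E M] [Algebra F M] [IsScalarTower K E M]
        [IsScalarTower K F M],
        ∃ n : ℕ, Nonempty ((M ⊗[E] D) ≃ₐ[M] Matrix (Fin n) (Fin n) M)) := by
  constructor
  · intro ha E _ _ _ _ D _ _ _ _ M _ _ _ _ _ _
    -- the compositum of `E` and `F` inside `M`
    let b := Module.finBasis K E
    let s : Set M := Set.range fun i => algebraMap E M (b i)
    let F' := IntermediateField.adjoin F s
    have hint : ∀ x ∈ s, IsIntegral F x ∧ IsSeparable F x := by
      rintro _ ⟨i, rfl⟩
      have h1 : IsSeparable K (algebraMap E M (b i)) := by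
        have := Algebra.IsSeparable.isSeparable K (b i)
        exact (isSeparable_map_iff (f := IsScalarTower.toAlgHom K E M) (algebraMap E M).injective).2 this
      exact ⟨(h1.tower_top F).isIntegral, h1.tower_top F⟩
    have : FiniteDimensional F F' := IntermediateField.finiteDimensional_adjoin fun x hx => (hint x hx).1
    have : Algebra.IsSeparable F F' := (IntermediateField.isSeparable_adjoin_iff_isSeparable F M).2 fun x hx => (hint x hx).2
    have hEF : ∀ e : E, algebraMap E M e ∈ F' := fun e => by
      rw [← b.sum_repr e, map_sum]
      refine sum_mem fun i _ => ?_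
      rw [Algebra.smul_def, map_mul, ← IsScalarTower.algebraMap_apply, IsScalarTower.algebraMap_apply K F M]
      exact mul_mem (F'.algebraMap_mem _) (IntermediateField.subset_adjoin F s ⟨i, rfl⟩)
    let _ : Algebra E F' := ((algebraMap E M).codRestrict F'.toSubalgebra.toSubsemiring hEF).toAlgebra
    have : IsScalarTower E F' M := IsScalarTower.of_algebraMap_eq fun _ => rfl
    have : Algebra.IsCentral F' (F' ⊗[E] D) := Groth.Agent.Lib.CSA.Simple.isCentral_baseChange E F' D
    have : IsSimpleRing (F' ⊗[E] D) := Groth.Agent.Lib.CSA.Simple.isSimpleRing_baseChange E F' D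
    obtain ⟨n, hn, D', _, _, _, _, ⟨c⟩⟩ := Groth.Agent.Lib.CSA.Division.exists_matrix (k := F') (F' ⊗[E] D)
    have h1 := ha F' D'
    let η : D' ≃ₐ[F'] F' := (AlgEquiv.ofBijective (Algebra.ofId F' D') ⟨(algebraMap F' D').injective,
      (LinearMap.injective_iff_surjective_of_finrank_eq_finrank (f := (Algebra.ofId F' D').toLinearMap)
        (by rw [Module.finrank_self, h1])).1 (algebraMap F' D').injective⟩).symm
    obtain ⟨N, hN, ⟨f⟩⟩ := Groth.Agent.Lib.CSA.Splitting.splits_mono (k := E) (A := D) (L := F') (K := M)
      (IsScalarTower.toAlgHom E F' M) ⟨n, NeZero.ne n, ⟨c.trans η.mapMatrix⟩⟩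
    exact ⟨N, ⟨f⟩⟩
  · intro hb F' _ _ _ _ D _ _ _ _
    classical
    let _ : Algebra K F' := ((algebraMap F F').comp (algebraMap K F)).toAlgebra
    have : IsScalarTower K F F' := IsScalarTower.of_algebraMap_eq fun _ => rfl
    have hsep : Algebra.IsSeparable K F' := Algebra.IsSeparable.trans K F F'
    let b := Module.finBasis F' D
    let S : Finset F' := (Finset.univ.image fun q : Fin (Module.finrank F' D) × Fin (Module.finrank F' D) ×
      Fin (Module.finrank F' D) => b.repr (b q.1 * b q.2.1) q.2.2) ∪ Finset.univ.image fun i => b.repr 1 i
    let E := IntermediateField.adjoin K (S : Set F')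
    have : FiniteDimensional K E := IntermediateField.finiteDimensional_adjoin fun x _ =>
      (Algebra.IsSeparable.isSeparable K x).isIntegral
    obtain ⟨D₀, _, _, _, _, ⟨μ⟩⟩ := Groth.Agent.Lib.BrauerSepBase.exists_descent E F' D b
      (fun i => ⟨⟨_, IntermediateField.subset_adjoin K _
        (Finset.mem_union_right _ (Finset.mem_image_of_mem _ (Finset.mem_univ i)))⟩, rfl⟩)
      (fun i j l => ⟨⟨_, IntermediateField.subset_adjoin K _
        (Finset.mem_union_left _ (Finset.mem_image_of_mem _ (Finset.mem_univ (i, j, l))))⟩, rfl⟩)
    obtain ⟨n, ⟨e⟩⟩ := hb E D₀ F'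
    let g : D ≃ₐ[F'] Matrix (Fin n) (Fin n) F' := μ.symm.trans e
    rw [g.toLinearEquiv.finrank_eq, Module.finrank_matrix, Module.finrank_self, Fintype.card_fin, mul_one]
    rcases n with _ | _ | n
    · exact absurd (g.injective (Subsingleton.elim (g 0) (g 1))) zero_ne_one
    · rfl
    · exfalso
      have h0 : (Matrix.single (0 : Fin (n + 2)) (1 : Fin (n + 2)) (1 : F')) * Matrix.single (0 : Fin (n + 2)) (1 : Fin (n + 2)) (1 : F') = 0 :=
        Matrix.single_mul_single_of_ne _ _ _ _ (by simp) _
      have h1 := congrArg g.symm h0
      rw [map_mul, map_zero, mul_self_eq_zero, map_eq_zero_iff _ g.symm.injective] at h1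
      simpa using congr_fun₂ h1 (0 : Fin (n + 2)) (1 : Fin (n + 2))

end Groth.Agent.S18519
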