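import Groth.Statements.S18527
import Groth.Agent.Lib.ParPoly.Stab

set_option autoImplicit false
universe u
open CategoryTheory CategoryTheory.Limits AlgebraicGeometry Polynomial
open ParSh

namespace Groth.Agent.S18527

/-- An upper and a lower bound for the second coefficient of the parabolic Hilbert polynomial. Let X be
a scheme proper over a field k with an ample invertible sheaf L, I the ideal of an effective Cartier
divisor D on X, and E a coherent O_X-module with a finite weighted filtration 𝓔 along I by coherent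
pieces E = E₀ ⊇ ⋯ ⊇ E_l ⊇ E_{l+1} = I·E, weights 0 ≤ w₀ < ⋯ < w_l < 1. Let d ≥ 1 be a natural number
with Supp E ∩ Supp D of topological Krull dimension less than d, P the Hilbert polynomial of E with
respect to L and P_j that of E_j (0 ≤ j ≤ l+1). Then the coefficient of degree d − 1 of the
parabolic Hilbert polynomial P_{l+1} + Σ_{j ≤ l} w_j (P_j − P_{j+1}) is at least the coefficient of
degree d − 1 of P_{l+1} and at most that of P. For E pure of dimension d this says that the
parabolic slope lies between the slope of E(−D) and the slope of E; the published statement also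
gives a lower bound μ(E) − b with b depending only on a bound for the multiplicity of E, on d, D and
L, which is not part of this row. -/
theorem result (k : Type u) [Field k] (X : Scheme.{u})
    [X.Over (Spec (CommRingCat.of k))] [IsProper (X ↘ Spec (CommRingCat.of k))]
    (L : X.Modules) (hL : CohB1.IsAmple L) (I : X.IdealSheafData) (hD : FGA.IsEffCartier I)
    (E : X.Modules) (hE : Coh.IsCoh E) (𝓔 : ParSh.Str E) (h𝓔 : 𝓔.Along I)
    (hcoh : ∀ j, Coh.IsCoh ((𝓔.pieceX j : Subobject E) : X.Modules)) (d : ℕ) (hd : 1 ≤ d)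
    (hsupp : topologicalKrullDim ↥(CohB1.support E ∩ (I.support : Set X)) < (d : WithBot ℕ∞))
    (P : ℚ[X]) (hP : ShStab.IsHilbPoly k X L E P) (PX : Fin (𝓔.l + 2) → ℚ[X])
    (hPX : ∀ j, ShStab.IsHilbPoly k X L ((𝓔.pieceX j : Subobject E) : X.Modules) (PX j)) :
    (W4swparbununimod.rpoly (PX (Fin.last (𝓔.l + 1)))).coeff (d - 1) ≤ (W4swparbununimod.parPoly 𝓔 PX).coeff (d - 1) ∧
      (W4swparbununimod.parPoly 𝓔 PX).coeff (d - 1) ≤ (W4swparbununimod.rpoly P).coeff (d - 1) := by
  open Groth.Agent.Lib Groth.Agent.Lib.ParPoly.Asymp Groth.Agent.Lib.ParPoly.Basic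
    Groth.Agent.Lib.ParPoly.Stab in
    obtain ⟨H, hH⟩ : ∃ H : Fin (𝓔.l + 2) → Polynomial ℚ,
        ∀ j, ShStab.IsHilbPoly k X L (cokernel (𝓔.pieceX j).arrow) (H j) :=
      Classical.skolem.1 fun j => exists_poly (k := k) hL (isCoh_coker _ (hcoh j) hE)
    have hb := quot_bound hL hE 𝓔 hcoh h𝓔 hsupp hH
    have hm := coeff_le_last hL hE 𝓔 hcoh h𝓔 hsupp hH
    have e := piece_eq hL 𝓔 hE hcoh hP hPX hH (Fin.last (𝓔.l + 1))
    rw [parPoly_quot hL hE 𝓔 hcoh hP hPX hH, show PX (Fin.last (𝓔.l + 1)) = P - H (Fin.last (𝓔.l + 1)) by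
      rw [e]; abel]
    simp only [Polynomial.coeff_sub, Polynomial.coeff_map, Polynomial.finsetSum_coeff,
      Polynomial.coeff_C_mul, Rat.coe_castHom, Rat.cast_sub]
    have h1 : ∑ j, step 𝓔 j * (((H j.succ).coeff (d - 1) : ℚ) : ℝ) ≤
        ∑ j, step 𝓔 j * (((H (Fin.last (𝓔.l + 1))).coeff (d - 1) : ℚ) : ℝ) :=
      Finset.sum_le_sum fun j _ => mul_le_mul_of_nonneg_left (by exact_mod_cast hm j.succ) (step_nonneg 𝓔 j)
    rw [← Finset.sum_mul] at h1
    have h2 : (0 : ℝ) ≤ (((H (Fin.last (𝓔.l + 1))).coeff (d - 1) : ℚ) : ℝ) := by exact_mod_cast (hb _).2.2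
    have h3 : ∑ j, step 𝓔 j ≤ 1 := by linarith [sum_step 𝓔, 𝓔.wt_nonneg]
    have h4 : 0 ≤ ∑ j, step 𝓔 j * (((H j.succ).coeff (d - 1) : ℚ) : ℝ) :=
      Finset.sum_nonneg fun j _ => mul_nonneg (step_nonneg 𝓔 j) (by exact_mod_cast (hb _).2.2)
    exact ⟨by nlinarith, by linarith⟩

end Groth.Agent.S18527
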