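import Groth.Statements.S18529
import Groth.Agent.Lib.ParPoly.KerImage

set_option autoImplicit false
set_option maxHeartbeats 800000
universe u
open CategoryTheory CategoryTheory.Limits AlgebraicGeometry Polynomial
open ParSh

namespace Groth.Agent.S18529

/-- Kernel and image of a parabolic homomorphism between semistable parabolic sheaves with the same
reduced parabolic Hilbert polynomial, for one divisor. Let X be a scheme proper over a field k with
an ample invertible sheaf L, I the ideal of an effective Cartier divisor D on X, and d ≥ 1. Let E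
and F be nonzero coherent O_X-modules, pure of dimension d, with Supp E ∩ Supp D and Supp F ∩ Supp D
of topological Krull dimension less than d, carrying finite weighted filtrations 𝓔 and 𝓕 along I by
coherent pieces, with the same set of weights and with smallest weight positive. Let P and R be the
Hilbert polynomials of E and F, P_j and R_j those of the pieces, and Par_E = P_{l+1} + Σ_j w_j (P_j
− P_{j+1}), Par_F likewise; α_d denotes d! times the coefficient of degree d. Assume both filtered
sheaves are semistable for the reduced parabolic Hilbert polynomial: for every nonzero coherent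
sub-module W → E whose cokernel is pure of dimension d or zero, with its induced filtration and any
Hilbert polynomials Q of W and Q_j of its pieces, Par_W(m)·α_d(P) ≤ Par_E(m)·α_d(Q) for all large
natural m (and the same for F); and assume Par_E·α_d(R) = Par_F·α_d(P). Let f : E → F be a parabolic
homomorphism, j : K → E a monomorphism with 0 → K → E → F exact at E, and f = q ≫ u with q : E → V
an epimorphism and u : V → F a monomorphism. Then: (1) for all Hilbert polynomials Q_K of K and
Q_{K,j} of the pieces of the filtration induced on K, Par_K·α_d(P) = Par_E·α_d(Q_K) (the kernel has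
the same reduced parabolic Hilbert polynomial); (2) the cokernel of u is pure of dimension d or zero
(the image of f is saturated in F); (3) for every real a with 0 ≤ a ≤ 1, the a-th piece of the
filtration induced on V as a quotient of E equals the a-th piece of the filtration induced on V as a
sub-module of F. The published statement is phrased for parabolic sheaves along several divisors on
the fibres of a projective X → S over an algebraically closed field and concludes that such sheaves
form an abelian category; this row is the absolute one-divisor case of the kernel and image steps of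
its proof, with semistability tested on saturated sub-modules carrying the induced filtration. -/
theorem result (k : Type u) [Field k] (X : Scheme.{u})
    [X.Over (Spec (CommRingCat.of k))] [IsProper (X ↘ Spec (CommRingCat.of k))]
    (L : X.Modules) (hL : CohB1.IsAmple L) (I : X.IdealSheafData) (hD : FGA.IsEffCartier I) (d : ℕ) (hd : 1 ≤ d)
    {E F : X.Modules} (hE : Coh.IsCoh E) (hF : Coh.IsCoh F) (hE0 : ¬ IsZero E) (hF0 : ¬ IsZero F)
    (hEp : ShStab.IsPure X E d) (hFp : ShStab.IsPure X F d)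
    (hEs : topologicalKrullDim ↥(CohB1.support E ∩ (I.support : Set X)) < (d : WithBot ℕ∞))
    (hFs : topologicalKrullDim ↥(CohB1.support F ∩ (I.support : Set X)) < (d : WithBot ℕ∞))
    (𝓔 : ParSh.Str E) (h𝓔 : 𝓔.Along I) (𝓕 : ParSh.Str F) (h𝓕 : 𝓕.Along I)
    (hcE : ∀ j, Coh.IsCoh ((𝓔.pieceX j : Subobject E) : X.Modules))
    (hcF : ∀ j, Coh.IsCoh ((𝓕.pieceX j : Subobject F) : X.Modules))
    (hw : Set.range 𝓕.wt = Set.range 𝓔.wt) (hw0 : 0 < 𝓔.wt 0)
    (P R : ℚ[X]) (hP : ShStab.IsHilbPoly k X L E P) (hR : ShStab.IsHilbPoly k X L F R)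
    (PX : Fin (𝓔.l + 2) → ℚ[X]) (hPX : ∀ j, ShStab.IsHilbPoly k X L ((𝓔.pieceX j : Subobject E) : X.Modules) (PX j))
    (RX : Fin (𝓕.l + 2) → ℚ[X]) (hRX : ∀ j, ShStab.IsHilbPoly k X L ((𝓕.pieceX j : Subobject F) : X.Modules) (RX j))
    (hssE : (∀ (W : X.Modules) (ι : W ⟶ E), Mono ι → Coh.IsCoh W → ¬ IsZero W → ShStab.IsPure X (cokernel ι) d →
        ∀ (Q : ℚ[X]) (QX : Fin (𝓔.l + 2) → ℚ[X]), ShStab.IsHilbPoly k X L W Q →
          (∀ j, ShStab.IsHilbPoly k X L (((𝓔.induced ι).pieceX j : Subobject W) : X.Modules) (QX j)) →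
          ∃ M : ℕ, ∀ m : ℕ, M ≤ m →
            (W4swparbununimod.parPoly (𝓔.induced ι) QX).eval (m : ℝ) * (StabCat.alpha d P : ℝ) ≤
              (W4swparbununimod.parPoly 𝓔 PX).eval (m : ℝ) * (StabCat.alpha d Q : ℝ)))
    (hssF : (∀ (W : X.Modules) (ι : W ⟶ F), Mono ι → Coh.IsCoh W → ¬ IsZero W → ShStab.IsPure X (cokernel ι) d →
        ∀ (Q : ℚ[X]) (QX : Fin (𝓕.l + 2) → ℚ[X]), ShStab.IsHilbPoly k X L W Q →
          (∀ j, ShStab.IsHilbPoly k X L (((𝓕.induced ι).pieceX j : Subobject W) : X.Modules) (QX j)) →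
          ∃ M : ℕ, ∀ m : ℕ, M ≤ m →
            (W4swparbununimod.parPoly (𝓕.induced ι) QX).eval (m : ℝ) * (StabCat.alpha d R : ℝ) ≤
              (W4swparbununimod.parPoly 𝓕 RX).eval (m : ℝ) * (StabCat.alpha d Q : ℝ)))
    (hred : W4swparbununimod.parPoly 𝓔 PX * Polynomial.C (StabCat.alpha d R : ℝ) =
      W4swparbununimod.parPoly 𝓕 RX * Polynomial.C (StabCat.alpha d P : ℝ))
    (f : E ⟶ F) (hf : ParSh.IsParHom 𝓔 𝓕 f)
    {K V : X.Modules} (j : K ⟶ E) [Mono j] (w : j ≫ f = 0) (hex : (ShortComplex.mk j f w).Exact)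
    (q : E ⟶ V) [Epi q] (u : V ⟶ F) [Mono u] (hqu : q ≫ u = f) :
    (∀ (QK : ℚ[X]) (QKX : Fin (𝓔.l + 2) → ℚ[X]), ShStab.IsHilbPoly k X L K QK →
        (∀ j', ShStab.IsHilbPoly k X L (((𝓔.induced j).pieceX j' : Subobject K) : X.Modules) (QKX j')) →
        W4swparbununimod.parPoly (𝓔.induced j) QKX * Polynomial.C (StabCat.alpha d P : ℝ) =
          W4swparbununimod.parPoly 𝓔 PX * Polynomial.C (StabCat.alpha d QK : ℝ)) ∧
    ShStab.IsPure X (cokernel u) d ∧
    (∀ a : ℝ, 0 ≤ a → a ≤ 1 → (𝓔.coinduced q).at a = (𝓕.induced u).at a) := by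
  open Groth.Agent.Lib Groth.Agent.Lib.ParPoly.Asymp Groth.Agent.Lib.ParPoly.Basic
    Groth.Agent.Lib.ParPoly.KerImage in
    haveI := Curves.GlobalSections.isNoetherian_of_proper k X
    have wq : j ≫ q = 0 := by
      rw [← cancel_mono u, Category.assoc, hqu, w, Limits.zero_comp]
    have hS : (ShortComplex.mk j q wq).ShortExact := by
      let φ : ShortComplex.mk j q wq ⟶ ShortComplex.mk j f w :=
        { τ₁ := 𝟙 K, τ₂ := 𝟙 E, τ₃ := u }
      haveI : Epi φ.τ₁ := inferInstanceAs (Epi (𝟙 K))
      haveI : IsIso φ.τ₂ := inferInstanceAs (IsIso (𝟙 E))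
      haveI : Mono φ.τ₃ := inferInstanceAs (Mono u)
      exact { exact := (ShortComplex.exact_iff_of_epi_of_isIso_of_mono φ).2 hex }
    have hKc : Coh.IsCoh K := CohBasics.Closure.isCoh_of_iso
      ((kernelIsKernel f).conePointUniqueUpToIso hex.fIsKernel)
      (CohBasics.Closure.isCoh_kernel f hE hF.1)
    have hVc : Coh.IsCoh V := CohBasics.Closure.isCoh_of_iso
      ((cokernelIsCokernel j).coconePointUniqueUpToIso hS.gIsCokernel) (isCoh_coker j hKc hE)
    have hVp : ShStab.IsPure X V d := fun G κ hκ hG h0 => by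
      haveI := hκ
      exact hFp G (κ ≫ u) inferInstance hG h0
    have hKp : ShStab.IsPure X (cokernel j) d := fun G κ hκ hG h0 => by
      haveI := hκ
      exact hVp G (κ ≫ ((cokernelIsCokernel j).coconePointUniqueUpToIso hS.gIsCokernel).hom)
        inferInstance hG h0
    obtain ⟨V', ι', g, hι', hg, hV'c, hV'p, ha⟩ := exists_saturation (k := k) hL hF hFp u hVc
    haveI := hι'
    haveI : Mono g := mono_of_mono_fac hg
    obtain ⟨QV, hQV⟩ := exists_poly (k := k) hL hVc
    obtain ⟨QV', hQV'⟩ := exists_poly (k := k) hL hV'c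
    obtain ⟨QK₀, hQK₀⟩ := exists_poly (k := k) hL hKc
    rw [ShStab.SubLattice.hp_eq k L hQV', ShStab.SubLattice.hp_eq k L hQV] at ha
    have haP : StabCat.alpha d P = StabCat.alpha d QK₀ + StabCat.alpha d QV := by
      have e := ShStab.SubLattice.hp_add k hL hS hKc hE hVc
      rw [ShStab.SubLattice.hp_eq k L hP, ShStab.SubLattice.hp_eq k L hQK₀,
        ShStab.SubLattice.hp_eq k L hQV] at e
      rw [e, ShStab.PolyOrder.alpha_add]
    have hP0 : (0 : ℝ) < (StabCat.alpha d P : ℝ) := by
      exact_mod_cast (deg_pure hL hEp (𝟙 E) hE hP).2 hE0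
    have hR0 : (0 : ℝ) < (StabCat.alpha d R : ℝ) := by
      exact_mod_cast (deg_pure hL hFp (𝟙 F) hF hR).2 hF0
    have hadd : ∀ m, (𝓔.induced j).parHilb k X L m + (𝓔.coinduced q).parHilb k X L m =
        𝓔.parHilb k X L m := fun m =>
      ParBun.Proper.parHilb_add (k := k) (Ample.Pow.isAmple_iff.1 hL).1 j q wq hS hVc 𝓔 hcE m
    have hEF : ∀ m : ℕ, 𝓔.parHilb k X L m * (StabCat.alpha d R : ℝ) =
        𝓕.parHilb k X L m * (StabCat.alpha d P : ℝ) := fun m => by
      have h := congrArg (fun p : Polynomial ℝ => p.eval (m : ℝ)) hred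
      simp only [Polynomial.eval_mul, Polynomial.eval_C] at h
      rwa [parPoly_eval 𝓔 hPX, parPoly_eval 𝓕 hRX] at h
    have hcC : ∀ i, Coh.IsCoh (((𝓔.coinduced q).pieceX i : Subobject V) : X.Modules) :=
      isCoh_coinduced (k := k) hL 𝓔 q hcE hVc
    have hcI : ∀ i, Coh.IsCoh (((𝓕.induced u).pieceX i : Subobject V) : X.Modules) :=
      isCoh_induced (k := k) hL 𝓕 hF hcF u hVc
    have hmono : ∀ a : ℝ, 0 ≤ a → a ≤ 1 →
        ∃ m : (((𝓔.coinduced q).at a : Subobject V) : X.Modules) ⟶ (((𝓕.induced u).at a : Subobject V) : X.Modules),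
          Mono m ∧ m ≫ ((𝓕.induced u).at a).arrow = ((𝓔.coinduced q).at a).arrow := fun a ha0 ha1 => by
      obtain ⟨m, hm, hme⟩ := ParBun.Exact.exists_mono_at 𝓔 𝓕 hf q u (𝟙 V) (by simpa using hqu) a ha0 ha1
      exact ⟨m, hm, hme.trans (Category.comp_id _)⟩
    obtain ⟨hCI, hcmp⟩ := compare (k := k) hL (𝓔.coinduced q) (𝓕.induced u) hw hcC hcI hmono
    -- the induced structures of `V ⊆ V'`
    obtain ⟨UX, hUX⟩ : ∃ UX : Fin (𝓕.l + 2) → Polynomial ℚ,
        ∀ i, ShStab.IsHilbPoly k X L (((𝓕.induced u).pieceX i : Subobject V) : X.Modules) (UX i) :=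
      Classical.skolem.1 fun i => exists_poly (k := k) hL (hcI i)
    obtain ⟨VX, hVX⟩ : ∃ VX : Fin (𝓕.l + 2) → Polynomial ℚ,
        ∀ i, ShStab.IsHilbPoly k X L (((𝓕.induced ι').pieceX i : Subobject V') : X.Modules) (VX i) :=
      Classical.skolem.1 fun i => exists_poly (k := k) hL (isCoh_induced (k := k) hL 𝓕 hF hcF ι' hV'c i)
    have hIV := ParPoly.Stab.parPoly_mono hL hF 𝓕 hcF u ι' g hg hVc hV'c hUX hVX
    have h1 := test hL hE 𝓔 hcE hPX hssE j hKc hKp hQK₀
    have h2 := test hL hF 𝓕 hcF hRX hssF ι' hV'c hV'p hQV'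
    have all : ∀ᶠ m : ℕ in Filter.atTop,
        (𝓔.induced j).parHilb k X L m * (StabCat.alpha d P : ℝ) =
          𝓔.parHilb k X L m * (StabCat.alpha d QK₀ : ℝ) ∧
        (𝓕.induced u).parHilb k X L m ≤ (𝓔.coinduced q).parHilb k X L m ∧
        (𝓕.induced ι').parHilb k X L m ≤ (𝓕.induced u).parHilb k X L m := by
      refine ((hCI.and hIV).and (h1.and h2)).mono fun m hm => ?_
      obtain ⟨⟨a1, a2⟩, a3, a4⟩ := hm
      rw [parPoly_eval (𝓕.induced u) hUX, parPoly_eval (𝓕.induced ι') hVX] at a2
      rw [ha] at a4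
      have e := hadd m
      have e' := hEF m
      have eP : (StabCat.alpha d P : ℝ) = (StabCat.alpha d QK₀ : ℝ) + (StabCat.alpha d QV : ℝ) := by
        exact_mod_cast haP
      have b1 : (𝓕.induced ι').parHilb k X L m * (StabCat.alpha d P : ℝ) ≤
          𝓔.parHilb k X L m * (StabCat.alpha d QV : ℝ) := by
        refine le_of_mul_le_mul_right ?_ hR0
        calc _ = (𝓕.induced ι').parHilb k X L m * (StabCat.alpha d R : ℝ) * (StabCat.alpha d P : ℝ) := by ring
          _ ≤ 𝓕.parHilb k X L m * (StabCat.alpha d QV : ℝ) * (StabCat.alpha d P : ℝ) :=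
              mul_le_mul_of_nonneg_right a4 hP0.le
          _ = 𝓕.parHilb k X L m * (StabCat.alpha d P : ℝ) * (StabCat.alpha d QV : ℝ) := by ring
          _ = 𝓔.parHilb k X L m * (StabCat.alpha d R : ℝ) * (StabCat.alpha d QV : ℝ) := by rw [e']
          _ = _ := by ring
      have b2 : 𝓔.parHilb k X L m * (StabCat.alpha d QV : ℝ) ≤
          (𝓔.coinduced q).parHilb k X L m * (StabCat.alpha d P : ℝ) := by
        rw [eP] at a3 ⊢
        nlinarith [a3, e]
      have b3 := mul_le_mul_of_nonneg_right a1 hP0.le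
      have b4 := mul_le_mul_of_nonneg_right a2 hP0.le
      refine ⟨?_, le_of_mul_le_mul_right (by linarith) hP0, le_of_mul_le_mul_right (by linarith) hP0⟩
      have b5 : (𝓔.coinduced q).parHilb k X L m * (StabCat.alpha d P : ℝ) =
          𝓔.parHilb k X L m * (StabCat.alpha d QV : ℝ) := by linarith
      rw [eP] at b5 ⊢
      nlinarith [b5, e]
    refine ⟨fun QK QKX hQK hQKX => ?_, ?_, fun a _ _ => hcmp (all.mono fun m h => h.2.1) a⟩
    · obtain ⟨N, hN⟩ := Filter.eventually_atTop.1 all
      obtain rfl : QK = QK₀ := ShStab.HilbPoly.eq_of_isHilbPoly hQK hQK₀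
      refine Polynomial.eq_of_infinite_eval_eq _ _ (Set.infinite_of_injective_forall_mem
        (f := fun i : ℕ => ((i + N : ℕ) : ℝ)) (fun x y h => by simpa using h) fun i => ?_)
      simp only [Set.mem_setOf_eq, Polynomial.eval_mul, Polynomial.eval_C]
      rw [parPoly_eval 𝓔 hPX, parPoly_eval (𝓔.induced j) hQKX]
      exact (hN (i + N) (by omega)).1
    · haveI : IsIso g := by
        refine isIso_of_eventually (k := k) hL g hVc hV'c ?_
        have hl := Classical.skolem.1 fun i : Fin (𝓕.l + 2) => exists_poly (k := k) hL (hcF i)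
        have hw0' : 0 < 𝓕.wt 0 := by
          obtain ⟨i, hi⟩ := hw ▸ Set.mem_range_self (f := 𝓕.wt) 0
          exact hi ▸ hw0.trans_le (𝓔.wt_strictMono.monotone (Fin.zero_le i))
        have key : ∀ i : Fin (𝓕.l + 2), ∀ᶠ m : ℕ in Filter.atTop,
            χ k L (((𝓕.induced u).pieceX i : Subobject V) : X.Modules) m ≤
              χ k L (((𝓕.induced ι').pieceX i : Subobject V') : X.Modules) m := fun i => by
          have c1 := hcI i
          have c2 := isCoh_induced (k := k) hL 𝓕 hF hcF ι' hV'c i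
          rw [ParBun.Exact.induced_pieceX] at c1 c2 ⊢
          rw [ParBun.Exact.induced_pieceX]
          let l := (Subobject.isPullback ι' (𝓕.pieceX i)).lift (Subobject.pullbackπ u (𝓕.pieceX i))
            (((Subobject.pullback u).obj (𝓕.pieceX i)).arrow ≫ g)
            (by rw [Category.assoc, hg]; exact (Subobject.isPullback u (𝓕.pieceX i)).w)
          haveI : Mono l := mono_of_mono_fac ((Subobject.isPullback ι' (𝓕.pieceX i)).lift_snd _ _ _)
          exact χ_le (k := k) hL l c1 c2
        refine ((all.and (Filter.eventually_all.2 key))).mono fun m hm => ?_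
        obtain ⟨⟨-, -, hle⟩, hk⟩ := hm
        rw [parHilb_eq (𝓕.induced u), parHilb_eq (𝓕.induced ι')] at hle
        have hs : ∑ i, step (𝓕.induced u) i * χ k L (((𝓕.induced u).pieceX i.succ : Subobject V) : X.Modules) m ≤
            ∑ i, step (𝓕.induced ι') i * χ k L (((𝓕.induced ι').pieceX i.succ : Subobject V') : X.Modules) m :=
          Finset.sum_le_sum fun i _ => mul_le_mul_of_nonneg_left (hk i.succ) (step_nonneg 𝓕 i)
        have h0 : 𝓕.wt 0 * χ k L (((𝓕.induced ι').pieceX 0 : Subobject V') : X.Modules) m ≤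
            𝓕.wt 0 * χ k L (((𝓕.induced u).pieceX 0 : Subobject V) : X.Modules) m := by
          have e1 : (𝓕.induced u).wt 0 = 𝓕.wt 0 := rfl
          have e2 : (𝓕.induced ι').wt 0 = 𝓕.wt 0 := rfl
          rw [e1, e2] at hle
          linarith
        have hV0 := ParPoly.Basic.piece_zero_eq hL (𝓕.induced u) hcI hQV hUX
        have hV0' := ParPoly.Basic.piece_zero_eq hL (𝓕.induced ι')
          (isCoh_induced (k := k) hL 𝓕 hF hcF ι' hV'c) hQV' hVX
        rw [χ_eq hQV, χ_eq hQV', ← hV0, ← hV0', ← χ_eq (hUX 0), ← χ_eq (hVX 0)]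
        exact le_of_mul_le_mul_left h0 hw0'
      exact fun G κ hκ hG h0 => by
        haveI := hκ
        exact hV'p G (κ ≫ (cokernel.mapIso u ι' (asIso g) (Iso.refl F) (by simp [hg])).hom) inferInstance hG h0

end Groth.Agent.S18529
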