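import Groth.Statements.S1853
import Groth.Agent.Lib.CycDet.Chain

set_option autoImplicit false
universe u
open CycDet

namespace Groth.Agent.S1853

open Groth.Agent.Lib.CycDet Groth.Agent.Lib.Cyc.Retr.Idx IsLocalRing

variable {R : Type u} [CommRing R] [IsNoetherianRing R] [IsLocalRing R] {q : PrimeSpectrum R}
  {M : Type u} [AddCommGroup M] [Module R M]

theorem eq_zero_of_smul {l : ℕ} {x : Fin l → M}
    (hx : ∀ (i : Fin l) (a : R), a • x i ∈ spanBefore R M x i ↔ a ∈ q.asIdeal)
    (htop : Submodule.span R (Set.range x) = ⊤) {v : M} {t : R} (ht : t ∉ q.asIdeal) (h : t • v = 0) :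
    v = 0 := by
  have key : ∀ i, i ≤ l → ∀ v ∈ spanBefore R M x i, t • v = 0 → v = 0 := by
    intro i
    induction i with
    | zero => intro _ v hv _; rwa [spanBefore_zero, Submodule.mem_bot] at hv
    | succ i ih =>
      intro hi v hv h0
      refine ih (Nat.le_of_succ_le hi) v ?_ h0
      have hs := GoodSeq.spanBefore_succ (R := R) x ⟨i, hi⟩
      dsimp only at hs
      rw [hs] at hv
      obtain ⟨w, hw, y, hy, rfl⟩ := Submodule.mem_sup.1 hv
      obtain ⟨a, rfl⟩ := Submodule.mem_span_singleton.1 hy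
      have h2 : (t * a) • x ⟨i, hi⟩ ∈ spanBefore R M x i := by
        rw [smul_add, add_eq_zero_iff_eq_neg, smul_smul] at h0
        rw [show (t * a) • x ⟨i, hi⟩ = -(t • w) by rw [h0, neg_neg]]
        exact neg_mem (Submodule.smul_mem _ t hw)
      exact add_mem hw ((hx ⟨i, hi⟩ a).2 ((q.2.mem_or_mem ((hx ⟨i, hi⟩ _).1 h2)).resolve_left ht))
  exact key l le_rfl v (by rw [Det.spanBefore_last, htop]; trivial) h

theorem mk_injective {l : ℕ} {x : Fin l → M}
    (hx : ∀ (i : Fin l) (a : R), a • x i ∈ spanBefore R M x i ↔ a ∈ q.asIdeal)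
    (htop : Submodule.span R (Set.range x) = ⊤) :
    Function.Injective (LocalizedModule.mkLinearMap q.asIdeal.primeCompl M) := by
  rw [injective_iff_map_eq_zero]
  intro v hv
  obtain ⟨⟨t, ht⟩, htv⟩ := (IsLocalizedModule.eq_zero_iff q.asIdeal.primeCompl
    (LocalizedModule.mkLinearMap q.asIdeal.primeCompl M)).1 hv
  exact eq_zero_of_smul hx htop ht htv

theorem chain_map {N : Type u} [AddCommGroup N] [Module R N] {f : M →ₗ[R] N} (hf : Function.Injective f)
    {l : ℕ} {x : Fin l → M} (hx : ∀ (i : Fin l) (a : R), a • x i ∈ spanBefore R M x i ↔ a ∈ q.asIdeal) :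
    ∀ (i : Fin l) (a : R), a • f (x i) ∈ spanBefore R N (fun j => f (x j)) i ↔ a ∈ q.asIdeal := by
  intro i a
  rw [← hx i a, spanBefore, show (fun j => f (x j)) = ⇑f ∘ x from rfl, Set.image_comp, Submodule.span_image,
    ← map_smul]
  exact Function.Injective.mem_set_image hf

theorem span_mk_eq_top {l : ℕ} {x : Fin l → M} (htop : Submodule.span R (Set.range x) = ⊤) :
    spanBefore (Localization.AtPrime q.asIdeal) (LocalizedModule q.asIdeal.primeCompl M)
      (fun i => LocalizedModule.mkLinearMap q.asIdeal.primeCompl M (x i)) l = ⊤ := by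
  rw [Det.spanBefore_last, Set.range_comp' (LocalizedModule.mkLinearMap q.asIdeal.primeCompl M) x]
  exact span_eq_top_of_isLocalizedModule (Localization.AtPrime q.asIdeal) q.asIdeal.primeCompl _ htop

theorem qlen_top (B : Submodule R M) : qlen ⊤ B = Module.length R (M ⧸ B) :=
  (Submodule.Quotient.equiv (B.comap (⊤ : Submodule R M).subtype) B Submodule.topEquiv
    (Submodule.map_comap_eq_of_surjective (f := Submodule.topEquiv.toLinearMap)
      Submodule.topEquiv.surjective B)).length_eq


/-- Let R be Noetherian local, 𝔮 a prime with dim R/𝔮 = 1, and φ : M → N a map of finite modules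
generated by x₁, …, x_l and y₁, …, y_l respectively, with all successive quotients
⟨x₁..x_i⟩/⟨x₁..x_{i−1}⟩ and ⟨y₁..y_i⟩/⟨y₁..y_{i−1}⟩ isomorphic to R/𝔮. Then φ is injective iff φ_𝔮
is bijective; and in that case, if the symbols of (φ(x_i)) and (y_i) in det_{κ(𝔮)}(N_𝔮) differ by
the scalar f, the length of coker φ equals ord_{R/𝔮}(f). -/
theorem result (R : Type u) [CommRing R] [IsNoetherianRing R] [IsLocalRing R] (q : PrimeSpectrum R) (hq : ringKrullDim (R ⧸ q.asIdeal) = 1) (M N : Type u) [AddCommGroup M] [Module R M] [AddCommGroup N] [Module R N] [Module.Finite R M] [Module.Finite R N] (φ : M →ₗ[R] N) (l : ℕ) (x : Fin l → M) (y : Fin l → N) (hx : Submodule.span R (Set.range x) = ⊤) (hy : Submodule.span R (Set.range y) = ⊤) (hxq : ∀ i : Fin l, Nonempty ((↥(CycDet.spanBefore R M x (i + 1)) ⧸ (CycDet.spanBefore R M x i).submoduleOf (CycDet.spanBefore R M x (i + 1))) ≃ₗ[R] (R ⧸ q.asIdeal))) (hyq : ∀ i : Fin l, Nonempty ((↥(CycDet.spanBefore R N y (i + 1)) ⧸ (CycDet.spanBefore R N y i).submoduleOf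 (CycDet.spanBefore R N y (i + 1))) ≃ₗ[R] (R ⧸ q.asIdeal))) : (Function.Injective φ ↔ Function.Bijective (LocalizedModule.map q.asIdeal.primeCompl φ)) ∧ (Function.Injective φ → ∀ (hl : (Module.length (Localization.AtPrime q.asIdeal) (LocalizedModule q.asIdeal.primeCompl N)).toNat = l) (ex ey : CycDet.Adm (Localization.AtPrime q.asIdeal) (LocalizedModule q.asIdeal.primeCompl N) (Module.length (Localization.AtPrime q.asIdeal) (LocalizedModule q.asIdeal.primeCompl N)).toNat) (f : q.asIdeal.ResidueField), (ex.1 = fun i => LocalizedModule.mkLinearMap q.asIdeal.primeCompl N (φ (x (Fin.cast hl i)))) → (ey.1 = fun i => LocalizedModule.mkLinearMap q.asIdeal.primeCompl N (y (Fin.cast hl i))) → CycDet.symbol (Localization.AtPrime q.asIdeal) (LocalizedModule q.asIdeal.primeCompl N) ex = f • CycDet.symbol (Localization.AtPrime q.asIdeal) (LocalizedModule q.asIdeal.primeCompl N) ey → ∃ n : ℕ, Module.length R (N ⧸ LinearMap.range φ) = n ∧ (n : ℤ) = CycAlg.ordFrac (R ⧸ q.asIdeal) q.asIdeal.ResidueField f) :=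 by
  have hx' := (GoodSeq.chain_bot_iff x).2 hxq
  have hy' := (GoodSeq.chain_bot_iff y).2 hyq
  simp only [GoodSeq.Chain, SB_bot] at hx' hy'
  have hmx := mk_injective hx' hx
  have hmy := mk_injective hy' hy
  set S := q.asIdeal.primeCompl
  set η := LocalizedModule.mkLinearMap S N
  have hXtop := span_mk_eq_top (q := q) hx
  have hYtop := span_mk_eq_top (q := q) hy
  have hX := chain_map hmx hx'
  have hY := chain_map hmy hy'
  have hlenX := Omega.len_bot hX hXtop
  have hlenY := Omega.len_bot hY hYtop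
  rw [len, (Submodule.quotEquivOfEqBot _ rfl).length_eq] at hlenX hlenY
  have hsq : ∀ m, LocalizedModule.map S φ (LocalizedModule.mkLinearMap S M m) = η (φ m) := fun m =>
    LocalizedModule.map_mk S φ m 1
  have hbij : Function.Injective φ → Function.Bijective (LocalizedModule.map S φ) := by
    intro hφ
    have hinj := LocalizedModule.map_injective S φ hφ
    refine ⟨hinj, LinearMap.range_eq_top.1 ?_⟩
    by_contra hne
    have hfl : IsFiniteLength (Localization.AtPrime q.asIdeal) (LocalizedModule S N) :=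
      Module.length_ne_top_iff.1 (by rw [hlenY]; exact ENat.natCast_ne_top l)
    obtain ⟨_, _⟩ := isFiniteLength_iff_isNoetherian_isArtinian.1 hfl
    have := Submodule.length_lt (M := LocalizedModule S N) hne
    rw [← (LinearEquiv.ofInjective _ hinj).length_eq, hlenX, hlenY] at this
    exact lt_irrefl _ this
  refine ⟨⟨hbij, fun h => ?_⟩, fun hφ hl ex ey f hex hey hsym => ?_⟩
  · intro a b hab
    refine hmx (h.1 ?_)
    rw [hsq, hsq, hab]
  subst hl
  simp only [Fin.cast_eq_self] at hex hey
  set z := fun i => η (φ (x i))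
  set w := fun i => η (y i)
  have hz : ∀ (i : Fin _) (a : R), a • z i ∈ spanBefore R _ z i ↔ a ∈ q.asIdeal :=
    chain_map (f := η ∘ₗ φ) (hmy.comp hφ) hx'
  have hztop : spanBefore (Localization.AtPrime q.asIdeal) _ z
      (Module.length (Localization.AtPrime q.asIdeal) (LocalizedModule S N)).toNat = ⊤ := by
    rw [Det.spanBefore_last, show z = fun i => LocalizedModule.map S φ (LocalizedModule.mkLinearMap S M (x i))
      from funext fun i => (hsq (x i)).symm, Set.range_comp', Submodule.span_image, ← Det.spanBefore_last, hXtop,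
      Submodule.map_top, LinearMap.range_eq_top]
    exact (hbij hφ).2
  haveI : Ring.KrullDimLE 1 (R ⧸ q.asIdeal) := (Ring.krullDimLE_iff).2 hq.le
  have hdim : ∀ Q : Ideal R, Q.IsPrime → q.asIdeal < Q → Q.IsMaximal := by
    intro Q hQ hlt
    haveI : (Q.map (Ideal.Quotient.mk q.asIdeal)).IsPrime :=
      Ideal.map_isPrime_of_surjective Ideal.Quotient.mk_surjective (by rw [Ideal.mk_ker]; exact hlt.le)
    have hne : Q.map (Ideal.Quotient.mk q.asIdeal) ≠ ⊥ := by
      rw [Ne, Ideal.map_eq_bot_iff_le_ker, Ideal.mk_ker]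
      exact not_le_of_gt hlt
    haveI := Ring.krullDimLE_one_iff_of_noZeroDivisors.1 ‹_› _ hne ‹_›
    have := Ideal.comap_isMaximal_of_surjective (Ideal.Quotient.mk q.asIdeal) Ideal.Quotient.mk_surjective
      (K := Q.map (Ideal.Quotient.mk q.asIdeal))
    rwa [Ideal.comap_map_of_surjective _ Ideal.Quotient.mk_surjective, ← RingHom.ker, Ideal.mk_ker,
      sup_eq_left.2 hlt.le] at this
  have hV := Omega.nil hY hYtop
  have hΛ : Omega.IsLat (q := q) (LinearMap.range η) := by
    refine ⟨by rw [← Submodule.map_top]; exact Submodule.FG.map _ Module.Finite.fg_top, fun v => ?_⟩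
    obtain ⟨⟨n, t⟩, hnt⟩ := IsLocalizedModule.surj S η v
    exact ⟨t, t.2, n, hnt.symm⟩
  have hlen := Omega.len_bot hY hYtop
  obtain ⟨ψ, hψ⟩ := exists_detFun hlen
  have hgz := Omega.good hz
  have hgw := Omega.good hY
  have key := Omega.omega_sub hdim hV hΛ ψ hψ hlen w z (Omega.adm hY) hgw (Omega.adm hz) hgz
  obtain ⟨hfin, hωz⟩ := Omega.omega_eq hz hdim hΛ hztop fun i => ⟨φ (x i), rfl⟩
  obtain ⟨-, hωw⟩ := Omega.omega_eq hY hdim hΛ hYtop fun i => ⟨y i, rfl⟩
  have hEw : spanBefore R _ w (Module.length (Localization.AtPrime q.asIdeal) (LocalizedModule S N)).toNat =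
      LinearMap.range η := by
    rw [Det.spanBefore_last, Set.range_comp', Submodule.span_image, hy, Submodule.map_top]
  have hEz : spanBefore R _ z (Module.length (Localization.AtPrime q.asIdeal) (LocalizedModule S N)).toNat =
      (LinearMap.range φ).map η := by
    rw [Det.spanBefore_last, Set.range_comp' η (fun i => φ (x i)), Submodule.span_image, Set.range_comp' φ x,
      Submodule.span_image, hx, Submodule.map_top]
  rw [hEw, idx_self] at hωw
  rw [hEz] at hfin hωz
  rw [← Submodule.map_top η] at hfin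
  have hψf : ψ z = f * ψ w := by
    have h1 := congrArg (Det.lift hψ.1) hsym
    rw [map_smul] at h1
    have h2 : ∀ e : _root_.CycDet.Adm (Localization.AtPrime q.asIdeal) (LocalizedModule S N) _,
        Det.lift hψ.1 (_root_.CycDet.symbol _ _ e) = ψ e.1 := fun e => Det.lift_cls hψ.1 e
    rwa [h2, h2, hex, hey, smul_eq_mul] at h1
  have hne : f ≠ 0 := fun h0 => hψ.2 z (Omega.adm hz) hgz (by rw [hψf, h0]; exact zero_mul _)
  rw [hωz, hωw, hψf, ← Submodule.map_top η] at key
  have hmul : CycAlg.ordFrac (R ⧸ q.asIdeal) q.asIdeal.ResidueField (f * ψ w) =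
      CycAlg.ordFrac (R ⧸ q.asIdeal) q.asIdeal.ResidueField f +
        CycAlg.ordFrac (R ⧸ q.asIdeal) q.asIdeal.ResidueField (ψ w) :=
    Groth.Agent.Lib.Cyc.Ord.ordFrac_mul _ _ _ hne (hψ.2 w (Omega.adm hY) hgw)
  have hq' : qlen (⊤ : Submodule R N) (LinearMap.range φ) < ⊤ := by
    have h1 := qlen_comap η (A := (⊤ : Submodule R N).map η) (B := (LinearMap.range φ).map η) (by simp)
    rwa [← h1, Submodule.comap_map_eq_of_injective hmy, Submodule.comap_map_eq_of_injective hmy] at hfin
  rw [idx_map_of_injective η hmy, idx_of_le le_top] at key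
  rw [qlen_top] at hq' key
  refine ⟨(Module.length R (N ⧸ LinearMap.range φ)).toNat, (ENat.natCast_toNat hq'.ne).symm, ?_⟩
  simp only [Omega.ordq] at key
  rw [hmul] at key
  linarith

end Groth.Agent.S1853
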