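import Groth.Statements.S18532
import Groth.Agent.Lib.ParPoly.Stab

set_option autoImplicit false
universe u
open CategoryTheory CategoryTheory.Limits AlgebraicGeometry Polynomial
open ParSh

namespace Groth.Agent.S18532

/-- The comparison of the second and first modified parabolic Hilbert polynomials for one test subsheaf.
Let X be a scheme proper over a field k with an ample invertible sheaf L, I the ideal of an
effective Cartier divisor D on X, d ≥ 1, and E a nonzero coherent O_X-module, pure of dimension d,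
with Supp E ∩ Supp D of topological Krull dimension less than d, carrying a finite weighted
filtration 𝓔 along I by coherent pieces E = E₀ ⊇ ⋯ ⊇ E_{l+1} = I·E, weights 0 ≤ w₀ < ⋯ < w_l < 1,
w_{l+1} := 1. Let P be the Hilbert polynomial of E, P_j of E_j, H_j of E/E_j with α_{d−1}(H_j) ≠ 0
for 1 ≤ j ≤ l+1, and Par_E = P_{l+1} + Σ_j w_j (P_j − P_{j+1}). Let ι : W → E be a monomorphism from
a coherent module W with induced filtration W_j = W ∩ E_j, Q the Hilbert polynomial of W and K_j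
that of W/W_j; put par-P₁(W ⊂ E) = Q − Σ_{j=1}^{l+1} (w_j − w_{j−1})·(α_{d−1}(K_j)/α_{d−1}(H_j))·H_j
and par-P₂(W ⊂ E)(x, y) = Q(x) − Σ_{j=1}^{l+1} (w_j − w_{j−1})·(K_j(y)/H_j(y))·H_j(x). Then: (i) if
there is M such that for every m ≥ M there is N with par-P₂(W ⊂ E)(m, n)·P(n) ≤ Par_E(m)·Q(n) for
all n ≥ N, then par-P₁(W ⊂ E)(m)·α_d(P) ≤ Par_E(m)·α_d(Q) for all large m; (ii) if par-P₁(W ⊂
E)(m)·α_d(P) < Par_E(m)·α_d(Q) for all large m, then there is M such that for every m ≥ M there is N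
with par-P₂(W ⊂ E)(m, n)·P(n) < Par_E(m)·Q(n) for all n ≥ N. With W running over the nonzero
saturated (proper) sub-modules this is the published implication p₂-semistable ⇒ p₁-semistable,
p₁-stable ⇒ p₂-stable; the further implications to and from parabolic slope-(semi)stability in the
published statement are not part of this row. -/
theorem result (k : Type u) [Field k] (X : Scheme.{u})
    [X.Over (Spec (CommRingCat.of k))] [IsProper (X ↘ Spec (CommRingCat.of k))]
    (L : X.Modules) (hL : CohB1.IsAmple L) (I : X.IdealSheafData) (hD : FGA.IsEffCartier I)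
    (E : X.Modules) (hE : Coh.IsCoh E) (𝓔 : ParSh.Str E) (h𝓔 : 𝓔.Along I)
    (hcoh : ∀ j, Coh.IsCoh ((𝓔.pieceX j : Subobject E) : X.Modules)) (d : ℕ) (hd : 1 ≤ d)
    (hsupp : topologicalKrullDim ↥(CohB1.support E ∩ (I.support : Set X)) < (d : WithBot ℕ∞))
    (h0 : ¬ IsZero E) (hpure : ShStab.IsPure X E d)
    (P : ℚ[X]) (hP : ShStab.IsHilbPoly k X L E P) (PX : Fin (𝓔.l + 2) → ℚ[X])
    (hPX : ∀ j, ShStab.IsHilbPoly k X L ((𝓔.pieceX j : Subobject E) : X.Modules) (PX j))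
    (H : Fin (𝓔.l + 2) → ℚ[X]) (hH : ∀ j, ShStab.IsHilbPoly k X L (cokernel (𝓔.pieceX j).arrow) (H j))
    (hHa : ∀ j : Fin (𝓔.l + 1), StabCat.alpha (d - 1) (H j.succ) ≠ 0)
    {W : X.Modules} (ι : W ⟶ E) [Mono ι] (hW : Coh.IsCoh W)
    (Q : ℚ[X]) (hQ : ShStab.IsHilbPoly k X L W Q) (QH : Fin (𝓔.l + 2) → ℚ[X])
    (hQH : ∀ j, ShStab.IsHilbPoly k X L (cokernel ((𝓔.induced ι).pieceX j).arrow) (QH j)) :
    ((∃ M : ℕ, ∀ m : ℕ, M ≤ m → ∃ N : ℕ, ∀ n : ℕ, N ≤ n →
        (((Q.eval (m : ℚ) : ℚ) : ℝ) -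
            ∑ j : Fin (𝓔.l + 1), (𝓔.wtX j.succ - 𝓔.wtX j.castSucc) *
              ((((QH j.succ).eval (n : ℚ) / (H j.succ).eval (n : ℚ) : ℚ) : ℝ) * (((H j.succ).eval (m : ℚ) : ℚ) : ℝ))) *
          ((P.eval (n : ℚ) : ℚ) : ℝ) ≤
        (W4swparbununimod.parPoly 𝓔 PX).eval (m : ℝ) * ((Q.eval (n : ℚ) : ℚ) : ℝ)) →
      ∃ M : ℕ, ∀ m : ℕ, M ≤ m →
        (W4swparbununimod.parPolyOne 𝓔 d Q QH H).eval (m : ℝ) * (StabCat.alpha d P : ℝ) ≤
          (W4swparbununimod.parPoly 𝓔 PX).eval (m : ℝ) * (StabCat.alpha d Q : ℝ)) ∧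
    ((∃ M : ℕ, ∀ m : ℕ, M ≤ m →
        (W4swparbununimod.parPolyOne 𝓔 d Q QH H).eval (m : ℝ) * (StabCat.alpha d P : ℝ) <
          (W4swparbununimod.parPoly 𝓔 PX).eval (m : ℝ) * (StabCat.alpha d Q : ℝ)) →
      ∃ M : ℕ, ∀ m : ℕ, M ≤ m → ∃ N : ℕ, ∀ n : ℕ, N ≤ n →
        (((Q.eval (m : ℚ) : ℚ) : ℝ) -
            ∑ j : Fin (𝓔.l + 1), (𝓔.wtX j.succ - 𝓔.wtX j.castSucc) *
              ((((QH j.succ).eval (n : ℚ) / (H j.succ).eval (n : ℚ) : ℚ) : ℝ) * (((H j.succ).eval (m : ℚ) : ℚ) : ℝ))) *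
          ((P.eval (n : ℚ) : ℚ) : ℝ) <
        (W4swparbununimod.parPoly 𝓔 PX).eval (m : ℝ) * ((Q.eval (n : ℚ) : ℚ) : ℝ)) := by
  open Groth.Agent.Lib Groth.Agent.Lib.ParPoly.Asymp Groth.Agent.Lib.ParPoly.Basic
    Groth.Agent.Lib.ParPoly.Stab in
    have hb := quot_bound hL hE 𝓔 hcoh h𝓔 hsupp hH
    have hb' := induced_bound hL hE 𝓔 hcoh h𝓔 hsupp ι hW hQH
    have hPd := (deg_pure hL hpure (𝟙 E) hE hP).1
    have hQd := (deg_pure hL hpure ι hW hQ).1
    set R := W4swparbununimod.parPoly 𝓔 PX with hR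
    let pd : ℕ → ℝ := fun n => (W4swparbununimod.rpoly P).eval (n : ℝ) / (n : ℝ) ^ d
    let qd : ℕ → ℝ := fun n => (W4swparbununimod.rpoly Q).eval (n : ℝ) / (n : ℝ) ^ d
    let F : ℕ → ℕ → ℝ := fun m n => ((Q.eval (m : ℚ) : ℚ) : ℝ) -
      ∑ j : Fin (𝓔.l + 1), (𝓔.wtX j.succ - 𝓔.wtX j.castSucc) *
        ((((QH j.succ).eval (n : ℚ) / (H j.succ).eval (n : ℚ) : ℚ) : ℝ) * (((H j.succ).eval (m : ℚ) : ℚ) : ℝ))
    have hF : ∀ m, Filter.Tendsto (F m) Filter.atTop
        (nhds ((W4swparbununimod.parPolyOne 𝓔 d Q QH H).eval (m : ℝ))) := fun m => by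
      rw [parPolyOne_eval]
      refine tendsto_const_nhds.sub (tendsto_finsetSum _ fun j _ => ?_)
      rw [mul_assoc]
      refine tendsto_const_nhds.mul (Filter.Tendsto.mul ?_ tendsto_const_nhds)
      have hc : ((H j.succ).coeff (d - 1) : ℝ) ≠ 0 := fun h0 => hHa j (by
        simp only [StabCat.alpha]; rw [show (H j.succ).coeff (d - 1) = 0 by exact_mod_cast h0, mul_zero])
      have t1 := tendsto_div (D := W4swparbununimod.rpoly (QH j.succ)) (e := d - 1)
        (Polynomial.natDegree_map_le.trans (hb' j.succ).2.1)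
      have t2 := tendsto_div (D := W4swparbununimod.rpoly (H j.succ)) (e := d - 1)
        (Polynomial.natDegree_map_le.trans (hb j.succ).2.1)
      have t := t1.div t2 (by simpa using hc)
      rw [show ((StabCat.alpha (d - 1) (QH j.succ) / StabCat.alpha (d - 1) (H j.succ) : ℚ) : ℝ) =
          (W4swparbununimod.rpoly (QH j.succ)).coeff (d - 1) / (W4swparbununimod.rpoly (H j.succ)).coeff (d - 1) by
        simp only [StabCat.alpha, Polynomial.coeff_map, Rat.coe_castHom]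
        push_cast
        exact mul_div_mul_left _ _ (by exact_mod_cast (d - 1).factorial_ne_zero)]
      refine t.congr' ((Filter.eventually_ge_atTop 1).mono fun n hn => ?_)
      simp only [Pi.div_apply, rpoly_eval, Rat.cast_div]
      exact div_div_div_cancel_right₀ (pow_ne_zero _ (by exact_mod_cast (show n ≠ 0 by omega))) _ _
    have hl : ∀ m, Filter.Tendsto (fun n => F m n * pd n) Filter.atTop
        (nhds ((W4swparbununimod.parPolyOne 𝓔 d Q QH H).eval (m : ℝ) * (P.coeff d : ℝ))) := fun m => by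
      simpa [pd] using (hF m).mul (tendsto_div (D := W4swparbununimod.rpoly P)
        (Polynomial.natDegree_map_le.trans hPd))
    have hr : ∀ m : ℕ, Filter.Tendsto (fun n => R.eval (m : ℝ) * qd n) Filter.atTop
        (nhds (R.eval (m : ℝ) * (Q.coeff d : ℝ))) := fun m => by
      simpa [qd] using (tendsto_const_nhds (x := R.eval (m : ℝ))).mul
        (tendsto_div (D := W4swparbununimod.rpoly Q) (Polynomial.natDegree_map_le.trans hQd))
    have hfac : (0 : ℝ) < (d.factorial : ℝ) := by exact_mod_cast d.factorial_pos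
    refine ⟨fun ⟨M, hM⟩ => ⟨M, fun m hm => ?_⟩, fun ⟨M, hM⟩ => ⟨M, fun m hm => ?_⟩⟩
    · obtain ⟨N, hN⟩ := hM m hm
      have hle := le_of_tendsto_of_tendsto (hl m) (hr m) (Filter.eventually_atTop.2 ⟨N, fun n hn => by
        simp only [pd, qd, rpoly_eval, ← mul_div_assoc]
        exact div_le_div_of_nonneg_right (hN n hn) (by positivity)⟩)
      simp only [StabCat.alpha, Rat.cast_mul, Rat.cast_natCast]
      nlinarith
    · have hlt := hM m hm
      simp only [StabCat.alpha, Rat.cast_mul, Rat.cast_natCast] at hlt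
      obtain ⟨N, hN⟩ := Filter.eventually_atTop.1
        (((hl m).eventually_lt (hr m) (by nlinarith)).and (Filter.eventually_ge_atTop 1))
      refine ⟨N, fun n hn => ?_⟩
      obtain ⟨h1, h2⟩ := hN n hn
      simp only [pd, qd, rpoly_eval, ← mul_div_assoc] at h1
      exact (div_lt_div_iff_of_pos_right (pow_pos (by exact_mod_cast h2) _)).1 h1

end Groth.Agent.S18532
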