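import Groth.Statements.S18535
import Groth.Agent.Lib.InertiaGalois.Basic

set_option autoImplicit false
universe u
open EtAlg

namespace Groth.Agent.S18535

/-- Let R be a complete Noetherian local normal domain with maximal ideal m, let S be a normal domain
containing R on which a finite group G acts by R-algebra automorphisms, faithfully and with ring of
invariants exactly R (so that S is the integral closure of R in some finite Galois extension, with
group G, of Frac R), and let n be a maximal ideal of S over m. Then the inertia subgroup of n in G
(the elements g with g s - s ∈ n for all s ∈ S) is trivial if and only if mS = n and the residue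
field S/n is finite and separable over R/m. -/
theorem result
    (R S G : Type u) [CommRing R] [CommRing S] [IsDomain R] [IsDomain S]
    [IsNoetherianRing R] [IsLocalRing R] [IsIntegrallyClosed R]
    [IsAdicComplete (IsLocalRing.maximalIdeal R) R]
    [Algebra R S] [FaithfulSMul R S] [IsIntegrallyClosed S]
    [Group G] [Finite G] [MulSemiringAction G S] [SMulCommClass G R S] [IsGaloisGroup G R S]
    (n : Ideal S) [n.IsMaximal] [n.LiesOver (IsLocalRing.maximalIdeal R)] :
    n.toAddSubgroup.inertia G = ⊥ ↔
      ((IsLocalRing.maximalIdeal R).map (algebraMap R S) = n ∧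
        Module.Finite (R ⧸ IsLocalRing.maximalIdeal R) (S ⧸ n) ∧
        Algebra.IsSeparable (R ⧸ IsLocalRing.maximalIdeal R) (S ⧸ n)) := by
  have := Groth.Agent.Lib.InertiaGalois.finite R S G
  have : IsLocalRing S := Groth.Agent.H2.EllComplete.isLocalRing_of_finite R S
  have : IsNoetherianRing S := isNoetherian_of_tower R inferInstance
  have hfin : Module.Finite (R ⧸ IsLocalRing.maximalIdeal R) (S ⧸ n) :=
    Module.Finite.of_restrictScalars_finite R _ _
  constructor
  · intro hI
    obtain ⟨h1, h2⟩ := Groth.Agent.Lib.InertiaGalois.of_inertia_eq_bot (R := R) (G := G) n hI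
    exact ⟨h1, hfin, h2⟩
  · rintro ⟨h1, -, h2⟩
    exact Groth.Agent.Lib.InertiaGalois.inertia_eq_bot (R := R) (G := G) n h1

end Groth.Agent.S18535
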