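import Groth.Statements.S18536
import Groth.Agent.H99.CplSpan

set_option autoImplicit false
universe u
open EtAlg

namespace Groth.Agent.S18536

/-- Let R be an excellent normal local domain with fraction field K, let L, M ⊇ K be two finite
separable field extensions, both contained in a field Ω that they generate, let A ⊆ Ω be the
localization of the integral closure of R in Ω at one of its maximal ideals, and put S = A ∩ L, T =
A ∩ M (local rings dominated by A); the completions at the maximal ideals give maps Ŝ → Â ← T̂ (the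
algebra structures below are these inclusions and completed inclusions, pinned by the stated
compatibilities). If the residue field of A is generated, over the residue field of S, by the image
of the residue field of T, then the fraction field of Â is the compositum of the fraction fields of
Ŝ and T̂ inside it: every element of Â is a quotient of two elements of the subring of Â generated
by the images of Ŝ and T̂. -/
theorem result
    (R K L M Ω : Type u) [CommRing R] [IsDomain R] [IsLocalRing R] [IsIntegrallyClosed R]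
    (hR : EGA4.IsExcellent R)
    [Field K] [Field L] [Field M] [Field Ω]
    [Algebra R K] [IsFractionRing R K]
    [Algebra K L] [Algebra K M] [Algebra K Ω] [Algebra L Ω] [Algebra M Ω]
    [IsScalarTower K L Ω] [IsScalarTower K M Ω]
    [FiniteDimensional K L] [FiniteDimensional K M] [Algebra.IsSeparable K L] [Algebra.IsSeparable K M]
    (hΩ : IntermediateField.adjoin K (Set.range (algebraMap L Ω) ∪ Set.range (algebraMap M Ω)) = ⊤)
    [Algebra R L] [Algebra R M] [Algebra R Ω] [IsScalarTower R K L] [IsScalarTower R K M] [IsScalarTower R K Ω]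
    [IsScalarTower R L Ω] [IsScalarTower R M Ω]
    (𝔪 : Ideal ↥(integralClosure R Ω)) [𝔪.IsMaximal]
    (A : Subalgebra R Ω)
    (hA : ∀ z : Ω, z ∈ A ↔ ∃ a b : ↥(integralClosure R Ω), b ∉ 𝔪 ∧ z * (b : Ω) = (a : Ω))
    [IsLocalRing ↥A] [IsLocalRing ↥(Subalgebra.comap (IsScalarTower.toAlgHom R L Ω) A)] [IsLocalRing ↥(Subalgebra.comap (IsScalarTower.toAlgHom R M Ω) A)]
    [Algebra ↥(Subalgebra.comap (IsScalarTower.toAlgHom R L Ω) A) ↥A]
    (hSA : ∀ s : ↥(Subalgebra.comap (IsScalarTower.toAlgHom R L Ω) A), ((algebraMap ↥(Subalgebra.comap (IsScalarTower.toAlgHom R L Ω) A) ↥A s : ↥A) : Ω) = algebraMap L Ω (s : L))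
    [Algebra ↥(Subalgebra.comap (IsScalarTower.toAlgHom R M Ω) A) ↥A]
    (hTA : ∀ t : ↥(Subalgebra.comap (IsScalarTower.toAlgHom R M Ω) A), ((algebraMap ↥(Subalgebra.comap (IsScalarTower.toAlgHom R M Ω) A) ↥A t : ↥A) : Ω) = algebraMap M Ω (t : M))
    [Algebra (EGA4.Cpl ↥(Subalgebra.comap (IsScalarTower.toAlgHom R L Ω) A)) (EGA4.Cpl ↥A)]
    (hcS : ∀ s : ↥(Subalgebra.comap (IsScalarTower.toAlgHom R L Ω) A), algebraMap (EGA4.Cpl ↥(Subalgebra.comap (IsScalarTower.toAlgHom R L Ω) A)) (EGA4.Cpl ↥A) (algebraMap ↥(Subalgebra.comap (IsScalarTower.toAlgHom R L Ω) A) (EGA4.Cpl ↥(Subalgebra.comap (IsScalarTower.toAlgHom R L Ω) A)) s) =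
      algebraMap ↥A (EGA4.Cpl ↥A) (algebraMap ↥(Subalgebra.comap (IsScalarTower.toAlgHom R L Ω) A) ↥A s))
    [Algebra (EGA4.Cpl ↥(Subalgebra.comap (IsScalarTower.toAlgHom R M Ω) A)) (EGA4.Cpl ↥A)]
    (hcT : ∀ t : ↥(Subalgebra.comap (IsScalarTower.toAlgHom R M Ω) A), algebraMap (EGA4.Cpl ↥(Subalgebra.comap (IsScalarTower.toAlgHom R M Ω) A)) (EGA4.Cpl ↥A) (algebraMap ↥(Subalgebra.comap (IsScalarTower.toAlgHom R M Ω) A) (EGA4.Cpl ↥(Subalgebra.comap (IsScalarTower.toAlgHom R M Ω) A)) t) =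
      algebraMap ↥A (EGA4.Cpl ↥A) (algebraMap ↥(Subalgebra.comap (IsScalarTower.toAlgHom R M Ω) A) ↥A t))
    [(IsLocalRing.maximalIdeal ↥A).LiesOver (IsLocalRing.maximalIdeal ↥(Subalgebra.comap (IsScalarTower.toAlgHom R M Ω) A))]
    [(IsLocalRing.maximalIdeal ↥A).LiesOver (IsLocalRing.maximalIdeal ↥(Subalgebra.comap (IsScalarTower.toAlgHom R L Ω) A))]
    (hres : Algebra.adjoin (↥(Subalgebra.comap (IsScalarTower.toAlgHom R L Ω) A) ⧸ IsLocalRing.maximalIdeal ↥(Subalgebra.comap (IsScalarTower.toAlgHom R L Ω) A))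
      (Set.range (algebraMap (↥(Subalgebra.comap (IsScalarTower.toAlgHom R M Ω) A) ⧸ IsLocalRing.maximalIdeal ↥(Subalgebra.comap (IsScalarTower.toAlgHom R M Ω) A)) (↥A ⧸ IsLocalRing.maximalIdeal ↥A))) = ⊤) :
    ∀ x : (EGA4.Cpl ↥A), ∃ a b : (EGA4.Cpl ↥A), a ∈ Algebra.adjoin (EGA4.Cpl ↥(Subalgebra.comap (IsScalarTower.toAlgHom R L Ω) A)) (Set.range (algebraMap (EGA4.Cpl ↥(Subalgebra.comap (IsScalarTower.toAlgHom R M Ω) A)) (EGA4.Cpl ↥A))) ∧ b ∈ Algebra.adjoin (EGA4.Cpl ↥(Subalgebra.comap (IsScalarTower.toAlgHom R L Ω) A)) (Set.range (algebraMap (EGA4.Cpl ↥(Subalgebra.comap (IsScalarTower.toAlgHom R M Ω) A)) (EGA4.Cpl ↥A))) ∧ b ≠ 0 ∧ x * b = a := by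
  classical
  have : IsNoetherianRing R := hR.1
  let B := ↥(integralClosure R Ω)
  let SS := Subalgebra.comap (IsScalarTower.toAlgHom R L Ω) A
  let TT := Subalgebra.comap (IsScalarTower.toAlgHom R M Ω) A
  -- the compositum is finite separable, so the integral closure is finite
  let fL : IntermediateField K Ω := (IsScalarTower.toAlgHom K L Ω).fieldRange
  let fM : IntermediateField K Ω := (IsScalarTower.toAlgHom K M Ω).fieldRange
  have htop : fL ⊔ fM = ⊤ := top_le_iff.mp (hΩ ▸ IntermediateField.adjoin_le_iff.mpr (by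
    rintro z (⟨l, rfl⟩ | ⟨m, rfl⟩)
    · exact le_sup_left (a := fL) (b := fM) (show _ ∈ fL from ⟨l, rfl⟩)
    · exact le_sup_right (a := fL) (b := fM) (show _ ∈ fM from ⟨m, rfl⟩)))
  have : FiniteDimensional K fL :=
    Module.Finite.of_surjective (IsScalarTower.toAlgHom K L Ω).rangeRestrict.toLinearMap
      (IsScalarTower.toAlgHom K L Ω).rangeRestrict_surjective
  have : FiniteDimensional K fM :=
    Module.Finite.of_surjective (IsScalarTower.toAlgHom K M Ω).rangeRestrict.toLinearMap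
      (IsScalarTower.toAlgHom K M Ω).rangeRestrict_surjective
  have : Algebra.IsSeparable K fL :=
    AlgEquiv.Algebra.isSeparable (AlgEquiv.ofInjectiveField (IsScalarTower.toAlgHom K L Ω))
  have : Algebra.IsSeparable K fM :=
    AlgEquiv.Algebra.isSeparable (AlgEquiv.ofInjectiveField (IsScalarTower.toAlgHom K M Ω))
  have : FiniteDimensional K ↥(fL ⊔ fM) := inferInstance
  have : Algebra.IsSeparable K ↥(fL ⊔ fM) := inferInstance
  have : FiniteDimensional K Ω := Module.Finite.equiv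
    ((IntermediateField.equivOfEq htop).trans IntermediateField.topEquiv).toLinearEquiv
  have : Algebra.IsSeparable K Ω :=
    AlgEquiv.Algebra.isSeparable ((IntermediateField.equivOfEq htop).trans IntermediateField.topEquiv)
  have : Module.Finite R B := IsIntegralClosure.finite R K Ω B
  have : 𝔪.LiesOver (IsLocalRing.maximalIdeal R) :=
    ⟨(IsLocalRing.eq_maximalIdeal (Ideal.isMaximal_comap_of_isIntegral_of_isMaximal 𝔪)).symm⟩
  -- `A` is the localization of `B` at `𝔪`
  have hBA : integralClosure R Ω ≤ A := fun z hz =>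
    (hA z).mpr ⟨⟨z, hz⟩, 1, fun h => ‹𝔪.IsMaximal›.ne_top ((Ideal.eq_top_iff_one _).mpr h), by simp⟩
  let _ : Algebra B A := (Subalgebra.inclusion hBA).toRingHom.toAlgebra
  have hBAv : ∀ b : B, ((algebraMap B A b : A) : Ω) = (b : Ω) := fun b => rfl
  have hloc : IsLocalization.AtPrime A 𝔪 := by
    refine { map_units := ?_, surj := ?_, exists_of_eq := ?_ }
    · rintro ⟨b, hb⟩
      have hb0 : (b : Ω) ≠ 0 := fun h => hb (by
        rw [show b = 0 from Subtype.ext h]; exact 𝔪.zero_mem)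
      refine isUnit_iff_exists_inv.mpr
        ⟨⟨(b : Ω)⁻¹, (hA _).mpr ⟨1, b, hb, by simp [inv_mul_cancel₀ hb0]⟩⟩, Subtype.ext ?_⟩
      exact mul_inv_cancel₀ hb0
    · intro z
      obtain ⟨a, b, hb, h⟩ := (hA z).mp z.2
      exact ⟨⟨a, ⟨b, hb⟩⟩, Subtype.ext h⟩
    · intro x y h
      exact ⟨1, by rw [show x = y from Subtype.ext ((hBAv x).symm.trans ((congrArg Subtype.val h).trans (hBAv y)))]⟩
  have : IsNoetherianRing B := IsNoetherianRing.of_finite R B
  have : IsNoetherianRing A := IsLocalization.isNoetherianRing 𝔪.primeCompl A inferInstance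
  -- the map of completions `R̂ → Ŝ → Â`
  have hRS : IsLocalRing.maximalIdeal R ≤ (IsLocalRing.maximalIdeal SS).comap (algebraMap R SS) := by
    intro r hr
    show algebraMap R SS r ∈ IsLocalRing.maximalIdeal SS
    rw [IsLocalRing.mem_maximalIdeal, mem_nonunits_iff]
    intro hu
    have h1 : algebraMap SS A (algebraMap R SS r) = algebraMap B A (algebraMap R B r) := Subtype.ext (by
      rw [hSA]
      exact (IsScalarTower.algebraMap_apply R L Ω r).symm)
    have h2 := (IsLocalization.AtPrime.to_map_mem_maximal_iff A 𝔪 (algebraMap R B r)).mpr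
      ((Ideal.mem_of_liesOver 𝔪 (IsLocalRing.maximalIdeal R) r).mp hr)
    rw [← h1] at h2
    exact (IsLocalRing.mem_maximalIdeal _).mp h2 (hu.map (algebraMap SS A))
  let ρ := H99.CplSpan.map (algebraMap R SS) hRS
  let φ : EGA4.Cpl R →+* EGA4.Cpl ↥A := (algebraMap (EGA4.Cpl ↥SS) (EGA4.Cpl ↥A)).comp ρ
  have hφ : ∀ r, φ (algebraMap R _ r) = algebraMap A _ (algebraMap B A (algebraMap R B r)) := fun r => by
    show algebraMap (EGA4.Cpl ↥SS) (EGA4.Cpl ↥A) (ρ (algebraMap R _ r)) = _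
    rw [H99.CplSpan.map_algebraMap, hcS]
    refine congrArg (algebraMap A (EGA4.Cpl A)) (Subtype.ext ?_)
    rw [hSA]
    exact (IsScalarTower.algebraMap_apply R L Ω r).symm
  -- elements of `Ω` are fractions of the subring generated by `S` and `T`
  let G : Set ↥A := Set.range (algebraMap SS A) ∪ Set.range (algebraMap TT A)
  let F := Subfield.closure ((A.val : ↥A →ₐ[R] Ω) '' G)
  have hden : ∀ (E : Type u) [Field E] [Algebra K E] [Algebra R E] [IsScalarTower R K E]
      [FiniteDimensional K E] [Algebra E Ω] [IsScalarTower R E Ω],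
      ∀ l : E, ∃ r : R, algebraMap R E r ≠ 0 ∧ algebraMap E Ω (algebraMap R E r * l) ∈ A := by
    intro E _ _ _ _ _ _ _ l
    have : Algebra.IsAlgebraic R E := (IsFractionRing.comap_isAlgebraic_iff (K := K)).mpr inferInstance
    obtain ⟨r, hr, hint⟩ := (Algebra.IsAlgebraic.isAlgebraic (R := R) l).exists_integral_multiple
    refine ⟨r, fun h => hr ?_, ?_⟩
    · rw [IsScalarTower.algebraMap_apply R K E] at h
      exact IsFractionRing.injective R K (((algebraMap K E).injective (h.trans (map_zero _).symm)).trans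
        (map_zero _).symm)
    · rw [← Algebra.smul_def]
      exact hBA (hint.map (IsScalarTower.toAlgHom R E Ω))
  have hFL : ∀ l : L, algebraMap L Ω l ∈ F := fun l => by
    obtain ⟨r, hr, hmem⟩ := hden L l
    have hrA : algebraMap L Ω (algebraMap R L r) ∈ A := by
      rw [← IsScalarTower.algebraMap_apply]; exact A.algebraMap_mem r
    have : algebraMap L Ω l = algebraMap L Ω (algebraMap R L r * l) / algebraMap L Ω (algebraMap R L r) := by
      rw [map_mul, mul_div_cancel_left₀ _ ((map_ne_zero _).mpr hr)]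
    rw [this]
    exact div_mem (Subfield.subset_closure ⟨_, Or.inl ⟨⟨_, hmem⟩, rfl⟩, hSA _⟩)
      (Subfield.subset_closure ⟨_, Or.inl ⟨⟨_, hrA⟩, rfl⟩, hSA _⟩)
  have hFM : ∀ m : M, algebraMap M Ω m ∈ F := fun l => by
    obtain ⟨r, hr, hmem⟩ := hden M l
    have hrA : algebraMap M Ω (algebraMap R M r) ∈ A := by
      rw [← IsScalarTower.algebraMap_apply]; exact A.algebraMap_mem r
    have : algebraMap M Ω l = algebraMap M Ω (algebraMap R M r * l) / algebraMap M Ω (algebraMap R M r) := by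
      rw [map_mul, mul_div_cancel_left₀ _ ((map_ne_zero _).mpr hr)]
    rw [this]
    exact div_mem (Subfield.subset_closure ⟨_, Or.inr ⟨⟨_, hmem⟩, rfl⟩, hTA _⟩)
      (Subfield.subset_closure ⟨_, Or.inr ⟨⟨_, hrA⟩, rfl⟩, hTA _⟩)
  have hFtop : ∀ z : Ω, z ∈ F := fun z => by
    let F' : IntermediateField K Ω := F.toIntermediateField fun k => by
      rw [IsScalarTower.algebraMap_apply K L Ω]
      exact hFL _
    have h : (⊤ : IntermediateField K Ω) ≤ F' := hΩ ▸ IntermediateField.adjoin_le_iff.mpr (by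
      rintro z (⟨l, rfl⟩ | ⟨m, rfl⟩)
      · exact hFL l
      · exact hFM m)
    exact h (IntermediateField.mem_top (x := z))
  let ψ : ↥A →+* EGA4.Cpl ↥A := algebraMap ↥A (EGA4.Cpl ↥A)
  have hψinj : Function.Injective ψ := by
    have : IsHausdorff (IsLocalRing.maximalIdeal ↥A) ↥A :=
      IsHausdorff.of_isLocalRing _ ↥A (IsLocalRing.maximalIdeal.isMaximal ↥A).ne_top
    exact AdicCompletion.of_injective (IsLocalRing.maximalIdeal ↥A) ↥A
  let P := Algebra.adjoin (EGA4.Cpl ↥SS)
    (Set.range (algebraMap (EGA4.Cpl ↥TT) (EGA4.Cpl ↥A)))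
  have hGP : Subring.closure G ≤ P.toSubring.comap ψ := Subring.closure_le.mpr (by
    rintro _ (⟨s, rfl⟩ | ⟨t, rfl⟩)
    · show ψ _ ∈ P
      rw [show ψ (algebraMap SS A s) = algebraMap (EGA4.Cpl ↥SS) (EGA4.Cpl ↥A)
        (algebraMap SS (EGA4.Cpl ↥SS) s) from (hcS s).symm]
      exact P.algebraMap_mem _
    · show ψ _ ∈ P
      rw [show ψ (algebraMap TT A t) = algebraMap (EGA4.Cpl ↥TT) (EGA4.Cpl ↥A)
        (algebraMap TT (EGA4.Cpl ↥TT) t) from (hcT t).symm]
      exact Algebra.subset_adjoin ⟨_, rfl⟩)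
  have hfrac : ∀ z : ↥A, ∃ a c : ↥A, c ≠ 0 ∧ ψ a ∈ P ∧ ψ c ∈ P ∧ z * c = a := fun z => by
    obtain ⟨a, ha, c, hc, hac⟩ := Subfield.mem_closure_iff.mp (hFtop (z : Ω))
    have hcl : Subring.closure ((A.val : ↥A →ₐ[R] Ω) '' G) =
        (Subring.closure G).map (A.val : ↥A →ₐ[R] Ω).toRingHom := (RingHom.map_closure _ _).symm
    rw [hcl] at ha hc
    obtain ⟨a, ha, rfl⟩ := ha
    obtain ⟨c, hc, rfl⟩ := hc
    by_cases hc0 : c = 0
    · refine ⟨0, 1, one_ne_zero, by rw [map_zero]; exact P.zero_mem, by rw [map_one]; exact P.one_mem, ?_⟩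
      have : (z : Ω) = 0 := by
        rw [← hac, hc0]
        simp
      rw [mul_one]
      exact Subtype.ext this
    · refine ⟨a, c, hc0, hGP ha, hGP hc, Subtype.ext ?_⟩
      show (z : Ω) * (c : Ω) = (a : Ω)
      rw [← hac]
      exact div_mul_cancel₀ _ fun h => hc0 (Subtype.ext h)
  intro x
  obtain ⟨g, hg⟩ := (Module.finite_def (R := R) (M := B)).mp inferInstance
  obtain ⟨Lc, hx⟩ := H99.CplSpan.exists_sum R B A 𝔪 φ hφ g hg x
  choose a c hc haP hcP hac using fun e : g => hfrac (algebraMap B A e.1)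
  refine ⟨x * ψ (∏ e : g, c e), ψ (∏ e : g, c e), ?_, ?_, ?_, rfl⟩
  · rw [hx, Finset.sum_mul]
    refine Subalgebra.sum_mem _ fun e _ => ?_
    rw [mul_assoc]
    refine P.mul_mem (P.algebraMap_mem (ρ (Lc e))) ?_
    rw [← Finset.mul_prod_erase _ _ (Finset.mem_univ e), map_mul, ← mul_assoc]
    refine P.mul_mem ?_ ?_
    · show ψ _ * ψ (c e) ∈ P
      rw [← map_mul, hac]
      exact haP e
    · rw [map_prod]
      exact Subalgebra.prod_mem _ fun e' _ => hcP e'
  · rw [map_prod]
    exact Subalgebra.prod_mem _ fun e' _ => hcP e'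
  · intro h
    exact Finset.prod_ne_zero_iff.mpr (fun e _ => hc e) (hψinj (h.trans (map_zero ψ).symm))

end Groth.Agent.S18536
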