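import Groth.Statements.S18537
import Groth.Agent.H99.CplNormal

set_option autoImplicit false
universe u
open EtAlg

namespace Groth.Agent.S18537

/-- Let R be an excellent normal local domain with fraction field K, let L, M ⊇ K be two finite
separable field extensions, both contained in a field Ω that they generate, let A ⊆ Ω be the
localization of the integral closure of R in Ω at one of its maximal ideals, and put S = A ∩ L, T =
A ∩ M; these are local rings, T ⊆ A, and the completions at the maximal ideals give maps Ŝ → Â ← T̂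
(the algebra structures below are these inclusions and completed inclusions, pinned by the stated
compatibilities). If, inside the fraction field of Â, the ring Ŝ lies in the fraction field of T̂
(every element of Ŝ becomes a quotient of two elements of T̂), then A is unramified over T: m_T A =
m_A and A/m_A is a finite separable extension of T/m_T. -/
theorem result
    (R K L M Ω : Type u) [CommRing R] [IsDomain R] [IsLocalRing R] [IsIntegrallyClosed R]
    (hR : EGA4.IsExcellent R)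
    [Field K] [Field L] [Field M] [Field Ω]
    [Algebra R K] [IsFractionRing R K]
    [Algebra K L] [Algebra K M] [Algebra K Ω] [Algebra L Ω] [Algebra M Ω]
    [IsScalarTower K L Ω] [IsScalarTower K M Ω]
    [FiniteDimensional K L] [FiniteDimensional K M] [Algebra.IsSeparable K L] [Algebra.IsSeparable K M]
    (hΩ : IntermediateField.adjoin K (Set.range (algebraMap L Ω) ∪ Set.range (algebraMap M Ω)) = ⊤)
    [Algebra R L] [Algebra R M] [Algebra R Ω] [IsScalarTower R K L] [IsScalarTower R K M] [IsScalarTower R K Ω]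
    [IsScalarTower R L Ω] [IsScalarTower R M Ω]
    (𝔪 : Ideal ↥(integralClosure R Ω)) [𝔪.IsMaximal]
    (A : Subalgebra R Ω)
    (hA : ∀ z : Ω, z ∈ A ↔ ∃ a b : ↥(integralClosure R Ω), b ∉ 𝔪 ∧ z * (b : Ω) = (a : Ω))
    [IsLocalRing ↥A] [IsLocalRing ↥(Subalgebra.comap (IsScalarTower.toAlgHom R L Ω) A)] [IsLocalRing ↥(Subalgebra.comap (IsScalarTower.toAlgHom R M Ω) A)]
    [Algebra ↥(Subalgebra.comap (IsScalarTower.toAlgHom R L Ω) A) ↥A]
    (hSA : ∀ s : ↥(Subalgebra.comap (IsScalarTower.toAlgHom R L Ω) A), ((algebraMap ↥(Subalgebra.comap (IsScalarTower.toAlgHom R L Ω) A) ↥A s : ↥A) : Ω) = algebraMap L Ω (s : L))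
    [Algebra ↥(Subalgebra.comap (IsScalarTower.toAlgHom R M Ω) A) ↥A]
    (hTA : ∀ t : ↥(Subalgebra.comap (IsScalarTower.toAlgHom R M Ω) A), ((algebraMap ↥(Subalgebra.comap (IsScalarTower.toAlgHom R M Ω) A) ↥A t : ↥A) : Ω) = algebraMap M Ω (t : M))
    [Algebra (EGA4.Cpl ↥(Subalgebra.comap (IsScalarTower.toAlgHom R L Ω) A)) (EGA4.Cpl ↥A)]
    (hcS : ∀ s : ↥(Subalgebra.comap (IsScalarTower.toAlgHom R L Ω) A), algebraMap (EGA4.Cpl ↥(Subalgebra.comap (IsScalarTower.toAlgHom R L Ω) A)) (EGA4.Cpl ↥A) (algebraMap ↥(Subalgebra.comap (IsScalarTower.toAlgHom R L Ω) A) (EGA4.Cpl ↥(Subalgebra.comap (IsScalarTower.toAlgHom R L Ω) A)) s) =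
      algebraMap ↥A (EGA4.Cpl ↥A) (algebraMap ↥(Subalgebra.comap (IsScalarTower.toAlgHom R L Ω) A) ↥A s))
    [Algebra (EGA4.Cpl ↥(Subalgebra.comap (IsScalarTower.toAlgHom R M Ω) A)) (EGA4.Cpl ↥A)]
    (hcT : ∀ t : ↥(Subalgebra.comap (IsScalarTower.toAlgHom R M Ω) A), algebraMap (EGA4.Cpl ↥(Subalgebra.comap (IsScalarTower.toAlgHom R M Ω) A)) (EGA4.Cpl ↥A) (algebraMap ↥(Subalgebra.comap (IsScalarTower.toAlgHom R M Ω) A) (EGA4.Cpl ↥(Subalgebra.comap (IsScalarTower.toAlgHom R M Ω) A)) t) =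
      algebraMap ↥A (EGA4.Cpl ↥A) (algebraMap ↥(Subalgebra.comap (IsScalarTower.toAlgHom R M Ω) A) ↥A t))
    [(IsLocalRing.maximalIdeal ↥A).LiesOver (IsLocalRing.maximalIdeal ↥(Subalgebra.comap (IsScalarTower.toAlgHom R M Ω) A))]
    (hLM : ∀ x : (EGA4.Cpl ↥(Subalgebra.comap (IsScalarTower.toAlgHom R L Ω) A)), ∃ a b : (EGA4.Cpl ↥(Subalgebra.comap (IsScalarTower.toAlgHom R M Ω) A)), algebraMap (EGA4.Cpl ↥(Subalgebra.comap (IsScalarTower.toAlgHom R M Ω) A)) (EGA4.Cpl ↥A) b ≠ 0 ∧
      algebraMap (EGA4.Cpl ↥(Subalgebra.comap (IsScalarTower.toAlgHom R L Ω) A)) (EGA4.Cpl ↥A) x * algebraMap (EGA4.Cpl ↥(Subalgebra.comap (IsScalarTower.toAlgHom R M Ω) A)) (EGA4.Cpl ↥A) b = algebraMap (EGA4.Cpl ↥(Subalgebra.comap (IsScalarTower.toAlgHom R M Ω) A)) (EGA4.Cpl ↥A) a) :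
    (IsLocalRing.maximalIdeal ↥(Subalgebra.comap (IsScalarTower.toAlgHom R M Ω) A)).map (algebraMap ↥(Subalgebra.comap (IsScalarTower.toAlgHom R M Ω) A) ↥A) = IsLocalRing.maximalIdeal ↥A ∧
      Module.Finite (↥(Subalgebra.comap (IsScalarTower.toAlgHom R M Ω) A) ⧸ IsLocalRing.maximalIdeal ↥(Subalgebra.comap (IsScalarTower.toAlgHom R M Ω) A)) (↥A ⧸ IsLocalRing.maximalIdeal ↥A) ∧
      Algebra.IsSeparable (↥(Subalgebra.comap (IsScalarTower.toAlgHom R M Ω) A) ⧸ IsLocalRing.maximalIdeal ↥(Subalgebra.comap (IsScalarTower.toAlgHom R M Ω) A)) (↥A ⧸ IsLocalRing.maximalIdeal ↥A) := by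
  classical
  have : IsNoetherianRing R := hR.1
  let B := ↥(integralClosure R Ω)
  let SS := Subalgebra.comap (IsScalarTower.toAlgHom R L Ω) A
  let TT := Subalgebra.comap (IsScalarTower.toAlgHom R M Ω) A
  -- the compositum is finite separable, so the integral closure is finite
  let fL : IntermediateField K Ω := (IsScalarTower.toAlgHom K L Ω).fieldRange
  let fM : IntermediateField K Ω := (IsScalarTower.toAlgHom K M Ω).fieldRange
  have htop : fL ⊔ fM = ⊤ := top_le_iff.mp (hΩ ▸ IntermediateField.adjoin_le_iff.mpr (by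
    rintro z (⟨l, rfl⟩ | ⟨m, rfl⟩)
    · exact le_sup_left (a := fL) (b := fM) (show _ ∈ fL from ⟨l, rfl⟩)
    · exact le_sup_right (a := fL) (b := fM) (show _ ∈ fM from ⟨m, rfl⟩)))
  have : FiniteDimensional K fL :=
    Module.Finite.of_surjective (IsScalarTower.toAlgHom K L Ω).rangeRestrict.toLinearMap
      (IsScalarTower.toAlgHom K L Ω).rangeRestrict_surjective
  have : FiniteDimensional K fM :=
    Module.Finite.of_surjective (IsScalarTower.toAlgHom K M Ω).rangeRestrict.toLinearMap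
      (IsScalarTower.toAlgHom K M Ω).rangeRestrict_surjective
  have : Algebra.IsSeparable K fL :=
    AlgEquiv.Algebra.isSeparable (AlgEquiv.ofInjectiveField (IsScalarTower.toAlgHom K L Ω))
  have : Algebra.IsSeparable K fM :=
    AlgEquiv.Algebra.isSeparable (AlgEquiv.ofInjectiveField (IsScalarTower.toAlgHom K M Ω))
  have : FiniteDimensional K ↥(fL ⊔ fM) := inferInstance
  have : Algebra.IsSeparable K ↥(fL ⊔ fM) := inferInstance
  have : FiniteDimensional K Ω := Module.Finite.equiv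
    ((IntermediateField.equivOfEq htop).trans IntermediateField.topEquiv).toLinearEquiv
  have : Algebra.IsSeparable K Ω :=
    AlgEquiv.Algebra.isSeparable ((IntermediateField.equivOfEq htop).trans IntermediateField.topEquiv)
  have : Module.Finite R B := IsIntegralClosure.finite R K Ω B
  have : 𝔪.LiesOver (IsLocalRing.maximalIdeal R) :=
    ⟨(IsLocalRing.eq_maximalIdeal (Ideal.isMaximal_comap_of_isIntegral_of_isMaximal 𝔪)).symm⟩
  -- `A` is the localization of `B` at `𝔪`
  have hBA : integralClosure R Ω ≤ A := fun z hz =>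
    (hA z).mpr ⟨⟨z, hz⟩, 1, fun h => ‹𝔪.IsMaximal›.ne_top ((Ideal.eq_top_iff_one _).mpr h), by simp⟩
  let _ : Algebra B A := (Subalgebra.inclusion hBA).toRingHom.toAlgebra
  have hBAv : ∀ b : B, ((algebraMap B A b : A) : Ω) = (b : Ω) := fun b => rfl
  have hloc : IsLocalization.AtPrime A 𝔪 := by
    refine { map_units := ?_, surj := ?_, exists_of_eq := ?_ }
    · rintro ⟨b, hb⟩
      have hb0 : (b : Ω) ≠ 0 := fun h => hb (by
        rw [show b = 0 from Subtype.ext h]; exact 𝔪.zero_mem)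
      refine isUnit_iff_exists_inv.mpr
        ⟨⟨(b : Ω)⁻¹, (hA _).mpr ⟨1, b, hb, by simp [inv_mul_cancel₀ hb0]⟩⟩, Subtype.ext ?_⟩
      exact mul_inv_cancel₀ hb0
    · intro z
      obtain ⟨a, b, hb, h⟩ := (hA z).mp z.2
      exact ⟨⟨a, ⟨b, hb⟩⟩, Subtype.ext h⟩
    · intro x y h
      exact ⟨1, by rw [show x = y from Subtype.ext ((hBAv x).symm.trans ((congrArg Subtype.val h).trans (hBAv y)))]⟩
  have : IsNoetherianRing B := IsNoetherianRing.of_finite R B
  have : IsNoetherianRing A := IsLocalization.isNoetherianRing 𝔪.primeCompl A inferInstance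
  -- the map of completions `R̂ → Ŝ → Â`
  have hRT : IsLocalRing.maximalIdeal R ≤ (IsLocalRing.maximalIdeal TT).comap (algebraMap R TT) := by
    intro r hr
    show algebraMap R TT r ∈ IsLocalRing.maximalIdeal TT
    rw [IsLocalRing.mem_maximalIdeal, mem_nonunits_iff]
    intro hu
    have h1 : algebraMap TT A (algebraMap R TT r) = algebraMap B A (algebraMap R B r) := Subtype.ext (by
      rw [hTA]
      exact (IsScalarTower.algebraMap_apply R M Ω r).symm)
    have h2 := (IsLocalization.AtPrime.to_map_mem_maximal_iff A 𝔪 (algebraMap R B r)).mpr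
      ((Ideal.mem_of_liesOver 𝔪 (IsLocalRing.maximalIdeal R) r).mp hr)
    rw [← h1] at h2
    exact (IsLocalRing.mem_maximalIdeal _).mp h2 (hu.map (algebraMap TT A))
  let ρ := H99.CplSpan.map (algebraMap R TT) hRT
  let φ : EGA4.Cpl R →+* EGA4.Cpl ↥A := (algebraMap (EGA4.Cpl ↥TT) (EGA4.Cpl ↥A)).comp ρ
  have hφ : ∀ r, φ (algebraMap R _ r) = algebraMap A _ (algebraMap B A (algebraMap R B r)) := fun r => by
    show algebraMap (EGA4.Cpl ↥TT) (EGA4.Cpl ↥A) (ρ (algebraMap R _ r)) = _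
    rw [H99.CplSpan.map_algebraMap, hcT]
    refine congrArg (algebraMap A (EGA4.Cpl A)) (Subtype.ext ?_)
    rw [hTA]
    exact (IsScalarTower.algebraMap_apply R M Ω r).symm
  -- elements of `Ω` are fractions of the subring generated by `S` and `T`
  let G : Set ↥A := Set.range (algebraMap SS A) ∪ Set.range (algebraMap TT A)
  let F := Subfield.closure ((A.val : ↥A →ₐ[R] Ω) '' G)
  have hden : ∀ (E : Type u) [Field E] [Algebra K E] [Algebra R E] [IsScalarTower R K E]
      [FiniteDimensional K E] [Algebra E Ω] [IsScalarTower R E Ω],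
      ∀ l : E, ∃ r : R, algebraMap R E r ≠ 0 ∧ algebraMap E Ω (algebraMap R E r * l) ∈ A := by
    intro E _ _ _ _ _ _ _ l
    have : Algebra.IsAlgebraic R E := (IsFractionRing.comap_isAlgebraic_iff (K := K)).mpr inferInstance
    obtain ⟨r, hr, hint⟩ := (Algebra.IsAlgebraic.isAlgebraic (R := R) l).exists_integral_multiple
    refine ⟨r, fun h => hr ?_, ?_⟩
    · rw [IsScalarTower.algebraMap_apply R K E] at h
      exact IsFractionRing.injective R K (((algebraMap K E).injective (h.trans (map_zero _).symm)).trans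
        (map_zero _).symm)
    · rw [← Algebra.smul_def]
      exact hBA (hint.map (IsScalarTower.toAlgHom R E Ω))
  have hFL : ∀ l : L, algebraMap L Ω l ∈ F := fun l => by
    obtain ⟨r, hr, hmem⟩ := hden L l
    have hrA : algebraMap L Ω (algebraMap R L r) ∈ A := by
      rw [← IsScalarTower.algebraMap_apply]; exact A.algebraMap_mem r
    have : algebraMap L Ω l = algebraMap L Ω (algebraMap R L r * l) / algebraMap L Ω (algebraMap R L r) := by
      rw [map_mul, mul_div_cancel_left₀ _ ((map_ne_zero _).mpr hr)]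
    rw [this]
    exact div_mem (Subfield.subset_closure ⟨_, Or.inl ⟨⟨_, hmem⟩, rfl⟩, hSA _⟩)
      (Subfield.subset_closure ⟨_, Or.inl ⟨⟨_, hrA⟩, rfl⟩, hSA _⟩)
  have hFM : ∀ m : M, algebraMap M Ω m ∈ F := fun l => by
    obtain ⟨r, hr, hmem⟩ := hden M l
    have hrA : algebraMap M Ω (algebraMap R M r) ∈ A := by
      rw [← IsScalarTower.algebraMap_apply]; exact A.algebraMap_mem r
    have : algebraMap M Ω l = algebraMap M Ω (algebraMap R M r * l) / algebraMap M Ω (algebraMap R M r) := by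
      rw [map_mul, mul_div_cancel_left₀ _ ((map_ne_zero _).mpr hr)]
    rw [this]
    exact div_mem (Subfield.subset_closure ⟨_, Or.inr ⟨⟨_, hmem⟩, rfl⟩, hTA _⟩)
      (Subfield.subset_closure ⟨_, Or.inr ⟨⟨_, hrA⟩, rfl⟩, hTA _⟩)
  have hFtop : ∀ z : Ω, z ∈ F := fun z => by
    let F' : IntermediateField K Ω := F.toIntermediateField fun k => by
      rw [IsScalarTower.algebraMap_apply K L Ω]
      exact hFL _
    have h : (⊤ : IntermediateField K Ω) ≤ F' := hΩ ▸ IntermediateField.adjoin_le_iff.mpr (by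
      rintro z (⟨l, rfl⟩ | ⟨m, rfl⟩)
      · exact hFL l
      · exact hFM m)
    exact h (IntermediateField.mem_top (x := z))
  let ψ : ↥A →+* EGA4.Cpl ↥A := algebraMap ↥A (EGA4.Cpl ↥A)
  have hψinj : Function.Injective ψ := by
    have : IsHausdorff (IsLocalRing.maximalIdeal ↥A) ↥A :=
      IsHausdorff.of_isLocalRing _ ↥A (IsLocalRing.maximalIdeal.isMaximal ↥A).ne_top
    exact AdicCompletion.of_injective (IsLocalRing.maximalIdeal ↥A) ↥A
  let P := Algebra.adjoin (EGA4.Cpl ↥SS)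
    (Set.range (algebraMap (EGA4.Cpl ↥TT) (EGA4.Cpl ↥A)))
  have hGP : Subring.closure G ≤ P.toSubring.comap ψ := Subring.closure_le.mpr (by
    rintro _ (⟨s, rfl⟩ | ⟨t, rfl⟩)
    · show ψ _ ∈ P
      rw [show ψ (algebraMap SS A s) = algebraMap (EGA4.Cpl ↥SS) (EGA4.Cpl ↥A)
        (algebraMap SS (EGA4.Cpl ↥SS) s) from (hcS s).symm]
      exact P.algebraMap_mem _
    · show ψ _ ∈ P
      rw [show ψ (algebraMap TT A t) = algebraMap (EGA4.Cpl ↥TT) (EGA4.Cpl ↥A)
        (algebraMap TT (EGA4.Cpl ↥TT) t) from (hcT t).symm]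
      exact Algebra.subset_adjoin ⟨_, rfl⟩)
  have hfrac : ∀ z : ↥A, ∃ a c : ↥A, c ≠ 0 ∧ ψ a ∈ P ∧ ψ c ∈ P ∧ z * c = a := fun z => by
    obtain ⟨a, ha, c, hc, hac⟩ := Subfield.mem_closure_iff.mp (hFtop (z : Ω))
    have hcl : Subring.closure ((A.val : ↥A →ₐ[R] Ω) '' G) =
        (Subring.closure G).map (A.val : ↥A →ₐ[R] Ω).toRingHom := (RingHom.map_closure _ _).symm
    rw [hcl] at ha hc
    obtain ⟨a, ha, rfl⟩ := ha
    obtain ⟨c, hc, rfl⟩ := hc
    by_cases hc0 : c = 0
    · refine ⟨0, 1, one_ne_zero, by rw [map_zero]; exact P.zero_mem, by rw [map_one]; exact P.one_mem, ?_⟩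
      have : (z : Ω) = 0 := by
        rw [← hac, hc0]
        simp
      rw [mul_one]
      exact Subtype.ext this
    · refine ⟨a, c, hc0, hGP ha, hGP hc, Subtype.ext ?_⟩
      show (z : Ω) * (c : Ω) = (a : Ω)
      rw [← hac]
      exact div_mul_cancel₀ _ fun h => hc0 (Subtype.ext h)
  -- `T` is the localization of the integral closure of `R` in `M`
  let C := ↥(integralClosure R M)
  have : Module.Finite R C := IsIntegralClosure.finite R K M C
  have : IsNoetherianRing C := IsNoetherianRing.of_finite R C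
  have : IsFractionRing C M := IsIntegralClosure.isFractionRing_of_finite_extension R K M C
  have : IsIntegrallyClosed C := integralClosure.isIntegrallyClosedOfFiniteExtension K
  have : IsIntegrallyClosed B := integralClosure.isIntegrallyClosedOfFiniteExtension K
  let iCB : C →+* B := ((algebraMap M Ω).comp (integralClosure R M).val.toRingHom).codRestrict
    (integralClosure R Ω).toSubring fun c => c.2.map (IsScalarTower.toAlgHom R M Ω)
  let _ : Algebra C B := iCB.toAlgebra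
  have : IsScalarTower R C B := IsScalarTower.of_algebraMap_eq fun r => Subtype.ext
    (IsScalarTower.algebraMap_apply R M Ω r)
  have : FaithfulSMul C B := (faithfulSMul_iff_algebraMap_injective _ _).mpr fun c c' h =>
    Subtype.ext ((algebraMap M Ω).injective (congrArg Subtype.val h))
  have : Algebra.IsIntegral C B := ⟨fun b => (Algebra.IsIntegral.isIntegral (R := R) b).tower_top⟩
  let 𝔫 := 𝔪.under C
  have hCA : ∀ c : C, algebraMap M Ω (c : M) ∈ A := fun c => hBA (iCB c).2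
  let _ : Algebra C TT := ((integralClosure R M).val.toRingHom.codRestrict TT.toSubring hCA).toAlgebra
  have hCTv : ∀ c : C, ((algebraMap C TT c : TT) : M) = (c : M) := fun c => rfl
  have hTB : ∀ c : C, algebraMap TT A (algebraMap C TT c) = algebraMap B A (algebraMap C B c) :=
    fun c => Subtype.ext ((hTA _).trans rfl)
  have hlocT : IsLocalization.AtPrime TT 𝔫 := by
    refine { map_units := ?_, surj := ?_, exists_of_eq := ?_ }
    · rintro ⟨c, hc⟩
      have hc0 : (c : M) ≠ 0 := fun h => hc (by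
        rw [show c = 0 from Subtype.ext h]; exact zero_mem _)
      have hu : IsUnit (algebraMap B A (algebraMap C B c)) :=
        IsLocalization.map_units A (⟨algebraMap C B c, hc⟩ : 𝔪.primeCompl)
      obtain ⟨v, hv⟩ := hu.exists_right_inv
      have hmem : (c : M)⁻¹ ∈ TT := by
        show algebraMap M Ω (c : M)⁻¹ ∈ A
        rw [map_inv₀, inv_eq_of_mul_eq_one_right (show algebraMap M Ω (c : M) * (v : Ω) = 1 from
          congrArg Subtype.val hv)]
        exact v.2
      exact isUnit_iff_exists_inv.mpr ⟨⟨_, hmem⟩, Subtype.ext (mul_inv_cancel₀ hc0)⟩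
    · intro t
      obtain ⟨a, d, hd, had⟩ := IsFractionRing.div_surjective (A := C) (t : M)
      have hdC : d ≠ 0 := nonZeroDivisors.ne_zero hd
      obtain ⟨u, v, hv, huv⟩ := (hA _).mp t.2
      have hd0 : (d : M) ≠ 0 := fun h => hdC (Subtype.ext h)
      have had' : (t : M) * (d : M) = (a : M) := by
        rw [← had]
        exact div_mul_cancel₀ _ hd0
      obtain ⟨c, w, hw, hcw⟩ := H99.CplNormal.exists_mul_eq C B 𝔪 a d hdC u v hv (Subtype.ext (by
        show algebraMap M Ω (a : M) * (v : Ω) = algebraMap M Ω (d : M) * (u : Ω)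
        rw [← had', map_mul, ← huv]
        show algebraMap M Ω (t : M) * algebraMap M Ω (d : M) * (v : Ω) =
          algebraMap M Ω (d : M) * (algebraMap M Ω (t : M) * (v : Ω))
        ring))
      refine ⟨⟨c, ⟨w, hw⟩⟩, Subtype.ext ?_⟩
      show (t : M) * (w : M) = (c : M)
      refine mul_left_cancel₀ hd0 ?_
      rw [← mul_assoc, mul_comm (d : M), had']
      exact congrArg Subtype.val hcw
    · intro x y h
      exact ⟨1, by rw [show x = y from Subtype.ext ((hCTv x).symm.trans ((congrArg Subtype.val h).trans (hCTv y)))]⟩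
  have : IsNoetherianRing TT := IsLocalization.isNoetherianRing 𝔫.primeCompl _ inferInstance
  have : IsIntegrallyClosed TT :=
    isIntegrallyClosed_of_isLocalization TT 𝔫.primeCompl 𝔫.primeCompl_le_nonZeroDivisors
  have : IsIntegrallyClosed A :=
    isIntegrallyClosed_of_isLocalization A 𝔪.primeCompl 𝔪.primeCompl_le_nonZeroDivisors
  have : IsScalarTower R B A := IsScalarTower.of_algebraMap_eq fun r => rfl
  have : IsScalarTower R C TT := IsScalarTower.of_algebraMap_eq fun r => rfl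
  have : Algebra.EssFiniteType B A := Algebra.EssFiniteType.of_isLocalization A 𝔪.primeCompl
  have : Algebra.EssFiniteType C TT := Algebra.EssFiniteType.of_isLocalization TT 𝔫.primeCompl
  have : Algebra.EssFiniteType R A := Algebra.EssFiniteType.comp R B A
  have : Algebra.EssFiniteType R TT := Algebra.EssFiniteType.comp R C TT
  obtain ⟨_, _⟩ := H99.CplNormal.isDomain_and_isIntegrallyClosed R hR.2.2.1 A
  obtain ⟨_, _⟩ := H99.CplNormal.isDomain_and_isIntegrallyClosed R hR.2.2.1 TT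
  -- everything in `Â` is a fraction of elements of `T̂`
  let θ : EGA4.Cpl ↥TT →+* EGA4.Cpl ↥A := algebraMap (EGA4.Cpl ↥TT) (EGA4.Cpl ↥A)
  let Fr : Subalgebra (EGA4.Cpl ↥TT) (EGA4.Cpl ↥A) :=
    { carrier := {x | ∃ a b, θ b ≠ 0 ∧ x * θ b = θ a}
      mul_mem' := by
        rintro x y ⟨a, b, hb, h⟩ ⟨a', b', hb', h'⟩
        refine ⟨a * a', b * b', by rw [map_mul]; exact mul_ne_zero hb hb', ?_⟩
        rw [map_mul, map_mul, ← h, ← h']
        ring
      add_mem' := by
        rintro x y ⟨a, b, hb, h⟩ ⟨a', b', hb', h'⟩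
        refine ⟨a * b' + a' * b, b * b', by rw [map_mul]; exact mul_ne_zero hb hb', ?_⟩
        rw [map_mul, map_add, map_mul, map_mul, ← h, ← h']
        ring
      algebraMap_mem' := fun r => ⟨r, 1, by rw [map_one]; exact one_ne_zero, by rw [map_one, mul_one]⟩ }
  have hPFr : ∀ z ∈ P, z ∈ Fr := fun z hz => by
    induction hz using Algebra.adjoin_induction with
    | mem z hz =>
      obtain ⟨y, rfl⟩ := hz
      exact Fr.algebraMap_mem y
    | algebraMap y =>
      obtain ⟨a, b, hb, h⟩ := hLM y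
      exact ⟨a, b, hb, h⟩
    | add x y _ _ hx hy => exact Fr.add_mem hx hy
    | mul x y _ _ hx hy => exact Fr.mul_mem hx hy
  have hψFr : ∀ z : ↥A, ψ z ∈ Fr := fun z => by
    obtain ⟨a, c, hc, haP, hcP, hac⟩ := hfrac z
    obtain ⟨a₁, b₁, hb₁, h₁⟩ := hPFr _ haP
    obtain ⟨a₂, b₂, hb₂, h₂⟩ := hPFr _ hcP
    have hc' : ψ c ≠ 0 := fun h => hc (hψinj (h.trans (map_zero ψ).symm))
    have ha₂ : θ a₂ ≠ 0 := h₂ ▸ mul_ne_zero hc' hb₂
    refine ⟨a₁ * b₂, b₁ * a₂, by rw [map_mul]; exact mul_ne_zero hb₁ ha₂, ?_⟩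
    have hac' : ψ z * ψ c = ψ a := by rw [← map_mul, hac]
    rw [map_mul, map_mul, ← h₁, ← h₂, ← hac']
    ring
  obtain ⟨g, hg⟩ := (Module.finite_def (R := R) (M := B)).mp inferInstance
  have hspan : ∀ x : EGA4.Cpl ↥A, ∃ Lc : g → EGA4.Cpl R,
      x = ∑ e : g, φ (Lc e) * ψ (algebraMap B A e.1) := H99.CplSpan.exists_sum R B A 𝔪 φ hφ g hg
  have hall : ∀ x, x ∈ Fr := fun x => by
    obtain ⟨Lc, rfl⟩ := hspan x
    exact Subalgebra.sum_mem _ fun e _ => Fr.mul_mem (Fr.algebraMap_mem (ρ (Lc e))) (hψFr _)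
  have hfinT : Module.Finite (EGA4.Cpl ↥TT) (EGA4.Cpl ↥A) := by
    refine ⟨⟨g.image fun e => ψ (algebraMap B A e), eq_top_iff.mpr fun x _ => ?_⟩⟩
    obtain ⟨Lc, rfl⟩ := hspan x
    refine Submodule.sum_mem _ fun e _ => ?_
    rw [show φ (Lc e) * ψ (algebraMap B A e.1) = ρ (Lc e) • ψ (algebraMap B A e.1) from
      (Algebra.smul_def _ _).symm]
    exact Submodule.smul_mem _ _ (Submodule.subset_span (by
      rw [Finset.coe_image]; exact ⟨e.1, e.2, rfl⟩))
  have hmA : IsLocalRing.maximalIdeal ↥A ≠ ⊤ := (IsLocalRing.maximalIdeal.isMaximal _).ne_top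
  have hmT : IsLocalRing.maximalIdeal ↥TT ≠ ⊤ := (IsLocalRing.maximalIdeal.isMaximal _).ne_top
  have hdim : ringKrullDim ↥A = ringKrullDim ↥TT := by
    rw [IsLocalization.AtPrime.ringKrullDim_eq_height 𝔪 ↥A,
      IsLocalization.AtPrime.ringKrullDim_eq_height 𝔫 ↥TT, Lib.Dim.Integral.height_eq_height_under (R := C) 𝔪]
  have hθinj : Function.Injective θ := by
    refine H99.CplNormal.injective_of_ringKrullDim_eq _ _ ?_ ?_
    · show ringKrullDim (AdicCompletion (IsLocalRing.maximalIdeal ↥TT) ↥TT) ≠ _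
      rw [Lib.Regular.Completion.ringKrullDim_eq (IsLocalRing.maximalIdeal ↥TT) hmT]
      exact ringKrullDim_ne_top
    · show ringKrullDim (AdicCompletion (IsLocalRing.maximalIdeal ↥A) ↥A) =
        ringKrullDim (AdicCompletion (IsLocalRing.maximalIdeal ↥TT) ↥TT)
      rw [Lib.Regular.Completion.ringKrullDim_eq (IsLocalRing.maximalIdeal ↥A) hmA, Lib.Regular.Completion.ringKrullDim_eq (IsLocalRing.maximalIdeal ↥TT) hmT, hdim]
  have hθsurj : Function.Surjective θ := fun x => by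
    obtain ⟨a, b, hb, h⟩ := hall x
    let KT := FractionRing (EGA4.Cpl ↥TT)
    let KA := FractionRing (EGA4.Cpl ↥A)
    have hb0 : b ≠ 0 := fun e => hb (by rw [e, map_zero])
    have hgj : Function.Injective ((algebraMap (EGA4.Cpl ↥A) KA).comp θ) :=
      (IsFractionRing.injective (EGA4.Cpl ↥A) KA).comp hθinj
    let j : KT →+* KA := IsFractionRing.lift hgj
    let jₐ : KT →ₐ[EGA4.Cpl ↥TT] KA :=
      { j with
        commutes' := fun y => by
          refine (IsFractionRing.lift_algebraMap hgj y).trans ?_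
          exact (IsScalarTower.algebraMap_apply (EGA4.Cpl ↥TT) (EGA4.Cpl ↥A) KA y).symm }
    have hz : jₐ (algebraMap _ KT a / algebraMap _ KT b) = algebraMap _ KA x := by
      rw [map_div₀, AlgHom.commutes, AlgHom.commutes,
        IsScalarTower.algebraMap_apply (EGA4.Cpl ↥TT) (EGA4.Cpl ↥A) KA a,
        IsScalarTower.algebraMap_apply (EGA4.Cpl ↥TT) (EGA4.Cpl ↥A) KA b,
        div_eq_iff ((map_ne_zero_iff _ (IsFractionRing.injective _ KA)).mpr hb), ← map_mul]
      exact congrArg _ h.symm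
    have hint : IsIntegral (EGA4.Cpl ↥TT) (algebraMap _ KT a / algebraMap _ KT b) :=
      (isIntegral_algHom_iff jₐ (RingHom.injective j)).mp (hz ▸
        (Algebra.IsIntegral.isIntegral x).map (IsScalarTower.toAlgHom (EGA4.Cpl ↥TT) (EGA4.Cpl ↥A) KA))
    obtain ⟨y, hy⟩ := IsIntegrallyClosed.isIntegral_iff.mp hint
    refine ⟨y, IsFractionRing.injective _ KA ?_⟩
    rw [← hz, ← hy, AlgHom.commutes]
    exact (IsScalarTower.algebraMap_apply (EGA4.Cpl ↥TT) (EGA4.Cpl ↥A) KA y).symm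
  -- the maximal ideals
  have hmaxT : IsLocalRing.maximalIdeal (EGA4.Cpl ↥TT) =
      (IsLocalRing.maximalIdeal ↥TT).map (algebraMap ↥TT (EGA4.Cpl ↥TT)) := AdicCompletion.maximalIdeal_eq_map
  have hmax : ((IsLocalRing.maximalIdeal ↥TT).map (algebraMap ↥TT ↥A)).map ψ =
      IsLocalRing.maximalIdeal (EGA4.Cpl ↥A) := by
    rw [Ideal.map_map, show ψ.comp (algebraMap ↥TT ↥A) = θ.comp (algebraMap ↥TT (EGA4.Cpl ↥TT)) from
      RingHom.ext fun t => (hcT t).symm, ← Ideal.map_map, ← hmaxT]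
    have : ((IsLocalRing.maximalIdeal (EGA4.Cpl ↥TT)).map θ).IsMaximal :=
      Ideal.IsMaximal.map_bijective θ ⟨hθinj, hθsurj⟩ (IsLocalRing.maximalIdeal.isMaximal _)
    exact IsLocalRing.eq_maximalIdeal this
  have hψmem : ∀ z : ↥A, ψ z ∈ IsLocalRing.maximalIdeal (EGA4.Cpl ↥A) ↔ z ∈ IsLocalRing.maximalIdeal ↥A :=
    fun z => by
      have := H99.GaloisCpl.of_mem_pow_iff ↥A 1 z
      rwa [pow_one, pow_one] at this
  have : Module.FaithfullyFlat ↥A (EGA4.Cpl ↥A) := Module.FaithfullyFlat.of_flat_of_isLocalHom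
  have h1 : (IsLocalRing.maximalIdeal ↥TT).map (algebraMap ↥TT ↥A) = IsLocalRing.maximalIdeal ↥A := by
    rw [← Ideal.comap_map_eq_self_of_faithfullyFlat (B := EGA4.Cpl ↥A)
      ((IsLocalRing.maximalIdeal ↥TT).map (algebraMap ↥TT ↥A))]
    refine SetLike.ext fun z => ?_
    rw [Ideal.mem_comap, hmax]
    exact hψmem z
  have hsurjk : Function.Surjective (algebraMap (↥TT ⧸ IsLocalRing.maximalIdeal ↥TT)
      (↥A ⧸ IsLocalRing.maximalIdeal ↥A)) := fun z => by
    obtain ⟨z, rfl⟩ := Ideal.Quotient.mk_surjective z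
    obtain ⟨y, hy⟩ := hθsurj (ψ z)
    obtain ⟨t, ht⟩ := Ideal.Quotient.mk_surjective (AdicCompletion.evalₐ (IsLocalRing.maximalIdeal ↥TT) 1 y)
    refine ⟨Ideal.Quotient.mk _ t, ?_⟩
    rw [Ideal.Quotient.algebraMap_mk_of_liesOver, Ideal.Quotient.mk_eq_mk_iff_sub_mem, ← hψmem, map_sub]
    have hyt : y - algebraMap ↥TT (EGA4.Cpl ↥TT) t ∈ IsLocalRing.maximalIdeal (EGA4.Cpl ↥TT) ^ 1 := by
      rw [← H99.GaloisCpl.ker_eval, RingHom.mem_ker, map_sub, sub_eq_zero]
      refine ht.symm.trans ?_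
      exact ((AdicCompletion.evalₐ (IsLocalRing.maximalIdeal ↥TT) 1).commutes t).symm
    rw [pow_one, hmaxT] at hyt
    have h2 := Ideal.mem_map_of_mem θ hyt
    rw [Ideal.map_map, show θ.comp (algebraMap ↥TT (EGA4.Cpl ↥TT)) = ψ.comp (algebraMap ↥TT ↥A) from
      RingHom.ext fun t => hcT t, ← Ideal.map_map, hmax, map_sub, hy] at h2
    have h3 := neg_mem h2
    rw [neg_sub] at h3
    rwa [show ψ (algebraMap ↥TT ↥A t) = θ (algebraMap ↥TT (EGA4.Cpl ↥TT) t) from (hcT t).symm]
  refine ⟨h1, Module.Finite.of_surjective (Algebra.linearMap _ _) hsurjk, ⟨fun z => ?_⟩⟩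
  obtain ⟨w, rfl⟩ := hsurjk z
  let _ := Ideal.Quotient.field (IsLocalRing.maximalIdeal ↥TT)
  let _ := Ideal.Quotient.field (IsLocalRing.maximalIdeal ↥A)
  exact isSeparable_algebraMap w

end Groth.Agent.S18537
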