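import Groth.Statements.S18538
import Mathlib.RingTheory.TensorProduct.IncludeLeftSubRight
import Mathlib.RingTheory.IntegralClosure.IntegrallyClosed
import Mathlib.RingTheory.Flat.FaithfullyFlat.Basic

set_option autoImplicit false
universe u
open EtAlg
open scoped TensorProduct

namespace Groth.Agent.S18538

/-- Let A ⊆ B be an injective finite extension of integrally closed domains, with fraction fields K ⊆ L
and L separable over K. Then A → B → B ⊗_A B is exact, the second map being b ↦ b ⊗ 1 - 1 ⊗ b: every
element of B whose two images in B ⊗_A B agree comes from A. -/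
theorem result
    (A B K L : Type u) [CommRing A] [CommRing B] [IsDomain A] [IsDomain B]
    [IsIntegrallyClosed A] [IsIntegrallyClosed B] [Algebra A B] [FaithfulSMul A B] [Module.Finite A B]
    [Field K] [Field L] [Algebra A K] [IsFractionRing A K] [Algebra B L] [IsFractionRing B L]
    [Algebra K L] [Algebra A L] [IsScalarTower A K L] [IsScalarTower A B L]
    [Algebra.IsSeparable K L] :
    Algebra.IsEffective A B := by
  intro b
  refine ⟨fun hb => ?_, fun ⟨a, ha⟩ => Algebra.TensorProduct.includeLeftSubRight_zero_of_mem_range ⟨a, ha⟩⟩
  rw [Algebra.TensorProduct.includeLeftSubRight_apply, sub_eq_zero] at hb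
  let φ : TensorProduct A B B →ₐ[A] TensorProduct K L L := Algebra.TensorProduct.productMap
    (((Algebra.TensorProduct.includeLeft : L →ₐ[K] TensorProduct K L L).restrictScalars A).comp (IsScalarTower.toAlgHom A B L))
    (((Algebra.TensorProduct.includeRight : L →ₐ[K] TensorProduct K L L).restrictScalars A).comp (IsScalarTower.toAlgHom A B L))
  have h : (algebraMap B L b) ⊗ₜ[K] (1 : L) = (1 : L) ⊗ₜ[K] (algebraMap B L b) := by
    have := congrArg φ hb
    simpa [φ] using this
  have heff : Algebra.IsEffective K L := Algebra.IsEffective.of_faithfullyFlat K L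
  obtain ⟨k, hk⟩ := (heff (algebraMap B L b)).1
    (by rw [Algebra.TensorProduct.includeLeftSubRight_apply, h, sub_self])
  rw [Algebra.linearMap_apply] at hk
  have hint : IsIntegral A k := by
    rw [← isIntegral_algebraMap_iff (algebraMap K L).injective, hk]
    exact (Algebra.IsIntegral.isIntegral b).algebraMap
  obtain ⟨a, rfl⟩ := IsIntegrallyClosed.isIntegral_iff.1 hint
  refine ⟨a, IsFractionRing.injective B L ?_⟩
  rw [Algebra.linearMap_apply, ← hk, ← IsScalarTower.algebraMap_apply A B L, ← IsScalarTower.algebraMap_apply A K L]

end Groth.Agent.S18538
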