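import Groth.Statements.S18539
import Mathlib

set_option autoImplicit false
universe u v w
open CAlg

open scoped Pointwise

namespace Groth.Agent.S18539

/-- For a commutative ring R, R-modules M and N and elements r₁, r₂ of R such that r₁ is a
non-zero-divisor on N and r₂ is a non-zero-divisor on N/r₁N, the element r₁ is a non-zero-divisor on
the module Hom_R(M, N) and r₂ is a non-zero-divisor on Hom_R(M, N)/r₁Hom_R(M, N). (Weak regularity
on both sides: no condition that the quotient by (r₁, r₂) is nonzero, which would fail for M = 0.) -/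
theorem result
    (R : Type u) [CommRing R] (M : Type v) (N : Type w)
    [AddCommGroup M] [Module R M] [AddCommGroup N] [Module R N]
    (r₁ r₂ : R) (h : RingTheory.Sequence.IsWeaklyRegular N [r₁, r₂]) :
    RingTheory.Sequence.IsWeaklyRegular (M →ₗ[R] N) [r₁, r₂] := by
  classical
  rw [RingTheory.Sequence.isWeaklyRegular_cons_iff, RingTheory.Sequence.isWeaklyRegular_cons_iff] at h ⊢
  obtain ⟨h1, h2, -⟩ := h
  refine ⟨fun a b hab => LinearMap.ext fun x => h1 (LinearMap.congr_fun hab x), ?_,
    RingTheory.Sequence.IsWeaklyRegular.nil _ _⟩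
  rw [isSMulRegular_iff_right_eq_zero_of_smul] at h2 ⊢
  intro q hq
  obtain ⟨φ, rfl⟩ := Submodule.Quotient.mk_surjective _ q
  rw [← Submodule.Quotient.mk_smul, Submodule.Quotient.mk_eq_zero, Submodule.mem_smul_pointwise_iff_exists] at hq
  obtain ⟨ψ, -, hψ⟩ := hq
  have hval : ∀ x, φ x ∈ r₁ • (⊤ : Submodule R N) := fun x => by
    rw [← Submodule.Quotient.mk_eq_zero]
    apply h2
    rw [← Submodule.Quotient.mk_smul, Submodule.Quotient.mk_eq_zero, Submodule.mem_smul_pointwise_iff_exists]
    exact ⟨ψ x, trivial, LinearMap.congr_fun hψ x⟩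
  choose g hg using fun x => (Submodule.mem_smul_pointwise_iff_exists _ _ _).1 (hval x)
  rw [Submodule.Quotient.mk_eq_zero, Submodule.mem_smul_pointwise_iff_exists]
  refine ⟨{ toFun := g, map_add' := fun a b => h1 ?_, map_smul' := fun c a => h1 ?_ }, trivial,
    LinearMap.ext fun x => (hg x).2⟩
  · show r₁ • g (a + b) = r₁ • (g a + g b)
    rw [smul_add, (hg _).2, (hg _).2, (hg _).2, map_add]
  · show r₁ • g (c • a) = r₁ • ((RingHom.id R) c • g a)
    rw [RingHom.id_apply, smul_comm r₁ c, (hg _).2, (hg _).2, map_smul]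

end Groth.Agent.S18539
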