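import Groth.Statements.S1854
import Groth.Agent.Lib.CycDet.Gamma

set_option autoImplicit false
universe u
open TensorProduct
open CycDet

namespace Groth.Agent.S1854

/-- Existence and the defining rule; the compatibilities (1)–(3) of the source are not restated: let 0 →
K → L → M → 0 be a short exact sequence of finite length modules over a local ring with residue
field κ. There is a κ-linear isomorphism γ : det_κ(K) ⊗ det_κ(M) → det_κ(L) such that whenever (e_i)
is an admissible tuple of K with nonzero symbol, (f̄_j) an admissible tuple of M, and (g) the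
admissible tuple of L consisting of the images of the e_i followed by lifts of the f̄_j, one has
γ([e] ⊗ [f̄]) = [g]. -/
theorem result (R : Type u) [CommRing R] [IsLocalRing R] (K L M : Type u) [AddCommGroup K] [Module R K] [AddCommGroup L] [Module R L] [AddCommGroup M] [Module R M] (hK : IsFiniteLength R K) (hM : IsFiniteLength R M) (f : K →ₗ[R] L) (g : L →ₗ[R] M) (hf : Function.Injective f) (hg : Function.Surjective g) (hfg : LinearMap.range f = LinearMap.ker g) (hlen : (Module.length R K).toNat + (Module.length R M).toNat = (Module.length R L).toNat) : ∃ γ : (CycDet.Det R K ⊗[IsLocalRing.ResidueField R] CycDet.Det R M) ≃ₗ[IsLocalRing.ResidueField R] CycDet.Det R L, ∀ (eK : CycDet.Adm R K (Module.length R K).toNat) (eM : CycDet.Adm R M (Module.length R M).toNat) (eL : CycDet.Adm R L (Module.length R L).toNat), CycDet.symbol R K eK ≠ 0 → (∀ i : Fin (Module.length R K).toNat, eL.1 (Fin.cast hlen (Fin.castAdd (Module.length R M).toNat i)) = f (eK.1 i)) → (∀ j : Fin (Module.length R M).toNat, g (eL.1 (Fin.cast hlen (Fin.natAdd (Module.length R K).toNat j)))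 = eM.1 j) → γ (CycDet.symbol R K eK ⊗ₜ CycDet.symbol R M eM) = CycDet.symbol R L eL := by
  have hexact : Function.Exact f g := LinearMap.exact_iff.2 hfg.symm
  have hLlen := Module.length_eq_add_of_exact f g hf hg hexact
  have hL : IsFiniteLength R L := Module.length_ne_top_iff.1 (by
    rw [hLlen]; exact WithTop.add_ne_top.2 ⟨Module.length_ne_top_iff.2 hK, Module.length_ne_top_iff.2 hM⟩)
  obtain ⟨γ, hγ⟩ := Groth.Agent.Lib.CycDet.Gamma.exists_gamma hf hg hfg
    (Groth.Agent.Lib.CycDet.Det.len_bot_eq hK) (Groth.Agent.Lib.CycDet.Det.len_bot_eq hM)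
    (Groth.Agent.Lib.CycDet.Det.len_bot_eq hL) hlen
  exact ⟨γ, fun eK eM eL => hγ eK eM eL⟩

end Groth.Agent.S1854
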