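import Groth.Statements.S18541
import Groth.Agent.H4.DualSep.Lambda
import Groth.Agent.H4.PicZero.Calculus
import Groth.Agent.H4.PicZero.CubeBase
import Groth.Agent.H63.FrobPic

set_option autoImplicit false
universe u
open CategoryTheory MonoidalCategory CartesianMonoidalCategory MonObj GrpObj AlgebraicGeometry
open AbVar

namespace Groth.Agent.S18541

open Groth.Agent.H3 Groth.Agent.H3.PicCalc Groth.Agent.H4.PicZero

/-- Let k be a finite field with q elements and A an abelian variety over k (a commutative group scheme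
over k which is smooth and proper with geometrically connected fibres), given with a dual (A^t, φ)
for the fppf topology. Let π : A → A be the q-power Frobenius endomorphism of A (the identity on the
underlying space and the q-th power map on sections; a homomorphism) and π^t : A^t → A^t a transpose
of π. Let L be an invertible module on A and λ_L : A → A^t the homomorphism Λ(L) attached to L
through φ. Then π followed by λ_L followed by π^t is q·λ_L, the q-th power of λ_L in the group of
morphisms A → A^t. (The published statement fixes L ample and reads π^‡ ∘ π = [q] for the Rosati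
involution ‡ of L; its proof rewrites this as the displayed identity, which uses only that L is
invertible.) -/
theorem result (k : Type u) [Field k] [Finite k]
    (A At : Over (Spec (CommRingCat.of k)))
    [GrpObj A] [IsCommMonObj A] [Smooth A.hom] [IsProper A.hom] [GeometricallyConnected A.hom]
    [GrpObj At] [IsCommMonObj At]
    (φ : AgPol.DualMap A At) (hdual : AbDual.IsDualAV Scheme.fppfPrecoverage A At φ)
    (π : A ⟶ A) [IsMonHom π] (hπb : π.left.base = 𝟙 _) (hπle : ∀ U : A.left.Opens, U ≤ π.left ⁻¹ᵁ U)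
    (hπapp : ∀ (U : A.left.Opens) (s : Γ(A.left, U)), (π.left.appLE U U (hπle U)).hom s = s ^ Nat.card k)
    (πt : At ⟶ At) [IsMonHom πt] (hπt : AbDual.IsTranspose π φ φ πt)
    (L : A.left.Modules) (hL : PicF.IsInvertible L) (lam : A ⟶ At) (hlam : AgPol.IsLambda A At φ L lam) :
    π ≫ lam ≫ πt = lam ^ Nat.card k := by
  letI : ∀ Y : Scheme.{u}, PicGrp.Law Y := Groth.Agent.Lib.TensorMod.Invertible.law
  obtain ⟨N, hN, hN', rfl⟩ := hlam
  let l := PicGrp.cls L hL
  let n : PicLoc.PicSet (A ⊗ A).left := PicGrp.cls N hN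
  let q := Nat.card k
  have hrel : n * ph (fst A A) l * ph (snd A A) l = ph μ[A] l :=
    (iso_iff (cl_tensor (cl_tensor (a := n) rfl (cl_pullback (fst A A) (a := l) rfl))
      (cl_pullback (snd A A) (a := l) rfl)) (cl_pullback μ[A] (a := l) rfl)).1 hN'
  have hzero : ∀ j : ℕ, AbDual.IsPicZeroCl A.hom A (n ^ j).1 := fun j => by
    obtain ⟨Lj, hLj, hLc⟩ := PicGrp.exists_eq_cls (l ^ j)
    obtain ⟨Nj, hNj, hNc⟩ := PicGrp.exists_eq_cls (n ^ j)
    rw [hNc]
    refine Groth.Agent.H4.DualSep.isPicZeroCl_lambda hLj hNj ?_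
    refine (iso_iff (cl_tensor (cl_tensor (a := PicGrp.cls Nj hNj) rfl
      (cl_pullback (fst A A) (a := PicGrp.cls Lj hLj) rfl)) (cl_pullback (snd A A) (a := PicGrp.cls Lj hLj) rfl))
      (cl_pullback μ[A] (a := PicGrp.cls Lj hLj) rfl)).2 ?_
    rw [← hLc, ← hNc, map_pow, map_pow, map_pow, ← mul_pow, ← mul_pow, hrel]
  have hn : AbDual.IsPicZeroCl A.hom A n.1 := by simpa using hzero 1
  have hphi : ∀ j : ℕ, φ A (n ^ j).1 = φ A n.1 ^ j := fun j => by
    induction j with
    | zero =>
      rw [pow_zero, pow_zero]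
      exact phi_one hdual (by simpa using hzero 0)
    | succ j ih => rw [pow_succ, phi_mul hdual (hzero j) hn, ih, pow_succ]
  have hpb : ph (π ▷ A) (ph (A ◁ π) n) = n ^ q := by
    have h := Groth.Agent.H4.DualSep.lambda_rel hL hN hN' (fst A A ≫ π) (snd A A ≫ π)
    have e : (π ▷ A) ≫ (A ◁ π) = lift (fst A A ≫ π) (snd A A ≫ π) := by
      apply CartesianMonoidalCategory.hom_ext <;> simp
    have em : (fst A A ≫ π) * (snd A A ≫ π) = μ[A] ≫ π := by
      rw [← MonObj.mul_comp, Hom.mul_def, lift_fst_snd, Category.id_comp]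
    have hq : ph π l = l ^ q := Groth.Agent.H63.FrobPic.ph_eq_pow π q hπb hπle hπapp l
    rw [em, ← e, ph_comp, ph_comp, ph_comp, ph_comp, hq, map_pow, map_pow, map_pow, ← hrel, mul_pow,
      mul_pow] at h
    exact mul_right_cancel (mul_right_cancel h)
  have h1 : AbDual.IsPicZeroCl A.hom A (ph (A ◁ π) n).1 :=
    isPicZeroCl_ph π (A ◁ π) (whiskerLeft_snd A π) hn
  show π ≫ φ A n.1 ≫ πt = φ A n.1 ^ q
  rw [← Category.assoc, ← phi_natural hdual π hn, ← hπt A _ h1, bcMap_eq, ← ph_val, hpb, hphi]

end Groth.Agent.S18541
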