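import Groth.Statements.S18544
import Mathlib.LinearAlgebra.Matrix.Transvection
import Mathlib.Algebra.MvPolynomial.Funext
import Mathlib.FieldTheory.IsAlgClosed.Basic

set_option autoImplicit false
universe u
open CAlg

namespace Groth.Agent.S18544

/-- Let F be an algebraically closed field of characteristic zero, n a natural number, and N a nonzero
polynomial over F in the n² matrix entries whose evaluation on n × n matrices is multiplicative,
N(xy) = N(x)·N(y) for all x, y (a norm form on the matrix algebra M_n(F) over F). Then N is a
natural power of the determinant: for some m, N(x) = det(x)^m for every matrix x. The published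
statement concerns norm forms of any central simple algebra over a subfield; this row is the case of
the full matrix algebra over an algebraically closed field, which is the case its proof treats. -/
theorem result (F : Type u) [Field F] [IsAlgClosed F]
    [CharZero F] (n : ℕ) (N : MvPolynomial (Fin n × Fin n) F) (hN : N ≠ 0)
    (hmul : ∀ x y : Matrix (Fin n) (Fin n) F,
      MvPolynomial.eval (fun ij : Fin n × Fin n => (x * y) ij.1 ij.2) N =
        MvPolynomial.eval (fun ij : Fin n × Fin n => x ij.1 ij.2) N * MvPolynomial.eval (fun ij : Fin n × Fin n => y ij.1 ij.2) N) :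
    ∃ m : ℕ, ∀ x : Matrix (Fin n) (Fin n) F,
      MvPolynomial.eval (fun ij : Fin n × Fin n => x ij.1 ij.2) N = x.det ^ m := by
  classical
  set ν : Matrix (Fin n) (Fin n) F → F :=
    fun x => MvPolynomial.eval (fun ij : Fin n × Fin n => x ij.1 ij.2) N with hν
  have hm : ∀ x y, ν (x * y) = ν x * ν y := hmul
  have h1 : ν 1 = 1 := by
    obtain ⟨v, hv⟩ : ∃ v, MvPolynomial.eval v N ≠ 0 := by
      by_contra! h
      exact hN (MvPolynomial.funext fun v => by simp [h v])
    have hv' : ν (Matrix.of fun i j => v (i, j)) ≠ 0 := by simpa [hν] using hv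
    have := hm (Matrix.of fun i j => v (i, j)) 1
    rw [mul_one] at this
    exact (mul_eq_left₀ hv').mp this.symm
  -- restrictions to lines are polynomials
  have hline : ∀ f : Fin n × Fin n → Polynomial F, ∃ q : Polynomial F, ∀ t, q.eval t =
      ν (Matrix.of fun i j => (f (i, j)).eval t) := fun f =>
    ⟨MvPolynomial.aeval f N, fun t => by
      rw [← Polynomial.coe_aeval_eq_eval, ← AlgHom.comp_apply, MvPolynomial.comp_aeval,
        MvPolynomial.aeval_eq_eval]
      simp [hν]⟩
  have htrans : ∀ T : Matrix.TransvectionStruct (Fin n) F, ν T.toMatrix = 1 := by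
    rintro ⟨i, j, hij, c⟩
    obtain ⟨q, hq⟩ := hline fun ab =>
      (if ab.1 = ab.2 then 1 else 0) + (if i = ab.1 ∧ j = ab.2 then Polynomial.X else 0)
    have hq' : ∀ t, q.eval t = ν (Matrix.transvection i j t) := by
      intro t
      rw [hq]
      congr 1
      ext a b
      simp [Matrix.transvection, Matrix.one_apply, Matrix.single, apply_ite (Polynomial.eval t)]
    have hne : ∀ t, q.eval t ≠ 0 := by
      intro t ht
      have := hm (Matrix.transvection i j t) (Matrix.transvection i j (-t))
      rw [Matrix.transvection_mul_transvection_same _ _ hij, add_neg_cancel, Matrix.transvection_zero,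
        h1, ← hq', ht, zero_mul] at this
      exact one_ne_zero this
    have hd : q.degree = 0 := by
      by_contra h
      obtain ⟨t, ht⟩ := IsAlgClosed.exists_root q h
      exact hne t ht
    rw [Polynomial.eq_C_of_degree_eq_zero hd] at hq'
    show ν (Matrix.transvection i j c) = 1
    rw [← hq', ← h1, ← Matrix.transvection_zero i j, ← hq']
    simp
  have hlist : ∀ L : List (Matrix.TransvectionStruct (Fin n) F),
      ν (L.map Matrix.TransvectionStruct.toMatrix).prod = 1 := by
    intro L
    induction L with
    | nil => simpa using h1
    | cons T L ih => rw [List.map_cons, List.prod_cons, hm, htrans, ih, one_mul]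
  -- powers on each diagonal entry
  have hpow : ∀ i : Fin n, ∃ m : ℕ, ∀ t, ν (Matrix.diagonal (Function.update 1 i t)) = t ^ m := by
    intro i
    obtain ⟨q, hq⟩ := hline fun ab =>
      if ab.1 = ab.2 then (if ab.1 = i then Polynomial.X else 1) else 0
    have hq' : ∀ t, q.eval t = ν (Matrix.diagonal (Function.update 1 i t)) := by
      intro t
      rw [hq]
      congr 1
      ext a b
      simp [Matrix.diagonal, Function.update_apply, apply_ite (Polynomial.eval t)]
    have hone : q.eval 1 = 1 := by
      rw [hq', Function.update_eq_self_iff.mpr (Pi.one_apply i).symm]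
      exact (congrArg ν Matrix.diagonal_one).trans h1
    have hqm : ∀ s t, q.eval (s * t) = q.eval s * q.eval t := by
      intro s t
      simp only [hq', ← hm, Matrix.diagonal_mul_diagonal]
      congr 2
      funext a
      rcases eq_or_ne a i with rfl | h <;> simp [*]
    have hroots : ∀ x ∈ q.roots, x = 0 := by
      intro x hx
      by_contra h
      have := hqm x x⁻¹
      rw [mul_inv_cancel₀ h, hone, (Polynomial.mem_roots'.mp hx).2, zero_mul] at this
      exact one_ne_zero this
    refine ⟨q.roots.card, fun t => ?_⟩
    have hspl := (IsAlgClosed.splits q).eq_prod_roots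
    rw [Multiset.eq_replicate_card.mpr hroots, Multiset.map_replicate, Multiset.prod_replicate,
      map_zero, sub_zero] at hspl
    have hl : q.leadingCoeff = 1 := by
      have := congrArg (Polynomial.eval 1) hspl
      rw [hone] at this
      simpa using this.symm
    rw [← hq', hspl, hl]
    simp
  choose m hm' using hpow
  have hdiag : ∀ d : Fin n → F, ν (Matrix.diagonal d) = ∏ i, d i ^ m i := by
    intro d
    suffices h : ∀ s : Finset (Fin n), ν (Matrix.diagonal fun a => if a ∈ s then d a else 1) =
        ∏ i ∈ s, d i ^ m i by simpa using h Finset.univ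
    intro s
    induction s using Finset.induction_on with
    | empty => simpa using h1
    | @insert a s ha ih =>
      rw [Finset.prod_insert ha, ← ih, ← hm', ← hm, Matrix.diagonal_mul_diagonal]
      congr 2
      funext b
      rcases eq_or_ne b a with rfl | h <;> simp [*]
  have heq : ∀ i j : Fin n, ∀ t : F, t ^ m i = t ^ m j := by
    intro i j t
    set e := Equiv.swap i j
    have hc : ∀ d : Fin n → F, (1 : Matrix (Fin n) (Fin n) F).submatrix e id * Matrix.diagonal d *
        (1 : Matrix (Fin n) (Fin n) F).submatrix id e = Matrix.diagonal (d ∘ e) := by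
      intro d
      rw [← Matrix.submatrix_id_id (Matrix.diagonal d), ← Matrix.submatrix_mul _ _ _ _ _ Function.bijective_id,
        ← Matrix.submatrix_mul _ _ _ _ _ Function.bijective_id, Matrix.one_mul, Matrix.mul_one,
        Matrix.submatrix_diagonal_equiv]
    have h2 : ν ((1 : Matrix (Fin n) (Fin n) F).submatrix e id) *
        ν ((1 : Matrix (Fin n) (Fin n) F).submatrix id e) = 1 := by
      rw [← hm, ← h1]
      congr 1
      have := hc (fun _ => 1)
      simpa [Matrix.diagonal_one, Function.comp_def] using this
    rw [← hm' i, ← hm' j]
    have h3 := congrArg ν (hc (Function.update 1 i t))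
    rw [hm, hm, mul_right_comm, h2, one_mul] at h3
    rw [h3]
    congr 2
    funext a
    simp [e, Function.update_apply, Equiv.swap_apply_eq_iff]
  rcases Nat.eq_zero_or_pos n with rfl | hn
  · refine ⟨0, fun x => ?_⟩
    rw [pow_zero, show x = 1 from Subsingleton.elim _ _]
    exact h1
  refine ⟨m ⟨0, hn⟩, fun x => ?_⟩
  obtain ⟨L, L', D, hx⟩ := Matrix.Pivot.exists_list_transvec_mul_diagonal_mul_list_transvec x
  show ν x = _
  rw [hx, hm, hm, hlist, hlist, one_mul, mul_one, hdiag, Matrix.det_mul, Matrix.det_mul,
    Matrix.TransvectionStruct.det_toMatrix_prod, Matrix.TransvectionStruct.det_toMatrix_prod,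
    one_mul, mul_one, Matrix.det_diagonal, ← Finset.prod_pow]
  exact Finset.prod_congr rfl fun i _ => heq _ _ _


end Groth.Agent.S18544
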