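import Groth.Statements.S18545
import Mathlib.LinearAlgebra.BilinearForm.Orthogonal
-- import your own Groth.Agent.* helpers here

set_option autoImplicit false
universe u
open AbVar

namespace Groth.Agent.S18545

/-- A step in the proof of Tate's isogeny result over finite fields, in linear-algebra form. Let K be a
field and V a K-vector space of finite dimension 2g carrying a nondegenerate alternating bilinear
form e. Let F be a K-subalgebra of End(V) which is isomorphic as a K-algebra to a finite product K ×
⋯ × K and which is spanned over K by a set S of similitudes of e (for each s in S there is a nonzero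
scalar c with e(s x, s y) = c·e(x, y) for all x, y). Let D be a set of endomorphisms of V such that
every F-stable isotropic subspace W of dimension g (a maximal isotropic subspace) is D-stable. Then
every F-stable isotropic subspace of V is D-stable. (In the application V is the rational ℓ-adic
Tate module of an abelian variety over a finite field with the Riemann form of a polarisation, F the
algebra generated by the Galois group, split for the chosen ℓ, and D the commutant of the image of
the endomorphism algebra; the hypothesis on maximal isotropic subspaces is the step obtained from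
the finiteness of isomorphism classes.) -/
theorem result (K : Type u) [Field K]
    (V : Type u) [AddCommGroup V] [Module K V] [FiniteDimensional K V] (g : ℕ) (hV : Module.finrank K V = 2 * g)
    (e : LinearMap.BilinForm K V) (he : e.IsAlt) (hnd : e.Nondegenerate)
    (F : Subalgebra K (Module.End K V)) (r : ℕ) (hF : Nonempty (F ≃ₐ[K] (Fin r → K)))
    (S : Set (Module.End K V)) (hS : Submodule.span K S = Subalgebra.toSubmodule F)
    (hsim : ∀ s ∈ S, ∃ c : K, c ≠ 0 ∧ ∀ x y : V, e (s x) (s y) = c * e x y)
    (D : Set (Module.End K V))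
    (hmax : ∀ W : Submodule K V, (∀ f ∈ F, ∀ w ∈ W, f w ∈ W) → (∀ x ∈ W, ∀ y ∈ W, e x y = 0) →
      Module.finrank K W = g → ∀ d ∈ D, ∀ w ∈ W, d w ∈ W)
    (W : Submodule K V) (hWF : ∀ f ∈ F, ∀ w ∈ W, f w ∈ W) (hWiso : ∀ x ∈ W, ∀ y ∈ W, e x y = 0) :
    ∀ d ∈ D, ∀ w ∈ W, d w ∈ W := by
  classical
  obtain ⟨φ⟩ := hF
  let ε : Fin r → Module.End K V := fun i => ((φ.symm (Pi.single i 1) : F) : Module.End K V)
  have hεF : ∀ i, ε i ∈ F := fun i => (φ.symm (Pi.single i 1)).2
  have hεsum : ∀ x : V, ∑ i, ε i x = x := by
    intro x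
    have : (∑ i, φ.symm (Pi.single i (1 : K))) = (1 : F) := by
      rw [← map_sum, Finset.univ_sum_single (fun _ => (1 : K))]
      exact map_one φ.symm
    have := congrArg (fun f : F => (f : Module.End K V) x) this
    simpa [ε] using this
  have heig : ∀ (f : Module.End K V) (hf : f ∈ F) (i : Fin r) (x : V), f (ε i x) = φ ⟨f, hf⟩ i • ε i x := by
    intro f hf i x
    have : (⟨f, hf⟩ : F) * φ.symm (Pi.single i 1) = φ ⟨f, hf⟩ i • φ.symm (Pi.single i 1) := by
      apply φ.injective
      rw [map_mul, map_smul, AlgEquiv.apply_symm_apply]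
      funext j
      rcases eq_or_ne j i with rfl | h <;> simp [*]
    exact congrArg (fun g : F => (g : Module.End K V) x) this
  have hrefl : e.IsRefl := LinearMap.IsAlt.isRefl he
  suffices H : ∀ (n : ℕ) (W : Submodule K V), 2 * g ≤ Module.finrank K W + n →
      (∀ f ∈ F, ∀ w ∈ W, f w ∈ W) → (∀ x ∈ W, ∀ y ∈ W, e x y = 0) → ∀ d ∈ D, ∀ w ∈ W, d w ∈ W from
    H (2 * g) W (by omega) hWF hWiso
  clear hWiso hWF W
  intro n
  induction n with
  | zero =>
    intro W hn hWF hWiso
    have hle : W ≤ e.orthogonal W := fun x hx y hy => hWiso y hy x hx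
    have := Submodule.finrank_mono hle
    rw [LinearMap.BilinForm.finrank_orthogonal hnd, hV] at this
    have hg0 : g = 0 := by omega
    exact hmax W hWF hWiso (by omega)
  | succ n ih =>
    intro W hn hWF hWiso
    have hle : W ≤ e.orthogonal W := fun x hx y hy => hWiso y hy x hx
    have hfr := Submodule.finrank_mono hle
    rw [LinearMap.BilinForm.finrank_orthogonal hnd, hV] at hfr
    rcases (show Module.finrank K W = g ∨ Module.finrank K W < g by omega) with hg | hg
    · exact hmax W hWF hWiso hg
    have hOS : ∀ s ∈ S, ∀ x ∈ e.orthogonal W, s x ∈ e.orthogonal W := by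
      intro s hs x hx w hw
      obtain ⟨c, hc, hce⟩ := hsim s hs
      have hsF : s ∈ F := (Subalgebra.mem_toSubmodule F).1 (hS ▸ Submodule.subset_span hs)
      have hinj : Function.Injective s := (injective_iff_map_eq_zero s).2 fun a ha => hnd.1 a fun b => by
        have := hce a b
        rw [ha, map_zero, LinearMap.zero_apply] at this
        exact (mul_eq_zero.1 this.symm).resolve_left hc
      let sW : W →ₗ[K] W := s.restrict (hWF s hsF)
      have hsurj : Function.Surjective sW := LinearMap.injective_iff_surjective.1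
        (fun a b hab => Subtype.ext (hinj (congrArg Subtype.val hab)))
      obtain ⟨w', hw'⟩ := hsurj ⟨w, hw⟩
      show e w (s x) = 0
      rw [show w = s w' from (congrArg Subtype.val hw').symm, hce, hx w' w'.2, mul_zero]
    have hOF : ∀ f ∈ F, ∀ x ∈ e.orthogonal W, f x ∈ e.orthogonal W := by
      intro f hf
      have hf' : f ∈ Submodule.span K S := hS ▸ hf
      clear hf
      induction hf' using Submodule.span_induction with
      | mem a ha => exact hOS a ha
      | zero => intro x _; exact Submodule.zero_mem _
      | add a b _ _ ha hb => intro x hx; exact Submodule.add_mem _ (ha x hx) (hb x hx)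
      | smul c a _ ha => intro x hx; exact Submodule.smul_mem _ c (ha x hx)
    obtain ⟨z, hzO, hzW⟩ : ∃ z, z ∈ e.orthogonal W ∧ z ∉ W := by
      by_contra h
      push Not at h
      have := Submodule.finrank_mono (show e.orthogonal W ≤ W from h)
      rw [LinearMap.BilinForm.finrank_orthogonal hnd, hV] at this
      omega
    obtain ⟨i, hi⟩ : ∃ i, ε i z ∉ W := by
      by_contra h
      push Not at h
      exact hzW (hεsum z ▸ Submodule.sum_mem _ fun i _ => h i)
    set x := ε i z with hx
    have hxO : x ∈ e.orthogonal W := hOF _ (hεF i) z hzO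
    obtain ⟨y₀, hy₀O, hxy₀⟩ : ∃ y₀ ∈ e.orthogonal W, e x y₀ ≠ 0 := by
      by_contra h
      push Not at h
      apply hi
      rw [← LinearMap.BilinForm.orthogonal_orthogonal hnd hrefl W]
      exact fun y hy => hrefl _ _ (h y hy)
    obtain ⟨j, hj⟩ : ∃ j, e x (ε j y₀) ≠ 0 := by
      by_contra h
      push Not at h
      apply hxy₀
      rw [← hεsum y₀, map_sum]
      exact Finset.sum_eq_zero fun j _ => h j
    set y := ε j y₀ with hy
    have hyO : y ∈ e.orthogonal W := hOF _ (hεF j) y₀ hy₀O
    have ext : ∀ (u : V) (k₀ : Fin r) (u₀ : V), u = ε k₀ u₀ → u ∈ e.orthogonal W → u ∉ W →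
        ∀ d ∈ D, ∀ w ∈ W, d w ∈ W ⊔ K ∙ u := by
      intro u k₀ u₀ hu huO huW d hd w hw
      refine ih (W ⊔ K ∙ u) ?_ ?_ ?_ d hd w (Submodule.mem_sup_left hw)
      · have : W < W ⊔ K ∙ u := lt_of_le_of_ne le_sup_left fun h =>
          huW (h ▸ Submodule.mem_sup_right (Submodule.mem_span_singleton_self u))
        have := Submodule.finrank_lt_finrank_of_lt this
        omega
      · intro f hf a ha
        obtain ⟨b, hb, c, hc, rfl⟩ := Submodule.mem_sup.1 ha
        obtain ⟨t, rfl⟩ := Submodule.mem_span_singleton.1 hc
        rw [map_add, map_smul]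
        refine Submodule.add_mem_sup (hWF f hf b hb) (Submodule.smul_mem _ t ?_)
        rw [hu, heig f hf k₀ u₀]
        exact Submodule.smul_mem _ _ (Submodule.mem_span_singleton_self _)
      · intro a ha b hb
        obtain ⟨a₁, ha₁, a₂, ha₂, rfl⟩ := Submodule.mem_sup.1 ha
        obtain ⟨t, rfl⟩ := Submodule.mem_span_singleton.1 ha₂
        obtain ⟨b₁, hb₁, b₂, hb₂, rfl⟩ := Submodule.mem_sup.1 hb
        obtain ⟨t', rfl⟩ := Submodule.mem_span_singleton.1 hb₂
        have h1 : e a₁ u = 0 := huO a₁ ha₁
        have h2 : e u b₁ = 0 := hrefl _ _ (huO b₁ hb₁)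
        simp [hWiso a₁ ha₁ b₁ hb₁, h1, h2, he.self_eq_zero]
    have hyW : y ∉ W := fun h => hj (hrefl _ _ (hxO y h))
    intro d hd w hw
    obtain ⟨a, ha, c, hc, hac⟩ := Submodule.mem_sup.1 (ext x i z hx hxO hi d hd w hw)
    obtain ⟨a', ha', c', hc', hac'⟩ := Submodule.mem_sup.1 (ext y j y₀ hy hyO hyW d hd w hw)
    obtain ⟨t, rfl⟩ := Submodule.mem_span_singleton.1 hc
    obtain ⟨t', rfl⟩ := Submodule.mem_span_singleton.1 hc'
    have hey : e (d w) y = t * e x y := by
      rw [← hac]; simp [show e a y = 0 from hyO a ha]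
    have hey' : e (d w) y = 0 := by
      rw [← hac']; simp [show e a' y = 0 from hyO a' ha', he.self_eq_zero]
    have ht : t = 0 := (mul_eq_zero.1 (hey.symm.trans hey')).resolve_right hj
    rw [← hac, ht, zero_smul, add_zero]
    exact ha

end Groth.Agent.S18545
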