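import Groth.Statements.S18550
import Groth.Agent.Lib.DerCat.TStruct

set_option autoImplicit false
open CategoryTheory Limits
universe w v u
open CohDer

namespace Groth.Agent.S18550

open Groth.Agent.Lib.DerCat.TStruct DerivedCategory CategoryTheory.Pretriangulated

/-- Let A be an abelian category, X an object of its derived category whose cohomology objects H^i(X)
are zero for all integers i outside the interval [a, a + n], and f : X → X an endomorphism in the
derived category such that H^i(f) = 0 for every i. Then f^(n+1) = 0. (The source works in the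
bounded derived category; the statement in D(A) for an object with cohomology bounded in this way is
the same assertion, the bounded derived category being a full subcategory.) -/
theorem result (A : Type u) [Category.{v} A] [Abelian A]
    [HasDerivedCategory.{w} A] (X : DerivedCategory A) (a : ℤ) (n : ℕ)
    (hX : ∀ i : ℤ, i < a ∨ a + n < i → IsZero ((DerivedCategory.homologyFunctor A i).obj X))
    (f : CategoryTheory.End X) (hf : ∀ i : ℤ, (DerivedCategory.homologyFunctor A i).map f = 0) :
    f ^ (n + 1) = 0 := by
  induction n generalizing X f with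
  | zero =>
    have : X.IsGE a := (isGE_iff X a).2 fun i hi => hX i (Or.inl hi)
    have : X.IsLE a := (isLE_iff X a).2 fun i hi => hX i (Or.inr (by simpa using hi))
    rw [pow_one]
    exact eq_zero_of_homologyMap_eq_zero a f (hf a)
  | succ n ih =>
    let b : ℤ := a + n + 1
    have : X.IsGE a := (isGE_iff X a).2 fun i hi => hX i (Or.inl hi)
    have : X.IsLE b := (isLE_iff X b).2 fun i hi => hX i (Or.inr (by push_cast; omega))
    let t := TStructure.t (C := A)
    let ι := (t.truncLTι b).app X
    have hA1 : ((t.truncLT b).obj X).IsGE a :=
      (inferInstance : t.IsGE ((t.truncLT b).obj X) a)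
    have hA2 : ((t.truncLT b).obj X).IsLE (b - 1) :=
      (inferInstance : t.IsLE ((t.truncLT b).obj X) (b - 1))
    let fA : End ((t.truncLT b).obj X) := (t.truncLT b).map f
    have hB : (t.truncGE b).map f = 0 := by
      have : ((t.truncGE b).obj X).IsLE b := (inferInstance : t.IsLE ((t.truncGE b).obj X) b)
      exact eq_zero_of_homologyMap_eq_zero b _
        (homologyMap_truncGE_map_eq_zero f b b fun _ => hf b)
    obtain ⟨k, hk⟩ : ∃ k : X ⟶ (t.truncLT b).obj X, (f : X ⟶ X) = k ≫ ι :=
      Triangle.coyoneda_exact₂ _ (t.triangleLTGE_distinguished b X) f (by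
        change f ≫ (t.truncGEπ b).app X = 0
        rw [← t.truncGEπ_naturality, hB, Limits.comp_zero])
    have hι : ∀ m : ℕ, ι ≫ (f ^ m : End X) = (fA ^ m : End _) ≫ ι := by
      intro m
      induction m with
      | zero => simp
      | succ m hm =>
        rw [pow_succ, pow_succ, End.mul_def, End.mul_def, ← Category.assoc]
        have : ι ≫ (f : X ⟶ X) = fA ≫ ι := ((t.truncLTι b).naturality f).symm
        rw [this, Category.assoc, hm, Category.assoc]
    have h0 : fA ^ (n + 1) = 0 := ih ((t.truncLT b).obj X) (fun i hi => by
        rcases hi with hi | hi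
        · exact isZero_of_isGE _ a i hi
        · exact isZero_of_isLE _ (b - 1) i (by omega)) fA
      (fun i => homologyMap_truncLT_map_eq_zero f b i fun _ => hf i)
    rw [pow_succ, End.mul_def]
    calc (f : X ⟶ X) ≫ (f ^ (n + 1) : End X) = k ≫ ι ≫ (f ^ (n + 1) : End X) := by
          conv_lhs => arg 1; rw [hk]
          exact Category.assoc _ _ _
      _ = k ≫ (fA ^ (n + 1) : End _) ≫ ι := by rw [hι]
      _ = 0 := by simp [h0]

end Groth.Agent.S18550
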