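import Groth.Statements.S18561
import Mathlib.Tactic.Positivity
import Mathlib.Data.Rat.Cast.Order
import Mathlib.LinearAlgebra.FiniteDimensional.Lemmas
import Mathlib.Tactic.Linarith
import Mathlib.Tactic.FieldSimp
import Mathlib.Tactic.Ring

set_option autoImplicit false
universe u v
open PtQuiv

namespace Groth.Agent.S18561

/-- Let K be a field and s i ∈ K² (i in a finite index type) nonzero vectors, regarded as a
representation of the quiver with a central vertex carrying the plane and one vertex per i carrying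
a line mapping to the plane by 1 ↦ s i. Then the representation is stable for some weight of the
hypersimplex (0 ≤ θ i ≤ 1, Σ θ i = 2, central weight -1) if and only if the s i fall into at least
three proportionality classes, i.e. three of them are pairwise non-proportional. (The published
statement is over an algebraically closed field and assumes semistability for some interior weight
instead of s i ≠ 0; any field is allowed here. Its further assertions, that the set of semistability
weights is full-dimensional exactly in this case and is a wall otherwise, are not part of this row.) -/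
theorem result (K : Type u) [Field K] (ι : Type v)
    [Fintype ι] (s : ι → (Fin 2 → K)) (hs : ∀ i, s i ≠ 0) :
    (∃ θ : ι → ℚ, (∀ i, 0 ≤ θ i) ∧ (∀ i, θ i ≤ 1) ∧ ∑ i, θ i = 2 ∧ PtQuiv.QStable (-1) θ s) ↔
      ∃ i j k : ι, s i ∉ K ∙ s j ∧ s j ∉ K ∙ s k ∧ s i ∉ K ∙ s k := by
  classical
  have hsym : ∀ i j, s i ∈ K ∙ s j → s j ∈ K ∙ s i := fun i j h => by
    obtain ⟨c, hc⟩ := Submodule.mem_span_singleton.mp h
    have hc0 : c ≠ 0 := fun e => hs i (by rw [← hc, e, zero_smul])
    exact Submodule.mem_span_singleton.mpr ⟨c⁻¹, by rw [← hc, inv_smul_smul₀ hc0]⟩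
  have hswap : ∀ i (v : Fin 2 → K), s i ∈ K ∙ v → s i ≠ 0 → v ∈ K ∙ s i := fun i v h hv => by
    obtain ⟨c, hc⟩ := Submodule.mem_span_singleton.mp h
    have hc0 : c ≠ 0 := fun e => hv (by rw [← hc, e, zero_smul])
    exact Submodule.mem_span_singleton.mpr ⟨c⁻¹, by rw [← hc, inv_smul_smul₀ hc0]⟩
  constructor
  · rintro ⟨θ, h0, h1, h2, ⟨h3, h4⟩, h5⟩
    by_contra hne
    have hline : ∀ a, ∑ l ∈ Finset.univ.filter (fun l => s l ∈ K ∙ s a), θ l < 1 := by
      intro a
      have hsub : PtQuiv.QSubrep s (K ∙ s a) (Finset.univ.filter fun l => s l ∈ K ∙ s a) :=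
        fun l hl => (Finset.mem_filter.mp hl).2
      have h6 := h4 _ _ hsub
      have h7 := h5 _ _ hsub
      simp only [PtQuiv.QWt, finrank_span_singleton (hs a), Nat.cast_one] at h6 h7
      refine lt_of_le_of_ne (by linarith) fun e => ?_
      rcases h7 (by linarith) with ⟨hL, -⟩ | ⟨hL, -⟩
      · exact hs a (Submodule.span_singleton_eq_bot.mp hL)
      · have := finrank_span_singleton (K := K) (hs a)
        rw [hL, finrank_top, Module.finrank_fintype_fun_eq_card, Fintype.card_fin] at this
        omega
    obtain ⟨i⟩ : Nonempty ι := by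
      by_contra hι
      haveI := not_nonempty_iff.mp hι
      simp at h2
    have hex : ∃ j, s j ∉ K ∙ s i := by
      by_contra hall
      have := hline i
      rw [Finset.filter_eq_self.mpr fun l _ => not_not.mp fun h => hall ⟨l, h⟩, h2] at this
      linarith
    obtain ⟨j, hj⟩ := hex
    have hcov : ∀ l, s l ∈ K ∙ s i ∨ s l ∈ K ∙ s j := fun l => by
      by_contra hl
      rw [not_or] at hl
      exact hne ⟨l, j, i, hl.2, hj, hl.1⟩
    have h8 : (2 : ℚ) ≤ (∑ l ∈ Finset.univ.filter (fun l => s l ∈ K ∙ s i), θ l) +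
        ∑ l ∈ Finset.univ.filter (fun l => s l ∈ K ∙ s j), θ l := by
      rw [← h2, Finset.sum_filter, Finset.sum_filter, ← Finset.sum_add_distrib]
      refine Finset.sum_le_sum fun l _ => ?_
      have := h0 l
      rcases hcov l with h | h <;> simp only [h, if_true] <;> split_ifs <;> linarith
    have := hline i
    have := hline j
    linarith
  · rintro ⟨i, j, k, hij, hjk, hik⟩
    have hne : i ≠ j ∧ j ≠ k ∧ i ≠ k :=
      ⟨fun e => hij (e ▸ Submodule.mem_span_singleton_self _), fun e => hjk (e ▸ Submodule.mem_span_singleton_self _),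
        fun e => hik (e ▸ Submodule.mem_span_singleton_self _)⟩
    set T : Finset ι := {i, j, k} with hT
    have hTc : T.card = 3 := by simp [hT, hne.1, hne.2.1, hne.2.2]
    set R : ℕ := (Finset.univ \ T).card with hR
    set δ : ℚ := 1 / (4 * (R + 1)) with hδ
    have hδ0 : 0 < δ := by rw [hδ]; positivity
    have hδ1 : (R : ℚ) * δ ≤ 1 / 4 := by
      rw [hδ, mul_one_div, div_le_div_iff₀ (by positivity) (by norm_num)]; linarith
    have hδ2 : δ ≤ 1 / 4 := by
      rw [hδ, div_le_div_iff₀ (by positivity) (by norm_num)]; linarith [(Nat.cast_nonneg R : (0 : ℚ) ≤ R)]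
    set w : ℚ := (2 - R * δ) / 3 with hw
    let θ : ι → ℚ := fun l => if l ∈ T then w else δ
    have hRd : (0 : ℚ) ≤ R * δ := mul_nonneg (Nat.cast_nonneg _) hδ0.le
    have hpos : ∀ l, 0 < θ l := fun l => by
      simp only [θ]; split_ifs
      · rw [hw]; linarith
      · exact hδ0
    have hone : ∀ l, θ l ≤ 1 := fun l => by
      simp only [θ]; split_ifs
      · rw [hw]; linarith
      · linarith
    have hdec : ∀ I : Finset ι, ∑ l ∈ I, θ l = ((I ∩ T).card : ℚ) * w + ((I \ T).card : ℚ) * δ := fun I => by
      rw [← Finset.sum_inter_add_sum_sdiff I T, Finset.sum_congr rfl (g := fun _ => w) (fun l hl => if_pos (Finset.mem_inter.mp hl).2),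
        Finset.sum_congr rfl (g := fun _ => δ) (fun l hl => if_neg (Finset.mem_sdiff.mp hl).2)]
      simp
    have htot : ∑ l, θ l = 2 := by
      rw [hdec, Finset.univ_inter, hTc, ← hR, hw]; ring
    have hlt : ∀ (L : Submodule K (Fin 2 → K)) (I : Finset ι), PtQuiv.QSubrep s L I → Module.finrank K L = 1 →
        ∑ l ∈ I, θ l < 1 := by
      intro L I hI ho
      obtain ⟨v, hv0, hv⟩ := finrank_eq_one_iff'.mp ho
      have hmem : ∀ a ∈ I, s a ∈ K ∙ v.1 := fun a ha => by
        obtain ⟨c, hc⟩ := hv ⟨s a, hI a ha⟩
        exact Submodule.mem_span_singleton.mpr ⟨c, congrArg Subtype.val hc⟩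
      have hpair : ∀ a ∈ I, ∀ b ∈ I, s a ∈ K ∙ s b := fun a ha b hb =>
        (Submodule.span_singleton_le_iff_mem _ _).mpr (hswap b v.1 (hmem b hb) (hs b)) (hmem a ha)
      have hc1 : (I ∩ T).card ≤ 1 := by
        refine Finset.card_le_one.mpr fun a ha b hb => ?_
        obtain ⟨haI, haT⟩ := Finset.mem_inter.mp ha
        obtain ⟨hbI, hbT⟩ := Finset.mem_inter.mp hb
        have hab := hpair a haI b hbI
        have hba := hpair b hbI a haI
        simp only [hT, Finset.mem_insert, Finset.mem_singleton] at haT hbT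
        rcases haT with rfl | rfl | rfl <;> rcases hbT with rfl | rfl | rfl <;>
          first | rfl | exact absurd hab hij | exact absurd hba hij | exact absurd hab hjk | exact absurd hba hjk |
            exact absurd hab hik | exact absurd hba hik
      have h9 : ((I \ T).card : ℚ) ≤ R := by exact_mod_cast Finset.card_le_card (Finset.sdiff_subset_sdiff (Finset.subset_univ I) le_rfl)
      have h10 : ((I ∩ T).card : ℚ) ≤ 1 := by exact_mod_cast hc1
      rw [hdec]
      have : ((I ∩ T).card : ℚ) * w ≤ w := mul_le_of_le_one_left (by rw [hw]; linarith) h10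
      have : ((I \ T).card : ℚ) * δ ≤ R * δ := mul_le_mul_of_nonneg_right h9 hδ0.le
      rw [hw] at *
      linarith
    have hwt : ∀ (L : Submodule K (Fin 2 → K)) (I : Finset ι), PtQuiv.QSubrep s L I →
        (L = ⊥ ∧ I = ∅) ∨ (L = ⊤ ∧ I = Finset.univ) ∨ PtQuiv.QWt K (-1) θ L I < 0 := by
      intro L I hI
      have hle : Module.finrank K L ≤ 2 := (Submodule.finrank_le L).trans (by simp)
      obtain h | h | h : Module.finrank K L = 0 ∨ Module.finrank K L = 1 ∨ Module.finrank K L = 2 := by omega
      · have hL := Submodule.finrank_eq_zero.mp h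
        exact Or.inl ⟨hL, Finset.eq_empty_of_forall_notMem fun a ha => hs a (by simpa [hL] using hI a ha)⟩
      · refine Or.inr (Or.inr ?_)
        simp only [PtQuiv.QWt, h, Nat.cast_one]
        linarith [hlt L I hI h]
      · have hL : L = ⊤ := Submodule.eq_top_of_finrank_eq (by simp [h])
        by_cases hu : I = Finset.univ
        · exact Or.inr (Or.inl ⟨hL, hu⟩)
        · refine Or.inr (Or.inr ?_)
          obtain ⟨a, ha⟩ : ∃ a, a ∉ I := by
            by_contra hall; exact hu (Finset.eq_univ_of_forall fun a => not_not.mp fun h => hall ⟨a, h⟩)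
          have h11 : ∑ l ∈ I, θ l < ∑ l, θ l :=
            Finset.sum_lt_sum_of_subset (Finset.subset_univ I) (Finset.mem_univ a) ha (hpos a) fun l _ _ => (hpos l).le
          simp only [PtQuiv.QWt, h]
          rw [htot] at h11; push_cast; linarith
    refine ⟨θ, fun l => (hpos l).le, hone, htot, ⟨by rw [htot]; norm_num, fun L I hI => ?_⟩, fun L I hI h0 => ?_⟩
    · rcases hwt L I hI with ⟨hL, hI'⟩ | ⟨hL, hI'⟩ | h
      · subst hL hI'; simp [PtQuiv.QWt]
      · subst hL hI'; simp only [PtQuiv.QWt, finrank_top, Module.finrank_fintype_fun_eq_card, Fintype.card_fin, htot]; norm_num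
      · exact h.le
    · rcases hwt L I hI with h | h | h
      · exact Or.inl h
      · exact Or.inr h
      · linarith

end Groth.Agent.S18561
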