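import Groth.Statements.S18572
import Groth.Agent.Lib.H75.REq.Basic

set_option autoImplicit false
universe u
open CategoryTheory AlgebraicGeometry
open REq

namespace Groth.Agent.S18572

open Groth.Agent.Lib.H75.REq.Basic

/-- Let k be an infinite field and X an integral separated scheme of finite type over k which is retract
rational over k. Then X is almost R-trivial over k: there is a dense open subscheme U of X such
that, for every field K containing k (in the universe of k), U has a K-point and any two K-points of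
X lying in U are R-equivalent on X. -/
theorem result (k : Type u) [Field k] [Infinite k] (X : Scheme.{u})
    (f : X ⟶ Spec (CommRingCat.of k)) [IsIntegral X] [LocallyOfFiniteType f] [QuasiCompact f]
    [IsSeparated f] (hX : REq.IsRetractRational f) :
    REq.IsAlmostRTrivial f := by
  obtain ⟨U, n, V, a, b, hne, hab, ha, hb⟩ := hX
  refine ⟨U, U.2.dense hne, fun K _ _ => ⟨?_, fun A B hA hB => ?_⟩⟩
  · obtain ⟨x, hx⟩ := hne
    obtain ⟨P⟩ := exists_rational_point (k := k) (K := K) n V ⟨_, (a ⟨x, hx⟩).2⟩
    refine ⟨mapPt (f := U.ι ≫ f) U.ι rfl (mapPt b hb P), ?_⟩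
    rintro _ ⟨s, rfl⟩
    exact ((P.1 ≫ b) s).2
  · have hr : ∀ P : _root_.REq.Pts f K, _root_.REq.InOpen f U P → Set.range P.1 ⊆ Set.range U.ι := fun P hP => by
      rw [Scheme.Opens.range_ι]; exact hP
    let l : ∀ P : _root_.REq.Pts f K, _root_.REq.InOpen f U P → _root_.REq.Pts (U.ι ≫ f) K := fun P hP =>
      ⟨IsOpenImmersion.lift U.ι P.1 (hr P hP), by rw [IsOpenImmersion.lift_fac_assoc]; exact P.2⟩
    have h := elemLink_map (f' := f) U.ι rfl (elemLink_map (f' := U.ι ≫ f) b hb
      (elemLink_affineSpace n V (mapPt a ha (l A hA)) (mapPt a ha (l B hB))))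
    have e : ∀ P hP, mapPt (f' := f) U.ι rfl (mapPt (f' := U.ι ≫ f) b hb (mapPt a ha (l P hP))) = P := fun P hP =>
      Subtype.ext (by
        show (((IsOpenImmersion.lift U.ι P.1 (hr P hP)) ≫ a) ≫ b) ≫ U.ι = P.1
        simp only [Category.assoc]
        rw [reassoc_of% hab, IsOpenImmersion.lift_fac])
    rw [e A hA, e B hB] at h
    exact Relation.EqvGen.rel _ _ h

end Groth.Agent.S18572
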