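import Groth.Statements.S18573
import Groth.Agent.Lib.H75.REq.Basic

set_option autoImplicit false
universe u
open CategoryTheory AlgebraicGeometry
open REq

namespace Groth.Agent.S18573

open Groth.Agent.Lib.H75.REq.Basic

theorem sides (k : Type u) [Field k] (Y : Scheme.{u}) (g : Y ⟶ Spec (CommRingCat.of k)) (K : Type u) [Field K]
    [Algebra k K] (V W : Set Y) (hV : IsClosed V) (hW : IsClosed W) (hVW : V ∪ W = Set.univ)
    (hT : ∀ z : REq.Pts g K, ¬ (Set.range z.1.base ⊆ V ∩ W)) (A B : REq.Pts g K)
    (h : REq.ElemLink g K A B) : Set.range A.1 ⊆ V ↔ Set.range B.1 ⊆ V := by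
  obtain ⟨U, φ, a, b, h1, ha, hb, hA, hB⟩ := h
  let e := (Groth.Agent.Lib.ProjSpace.BaseChange.overSpecIso 1 K).inv
  haveI : IrreducibleSpace (REq.P1K K) := by
    rw [irreducibleSpace_def]
    have := (IrreducibleSpace.isIrreducible_univ (CohB1.ProjSpace 1 K)).image e e.continuous.continuousOn
    rwa [Set.image_univ, e.surjective.range_eq] at this
  have hsub : (U : Set (REq.P1K K)).Nonempty := ⟨_, (a (IsLocalRing.closedPoint K)).2⟩
  haveI : Nonempty (U : Scheme.{u}) := hsub.to_subtype
  haveI : IrreducibleSpace (U : Scheme.{u}) := Topology.IsOpenEmbedding.irreducibleSpace U.ι.isOpenEmbedding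
  have hirr : IsIrreducible (Set.univ : Set (U : Scheme.{u})) := IrreducibleSpace.isIrreducible_univ _
  have hcov : (Set.univ : Set (U : Scheme.{u})) ⊆ φ ⁻¹' V ∪ φ ⁻¹' W := fun x _ => by
    have : φ x ∈ V ∪ W := hVW ▸ Set.mem_univ _
    exact this
  have side : ∀ (Z : Set Y), Set.univ ⊆ φ ⁻¹' Z →
      ∀ (P : REq.Pts g K) (c : Spec (CommRingCat.of K) ⟶ (U : Scheme.{u})), c ≫ φ = P.1 → Set.range P.1 ⊆ Z := by
    rintro Z hZ P c hc _ ⟨s, rfl⟩
    rw [← hc]
    exact hZ (Set.mem_univ (c s))
  rcases (isPreirreducible_iff_isClosed_union_isClosed.1 hirr.2 _ _ (hV.preimage φ.continuous) (hW.preimage φ.continuous) hcov) with h' | h'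
  · exact ⟨fun _ => side V h' B b hB, fun _ => side V h' A a hA⟩
  · exact ⟨fun hAV => (hT A (Set.subset_inter hAV (side W h' A a hA))).elim,
      fun hBV => (hT B (Set.subset_inter hBV (side W h' B b hB))).elim⟩

/-- Let Y be a scheme over a field k and K a field containing k. Let V and W be closed subsets of Y with
V ∪ W = Y such that no K-point of Y has its image in V ∩ W. If p is a K-point of Y lying in V and q
a K-point of Y lying in W, then p and q are not R-equivalent on Y. (The published step concerns
k-points of the special fibre of a proper flat scheme over a discrete valuation ring, that is K = k;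
this row is stated for any scheme Y over k and K-points for any field K containing k.) -/
theorem result (k : Type u) [Field k] (Y : Scheme.{u})
    (g : Y ⟶ Spec (CommRingCat.of k)) (K : Type u) [Field K] [Algebra k K]
    (V W : Set Y) (hV : IsClosed V) (hW : IsClosed W) (hVW : V ∪ W = Set.univ)
    (hT : ∀ z : REq.Pts g K, ¬ (Set.range z.1.base ⊆ V ∩ W))
    (p q : REq.Pts g K) (hp : Set.range p.1.base ⊆ V) (hq : Set.range q.1.base ⊆ W) :
    ¬ REq.REquiv g K p q := by
  intro h
  have inv : ∀ A B, _root_.REq.REquiv g K A B → (Set.range A.1 ⊆ V ↔ Set.range B.1 ⊆ V) := by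
    intro A B hAB
    induction hAB with
    | rel A B hAB => exact sides k Y g K V W hV hW hVW hT A B hAB
    | refl A => exact Iff.rfl
    | symm _ _ _ ih => exact ih.symm
    | trans _ _ _ _ _ ih ih' => exact ih.trans ih'
  exact hT q (Set.subset_inter ((inv p q h).1 hp) hq)

end Groth.Agent.S18573
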