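import Groth.Statements.S18574
import Groth.Agent.Lib.H75.REq.Extend
import Mathlib.AlgebraicGeometry.Morphisms.Flat
import Mathlib.AlgebraicGeometry.Noetherian

set_option autoImplicit false
universe u v
open CategoryTheory AlgebraicGeometry
open REq

namespace Groth.Agent.S18574

open Groth.Agent.Lib.ProjSpace Limits TopologicalSpace

variable {k : Type u} [Field k] {X : Scheme.{u}} (Φ : (Over (Spec (CommRingCat.of k)))ᵒᵖ ⥤ Type v)
  (f : X ⟶ Spec (CommRingCat.of k))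

theorem congrFun_map {A B : (Over (Spec (CommRingCat.of k)))ᵒᵖ} {g g' : A ⟶ B} (h : Φ.map g = Φ.map g') (z : Φ.obj A) :
    Φ.map g z = Φ.map g' z := by rw [h]

theorem ext_gen [IsIntegral X] {W : X.Opens} (hW : genericPoint X ∈ W) {Y : Scheme.{u}} [Y.IsSeparated]
    (α β : (W : Scheme.{u}) ⟶ Y)
    (h : W.fromSpecStalkOfMem _ hW ≫ α = W.fromSpecStalkOfMem _ hW ≫ β) : α = β := by
  haveI : IsDominant (W.fromSpecStalkOfMem _ hW) := by
    refine ⟨fun z => ?_⟩
    have hz : (⟨_, hW⟩ : W) ∈ Set.range (W.fromSpecStalkOfMem _ hW) := by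
      refine ⟨IsLocalRing.closedPoint _, W.ι.isOpenEmbedding.injective ?_⟩
      rw [← Scheme.Hom.comp_apply, Scheme.Opens.fromSpecStalkOfMem_ι, Scheme.fromSpecStalk_closedPoint]
      rfl
    refine closure_mono (Set.singleton_subset_iff.2 hz) (specializes_iff_mem_closure.1 ?_)
    exact W.ι.isOpenEmbedding.isInducing.specializes_iff.1 (genericPoint_specializes _)
  exact ext_of_isDominant (ι := W.fromSpecStalkOfMem _ hW) h

theorem homOfLE_gen [IsIntegral X] {W W' : X.Opens} (hW : genericPoint X ∈ W) (hle : W ≤ W') :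
    W.fromSpecStalkOfMem _ hW ≫ X.homOfLE hle = W'.fromSpecStalkOfMem _ (hle hW) := by
  rw [← cancel_mono W'.ι, Category.assoc, Scheme.homOfLE_ι, Scheme.Opens.fromSpecStalkOfMem_ι,
    Scheme.Opens.fromSpecStalkOfMem_ι]

/-- Morphisms over `k` from an open. -/
noncomputable def Mor.{w} {k : Type w} [Field k] {X : Scheme.{w}} {f : X ⟶ Spec (CommRingCat.of k)} {W : X.Opens}
    (α : (W : Scheme.{w}) ⟶ X) (h : α ≫ f = W.ι ≫ f) : Over.mk (W.ι ≫ f) ⟶ Over.mk f :=
  Over.homMk α h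

/-- Two generic points spread out to morphisms with the same image under `Φ`. -/
def Rel [IsIntegral X] (V0 : X.Opens) (A B : Spec X.functionField ⟶ X) : Prop :=
  ∃ (W : X.Opens) (hW : genericPoint X ∈ W) (_ : W ≤ V0) (α β : (W : Scheme.{u}) ⟶ X)
    (hα : α ≫ f = W.ι ≫ f) (hβ : β ≫ f = W.ι ≫ f),
    W.fromSpecStalkOfMem _ hW ≫ α = A ∧ W.fromSpecStalkOfMem _ hW ≫ β = B ∧
      Φ.map (Mor α hα).op = Φ.map (Mor β hβ).op

variable {Φ f}

theorem Rel.symm [IsIntegral X] {V0 : X.Opens} {A B} (h : Rel Φ f V0 A B) : Rel Φ f V0 B A := by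
  obtain ⟨W, hW, hle, α, β, hα, hβ, h1, h2, h3⟩ := h
  exact ⟨W, hW, hle, β, α, hβ, hα, h2, h1, h3.symm⟩

theorem Rel.trans [IsIntegral X] [X.IsSeparated] {V0 : X.Opens} {A B C} (h : Rel Φ f V0 A B) (h' : Rel Φ f V0 B C) :
    Rel Φ f V0 A C := by
  obtain ⟨W, hW, hle, α, β, hα, hβ, h1, h2, h3⟩ := h
  obtain ⟨W', hW', hle', α', β', hα', hβ', h1', h2', h3'⟩ := h'
  let i := X.homOfLE (inf_le_left : W ⊓ W' ≤ W)
  let i' := X.homOfLE (inf_le_right : W ⊓ W' ≤ W')
  have hg : genericPoint X ∈ W ⊓ W' := ⟨hW, hW'⟩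
  have hmid : i ≫ β = i' ≫ α' := ext_gen hg _ _ (by
    simp only [i, i', ← Category.assoc, homOfLE_gen]
    rw [h2, h1'])
  have hia : (i ≫ α) ≫ f = (W ⊓ W').ι ≫ f := by rw [Category.assoc, hα, Scheme.homOfLE_ι_assoc]
  have hib : (i' ≫ β') ≫ f = (W ⊓ W').ι ≫ f := by rw [Category.assoc, hβ', Scheme.homOfLE_ι_assoc]
  let Mi : Over.mk ((W ⊓ W').ι ≫ f) ⟶ Over.mk (W.ι ≫ f) := Over.homMk i (Scheme.homOfLE_ι_assoc _ _ _)
  let Mi' : Over.mk ((W ⊓ W').ι ≫ f) ⟶ Over.mk (W'.ι ≫ f) := Over.homMk i' (Scheme.homOfLE_ι_assoc _ _ _)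
  refine ⟨W ⊓ W', hg, inf_le_left.trans hle, i ≫ α, i' ≫ β', hia, hib, ?_, ?_, ?_⟩
  · simp only [i, ← Category.assoc, homOfLE_gen]; exact h1
  · simp only [i', ← Category.assoc, homOfLE_gen]; exact h2'
  · have e1 : Mor (i ≫ α) hia = Mi ≫ Mor α hα := Over.OverMorphism.ext rfl
    have e2 : Mor (i' ≫ β') hib = Mi' ≫ Mor β' hβ' := Over.OverMorphism.ext rfl
    have e3 : Mi ≫ Mor β hβ = Mi' ≫ Mor α' hα' := Over.OverMorphism.ext hmid
    rw [e1, e2, op_comp, Functor.map_comp, h3, ← Functor.map_comp, ← op_comp, e3, op_comp, Functor.map_comp,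
      h3', ← Functor.map_comp, ← op_comp]

variable (Φ f)

theorem rel_refl [IsIntegral X] [LocallyOfFiniteType f] (V0 : X.Opens) (hV0 : genericPoint X ∈ V0)
    [Algebra k X.functionField]
    (hK : _root_.REq.specMap k X.functionField = X.fromSpecStalk (genericPoint X) ≫ f)
    (A : _root_.REq.Pts f X.functionField) : Rel Φ f V0 A.1 A.1 := by
  obtain ⟨U, hU, g, hg, hgf⟩ := spread_out_of_isGermInjective' f f A.1 (A.2.trans hK)
  have hg' : (X.homOfLE (inf_le_left : U ⊓ V0 ≤ U) ≫ g) ≫ f = (U ⊓ V0).ι ≫ f := by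
    rw [Category.assoc, hgf, Scheme.homOfLE_ι_assoc]
  refine ⟨U ⊓ V0, ⟨hU, hV0⟩, inf_le_right, _, _, hg', hg', ?_, ?_, rfl⟩
  all_goals rw [← Category.assoc, homOfLE_gen]; exact hg.symm

theorem flat_fromSpecStalk {Y : Scheme.{u}} (x : Y) : Flat (Y.fromSpecStalk x) := by
  obtain ⟨U, hU, hxU, -⟩ := exists_isAffineOpen_mem_and_subset (TopologicalSpace.Opens.mem_top x)
  rw [← hU.fromSpecStalk_eq_fromSpecStalk hxU, IsAffineOpen.fromSpecStalk]
  haveI : Flat (Spec.map (Y.presheaf.germ U x hxU)) := by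
    rw [HasRingHomProperty.Spec_iff (P := @Flat)]
    letI := TopCat.Presheaf.algebra_section_stalk Y.presheaf (⟨x, hxU⟩ : U)
    haveI := hU.isLocalization_stalk ⟨x, hxU⟩
    exact RingHom.flat_algebraMap_iff.2
      (IsLocalization.flat (Y.presheaf.stalk x) (hU.primeIdealOf ⟨x, hxU⟩).asIdeal.primeCompl)
  infer_instance

variable (hΦ : ∀ (Y : Scheme.{u}) (g : Y ⟶ Spec (CommRingCat.of k)) [IsIntegral Y] [Smooth g]
    [IsSeparated g] [QuasiCompact g],
    Function.Bijective (Φ.map (Over.homMk (CohB1.ProjSpaceOver.toBase 1 Y) rfl :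
      Over.mk (CohB1.ProjSpaceOver.toBase 1 Y ≫ g) ⟶ Over.mk g).op))

include hΦ in
theorem map_sect_eq [IsIntegral X] [IsProper f] {W : X.Opens} (hW : genericPoint X ∈ W) (hs : Smooth (W.ι ≫ f))
    (H : CohB1.ProjSpaceOver 1 (W : Scheme.{u}) ⟶ X)
    (hH : H ≫ f = CohB1.ProjSpaceOver.toBase 1 (W : Scheme.{u}) ≫ W.ι ≫ f)
    (sA sB : (W : Scheme.{u}) ⟶ CohB1.ProjSpaceOver 1 (W : Scheme.{u}))
    (hA : sA ≫ CohB1.ProjSpaceOver.toBase 1 (W : Scheme.{u}) = 𝟙 _)
    (hB : sB ≫ CohB1.ProjSpaceOver.toBase 1 (W : Scheme.{u}) = 𝟙 _)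
    (hα : (sA ≫ H) ≫ f = W.ι ≫ f) (hβ : (sB ≫ H) ≫ f = W.ι ≫ f) :
    Φ.map (Mor (sA ≫ H) hα).op = Φ.map (Mor (sB ≫ H) hβ).op := by
  haveI := hs
  haveI : Nonempty W := ⟨⟨_, hW⟩⟩
  haveI : IsIntegral (W : Scheme.{u}) := isIntegral_of_isOpenImmersion W.ι
  haveI : IsNoetherian X := { LocallyOfFiniteType.isLocallyNoetherian f, QuasiCompact.compactSpace_of_compactSpace f with }
  let g := W.ι ≫ f
  let pr : Over.mk (CohB1.ProjSpaceOver.toBase 1 (W : Scheme.{u}) ≫ g) ⟶ Over.mk g :=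
    Over.homMk (CohB1.ProjSpaceOver.toBase 1 (W : Scheme.{u})) rfl
  have hbij : Function.Bijective (Φ.map pr.op) := hΦ (W : Scheme.{u}) g
  let HA : Over.mk g ⟶ Over.mk (CohB1.ProjSpaceOver.toBase 1 (W : Scheme.{u}) ≫ g) :=
    Over.homMk sA (by show sA ≫ _ ≫ g = g; rw [← Category.assoc, hA, Category.id_comp])
  let HB : Over.mk g ⟶ Over.mk (CohB1.ProjSpaceOver.toBase 1 (W : Scheme.{u}) ≫ g) :=
    Over.homMk sB (by show sB ≫ _ ≫ g = g; rw [← Category.assoc, hB, Category.id_comp])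
  let HH : Over.mk (CohB1.ProjSpaceOver.toBase 1 (W : Scheme.{u}) ≫ g) ⟶ Over.mk f := Over.homMk H hH
  have eA : HA ≫ pr = 𝟙 _ := Over.OverMorphism.ext hA
  have eB : HB ≫ pr = 𝟙 _ := Over.OverMorphism.ext hB
  have heq : Φ.map HA.op = Φ.map HB.op := by
    refine ConcreteCategory.hom_ext _ _ fun z => ?_
    obtain ⟨w, rfl⟩ := hbij.2 z
    rw [← FunctorToTypes.map_comp_apply, ← FunctorToTypes.map_comp_apply, ← op_comp, ← op_comp, eA, eB]
  rw [show Mor (sA ≫ H) hα = HA ≫ HH from Over.OverMorphism.ext rfl,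
    show Mor (sB ≫ H) hβ = HB ≫ HH from Over.OverMorphism.ext rfl, op_comp, op_comp, Functor.map_comp,
    Functor.map_comp, heq]

include hΦ in
theorem rel_of_elemLink [IsIntegral X] [IsProper f] (V0 : X.Opens) (hV0 : genericPoint X ∈ V0)
    (hV0s : Smooth (V0.ι ≫ f)) [Algebra k X.functionField]
    (hK : _root_.REq.specMap k X.functionField = X.fromSpecStalk (genericPoint X) ≫ f)
    (A B : _root_.REq.Pts f X.functionField) (hAB : _root_.REq.ElemLink f X.functionField A B) :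
    Rel Φ f V0 A.1 B.1 := by
  obtain ⟨U, h, a, b, hh, ha, hb, hA, hB⟩ := hAB
  haveI : X.IsSeparated := ⟨by rw [← terminal.comp_from f]; infer_instance⟩
  obtain ⟨W0, hW0, hηW0, hW0V⟩ := exists_isAffineOpen_mem_and_subset hV0
  haveI : Nonempty W0 := ⟨⟨_, hηW0⟩⟩
  haveI : IsAffine (W0 : Scheme.{u}) := hW0
  let ηB : Spec (CommRingCat.of X.functionField) ⟶ (W0 : Scheme.{u}) := W0.fromSpecStalkOfMem _ hηW0
  have hsq : IsPullback (𝟙 (Spec (CommRingCat.of X.functionField))) ηB (X.fromSpecStalk (genericPoint X)) W0.ι :=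
    IsPullback.of_horiz_isIso_mono ⟨(Category.id_comp _).trans (Scheme.Opens.fromSpecStalkOfMem_ι _ _ _).symm⟩
  haveI : Flat ηB := MorphismProperty.of_isPullback (P := @Flat) hsq (flat_fromSpecStalk _)
  haveI : IsPreimmersion ηB := MorphismProperty.of_isPullback (P := @IsPreimmersion) hsq inferInstance
  let P := CohB1.ProjSpaceOver 1 (W0 : Scheme.{u})
  let π : P ⟶ (W0 : Scheme.{u}) := CohB1.ProjSpaceOver.toBase 1 (W0 : Scheme.{u})
  let q : _root_.REq.P1K X.functionField ⟶ P := BaseChange.overMap 1 ηB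
  have hq : IsPullback q (_root_.REq.P1K.toSpec X.functionField) π ηB := BaseChange.isPullback_overMap 1 ηB
  haveI : Flat q := MorphismProperty.of_isPullback (P := @Flat) hq.flip inferInstance
  haveI : IsPreimmersion q := MorphismProperty.of_isPullback (P := @IsPreimmersion) hq.flip inferInstance
  haveI : IsIntegral P := by
    haveI : Nonempty P := ⟨q (U.ι (a (IsLocalRing.closedPoint X.functionField)))⟩
    haveI : IsIso (BaseChange.overMap 1 hW0.isoSpec.hom) :=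
      (BaseChange.isPullback_overMap 1 hW0.isoSpec.hom).isIso_fst_of_isIso
    exact isIntegral_of_isOpenImmersion
      ((BaseChange.overMap 1 hW0.isoSpec.hom) ≫ (BaseChange.overSpecIso 1 Γ(X, W0)).hom)
  have hηf : ηB ≫ W0.ι ≫ f = _root_.REq.specMap k X.functionField := by
    rw [hK]; exact Scheme.Opens.fromSpecStalkOfMem_ι_assoc _ _ _ _
  have hne : Nonempty U := ⟨a (IsLocalRing.closedPoint X.functionField)⟩
  obtain ⟨D, G, hD, hG, hGh⟩ := Groth.Agent.Lib.H75.REq.Extend.exists_extend f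
    (fun y _ => Groth.Agent.Lib.H75.REq.Extend.valuationRing_stalk X.functionField y)
    (π ≫ W0.ι ≫ f) q U hne h (by rw [hh, reassoc_of% hq.w, hηf])
  -- closed complement
  have hπ : IsClosed (π '' (D : Set P)ᶜ) := π.isClosedMap _ D.2.isClosed_compl
  let Z : (W0 : Scheme.{u}).Opens := ⟨_, hπ.isOpen_compl⟩
  have hηZ : (⟨_, hηW0⟩ : W0) ∈ Z := by
    rintro ⟨p, hp, hpe⟩
    have hpt : ηB (IsLocalRing.closedPoint _) = π p := by
      rw [hpe]
      apply W0.ι.isOpenEmbedding.injective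
      rw [← Scheme.Hom.comp_apply, Scheme.Opens.fromSpecStalkOfMem_ι]
      exact Scheme.fromSpecStalk_closedPoint
    obtain ⟨z, hz, -⟩ := Scheme.Pullback.exists_preimage_pullback p _ hpt.symm
    apply hp
    rw [← hz, ← hq.isoPullback_inv_fst, Scheme.Hom.comp_apply]
    exact hD _
  -- spreading the two points
  have spread : ∀ (c : Spec (CommRingCat.of X.functionField) ⟶ (U : Scheme.{u})),
      c ≫ U.ι ≫ _root_.REq.P1K.toSpec X.functionField = 𝟙 _ →
      ∃ (W : X.Opens) (hW : genericPoint X ∈ W) (g : (W : Scheme.{u}) ⟶ P),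
        W.fromSpecStalkOfMem _ hW ≫ g = c ≫ U.ι ≫ q ∧ g ≫ π ≫ W0.ι ≫ f = W.ι ≫ f := by
    intro c hc
    have hP : LocallyOfFiniteType (π ≫ W0.ι ≫ f) := inferInstance
    obtain ⟨W, hW, g, hg, hgf⟩ := spread_out_of_isGermInjective' f (π ≫ W0.ι ≫ f) (c ≫ U.ι ≫ q) (by
      simp only [Category.assoc]
      rw [reassoc_of% hq.w, reassoc_of% hc, hηf, hK])
    exact ⟨W, hW, g, hg.symm, hgf⟩
  obtain ⟨W1, hW1, g1, hg1, hg1f⟩ := spread a ha
  obtain ⟨W2, hW2, g2, hg2, hg2f⟩ := spread b hb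
  let W : X.Opens := W0.ι ''ᵁ Z ⊓ (W1 ⊓ W2)
  have hW : genericPoint X ∈ W := ⟨⟨_, hηZ, rfl⟩, hW1, hW2⟩
  have hle : W ≤ W0 := inf_le_left.trans (W0.ι_image_le Z)
  let i := X.homOfLE hle
  let qW := BaseChange.overMap 1 i
  have hrange : Set.range qW ⊆ Set.range D.ι := by
    rw [Scheme.Opens.range_ι]
    rintro _ ⟨z, rfl⟩
    by_contra hzD
    obtain ⟨w, hwZ, hw⟩ := ((CohB1.ProjSpaceOver.toBase 1 (W : Scheme.{u})) z).2.1
    refine hwZ ⟨qW z, hzD, ?_⟩
    apply W0.ι.isOpenEmbedding.injective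
    refine Eq.trans ?_ hw.symm
    rw [← Scheme.Hom.comp_apply qW π, BaseChange.overMap_toBase, Scheme.Hom.comp_apply,
      ← Scheme.Hom.comp_apply i W0.ι, Scheme.homOfLE_ι]
    rfl
  let H := IsOpenImmersion.lift D.ι qW hrange ≫ G
  have hH : H ≫ f = CohB1.ProjSpaceOver.toBase 1 (W : Scheme.{u}) ≫ W.ι ≫ f := by
    rw [Category.assoc, hG, IsOpenImmersion.lift_fac_assoc, BaseChange.overMap_toBase_assoc, Scheme.homOfLE_ι_assoc]
  have sect : ∀ (c : Spec (CommRingCat.of X.functionField) ⟶ (U : Scheme.{u}))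
      (_ : c ≫ U.ι ≫ _root_.REq.P1K.toSpec X.functionField = 𝟙 _)
      (W' : X.Opens) (hW' : genericPoint X ∈ W') (g : (W' : Scheme.{u}) ⟶ P)
      (_ : W'.fromSpecStalkOfMem _ hW' ≫ g = c ≫ U.ι ≫ q) (_ : W ≤ W'),
      ∃ s : (W : Scheme.{u}) ⟶ CohB1.ProjSpaceOver 1 (W : Scheme.{u}),
        s ≫ CohB1.ProjSpaceOver.toBase 1 (W : Scheme.{u}) = 𝟙 _ ∧ W.fromSpecStalkOfMem _ hW ≫ s ≫ H = c ≫ h := by
    intro c hc W' hW' g hg hW'le
    have hsec : (X.homOfLE hW'le ≫ g) ≫ π = i := by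
      refine ext_gen hW _ _ ?_
      rw [← Category.assoc, ← Category.assoc, homOfLE_gen hW hW'le, hg, homOfLE_gen hW hle]
      simp only [Category.assoc]
      rw [hq.w, reassoc_of% hc]
    obtain ⟨s, hs1, hs2⟩ := (BaseChange.isPullback_overMap 1 i).exists_lift (X.homOfLE hW'le ≫ g) (𝟙 _)
      (by rw [hsec, Category.id_comp])
    refine ⟨s, hs2, ?_⟩
    have e : (W.fromSpecStalkOfMem _ hW ≫ s) ≫ IsOpenImmersion.lift D.ι qW hrange =
        c ≫ IsOpenImmersion.lift D.ι (U.ι ≫ q)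
          (by rw [Scheme.Opens.range_ι]; rintro _ ⟨z, rfl⟩; exact hD _) := by
      rw [← cancel_mono D.ι]
      simp only [Category.assoc, IsOpenImmersion.lift_fac]
      rw [hs1, ← Category.assoc, homOfLE_gen hW hW'le, hg]
    simp only [H, ← Category.assoc]
    rw [e, Category.assoc, hGh]
  obtain ⟨sA, hsA, hsAη⟩ := sect a ha W1 hW1 g1 hg1 (inf_le_right.trans inf_le_left)
  obtain ⟨sB, hsB, hsBη⟩ := sect b hb W2 hW2 g2 hg2 (inf_le_right.trans inf_le_right)
  have hs : Smooth (W.ι ≫ f) := by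
    rw [← X.homOfLE_ι (hle.trans hW0V), Category.assoc]
    infer_instance
  have hαf : (sA ≫ H) ≫ f = W.ι ≫ f := by rw [Category.assoc, hH, reassoc_of% hsA]
  have hβf : (sB ≫ H) ≫ f = W.ι ≫ f := by rw [Category.assoc, hH, reassoc_of% hsB]
  exact ⟨W, hW, hle.trans hW0V, sA ≫ H, sB ≫ H, hαf, hβf, hsAη.trans hA, hsBη.trans hB,
    map_sect_eq Φ f hΦ hW hs H hH sA sB hsA hsB hαf hβf⟩

/-- Let k be a field and Φ a contravariant functor from the category of schemes over Spec k to sets.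
Assume that for every integral scheme Y smooth, separated and quasi-compact over k, the map Φ(Y) →
Φ(P^1_Y) induced by the projection P^1_Y → Y is bijective. Let X be a proper integral scheme over k
having a non-empty open subscheme smooth over k, and assume X is almost R-trivial over k. Then there
is a non-empty open subscheme U of X, smooth over k, such that the image of Φ(X) → Φ(U) (restriction
along the inclusion) equals the image of Φ(Spec k) → Φ(U) (along the structure morphism of U). The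
functor takes values in an arbitrary universe. -/
theorem result (k : Type u) [Field k]
    (Φ : (Over (Spec (CommRingCat.of k)))ᵒᵖ ⥤ Type v)
    (hΦ : ∀ (Y : Scheme.{u}) (g : Y ⟶ Spec (CommRingCat.of k)) [IsIntegral Y] [Smooth g]
      [IsSeparated g] [QuasiCompact g],
      Function.Bijective (Φ.map (Over.homMk (CohB1.ProjSpaceOver.toBase 1 Y) rfl :
        Over.mk (CohB1.ProjSpaceOver.toBase 1 Y ≫ g) ⟶ Over.mk g).op))
    (X : Scheme.{u}) (f : X ⟶ Spec (CommRingCat.of k)) [IsIntegral X] [IsProper f]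
    (hsm : ∃ V : X.Opens, (V : Set X).Nonempty ∧ Smooth (V.ι ≫ f))
    (hR : REq.IsAlmostRTrivial f) :
    ∃ U : X.Opens, (U : Set X).Nonempty ∧ Smooth (U.ι ≫ f) ∧
      Set.range (Φ.map (Over.homMk U.ι rfl : Over.mk (U.ι ≫ f) ⟶ Over.mk f).op) =
        Set.range (Φ.map (Over.homMk (U.ι ≫ f) (Category.comp_id _) :
          Over.mk (U.ι ≫ f) ⟶ Over.mk (𝟙 (Spec (CommRingCat.of k)))).op) := by
  obtain ⟨V0, hV0, hV0s⟩ := hsm
  have hη : ∀ W : X.Opens, (W : Set X).Nonempty → genericPoint X ∈ W := fun W hW =>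
    ((genericPoint_spec X).mem_open_set_iff W.2).2 (by simpa using hW)
  haveI : X.IsSeparated := ⟨by
    rw [← Limits.terminal.comp_from f]
    infer_instance⟩
  let φk : CommRingCat.of k ⟶ X.functionField := Spec.preimage (X.fromSpecStalk (genericPoint X) ≫ f)
  letI : Algebra k X.functionField := φk.hom.toAlgebra
  have hK : _root_.REq.specMap k X.functionField = X.fromSpecStalk (genericPoint X) ≫ f := Spec.map_preimage _
  obtain ⟨U0, hU0, hR0⟩ := hR
  obtain ⟨⟨P0, hP0⟩, -⟩ := hR0 k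
  let ptη : _root_.REq.Pts f X.functionField := ⟨X.fromSpecStalk (genericPoint X), hK.symm⟩
  let ptP : _root_.REq.Pts f X.functionField := ⟨_root_.REq.specMap k X.functionField ≫ P0.1, by
    have e : P0.1 ≫ f = 𝟙 _ :=
      P0.2.trans ((congrArg Spec.map (CommRingCat.hom_ext rfl : CommRingCat.ofHom (algebraMap k k) = 𝟙 _)).trans (Spec.map_id _))
    rw [Category.assoc, e, Category.comp_id]⟩
  have h1 : _root_.REq.InOpen f U0 ptη := by
    rintro _ ⟨s, rfl⟩
    rw [show s = IsLocalRing.closedPoint X.functionField from Subsingleton.elim (α := PrimeSpectrum X.functionField) _ _]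
    show X.fromSpecStalk (genericPoint X) (IsLocalRing.closedPoint _) ∈ U0
    rw [Scheme.fromSpecStalk_closedPoint]
    exact hη U0 hU0.nonempty
  have h2 : _root_.REq.InOpen f U0 ptP := by
    rintro _ ⟨s, rfl⟩
    exact hP0 ⟨_, rfl⟩
  have hrel := (hR0 X.functionField).2 ptη ptP h1 h2
  have hall : ∀ A B, _root_.REq.REquiv f X.functionField A B → Rel Φ f V0 A.1 B.1 := by
    intro A B hAB
    induction hAB with
    | rel A B hAB => exact rel_of_elemLink Φ f hΦ V0 (hη V0 hV0) hV0s hK A B hAB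
    | refl A => exact rel_refl Φ f V0 (hη V0 hV0) hK A
    | symm _ _ _ ih => exact ih.symm
    | trans _ _ _ _ _ ih ih' => exact ih.trans ih'
  obtain ⟨W, hW, hle, α, β, hα, hβ, hαη, hβη, hΦe⟩ := hall ptη ptP hrel
  have eα : α = W.ι := ext_gen hW α W.ι
    (by rw [Scheme.Opens.fromSpecStalkOfMem_ι]; exact hαη)
  have eβ : β = (W.ι ≫ f) ≫ P0.1 := by
    refine ext_gen hW _ _ ?_
    rw [hβη, Category.assoc, Scheme.Opens.fromSpecStalkOfMem_ι_assoc]
    show _root_.REq.specMap k X.functionField ≫ P0.1 = _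
    rw [hK, Category.assoc]
  subst eα eβ
  refine ⟨W, ⟨_, hW⟩, ?_, ?_⟩
  · rw [← X.homOfLE_ι hle, Category.assoc]
    infer_instance
  let Mι : Over.mk (W.ι ≫ f) ⟶ Over.mk f := Over.homMk W.ι rfl
  let Mstr : Over.mk (W.ι ≫ f) ⟶ Over.mk (𝟙 (Spec (CommRingCat.of k))) :=
    Over.homMk (W.ι ≫ f) (Category.comp_id _)
  let Mf : Over.mk f ⟶ Over.mk (𝟙 (Spec (CommRingCat.of k))) := Over.homMk f (Category.comp_id _)
  let MP : Over.mk (𝟙 (Spec (CommRingCat.of k))) ⟶ Over.mk f := Over.homMk P0.1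
    (P0.2.trans ((congrArg Spec.map (CommRingCat.hom_ext rfl : CommRingCat.ofHom (algebraMap k k) = 𝟙 _)).trans (Spec.map_id _)))
  have e1 : Mι ≫ Mf = Mstr := Over.OverMorphism.ext rfl
  apply le_antisymm
  · rintro _ ⟨z, rfl⟩
    refine ⟨Φ.map MP.op z, ?_⟩
    rw [← FunctorToTypes.map_comp_apply, ← op_comp]
    exact (congrFun_map Φ hΦe z).symm
  · rintro _ ⟨z, rfl⟩
    refine ⟨Φ.map Mf.op z, ?_⟩
    rw [← FunctorToTypes.map_comp_apply, ← op_comp]
    exact congrArg (fun g => Φ.map (Quiver.Hom.op g) z) e1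

end Groth.Agent.S18574
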