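import Groth.Statements.S18576
import Groth.Agent.Lib.Arc98.Main

set_option autoImplicit false
universe u
open CategoryTheory AlgebraicGeometry
open REq

namespace Groth.Agent.S18576

open Groth.Agent.Lib.H75.REq.Basic

/-- Let k be a field of characteristic zero and X a scheme that is smooth, projective and geometrically
integral over k. If X is retract rational over k, in particular if X is stably rational over k, then
X is R-trivial over k: for every field K containing k (in the universe of k), X(K) is non-empty and
any two K-points are R-equivalent. -/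
theorem result (k : Type u) [Field k] [CharZero k]
    (X : Scheme.{u}) (f : X ⟶ Spec (CommRingCat.of k)) [GeometricallyIntegral f] [Smooth f]
    (hproj : Neron.IsProjectiveOver k (Over.mk f)) (hX : REq.IsRetractRational f) :
    REq.IsRTrivial f := by
  intro K _ _
  haveI : CharZero K := charZero_of_injective_algebraMap (algebraMap k K).injective
  haveI : Infinite k := Infinite.of_injective Nat.cast Nat.cast_injective
  haveI : Infinite K := Infinite.of_injective Nat.cast Nat.cast_injective
  obtain ⟨U, n, V, a, b, hne, hab, ha, hb⟩ := id hX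
  refine ⟨?_, fun A B => ?_⟩
  · obtain ⟨x, hx⟩ := hne
    obtain ⟨P⟩ := exists_rational_point (k := k) (K := K) n V ⟨_, (a ⟨x, hx⟩).2⟩
    exact ⟨mapPt (f := U.ι ≫ f) U.ι rfl (mapPt b hb P)⟩
  · obtain ⟨A', hA, hAA⟩ := Groth.Agent.Lib.Arc98.Main.exists_elemLink_mem f hX U hne A
    obtain ⟨B', hB, hBB⟩ := Groth.Agent.Lib.Arc98.Main.exists_elemLink_mem f hX U hne B
    refine Relation.EqvGen.trans _ A' _ (Relation.EqvGen.rel _ _ hAA)
      (Relation.EqvGen.trans _ B' _ ?_ (Relation.EqvGen.symm _ _ (Relation.EqvGen.rel _ _ hBB)))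
    have hr : ∀ P : _root_.REq.Pts f K, _root_.REq.InOpen f U P → Set.range P.1 ⊆ Set.range U.ι :=
      fun P hP => by rw [Scheme.Opens.range_ι]; exact hP
    let l : ∀ P : _root_.REq.Pts f K, _root_.REq.InOpen f U P → _root_.REq.Pts (U.ι ≫ f) K := fun P hP =>
      ⟨IsOpenImmersion.lift U.ι P.1 (hr P hP), by rw [IsOpenImmersion.lift_fac_assoc]; exact P.2⟩
    have h := elemLink_map (f' := f) U.ι rfl (elemLink_map (f' := U.ι ≫ f) b hb
      (elemLink_affineSpace n V (mapPt a ha (l A' hA)) (mapPt a ha (l B' hB))))
    have e : ∀ P hP, mapPt (f' := f) U.ι rfl (mapPt (f' := U.ι ≫ f) b hb (mapPt a ha (l P hP))) = P :=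
      fun P hP => Subtype.ext (by
        show (((IsOpenImmersion.lift U.ι P.1 (hr P hP)) ≫ a) ≫ b) ≫ U.ι = P.1
        simp only [Category.assoc]
        rw [reassoc_of% hab, IsOpenImmersion.lift_fac])
    rw [e A' hA, e B' hB] at h
    exact Relation.EqvGen.rel _ _ h

end Groth.Agent.S18576
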