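import Groth.Statements.S18578
import Groth.Agent.Lib.Regular.UFD
import Groth.Agent.Lib.Synt92.KoszulFlat
import Mathlib.RingTheory.Smooth.Field
import Mathlib.RingTheory.Etale.Kaehler

set_option autoImplicit false
universe u
open LogDiff

namespace Groth.Agent.S18578

open KaehlerDifferential in
theorem not_dlog {k S L : Type*} [Field k] [CharZero k] [CommRing S] [IsDomain S] [IsLocalRing S] [Algebra k S]
    [Algebra.FormallySmooth k S] [Algebra.EssFiniteType k S] [Field L] [Algebra S L] [IsFractionRing S L] [Algebra k L]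
    [IsScalarTower k S L] (π : S) (hπ : π ≠ 0) (hm : IsLocalRing.maximalIdeal S = Ideal.span {π})
    (a : S) (s : ℕ) (u : Sˣ) (hs : s ≠ 0) (ha : a = u * π ^ s) (ω : Ω[S⁄k])
    (h : D k L (algebraMap S L a) = algebraMap S L a • map k k S L ω) : False := by
  haveI : IsLocalizedModule (nonZeroDivisors S) (map k k S L) := KaehlerDifferential.isLocalizedModule_map k S L _
  have hinj : Function.Injective (map k k S L) := by
    refine (injective_iff_map_eq_zero _).2 fun z hz => ?_
    obtain ⟨c, hc⟩ := (IsLocalizedModule.eq_zero_iff (nonZeroDivisors S) (map k k S L)).1 hz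
    haveI : Module.Projective S Ω[S⁄k] := inferInstance
    obtain ⟨sec, hsec⟩ := Module.projective_def'.1 this
    have h1 : sec z = 0 := by
      have h2 : (c : S) • sec z = 0 := by rw [← map_smul]; exact (congrArg sec hc).trans (map_zero sec)
      exact (smul_eq_zero.1 h2).resolve_left (nonZeroDivisors.ne_zero c.2)
    have h3 := LinearMap.congr_fun hsec z
    rw [LinearMap.comp_apply, h1, map_zero] at h3
    exact h3.symm
  have h1 : D k S a = a • ω := hinj (by
    rw [map_smul, map_D, h, algebraMap_smul])
  obtain ⟨n, rfl⟩ := Nat.exists_eq_succ_of_ne_zero hs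
  rw [ha, Derivation.leibniz, Derivation.leibniz_pow, Nat.succ_sub_one, pow_succ] at h1
  have h2 : ((u : S) * ((n + 1 : ℕ) : S)) • D k S π = π • ((u : S) • ω - D k S (u : S)) := by
    haveI : Module.Projective S Ω[S⁄k] := inferInstance
    obtain ⟨sec, hsec⟩ := Module.projective_def'.1 this
    have hsi : Function.Injective sec := Function.LeftInverse.injective (g := Finsupp.linearCombination S id) fun z => LinearMap.congr_fun hsec z
    apply hsi
    apply smul_right_injective _ (pow_ne_zero n hπ)
    simp only [← map_smul]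
    congr 1
    rw [← Nat.cast_smul_eq_nsmul S, smul_smul, smul_smul] at h1
    simp only [smul_sub, smul_smul]
    rw [show π ^ n * ((u : S) * ((n + 1 : ℕ) : S)) = (u : S) * ((n + 1 : ℕ) : S) * π ^ n by ring]
    refine eq_sub_of_add_eq ?_
    rw [show π ^ n * (π * (u : S)) = (u : S) * (π ^ n * π) by ring, ← h1]
  let κ := IsLocalRing.ResidueField S
  haveI : CharZero κ := charZero_of_injective_algebraMap (algebraMap k κ).injective
  haveI : Algebra.EssFiniteType k κ := .comp k S κ
  haveI : Algebra.FormallySmooth k κ := Algebra.FormallySmooth.of_perfectField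
  have hsurj : Function.Surjective (algebraMap S κ) := Ideal.Quotient.mk_surjective
  obtain ⟨l, hl⟩ := (Algebra.FormallySmooth.iff_split_injection (R := k) (P := S) (A := κ) hsurj).1 inferInstance
  have hker : RingHom.ker (algebraMap S κ) = IsLocalRing.maximalIdeal S := Ideal.mk_ker
  let x : RingHom.ker (algebraMap S κ) := ⟨π, by rw [hker, hm]; exact Ideal.mem_span_singleton_self π⟩
  have h3 : (1 : κ) ⊗ₜ[S] D k S π = 0 := by
    have hu : IsUnit (algebraMap S κ ((u : S) * ((n + 1 : ℕ) : S))) := by
      rw [map_mul, map_natCast]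
      exact (u.isUnit.map _).mul (IsUnit.mk0 _ (Nat.cast_ne_zero.2 n.succ_ne_zero))
    have h4 : (algebraMap S κ ((u : S) * ((n + 1 : ℕ) : S))) • ((1 : κ) ⊗ₜ[S] D k S π) = 0 := by
      rw [algebraMap_smul, ← TensorProduct.tmul_smul, h2, ← TensorProduct.smul_tmul, Algebra.smul_def, mul_one,
        show algebraMap S κ π = 0 from x.2, TensorProduct.zero_tmul]
    exact (smul_eq_zero.1 h4).resolve_left hu.ne_zero
  have h5 := LinearMap.congr_fun hl (Ideal.toCotangent _ x)
  rw [LinearMap.comp_apply, kerCotangentToTensor_toCotangent, LinearMap.id_apply] at h5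
  rw [show ((1 : κ) ⊗ₜ[S] D k S x.1) = 0 from h3, map_zero] at h5
  have h6 := (Ideal.toCotangent_eq_zero _ x).1 h5.symm
  have h7 : π ∈ Ideal.span {π ^ 2} := by
    rw [← Ideal.span_singleton_pow, ← hm, ← hker]
    exact h6
  obtain ⟨d, hd⟩ := Ideal.mem_span_singleton.1 h7
  have h8 : IsUnit π := IsUnit.of_mul_eq_one d (mul_left_cancel₀ hπ (by
    calc π * (π * d) = π ^ 2 * d := by ring
      _ = π := hd.symm
      _ = π * 1 := (mul_one π).symm))
  exact (IsLocalRing.maximalIdeal.isMaximal S).ne_top (hm ▸ Ideal.span_singleton_eq_top.2 h8)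

theorem exists_prod_pow {R : Type*} [CommRing R] [IsDomain R] [UniqueFactorizationMonoid R] {r : ℕ} (f : Fin r → R)
    (a : R) (ha : a ≠ 0) (h : ∀ π, Prime π → π ∣ a → ∃ i, Associated π (f i)) :
    ∃ (v : Rˣ) (n : Fin r → ℕ), a = v * ∏ i, f i ^ n i := by
  classical
  induction a using UniqueFactorizationMonoid.induction_on_prime with
  | h₁ => exact absurd rfl ha
  | h₂ x hx => exact ⟨hx.unit, 0, by simp⟩
  | h₃ x p hx hp ih =>
    obtain ⟨v, n, hn⟩ := ih hx fun π hπ hd => h π hπ (dvd_mul_of_dvd_right hd p)
    obtain ⟨i, w, hw⟩ := h p hp (dvd_mul_right p x)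
    refine ⟨w⁻¹ * v, n + Pi.single i 1, ?_⟩
    simp only [Pi.add_apply, pow_add, Finset.prod_mul_distrib]
    have h1 : ∏ j, f j ^ (Pi.single i 1 : Fin r → ℕ) j = f i := by
      rw [Finset.prod_eq_single i (fun j _ hj => by rw [Pi.single_eq_of_ne hj, pow_zero]) (fun h => absurd (Finset.mem_univ i) h),
        Pi.single_eq_same, pow_one]
    rw [h1, hn, ← hw, Units.val_mul]
    calc p * ((v : R) * ∏ j, f j ^ n j) = ((w⁻¹ : Rˣ) * (w : R)) * (p * ((v : R) * ∏ j, f j ^ n j)) := by simp
      _ = _ := by ring

/-- The degree-one case, stated at the local ring of a point. Let k be a field of characteristic zero, B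
a smooth k-algebra, R the localization of B at a prime ideal, K the fraction field of R and f_1, …,
f_r prime elements of R. If g is a unit of K whose logarithmic differential g⁻¹dg in Ω_{K/k} is the
image of a form η ∈ Ω_{R/k} plus an R-linear combination Σ c_i f_i⁻¹df_i, then g⁻¹dg = v⁻¹dv + Σ b_i
f_i⁻¹df_i for a unit v of R and integers b_i. (When the f_i are part of a regular system of
parameters the hypothesis says that g⁻¹dg has at worst logarithmic poles along the divisor f_1⋯f_r =
0 at this point, and the statement is the stalkwise injectivity of 1-forms with logarithmic poles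
modulo logarithmic differentials of functions invertible off the divisor into Ω¹_K modulo
logarithmic differentials; it is stated here for arbitrary prime elements f_i.) -/
theorem result
    {k B R K : Type u} [Field k] [CharZero k] [CommRing B] [Algebra k B] [Algebra.Smooth k B]
    (p : Ideal B) [p.IsPrime] [CommRing R] [Algebra B R] [IsLocalization.AtPrime R p]
    [Algebra k R] [IsScalarTower k B R]
    [Field K] [Algebra R K] [IsFractionRing R K] [Algebra k K] [IsScalarTower k R K]
    {r : ℕ} (f : Fin r → R) (hf : ∀ i, Prime (f i))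
    (g : Kˣ) (η : Ω[R⁄k]) (c : Fin r → R)
    (h : (g : K)⁻¹ • KaehlerDifferential.D k K (g : K) =
      KaehlerDifferential.map k k R K η +
        ∑ i, (algebraMap R K (c i) * (algebraMap R K (f i))⁻¹) •
          KaehlerDifferential.D k K (algebraMap R K (f i))) :
    ∃ (v : Rˣ) (b : Fin r → ℤ),
      (g : K)⁻¹ • KaehlerDifferential.D k K (g : K) =
        (algebraMap R K (v : R))⁻¹ • KaehlerDifferential.D k K (algebraMap R K (v : R)) +
          ∑ i, ((b i : K) * (algebraMap R K (f i))⁻¹) •
            KaehlerDifferential.D k K (algebraMap R K (f i)) := by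
  classical
  haveI : IsDomain R := Function.Injective.isDomain _ (IsFractionRing.injective R K)
  haveI : IsRegularLocalRing (Localization.AtPrime p) :=
    Groth.Agent.Lib.Synt92.KoszulFlat.isRegularLocalRing_of_smooth k B p
  haveI : IsRegularLocalRing R :=
    IsRegularLocalRing.of_ringEquiv (IsLocalization.algEquiv p.primeCompl (Localization.AtPrime p) R).toRingEquiv
  haveI := Groth.Agent.Lib.Regular.UFD.uniqueFactorizationMonoid R
  haveI : Algebra.FormallyEtale B R := Algebra.FormallyEtale.of_isLocalization p.primeCompl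
  haveI : Algebra.FormallySmooth k R := .comp k B R
  haveI : Algebra.EssFiniteType B R := .of_isLocalization R p.primeCompl
  haveI : Algebra.EssFiniteType k R := .comp k B R
  obtain ⟨a, b, hab, hg⟩ := IsFractionRing.exists_reduced_fraction (A := R) (g : K)
  have hb0 : (b : R) ≠ 0 := nonZeroDivisors.ne_zero b.2
  have hab' : algebraMap R K a = (g : K) * algebraMap R K b := by
    rw [← hg, IsLocalization.mk'_spec]
  have ha0 : a ≠ 0 := fun h0 => g.ne_zero (by
    rw [h0, map_zero] at hab'
    exact (mul_eq_zero.1 hab'.symm).resolve_right (IsFractionRing.to_map_ne_zero_of_mem_nonZeroDivisors b.2))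
  have hane : algebraMap R K a ≠ 0 := (map_ne_zero_iff _ (IsFractionRing.injective R K)).2 ha0
  have hbne : algebraMap R K (b : R) ≠ 0 := IsFractionRing.to_map_ne_zero_of_mem_nonZeroDivisors b.2
  -- additive logarithmic derivative
  let L : K → Ω[K⁄k] := fun x => x⁻¹ • KaehlerDifferential.D k K x
  have Lmul : ∀ x y : K, x ≠ 0 → y ≠ 0 → L (x * y) = L x + L y := fun x y hx hy => by
    simp only [L, Derivation.leibniz, smul_add, smul_smul]
    rw [add_comm]
    congr 2 <;> field_simp
  have hga : L (g : K) = L (algebraMap R K a) - L (algebraMap R K b) := by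
    rw [hab', Lmul _ _ g.ne_zero hbne, add_sub_cancel_right]
  -- no primes except the `f i`
  have key : ∀ π, Prime π → (π ∣ a ∨ π ∣ (b : R)) → ∃ i, Associated π (f i) := by
    intro π hπ hdvd
    by_contra hcon
    push Not at hcon
    let P : Ideal R := Ideal.span {π}
    haveI hP : P.IsPrime := (Ideal.span_singleton_prime hπ.ne_zero).2 hπ
    have hPle : P.primeCompl ≤ nonZeroDivisors R := P.primeCompl_le_nonZeroDivisors
    let S := Localization.AtPrime P
    letI algSK : Algebra S K := IsLocalization.localizationAlgebraOfSubmonoidLe S K P.primeCompl (nonZeroDivisors R) hPle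
    haveI : IsScalarTower R S K := IsLocalization.localization_isScalarTower_of_submonoid_le S K P.primeCompl (nonZeroDivisors R) hPle
    haveI : IsScalarTower k S K := IsScalarTower.of_algebraMap_eq fun x => by
      rw [IsScalarTower.algebraMap_apply k R S, ← IsScalarTower.algebraMap_apply R S K, ← IsScalarTower.algebraMap_apply]
    haveI : IsFractionRing S K := IsFractionRing.isFractionRing_of_isDomain_of_isLocalization P.primeCompl S K
    haveI : Algebra.FormallyEtale R S := Algebra.FormallyEtale.of_isLocalization P.primeCompl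
    haveI : Algebra.FormallySmooth k S := .comp k R S
    haveI : Algebra.EssFiniteType k S := .comp k R S
    haveI : IsDomain S := inferInstance
    have hf' : ∀ i, IsUnit (algebraMap R S (f i)) := fun i =>
      IsLocalization.map_units S (⟨f i, fun hmem => hcon i ((hπ.associated_of_dvd (hf i) (Ideal.mem_span_singleton.1 hmem)))⟩ : P.primeCompl)
    have hm : IsLocalRing.maximalIdeal S = Ideal.span {algebraMap R S π} := by
      rw [← Localization.AtPrime.map_eq_maximalIdeal, Ideal.map_span, Set.image_singleton]
    have hunit : ∀ x : R, ¬ π ∣ x → IsUnit (algebraMap R S x) := fun x hx =>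
      IsLocalization.map_units S (⟨x, fun hmem => hx (Ideal.mem_span_singleton.1 hmem)⟩ : P.primeCompl)
    -- the logarithmic differential of `g` has no pole along `π`
    set N := LinearMap.range (KaehlerDifferential.map k k S K) with hN
    have hmemD : ∀ x : S, IsUnit x → L (algebraMap S K x) ∈ N := fun x hx => by
      obtain ⟨x, rfl⟩ := hx
      refine ⟨(↑x⁻¹ : S) • KaehlerDifferential.D k S (x : S), ?_⟩
      rw [map_smul, KaehlerDifferential.map_D, ← algebraMap_smul K (↑x⁻¹ : S), map_units_inv]
    have hgN : L (g : K) ∈ N := by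
      change (g : K)⁻¹ • KaehlerDifferential.D k K (g : K) ∈ N
      rw [h]
      refine add_mem ?_ (sum_mem fun i _ => ?_)
      · refine ⟨KaehlerDifferential.map k k R S η, ?_⟩
        have hc : (KaehlerDifferential.map k k S K).restrictScalars R ∘ₗ KaehlerDifferential.map k k R S =
            KaehlerDifferential.map k k R K := by
          apply LinearMap.ext_on (KaehlerDifferential.span_range_derivation k R)
          rintro _ ⟨x, rfl⟩
          simp [← IsScalarTower.algebraMap_apply]
        exact LinearMap.congr_fun hc η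
      · rw [mul_smul, algebraMap_smul, ← algebraMap_smul S (c i)]
        refine N.smul_mem _ ?_
        have := hmemD _ (hf' i)
        rwa [← IsScalarTower.algebraMap_apply] at this
    have main : ∀ x y : R, π ∣ x → ¬ π ∣ y → x ≠ 0 → L (algebraMap R K x) - L (algebraMap R K y) ∈ N → False := by
      intro x y hx hy hx0 hmem
      have h1 : L (algebraMap R K x) ∈ N := by
        have := hmemD _ (hunit y hy)
        rw [← IsScalarTower.algebraMap_apply] at this
        simpa using add_mem hmem this
      obtain ⟨ω, hω⟩ := h1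
      obtain ⟨s, x', hx', rfl⟩ := WfDvdMonoid.max_power_factor hx0 hπ.irreducible
      have hs : s ≠ 0 := by
        rintro rfl
        exact hx' (by simpa using hx)
      refine not_dlog (k := k) (S := S) (L := K) (algebraMap R S π)
        ((map_ne_zero_iff _ (IsLocalization.injective S hPle)).2 hπ.ne_zero) hm (algebraMap R S (π ^ s * x')) s
        (hunit x' hx').unit hs (by rw [map_mul, map_pow, IsUnit.unit_spec, mul_comm]) ω ?_
      rw [← IsScalarTower.algebraMap_apply, hω]
      simp only [L]
      rw [smul_smul, mul_inv_cancel₀ ((map_ne_zero_iff _ (IsFractionRing.injective R K)).2 hx0), one_smul]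
    rw [hga] at hgN
    rcases hdvd with hd | hd
    · exact main a b hd (fun hd' => hπ.not_isUnit (hab hd hd')) ha0 hgN
    · refine main b a hd (fun hd' => hπ.not_isUnit (hab hd' hd)) hb0 ?_
      have := neg_mem hgN
      rwa [neg_sub] at this
  obtain ⟨v₁, n₁, hn₁⟩ := exists_prod_pow f a ha0 fun π hπ hd => key π hπ (Or.inl hd)
  obtain ⟨v₂, n₂, hn₂⟩ := exists_prod_pow f (b : R) hb0 fun π hπ hd => key π hπ (Or.inr hd)
  have hfne : ∀ i, algebraMap R K (f i) ≠ 0 := fun i => (map_ne_zero_iff _ (IsFractionRing.injective R K)).2 (hf i).ne_zero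
  have Lone : L 1 = 0 := by simp [L]
  have Lpow : ∀ (x : K) (n : ℕ), x ≠ 0 → L (x ^ n) = n • L x := fun x n hx => by
    induction n with
    | zero => simp [Lone]
    | succ n ih => rw [pow_succ, Lmul _ _ (pow_ne_zero n hx) hx, ih, succ_nsmul]
  have Lprod : ∀ (t : Finset (Fin r)) (n : Fin r → ℕ),
      L (∏ i ∈ t, algebraMap R K (f i) ^ n i) = ∑ i ∈ t, n i • L (algebraMap R K (f i)) := fun t n => by
    induction t using Finset.induction_on with
    | empty => simp [Lone]
    | insert i t hi ih =>
      rw [Finset.prod_insert hi, Finset.sum_insert hi,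
        Lmul _ _ (pow_ne_zero _ (hfne i)) (Finset.prod_ne_zero_iff.2 fun j _ => pow_ne_zero _ (hfne j)), ih, Lpow _ _ (hfne i)]
  have LR : ∀ (v : Rˣ) (n : Fin r → ℕ),
      L (algebraMap R K ((v : R) * ∏ i, f i ^ n i)) = L (algebraMap R K (v : R)) + ∑ i, n i • L (algebraMap R K (f i)) := by
    intro v n
    rw [map_mul, map_prod]
    simp only [map_pow]
    rw [Lmul _ _ ((v.isUnit.map _).ne_zero) (Finset.prod_ne_zero_iff.2 fun j _ => pow_ne_zero _ (hfne j)), Lprod]
  refine ⟨v₁ * v₂⁻¹, fun i => (n₁ i : ℤ) - n₂ i, ?_⟩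
  change L (g : K) = L (algebraMap R K ((v₁ * v₂⁻¹ : Rˣ) : R)) + _
  rw [hga, hn₁, hn₂, LR, LR]
  have hv : L (algebraMap R K (v₁ : R)) = L (algebraMap R K ((v₁ * v₂⁻¹ : Rˣ) : R)) + L (algebraMap R K (v₂ : R)) := by
    rw [← Lmul _ _ (((v₁ * v₂⁻¹ : Rˣ).isUnit.map _).ne_zero) ((v₂.isUnit.map _).ne_zero), ← map_mul, ← Units.val_mul,
      inv_mul_cancel_right]
  rw [hv]
  have hsum : ∑ i, ((((n₁ i : ℤ) - n₂ i : ℤ) : K) * (algebraMap R K (f i))⁻¹) • KaehlerDifferential.D k K (algebraMap R K (f i)) =
      ∑ i, n₁ i • L (algebraMap R K (f i)) - ∑ i, n₂ i • L (algebraMap R K (f i)) := by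
    rw [← Finset.sum_sub_distrib]
    refine Finset.sum_congr rfl fun i _ => ?_
    simp only [L, Int.cast_sub, Int.cast_natCast, sub_mul, sub_smul, ← Nat.cast_smul_eq_nsmul K, smul_smul]
  rw [hsum]
  abel

end Groth.Agent.S18578
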