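import Groth.Statements.S18579
import Mathlib.RingTheory.Localization.FractionRing
import Mathlib.Algebra.BigOperators.Associated
import Mathlib.Tactic

set_option autoImplicit false
universe u
open LogDiff

namespace Groth.Agent.S18579

theorem exists_unit_prod {R : Type*} [CommRing R] [IsDomain R] {r : ℕ} (f : Fin r → R)
    (hf : ∀ i, Prime (f i)) {a b : R} {N : ℕ} (h : a * b = (∏ i, f i) ^ N) :
    ∃ (v : Rˣ) (e : Fin r → ℕ), a = v * ∏ i, f i ^ e i := by
  classical
  suffices H : ∀ (t : List (Fin r)) (a b : R), a * b = (t.map f).prod →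
      ∃ (v : Rˣ) (e : Fin r → ℕ), a = v * ∏ i, f i ^ e i by
    refine H (List.flatten (List.replicate N (List.finRange r))) a b (h.trans ?_)
    rw [List.map_flatten, List.map_replicate, List.prod_flatten, List.map_replicate,
      List.prod_replicate]
    congr 1
  intro t
  induction t with
  | nil =>
    intro a b hab
    simp only [List.map_nil, List.prod_nil] at hab
    exact ⟨⟨a, b, hab, by rwa [mul_comm]⟩, 0, by simp⟩
  | cons j t ih =>
    intro a b hab
    rw [List.map_cons, List.prod_cons] at hab
    rcases (hf j).dvd_or_dvd (Dvd.intro _ hab.symm) with ⟨a', rfl⟩ | ⟨b', rfl⟩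
    · obtain ⟨v, e, rfl⟩ := ih a' b (mul_left_cancel₀ (hf j).ne_zero (by rw [← hab]; ring))
      refine ⟨v, e + Pi.single j 1, ?_⟩
      simp only [Pi.add_apply, pow_add, Finset.prod_mul_distrib]
      rw [Finset.prod_eq_single (f := fun i => f i ^ (Pi.single j 1 : Fin r → ℕ) i) j
        (fun i _ hi => by simp [Pi.single_eq_of_ne hi]) (by simp)]
      simp only [Pi.single_eq_same, pow_one]
      ring
    · exact ih a b' (mul_left_cancel₀ (hf j).ne_zero (by rw [← hab]; ring))

theorem exp_unique {R : Type*} [CommRing R] [IsDomain R] {r : ℕ} (f : Fin r → R)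
    (hf : ∀ i, Prime (f i)) (hfa : ∀ i j, Associated (f i) (f j) → i = j)
    (u v : Rˣ) (e e' : Fin r → ℕ) (h : (u : R) * ∏ i, f i ^ e i = v * ∏ i, f i ^ e' i) :
    e = e' := by
  classical
  funext j
  have key : ∀ (u : Rˣ) (e : Fin r → ℕ) (n : ℕ),
      f j ^ n ∣ (u : R) * ∏ i, f i ^ e i → n ≤ e j := by
    intro u e n hn
    rw [Units.dvd_mul_left, ← Finset.mul_prod_erase _ _ (Finset.mem_univ j)] at hn
    by_contra hlt
    have h2 : f j ^ (e j) * f j ∣ f j ^ e j * ∏ x ∈ Finset.univ.erase j, f x ^ e x := by
      rw [← pow_succ]; exact (pow_dvd_pow _ (by omega)).trans hn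
    obtain ⟨i, hi, hdvd⟩ := (hf j).exists_mem_finset_dvd
      ((mul_dvd_mul_iff_left (pow_ne_zero _ (hf j).ne_zero)).mp h2)
    exact (Finset.mem_erase.mp hi).1
      (hfa i j ((hf j).associated_of_dvd (hf i) ((hf j).dvd_of_dvd_pow hdvd)).symm)
  refine le_antisymm (key v e' _ (h ▸ ?_)) (key u e _ (h.symm ▸ ?_)) <;>
    exact dvd_mul_of_dvd_right (Finset.dvd_prod_of_mem (fun i => f i ^ _) (Finset.mem_univ j)) _

/-- The exact sequence for units (first Milnor K-groups) when every component of the divisor is removed.
Let k be a field, B a smooth k-algebra, R the localization of B at a prime ideal, K the fraction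
field of R and f_1, …, f_r pairwise non-associate prime elements of R. If w is a unit of K such that
w and w⁻¹ both lie in R[1/(f_1⋯f_r)], i.e. each becomes an element of R after multiplication by a
power of f_1⋯f_r, then there is exactly one pair (v, b) consisting of a unit v of R and integers
b_1, …, b_r with w = v · ∏ f_i^{b_i} in K. (This is the exactness of 0 → Γ(Spec R, O^×) → Γ(Spec R ∖
V(f_1⋯f_r), O^×) → ℤ^r → 0, the last map being the orders along the f_i. The published statement
takes the f_i to be local equations of the components of a normal crossings divisor, over a field of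
characteristic zero; this row allows arbitrary pairwise non-associate prime elements and any field.) -/
theorem result
    {k B R K : Type u} [Field k] [CommRing B] [Algebra k B] [Algebra.Smooth k B]
    (p : Ideal B) [p.IsPrime] [CommRing R] [Algebra B R] [IsLocalization.AtPrime R p]
    [Field K] [Algebra R K] [IsFractionRing R K]
    {r : ℕ} (f : Fin r → R) (hf : ∀ i, Prime (f i)) (hfa : ∀ i j, Associated (f i) (f j) → i = j)
    (w : Kˣ)
    (hw : ∃ (a : R) (n : ℕ), (w : K) * algebraMap R K ((∏ i, f i) ^ n) = algebraMap R K a)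
    (hw' : ∃ (a : R) (n : ℕ), (w⁻¹ : Kˣ) * algebraMap R K ((∏ i, f i) ^ n) = algebraMap R K a) :
    ∃! vb : Rˣ × (Fin r → ℤ),
      (w : K) = algebraMap R K (vb.1 : R) * ∏ i, (algebraMap R K (f i)) ^ (vb.2 i) := by
  classical
  have inj : Function.Injective (algebraMap R K) := IsFractionRing.injective R K
  have : IsDomain R := inj.isDomain _
  have hne : ∀ i, algebraMap R K (f i) ≠ 0 := fun i h => (hf i).ne_zero (inj (by rw [h, map_zero]))
  obtain ⟨a, n, ha⟩ := hw
  obtain ⟨b, m, hb⟩ := hw'
  have hab : a * b = (∏ i, f i) ^ (n + m) := by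
    apply inj
    rw [map_mul, ← ha, ← hb, pow_add, map_mul]
    have := w.mul_inv
    linear_combination (algebraMap R K ((∏ i, f i) ^ n) * algebraMap R K ((∏ i, f i) ^ m)) * this
  obtain ⟨v, e, rfl⟩ := exists_unit_prod f hf hab
  refine ⟨⟨v, fun i => (e i : ℤ) - n⟩, ?_, ?_⟩
  · simp only
    have hP : algebraMap R K ((∏ i, f i) ^ n) ≠ 0 := by
      rw [map_pow, map_prod]
      exact pow_ne_zero _ (Finset.prod_ne_zero_iff.mpr fun i _ => hne i)
    refine mul_right_cancel₀ hP (ha.trans ?_)
    simp only [map_mul, map_prod, map_pow, mul_assoc, ← Finset.prod_pow, ← Finset.prod_mul_distrib]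
    congr 1
    refine Finset.prod_congr rfl fun i _ => ?_
    rw [zpow_sub₀ (hne i), zpow_natCast, zpow_natCast, div_mul_cancel₀ _ (pow_ne_zero _ (hne i))]
  · rintro ⟨v', c⟩ hc
    simp only at hc
    let g : Fin r → ℕ := fun i => (c i + n).toNat
    let d : Fin r → ℕ := fun i => (-(c i + n)).toNat
    have heq : (v' : R) * ∏ i, f i ^ g i = v * ∏ i, f i ^ (e i + d i) := by
      apply inj
      rw [hc] at ha
      simp only [map_mul, map_prod, map_pow, mul_assoc, ← Finset.prod_pow, ← Finset.prod_mul_distrib] at ha
      simp only [map_mul, map_prod, map_pow, pow_add, Finset.prod_mul_distrib]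
      rw [← mul_assoc (algebraMap R K (v : R)), ← ha, mul_assoc, ← Finset.prod_mul_distrib]
      congr 1
      refine Finset.prod_congr rfl fun i _ => ?_
      simp only [← zpow_natCast, ← zpow_add₀ (hne i)]
      congr 1
      simp only [g, d]
      omega
    have hh := exp_unique f hf hfa v' v g _ heq
    have hc' : c = fun i => (e i : ℤ) - n := funext fun i => by
      have := congrFun hh i
      simp only [g, d] at this
      omega
    have hv : v' = v := by
      rw [hh] at heq
      have hd : ∀ i, d i = 0 := fun i => by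
        have := congrFun hh i
        simp only [g, d] at this
        simp only [d]
        omega
      simp only [hd, add_zero] at heq
      exact Units.ext (mul_right_cancel₀
        (Finset.prod_ne_zero_iff.mpr fun i _ => pow_ne_zero _ (hf i).ne_zero) heq)
    subst hv hc'
    rfl

end Groth.Agent.S18579
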