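import Groth.Statements.S18580
import Mathlib.AlgebraicGeometry.Morphisms.FlatMono
import Mathlib.AlgebraicGeometry.Morphisms.Etale

set_option autoImplicit false
universe u
open EtBase

namespace Groth.Agent.S18580

open AlgebraicGeometry CategoryTheory in
/-- Let Y be a connected scheme and f : X ⟶ Y a separated morphism that is unramified (locally of finite
type and formally unramified). Then the sections of f correspond bijectively to the connected
components of X mapping isomorphically onto Y: there is a bijection from the set of sections s of f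
to the set of open subschemes U of X whose underlying set is a connected component of X and for
which U ⟶ X ⟶ Y is an isomorphism, sending s to its image. In particular every section is an
isomorphism onto a connected component of X and is determined by its image. (A connected component
mapping isomorphically onto Y is the image of a section, hence open, so restricting to open
components loses nothing. The published statement also assumes Y Noetherian; that hypothesis plays
no role and is omitted.) -/
theorem result {X Y : Scheme.{u}} (f : X ⟶ Y)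
    [FormallyUnramified f] [LocallyOfFiniteType f] [IsSeparated f] [ConnectedSpace Y] :
    ∃ e : {s : Y ⟶ X // s ≫ f = 𝟙 Y} ≃
        {U : X.Opens // (∃ x : X, (U : Set X) = connectedComponent x) ∧ IsIso (U.ι ≫ f)},
      ∀ s : {s : Y ⟶ X // s ≫ f = 𝟙 Y}, ((e s).1 : Set X) = Set.range s.1 := by
  have hoc : ∀ s : Y ⟶ X, s ≫ f = 𝟙 Y → IsOpenImmersion s ∧ IsClosedImmersion s := fun s hs => by
    -- a section is the pullback of the diagonal
    have h2 : IsClosedImmersion (s ≫ f) := by rw [hs]; infer_instance
    have h1 : IsClosedImmersion s := IsClosedImmersion.of_comp s f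
    have : Etale (s ≫ f) := by rw [hs]; infer_instance
    have : Etale s := Etale.of_comp s f
    have : IsSplitMono s := IsSplitMono.mk' ⟨f, hs⟩
    exact ⟨IsOpenImmersion.of_flat_of_mono s, h1⟩
  have hconn : ∀ s : Y ⟶ X, s ≫ f = 𝟙 Y → ∀ y : Y, Set.range s = connectedComponent (s y) := by
    intro s hs y
    obtain ⟨ho, hc⟩ := hoc s hs
    refine Set.Subset.antisymm ?_ ?_
    · exact (isConnected_range s.continuous).subset_connectedComponent ⟨y, rfl⟩
    · exact IsClopen.connectedComponent_subset
        ⟨(Scheme.Hom.isClosedEmbedding s).isClosed_range, s.isOpenEmbedding.isOpen_range⟩ ⟨y, rfl⟩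
  let y₀ : Y := Classical.arbitrary Y
  let F : {s : Y ⟶ X // s ≫ f = 𝟙 Y} →
      {U : X.Opens // (∃ x : X, (U : Set X) = connectedComponent x) ∧ IsIso (U.ι ≫ f)} := fun s =>
    have := (hoc s.1 s.2).1
    ⟨s.1.opensRange, ⟨s.1 y₀, hconn s.1 s.2 y₀⟩, by
      have e : s.1.isoOpensRange.hom ≫ s.1.opensRange.ι ≫ f = 𝟙 Y := by
        rw [← Category.assoc, Scheme.Hom.isoOpensRange_hom_ι, s.2]
      rw [show s.1.opensRange.ι ≫ f = s.1.isoOpensRange.inv from (Iso.eq_inv_comp s.1.isoOpensRange).2 e |>.trans (Category.comp_id _)]
      infer_instance⟩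
  refine ⟨Equiv.ofBijective F ⟨?_, ?_⟩, fun s => rfl⟩
  · intro s t h
    have ho := (hoc t.1 t.2).1
    have hr : Set.range s.1 = Set.range t.1 := congrArg (fun U => (U.1 : Set X)) h
    have hl := IsOpenImmersion.lift_fac t.1 s.1 hr.le
    have : IsOpenImmersion.lift t.1 s.1 hr.le = 𝟙 Y :=
      (Category.comp_id _).symm.trans ((congrArg (fun m => IsOpenImmersion.lift t.1 s.1 hr.le ≫ m) t.2.symm).trans
        ((Category.assoc _ _ _).symm.trans ((congrArg (fun m => m ≫ f) hl).trans s.2)))
    rw [this, Category.id_comp] at hl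
    exact Subtype.ext hl.symm
  · rintro ⟨U, hU, hI⟩
    refine ⟨⟨inv (U.ι ≫ f) ≫ U.ι, by rw [Category.assoc, IsIso.inv_hom_id]⟩, Subtype.ext (TopologicalSpace.Opens.ext ?_)⟩
    show Set.range (inv (U.ι ≫ f) ≫ U.ι) = (U : Set X)
    refine Set.Subset.antisymm ?_ fun x hx => ?_
    · rintro _ ⟨y, rfl⟩
      rw [Scheme.Hom.comp_apply]
      exact ((inv (U.ι ≫ f)) y).2
    · refine ⟨(U.ι ≫ f) ⟨x, hx⟩, ?_⟩
      rw [← Scheme.Hom.comp_apply, IsIso.hom_inv_id_assoc]
      rfl

end Groth.Agent.S18580
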