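import Groth.Statements.S18585
import Groth.Agent.Lib.Curves.TraceReduced
import Groth.Agent.Lib.CurveBundle.SmoothField

set_option autoImplicit false
universe u
open BranchVar

namespace Groth.Agent.S18585

open CategoryTheory CategoryTheory.Limits AlgebraicGeometry in
/-- Let k be a characteristic-zero algebraically closed field, C a smooth proper integral curve over k,
and g : Y ⟶ C a finite flat morphism with g_*O_Y locally free of rank d whose generic fibre (the
fibre over the generic point of C) is reduced. Then the degree of the rank-d locally free module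
g_*O_Y on C, computed as χ(C, g_*O_Y) − d·χ(C, O_C), is at most 0. (The published inequality is
stated for the degree of the determinant line bundle, deg det(g_*O_Y)^{-1} ≥ 0; the degree of a
locally free module on such a curve equals the degree of its determinant.) -/
theorem result (k : Type u) [Field k] [IsAlgClosed k] [CharZero k]
    (C : Scheme.{u}) [C.Over (Spec (CommRingCat.of k))] [IsIntegral C]
    (hC : Curve.IsSmoothProperCurve k C (C ↘ Spec (CommRingCat.of k)))
    (Y : Scheme.{u}) (g : Y ⟶ C) [IsFinite g] [Flat g] (d : ℕ)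
    (hd : FlatMod.IsFinLocFreeOfRank d ((Coh.push g).obj (Coh.structureModule Y)))
    (hred : AlgebraicGeometry.IsReduced (g.fiber (genericPoint C))) :
    Curv2.deg k C ((Coh.push g).obj (Coh.structureModule Y)) d ≤ 0 := by
  obtain ⟨hp, hs, -, hdim⟩ := hC
  haveI := hp
  haveI := hs
  haveI := Groth.Agent.Lib.Curves.TraceBound.curveCtx (k := k) hdim.le
    (Groth.Agent.Lib.CurveBundle.SmoothField.isPrincipal_stalk k hdim)
  haveI : IsLocallyNoetherian C := LocallyOfFiniteType.isLocallyNoetherian (C ↘ Spec (CommRingCat.of k))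
  let A := Groth.Agent.Lib.Curves.TraceDual.alg g
  have hE := Groth.Agent.Lib.TensorMod.LocFree.rank_of_iso
    (Groth.Agent.Lib.Curves.TraceDual.algPushIso g).symm hd
  have hlf := Groth.Agent.Lib.TensorMod.LocFree.of_rank hE
  obtain ⟨hc, ht, -, hdeg⟩ := Groth.Agent.Lib.CurveBundle.Slope.bundle (k := k) hE
  obtain ⟨τ, hτ, -⟩ := Groth.Agent.H81.FinCovTrace.existsUnique_trace A hlf
  haveI := Groth.Agent.Lib.Curves.TraceDual.mono_adj A τ hlf hτ fun V hV hs => by
    obtain ⟨hfree, hfin⟩ := Groth.Agent.H81.FinCovTrace.free_of_small A hs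
    by_cases hne : Nonempty V
    · haveI := hne
      have hη : genericPoint C ∈ V :=
        ((genericPoint_spec C).mem_open_set_iff V.2).mpr ⟨_, Set.mem_univ _, (Classical.arbitrary V).2⟩
      let P := (hV.primeIdealOf ⟨genericPoint C, hη⟩).asIdeal
      have hP : Function.Injective (algebraMap Γ(C, V) P.ResidueField) := by
        refine (injective_iff_map_eq_zero _).mpr fun a ha => ?_
        rw [Ideal.algebraMap_residueField_eq_zero] at ha
        letI := TopCat.Presheaf.algebra_section_stalk C.presheaf ⟨genericPoint C, hη⟩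
        haveI := hV.isLocalization_stalk ⟨genericPoint C, hη⟩
        have hnu : ¬ IsUnit (C.presheaf.germ V (genericPoint C) hη a) := fun hu =>
          (IsLocalization.AtPrime.isUnit_to_map_iff (C.presheaf.stalk (genericPoint C)) P a).mp hu ha
        letI : Field (C.presheaf.stalk (genericPoint C)) := inferInstanceAs (Field C.functionField)
        exact germ_injective_of_isIntegral C (genericPoint C) hη
          ((not_not.mp fun h0 => hnu (isUnit_iff_ne_zero.mpr h0)).trans (map_zero _).symm)
      let φ : k →+* Γ(C, V) :=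
        (C.presheaf.map (homOfLE (le_top : V ≤ ⊤)).op).hom.comp (Coh.toGlobal (C ↘ Spec (CommRingCat.of k)))
      haveI : CharZero P.ResidueField :=
        charZero_of_injective_ringHom (RingHom.injective ((algebraMap Γ(C, V) P.ResidueField).comp φ))
      haveI : _root_.IsReduced (TensorProduct Γ(C, V) P.ResidueField (Groth.Agent.H81.FinCovTrace.ASec A V)) :=
        Groth.Agent.Lib.Curves.TraceReduced.isReduced_tensor g hV hη hred
      exact Groth.Agent.Lib.Curves.TraceReduced.traceForm_injective Γ(C, V) _ P.ResidueField hP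
    · obtain rfl : V = ⊥ := eq_bot_iff.mpr fun x hx => (hne ⟨⟨x, hx⟩⟩).elim
      haveI : Subsingleton Γ(Y, g ⁻¹ᵁ (⊥ : C.Opens)) := by
        rw [Scheme.Hom.preimage_bot]; infer_instance
      intro a b _
      exact @Subsingleton.elim Γ(Y, g ⁻¹ᵁ (⊥ : C.Opens)) _ a b
  have h := (Groth.Agent.Lib.Curves.DualDeg.dg_nonpos (k := k) hc ht
    (Groth.Agent.Lib.Curves.TraceDual.adj A τ ≫ (Groth.Agent.Lib.RefHull.DualComp.dualIso _).inv)).1
  rw [← hdeg, Curv2.deg, Groth.Agent.Lib.Curves.Euler.euler_eq_of_iso (Groth.Agent.Lib.Curves.TraceDual.algPushIso g)] at h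
  exact h

end Groth.Agent.S18585
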