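import Groth.Statements.S18589
import Mathlib.RingTheory.WittVector.Defs
import Mathlib.RingTheory.MvPolynomial.WeightedHomogeneous

set_option autoImplicit false
open CAlg

namespace Groth.Agent.S18589

/-- For a prime p and every natural number n, the n-th Witt addition polynomial over the integers (the
polynomial S_n with (x + y)_n = S_n(x_0, y_0, …, x_n, y_n) for p-typical Witt vectors x, y) is
weighted homogeneous of weighted degree p ^ n for the grading in which the variables x_i and y_i
have weight p ^ i. -/
theorem result (p : ℕ) [Fact p.Prime] (n : ℕ) :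
    MvPolynomial.IsWeightedHomogeneous (fun i : Fin 2 × ℕ => p ^ i.2) (WittVector.wittAdd p n) (p ^ n) := by
  classical
  have hX : ∀ n, (xInTermsOfW p ℚ n).IsWeightedHomogeneous (fun i => p ^ i) (p ^ n) := by
    intro n
    induction n using Nat.strong_induction_on with
    | h n IH =>
      rw [xInTermsOfW_eq, mul_comm]
      refine MvPolynomial.IsWeightedHomogeneous.C_mul (MvPolynomial.IsWeightedHomogeneous.sub
        (MvPolynomial.isWeightedHomogeneous_X ℚ _ n) (MvPolynomial.IsWeightedHomogeneous.sum _ _ _ fun i hi => ?_)) _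
      have hin := Finset.mem_range.mp hi
      have h := ((IH i hin).pow (p ^ (n - i))).C_mul ((p : ℚ) ^ i)
      rwa [smul_eq_mul, ← pow_add, Nat.sub_add_cancel hin.le] at h
  have hW : ∀ (j : Fin 2) (k : ℕ), (MvPolynomial.rename (Prod.mk j) (wittPolynomial p ℚ k)).IsWeightedHomogeneous
      (fun i : Fin 2 × ℕ => p ^ i.2) (p ^ k) := by
    intro j k
    rw [wittPolynomial, map_sum]
    refine MvPolynomial.IsWeightedHomogeneous.sum _ _ _ fun i hi => ?_
    rw [MvPolynomial.rename_monomial]
    refine MvPolynomial.isWeightedHomogeneous_monomial _ _ _ ?_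
    rw [Finsupp.mapDomain_single, Finsupp.weight_apply, Finsupp.sum_single_index (by simp), smul_eq_mul,
      ← pow_add, Nat.sub_add_cancel (Finset.mem_range_succ_iff.mp hi)]
  have hbind : ∀ (g : ℕ → MvPolynomial (Fin 2 × ℕ) ℚ), (∀ k, (g k).IsWeightedHomogeneous (fun i : Fin 2 × ℕ => p ^ i.2) (p ^ k)) →
      ∀ (f : MvPolynomial ℕ ℚ) (m : ℕ), f.IsWeightedHomogeneous (fun i => p ^ i) m →
        (MvPolynomial.bind₁ g f).IsWeightedHomogeneous (fun i : Fin 2 × ℕ => p ^ i.2) m := by
    intro g hg f m hf
    induction hf using MvPolynomial.IsWeightedHomogeneous.induction_on with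
    | zero => rw [map_zero]; exact MvPolynomial.isWeightedHomogeneous_zero _ _ _
    | add a b _ _ ha hb => rw [map_add]; exact ha.add hb
    | monomial d r hr =>
      rw [MvPolynomial.bind₁_monomial]
      refine MvPolynomial.IsWeightedHomogeneous.C_mul ?_ r
      rw [← hr, Finsupp.weight_apply, Finsupp.sum]
      exact MvPolynomial.IsWeightedHomogeneous.prod _ _ _ fun i _ => (hg i).pow (d i)
  have hQ : (MvPolynomial.map (Int.castRingHom ℚ) (WittVector.wittAdd p n)).IsWeightedHomogeneous
      (fun i : Fin 2 × ℕ => p ^ i.2) (p ^ n) := by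
    rw [WittVector.wittAdd, map_wittStructureInt, wittStructureRat]
    refine hbind _ (fun k => ?_) _ _ (hX n)
    simp only [map_add, MvPolynomial.map_X, MvPolynomial.bind₁_X_right]
    exact (hW 0 k).add (hW 1 k)
  intro d hd
  refine hQ ?_
  rw [MvPolynomial.coeff_map]
  simpa using hd


end Groth.Agent.S18589
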