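import Groth.Statements.S18590
import Mathlib.RingTheory.WittVector.Teichmuller
import Mathlib.Algebra.Polynomial.AlgebraMap
import Mathlib.Algebra.Algebra.Subalgebra.Basic

set_option autoImplicit false
universe u
open CAlg

namespace Groth.Agent.S18590

lemma teichmuller_mul_coeff {p : ℕ} [Fact p.Prime] {R : Type u} [CommRing R] (r : R) (y : WittVector p R)
    (n : ℕ) : (WittVector.teichmuller p r * y).coeff n = r ^ p ^ n * y.coeff n := by
  let P := MvPolynomial (Option ℕ) ℤ
  let Q := MvPolynomial (Option ℕ) ℚ
  let j : P →+* Q := MvPolynomial.map (Int.castRingHom ℚ)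
  let r₀ : P := MvPolynomial.X none
  let y₀ : WittVector p P := WittVector.mk p fun i => MvPolynomial.X (some i)
  let z₀ : WittVector p P := WittVector.mk p fun i => r₀ ^ p ^ i * y₀.coeff i
  have h0 : WittVector.teichmuller p r₀ * y₀ = z₀ := by
    apply WittVector.map_injective j (MvPolynomial.map_injective _ Int.cast_injective)
    haveI : Invertible (p : ℚ) := invertibleOfNonzero (Nat.cast_ne_zero.2 (Fact.out : p.Prime).ne_zero)
    haveI : Invertible (p : Q) := by
      have := Invertible.map (algebraMap ℚ Q) (p : ℚ)
      rwa [map_natCast] at this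
    apply (WittVector.ghostMap.bijective_of_invertible p Q).1
    funext m
    rw [WittVector.ghostMap_apply, WittVector.ghostMap_apply, map_mul, map_mul, WittVector.map_teichmuller,
      WittVector.ghostComponent_teichmuller, WittVector.ghostComponent_apply, WittVector.ghostComponent_apply,
      aeval_wittPolynomial, aeval_wittPolynomial, Finset.mul_sum]
    refine Finset.sum_congr rfl fun i hi => ?_
    simp only [WittVector.map_coeff, z₀, WittVector.coeff_mk, map_mul, map_pow]
    rw [mul_pow, ← pow_mul, ← pow_add, Nat.add_sub_cancel' (Nat.lt_succ_iff.1 (Finset.mem_range.1 hi))]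
    ring
  let ev : P →+* R := MvPolynomial.eval₂Hom (Int.castRingHom R) fun o : Option ℕ => o.elim r y.coeff
  have h1 := congrArg (fun w : WittVector p P => (WittVector.map ev w).coeff n) h0
  have ey : WittVector.map ev y₀ = y := WittVector.ext fun i => MvPolynomial.eval₂Hom_X' _ _ (some i)
  have er : ev r₀ = r := MvPolynomial.eval₂Hom_X' _ _ none
  simp only [map_mul, WittVector.map_teichmuller, er, ey] at h1
  rw [h1, WittVector.map_coeff, WittVector.coeff_mk, map_mul, map_pow, er]
  exact congrArg _ (MvPolynomial.eval₂Hom_X' _ _ (some n))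


/-- Let p be a prime, A a commutative ring, K a commutative A-algebra of characteristic p and M_0, M_1,
M_2, … A-submodules of K with M_i · M_j ⊆ M_(i+j) for all i, j. Then the subset of the ring W(K) of
p-typical Witt vectors consisting of the vectors whose n-th coordinate lies in M_(p^n) for every n
is closed under addition and under multiplication by the image of W(A) under W of the structure map;
in other words it is a W(A)-submodule of W(K). (The published statement is the case of an integral
normal noetherian scheme X of characteristic p with function field K, an affine open subset U with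
coordinate ring A, and M_k the module of sections over U of the divisorial sheaf of k·D for a real
Weil divisor D on X; these form such a multiplicative family, and the subset is then the module of
sections over U of the Witt divisorial sheaf of D inside W(K). Only the two stated properties of
that family enter.) -/
theorem result
    (p : ℕ) [Fact p.Prime] (A K : Type u) [CommRing A] [CommRing K] [Algebra A K] [CharP K p]
    (M : ℕ → Submodule A K)
    (hmul : ∀ (i j : ℕ) (a b : K), a ∈ M i → b ∈ M j → a * b ∈ M (i + j)) :
    (∀ φ ψ : WittVector p K, (∀ n : ℕ, φ.coeff n ∈ M (p ^ n)) → (∀ n : ℕ, ψ.coeff n ∈ M (p ^ n)) →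
        ∀ n : ℕ, (φ + ψ).coeff n ∈ M (p ^ n)) ∧
      (∀ (x : WittVector p A) (φ : WittVector p K), (∀ n : ℕ, φ.coeff n ∈ M (p ^ n)) →
        ∀ n : ℕ, (WittVector.map (algebraMap A K) x * φ).coeff n ∈ M (p ^ n)) := by
  let S : Subalgebra A (Polynomial K) :=
    { carrier := {f | f.coeff 0 ∈ (algebraMap A K).range ∧ ∀ i, 0 < i → f.coeff i ∈ M i}
      mul_mem' := by
        rintro f g ⟨hf0, hf⟩ ⟨hg0, hg⟩
        refine ⟨by rw [Polynomial.mul_coeff_zero]; exact mul_mem hf0 hg0, fun i hi => ?_⟩
        rw [Polynomial.coeff_mul]
        refine sum_mem fun ⟨a, b⟩ hab => ?_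
        rw [Finset.HasAntidiagonal.mem_antidiagonal] at hab
        rcases Nat.eq_zero_or_pos a with rfl | ha
        · obtain ⟨x, hx⟩ := hf0
          simp only [zero_add] at hab
          subst hab
          rw [← hx, ← Algebra.smul_def]
          exact (M b).smul_mem x (hg b hi)
        rcases Nat.eq_zero_or_pos b with rfl | hb
        · obtain ⟨x, hx⟩ := hg0
          simp only [add_zero] at hab
          subst hab
          rw [← hx, mul_comm, ← Algebra.smul_def]
          exact (M a).smul_mem x (hf a hi)
        exact hab ▸ hmul a b _ _ (hf a ha) (hg b hb)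
      add_mem' := fun {f g} hf hg => ⟨by rw [Polynomial.coeff_add]; exact add_mem hf.1 hg.1,
        fun i hi => by rw [Polynomial.coeff_add]; exact add_mem (hf.2 i hi) (hg.2 i hi)⟩
      algebraMap_mem' := fun a => ⟨⟨a, by simp [Polynomial.algebraMap_apply]⟩, fun i hi => by
        simp [Polynomial.algebraMap_apply, Polynomial.coeff_C, hi.ne']⟩ }
  have hpos : ∀ n, 0 < p ^ n := fun n => pow_pos (Fact.out : p.Prime).pos n
  let ι : WittVector p K →+* WittVector p (Polynomial K) := WittVector.map Polynomial.C
  let t : WittVector p (Polynomial K) := WittVector.teichmuller p Polynomial.X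
  have hcoef : ∀ (φ : WittVector p K) n, (t * ι φ).coeff n = Polynomial.X ^ p ^ n * Polynomial.C (φ.coeff n) := by
    intro φ n
    rw [teichmuller_mul_coeff, WittVector.map_coeff]
  have hin : ∀ φ : WittVector p K, (∀ n, φ.coeff n ∈ M (p ^ n)) →
      ∃ w : WittVector p S, WittVector.map S.val.toRingHom w = t * ι φ := by
    intro φ hφ
    refine ⟨WittVector.mk p fun n => ⟨Polynomial.X ^ p ^ n * Polynomial.C (φ.coeff n), ?_, fun i hi => ?_⟩, WittVector.ext fun n => by
      rw [WittVector.map_coeff, WittVector.coeff_mk, hcoef]; rfl⟩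
    · show (Polynomial.X ^ p ^ n * Polynomial.C (φ.coeff n) : Polynomial K).coeff 0 ∈ _
      rw [Polynomial.mul_coeff_zero, Polynomial.coeff_X_pow, if_neg (hpos n).ne, zero_mul]
      exact zero_mem _
    · show (Polynomial.X ^ p ^ n * Polynomial.C (φ.coeff n) : Polynomial K).coeff i ∈ _
      rw [mul_comm, Polynomial.coeff_C_mul, Polynomial.coeff_X_pow]
      split_ifs with h
      · rw [mul_one, h]; exact hφ n
      · rw [mul_zero]; exact zero_mem _
  have hout : ∀ φ : WittVector p K, (∃ w : WittVector p S, WittVector.map S.val.toRingHom w = t * ι φ) →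
      ∀ n, φ.coeff n ∈ M (p ^ n) := by
    rintro φ ⟨w, hw⟩ n
    have := (w.coeff n).2.2 (p ^ n) (hpos n)
    rw [show ((w.coeff n : S) : Polynomial K) = (t * ι φ).coeff n by rw [← hw, WittVector.map_coeff]; rfl,
      hcoef, mul_comm, Polynomial.coeff_C_mul, Polynomial.coeff_X_pow, if_pos rfl, mul_one] at this
    exact this
  refine ⟨fun φ ψ hφ hψ => hout _ ?_, fun x φ hφ => hout _ ?_⟩
  · obtain ⟨u, hu⟩ := hin φ hφ
    obtain ⟨v, hv⟩ := hin ψ hψ
    exact ⟨u + v, by rw [map_add, map_add, mul_add, hu, hv]⟩
  · obtain ⟨u, hu⟩ := hin φ hφ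
    refine ⟨WittVector.map (algebraMap A S) x * u, ?_⟩
    rw [map_mul, map_mul, hu, mul_left_comm]
    congr 1

end Groth.Agent.S18590
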