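import Groth.Statements.S18596
import Groth.Agent.H48.RamBound
import Mathlib.AlgebraicGeometry.ValuativeCriterion
import Mathlib.AlgebraicGeometry.Morphisms.Etale
import Mathlib.AlgebraicGeometry.ResidueField

set_option autoImplicit false
universe u
open EtRam

namespace Groth.Agent.S18596

open AlgebraicGeometry CategoryTheory IsLocalRing EtRam Groth.Agent.H48 TensorProduct

/-- The places of a field point of a finite étale algebra over a DVR are unramified. -/
theorem unramified_of_generated {A E F K : Type u} [CommRing A] [IsDomain A] [IsDiscreteValuationRing A]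
    [CommRing E] [Algebra A E] [Algebra.Etale A E] [Module.Finite A E] [Field K] [Algebra A K] [IsFractionRing A K]
    [Field F] [Algebra K F] [FiniteDimensional K F] (ψ : E →+* F)
    (hψ : ∀ a, ψ (algebraMap A E a) = algebraMap K F (algebraMap A K a))
    (hgen : Subfield.closure (Set.range ψ) = ⊤) (V : ValuationSubring F)
    (hV : Dominates A ((algebraMap K F).comp (algebraMap A K)) V) :
    letI : Algebra A V := (RingHom.codRestrict _ V hV.1).toAlgebra
    ∀ [IsLocalHom (algebraMap A V)],
    IsWeaklyUnramified A V ∧ Algebra.IsSeparable (ResidueField A) (ResidueField V) := by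
  intro _
  letI : Algebra A V := (RingHom.codRestrict _ V hV.1).toAlgebra
  haveI : IsDiscreteValuationRing V := FSExt.isDVR V hV
  letI : Algebra A F := ((algebraMap K F).comp (algebraMap A K)).toAlgebra
  haveI : IsScalarTower A V F := IsScalarTower.of_algebraMap_eq fun _ => rfl
  let ψA : E →ₐ[A] F := { ψ with commutes' := hψ }
  have hmem : ∀ x, ψ x ∈ V := fun x => by
    obtain ⟨y, hy⟩ := IsIntegrallyClosed.isIntegral_iff.1 (((IsIntegral.of_finite A x).map ψA).tower_top (A := V))
    rw [show ψ x = ((y : V) : F) from hy.symm]; exact y.2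
  let φ : E →+* V := ψ.codRestrict V hmem
  obtain ⟨π, hπ⟩ := IsDiscreteValuationRing.exists_irreducible A
  let t := algebraMap A E π
  have hφA : ∀ a, φ (algebraMap A E a) = algebraMap A V a := fun a => Subtype.ext (hψ a)
  have ht : φ t ∈ maximalIdeal V := by rw [hφA]; exact map_nonunit _ _ hπ.not_isUnit
  have hinj : Function.Injective (algebraMap A V) := fun a b h =>
    IsFractionRing.injective A K ((algebraMap K F).injective (congrArg Subtype.val h))
  have ht0 : φ t ≠ 0 := by rw [hφA]; exact (map_ne_zero_iff _ hinj).2 hπ.ne_zero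
  have hgen' : ∀ z : F, ∃ a b : E, φ b ≠ 0 ∧ z * (φ b : F) = φ a := by
    intro z
    have hz : z ∈ Subfield.closure (Set.range ψ) := by rw [hgen]; trivial
    obtain ⟨a, ha, b, hb, rfl⟩ := Subfield.mem_closure_iff.1 hz
    have hr : Subring.closure (Set.range ψ) ≤ ψ.range := Subring.closure_le.2 (by rintro _ ⟨x, rfl⟩; exact ⟨x, rfl⟩)
    obtain ⟨a', rfl⟩ := hr ha
    obtain ⟨b', rfl⟩ := hr hb
    by_cases h0 : ψ b' = 0
    · exact ⟨0, 1, by simp, by simp [h0]⟩
    · exact ⟨a', b', fun h => h0 (congrArg Subtype.val h), div_mul_cancel₀ _ h0⟩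
  let k := ResidueField A
  let Q := k ⊗[A] E
  haveI : Algebra.Etale k Q := inferInstance
  haveI : Module.Finite k Q := inferInstance
  haveI : Algebra.IsGeometricallyReduced k Q := by
    rw [Algebra.isGeometricallyReduced_field_iff]
    exact Algebra.FormallyUnramified.isReduced_of_field (AlgebraicClosure k) _
  haveI := Algebra.isReduced_of_isGeometricallyReduced k (A := Q)
  haveI : Algebra.IsIntegral k Q := Algebra.IsIntegral.of_finite k Q
  have hdim : ∀ q : Ideal Q, q.IsPrime → q.IsMaximal := fun q hq => FSExt.isMaximal_of_integral (k := k) q hq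
  let fk : k →+* E ⧸ Ideal.span {t} :=
    Ideal.Quotient.lift (maximalIdeal A) ((Ideal.Quotient.mk _).comp (algebraMap A E)) fun a ha => by
      rw [hπ.maximalIdeal_eq, Ideal.mem_span_singleton] at ha
      obtain ⟨c, rfl⟩ := ha
      rw [RingHom.comp_apply, Ideal.Quotient.eq_zero_iff_mem, map_mul]
      exact Ideal.mul_mem_right _ _ (Ideal.mem_span_singleton_self t)
  let fkA : k →ₐ[A] E ⧸ Ideal.span {t} := { fk with commutes' := fun a => rfl }
  let Φ : Q →ₐ[A] E ⧸ Ideal.span {t} :=
    Algebra.TensorProduct.lift fkA (Ideal.Quotient.mkₐ A _) fun _ _ => Commute.all _ _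
  have hΦ : Function.Surjective Φ := fun y => by
    obtain ⟨x, rfl⟩ := Ideal.Quotient.mk_surjective y
    exact ⟨1 ⊗ₜ x, by
      show Algebra.TensorProduct.lift fkA (Ideal.Quotient.mkₐ A _) (fun _ _ => Commute.all _ _) (1 ⊗ₜ[A] x) = _
      rw [Algebra.TensorProduct.lift_tmul, map_one, one_mul]; rfl⟩
  obtain ⟨hmax, hres⟩ := FSExt.core V φ t ht ht0 hgen' hdim Φ.toRingHom hΦ
  refine ⟨(congrArg (Ideal.map (algebraMap A V)) hπ.maximalIdeal_eq).trans
    (by rw [Ideal.map_span, Set.image_singleton, hmax, hφA]), ?_⟩
  let θA : k →ₐ[A] ResidueField V :=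
    { algebraMap k (ResidueField V) with commutes' := fun a => rfl }
  let φA : E →ₐ[A] ResidueField V :=
    { (residue V).comp φ with commutes' := fun a => congrArg (residue V) (hφA a) }
  let Θ : Q →ₐ[k] ResidueField V :=
    { (Algebra.TensorProduct.lift θA φA fun _ _ => Commute.all _ _).toRingHom with
      commutes' := fun r => by
        show Algebra.TensorProduct.lift θA φA (fun _ _ => Commute.all _ _) (r ⊗ₜ[A] (1 : E)) = _
        rw [Algebra.TensorProduct.lift_tmul, map_one, mul_one]; rfl }
  have hΘ : Function.Surjective Θ := fun y => by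
    obtain ⟨x, rfl⟩ := hres y
    exact ⟨1 ⊗ₜ x, by
      show Algebra.TensorProduct.lift θA φA (fun _ _ => Commute.all _ _) ((1 : k) ⊗ₜ[A] x) = (residue V) (φ x)
      rw [Algebra.TensorProduct.lift_tmul, map_one, one_mul]; rfl⟩
  haveI : Algebra.IsGeometricallyReduced k (ResidueField V) := FSExt.geomRed_quotient hdim Θ hΘ
  haveI : Module.Finite k (ResidueField V) := Module.Finite.of_surjective Θ.toLinearMap hΘ
  exact FSExt.isSeparable_of_geomRed k (ResidueField V)

theorem finite_of_generated {A E F K : Type u} [CommRing A] [CommRing E] [Algebra A E] [Module.Finite A E] [Field K]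
    [Algebra A K] [Field F] [Algebra K F] (ψ : E →+* F)
    (hψ : ∀ a, ψ (algebraMap A E a) = algebraMap K F (algebraMap A K a))
    (hgen : Subfield.closure (Set.range ψ) = ⊤) : FiniteDimensional K F := by
  classical
  letI : Algebra A F := ((algebraMap K F).comp (algebraMap A K)).toAlgebra
  haveI : IsScalarTower A K F := IsScalarTower.of_algebraMap_eq fun _ => rfl
  let ψA : E →ₐ[A] F := { ψ with commutes' := hψ }
  obtain ⟨s, hs⟩ := Module.Finite.fg_top (R := A) (M := E)
  let T := IntermediateField.adjoin K (ψ '' (s : Set E))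
  haveI : Finite (ψ '' (s : Set E)) := (s.finite_toSet.image ψ).to_subtype
  haveI : FiniteDimensional K T := IntermediateField.finiteDimensional_adjoin (fun x hx => by
    obtain ⟨e, -, rfl⟩ := hx
    exact ((IsIntegral.of_finite A e).map ψA).tower_top (A := K))
  have hmem : ∀ x : E, ψ x ∈ T := fun x => by
    have hx : x ∈ Submodule.span A (s : Set E) := by rw [hs]; trivial
    induction hx using Submodule.span_induction with
    | mem x hx => exact IntermediateField.subset_adjoin K _ ⟨x, hx, rfl⟩
    | zero => rw [map_zero]; exact zero_mem _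
    | add x y _ _ hx hy => rw [map_add]; exact add_mem hx hy
    | smul a x _ hx => rw [Algebra.smul_def, map_mul, hψ]; exact mul_mem (T.algebraMap_mem _) hx
  have htop : T = ⊤ := eq_top_iff.2 fun z _ =>
    (Subfield.closure_le.2 (by rintro _ ⟨x, rfl⟩; exact hmem x) : Subfield.closure (Set.range ψ) ≤ T.toSubfield)
      (hgen.symm ▸ Subfield.mem_top z)
  exact Module.Finite.equiv ((IntermediateField.equivOfEq htop).trans IntermediateField.topEquiv).toLinearEquiv

theorem factor_point {Y : Scheme.{u}} {K : Type u} [Field K] (h : Spec (CommRingCat.of K) ⟶ Y) (y : Y)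
    (hy : h.base (closedPoint K) = y) : ∃ ι, Spec.map ι ≫ Y.fromSpecResidueField y = h := by
  subst hy
  exact ⟨_, Scheme.descResidueField_stalkClosedPointTo_fromSpecResidueField K Y h⟩

theorem affine_point {A : CommRingCat.{u}} {P Y : Scheme.{u}} (q : P ⟶ Spec A) [IsFinite q] [Etale q]
    (pr : P ⟶ Y) (y : Y) (γ : Spec (Y.residueField y) ⟶ P) (hγ : γ ≫ pr = Y.fromSpecResidueField y)
    (i : A ⟶ Y.residueField y) (hi : γ ≫ q = Spec.map i) :
    ∃ (E : CommRingCat.{u}) (g : A ⟶ E) (ψ : E ⟶ Y.residueField y), g.hom.Etale ∧ g.hom.Finite ∧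
      g ≫ ψ = i ∧ Subfield.closure (Set.range ψ.hom) = ⊤ := by
  haveI : IsAffine P := isAffine_of_isAffineHom q
  let e := P.isoSpec
  obtain ⟨g, hg⟩ : ∃ g, Spec.map g = e.inv ≫ q := ⟨_, Spec.map_preimage _⟩
  obtain ⟨ψ, hψ⟩ : ∃ ψ, Spec.map ψ = γ ≫ e.hom := ⟨_, Spec.map_preimage _⟩
  refine ⟨_, g, ψ, ?_, ?_, ?_, ?_⟩
  · rw [← HasRingHomProperty.Spec_iff (P := @Etale), hg]; infer_instance
  · rw [← IsFinite.SpecMap_iff, hg]; infer_instance
  · apply Spec.map_injective
    rw [Spec.map_comp, hψ, hg, Category.assoc, Iso.hom_inv_id_assoc, hi]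
  · let F := Subfield.closure (Set.range ψ.hom)
    let j : CommRingCat.of F ⟶ Y.residueField y := CommRingCat.ofHom F.subtype
    let ψ' : _ ⟶ CommRingCat.of F :=
      CommRingCat.ofHom (ψ.hom.codRestrict F fun x => Subfield.subset_closure ⟨x, rfl⟩)
    let h : Spec (CommRingCat.of F) ⟶ Y := Spec.map ψ' ≫ e.inv ≫ pr
    have hh : Spec.map j ≫ h = Y.fromSpecResidueField y := by
      show Spec.map j ≫ Spec.map ψ' ≫ e.inv ≫ pr = _
      rw [← Spec.map_comp_assoc, show ψ' ≫ j = ψ from rfl, hψ, Category.assoc, Iso.hom_inv_id_assoc, hγ]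
    have hpt : h.base (closedPoint F) = y := by
      have h1 := Scheme.fromSpecResidueField_apply y (closedPoint (Y.residueField y))
      rw [← hh] at h1
      exact (congrArg h.base (Subsingleton.elim _ _)).trans h1
    obtain ⟨hl, hl'⟩ := factor_point h y hpt
    have hid : hl ≫ j = 𝟙 _ := by
      apply Spec.map_injective
      rw [Spec.map_comp, Spec.map_id, ← cancel_mono (Y.fromSpecResidueField y), Category.assoc, hl', hh, Category.id_comp]
    refine eq_top_iff.2 fun z _ => ?_
    have : j.hom (hl.hom z) = z := congrArg (fun f => f.hom z) hid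
    rw [← this]; exact (hl.hom z).2

open AlgebraicGeometry CategoryTheory in
/-- Let k be a perfect field, X a k-scheme proper over k and f : Y ⟶ X finite étale. Curve-tameness of f
asks that the pullback of f to any regular k-curve mapping to X be tamely ramified at every place of
the curve's function field at infinity; proper targets make every finite étale cover curve-tame.
Stated here unfolded at a single place, in the form the argument yields: for every point y of Y with
image x, and every discrete valuation ring A of the residue field κ(x) through which Spec κ(x) ⟶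
Spec k factors, the finite separable extension κ(y) of κ(x) is tamely ramified with respect to A. -/
theorem result
    (k : Type u) [Field k] [PerfectField k] {X Y : Scheme.{u}} (s : X ⟶ Spec (CommRingCat.of k))
    [IsProper s] (f : Y ⟶ X) [IsFinite f] [Etale f] (y : Y)
    (A : ValuationSubring (X.residueField (f.base y))) [IsDiscreteValuationRing A]
    (a : Spec (CommRingCat.of A) ⟶ Spec (CommRingCat.of k))
    (ha : Spec.map (CommRingCat.ofHom A.subtype) ≫ a = X.fromSpecResidueField (f.base y) ≫ s) :
    EtRam.IsTamelyRamified A ((f.residueFieldMap y).hom.comp A.subtype) := by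
  intro V hV
  intro _
  have hvc : ValuativeCriterion.Existence s := by
    have : (ValuativeCriterion.Existence ⊓ @QuasiCompact : MorphismProperty Scheme) s := by
      rw [← UniversallyClosed.eq_valuativeCriterion]; exact inferInstanceAs (UniversallyClosed s)
    exact this.1
  obtain ⟨φ, hφ1, hφ2⟩ := (hvc
    { R := A
      K := X.residueField (f.base y)
      i₁ := X.fromSpecResidueField (f.base y)
      i₂ := a
      commSq := ⟨ha.symm⟩ }).exists_lift
  dsimp only at hφ1 hφ2
  let i : CommRingCat.of A ⟶ Y.residueField y := CommRingCat.ofHom ((f.residueFieldMap y).hom.comp A.subtype)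
  have hsq : Y.fromSpecResidueField y ≫ f = Spec.map i ≫ φ := by
    rw [show i = CommRingCat.ofHom A.subtype ≫ f.residueFieldMap y from rfl, Spec.map_comp, Category.assoc,
      ← f.SpecMap_residueFieldMap_fromSpecResidueField y, ← hφ1]
    rfl
  obtain ⟨E, g, ψ, hge, hgf, hgψ, hgen⟩ := affine_point (Limits.pullback.snd f φ) (Limits.pullback.fst f φ) y
    (Limits.pullback.lift _ _ hsq) (Limits.pullback.lift_fst _ _ _) i (Limits.pullback.lift_snd _ _ _)
  letI : Algebra A E := g.hom.toAlgebra
  haveI : Algebra.Etale A E := hge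
  haveI : Module.Finite A E := hgf
  letI : Algebra (X.residueField (f.base y)) (Y.residueField y) := (f.residueFieldMap y).hom.toAlgebra
  haveI : FiniteDimensional (X.residueField (f.base y)) (Y.residueField y) :=
    finite_of_generated (A := A) (E := E) ψ.hom (fun b => congrArg (fun k => k.hom b) hgψ) hgen
  have hV' : EtRam.Dominates A ((algebraMap (X.residueField (f.base y)) (Y.residueField y)).comp
      (algebraMap A (X.residueField (f.base y)))) V := hV
  haveI : IsLocalHom (@algebraMap A V _ _ (RingHom.codRestrict _ V hV'.1).toAlgebra) :=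
    Groth.Agent.H48.DomVal.isLocalHom_of_dominates hV'
  obtain ⟨hw, hs⟩ := unramified_of_generated (A := A) (E := E) (K := X.residueField (f.base y)) ψ.hom
    (fun b => congrArg (fun k => k.hom b) hgψ) hgen V hV'
  refine ⟨hs, fun p hp _ hd => ?_⟩
  haveI : IsDiscreteValuationRing V := Groth.Agent.H48.FSExt.isDVR (B := A) (L := X.residueField (f.base y)) V hV
  have hinj : Function.Injective (RingHom.codRestrict ((f.residueFieldMap y).hom.comp A.subtype) V hV.1) :=
    fun a b h => Subtype.ext ((f.residueFieldMap y).hom.injective (congrArg Subtype.val h))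
  letI : Algebra A V := (RingHom.codRestrict ((f.residueFieldMap y).hom.comp A.subtype) V hV.1).toAlgebra
  rw [(Groth.Agent.H48.DomVal.isWeaklyUnramified_iff hinj).1 hw] at hd
  exact hp.not_dvd_one hd

end Groth.Agent.S18596
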