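import Groth.Statements.S18597
import Groth.Agent.H48.GalRam
import Groth.Agent.S18596
import Mathlib.FieldTheory.IsAlgClosed.AlgebraicClosure
import Mathlib.FieldTheory.Galois.Basic
import Mathlib.RingTheory.Unramified.Field
import Mathlib.GroupTheory.GroupAction.Quotient

set_option autoImplicit false
universe u
open EtRam

namespace Groth.Agent.S18597

open AlgebraicGeometry CategoryTheory IsLocalRing EtRam Groth.Agent.H48

section

variable {W X : Scheme.{u}} (f : W ⟶ X) [IsFinite f] [Etale f] (z : W)

/-- The residue extension at a point of a finite étale cover is finite separable. -/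
theorem finite_separable :
    letI : Algebra (X.residueField (f.base z)) (W.residueField z) := (f.residueFieldMap z).hom.toAlgebra
    FiniteDimensional (X.residueField (f.base z)) (W.residueField z) ∧
      Algebra.IsSeparable (X.residueField (f.base z)) (W.residueField z) := by
  letI : Algebra (X.residueField (f.base z)) (W.residueField z) := (f.residueFieldMap z).hom.toAlgebra
  let φ := X.fromSpecResidueField (f.base z)
  have hsq : W.fromSpecResidueField z ≫ f = Spec.map (f.residueFieldMap z) ≫ φ :=
    (f.SpecMap_residueFieldMap_fromSpecResidueField z).symm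
  obtain ⟨E, g, ψ, hge, hgf, hgψ, hgen⟩ := S18596.affine_point (Limits.pullback.snd f φ)
    (Limits.pullback.fst f φ) z (Limits.pullback.lift _ _ hsq) (Limits.pullback.lift_fst _ _ _) _
    (Limits.pullback.lift_snd _ _ _)
  letI : Algebra (X.residueField (f.base z)) E := g.hom.toAlgebra
  haveI : Algebra.Etale (X.residueField (f.base z)) E := hge
  haveI : Module.Finite (X.residueField (f.base z)) E := hgf
  haveI : FiniteDimensional (X.residueField (f.base z)) (W.residueField z) :=
    S18596.finite_of_generated (A := X.residueField (f.base z)) (E := E) ψ.hom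
      (fun b => congrArg (fun k => k.hom b) hgψ) hgen
  refine ⟨inferInstance, ?_⟩
  let ψA : E →ₐ[X.residueField (f.base z)] W.residueField z :=
    { ψ.hom with commutes' := fun b => congrArg (fun k => k.hom b) hgψ }
  let T : IntermediateField (X.residueField (f.base z)) (W.residueField z) :=
    ψA.range.toIntermediateField fun x hx => ψA.range.inv_mem_of_algebraic (x := ⟨x, hx⟩) (Algebra.IsAlgebraic.isAlgebraic _)
  have hsurj : Function.Surjective ψA := fun x =>
    (Subfield.closure_le.2 (by rintro _ ⟨a, rfl⟩; exact ⟨a, rfl⟩) : Subfield.closure (Set.range ψ.hom) ≤ T.toSubfield)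
      (hgen.symm ▸ Subfield.mem_top x)
  haveI : Algebra.FormallyUnramified (X.residueField (f.base z)) (W.residueField z) :=
    Algebra.FormallyUnramified.of_surjective ψA hsurj
  exact Algebra.FormallyUnramified.isSeparable _ _

variable {G : Type*} [Group G] (ρ : G → (W ⟶ W)) (hρ : ∀ σ, ρ σ ≫ f = f) (hρ1 : ρ 1 = 𝟙 W)
  (hρm : ∀ σ σ', ρ (σ * σ') = ρ σ' ≫ ρ σ)
  (htr : ∀ (Ω : Type u) [Field Ω] [IsAlgClosed Ω] (s t : Spec (CommRingCat.of Ω) ⟶ W), s ≫ f = t ≫ f → ∃ σ, s ≫ ρ σ = t)
include hρ hρ1 hρm htr

theorem exists_auto (Ω : Type u) [Field Ω] [IsAlgClosed Ω] (ι τ : W.residueField z ⟶ CommRingCat.of Ω)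
    (h : f.residueFieldMap z ≫ τ = f.residueFieldMap z ≫ ι) :
    ∃ (σ : G) (e : W.residueField z ⟶ W.residueField z),
      f.residueFieldMap z ≫ e = f.residueFieldMap z ∧
        Spec.map e ≫ W.fromSpecResidueField z = W.fromSpecResidueField z ≫ ρ σ ∧
        e ≫ ι = τ := by
  have hover : (Spec.map ι ≫ W.fromSpecResidueField z) ≫ f = (Spec.map τ ≫ W.fromSpecResidueField z) ≫ f := by
    simp only [Category.assoc, ← f.SpecMap_residueFieldMap_fromSpecResidueField z, ← Spec.map_comp_assoc, h]
  obtain ⟨σ, hσ'⟩ := htr Ω _ _ hover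
  have hw : ρ σ ≫ f = f := hρ σ
  have hpt : (W.fromSpecResidueField z ≫ ρ σ).base (closedPoint (W.residueField z)) = z := by
    have h1 : ((Spec.map ι ≫ W.fromSpecResidueField z) ≫ ρ σ).base (closedPoint Ω) = z := by
      rw [hσ']; exact Scheme.fromSpecResidueField_apply z _
    exact (congrArg (W.fromSpecResidueField z ≫ ρ σ).base (Subsingleton.elim _ _)).trans h1
  obtain ⟨e, he⟩ : ∃ e : W.residueField z ⟶ W.residueField z, Spec.map e ≫ W.fromSpecResidueField z = W.fromSpecResidueField z ≫ ρ σ :=
    S18596.factor_point (W.fromSpecResidueField z ≫ ρ σ) z hpt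
  refine ⟨σ, e, ?_, he, ?_⟩
  · apply Spec.map_injective
    rw [← cancel_mono (X.fromSpecResidueField (f.base z)), Spec.map_comp, Category.assoc,
      f.SpecMap_residueFieldMap_fromSpecResidueField z, ← Category.assoc, he, Category.assoc, hw]
  · apply Spec.map_injective
    rw [← cancel_mono (W.fromSpecResidueField z), Spec.map_comp, Category.assoc, he, ← hσ', Category.assoc]

theorem galois_dvd [Finite G] :
    letI : Algebra (X.residueField (f.base z)) (W.residueField z) := (f.residueFieldMap z).hom.toAlgebra
    IsGalois (X.residueField (f.base z)) (W.residueField z) ∧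
      Module.finrank (X.residueField (f.base z)) (W.residueField z) ∣ Nat.card G := by
  classical
  letI : Algebra (X.residueField (f.base z)) (W.residueField z) := (f.residueFieldMap z).hom.toAlgebra
  obtain ⟨hfin, hsep⟩ := finite_separable f z
  let K := X.residueField (f.base z)
  let F := W.residueField z
  haveI : FiniteDimensional K F := hfin
  haveI : Algebra.IsSeparable K F := hsep
  let Ω := AlgebraicClosure F
  let ι : F ⟶ CommRingCat.of Ω := CommRingCat.ofHom (algebraMap F Ω)
  let ιA : F →ₐ[K] Ω := IsScalarTower.toAlgHom K F Ω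
  have hm : ∀ τ : F →ₐ[K] Ω, f.residueFieldMap z ≫ CommRingCat.ofHom τ.toRingHom = f.residueFieldMap z ≫ ι :=
    fun τ => CommRingCat.hom_ext (RingHom.ext fun a => (τ.commutes a).trans (ιA.commutes a).symm)
  have hauto : ∀ τ : F →ₐ[K] Ω, ∃ g : F →ₐ[K] F, ιA.comp g = τ := fun τ => by
    obtain ⟨σ, e, he, -, heι⟩ := exists_auto f z ρ hρ hρ1 hρm htr Ω ι (CommRingCat.ofHom τ.toRingHom) (hm τ)
    exact ⟨{ e.hom with commutes' := fun a => congrArg (fun r => r.hom a) he },
      AlgHom.ext fun x => congrArg (fun r => r.hom x) heι⟩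
  have hcard : Nat.card (F ≃ₐ[K] F) = Module.finrank K F := by
    have h1 : Nat.card (F ≃ₐ[K] F) = Nat.card (F →ₐ[K] Ω) := by
      refine Nat.card_congr (Equiv.ofBijective (fun g => ιA.comp g.toAlgHom) ⟨fun g g' h => AlgEquiv.ext fun x => ?_, fun τ => ?_⟩)
      · exact (algebraMap F Ω).injective (DFunLike.congr_fun h x)
      · obtain ⟨g, hg⟩ := hauto τ
        refine ⟨AlgEquiv.ofBijective g (Algebra.IsAlgebraic.algHom_bijective g), ?_⟩
        rw [← hg]; rfl
    rw [h1, Nat.card_eq_fintype_card, AlgHom.card K F Ω]
  refine ⟨IsGalois.of_card_aut_eq_finrank _ _ hcard, ?_⟩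
  -- orbit of the base point under the stabiliser of `z`
  letI : MulAction G (Spec (CommRingCat.of Ω) ⟶ W) :=
    { smul := fun σ s => s ≫ ρ σ
      one_smul := fun s => by show s ≫ ρ 1 = s; rw [hρ1, Category.comp_id]
      mul_smul := fun σ σ' s => by show s ≫ ρ (σ * σ') = (s ≫ ρ σ') ≫ ρ σ; rw [hρm, Category.assoc] }
  letI : MulAction G W :=
    { smul := fun σ p => (ρ σ).base p
      one_smul := fun p => by show (ρ 1).base p = p; rw [hρ1]; rfl
      mul_smul := fun σ σ' p => by show (ρ (σ * σ')).base p = _; rw [hρm]; rfl }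
  let H : Subgroup G := MulAction.stabilizer G z
  let pt : (F →ₐ[K] Ω) → (Spec (CommRingCat.of Ω) ⟶ W) := fun τ =>
    Spec.map (CommRingCat.ofHom τ.toRingHom : F ⟶ CommRingCat.of Ω) ≫ W.fromSpecResidueField z
  have hinj : Function.Injective pt := fun τ τ' h => by
    have h1 : Spec.map _ ≫ _ = Spec.map _ ≫ _ := h
    have h2 := Spec.map_injective ((cancel_mono (W.fromSpecResidueField z)).1 h1)
    exact AlgHom.ext fun x => congrArg (fun r => r.hom x) h2
  have horb : Set.range pt = MulAction.orbit H (pt ιA) := by
    apply Set.eq_of_subset_of_subset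
    · rintro _ ⟨τ, rfl⟩
      obtain ⟨σ, e, he, hspec, heι⟩ := exists_auto f z ρ hρ hρ1 hρm htr Ω ι (CommRingCat.ofHom τ.toRingHom) (hm τ)
      have hσz : (ρ σ).base z = z := by
        have h1 : (W.fromSpecResidueField z).base ((Spec.map e).base (closedPoint F)) =
            (ρ σ).base ((W.fromSpecResidueField z).base (closedPoint F)) := congrArg (fun r => r.base (closedPoint F)) hspec
        exact ((congrArg (ρ σ).base (Scheme.fromSpecResidueField_apply z _)).symm.trans h1.symm).trans
          (Scheme.fromSpecResidueField_apply z _)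
      refine ⟨⟨σ, hσz⟩, ?_⟩
      show (Spec.map ι ≫ W.fromSpecResidueField z) ≫ ρ σ = Spec.map (CommRingCat.ofHom τ.toRingHom : F ⟶ CommRingCat.of Ω) ≫ W.fromSpecResidueField z
      rw [← heι, Category.assoc, ← hspec, ← Category.assoc]
      exact congrArg (· ≫ _) (Spec.map_comp e ι).symm
    · rintro _ ⟨⟨σ, hσ⟩, rfl⟩
      have hσz : (ρ σ).base z = z := hσ
      have hpt : (W.fromSpecResidueField z ≫ ρ σ).base (closedPoint F) = z := by
        show (ρ σ).base ((W.fromSpecResidueField z).base (closedPoint F)) = z
        exact (congrArg (ρ σ).base (Scheme.fromSpecResidueField_apply z _)).trans hσz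
      obtain ⟨e, he⟩ : ∃ e : F ⟶ F, Spec.map e ≫ W.fromSpecResidueField z = W.fromSpecResidueField z ≫ ρ σ :=
        S18596.factor_point (W.fromSpecResidueField z ≫ ρ σ) z hpt
      have hw : ρ σ ≫ f = f := hρ σ
      have hek : f.residueFieldMap z ≫ e = f.residueFieldMap z := by
        apply Spec.map_injective
        rw [← cancel_mono (X.fromSpecResidueField (f.base z)), Spec.map_comp, Category.assoc,
          f.SpecMap_residueFieldMap_fromSpecResidueField z, ← Category.assoc, he, Category.assoc, hw]
      let g : F →ₐ[K] F := { e.hom with commutes' := fun a => congrArg (fun r => r.hom a) hek }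
      refine ⟨ιA.comp g, ?_⟩
      show Spec.map (e ≫ ι) ≫ _ = (Spec.map ι ≫ W.fromSpecResidueField z) ≫ ρ σ
      rw [show Spec.map (e ≫ ι) = Spec.map ι ≫ Spec.map e from Spec.map_comp e ι, Category.assoc, he, Category.assoc]
  have h2 : Module.finrank K F = Nat.card (MulAction.orbit H (pt ιA)) := by
    rw [← horb, Nat.card_range_of_injective hinj, Nat.card_eq_fintype_card, AlgHom.card K F Ω]
  rw [h2]
  refine dvd_trans ?_ H.card_subgroup_dvd_card
  rw [Nat.card_congr (MulAction.orbitEquivQuotientStabilizer H (pt ιA))]
  exact Subgroup.index_dvd_card _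

theorem main [Finite G] (k : Type u) [Field k] (hn : (Nat.card G : k) ≠ 0)
    (A : ValuationSubring (X.residueField (f.base z))) [IsDiscreteValuationRing A]
    (a : Spec (CommRingCat.of A) ⟶ Spec (CommRingCat.of k)) :
    EtRam.IsTamelyRamified A ((f.residueFieldMap z).hom.comp A.subtype) := by
  letI : Algebra (X.residueField (f.base z)) (W.residueField z) := (f.residueFieldMap z).hom.toAlgebra
  obtain ⟨hfin, hsep⟩ := finite_separable f z
  obtain ⟨hgal, hdvd⟩ := galois_dvd f z ρ hρ hρ1 hρm htr
  haveI : FiniteDimensional (X.residueField (f.base z)) (W.residueField z) := hfin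
  haveI : Algebra.IsSeparable (X.residueField (f.base z)) (W.residueField z) := hsep
  haveI : IsGalois (X.residueField (f.base z)) (W.residueField z) := hgal
  intro V hV
  intro hl
  have hV' : EtRam.Dominates A ((algebraMap (X.residueField (f.base z)) (W.residueField z)).comp
      (algebraMap A (X.residueField (f.base z)))) V := hV
  haveI : IsLocalHom (@algebraMap A V _ _ (RingHom.codRestrict _ V hV'.1).toAlgebra) :=
    DomVal.isLocalHom_of_dominates hV'
  obtain ⟨he, hf⟩ := GalRam.dvd_finrank (A := A) (K := X.residueField (f.base z)) V hV'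
  obtain ⟨i, -⟩ : ∃ i : CommRingCat.of k ⟶ CommRingCat.of A, Spec.map i = a := ⟨_, Spec.map_preimage _⟩
  have hnA : ((Nat.card G : ℕ) : ResidueField A) ≠ 0 := fun h =>
    hn (((residue A).comp i.hom).injective (by rw [map_natCast, map_zero]; exact h))
  have hdeg : ∀ d : ℕ, d ∣ Module.finrank (X.residueField (f.base z)) (W.residueField z) →
      (d : ResidueField A) ≠ 0 := fun d hd h => hnA (by
    obtain ⟨c, hc⟩ := hd.trans hdvd
    rw [hc, Nat.cast_mul, h, zero_mul])
  letI : Algebra A V := (RingHom.codRestrict ((f.residueFieldMap z).hom.comp A.subtype) V hV.1).toAlgebra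
  haveI : IsLocalHom (algebraMap A V) := hl
  refine ⟨⟨fun x => ?_⟩, fun p hp _ hd => hdeg _ he ((CharP.cast_eq_zero_iff _ p _).2 hd)⟩
  have hfin' : Module.Finite (ResidueField A) (ResidueField V) :=
    Module.finite_of_finrank_pos (Nat.pos_of_ne_zero fun h => hdeg _ hf ((congrArg (Nat.cast (R := ResidueField A)) h).trans Nat.cast_zero))
  have hint : IsIntegral (ResidueField A) x := Algebra.IsIntegral.isIntegral x
  rw [IsSeparable, Polynomial.separable_iff_derivative_ne_zero (minpoly.irreducible hint)]
  intro h0
  have hnd : ((minpoly (ResidueField A) x).natDegree : ResidueField A) = 0 := by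
    have hpos := minpoly.natDegree_pos hint
    have h1 := congrArg (fun q : Polynomial (ResidueField A) => q.coeff ((minpoly (ResidueField A) x).natDegree - 1)) h0
    simp only [Polynomial.coeff_derivative, Polynomial.coeff_zero, Nat.sub_add_cancel hpos] at h1
    rw [(minpoly.monic hint).coeff_natDegree, one_mul, ← Nat.cast_add_one, Nat.sub_add_cancel hpos] at h1
    exact h1
  exact hdeg _ ((minpoly.degree_dvd hint).trans hf) hnd

end

open AlgebraicGeometry CategoryTheory in
/-- Let k be a perfect field and X a k-scheme. A finite étale cover of X by a torsor under a finite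
group of order prime to the characteristic of k is curve-tame, i.e. tamely ramified at every place
at infinity of every regular k-curve mapping to X. Stated here unfolded at a single place and for a
connected Galois cover Z ⟶ X (the X-automorphisms of Z act transitively on geometric fibres) whose
automorphism group has order invertible in k: for every point z of Z with image x and every discrete
valuation ring A of the residue field κ(x) through which Spec κ(x) ⟶ Spec k factors (so A contains k
and has the residue characteristic of k), the finite separable extension κ(z) of κ(x) is tamely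
ramified with respect to A. Without the factorisation through Spec A the claim fails already for X =
Spec ℚ, Z = Spec ℚ(√2) and A = ℤ localised at 2. (The published statement is for torsors under a
finite abelian group of order prime to the characteristic; a connected component of such a torsor is
a Galois cover of this kind.) -/
theorem result
    (k : Type u) [Field k] [PerfectField k] {X : Scheme.{u}} (s : X ⟶ Spec (CommRingCat.of k))
    (Z : FEt.Cat X) (hZ : PiSp.IsGaloisCover Z) (hn : (Nat.card (Aut Z) : k) ≠ 0) (z : Z.left)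
    (A : ValuationSubring (X.residueField (Z.hom.base z))) [IsDiscreteValuationRing A]
    (a : Spec (CommRingCat.of A) ⟶ Spec (CommRingCat.of k))
    (ha : Spec.map (CommRingCat.ofHom A.subtype) ≫ a = X.fromSpecResidueField (Z.hom.base z) ≫ s) :
    EtRam.IsTamelyRamified A ((Z.hom.residueFieldMap z).hom.comp A.subtype) := by
  haveI : Finite (Aut Z) := Nat.finite_of_card_ne_zero fun h => hn (by rw [h, Nat.cast_zero])
  haveI : IsFinite Z.hom := Z.prop.1
  haveI : Etale Z.hom := Z.prop.2
  exact main (W := Z.left) (X := X) Z.hom z (G := Aut Z) (fun σ => σ.hom.left) (fun σ => Over.w σ.hom.hom) rfl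
    (fun σ σ' => rfl) (fun Ω _ _ s' t' h => by
      obtain ⟨σ, hσ⟩ := hZ.2 Ω (s' ≫ Z.hom) ⟨s', rfl⟩ ⟨t', h.symm⟩
      exact ⟨σ, congrArg Subtype.val hσ⟩) k hn A a

end Groth.Agent.S18597
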