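import Groth.Statements.S1860
import Groth.Agent.Lib.Cyc.PP.Div
import Groth.Agent.Lib.Cyc.FieldDim
import Groth.Agent.Lib.Cyc.C1
import Groth.Agent.Lib.Cyc.Gys.Closed

set_option autoImplicit false
universe u
open CategoryTheory AlgebraicGeometry
open Cyc

namespace Groth.Agent.S1860

/-- Let X be an integral scheme of dimension 1 with a proper morphism c to Spec K, K a field, and f a
nonzero rational function on X. Then Σ_x [κ(x) : K] · ord_{O_{X,x}}(f) = 0, the sum over the closed
points x of X (a finite sum). -/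
theorem result (K : Type u) [Field K] (X : Scheme.{u}) [IsIntegral X] (c : X ⟶ Spec (CommRingCat.of K)) [IsProper c] (hdim : topologicalKrullDim X = 1) (f : X.functionField) (hf : f ≠ 0) : ∑ᶠ (x : X) (_ : IsClosed ({x} : Set X)), (c.residueDegree x : ℤ) * CycAlg.ordFrac (X.presheaf.stalk x) X.functionField f = 0 := by
  classical
  haveI : IsLocallyNoetherian X := LocallyOfFiniteType.isLocallyNoetherian c
  let δ := Groth.Agent.Lib.Cyc.FieldDim.fdelta c
  let δS : Spec (CommRingCat.of K) → ℤ := fun _ => 0
  have hδX : Cyc.IsDimFun X δ := Groth.Agent.Lib.Cyc.FieldDim.isDimFun_fdelta c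
  have hδS : Cyc.IsDimFun (Spec (CommRingCat.of K)) δS := fun a b _ hne =>
    (hne (Subsingleton.elim (α := PrimeSpectrum K) a b)).elim
  have hcomp : Cyc.DeltaCompat c δ δS := fun x => ⟨(δ x).toNat,
    Groth.Agent.Lib.Cyc.FieldDim.trdegAt_eq_fdelta c x, by
      have := Groth.Agent.Lib.Cyc.FieldDim.fdelta_nonneg c x
      show δ x = 0 + _
      rw [Int.toNat_of_nonneg this, zero_add]⟩
  set η := genericPoint X with hηdef
  have hη : δ η = 1 := by
    have h := Groth.Agent.Lib.Cyc.FieldDim.topologicalKrullDim_closure c η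
    rw [genericPoint_closure, IsHomeomorph.topologicalKrullDim_eq _
      (Homeomorph.Set.univ X).isHomeomorph, hdim] at h
    have h1 : (δ η).toNat = 1 := by exact_mod_cast h.symm
    omega
  have hres : Function.Injective (X.residue η) :=
    RingHom.injective (R := X.functionField) (X.residue η).hom
  have hfη : X.residue η f ≠ 0 := fun h => hf (hres (h.trans (map_zero _).symm))
  let pt : Spec (CommRingCat.of K) := c η
  have key := Groth.Agent.Lib.Cyc.PP.Div.finsum_divFun_eq_zero c (k := 0) hδX hδS hcomp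
    (ξ := η) (by rw [hη]; rfl) le_rfl (X.residue η f) hfη pt
  have hpre : ⇑c ⁻¹' {pt} = Set.univ :=
    Set.eq_univ_of_forall fun x => Subsingleton.elim (α := PrimeSpectrum K) (c x) pt
  rw [hpre, finsum_mem_univ] at key
  refine Eq.trans (finsum_congr fun x => ?_) key
  by_cases hx : IsClosed ({x} : Set X)
  · have hx0 : δ x = 0 := Groth.Agent.Lib.Cyc.FieldDim.fdelta_of_isClosed c x hx
    have hsp : η ⤳ x := genericPoint_specializes x
    rw [finsum_eq_if, if_pos hx, Cyc.divFun, dif_pos ⟨hsp, by omega⟩, AlgebraicCycle.mapCoeff,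
      if_pos (show δ x = δS (c x) from hx0), mul_comm]
    congr 1
    haveI := Groth.Agent.Lib.Cyc.Ord.locQuot_krullDimLE_one hδX x η hsp (by omega)
    let e : X.presheaf.stalk x ≃+* Cyc.LocQuot x η hsp :=
      RingEquiv.ofBijective (Ideal.Quotient.mk _)
        ⟨by rw [RingHom.injective_iff_ker_eq_bot, Ideal.mk_ker]
            exact Groth.Agent.Lib.Cyc.C1.ker_specMap_genericPoint x hsp, Ideal.Quotient.mk_surjective⟩
    haveI : Ring.KrullDimLE 1 (X.presheaf.stalk x) := by
      rw [Ring.krullDimLE_iff, ringKrullDim_eq_of_ringEquiv e, ← Ring.krullDimLE_iff]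
      infer_instance
    have hval : ∀ a : X.presheaf.stalk x, a ≠ 0 →
        CycAlg.ordFrac (X.presheaf.stalk x) X.functionField
            (algebraMap (X.presheaf.stalk x) X.functionField a) =
          Cyc.ordAt x η hsp (X.residue η (algebraMap (X.presheaf.stalk x) X.functionField a)) := by
      intro a ha
      refine (Groth.Agent.Lib.Cyc.Ord.ordFrac_algebraMap _ (K := X.functionField)
        (mem_nonZeroDivisors_of_ne_zero ha)).trans (Eq.symm ?_)
      refine (Groth.Agent.Lib.Cyc.Ord.ordFrac_algebraMap (Cyc.LocQuot x η hsp)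
        (K := X.residueField η) (a := e a) (mem_nonZeroDivisors_of_ne_zero
          fun h => ha (e.injective (h.trans (map_zero e).symm)))).trans ?_
      rw [Groth.Agent.Lib.Cyc.Gys.Closed.ord_congr e a]
    obtain ⟨a, b, hb, rfl⟩ := IsFractionRing.div_surjective (A := X.presheaf.stalk x) f
    have hb0 := nonZeroDivisors.ne_zero hb
    have ha0 : a ≠ 0 := fun h => hf (by rw [h, map_zero, zero_div])
    have hA : algebraMap (X.presheaf.stalk x) X.functionField a ≠ 0 :=
      (map_ne_zero_iff _ (IsFractionRing.injective _ _)).2 ha0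
    have hB : algebraMap (X.presheaf.stalk x) X.functionField b ≠ 0 :=
      (map_ne_zero_iff _ (IsFractionRing.injective _ _)).2 hb0
    rw [div_eq_mul_inv, Groth.Agent.Lib.Cyc.Ord.ordFrac_mul _ _ _ hA (inv_ne_zero hB),
      Groth.Agent.Lib.Cyc.Ord.ordFrac_inv _ _ hB, hval a ha0, hval b hb0, map_mul, map_inv₀,
      Groth.Agent.Lib.Cyc.Ord.ordAt_mul hδX x η hsp (by omega) _ _
        (fun h => hA (hres (h.trans (map_zero _).symm)))
        (inv_ne_zero fun h => hB (hres (h.trans (map_zero _).symm))),
      Groth.Agent.Lib.Cyc.Ord.ordAt_inv hδX x η hsp (by omega) _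
        fun h => hB (hres (h.trans (map_zero _).symm))]
  · rw [finsum_eq_if, if_neg hx]
    by_cases hxη : η ⤳ x ∧ δ x + 1 = δ η
    · refine (hx ?_).elim
      rw [← closure_eq_iff_isClosed, Set.eq_singleton_iff_unique_mem]
      refine ⟨subset_closure rfl, fun z hz => ?_⟩
      by_contra hne
      have h1 := (hδX x z (specializes_iff_mem_closure.2 hz) fun h => hne h.symm).1
      have h2 : 0 ≤ δ z := Groth.Agent.Lib.Cyc.FieldDim.fdelta_nonneg c z
      omega
    · rw [Cyc.divFun, dif_neg hxη, zero_mul]

end Groth.Agent.S1860
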