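import Groth.Statements.S18608
import Groth.Agent.Lib.RatSing74.FiniteExt
import Groth.Agent.Lib.ModelFibre.Centered
import Groth.Agent.Lib.Regular.UFD
import Groth.Agent.Lib.Cyc.TorPD
import Groth.Agent.S15138

set_option autoImplicit false
universe u
open CategoryTheory CategoryTheory.Limits AlgebraicGeometry
open Resolve

namespace Groth.Agent.S18608

open Groth.Agent.Lib Groth.Agent.Lib.RatSing74.FiniteExt

/-- A proper birational morphism onto a normal local scheme of dimension at most one has no `H¹`. -/
theorem isRationalSing_of_dim_le_one (R : Type u) [CommRing R] [IsDomain R] [IsNoetherianRing R]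
    [IsIntegrallyClosed R] (h : ringKrullDim R ≤ 1) : Curv2.IsRationalSing R := by
  intro X f hf hint hn ⟨U, hU, hiso⟩
  haveI := hf
  haveI := hint
  haveI := hiso
  obtain ⟨hgen, hst⟩ := S15137.gen_props f U hU
  haveI := hst
  have hbij := ConcreteCategory.bijective_of_isIso (f.stalkMap (genericPoint X))
  haveI : IsIso f := ModelFibre.Centered.isIso_of_finite f (spec_isNormalScheme R) hgen hbij fun x =>
    (ModelFibre.Centered.subsingleton_fibre f (spec_isNormalScheme R) hgen hbij
      (((Cyc.TorPD.ringKrullDim_stalk_le x).trans
        (PrimeSpectrum.topologicalKrullDim_eq_ringKrullDim R).le).trans h)).finite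
  haveI : IsAffine X := IsAffine.of_isIso f
  haveI : (Coh.structureModule X).IsQuasicoherent := TensorMod.QCohInv.isQCoh_structureModule _
  exact ZarCoh.Affine.HH_subsingleton X (Coh.structureModule X) 0

set_option backward.isDefEq.respectTransparency.types false in
set_option maxHeartbeats 1000000 in
/-- Let A ⊆ B be a finite injective extension of two-dimensional excellent Noetherian normal domains
with fraction fields K ⊆ L and L separable over K (so Spec B → Spec A is finite, surjective and
generically étale), such that the localization of B at every maximal ideal of height two has a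
rational singularity: every normal modification of it has vanishing H^1 of the structure sheaf. Let
Y → Spec A be a resolution of singularities: Y is an integral scheme all of whose local rings are
regular, proper over Spec A and an isomorphism over a nonempty open subset of Spec A. Then the
degree [L : K] annihilates the A-module H^1(Y, O_Y); in particular H^1(Y, O_Y) = 0 when [L : K] is a
unit in A. (Affine form of the published statement, which is for schemes and phrases the conclusion
as the degree annihilating R^1 of the structure sheaf along the resolution; rational singularities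
of the source are taken in the every-normal-modification form.) -/
theorem result (A B : Type u)
    [CommRing A] [CommRing B] [IsDomain A] [IsDomain B] [IsNoetherianRing A] [IsNoetherianRing B]
    [IsIntegrallyClosed A] [IsIntegrallyClosed B]
    (hAe : EGA4.IsExcellent A) (hBe : EGA4.IsExcellent B) (hA2 : ringKrullDim A = 2) (hB2 : ringKrullDim B = 2)
    [Algebra A B] [Module.Finite A B] (hinj : Function.Injective (algebraMap A B))
    (K L : Type u) [Field K] [Field L] [Algebra A K] [IsFractionRing A K] [Algebra B L] [IsFractionRing B L]
    [Algebra K L] [Algebra A L] [IsScalarTower A K L] [IsScalarTower A B L] [Algebra.IsSeparable K L]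
    (hB : ∀ (n : Ideal B) [n.IsMaximal], ringKrullDim (Localization.AtPrime n) = 2 →
      Curv2.IsRationalSing (Localization.AtPrime n))
    (Y : Scheme.{u}) [Y.Over (Spec (CommRingCat.of A))] [IsProper (Y ↘ Spec (CommRingCat.of A))]
    [AlgebraicGeometry.IsIntegral Y] (hreg : Models.IsRegularScheme Y)
    (hbir : ∃ U : (Spec (CommRingCat.of A)).Opens, (U : Set ↥(Spec (CommRingCat.of A))).Nonempty ∧
      IsIso ((Y ↘ Spec (CommRingCat.of A)) ∣_ U))
    (x : Coh.HH Y (Coh.structureModule Y) 1) :
    (Module.finrank K L : A) • x = 0 := by
  obtain ⟨U, hU, hiso⟩ := hbir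
  haveI : FiniteDimensional K L := by
    haveI : IsIntegralClosure B A L :=
      haveI : Algebra.IsIntegral A B := Algebra.IsIntegral.of_finite A B
      IsIntegralClosure.of_isIntegrallyClosed B A L
    haveI : IsLocalization (Algebra.algebraMapSubmonoid B (nonZeroDivisors A)) L :=
      IsIntegralClosure.isLocalization A K L B
    exact Module.Finite.of_isLocalization A B (nonZeroDivisors A)
  have hnW : Pi1.IsNormalScheme Y := fun y => by
    haveI := hreg y
    exact ⟨Regular.Quotient.isDomain _, Regular.UFD.isIntegrallyClosed _⟩
  have hBx : ∀ x : Spec (CommRingCat.of B), IsClosed ({x} : Set (Spec (CommRingCat.of B))) →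
      Curv2.IsRationalSing ((Spec (CommRingCat.of B)).presheaf.stalk x) := by
    have key : ∀ q : PrimeSpectrum B, q.asIdeal.IsMaximal →
        Curv2.IsRationalSing ((Spec.structureSheaf B).presheaf.stalk q) := fun q hq => by
      haveI := hq
      refine Groth.Agent.S15138.isRationalSing_of_equiv (IsLocalization.algEquiv q.asIdeal.primeCompl
        (Localization.AtPrime q.asIdeal) ((Spec.structureSheaf B).presheaf.stalk q)).toRingEquiv ?_
      have hle : ringKrullDim (Localization.AtPrime q.asIdeal) ≤ 2 := by
        rw [IsLocalization.AtPrime.ringKrullDim_eq_height q.asIdeal, ← hB2]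
        exact Ideal.height_le_ringKrullDim_of_ne_top hq.ne_top
      rcases hle.eq_or_lt with h | h
      · exact hB q.asIdeal h
      · haveI : IsIntegrallyClosed (Localization.AtPrime q.asIdeal) :=
          isIntegrallyClosed_of_isLocalization _ q.asIdeal.primeCompl
            q.asIdeal.primeCompl_le_nonZeroDivisors
        refine isRationalSing_of_dim_le_one _ ?_
        rw [IsLocalization.AtPrime.ringKrullDim_eq_height q.asIdeal] at h ⊢
        have h' : q.asIdeal.height < ((1 + 1 : ℕ) : ℕ∞) :=
          WithBot.coe_lt_coe.1 (h : ((q.asIdeal.height : ℕ∞) : WithBot ℕ∞) < ((2 : ℕ∞) : WithBot ℕ∞))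
        have h'' : q.asIdeal.height ≤ 1 := by simpa using h'
        exact WithBot.coe_le_coe.2 h''
    exact fun x hx => key x ((PrimeSpectrum.isClosed_singleton_iff_isMaximal _).mp hx)
  let W := Y
  let f : W ⟶ Spec (CommRingCat.of A) := Y ↘ Spec (CommRingCat.of A)
  haveI : IsIso (f ∣_ U) := hiso
  haveI : IsLocallyNoetherian W := LocallyOfFiniteType.isLocallyNoetherian f
  haveI : CompactSpace W := QuasiCompact.compactSpace_of_compactSpace f
  haveI : IsNoetherian W := {}
  obtain ⟨hgen, hst⟩ := S15137.gen_props f U hU
  -- the function field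
  let η := genericPoint W
  let p : PrimeSpectrum A := f η
  letI : Algebra A ((Spec (CommRingCat.of A)).presheaf.stalk (f η)) :=
    StructureSheaf.stalkAlgebra (CommRingCat.of A) (f η)
  haveI : IsLocalization.AtPrime ((Spec (CommRingCat.of A)).presheaf.stalk (f η)) p.asIdeal :=
    StructureSheaf.IsLocalization.to_stalk (CommRingCat.of A) (f η)
  have hbot : p.asIdeal.primeCompl = nonZeroDivisors A := by
    have h : p.asIdeal = ⊥ := by
      show PrimeSpectrum.asIdeal (f η) = ⊥
      rw [hgen, genericPoint_eq_bot_of_affine]
      rfl
    ext a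
    simp [Ideal.primeCompl, h, mem_nonZeroDivisors_iff_ne_zero]
  let toS : A →+* (Spec (CommRingCat.of A)).presheaf.stalk (f η) :=
    (StructureSheaf.toStalk A (f η)).hom
  letI : Algebra A W.functionField := ((f.stalkMap η).hom.comp toS).toAlgebra
  haveI : IsFractionRing A W.functionField := by
    haveI : IsLocalization (nonZeroDivisors A) ((Spec (CommRingCat.of A)).presheaf.stalk (f η)) :=
      hbot ▸ (inferInstance : IsLocalization.AtPrime _ p.asIdeal)
    exact IsLocalization.isLocalization_of_algEquiv (nonZeroDivisors A)
      (AlgEquiv.ofRingEquiv (f := (asIso (f.stalkMap η)).commRingCatIsoToRingEquiv) fun _ => rfl)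
  let e : W.functionField ≃ₐ[A] K := IsLocalization.algEquiv (nonZeroDivisors A) W.functionField K
  let φ : W.functionField →+* L := (algebraMap K L).comp (e : W.functionField →+* K)
  let g : Spec (CommRingCat.of L) ⟶ W :=
    Spec.map (CommRingCat.ofHom φ) ≫ W.fromSpecStalk (genericPoint W)
  haveI : QuasiCompact g := inferInstance
  haveI : QuasiSeparated g := inferInstance
  have hφ : φ.comp ((f.stalkMap η).hom.comp toS) = algebraMap A L := RingHom.ext fun a => by
    show algebraMap K L (e (algebraMap A W.functionField a)) = _
    rw [e.commutes, ← IsScalarTower.algebraMap_apply]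
  have hgf : g ≫ f = Spec.map (CommRingCat.ofHom (algebraMap A L)) := by
    rw [← hφ]
    show (Spec.map _ ≫ W.fromSpecStalk η) ≫ f = _
    rw [Category.assoc, ← Scheme.SpecMap_stalkMap_fromSpecStalk, Spec.fromSpecStalk_eq']
    refine Eq.trans ?_ ((Spec.map_comp (StructureSheaf.toStalk A (f η) ≫ f.stalkMap η)
      (CommRingCat.ofHom φ)).symm.trans rfl)
    exact congrArg (Spec.map (CommRingCat.ofHom φ) ≫ ·) (Spec.map_comp _ _).symm
  letI : Algebra W.functionField L := φ.toAlgebra
  have hrank : Module.finrank W.functionField L = Module.finrank K L :=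
    Algebra.finrank_eq_of_equiv_equiv e.toRingEquiv (RingEquiv.refl L) rfl
  have hpos : 0 < Module.finrank W.functionField L := hrank ▸ Module.finrank_pos
  haveI hfd : FiniteDimensional W.functionField L := Module.finite_of_finrank_pos hpos
  haveI : Algebra.IsSeparable W.functionField L :=
    Algebra.IsSeparable.of_equiv_equiv e.toRingEquiv.symm (RingEquiv.refl L)
      (RingHom.ext fun t => by
        show φ (e.toRingEquiv.symm t) = algebraMap K L t
        exact congrArg (algebraMap K L) (e.apply_symm_apply t))
  -- the normalization and its map to `Spec B`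
  haveI hfin : IsFinite g.fromNormalization := Groth.Agent.S18426.result hnW L
  haveI : IsIntegral g.normalization := Normalization.InField.isIntegral_normalization g
  have hn' : Pi1.IsNormalScheme g.normalization := Normalization.InField.isNormalScheme φ g rfl
  let b : Spec (CommRingCat.of B) ⟶ Spec (CommRingCat.of A) :=
    Spec.map (CommRingCat.ofHom (algebraMap A B))
  haveI : IsFinite b := (IsFinite.SpecMap_iff _).mpr (RingHom.finite_algebraMap.mpr inferInstance)
  let sL : Spec (CommRingCat.of L) ⟶ Spec (CommRingCat.of B) :=
    Spec.map (CommRingCat.ofHom (algebraMap B L))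
  have hsL : g ≫ f = sL ≫ b := by
    rw [hgf, ← Spec.map_comp, ← CommRingCat.ofHom_comp, ← IsScalarTower.algebraMap_eq]
  let ℓ := pullback.lift g sL hsL
  haveI : IsFinite (pullback.fst f b) :=
    MorphismProperty.of_isPullback (IsPullback.of_hasPullback f b).flip inferInstance
  have hℓ : g = ℓ ≫ pullback.fst f b := (pullback.lift_fst _ _ _).symm
  let π : g.normalization ⟶ Spec (CommRingCat.of B) :=
    g.normalizationDesc ℓ (pullback.fst f b) hℓ ≫ pullback.snd f b
  have hπb : π ≫ b = g.fromNormalization ≫ f := by
    simp only [π, Category.assoc, ← pullback.condition]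
    rw [Scheme.Hom.normalizationDesc_comp_assoc]
  haveI : IsProper π := by
    haveI : IsProper (π ≫ b) := hπb ▸ inferInstance
    exact IsProper.of_comp π b
  have hπL : g.toNormalization ≫ π = sL := by
    simp only [π, Scheme.Hom.toNormalization_normalizationDesc_assoc, ℓ, pullback.lift_snd]
  have hnB := spec_isNormalScheme B
  -- birationality
  obtain ⟨z⟩ := (inferInstance : Nonempty (Spec (CommRingCat.of L)))
  have hz := Normalization.InFieldGeneric.toNormalization_eq_genericPoint φ g rfl z
  have hπgen : π (genericPoint g.normalization) = genericPoint (Spec (CommRingCat.of B)) := by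
    rw [← hz, ← Scheme.Hom.comp_apply, hπL]
    exact (specMap_point B L z).1
  have hπst : IsIso (π.stalkMap (genericPoint g.normalization)) := by
    rw [← hz, ConcreteCategory.isIso_iff_bijective]
    have hfield : IsField ((Spec (CommRingCat.of B)).presheaf.stalk (π (g.toNormalization z))) := by
      rw [hz, hπgen]
      exact Field.toIsField (Spec (CommRingCat.of B)).functionField
    have hfield' : IsField (g.normalization.presheaf.stalk (g.toNormalization z)) := by
      rw [hz]
      exact Field.toIsField g.normalization.functionField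
    refine ⟨?_, ?_⟩
    · letI := hfield.toField
      exact (π.stalkMap _).hom.injective
    · letI := hfield'.toField
      have hi : Function.Injective (g.toNormalization.stalkMap z) := (g.toNormalization.stalkMap z).hom.injective
      have key : ∀ (s : Spec (CommRingCat.of L) ⟶ Spec (CommRingCat.of B)),
          Function.Surjective (s.stalkMap z) → s = g.toNormalization ≫ π →
          Function.Surjective ((g.toNormalization ≫ π).stalkMap z) := by
        rintro _ h rfl
        exact h
      have hsurj := key sL (specMap_point B L z).2 hπL.symm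
      rw [Scheme.Hom.stalkMap_comp] at hsurj
      intro v
      obtain ⟨w, hw⟩ := hsurj (g.toNormalization.stalkMap z v)
      exact ⟨w, hi hw⟩
  have hπapp := Groth.Agent.H34.Stein.isIso_app_of_birational π hnB hπgen hπst
  have hηU : genericPoint (Spec (CommRingCat.of A)) ∈ U :=
    (genericPoint_specializes hU.some).mem_open U.2 hU.some_mem
  obtain ⟨V, hV, hηV, hVU⟩ := exists_isAffineOpen_mem_and_subset (U := U)
    (x := genericPoint (Spec (CommRingCat.of A))) hηU
  have hfV : IsAffineOpen (f ⁻¹ᵁ V) := by
    haveI : IsIso (f ∣_ V) := ModPair.isIso_restrict_of_isPullback (IsPullback.of_id_fst (f := f)) U (V := V) hVU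
    haveI : IsAffine (V : Scheme.{u}) := hV
    exact IsAffine.of_isIso (f ∣_ V)
  have hbV : IsAffineOpen (b ⁻¹ᵁ V) := hV.preimage b
  have hπV : IsAffineOpen (π ⁻¹ᵁ (b ⁻¹ᵁ V)) := by
    rw [← Scheme.Hom.comp_preimage, hπb, Scheme.Hom.comp_preimage]
    exact hfV.preimage g.fromNormalization
  haveI : IsIso (π ∣_ (b ⁻¹ᵁ V)) := by
    haveI : IsAffine (b ⁻¹ᵁ V : (Spec (CommRingCat.of B)).Opens).toScheme := hbV
    haveI : IsAffine (π ⁻¹ᵁ (b ⁻¹ᵁ V) : g.normalization.Opens).toScheme := hπV
    suffices h : IsIso (π ∣_ (b ⁻¹ᵁ V)).appTop by
      haveI := h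
      have hn := Scheme.isoSpec_hom_naturality (π ∣_ (b ⁻¹ᵁ V))
      rw [eq_comm, ← Iso.eq_comp_inv] at hn
      rw [hn]
      infer_instance
    rw [Scheme.Hom.appTop, morphismRestrict_app]
    exact @IsIso.comp_isIso _ _ _ _ _ _ _ (hπapp _) (Functor.map_isIso _ _)
  have hne : ((b ⁻¹ᵁ V : (Spec (CommRingCat.of B)).Opens) : Set (Spec (CommRingCat.of B))).Nonempty := by
    refine ⟨π (genericPoint g.normalization), ?_⟩
    show b (π (genericPoint g.normalization)) ∈ V
    rw [← Scheme.Hom.comp_apply, hπb, Scheme.Hom.comp_apply,
      Normalization.InField.fromNormalization_genericPoint φ g rfl, hgen]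
    exact hηV
  haveI h' := subsingleton_H1 π hnB hn' (b ⁻¹ᵁ V) hne hBx
  -- the trace
  haveI : (Coh.structureModule g.normalization).IsQuasicoherent :=
    TensorMod.QCohInv.isQCoh_structureModule _
  let P := Coh.toAb ((Coh.push g.fromNormalization).obj (Coh.structureModule g.normalization))
  haveI : Subsingleton (CohTop.H P 1) :=
    (ZarCoh.PushH.pushH_bijective_of g.fromNormalization.base (Coh.toAb (Coh.structureModule g.normalization)) 1
      (ZarCoh.Morph.pushMap_bijective g.fromNormalization (Coh.structureModule g.normalization) ⊤ 1)).1.subsingleton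
  have hcomp := RatSing74.Trace.unit_comp_trace φ g rfl hnW
  rw [hrank] at hcomp
  have hx : (Module.finrank K L : A) • x =
      Sheaf.H.map (Coh.smulAb (Coh.structureModule W) ((Module.finrank K L : ℕ) : Coh.Γtop W)) 1 x := by
    show (Coh.toGlobal f (Module.finrank K L : A)) • x = _
    rw [show Coh.toGlobal f (Module.finrank K L : A) = ((Module.finrank K L : ℕ) : Coh.Γtop W) from
      map_natCast _ _]
    rfl
  rw [hx, ← hcomp, Sheaf.H.map_comp_apply, Subsingleton.elim (Sheaf.H.map
    ((SheafOfModules.toSheaf W.ringCatSheaf).map (ClSub.unitToPush g.fromNormalization)) 1 x : CohTop.H P 1) 0,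
    map_zero]

end Groth.Agent.S18608
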