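import Groth.Statements.S18614
import Mathlib.LinearAlgebra.Basis.VectorSpace
import Mathlib.LinearAlgebra.Dual.Lemmas

set_option autoImplicit false
universe u v
open LinTop

namespace Groth.Agent.S18614

/-- Let k be a field carrying the discrete topology and M a separated topological k-module with a
k-linear topology (the open k-submodules form a basis of neighbourhoods of zero and M is a
topological additive group). For a closed submodule M₁, the perpendicular of the perpendicular of
M₁, both taken with respect to the pairing of M with its continuous dual (the continuous k-linear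
maps M → k), is M₁ itself: an element killed by every continuous functional vanishing on M₁ belongs
to M₁. -/
theorem result (k : Type u) (M : Type v) [Field k]
    [TopologicalSpace k] [DiscreteTopology k] [AddCommGroup M] [Module k M] [TopologicalSpace M]
    [IsTopologicalAddGroup M] [IsLinearTopology k M] [T2Space M]
    (M₁ : Submodule k M) (hM₁ : IsClosed (M₁ : Set M)) (x : M)
    (hx : ∀ φ : M →L[k] k, (∀ m ∈ M₁, φ m = 0) → φ x = 0) : x ∈ M₁ := by
  by_contra hxM
  have hnb : (fun y ↦ x + y) ⁻¹' (M₁ : Set M)ᶜ ∈ nhds (0 : M) :=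
    (continuous_const.add continuous_id).continuousAt.preimage_mem_nhds
      (by simpa using hM₁.isOpen_compl.mem_nhds hxM)
  obtain ⟨U, hU, hUsub⟩ := (IsLinearTopology.hasBasis_open_submodule k (M := M)).mem_iff.mp hnb
  have hx' : x ∉ M₁ ⊔ U := fun h ↦ by
    obtain ⟨a, ha, b, hb, hab⟩ := Submodule.mem_sup.mp h
    exact hUsub (neg_mem hb) (show x + -b ∈ M₁ by rw [← hab, add_neg_cancel_right]; exact ha)
  obtain ⟨φ, hφx, hφ⟩ := Submodule.exists_dual_map_eq_bot_of_notMem hx' inferInstance
  have hker : ∀ m ∈ M₁ ⊔ U, φ m = 0 := fun m hm ↦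
    (Submodule.mem_bot k).mp (hφ ▸ Submodule.mem_map_of_mem hm)
  refine hφx (hx ⟨φ, ?_⟩ fun m hm ↦ hker m (Submodule.mem_sup_left hm))
  refine continuous_discrete_rng.mpr fun c ↦ isOpen_iff_mem_nhds.mpr fun a ha ↦ ?_
  have h1 : (fun y ↦ y - a) ⁻¹' (U : Set M) ∈ nhds a :=
    (continuous_id.sub continuous_const).continuousAt.preimage_mem_nhds
      (by simpa using hU.mem_nhds U.zero_mem)
  refine Filter.mem_of_superset h1 fun y hy ↦ ?_
  have h2 : φ (y - a) = 0 := hker _ (Submodule.mem_sup_right hy)
  rw [map_sub, sub_eq_zero] at h2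
  exact h2.trans ha

end Groth.Agent.S18614
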