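import Groth.Statements.S18615
import Mathlib.LinearAlgebra.Basis.VectorSpace

set_option autoImplicit false
universe u v
open LinTop

namespace Groth.Agent.S18615

/-- Let k be a field carrying the discrete topology and M a separated topological k-module with a
k-linear topology (open k-submodules form a basis of neighbourhoods of zero, M a topological
additive group). For closed submodules M₁ ⊆ M₂ there is a short exact sequence 0 → M₂^⊥ → M₁^⊥ →
(M₂/M₁)^* → 0 of plain k-modules, where ⊥ denotes the annihilator in the continuous dual of M and *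
the continuous dual. Stated here as its one non-formal part, surjectivity on the right: every
continuous functional on M₂ (subspace topology) that vanishes on M₁ is the restriction of a
continuous functional on M vanishing on M₁ (continuous functionals on M₂/M₁ being the continuous
functionals on M₂ that kill M₁). -/
theorem result (k : Type u) (M : Type v) [Field k]
    [TopologicalSpace k] [DiscreteTopology k] [AddCommGroup M] [Module k M] [TopologicalSpace M]
    [IsTopologicalAddGroup M] [IsLinearTopology k M] [T2Space M]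
    (M₁ M₂ : Submodule k M) (h₁₂ : M₁ ≤ M₂) (hM₁ : IsClosed (M₁ : Set M))
    (hM₂ : IsClosed (M₂ : Set M)) (ψ : M₂ →L[k] k)
    (hψ : ∀ m : M₂, (m : M) ∈ M₁ → ψ m = 0) :
    ∃ φ : M →L[k] k, (∀ m ∈ M₁, φ m = 0) ∧ ∀ m : M₂, φ (m : M) = ψ m := by
  have hker : IsOpen {m : M₂ | ψ m = 0} := (isOpen_discrete ({0} : Set k)).preimage ψ.continuous
  obtain ⟨V, hV, hVeq⟩ := isOpen_induced_iff.mp hker
  have h0 : (0 : M) ∈ V := by
    have : (0 : M₂) ∈ Subtype.val ⁻¹' V := hVeq ▸ (map_zero ψ)
    exact this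
  obtain ⟨U, hU, hUV⟩ := (IsLinearTopology.hasBasis_open_submodule k (M := M)).mem_iff.mp
    (hV.mem_nhds h0)
  let f : M₂ →ₗ[k] M ⧸ U := U.mkQ ∘ₗ M₂.subtype
  have hf : LinearMap.ker f ≤ LinearMap.ker ψ.toLinearMap := fun m hm ↦ by
    have h1 : (m : M) ∈ U := (Submodule.Quotient.mk_eq_zero U).mp hm
    exact (Set.ext_iff.mp hVeq m).mp (hUV h1)
  obtain ⟨g, hg⟩ := LinearMap.exists_leftInverse_of_injective ((LinearMap.ker f).liftQ f le_rfl)
    (LinearMap.ker_eq_bot.mpr (by
      rw [← LinearMap.ker_eq_bot]; exact Submodule.ker_liftQ_eq_bot _ _ _ le_rfl))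
  let φ : M →ₗ[k] k := ((LinearMap.ker f).liftQ ψ.toLinearMap hf) ∘ₗ g ∘ₗ U.mkQ
  have hφ : ∀ m : M₂, φ (m : M) = ψ m := fun m ↦ by
    have h1 := LinearMap.congr_fun hg (Submodule.Quotient.mk m)
    show (LinearMap.ker f).liftQ ψ.toLinearMap hf (g (f m)) = ψ m
    rw [show f m = (LinearMap.ker f).liftQ f le_rfl (Submodule.Quotient.mk m) from rfl]
    rw [LinearMap.comp_apply] at h1
    rw [h1]
    rfl
  refine ⟨⟨φ, ?_⟩, fun m hm ↦ (hφ ⟨m, h₁₂ hm⟩).trans (hψ _ hm), hφ⟩
  refine continuous_discrete_rng.mpr fun c ↦ isOpen_iff_mem_nhds.mpr fun a ha ↦ ?_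
  have h1 : (fun y ↦ y - a) ⁻¹' (U : Set M) ∈ nhds a :=
    (continuous_id.sub continuous_const).continuousAt.preimage_mem_nhds
      (by simpa using hU.mem_nhds U.zero_mem)
  refine Filter.mem_of_superset h1 fun y hy ↦ ?_
  have h2 : φ (y - a) = 0 := by
    show (LinearMap.ker f).liftQ ψ.toLinearMap hf (g (U.mkQ (y - a))) = 0
    rw [show U.mkQ (y - a) = 0 from (Submodule.Quotient.mk_eq_zero U).mpr hy, map_zero, map_zero]
  rw [map_sub, sub_eq_zero] at h2
  exact h2.trans ha

end Groth.Agent.S18615
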