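import Groth.Statements.S18616
import Groth.Agent.Lib.DeRhamAlg.Homotopy
import Mathlib.LinearAlgebra.ExteriorPower.Basis
import Mathlib.LinearAlgebra.StdBasis
import Mathlib.RingTheory.MvPowerSeries.Derivative

set_option autoImplicit false
universe u
open DeRham

namespace Groth.Agent.S18616

open Groth.Agent.Lib.DeRhamAlg.Homotopy


open exteriorPower in
/-- The formal Poincaré lemma. The published statement is that for a complete separated linearly
topologized commutative algebra K over a field k of characteristic zero the inclusion of the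
separated de Rham complex of K into that of K[[t_1, ..., t_n]] is a quasi-isomorphism; this row is
the case K = k in positive degrees. Concretely: k is a field of characteristic 0, σ is finite, A =
k[[σ]]; the separated differentials are modelled by the free A-module of functions σ → A (the
coordinate dt_i being the i-th basis vector) with the derivation δ whose components are the formal
partial derivatives, so that δ(A) generates it; d is any family of k-linear maps between consecutive
exterior powers of this module over A satisfying the de Rham rule with d ∘ d = 0. Then for every p ≥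
1 the closed p-forms are exact. (Degree zero, that a power series with all partial derivatives zero
is constant, is omitted.) -/
theorem result (k : Type u) [Field k] [CharZero k]
    (σ : Type u) [Finite σ]
    (δ : Derivation k (MvPowerSeries σ k) (σ → MvPowerSeries σ k))
    (hδ : ∀ (f : MvPowerSeries σ k) (i : σ), δ f i = MvPowerSeries.pderiv k i f)
    (hgen : Submodule.span (MvPowerSeries σ k) (Set.range δ) = ⊤)
    (d : ∀ p : ℕ, ↥(⋀[MvPowerSeries σ k]^p (σ → MvPowerSeries σ k)) →ₗ[k]
      ↥(⋀[MvPowerSeries σ k]^(p + 1) (σ → MvPowerSeries σ k)))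
    (hd : DeRham.IsDiff δ d) (p : ℕ) :
    DeRham.cocycles d (p + 1) ≤ DeRham.coboundaries d (p + 1) := by
  classical
  haveI : Fintype σ := Fintype.ofFinite σ
  letI : LinearOrder σ := LinearOrder.lift' (Fintype.equivFin σ) (Fintype.equivFin σ).injective
  set A := MvPowerSeries σ k
  let φ : (σ → A) →ₗ[A] A := ∑ i, (MvPowerSeries.X i : A) • LinearMap.proj i
  have hφδ : ∀ (f : A) (m : σ →₀ ℕ), MvPowerSeries.coeff m (φ (δ f)) =
      ((∑ i, m i : ℕ) : k) * MvPowerSeries.coeff m f := by
    intro f m
    simp only [φ, LinearMap.sum_apply, LinearMap.smul_apply, LinearMap.proj_apply, hδ, smul_eq_mul,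
      map_sum, Nat.cast_sum, Finset.sum_mul]
    refine Finset.sum_congr rfl fun i _ => ?_
    rw [MvPowerSeries.X, MvPowerSeries.coeff_monomial_mul]
    split_ifs with h
    · rw [one_mul, MvPowerSeries.coeff_pderiv, tsub_add_cancel_of_le h, mul_comm,
        Finsupp.tsub_apply, Finsupp.single_eq_same]
      have hi : 1 ≤ m i := by simpa using h i
      rw [Nat.cast_sub hi]; simp
    · have hi : m i = 0 := by
        by_contra hne
        apply h
        intro j
        rw [Finsupp.single_apply]
        split_ifs with hij
        · subst hij; omega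
        · simp
      simp [hi]
  have hX : ∀ i, δ (MvPowerSeries.X i) = Pi.single i (1 : A) := by
    intro i
    funext j
    rw [hδ, MvPowerSeries.pderiv_X]
    simp [Pi.single_apply, eq_comm]
  have hXe : ∀ i, φ (δ (MvPowerSeries.X i)) = MvPowerSeries.X i := by
    intro i
    simp [φ, hX, Pi.single_apply, Finset.sum_apply]
  let B : ∀ q, Module.Basis (Set.powersetCard σ (q + 1)) A ↥(⋀[A]^(q + 1) (σ → A)) :=
    fun q => (Pi.basisFun A σ).exteriorPower (q + 1)
  let L := fun q => lie d φ q
  -- the action on a coordinate
  let T : ∀ _q : ℕ, A → A := fun q f => φ (δ f) + ((q : A) + 1) * f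
  have hT : ∀ (q : ℕ) (f : A) (m : σ →₀ ℕ), MvPowerSeries.coeff m (T q f) =
      (((∑ i, m i) + (q + 1) : ℕ) : k) * MvPowerSeries.coeff m f := by
    intro q f m
    simp only [T, map_add, hφδ]
    rw [show ((q : A) + 1) = MvPowerSeries.C ((q : k) + 1) by simp, MvPowerSeries.coeff_C_mul]
    push_cast; ring
  have hne : ∀ (q : ℕ) (m : σ →₀ ℕ), (((∑ i, m i) + (q + 1) : ℕ) : k) ≠ 0 := fun q m => by
    simp only [ne_eq, Nat.cast_eq_zero]; omega
  have hLB : ∀ q (f : A) s, L q (f • B q s) = T q f • B q s := by
    intro q f s
    have e : B q s = DeRham.gen δ (q + 1) 1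
        (fun j => MvPowerSeries.X (Set.powersetCard.ofFinEmbEquiv.symm s j)) := by
      rw [Groth.Agent.Lib.DeRhamAlg.Basic.gen_one]
      simp only [B, exteriorPower.basis_apply, hX]
      apply Subtype.ext
      simp [exteriorPower.ιMulti_family_apply_coe, exteriorPower.ιMulti_apply_coe,
        ExteriorAlgebra.ιMulti_family, Function.comp_def]
      rfl
    simp only [L, e]
    rw [lie_smul φ hd.1 hgen, lie_gen_one φ hd.1 hgen q _ (fun i => hXe _), smul_smul, ← add_smul]
    simp only [T]
    rw [mul_comm f]
  have hLsum : ∀ q (c : Set.powersetCard σ (q + 1) → A),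
      L q (∑ s, c s • B q s) = ∑ s, T q (c s) • B q s := fun q c => by
    rw [map_sum]; exact Finset.sum_congr rfl fun s _ => hLB q (c s) s
  have hinj : ∀ q z, L q z = 0 → z = 0 := by
    intro q z hz
    rw [← (B q).sum_repr z, hLsum] at hz
    have h0 := Fintype.linearIndependent_iff.mp (B q).linearIndependent _ hz
    rw [← (B q).sum_repr z]
    refine Finset.sum_eq_zero fun s _ => ?_
    have : (B q).repr z s = 0 := by
      ext m
      have := congrArg (MvPowerSeries.coeff m) (h0 s)
      rw [hT, map_zero] at this
      simpa [hne q m] using (mul_eq_zero.mp this).resolve_left (hne q m)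
    rw [this, zero_smul]
  have hsurj : ∀ q z, ∃ w, L q w = z := by
    intro q z
    refine ⟨∑ s, (show A from fun m => (((∑ i, m i) + (q + 1) : ℕ) : k)⁻¹ *
      MvPowerSeries.coeff m ((B q).repr z s)) • B q s, ?_⟩
    rw [hLsum]
    conv_rhs => rw [← (B q).sum_repr z]
    refine Finset.sum_congr rfl fun s _ => ?_
    congr 1
    ext m
    rw [hT]
    exact mul_inv_cancel_left₀ (hne q m) _
  intro y hy
  obtain ⟨w, rfl⟩ := hsurj p y
  have hdw : d (p + 1) w = 0 := by
    apply hinj
    rw [← d_lie φ hd]
    exact hy
  show L p w ∈ LinearMap.range (d p)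
  refine ⟨contract φ p w, ?_⟩
  simp [L, lie_apply, hdw]

end Groth.Agent.S18616
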