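import Groth.Statements.S1862
import Groth.Agent.Lib.Cyc.Residue
import Mathlib.AlgebraicGeometry.FunctionField

set_option autoImplicit false
universe u
open CategoryTheory AlgebraicGeometry
open Cyc

namespace Groth.Agent.S1862

/-- Let f : X → Y be a morphism locally of finite type of integral schemes with δX(η_X) = δY(η_Y). Then
either the image of f is not dense, or f maps the generic point to the generic point and the induced
extension of residue fields there (the function fields) is finite. Here a pair (X, δ) with
Cyc.IsSetup plays the role of a scheme locally of finite type over a fixed base with a dimension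
function (X locally Noetherian with universally catenary local rings, δ a dimension function), and
Cyc.DeltaCompat records that the dimension function upstairs is the induced one. -/
theorem result (X Y : Scheme.{u}) [IsIntegral X] [IsIntegral Y] (δX : X → ℤ) (δY : Y → ℤ) (hX : Cyc.IsSetup X δX) (hY : Cyc.IsSetup Y δY) (f : X ⟶ Y) [LocallyOfFiniteType f] (hδ : Cyc.DeltaCompat f δX δY) (heq : δX (genericPoint X) = δY (genericPoint Y)) : ¬ Dense (Set.range f) ∨ (f (genericPoint X) = genericPoint Y ∧ (f.residueFieldMap (genericPoint X)).hom.Finite) := by
  by_cases hd : Dense (Set.range f)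
  swap
  · exact Or.inl hd
  refine Or.inr ?_
  have he : f (genericPoint X) = genericPoint Y := by
    have h1 : Set.range f ⊆ closure {f (genericPoint X)} := by
      rintro _ ⟨x, rfl⟩
      exact specializes_iff_mem_closure.mp ((genericPoint_specializes x).map f.continuous)
    have h2 : genericPoint Y ∈ closure ({f (genericPoint X)} : Set Y) :=
      closure_minimal h1 isClosed_closure (hd (genericPoint Y))
    exact ((genericPoint_specializes (f (genericPoint X))).antisymm
      (specializes_iff_mem_closure.mpr h2)).eq.symm
  refine ⟨he, Groth.Agent.Lib.Cyc.Residue.residueFieldMap_finite_of_trdeg_eq_zero _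
    ((Groth.Agent.Lib.Cyc.Residue.trdegAt_eq_zero_iff_eq hδ _).mpr ?_)⟩
  rw [he, heq]

end Groth.Agent.S1862
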