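import Groth.Statements.S18621
import Groth.Agent.S0844
import Groth.Agent.Lib.PointBlow96.Stein
import Groth.Agent.Lib.ClSub.Cartier
import Groth.Agent.Lib.Ideal.EffCartier
import Groth.Agent.Lib.Curves.Euler
import Groth.Agent.Lib.Curves.GlobalSections
import Groth.Agent.Lib.Modules.ProjFormula
import Groth.Agent.Lib.ProjCoh.Coherent
import Groth.Agent.Lib.ProjSpace.Dim
import Groth.Agent.Lib.CurveBundle.Twist
import Groth.Agent.Lib.Flat55.CurveNormalizationBC
import Groth.Agent.Lib.ProjSpace.Basic

set_option autoImplicit false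
set_option linter.style.haveILetI false
universe u
open VBPn

namespace Groth.Agent.S18621
open CategoryTheory CategoryTheory.Limits AlgebraicGeometry
open Groth.Agent.Lib Groth.Agent.Lib.TensorMod.Basic Opposite TopologicalSpace

theorem mono_tmap_left {X : Scheme.{u}} {N : X.Modules} (hN : PicF.IsInvertible N) {A B : X.Modules} (f : A ⟶ B)
    [Mono f] : Mono (tmap f (𝟙 N)) := by
  haveI : (tensorBy N).IsEquivalence := CurveBundle.Twist.isEquivalence hN
  exact (inferInstance : Mono ((tensorBy N).map f))

/-- An invertible submodule of the structure module. -/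
def Sub1 {X : Scheme.{u}} (E : X.Modules) : Prop :=
  PicF.IsInvertible E ∧ ∃ φ : E ⟶ Coh.structureModule X, Mono φ

theorem sub1_structure (X : Scheme.{u}) : Sub1 (Coh.structureModule X) :=
  ⟨PicLoc.isInvertible_structureModule X, 𝟙 _, inferInstance⟩

theorem sub1_tensor {X : Scheme.{u}} {E F : X.Modules} (hE : Sub1 E) (hF : Sub1 F) :
    Sub1 (CohB1.tensorMod E F) := by
  obtain ⟨hE, φ, hφ⟩ := hE
  obtain ⟨hF, ψ, hψ⟩ := hF
  haveI := mono_tmap_left hF φ
  exact ⟨TensorMod.Invertible.isInvertible_tensorMod hE hF, tmap φ (𝟙 F) ≫ (leftUnit F).hom ≫ ψ, inferInstance⟩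

theorem sub1_tensorPow {X : Scheme.{u}} {E : X.Modules} (hE : Sub1 E) : ∀ n : ℕ, Sub1 (CohB1.tensorPow E n)
  | 0 => sub1_structure X
  | n + 1 => sub1_tensor (sub1_tensorPow hE n) hE

theorem sub1_tensorList {X : Scheme.{u}} : ∀ (l : List X.Modules), (∀ M ∈ l, Sub1 M) → Sub1 (FGA.tensorList l)
  | [], _ => sub1_structure X
  | M :: l, h => sub1_tensor (h M (List.mem_cons_self ..))
      (sub1_tensorList l fun N hN => h N (List.mem_cons_of_mem _ hN))


open CategoryTheory CategoryTheory.Limits AlgebraicGeometry TopologicalSpace in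
/-- Let k be an algebraically closed field of characteristic zero, n ≥ 3, Z = {p_1, …, p_s} distinct
closed points of P^n_k and π : X → P^n_k a blow-up of P^n_k in the ideal of the reduced set Z
(universal property). Write O_X(e₀) = π^*O(1), let e_t be the exceptional divisor over p_t, with
ideal sheaf the inverse image of the ideal of p_t, and for c ∈ ℤ and integers d_t ≥ 0 put O_X(c e₀ −
Σ d_t e_t) = π^*O(c) ⊗ ⨂_t (ideal of e_t)^{⊗ d_t}. If c < 0 then H^0(X, O_X(c e₀ − Σ d_t e_t)) = 0.
(Stated for d_t ≥ 0, the case in which the text identifies these groups with the cohomology of a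
twisted ideal sheaf of a fat point scheme in P^n.) -/
theorem result (k : Type u) [Field k] [IsAlgClosed k] [CharZero k]
    (n : ℕ) (hn : 3 ≤ n) (s : ℕ) (P : Fin s → ↥(CohB1.ProjSpace n k)) (hP : Function.Injective P)
    (hPc : ∀ i, IsClosed ({P i} : Set ↥(CohB1.ProjSpace n k))) (hZ : IsClosed (Set.range P))
    (X : Scheme.{u}) (π : X ⟶ CohB1.ProjSpace n k)
    (hπ : BlowUp.IsBlowUp π (Scheme.IdealSheafData.vanishingIdeal ⟨Set.range P, hZ⟩))
    (c : ℤ) (hc : c < 0) (d : Fin s → ℕ) :
    Subsingleton (Coh.HH X (CohB1.tensorMod ((Scheme.Modules.pullback π).obj (Twist.twistProjSpace n k c))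
        (FGA.multiTwist (fun t : Fin s =>
          ClSub.idealMod ((Scheme.IdealSheafData.vanishingIdeal ⟨{P t}, hPc t⟩).comap π)) d)) 0) := by
  set Z : Closeds ↥(CohB1.ProjSpace n k) := ⟨Set.range P, hZ⟩ with hZdef
  set I := Scheme.IdealSheafData.vanishingIdeal Z with hIdef
  haveI : IsIntegral (CohB1.ProjSpace n k) := ProjSpace.Basic.isIntegral_projSpace n k
  haveI : Smooth (CohB1.ProjSpace.toSpec n k) := ProjSpace.Basic.smooth_toSpec n k
  haveI : IsLocallyNoetherian (CohB1.ProjSpace n k) :=
    LocallyOfFiniteType.isLocallyNoetherian (CohB1.ProjSpace.toSpec n k)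
  -- the generic point is not blown up
  have hη : genericPoint ↥(CohB1.ProjSpace n k) ∉ Set.range P := by
    rintro ⟨t, ht⟩
    have hcl := hPc t
    rw [ht] at hcl
    haveI : Subsingleton ↥(CohB1.ProjSpace n k) := ⟨fun a b =>
      ((genericPoint_specializes a).mem_closed hcl rfl).trans
        ((genericPoint_specializes b).mem_closed hcl rfl).symm⟩
    have hd := ProjSpace.Dim.topologicalKrullDim_projSpace_of_field n k
    have h0 : topologicalKrullDim ↥(CohB1.ProjSpace n k) ≤ 0 :=
      topologicalKrullDim_zero_of_discreteTopology _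
    rw [hd] at h0
    norm_cast at h0
    omega
  have hI : I ≠ ⊥ := fun h => by
    have h1 : (I.support : Set ↥(CohB1.ProjSpace n k)) = Set.univ := by
      rw [h, Scheme.IdealSheafData.support_bot]; rfl
    rw [hIdef, Scheme.IdealSheafData.coe_support_vanishingIdeal] at h1
    exact hη ((Set.eq_univ_iff_forall.1 h1) _)
  obtain ⟨hX, hgen, -⟩ := S2348.result I hI π hπ
  have hst : IsIso (π.stalkMap (genericPoint X)) := Ideal.BlowUp.isIso_stalkMap_off hπ _ fun h => by
    rw [Scheme.IdealSheafData.support_comap] at h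
    change π (genericPoint X) ∈ (I.support : Set ↥(CohB1.ProjSpace n k)) at h
    rw [hIdef, Scheme.IdealSheafData.coe_support_vanishingIdeal, hgen] at h
    exact hη h
  haveI : IsProper π := BlowUpExists.isProper_of_isBlowUp hπ fun U => by
    haveI : IsNoetherianRing Γ(CohB1.ProjSpace n k, U.1) := IsLocallyNoetherian.component_noetherian U
    exact IsNoetherian.noetherian _
  have happ : ∀ U, IsIso (π.app U) := H34.Stein.isIso_app_of_birational π
    (Flat55.CurveNormalizationBC.isNormalScheme_of_smooth (CohB1.ProjSpace.toSpec n k)) hgen hst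
  haveI hunit : IsIso (_root_.ClSub.unitToPush π) := by
    rw [Scheme.Modules.Hom.isIso_iff_isIso_app]
    intro U
    rw [ConcreteCategory.isIso_iff_bijective]
    haveI := happ U
    exact ConcreteCategory.bijective_of_isIso (π.app U)
  -- each exceptional divisor is effective Cartier
  have hcart : ∀ t, BlowUp.IsEffCartierIdeal
      ((Scheme.IdealSheafData.vanishingIdeal ⟨{P t}, hPc t⟩).comap π) := fun t => by
    have hcl : IsClosed (Set.range P \ {P t}) := by
      have : Set.range P \ {P t} = ⋃ x ∈ {x : Fin s | P x ≠ P t}, {P x} := by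
        ext y; constructor
        · rintro ⟨⟨x, rfl⟩, hne⟩; exact Set.mem_biUnion (x := x) (by simpa using hne) rfl
        · simp only [Set.mem_iUnion, Set.mem_singleton_iff, exists_prop, Set.mem_setOf_eq]
          rintro ⟨x, hne, rfl⟩; exact ⟨⟨x, rfl⟩, hne⟩
      rw [this]
      exact (Set.toFinite _).isClosed_biUnion fun x _ => hPc x
    set A : Closeds ↥(CohB1.ProjSpace n k) := ⟨{P t}, hPc t⟩
    set B : Closeds ↥(CohB1.ProjSpace n k) := ⟨Set.range P \ {P t}, hcl⟩
    have hAB : Z = A ⊔ B := by
      apply Closeds.ext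
      show Set.range P = {P t} ∪ (Set.range P \ {P t})
      rw [Set.union_sdiff_self, Set.union_eq_right.2]
      exact Set.singleton_subset_iff.2 ⟨t, rfl⟩
    have htop : Scheme.IdealSheafData.vanishingIdeal A ⊔ Scheme.IdealSheafData.vanishingIdeal B = ⊤ := by
      rw [← Scheme.IdealSheafData.support_eq_bot_iff]
      apply Closeds.ext
      rw [Scheme.IdealSheafData.support_sup, Closeds.coe_inf, Scheme.IdealSheafData.coe_support_vanishingIdeal,
        Scheme.IdealSheafData.coe_support_vanishingIdeal]
      exact Set.inter_sdiff_self _ _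
    have hmul : I = Scheme.IdealSheafData.vanishingIdeal A * Scheme.IdealSheafData.vanishingIdeal B := by
      rw [hIdef, hAB, Scheme.IdealSheafData.vanishingIdeal_sup]
      refine Scheme.IdealSheafData.ext (funext fun U => ?_)
      rw [Scheme.IdealSheafData.ideal_inf, Scheme.IdealSheafData.ideal_mul, Pi.inf_apply, Pi.mul_apply]
      refine (Ideal.mul_eq_inf_of_coprime ?_).symm
      have := congrArg (fun J : (CohB1.ProjSpace n k).IdealSheafData => J.ideal U) htop
      simpa using this
    have h := hπ.1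
    rw [hmul, Ideal.Comap.comap_mul] at h
    exact Ideal.EffCartier.isEffCartier_factor_left h
  obtain ⟨-, φ, hφ⟩ : Sub1 (FGA.multiTwist (fun t : Fin s =>
      ClSub.idealMod ((Scheme.IdealSheafData.vanishingIdeal ⟨{P t}, hPc t⟩).comap π)) d) := by
    refine sub1_tensorList _ fun M hM => ?_
    obtain ⟨t, -, rfl⟩ := List.mem_map.1 hM
    exact sub1_tensorPow ⟨Lib.ClSub.Cartier.isInvertible_idealMod (hcart t), ClSub.idealModι _,
      (inferInstance : Mono (kernel.ι _))⟩ _
  -- sections of the pulled back twist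
  set Q := Twist.twistProjSpace n k c with hQdef
  have hQ : PicF.IsInvertible Q := ProjCoh.Coherent.isInvertible_tw c
  have hE := Modules.DualBasis.hasDBases_of_isFinLocFree (TensorMod.LocFree.of_rank (TensorMod.LocFree.of_isInvertible hQ))
  let e : (Coh.push π).obj ((Scheme.Modules.pullback π).obj Q) ≅ Q :=
    (Coh.push π).mapIso (rightUnit _).symm ≪≫
      ((Modules.ProjFormula.projIso π hE).app (Coh.structureModule X)).symm ≪≫
      tensorIso (Iso.refl Q) (asIso (_root_.ClSub.unitToPush π)).symm ≪≫ rightUnit Q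
  letI : X.Over (Spec (CommRingCat.of k)) := ⟨π ≫ CohB1.ProjSpace.toSpec n k⟩
  haveI hH : Subsingleton (Coh.HH (CohB1.ProjSpace n k) Q 0) := by
    refine Groth.Agent.S0844.result k n c 0 (fun h => ?_) (fun h => ?_)
    · omega
    · omega
  haveI : Subsingleton (Coh.HH (CohB1.ProjSpace n k) ((Coh.push π).obj ((Scheme.Modules.pullback π).obj Q)) 0) := by
    letI : (CohB1.ProjSpace n k).Over (Spec (CommRingCat.of k)) := ⟨CohB1.ProjSpace.toSpec n k⟩
    exact (Curves.LES.isoK k e 0).injective.subsingleton
  haveI : Subsingleton (((Coh.push π).obj ((Scheme.Modules.pullback π).obj Q)).val.obj (op ⊤) : Type u) :=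
    (Curves.GlobalSections.h0Equiv _).symm.injective.subsingleton
  haveI : Subsingleton (((Scheme.Modules.pullback π).obj Q).val.obj (op ⊤) : Type u) := this
  haveI : Subsingleton (Coh.HH X ((Scheme.Modules.pullback π).obj Q) 0) :=
    (Curves.GlobalSections.h0Equiv _).injective.subsingleton
  let ψ := (comm ((Scheme.Modules.pullback π).obj Q) _).hom ≫
    tmap φ (𝟙 ((Scheme.Modules.pullback π).obj Q)) ≫ (leftUnit ((Scheme.Modules.pullback π).obj Q)).hom
  haveI := mono_tmap_left (PicLoc.isInvertible_pullback π hQ) φ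
  haveI : Mono ψ := inferInstance
  exact (Curves.LES.mapK_injective_of_mono k ψ).subsingleton

end Groth.Agent.S18621
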