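import Groth.Statements.S18622
import Groth.Agent.Lib.LerayTop71.Points
import Groth.Agent.Lib.ResDescend36.Family
import Groth.Agent.Lib.VarDim.Fibre
import Groth.Agent.Lib.TensorMod.QCohInv
import Groth.Agent.S0844
import Groth.Agent.S2348
import Groth.Agent.Lib.BlowUpExists.Proper
import Groth.Agent.H34.Stein.NormalBase
import Groth.Agent.Lib.Ideal.BlowUp
import Groth.Agent.Lib.ClSub.Cartier
import Groth.Agent.Lib.Ideal.EffCartier
import Groth.Agent.Lib.Curves.Euler
import Groth.Agent.Lib.Curves.GlobalSections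
import Groth.Agent.Lib.Modules.ProjFormula
import Groth.Agent.Lib.ProjCoh.Coherent
import Groth.Agent.Lib.ProjSpace.Dim
import Groth.Agent.Lib.CurveBundle.Twist
import Groth.Agent.Lib.Flat55.CurveNormalizationBC
import Groth.Agent.Lib.ProjSpace.Basic

set_option autoImplicit false
set_option linter.style.haveILetI false
universe u
open VBPn

namespace Groth.Agent.S18622
open CategoryTheory CategoryTheory.Limits AlgebraicGeometry
open Groth.Agent.Lib Groth.Agent.Lib.TensorMod.Basic Opposite TopologicalSpace
open Groth.Agent.Lib.Modules.StalkModule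

theorem mono_tmap_left {X : Scheme.{u}} {N : X.Modules} (hN : PicF.IsInvertible N) {A B : X.Modules} (f : A ⟶ B)
    [Mono f] : Mono (tmap f (𝟙 N)) := by
  haveI : (tensorBy N).IsEquivalence := CurveBundle.Twist.isEquivalence hN
  exact (inferInstance : Mono ((tensorBy N).map f))

/-- An invertible submodule of the structure module which is everything on the stalks over `V`. -/
def Sub1 {X : Scheme.{u}} (V : Set X) (E : X.Modules) : Prop :=
  PicF.IsInvertible E ∧ ∃ φ : E ⟶ Coh.structureModule X, Mono φ ∧ ∀ x ∈ V, Function.Surjective (stalkMapₗ φ x)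

theorem surjective_hom {X : Scheme.{u}} {A B : X.Modules} (e : A ⟶ B) [Epi e] (x : X) :
    Function.Surjective (stalkMapₗ e x) :=
  (Modules.Stalk.epi_iff_stalk_surjective e).1 inferInstance x

theorem sub1_structure {X : Scheme.{u}} (V : Set X) : Sub1 V (Coh.structureModule X) :=
  ⟨PicLoc.isInvertible_structureModule X, 𝟙 _, inferInstance, fun x _ => surjective_hom _ x⟩

theorem sub1_tensor {X : Scheme.{u}} {V : Set X} {E F : X.Modules} (hE : Sub1 V E) (hF : Sub1 V F) :
    Sub1 V (CohB1.tensorMod E F) := by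
  obtain ⟨hE, φ, hφ, hφs⟩ := hE
  obtain ⟨hF, ψ, hψ, hψs⟩ := hF
  haveI := mono_tmap_left hF φ
  exact ⟨TensorMod.Invertible.isInvertible_tensorMod hE hF, tmap φ (𝟙 F) ≫ (leftUnit F).hom ≫ ψ, inferInstance,
    fun x hx => ResDescend36.Family.stalkMapₗ_comp_surjective _ _
      (ResDescend36.Family.surjective_tmap φ F (hφs x hx))
      (ResDescend36.Family.stalkMapₗ_comp_surjective _ _ (surjective_hom _ x) (hψs x hx))⟩

theorem sub1_tensorPow {X : Scheme.{u}} {V : Set X} {E : X.Modules} (hE : Sub1 V E) :
    ∀ n : ℕ, Sub1 V (CohB1.tensorPow E n)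
  | 0 => sub1_structure V
  | n + 1 => sub1_tensor (sub1_tensorPow hE n) hE

theorem sub1_tensorList {X : Scheme.{u}} {V : Set X} : ∀ (l : List X.Modules), (∀ M ∈ l, Sub1 V M) →
    Sub1 V (FGA.tensorList l)
  | [], _ => sub1_structure V
  | M :: l, h => sub1_tensor (h M (List.mem_cons_self ..))
      (sub1_tensorList l fun N hN => h N (List.mem_cons_of_mem _ hN))

open CategoryTheory CategoryTheory.Limits AlgebraicGeometry TopologicalSpace in
/-- Let k be an algebraically closed field of characteristic zero, n ≥ 3, Z = {p_1, …, p_s} distinct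
closed points of P^n_k and π : X → P^n_k a blow-up of P^n_k in the ideal of the reduced set Z
(universal property). Write O_X(e₀) = π^*O(1), let e_t be the exceptional divisor over p_t, with
ideal sheaf the inverse image of the ideal of p_t, and for c ∈ ℤ and integers d_t ≥ 0 put O_X(c e₀ −
Σ d_t e_t) = π^*O(c) ⊗ ⨂_t (ideal of e_t)^{⊗ d_t}. If c ≥ −n then H^n(X, O_X(c e₀ − Σ d_t e_t)) = 0
(stated for d_t ≥ 0). -/
theorem result (k : Type u) [Field k] [IsAlgClosed k] [CharZero k]
    (n : ℕ) (hn : 3 ≤ n) (s : ℕ) (P : Fin s → ↥(CohB1.ProjSpace n k)) (hP : Function.Injective P)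
    (hPc : ∀ i, IsClosed ({P i} : Set ↥(CohB1.ProjSpace n k))) (hZ : IsClosed (Set.range P))
    (X : Scheme.{u}) (π : X ⟶ CohB1.ProjSpace n k)
    (hπ : BlowUp.IsBlowUp π (Scheme.IdealSheafData.vanishingIdeal ⟨Set.range P, hZ⟩))
    (c : ℤ) (hc : -(n : ℤ) ≤ c) (d : Fin s → ℕ) :
    Subsingleton (Coh.HH X (CohB1.tensorMod ((Scheme.Modules.pullback π).obj (Twist.twistProjSpace n k c))
        (FGA.multiTwist (fun t : Fin s =>
          ClSub.idealMod ((Scheme.IdealSheafData.vanishingIdeal ⟨{P t}, hPc t⟩).comap π)) d)) n) := by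
  set Z : Closeds ↥(CohB1.ProjSpace n k) := ⟨Set.range P, hZ⟩ with hZdef
  set I := Scheme.IdealSheafData.vanishingIdeal Z with hIdef
  haveI : IsIntegral (CohB1.ProjSpace n k) := ProjSpace.Basic.isIntegral_projSpace n k
  haveI : Smooth (CohB1.ProjSpace.toSpec n k) := ProjSpace.Basic.smooth_toSpec n k
  haveI : IsLocallyNoetherian (CohB1.ProjSpace n k) :=
    LocallyOfFiniteType.isLocallyNoetherian (CohB1.ProjSpace.toSpec n k)
  -- the generic point is not blown up
  have hη : genericPoint ↥(CohB1.ProjSpace n k) ∉ Set.range P := by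
    rintro ⟨t, ht⟩
    have hcl := hPc t
    rw [ht] at hcl
    haveI : Subsingleton ↥(CohB1.ProjSpace n k) := ⟨fun a b =>
      ((genericPoint_specializes a).mem_closed hcl rfl).trans
        ((genericPoint_specializes b).mem_closed hcl rfl).symm⟩
    have hd := ProjSpace.Dim.topologicalKrullDim_projSpace_of_field n k
    have h0 : topologicalKrullDim ↥(CohB1.ProjSpace n k) ≤ 0 :=
      topologicalKrullDim_zero_of_discreteTopology _
    rw [hd] at h0
    norm_cast at h0
    omega
  have hI : I ≠ ⊥ := fun h => by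
    have h1 : (I.support : Set ↥(CohB1.ProjSpace n k)) = Set.univ := by
      rw [h, Scheme.IdealSheafData.support_bot]; rfl
    rw [hIdef, Scheme.IdealSheafData.coe_support_vanishingIdeal] at h1
    exact hη ((Set.eq_univ_iff_forall.1 h1) _)
  obtain ⟨hX, hgen, -⟩ := S2348.result I hI π hπ
  have hst : IsIso (π.stalkMap (genericPoint X)) := Ideal.BlowUp.isIso_stalkMap_off hπ _ fun h => by
    rw [Scheme.IdealSheafData.support_comap] at h
    change π (genericPoint X) ∈ (I.support : Set ↥(CohB1.ProjSpace n k)) at h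
    rw [hIdef, Scheme.IdealSheafData.coe_support_vanishingIdeal, hgen] at h
    exact hη h
  haveI : IsProper π := BlowUpExists.isProper_of_isBlowUp hπ fun U => by
    haveI : IsNoetherianRing Γ(CohB1.ProjSpace n k, U.1) := IsLocallyNoetherian.component_noetherian U
    exact IsNoetherian.noetherian _
  have happ : ∀ U, IsIso (π.app U) := H34.Stein.isIso_app_of_birational π
    (Flat55.CurveNormalizationBC.isNormalScheme_of_smooth (CohB1.ProjSpace.toSpec n k)) hgen hst
  haveI hunit : IsIso (_root_.ClSub.unitToPush π) := by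
    rw [Scheme.Modules.Hom.isIso_iff_isIso_app]
    intro U
    rw [ConcreteCategory.isIso_iff_bijective]
    haveI := happ U
    exact ConcreteCategory.bijective_of_isIso (π.app U)
  -- each exceptional divisor is effective Cartier
  have hcart : ∀ t, BlowUp.IsEffCartierIdeal
      ((Scheme.IdealSheafData.vanishingIdeal ⟨{P t}, hPc t⟩).comap π) := fun t => by
    have hcl : IsClosed (Set.range P \ {P t}) := by
      have : Set.range P \ {P t} = ⋃ x ∈ {x : Fin s | P x ≠ P t}, {P x} := by
        ext y; constructor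
        · rintro ⟨⟨x, rfl⟩, hne⟩; exact Set.mem_biUnion (x := x) (by simpa using hne) rfl
        · simp only [Set.mem_iUnion, Set.mem_singleton_iff, exists_prop, Set.mem_setOf_eq]
          rintro ⟨x, hne, rfl⟩; exact ⟨⟨x, rfl⟩, hne⟩
      rw [this]
      exact (Set.toFinite _).isClosed_biUnion fun x _ => hPc x
    set A : Closeds ↥(CohB1.ProjSpace n k) := ⟨{P t}, hPc t⟩
    set B : Closeds ↥(CohB1.ProjSpace n k) := ⟨Set.range P \ {P t}, hcl⟩
    have hAB : Z = A ⊔ B := by
      apply Closeds.ext
      show Set.range P = {P t} ∪ (Set.range P \ {P t})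
      rw [Set.union_sdiff_self, Set.union_eq_right.2]
      exact Set.singleton_subset_iff.2 ⟨t, rfl⟩
    have htop : Scheme.IdealSheafData.vanishingIdeal A ⊔ Scheme.IdealSheafData.vanishingIdeal B = ⊤ := by
      rw [← Scheme.IdealSheafData.support_eq_bot_iff]
      apply Closeds.ext
      rw [Scheme.IdealSheafData.support_sup, Closeds.coe_inf, Scheme.IdealSheafData.coe_support_vanishingIdeal,
        Scheme.IdealSheafData.coe_support_vanishingIdeal]
      exact Set.inter_sdiff_self _ _
    have hmul : I = Scheme.IdealSheafData.vanishingIdeal A * Scheme.IdealSheafData.vanishingIdeal B := by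
      rw [hIdef, hAB, Scheme.IdealSheafData.vanishingIdeal_sup]
      refine Scheme.IdealSheafData.ext (funext fun U => ?_)
      rw [Scheme.IdealSheafData.ideal_inf, Scheme.IdealSheafData.ideal_mul, Pi.inf_apply, Pi.mul_apply]
      refine (Ideal.mul_eq_inf_of_coprime ?_).symm
      have := congrArg (fun J : (CohB1.ProjSpace n k).IdealSheafData => J.ideal U) htop
      simpa using this
    have h := hπ.1
    rw [hmul, Ideal.Comap.comap_mul] at h
    exact Ideal.EffCartier.isEffCartier_factor_left h
  let V : Set X := {x | π x ∉ Set.range P}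
  obtain ⟨hT, φ, hφ, hφs⟩ : Sub1 V (FGA.multiTwist (fun t : Fin s =>
      ClSub.idealMod ((Scheme.IdealSheafData.vanishingIdeal ⟨{P t}, hPc t⟩).comap π)) d) := by
    refine sub1_tensorList _ fun M hM => ?_
    obtain ⟨t, -, rfl⟩ := List.mem_map.1 hM
    refine sub1_tensorPow (V := V) ⟨Lib.ClSub.Cartier.isInvertible_idealMod (hcart t), ClSub.idealModι _,
      (inferInstance : Mono (kernel.ι _)), fun x hx =>
        LerayTop71.Points.idealModι_stalk_surjective _ fun h => (show π x ∉ Set.range P from hx) ⟨t, ?_⟩⟩ _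
    rw [Scheme.IdealSheafData.support_comap] at h
    change π x ∈ ((Scheme.IdealSheafData.vanishingIdeal ⟨{P t}, hPc t⟩).support : Set _) at h
    rw [Scheme.IdealSheafData.coe_support_vanishingIdeal] at h
    exact (show π x = P t from h).symm
  -- the pulled back twist
  set Q := Twist.twistProjSpace n k c with hQdef
  have hQ : PicF.IsInvertible Q := ProjCoh.Coherent.isInvertible_tw c
  have hE := Modules.DualBasis.hasDBases_of_isFinLocFree (TensorMod.LocFree.of_rank (TensorMod.LocFree.of_isInvertible hQ))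
  let e : (Coh.push π).obj ((Scheme.Modules.pullback π).obj Q) ≅ Q :=
    (Coh.push π).mapIso (rightUnit _).symm ≪≫
      ((Modules.ProjFormula.projIso π hE).app (Coh.structureModule X)).symm ≪≫
      tensorIso (Iso.refl Q) (asIso (_root_.ClSub.unitToPush π)).symm ≪≫ rightUnit Q
  let ψ := (comm ((Scheme.Modules.pullback π).obj Q) _).hom ≫
    tmap φ (𝟙 ((Scheme.Modules.pullback π).obj Q)) ≫ (leftUnit ((Scheme.Modules.pullback π).obj Q)).hom
  haveI := mono_tmap_left (PicLoc.isInvertible_pullback π hQ) φ
  haveI : Mono ψ := inferInstance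
  have hψ : ∀ x, π x ∈ I.support.compl → Function.Surjective (stalkMapₗ ψ x) := fun x hx => by
    have hxV : x ∈ V := fun h => hx (show π x ∈ (I.support : Set _) by
      rw [hIdef, Scheme.IdealSheafData.coe_support_vanishingIdeal]; exact h)
    exact ResDescend36.Family.stalkMapₗ_comp_surjective _ _ (surjective_hom _ x)
      (ResDescend36.Family.stalkMapₗ_comp_surjective _ _
        (ResDescend36.Family.surjective_tmap φ _ (hφs x hxV)) (surjective_hom _ x))
  have hU : ∀ y, y ∉ Set.range P → y ∈ I.support.compl := fun y hy h => hy <| by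
    change y ∈ (I.support : Set _) at h
    rwa [hIdef, Scheme.IdealSheafData.coe_support_vanishingIdeal] at h
  haveI : IsIso (π ∣_ I.support.compl) := Ideal.BlowUp.isIso_off_center hπ
  haveI := hX
  obtain ⟨m, rfl⟩ : ∃ m, n = m + 2 := ⟨n - 2, by omega⟩
  -- dimensions of the fibres
  have hXdim : topologicalKrullDim X = ((m + 2 : ℕ) : WithBot ℕ∞) := by
    rw [← ProjSpace.Dim.topologicalKrullDim_projSpace_of_field (m + 2) k]
    rw [VarDim.Basic.topologicalKrullDim_irreducibleSpace (π ≫ CohB1.ProjSpace.toSpec (m + 2) k),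
      VarDim.Basic.topologicalKrullDim_irreducibleSpace (CohB1.ProjSpace.toSpec (m + 2) k),
      VarDim.Fibre.pdim_eq_add (π ≫ CohB1.ProjSpace.toSpec (m + 2) k) (CohB1.ProjSpace.toSpec (m + 2) k) π rfl
        (genericPoint X), hgen]
    have hres : Function.Surjective (π.residueFieldMap (genericPoint X)).hom := fun a => by
      haveI := hst
      obtain ⟨b, rfl⟩ := Scheme.residue_surjective _ _ a
      obtain ⟨c, rfl⟩ := (ConcreteCategory.bijective_of_isIso (π.stalkMap (genericPoint X))).2 b
      exact ⟨(Scheme.residue _ _).hom c,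
        congrArg (fun g => g.hom c) (Scheme.residue_residueFieldMap π (genericPoint X))⟩
    have h0 : VarDim.Basic.tdAt π (genericPoint X) = 0 := by
      rw [VarDim.Basic.tdAt, Cyc.Residue.trdegAt_eq_zero_of_finite _
        (RingHom.Finite.of_surjective _ hres), map_zero]
    rw [h0, add_zero]
  have hd : ∀ y, topologicalKrullDim ↥(π.fiber y) ≤ ((m + 1 : ℕ) : WithBot ℕ∞) := fun y => by
    by_cases hy : y ∈ Set.range P
    · rw [FibreDim.Basic.topologicalKrullDim_fiber]
      obtain ⟨t, rfl⟩ := hy
      refine LerayTop71.Points.dim_le_of_ne_univ (m + 1) hXdim.le ((hPc t).preimage π.continuous) fun h => hη ⟨t, ?_⟩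
      have h1 : π (genericPoint X) = P t := (Set.eq_univ_iff_forall.1 h) (genericPoint X)
      rw [← h1, hgen]
    · exact (LerayTop71.Points.dim_fiber_le_zero π _ (hU y hy)).trans (by exact_mod_cast Nat.zero_le _)
  haveI : (CohB1.tensorMod ((Scheme.Modules.pullback π).obj Q) (FGA.multiTwist (fun t : Fin s =>
      ClSub.idealMod ((Scheme.IdealSheafData.vanishingIdeal ⟨{P t}, hPc t⟩).comap π)) d)).IsQuasicoherent :=
    TensorMod.QCohInv.isQCoh_of_isInvertible
      (TensorMod.Invertible.isInvertible_tensorMod (PicLoc.isInvertible_pullback π hQ) hT)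
  refine LerayTop71.Points.subsingleton_HH π (Set.range P) (Set.finite_range P) ?_ _ hU (m + 1) hd _ ?_
  · rintro _ ⟨t, rfl⟩; exact hPc t
  letI : (CohB1.ProjSpace (m + 2) k).Over (Spec (CommRingCat.of k)) := ⟨CohB1.ProjSpace.toSpec (m + 2) k⟩
  refine LerayTop71.Points.subsingleton_HH_push k π ψ (Set.range P) (Set.finite_range P) ?_ _ hU hψ m ?_
  · rintro _ ⟨t, rfl⟩; exact hPc t
  haveI : Subsingleton (Coh.HH (CohB1.ProjSpace (m + 2) k) Q (m + 2)) := by
    refine Groth.Agent.S0844.result k (m + 2) c (m + 2) (fun h => ?_) (fun h => ?_)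
    · omega
    · omega
  exact (Curves.LES.isoK k e (m + 2)).injective.subsingleton

end Groth.Agent.S18622
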