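import Groth.Statements.S18625
import Groth.Agent.Lib.QuadricKer.Hom
import Groth.Agent.Lib.ClProd85.Main

set_option autoImplicit false
universe u
open VBPn

namespace Groth.Agent.S18625

open Groth.Agent Groth.Agent.Lib Groth.Agent.Lib.QuadricKer
set_option linter.style.haveILetI false
set_option maxHeartbeats 1000000

open CategoryTheory CategoryTheory.Limits AlgebraicGeometry TopologicalSpace in
/-- Let k be an algebraically closed field of characteristic zero and X = P¹_k ×_k P¹_k the smooth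
quadric surface, O(a, b) = pr₁^*O(a) ⊗ pr₂^*O(b). Let r ≥ 2 and let f : P → Q₁ ⊞ Q₂ be a
monomorphism of O_X-modules with P ≅ O(−1,−1)^r, Q₁ ≅ O(−1,0)^r and Q₂ ≅ O(0,−1)^r (a 2r × r matrix
of linear forms, the Q₁-block in the coordinates of one factor and the Q₂-block in those of the
other), whose cokernel E is finite locally free of rank r. Assume that the stabiliser of f in
Aut(Q₁) × Aut(Q₂) × Aut(P) is the scalars: whenever automorphisms β₁ of Q₁, β₂ of Q₂ and γ of P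
satisfy γ ≫ f = f ≫ (β₁ ⊕ β₂), there is one c ∈ k with β₁, β₂ and γ all multiplication by c. Then E
is simple: every endomorphism of E is multiplication by a scalar of k. (The published statement
takes f the transpose of a general matrix and obtains a scalar stabiliser for each of the two r × r
blocks separately from a result it quotes; for r ≥ 2 a square matrix of linear forms in two
variables never has scalar stabiliser, so that block-wise property holds for no f, and the printed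
argument needs only the property of f as a whole, which is the hypothesis here.) -/
theorem result (k : Type u) [Field k] [IsAlgClosed k] [CharZero k]
    (r : ℕ) (P₁ Q₁ Q₂ : (pullback (CohB1.ProjSpace.toSpec 1 k) (CohB1.ProjSpace.toSpec 1 k)).Modules)
    (hP₁ : Nonempty (P₁ ≅ ∐ fun _ : Fin r => CohB1.tensorMod
        ((Scheme.Modules.pullback (pullback.fst (CohB1.ProjSpace.toSpec 1 k) (CohB1.ProjSpace.toSpec 1 k))).obj
          (Twist.twistProjSpace 1 k (-1)))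
        ((Scheme.Modules.pullback (pullback.snd (CohB1.ProjSpace.toSpec 1 k) (CohB1.ProjSpace.toSpec 1 k))).obj
          (Twist.twistProjSpace 1 k (-1)))))
    (hQ₁ : Nonempty (Q₁ ≅ ∐ fun _ : Fin r => CohB1.tensorMod
        ((Scheme.Modules.pullback (pullback.fst (CohB1.ProjSpace.toSpec 1 k) (CohB1.ProjSpace.toSpec 1 k))).obj
          (Twist.twistProjSpace 1 k (-1)))
        ((Scheme.Modules.pullback (pullback.snd (CohB1.ProjSpace.toSpec 1 k) (CohB1.ProjSpace.toSpec 1 k))).obj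
          (Twist.twistProjSpace 1 k (0)))))
    (hQ₂ : Nonempty (Q₂ ≅ ∐ fun _ : Fin r => CohB1.tensorMod
        ((Scheme.Modules.pullback (pullback.fst (CohB1.ProjSpace.toSpec 1 k) (CohB1.ProjSpace.toSpec 1 k))).obj
          (Twist.twistProjSpace 1 k (0)))
        ((Scheme.Modules.pullback (pullback.snd (CohB1.ProjSpace.toSpec 1 k) (CohB1.ProjSpace.toSpec 1 k))).obj
          (Twist.twistProjSpace 1 k (-1)))))
    (f : P₁ ⟶ Q₁ ⊞ Q₂) [Mono f] (hE : FlatMod.IsFinLocFreeOfRank r (cokernel f))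
    (hr : 2 ≤ r)
    (hstab : ∀ (β₁ : Q₁ ≅ Q₁) (β₂ : Q₂ ≅ Q₂) (γ : P₁ ≅ P₁), γ.hom ≫ f = f ≫ biprod.map β₁.hom β₂.hom →
      ∃ c : k, (SheafOfModules.toSheaf _).map β₁.hom = Coh.smulAb Q₁ (Coh.toGlobal (pullback.fst (CohB1.ProjSpace.toSpec 1 k) (CohB1.ProjSpace.toSpec 1 k) ≫ CohB1.ProjSpace.toSpec 1 k) c) ∧
        (SheafOfModules.toSheaf _).map β₂.hom = Coh.smulAb Q₂ (Coh.toGlobal (pullback.fst (CohB1.ProjSpace.toSpec 1 k) (CohB1.ProjSpace.toSpec 1 k) ≫ CohB1.ProjSpace.toSpec 1 k) c) ∧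
        (SheafOfModules.toSheaf _).map γ.hom = Coh.smulAb P₁ (Coh.toGlobal (pullback.fst (CohB1.ProjSpace.toSpec 1 k) (CohB1.ProjSpace.toSpec 1 k) ≫ CohB1.ProjSpace.toSpec 1 k) c)) :
    ∀ φ : cokernel f ⟶ cokernel f, ∃ c : k, (SheafOfModules.toSheaf _).map φ =
      Coh.smulAb (cokernel f) (Coh.toGlobal (pullback.fst (CohB1.ProjSpace.toSpec 1 k) (CohB1.ProjSpace.toSpec 1 k) ≫ CohB1.ProjSpace.toSpec 1 k) c) :=  by
  obtain ⟨eP⟩ : Nonempty (P₁ ≅ ∐ fun _ : Fin r => Box.T k (-1) (-1)) := hP₁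
  obtain ⟨e₁⟩ : Nonempty (Q₁ ≅ ∐ fun _ : Fin r => Box.T k (-1) 0) := hQ₁
  obtain ⟨e₂⟩ : Nonempty (Q₂ ≅ ∐ fun _ : Fin r => Box.T k 0 (-1)) := hQ₂
  intro φ
  have hF : ∀ c d : ℤ, PicF.IsInvertible (Box.T k c d) := Box.isInvertible_T k
  have eu : ∀ a b : ℤ, Nonempty (CohB1.tensorMod (Box.T k a b) (Box.T k (-a) (-b)) ≅
      Coh.structureModule (Box.Q k)) := fun a b =>
    ⟨Box.T_T k a b (-a) (-b) ≪≫ eqToIso (by rw [add_neg_cancel, add_neg_cancel]) ≪≫ Box.T00 k⟩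
  have van : ∀ (a b c d : ℤ) (n : ℕ) (M : (Box.Q k).Modules),
      (M ≅ ∐ fun _ : Fin r => Box.T k a b) →
      (∀ p q : ℕ, p + q = n → Line.Van p (a + c) ∨ Line.Van q (b + d)) →
      Subsingleton (Coh.HH (Box.Q k) (CohB1.tensorMod M (Box.T k c d)) n) := fun a b c d n M eM h => by
    haveI := Gen.additive_R (hF c d)
    haveI : Subsingleton (Coh.HH (Box.Q k) ((Gen.R (Box.T k c d)).obj (∐ fun _ : Fin r => Box.T k a b)) n) :=
      Gen.subsingleton_map_sigma k _ _ fun _ => by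
        haveI := Box.subsingleton_T k h
        exact (Curves.LES.isoK k (Box.T_T k a b c d) n).injective.subsingleton
    exact (Curves.LES.isoK k ((Gen.R (Box.T k c d)).mapIso eM) n).injective.subsingleton
  let π := cokernel.π f
  let S := ShortComplex.mk f π (cokernel.condition f)
  have hS : S.ShortExact := { exact := ShortComplex.exact_cokernel f }
  -- the endomorphism lifts
  have hlift : ∀ (a b : ℤ), (∀ p q : ℕ, p + q = 1 → Line.Van p (-1 + -a) ∨ Line.Van q (-1 + -b)) →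
      ∀ g : Box.T k a b ⟶ cokernel f, ∃ g' : Box.T k a b ⟶ Q₁ ⊞ Q₂, g' ≫ π = g := fun a b hv g => by
    obtain ⟨e⟩ := eu a b
    refine Hom.exists_lift k e π (fun z => ?_) g
    have hT := Cyc.CH.shortExact_tensor_right (Cyc.CH.isFlat_of_isInvertible (hF (-a) (-b))) hS
    haveI := van (-1) (-1) (-a) (-b) 1 P₁ eP hv
    have h := ((Curves.LES.exactK₃ k hT 0 1 rfl) z).1 (@Subsingleton.elim _ this _ _)
    obtain ⟨y, hy⟩ := h
    refine ⟨y, ?_⟩
    rw [← hy, ← Gen.R_map]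
    rfl
  choose g₁ hg₁ using fun c => hlift (-1) 0 (fun p q hpq => by unfold Line.Van; omega)
    (Sigma.ι (fun _ : Fin r => Box.T k (-1) 0) c ≫ e₁.inv ≫ biprod.inl ≫ π ≫ φ)
  choose g₂ hg₂ using fun c => hlift 0 (-1) (fun p q hpq => by unfold Line.Van; omega)
    (Sigma.ι (fun _ : Fin r => Box.T k 0 (-1)) c ≫ e₂.inv ≫ biprod.inr ≫ π ≫ φ)
  let β₀ : Q₁ ⊞ Q₂ ⟶ Q₁ ⊞ Q₂ := biprod.desc (e₁.hom ≫ Sigma.desc g₁) (e₂.hom ≫ Sigma.desc g₂)
  have hβ₀ : β₀ ≫ π = π ≫ φ := by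
    refine biprod.hom_ext' _ _ ?_ ?_
    · rw [biprod.inl_desc_assoc, Category.assoc, ← cancel_epi e₁.inv, Iso.inv_hom_id_assoc]
      exact Sigma.hom_ext _ _ fun c => by rw [Sigma.ι_desc_assoc, hg₁]
    · rw [biprod.inr_desc_assoc, Category.assoc, ← cancel_epi e₂.inv, Iso.inv_hom_id_assoc]
      exact Sigma.hom_ext _ _ fun c => by rw [Sigma.ι_desc_assoc, hg₂]
  let β₁ : Q₁ ⟶ Q₁ := biprod.inl ≫ β₀ ≫ biprod.fst
  let β₂ : Q₂ ⟶ Q₂ := biprod.inr ≫ β₀ ≫ biprod.snd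
  have h12 : biprod.inl ≫ β₀ ≫ biprod.snd = 0 := by
    rw [← cancel_epi e₁.inv, comp_zero]
    refine Sigma.hom_ext _ _ fun c => ?_
    rw [comp_zero]
    obtain ⟨e⟩ := eu (-1) 0
    exact Hom.eq_zero k e (van 0 (-1) _ _ 0 Q₂ e₂ fun p q hpq => by unfold Line.Van; omega) _
  have h21 : biprod.inr ≫ β₀ ≫ biprod.fst = 0 := by
    rw [← cancel_epi e₂.inv, comp_zero]
    refine Sigma.hom_ext _ _ fun c => ?_
    rw [comp_zero]
    obtain ⟨e⟩ := eu 0 (-1)
    exact Hom.eq_zero k e (van (-1) 0 _ _ 0 Q₁ e₁ fun p q hpq => by unfold Line.Van; omega) _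
  have hmap : β₀ = biprod.map β₁ β₂ := by
    refine biprod.hom_ext' _ _ (biprod.hom_ext _ _ ?_ ?_) (biprod.hom_ext _ _ ?_ ?_) <;>
      simp [β₁, β₂, Category.assoc, h12, h21]
  obtain ⟨γ, hγ⟩ : ∃ γ : P₁ ⟶ P₁, γ ≫ f = f ≫ β₀ := by
    haveI : Mono S.f := ‹Mono f›
    refine ⟨hS.exact.lift (f ≫ β₀) ?_, hS.exact.lift_f _ _⟩
    show (f ≫ β₀) ≫ π = 0
    rw [Category.assoc, hβ₀, cokernel.condition_assoc, zero_comp]
  -- a generic shift makes all three invertible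
  haveI : IsProper (Box.Q k ↘ Spec (CommRingCat.of k)) := by
    haveI : IsProper (CohB1.ProjSpace.toSpec 1 k) := ProjSpace.Basic.isProper_toSpec 1 k
    exact inferInstanceAs (IsProper (pullback.fst _ _ ≫ CohB1.ProjSpace.toSpec 1 k))
  haveI : AlgebraicGeometry.IsIntegral (Box.Q k) := by
    haveI : IsProper (CohB1.ProjSpace.toSpec 1 k) := ProjSpace.Basic.isProper_toSpec 1 k
    let V : Over (Spec (CommRingCat.of k)) := Over.mk (CohB1.ProjSpace.toSpec 1 k)
    haveI : AlgebraicGeometry.IsIntegral V.left := inferInstanceAs (AlgebraicGeometry.IsIntegral (CohB1.ProjSpace 1 k))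
    haveI : LocallyOfFiniteType V.hom := inferInstanceAs (LocallyOfFiniteType (CohB1.ProjSpace.toSpec 1 k))
    haveI : QuasiCompact V.hom := inferInstanceAs (QuasiCompact (CohB1.ProjSpace.toSpec 1 k))
    exact ClProd85.isIntegral_prod V V
  have hrk : ∀ (a b : ℤ) (M : (Box.Q k).Modules), (M ≅ ∐ fun _ : Fin r => Box.T k a b) →
      FlatMod.IsFinLocFreeOfRank (r * 1) M := fun a b M eM =>
    TensorMod.LocFree.rank_of_iso ((PreservesCoproduct.iso (TensorMod.Basic.tensorBy (Box.T k a b))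
        (fun _ : Fin r => Coh.structureModule (Box.Q k)) ≪≫
        Sigma.mapIso fun _ => TensorMod.Basic.leftUnit (Box.T k a b)) ≪≫ eM.symm)
      (TensorMod.LocFree.rank_tensorMod (TensorMod.LocFree.isFinLocFree_freeMod _ r)
        (TensorMod.LocFree.of_isInvertible (hF a b)))
  letI := CurveBundle.EndAlg.algEnd k P₁
  letI := CurveBundle.EndAlg.algEnd k Q₁
  letI := CurveBundle.EndAlg.algEnd k Q₂
  obtain ⟨s₀, hs₀⟩ := Hom.exists_finite_nonunit k (A := End P₁)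
    (CurveBundle.EndAlg.isIntegral_end k (hrk _ _ P₁ eP) γ)
  obtain ⟨s₁, hs₁⟩ := Hom.exists_finite_nonunit k (A := End Q₁)
    (CurveBundle.EndAlg.isIntegral_end k (hrk _ _ Q₁ e₁) β₁)
  obtain ⟨s₂, hs₂⟩ := Hom.exists_finite_nonunit k (A := End Q₂)
    (CurveBundle.EndAlg.isIntegral_end k (hrk _ _ Q₂ e₂) β₂)
  classical
  obtain ⟨μ, hμ⟩ := Infinite.exists_notMem_finset (s₀ ∪ s₁ ∪ s₂)
  simp only [Finset.mem_union, not_or] at hμ
  let r₀ := CurveBundle.EndAlg.cst (Box.Q k) k μ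
  let sc := fun (M : (Box.Q k).Modules) => CurveBundle.EndAlg.scal M r₀
  haveI : IsIso (γ - sc P₁) := (isUnit_iff_isIso _).1 (hs₀ μ hμ.1.1)
  haveI : IsIso (β₁ - sc Q₁) := (isUnit_iff_isIso _).1 (hs₁ μ hμ.1.2)
  haveI : IsIso (β₂ - sc Q₂) := (isUnit_iff_isIso _).1 (hs₂ μ hμ.2)
  have hscB : ∀ t, CurveBundle.EndAlg.scal (Q₁ ⊞ Q₂) t =
      biprod.map (CurveBundle.EndAlg.scal Q₁ t) (CurveBundle.EndAlg.scal Q₂ t) := fun t =>
    biprod.hom_ext _ _ (by rw [biprod.map_fst, CurveBundle.EndAlg.scal_comm])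
      (by rw [biprod.map_snd, CurveBundle.EndAlg.scal_comm])
  have hcompat : (asIso (γ - sc P₁)).hom ≫ f =
      f ≫ biprod.map (asIso (β₁ - sc Q₁)).hom (asIso (β₂ - sc Q₂)).hom := by
    have h : biprod.map (β₁ - sc Q₁) (β₂ - sc Q₂) = β₀ - sc (Q₁ ⊞ Q₂) := by
      rw [hmap, show sc (Q₁ ⊞ Q₂) = biprod.map (sc Q₁) (sc Q₂) from hscB r₀]
      exact biprod.hom_ext _ _ (by simp) (by simp)
    simp only [asIso_hom]
    rw [h, Preadditive.comp_sub, Preadditive.sub_comp, hγ, CurveBundle.EndAlg.scal_comm]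
  obtain ⟨c, h1, h2, -⟩ := hstab (asIso (β₁ - sc Q₁)) (asIso (β₂ - sc Q₂)) (asIso (γ - sc P₁)) hcompat
  let r₁ := CurveBundle.EndAlg.cst (Box.Q k) k c
  have hb1 : β₁ - sc Q₁ = CurveBundle.EndAlg.scal Q₁ r₁ :=
    (SheafOfModules.toSheaf _).map_injective h1
  have hb2 : β₂ - sc Q₂ = CurveBundle.EndAlg.scal Q₂ r₁ :=
    (SheafOfModules.toSheaf _).map_injective h2
  refine ⟨c + μ, ?_⟩
  have hadd : ∀ M : (Box.Q k).Modules, CurveBundle.EndAlg.scal M (CurveBundle.EndAlg.cst (Box.Q k) k (c + μ)) =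
      CurveBundle.EndAlg.scal M r₁ + sc M := fun M => by
    rw [map_add]; exact map_add (CurveBundle.EndAlg.scalHom M) _ _
  have hφ : φ = CurveBundle.EndAlg.scal (cokernel f) (CurveBundle.EndAlg.cst (Box.Q k) k (c + μ)) := by
    rw [← cancel_epi π, ← hβ₀, ← CurveBundle.EndAlg.scal_comm, hscB, hmap, hadd, hadd,
      sub_eq_iff_eq_add.1 hb1, sub_eq_iff_eq_add.1 hb2]
  rw [hφ]
  rfl

end Groth.Agent.S18625
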