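import Groth.Statements.S18627
import Groth.Agent.Lib.QuadricKer.Box
import Groth.Agent.Lib.QuadricKer.Gen
import Groth.Agent.Lib.QuadricKer.Step

set_option autoImplicit false
universe u
open VBPn

namespace Groth.Agent.S18627

open Groth.Agent Groth.Agent.Lib Groth.Agent.Lib.QuadricKer
set_option linter.style.haveILetI false
set_option maxHeartbeats 1000000

open CategoryTheory CategoryTheory.Limits AlgebraicGeometry TopologicalSpace in
/-- Let k be an algebraically closed field of characteristic zero and X = P¹_k ×_k P¹_k the smooth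
quadric surface, O(a, b) = pr₁^*O(a) ⊗ pr₂^*O(b), polarised by the anticanonical module H = O(2, 2)
(which embeds X in P⁸). Let r ≥ 2 and let m : Q₁ ⊞ Q₂ → P be an epimorphism of O_X-modules with Q₁ ≅
O(1,0)^r, Q₂ ≅ O(0,1)^r and P ≅ O(1,1)^r whose induced map H^0(X, Q₁ ⊞ Q₂) → H^0(X, P) is
surjective, and F = ker m (a vector bundle of rank r). Then H^0(X, F) = 0, H^1(X, F) = 0, H^2(X, F ⊗
O(−2,−2)) = 0, and H^1(X, F ⊗ O(2t, 2t)) = 0 for every t ∈ ℤ. (The published statement says that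
E(H) is an initialized Ulrich bundle for E = F^∨; by Serre duality on X, whose canonical module is
O(−2,−2), its vanishing part, that E has no intermediate cohomology in any twist by H, is equivalent
to the H^1-vanishings stated here, and its statement that E is initialized, H^0(X, E) = 0, to the
H^2-vanishing; the argument establishes the vanishings for F and for E symmetrically; the count
h^0(E(H)) = 8r is not restated.) -/
theorem result (k : Type u) [Field k] [IsAlgClosed k] [CharZero k]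
    (r : ℕ) (hr : 2 ≤ r) (Q₁ Q₂ P₂ : (pullback (CohB1.ProjSpace.toSpec 1 k) (CohB1.ProjSpace.toSpec 1 k)).Modules)
    (hQ₁ : Nonempty (Q₁ ≅ ∐ fun _ : Fin r => CohB1.tensorMod
        ((Scheme.Modules.pullback (pullback.fst (CohB1.ProjSpace.toSpec 1 k) (CohB1.ProjSpace.toSpec 1 k))).obj
          (Twist.twistProjSpace 1 k (1)))
        ((Scheme.Modules.pullback (pullback.snd (CohB1.ProjSpace.toSpec 1 k) (CohB1.ProjSpace.toSpec 1 k))).obj
          (Twist.twistProjSpace 1 k (0)))))
    (hQ₂ : Nonempty (Q₂ ≅ ∐ fun _ : Fin r => CohB1.tensorMod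
        ((Scheme.Modules.pullback (pullback.fst (CohB1.ProjSpace.toSpec 1 k) (CohB1.ProjSpace.toSpec 1 k))).obj
          (Twist.twistProjSpace 1 k (0)))
        ((Scheme.Modules.pullback (pullback.snd (CohB1.ProjSpace.toSpec 1 k) (CohB1.ProjSpace.toSpec 1 k))).obj
          (Twist.twistProjSpace 1 k (1)))))
    (hP₂ : Nonempty (P₂ ≅ ∐ fun _ : Fin r => CohB1.tensorMod
        ((Scheme.Modules.pullback (pullback.fst (CohB1.ProjSpace.toSpec 1 k) (CohB1.ProjSpace.toSpec 1 k))).obj
          (Twist.twistProjSpace 1 k (1)))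
        ((Scheme.Modules.pullback (pullback.snd (CohB1.ProjSpace.toSpec 1 k) (CohB1.ProjSpace.toSpec 1 k))).obj
          (Twist.twistProjSpace 1 k (1)))))
    (m : Q₁ ⊞ Q₂ ⟶ P₂) [Epi m]
    (hm0 : Function.Surjective (Sheaf.H.map ((SheafOfModules.toSheaf _).map m) 0)) :
    Subsingleton (Coh.HH _ (kernel m) 0) ∧ Subsingleton (Coh.HH _ (kernel m) 1) ∧
      Subsingleton (Coh.HH _ (CohB1.tensorMod (kernel m) (CohB1.tensorMod
        ((Scheme.Modules.pullback (pullback.fst (CohB1.ProjSpace.toSpec 1 k) (CohB1.ProjSpace.toSpec 1 k))).obj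
          (Twist.twistProjSpace 1 k (-2)))
        ((Scheme.Modules.pullback (pullback.snd (CohB1.ProjSpace.toSpec 1 k) (CohB1.ProjSpace.toSpec 1 k))).obj
          (Twist.twistProjSpace 1 k (-2))))) 2) ∧
      ∀ t : ℤ, Subsingleton (Coh.HH _ (CohB1.tensorMod (kernel m) (CohB1.tensorMod
        ((Scheme.Modules.pullback (pullback.fst (CohB1.ProjSpace.toSpec 1 k) (CohB1.ProjSpace.toSpec 1 k))).obj
          (Twist.twistProjSpace 1 k (2 * t)))
        ((Scheme.Modules.pullback (pullback.snd (CohB1.ProjSpace.toSpec 1 k) (CohB1.ProjSpace.toSpec 1 k))).obj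
          (Twist.twistProjSpace 1 k (2 * t))))) 1) :=  by
  obtain ⟨e₁⟩ : Nonempty (Q₁ ≅ ∐ fun _ : Fin r => Box.T k 1 0) := hQ₁
  obtain ⟨e₂⟩ : Nonempty (Q₂ ≅ ∐ fun _ : Fin r => Box.T k 0 1) := hQ₂
  obtain ⟨eP⟩ : Nonempty (P₂ ≅ ∐ fun _ : Fin r => Box.T k 1 1) := hP₂
  have hsurj : Function.Surjective (Curves.LES.mapK k m 0) := hm0
  have hF : ∀ c d : ℤ, PicF.IsInvertible (Box.T k c d) := Box.isInvertible_T k
  -- vanishing for the twists of the three bundles
  have vanQ : ∀ (c d : ℤ) (n : ℕ),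
      (∀ p q : ℕ, p + q = n → Line.Van p (1 + c) ∨ Line.Van q (0 + d)) →
      (∀ p q : ℕ, p + q = n → Line.Van p (0 + c) ∨ Line.Van q (1 + d)) →
      Subsingleton (Coh.HH (Box.Q k) ((Gen.R (Box.T k c d)).obj (Q₁ ⊞ Q₂)) n) := by
    intro c d n h h'
    haveI := Gen.additive_R (hF c d)
    refine Gen.subsingleton_map_biprod k _ Q₁ Q₂ ?_ ?_
    · haveI : Subsingleton (Coh.HH (Box.Q k) ((Gen.R (Box.T k c d)).obj (∐ fun _ : Fin r => Box.T k 1 0)) n) :=
        Gen.subsingleton_map_sigma k _ _ fun _ => by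
          haveI := Box.subsingleton_T k h
          exact (Curves.LES.isoK k (Box.T_T k 1 0 c d) n).injective.subsingleton
      exact (Curves.LES.isoK k ((Gen.R (Box.T k c d)).mapIso e₁) n).injective.subsingleton
    · haveI : Subsingleton (Coh.HH (Box.Q k) ((Gen.R (Box.T k c d)).obj (∐ fun _ : Fin r => Box.T k 0 1)) n) :=
        Gen.subsingleton_map_sigma k _ _ fun _ => by
          haveI := Box.subsingleton_T k h'
          exact (Curves.LES.isoK k (Box.T_T k 0 1 c d) n).injective.subsingleton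
      exact (Curves.LES.isoK k ((Gen.R (Box.T k c d)).mapIso e₂) n).injective.subsingleton
  have vanP : ∀ (c d : ℤ) (n : ℕ),
      (∀ p q : ℕ, p + q = n → Line.Van p (1 + c) ∨ Line.Van q (1 + d)) →
      Subsingleton (Coh.HH (Box.Q k) ((Gen.R (Box.T k c d)).obj P₂) n) := by
    intro c d n h
    haveI := Gen.additive_R (hF c d)
    haveI : Subsingleton (Coh.HH (Box.Q k) ((Gen.R (Box.T k c d)).obj (∐ fun _ : Fin r => Box.T k 1 1)) n) :=
      Gen.subsingleton_map_sigma k _ _ fun _ => by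
        haveI := Box.subsingleton_T k h
        exact (Curves.LES.isoK k (Box.T_T k 1 1 c d) n).injective.subsingleton
    exact (Curves.LES.isoK k ((Gen.R (Box.T k c d)).mapIso eP) n).injective.subsingleton
  -- the kernel sequence
  let SK := ShortComplex.mk (kernel.ι m) m (kernel.condition m)
  have hSK : SK.ShortExact := { exact := ShortComplex.exact_kernel m }
  have vanK : ∀ (c d : ℤ) (n : ℕ),
      Subsingleton (Coh.HH (Box.Q k) ((Gen.R (Box.T k c d)).obj (Q₁ ⊞ Q₂)) (n + 1)) →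
      Function.Surjective (Curves.LES.mapK k (TensorMod.Basic.tmap m (𝟙 (Box.T k c d))) n) →
      Subsingleton (Coh.HH (Box.Q k) (CohB1.tensorMod (kernel m) (Box.T k c d)) (n + 1)) := by
    intro c d n hq hs
    have hT := Cyc.CH.shortExact_tensor_right (Cyc.CH.isFlat_of_isInvertible (hF c d)) hSK
    have hgs : Function.Surjective (Curves.LES.mapK k (SK.map (Gen.R (Box.T k c d))).g n) := by
      show Function.Surjective (Curves.LES.mapK k ((Gen.R (Box.T k c d)).map m) n)
      rw [Gen.R_map]; exact hs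
    refine ⟨fun a b => sub_eq_zero.1 ?_⟩
    obtain ⟨z, hz⟩ := (Curves.LES.exactK₁ k hT n (n + 1) rfl (a - b)).1 (@Subsingleton.elim _ hq _ _)
    obtain ⟨y, rfl⟩ := hgs z
    rw [← hz]
    exact ((Curves.LES.exactK₃ k hT n (n + 1) rfl) _).2 ⟨y, rfl⟩
  -- surjectivity for all effective twists
  obtain ⟨S, d₀, hS, hd₀, ⟨eK⟩, h2, h3⟩ := Line.exists_euler k
  obtain ⟨p, s, hps⟩ : ∃ (p : Fin 2 → (S.X₂ ⟶ Coh.structureModule (CohB1.ProjSpace 1 k)))
      (s : Fin 2 → (Coh.structureModule (CohB1.ProjSpace 1 k) ⟶ S.X₂)), ∑ i, p i ≫ s i = 𝟙 S.X₂ := by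
    rw [h2]
    obtain ⟨p₀, hp₀⟩ := Gen.exists_sigma_decomp (X := CohB1.ProjSpace 1 k)
      (fun _ : Fin 2 => Coh.structureModule (CohB1.ProjSpace 1 k))
    exact ⟨p₀, fun i => Sigma.ι (fun _ : Fin 2 => Coh.structureModule (CohB1.ProjSpace 1 k)) i, hp₀⟩
  have h₃ : FlatMod.IsFinLocFree S.X₃ := h3 ▸ TensorMod.LocFree.of_rank
    (TensorMod.LocFree.of_isInvertible (ProjCoh.Coherent.isInvertible_tw 1))
  have hstep : ∀ (π : Box.Q k ⟶ CohB1.ProjSpace 1 k) (a b : ℕ),
      Gen.Surj k m (Box.T k (a : ℤ) (b : ℤ)) →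
      Subsingleton (Coh.HH (Box.Q k) (CohB1.tensorMod (CohB1.tensorMod (Box.T k 1 1) (Box.T k (a : ℤ) (b : ℤ)))
        ((Scheme.Modules.pullback π).obj (ProjCoh.Coherent.tw 1 k d₀))) 1) →
      Gen.Surj k m (CohB1.tensorMod (Box.T k (a : ℤ) (b : ℤ))
        ((Scheme.Modules.pullback π).obj (ProjCoh.Coherent.tw 1 k 1))) := by
    intro π a b hab hvan
    haveI := Gen.additive_R (hF (a : ℤ) (b : ℤ))
    have hflat : FlatMod.IsFlat (CohB1.tensorMod P₂ (Box.T k (a : ℤ) (b : ℤ))) :=
      TensorMod.FPConv.isFlat_of_isFinLocFree (TensorMod.LocFree.isFinLocFree_tensorMod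
        (TensorMod.LocFree.of_iso ((PreservesCoproduct.iso (TensorMod.Basic.tensorBy (Box.T k 1 1))
            (fun _ : Fin r => Coh.structureModule (Box.Q k)) ≪≫
            Sigma.mapIso fun _ => TensorMod.Basic.leftUnit (Box.T k 1 1)) ≪≫ eP.symm)
          (TensorMod.LocFree.isFinLocFree_tensorMod
            (TensorMod.LocFree.of_rank (TensorMod.LocFree.isFinLocFree_freeMod _ r))
            (TensorMod.LocFree.of_rank (TensorMod.LocFree.of_isInvertible (hF 1 1)))))
        (TensorMod.LocFree.of_rank (TensorMod.LocFree.of_isInvertible (hF _ _))))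
    haveI := Gen.additive_R (TensorMod.LocFree.isInvertible_of_rank_one (TensorMod.LocFree.rank_pullback π
      (TensorMod.LocFree.of_isInvertible (ProjCoh.Coherent.isInvertible_tw (n := 1) (R := k) d₀))))
    refine Step.surj_step_pullback m π hS h₃ eK (eqToIso h3) p s hps hflat hab ?_
    let G := Gen.R (Box.T k (a : ℤ) (b : ℤ)) ⋙ Gen.R ((Scheme.Modules.pullback π).obj (ProjCoh.Coherent.tw 1 k d₀))
    haveI : Subsingleton (Coh.HH (Box.Q k) (G.obj (∐ fun _ : Fin r => Box.T k 1 1)) 1) :=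
      Gen.subsingleton_map_sigma k G _ fun _ => hvan
    exact (Curves.LES.isoK k (G.mapIso eP) 1).injective.subsingleton
  have hall : ∀ a b : ℕ, Gen.Surj k m (Box.T k (a : ℤ) (b : ℤ)) := by
    intro a
    induction a with
    | zero =>
      intro b
      induction b with
      | zero => exact Gen.surj_of_iso m (Box.T00 k).symm (Gen.surj_structure m hsurj)
      | succ b ih =>
        have h := hstep (pullback.snd (CohB1.ProjSpace.toSpec 1 k) (CohB1.ProjSpace.toSpec 1 k)) 0 b ih (by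
          haveI : Subsingleton (Coh.HH (Box.Q k) (Box.T k (1 + ((0 : ℕ) : ℤ)) (1 + (b : ℤ) + d₀)) 1) :=
            Box.subsingleton_T k fun p q hpq => by unfold Line.Van; omega
          exact (Curves.LES.isoK k (TensorMod.Basic.tensorIso (Box.T_T k 1 1 _ _) (Iso.refl _) ≪≫
            Box.T_A2 k _ _ d₀) 1).injective.subsingleton)
        exact Gen.surj_of_iso m (Box.T_A2 k _ _ 1 ≪≫ eqToIso (by push_cast; rfl)) h
    | succ a ih =>
      intro b
      have h := hstep (pullback.fst (CohB1.ProjSpace.toSpec 1 k) (CohB1.ProjSpace.toSpec 1 k)) a b (ih b) (by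
        haveI : Subsingleton (Coh.HH (Box.Q k) (Box.T k (1 + (a : ℤ) + d₀) (1 + (b : ℤ))) 1) :=
          Box.subsingleton_T k fun p q hpq => by unfold Line.Van; omega
        exact (Curves.LES.isoK k (TensorMod.Basic.tensorIso (Box.T_T k 1 1 _ _) (Iso.refl _) ≪≫
          Box.T_A1 k _ _ d₀) 1).injective.subsingleton)
      exact Gen.surj_of_iso m (Box.T_A1 k _ _ 1 ≪≫ eqToIso (by push_cast; rfl)) h
  refine ⟨?_, ?_, ?_, fun t => ?_⟩
  · -- `H⁰(K) = 0`
    classical
    let f₁ : (Fin r → Coh.HH (Box.Q k) (Box.T k 1 0) 0) × (Fin r → Coh.HH (Box.Q k) (Box.T k 0 1) 0) →ₗ[k]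
        Coh.HH (Box.Q k) (Q₁ ⊞ Q₂) 0 :=
      LinearMap.coprod
        (∑ i, (Curves.LES.mapK k (Sigma.ι (fun _ : Fin r => Box.T k 1 0) i ≫ e₁.inv ≫ biprod.inl) 0).comp (LinearMap.proj i))
        (∑ i, (Curves.LES.mapK k (Sigma.ι (fun _ : Fin r => Box.T k 0 1) i ≫ e₂.inv ≫ biprod.inr) 0).comp (LinearMap.proj i))
    have hf₁ : Function.Surjective f₁ := by
      intro x
      obtain ⟨y, hy⟩ := ProjCoh.Coherent.sigma_decomp k (Box.T k 1 0) r 0
        (Curves.LES.mapK k (biprod.fst ≫ e₁.hom) 0 x)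
      obtain ⟨z, hz⟩ := ProjCoh.Coherent.sigma_decomp k (Box.T k 0 1) r 0
        (Curves.LES.mapK k (biprod.snd ≫ e₂.hom) 0 x)
      refine ⟨(y, z), ?_⟩
      simp only [f₁, LinearMap.coprod_apply, LinearMap.coe_sum, Finset.sum_apply, LinearMap.comp_apply,
        LinearMap.proj_apply, Gen.mapK_comp_apply]
      rw [← map_sum, ← map_sum, hy, ← map_sum, ← map_sum, hz, ← Gen.mapK_comp_apply,
        ← Gen.mapK_comp_apply, ← Gen.mapK_comp_apply, ← Gen.mapK_comp_apply]
      refine Eq.trans ?_ (LinearMap.congr_fun (Curves.LES.mapK_id k (Q₁ ⊞ Q₂) 0) x)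
      rw [← biprod.total, Curves.Clifford.mapK_add, LinearMap.add_apply]
      simp only [Category.assoc, Iso.hom_inv_id_assoc]
    let f₂ : (Fin r → Coh.HH (Box.Q k) (Box.T k 1 1) 0) →ₗ[k] Coh.HH (Box.Q k) P₂ 0 :=
      ∑ i, (Curves.LES.mapK k (Sigma.ι (fun _ : Fin r => Box.T k 1 1) i ≫ eP.inv) 0).comp (LinearMap.proj i)
    have hf₂ : Function.Injective f₂ := by
      refine (injective_iff_map_eq_zero _).2 fun y hy => funext fun j => ?_
      let π : (∐ fun _ : Fin r => Box.T k 1 1) ⟶ Box.T k 1 1 :=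
        Sigma.desc fun i => if i = j then 𝟙 _ else 0
      have h := congrArg (Curves.LES.mapK k (eP.hom ≫ π) 0) hy
      simp only [f₂, LinearMap.coe_sum, Finset.sum_apply, LinearMap.comp_apply, LinearMap.proj_apply,
        map_sum, map_zero] at h
      rw [Finset.sum_eq_single j] at h
      · rw [← Gen.mapK_comp_apply, Category.assoc, Iso.inv_hom_id_assoc] at h
        simp only [π, Sigma.ι_desc, if_pos, Curves.LES.mapK_id, LinearMap.id_apply] at h
        exact h
      · intro i _ hij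
        rw [← Gen.mapK_comp_apply, Category.assoc, Iso.inv_hom_id_assoc]
        simp only [π, Sigma.ι_desc, if_neg hij]
        exact ProjCoh.Duality.mapK_zero_apply k _ _
      · intro h'; exact absurd (Finset.mem_univ j) h'
    obtain ⟨hA, hA'⟩ := Box.finite_T_zero k 1 0
    obtain ⟨hB, hB'⟩ := Box.finite_T_zero k 0 1
    obtain ⟨hC, hC'⟩ := Box.finite_T_zero k 1 1
    haveI := hA; haveI := hB; haveI := hC
    haveI : Module.Finite k (Coh.HH (Box.Q k) (Q₁ ⊞ Q₂) 0) := Module.Finite.of_surjective f₁ hf₁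
    haveI : Module.Finite k (Coh.HH (Box.Q k) P₂ 0) := Module.Finite.of_surjective _ hsurj
    have l1 := LinearMap.finrank_le_finrank_of_surjective hf₁
    have l2 := LinearMap.finrank_le_finrank_of_injective hf₂
    have l3 : Module.finrank k (Coh.HH (Box.Q k) P₂ 0) ≤ Module.finrank k (Coh.HH (Box.Q k) (Q₁ ⊞ Q₂) 0) :=
      LinearMap.finrank_le_finrank_of_surjective hsurj
    have a1 : Module.finrank k (Coh.HH (Box.Q k) (Box.T k 1 0) 0) = 2 := hA'
    have a2 : Module.finrank k (Coh.HH (Box.Q k) (Box.T k 0 1) 0) = 2 := hB'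
    have a3 : Module.finrank k (Coh.HH (Box.Q k) (Box.T k 1 1) 0) = 4 := hC'
    rw [Module.finrank_prod, Module.finrank_pi_fintype, Module.finrank_pi_fintype] at l1
    rw [Module.finrank_pi_fintype] at l2
    simp only [a1, a2, a3, Finset.sum_const, Finset.card_univ, Fintype.card_fin, smul_eq_mul] at l1 l2
    have hinj := (LinearMap.injective_iff_surjective_of_finrank_eq_finrank
      (show Module.finrank k (Coh.HH (Box.Q k) (Q₁ ⊞ Q₂) 0) = Module.finrank k (Coh.HH (Box.Q k) P₂ 0) by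
        omega)).2 hsurj
    exact ⟨fun a b => Curves.LES.mapK_injective_of_mono k SK.f (hinj (by
      rw [← Gen.mapK_comp_apply, ← Gen.mapK_comp_apply]
      show Curves.LES.mapK k (SK.f ≫ SK.g) 0 a = Curves.LES.mapK k (SK.f ≫ SK.g) 0 b
      rw [SK.zero, ProjCoh.Duality.mapK_zero_apply, ProjCoh.Duality.mapK_zero_apply]))⟩
  · -- `H¹(K) = 0`
    haveI := vanK 0 0 0 (vanQ 0 0 1 (fun p q hpq => by unfold Line.Van; omega)
      (fun p q hpq => by unfold Line.Van; omega)) (hall 0 0)
    exact (Curves.LES.isoK k ((TensorMod.Basic.rightUnit (kernel m)).symm ≪≫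
      TensorMod.Basic.tensorIso (Iso.refl _) (Box.T00 k).symm) 1).injective.subsingleton
  · refine vanK (-2) (-2) 1 (vanQ (-2) (-2) 2 (fun p q hpq => by unfold Line.Van; omega)
      (fun p q hpq => by unfold Line.Van; omega)) fun z => ?_
    haveI := vanP (-2) (-2) 1 (fun p q hpq => by unfold Line.Van; omega)
    exact ⟨0, @Subsingleton.elim _ this _ _⟩
  · refine vanK (2 * t) (2 * t) 0 (vanQ _ _ 1 (fun p q hpq => by unfold Line.Van; omega)
      (fun p q hpq => by unfold Line.Van; omega)) ?_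
    by_cases ht : 0 ≤ t
    · obtain ⟨a, rfl⟩ := Int.eq_ofNat_of_zero_le ht
      have h := hall (2 * a) (2 * a)
      push_cast at h
      exact h
    · intro z
      haveI := vanP (2 * t) (2 * t) 0 (fun p q hpq => by unfold Line.Van; omega)
      exact ⟨0, @Subsingleton.elim _ this _ _⟩

end Groth.Agent.S18627
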