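import Groth.Statements.S18629
import Groth.Agent.Lib.QuadricKer.Span

set_option autoImplicit false
universe u
open VBPn

namespace Groth.Agent.S18629

open Groth.Agent Groth.Agent.Lib Groth.Agent.Lib.QuadricKer
set_option linter.style.haveILetI false
set_option maxHeartbeats 1000000

open CategoryTheory CategoryTheory.Limits AlgebraicGeometry TopologicalSpace in
/-- Let k be an algebraically closed field of characteristic zero and X = P¹_k ×_k P¹_k the smooth
quadric surface, O(a, b) = pr₁^*O(a) ⊗ pr₂^*O(b). For every r ≥ 2 there is an epimorphism of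
O_X-modules m : O(1,0)^r ⊕ O(0,1)^r → O(1,1)^r (an r × 2r matrix of linear forms) whose induced map
on global sections is surjective. (The published statement says moreover that such m form a dense
open subset of the space of all matrices; only the existence is stated here. The published proof
exhibits explicit block matrices; its 3 × 6 block for r = 3 as published is surjective at every
point but not on global sections, while a 3 × 6 block of the same shape with both properties exists,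
so the block-sum construction from the 2 × 4 and 3 × 6 blocks covers every r ≥ 2.) -/
theorem result (k : Type u) [Field k] [IsAlgClosed k] [CharZero k]
    (r : ℕ) (hr : 2 ≤ r) :
    ∃ m : (∐ fun _ : Fin r => CohB1.tensorMod
        ((Scheme.Modules.pullback (pullback.fst (CohB1.ProjSpace.toSpec 1 k) (CohB1.ProjSpace.toSpec 1 k))).obj
          (Twist.twistProjSpace 1 k (1)))
        ((Scheme.Modules.pullback (pullback.snd (CohB1.ProjSpace.toSpec 1 k) (CohB1.ProjSpace.toSpec 1 k))).obj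
          (Twist.twistProjSpace 1 k (0)))) ⊞ (∐ fun _ : Fin r => CohB1.tensorMod
        ((Scheme.Modules.pullback (pullback.fst (CohB1.ProjSpace.toSpec 1 k) (CohB1.ProjSpace.toSpec 1 k))).obj
          (Twist.twistProjSpace 1 k (0)))
        ((Scheme.Modules.pullback (pullback.snd (CohB1.ProjSpace.toSpec 1 k) (CohB1.ProjSpace.toSpec 1 k))).obj
          (Twist.twistProjSpace 1 k (1)))) ⟶ (∐ fun _ : Fin r => CohB1.tensorMod
        ((Scheme.Modules.pullback (pullback.fst (CohB1.ProjSpace.toSpec 1 k) (CohB1.ProjSpace.toSpec 1 k))).obj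
          (Twist.twistProjSpace 1 k (1)))
        ((Scheme.Modules.pullback (pullback.snd (CohB1.ProjSpace.toSpec 1 k) (CohB1.ProjSpace.toSpec 1 k))).obj
          (Twist.twistProjSpace 1 k (1)))),
      Epi m ∧ Function.Surjective (Sheaf.H.map ((SheafOfModules.toSheaf _).map m) 0) :=  by
  obtain ⟨α, β, μA, μB, hcomm, hspan, hzero⟩ := Span.exists_data k
  haveI : NeZero r := ⟨by omega⟩
  let X := Box.Q k
  let O := Coh.structureModule (Box.Q k)
  let e10 : Box.T k 1 0 ≅ Box.A1 k 1 := TensorMod.Basic.tensorIso (Iso.refl _)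
    ((Scheme.Modules.pullback _).mapIso (ProjCoh.Coherent.twZero (n := 1) (R := k)) ≪≫
      PicLoc.pullbackStructureIso _) ≪≫ TensorMod.Basic.rightUnit _
  let e01 : Box.T k 0 1 ≅ Box.A2 k 1 := TensorMod.Basic.tensorIso
    ((Scheme.Modules.pullback _).mapIso (ProjCoh.Coherent.twZero (n := 1) (R := k)) ≪≫
      PicLoc.pullbackStructureIso _) (Iso.refl _) ≪≫ TensorMod.Basic.leftUnit _
  let ι₁ : Fin r → (Box.T k 1 0 ⟶ ∐ fun _ : Fin r => Box.T k 1 0) := fun c => Sigma.ι (fun _ => Box.T k 1 0) c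
  let ι₂ : Fin r → (Box.T k 0 1 ⟶ ∐ fun _ : Fin r => Box.T k 0 1) := fun c => Sigma.ι (fun _ => Box.T k 0 1) c
  let ι : Fin r → (Box.T k 1 1 ⟶ ∐ fun _ : Fin r => Box.T k 1 1) := fun c => Sigma.ι (fun _ => Box.T k 1 1) c
  let mA : (∐ fun _ : Fin r => Box.T k 1 0) ⟶ ∐ fun _ : Fin r => Box.T k 1 1 :=
    Sigma.desc fun c => e10.hom ≫ (μB 0 ≫ ι c + c.val • (μB 1 ≫ ι c))
  let mB : (∐ fun _ : Fin r => Box.T k 0 1) ⟶ ∐ fun _ : Fin r => Box.T k 1 1 :=
    Sigma.desc fun c => e01.hom ≫ (μA 0 ≫ ι c + μA 1 ≫ ι (c + 1))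
  let m := biprod.desc mA mB
  let R : Submodule k (Coh.HH (Box.Q k) (∐ fun _ : Fin r => Box.T k 1 1) 0) :=
    LinearMap.range (Curves.LES.mapK k m 0)
  let E : Fin 2 → Fin 2 → Fin r → Coh.HH (Box.Q k) O 0 → Coh.HH (Box.Q k) (∐ fun _ : Fin r => Box.T k 1 1) 0 :=
    fun i j c l => Curves.LES.mapK k ((α i ≫ μB j) ≫ ι c) 0 l
  have hnsmul : ∀ (n : ℕ) {M N : (Box.Q k).Modules} (f : M ⟶ N) (l : Coh.HH (Box.Q k) M 0),
      Curves.LES.mapK k (n • f) 0 l = (n : k) • Curves.LES.mapK k f 0 l := fun n M N f l => by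
    rw [Nat.cast_smul_eq_nsmul k]
    exact map_nsmul (AddMonoidHom.mk' (fun ψ : M ⟶ N => Curves.LES.mapK k ψ 0 l)
      fun ψ ψ' => LinearMap.congr_fun (Curves.Clifford.mapK_add k ψ ψ' 0) l) n f
  have ha : ∀ i c l, E i 0 c l + ((c.val : ℕ) : k) • E i 1 c l ∈ R := fun i c l => by
    refine ⟨Curves.LES.mapK k (α i ≫ e10.inv ≫ ι₁ c ≫ biprod.inl) 0 l, ?_⟩
    rw [← Gen.mapK_comp_apply]
    have h : (α i ≫ e10.inv ≫ ι₁ c ≫ biprod.inl) ≫ m =
        (α i ≫ μB 0) ≫ ι c + c.val • ((α i ≫ μB 1) ≫ ι c) := by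
      simp only [m, mA, ι₁, Category.assoc, biprod.inl_desc, Sigma.ι_desc, Iso.inv_hom_id_assoc,
        Preadditive.comp_add, Preadditive.comp_nsmul]
    rw [h, Curves.Clifford.mapK_add, LinearMap.add_apply, hnsmul]
  have hb : ∀ j c l, E 0 j c l + E 1 j (c + 1) l ∈ R := fun j c l => by
    refine ⟨Curves.LES.mapK k (β j ≫ e01.inv ≫ ι₂ c ≫ biprod.inr) 0 l, ?_⟩
    rw [← Gen.mapK_comp_apply]
    have h : (β j ≫ e01.inv ≫ ι₂ c ≫ biprod.inr) ≫ m =
        (α 0 ≫ μB j) ≫ ι c + (α 1 ≫ μB j) ≫ ι (c + 1) := by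
      simp only [m, mB, ι₂, Category.assoc, biprod.inr_desc, Sigma.ι_desc, Iso.inv_hom_id_assoc,
        Preadditive.comp_add]
      rw [← Category.assoc (β j), ← hcomm, ← Category.assoc (β j), ← hcomm, Category.assoc, Category.assoc]
    rw [h, Curves.Clifford.mapK_add, LinearMap.add_apply]
  have h11' : ∀ c l, E 1 1 (c + 1) l ∈ R := fun c l => by
    have hne : ((((c + 1 : Fin r)).val : k) - (c.val : k)) ≠ 0 := by
      intro h0
      have h1 : (c + 1 : Fin r) = c := Fin.ext (Nat.cast_injective (R := k) (sub_eq_zero.1 h0))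
      have h2 : (1 : Fin r) = 0 := by simpa using h1
      have h3 := congrArg Fin.val h2
      rw [Fin.val_one', Fin.val_zero, Nat.one_mod_eq_one.mpr (by omega)] at h3
      omega
    have h := R.add_mem (R.sub_mem (R.sub_mem (ha 0 c l) (R.smul_mem (c.val : k) (hb 1 c l))) (hb 0 c l))
      (ha 1 (c + 1) l)
    refine (Submodule.smul_mem_iff R hne).1 ?_
    convert h using 1
    module
  have h11 : ∀ c l, E 1 1 c l ∈ R := fun c l => by simpa using h11' (c - 1) l
  have h01 : ∀ c l, E 0 1 c l ∈ R := fun c l => by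
    simpa using R.sub_mem (hb 1 c l) (h11 (c + 1) l)
  have h10 : ∀ c l, E 1 0 c l ∈ R := fun c l => by
    simpa using R.sub_mem (ha 1 c l) (R.smul_mem (c.val : k) (h11 c l))
  have h00 : ∀ c l, E 0 0 c l ∈ R := fun c l => by
    simpa using R.sub_mem (ha 0 c l) (R.smul_mem (c.val : k) (h01 c l))
  have hall : ∀ i j c l, E i j c l ∈ R := fun i j c l => by
    fin_cases i <;> fin_cases j
    · exact h00 c l
    · exact h01 c l
    · exact h10 c l
    · exact h11 c l
  refine ⟨m, ?_, ?_⟩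
  · refine Preadditive.epi_of_cancel_zero m fun {Z} g hg => Sigma.hom_ext _ _ fun c => ?_
    rw [comp_zero]
    refine hzero Z _ fun i j => Modules.Free.unitHom_ext ?_
    obtain ⟨y, hy⟩ := hall i j c ((Curves.GlobalSections.h0Equiv O).symm (1 : Γ(Box.Q k, ⊤)))
    refine ((Line.mapK_eq_zero_iff k _ _).1 ?_).trans (by rfl)
    show Curves.LES.mapK k ((α i ≫ μB j) ≫ ι c ≫ g) 0 _ = 0
    rw [← Category.assoc _ (ι c), Gen.mapK_comp_apply]
    show Curves.LES.mapK k g 0 (E i j c _) = 0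
    rw [← hy, ← Gen.mapK_comp_apply, hg]
    exact ProjCoh.Duality.mapK_zero_apply k _ _
  · show Function.Surjective (Curves.LES.mapK k m 0)
    intro z
    obtain ⟨p, hp⟩ := Gen.exists_sigma_decomp (X := Box.Q k) (fun _ : Fin r => Box.T k 1 1)
    refine LinearMap.mem_range.1 ?_
    show z ∈ R
    rw [← Gen.exists_decomp k p ι hp 0 z]
    refine R.sum_mem fun c _ => ?_
    obtain ⟨w, hw⟩ := hspan (Curves.LES.mapK k (p c) 0 z)
    rw [hw, map_sum]
    refine R.sum_mem fun j _ => ?_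
    rw [map_sum]
    refine R.sum_mem fun i _ => ?_
    rw [← Gen.mapK_comp_apply]
    exact hall i j c _

end Groth.Agent.S18629
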