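import Groth.Statements.S18631
import Groth.Agent.Lib.ShStab.SurfExt
import Groth.Agent.Lib.QuadricKer.Hom
import Groth.Agent.Lib.PnOmega.Euler
import Groth.Agent.Lib.ProjCoh.Coherent
import Groth.Agent.Lib.ClSub.Quot
import Groth.Agent.Lib.TensorMod.Pullback
import Groth.Agent.Lib.TensorMod.Integral
import Groth.Agent.Lib.PicProjOver.Basic

set_option autoImplicit false
universe u
open VBPn

namespace Groth.Agent.S18631

open CategoryTheory CategoryTheory.Limits AlgebraicGeometry
open Groth.Agent.Lib Groth.Agent.Lib.ShStab SubLattice Interval PolyOrder SurfExt StabCat Polynomial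
open Groth.Agent.Lib.TensorMod.Basic

theorem coeff_comp_two {P : ℚ[X]} (hP : P.natDegree ≤ 2) (c : ℚ) :
    alpha 2 (P.comp (Polynomial.X + C c)) = alpha 2 P ∧
      alpha 1 (P.comp (Polynomial.X + C c)) = alpha 1 P + c * alpha 2 P := by
  have e : P = C (P.coeff 0) + C (P.coeff 1) * Polynomial.X + C (P.coeff 2) * Polynomial.X ^ 2 := by
    ext i
    match i with
    | 0 => simp
    | 1 => simp
    | 2 => simp
    | i + 3 =>
      rw [coeff_eq_zero_of_natDegree_lt (by omega)]
      simp [coeff_X]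
  have e2 : P.comp (Polynomial.X + C c) =
      C (P.coeff 0 + P.coeff 1 * c + P.coeff 2 * c ^ 2) +
        C (P.coeff 1 + 2 * c * P.coeff 2) * Polynomial.X + C (P.coeff 2) * Polynomial.X ^ 2 := by
    conv_lhs => rw [e]
    simp only [add_comp, mul_comp, pow_comp, C_comp, X_comp, map_add, map_mul, map_pow]
    rw [show (C (2 : ℚ)) = (2 : ℚ[X]) from map_ofNat C 2]
    ring
  rw [e2]
  constructor <;>
    simp only [alpha, coeff_add, coeff_C_mul, coeff_C, coeff_X_pow, coeff_X] <;> norm_num <;> ring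

section Twists
variable {k : Type u} [Field k] {X : Scheme.{u}} (ι : X ⟶ CohB1.ProjSpace 3 k)

/-- Pullback of `O(n)`. -/
noncomputable abbrev Mt (n : ℤ) : X.Modules :=
  (Scheme.Modules.pullback ι).obj (Twist.twistProjSpace 3 k n)

theorem mt_inv (n : ℤ) : PicF.IsInvertible (Mt ι n) :=
  PicLoc.isInvertible_pullback ι (PicProjOver.isInvertible_twistProjSpace 3 k n)

theorem mt_zero : Nonempty (Mt ι 0 ≅ Coh.structureModule X) :=
  ⟨(Scheme.Modules.pullback ι).mapIso ProjCoh.Coherent.twZero ≪≫ PicLoc.pullbackStructureIso ι⟩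

theorem mt_add (a b c : ℤ) (h : a + b = c) : Nonempty (CohB1.tensorMod (Mt ι a) (Mt ι b) ≅ Mt ι c) := by
  subst h
  exact ⟨(TensorMod.Pullback.pullbackTensorIso ι _ _).symm ≪≫
    (Scheme.Modules.pullback ι).mapIso (ProjCoh.Coherent.twTensor (n := 3) (R := k) a b)⟩

theorem mt_pow : ∀ i : ℕ, Nonempty (CohB1.tensorPow (Mt ι 1) i ≅ Mt ι i)
  | 0 => ⟨(mt_zero ι).some.symm⟩
  | i + 1 => by
    obtain ⟨e⟩ := mt_pow i
    obtain ⟨e'⟩ := mt_add ι (i : ℤ) 1 ((i + 1 : ℕ) : ℤ) (by push_cast; rfl)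
    exact ⟨tensorIso e (Iso.refl _) ≪≫ e'⟩

theorem exists_section [IsIntegral X] :
    ∃ s : Coh.structureModule X ⟶ Mt ι 1, s ≠ 0 := by
  by_contra h
  push_neg at h
  obtain ⟨v, hv, -⟩ := PnOmega.exists_euler 3 k
  haveI := hv
  let adj := Scheme.Modules.pullbackPushforwardAdjunction ι
  have h0 : adj.unit.app (Twist.twistProjSpace 3 k 1) = 0 := by
    rw [← cancel_epi (Modules.Free.freeHom v), Limits.comp_zero]
    refine Sigma.hom_ext _ _ fun i => ?_
    rw [Modules.Free.freeHom, Sigma.ι_desc_assoc, Limits.comp_zero]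
    refine (adj.homEquiv _ _).symm.injective ?_
    rw [← cancel_epi (PicLoc.pullbackStructureIso ι).inv]
    exact (h _).trans (h _).symm
  have h1 : 𝟙 (Mt ι 1) = 0 := by
    refine (adj.homEquiv _ _).injective ?_
    rw [Adjunction.homEquiv_unit, Adjunction.homEquiv_unit, h0, Limits.zero_comp, Limits.zero_comp]
  have hz : IsZero (Mt ι 1) := (IsZero.iff_id_eq_zero _).2 h1
  have hs := (Modules.Stalk.isZero_iff_stalk_subsingleton).mp hz (genericPoint X)
  have hr := CurveBundle.Rank.grank_eq_of_rank (TensorMod.LocFree.of_isInvertible (mt_inv ι 1))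
  rw [CurveBundle.Rank.grank] at hr
  exact one_ne_zero (hr.symm.trans (@Module.finrank_zero_of_subsingleton _ _ _ _ _ _ hs))

end Twists

/-- A nonzero map of invertible modules does not kill maps into torsion-free modules. -/
theorem eq_zero_of_comp {X : Scheme.{u}} [IsIntegral X] {A B Q : X.Modules} (hA : PicF.IsInvertible A)
    (hB : PicF.IsInvertible B) (hQ : Coh.IsCoh Q) (hQt : TorSh.IsTorsionFree Q) {u : A ⟶ B}
    (hu : u ≠ 0) {φ : B ⟶ Q} (h : u ≫ φ = 0) : φ = 0 := by
  haveI := hQ.1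
  have hrB := TensorMod.LocFree.of_isInvertible hB
  have hBc := CurveBundle.Coherent.isCoh (TensorMod.LocFree.of_rank hrB)
  haveI := hBc.1
  have hne : Modules.StalkModule.stalkMapₗ u (genericPoint X) ≠ 0 := fun h' =>
    hu (CurveBundle.Rank.eq_zero_of_generic (CurveBundle.Coherent.isTorsionFree (TensorMod.LocFree.of_rank hrB)) u h')
  let _ : Field (X.presheaf.stalk (genericPoint X)) := inferInstanceAs (Field X.functionField)
  obtain ⟨x, hx⟩ : ∃ x, Modules.StalkModule.stalkMapₗ u (genericPoint X) x ≠ 0 := by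
    by_contra hc
    push_neg at hc
    exact hne (LinearMap.ext hc)
  refine CurveBundle.Rank.eq_zero_of_generic hQt φ (LinearMap.ext fun y => ?_)
  obtain ⟨c, rfl⟩ := exists_smul_eq_of_finrank_eq_one
    (show Module.finrank (X.presheaf.stalk (genericPoint X)) (B.presheaf.stalk (genericPoint X)) = 1 from
      CurveBundle.Rank.grank_eq_of_rank hrB) hx y
  rw [map_smul, ← LinearMap.comp_apply, ← Modules.StalkModule.stalkMapₗ_comp, h]
  erw [Modules.StalkModule.stalkMapₗ_zero]
  simp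

theorem isMuStable_aux (k : Type u) [Field k] [IsAlgClosed k]
    (X : Scheme.{u}) [X.Over (Spec (CommRingCat.of k))] [AlgebraicGeometry.IsIntegral X]
    [IsProper (X ↘ (Spec (CommRingCat.of k)))] [Smooth (X ↘ (Spec (CommRingCat.of k)))]
    [AlgebraicGeometry.IsNoetherian X] [JacobsonSpace X]
    (hdim : topologicalKrullDim X = 2)
    (ι : X ⟶ CohB1.ProjSpace 3 k) (hL : CohB1.IsAmple (Mt ι 1))
    (d : ℕ) (hd : 4 ≤ d)
    (hPic : ∀ M : X.Modules, PicF.IsInvertible M → ∃ n : ℤ, Nonempty (M ≅ Mt ι n))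
    (Z : X.IdealSheafData) (hZfin : (Z.support : Set X).Finite)
    (hZ : Subsingleton (Coh.HH X (CohB1.tensorMod (ClSub.idealMod Z) (Mt ι ((d : ℤ) - 2))) 0))
    (S : ShortComplex X.Modules) (hS : S.ShortExact) (e1 : S.X₁ ≅ Coh.structureModule X)
    (e3 : S.X₃ ≅ CohB1.tensorMod (ClSub.idealMod Z) (Mt ι ((d : ℤ) - 1)))
    (hE : FlatMod.IsFinLocFreeOfRank 2 S.X₂) :
    ShStab.IsMuStable k X (Mt ι 1) S.X₂ 2 := by
  have hreg := fun x => Cyc.SmoothReg.isRegularLocalRing_stalk (X ↘ Spec (CommRingCat.of k)) x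
  have hnorm := RefHull.ExtHull.isNormal hreg
  have hV := CurveBundle.Coherent.isCoh (TensorMod.LocFree.of_rank hE)
  have hVtf := CurveBundle.Coherent.isTorsionFree (TensorMod.LocFree.of_rank hE)
  have hOi : PicF.IsInvertible (Coh.structureModule X) := PicLoc.isInvertible_structureModule X
  have hOc : Coh.IsCoh (Coh.structureModule X) := RefHull.Reflexive.isCoh_structure
  have hMc : ∀ n, Coh.IsCoh (Mt ι n) := fun n => Ample.GG.isCoh_of_isInvertible (mt_inv ι n)
  have hVp := MuBasics.isPure_of_isTorsionFree hVtf 2 hdim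
  have hOp := isPure_of_isInvertible hdim hOi
  have hO0 : ¬ IsZero (Coh.structureModule X) := fun hz => by
    have h := (Modules.Stalk.isZero_iff_stalk_subsingleton).mp hz (genericPoint X)
    have hr := CurveBundle.Rank.grank_eq_of_rank (TensorMod.LocFree.of_isInvertible hOi)
    rw [CurveBundle.Rank.grank] at hr
    exact one_ne_zero (hr.symm.trans (@Module.finrank_zero_of_subsingleton _ _ _ _ _ _ h))
  set A := alpha 2 (hp k (Mt ι 1) (Coh.structureModule X)) with hA
  set B := alpha 1 (hp k (Mt ι 1) (Coh.structureModule X)) with hB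
  have hApos : 0 < A := Basics.alpha_pos_of_pure (k := k) hL hOp (𝟙 _) hOc hO0
  have twists : ∀ (G : X.Modules), Coh.IsCoh G → ∀ (j : ℕ),
      alpha 2 (hp k (Mt ι 1) (CohB1.tensorMod G (CohB1.tensorPow (Mt ι 1) j))) = alpha 2 (hp k (Mt ι 1) G) ∧
      alpha 1 (hp k (Mt ι 1) (CohB1.tensorMod G (CohB1.tensorPow (Mt ι 1) j))) =
        alpha 1 (hp k (Mt ι 1) G) + (j : ℚ) * alpha 2 (hp k (Mt ι 1) G) := fun G hG j => by
    rw [hp_tensor_pow (k := k) hL hG j]
    exact coeff_comp_two (natDegree_le_two (k := k) hL hdim hG) j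
  have hnat : ∀ i : ℕ, alpha 2 (hp k (Mt ι 1) (Mt ι i)) = A ∧
      alpha 1 (hp k (Mt ι 1) (Mt ι i)) = B + (i : ℚ) * A := fun i => by
    obtain ⟨e⟩ := mt_pow ι i
    rw [hp_iso k hL (e.symm ≪≫ (leftUnit _).symm).symm
      (CurveBundle.Twist.isCoh (TensorMod.Invertible.isInvertible_tensorPow (mt_inv ι 1) i) hOc)]
    exact twists _ hOc i
  have hint : ∀ n : ℤ, alpha 2 (hp k (Mt ι 1) (Mt ι n)) = A ∧
      alpha 1 (hp k (Mt ι 1) (Mt ι n)) = B + (n : ℚ) * A := fun n => by
    set i := n.toNat with hi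
    set m := (-n).toNat with hm
    obtain ⟨e⟩ := mt_add ι n (m : ℤ) (i : ℤ) (by omega)
    obtain ⟨e'⟩ := mt_pow ι m
    have t := twists _ (hMc n) m
    rw [hp_iso k hL (tensorIso (Iso.refl _) e' ≪≫ e).symm (hMc _), (hnat i).1, (hnat i).2] at t
    have : (n : ℚ) = (i : ℚ) - (m : ℚ) := by
      have h : n = (i : ℤ) - (m : ℤ) := by omega
      rw [h]; push_cast; ring
    refine ⟨t.1.symm, ?_⟩
    rw [this]
    have t2 := t.2
    rw [← t.1] at t2
    linarith
  -- the quotient
  set M := Mt ι ((d : ℤ) - 1) with hMdef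
  set Q := CohB1.tensorMod (ClSub.idealMod Z) M with hQdef
  have hMi : PicF.IsInvertible M := mt_inv ι _
  have hIc : Coh.IsCoh (ClSub.idealMod Z) ∧ Coh.IsCoh (ClSub.quotMod Z) := by
    have hq : Coh.IsCoh (cokernel (ClSub.idealModι Z)) → Coh.IsCoh (ClSub.quotMod Z) := fun h =>
      CohBasics.Closure.isCoh_of_iso
        ((cokernelIsCokernel _).coconePointUniqueUpToIso (ClSub.Quot.idealSeq_shortExact Z).gIsCokernel) h
    have hI : Coh.IsCoh (ClSub.idealMod Z) :=
      CohBasics.Closure.isCoh_of_iso (e3 |> fun _ => Iso.refl _) (by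
        have hX3 : Coh.IsCoh S.X₃ := CohBasics.Closure.isCoh_of_iso
          ((cokernelIsCokernel S.f).coconePointUniqueUpToIso hS.gIsCokernel)
          (CohBasics.Closure.isCoh_cokernel S.f (CohBasics.Closure.isCoh_of_iso e1.symm hOc).1 hV)
        obtain ⟨e0⟩ := mt_zero ι
        obtain ⟨e'⟩ := mt_add ι ((d : ℤ) - 1) (1 - (d : ℤ)) 0 (by ring)
        exact CohBasics.Closure.isCoh_of_iso
          (assoc _ _ _ ≪≫ tensorIso (Iso.refl _) (e' ≪≫ e0) ≪≫ rightUnit _)
          (CurveBundle.Twist.isCoh (mt_inv ι (1 - (d : ℤ))) (CohBasics.Closure.isCoh_of_iso e3 hX3)))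
    haveI := ClSub.Quot.mono_idealModι Z
    exact ⟨hI, hq (CohBasics.Closure.isCoh_cokernel _ hI.1 hOc)⟩
  have hQc : Coh.IsCoh Q := CurveBundle.Twist.isCoh hMi hIc.1
  let q : Q ⟶ M := tmap (ClSub.idealModι Z) (𝟙 M) ≫ (leftUnit M).hom
  haveI : Mono q := by
    haveI := CurveBundle.Twist.isEquivalence hMi
    haveI := ClSub.Quot.mono_idealModι Z
    haveI : Mono (tmap (ClSub.idealModι Z) (𝟙 M)) := (tensorBy M).map_mono (ClSub.idealModι Z)
    exact mono_comp _ _
  have hQt : TorSh.IsTorsionFree Q := CurveBundle.Rank.isTorsionFree_of_mono q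
    (CurveBundle.Coherent.isTorsionFree (TensorMod.LocFree.of_rank (TensorMod.LocFree.of_isInvertible hMi)))
  have hdq : ∀ i : ℕ, i ≠ 0 → alpha i (hp k (Mt ι 1) (ClSub.quotMod Z)) = 0 := fun i hi => by
    refine alpha_eq_zero_of_dim_le (k := k) hL hIc.2 ?_ hi
    rw [ClSub.Quot.support_quotMod]
    haveI : Finite (Z.support : Set X) := hZfin.to_subtype
    haveI : JacobsonSpace (Z.support : Set X) :=
      JacobsonSpace.of_isClosedEmbedding Z.support.isClosed.isClosedEmbedding_subtypeVal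
    rcases isEmpty_or_nonempty (Z.support : Set X) with he | he
    · haveI : IsEmpty (TopologicalSpace.IrreducibleCloseds (Z.support : Set X)) :=
        ⟨fun T => he.false T.isIrreducible.nonempty.some⟩
      rw [topologicalKrullDim, Order.krullDim_eq_bot]
      exact bot_le
    · exact topologicalKrullDim_zero_of_discreteTopology _
  have hQA : alpha 2 (hp k (Mt ι 1) Q) = A ∧ alpha 1 (hp k (Mt ι 1) Q) = B + ((d : ℚ) - 1) * A := by
    obtain ⟨e⟩ := mt_pow ι (d - 1)
    have ed : M ≅ CohB1.tensorPow (Mt ι 1) (d - 1) := eqToIso (by rw [hMdef]; congr; omega) ≪≫ e.symm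
    have h : hp k (Mt ι 1) (Coh.structureModule X) =
        hp k (Mt ι 1) (ClSub.idealMod Z) + hp k (Mt ι 1) (ClSub.quotMod Z) :=
      hp_add k hL (S := ShortComplex.mk (ClSub.idealModι Z) (ClSub.toSubscheme Z)
        (Groth.Agent.Lib.ClSub.Quot.idealModι_toSubscheme Z))
        (Groth.Agent.Lib.ClSub.Quot.idealSeq_shortExact Z) hIc.1 hOc hIc.2
    have t := twists _ hIc.1 (d - 1)
    rw [hp_iso k hL (tensorIso (Iso.refl _) ed) hQc] at t
    have f2 := hdq 2 (by norm_num)
    have f1 := hdq 1 (by norm_num)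
    have g2 : alpha 2 (hp k (Mt ι 1) (ClSub.idealMod Z)) = A := by rw [hA, h, alpha_add, f2]; ring
    have g1 : alpha 1 (hp k (Mt ι 1) (ClSub.idealMod Z)) = B := by rw [hB, h, alpha_add, f1]; ring
    rw [g2, g1, Nat.cast_sub (by omega : 1 ≤ d), Nat.cast_one] at t
    exact t
  let a : Coh.structureModule X ⟶ S.X₂ := e1.inv ≫ S.f
  let b : S.X₂ ⟶ Q := S.g ≫ e3.hom
  haveI := hS.mono_f
  haveI : Mono a := mono_comp _ _
  have hV0 : ¬ IsZero S.X₂ := fun hz => hO0 (IsZero.of_mono a hz)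
  have hVA : alpha 2 (hp k (Mt ι 1) S.X₂) = 2 * A ∧
      alpha 1 (hp k (Mt ι 1) S.X₂) = 2 * B + ((d : ℚ) - 1) * A := by
    have h1c := CohBasics.Closure.isCoh_of_iso e1.symm hOc
    have h3c := CohBasics.Closure.isCoh_of_iso e3.symm hQc
    rw [hp_add k hL hS h1c hV h3c, hp_iso k hL e1.symm hOc, hp_iso k hL e3.symm hQc, alpha_add,
      alpha_add]
    exact ⟨by linarith [hQA.1], by linarith [hQA.2]⟩
  refine ⟨hV, hV0, hVp _ (𝟙 _) inferInstance hV hV0, fun F j hj hF => ?_, fun F j hj hFc pF pV hpF hpV h1 h2 => ?_⟩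
  · by_cases hz : IsZero F
    · have hem : CohB1.support F = ∅ := Set.eq_empty_iff_forall_notMem.mpr fun x hx =>
        hx ((Modules.Stalk.isZero_iff_stalk_subsingleton).mp hz x)
      rw [hem]
      haveI : IsEmpty (TopologicalSpace.IrreducibleCloseds (∅ : Set X)) :=
        ⟨fun Z => Z.isIrreducible.nonempty.some.2⟩
      rw [topologicalKrullDim, Order.krullDim_eq_bot]
      simp
    · rw [hVp F j hj hF hz]
      exact_mod_cast (show (2 : ℕ) + 1 ≠ 2 by norm_num)
  obtain rfl := hp_eq k _ hpF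
  obtain rfl := hp_eq k _ hpV
  haveI := hj
  rw [hatSlope, hatSlope, show (2 : ℕ) - 1 = 1 from rfl, div_lt_div_iff₀ h1 (h1.trans h2), hVA.1, hVA.2]
  rw [hVA.1] at h2
  have hd3 : (3 : ℚ) ≤ (d : ℚ) - 1 := by
    have : (4 : ℚ) ≤ d := by exact_mod_cast hd
    linarith
  set g : F ⟶ M := j ≫ b ≫ q with hg
  have hK := CohBasics.Closure.isCoh_kernel g hFc (hMc _).1
  have hI := CohBasics.Closure.isCoh_image g hFc.1 (hMc _)
  let kK : kernel g ⟶ Coh.structureModule X := hS.exact.lift (kernel.ι g ≫ j) (by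
    rw [← cancel_mono e3.hom, ← cancel_mono q, Limits.zero_comp, Limits.zero_comp]
    simp only [Category.assoc]
    exact kernel.condition g) ≫ e1.hom
  have hkK : kK ≫ a = kernel.ι g ≫ j := by
    simp only [kK, a, Category.assoc, Iso.hom_inv_id_assoc]
    exact hS.exact.lift_f _ _
  haveI : Mono (kK ≫ a) := by rw [hkK]; exact mono_comp _ _
  haveI : Mono kK := mono_of_mono kK a
  have hsum := Basics.hp_kernel_image (k := k) hL g hFc (hMc _)
  by_cases hI0 : IsZero (Abelian.image g)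
  · have hK0 : ¬ IsZero (kernel g) := fun hz => by
      rw [hsum, hp_isZero k hL hz, hp_isZero k hL hI0] at h1
      simp [alpha] at h1
    obtain ⟨e2, e1', -⟩ := sub_invertible (k := k) hL hdim hOi kK hK hK0
    rw [hsum, hp_isZero k hL hI0, add_zero, e2]
    nlinarith [mul_le_mul_of_nonneg_right e1' (show (0:ℚ) ≤ 2 * A by linarith), mul_pos hApos hApos]
  by_cases hK0 : IsZero (kernel g)
  swap
  · exfalso
    obtain ⟨e2, -, -⟩ := sub_invertible (k := k) hL hdim hOi kK hK hK0
    obtain ⟨f2, -, -⟩ := sub_invertible (k := k) hL hdim hMi (Abelian.image.ι g) hI hI0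
    rw [hsum, alpha_add, e2, f2, (hint _).1] at h2
    linarith
  haveI : Mono g := Preadditive.mono_of_isZero_kernel _ hK0
  have hF0 : ¬ IsZero F := fun hz => hI0 ((Interval.isZero_iff (k := k) hL hI).2 (by
    have h' := hsum
    rw [hp_isZero k hL hz, hp_isZero k hL hK0, zero_add] at h'
    exact h'.symm))
  obtain ⟨eF2, eF1, hFr⟩ := sub_invertible (k := k) hL hdim hMi g hFc hF0
  rw [(hint _).1] at eF2
  have hFt := CurveBundle.Rank.isTorsionFree_of_mono j hVtf
  set H := RefHull.ddual F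
  have hHc : Coh.IsCoh H := RefHull.Reflexive.isCoh_ddual hFc
  have hHr : RefHull.IsReflexive H :=
    RefHull.Reflexive.isReflexive_dual (RefHull.Reflexive.isCoh_dual hFc)
  have hbη := RefHull.Generic.stalkMap_bidual_bijective_genericPoint hFc
  obtain ⟨v0, hv0, hv⟩ := finrank_eq_one_iff'.mp
    (show Module.finrank X.functionField (F.presheaf.stalk (genericPoint X)) = 1 from hFr)
  have hHi : PicF.IsInvertible H := by
    refine RefHull.ExtHull.isInvertible hreg hdim.le ⟨hHc, hHr, ?_⟩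
    refine RefHull.Tensor.genInvertible_of_basis hHc
      (RefHull.Generic.toGen_injective_of_isReflexive hHc hHr)
      (t := RefHull.stalkMapₗ (RefHull.bidualMap F) (genericPoint X) v0)
      (fun h => hv0 (hbη.1 (h.trans (map_zero _).symm))) fun x => ?_
    obtain ⟨x', rfl⟩ := hbη.2 x
    obtain ⟨c, rfl⟩ := hv x'
    exact ⟨c, (map_smul (RefHull.stalkMapₗ (RefHull.bidualMap F) (genericPoint X)) c v0).symm⟩
  haveI := hFc.1
  haveI : Mono (RefHull.bidualMap F) := CurveBundle.Rank.mono_of_generic_injective hFt _ (by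
    rw [← SimpleEnd.stalkMapₗ_eq]; exact hbη.1)
  obtain ⟨n, ⟨eH⟩⟩ := hPic H hHi
  have hα : alpha 1 (hp k (Mt ι 1) F) ≤ B + (n : ℚ) * A := by
    have h := (sub_invertible (k := k) hL hdim hHi (RefHull.bidualMap F) hFc hF0).2.1
    rwa [hp_iso k hL eH.symm (hMc n), (hint n).2] at h
  rw [eF2]
  by_cases hn0 : 2 * n < (d : ℤ) - 1
  · have hn' : 2 * (n : ℚ) < (d : ℚ) - 1 := by exact_mod_cast hn0
    nlinarith [mul_le_mul_of_nonneg_right hα (show (0:ℚ) ≤ 2 * A by linarith),
      mul_lt_mul_of_pos_right hn' (mul_pos hApos hApos)]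
  exfalso
  -- extend to the hull
  let e := LinearEquiv.ofBijective (RefHull.stalkMapₗ (RefHull.bidualMap F) (genericPoint X)) hbη
  have hEr : ∀ x : X, RefHull.IsReflexiveAt S.X₂ x := fun x => by
    obtain ⟨bb⟩ := CurveBundle.Coherent.exists_basis_stalk hE x
    haveI := Module.Free.of_basis bb
    haveI := Module.Finite.of_basis bb
    exact (inferInstance : Module.IsReflexive (X.presheaf.stalk x) (S.X₂.presheaf.stalk x))
  have hVi := RefHull.Generic.toGen_injective_of_isReflexive hV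
    ((RefHull.Reflexive.isReflexive_iff_forall hV).2 hEr)
  obtain ⟨ψ, hψ⟩ := RefHull.Generic.exists_hom hVi
    ((RefHull.stalkMapₗ j (genericPoint X)).comp e.symm.toLinearMap) fun x v =>
    RefHull.Generic.mem_range_toGen hnorm hV (hEr x) _ fun y hyx hy => by
      obtain ⟨g', hg'⟩ : ∃ g', RefHull.Generic.toGen H y g' = RefHull.Generic.toGen H x v := by
        refine ⟨(H.presheaf.stalkSpecializes hyx).hom v, ?_⟩
        obtain ⟨U, hxU, s, rfl⟩ := TopCat.Presheaf.exists_germ_eq H.presheaf v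
        erw [TopCat.Presheaf.germ_stalkSpecializes_apply H.presheaf hxU hyx]
        rw [RefHull.Generic.toGen_germ, RefHull.Generic.toGen_germ]
      obtain ⟨w, hw⟩ := RefHull.Generic.stalkMap_bidual_surjective hnorm hFc y hy.le g'
      refine ⟨RefHull.stalkMapₗ j y w, ?_⟩
      rw [RefHull.Generic.toGen_stalkMap, LinearMap.comp_apply]
      congr 1
      refine e.injective (Eq.trans ?_ (e.apply_symm_apply _).symm)
      rw [← hg', ← hw, RefHull.Generic.toGen_stalkMap]
      rfl
  haveI := hQc.1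
  haveI : Mono (j ≫ b) := mono_of_mono_fac (show (j ≫ b) ≫ q = g by rw [Category.assoc])
  have hψ0 : eH.inv ≫ ψ ≫ b ≠ 0 := fun hc => by
    rw [Preadditive.IsIso.comp_left_eq_zero] at hc
    have h0 : RefHull.stalkMapₗ (ψ ≫ b) (genericPoint X) (e v0) = 0 := by
      rw [hc, SimpleEnd.stalkMapₗ_eq]
      erw [Modules.StalkModule.stalkMapₗ_zero]
      rfl
    rw [RefHull.Colim.stalkMap_comp, hψ, LinearMap.comp_apply] at h0
    erw [e.symm_apply_apply] at h0
    rw [← RefHull.Colim.stalkMap_comp] at h0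
    exact hv0 ((Modules.StalkModule.mono_iff_stalkMapₗ_injective (j ≫ b)).mp inferInstance _
      (h0.trans (map_zero _).symm))
  have hvan : ∀ m : ℕ, ∀ φ : Mt ι ((m : ℤ) + 1) ⟶ Q, φ = 0 := by
    obtain ⟨e0⟩ := mt_zero ι
    intro m
    induction m with
    | zero =>
      intro φ
      obtain ⟨ea⟩ := mt_add ι ((0 : ℕ) + 1 : ℤ) (-1) 0 (by norm_num)
      obtain ⟨eb⟩ := mt_add ι ((d : ℤ) - 1) (-1) ((d : ℤ) - 2) (by ring)
      have h0 := QuadricKer.Hom.eq_zero_of_unit k hZ ((e0.symm ≪≫ ea.symm).hom ≫ tmap φ (𝟙 _) ≫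
        (assoc _ _ _ ≪≫ tensorIso (Iso.refl _) eb).hom)
      rw [Preadditive.IsIso.comp_left_eq_zero, Preadditive.IsIso.comp_right_eq_zero] at h0
      exact TensorMod.Integral.eq_zero_of_tmap_eq_zero (mt_inv ι (-1)) h0
    | succ m ih =>
      intro φ
      obtain ⟨s, hs⟩ := exists_section ι
      obtain ⟨ec⟩ := mt_add ι 1 ((m : ℤ) + 1) (((m + 1 : ℕ) : ℤ) + 1) (by push_cast; ring)
      have hu : (leftUnit _).inv ≫ tmap s (𝟙 (Mt ι ((m : ℤ) + 1))) ≫ ec.hom ≠ 0 := fun h => by
        rw [Preadditive.IsIso.comp_left_eq_zero, Preadditive.IsIso.comp_right_eq_zero] at h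
        exact hs (TensorMod.Integral.eq_zero_of_tmap_eq_zero (mt_inv ι _) h)
      exact eq_zero_of_comp (mt_inv ι _) (mt_inv ι _) hQc hQt hu (ih _)
  obtain ⟨m, rfl⟩ : ∃ m : ℕ, n = (m : ℤ) + 1 := ⟨(n - 1).toNat, by omega⟩
  exact hψ0 (hvan m _)

open CategoryTheory CategoryTheory.Limits AlgebraicGeometry TopologicalSpace in
/-- Let k be an algebraically closed field of characteristic zero and X ⊆ P³_k a smooth integral surface
of degree d ≥ 4: ι : X → P³_k a closed immersion over k whose ideal is that of one form F of degree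
d, X proper and smooth over k of dimension 2, polarised by the ample L = ι^*O(1); assume Pic X is
generated by O_X(1), i.e. every invertible O_X-module is isomorphic to ι^*O(n) for some integer n.
Let Z ⊆ X be a closed subscheme with finite support such that H⁰(X, I_Z ⊗ ι^*O(d−2)) = 0, and let 0
→ O_X → E → I_Z ⊗ ι^*O(d−1) → 0 be a short exact sequence of O_X-modules with E finite locally free
of rank 2. Then E is slope-stable (of dimension 2, with respect to L). (The published statement is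
for the rank-2 Ulrich bundles on a general degree-d surface, 4 ≤ d ≤ 15, which come with such a
presentation and vanishing; its argument uses about generality only that Pic X is generated by
O_X(1), and about E only the displayed data; it concludes through the quoted criterion that a rank-2
bundle on such an X is slope-stable once its normalised twist has no sections.) -/
theorem result (k : Type u) [Field k] [IsAlgClosed k] [CharZero k]
    (X : Scheme.{u}) [X.Over (Spec (CommRingCat.of k))] [AlgebraicGeometry.IsIntegral X]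
    [IsProper (X ↘ (Spec (CommRingCat.of k)))] [Smooth (X ↘ (Spec (CommRingCat.of k)))]
    (hdim : topologicalKrullDim X = 2)
    (ι : X ⟶ CohB1.ProjSpace 3 k) [IsClosedImmersion ι] (hιk : ι ≫ CohB1.ProjSpace.toSpec 3 k = X ↘ (Spec (CommRingCat.of k)))
    (hL : CohB1.IsAmple ((Scheme.Modules.pullback ι).obj (Twist.twistProjSpace 3 k (1))))
    (d : ℕ) (hd : 4 ≤ d) (F : LefPen.Form 3 k d) (hF : ι.ker = LefPen.hypIdeal F)
    (hPic : ∀ M : X.Modules, PicF.IsInvertible M → ∃ n : ℤ, Nonempty (M ≅ ((Scheme.Modules.pullback ι).obj (Twist.twistProjSpace 3 k (n)))))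
    (Z : X.IdealSheafData) (hZfin : (Z.support : Set X).Finite)
    (hZ : Subsingleton (Coh.HH X (CohB1.tensorMod (ClSub.idealMod Z) ((Scheme.Modules.pullback ι).obj (Twist.twistProjSpace 3 k ((d : ℤ) - 2)))) 0))
    (S : ShortComplex X.Modules) (hS : S.ShortExact)
    (h₁ : Nonempty (S.X₁ ≅ Coh.structureModule X))
    (h₃ : Nonempty (S.X₃ ≅ CohB1.tensorMod (ClSub.idealMod Z) ((Scheme.Modules.pullback ι).obj (Twist.twistProjSpace 3 k ((d : ℤ) - 1)))))
    (hE : FlatMod.IsFinLocFreeOfRank 2 S.X₂) :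
    ShStab.IsMuStable k X ((Scheme.Modules.pullback ι).obj (Twist.twistProjSpace 3 k (1))) S.X₂ 2 := by
  haveI := Groth.Agent.Lib.Curves.GlobalSections.isNoetherian_of_proper k X
  haveI : JacobsonSpace X := LocallyOfFiniteType.jacobsonSpace (X ↘ Spec (CommRingCat.of k))
  obtain ⟨e1⟩ := h₁
  obtain ⟨e3⟩ := h₃
  exact isMuStable_aux k X hdim ι hL d hd hPic Z hZfin hZ S hS e1 e3 hE

end Groth.Agent.S18631
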