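import Groth.Statements.S18633
import Groth.Agent.Lib.SurfRR.Ramanujam
import Groth.Agent.Lib.SurfRR.Fundamental
import Groth.Agent.Lib.SurfRR.Connected
import Groth.Agent.Lib.SurfInt.ChiNum
import Groth.Agent.Lib.ProjTilde.Ample
import Groth.Agent.Lib.HProj.QuasiProj

set_option autoImplicit false
set_option linter.style.haveILetI false
universe u
open CategoryTheory CategoryTheory.Limits AlgebraicGeometry TopologicalSpace
open Surf

namespace Groth.Agent.S18633

open Groth.Agent.Lib Groth.Agent.Lib.TensorMod.Basic Groth.Agent.Lib.SurfRR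
open Groth.Agent.Lib.Curves.LES (mapK exactK₁ exactK₃ isoK)

/-- A pulled back degree one section which does not vanish at a point is nonzero. -/
theorem ne_zero_aux {X Y : Scheme.{u}} [IsIntegral X] (ι : X ⟶ Y) {P : Y.Modules}
    (hP : PicF.IsInvertible P) (σ : Coh.structureModule Y ⟶ P)
    (h : ι (genericPoint X) ∈ CohB1.genLocus P σ) :
    (PicLoc.pullbackStructureIso ι).inv ≫ (Scheme.Modules.pullback ι).map σ ≠ 0 := by
  refine SurfInt.Pencil.ne_zero_of_mem_genLocus (PicLoc.isInvertible_pullback ι hP)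
    (x := genericPoint X) ?_
  erw [Ample.GenLocus.genLocus_pullback (f := ι) hP σ (PicLoc.pullbackStructureIso ι).symm]
  exact h

/-- The twist by one of a graded ring generated in degree one has a section not vanishing at a point. -/
theorem exists_section_proj {R A : Type u} [CommRing R] [CommRing A] [Algebra R A]
    (𝒜 : ℕ → Submodule R A) [GradedAlgebra 𝒜] (hcov : ∀ x : ProjectiveSpectrum 𝒜, ∃ g ∈ 𝒜 1, g ∉ x.asHomogeneousIdeal)
    (x : Proj 𝒜) : ∃ s : Coh.structureModule (Proj 𝒜) ⟶ Twist.twist 𝒜 (1 : ℤ),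
      x ∈ CohB1.genLocus _ s := by
  obtain ⟨f, hf, hfx⟩ := hcov x
  obtain ⟨s, hs⟩ := Ample.GenLocus.exists_hom_of_sec (ProjTilde.Ample.deg1Sec hf)
  exact ⟨s, by rw [ProjTilde.Ample.genLocus_deg1 hcov hf s hs]; exact hfx⟩

theorem exists_linear_notMem {k : Type u} [Field k] {n : ℕ}
    (x : ProjectiveSpectrum (CohB1.polyGrading n k)) :
    ∃ g ∈ CohB1.polyGrading n k 1, g ∉ x.asHomogeneousIdeal := by
  classical
  by_contra h
  push Not at h
  refine x.not_irrelevant_le ?_
  change (HomogeneousIdeal.irrelevant (CohB1.polyGrading n k)).toIdeal ≤ x.asHomogeneousIdeal.toIdeal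
  rw [HProj.QuasiProj.irrelevant_eq_span, Ideal.span_le]
  intro p hp
  obtain ⟨i, -, rfl⟩ := Finset.mem_image.1 hp
  exact h _ (MvPolynomial.isHomogeneous_X k i)

/-- `O(1)` pulled back along a morphism from an integral scheme has a nonzero section. -/
theorem exists_section_ne_zero {k : Type u} [Field k] {X : Scheme.{u}} [IsIntegral X] {n : ℕ}
    (ι : X ⟶ CohB1.ProjSpace n k) :
    ∃ s : Coh.structureModule X ⟶ (Scheme.Modules.pullback ι).obj (Twist.twistProjSpace n k 1), s ≠ 0 := by
  obtain ⟨σ, hσ⟩ := exists_section_proj (CohB1.polyGrading n k) exists_linear_notMem (ι (genericPoint X))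
  exact ⟨_, ne_zero_aux ι (HProj.QuasiProj.isAmple_twist_projSpace n k).1 σ hσ⟩

/-- Powers of inverse modules are inverse. -/
theorem tensorPow_inverse {X : Scheme.{u}} {D W : X.Modules}
    (e : CohB1.tensorMod D W ≅ Coh.structureModule X) : ∀ n : ℕ,
    Nonempty (CohB1.tensorMod (CohB1.tensorPow D n) (CohB1.tensorPow W n) ≅ Coh.structureModule X)
  | 0 => ⟨leftUnit _⟩
  | n + 1 => by
    obtain ⟨i⟩ := tensorPow_inverse e n
    let P := CohB1.tensorPow D n
    let Q := CohB1.tensorPow W n
    exact ⟨assoc P D _ ≪≫ tensorIso (Iso.refl P) ((assoc D Q W).symm ≪≫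
      tensorIso (comm D Q) (Iso.refl W) ≪≫ assoc Q D W ≪≫ tensorIso (Iso.refl Q) e ≪≫ rightUnit Q) ≪≫ i⟩

/-- Let k be an algebraically closed field of characteristic zero and X a strong del Pezzo surface over
k: an integral scheme, proper and smooth over k of dimension 2, with canonical module W (a second
exterior power of Ω_{X/k}) and a tensor inverse D of W which is very ample relative to k — there is
a closed immersion ι : X → P^N_k over k with ι^*O(1) ≅ D. Assume H¹(X, O_X) = 0. Then H¹(X, D^{⊗m})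
= 0 and H¹(X, W^{⊗m}) = 0 for every m ≥ 0; that is, H¹(X, O_X(m)) = 0 for all m ∈ ℤ in the
anticanonical embedding X ⊆ P^d. (The published statement is that the anticanonically embedded X is
arithmetically Cohen–Macaulay; its argument obtains H¹(X, O_X) = 0 from the rationality of del Pezzo
surfaces, quoted, and that vanishing is the hypothesis here; the part about H¹ of the twisted ideal
sheaves of X is not restated.) -/
theorem result (k : Type u) [Field k] [IsAlgClosed k] [CharZero k] (X : Scheme.{u})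
    [X.Over (Spec (CommRingCat.of k))] [IsIntegral X] [IsProper (X ↘ (Spec (CommRingCat.of k)))] [Smooth (X ↘ (Spec (CommRingCat.of k)))]
    (hdim : topologicalKrullDim X = 2)
    (W : X.Modules) (hW : ExtPow.IsExtPow 2 (Omega.sheaf (X ↘ (Spec (CommRingCat.of k)))) W)
    (D : X.Modules) (hD : ClSub.IsInverseOf D W)
    (hva : ∃ (N : ℕ) (ι : X ⟶ CohB1.ProjSpace N k), IsClosedImmersion ι ∧
      ι ≫ CohB1.ProjSpace.toSpec N k = X ↘ (Spec (CommRingCat.of k)) ∧
      Nonempty ((Scheme.Modules.pullback ι).obj (Twist.twistProjSpace N k 1) ≅ D))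
    (hq : Subsingleton (Coh.HH X (Coh.structureModule X) 1)) (m : ℕ) :
    Subsingleton (Coh.HH X (CohB1.tensorPow D m) 1) ∧ Subsingleton (Coh.HH X (CohB1.tensorPow W m) 1) := by
  haveI := Curves.GlobalSections.isNoetherian_of_proper k X
  obtain ⟨eD⟩ := hD
  obtain ⟨N, ι, hι, -, ⟨τ⟩⟩ := hva
  haveI := hι
  have hfin := Snapper.Finite.cohFinite k X
  have hreg := SurfInt.NegDef.regular_of_smooth (k := k) (X := X)
  have hO := Snapper.Twist.isCoh_structureModule X
  have hH := SurfInt.ProjSurf.isAmple ι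
  have hWi := Duality.isInvertible_canonical (k := k) hdim hW
  have hDi : PicF.IsInvertible D :=
    TensorMod.TensorInv.isInvertible_of_tensor_iso eD
  obtain ⟨s, hs⟩ := exists_section_ne_zero ι
  have hs' : s ≫ τ.hom ≠ 0 := fun h => hs (by rw [← cancel_mono τ.hom, h, zero_comp])
  obtain ⟨hC, ⟨eC⟩, -, -⟩ := SurfInt.Div.divisor_spec hDi (s ≫ τ.hom) hs'
  set C := PicF2.zeroScheme D (s ≫ τ.hom) with hCdef
  have hIi := SurfInt.Effective.isInvertible_idealMod hC
  have hIP : ∀ P : X.Modules, PicF.IsInvertible P →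
      FGA.intNum k X 2 ![_root_.ClSub.idealMod C, P] (Coh.structureModule X) =
        - FGA.intNum k X 2 ![(Scheme.Modules.pullback ι).obj (Twist.twistProjSpace N k 1), P]
          (Coh.structureModule X) := fun P hP => by
    rw [SurfInt.NegDef.intNum_congr_left (k := k) (M := P) τ]
    exact Snapper.IntNum.intNum_pair_inverse hfin hdim.le hDi hIi eC hP hO
  have hWP : ∀ P : X.Modules, PicF.IsInvertible P →
      FGA.intNum k X 2 ![W, P] (Coh.structureModule X) =
        FGA.intNum k X 2 ![_root_.ClSub.idealMod C, P] (Coh.structureModule X) := fun P hP => by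
    rw [Snapper.IntNum.intNum_pair_inverse hfin hdim.le hDi hIi eC hP hO,
      Snapper.IntNum.intNum_pair_inverse hfin hdim.le hDi hWi eD hP hO]
  have hC0 : C ≠ ⊤ := by
    intro h
    have h1 := hIP _ hH.1
    rw [h, SurfInt.NegDef.intNum_top hfin hdim hH.1] at h1
    have h2 := SurfInt.ChiNum.self_pos (k := k) hdim hreg hH s hs
    omega
  have hnc : ∀ Z₁ Z₂ : X.IdealSheafData, BlowUp.IsEffCartierIdeal Z₁ → BlowUp.IsEffCartierIdeal Z₂ →
      Z₁ ≠ ⊤ → Z₂ ≠ ⊤ → C = Z₁ * Z₂ → 0 < FGA.intNum k X 2
        ![_root_.ClSub.idealMod Z₁, _root_.ClSub.idealMod Z₂] (Coh.structureModule X) := by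
    intro Z₁ Z₂ h₁ h₂ hne₁ hne₂ heq
    have key : ∀ Z : X.IdealSheafData, BlowUp.IsEffCartierIdeal Z → Z ≠ ⊤ →
        0 < FGA.intNum k X 2 ![_root_.ClSub.idealMod C, _root_.ClSub.idealMod Z] (Coh.structureModule X) := by
      intro Z hZ hne
      rw [hIP _ (SurfInt.Effective.isInvertible_idealMod hZ), Snapper.IntNum.intNum_pair_comm]
      linarith [SurfInt.NegDef.intNum_eff_ample_neg hfin hdim hreg hH hZ hne]
    have ha := key Z₁ h₁ hne₁
    have hb := key Z₂ h₂ hne₂
    rw [heq, SurfInt.NegDef.intNum_mul hfin hdim h₁ h₂ (SurfInt.Effective.isInvertible_idealMod h₁),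
      Snapper.IntNum.intNum_pair_comm (_root_.ClSub.idealMod Z₂)] at ha
    rw [heq, SurfInt.NegDef.intNum_mul hfin hdim h₁ h₂ (SurfInt.Effective.isInvertible_idealMod h₂)] at hb
    exact SurfRR.Connected.pos_of_pos (k := k) hdim h₁ h₂ hne₂ ha (by linarith)
  have hpos : ∀ (j : ℕ), 0 < j → ∀ E : X.IdealSheafData, IsIntegral E.subscheme →
      topologicalKrullDim (E.support : Set X) = 1 →
      0 < FGA.intNum k X 2 ![_root_.ClSub.idealMod E, CohB1.tensorPow W j] (Coh.structureModule X) := by
    intro j hj E hint hEd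
    haveI := hint
    have hEi := SurfInt.Effective.isInvertible_idealMod (SurfRR.Fundamental.isEff (k := k) hdim hEd)
    rw [SurfRR.Fundamental.intNum_tensorPow (k := k) hdim hEi hWi, Snapper.IntNum.intNum_pair_comm,
      hWP _ hEi, hIP _ hEi, Snapper.IntNum.intNum_pair_comm]
    exact mul_pos (by exact_mod_cast hj)
      (by linarith [SurfInt.Surface.intNum_ample_neg hfin hdim hreg E hEd hH])
  have hvan : ∀ j : ℕ, 0 < j →
      Subsingleton (Coh.HH X (CohB1.tensorMod (CohB1.tensorPow W j) (_root_.ClSub.quotMod C)) 0) := by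
    intro j hj
    have hL := TensorMod.Invertible.isInvertible_tensorPow hWi j
    obtain ⟨E, hint, hEd, hsub⟩ :=
      SurfInt.Mul.exists_curve (X ↘ Spec (CommRingCat.of k)) hdim hreg hC hC0
    haveI := hint
    obtain ⟨F, -, hmul, -⟩ := SurfInt.Mul.exists_residual (X ↘ Spec (CommRingCat.of k)) hdim hreg hC
      E hEd hsub
    obtain ⟨π, hπ⟩ := SurfInt.Seq.exists_descend (SurfRR.Ramanujam.le_of_mul_left hmul)
    have hdeg : ∀ E' : X.IdealSheafData, IsIntegral E'.subscheme →
        topologicalKrullDim (E'.support : Set X) = 1 → C ≤ E' →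
        Curv2.euler k X (CohB1.tensorMod (_root_.ClSub.quotMod E') (CohB1.tensorPow W j)) -
          Curv2.euler k X (_root_.ClSub.quotMod E') ≤ 0 := by
      intro E' hint' hd' _
      haveI := hint'
      have h := SurfRR.Minimal.intNum_eq (k := k) hdim E' hd' hL
      linarith [hpos j hj E' hint' hd']
    have hinj := (SurfRR.Ramanujam.injective_restrict (k := k) hdim hC hnc hL hdeg E hEd
      (SurfRR.Ramanujam.le_of_mul_left hmul) π hπ).1
    have hz : Subsingleton
        (Coh.HH X (CohB1.tensorMod (CohB1.tensorPow W j) (_root_.ClSub.quotMod E)) 0) := by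
      by_contra hns
      have := SurfRR.Ramanujam.intNum_nonpos_of_sections (k := k) hdim E hEd hL
        (not_subsingleton_iff_nontrivial.1 hns)
      linarith [hpos j hj E hint hEd]
    haveI := hz
    exact hinj.subsingleton
  have eI : _root_.ClSub.idealMod C ≅ W :=
    (rightUnit _).symm ≪≫ tensorIso (Iso.refl _) eD.symm ≪≫ (assoc _ _ _).symm ≪≫
      tensorIso (comm _ _ ≪≫ eC) (Iso.refl W) ≪≫ leftUnit W
  have hinj : ∀ j : ℕ, 0 < j → Subsingleton (Coh.HH X (CohB1.tensorPow W j) 1) →
      Subsingleton (Coh.HH X (CohB1.tensorPow W (j + 1)) 1) := by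
    intro j hj h1
    have hS := Snapper.Twist.twistSeq_shortExact (TensorMod.Invertible.isInvertible_tensorPow hWi j)
      (Groth.Agent.Lib.ClSub.Quot.idealSeq_shortExact C)
    haveI h2 : Subsingleton (Coh.HH X (Snapper.Twist.twistSeq (CohB1.tensorPow W j)
        (Groth.Agent.Lib.ClSub.Quot.idealSeq C)).X₂ 1) :=
      (isoK k (rightUnit (CohB1.tensorPow W j)) 1).toEquiv.subsingleton
    haveI h3 : Subsingleton (Coh.HH X (Snapper.Twist.twistSeq (CohB1.tensorPow W j)
        (Groth.Agent.Lib.ClSub.Quot.idealSeq C)).X₃ 0) := hvan j hj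
    have h4 : Subsingleton (Coh.HH X (Snapper.Twist.twistSeq (CohB1.tensorPow W j)
        (Groth.Agent.Lib.ClSub.Quot.idealSeq C)).X₁ 1) :=
      subsingleton_of_forall_eq 0 fun y => by
        obtain ⟨z, rfl⟩ := (exactK₁ k hS 0 1 rfl y).1 (Subsingleton.elim _ _)
        rw [Subsingleton.elim z 0, map_zero]
    haveI : Subsingleton (Coh.HH X (CohB1.tensorMod (CohB1.tensorPow W j) (_root_.ClSub.idealMod C)) 1) := h4
    exact (isoK k (tensorIso (Iso.refl (CohB1.tensorPow W j)) eI) 1).symm.toEquiv.subsingleton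
  have hfinW : ∀ j, Module.Finite k (Coh.HH X (CohB1.tensorPow W j) 1) := fun j =>
    hfin _ (Ample.GG.isCoh_of_isInvertible (TensorMod.Invertible.isInvertible_tensorPow hWi j)) 1
  have hall : ∀ j : ℕ, Subsingleton (Coh.HH X (CohB1.tensorPow W (j + 1)) 1) := by
    intro j
    induction j with
    | zero =>
      have h := Duality.finrank_duality (k := k) hdim hW (PicLoc.isInvertible_structureModule X)
        (leftUnit _) (p := 1) (q := 1) rfl
      haveI := hq
      rw [Module.finrank_zero_of_subsingleton] at h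
      haveI : Module.Finite k (Coh.HH X (CohB1.tensorMod (Coh.structureModule X) W) 1) := hfinW (0 + 1)
      have h0 : Subsingleton (Coh.HH X (CohB1.tensorMod (Coh.structureModule X) W) 1) :=
        Module.finrank_zero_iff.1 h.symm
      exact h0
    | succ n ih => exact hinj (n + 1) n.succ_pos ih
  refine ⟨?_, ?_⟩
  · obtain ⟨e⟩ := tensorPow_inverse eD m
    have h := Duality.finrank_duality (k := k) hdim hW (TensorMod.Invertible.isInvertible_tensorPow hDi m)
      e (p := 1) (q := 1) rfl
    haveI : Subsingleton (Coh.HH X (CohB1.tensorMod (CohB1.tensorPow W m) W) 1) := hall m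
    rw [Module.finrank_zero_of_subsingleton (M := Coh.HH X (CohB1.tensorMod (CohB1.tensorPow W m) W) 1)] at h
    haveI := hfin _ (Ample.GG.isCoh_of_isInvertible (TensorMod.Invertible.isInvertible_tensorPow hDi m)) 1
    exact Module.finrank_zero_iff.1 h
  · cases m with
    | zero => exact hq
    | succ n => exact hall n

end Groth.Agent.S18633
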