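import Groth.Statements.S18637
import Groth.Agent.H19.Bass.InjCrit


set_option autoImplicit false
universe u
open GrLC

namespace Groth.Agent.S18637

/-- Let R be a commutative Noetherian ℤ-graded ring and m a maximal ideal of R which is graded. If e :
R/m → E is a *injective envelope of R/m in the category of graded R-modules (E graded and
*injective, e degree-preserving and injective, every nonzero graded submodule of E meeting the
image), then e is an injective hull of R/m as an ordinary R-module: E is an injective R-module and e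
is an essential injection. -/
theorem result (R : Type u) [CommRing R] [IsNoetherianRing R] (𝒜 : ℤ → AddSubgroup R) [GradedRing 𝒜] (m : HomogeneousIdeal 𝒜) [m.toIdeal.IsMaximal] (E' : Type u) [AddCommGroup E'] [Module R E'] (𝓔 : ℤ → AddSubgroup E') [DirectSum.Decomposition 𝓔] [SetLike.GradedSMul 𝒜 𝓔] (e : (R ⧸ m.toIdeal) →ₗ[R] E') (he : GrLC.IsStarInjHull 𝒜 (GrLC.quotGr 𝒜 m) 𝓔 e) : InjHull.IsInjectiveHull e := by
  letI := Lib.Graded.HullPrime.quotDecomp m
  haveI := Lib.Graded.HullPrime.quotGSMul m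
  have hess : InjHull.IsEssentialInj e := ⟨he.injective, fun P hP ↦
    Lib.Graded.StarInj.inf_range_ne_bot 𝒜 he.toIsStarEss hP⟩
  refine ⟨hess, ?_⟩
  by_contra hinj
  obtain ⟨p, hp, hph, hass⟩ := (H19.Bass.InjCrit.not_injective_iff 𝓔 he.starInj).1 hinj
  have hcp := Ideal.toIdeal_homogeneousCore_le 𝒜 p
  generalize (Ideal.homogeneousCore 𝒜 p).toIdeal = q at hass hcp
  rw [AssociatedPrimes.mem_iff, isAssociatedPrime_iff] at hass
  obtain ⟨hq, x, hx⟩ := hass
  have hmem : ∀ a, a ∈ q ↔ a • x = 0 := fun a ↦ by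
    rw [hx, Submodule.mem_colon_singleton, Submodule.mem_bot]
  have hx0 : x ≠ 0 := fun h ↦ hq.ne_top ((Ideal.eq_top_iff_one q).2 ((hmem 1).2 (by rw [h, smul_zero])))
  obtain ⟨y, ⟨hy, w, hw⟩, hy0⟩ := (Submodule.ne_bot_iff _).1
    (hess.essential (Submodule.span R {x}) (by simpa using hx0))
  obtain ⟨r, rfl⟩ := Submodule.mem_span_singleton.1 hy
  have hle : m.toIdeal ≤ q := fun a ha ↦ by
    have h0 : (a * r) • x = 0 := by
      rw [mul_smul, ← hw, ← map_smul]
      obtain ⟨w, rfl⟩ := Ideal.Quotient.mk_surjective w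
      rw [show a • Ideal.Quotient.mk m.toIdeal w = 0 from
        Ideal.Quotient.eq_zero_iff_mem.2 (m.toIdeal.mul_mem_right _ ha), map_zero]
    exact (hq.mem_or_mem ((hmem _).2 h0)).resolve_right fun h ↦ hy0 ((hmem _).1 h)
  have hpm : m.toIdeal = p := ‹m.toIdeal.IsMaximal›.eq_of_le hp.ne_top (hle.trans hcp)
  exact hph (hpm ▸ m.isHomogeneous)


end Groth.Agent.S18637
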