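import Groth.Statements.S18638
import Groth.Agent.H19.Canon.OverField
import Groth.Agent.Lib.Graded.FieldDeg0

set_option autoImplicit false
universe u
open GrLC

namespace Groth.Agent.S18638

open Groth.Agent.H19.Canon Groth.Agent.Lib CategoryTheory

/-- Let R be a graded ring defined over a field which is Cohen–Macaulay, and K_R its canonical module.
Then R is Gorenstein exactly when K_R is isomorphic to a degree shift R(a) of R for some integer a,
that is, there is a bijective R-linear map R → K_R homogeneous of some fixed degree. Here 'graded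
ring defined over a field' means R = ⊕_{n ≥ 0} R_n is Noetherian with R_0 a field (so R is finitely
generated over R_0), m = R_+ is its unique graded maximal ideal and n = dim R; the canonical module
K_R (the graded dual of H^n_m(R)) is represented by a finitely generated graded module C together
with a homogeneous isomorphism from Hom_R(C, E) onto H^n_m(R), where E is a *injective envelope of
R/m and H^n_m(R) is computed from a *injective resolution of R in the graded category; by graded
Matlis duality this says exactly that C ≅ K_R as graded modules. -/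
theorem result (R : Type u) [CommRing R] [LocCoh.IsCohenMacaulayRing R] (𝒜 : ℤ → AddSubgroup R) [GradedRing 𝒜] (hpos : ∀ n : ℤ, n < 0 → 𝒜 n = ⊥) (h0 : IsField (GrLC.deg0 𝒜)) (m : HomogeneousIdeal 𝒜) (hm : GrLC.IsStarLocal 𝒜 m) (hmsp : m.toIdeal = Ideal.span (⋃ n ∈ Set.Ioi (0 : ℤ), (𝒜 n : Set R))) (n : ℕ) (hn : ringKrullDim R = n) (I : GrLC.StarInjRes 𝒜 𝒜) (E' : Type u) [AddCommGroup E'] [Module R E'] (𝓔 : ℤ → AddSubgroup E') [DirectSum.Decomposition 𝓔] [SetLike.GradedSMul 𝒜 𝓔] (e : (R ⧸ m.toIdeal) →ₗ[R] E') (he : GrLC.IsStarInjHull 𝒜 (GrLC.quotGr 𝒜 m) 𝓔 e) (C : Type u) [AddCommGroup C] [Module R C] (𝒞 : ℤ → AddSubgroup C) [DirectSum.Decomposition 𝒞] [SetLike.GradedSMul 𝒜 𝒞] (hC : GrLC.IsStarCanonical 𝒜 𝒞 𝓔 m n I) : LocCoh.IsGorensteinRing R ↔ ∃ (a : ℤ) (f : R →ₗ[R] C), Function.Bijective f ∧ GrLC.IsGrHomDeg 𝒜 𝒞 f a := by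
  have : IsNoetherianRing R := inferInstance
  have : Module.Finite R C := hC.1
  have := Groth.Agent.Lib.Graded.FieldDeg0.isMaximal hpos h0 hmsp
  obtain ⟨-, φ, -⟩ := hC
  have : LocCoh.IsCohenMacaulayLocalRing (Localization.AtPrime m.toIdeal) :=
    LocCoh.IsCohenMacaulayRing.isCohenMacaulayLocalRing_localization _
  obtain ⟨hdim, hht⟩ := OverField.ringKrullDim_localization 𝒜 hm hn
  have huniq : ∀ nq : ℕ, ringKrullDim (Localization.AtPrime m.toIdeal) = nq → nq = n := fun nq hnq ↦ by
    have := hnq.symm.trans hdim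
    exact_mod_cast this
  have hcanC : GrIso.IsCanonAt C m.toIdeal := fun nq hnq E₁ _ _ f₁ hf₁ ↦ by
    obtain rfl := huniq nq hnq
    exact StarHull.nonempty_canonical_localized he _ φ hf₁
  have eR : ∀ (P : Ideal R) [P.IsPrime],
      LocalizedModule P.primeCompl R ≃ₗ[Localization.AtPrime P] Localization.AtPrime P := fun P _ ↦
    (IsLocalizedModule.iso P.primeCompl (Algebra.linearMap R
      (Localization.AtPrime P))).extendScalarsOfIsLocalization P.primeCompl _
  constructor
  · intro hG
    have hcanR : GrIso.IsCanonAt R m.toIdeal := fun nq hnq E₁ _ _ f₁ hf₁ ↦ by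
      have : LocCoh.IsGorensteinLocalRing (Localization.AtPrime m.toIdeal) :=
        LocCoh.IsGorensteinRing.isGorensteinLocalRing_localization _
      obtain ⟨g, hg⟩ := LCFin.Gorenstein.exists_isInjectiveHull _ nq hnq
      obtain ⟨v, -⟩ := InjHull.Basic.unique hf₁ hg
      exact ⟨(LinearEquiv.congrLeft E₁ _ (eR m.toIdeal)).trans
        ((LinearMap.ringLmapEquivSelf _ _ E₁).trans v)⟩
    obtain ⟨a, ψ, hψ⟩ := GrIso.exists_shift_equiv (𝒜 := 𝒜) 𝒜 𝒞 hm hcanR hcanC
    exact ⟨a, ψ.toLinearMap, ψ.bijective, hψ⟩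
  · rintro ⟨a, f, hf', -⟩
    obtain ⟨E₀, _, _, f₀, hf⟩ := InjHull.Basic.exists_hull (R := Localization.AtPrime m.toIdeal)
      (IsLocalRing.ResidueField (Localization.AtPrime m.toIdeal))
    obtain ⟨eK⟩ := StarHull.nonempty_canonical_localized he n φ hf
    have hK : HasInjectiveDimensionLT (ModuleCat.of (Localization.AtPrime m.toIdeal)
        (LocalizedModule m.toIdeal.primeCompl C)) (n + 1) :=
      LCFin.CanonCM.hasInjectiveDimensionLT hf hdim eK
    refine { isGorensteinLocalRing_localization := fun P _ ↦ ?_ }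
    rw [Goren.Basic.isGorensteinLocalRing_iff_ext]
    refine ⟨2 * n + 1, fun j hj ↦ ?_⟩
    have h := OverField.subsingleton_ext_residue 𝒞 hm hn.le hK P hj
    let eC : LocalizedModule P.primeCompl R ≃ₗ[Localization.AtPrime P] LocalizedModule P.primeCompl C :=
      LinearEquiv.ofBijective (LocalizedModule.map P.primeCompl f)
        ⟨LocalizedModule.map_injective _ _ hf'.1, LocalizedModule.map_surjective _ _ hf'.2⟩
    exact Module.length_eq_zero_iff.1 ((H19.Bass.Main.length_ext_congr _ ((eR P).symm.trans eC) j).trans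
      Module.length_eq_zero)

end Groth.Agent.S18638
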