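import Groth.Statements.S18639
import Groth.Agent.H19.Canon.OverField

set_option autoImplicit false
universe u
open GrLC

namespace Groth.Agent.S18639

open Groth.Agent.H19.Canon Groth.Agent.Lib CategoryTheory

/-- Let R be a graded ring defined over a field which is Cohen–Macaulay, with graded maximal ideal m and
canonical module K_R. Then (i) K_R is a Cohen–Macaulay R-module — stated here at m: the localisation
of K_R at m is a Cohen–Macaulay module over R_m, which is what the published proof computes (the Ext
groups of the residue field into K_R vanish outside degree n = dim R) — and (ii) K_R has finite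
injective dimension as an R-module. Here 'graded ring defined over a field' means R = ⊕_{n ≥ 0} R_n
is Noetherian with R_0 a field (so R is finitely generated over R_0), m = R_+ is its unique graded
maximal ideal and n = dim R; the canonical module K_R (the graded dual of H^n_m(R)) is represented
by a finitely generated graded module C together with a homogeneous isomorphism from Hom_R(C, E)
onto H^n_m(R), where E is a *injective envelope of R/m and H^n_m(R) is computed from a *injective
resolution of R in the graded category; by graded Matlis duality this says exactly that C ≅ K_R as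
graded modules. -/
theorem result (R : Type u) [CommRing R] [LocCoh.IsCohenMacaulayRing R] (𝒜 : ℤ → AddSubgroup R) [GradedRing 𝒜] (hpos : ∀ n : ℤ, n < 0 → 𝒜 n = ⊥) (h0 : IsField (GrLC.deg0 𝒜)) (m : HomogeneousIdeal 𝒜) (hm : GrLC.IsStarLocal 𝒜 m) (hmsp : m.toIdeal = Ideal.span (⋃ n ∈ Set.Ioi (0 : ℤ), (𝒜 n : Set R))) [m.toIdeal.IsMaximal] (n : ℕ) (hn : ringKrullDim R = n) (I : GrLC.StarInjRes 𝒜 𝒜) (E' : Type u) [AddCommGroup E'] [Module R E'] (𝓔 : ℤ → AddSubgroup E') [DirectSum.Decomposition 𝓔] [SetLike.GradedSMul 𝒜 𝓔] (e : (R ⧸ m.toIdeal) →ₗ[R] E') (he : GrLC.IsStarInjHull 𝒜 (GrLC.quotGr 𝒜 m) 𝓔 e) (C : Type u) [AddCommGroup C] [Module R C] (𝒞 : ℤ → AddSubgroup C) [DirectSum.Decomposition 𝒞] [SetLike.GradedSMul 𝒜 𝒞] (hC : GrLC.IsStarCanonical 𝒜 𝒞 𝓔 m n I) : LocCoh.IsCohenMacaulayModule (Localization.AtPrime m.toIdeal) (LocalizedModule m.toIdeal.primeCompl C) ∧ ∃ N : ℕ, CategoryTheory.HasInjectiveDimensionLT (ModuleCat.of R C) N := by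
  have : IsNoetherianRing R := inferInstance
  have : Module.Finite R C := hC.1
  obtain ⟨-, φ, -⟩ := hC
  have : LocCoh.IsCohenMacaulayLocalRing (Localization.AtPrime m.toIdeal) :=
    LocCoh.IsCohenMacaulayRing.isCohenMacaulayLocalRing_localization _
  obtain ⟨hdim, hht⟩ := OverField.ringKrullDim_localization 𝒜 hm hn
  obtain ⟨E₀, _, _, f₀, hf⟩ := InjHull.Basic.exists_hull (R := Localization.AtPrime m.toIdeal)
    (IsLocalRing.ResidueField (Localization.AtPrime m.toIdeal))
  obtain ⟨eK⟩ := StarHull.nonempty_canonical_localized he n φ hf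
  have hK : HasInjectiveDimensionLT (ModuleCat.of (Localization.AtPrime m.toIdeal)
      (LocalizedModule m.toIdeal.primeCompl C)) (n + 1) :=
    LCFin.CanonCM.hasInjectiveDimensionLT hf hdim eK
  refine ⟨?_, OverField.exists_hasInjectiveDimensionLT 𝒞 hm hn.le hK⟩
  have : Nontrivial (LocalizedModule m.toIdeal.primeCompl C) := by
    by_contra h
    rw [not_nontrivial_iff_subsingleton] at h
    have hcan : GrIso.IsCanonAt C m.toIdeal := fun nq hnq E₁ _ _ f₁ hf₁ ↦ by
      obtain rfl : nq = n := by
        have := hnq.symm.trans hdim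
        exact_mod_cast this
      exact StarHull.nonempty_canonical_localized he _ φ hf₁
    exact one_ne_zero ((GrIso.end_eq_smul hcan).2 1 fun x ↦ Subsingleton.elim _ _)
  exact OverField.isCohenMacaulayModule hf hdim eK

end Groth.Agent.S18639
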