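import Groth.Statements.S18640
import Groth.Agent.H19.Canon.OverField

set_option autoImplicit false
universe u
open scoped TensorProduct
open GrLC

namespace Groth.Agent.S18640

open Groth.Agent.H19.Canon Groth.Agent.Lib CategoryTheory

/-- Let R be a graded ring defined over a field which is Cohen–Macaulay, with graded maximal ideal m, n
= dim R, residue field k = R/m and canonical module K_R. Then (iii) the type of K_R is 1: the Bass
number μ_n(m, K_R), the k-dimension of Ext^n over R_m of k into (K_R)_m, equals 1; and (iv) the type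
of R, namely μ_n(m, R), equals ν(K_R) = dim_k (K_R / m K_R), the minimal number of generators of K_R
(written as the k-dimension of k ⊗_R K_R). Here 'graded ring defined over a field' means R = ⊕_{n ≥
0} R_n is Noetherian with R_0 a field (so R is finitely generated over R_0), m = R_+ is its unique
graded maximal ideal and n = dim R; the canonical module K_R (the graded dual of H^n_m(R)) is
represented by a finitely generated graded module C together with a homogeneous isomorphism from
Hom_R(C, E) onto H^n_m(R), where E is a *injective envelope of R/m and H^n_m(R) is computed from a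
*injective resolution of R in the graded category; by graded Matlis duality this says exactly that C
≅ K_R as graded modules. -/
theorem result (R : Type u) [CommRing R] [LocCoh.IsCohenMacaulayRing R] (𝒜 : ℤ → AddSubgroup R) [GradedRing 𝒜] (hpos : ∀ n : ℤ, n < 0 → 𝒜 n = ⊥) (h0 : IsField (GrLC.deg0 𝒜)) (m : HomogeneousIdeal 𝒜) (hm : GrLC.IsStarLocal 𝒜 m) (hmsp : m.toIdeal = Ideal.span (⋃ n ∈ Set.Ioi (0 : ℤ), (𝒜 n : Set R))) [m.toIdeal.IsMaximal] (n : ℕ) (hn : ringKrullDim R = n) (I : GrLC.StarInjRes 𝒜 𝒜) (E' : Type u) [AddCommGroup E'] [Module R E'] (𝓔 : ℤ → AddSubgroup E') [DirectSum.Decomposition 𝓔] [SetLike.GradedSMul 𝒜 𝓔] (e : (R ⧸ m.toIdeal) →ₗ[R] E') (he : GrLC.IsStarInjHull 𝒜 (GrLC.quotGr 𝒜 m) 𝓔 e) (C : Type u) [AddCommGroup C] [Module R C] (𝒞 : ℤ → AddSubgroup C) [DirectSum.Decomposition 𝒞] [SetLike.GradedSMul 𝒜 𝒞] (hC : GrLC.IsStarCanonical 𝒜 𝒞 𝓔 m n I) : GrLC.bassNum m.toIdeal C n = 1 ∧ GrLC.bassNum m.toIdeal R n = (Module.finrank (R ⧸ m.toIdeal) ((R ⧸ m.toIdeal) ⊗[R] C) : ℕ∞) := by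
  have : IsNoetherianRing R := inferInstance
  have : Module.Finite R C := hC.1
  obtain ⟨-, φ, -⟩ := hC
  have : LocCoh.IsCohenMacaulayLocalRing (Localization.AtPrime m.toIdeal) :=
    LocCoh.IsCohenMacaulayRing.isCohenMacaulayLocalRing_localization _
  obtain ⟨hdim, hht⟩ := OverField.ringKrullDim_localization 𝒜 hm hn
  obtain ⟨E₀, _, _, f₀, hf⟩ := InjHull.Basic.exists_hull (R := Localization.AtPrime m.toIdeal)
    (IsLocalRing.ResidueField (Localization.AtPrime m.toIdeal))
  obtain ⟨eK⟩ := StarHull.nonempty_canonical_localized he n φ hf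
  refine ⟨OverField.length_ext_eq_one hf hdim eK, ?_⟩
  have eR : LocalizedModule m.toIdeal.primeCompl R ≃ₗ[Localization.AtPrime m.toIdeal]
      Localization.AtPrime m.toIdeal :=
    (IsLocalizedModule.iso m.toIdeal.primeCompl (Algebra.linearMap R
      (Localization.AtPrime m.toIdeal))).extendScalarsOfIsLocalization m.toIdeal.primeCompl _
  exact (H19.Bass.Main.length_ext_congr _ eR n).trans ((OverField.length_ext_eq_length_tensor hf n _ _
    Depth.CM.isCohenMacaulayModule_self
    ((Module.supportDim_self_eq_ringKrullDim (R := Localization.AtPrime m.toIdeal)).trans hdim) eK).trans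
    (OverField.length_tensor_eq_finrank C))

end Groth.Agent.S18640
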