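import Groth.Statements.S18643
import Groth.Agent.H19.Veronese.Macaulay

set_option autoImplicit false
universe u
open GrLC

namespace Groth.Agent.S18643

open Groth.Agent.H19 Groth.Agent.Lib

/-- Let R be a graded ring defined over a field k = R_0 which is Gorenstein and generated over k by R_1,
with dim R ≥ 1 and dim_k R_1 ≥ 2, and let q ≥ 1. Then the Veronese subring R^(q) is a Gorenstein
ring if and only if q divides the a-invariant a(R). Here 'graded ring defined over a field' means R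
= ⊕_{n ≥ 0} R_n is Noetherian with R_0 a field, and m = R_+ is its unique graded maximal ideal. The
a-invariant a(R) is the largest degree in which the graded local cohomology H^n_m(R) (n = dim R, m =
R_+), computed from a *injective resolution of R in the graded category, is nonzero. The Veronese
subring R^(q) = ⊕_j R_{jq}, regraded by (R^(q))_j = R_{jq}, is presented abstractly as a ℤ-graded
ring R' with an injective ring homomorphism φ : R' → R carrying R'_j onto R_{jq} for every j. -/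
theorem result (R : Type u) [CommRing R] [LocCoh.IsGorensteinRing R] (𝒜 : ℤ → AddSubgroup R) [GradedRing 𝒜] (hpos : ∀ n : ℤ, n < 0 → 𝒜 n = ⊥) (h0 : IsField (GrLC.deg0 𝒜)) (m : HomogeneousIdeal 𝒜) (hm : GrLC.IsStarLocal 𝒜 m) (hmsp : m.toIdeal = Ideal.span (⋃ n ∈ Set.Ioi (0 : ℤ), (𝒜 n : Set R))) (hstd : Ideal.span (⋃ n ∈ Set.Ioi (0 : ℤ), (𝒜 n : Set R)) = Ideal.span ((𝒜 1 : AddSubgroup R) : Set R)) (hR1 : 2 ≤ Module.finrank (GrLC.deg0 𝒜) (GrLC.comp 𝒜 𝒜 1)) (n : ℕ) (hn : ringKrullDim R = n) (h1 : 1 ≤ n) (I : GrLC.StarInjRes 𝒜 𝒜) (a : ℤ) (ha : GrLC.endDeg (I.Hgr m n) = ((a : WithTop ℤ) : WithBot (WithTop ℤ))) (q : ℕ) (hq : 0 < q) (R' : Type u) [CommRing R'] (𝒜' : ℤ → AddSubgroup R') [GradedRing 𝒜'] (φ : R' →+* R) (hφ : Function.Injective φ) (hdeg : ∀ j : ℤ, (𝒜' j).map (φ : R' →+ R) = 𝒜 (j * q)) : LocCoh.IsGorensteinRing R' ↔ (q : ℤ) ∣ a := by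
  obtain ⟨f, deg, s, w, D⟩ := Veronese.Socle.exists_datum hpos h0 hmsp hm hn hq I a ha
  have h : Veronese.IsVeronese 𝒜 𝒜' q φ := ⟨hq, hφ, hdeg⟩
  refine ⟨fun hG ↦ ?_, fun hdvd ↦ Veronese.Gor.isGorensteinRing (m := m) h hpos h0 hmsp D (by
    simpa using dvd_add D.dvd hdvd)⟩
  let m' : HomogeneousIdeal 𝒜' := ⟨Ideal.span (⋃ j ∈ Set.Ioi (0 : ℤ), (𝒜' j : Set R')),
    Ideal.homogeneous_span 𝒜' _ fun x hx ↦ by
      obtain ⟨j, -, hxj⟩ := Set.mem_iUnion₂.1 hx
      exact ⟨j, hxj⟩⟩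
  have hm'sp : m'.toIdeal = Ideal.span (⋃ j ∈ Set.Ioi (0 : ℤ), (𝒜' j : Set R')) := rfl
  have := Graded.FieldDeg0.isMaximal (h.eq_zero_of_neg hpos) (h.isField_deg0 h0) hm'sp
  by_contra hdvd
  have hρ : a % (q : ℤ) ≠ 0 := fun hz ↦ hdvd (Int.dvd_of_emod_eq_zero hz)
  have hρ0 : 0 ≤ a % (q : ℤ) := Int.emod_nonneg a h.q_ne_zero
  have hb := Veronese.Standard.bassNum_eq (m := m) h hpos h0 hmsp hstd hm'sp D hρ0
    (Int.emod_lt_of_pos a (by exact_mod_cast hq)) (Int.dvd_self_sub_emod)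
  have hA := hG.isGorensteinLocalRing_localization m'.toIdeal
  obtain ⟨k, hk⟩ := hA.exists_hasInjectiveDimensionLT
  obtain ⟨d, hd, -, -, -⟩ := Goren.Basic.exists_dim hk
  obtain ⟨hlow, htop⟩ := Bass.GorLocal.length_ext_self d hd
  rw [Veronese.Gor.eq_localization h hm'sp n] at hb
  have hle : Module.finrank (GrLC.deg0 𝒜) (GrLC.comp 𝒜 𝒜 (a % (q : ℤ))) ≤ 1 := by
    rcases eq_or_ne n d with rfl | hne
    · rw [htop] at hb
      exact_mod_cast hb.ge
    · have := hlow n hne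
      rw [Module.length_eq_zero, eq_comm, Nat.cast_eq_zero] at hb
      omega
  have hfin : Module.Finite (GrLC.deg0 𝒜) (GrLC.comp 𝒜 𝒜 (a % (q : ℤ))) := by
    have := Graded.Pieces.isNoetherian_comp (𝒜 := 𝒜) (ℳ := 𝒜) (a % (q : ℤ))
    infer_instance
  obtain ⟨t, rfl⟩ := Nat.exists_eq_add_of_le' h1
  have hreg0 : IsSMulRegular R (f 0) := by
    have := D.reg
    rw [List.ofFn_succ, RingTheory.Sequence.isWeaklyRegular_cons_iff] at this
    exact this.1
  have := Veronese.Macaulay.finrank_one_le hpos h0 hstd (D.deg_pos 0) (D.f_mem 0) hreg0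
    (show 1 ≤ a % (q : ℤ) by omega) hle
  omega

end Groth.Agent.S18643
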