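import Groth.Statements.S18644
import Groth.Agent.Lib.Graded.DeltaDegree
import Groth.Agent.Lib.Graded.HilbertPoly
import Groth.Agent.Lib.Graded.RegularCrit
import Groth.Agent.S17772

set_option autoImplicit false
universe u
open GrLC

namespace Groth.Agent.S18644

open Groth.Agent.Lib.Graded Groth.Agent.Lib.Graded.StarInj

/-- Let R be a graded ring defined over a field k = R_0 which is Cohen–Macaulay and generated over k by
R_1, of dimension r. Then a(R) = −r holds exactly when R is isomorphic to the polynomial ring over k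
in r variables. Here 'graded ring defined over a field' means R = ⊕_{n ≥ 0} R_n is Noetherian with
R_0 a field, and m = R_+ is its unique graded maximal ideal. The a-invariant a(R) is the largest
degree in which the graded local cohomology H^n_m(R) (n = dim R, m = R_+), computed from a
*injective resolution of R in the graded category, is nonzero. (The inequality a(R) ≥ −r of the same
lemma is stated separately.) -/
theorem result (R : Type u) [CommRing R] [LocCoh.IsCohenMacaulayRing R] (𝒜 : ℤ → AddSubgroup R) [GradedRing 𝒜] (hpos : ∀ n : ℤ, n < 0 → 𝒜 n = ⊥) (h0 : IsField (GrLC.deg0 𝒜)) (m : HomogeneousIdeal 𝒜) (hm : GrLC.IsStarLocal 𝒜 m) (hmsp : m.toIdeal = Ideal.span (⋃ n ∈ Set.Ioi (0 : ℤ), (𝒜 n : Set R))) (hstd : Ideal.span (⋃ n ∈ Set.Ioi (0 : ℤ), (𝒜 n : Set R)) = Ideal.span ((𝒜 1 : AddSubgroup R) : Set R)) (r : ℕ) (hr : ringKrullDim R = r) (I : GrLC.StarInjRes 𝒜 𝒜) : GrLC.endDeg (I.Hgr m r) = (((-(r : ℤ) : ℤ) : WithTop ℤ) : WithBot (WithTop ℤ)) ↔ Nonempty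 (R ≃+* MvPolynomial (Fin r) (GrLC.deg0 𝒜)) := by
  classical
  letI : Field (GrLC.deg0 𝒜) := h0.toField
  haveI : IsArtinianRing (GrLC.deg0 𝒜) := inferInstance
  have hK : ∀ c : GrLC.deg0 𝒜, algebraMap (GrLC.deg0 𝒜) R c ∈ 𝒜 0 := fun c => c.2
  have h0' : ∀ x ∈ 𝒜 0, ∃ c : GrLC.deg0 𝒜, algebraMap (GrLC.deg0 𝒜) R c = x := fun x hx => ⟨⟨x, hx⟩, rfl⟩
  haveI : Nontrivial R := by
    by_contra h
    haveI := not_nontrivial_iff_subsingleton.1 h
    exact StarLocal.toIdeal_ne_top hm (Subsingleton.elim _ _)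
  let V : ℤ → Submodule (GrLC.deg0 𝒜) R := fun n => StdPoly.piece (𝒜 := 𝒜) hK n
  have hfin : ∀ n, Module.Finite (GrLC.deg0 𝒜) (V n) := fun n => by
    haveI : IsNoetherian (GrLC.deg0 𝒜) (GrLC.comp 𝒜 𝒜 n) := Pieces.isNoetherian_comp 𝒜 𝒜 n (M := R)
    exact (inferInstanceAs (Module.Finite (GrLC.deg0 𝒜) (GrLC.comp 𝒜 𝒜 n)))
  have hL : ∀ n, ((Module.length (GrLC.deg0 𝒜) (GrLC.comp 𝒜 𝒜 n)).toNat : ℚ) =
      (Module.finrank (GrLC.deg0 𝒜) (V n) : ℚ) := fun n => by
    haveI := hfin n
    change ((Module.length (GrLC.deg0 𝒜) (V n)).toNat : ℚ) = _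
    rw [Module.length_eq_finrank]
    simp
  have hneg : ∀ n : ℤ, n < 0 → Module.finrank (GrLC.deg0 𝒜) (V n) = 0 := fun n hn => by
    haveI : Subsingleton (V n) := ⟨fun x y => Subtype.ext (by
      have hx : (x : R) ∈ 𝒜 n := x.2
      have hy : (y : R) ∈ 𝒜 n := y.2
      rw [hpos n hn, AddSubgroup.mem_bot] at hx hy
      rw [hx, hy])⟩
    exact Module.finrank_zero_of_subsingleton
  have hV0 : Module.finrank (GrLC.deg0 𝒜) (V 0) = 1 := by
    let e : GrLC.deg0 𝒜 ≃ₗ[GrLC.deg0 𝒜] V 0 :=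
      { toFun := fun c => ⟨c.1, c.2⟩
        invFun := fun x => ⟨x.1, x.2⟩
        map_add' := fun _ _ => rfl
        map_smul' := fun _ _ => rfl }
    rw [← e.finrank_eq, Module.finrank_self]
  let X0 : GrLC.GMod.{u} 𝒜 := GrLC.GMod.of 𝒜 R 𝒜
  obtain ⟨P, n₀, hP⟩ := HilbertPoly.exists_poly hpos hstd X0 (inferInstanceAs (Module.Finite R R))
  have hP' : ∀ n, n₀ ≤ n → P.eval (n : ℚ) = (Module.finrank (GrLC.deg0 𝒜) (V n) : ℚ) := fun n hn =>
    (hP n hn).trans (hL n)
  have hend : GrLC.endDeg (I.Hgr m r) =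
      ⨆ (n : ℤ) (_ : P.eval (n : ℚ) ≠ (Module.finrank (GrLC.deg0 𝒜) (V n) : ℚ)),
        ((n : WithTop ℤ) : WithBot (WithTop ℤ)) :=
    (Groth.Agent.S17772.result R 𝒜 hpos hstd m hm r hr I P ⟨n₀, fun n hn => hP n hn⟩).trans
      (iSup_congr fun n => iSup_congr_Prop (by rw [hL n]) fun _ => rfl)
  constructor
  · intro h
    have hag : ∀ n : ℤ, -(r : ℤ) < n → P.eval (n : ℚ) = (Module.finrank (GrLC.deg0 𝒜) (V n) : ℚ) := by
      intro n hn
      by_contra hne
      have hle := le_iSup₂ (f := fun (k : ℤ) (_ : P.eval (k : ℚ) ≠ (Module.finrank (GrLC.deg0 𝒜) (V k) : ℚ)) =>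
        ((k : WithTop ℤ) : WithBot (WithTop ℤ))) n hne
      rw [← hend, h, WithBot.coe_le_coe, WithTop.coe_le_coe] at hle
      omega
    have hdeg : P ≠ 0 → P.natDegree < r := fun hP0 =>
      DeltaDegree.natDegree_lt hpos hm hr.le X0 (inferInstanceAs (Module.Finite R R))
        ((Module.supportDim_self_eq_ringKrullDim (R := R)).trans hr).le hP hP0
    cases r with
    | zero =>
      have hP0 : P = 0 := by
        by_contra hP0
        exact Nat.not_lt_zero _ (hdeg hP0)
      have hzero : ∀ n : ℤ, 0 < n → ∀ x ∈ 𝒜 n, x = 0 := by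
        intro n hn x hx
        have h1 := hag n (by simpa using hn)
        rw [hP0, Polynomial.eval_zero, eq_comm, Nat.cast_eq_zero] at h1
        haveI := hfin n
        haveI := Module.finrank_zero_iff.1 h1
        exact congrArg Subtype.val (Subsingleton.elim (⟨x, hx⟩ : V n) 0)
      have hbij : Function.Bijective (algebraMap (GrLC.deg0 𝒜) R) := by
        refine ⟨Subtype.val_injective, fun x => h0' x ?_⟩
        rw [← Basic.sum_proj 𝒜 x]
        refine sum_mem fun i _ => ?_
        rcases lt_trichotomy i 0 with hi | rfl | hi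
        · rw [RegularCrit.proj_eq_zero_of_neg hpos hi]; exact zero_mem _
        · exact Basic.proj_mem 𝒜 0 x
        · rw [hzero i hi _ (Basic.proj_mem 𝒜 i x)]; exact zero_mem _
      exact ⟨(RingEquiv.ofBijective _ hbij).symm.trans (MvPolynomial.isEmptyRingEquiv _ (Fin 0)).symm⟩
    | succ s =>
      have hPeq : P = HilbertDefect.binom s := by
        refine Polynomial.eq_of_natDegree_lt_card_of_eval_eq P _
          (f := fun j : Fin (s + 1) => -((j : ℕ) : ℚ)) (fun a b hab => Fin.ext (by simpa using hab)) (fun j => ?_) ?_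
        · rw [show (-((j : ℕ) : ℚ)) = ((-((j : ℕ) : ℤ) : ℤ) : ℚ) by push_cast; rfl]
          have hjs := j.2
          rw [hag _ (by omega), HilbertDefect.binom_eq_hS s (by omega), Nat.cast_inj, Hilbert.hS]
          rcases Nat.eq_zero_or_pos (j : ℕ) with hj | hj
          · rw [hj]; simp [hV0]
          · rw [hneg _ (by omega), if_neg (by omega)]
        · rw [Fintype.card_fin, max_lt_iff]
          refine ⟨?_, Nat.lt_succ_of_le (RegularCrit.natDegree_binom_le s)⟩
          rcases eq_or_ne P 0 with hP0 | hP0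
          · simp [hP0]
          · exact hdeg hP0
      have hdim : ∀ n : ℤ, Hilbert.hS s n = Module.finrank (GrLC.deg0 𝒜) (V n) := by
        intro n
        rcases lt_or_ge n 0 with hn | hn
        · rw [hneg n hn, Hilbert.hS, if_neg (by omega)]
        · have h1 := hag n (by omega)
          rw [hPeq, HilbertDefect.binom_eq_hS s (by omega)] at h1
          exact_mod_cast h1
      haveI := hfin 1
      let b := Module.finBasisOfFinrankEq (GrLC.deg0 𝒜) (V 1) (n := s + 1) (by
        rw [← hdim 1, Hilbert.hS, if_pos (by omega)]; simp)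
      have he : ∀ i, (b i : R) ∈ 𝒜 1 := fun i => (b i).2
      have hsurj := StdPoly.surjective hK he hpos h0' hstd fun x hx => by
        have h1 := Submodule.apply_mem_span_image_of_mem_span (V 1).subtype
          (b.span_eq.ge (Submodule.mem_top (x := (⟨x, hx⟩ : V 1))))
        rwa [← Set.range_comp] at h1
      have hinj := StdPoly.injective hK (fun i => (b i : R)) he hsurj fun n => (hdim n).le
      exact ⟨(RingEquiv.ofBijective (MvPolynomial.aeval fun i => (b i : R) :
        MvPolynomial (Fin (s + 1)) (GrLC.deg0 𝒜) →ₐ[GrLC.deg0 𝒜] R).toRingHom ⟨hinj, hsurj⟩).symm⟩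
  · rintro ⟨ψ⟩
    obtain ⟨z, hz, hspan⟩ := RegularCrit.exists_span_one hpos hK h0' ψ
    let φ : MvPolynomial (Fin r) (GrLC.deg0 𝒜) →ₐ[GrLC.deg0 𝒜] R := MvPolynomial.aeval z
    have hsurj : Function.Surjective φ := StdPoly.surjective hK hz hpos h0' hstd hspan
    have hinj : Function.Injective φ := RegularCrit.injective_of_dim φ.toRingHom hsurj hr.ge
    have hdim : ∀ n : ℤ, Module.finrank (GrLC.deg0 𝒜) (GrSyz.stdGr (GrLC.deg0 𝒜) (Fin r) n) =
        Module.finrank (GrLC.deg0 𝒜) (V n) := fun n => by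
      refine LinearEquiv.finrank_eq (LinearEquiv.ofBijective (φ.toLinearMap.restrict
        (p := GrSyz.stdGr (GrLC.deg0 𝒜) (Fin r) n) (q := V n) fun q hq => StdPoly.aeval_mem hK hz hq)
        ⟨fun a b hab => Subtype.ext (hinj (congrArg Subtype.val hab)), fun y => ?_⟩)
      obtain ⟨q, hq⟩ := hsurj y.1
      refine ⟨⟨Basic.proj (GrSyz.stdGr (GrLC.deg0 𝒜) (Fin r)) n q,
        Basic.proj_mem (GrSyz.stdGr (GrLC.deg0 𝒜) (Fin r)) n q⟩, Subtype.ext ?_⟩
      change φ (Basic.proj _ n q) = y.1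
      rw [← StdPoly.proj_aeval hK hz, show MvPolynomial.aeval z q = y.1 from hq,
        Basic.proj_of_mem 𝒜 (show y.1 ∈ 𝒜 n from y.2)]
    rw [hend]
    cases r with
    | zero =>
      have hzero : ∀ n : ℤ, n ≠ 0 → Module.finrank (GrLC.deg0 𝒜) (V n) = 0 := by
        intro n hn
        haveI : Subsingleton (GrSyz.stdGr (GrLC.deg0 𝒜) (Fin 0) n) := ⟨fun a b => Subtype.ext (by
          have hz' : ∀ q ∈ GrSyz.stdGr (GrLC.deg0 𝒜) (Fin 0) n, q = 0 := fun q hq => by
            rw [MvPolynomial.eq_C_of_isEmpty q] at hq ⊢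
            exact Basic.eq_zero_of_mem_mem _ hq (Poly.C_mem (MvPolynomial.constantCoeff q)) hn
          rw [hz' _ a.2, hz' _ b.2])⟩
        rw [← hdim n, Module.finrank_zero_of_subsingleton]
      have hP0 : P = 0 := by
        refine Polynomial.eq_zero_of_infinite_isRoot P ?_
        refine Set.Infinite.mono ?_ ((Set.Ici_infinite (max n₀ 1)).image (Int.cast_injective (α := ℚ)).injOn)
        rintro _ ⟨n, hn, rfl⟩
        have hn' := max_le_iff.1 (Set.mem_Ici.1 hn)
        change P.eval (n : ℚ) = 0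
        rw [hP' n hn'.1, hzero n (by omega), Nat.cast_zero]
      refine le_antisymm (iSup₂_le fun n hn => ?_) (le_of_eq_of_le (by simp) (le_iSup₂
        (f := fun (k : ℤ) (_ : P.eval (k : ℚ) ≠ (Module.finrank (GrLC.deg0 𝒜) (V k) : ℚ)) =>
          ((k : WithTop ℤ) : WithBot (WithTop ℤ))) 0 (by rw [hP0, hV0]; simp)))
      rcases eq_or_ne n 0 with rfl | hne
      · simp
      · exact absurd (by rw [hP0, hzero n hne]; simp) hn
    | succ s =>
      have hdim' : ∀ n : ℤ, (Module.finrank (GrLC.deg0 𝒜) (V n) : ℚ) = (Hilbert.hS s n : ℚ) := fun n => by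
        rw [← hdim n, (Hilbert.finite_stdGr (k := GrLC.deg0 𝒜) (r := s) n).2]
      have hPeq : P = HilbertDefect.binom s := by
        refine Polynomial.eq_of_infinite_eval_eq _ _ ?_
        refine Set.Infinite.mono ?_ ((Set.Ici_infinite (max n₀ 0)).image (Int.cast_injective (α := ℚ)).injOn)
        rintro _ ⟨n, hn, rfl⟩
        have hn' := max_le_iff.1 (Set.mem_Ici.1 hn)
        change P.eval (n : ℚ) = _
        rw [hP' n hn'.1, hdim', HilbertDefect.binom_eq_hS s (by omega)]
      refine le_antisymm (iSup₂_le fun n hn => ?_) (le_iSup₂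
        (f := fun (k : ℤ) (_ : P.eval (k : ℚ) ≠ (Module.finrank (GrLC.deg0 𝒜) (V k) : ℚ)) =>
          ((k : WithTop ℤ) : WithBot (WithTop ℤ))) (-((s + 1 : ℕ) : ℤ)) ?_)
      · rw [WithBot.coe_le_coe, WithTop.coe_le_coe]
        by_contra hlt
        exact hn (by rw [hPeq, HilbertDefect.binom_eq_hS s (by omega), hdim'])
      · rw [hPeq, hdim', Hilbert.hS, if_neg (by omega), Nat.cast_zero,
          show (((-((s + 1 : ℕ) : ℤ)) : ℤ) : ℚ) = -(s : ℚ) - 1 by push_cast; ring]
        exact HilbertDefect.binom_neg s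

end Groth.Agent.S18644
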