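import Groth.Statements.S18648
import Groth.Agent.H84.Segre.PairSetup
import Groth.Agent.H84.Segre.AInv
import Groth.Agent.H84.Segre.DimOneMain

set_option autoImplicit false
set_option linter.style.haveILetI false
universe u
open scoped TensorProduct
open GrSegre

namespace Groth.Agent.S18648

/-- Let R and S be standard graded rings defined over a field k which are Cohen–Macaulay, of dimensions
r ≥ 2 and s ≥ 2. Then the Segre product T = R # S is a Cohen–Macaulay ring if and only if a(R) < 0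
and a(S) < 0. Here a graded ring defined over k is a commutative k-algebra of finite type, graded in
nonnegative degrees by k-subspaces with degree-zero part k·1, and it is standard graded when its
irrelevant ideal is generated by the degree-one piece; the a-invariant a(R) is the largest degree in
which the graded local cohomology H^{dim R}_{R_+}(R), computed from a *injective resolution of R in
the graded category, is nonzero; the Segre product T = R # S = ⊕_n R_n ⊗_k S_n is presented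
abstractly as a graded k-algebra T with an injective k-algebra homomorphism ψ : T → R ⊗_k S carrying
T_n onto the k-span of the elementary tensors a ⊗ b with a ∈ R_n, b ∈ S_n. -/
theorem result (k : Type u) [Field k] (R : Type u) [CommRing R] [Algebra k R] (𝒜 : ℤ → Submodule k R) [GradedAlgebra 𝒜] (hposR : ∀ n : ℤ, n < 0 → 𝒜 n = ⊥) (h0R : 𝒜 0 = Submodule.span k {(1 : R)}) [Algebra.FiniteType k R] (S : Type u) [CommRing S] [Algebra k S] (ℬ : ℤ → Submodule k S) [GradedAlgebra ℬ] (hposS : ∀ n : ℤ, n < 0 → ℬ n = ⊥) (h0S : ℬ 0 = Submodule.span k {(1 : S)}) [Algebra.FiniteType k S] (T : Type u) [CommRing T] [Algebra k T] (𝒯 : ℤ → Submodule k T) [GradedAlgebra 𝒯] (ψ : T →ₐ[k] TensorProduct k R S) (hψ : Function.Injective ψ) (hdegT : ∀ n : ℤ, (𝒯 n).map ψ.toLinearMap = Submodule.span k {x : TensorProduct k R S | ∃ a ∈ 𝒜 n, ∃ b ∈ ℬ n, x = a ⊗ₜ[k] b}) [LocCoh.IsCohenMacaulayRing R] [LocCoh.IsCohenMacaulayRing S] (mR : HomogeneousIdeal 𝒜) (hmR : mR.toIdeal = Ideal.span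 (⋃ n ∈ Set.Ioi (0 : ℤ), (𝒜 n : Set R))) (hstdR : Ideal.span (⋃ n ∈ Set.Ioi (0 : ℤ), (𝒜 n : Set R)) = Ideal.span ((𝒜 1 : Submodule k R) : Set R)) (I : GrLC.StarInjRes 𝒜 𝒜) (mS : HomogeneousIdeal ℬ) (hmS : mS.toIdeal = Ideal.span (⋃ n ∈ Set.Ioi (0 : ℤ), (ℬ n : Set S))) (hstdS : Ideal.span (⋃ n ∈ Set.Ioi (0 : ℤ), (ℬ n : Set S)) = Ideal.span ((ℬ 1 : Submodule k S) : Set S)) (J : GrLC.StarInjRes ℬ ℬ) (r s : ℕ) (hr : ringKrullDim R = r) (hs : ringKrullDim S = s) (h2r : 2 ≤ r) (h2s : 2 ≤ s) : LocCoh.IsCohenMacaulayRing T ↔ GrLC.endDeg (I.Hgr mR r) < 0 ∧ GrLC.endDeg (J.Hgr mS s) < 0 := by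
  classical
  haveI : IsNoetherianRing R := Algebra.FiniteType.isNoetherianRing k R
  let ℳ : ℤ → AddSubgroup R := fun n => (𝒜 n).toAddSubgroup
  let 𝒩 : ℤ → AddSubgroup S := fun n => (ℬ n).toAddSubgroup
  let 𝒬 : ℤ → AddSubgroup T := fun n => (𝒯 n).toAddSubgroup
  letI : DirectSum.Decomposition ℳ :=
    { decompose' := DirectSum.Decomposition.decompose' (ℳ := 𝒜)
      left_inv := DirectSum.Decomposition.left_inv (ℳ := 𝒜)
      right_inv := DirectSum.Decomposition.right_inv (ℳ := 𝒜) }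
  letI : DirectSum.Decomposition 𝒩 :=
    { decompose' := DirectSum.Decomposition.decompose' (ℳ := ℬ)
      left_inv := DirectSum.Decomposition.left_inv (ℳ := ℬ)
      right_inv := DirectSum.Decomposition.right_inv (ℳ := ℬ) }
  letI : DirectSum.Decomposition 𝒬 :=
    { decompose' := DirectSum.Decomposition.decompose' (ℳ := 𝒯)
      left_inv := DirectSum.Decomposition.left_inv (ℳ := 𝒯)
      right_inv := DirectSum.Decomposition.right_inv (ℳ := 𝒯) }
  haveI : SetLike.GradedSMul 𝒜 ℳ := ⟨fun {_ _ _ _} hr hx => SetLike.mul_mem_graded (A := 𝒜) hr hx⟩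
  haveI : SetLike.GradedSMul ℬ 𝒩 := ⟨fun {_ _ _ _} hr hx => SetLike.mul_mem_graded (A := ℬ) hr hx⟩
  haveI : Nontrivial R := by
    by_contra hn
    rw [not_nontrivial_iff_subsingleton] at hn
    rw [ringKrullDim_eq_bot_of_subsingleton] at hr
    exact WithBot.bot_ne_coe hr
  haveI : Nontrivial S := by
    by_contra hn
    rw [not_nontrivial_iff_subsingleton] at hn
    rw [ringKrullDim_eq_bot_of_subsingleton] at hs
    exact WithBot.bot_ne_coe hs
  haveI : Nontrivial (R ⊗[k] S) := by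
    exact (Algebra.TensorProduct.includeLeft_injective (S := k) (R := k) (A := R) (B := S)
      (algebraMap k S).injective).nontrivial
  haveI : Nontrivial T := by
    by_contra hn
    rw [not_nontrivial_iff_subsingleton] at hn
    exact one_ne_zero (α := R ⊗[k] S)
      ((map_one ψ).symm.trans ((congrArg ψ (Subsingleton.elim (1 : T) 0)).trans (map_zero ψ)))
  have hT : GrSeg.IsSegreRing 𝒜 ℬ 𝒯 ψ := ⟨hψ, hdegT⟩
  have hP : GrSeg.IsSegreMod ψ ℳ 𝒩 𝒬 ψ.toLinearMap :=
    { injective := hψ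
      image_piece := fun n => by
        have h := congrArg (fun W : Submodule k (R ⊗[k] S) => (W : Set (R ⊗[k] S))) (hdegT n)
        exact (Submodule.map_coe _ _).symm.trans h
      map_smul := fun t p => by
        show ψ (t * p) = _
        rw [map_mul]
        generalize ψ t = u
        generalize hv : ψ.toLinearMap p = v
        rw [show ψ p = v from hv]
        induction u with
        | zero => simp
        | add a b ha hb => simp [add_mul, ha, hb]
        | tmul a b =>
          clear hv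
          induction v with
          | zero => simp
          | add c d hc hd => simp [mul_add, hc, hd]
          | tmul c d => simp [GrSeg.act_tmul, Algebra.TensorProduct.tmul_mul_tmul] }
  have hmod : ∀ (A : Type u) [CommRing A] [LocCoh.IsCohenMacaulayRing A] (q : Ideal A) [q.IsPrime],
      Subsingleton (LocalizedModule q.primeCompl A) ∨
        LocCoh.IsCohenMacaulayModule (Localization.AtPrime q) (LocalizedModule q.primeCompl A) :=
    fun A _ _ q _ => Or.inr (Groth.Agent.H84.Segre.Dim1.cm_localizedModule_self q)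
  have hTiff : LocCoh.IsCohenMacaulayRing T ↔ ∀ (q : Ideal T) [q.IsPrime],
      Subsingleton (LocalizedModule q.primeCompl T) ∨
        LocCoh.IsCohenMacaulayModule (Localization.AtPrime q) (LocalizedModule q.primeCompl T) := by
    haveI : IsNoetherianRing T :=
      Groth.Agent.S18646.result k R 𝒜 hposR h0R S ℬ hposS h0S T 𝒯 ψ hψ hdegT
    refine ⟨fun h q _ => hmod T q, fun h => { isCohenMacaulayLocalRing_localization := fun q _ => ?_ }⟩
    haveI : IsNoetherianRing (Localization.AtPrime q) :=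
      IsLocalization.isNoetherianRing q.primeCompl _ inferInstance
    rcases h q with h | h
    · exact absurd h (not_subsingleton (Localization.AtPrime q))
    · exact { supportDim_eq_depth := h }
  haveI : IsNoetherianRing S := Algebra.FiniteType.isNoetherianRing k S
  haveI : IsNoetherianRing T :=
    Groth.Agent.S18646.result k R 𝒜 hposR h0R S ℬ hposS h0S T 𝒯 ψ hψ hdegT
  haveI : SetLike.GradedSMul 𝒯 𝒬 :=
    ⟨fun {_ _ _ _} ht hx => SetLike.mul_mem_graded (A := 𝒯) ht hx⟩
  obtain ⟨hposT, h0T⟩ :=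
    Groth.Agent.H84.Segre.DimOneMain.segre_pos 𝒜 ℬ 𝒯 ψ hposR h0R h0S hT
  haveI : Algebra.FiniteType k T := Groth.Agent.H84.Segre.Dim1.finiteType 𝒯 hposT h0T
  have hdR : Module.supportDim R R = r := by rw [Module.supportDim_self_eq_ringKrullDim, hr]
  have hdS : Module.supportDim S S = s := by rw [Module.supportDim_self_eq_ringKrullDim, hs]
  obtain ⟨X⟩ := Groth.Agent.H84.Segre.PairSetup.exists_setup2 (ℳ := ℳ) (𝒩 := 𝒩) hposR h0R hposS h0S
    hdR hdS (hmod R) (hmod S)
  have hdT : Module.supportDim T T = ((r + s - 1 : ℕ) : WithBot ℕ∞) :=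
    (Groth.Agent.H84.Segre.CMDim.supportDim_segre_cm 𝒜 hposR h0R ℬ hposS h0S T 𝒯 ψ hT ℳ 𝒩 T 𝒬
      ψ.toLinearMap hP r s (by omega) (by omega) hdR hdS (hmod R) (hmod S)).resolve_right
      (not_subsingleton T)
  have hpairs := Groth.Agent.H84.Segre.PairSetup.depth_iff (𝒯 := 𝒯) (ψ := ψ) (𝒬 := 𝒬)
    (φ := ψ.toLinearMap) h2r h2s X hT hP hposT h0T
  have hcm : LocCoh.IsCohenMacaulayRing T ↔ ∀ (l : X.L) (q : X.Gen), (X.D : ℤ) ∣ X.g q - X.e l →
      X.g q - X.e l < (s : ℤ) * X.D ∧ -((r : ℤ) * X.D) < X.g q - X.e l := by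
    rw [← hpairs, hTiff]
    exact ⟨fun h => (Groth.Agent.H84.Segre.GradedCM.idealDepth_irr 𝒯 𝒬 hposT h0T hdT h).ge,
      fun h q _ => Groth.Agent.H84.Segre.GradedCM.cm_of_depth 𝒯 𝒬 hposT h0T hdT h q⟩
  have hRV : GrLC.endDeg (I.Hgr mR r) < 0 ↔ ∀ l, X.e l ≤ -1 + (r : ℤ) * X.D := by
    rw [Groth.Agent.H84.Segre.AInv.endDeg_lt_zero_iff,
      ← Groth.Agent.H84.Segre.AInv.vanish_iff 𝒜 ℳ X.x X.e X.a hposR h0R X.hD X.hx X.hxint
        (Groth.Agent.H84.Segre.GradedCM.idealDepth_irr 𝒜 ℳ hposR h0R hdR (hmod R)).ge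
        X.ha X.hMli X.hMsp mR hmR (-1)]
    refine forall₂_congr fun n _ => ?_
    rw [← Groth.Agent.Lib.Graded.Van.V_toMod_iff]
    exact ⟨Groth.Agent.Lib.Graded.Van.V_congr (LinearEquiv.refl R R)
        fun g x hx => (Groth.Agent.Lib.Graded.StarInj.mem_toMod 𝒜 𝒜).mp hx,
      Groth.Agent.Lib.Graded.Van.V_congr (LinearEquiv.refl R R)
        fun g x hx => (Groth.Agent.Lib.Graded.StarInj.mem_toMod 𝒜 𝒜).mpr hx⟩
  have hSV : GrLC.endDeg (J.Hgr mS s) < 0 ↔ ∀ q, X.g q ≤ -1 + (s : ℤ) * X.D := by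
    rw [Groth.Agent.H84.Segre.AInv.endDeg_lt_zero_iff,
      ← Groth.Agent.H84.Segre.AInv.vanish_iff ℬ 𝒩 X.y X.g X.b hposS h0S X.hD X.hy X.hyint
        (Groth.Agent.H84.Segre.GradedCM.idealDepth_irr ℬ 𝒩 hposS h0S hdS (hmod S)).ge
        X.hb X.hNli X.hNsp mS hmS (-1)]
    refine forall₂_congr fun n _ => ?_
    rw [← Groth.Agent.Lib.Graded.Van.V_toMod_iff]
    exact ⟨Groth.Agent.Lib.Graded.Van.V_congr (LinearEquiv.refl S S)
        fun g x hx => (Groth.Agent.Lib.Graded.StarInj.mem_toMod ℬ ℬ).mp hx,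
      Groth.Agent.Lib.Graded.Van.V_congr (LinearEquiv.refl S S)
        fun g x hx => (Groth.Agent.Lib.Graded.StarInj.mem_toMod ℬ ℬ).mpr hx⟩
  rw [hcm, hRV, hSV]
  have he0 : ∀ l, 0 ≤ X.e l := fun l => by
    by_contra hl
    have hm : X.a l ∈ 𝒜 (X.e l) := X.ha l
    rw [hposR _ (by omega), Submodule.mem_bot] at hm
    exact X.hMli.ne_zero (l, 0)
      ((Groth.Agent.H84.Segre.DiagBasis.vec_zero (k := k) X.x X.a l).trans hm)
  have hg0 : ∀ q, 0 ≤ X.g q := fun q => by
    by_contra hq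
    have hm : X.b q ∈ ℬ (X.g q) := X.hb q
    rw [hposS _ (by omega), Submodule.mem_bot] at hm
    exact X.hNli.ne_zero (q, 0)
      ((Groth.Agent.H84.Segre.DiagBasis.vec_zero (k := k) X.y X.b q).trans hm)
  constructor
  · intro h
    constructor
    · intro l
      by_contra hl
      obtain ⟨⟨q, α⟩, hp⟩ := Groth.Agent.H84.Segre.AInv.exists_deg_eq ℬ X.y X.g hstdS 𝒩
        (fun _ _ => Iff.rfl) X.b (by omega) X.hD X.hy X.hb X.hNli X.hNsp
        (X.e l - (r : ℤ) * X.D) (by omega)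
      simp only [Groth.Agent.H84.Segre.DiagBasis.deg] at hp
      have hw : (0 : ℤ) ≤ Groth.Agent.H84.Segre.FreeBasis.wt X.D α := by
        simp only [Groth.Agent.H84.Segre.FreeBasis.wt]; positivity
      have h1 := (h l q ⟨-(((∑ i, α i : ℕ) : ℤ)) - r, by
        simp only [Groth.Agent.H84.Segre.FreeBasis.wt] at hp
        linear_combination hp⟩).2
      omega
    · intro q
      by_contra hq
      obtain ⟨⟨l, α⟩, hp⟩ := Groth.Agent.H84.Segre.AInv.exists_deg_eq 𝒜 X.x X.e hstdR ℳ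
        (fun _ _ => Iff.rfl) X.a (by omega) X.hD X.hx X.ha X.hMli X.hMsp
        (X.g q - (s : ℤ) * X.D) (by omega)
      simp only [Groth.Agent.H84.Segre.DiagBasis.deg] at hp
      have hw : (0 : ℤ) ≤ Groth.Agent.H84.Segre.FreeBasis.wt X.D α := by
        simp only [Groth.Agent.H84.Segre.FreeBasis.wt]; positivity
      have h1 := (h l q ⟨((∑ i, α i : ℕ) : ℤ) + s, by
        simp only [Groth.Agent.H84.Segre.FreeBasis.wt] at hp
        linear_combination -hp⟩).1
      omega
  · rintro ⟨h1, h2⟩ l q -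
    have := h1 l
    have := h2 q
    have := he0 l
    have := hg0 q
    constructor <;> omega

end Groth.Agent.S18648
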