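import Groth.Statements.S1865
import Groth.Agent.H63.GrpConnected
import Groth.Agent.H63.GrpComponent
import Groth.Agent.H63.GrpIrred
-- import your own Groth.Agent.* helpers here

set_option autoImplicit false
universe u v
open CategoryTheory MonoidalCategory CartesianMonoidalCategory MonObj GrpObj AlgebraicGeometry
open GrpSch

namespace Groth.Agent.S1865
open Groth.Agent.H63.GrpIrred
open Groth.Agent.H63.GrpComponent
open Groth.Agent.H63.GrpConnected

/-- A group scheme over a field contains an open and closed subset containing the identity point which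
is a countable union of affine opens. (The source does not mention the identity point; its
construction contains it, and without it the empty set would do.) -/
theorem result (K : Type u) [Field K] (G : Over (Spec (CommRingCat.of K))) [GrpObj G] : ∃ U : G.left.Opens, IsClosed (U : Set G.left) ∧ η[G].left (IsLocalRing.closedPoint K) ∈ U ∧ ∃ V : ℕ → G.left.Opens, (∀ n, IsAffineOpen (V n)) ∧ (U : Set G.left) = ⋃ n, (V n : Set G.left) := by
  obtain ⟨A, hA, hAc, he⟩ := exists_isClopen_isCompact G
  let U : G.left.Opens := ⟨A, hA.isOpen⟩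
  have hcov : ∀ x : A, ∃ V : G.left.Opens, IsAffineOpen V ∧ x.1 ∈ V ∧ (V : Set G.left) ⊆ A := fun x => by
    obtain ⟨V, h1, h2, h3⟩ := exists_isAffineOpen_mem_and_subset (U := U) x.2
    exact ⟨V, h1, h2, h3⟩
  choose V hV hxV hVA using hcov
  obtain ⟨t, ht⟩ := hAc.elim_finite_subcover (fun x : A => (V x : Set G.left)) (fun x => (V x).isOpen)
    (fun x hx => Set.mem_iUnion.2 ⟨⟨x, hx⟩, hxV ⟨x, hx⟩⟩)
  let W : ℕ → G.left.Opens := fun n => if h : n < t.toList.length then V t.toList[n] else ⊥
  refine ⟨U, hA.isClosed, he, W, fun n => ?_, ?_⟩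
  · simp only [W]; split
    · exact hV _
    · exact isAffineOpen_bot _
  · refine Set.Subset.antisymm (fun x hx => ?_) (Set.iUnion_subset fun n => ?_)
    · obtain ⟨a, hat, hxa⟩ := Set.mem_iUnion₂.1 (ht hx)
      obtain ⟨n, hn, rfl⟩ := List.getElem_of_mem (Finset.mem_toList.2 hat)
      refine Set.mem_iUnion.2 ⟨n, ?_⟩
      simp only [W, dif_pos hn]; exact hxa
    · simp only [W]; split
      · exact hVA _
      · simp

end Groth.Agent.S1865
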