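import Groth.Statements.S18651
import Groth.Agent.Lib.Graded.SigmaChange
import Groth.Agent.Lib.Graded.Dual0
import Groth.Agent.Lib.Graded.HullPrime
import Groth.Agent.Lib.Graded.IntGraded
import Groth.Agent.Lib.Grass.RegSeq
import Groth.Agent.Lib.Goren.Rings
import Groth.Agent.S0341
import Groth.Agent.S18645
import Groth.Agent.S18638
import Groth.Agent.Lib.Graded.StarLocal
import Mathlib.RingTheory.KrullDimension.Polynomial
import Mathlib.RingTheory.MvPolynomial.Ideal

set_option autoImplicit false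
universe u
attribute [local instance] MvPolynomial.weightedGradedAlgebra
open GrLC

set_option maxHeartbeats 2000000
namespace Groth.Agent.S18651

open Groth.Agent.Lib.Graded Groth.Agent.Lib.Graded.StarInj

/-- Let k be a field and R = k[X_1, …, X_N] the polynomial ring with deg X_i = w_i > 0. Then the
canonical module of R is K_R = X_1 X_2 ⋯ X_N · R ≅ R(−d) with d = w_1 + ⋯ + w_N; stated here as:
there is a bijective R-linear map R → K_R homogeneous of degree d. The canonical module is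
represented by a finitely generated graded module C together with a homogeneous isomorphism from
Hom_R(C, E) onto H^N_m(R), where m = R_+, E is a *injective envelope of R/m and H^N_m(R) is computed
from a *injective resolution of R in the graded category; by graded Matlis duality this says exactly
that C ≅ K_R as graded modules. -/
theorem result (k : Type u) [Field k] (N : ℕ) (w : Fin N → ℤ) (hw : ∀ i, 0 < w i) (m : HomogeneousIdeal (MvPolynomial.weightedHomogeneousSubmodule k w)) (hm : GrLC.IsStarLocal (MvPolynomial.weightedHomogeneousSubmodule k w) m) (hmsp : m.toIdeal = Ideal.span (⋃ n ∈ Set.Ioi (0 : ℤ), (MvPolynomial.weightedHomogeneousSubmodule k w n : Set (MvPolynomial (Fin N) k)))) (I : GrLC.StarInjRes (MvPolynomial.weightedHomogeneousSubmodule k w) (MvPolynomial.weightedHomogeneousSubmodule k w)) (E' : Type u) [AddCommGroup E'] [Module (MvPolynomial (Fin N) k) E'] (𝓔 : ℤ → AddSubgroup E') [DirectSum.Decomposition 𝓔] [SetLike.GradedSMul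 (MvPolynomial.weightedHomogeneousSubmodule k w) 𝓔] (e : (MvPolynomial (Fin N) k ⧸ m.toIdeal) →ₗ[MvPolynomial (Fin N) k] E') (he : GrLC.IsStarInjHull (MvPolynomial.weightedHomogeneousSubmodule k w) (GrLC.quotGr (MvPolynomial.weightedHomogeneousSubmodule k w) m) 𝓔 e) (C : Type u) [AddCommGroup C] [Module (MvPolynomial (Fin N) k) C] (𝒞 : ℤ → AddSubgroup C) [DirectSum.Decomposition 𝒞] [SetLike.GradedSMul (MvPolynomial.weightedHomogeneousSubmodule k w) 𝒞] (hC : GrLC.IsStarCanonical (MvPolynomial.weightedHomogeneousSubmodule k w) 𝒞 𝓔 m N I) : ∃ f : MvPolynomial (Fin N) k →ₗ[MvPolynomial (Fin N) k] C, Function.Bijective f ∧ GrLC.IsGrHomDeg (MvPolynomial.weightedHomogeneousSubmodule k w) 𝒞 f ((Finset.univ : Finset (Fin N)).sum w) := by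
  classical
  let W := MvPolynomial.weightedHomogeneousSubmodule k w
  let 𝒜 := SigmaChange.pieces W
  let m₀ := SigmaChange.ideal m
  let s : ℤ := (Finset.univ : Finset (Fin N)).sum w
  have hmem : ∀ {d : ℤ} {p : MvPolynomial (Fin N) k}, p ∈ 𝒜 d ↔ ∀ e ∈ p.support, Finsupp.weight w e = d :=
    fun {d p} => ⟨fun h e he => h (MvPolynomial.mem_support_iff.1 he),
      fun h e he => h e (MvPolynomial.mem_support_iff.2 he)⟩
  have hwt : ∀ e : Fin N →₀ ℕ, Finsupp.weight w e = ∑ i, (e i : ℤ) * w i := fun e => by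
    rw [Finsupp.weight_apply, Finsupp.sum_fintype _ _ (by simp)]
    exact Finset.sum_congr rfl fun i _ => by simp
  have hwnn : ∀ e : Fin N →₀ ℕ, 0 ≤ Finsupp.weight w e := fun e => by
    rw [hwt]; exact Finset.sum_nonneg fun i _ => mul_nonneg (Int.natCast_nonneg _) (hw i).le
  have hw0 : ∀ e : Fin N →₀ ℕ, Finsupp.weight w e = 0 → e = 0 := fun e he => by
    rw [hwt, Finset.sum_eq_zero_iff_of_nonneg fun i _ => mul_nonneg (Int.natCast_nonneg _) (hw i).le] at he
    refine Finsupp.ext fun i => ?_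
    have h1 := he i (Finset.mem_univ i)
    rcases mul_eq_zero.1 h1 with h2 | h2
    · exact_mod_cast h2
    · exact absurd h2 (hw i).ne'
  have hpos : ∀ n : ℤ, n < 0 → 𝒜 n = ⊥ := fun n hn => (AddSubgroup.eq_bot_iff_forall _).2 fun p hp => by
    by_contra h0
    obtain ⟨e, he⟩ := MvPolynomial.support_nonempty.2 h0
    exact absurd (hmem.1 hp e he) (ne_of_gt (lt_of_lt_of_le hn (hwnn e)))
  have hC0 : ∀ p ∈ 𝒜 0, p = MvPolynomial.C (MvPolynomial.constantCoeff p) := fun p hp => by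
    refine MvPolynomial.ext _ _ fun e => ?_
    rw [MvPolynomial.coeff_C]
    split_ifs with he
    · subst he; rfl
    · by_contra hne
      exact he (hw0 e (hmem.1 hp e (MvPolynomial.mem_support_iff.2 hne))).symm
  have hCmem : ∀ c : k, (MvPolynomial.C c : MvPolynomial (Fin N) k) ∈ 𝒜 0 := fun c =>
    MvPolynomial.isWeightedHomogeneous_C w c
  have h0 : IsField (GrLC.deg0 𝒜) :=
    { exists_pair_ne := ⟨0, 1, fun h => zero_ne_one (α := MvPolynomial (Fin N) k) (congrArg Subtype.val h)⟩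
      mul_comm := mul_comm
      mul_inv_cancel := fun {a} ha => by
        have h1 : MvPolynomial.constantCoeff a.1 ≠ 0 := fun h => ha (Subtype.ext (by
          rw [hC0 a.1 a.2, h, map_zero]; rfl))
        refine ⟨⟨MvPolynomial.C (MvPolynomial.constantCoeff a.1)⁻¹, hCmem _⟩, Subtype.ext ?_⟩
        change a.1 * _ = 1
        conv_lhs => rw [hC0 a.1 a.2]
        rw [MvPolynomial.constantCoeff_C, ← map_mul, mul_inv_cancel₀ h1, map_one] }
  have hm₀ : GrLC.IsStarLocal 𝒜 m₀ := SigmaChange.isStarLocal hm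
  have hmsp₀ : m₀.toIdeal = Ideal.span (⋃ n ∈ Set.Ioi (0 : ℤ), (𝒜 n : Set (MvPolynomial (Fin N) k))) := hmsp
  have hX : ∀ i, (MvPolynomial.X i : MvPolynomial (Fin N) k) ∈ 𝒜 (w i) := fun i =>
    MvPolynomial.isWeightedHomogeneous_X k w i
  have hXm : ∀ i, (MvPolynomial.X i : MvPolynomial (Fin N) k) ∈ m₀.toIdeal := fun i =>
    hmsp₀ ▸ Ideal.subset_span (Set.mem_iUnion₂.2 ⟨w i, hw i, hX i⟩)
  have hspan : m₀.toIdeal = Ideal.span (Set.range fun i => (MvPolynomial.X i : MvPolynomial (Fin N) k)) := by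
    refine le_antisymm ?_ (Ideal.span_le.2 (Set.range_subset_iff.2 hXm))
    rw [hmsp₀, Ideal.span_le]
    intro p hp
    obtain ⟨d, hd, hpd⟩ := Set.mem_iUnion₂.1 hp
    rw [← Set.image_univ]
    refine MvPolynomial.mem_ideal_span_X_image.2 fun e he => ?_
    by_contra hc
    simp only [Set.mem_univ, true_and, not_exists, not_not] at hc
    have h1 := hmem.1 hpd e he
    rw [Finsupp.ext (g := 0) hc, map_zero] at h1
    exact absurd h1.symm (ne_of_gt (Set.mem_Ioi.1 hd))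
  haveI hG : LocCoh.IsGorensteinRing (MvPolynomial (Fin N) k) :=
    Groth.Agent.Lib.Goren.Rings.isGorensteinRing_of_isRegularRing _
  haveI hCM : LocCoh.IsCohenMacaulayRing (MvPolynomial (Fin N) k) := ⟨fun p _ =>
    haveI := hG.isGorensteinLocalRing_localization p
    Groth.Agent.S0341.result (Localization.AtPrime p)⟩
  have hdim : ringKrullDim (MvPolynomial (Fin N) k) = (N : WithBot ℕ∞) := by
    rw [MvPolynomial.ringKrullDim_of_isNoetherianRing, ringKrullDim_eq_zero_of_field, zero_add]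
    simp
  let I₀ : GrLC.StarInjRes 𝒜 𝒜 := SigmaChange.res (ℳ := W) (ℳ' := 𝒜) (fun _ _ hx => hx) I
  letI := HullPrime.quotDecomp m₀
  haveI := HullPrime.quotGSMul m₀
  obtain ⟨F⟩ := Res.nonempty_starInjRes 𝒜 (GrLC.quotGr 𝒜 m₀)
  have hreg : RingTheory.Sequence.IsRegular (MvPolynomial (Fin N) k)
      (List.ofFn fun i : Fin N => (MvPolynomial.X i : MvPolynomial (Fin N) k)) := by
    refine ⟨?_, fun h => StarLocal.toIdeal_ne_top hm₀ (top_le_iff.1 ?_)⟩
    · simpa using Groth.Agent.Lib.Grass.RegSeq.isWeaklyRegular_X_sub_C (F := k) N 0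
    · rw [h]
      refine Submodule.smul_le.2 fun r hr x _ => ?_
      refine m₀.toIdeal.mul_mem_right _ (Ideal.span_le.2 (fun y hy => ?_) hr)
      obtain ⟨i, rfl⟩ := (List.mem_ofFn' _ _).1 hy
      exact hXm i
  have hend : GrLC.endDeg (F.Hgr m₀ (N - N)) = GrLC.endDeg (I₀.Hgr m₀ N) +
      (((s : ℤ) : WithTop ℤ) : WithBot (WithTop ℤ)) :=
    Groth.Agent.S18645.result (MvPolynomial (Fin N) k) 𝒜 hpos h0 m₀ hm₀ hmsp₀ N hdim I₀ N le_rfl
      (fun i => MvPolynomial.X i) w hX hXm hreg ((MvPolynomial (Fin N) k) ⧸ m₀.toIdeal)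
      (GrLC.quotGr 𝒜 m₀) (Submodule.mkQ m₀.toIdeal)
      (fun g x hx => ⟨x, hx, rfl⟩) (Submodule.mkQ_surjective _) ((Submodule.ker_mkQ _).trans hspan) F
  have hF0 : GrLC.endDeg (F.Hgr m₀ (N - N)) = (((0 : ℤ) : WithTop ℤ) : WithBot (WithTop ℤ)) := by
    rw [Nat.sub_self]
    have htop : ∀ x : MvPolynomial (Fin N) k ⧸ m₀.toIdeal, x ∈ GrLC.gam m₀.toIdeal _ := fun x =>
      ⟨1, fun r hr => by
        rw [pow_one] at hr
        obtain ⟨y, rfl⟩ := Ideal.Quotient.mk_surjective x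
        exact Ideal.Quotient.eq_zero_iff_mem.2 (m₀.toIdeal.mul_mem_right y hr)⟩
    refine le_antisymm ((IntGraded.endDeg_le_iff _).2 fun g hg => (AddSubgroup.eq_bot_iff_forall _).2
      fun x hx => ?_) (IntGraded.le_endDeg _ fun h => ?_)
    · obtain ⟨z, rfl⟩ := (Chain.h0Equiv m₀ F).surjective x
      have h1 := Chain.h0Equiv_symm_grHom m₀ F g _ hx
      rw [LinearEquiv.coe_coe, LinearEquiv.symm_apply_apply] at h1
      obtain ⟨y, hy, hyz⟩ := (show z.1 ∈ GrLC.quotGr 𝒜 m₀ g from h1)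
      have hz : z = 0 := Subtype.ext (hyz.symm.trans (Ideal.Quotient.eq_zero_iff_mem.2
        (hmsp₀ ▸ Ideal.subset_span (Set.mem_iUnion₂.2 ⟨g, hg, hy⟩))))
      rw [hz, map_zero]
    · have h1 := Chain.h0Map_grHom m₀ (E := F) 0 ⟨Ideal.Quotient.mk m₀.toIdeal 1, htop _⟩
        ⟨1, SetLike.one_mem_graded 𝒜, rfl⟩
      rw [h, AddSubgroup.mem_bot] at h1
      have h2 := congrArg Subtype.val ((Chain.h0Map_bijective m₀).1 (h1.trans (map_zero _).symm))
      exact (StarLocal.isMaximal hpos hm₀).ne_top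
        ((Ideal.eq_top_iff_one _).2 (Ideal.Quotient.eq_zero_iff_mem.1 h2))
  have haI : GrLC.endDeg (I₀.Hgr m₀ N) = (((-s : ℤ) : WithTop ℤ) : WithBot (WithTop ℤ)) := by
    rw [hF0] at hend
    generalize GrLC.endDeg (I₀.Hgr m₀ N) = x at hend ⊢
    cases x with
    | bot => rw [WithBot.bot_add] at hend; exact absurd hend WithBot.coe_ne_bot
    | coe y =>
      rw [← WithBot.coe_add, WithBot.coe_inj] at hend
      cases y with
      | top => rw [top_add] at hend; exact absurd hend WithTop.coe_ne_top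
      | coe z =>
        rw [← WithTop.coe_add, WithTop.coe_inj] at hend
        rw [WithBot.coe_inj, WithTop.coe_inj]
        omega
  let e₀ : MvPolynomial (Fin N) k ⧸ m₀.toIdeal →ₗ[MvPolynomial (Fin N) k] E' := e
  have he₀ : GrLC.IsStarInjHull 𝒜 (GrLC.quotGr 𝒜 m₀) 𝓔 e₀ :=
    { toIsStarEss := ⟨he.injective, he.grHom, he.essential⟩
      starInj := SigmaChange.isStarInj he.starInj }
  obtain ⟨hfin, Φ, hΦ⟩ := hC
  have hC₀ : GrLC.IsStarCanonical 𝒜 𝒞 𝓔 m₀ N I₀ := ⟨hfin, Φ, hΦ⟩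
  obtain ⟨a, f, hf, hfdeg⟩ := (Groth.Agent.S18638.result (MvPolynomial (Fin N) k) 𝒜 hpos h0 m₀ hm₀ hmsp₀ N
    hdim I₀ E' 𝓔 e₀ he₀ C 𝒞 hC₀).1 hG
  refine ⟨f, hf, ?_⟩
  suffices ha : a = s by
    intro g x hx
    have h := hfdeg g x hx
    rwa [ha] at h
  letI : Field (GrLC.deg0 𝒜) := h0.toField
  have hiff : ∀ d : ℤ, GrLC.comp 𝒜 𝒞 d = ⊥ ↔ I₀.Hgr m₀ N (-d) = ⊥ := fun d => by
    haveI := hfin
    haveI : IsNoetherian (GrLC.deg0 𝒜) (GrLC.comp 𝒜 𝒞 d) := Pieces.isNoetherian_comp 𝒜 𝒞 d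
    obtain ⟨hfinH, hr⟩ := Dual0.finrank_eq hpos h0 hmsp₀ he₀ hC₀ (-d)
    rw [neg_neg] at hr
    haveI := hfinH
    rw [← Submodule.finrank_eq_zero, ← hr, Submodule.finrank_eq_zero, LES.Hcomp_eq_bot_iff]
  have hbound : ∀ d : ℤ, GrLC.comp 𝒜 𝒞 d ≠ ⊥ → s ≤ d := fun d hd => by
    have h1 := IntGraded.le_endDeg _ fun h => hd ((hiff d).2 h)
    rw [haI, WithBot.coe_le_coe, WithTop.coe_le_coe] at h1
    omega
  have h1 : s ≤ a := hbound a fun h => by
    have hf1 : f 1 ∈ 𝒞 (0 + a) := hfdeg 0 1 (SetLike.one_mem_graded 𝒜)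
    rw [zero_add] at hf1
    have h2 : f 1 = 0 := (Submodule.eq_bot_iff _).1 h _ hf1
    exact one_ne_zero (hf.1 (h2.trans (map_zero f).symm))
  refine le_antisymm (le_of_not_gt fun hsa => ?_) h1
  have hne : I₀.Hgr m₀ N (-s) ≠ ⊥ := fun hbot => by
    have hle : GrLC.endDeg (I₀.Hgr m₀ N) ≤ (((-s - 1 : ℤ) : WithTop ℤ) : WithBot (WithTop ℤ)) := by
      refine (IntGraded.endDeg_le_iff _).2 fun g hg => ?_
      by_contra hne
      have h2 := IntGraded.le_endDeg _ hne
      rw [haI, WithBot.coe_le_coe, WithTop.coe_le_coe] at h2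
      exact hne ((show g = -s by omega) ▸ hbot)
    rw [haI, WithBot.coe_le_coe, WithTop.coe_le_coe] at hle
    omega
  obtain ⟨c, hc, hc0⟩ := (Submodule.ne_bot_iff _).1 (fun h => hne ((hiff s).1 h))
  obtain ⟨x, rfl⟩ := hf.2 c
  have h2 := Basic.map_proj_deg (ℳ := 𝒜) (𝒩 := 𝒞) hfdeg (s - a) x
  rw [sub_add_cancel, Basic.proj_of_mem 𝒞 (show f x ∈ 𝒞 s from hc)] at h2
  have h3 := Basic.proj_mem 𝒜 (s - a) x
  rw [hpos _ (by omega), AddSubgroup.mem_bot] at h3
  rw [h3, map_zero] at h2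
  exact hc0 h2.symm

end Groth.Agent.S18651
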