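import Groth.Statements.S18652
import Groth.Agent.Lib.Graded.Seg.CMCrit

set_option autoImplicit false
universe u
open scoped TensorProduct
open GrSegre

namespace Groth.Agent.S18652

open Groth.Agent.Lib.Graded Groth.Agent.Lib.Graded.StarInj

/-- Let R and S be graded rings defined over a field k which are Cohen–Macaulay, of dimensions r ≥ 2 and
s ≥ 2. Then the Segre product T = R # S is a Cohen–Macaulay ring if and only if R # H^s_{S_+}(S) = 0
and H^r_{R_+}(R) # S = 0, that is, for every degree n, R_n = 0 or H^s_{S_+}(S)_n = 0, and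
H^r_{R_+}(R)_n = 0 or S_n = 0. Here a graded ring defined over k is a commutative k-algebra of
finite type, graded in nonnegative degrees by k-subspaces with degree-zero part k·1; the graded
local cohomology pieces are computed from *injective resolutions of R and S in the graded category;
the Segre product T = ⊕_n R_n ⊗_k S_n is presented abstractly as a graded k-algebra T with an
injective k-algebra homomorphism ψ : T → R ⊗_k S carrying T_n onto the k-span of the elementary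
tensors a ⊗ b with a ∈ R_n, b ∈ S_n. -/
theorem result (k : Type u) [Field k] (R : Type u) [CommRing R] [Algebra k R] (𝒜 : ℤ → Submodule k R) [GradedAlgebra 𝒜] (hposR : ∀ n : ℤ, n < 0 → 𝒜 n = ⊥) (h0R : 𝒜 0 = Submodule.span k {(1 : R)}) [Algebra.FiniteType k R] (S : Type u) [CommRing S] [Algebra k S] (ℬ : ℤ → Submodule k S) [GradedAlgebra ℬ] (hposS : ∀ n : ℤ, n < 0 → ℬ n = ⊥) (h0S : ℬ 0 = Submodule.span k {(1 : S)}) [Algebra.FiniteType k S] (T : Type u) [CommRing T] [Algebra k T] (𝒯 : ℤ → Submodule k T) [GradedAlgebra 𝒯] (ψ : T →ₐ[k] TensorProduct k R S) (hψ : Function.Injective ψ) (hdegT : ∀ n : ℤ, (𝒯 n).map ψ.toLinearMap = Submodule.span k {x : TensorProduct k R S | ∃ a ∈ 𝒜 n, ∃ b ∈ ℬ n, x = a ⊗ₜ[k] b}) [LocCoh.IsCohenMacaulayRing R] [LocCoh.IsCohenMacaulayRing S] (mR : HomogeneousIdeal 𝒜) (hmR : mR.toIdeal = Ideal.span (⋃ n ∈ Set.Ioi (0 : ℤ), (𝒜 n : Set R))) (I : GrLC.StarInjRes 𝒜 𝒜) (mS : HomogeneousIdeal ℬ) (hmS : mS.toIdeal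 = Ideal.span (⋃ n ∈ Set.Ioi (0 : ℤ), (ℬ n : Set S))) (J : GrLC.StarInjRes ℬ ℬ) (r s : ℕ) (hr : ringKrullDim R = r) (hs : ringKrullDim S = s) (h2r : 2 ≤ r) (h2s : 2 ≤ s) : LocCoh.IsCohenMacaulayRing T ↔ (∀ n : ℤ, 𝒜 n = ⊥ ∨ J.Hcomp mS s n = ⊥) ∧ (∀ n : ℤ, I.Hcomp mR r n = ⊥ ∨ ℬ n = ⊥) := by
  haveI : IsNoetherianRing T := Groth.Agent.S18646.result k R 𝒜 hposR h0R S ℬ hposS h0S T 𝒯 ψ hψ hdegT
  haveI : Nontrivial R := by
    by_contra hn
    rw [not_nontrivial_iff_subsingleton] at hn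
    rw [ringKrullDim_eq_bot_of_subsingleton] at hr
    exact WithBot.bot_ne_coe hr
  haveI : Nontrivial S := by
    by_contra hn
    rw [not_nontrivial_iff_subsingleton] at hn
    rw [ringKrullDim_eq_bot_of_subsingleton] at hs
    exact WithBot.bot_ne_coe hs
  haveI : Nontrivial T := Groth.Agent.Lib.Graded.Seg.nontrivial_segre ψ
  have key := Groth.Agent.Lib.Graded.Seg.cm_segre_iff hposR h0R hposS h0S (T := T) (𝒯 := 𝒯) ⟨hψ, hdegT⟩ hmR hmS
    (Groth.Agent.Lib.Graded.Seg.asPieces I) (Groth.Agent.Lib.Graded.Seg.asPieces J)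
    (Groth.Agent.Lib.Graded.Seg.isSegreMod_self ⟨hψ, hdegT⟩) h2r h2s
    (by rw [Module.supportDim_self_eq_ringKrullDim, hr]) (by rw [Module.supportDim_self_eq_ringKrullDim, hs])
    ((Groth.Agent.Lib.Graded.Seg.cmRing_iff R).1 inferInstance)
    ((Groth.Agent.Lib.Graded.Seg.cmRing_iff S).1 inferInstance)
  rw [Groth.Agent.Lib.Graded.Seg.cmRing_iff T]
  refine key.trans (and_congr (forall_congr' fun n => or_congr ?_ Iff.rfl) (forall_congr' fun n => or_congr Iff.rfl ?_))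
  · exact ⟨fun h => (Submodule.toAddSubgroup_inj (𝒜 n) ⊥).1 h, fun h => (Submodule.toAddSubgroup_inj (𝒜 n) ⊥).2 h⟩
  · exact ⟨fun h => (Submodule.toAddSubgroup_inj (ℬ n) ⊥).1 h, fun h => (Submodule.toAddSubgroup_inj (ℬ n) ⊥).2 h⟩

end Groth.Agent.S18652
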