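import Groth.Statements.S18653
import Mathlib
import Groth.Agent.Lib.Dim.Basic

set_option autoImplicit false
universe u
open GrLC

namespace Groth.Agent.S18653

theorem hneg' {k R : Type u} [CommSemiring k] [AddCommMonoid R] [Module k R] {𝒜 : ℤ → Submodule k R}
    (hpos : ∀ n : ℤ, n < 0 → 𝒜 n = ⊥) {n : ℤ} (hn : n < 0) : 𝒜 n = ⊥ := hpos n hn

/-- Two homogeneous elements of the same positive degree in a graded domain of transcendence degree one
over an algebraically closed field are proportional. -/
theorem proportional (k : Type u) [Field k] [IsAlgClosed k] (R : Type u) [CommRing R] [IsDomain R]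
    [Algebra k R] (𝒜 : ℤ → Submodule k R) [GradedAlgebra 𝒜] (htr : Algebra.trdeg k R = 1)
    {N : ℤ} (hN : 0 < N) {u v : R} (hu : u ∈ 𝒜 N) (hv : v ∈ 𝒜 N) (hv0 : v ≠ 0) :
    ∃ c : k, u = c • v := by
  classical
  have hdep : ¬ AlgebraicIndependent k ![u, v] := by
    intro h
    have := h.lift_cardinalMk_le_trdeg
    rw [htr] at this
    simp at this
  rw [algebraicIndependent_iff] at hdep
  push Not at hdep
  obtain ⟨P, hP, hP0⟩ := hdep
  have hev : ∀ Q : MvPolynomial (Fin 2) k, MvPolynomial.aeval ![u, v] Q =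
      ∑ d ∈ Q.support, algebraMap k R (Q.coeff d) * (u ^ d 0 * v ^ d 1) := by
    intro Q
    rw [MvPolynomial.aeval_def, MvPolynomial.eval₂_eq']
    simp [Fin.prod_univ_two]
  have hmem : ∀ j : ℕ, MvPolynomial.aeval ![u, v] (MvPolynomial.homogeneousComponent j P) ∈ 𝒜 ((j : ℤ) * N) := by
    intro j
    rw [hev]
    refine Submodule.sum_mem _ fun d hd => ?_
    rw [← Algebra.smul_def]
    refine Submodule.smul_mem _ _ ?_
    have hdeg : d 0 + d 1 = j := by
      have := (MvPolynomial.homogeneousComponent_isHomogeneous j P) (MvPolynomial.mem_support_iff.mp hd)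
      simpa [Finsupp.weight_apply, Finsupp.sum_fintype, Fin.sum_univ_two] using this
    have := SetLike.mul_mem_graded (SetLike.pow_mem_graded (d 0) hu) (SetLike.pow_mem_graded (d 1) hv)
    rwa [nsmul_eq_mul, nsmul_eq_mul, ← add_mul, ← Nat.cast_add, hdeg] at this
  have hzero : ∀ j : ℕ, MvPolynomial.aeval ![u, v] (MvPolynomial.homogeneousComponent j P) = 0 := by
    intro j
    by_cases hj : j ∈ Finset.range (P.totalDegree + 1)
    · have h2 : GradedRing.proj 𝒜 ((j : ℤ) * N) (MvPolynomial.aeval ![u, v]
          (∑ i ∈ Finset.range (P.totalDegree + 1), MvPolynomial.homogeneousComponent i P)) = 0 := by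
        rw [MvPolynomial.sum_homogeneousComponent, hP, map_zero]
      rw [map_sum, map_sum, Finset.sum_eq_single j (fun i _ hij => ?_) (fun h => absurd hj h),
        GradedRing.proj_apply, DirectSum.decompose_of_mem_same 𝒜 (hmem j)] at h2
      · exact h2
      · rw [GradedRing.proj_apply]
        exact DirectSum.decompose_of_mem_ne 𝒜 (hmem i) (fun h =>
          hij (Int.natCast_inj.mp (mul_right_cancel₀ hN.ne' h)))
    · rw [MvPolynomial.homogeneousComponent_eq_zero _ _ (by simpa using hj), map_zero]
  obtain ⟨j, hj⟩ : ∃ j : ℕ, MvPolynomial.homogeneousComponent j P ≠ 0 := by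
    by_contra! h
    apply hP0
    rw [← MvPolynomial.sum_homogeneousComponent P]
    exact Finset.sum_eq_zero fun i _ => h i
  set Q := MvPolynomial.homogeneousComponent j P with hQ
  have hdeg : ∀ d ∈ Q.support, d 0 + d 1 = j := by
    intro d hd
    have := (MvPolynomial.homogeneousComponent_isHomogeneous j P) (MvPolynomial.mem_support_iff.mp hd)
    simpa [Finsupp.weight_apply, Finsupp.sum_fintype, Fin.sum_univ_two] using this
  let K := FractionRing R
  have hinj : Function.Injective (algebraMap R K) := IsFractionRing.injective R K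
  have hv' : algebraMap R K v ≠ 0 := fun h => hv0 (hinj (h.trans (map_zero _).symm))
  let q : Polynomial k := ∑ d ∈ Q.support, Polynomial.monomial (d 0) (Q.coeff d)
  have hq : q ≠ 0 := by
    obtain ⟨d, hd⟩ := MvPolynomial.support_nonempty.mpr hj
    intro h
    have hc := congrArg (fun p => Polynomial.coeff p (d 0)) h
    simp only [q, Polynomial.finset_sum_coeff, Polynomial.coeff_zero] at hc
    rw [Finset.sum_eq_single d (fun e he hed => ?_) (fun h' => absurd hd h'), Polynomial.coeff_monomial,
      if_pos rfl] at hc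
    · exact MvPolynomial.mem_support_iff.mp hd hc
    · rw [Polynomial.coeff_monomial, if_neg]
      intro h0
      apply hed
      ext i
      fin_cases i
      · exact h0
      · have := hdeg d hd
        have := hdeg e he
        show e 1 = d 1
        omega
  have halg : IsAlgebraic k (algebraMap R K u / algebraMap R K v) := by
    refine ⟨q, hq, ?_⟩
    have h := congrArg (algebraMap R K) (hzero j)
    rw [hev, map_sum, map_zero] at h
    have : Polynomial.aeval (algebraMap R K u / algebraMap R K v) q * algebraMap R K v ^ j = 0 := by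
      rw [← h, map_sum, Finset.sum_mul]
      refine Finset.sum_congr rfl fun d hd => ?_
      have hvj : algebraMap R K v ^ j = algebraMap R K v ^ d 0 * algebraMap R K v ^ d 1 := by
        rw [← pow_add, hdeg d hd]
      rw [Polynomial.aeval_monomial, map_mul, map_mul, map_pow, map_pow, ← IsScalarTower.algebraMap_apply,
        hvj, div_pow]
      have hne : algebraMap R K v ^ d 0 ≠ 0 := pow_ne_zero _ hv'
      rw [← hQ, mul_assoc, ← mul_assoc (_ / _), div_mul_cancel₀ _ hne]
    exact (mul_eq_zero.mp this).resolve_right (pow_ne_zero _ hv')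
  obtain ⟨c, hc⟩ : ∃ c : k, algebraMap k K c = algebraMap R K u / algebraMap R K v := by
    have hint := halg.isIntegral
    have := IsAlgClosed.degree_eq_one_of_irreducible k (minpoly.irreducible hint)
    exact minpoly.degree_eq_one_iff.mp this
  refine ⟨c, hinj ?_⟩
  rw [Algebra.smul_def, map_mul, ← IsScalarTower.algebraMap_apply, hc, div_mul_cancel₀ _ hv']


/-- Let R be a graded ring defined over an algebraically closed field k which is an integral domain of
dimension one. Then R is isomorphic to a semigroup ring (the subring of k[T] spanned by the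
monomials T^h, h in an additive submonoid H of ℕ); moreover, if R is generated over k by R_1, then R
is a polynomial ring k[T]. Here a graded ring defined over k is a commutative k-algebra of finite
type graded in nonnegative degrees by k-subspaces with degree-zero part k·1; the isomorphisms
asserted are ring isomorphisms. -/
theorem result (k : Type u) [Field k] [IsAlgClosed k] (R : Type u) [CommRing R] [IsDomain R] [Algebra k R] (𝒜 : ℤ → Submodule k R) [GradedAlgebra 𝒜] (hpos : ∀ n : ℤ, n < 0 → 𝒜 n = ⊥) (h0 : 𝒜 0 = Submodule.span k {(1 : R)}) [Algebra.FiniteType k R] (h1 : ringKrullDim R = 1) : (∃ H : AddSubmonoid ℕ, Nonempty (R ≃+* AddMonoidAlgebra k H)) ∧ (Ideal.span (⋃ n ∈ Set.Ioi (0 : ℤ), (𝒜 n : Set R)) = Ideal.span ((𝒜 1 : Submodule k R) : Set R) → Nonempty (R ≃+* Polynomial k)) := by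
  classical
  have hdim : Groth.Agent.Lib.Dim.Basic.trdegNat k R = 1 := by
    have := Groth.Agent.Lib.Dim.Basic.ringKrullDim_eq_trdegNat k R
    rw [h1] at this
    exact_mod_cast this.symm
  have htr : Algebra.trdeg k R = 1 := by
    rw [Groth.Agent.Lib.Dim.Basic.trdeg_eq_trdegNat k R, hdim, Nat.cast_one]
  -- a nonzero element of positive degree
  obtain ⟨N, a, hN, ha, ha0⟩ : ∃ N : ℤ, ∃ a : R, 0 < N ∧ a ∈ 𝒜 N ∧ a ≠ 0 := by
    by_contra! hcon
    have hall : ∀ r : R, r ∈ 𝒜 0 := by
      intro r
      rw [← DirectSum.sum_support_decompose 𝒜 r]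
      refine Submodule.sum_mem _ fun i _ => ?_
      rcases lt_trichotomy i 0 with hi | hi | hi
      · have : ((DirectSum.decompose 𝒜 r i : 𝒜 i) : R) = 0 := by
          simpa [hneg' hpos hi] using (DirectSum.decompose 𝒜 r i).2
        rw [this]
        exact zero_mem _
      · subst hi
        exact (DirectSum.decompose 𝒜 r 0).2
      · rw [hcon i _ hi (DirectSum.decompose 𝒜 r i).2]
        exact zero_mem _
    have hsurj : Function.Surjective (algebraMap k R) := fun r => by
      have := hall r
      rw [h0, Submodule.mem_span_singleton] at this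
      obtain ⟨c, rfl⟩ := this
      exact ⟨c, by rw [Algebra.algebraMap_eq_smul_one]⟩
    have : ringKrullDim R ≤ ringKrullDim k := ringKrullDim_le_of_surjective _ hsurj
    rw [h1, ringKrullDim_eq_zero_of_field k] at this
    exact absurd this (by decide)
  -- a rational point at which `a` does not vanish
  obtain ⟨φ, hφa⟩ : ∃ φ : R →ₐ[k] k, φ a ≠ 0 := by
    haveI : IsJacobsonRing R := isJacobsonRing_of_finiteType (A := k)
    obtain ⟨m, hm, ham⟩ : ∃ m : Ideal R, m.IsMaximal ∧ a ∉ m := by
      by_contra! h
      refine ha0 ?_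
      have hb : (⊥ : Ideal R).jacobson = ⊥ := IsJacobsonRing.out inferInstance (Ideal.isPrime_bot.isRadical)
      rw [← Ideal.mem_bot, ← hb]
      exact Ideal.mem_sInf.mpr fun {m} hm => h m hm.2
    letI := Ideal.Quotient.field m
    haveI : Module.Finite k (R ⧸ m) := finite_of_finite_type_of_isJacobsonRing k (R ⧸ m)
    let e : k ≃ₐ[k] R ⧸ m := AlgEquiv.ofBijective (Algebra.ofId k (R ⧸ m))
      IsAlgClosed.algebraMap_bijective_of_isIntegral
    refine ⟨e.symm.toAlgHom.comp (Ideal.Quotient.mkₐ k m), fun h => ham ?_⟩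
    have h' : e.symm (Ideal.Quotient.mk m a) = 0 := h
    rw [map_eq_zero_iff _ e.symm.injective] at h'
    exact Ideal.Quotient.eq_zero_iff_mem.mp h'
  have hφne : ∀ (n : ℤ) (b : R), b ∈ 𝒜 n → b ≠ 0 → φ b ≠ 0 := by
    intro n b hb hb0
    rcases lt_trichotomy n 0 with hn | hn | hn
    · rw [hneg' hpos hn] at hb
      exact absurd ((Submodule.mem_bot k).mp hb) hb0
    · subst hn
      rw [h0, Submodule.mem_span_singleton] at hb
      obtain ⟨c, rfl⟩ := hb
      intro hc
      rw [map_smul, map_one, smul_eq_mul, mul_one] at hc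
      exact hb0 (by rw [hc, zero_smul])
    · have hu : b ^ N.toNat ∈ 𝒜 (n * N) := by
        have := SetLike.pow_mem_graded N.toNat hb
        rwa [nsmul_eq_mul, Int.toNat_of_nonneg hN.le, mul_comm] at this
      have hv : a ^ n.toNat ∈ 𝒜 (n * N) := by
        have := SetLike.pow_mem_graded n.toNat ha
        rwa [nsmul_eq_mul, Int.toNat_of_nonneg hn.le] at this
      obtain ⟨c, hc⟩ := proportional k R 𝒜 htr (mul_pos hn hN) hu hv (pow_ne_zero _ ha0)
      intro hb'
      have := congrArg φ hc
      rw [map_pow, map_smul, map_pow, hb', zero_pow (by omega), smul_eq_mul, eq_comm, mul_eq_zero,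
        or_iff_left (pow_ne_zero _ hφa)] at this
      rw [this, zero_smul] at hc
      exact pow_ne_zero _ hb0 hc
  have huniq : ∀ (n : ℤ) (b c : R), b ∈ 𝒜 n → c ∈ 𝒜 n → φ b = φ c → b = c := by
    intro n b c hb hc h
    by_contra hne
    exact hφne n (b - c) (sub_mem hb hc) (sub_ne_zero.mpr hne) (by rw [map_sub, h, sub_self])
  let H : AddSubmonoid ℕ :=
    { carrier := {n | ∃ b : R, b ∈ 𝒜 n ∧ b ≠ 0}
      zero_mem' := ⟨1, SetLike.one_mem_graded 𝒜, one_ne_zero⟩
      add_mem' := by
        rintro x y ⟨b, hb, hb0⟩ ⟨c, hc, hc0⟩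
        exact ⟨b * c, by simpa using SetLike.mul_mem_graded hb hc, mul_ne_zero hb0 hc0⟩ }
  have he : ∀ h : H, ∃ b : R, b ∈ 𝒜 (h : ℕ) ∧ φ b = 1 := by
    rintro ⟨n, b, hb, hb0⟩
    exact ⟨(φ b)⁻¹ • b, Submodule.smul_mem _ _ hb,
      by rw [map_smul, smul_eq_mul, inv_mul_cancel₀ (hφne _ b hb hb0)]⟩
  choose e heM heφ using he
  let χ : Multiplicative H →* R :=
    { toFun := fun h => e h.toAdd
      map_one' := huniq 0 _ _ (by simpa using heM 0) (SetLike.one_mem_graded 𝒜) (by rw [heφ, map_one])
      map_mul' := fun x y => huniq _ _ _ (heM (x.toAdd + y.toAdd))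
        (by simpa using SetLike.mul_mem_graded (heM x.toAdd) (heM y.toAdd))
        (by rw [heφ, map_mul, heφ, heφ, one_mul]) }
  let ψ : AddMonoidAlgebra k H →ₐ[k] R := AddMonoidAlgebra.lift k R H χ
  have hli : LinearIndependent k e := by
    refine iSupIndep.linearIndependent (fun h : H => 𝒜 ((h : ℕ) : ℤ)) ?_ heM fun h => ?_
    · exact (DirectSum.Decomposition.isInternal 𝒜).submodule_iSupIndep.comp fun x y hxy => by
        exact Subtype.ext (by exact_mod_cast hxy)
    · intro h'
      have := heφ h
      rw [h', map_zero] at this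
      exact zero_ne_one this
  have hψ : Function.Bijective ψ := by
    constructor
    · rw [injective_iff_map_eq_zero]
      intro f hf
      rw [AddMonoidAlgebra.lift_apply] at hf
      have hl : Finsupp.linearCombination k e f.coeff = 0 := by
        rw [Finsupp.linearCombination_apply]
        exact hf
      have := linearIndependent_iff.mp hli f.coeff hl
      exact AddMonoidAlgebra.coeff_injective this
    · intro r
      suffices r ∈ ψ.range from this
      rw [← DirectSum.sum_support_decompose 𝒜 r]
      refine Subalgebra.sum_mem _ fun i _ => ?_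
      set b : R := ((DirectSum.decompose 𝒜 r i : 𝒜 i) : R) with hbdef
      have hb : b ∈ 𝒜 i := (DirectSum.decompose 𝒜 r i).2
      by_cases hb0 : b = 0
      · rw [hb0]; exact zero_mem _
      have hi : 0 ≤ i := by
        by_contra! hi
        rw [hneg' hpos hi] at hb
        exact hb0 ((Submodule.mem_bot k).mp hb)
      lift i to ℕ using hi
      refine ⟨φ b • AddMonoidAlgebra.single ⟨i, b, hb, hb0⟩ 1, huniq i _ b ?_ hb ?_⟩
      · show ψ _ ∈ _
        rw [map_smul, AddMonoidAlgebra.lift_single, one_smul]
        exact Submodule.smul_mem _ _ (heM ⟨i, b, hb, hb0⟩)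
      · show φ (ψ _) = _
        rw [map_smul, map_smul, AddMonoidAlgebra.lift_single, one_smul]
        show φ b • φ (e _) = _
        rw [heφ, smul_eq_mul, mul_one]
  refine ⟨⟨H, ⟨(RingEquiv.ofBijective ψ hψ).symm⟩⟩, fun hgen => ?_⟩
  have hone : 1 ∈ H := by
    by_contra h
    have hbot : ∀ x ∈ 𝒜 1, x = 0 := fun x hx => by
      by_contra hx0
      exact h ⟨x, hx, hx0⟩
    have : a ∈ Ideal.span (⋃ n ∈ Set.Ioi (0 : ℤ), (𝒜 n : Set R)) :=
      Ideal.subset_span (Set.mem_biUnion (Set.mem_Ioi.mpr hN) ha)
    rw [hgen, show Ideal.span ((𝒜 1 : Submodule k R) : Set R) = ⊥ from Ideal.span_eq_bot.mpr hbot] at this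
    exact ha0 this
  have hH : H = ⊤ := by
    rw [eq_top_iff]
    intro n _
    induction n with
    | zero => exact H.zero_mem
    | succ n ih => exact H.add_mem (ih trivial) hone
  let eH : H ≃+ ℕ := (AddEquiv.addSubmonoidCongr hH).trans AddSubmonoid.topEquiv
  exact ⟨(RingEquiv.ofBijective ψ hψ).symm.trans
    ((AddMonoidAlgebra.mapDomainRingEquiv k eH).trans (Polynomial.toFinsuppIso k).symm)⟩

end Groth.Agent.S18653
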