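import Groth.Statements.S18654
import Groth.Agent.Lib.Graded.FieldDeg0
import Groth.Agent.Lib.Graded.Generic
import Groth.Agent.Lib.Graded.Pieces
import Groth.Agent.Lib.Graded.StdVanish

set_option autoImplicit false
universe u
open GrLC

namespace Groth.Agent.S18654

open Groth.Agent.Lib.Graded Groth.Agent.Lib.Graded.StarInj

/-- Let R be a graded ring defined over a field k = R_0 which is Cohen–Macaulay and generated over k by
R_1, with dim R ≥ 1, and write H(n, R) = dim_k R_n. Then H(n + 1, R) ≥ H(n, R) for every integer n.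
Here 'graded ring defined over a field' means R = ⊕_{n ≥ 0} R_n is Noetherian with R_0 a field, and
m = R_+ is its unique graded maximal ideal. -/
theorem result (R : Type u) [CommRing R] [LocCoh.IsCohenMacaulayRing R] (𝒜 : ℤ → AddSubgroup R) [GradedRing 𝒜] (hpos : ∀ n : ℤ, n < 0 → 𝒜 n = ⊥) (h0 : IsField (GrLC.deg0 𝒜)) (hstd : Ideal.span (⋃ n ∈ Set.Ioi (0 : ℤ), (𝒜 n : Set R)) = Ideal.span ((𝒜 1 : AddSubgroup R) : Set R)) (h1 : 1 ≤ ringKrullDim R) (n : ℤ) : Module.finrank (GrLC.deg0 𝒜) (GrLC.comp 𝒜 𝒜 n) ≤ Module.finrank (GrLC.deg0 𝒜) (GrLC.comp 𝒜 𝒜 (n + 1)) := by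
  classical
  have hmsp : (FGInduction.posIdeal 𝒜).toIdeal = Ideal.span (⋃ n ∈ Set.Ioi (0 : ℤ), (𝒜 n : Set R)) :=
    (FGInduction.span_iUnion_Ioi 𝒜).symm
  have hmax := FieldDeg0.isMaximal hpos h0 hmsp
  rw [FieldDeg0.ringKrullDim_eq hpos h0 hmsp] at h1
  have hd : ((0 + 1 : ℕ) : ℕ∞) ≤ LocCoh.idealDepth (FGInduction.posIdeal 𝒜).toIdeal R := by
    rw [(Groth.Agent.S14424.result R).1 ‹_› _ hmax.ne_top]
    exact_mod_cast h1
  obtain ⟨x, hx, hreg, -⟩ := Groth.Agent.Lib.Depth.Basic.exists_isSMulRegular_of_succ_le (by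
    rw [Ideal.smul_eq_mul, Ideal.mul_top]; exact hmax.ne_top) hd
  obtain ⟨xs, hxs, hspan⟩ := StdVanish.exists_list_of_span (a := FGInduction.posIdeal 𝒜) (hmsp.trans hstd)
  letI := h0.toField
  haveI : IsNoetherian (GrLC.deg0 𝒜) (GrLC.comp 𝒜 𝒜 n) := Pieces.isNoetherian_comp 𝒜 𝒜 n
  haveI : IsNoetherian (GrLC.deg0 𝒜) (GrLC.comp 𝒜 𝒜 (n + 1)) := Pieces.isNoetherian_comp 𝒜 𝒜 (n + 1)
  refine Generic.finrank_le (K := GrLC.deg0 𝒜) (fun l => xs.get l) (fun l y hy => ?_) fun r hr => hreg ?_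
  · have h := SetLike.mul_mem_graded (hxs _ (List.get_mem xs l)) (show y ∈ 𝒜 n from hy)
    rw [add_comm] at h
    exact h
  · have hle : (FGInduction.posIdeal 𝒜).toIdeal ≤ (Submodule.span R {r}).annihilator := by
      rw [hspan, Ideal.span_le]
      intro s hs
      obtain ⟨l, rfl⟩ := List.mem_iff_get.1 hs
      exact (Submodule.mem_annihilator_span_singleton _ _).2 (hr l)
    exact ((Submodule.mem_annihilator_span_singleton _ _).1 (hle hx)).trans (smul_zero x).symm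

end Groth.Agent.S18654
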