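import Groth.Statements.S18658
import Groth.Agent.Lib.Graded.Dual1
import Groth.Agent.Lib.Graded.Ver.Rank

set_option autoImplicit false
universe u
open GrLC

set_option maxHeartbeats 2000000
namespace Groth.Agent.S18658

open Groth.Agent.Lib.Graded Groth.Agent.Lib.Graded.StarInj

/-- Let R be a graded ring defined over a field, q ≥ 1, and R' = R^(q) its Veronese subring. Then K_{R'}
= (K_R)^(q): the canonical module of R' is the Veronese submodule ⊕_j (K_R)_{jq} of the canonical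
module of R. Stated here as: for canonical modules C of R and C' of R' there is an injective
additive map g : C' → C, semilinear over the inclusion φ : R' → R, carrying C'_j onto C_{jq} for
every j. Here 'graded ring defined over a field' means R = ⊕_{n ≥ 0} R_n is Noetherian with R_0 a
field, and m = R_+ is its unique graded maximal ideal. Both R and R' have dimension n = dim R; the
canonical module of each is represented by a finitely generated graded module together with a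
homogeneous isomorphism from its Hom into a *injective envelope of the residue field onto the top
graded local cohomology H^n of the ring with support in its irrelevant ideal, computed from a
*injective resolution in the graded category (by graded Matlis duality this pins the module up to
graded isomorphism). The Veronese subring R^(q) = ⊕_j R_{jq}, regraded by (R^(q))_j = R_{jq}, is
presented abstractly as a ℤ-graded ring R' with an injective ring homomorphism φ : R' → R carrying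
R'_j onto R_{jq} for every j. -/
theorem result (R : Type u) [CommRing R] [IsNoetherianRing R] (𝒜 : ℤ → AddSubgroup R) [GradedRing 𝒜] (hpos : ∀ n : ℤ, n < 0 → 𝒜 n = ⊥) (h0 : IsField (GrLC.deg0 𝒜)) (m : HomogeneousIdeal 𝒜) (hm : GrLC.IsStarLocal 𝒜 m) (hmsp : m.toIdeal = Ideal.span (⋃ n ∈ Set.Ioi (0 : ℤ), (𝒜 n : Set R))) (n : ℕ) (hn : ringKrullDim R = n) (I : GrLC.StarInjRes 𝒜 𝒜) (E' : Type u) [AddCommGroup E'] [Module R E'] (𝓔 : ℤ → AddSubgroup E') [DirectSum.Decomposition 𝓔] [SetLike.GradedSMul 𝒜 𝓔] (e : (R ⧸ m.toIdeal) →ₗ[R] E') (he : GrLC.IsStarInjHull 𝒜 (GrLC.quotGr 𝒜 m) 𝓔 e) (C : Type u) [AddCommGroup C] [Module R C] (𝒞 : ℤ → AddSubgroup C) [DirectSum.Decomposition 𝒞] [SetLike.GradedSMul 𝒜 𝒞] (hC : GrLC.IsStarCanonical 𝒜 𝒞 𝓔 m n I) (q : ℕ) (hq : 0 < q) (R' : Type u) [CommRing R'] (𝒜' : ℤ → AddSubgroup R') [GradedRing 𝒜'] (φ : R' →+* R) (hφ : Function.Injective φ) (hdeg : ∀ j : ℤ, (𝒜' j).map (φ : R' →+ R) = 𝒜 (j * q)) (m' : HomogeneousIdeal 𝒜')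 (hm' : GrLC.IsStarLocal 𝒜' m') (hm'sp : m'.toIdeal = Ideal.span (⋃ j ∈ Set.Ioi (0 : ℤ), (𝒜' j : Set R'))) (I' : GrLC.StarInjRes 𝒜' 𝒜') (E'' : Type u) [AddCommGroup E''] [Module R' E''] (𝓔'' : ℤ → AddSubgroup E'') [DirectSum.Decomposition 𝓔''] [SetLike.GradedSMul 𝒜' 𝓔''] (e' : (R' ⧸ m'.toIdeal) →ₗ[R'] E'') (he' : GrLC.IsStarInjHull 𝒜' (GrLC.quotGr 𝒜' m') 𝓔'' e') (C' : Type u) [AddCommGroup C'] [Module R' C'] (𝒞' : ℤ → AddSubgroup C') [DirectSum.Decomposition 𝒞'] [SetLike.GradedSMul 𝒜' 𝒞'] (hC' : GrLC.IsStarCanonical 𝒜' 𝒞' 𝓔'' m' n I') : ∃ g : C' →ₛₗ[φ] C, Function.Injective g ∧ ∀ j : ℤ, (𝒞' j).map (g : C' →+ C) = 𝒞 (j * q) := by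
  classical
  have h : Ver.Sys 𝒜 𝒜' φ q := ⟨hq, hφ, hdeg⟩
  haveI := h.isNoetherianRing
  have hpos' : ∀ j : ℤ, j < 0 → 𝒜' j = ⊥ := fun j hj => (AddSubgroup.eq_bot_iff_forall _).2 fun x hx => by
    have h1 := h.map_mem hx
    rw [hpos (j * q) (mul_neg_of_neg_of_pos hj (by exact_mod_cast hq)), AddSubgroup.mem_bot] at h1
    exact h.injective (h1.trans (map_zero φ).symm)
  let σ := h.deg0Equiv
  have h0' : IsField (GrLC.deg0 𝒜') := σ.toMulEquiv.isField h0
  obtain ⟨Θ', hΘ'⟩ : ∃ Θ : I'.H m' n →ₛₗ[φ] I.H m n, Ver.IsVer q (I.Hgr m n) (I'.Hgr m' n) Θ :=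
    Ver.exists_theta h hmsp hm'sp n (GrLC.GMod.of 𝒜 R 𝒜) (GrLC.GMod.of 𝒜' R' 𝒜')
    (Ver.algMap φ) ⟨h.injective, h.deg⟩ I I'
  letI := Res.hgrDecomp I m n
  letI := Res.hgrDecomp I' m' n
  haveI := Res.hgrGSMul I m n
  haveI := Res.hgrGSMul I' m' n
  obtain ⟨hfin, Φ, hΦ⟩ := hC
  obtain ⟨hfin', Φ', hΦ'⟩ := hC'
  let κ := Dual1.coef hpos h0 hmsp he
  let κ' := Dual1.coef hpos' h0' hm'sp he'
  let ρ := Ver.retr h.pos hΘ'
  let T : (C →ₗ[R] E') →+ (C' →ₗ[R'] E'') :=
    (Φ'.symm.toLinearMap.toAddMonoidHom).comp (ρ.comp Φ.toLinearMap.toAddMonoidHom)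
  have hT : ∀ (s : R') (f : C →ₗ[R] E'), T (φ s • f) = s • T f := fun s f => by
    change Φ'.symm (ρ (Φ (φ s • f))) = s • Φ'.symm (ρ (Φ f))
    rw [map_smul Φ, show ρ (φ s • Φ f) = s • ρ (Φ f) from Ver.retr_smul h hΘ' s _, map_smul]
  have hσ : ∀ (c : GrLC.deg0 𝒜') (f : C →ₗ[R] E'), T (σ c • f) = c • T f := fun c f => hT c f
  have hT0 : ∀ d : ℤ, ∀ f ∈ GrLC.homDeg 𝒜 𝒞 𝓔 d,
      (¬ (q : ℤ) ∣ d → T f = 0) ∧ ∀ k, d = k * q → T f ∈ GrLC.homDeg 𝒜' 𝒞' 𝓔'' k := by
    intro d f hf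
    have h1 := Ver.map_retr_of_mem h.pos hΘ' (hΦ d f hf)
    refine ⟨fun hd => ?_, fun k hk => ?_⟩
    · rw [if_neg hd] at h1
      change Φ'.symm (ρ (Φ f)) = 0
      rw [LinearEquiv.map_eq_zero_iff]
      exact hΘ'.injective (h1.trans (map_zero Θ').symm)
    · subst hk
      rw [if_pos (dvd_mul_left _ _)] at h1
      obtain ⟨y, hy, hyx⟩ := hΘ'.exists_preimage (hΦ _ f hf)
      refine Dual1.symm_mem Φ' hΦ' ?_
      have h2 : ρ (Φ f) = y := hΘ'.injective (h1.trans hyx.symm)
      exact h2.symm ▸ hy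
  have key : ∀ c' : C', ∃ c : C, ∀ f, κ (f c) = σ (κ' (T f c')) := by
    intro c'
    induction c' using Basic.induction_hom 𝒞' with
    | zero => exact ⟨0, fun f => by simp⟩
    | add a b ha hb =>
      obtain ⟨u, hu⟩ := ha
      obtain ⟨v, hv⟩ := hb
      exact ⟨u + v, fun f => by simp [hu, hv]⟩
    | hom j c' hc' =>
      obtain ⟨c, -, hc⟩ := Dual1.exists_rep hpos h0 hmsp he (j := j * q)
        { toFun := fun f => σ (κ' (T f c'))
          map_add' := fun f f' => by simp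
          map_smul' := fun a f => by
            obtain ⟨a, rfl⟩ := σ.surjective a
            rw [hσ, LinearMap.smul_apply, map_smul, smul_eq_mul, map_mul, RingHom.id_apply, smul_eq_mul] }
        fun d hd f hf => by
          change σ (κ' (T f c')) = 0
          by_cases hdq : (q : ℤ) ∣ d
          · obtain ⟨k, rfl⟩ := hdq
            rw [Dual1.coef_apply_eq_zero hpos' h0' hm'sp he' ((hT0 _ f hf).2 k (mul_comm _ _)) hc'
              (fun hjk => hd (by rw [show k = -j by omega]; ring)), map_zero]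
          · rw [(hT0 d f hf).1 hdq, LinearMap.zero_apply, map_zero, map_zero]
      exact ⟨c, hc⟩
  have huniq : ∀ c₁ c₂ : C, (∀ f : C →ₗ[R] E', κ (f c₁) = κ (f c₂)) → c₁ = c₂ := fun c₁ c₂ hcc =>
    sub_eq_zero.1 (Dual1.eq_zero_of_forall 𝒞 hpos h0 hmsp he fun f => by
      rw [map_sub, map_sub, hcc f, sub_self])
  choose g hg using key
  let G : C' →ₛₗ[φ] C :=
    { toFun := g
      map_add' := fun a b => huniq _ _ fun f => by simp [hg]
      map_smul' := fun s a => huniq _ _ fun f => by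
        rw [hg, map_smul f, ← LinearMap.smul_apply, hg, hT, LinearMap.smul_apply, map_smul] }
  have hTsurj : Function.Surjective T := fun f' => by
    refine ⟨Φ.symm (Θ' (Φ' f')), ?_⟩
    change Φ'.symm (ρ (Φ (Φ.symm (Θ' (Φ' f'))))) = f'
    rw [LinearEquiv.apply_symm_apply, show ρ (Θ' (Φ' f')) = Φ' f' from Ver.retr_apply h.pos hΘ' _,
      LinearEquiv.symm_apply_apply]
  refine ⟨G, (injective_iff_map_eq_zero _).2 fun a ha => ?_, fun j => ?_⟩
  · refine Dual1.eq_zero_of_forall 𝒞' hpos' h0' hm'sp he' fun f' => ?_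
    obtain ⟨f, rfl⟩ := hTsurj f'
    have h1 := hg a f
    rw [show g a = 0 from ha, map_zero, map_zero, eq_comm, map_eq_zero_iff σ σ.injective] at h1
    exact h1
  · ext c
    constructor
    · rintro ⟨c', hc', rfl⟩
      change G c' ∈ 𝒞 (j * q)
      rw [← Basic.sum_proj 𝒞 (G c')]
      refine sum_mem fun d _ => ?_
      rcases eq_or_ne d (j * q) with rfl | hd
      · exact Basic.proj_mem 𝒞 _ _
      have hz : Basic.proj 𝒞 d (G c') = 0 := Dual1.eq_zero_of_forall 𝒞 hpos h0 hmsp he fun f => by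
        obtain ⟨D, k, hk, rfl⟩ := Dual0.exists_sum_components (𝒜 := 𝒜) (𝒞 := 𝒞) (𝓔 := 𝓔) f
        simp only [LinearMap.sum_apply, map_sum]
        refine Finset.sum_eq_zero fun i _ => ?_
        rcases eq_or_ne (d + i) 0 with hdi | hdi
        · have h1 := hg c' (k i)
          have h2 : κ (k i (g c')) = κ (k i (Basic.proj 𝒞 d (g c'))) := by
            have hi : d + i = 0 := hdi
            rw [Basic.map_proj_deg (hk i), hi]
            exact congrArg (Dual0.line hpos h0 hmsp he.toIsStarEss).symm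
              (Subtype.ext (Basic.proj_of_mem 𝓔 (Basic.proj_mem 𝓔 0 (k i (g c')))).symm)
          change κ (k i (Basic.proj 𝒞 d (g c'))) = 0
          rw [← h2, h1]
          by_cases hiq : (q : ℤ) ∣ i
          · obtain ⟨t, ht⟩ := hiq
            rw [Dual1.coef_apply_eq_zero hpos' h0' hm'sp he'
              ((hT0 _ _ (hk i)).2 t (ht.trans (mul_comm _ _))) hc'
              (fun hjt => hd (by
                rw [show d = -i by omega, ht, show t = -j by omega]; ring)), map_zero]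
          · rw [(hT0 _ _ (hk i)).1 hiq, LinearMap.zero_apply, map_zero, map_zero]
        · exact Dual1.coef_apply_eq_zero hpos h0 hmsp he (hk i) (Basic.proj_mem 𝒞 d _) hdi
      rw [hz]
      exact zero_mem _
    · intro hc
      obtain ⟨c', hc', hc'f⟩ := Dual1.exists_rep hpos' h0' hm'sp he' (j := j)
        { toFun := fun f' => σ.symm (κ (Φ.symm (Θ' (Φ' f')) c))
          map_add' := fun f f' => by simp
          map_smul' := fun a f' => by
            rw [show a • f' = (a : R') • f' from rfl, map_smul Φ', map_smulₛₗ Θ', map_smul,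
              LinearMap.smul_apply]
            change σ.symm (κ ((σ a : GrLC.deg0 𝒜) • Φ.symm (Θ' (Φ' f')) c)) = _
            rw [map_smul, smul_eq_mul, map_mul, RingEquiv.symm_apply_apply]
            rfl }
        fun d hd f' hf' => by
          change σ.symm (κ (Φ.symm (Θ' (Φ' f')) c)) = 0
          have h1 : Φ.symm (Θ' (Φ' f')) ∈ GrLC.homDeg 𝒜 𝒞 𝓔 (d * q) :=
            Dual1.symm_mem Φ hΦ (hΘ'.map_mem (hΦ' d f' hf'))
          rw [Dual1.coef_apply_eq_zero hpos h0 hmsp he h1 hc ?_, map_zero]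
          intro h2
          rw [← add_mul, mul_eq_zero] at h2
          exact hd (by rcases h2 with h2 | h2 <;> omega)
      refine ⟨c', hc', huniq _ _ fun f => ?_⟩
      change κ (f (g c')) = κ (f c)
      rw [hg]
      obtain ⟨D, k, hk, rfl⟩ := Dual0.exists_sum_components (𝒜 := 𝒜) (𝒞 := 𝒞) (𝓔 := 𝓔) f
      simp only [map_sum, LinearMap.sum_apply]
      refine Finset.sum_congr rfl fun i _ => ?_
      have h1 : κ' (T (k i) c') = σ.symm (κ (Φ.symm (Θ' (Φ' (T (k i)))) c)) := hc'f _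
      rw [h1, RingEquiv.apply_symm_apply]
      change κ (Φ.symm (Θ' (Φ' (Φ'.symm (ρ (Φ (k i)))))) c) = _
      rw [LinearEquiv.apply_symm_apply]
      have h2 := Ver.map_retr_of_mem h.pos hΘ' (hΦ i _ (hk i))
      rw [show Θ' (ρ (Φ (k i))) = if (q : ℤ) ∣ i then Φ (k i) else 0 from h2]
      split_ifs with hiq
      · rw [LinearEquiv.symm_apply_apply]
      · rw [map_zero, LinearMap.zero_apply, map_zero]
        exact (Dual1.coef_apply_eq_zero hpos h0 hmsp he (hk i) hc fun h3 =>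
          hiq ⟨-j, by rw [mul_neg, mul_comm]; omega⟩).symm

end Groth.Agent.S18658
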