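import Groth.Statements.S18659
import Groth.Agent.Lib.Graded.Seg.DualSeg
import Groth.Agent.Lib.Graded.Seg.GorShift
import Groth.Agent.S18646
import Groth.Agent.S18638

set_option autoImplicit false
universe u
open scoped TensorProduct
open GrSegre

set_option maxHeartbeats 2000000
namespace Groth.Agent.S18659

open Groth.Agent.Lib.Graded Groth.Agent.Lib.Graded.StarInj

/-- Let R and S be graded rings defined over a field k which are Gorenstein, of dimensions r ≥ 2 and s ≥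
2, with a(R) = a(S). If the Segre product T = R # S is a Cohen–Macaulay ring, then T is a Gorenstein
ring. (No generation in degree one is assumed here.) Here a graded ring defined over k is a
commutative k-algebra of finite type, graded in nonnegative degrees by k-subspaces with degree-zero
part k·1; the a-invariant a(R) is the largest degree in which the graded local cohomology H^{dim
R}_{R_+}(R), computed from a *injective resolution of R in the graded category, is nonzero; the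
Segre product T = ⊕_n R_n ⊗_k S_n is presented abstractly as a graded k-algebra T with an injective
k-algebra homomorphism ψ : T → R ⊗_k S carrying T_n onto the k-span of the elementary tensors a ⊗ b
with a ∈ R_n, b ∈ S_n. -/
theorem result (k : Type u) [Field k] (R : Type u) [CommRing R] [Algebra k R] (𝒜 : ℤ → Submodule k R) [GradedAlgebra 𝒜] (hposR : ∀ n : ℤ, n < 0 → 𝒜 n = ⊥) (h0R : 𝒜 0 = Submodule.span k {(1 : R)}) [Algebra.FiniteType k R] (S : Type u) [CommRing S] [Algebra k S] (ℬ : ℤ → Submodule k S) [GradedAlgebra ℬ] (hposS : ∀ n : ℤ, n < 0 → ℬ n = ⊥) (h0S : ℬ 0 = Submodule.span k {(1 : S)}) [Algebra.FiniteType k S] (T : Type u) [CommRing T] [Algebra k T] (𝒯 : ℤ → Submodule k T) [GradedAlgebra 𝒯] (ψ : T →ₐ[k] TensorProduct k R S) (hψ : Function.Injective ψ) (hdegT : ∀ n : ℤ, (𝒯 n).map ψ.toLinearMap = Submodule.span k {x : TensorProduct k R S | ∃ a ∈ 𝒜 n, ∃ b ∈ ℬ n, x = a ⊗ₜ[k] b}) [LocCoh.IsGorensteinRing R] [LocCoh.IsGorensteinRing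 S] (mR : HomogeneousIdeal 𝒜) (hmR : mR.toIdeal = Ideal.span (⋃ n ∈ Set.Ioi (0 : ℤ), (𝒜 n : Set R))) (I : GrLC.StarInjRes 𝒜 𝒜) (mS : HomogeneousIdeal ℬ) (hmS : mS.toIdeal = Ideal.span (⋃ n ∈ Set.Ioi (0 : ℤ), (ℬ n : Set S))) (J : GrLC.StarInjRes ℬ ℬ) (r s : ℕ) (hr : ringKrullDim R = r) (hs : ringKrullDim S = s) (h2r : 2 ≤ r) (h2s : 2 ≤ s) (haeq : GrLC.endDeg (I.Hgr mR r) = GrLC.endDeg (J.Hgr mS s)) [LocCoh.IsCohenMacaulayRing T] : LocCoh.IsGorensteinRing T := by
  haveI : Nontrivial R := by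
    by_contra hn
    rw [not_nontrivial_iff_subsingleton] at hn
    rw [ringKrullDim_eq_bot_of_subsingleton] at hr
    exact WithBot.bot_ne_coe hr
  haveI : Nontrivial S := by
    by_contra hn
    rw [not_nontrivial_iff_subsingleton] at hn
    rw [ringKrullDim_eq_bot_of_subsingleton] at hs
    exact WithBot.bot_ne_coe hs
  haveI : IsNoetherianRing R := Algebra.FiniteType.isNoetherianRing k R
  haveI : IsNoetherianRing S := Algebra.FiniteType.isNoetherianRing k S
  haveI : IsNoetherianRing T := Groth.Agent.S18646.result k R 𝒜 hposR h0R S ℬ hposS h0S T 𝒯 ψ hψ hdegT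
  haveI : Nontrivial T := Seg.nontrivial_segre ψ
  obtain ⟨hposT, h0T⟩ := Seg.segre_deg hψ hdegT hposR h0R h0S
  let mT : HomogeneousIdeal 𝒯 := FGInduction.posIdeal 𝒯
  have hmT : mT.toIdeal = Ideal.span (⋃ n ∈ Set.Ioi (0 : ℤ), (𝒯 n : Set T)) := Seg.span_pos_eq.symm
  letI := HullPrime.quotDecomp mR
  haveI := HullPrime.quotGSMul mR
  letI := HullPrime.quotDecomp mS
  haveI := HullPrime.quotGSMul mS
  letI := HullPrime.quotDecomp mT
  haveI := HullPrime.quotGSMul mT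
  obtain ⟨ER, eR, heR⟩ := StarInj.exists_hull 𝒜 (GrLC.quotGr 𝒜 mR)
  obtain ⟨ES, eS, heS⟩ := StarInj.exists_hull ℬ (GrLC.quotGr ℬ mS)
  obtain ⟨ET, eT, heT⟩ := StarInj.exists_hull 𝒯 (GrLC.quotGr 𝒯 mT)
  obtain ⟨a, -, ha, -, -⟩ := Seg.exists_gor_top hposR h0R hmR heR hr I
  have hb : GrLC.endDeg (J.Hgr mS s) = ((a : WithTop ℤ) : WithBot (WithTop ℤ)) := haeq ▸ ha
  have hCR := Seg.isStarCanonical_shift hposR h0R hmR hr I ha heR
  have hCS := Seg.isStarCanonical_shift hposS h0S hmS hs J hb heS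
  letI := shiftDecomp (SigmaChange.pieces 𝒜) a
  haveI := shiftGSMul 𝒜 (SigmaChange.pieces 𝒜) a
  letI := shiftDecomp (SigmaChange.pieces ℬ) a
  haveI := shiftGSMul ℬ (SigmaChange.pieces ℬ) a
  letI := shiftDecomp (SigmaChange.pieces 𝒯) a
  haveI := shiftGSMul 𝒯 (SigmaChange.pieces 𝒯) a
  have hseg : Seg.IsSeg ψ (shiftGr (SigmaChange.pieces 𝒜) a) (shiftGr (SigmaChange.pieces ℬ) a)
      (shiftGr (SigmaChange.pieces 𝒯) a) ψ.toLinearMap.toAddMonoidHom :=
    ⟨hψ, fun n => (Seg.isSeg_self hψ hdegT).image_piece (n + a), (Seg.isSeg_self hψ hdegT).map_smul⟩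
  obtain ⟨IT⟩ := Res.nonempty_starInjRes 𝒯 𝒯
  obtain ⟨hfin, Φ, hΦ⟩ := Seg.isStarCanonical_seg hposR h0R hposS h0S hposT h0T hψ hdegT hmR hmS hmT I J IT hr hs
    h2r h2s heR hCR heS hCS heT hseg
  let IT' : GrLC.StarInjRes (SigmaChange.pieces 𝒯) (SigmaChange.pieces 𝒯) :=
    SigmaChange.res (ℳ := 𝒯) (ℳ' := SigmaChange.pieces 𝒯) (fun _ _ hx => hx) IT
  haveI : SetLike.GradedSMul (SigmaChange.pieces 𝒯) (shiftGr (SigmaChange.pieces 𝒯) a) :=
    shiftGSMul (SigmaChange.pieces 𝒯) (SigmaChange.pieces 𝒯) a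
  have hC : GrLC.IsStarCanonical (SigmaChange.pieces 𝒯) (shiftGr (SigmaChange.pieces 𝒯) a) ET.gr
      (SigmaChange.ideal mT) (r + s - 1) IT' := ⟨hfin, Φ, hΦ⟩
  have hdimT : ringKrullDim T = ((r + s - 1 : ℕ) : WithBot ℕ∞) :=
    H84.Segre.Dim.main 𝒜 hposR h0R ℬ hposS h0S 𝒯 ψ hψ hdegT r s hr hs (by omega) (by omega)
  refine (Groth.Agent.S18638.result T (SigmaChange.pieces 𝒯) (Seg.hpos_pieces hposT) (Seg.isField_deg0 h0T)
    (SigmaChange.ideal mT) (Seg.isStarLocal_irr hposT h0T hmT) hmT (r + s - 1) hdimT IT' ET.carrier ET.gr eT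
    (Seg.hull_pieces heT) T (shiftGr (SigmaChange.pieces 𝒯) a) hC).2 ⟨-a, LinearMap.id, Function.bijective_id,
    fun g x hx => ?_⟩
  show x ∈ SigmaChange.pieces 𝒯 (g + -a + a)
  rwa [neg_add_cancel_right]

end Groth.Agent.S18659
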