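import Groth.Statements.S18663
import Groth.Agent.H84.Segre.DimOneMain

set_option autoImplicit false
set_option linter.style.haveILetI false
universe u
open scoped TensorProduct
open GrSegre

namespace Groth.Agent.S18663

/-- Let R and S be graded rings defined over a field k which are Cohen–Macaulay, with dim R = 1 and dim
S = s ≥ 1, and let T = R # S be their Segre product. (iii) If s ≥ 2, then T is a Cohen–Macaulay ring
if and only if H^1_{R_+}(R) # S = 0, that is, for every degree n, H^1_{R_+}(R)_n = 0 or S_n = 0.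
(iv) If s = 1, then T is a Cohen–Macaulay ring. Here a graded ring defined over k is a commutative
k-algebra of finite type, graded in nonnegative degrees by k-subspaces with degree-zero part k·1;
the graded local cohomology pieces are computed from a *injective resolution of R in the graded
category; the Segre product T = ⊕_n R_n ⊗_k S_n is presented abstractly as a graded k-algebra T with
an injective k-algebra homomorphism ψ : T → R ⊗_k S carrying T_n onto the k-span of the elementary
tensors a ⊗ b with a ∈ R_n, b ∈ S_n. -/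
theorem result (k : Type u) [Field k] (R : Type u) [CommRing R] [Algebra k R] (𝒜 : ℤ → Submodule k R) [GradedAlgebra 𝒜] (hposR : ∀ n : ℤ, n < 0 → 𝒜 n = ⊥) (h0R : 𝒜 0 = Submodule.span k {(1 : R)}) [Algebra.FiniteType k R] (S : Type u) [CommRing S] [Algebra k S] (ℬ : ℤ → Submodule k S) [GradedAlgebra ℬ] (hposS : ∀ n : ℤ, n < 0 → ℬ n = ⊥) (h0S : ℬ 0 = Submodule.span k {(1 : S)}) [Algebra.FiniteType k S] (T : Type u) [CommRing T] [Algebra k T] (𝒯 : ℤ → Submodule k T) [GradedAlgebra 𝒯] (ψ : T →ₐ[k] TensorProduct k R S) (hψ : Function.Injective ψ) (hdegT : ∀ n : ℤ, (𝒯 n).map ψ.toLinearMap = Submodule.span k {x : TensorProduct k R S | ∃ a ∈ 𝒜 n, ∃ b ∈ ℬ n, x = a ⊗ₜ[k] b}) [LocCoh.IsCohenMacaulayRing R] [LocCoh.IsCohenMacaulayRing S] (mR : HomogeneousIdeal 𝒜) (hmR : mR.toIdeal = Ideal.span (⋃ n ∈ Set.Ioi (0 : ℤ), (𝒜 n : Set R))) (I : GrLC.StarInjRes 𝒜 𝒜) (hr : ringKrullDim R = 1) (s : ℕ) (hs : ringKrullDim S = s) (h1s : 1 ≤ s) : (2 ≤ s → (LocCoh.IsCohenMacaulayRing T ↔ ∀ n : ℤ, I.Hcomp mR 1 n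 = ⊥ ∨ ℬ n = ⊥)) ∧ (s = 1 → LocCoh.IsCohenMacaulayRing T) := by
  classical
  haveI : IsNoetherianRing R := Algebra.FiniteType.isNoetherianRing k R
  let ℳ : ℤ → AddSubgroup R := fun n => (𝒜 n).toAddSubgroup
  let 𝒩 : ℤ → AddSubgroup S := fun n => (ℬ n).toAddSubgroup
  let 𝒬 : ℤ → AddSubgroup T := fun n => (𝒯 n).toAddSubgroup
  letI : DirectSum.Decomposition ℳ :=
    { decompose' := DirectSum.Decomposition.decompose' (ℳ := 𝒜)
      left_inv := DirectSum.Decomposition.left_inv (ℳ := 𝒜)
      right_inv := DirectSum.Decomposition.right_inv (ℳ := 𝒜) }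
  letI : DirectSum.Decomposition 𝒩 :=
    { decompose' := DirectSum.Decomposition.decompose' (ℳ := ℬ)
      left_inv := DirectSum.Decomposition.left_inv (ℳ := ℬ)
      right_inv := DirectSum.Decomposition.right_inv (ℳ := ℬ) }
  letI : DirectSum.Decomposition 𝒬 :=
    { decompose' := DirectSum.Decomposition.decompose' (ℳ := 𝒯)
      left_inv := DirectSum.Decomposition.left_inv (ℳ := 𝒯)
      right_inv := DirectSum.Decomposition.right_inv (ℳ := 𝒯) }
  haveI : SetLike.GradedSMul 𝒜 ℳ := ⟨fun {_ _ _ _} hr hx => SetLike.mul_mem_graded (A := 𝒜) hr hx⟩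
  haveI : SetLike.GradedSMul ℬ 𝒩 := ⟨fun {_ _ _ _} hr hx => SetLike.mul_mem_graded (A := ℬ) hr hx⟩
  haveI : Nontrivial R := by
    by_contra hn
    rw [not_nontrivial_iff_subsingleton] at hn
    rw [ringKrullDim_eq_bot_of_subsingleton] at hr
    exact WithBot.bot_ne_coe hr
  haveI : Nontrivial S := by
    by_contra hn
    rw [not_nontrivial_iff_subsingleton] at hn
    rw [ringKrullDim_eq_bot_of_subsingleton] at hs
    exact WithBot.bot_ne_coe hs
  haveI : Nontrivial (R ⊗[k] S) := by
    exact (Algebra.TensorProduct.includeLeft_injective (S := k) (R := k) (A := R) (B := S)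
      (algebraMap k S).injective).nontrivial
  haveI : Nontrivial T := by
    by_contra hn
    rw [not_nontrivial_iff_subsingleton] at hn
    exact one_ne_zero (α := R ⊗[k] S)
      ((map_one ψ).symm.trans ((congrArg ψ (Subsingleton.elim (1 : T) 0)).trans (map_zero ψ)))
  have hT : GrSeg.IsSegreRing 𝒜 ℬ 𝒯 ψ := ⟨hψ, hdegT⟩
  have hP : GrSeg.IsSegreMod ψ ℳ 𝒩 𝒬 ψ.toLinearMap :=
    { injective := hψ
      image_piece := fun n => by
        have h := congrArg (fun W : Submodule k (R ⊗[k] S) => (W : Set (R ⊗[k] S))) (hdegT n)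
        exact (Submodule.map_coe _ _).symm.trans h
      map_smul := fun t p => by
        show ψ (t * p) = _
        rw [map_mul]
        generalize ψ t = u
        generalize hv : ψ.toLinearMap p = v
        rw [show ψ p = v from hv]
        induction u with
        | zero => simp
        | add a b ha hb => simp [add_mul, ha, hb]
        | tmul a b =>
          clear hv
          induction v with
          | zero => simp
          | add c d hc hd => simp [mul_add, hc, hd]
          | tmul c d => simp [GrSeg.act_tmul, Algebra.TensorProduct.tmul_mul_tmul] }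
  have hmod : ∀ (A : Type u) [CommRing A] [LocCoh.IsCohenMacaulayRing A] (q : Ideal A) [q.IsPrime],
      Subsingleton (LocalizedModule q.primeCompl A) ∨
        LocCoh.IsCohenMacaulayModule (Localization.AtPrime q) (LocalizedModule q.primeCompl A) :=
    fun A _ _ q _ => Or.inr (Groth.Agent.H84.Segre.Dim1.cm_localizedModule_self q)
  have hTiff : LocCoh.IsCohenMacaulayRing T ↔ ∀ (q : Ideal T) [q.IsPrime],
      Subsingleton (LocalizedModule q.primeCompl T) ∨
        LocCoh.IsCohenMacaulayModule (Localization.AtPrime q) (LocalizedModule q.primeCompl T) := by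
    haveI : IsNoetherianRing T :=
      Groth.Agent.S18646.result k R 𝒜 hposR h0R S ℬ hposS h0S T 𝒯 ψ hψ hdegT
    refine ⟨fun h q _ => hmod T q, fun h => { isCohenMacaulayLocalRing_localization := fun q _ => ?_ }⟩
    haveI : IsNoetherianRing (Localization.AtPrime q) :=
      IsLocalization.isNoetherianRing q.primeCompl _ inferInstance
    rcases h q with h | h
    · exact absurd h (not_subsingleton (Localization.AtPrime q))
    · exact { supportDim_eq_depth := h }
  obtain ⟨EM⟩ := Groth.Agent.Lib.Graded.Res.nonempty_starInjRes 𝒜 ℳ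
  have hH : ∀ n, EM.Hcomp mR 1 n = ⊥ ↔ I.Hcomp mR 1 n = ⊥ := by
    intro n
    rw [Groth.Agent.Lib.Graded.LES.Hcomp_eq_bot_iff, Groth.Agent.Lib.Graded.LES.Hcomp_eq_bot_iff,
      ← Groth.Agent.Lib.Graded.Van.V_toMod_iff, ← Groth.Agent.Lib.Graded.Van.V_toMod_iff]
    refine ⟨Groth.Agent.Lib.Graded.Van.V_congr (LinearEquiv.refl R R) ?_,
      Groth.Agent.Lib.Graded.Van.V_congr (LinearEquiv.refl R R) ?_⟩
    · exact fun g x hx => hx
    · exact fun g x hx => hx
  have hB : ∀ n, 𝒩 n = ⊥ ↔ ℬ n = ⊥ := fun n => by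
    rw [← Submodule.toAddSubgroup_inj (ℬ n) (⊥ : Submodule k S)]; rfl
  have key := Groth.Agent.H84.Segre.DimOneMain.main 𝒜 ℬ 𝒯 ψ ℳ 𝒩 𝒬 ψ.toLinearMap hposR h0R hposS h0S
    hT hP mR hmR EM s h1s (by rw [Module.supportDim_self_eq_ringKrullDim, hr])
    (by rw [Module.supportDim_self_eq_ringKrullDim, hs]) (hmod R) (hmod S)
  refine ⟨fun h2 => hTiff.trans ((key.1 h2).trans (forall_congr' fun n => ?_)), fun h1 => hTiff.mpr (key.2 h1)⟩
  rw [hH, hB]

end Groth.Agent.S18663
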