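import Groth.Statements.S18665
import Groth.Agent.Lib.Graded.Seg.DualSeg
import Groth.Agent.Lib.Graded.Seg.GorShift
import Groth.Agent.Lib.Graded.Seg.Gens
import Groth.Agent.S18646
import Groth.Agent.S19747
import Groth.Agent.S18640
import Groth.Agent.H84.Segre.Dim

set_option autoImplicit false
universe u
open scoped TensorProduct
open GrSegre

set_option maxHeartbeats 2000000
namespace Groth.Agent.S18665

open Groth.Agent.Lib.Graded Groth.Agent.Lib.Graded.StarInj

/-- Let R and S be standard graded rings defined over a field k which are Gorenstein, of dimensions r ≥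
2 and s ≥ 2, put a = a(R), b = a(S) with a ≥ b, and assume that the Segre product T = R # S is a
Cohen–Macaulay ring. Then the type r(T) equals dim_k R_{a−b}. Here the type of T is the Bass number
μ_{r+s−1}(T_+, T), the dimension over the residue field of Ext^{r+s−1} over the local ring of T at
its graded maximal ideal T_+ (T has dimension r + s − 1); a graded ring defined over k is a
commutative k-algebra of finite type, graded in nonnegative degrees by k-subspaces with degree-zero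
part k·1, standard graded when its irrelevant ideal is generated by the degree-one piece; the
a-invariant is the largest nonzero degree of the top graded local cohomology with support in the
irrelevant ideal, computed from a *injective resolution in the graded category; the Segre product T
= ⊕_n R_n ⊗_k S_n is presented abstractly as a graded k-algebra T with an injective k-algebra
homomorphism ψ : T → R ⊗_k S carrying T_n onto the k-span of the elementary tensors a ⊗ b with a ∈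
R_n, b ∈ S_n. -/
theorem result (k : Type u) [Field k] (R : Type u) [CommRing R] [Algebra k R] (𝒜 : ℤ → Submodule k R) [GradedAlgebra 𝒜] (hposR : ∀ n : ℤ, n < 0 → 𝒜 n = ⊥) (h0R : 𝒜 0 = Submodule.span k {(1 : R)}) [Algebra.FiniteType k R] (S : Type u) [CommRing S] [Algebra k S] (ℬ : ℤ → Submodule k S) [GradedAlgebra ℬ] (hposS : ∀ n : ℤ, n < 0 → ℬ n = ⊥) (h0S : ℬ 0 = Submodule.span k {(1 : S)}) [Algebra.FiniteType k S] (T : Type u) [CommRing T] [Algebra k T] (𝒯 : ℤ → Submodule k T) [GradedAlgebra 𝒯] (ψ : T →ₐ[k] TensorProduct k R S) (hψ : Function.Injective ψ) (hdegT : ∀ n : ℤ, (𝒯 n).map ψ.toLinearMap = Submodule.span k {x : TensorProduct k R S | ∃ a ∈ 𝒜 n, ∃ b ∈ ℬ n, x = a ⊗ₜ[k] b}) [LocCoh.IsGorensteinRing R] [LocCoh.IsGorensteinRing S] (mR : HomogeneousIdeal 𝒜) (hmR : mR.toIdeal = Ideal.span (⋃ n ∈ Set.Ioi (0 : ℤ), (𝒜 n : Set R))) (hstdR : Ideal.span (⋃ n ∈ Set.Ioi (0 : ℤ), (𝒜 n : Set R)) = Ideal.span ((𝒜 1 : Submodule k R) : Set R))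 (I : GrLC.StarInjRes 𝒜 𝒜) (mS : HomogeneousIdeal ℬ) (hmS : mS.toIdeal = Ideal.span (⋃ n ∈ Set.Ioi (0 : ℤ), (ℬ n : Set S))) (hstdS : Ideal.span (⋃ n ∈ Set.Ioi (0 : ℤ), (ℬ n : Set S)) = Ideal.span ((ℬ 1 : Submodule k S) : Set S)) (J : GrLC.StarInjRes ℬ ℬ) (r s : ℕ) (hr : ringKrullDim R = r) (hs : ringKrullDim S = s) (h2r : 2 ≤ r) (h2s : 2 ≤ s) (a b : ℤ) (ha : GrLC.endDeg (I.Hgr mR r) = ((a : WithTop ℤ) : WithBot (WithTop ℤ))) (hb : GrLC.endDeg (J.Hgr mS s) = ((b : WithTop ℤ) : WithBot (WithTop ℤ))) (hab : b ≤ a) [LocCoh.IsCohenMacaulayRing T] (mT : HomogeneousIdeal 𝒯) [mT.toIdeal.IsMaximal] (hmT : mT.toIdeal = Ideal.span (⋃ n ∈ Set.Ioi (0 : ℤ), (𝒯 n : Set T))) : GrLC.bassNum mT.toIdeal T (r + s - 1) = (Module.finrank k (𝒜 (a - b)) : ℕ∞) := by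
  haveI : Nontrivial R := by
    by_contra hn
    rw [not_nontrivial_iff_subsingleton] at hn
    rw [ringKrullDim_eq_bot_of_subsingleton] at hr
    exact WithBot.bot_ne_coe hr
  haveI : Nontrivial S := by
    by_contra hn
    rw [not_nontrivial_iff_subsingleton] at hn
    rw [ringKrullDim_eq_bot_of_subsingleton] at hs
    exact WithBot.bot_ne_coe hs
  haveI : IsNoetherianRing R := Algebra.FiniteType.isNoetherianRing k R
  haveI : IsNoetherianRing S := Algebra.FiniteType.isNoetherianRing k S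
  haveI : IsNoetherianRing T := Groth.Agent.S18646.result k R 𝒜 hposR h0R S ℬ hposS h0S T 𝒯 ψ hψ hdegT
  haveI : Nontrivial T := Seg.nontrivial_segre ψ
  obtain ⟨hposT, h0T⟩ := Seg.segre_deg hψ hdegT hposR h0R h0S
  letI := HullPrime.quotDecomp mR
  haveI := HullPrime.quotGSMul mR
  letI := HullPrime.quotDecomp mS
  haveI := HullPrime.quotGSMul mS
  letI := HullPrime.quotDecomp mT
  haveI := HullPrime.quotGSMul mT
  obtain ⟨ER, eR, heR⟩ := StarInj.exists_hull 𝒜 (GrLC.quotGr 𝒜 mR)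
  obtain ⟨ES, eS, heS⟩ := StarInj.exists_hull ℬ (GrLC.quotGr ℬ mS)
  obtain ⟨ET, eT, heT⟩ := StarInj.exists_hull 𝒯 (GrLC.quotGr 𝒯 mT)
  have hCR := Seg.isStarCanonical_shift hposR h0R hmR hr I ha heR
  have hCS := Seg.isStarCanonical_shift hposS h0S hmS hs J hb heS
  letI := shiftDecomp (SigmaChange.pieces 𝒜) a
  haveI := shiftGSMul 𝒜 (SigmaChange.pieces 𝒜) a
  letI := shiftDecomp (SigmaChange.pieces ℬ) b
  haveI := shiftGSMul ℬ (SigmaChange.pieces ℬ) b
  obtain ⟨P, φ, hP⟩ := Seg.exists_seg (M := R) (N := S) 𝒯 (shiftGr (SigmaChange.pieces 𝒜) a)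
    (shiftGr (SigmaChange.pieces ℬ) b) hdegT
  letI : Module k P.carrier := Module.compHom _ (algebraMap k T)
  haveI : IsScalarTower k T P.carrier := IsScalarTower.of_algebraMap_smul fun _ _ => rfl
  let φk : P.carrier →ₗ[k] TensorProduct k R S :=
    { φ with map_smul' := fun c x => (hP.map_smul (algebraMap k T c) x).trans (Seg.act_algebraMap c _) }
  have hPM : GrSeg.IsSegreMod ψ (shiftGr (SigmaChange.pieces 𝒜) a) (shiftGr (SigmaChange.pieces ℬ) b) P.gr φk :=
    ⟨hP.injective, hP.image_piece, hP.map_smul⟩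
  haveI : Module.Finite T P.carrier := Groth.Agent.S19747.result k R 𝒜 hposR h0R S ℬ hposS h0S T 𝒯 ψ ⟨hψ, hdegT⟩
    R (shiftGr (SigmaChange.pieces 𝒜) a) S (shiftGr (SigmaChange.pieces ℬ) b) P.carrier P.gr φk hPM
  obtain ⟨IT⟩ := Res.nonempty_starInjRes 𝒯 𝒯
  obtain ⟨hfin, Φ, hΦ⟩ := Seg.isStarCanonical_seg hposR h0R hposS h0S hposT h0T hψ hdegT hmR hmS hmT I J IT hr hs
    h2r h2s heR hCR heS hCS heT hP
  let IT' : GrLC.StarInjRes (SigmaChange.pieces 𝒯) (SigmaChange.pieces 𝒯) :=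
    SigmaChange.res (ℳ := 𝒯) (ℳ' := SigmaChange.pieces 𝒯) (fun _ _ hx => hx) IT
  haveI : SetLike.GradedSMul (SigmaChange.pieces 𝒯) P.gr :=
    ⟨fun {_ _ _ _} hr hx => SetLike.GradedSMul.smul_mem (A := 𝒯) (B := P.gr) hr hx⟩
  have hC : GrLC.IsStarCanonical (SigmaChange.pieces 𝒯) P.gr ET.gr (SigmaChange.ideal mT) (r + s - 1) IT' :=
    ⟨hfin, Φ, hΦ⟩
  have hdimT : ringKrullDim T = ((r + s - 1 : ℕ) : WithBot ℕ∞) :=
    H84.Segre.Dim.main 𝒜 hposR h0R ℬ hposS h0S 𝒯 ψ hψ hdegT r s hr hs (by omega) (by omega)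
  haveI : (SigmaChange.ideal mT).toIdeal.IsMaximal := ‹mT.toIdeal.IsMaximal›
  haveI : Module.Finite k (𝒜 (a - b)) := by
    haveI := Pieces.isNoetherian_comp 𝒜 (SigmaChange.pieces 𝒜) (a - b)
    have h := (Seg.finrank_pieceK (𝒜 := 𝒜) h0R (GrLC.comp 𝒜 (SigmaChange.pieces 𝒜) (a - b)) fun x => Iff.rfl).2
      inferInstance
    rwa [show Seg.pieceK 𝒜 (SigmaChange.pieces 𝒜) (a - b) = 𝒜 (a - b) from SetLike.ext fun x => Iff.rfl] at h
  have h := (Groth.Agent.S18640.result T (SigmaChange.pieces 𝒯) (Seg.hpos_pieces hposT) (Seg.isField_deg0 h0T)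
    (SigmaChange.ideal mT) (Seg.isStarLocal_irr hposT h0T hmT) hmT (r + s - 1) hdimT IT' ET.carrier ET.gr eT
    (Seg.hull_pieces heT) P.carrier P.gr hC).2
  rw [← Seg.finrank_gens (P := P.carrier) (𝒬 := P.gr) hposR hposS h0S hposT h0T hdegT hstdR hstdS hmT hab hP]
  exact h

end Groth.Agent.S18665
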