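import Groth.Statements.S18666
import Groth.Agent.H80.ProjStalkDepth
import Groth.Agent.Lib.Goren.Flat
import Mathlib.RingTheory.Flat.EquationalCriterion

set_option autoImplicit false
set_option backward.isDefEq.respectTransparency false
universe u
open GrProj

namespace Groth.Agent.S18666

open Groth.Agent.H80.ProjStalkDepth DirectSum in
/-- The localisation at a prime avoiding homogeneous elements of two consecutive degrees is flat
over the degree zero localisation. -/
theorem flat_φ {A : Type u} [CommRing A] (𝒜 : ℕ → AddSubgroup A) [GradedRing 𝒜]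
    (p : Ideal A) [p.IsPrime] {R₀ : Type u} [CommRing R₀]
    (e : R₀ ≃+* HomogeneousLocalization.AtPrime 𝒜 p) {d : ℕ} {f g : A} (hf : f ∈ 𝒜 d)
    (hfp : f ∉ p) (hg : g ∈ 𝒜 (d + 1)) (hgp : g ∉ p) : (φ 𝒜 p e).Flat := by
  let _ : Algebra R₀ (Localization.AtPrime p) := (φ 𝒜 p e).toAlgebra
  show Module.Flat R₀ (Localization.AtPrime p)
  rw [Module.Flat.iff_forall_isTrivialRelation]
  intro l c x h
  classical
  choose z hz using fun i => HomogeneousLocalization.mk_surjective (e (c i))
  obtain ⟨s, hs⟩ := IsLocalization.exist_integer_multiples_of_finite p.primeCompl x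
  choose a ha using hs
  let G : A := ∏ i, ((z i).den : A)
  let n : Fin l → A := fun i => ((z i).num : A) * ∏ j ∈ Finset.univ.erase i, ((z j).den : A)
  let D : ℕ := ∑ i, (z i).deg
  have hn : ∀ i, n i ∈ 𝒜 D := fun i => by
    have h1 := SetLike.mul_mem_graded (z i).num.2
      (SetLike.prod_mem_graded (A := 𝒜) (fun j => (z j).deg) (fun j => ((z j).den : A))
        (F := Finset.univ.erase i) (fun j _ => (z j).den.2))
    have h2 := Finset.add_sum_erase Finset.univ (fun j => (z j).deg) (Finset.mem_univ i)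
    show _ ∈ 𝒜 (∑ j, (z j).deg)
    rw [← h2]; exact h1
  have hnc : ∀ i, algebraMap A (Localization.AtPrime p) G * φ 𝒜 p e (c i) =
      algebraMap A (Localization.AtPrime p) (n i) := fun i => by
    have h1 := num_eq 𝒜 p e (c i) (z i) (hz i).symm
    simp only [G, n, ← Finset.mul_prod_erase _ _ (Finset.mem_univ i), map_mul, ← h1]
    ring
  have hGp : G ∈ p.primeCompl := prod_mem fun i _ => (z i).den_mem
  have ha' : ∀ i, algebraMap A (Localization.AtPrime p) (a i) =
      algebraMap A (Localization.AtPrime p) s * x i := fun i => by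
    rw [ha i, Algebra.smul_def]
  have hsum : algebraMap A (Localization.AtPrime p) (∑ i, n i * a i) = 0 := by
    rw [map_sum]
    calc ∑ i, algebraMap A (Localization.AtPrime p) (n i * a i)
        = algebraMap A (Localization.AtPrime p) (G * s) * ∑ i, φ 𝒜 p e (c i) * x i := by
          rw [Finset.mul_sum]
          refine Finset.sum_congr rfl fun i _ => ?_
          rw [map_mul _ (n i) (a i), map_mul _ G (s : A), ← hnc i, ha' i]
          ring
      _ = 0 := by rw [show ∑ i, φ 𝒜 p e (c i) * x i = 0 from h, mul_zero]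
  obtain ⟨⟨m, hm⟩, hma⟩ := (IsLocalization.map_eq_zero_iff p.primeCompl _ _).mp hsum
  have hk : ∀ k, ∑ i, n i * (decompose 𝒜 (m * a i) k : A) = 0 := fun k => by
    have h1 : (decompose 𝒜 (∑ i, n i * (m * a i)) (D + k) : A) = 0 := by
      rw [show ∑ i, n i * (m * a i) = 0 by
        rw [← hma, Finset.mul_sum]; exact Finset.sum_congr rfl fun i _ => by ring]
      simp
    rw [decompose_sum, DFinsupp.finsetSum_apply, AddSubmonoidClass.coe_finsetSum] at h1
    rw [← h1]
    refine Finset.sum_congr rfl fun i _ => ?_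
    rw [coe_decompose_mul_add_of_left_mem 𝒜 (hn i)]
  let zy : Fin l → ℕ → HomogeneousLocalization.NumDenSameDeg 𝒜 p.primeCompl := fun i k =>
    ⟨k * (d + 1), ⟨(decompose 𝒜 (m * a i) k : A) * f ^ k, by
        have h1 := SetLike.mul_mem_graded (decompose 𝒜 (m * a i) k).2
          (SetLike.pow_mem_graded k hf)
        rwa [smul_eq_mul, add_comm, ← Nat.mul_succ] at h1⟩,
      ⟨g ^ k, SetLike.pow_mem_graded k hg⟩, p.primeCompl.pow_mem hgp k⟩
  let y : Fin l → ℕ → R₀ := fun i k => e.symm (HomogeneousLocalization.mk (zy i k))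
  have hy : ∀ i k, algebraMap A (Localization.AtPrime p) (g ^ k) * φ 𝒜 p e (y i k) =
      algebraMap A _ ((decompose 𝒜 (m * a i) k : A) * f ^ k) := fun i k =>
    num_eq 𝒜 p e (y i k) (zy i k) (e.apply_symm_apply _)
  let K : Finset ℕ := Finset.univ.biUnion fun i => DFinsupp.support (decompose 𝒜 (m * a i))
  let v : ℕ → Localization.AtPrime p := fun k =>
    IsLocalization.mk' _ (g ^ k) (⟨m * s * f ^ k, p.primeCompl.mul_mem
      (p.primeCompl.mul_mem hm s.2) (p.primeCompl.pow_mem hfp k)⟩ : p.primeCompl)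
  have hv : ∀ k, algebraMap A (Localization.AtPrime p) (m * s * f ^ k) * v k =
      algebraMap A _ (g ^ k) := fun k =>
    IsLocalization.mk'_spec' (Localization.AtPrime p) (g ^ k) (⟨m * s * f ^ k, p.primeCompl.mul_mem
      (p.primeCompl.mul_mem hm s.2) (p.primeCompl.pow_mem hfp k)⟩ : p.primeCompl)
  refine ⟨K.card, fun i j => y i (K.equivFin.symm j), fun j => v (K.equivFin.symm j),
    fun i => ?_, fun j => ?_⟩
  · have hu : IsUnit (algebraMap A (Localization.AtPrime p) (m * s)) :=
      IsLocalization.map_units _ (⟨m * s, p.primeCompl.mul_mem hm s.2⟩ : p.primeCompl)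
    apply hu.mul_left_cancel
    have h2 : m * a i = ∑ k ∈ K, (decompose 𝒜 (m * a i) k : A) := by
      conv_lhs => rw [← DirectSum.sum_support_decompose 𝒜 (m * a i)]
      refine Finset.sum_subset (fun k hk => Finset.mem_biUnion.mpr ⟨i, Finset.mem_univ i, hk⟩)
        fun k _ hk => ?_
      rw [DFinsupp.notMem_support_iff.mp hk]; rfl
    have hterm : ∀ k : ℕ, algebraMap A (Localization.AtPrime p) (decompose 𝒜 (m * a i) k : A) =
        algebraMap A (Localization.AtPrime p) (m * s) * (y i k • v k) := fun k => by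
      have hu' : IsUnit (algebraMap A (Localization.AtPrime p) (f ^ k)) :=
        IsLocalization.map_units _ (⟨_, p.primeCompl.pow_mem hfp k⟩ : p.primeCompl)
      apply hu'.mul_left_cancel
      rw [← map_mul, mul_comm (f ^ k), ← hy i k, ← hv k]
      show _ = _ * (_ * (φ 𝒜 p e (y i k) * v k))
      simp only [map_mul]
      ring
    calc algebraMap A (Localization.AtPrime p) (m * s) * x i
        = algebraMap A _ (m * a i) := by rw [map_mul, map_mul, ha' i]; ring
      _ = ∑ k ∈ K, algebraMap A (Localization.AtPrime p) (m * s) * (y i k • v k) := by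
          conv_lhs => rw [h2, map_sum]
          exact Finset.sum_congr rfl fun k _ => hterm k
      _ = _ := by
          rw [Finset.mul_sum, ← Finset.sum_coe_sort K]
          exact (K.equivFin.symm.sum_comp fun k : K =>
            algebraMap A (Localization.AtPrime p) (m * s) * (y i k • v k)).symm
  · apply φ_injective 𝒜 p e
    rw [map_sum, map_zero]
    dsimp only
    generalize hk' : ((K.equivFin.symm j : K) : ℕ) = k
    have hu : IsUnit (algebraMap A (Localization.AtPrime p) (G * g ^ k)) :=
      IsLocalization.map_units _ (⟨_, p.primeCompl.mul_mem hGp (p.primeCompl.pow_mem hgp k)⟩ :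
        p.primeCompl)
    apply hu.mul_left_cancel
    rw [mul_zero, Finset.mul_sum]
    calc ∑ i, algebraMap A (Localization.AtPrime p) (G * g ^ k) * φ 𝒜 p e (c i * y i k)
        = algebraMap A (Localization.AtPrime p)
            ((∑ i, n i * (decompose 𝒜 (m * a i) k : A)) * f ^ k) := by
          rw [Finset.sum_mul, map_sum]
          refine Finset.sum_congr rfl fun i _ => ?_
          calc _ = (algebraMap A (Localization.AtPrime p) G * φ 𝒜 p e (c i)) *
                (algebraMap A (Localization.AtPrime p) (g ^ k) * φ 𝒜 p e (y i k)) := by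
                rw [map_mul, map_mul (φ 𝒜 p e)]; ring
            _ = _ := by rw [hnc, hy, ← map_mul _ (n i), mul_assoc (n i)]
      _ = 0 := by rw [hk, zero_mul, map_zero]

open AlgebraicGeometry Pointwise in
/-- Let A = ⊕_{n ≥ 0} A_n be a commutative Noetherian graded ring satisfying condition (#) — there is an
integer d_0 such that for every d ≥ d_0 the Veronese subring A^(d) is generated by A_d over A_0,
equivalently A_{(n+1)d} is additively generated by the products A_d A_{nd} for every n ≥ 1 — and
assume A is a Gorenstein ring. Then X = Proj A is a Gorenstein scheme: all of its local rings are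
Gorenstein local rings. (The Cohen–Macaulay case of the same lemma is stated separately.) -/
theorem result (A : Type u) [CommRing A] (𝒜 : ℕ → AddSubgroup A) [GradedRing 𝒜] [LocCoh.IsGorensteinRing A] (hsharp : ∃ d₀ : ℕ, ∀ d : ℕ, d₀ ≤ d → ∀ n : ℕ, 1 ≤ n → 𝒜 ((n + 1) * d) = AddSubgroup.closure ((𝒜 d : Set A) * (𝒜 (n * d) : Set A))) (x : Proj 𝒜) : LocCoh.IsGorensteinLocalRing ((Proj 𝒜).presheaf.stalk x) := by
  obtain ⟨d₀, hd₀⟩ := hsharp
  obtain ⟨e, f, he, hf, hfp⟩ := Groth.Agent.H80.ProjStalkDepth.exists_deg 𝒜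
    x.asHomogeneousIdeal.toIdeal x.not_irrelevant_le
  have key : ∀ d, d₀ ≤ d → ∃ g ∈ 𝒜 d, g ∉ x.asHomogeneousIdeal.toIdeal := by
    intro d hd
    by_contra hc
    push Not at hc
    have hfd : f ^ d ∈ 𝒜 (e * d) := by
      simpa [mul_comm] using SetLike.pow_mem_graded d hf
    obtain ⟨n, rfl⟩ : ∃ n, e = n + 1 := ⟨e - 1, by omega⟩
    have hin : f ^ d ∈ x.asHomogeneousIdeal.toIdeal := by
      rcases Nat.eq_zero_or_pos n with rfl | hn
      · exact hc _ (by simpa using hfd)
      · rw [hd₀ d hd n hn] at hfd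
        refine (AddSubgroup.closure_le
          (Submodule.toAddSubgroup x.asHomogeneousIdeal.toIdeal)).mpr ?_ hfd
        rintro _ ⟨u, hu, w, -, rfl⟩
        exact Ideal.mul_mem_right w _ (hc u hu)
    exact hfp (x.isPrime.mem_of_pow_mem d hin)
  obtain ⟨g₀, hg₀, hg₀p⟩ := key d₀ le_rfl
  obtain ⟨g₁, hg₁, hg₁p⟩ := key (d₀ + 1) (Nat.le_succ _)
  let p := x.asHomogeneousIdeal.toIdeal
  let E := (Proj.stalkIso 𝒜 x).commRingCatIsoToRingEquiv
  have hflat := flat_φ 𝒜 p E hg₀ hg₀p hg₁ hg₁p
  have := Groth.Agent.H80.ProjStalkDepth.isNoetherianRing 𝒜 p E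
  have : IsNoetherianRing (Localization.AtPrime p) :=
    IsLocalization.isNoetherianRing p.primeCompl _ inferInstance
  let _ : Algebra ((Proj 𝒜).presheaf.stalk x) (Localization.AtPrime p) :=
    (Groth.Agent.H80.ProjStalkDepth.φ 𝒜 p E).toAlgebra
  have : Module.Flat ((Proj 𝒜).presheaf.stalk x) (Localization.AtPrime p) := hflat
  have : IsLocalHom (algebraMap ((Proj 𝒜).presheaf.stalk x) (Localization.AtPrime p)) := by
    refine ((IsLocalRing.local_hom_TFAE _).out 0 2).mpr (IsLocalRing.le_maximalIdeal fun h => ?_)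
    have h1 := Groth.Agent.H80.ProjStalkDepth.comap_map_eq 𝒜 p E
      (IsLocalRing.maximalIdeal ((Proj 𝒜).presheaf.stalk x))
    rw [RingHom.algebraMap_toAlgebra] at h
    rw [h, Ideal.comap_top] at h1
    exact (IsLocalRing.maximalIdeal.isMaximal _).ne_top h1.symm
  have hG : LocCoh.IsGorensteinLocalRing (Localization.AtPrime p) :=
    LocCoh.IsGorensteinRing.isGorensteinLocalRing_localization p
  exact ((Groth.Agent.Lib.Goren.Flat.isGorensteinLocalRing_flat_iff
    ((Proj 𝒜).presheaf.stalk x) (Localization.AtPrime p)).mp hG).1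

end Groth.Agent.S18666
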