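import Groth.Statements.S18668
import Groth.Agent.Lib.FunFld.SectRing
-- import your own Groth.Agent.* helpers here

set_option autoImplicit false
universe u
open GrSect

namespace Groth.Agent.S18668
open Groth.Agent.Lib.FunFld WithZero Polynomial

/-- Let X be a complete smooth curve of genus g ≥ 1 over an algebraically closed field k, P a closed
point, R = R_{X,P} = ⊕_{n ≥ 0} H^0(X, O_X(nP)) and H = H_{X,P} its Weierstrass semigroup. For any
nonzero t of degree one in R, t is prime in R and the quotient R/tR is isomorphic to k[H], the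
semigroup algebra of H. Here the complete smooth curve X over the algebraically closed field k is
given by its function field K/k (a function field of one variable in which k is algebraically
closed), the closed point P by a place of K/k, g ≥ 1 is the genus, H^0(X, O_X(nP)) = L(nP), and
R_{X,P} = ⊕_{n ≥ 0} L(nP)·T^n is realised as the k-subalgebra of K[T] of polynomials whose
coefficient of T^n lies in L(nP); the Weierstrass semigroup H_{X,P} is the set of n ≥ 0 with ℓ(nP) =
ℓ((n−1)P) + 1. The isomorphism is stated as a k-algebra isomorphism with the semigroup algebra of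
the additive submonoid of ℕ generated by H_{X,P} (which is H_{X,P} itself). -/
theorem result (k : Type u) [Field k] [IsAlgClosed k] (K : Type u) [Field K] [Algebra k K] (hK : FunFld.IsFunctionField k K) (hg : 1 ≤ FunFld.genus k K) (P : FunFld.Place k K) (t : ↥(W4c6gradedringsgw.sectRing (Finsupp.single P 1 : FunFld.Divisor k K))) (a : K) (ha : a ≠ 0) (ht : (t : Polynomial K) = Polynomial.C a * Polynomial.X) : Prime t ∧ Nonempty ((↥(W4c6gradedringsgw.sectRing (Finsupp.single P 1 : FunFld.Divisor k K)) ⧸ Ideal.span {t}) ≃ₐ[k] AddMonoidAlgebra k ↥(AddSubmonoid.closure (W4c6gradedringsgw.poleOrders P))) := by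
  classical
  have hP := Hasse.Wdiv.deg_eq_one hK P
  obtain ⟨π, ψ, -, hπ, hψ, -, -⟩ := Hasse.Wdiv.exists_local hK P
  have haL : a ∈ FunFld.L (Finsupp.single P 1) := by
    have h := (SectRing.mem_sectRing_iff P).mp t.2 1
    rwa [ht, coeff_C_mul_X, if_pos rfl, Nat.cast_one] at h
  obtain ⟨c, rfl⟩ := SectRing.L_one hK hP hg haL
  have hc : c ≠ 0 := fun h => ha (by rw [h, map_zero])
  set χ := SectRing.lead hπ hψ
  have hχt : χ t = 0 := by
    ext n
    rw [coeff_zero, SectRing.coeff_lead_eq_zero_iff hπ hψ, ht, coeff_C_mul_X]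
    split_ifs with h
    · subst h
      rw [Nat.cast_one, sub_self, Finsupp.single_zero, Degree.L_zero hK, Submodule.one_eq_range]
      exact ⟨c, rfl⟩
    · exact zero_mem _
  have hker : RingHom.ker χ = Ideal.span {t} := by
    refine le_antisymm (fun p hp => ?_) (Ideal.span_le.mpr (Set.singleton_subset_iff.mpr hχt))
    obtain ⟨q, hq⟩ := SectRing.lead_eq_zero_imp hK hP hπ hψ hp
    refine Ideal.mem_span_singleton.mpr ⟨c⁻¹ • q, Subtype.ext ?_⟩
    rw [hq, Subalgebra.coe_mul, Subalgebra.coe_smul, ht, Algebra.smul_def, Polynomial.algebraMap_apply]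
    rw [show C ((algebraMap k K) c) * X * (C ((algebraMap k K) c⁻¹) * (q : K[X])) =
      C (algebraMap k K c * algebraMap k K c⁻¹) * X * (q : K[X]) by rw [C_mul]; ring,
      ← map_mul, mul_inv_cancel₀ hc, map_one, C_1, one_mul]
  have ht0 : t ≠ 0 := fun h => by
    have h1 := congrArg (fun p : K[X] => p.coeff 1) ht
    rw [h, ZeroMemClass.coe_zero, coeff_zero, coeff_C_mul_X, if_pos rfl] at h1
    exact ha h1.symm
  refine ⟨(Ideal.span_singleton_prime ht0).mp (hker ▸ RingHom.ker_isPrime χ), ?_⟩
  set H := AddSubmonoid.closure (W4c6gradedringsgw.poleOrders P)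
  let ι : AddMonoidAlgebra k H →ₐ[k] k[X] :=
    (Polynomial.toFinsuppIsoAlg k).symm.toAlgHom.comp (AddMonoidAlgebra.mapDomainAlgHom k k H.subtype)
  have hι : Function.Injective ι :=
    (Polynomial.toFinsuppIsoAlg k).symm.injective.comp
      (AddMonoidAlgebra.mapDomain_injective Subtype.val_injective)
  have hmono : ∀ (m : H) (r : k), ι (AddMonoidAlgebra.single m r) = monomial (m : ℕ) r := fun m r => by
    change (Polynomial.toFinsuppIsoAlg k).symm (AddMonoidAlgebra.mapDomain H.subtype (AddMonoidAlgebra.single m r)) = _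
    rw [AddMonoidAlgebra.mapDomain_single]
    exact Polynomial.ofFinsupp_single _ _
  have hH : ∀ m ∈ H, Gaps.IsPole P m := fun m hm =>
    AddSubmonoid.closure_induction (fun x hx => (SectRing.mem_poleOrders hK hP x).mp hx)
      (Gaps.isPole_zero P) (fun x y _ _ hx hy => Gaps.isPole_add P hx hy) hm
  have hrange : χ.range = ι.range := by
    refine le_antisymm ?_ ?_
    · rintro _ ⟨p, rfl⟩
      change χ p ∈ ι.range
      rw [← Polynomial.sum_monomial_eq (χ p)]
      refine sum_mem fun n hn => ?_
      exact ⟨AddMonoidAlgebra.single ⟨n, AddSubmonoid.subset_closure ((SectRing.mem_poleOrders hK hP n).mpr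
        (SectRing.isPole_of_coeff_lead_ne_zero hπ hψ p (Polynomial.mem_support_iff.mp hn)))⟩ _, hmono _ _⟩
    · rintro _ ⟨x, rfl⟩
      induction x using AddMonoidAlgebra.induction with
      | zero => simp
      | single_add m r f _ _ ih =>
        rw [map_add]
        refine add_mem ?_ ih
        obtain ⟨f, -, hf, hlead⟩ := SectRing.exists_lead_eq_monomial hπ hψ (hH _ m.2) r
        exact ⟨_, hlead.trans (hmono m r).symm⟩
  exact ⟨(Ideal.quotientEquivAlgOfEq k hker.symm).trans ((Ideal.quotientKerEquivRange χ).trans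
    ((Subalgebra.equivOfEq _ _ hrange).trans (AlgEquiv.ofInjective ι hι).symm))⟩

end Groth.Agent.S18668
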