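import Groth.Statements.S18669
import Groth.Agent.Lib.FunFld.Sect.Gorenstein
import Groth.Agent.Lib.FunFld.Hasse.Wdiv
-- import your own Groth.Agent.* helpers here

set_option autoImplicit false
universe u
open GrSect

namespace Groth.Agent.S18669
open Groth.Agent.Lib.FunFld

/-- Let X be a complete smooth curve of genus g ≥ 1 over an algebraically closed field k and P a closed
point. Then R_{X,P} = ⊕_{n ≥ 0} H^0(X, O_X(nP)) is a Gorenstein ring if and only if the Weierstrass
semigroup H_{X,P} is symmetric, i.e. there is an integer d such that an integer n lies in H_{X,P}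
exactly when d − n does not. Here the complete smooth curve X over the algebraically closed field k
is given by its function field K/k (a function field of one variable in which k is algebraically
closed), the closed point P by a place of K/k, g ≥ 1 is the genus, H^0(X, O_X(nP)) = L(nP), and
R_{X,P} = ⊕_{n ≥ 0} L(nP)·T^n is realised as the k-subalgebra of K[T] of polynomials whose
coefficient of T^n lies in L(nP); the Weierstrass semigroup H_{X,P} is the set of n ≥ 0 with ℓ(nP) =
ℓ((n−1)P) + 1. -/
theorem result (k : Type u) [Field k] [IsAlgClosed k] (K : Type u) [Field K] [Algebra k K] (hK : FunFld.IsFunctionField k K) (hg : 1 ≤ FunFld.genus k K) (P : FunFld.Place k K) : LocCoh.IsGorensteinRing ↥(W4c6gradedringsgw.sectRing (Finsupp.single P 1 : FunFld.Divisor k K)) ↔ W4c6gradedringsgw.IsSymmetric (W4c6gradedringsgw.poleOrders P) := by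
  classical
  have hP := Hasse.Wdiv.deg_eq_one hK P
  obtain ⟨π, ψ, -, hπ, hψ, -, -⟩ := Hasse.Wdiv.exists_local hK P
  let D : Sect.Basis.Setup P :=
    { hK := hK, hP := hP, t := π, ψ := ψ, ht := hπ, hψ := hψ, m := 2 * FunFld.genus k K,
      hm := by omega, hHm := Gaps.isPole_of_two_mul_le hK hP le_rfl }
  have hS := Sect.Basis.semigp D
  have hmem : ∀ n : ℤ, (∃ h ∈ W4c6gradedringsgw.poleOrders P, (h : ℤ) = n) ↔
      ∃ h, Gaps.IsPole P h ∧ (h : ℤ) = n := fun n =>
    exists_congr fun h => and_congr_left' (SectRing.mem_poleOrders hK hP h)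
  constructor
  · intro hG
    obtain ⟨d, hd⟩ := Sect.Apery.symmetric_of_unique hS D.hm D.hHm
      (Sect.Gorenstein.unique_of_gorenstein D hG)
    exact ⟨d, fun n => by rw [hmem, hmem]; exact hd n⟩
  · rintro ⟨d, hd⟩
    obtain ⟨top, op, hop⟩ := Sect.Apery.symmetric_pair hS D.hm D.hHm (d := d)
      (fun n => by rw [← hmem, ← hmem]; exact hd n)
    exact Sect.Gorenstein.gorenstein_of_symmetric D top op hop

end Groth.Agent.S18669
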