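import Groth.Statements.S18670
import Groth.Agent.Lib.FunFld.SectRing
-- import your own Groth.Agent.* helpers here

set_option autoImplicit false
universe u
open GrSect

namespace Groth.Agent.S18670
open Groth.Agent.Lib.FunFld WithZero Polynomial

/-- Let X be a complete smooth curve of genus g ≥ 1 over an algebraically closed field k, P a closed
point, R = R_{X,P} and H = H_{X,P}. Then emb(R) = emb(H) + 1, where emb(R) = ν(R_+) is the minimal
number of generators of the irrelevant ideal R_+ (the embedding dimension of the local ring of R at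
R_+) and emb(H) is the number of minimal generators of the numerical semigroup H. (The published
item also gives the multiplicity m(R) = m(H); only the embedding-dimension assertion is stated
here.) Here the complete smooth curve X over the algebraically closed field k is given by its
function field K/k (a function field of one variable in which k is algebraically closed), the closed
point P by a place of K/k, g ≥ 1 is the genus, H^0(X, O_X(nP)) = L(nP), and R_{X,P} = ⊕_{n ≥ 0}
L(nP)·T^n is realised as the k-subalgebra of K[T] of polynomials whose coefficient of T^n lies in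
L(nP); the Weierstrass semigroup H_{X,P} is the set of n ≥ 0 with ℓ(nP) = ℓ((n−1)P) + 1. The
irrelevant ideal is the kernel of the constant-coefficient map R → K. -/
theorem result (k : Type u) [Field k] [IsAlgClosed k] (K : Type u) [Field K] [Algebra k K] (hK : FunFld.IsFunctionField k K) (hg : 1 ≤ FunFld.genus k K) (P : FunFld.Place k K) : (RingHom.ker (Polynomial.constantCoeff.comp (W4c6gradedringsgw.sectRing (Finsupp.single P 1 : FunFld.Divisor k K)).val.toRingHom)).spanFinrank = Set.ncard (W4c6gradedringsgw.minGens (W4c6gradedringsgw.poleOrders P)) + 1 := by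
  classical
  have hP := Hasse.Wdiv.deg_eq_one hK P
  obtain ⟨π, ψ, -, hπ, hψ, -, -⟩ := Hasse.Wdiv.exists_local hK P
  set R := W4c6gradedringsgw.sectRing (Finsupp.single P 1 : FunFld.Divisor k K)
  set I := RingHom.ker (Polynomial.constantCoeff.comp R.val.toRingHom)
  set χ := SectRing.lead hπ hψ
  set M := W4c6gradedringsgw.minGens (W4c6gradedringsgw.poleOrders P)
  set g := FunFld.genus k K
  have hI : ∀ p : R, p ∈ I ↔ (p : K[X]).coeff 0 = 0 := fun p => Iff.rfl
  have hpole : ∀ n, n ∈ W4c6gradedringsgw.poleOrders P ↔ Gaps.IsPole P n := SectRing.mem_poleOrders hK hP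
  have hMfin : M.Finite := (Set.finite_Iic (4 * g + 1)).subset fun h hh => by
    obtain ⟨-, -, hsum⟩ := hh
    by_contra hlt
    rw [Set.mem_Iic] at hlt
    exact hsum (2 * g) ((hpole _).mpr (Gaps.isPole_of_two_mul_le hK hP le_rfl)) (h - 2 * g)
      ((hpole _).mpr (Gaps.isPole_of_two_mul_le hK hP (by omega))) (by omega) (by omega) (by omega)
  have hT : C (algebraMap k K 1) * X ∈ R := SectRing.C_mul_X_mem 1
  have hTI : (⟨_, hT⟩ : R) ∈ I := by rw [hI]; simp
  -- generators
  choose f hfL hf hlead using fun h : M => SectRing.exists_lead_eq_monomial hπ hψ ((hpole _).mp h.2.1) (1 : k)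
  let gen : M → R := fun h => ⟨monomial (h : ℕ) (f h), hf h⟩
  have hgenI : ∀ h, gen h ∈ I := fun h => by
    rw [hI]
    exact (coeff_monomial).trans (if_neg h.2.2.1)
  set S : Set R := insert ⟨_, hT⟩ (Set.range gen)
  have hSfin : S.Finite := by
    have := hMfin.to_subtype
    exact (Set.finite_range gen).insert _
  have hmono : ∀ (n : ℕ), 1 ≤ n → ∀ (z : K) (hz : monomial n z ∈ R), (⟨_, hz⟩ : R) ∈ Ideal.span S := by
    intro n
    induction n using Nat.strong_induction_on with
    | _ n ih =>
    intro hn z hz
    have hlow : ∀ (w : K) (hw : monomial n w ∈ R), χ ⟨_, hw⟩ = 0 → (⟨_, hw⟩ : R) ∈ Ideal.span S :=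
      fun w hw h0 => by
        obtain ⟨q, hq⟩ := SectRing.lead_eq_zero_imp hK hP hπ hψ h0
        have : (⟨_, hw⟩ : R) = (⟨_, hT⟩ : R) * q := Subtype.ext (by
          rw [hq, Subalgebra.coe_mul]
          change _ = C (algebraMap k K 1) * X * _
          rw [map_one, C_1, one_mul])
        rw [this]
        exact Ideal.mul_mem_right _ _ (Ideal.subset_span (Set.mem_insert _ _))
    have hcoef : χ ⟨_, hz⟩ = monomial n ((χ ⟨_, hz⟩).coeff n) := by
      ext m
      rw [coeff_monomial]
      split_ifs with h
      · subst h; rfl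
      · rw [SectRing.coeff_lead_eq_zero_iff hπ hψ, coeff_monomial, if_neg h]
        exact zero_mem _
    set c := (χ ⟨_, hz⟩).coeff n with hc
    by_cases hc0 : c = 0
    · exact hlow z hz (by rw [hcoef, hc0, monomial_zero_right])
    have hnp := SectRing.isPole_of_coeff_lead_ne_zero hπ hψ _ hc0
    -- an element of the ideal with the same leading coefficient
    obtain ⟨w, hw, hwI, hwlead⟩ : ∃ (w : K) (hw : monomial n w ∈ R),
        (⟨_, hw⟩ : R) ∈ Ideal.span S ∧ χ ⟨_, hw⟩ = monomial n c := by
      by_cases hM : n ∈ M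
      · refine ⟨c • f ⟨n, hM⟩, by rw [← smul_monomial]; exact R.smul_mem (hf ⟨n, hM⟩) c, ?_, ?_⟩
        · have : (⟨monomial n (c • f ⟨n, hM⟩), by rw [← smul_monomial]; exact R.smul_mem (hf ⟨n, hM⟩) c⟩ : R) =
              c • gen ⟨n, hM⟩ := Subtype.ext (smul_monomial _ _ _).symm
          rw [this, Algebra.smul_def]
          exact Ideal.mul_mem_left _ _ (Ideal.subset_span (Set.mem_insert_of_mem _ ⟨_, rfl⟩))
        · have : (⟨monomial n (c • f ⟨n, hM⟩), by rw [← smul_monomial]; exact R.smul_mem (hf ⟨n, hM⟩) c⟩ : R) =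
              c • gen ⟨n, hM⟩ := Subtype.ext (smul_monomial _ _ _).symm
          rw [this, map_smul, hlead, smul_monomial, smul_eq_mul, mul_one]
      · obtain ⟨a, ha, b, hb, ha0, hb0, hab⟩ : ∃ a ∈ W4c6gradedringsgw.poleOrders P,
            ∃ b ∈ W4c6gradedringsgw.poleOrders P, a ≠ 0 ∧ b ≠ 0 ∧ a + b = n := by
          by_contra! hno
          exact hM ⟨(hpole n).mpr hnp, by omega, fun a ha b hb ha0 hb0 => hno a ha b hb ha0 hb0⟩
        obtain ⟨u, -, hu, hulead⟩ := SectRing.exists_lead_eq_monomial hπ hψ ((hpole a).mp ha) c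
        obtain ⟨v, -, hv, hvlead⟩ := SectRing.exists_lead_eq_monomial hπ hψ ((hpole b).mp hb) (1 : k)
        have hmul : monomial n (u * v) = monomial a u * monomial b v := by rw [monomial_mul_monomial, hab]
        refine ⟨u * v, hmul ▸ R.mul_mem hu hv, ?_, ?_⟩
        · rw [show (⟨monomial n (u * v), hmul ▸ R.mul_mem hu hv⟩ : R) = ⟨_, hu⟩ * ⟨_, hv⟩ from Subtype.ext hmul]
          exact Ideal.mul_mem_left _ _ (ih b (by omega) (by omega) v hv)
        · rw [show (⟨monomial n (u * v), hmul ▸ R.mul_mem hu hv⟩ : R) = ⟨_, hu⟩ * ⟨_, hv⟩ from Subtype.ext hmul,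
            map_mul, hulead, hvlead, monomial_mul_monomial, hab, mul_one]
    have hsub : monomial n (z - w) ∈ R := by rw [map_sub]; exact R.sub_mem hz hw
    have hzw : (⟨_, hz⟩ : R) = ⟨_, hw⟩ + ⟨_, hsub⟩ := Subtype.ext (by
      rw [Subalgebra.coe_add, ← map_add, add_sub_cancel])
    rw [hzw]
    refine add_mem hwI (hlow _ hsub ?_)
    rw [show (⟨_, hsub⟩ : R) = ⟨_, hz⟩ - ⟨_, hw⟩ from Subtype.ext (map_sub (monomial n) z w),
      map_sub, hcoef, hwlead, sub_self]
  have hspan : Ideal.span S = I := by
    refine le_antisymm (Ideal.span_le.mpr ?_) fun p hp => ?_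
    · rintro x (rfl | ⟨h, rfl⟩)
      exacts [hTI, hgenI h]
    · have hm : ∀ n, monomial n ((p : K[X]).coeff n) ∈ R := fun n =>
        SectRing.monomial_mem P ((SectRing.mem_sectRing_iff P).mp p.2 n)
      have hsum : p = ∑ n ∈ (p : K[X]).support, (⟨_, hm n⟩ : R) := Subtype.ext (by
        rw [AddSubmonoidClass.coe_finsetSum]
        exact (Polynomial.sum_monomial_eq (p : K[X])).symm)
      rw [hsum]
      refine sum_mem fun n hn => hmono n ?_ _ _
      by_contra h
      rw [Polynomial.mem_support_iff, show n = 0 by omega] at hn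
      exact hn ((hI p).mp hp)
  have hMcard : S.ncard ≤ M.ncard + 1 := by
    refine (Set.ncard_insert_le _ _).trans (Nat.add_le_add_right ?_ 1)
    have := hMfin.to_subtype
    rw [← Set.image_univ]
    refine (Set.ncard_image_le Set.finite_univ).trans ?_
    rw [Set.ncard_univ, Nat.card_coe_set_eq]
  have hIfg : I.FG := by rw [← hspan]; exact Submodule.fg_span hSfin
  refine le_antisymm ?_ ?_
  · conv_lhs => rw [← hspan]
    exact (Submodule.spanFinrank_span_le_ncard_of_finite hSfin).trans hMcard
  obtain ⟨s, hscard, hs⟩ := Submodule.FG.exists_span_finset_card_eq_spanFinrank hIfg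
  rw [← hscard]
  have := hMfin.fintype
  -- independent functionals
  let c1 : R →ₗ[k] k :=
    { toFun := fun p => (ψ ((p : K[X]).coeff 1)).coeff 0
      map_add' := fun p q => by simp
      map_smul' := fun r p => by
        simp [Algebra.smul_def, LocRes.algebraMap_eq_C] }
  let Λ : R →ₗ[k] (Option M → k) := LinearMap.pi fun o => match o with
    | none => c1
    | some h => (Polynomial.lcoeff k h).comp χ.toLinearMap
  have hΛmul : ∀ r : R, ∀ p ∈ I, ∃ e : k, Λ (r * p) = e • Λ p := by
    intro r p hp
    have hr0 : (r : K[X]).coeff 0 ∈ FunFld.L (0 : FunFld.Divisor k K) := by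
      simpa using (SectRing.mem_sectRing_iff P).mp r.2 0
    rw [Degree.L_zero hK, Submodule.one_eq_range] at hr0
    obtain ⟨e, he⟩ := hr0
    refine ⟨e, funext fun o => ?_⟩
    match o with
    | none =>
      change (ψ (((r * p : R) : K[X]).coeff 1)).coeff 0 = e * (ψ ((p : K[X]).coeff 1)).coeff 0
      rw [Subalgebra.coe_mul, Polynomial.coeff_mul, Finset.Nat.antidiagonal_succ]
      simp [(hI p).mp hp, ← he, LocRes.algebraMap_eq_C]
    | some h =>
      change (χ (r * p)).coeff (h : ℕ) = e * (χ p).coeff (h : ℕ)
      have hr : (χ r).coeff 0 = e := by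
        rw [SectRing.coeff_lead, pow_zero, mul_one, ← he]
        simp [LocRes.algebraMap_eq_C]
      rw [map_mul, Polynomial.coeff_mul, Finset.sum_eq_single (0, (h : ℕ)), hr]
      · rintro ⟨i, j⟩ hij hne
        rw [Finset.HasAntidiagonal.mem_antidiagonal] at hij
        by_contra h0
        have hi : i ≠ 0 := fun hi => hne (by simp_all)
        have hj : j ≠ 0 := fun hj => (right_ne_zero_of_mul h0) (by
          rw [hj]
          change (χ p).coeff 0 = 0
          rw [SectRing.coeff_lead, (hI p).mp hp]; simp)
        exact h.2.2.2 i ((hpole i).mpr (SectRing.isPole_of_coeff_lead_ne_zero hπ hψ r (left_ne_zero_of_mul h0)))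
          j ((hpole j).mpr (SectRing.isPole_of_coeff_lead_ne_zero hπ hψ p (right_ne_zero_of_mul h0))) hi hj hij
      · intro h'; exact absurd (by simp) h'
  have hΛspan : ∀ p ∈ I, Λ p ∈ Submodule.span k (Λ '' (s : Set R)) := fun p hp => by
    rw [← hs] at hp
    refine Submodule.span_induction (fun x hx => Submodule.subset_span ⟨x, hx, rfl⟩)
      (by rw [map_zero]; exact zero_mem _) (fun a b _ _ ha hb => by rw [map_add]; exact add_mem ha hb)
      (fun r x hx hΛx => ?_) hp
    obtain ⟨e, he⟩ := hΛmul r x (hs ▸ hx)
    rw [smul_eq_mul, he]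
    exact Submodule.smul_mem _ e hΛx
  have htop : Submodule.span k (Λ '' (s : Set R)) = ⊤ := by
    rw [eq_top_iff, ← (Pi.basisFun k (Option M)).span_eq, Submodule.span_le]
    rintro _ ⟨o, rfl⟩
    match o with
    | none =>
      have : Λ ⟨_, hT⟩ = Pi.basisFun k (Option M) none := by
        funext o
        match o with
        | none => simp [Λ, c1, Pi.basisFun_apply]
        | some h =>
          rw [Pi.basisFun_apply, Pi.single_eq_of_ne (by simp)]
          change (χ ⟨_, hT⟩).coeff (h : ℕ) = 0
          rw [SectRing.coeff_lead_eq_zero_iff hπ hψ, coeff_C_mul_X]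
          split_ifs with h1
          · rw [h1, Nat.cast_one, sub_self, Finsupp.single_zero, Degree.L_zero hK, Submodule.one_eq_range]
            exact ⟨1, rfl⟩
          · exact zero_mem _
      exact this ▸ hΛspan _ hTI
    | some h =>
      have : Λ (gen h) = Pi.basisFun k (Option M) (some h) := by
        funext o
        match o with
        | none =>
          rw [Pi.basisFun_apply, Pi.single_eq_of_ne (by simp)]
          change (ψ ((monomial (h : ℕ) (f h)).coeff 1)).coeff 0 = 0
          rw [coeff_monomial, if_neg fun (h1 : (h : ℕ) = 1) =>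
            SectRing.not_isPole_one hK hP hg (h1 ▸ (hpole _).mp h.2.1)]
          simp
        | some h' =>
          rw [Pi.basisFun_apply, Pi.single_apply]
          change (χ (gen h)).coeff (h' : ℕ) = _
          rw [hlead, coeff_monomial]
          simp [Subtype.ext_iff, eq_comm]
      exact this ▸ hΛspan _ (hgenI h)
  have hcard : Fintype.card (Option M) ≤ s.card := by
    have h1 : Module.finrank k (Submodule.span k (Λ '' (s : Set R))) ≤ (s.image Λ).card := by
      rw [← Finset.coe_image]
      exact finrank_span_finset_le_card _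
    rw [htop, finrank_top, Module.finrank_fintype_fun_eq_card] at h1
    exact h1.trans Finset.card_image_le
  rw [Fintype.card_option, ← Nat.card_eq_fintype_card, Nat.card_coe_set_eq] at hcard
  exact hcard

end Groth.Agent.S18670
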