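import Groth.Statements.S18672
import Groth.Agent.Lib.Graded.Basic
import Mathlib

set_option autoImplicit false
universe u
open GrLC

namespace Groth.Agent.S18672

open Groth.Agent.Lib.Graded.Basic in
theorem mem_mul_one {R : Type u} [CommRing R] (𝒜 : ℤ → AddSubgroup R) [GradedRing 𝒜]
    (hstd : Ideal.span (⋃ n ∈ Set.Ioi (0 : ℤ), (𝒜 n : Set R)) = Ideal.span ((𝒜 1 : AddSubgroup R) : Set R))
    {n : ℤ} (hn : 0 < n) {x : R} (hx : x ∈ 𝒜 n) :
    x ∈ AddSubgroup.closure {z : R | ∃ u ∈ 𝒜 (n - 1), ∃ v ∈ 𝒜 1, u * v = z} := by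
  have h : x ∈ Ideal.span ((𝒜 1 : AddSubgroup R) : Set R) := hstd ▸ Ideal.subset_span (Set.mem_iUnion₂.mpr ⟨n, hn, hx⟩)
  suffices ∀ z ∈ Ideal.span ((𝒜 1 : AddSubgroup R) : Set R), ∀ r : R,
      proj 𝒜 n (r * z) ∈ AddSubgroup.closure {z : R | ∃ u ∈ 𝒜 (n - 1), ∃ v ∈ 𝒜 1, u * v = z} by
    have h1 := this x h 1
    rwa [one_mul, proj_of_mem 𝒜 hx] at h1
  intro z hz
  induction hz using Submodule.span_induction with
  | zero => intro r; rw [mul_zero, map_zero]; exact zero_mem _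
  | add u v _ _ hu hv => intro r; rw [mul_add, map_add]; exact add_mem (hu r) (hv r)
  | smul c u _ hu => intro r; rw [smul_eq_mul, ← mul_assoc]; exact hu _
  | mem z hz =>
    intro r
    rw [← smul_eq_mul, proj_smul_mem 𝒜 𝒜 hz, smul_eq_mul]
    exact AddSubgroup.subset_closure ⟨_, proj_mem 𝒜 _ r, z, hz, rfl⟩

theorem mem_mul_piece {R : Type u} [CommRing R] (𝒜 : ℤ → AddSubgroup R) [GradedRing 𝒜]
    (hstd : Ideal.span (⋃ n ∈ Set.Ioi (0 : ℤ), (𝒜 n : Set R)) = Ideal.span ((𝒜 1 : AddSubgroup R) : Set R))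
    (s : ℤ) (hs : 0 ≤ s) : ∀ (t : ℕ), ∀ x ∈ 𝒜 (s + t),
      x ∈ AddSubgroup.closure {z : R | ∃ u ∈ 𝒜 s, ∃ v ∈ 𝒜 (t : ℤ), u * v = z} := by
  intro t
  induction t with
  | zero =>
    intro x hx
    rw [Nat.cast_zero, add_zero] at hx
    exact AddSubgroup.subset_closure ⟨x, hx, 1, by rw [Nat.cast_zero]; exact SetLike.GradedOne.one_mem, mul_one x⟩
  | succ t ih =>
    intro x hx
    refine AddSubgroup.closure_le _ |>.mpr ?_ (mem_mul_one 𝒜 hstd (by omega) hx)
    rintro _ ⟨u, hu, v, hv, rfl⟩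
    have hu' : u ∈ 𝒜 (s + t) := by
      rwa [show s + ((t + 1 : ℕ) : ℤ) - 1 = s + t by push_cast; ring] at hu
    have := ih u hu'
    clear hu hu'
    induction this using AddSubgroup.closure_induction with
    | mem w hw =>
      obtain ⟨a, ha, b, hb, rfl⟩ := hw
      refine AddSubgroup.subset_closure ⟨a, ha, b * v, ?_, by rw [mul_assoc]⟩
      rw [Nat.cast_succ]; exact SetLike.GradedMul.mul_mem hb hv
    | zero => rw [zero_mul]; exact zero_mem _
    | add a b _ _ ha hb => rw [add_mul]; exact add_mem ha hb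
    | neg a _ ha => rw [neg_mul]; exact neg_mem ha

/-- Let R be a graded ring defined over a field k = R_0 which is Cohen–Macaulay and generated over k by
R_1 (the standing hypotheses of this section; only generation in degree one is used), q ≥ 1, R' =
R^(q), and a an integer. Then the Veronese submodule [R(a)]^(q) = ⊕_j R_{a+jq} is generated over R'
by its piece R(a)_n = R_{a+n}, where n is the smallest multiple of q with n + a ≥ 0. Here 'graded
ring defined over a field' means R = ⊕_{n ≥ 0} R_n is Noetherian with R_0 a field, and m = R_+ is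
its unique graded maximal ideal. The Veronese subring R^(q) = ⊕_j R_{jq}, regraded by (R^(q))_j =
R_{jq}, is presented abstractly as a ℤ-graded ring R' with an injective ring homomorphism φ : R' → R
carrying R'_j onto R_{jq} for every j. The module [R(a)]^(q) is presented as a graded R'-module M'
with an injective additive map g : M' → R, semilinear over φ, carrying M'_j onto R_{a+jq} for every
j; with n = j₀q, the conclusion is that the R'-span of M'_{j₀} is all of M'. -/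
theorem result (R : Type u) [CommRing R] [LocCoh.IsCohenMacaulayRing R] (𝒜 : ℤ → AddSubgroup R) [GradedRing 𝒜] (hpos : ∀ n : ℤ, n < 0 → 𝒜 n = ⊥) (h0 : IsField (GrLC.deg0 𝒜)) (hstd : Ideal.span (⋃ n ∈ Set.Ioi (0 : ℤ), (𝒜 n : Set R)) = Ideal.span ((𝒜 1 : AddSubgroup R) : Set R)) (q : ℕ) (hq : 0 < q) (R' : Type u) [CommRing R'] (𝒜' : ℤ → AddSubgroup R') [GradedRing 𝒜'] (φ : R' →+* R) (hφ : Function.Injective φ) (hdeg : ∀ j : ℤ, (𝒜' j).map (φ : R' →+ R) = 𝒜 (j * q)) (a : ℤ) (M' : Type u) [AddCommGroup M'] [Module R' M'] (ℳ' : ℤ → AddSubgroup M') [DirectSum.Decomposition ℳ'] [SetLike.GradedSMul 𝒜' ℳ'] (g : M' →ₛₗ[φ] R) (hg : Function.Injective g) (hgdeg : ∀ j : ℤ, (ℳ' j).map (g : M' →+ R) = 𝒜 (a + j * q)) (j₀ : ℤ) (hj₀ : 0 ≤ a + j₀ * q) (hj₀' : a + (j₀ - 1) * q < 0) : Submodule.span R' ((ℳ' j₀ : AddSubgroup M') : Set M') = ⊤ := by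
  classical
  rw [eq_top_iff]
  intro x _
  rw [← Lib.Graded.Basic.sum_proj ℳ' x]
  refine Submodule.sum_mem _ fun j _ => ?_
  set y := Lib.Graded.Basic.proj ℳ' j x
  have hy : g y ∈ 𝒜 (a + j * q) := (hgdeg j).le ⟨y, Lib.Graded.Basic.proj_mem ℳ' j x, rfl⟩
  have key : g y ∈ (Submodule.span R' ((ℳ' j₀ : AddSubgroup M') : Set M')).toAddSubgroup.map (g : M' →+ R) := by
    rcases lt_or_ge (a + j * q) 0 with hneg | hnn
    · rw [hpos _ hneg, AddSubgroup.mem_bot] at hy
      rw [hy]; exact zero_mem _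
    have hjj : j₀ ≤ j := by
      by_contra hlt
      have : j ≤ j₀ - 1 := by omega
      have := mul_le_mul_of_nonneg_right this (Int.natCast_nonneg q)
      omega
    obtain ⟨i, hi⟩ := Int.eq_ofNat_of_zero_le (sub_nonneg.mpr hjj)
    obtain ⟨c, hc⟩ := Int.eq_ofNat_of_zero_le hj₀
    have hsplit : a + j * q = ((i : ℤ) * q) + (c : ℤ) := by
      rw [← hc, ← hi]; ring
    rw [hsplit] at hy
    refine AddSubgroup.closure_le _ |>.mpr ?_ (mem_mul_piece 𝒜 hstd _ (by positivity) c _ hy)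
    rintro _ ⟨u, hu, v, hv, rfl⟩
    rw [← hdeg] at hu
    obtain ⟨r, hr, rfl⟩ := hu
    rw [← hc, ← hgdeg] at hv
    obtain ⟨m, hm, rfl⟩ := hv
    exact ⟨r • m, Submodule.smul_mem _ r (Submodule.subset_span hm), g.map_smulₛₗ r m⟩
  obtain ⟨z, hz, hze⟩ := key
  exact hg hze ▸ hz

end Groth.Agent.S18672
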