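import Groth.Statements.S18674
import Groth.Agent.Lib.Graded.Seg.Canonical
import Groth.Agent.S18646

set_option autoImplicit false
universe u
open scoped TensorProduct
open GrSegre

namespace Groth.Agent.S18674

open Groth.Agent.Lib.Graded Groth.Agent.Lib.Graded.StarInj

/-- Let R and S be graded rings defined over a field k of dimensions r ≥ 2 and s ≥ 2, and T = R # S
their Segre product (of dimension r + s − 1). Then K_T ≅ K_R # K_S. Stated here degree by degree as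
dim (K_T)_n = dim (K_R)_n · dim (K_S)_n for every n (the published statement is the isomorphism of
graded T-modules). Here a graded ring defined over k is a commutative k-algebra of finite type,
graded in nonnegative degrees by k-subspaces with degree-zero part k·1; the canonical module of each
of R, S, T is represented by a finitely generated graded module together with a homogeneous
isomorphism from its Hom into a *injective envelope of the residue field onto the top graded local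
cohomology of the ring with support in its irrelevant ideal (indices r, s, r + s − 1), computed from
a *injective resolution in the graded category; dimensions of pieces are over the respective
degree-zero fields (all k); the Segre product T = ⊕_n R_n ⊗_k S_n is presented abstractly as a
graded k-algebra T with an injective k-algebra homomorphism ψ : T → R ⊗_k S carrying T_n onto the
k-span of the elementary tensors a ⊗ b with a ∈ R_n, b ∈ S_n. -/
theorem result (k : Type u) [Field k] (R : Type u) [CommRing R] [Algebra k R] (𝒜 : ℤ → Submodule k R) [GradedAlgebra 𝒜] (hposR : ∀ n : ℤ, n < 0 → 𝒜 n = ⊥) (h0R : 𝒜 0 = Submodule.span k {(1 : R)}) [Algebra.FiniteType k R] (S : Type u) [CommRing S] [Algebra k S] (ℬ : ℤ → Submodule k S) [GradedAlgebra ℬ] (hposS : ∀ n : ℤ, n < 0 → ℬ n = ⊥) (h0S : ℬ 0 = Submodule.span k {(1 : S)}) [Algebra.FiniteType k S] (T : Type u) [CommRing T] [Algebra k T] (𝒯 : ℤ → Submodule k T) [GradedAlgebra 𝒯] (ψ :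 T →ₐ[k] TensorProduct k R S) (hψ : Function.Injective ψ) (hdegT : ∀ n : ℤ, (𝒯 n).map ψ.toLinearMap = Submodule.span k {x : TensorProduct k R S | ∃ a ∈ 𝒜 n, ∃ b ∈ ℬ n, x = a ⊗ₜ[k] b}) (mR : HomogeneousIdeal 𝒜) (hmR : mR.toIdeal = Ideal.span (⋃ n ∈ Set.Ioi (0 : ℤ), (𝒜 n : Set R))) (I : GrLC.StarInjRes 𝒜 𝒜) (mS : HomogeneousIdeal ℬ) (hmS : mS.toIdeal = Ideal.span (⋃ n ∈ Set.Ioi (0 : ℤ), (ℬ n : Set S))) (J : GrLC.StarInjRes ℬ ℬ) (mT : HomogeneousIdeal 𝒯) (hmT : mT.toIdeal = Ideal.span (⋃ n ∈ Set.Ioi (0 : ℤ), (𝒯 n : Set T))) (IT : GrLC.StarInjRes 𝒯 𝒯) (r s : ℕ) (hr : ringKrullDim R = r) (hs : ringKrullDim S = s) (h2r : 2 ≤ r) (h2s : 2 ≤ s) (ER : Type u) [AddCommGroup ER] [Module R ER] (𝓔R : ℤ → AddSubgroup ER) [DirectSum.Decomposition 𝓔R] [SetLike.GradedSMul 𝒜 𝓔R] (eR : (R ⧸ mR.toIdeal) →ₗ[R] ER) (heR : GrLC.IsStarInjHull 𝒜 (GrLC.quotGr 𝒜 mR) 𝓔R eR) (CR : Type u) [AddCommGroup CR] [Module R CR] (𝒞R : ℤ → AddSubgroup CR) [DirectSum.Decomposition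 𝒞R] [SetLike.GradedSMul 𝒜 𝒞R] (hCR : GrLC.IsStarCanonical 𝒜 𝒞R 𝓔R mR r I) (ES : Type u) [AddCommGroup ES] [Module S ES] (𝓔S : ℤ → AddSubgroup ES) [DirectSum.Decomposition 𝓔S] [SetLike.GradedSMul ℬ 𝓔S] (eS : (S ⧸ mS.toIdeal) →ₗ[S] ES) (heS : GrLC.IsStarInjHull ℬ (GrLC.quotGr ℬ mS) 𝓔S eS) (CS : Type u) [AddCommGroup CS] [Module S CS] (𝒞S : ℤ → AddSubgroup CS) [DirectSum.Decomposition 𝒞S] [SetLike.GradedSMul ℬ 𝒞S] (hCS : GrLC.IsStarCanonical ℬ 𝒞S 𝓔S mS s J) (ET : Type u) [AddCommGroup ET] [Module T ET] (𝓔T : ℤ → AddSubgroup ET) [DirectSum.Decomposition 𝓔T] [SetLike.GradedSMul 𝒯 𝓔T] (eT : (T ⧸ mT.toIdeal) →ₗ[T] ET) (heT : GrLC.IsStarInjHull 𝒯 (GrLC.quotGr 𝒯 mT) 𝓔T eT) (CT : Type u) [AddCommGroup CT] [Module T CT] (𝒞T : ℤ → AddSubgroup CT) [DirectSum.Decomposition 𝒞T] [SetLike.GradedSMul 𝒯 𝒞T] (hCT : GrLC.IsStarCanonical 𝒯 𝒞T 𝓔T mT (r + s - 1) IT) (n : ℤ) : Module.finrank (GrLC.deg0 𝒯) (GrLC.comp 𝒯 𝒞T n) = Module.finrank (GrLC.deg0 𝒜)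 (GrLC.comp 𝒜 𝒞R n) * Module.finrank (GrLC.deg0 ℬ) (GrLC.comp ℬ 𝒞S n) := by
  haveI : Nontrivial R := by
    by_contra hn
    rw [not_nontrivial_iff_subsingleton] at hn
    rw [ringKrullDim_eq_bot_of_subsingleton] at hr
    exact WithBot.bot_ne_coe hr
  haveI : Nontrivial S := by
    by_contra hn
    rw [not_nontrivial_iff_subsingleton] at hn
    rw [ringKrullDim_eq_bot_of_subsingleton] at hs
    exact WithBot.bot_ne_coe hs
  haveI : IsNoetherianRing R := Algebra.FiniteType.isNoetherianRing k R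
  haveI : IsNoetherianRing S := Algebra.FiniteType.isNoetherianRing k S
  haveI : IsNoetherianRing T := Groth.Agent.S18646.result k R 𝒜 hposR h0R S ℬ hposS h0S T 𝒯 ψ hψ hdegT
  haveI : Nontrivial T := Seg.nontrivial_segre ψ
  obtain ⟨hposT, h0T⟩ := Seg.segre_deg hψ hdegT hposR h0R h0S
  obtain ⟨-, hform⟩ := Seg.kunneth hposR h0R hposS h0S hposT h0T hdegT hmR hmS hmT
    (Seg.asPieces I) (Seg.asPieces J) (P := T) (𝒬 := SigmaChange.pieces 𝒯) (φ := ψ.toLinearMap.toAddMonoidHom)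
    (Seg.isSeg_self hψ hdegT) (Seg.asPieces IT)
  obtain ⟨m, hm⟩ : ∃ m, m + 2 = r + s - 1 := ⟨r + s - 3, by omega⟩
  obtain ⟨D₀, E₀, -, -, hf⟩ := hform m (-n)
  have hdimR : Module.supportDim R R = r := by rw [Module.supportDim_self_eq_ringKrullDim, hr]
  have hdimS : Module.supportDim S S = s := by rw [Module.supportDim_self_eq_ringKrullDim, hs]
  have hzR : ∀ i, r < i → Module.finrank (GrLC.deg0 𝒜) ((Seg.asPieces I).Hcomp mR i (-n)) = 0 := fun i hi => by
    rw [Seg.Hcomp_eq_bot_of_lt (k := k) _ hdimR hi, finrank_bot]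
  have hzS : ∀ i, s < i → Module.finrank (GrLC.deg0 ℬ) ((Seg.asPieces J).Hcomp mS i (-n)) = 0 := fun i hi => by
    rw [Seg.Hcomp_eq_bot_of_lt (k := k) _ hdimS hi, finrank_bot]
  rw [hzR (m + 2) (by omega), hzS (m + 2) (by omega), mul_zero, zero_mul, zero_add, zero_add,
    Finset.sum_eq_single (r - 2) (fun i hi hne => ?_) (fun h => absurd (Finset.mem_range.2 (by omega)) h),
    show r - 2 + 2 = r by omega, show m - 1 - (r - 2) + 2 = s by omega] at hf
  swap
  · rw [Finset.mem_range] at hi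
    rcases Nat.lt_or_ge r (i + 2) with h | h
    · rw [hzR _ h, zero_mul]
    · rw [hzS _ (by omega), mul_zero]
  rw [← Seg.finrank_canonical hposR h0R hmR heR hCR n, ← Seg.finrank_canonical hposS h0S hmS heS hCS n,
    ← Seg.finrank_canonical hposT h0T hmT heT hCT n, ← hm]
  exact hf

end Groth.Agent.S18674
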