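import Groth.Statements.S1868
import Groth.Agent.Lib.Cyc.CH.BCLen
import Groth.Agent.Lib.Cyc.PP.Fibre
import Mathlib.AlgebraicGeometry.Morphisms.FlatRank
import Mathlib.AlgebraicGeometry.Artinian

set_option autoImplicit false
universe u
open CategoryTheory AlgebraicGeometry
open Cyc

namespace Groth.Agent.S1868

open Groth.Agent.Lib Groth.Agent.Lib.Cyc Groth.Agent.Lib.Cyc.CH in
theorem fibre_sum (X Y : Scheme.{u}) [IsLocallyNoetherian Y] (f : X ⟶ Y) [IsFinite f] [Flat f] (y : Y) :
    ∃ hf : (Set.univ : Set (f.fiber y)).Finite,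
      ∑ z ∈ hf.toFinset, ((FibLen.fibLen f (f.fiberι y z)).toNat * f.residueDegree (f.fiberι y z)) =
        f.finrank y := by
  set r := f.fiberToSpecResidueField y
  have hsq : IsPullback (f.fiberι y) r f (Y.fromSpecResidueField y) := IsPullback.of_hasPullback _ _
  haveI : IsFinite r := MorphismProperty.of_isPullback hsq ‹_›
  haveI : Flat r := MorphismProperty.of_isPullback hsq ‹_›
  haveI : Subsingleton (Spec (Y.residueField y) : Scheme.{u}) :=
    inferInstanceAs (Subsingleton (PrimeSpectrum (Y.residueField y)))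
  let s : (Spec (Y.residueField y) : Scheme.{u}) := IsLocalRing.closedPoint _
  haveI : IsAffine (f.fiber y) := isAffine_of_isAffineHom r
  let φ := (Scheme.ΓSpecIso (Y.residueField y)).inv ≫ r.appTop
  have hr : (f.fiber y).isoSpec.hom ≫ Spec.map φ = r := by
    rw [show φ = (Scheme.ΓSpecIso (Y.residueField y)).inv ≫ r.appTop from rfl, Spec.map_comp,
      ← Category.assoc, Scheme.isoSpec_hom_naturality, Category.assoc, Scheme.isoSpec_Spec_hom,
      ← Spec.map_comp, Iso.inv_hom_id, Spec.map_id, Category.comp_id]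
  haveI : IsFinite (Spec.map φ) := by
    rw [show Spec.map φ = (f.fiber y).isoSpec.inv ≫ r by rw [← hr]; simp]; infer_instance
  haveI : Flat (Spec.map φ) := by
    rw [show Spec.map φ = (f.fiber y).isoSpec.inv ≫ r by rw [← hr]; simp]; infer_instance
  have hφ1 : φ.hom.Finite := (IsFinite.SpecMap_iff _).1 ‹_›
  have hφ2 : φ.hom.Flat := Flat.SpecMap_iff.1 ‹_›
  have hd : letI := φ.hom.toAlgebra
      Module.finrank (Y.residueField y) Γ(f.fiber y, ⊤) = f.finrank y := by
    letI := φ.hom.toAlgebra
    haveI : Module.Finite (Y.residueField y) Γ(f.fiber y, ⊤) := hφ1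
    haveI : Module.Flat (Y.residueField y) Γ(f.fiber y, ⊤) := hφ2
    have h1 := Scheme.Hom.finrank_of_isPullback _ _ _ _ hsq s
    rw [Scheme.fromSpecResidueField_apply] at h1
    rw [← h1]
    conv_rhs => rw [← hr]
    rw [Scheme.Hom.finrank_comp_left_of_isIso]
    exact ((Scheme.Hom.finrank_SpecMap_algebraMap (Y.residueField y) Γ(f.fiber y, ⊤) s).trans
      (congrFun Module.rankAtStalk_eq_finrank_of_free _)).symm
  have hB : letI := r.appTop.hom.toAlgebra
      Module.length Γ(Spec (Y.residueField y), ⊤) Γ(f.fiber y, ⊤) =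
        f.finrank y * Module.length Γ(Spec (Y.residueField y), ⊤) Γ(Spec (Y.residueField y), ⊤) := by
    letI := r.appTop.hom.toAlgebra
    let e := (Scheme.ΓSpecIso (Y.residueField y)).symm.commRingCatIsoToRingEquiv
    rw [← BCLen.length_eq_of_ringEquiv e, Module.length_eq_one (Y.residueField y), mul_one]
    letI := φ.hom.toAlgebra
    letI := e.toRingHom.toAlgebra
    haveI : IsScalarTower (Y.residueField y) Γ(Spec (Y.residueField y), ⊤) Γ(f.fiber y, ⊤) :=
      IsScalarTower.of_algebraMap_eq' rfl
    haveI : Module.Finite (Y.residueField y) Γ(f.fiber y, ⊤) := hφ1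
    rw [← Module.length_eq_of_surjective (S := Y.residueField y) (R := Γ(Spec (Y.residueField y), ⊤))
      (M := Γ(f.fiber y, ⊤)) e.surjective, Module.length_eq_finrank, hd]
  obtain ⟨hf, hsum⟩ := BCLen.sum_length r s (f.finrank y) hB
  refine ⟨hf, ?_⟩
  have h1 : Module.length ((Spec (Y.residueField y)).presheaf.stalk s)
      ((Spec (Y.residueField y)).presheaf.stalk s) = 1 := by
    rw [← BCLen.length_eq_of_ringEquiv
      (RingEquiv.ofBijective ((Spec (Y.residueField y)).presheaf.germ ⊤ s trivial).hom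
        (BCLen.germ_bijective (Spec (Y.residueField y)).presheaf s)),
      ← BCLen.length_eq_of_ringEquiv (Scheme.ΓSpecIso (Y.residueField y)).symm.commRingCatIsoToRingEquiv]
    exact Module.length_eq_one _ _
  rw [h1, mul_one] at hsum
  have hne : ∀ z ∈ hf.toFinset, Module.length ((f.fiber y).presheaf.stalk z)
      ((f.fiber y).presheaf.stalk z) * (r.residueDegree z : ℕ∞) ≠ ⊤ := fun z hz h => by
    have := WithTop.sum_eq_top (f := fun z => Module.length ((f.fiber y).presheaf.stalk z)
      ((f.fiber y).presheaf.stalk z) * (r.residueDegree z : ℕ∞)) |>.2 ⟨z, hz, h⟩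
    exact WithTop.natCast_ne_top _ (hsum.symm.trans this)
  have e := congrArg ENat.toNat hsum
  rw [PP.FinStalk.toNat_sum _ _ hne, ENat.toNat_natCast] at e
  refine Eq.trans (Finset.sum_congr rfl fun z _ => ?_) e
  rw [ENat.toNat_mul, ENat.toNat_natCast, BCLen.fibLen_fiberι,
    (PP.Fibre.fibre_residue f y z).2]

open Groth.Agent.Lib Groth.Agent.Lib.Cyc Groth.Agent.Lib.Cyc.CH in
/-- Let f : X → Y be finite locally free of constant degree d (finite, flat, rank function constantly
d). Then f has relative dimension 0 and for every k-cycle α on Y, f_*(f^*α) = d·α (for any cycle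
f^*α on X with the flat-pullback coefficients). Here a pair (X, δ) with Cyc.IsSetup plays the role
of a scheme locally of finite type over a fixed base with a dimension function (X locally Noetherian
with universally catenary local rings, δ a dimension function), and Cyc.DeltaCompat records that the
dimension function upstairs is the induced one. -/
theorem result (X Y : Scheme.{u}) (δX : X → ℤ) (δY : Y → ℤ) (hX : Cyc.IsSetup X δX) (hY : Cyc.IsSetup Y δY) (f : X ⟶ Y) [IsFinite f] [Flat f] (d : ℕ) (hd : ∀ y : Y, f.finrank y = d) (hδ : Cyc.DeltaCompat f δX δY) (k : ℤ) : Cyc.HasRelDim f 0 ∧ ∀ (α : AlgebraicCycle Y ℤ), α ∈ Cyc.Zk Y δY k → ∀ α' : AlgebraicCycle X ℤ, ⇑α' = Cyc.pullFun f δX δY 0 ⇑α → AlgebraicCycle.map f δX δY α' = d • α := by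
  haveI := hX.1
  haveI := hY.1
  refine ⟨fun y T hT => ?_, fun α _ α' hα' => ?_⟩
  · haveI : DiscreteTopology ↥(f.fiber y) := inferInstance
    haveI : Nonempty T := hT.1.nonempty.to_subtype
    refine le_antisymm (topologicalKrullDim_zero_of_discreteTopology T) ?_
    haveI : IrreducibleSpace T := Subtype.irreducibleSpace hT.1
    haveI : Nonempty (TopologicalSpace.IrreducibleCloseds T) :=
      ⟨⟨Set.univ, IrreducibleSpace.isIrreducible_univ T, isClosed_univ⟩⟩
    exact Order.krullDim_nonneg
  · refine Function.locallyFinsuppWithin.ext fun y => ?_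
    rw [Push.map_apply]
    obtain ⟨hf, hs⟩ := fibre_sum X Y f y
    have hδx : ∀ x : X, δX x = δY (f x) := fun x =>
      (Residue.trdegAt_eq_zero_iff_eq hδ x).1 (Residue.trdegAt_eq_zero_of_finite x
        (Unram.SepDegreeEtale.residueFieldMap_finite_of_quasiFiniteAt f x
          (Scheme.Hom.quasiFiniteAt f x)))
    rw [show ⇑f ⁻¹' {y} = f.fiberι y '' Set.univ by rw [Set.image_univ, f.range_fiberι],
      finsum_mem_image (f.fiberι y).isEmbedding.injective.injOn,
      finsum_mem_eq_finite_toFinset_sum _ hf]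
    have key : ∀ z ∈ hf.toFinset, α' (f.fiberι y z) *
        (AlgebraicCycle.mapCoeff f δX δY (f.fiberι y z) : ℤ) =
          α y * (((FibLen.fibLen f (f.fiberι y z)).toNat * f.residueDegree (f.fiberι y z) : ℕ) : ℤ) :=
      fun z _ => by
      rw [hα', FibLen.pullFun_apply, add_zero, if_pos (hδx _), AlgebraicCycle.mapCoeff,
        if_pos (hδx _), FieldDim.apply_fiberι, Nat.cast_mul, mul_assoc]
    rw [Finset.sum_congr rfl key, ← Finset.mul_sum, ← Nat.cast_sum, hs, hd]
    simp [mul_comm]

end Groth.Agent.S1868
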