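import Groth.Statements.S18694
import Mathlib.AlgebraicGeometry.Morphisms.ClosedImmersion
import Mathlib.RingTheory.Ideal.Quotient.Operations
import Mathlib.RingTheory.Ideal.GoingUp
import Groth.Agent.Lib.RedPts.Gm

set_option autoImplicit false
open CategoryTheory MonoidalCategory CartesianMonoidalCategory MonObj GrpObj AlgebraicGeometry
universe u
open MultTori

namespace Groth.Agent.S18694

open CategoryTheory.Limits

section Aux
variable {A B : CommRingCat.{u}} (f : A ⟶ B)

/-- Units over the closed fibres of a finite map with semilocal base lift to a unit. -/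
theorem exists_unit_lift [Finite (MaximalSpectrum A)] (hfin : f.hom.Finite)
    (c : ∀ m : MaximalSpectrum A,
      Γ(pullback (Spec.map (CommRingCat.ofHom (Ideal.Quotient.mk m.asIdeal))) (Spec.map f), ⊤))
    (hc : ∀ m, IsUnit (c m)) :
    ∃ b : Γ(Spec B, ⊤), IsUnit b ∧ ∀ m : MaximalSpectrum A,
      (pullback.snd (Spec.map (CommRingCat.ofHom (Ideal.Quotient.mk m.asIdeal)))
        (Spec.map f)).appTop b = c m := by
  classical
  cases nonempty_fintype (MaximalSpectrum A)
  let i := fun m : MaximalSpectrum A => Spec.map (CommRingCat.ofHom (Ideal.Quotient.mk m.asIdeal))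
  let r := fun m : MaximalSpectrum A => pullback.snd (i m) (Spec.map f)
  have hsurj : ∀ m, Function.Surjective (r m).appTop := fun m =>
    haveI : IsClosedImmersion (i m) :=
      IsClosedImmersion.spec_of_surjective _ Ideal.Quotient.mk_surjective
    (IsClosedImmersion.isAffine_surjective_of_isAffine (r m)).2
  choose bj hbj using fun m => hsurj m (c m)
  let φ : A →+* Γ(Spec B, ⊤) := ((Scheme.ΓSpecIso A).inv ≫ (Spec.map f).appTop).hom
  have hφ : ∀ (m : MaximalSpectrum A) (e x : A), e - x ∈ m.asIdeal →
      (r m).appTop (φ e) = (r m).appTop (φ x) := by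
    intro m e x hex
    have key : ∀ a : A, (r m).appTop (φ a) =
        (pullback.fst (i m) (Spec.map f)).appTop
          ((Scheme.ΓSpecIso (CommRingCat.of (A ⧸ m.asIdeal))).inv
            (Ideal.Quotient.mk m.asIdeal a)) := by
      intro a
      have h1 : (r m ≫ Spec.map f).appTop = (pullback.fst (i m) (Spec.map f) ≫ i m).appTop := by
        rw [pullback.condition]
      rw [Scheme.Hom.comp_appTop, Scheme.Hom.comp_appTop] at h1
      have h2 := congr(($h1).hom ((Scheme.ΓSpecIso A).inv a))
      simp only [CommRingCat.hom_comp, RingHom.comp_apply] at h2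
      refine h2.trans ?_
      congr 1
      exact congr(($(Scheme.ΓSpecIso_inv_naturality
        (CommRingCat.ofHom (Ideal.Quotient.mk m.asIdeal)))).hom a).symm
    rw [key, key, Ideal.Quotient.eq.mpr hex]
  have hcop : Pairwise (Function.onFun IsCoprime fun m : MaximalSpectrum A => m.asIdeal) := by
    intro m m' hne
    rw [Function.onFun, Ideal.isCoprime_iff_sup_eq]
    exact m.isMaximal.coprime_of_ne m'.isMaximal fun h => hne (MaximalSpectrum.ext h)
  choose e he using fun j : MaximalSpectrum A =>
    Ideal.exists_forall_sub_mem_ideal hcop (fun m => if m = j then 1 else 0)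
  generalize hb : ∑ j, φ (e j) * bj j = b
  have hbm : ∀ m, (r m).appTop b = c m := by
    intro m
    rw [← hb, map_sum, Finset.sum_eq_single m]
    · rw [map_mul, hφ m _ _ (he m m), hbj, if_pos rfl, map_one, map_one, _root_.one_mul]
    · intro j _ hj
      rw [map_mul, hφ m _ _ (he j m), if_neg (Ne.symm hj), map_zero, map_zero, zero_mul]
    · simp
  refine ⟨b, ?_, hbm⟩
  suffices h : IsUnit ((Scheme.ΓSpecIso B).hom b) by
    have := h.map (Scheme.ΓSpecIso B).inv.hom
    simpa using this
  by_contra hnu
  obtain ⟨n, hn, hbn⟩ := exists_max_ideal_of_mem_nonunits hnu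
  let := f.hom.toAlgebra
  have : Module.Finite A B := hfin
  have := hn
  let m : MaximalSpectrum A :=
    ⟨n.comap (algebraMap A B), Ideal.isMaximal_comap_of_isIntegral_of_isMaximal n⟩
  let x : (Spec B : Scheme.{u}) := (⟨n, hn.isPrime⟩ : PrimeSpectrum B)
  let _ : Field (A ⧸ m.asIdeal) :=
    haveI := m.isMaximal
    Ideal.Quotient.field _
  let y : (Spec (CommRingCat.of (A ⧸ m.asIdeal)) : Scheme.{u}) :=
    (⟨⊥, Ideal.isPrime_bot⟩ : PrimeSpectrum (A ⧸ m.asIdeal))
  have hxy : i m y = Spec.map f x := by
    apply PrimeSpectrum.ext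
    change Ideal.comap (Ideal.Quotient.mk m.asIdeal) ⊥ = n.comap f.hom
    rw [← RingHom.ker_eq_comap_bot, Ideal.mk_ker]
    rfl
  obtain ⟨z, -, hz⟩ := Scheme.Pullback.exists_preimage_pullback y x hxy
  have hmem : z ∈ (r m) ⁻¹ᵁ (Spec B).basicOpen b := by
    rw [Scheme.preimage_basicOpen_top, hbm, Scheme.basicOpen_of_isUnit _ (hc m)]
    trivial
  have hmem' : x ∈ (Spec B).basicOpen b := hz ▸ hmem
  rw [basicOpen_eq_of_affine'] at hmem'
  exact hmem' hbn

end Aux

/-- In the case of the quasitrivial torus R_{B/A}(G_m), let A be a semilocal ring (finitely many maximal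
ideals m, residue fields κ_m = A/m), B a finite étale A-algebra, and (P, q) a Weil restriction along
Spec B → Spec A of the multiplicative group over B (P an A-scheme with q : P ×_A B → G_{m,B}
universal). Then the reduction map P(A) → ∏_m P(κ_m) is surjective: every family (u_m) of κ_m-points
of P over the closed points of Spec A is the family of restrictions of one section of P over A. (The
source states this for every invertible A-torus and reduces it to this case; the
invertible/quasitrivial notions are not available here, so only this case is stated.) -/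
theorem result
    (A : Type u) [CommRing A] [Finite (MaximalSpectrum A)]
    (B : Type u) [CommRing B] [Algebra A B] [Module.Finite A B] [Algebra.Etale A B]
    (P : Over (Spec (CommRingCat.of A))) (q : Red.bc (Spec.map (CommRingCat.ofHom (algebraMap A B))) P ⟶ Red.Gm (Spec (CommRingCat.of B)))
    (hP : WeilRes.IsWeilRes (Spec.map (CommRingCat.ofHom (algebraMap A B))) (Red.Gm (Spec (CommRingCat.of B))) P q)
    (u : ∀ m : MaximalSpectrum A, Spec (CommRingCat.of (A ⧸ m.asIdeal)) ⟶ P.left)
    (hu : ∀ m : MaximalSpectrum A, u m ≫ P.hom = (Spec.map (CommRingCat.ofHom (Ideal.Quotient.mk m.asIdeal)))) :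
    ∃ s : Spec (CommRingCat.of A) ⟶ P.left, s ≫ P.hom = 𝟙 (Spec (CommRingCat.of A)) ∧
      ∀ m : MaximalSpectrum A, (Spec.map (CommRingCat.ofHom (Ideal.Quotient.mk m.asIdeal))) ≫ s = u m := by
  let f := CommRingCat.ofHom (algebraMap A B)
  let i := fun m : MaximalSpectrum A => Spec.map (CommRingCat.ofHom (Ideal.Quotient.mk m.asIdeal))
  let T : Over (Spec (CommRingCat.of A)) := Over.mk (𝟙 _)
  let Tm := fun m : MaximalSpectrum A => Over.mk (i m)
  let t := fun m : MaximalSpectrum A => (Over.homMk (i m) : Tm m ⟶ T)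
  let um := fun m : MaximalSpectrum A => (Over.homMk (u m) (hu m) : Tm m ⟶ P)
  obtain ⟨b, hb, hbm⟩ := exists_unit_lift (A := CommRingCat.of A) f
    (RingHom.finite_algebraMap.mpr inferInstance)
    (fun m => Red.gmFn (WeilRes.restr (Spec.map f) q (Tm m) (um m)))
    (fun m => Groth.Agent.Lib.RedPts.Gm.isUnit_gmFn _)
  let p : (Red.bc (Spec.map f) T).left ⟶ Spec (CommRingCat.of B) :=
    pullback.snd T.hom (Spec.map f)
  obtain ⟨g, hg⟩ := Groth.Agent.Lib.RedPts.Gm.exists_gmFn_eq
    (X := Red.bc (Spec.map f) T) (hb.map p.appTop.hom)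
  obtain ⟨s, hs⟩ := (hP T).2 g
  refine ⟨s.left, Over.w s, fun m => ?_⟩
  have h : t m ≫ s = um m := by
    apply (hP (Tm m)).1
    apply Groth.Agent.Lib.RedPts.Gm.gmFn_injective
    rw [WeilRes.restr_comp, hs, Groth.Agent.Lib.RedPts.Gm.gmFn_comp, hg, ← hbm m]
    change ((p.appTop ≫ ((Over.pullback (Spec.map f)).map (t m)).left.appTop).hom b) = _
    rw [← Scheme.Hom.comp_appTop]
    congr 4
    exact pullback.lift_snd _ _ _
  exact congrArg CommaMorphism.left h

end Groth.Agent.S18694
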