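import Groth.Statements.S18696
import Groth.Agent.H19.Retract.Alg
import Groth.Agent.Lib.Tori.Basic
import Groth.Agent.H87.GmFibre
import Groth.Agent.H1.GrpIrred


set_option autoImplicit false
open CategoryTheory MonoidalCategory CartesianMonoidalCategory MonObj GrpObj AlgebraicGeometry
universe u
open MultTori

namespace Groth.Agent.S18696

open CategoryTheory CategoryTheory.Limits AlgebraicGeometry

theorem key (k : Type u) [Field k] (X : Scheme.{u}) [IsAffine X] [IsIntegral X] (f : X ⟶ Spec (CommRingCat.of k))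
    [Smooth f]
    (h : ∀ (A : Type u) [CommRing A] [IsDomain A] [IsDiscreteValuationRing A] [Algebra k A]
        (u : Spec (CommRingCat.of (IsLocalRing.ResidueField A)) ⟶ X),
        u ≫ f = Spec.map (CommRingCat.ofHom ((IsLocalRing.residue A).comp (algebraMap k A))) →
        ∃ s : Spec (CommRingCat.of A) ⟶ X, s ≫ f = Spec.map (CommRingCat.ofHom (algebraMap k A)) ∧
          Spec.map (CommRingCat.ofHom (IsLocalRing.residue A)) ≫ s = u) :
    ∃ (U : X.Opens) (n : ℕ) (Y : (Spec (CommRingCat.of (MvPolynomial (Fin n) k))).Opens)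
        (a : (U : Scheme.{u}) ⟶ (Y : Scheme.{u})) (b : (Y : Scheme.{u}) ⟶ (U : Scheme.{u})),
        (U : Set X).Nonempty ∧ a ≫ b = 𝟙 (U : Scheme.{u}) ∧
        a ≫ Y.ι ≫ Spec.map (CommRingCat.ofHom (algebraMap k (MvPolynomial (Fin n) k))) = U.ι ≫ f ∧
        b ≫ U.ι ≫ f = Y.ι ≫ Spec.map (CommRingCat.ofHom (algebraMap k (MvPolynomial (Fin n) k))) := by
  obtain ⟨φ, hφ⟩ := Spec.map_surjective (X.isoSpec.inv ≫ f)
  letI : Algebra k Γ(X, ⊤) := φ.hom.toAlgebra
  have hf : f = X.isoSpec.hom ≫ Spec.map φ := by rw [hφ, Iso.hom_inv_id_assoc]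
  have hs : Smooth (Spec.map φ) := by rw [hφ]; infer_instance
  haveI : Algebra.Smooth k Γ(X, ⊤) :=
    RingHom.smooth_algebraMap.1 ((HasRingHomProperty.Spec_iff (P := @Smooth)).1 hs)
  haveI : Algebra.FormallySmooth Γ(X, ⊤) (FractionRing Γ(X, ⊤)) :=
    Algebra.FormallySmooth.of_isLocalization (nonZeroDivisors Γ(X, ⊤))
  haveI : Algebra.FormallySmooth k (FractionRing Γ(X, ⊤)) := Algebra.FormallySmooth.comp k Γ(X, ⊤) _
  obtain ⟨n, D, e, a, b, he, hab⟩ := Groth.Agent.H19.Retract.Alg.exists_retraction k Γ(X, ⊤) (FractionRing Γ(X, ⊤))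
    (fun A _ _ _ _ v => by
      obtain ⟨s, hs1, hs2⟩ := h A (Spec.map (CommRingCat.ofHom v.toRingHom) ≫ X.isoSpec.inv) (by
        rw [Category.assoc, ← hφ, ← Spec.map_comp]
        congr 1
        exact CommRingCat.hom_ext (RingHom.ext fun c => v.commutes c))
      obtain ⟨ψ, hψ⟩ := Spec.map_surjective (s ≫ X.isoSpec.hom)
      have hc : φ ≫ ψ = CommRingCat.ofHom (algebraMap k A) := Spec.map_injective (by
        rw [Spec.map_comp, hψ, Category.assoc, ← hf, hs1])
      refine ⟨⟨ψ.hom, fun c => congr($(hc).hom c)⟩, fun x => ?_⟩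
      have hc2 : ψ ≫ CommRingCat.ofHom (IsLocalRing.residue A) = CommRingCat.ofHom v.toRingHom := Spec.map_injective (by
        rw [Spec.map_comp, hψ, ← Category.assoc, hs2, Category.assoc, Iso.inv_hom_id, Category.comp_id])
      exact congr($(hc2).hom x))
  let i : Spec (CommRingCat.of (Localization.Away e)) ⟶ X :=
    Spec.map (CommRingCat.ofHom (algebraMap Γ(X, ⊤) (Localization.Away e))) ≫ X.isoSpec.inv
  let q := Spec.map (CommRingCat.ofHom (algebraMap (MvPolynomial (Fin n) k) (Localization.Away D)))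
  haveI : IsOpenImmersion (Spec.map (CommRingCat.ofHom (algebraMap Γ(X, ⊤) (Localization.Away e)))) :=
    IsOpenImmersion.of_isLocalization e
  haveI : IsOpenImmersion q := IsOpenImmersion.of_isLocalization D
  haveI : IsOpenImmersion i := MorphismProperty.comp_mem _ _ _ ‹IsOpenImmersion (Spec.map _)› inferInstance
  have ea : Spec.map (CommRingCat.ofHom a.toRingHom) ≫ q ≫
      Spec.map (CommRingCat.ofHom (algebraMap k (MvPolynomial (Fin n) k))) = i ≫ f := by
    simp only [q, i, Category.assoc, ← hφ, ← Spec.map_comp]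
    congr 1
    exact CommRingCat.hom_ext (RingHom.ext fun c => a.commutes c)
  have eb : Spec.map (CommRingCat.ofHom b.toRingHom) ≫ i ≫ f =
      q ≫ Spec.map (CommRingCat.ofHom (algebraMap k (MvPolynomial (Fin n) k))) := by
    simp only [q, i, Category.assoc, ← hφ, ← Spec.map_comp]
    congr 1
    exact CommRingCat.hom_ext (RingHom.ext fun c => b.commutes c)
  refine ⟨i.opensRange, n, q.opensRange,
    i.isoOpensRange.inv ≫ Spec.map (CommRingCat.ofHom a.toRingHom) ≫ q.isoOpensRange.hom,
    q.isoOpensRange.inv ≫ Spec.map (CommRingCat.ofHom b.toRingHom) ≫ i.isoOpensRange.hom, ?_, ?_, ?_, ?_⟩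
  · haveI : Nontrivial (Localization.Away e) :=
      (IsLocalization.injective (Localization.Away e) (powers_le_nonZeroDivisors_of_noZeroDivisors he)).nontrivial
    obtain ⟨z⟩ : Nonempty (PrimeSpectrum (Localization.Away e)) := inferInstance
    exact ⟨i z, z, rfl⟩
  · simp only [Category.assoc, Iso.hom_inv_id_assoc]
    rw [← Spec.map_comp_assoc]
    have : CommRingCat.ofHom b.toRingHom ≫ CommRingCat.ofHom a.toRingHom = 𝟙 (CommRingCat.of (Localization.Away e)) :=
      CommRingCat.hom_ext (RingHom.ext fun z => AlgHom.congr_fun hab z)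
    rw [this, Spec.map_id, Category.id_comp, Iso.inv_hom_id]
  · simp only [Category.assoc, Scheme.Hom.isoOpensRange_hom_ι_assoc]
    rw [ea, Scheme.Hom.isoOpensRange_inv_comp_assoc]
  · simp only [Category.assoc, Scheme.Hom.isoOpensRange_hom_ι_assoc]
    rw [eb, Scheme.Hom.isoOpensRange_inv_comp_assoc]



/-- (v) ⇒ (viii): let k be a field and T an isotrivial k-torus (isomorphic to a split torus of some rank
after one finite étale surjective base change). If for every discrete valuation ring A containing k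
(a k-algebra), with residue field κ, the reduction map T(A) → T(κ) is surjective, then T is retract
rational over k: there are a nonempty open subscheme U of T, an open subscheme Y of an affine space
over k and k-morphisms U → Y → U whose composite is the identity of U. -/
theorem result
    (k : Type u) [Field k] (T : Over (Spec (CommRingCat.of k))) [GrpObj T]
    (hT : ∃ r : ℕ, TwC.Locally (Spec (CommRingCat.of k)) .finiteEtale
        (fun S' g => Red.IsSplitTorusWith (Fin r → ℤ) (Red.bc g T)))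
    (h : ∀ (A : Type u) [CommRing A] [IsDomain A] [IsDiscreteValuationRing A] [Algebra k A]
        (u : Spec (CommRingCat.of (IsLocalRing.ResidueField A)) ⟶ T.left),
        u ≫ T.hom = Spec.map (CommRingCat.ofHom ((IsLocalRing.residue A).comp (algebraMap k A))) →
        ∃ s : Spec (CommRingCat.of A) ⟶ T.left, s ≫ T.hom = Spec.map (CommRingCat.ofHom (algebraMap k A)) ∧
          Spec.map (CommRingCat.ofHom (IsLocalRing.residue A)) ≫ s = u) :
    ∃ (U : T.left.Opens) (n : ℕ) (Y : (Spec (CommRingCat.of (MvPolynomial (Fin n) k))).Opens)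
        (a : (U : Scheme.{u}) ⟶ (Y : Scheme.{u})) (b : (Y : Scheme.{u}) ⟶ (U : Scheme.{u})),
        (U : Set T.left).Nonempty ∧ a ≫ b = 𝟙 (U : Scheme.{u}) ∧
        a ≫ Y.ι ≫ Spec.map (CommRingCat.ofHom (algebraMap k (MvPolynomial (Fin n) k))) = U.ι ≫ T.hom ∧
        b ≫ U.ι ≫ T.hom = Y.ι ≫ Spec.map (CommRingCat.ofHom (algebraMap k (MvPolynomial (Fin n) k))) := by
  obtain ⟨r, S', g, hgf, hge, hgs, hloc⟩ := hT
  haveI := hgf
  haveI := hge
  haveI := hgs
  have hTor : Red.IsTorus T := ⟨S', g, inferInstance, inferInstance, Groth.Agent.Lib.Tori.Basic.isQCCover_of_qc g,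
    fun s' => by obtain ⟨U, hU, -, hP⟩ := hloc s'; exact ⟨U, hU, r, hP⟩⟩
  haveI := Groth.Agent.Lib.Tori.Basic.isAffineHom_of_isTorus hTor
  haveI := Groth.Agent.Lib.Tori.Basic.smooth_of_isTorus hTor
  haveI : IsAffine T.left := isAffine_of_isAffineHom T.hom
  haveI : ConnectedSpace T.left := by
    obtain ⟨s', -⟩ := g.surjective (Classical.arbitrary _)
    obtain ⟨U, hU, -, hP⟩ := hloc s'
    let L := (U : Scheme.{u}).residueField ⟨s', hU⟩
    let w : Spec L ⟶ Spec (CommRingCat.of k) := (U : Scheme.{u}).fromSpecResidueField ⟨s', hU⟩ ≫ U.ι ≫ g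
    have hw : Red.IsSplitTorusWith (Fin r → ℤ) (Red.bc w T) :=
      Groth.Agent.Lib.Tori.Basic.isSplit_congr (Groth.Agent.Lib.Tori.BaseChange.bcComp _ _ T)
        (Groth.Agent.Lib.Tori.Basic.isSplit_bc hP ((U : Scheme.{u}).fromSpecResidueField ⟨s', hU⟩))
    obtain ⟨eD⟩ := hw
    let e := Groth.Agent.Lib.Tori.BaseChange.overIso eD
    haveI : IsIso e.inv.left := inferInstanceAs (IsIso ((Over.forget _).map e.inv))
    haveI := Groth.Agent.H87.GmFibre.connectedSpace_ds L r
    haveI : ConnectedSpace (Red.bc w T).left := e.inv.left.homeomorph.surjective.connectedSpace e.inv.left.homeomorph.continuous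
    haveI : Surjective w := ⟨fun y => ⟨(IsLocalRing.closedPoint L), Subsingleton.elim (α := PrimeSpectrum k) _ _⟩⟩
    haveI : ConnectedSpace ↥(pullback T.hom w) := ‹ConnectedSpace (Red.bc w T).left›
    exact (pullback.fst T.hom w).surjective.connectedSpace (pullback.fst T.hom w).continuous
  haveI := Groth.Agent.H1.GrpIrred.isIntegral T
  exact key k T.left T.hom h


end Groth.Agent.S18696
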