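import Groth.Statements.S18704
import Groth.Agent.Lib.QDepth.Sk
import Groth.Agent.Lib.QDepth.Reflexive

set_option autoImplicit false
universe u
open QGor

namespace Groth.Agent.S18704

/-- Affine form. Let A be a Noetherian ring with Serre's condition (S_2), I an ideal with ht I ≥ 2
(every prime containing I has height ≥ 2), and G a finite A-module with G_p reflexive for every
prime p not containing I. Then the following are equivalent: (i) G has (S_2) and dim Supp(G_p) ≥ 2
for every prime p ⊇ I in Supp G; (ii) depth_I G ≥ 2; (iii) G is reflexive. -/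
theorem result (A : Type u) [CommRing A] [IsNoetherianRing A]
    (hA : LocCoh.HasSk 2 A A) (I : Ideal A) (hI : 2 ≤ I.height)
    (G : Type u) [AddCommGroup G] [Module A G] [Module.Finite A G]
    (hU : ∀ p : PrimeSpectrum A, ¬ I ≤ p.asIdeal →
      Module.IsReflexive (Localization.AtPrime p.asIdeal) (LocalizedModule p.asIdeal.primeCompl G)) :
    ((LocCoh.HasSk 2 A G ∧ ∀ p : PrimeSpectrum A, I ≤ p.asIdeal → p ∈ Module.support A G →
        (2 : WithBot ℕ∞) ≤ Module.supportDim (Localization.AtPrime p.asIdeal) (LocalizedModule p.asIdeal.primeCompl G)) ↔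
      2 ≤ LocCoh.idealDepth I G) ∧
    (2 ≤ LocCoh.idealDepth I G ↔ Module.IsReflexive A G) := by
  have hht : ∀ p : PrimeSpectrum A, I ≤ p.asIdeal → ((2 : ℕ∞) : WithBot ℕ∞) ≤
      Module.supportDim (Localization.AtPrime p.asIdeal) (LocalizedModule p.asIdeal.primeCompl A) := by
    intro p hp
    refine le_trans ?_ (le_of_eq (Module.supportDim_self_eq_ringKrullDim
      (R := Localization.AtPrime p.asIdeal)).symm)
    rw [IsLocalization.AtPrime.ringKrullDim_eq_height p.asIdeal]
    exact WithBot.coe_le_coe.mpr (hI.trans (Ideal.height_mono hp))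
  have hA2 : ((2 : ℕ) : ℕ∞) ≤ LocCoh.idealDepth I A := by
    rw [Groth.Agent.Lib.QDepth.le_idealDepth_iff_forall]
    exact fun p hp => Groth.Agent.Lib.QDepth.le_depth_of_hasSk hA p.asIdeal le_rfl (hht p hp)
  have key : 2 ≤ LocCoh.idealDepth I G ↔ Module.IsReflexive A G :=
    ⟨fun h => Groth.Agent.Lib.QDepth.isReflexive_of_depth I (le_trans (by simp) hA2) hU h,
      fun h => by
        simpa using Groth.Agent.Lib.QDepth.le_idealDepth_of_isReflexive I G (k := 2) le_rfl hA2⟩
  refine ⟨⟨fun ⟨hG, hd⟩ => ?_, fun h => ⟨?_, fun p hp hpG => ?_⟩⟩, key⟩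
  · show ((2 : ℕ) : ℕ∞) ≤ _
    rw [Groth.Agent.Lib.QDepth.le_idealDepth_iff_forall]
    intro p hp
    by_cases hpG : p ∈ Module.support A G
    · exact Groth.Agent.Lib.QDepth.le_depth_of_hasSk hG p.asIdeal le_rfl (hd p hp hpG)
    · have := Module.notMem_support_iff.mp hpG
      rw [LocCoh.depth, Groth.Agent.Lib.Depth.Basic.idealDepth_subsingleton
        (M := LocalizedModule p.asIdeal.primeCompl G)]
      exact le_top
  · refine Groth.Agent.Lib.QDepth.hasSk_of_forall fun p _ j hj hd => ?_
    by_cases hp : I ≤ p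
    · exact (Nat.cast_le.mpr hj).trans
        (le_trans h (Groth.Agent.Lib.QDepth.idealDepth_le_depth_at I G ⟨p, ‹_›⟩ hp))
    · have := hU ⟨p, ‹_›⟩ hp
      have hd' : ((j : ℕ∞) : WithBot ℕ∞) ≤
          Module.supportDim (Localization.AtPrime p) (LocalizedModule p.primeCompl A) :=
        hd.trans ((Module.supportDim_le_ringKrullDim _ _).trans
          (le_of_eq (Module.supportDim_self_eq_ringKrullDim (R := Localization.AtPrime p)).symm))
      exact Groth.Agent.Lib.QDepth.le_idealDepth_of_isReflexive _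
        (LocalizedModule p.primeCompl G) hj (Groth.Agent.Lib.QDepth.le_depth_of_hasSk hA p hj hd')
  · have hn : Nontrivial (LocalizedModule p.asIdeal.primeCompl G) := Module.mem_support_iff.mp hpG
    exact (WithBot.coe_le_coe.mpr (le_trans h (Groth.Agent.Lib.QDepth.idealDepth_le_depth_at I G p hp))).trans
      (Groth.Agent.Lib.Depth.Assoc.depth_le_supportDim _)

end Groth.Agent.S18704
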