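import Groth.Statements.S18711
import Groth.Agent.Lib.QDepth.FourTermAt
import Mathlib.RingTheory.Flat.Stability

set_option autoImplicit false
universe u
open QGor

namespace Groth.Agent.S18711

open TensorProduct in
/-- Affine form. Let A → B be a flat homomorphism of Noetherian rings, J an ideal of B such that for
every prime q ⊇ J with contraction p the fibre local ring B_q/pB_q has depth ≥ 2, A → A′ a
homomorphism of Noetherian rings and B′ = A′ ⊗_A B the (Noetherian) pushout. Let 0 → F → E⁰ → E¹ → G
→ 0 be an exact sequence of finite B-modules with E⁰, E¹ projective and F_q, G_q free for every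
prime q not containing J. Then F is reflexive; the kernel K′ of B′ ⊗_B E⁰ → B′ ⊗_B E¹ is a reflexive
B′-module with depth_{JB′} K′ ≥ 2 (so it is the module of sections of the pull-back of F off
V(JB′)); and K′ is flat over A′ with depth ≥ 2 along JB′ on every fibre stalk K′_{q′}/p′K′_{q′} if
and only if B′ ⊗_B G is flat over A′. (The published statement phrases the last left-hand condition
as the relative S₂ condition of K′ over A′; the two agree when the fibres of Spec B′ → Spec A′
satisfy S₂ off V(JB′), and without that the relative S₂ form fails already for A = A′ a field, J =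
B, F = E⁰ = B not S₂ and E¹ = G = 0, so the fibrewise-depth form, which is what the proof
establishes, is stated.) -/
theorem result (A B : Type u) [CommRing A] [CommRing B] [IsNoetherianRing A] [IsNoetherianRing B] [Algebra A B]
    (A' B' : Type u) [CommRing A'] [CommRing B'] [IsNoetherianRing A'] [IsNoetherianRing B']
    [Algebra A A'] [Algebra B B'] [Algebra A' B'] [Algebra A B'] [IsScalarTower A B B'] [IsScalarTower A A' B']
    [Algebra.IsPushout A B A' B'] [Module.Flat A B] (J : Ideal B)
    (hZ : ∀ q : PrimeSpectrum B, J ≤ q.asIdeal →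
      2 ≤ LocCoh.idealDepth (q.asIdeal.map (algebraMap B (EGA4.FibLocRing A B q.asIdeal))) (EGA4.FibLocRing A B q.asIdeal))
    (F E0 E1 G : Type u) [AddCommGroup F] [Module B F] [Module.Finite B F]
    [AddCommGroup E0] [Module B E0] [Module.Finite B E0] [Module.Projective B E0]
    [AddCommGroup E1] [Module B E1] [Module.Finite B E1] [Module.Projective B E1]
    [AddCommGroup G] [Module B G] [Module.Finite B G]
    (f : F →ₗ[B] E0) (u : E0 →ₗ[B] E1) (v : E1 →ₗ[B] G)
    (hf : Function.Injective f) (hfu : Function.Exact f u) (huv : Function.Exact u v) (hv : Function.Surjective v)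
    (hFU : ∀ q : PrimeSpectrum B, ¬ J ≤ q.asIdeal → Module.Free (Localization.AtPrime q.asIdeal) (LocalizedModule q.asIdeal.primeCompl F))
    (hGU : ∀ q : PrimeSpectrum B, ¬ J ≤ q.asIdeal → Module.Free (Localization.AtPrime q.asIdeal) (LocalizedModule q.asIdeal.primeCompl G)) :
    Module.IsReflexive B F ∧
    Module.IsReflexive B' (LinearMap.ker (u.baseChange B')) ∧
    2 ≤ LocCoh.idealDepth (J.map (algebraMap B B')) (LinearMap.ker (u.baseChange B')) ∧
    ((∀ q' : PrimeSpectrum B', FlatCA.FlatAt A' q'.asIdeal (LinearMap.ker (u.baseChange B')) ∧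
        2 ≤ LocCoh.idealDepth ((J.map (algebraMap B B')).map (algebraMap B' (EGA4.FibLocRing A' B' q'.asIdeal)))
          (EGA4.FibLocMod A' B' q'.asIdeal (LinearMap.ker (u.baseChange B')))) ↔
      Module.Flat A' (B' ⊗[B] G)) := by
  open Groth.Agent.Lib.QDepth in
  obtain ⟨hB, hB'⟩ := two_ring_baseChange J hZ A' B'
  open Groth.Agent.Lib.QDepth in
  obtain ⟨N, hN, hgen⟩ := exists_genInverse J u v huv hv hGU
  let u' := u.baseChange B'
  let v' := v.baseChange B'
  let K := LinearMap.ker u'
  let J' := J.map (algebraMap B B')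
  have hT0 : Groth.Agent.Lib.QDepth.Two J' (B' ⊗[B] E0) := hB'.of_projective _
  have hT1 : Groth.Agent.Lib.QDepth.Two J' (B' ⊗[B] E1) := hB'.of_projective _
  have hK : Groth.Agent.Lib.QDepth.Two J' K := hT0.ker hT1.zero u'
  -- `F` is reflexive
  have hF : Module.IsReflexive B F := by
    obtain ⟨M, hM, hev, -⟩ := Groth.Agent.Lib.QDepth.exists_invUpTo_eval (F := F) J hFU
    let e : F ≃ₗ[B] LinearMap.ker u :=
      LinearEquiv.ofInjective f hf ≪≫ₗ LinearEquiv.ofEq _ _ (LinearMap.exact_iff.mp hfu).symm
    exact Groth.Agent.Lib.QDepth.isReflexive_of_two hM hev hB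
      (((hB.of_projective E0).ker (hB.of_projective E1).zero u).of_equiv e.symm)
  refine ⟨hF, Groth.Agent.Lib.QDepth.isReflexive_of_two hN
    (Groth.Agent.Lib.QDepth.invUpTo_eval_ker J u N hgen B') hB' hK,
    Groth.Agent.Lib.QDepth.two_le_of_two _ hK, ?_⟩
  -- flatness
  have hflatB' : Module.Flat A' B' :=
    Module.Flat.isBaseChange A A' B B' (Algebra.IsPushout.symm inferInstance : Algebra.IsPushout A A' B B').out
  have : Module.Flat A' (B' ⊗[B] E0) := Module.Flat.trans A' B' _
  have : Module.Flat A' (B' ⊗[B] E1) := Module.Flat.trans A' B' _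
  have hv' : Function.Surjective v' := LinearMap.lTensor_surjective B' hv
  have huv' : Function.Exact u' v' := lTensor_exact B' huv hv
  have hG'U : ∀ q : PrimeSpectrum B', ¬ J' ≤ q.asIdeal →
      Module.Flat A' (LocalizedModule q.asIdeal.primeCompl (B' ⊗[B] G)) := by
    intro q hq
    have hq' : ¬ J ^ N ≤ (q.asIdeal.comap (algebraMap B B')) := fun h =>
      hq (Ideal.map_le_iff_le_comap.mpr (Ideal.IsPrime.le_of_pow_le h))
    obtain ⟨c, hc, hcq⟩ := SetLike.not_le_iff_exists.mp hq'
    obtain ⟨w, hw⟩ := hgen c hc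
    let w' := w.baseChange B'
    let c' := algebraMap B B' c
    have hw' : u' ∘ₗ w' ∘ₗ u' = c' • u' := by
      rw [← LinearMap.baseChange_comp, ← LinearMap.baseChange_comp, hw, LinearMap.baseChange_smul,
        algebraMap_smul]
    let σ : (B' ⊗[B] G) →ₗ[B'] B' ⊗[B] E1 :=
      (LinearMap.ker v').liftQ (c' • LinearMap.id - u' ∘ₗ w') (fun y hy => by
        obtain ⟨x, rfl⟩ := (huv' y).mp hy
        rw [LinearMap.mem_ker, LinearMap.sub_apply, LinearMap.comp_apply,
          show u' (w' (u' x)) = c' • u' x from LinearMap.congr_fun hw' x]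
        simp) ∘ₗ (v'.quotKerEquivOfSurjective hv').symm.toLinearMap
    have hσ : ∀ z, v' (σ z) = c' • z := by
      intro z
      obtain ⟨y, rfl⟩ := hv' z
      have h1 : (v'.quotKerEquivOfSurjective hv').symm (v' y) = Submodule.Quotient.mk y := by
        rw [LinearEquiv.symm_apply_eq]; rfl
      simp only [σ, LinearMap.comp_apply, LinearEquiv.coe_coe, h1, Submodule.liftQ_apply,
        LinearMap.sub_apply, map_sub, huv'.apply_apply_eq_zero, sub_zero, LinearMap.smul_apply,
        LinearMap.id_apply, map_smul]
    let W := q.asIdeal.primeCompl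
    let Bq := Localization.AtPrime q.asIdeal
    let un : Bqˣ := (IsLocalization.map_units Bq (⟨c', hcq⟩ : W)).unit
    have := Groth.Agent.Lib.QDepth.flat_localized (A := A') W (B' ⊗[B] E1)
    refine Module.Flat.of_retract
      ((((un⁻¹ : Bqˣ).1) • LocalizedModule.map W σ).restrictScalars A')
      ((LocalizedModule.map W v').restrictScalars A') ?_
    apply LinearMap.ext
    intro z
    induction z using LocalizedModule.induction_on with
    | _ m t =>
      simp only [LinearMap.comp_apply, LinearMap.restrictScalars_apply, LinearMap.smul_apply, map_smul,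
        LocalizedModule.map_mk, hσ, LinearMap.id_apply]
      rw [← LocalizedModule.smul'_mk, ← algebraMap_smul Bq c', smul_smul,
        show (un⁻¹ : Bqˣ).1 * algebraMap B' Bq c' = 1 from un.inv_mul, one_smul]
  have hi : Function.Injective K.subtype := Subtype.val_injective
  have hKu : Function.Exact K.subtype u' := LinearMap.exact_subtype_ker_map u'
  have hd : ∀ (P : Type u) [AddCommGroup P] [Module B' P] [Module.Finite B' P] [Module.Projective B' P]
      (q' : PrimeSpectrum B'),
      2 ≤ LocCoh.idealDepth (J'.map (algebraMap B' (EGA4.FibLocRing A' B' q'.asIdeal)))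
        (EGA4.FibLocMod A' B' q'.asIdeal P) :=
    fun P _ _ _ _ q' => Groth.Agent.Lib.QDepth.two_le_fibLocMod_projective J hZ P q'
  constructor
  · intro h
    refine Module.flat_of_isLocalized_maximal B' (B' ⊗[B] G)
      (fun P _ => LocalizedModule P.primeCompl (B' ⊗[B] G))
      (fun P _ => LocalizedModule.mkLinearMap P.primeCompl _) fun P _ => ?_
    exact (Groth.Agent.Lib.QDepth.flatAt_coker_iff (A := A') (F := ↥K) J' K.subtype u' v' hi hKu huv' hv' hG'U
      ⟨P, inferInstance⟩ (hd _ _) (le_trans one_le_two (hd _ _))).mp (h ⟨P, inferInstance⟩).2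
  · intro hG q'
    have hflatK : Module.Flat A' K :=
      Groth.Agent.Lib.QDepth.flat_kernel_of_flat (A := A') (F := ↥K) K.subtype u' v' hi hKu huv' hv'
    refine ⟨Groth.Agent.Lib.QDepth.flat_localized q'.asIdeal.primeCompl K, ?_⟩
    exact (Groth.Agent.Lib.QDepth.flatAt_coker_iff (A := A') (F := ↥K) J' K.subtype u' v' hi hKu huv' hv' hG'U
      q' (hd _ _) (le_trans one_le_two (hd _ _))).mpr
        (Groth.Agent.Lib.QDepth.flat_localized q'.asIdeal.primeCompl _)

end Groth.Agent.S18711
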