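import Groth.Statements.S18713
-- import your own Groth.Agent.* helpers here
import Groth.Agent.Lib.RG57.RelS2.Criteria

set_option autoImplicit false
universe u
open QGor Groth.Agent.Lib Groth.Agent.Lib.RG57.RelS2

namespace Groth.Agent.S18713

open TensorProduct in
/-- Valuative criterion, affine-local form. Let R be a Noetherian local ring with maximal ideal m, C a
finitely generated flat R-algebra, y = n a prime of C over m at which the fibre C_n/mC_n satisfies
S₂ (the structure morphism satisfies relative S₂ at y), and F a finite reflexive C-module which is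
free at every prime not containing an ideal J such that every fibre local ring C_q/pC_q at primes q
⊇ J has dimension ≥ 2 (F is locally free in codimension one on each fibre). Assume R is reduced, and
that for every local homomorphism R → D to a discrete valuation ring and the Noetherian pushout C′ =
D ⊗_R C, at every prime q′ of C′ lying over n and over the closed point of D the double dual (C′ ⊗_C
F)^∨∨ is flat over D at q′ and its fibre stalk satisfies S₂. Then F is flat over R at n and F_n/mF_n
satisfies S₂ (F satisfies relative S₂ at y). Test rings D range over the universe of R. -/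
theorem result (R C : Type u) [CommRing R] [CommRing C] [IsNoetherianRing R] [IsLocalRing R] [IsNoetherianRing C]
    [Algebra R C] [Module.Flat R C] (hft : Algebra.FiniteType R C)
    (n : PrimeSpectrum C) (hn : (IsLocalRing.maximalIdeal R).map (algebraMap R C) ≤ n.asIdeal)
    (hS2 : LocCoh.HasSk 2 (EGA4.FibLocRing R C n.asIdeal) (EGA4.FibLocRing R C n.asIdeal))
    (F : Type u) [AddCommGroup F] [Module C F] [Module R F] [IsScalarTower R C F] [Module.Finite C F]
    [Module.IsReflexive C F] (J : Ideal C)
    (hFU : ∀ q : PrimeSpectrum C, ¬ J ≤ q.asIdeal → Module.Free (Localization.AtPrime q.asIdeal) (LocalizedModule q.asIdeal.primeCompl F))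
    (hcodim : ∀ q : PrimeSpectrum C, J ≤ q.asIdeal → (2 : WithBot ℕ∞) ≤ ringKrullDim (EGA4.FibLocRing R C q.asIdeal)) [IsReduced R]
    (hII : ∀ (D : Type u) [CommRing D] [IsDomain D] [IsDiscreteValuationRing D] [Algebra R D],
      IsLocalHom (algebraMap R D) →
      ∀ (C' : Type u) [CommRing C'] [IsNoetherianRing C'] [Algebra C C'] [Algebra D C'] [Algebra R C']
        [IsScalarTower R C C'] [IsScalarTower R D C'], Algebra.IsPushout R C D C' →
        ∀ q' : PrimeSpectrum C', q'.asIdeal.comap (algebraMap C C') = n.asIdeal →
          (IsLocalRing.maximalIdeal D).map (algebraMap D C') ≤ q'.asIdeal →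
          FlatCA.FlatAt D q'.asIdeal (Module.Dual C' (Module.Dual C' (C' ⊗[C] F))) ∧
          LocCoh.HasSk 2 (EGA4.FibLocRing D C' q'.asIdeal)
            (EGA4.FibLocMod D C' q'.asIdeal (Module.Dual C' (Module.Dual C' (C' ⊗[C] F))))) :
    FlatCA.FlatAt R n.asIdeal F ∧ LocCoh.HasSk 2 (EGA4.FibLocRing R C n.asIdeal) (EGA4.FibLocMod R C n.asIdeal F) := by
  haveI := hft
  have hn' : n.asIdeal.comap (algebraMap R C) = IsLocalRing.maximalIdeal R :=
    ((IsLocalRing.maximalIdeal.isMaximal R).eq_of_le (Ideal.IsPrime.ne_top inferInstance)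
      (Ideal.map_le_iff_le_comap.1 hn)).symm
  obtain ⟨k, l, g, h, hg, hgh, hfree⟩ := QDepth.exists_presentation (B := C) F
  have hGfree := fun (q : PrimeSpectrum C) hq => hfree q.asIdeal (hFU q hq)
  have h0 := Depth.two_le_quot n.asIdeal hn' hS2 J hcodim
  refine Point.kernel_of_flat (A := R) n.asIdeal g h (LinearMap.range h).mkQ hg hgh (LinearMap.exact_map_mkQ_range h)
    (Submodule.mkQ_surjective _) hS2 ?_
  refine Criteria.flat_of_dvr ((Fin l → C) ⧸ LinearMap.range h) n.asIdeal hn' fun V _ _ _ _ hloc => ?_
  exact Criteria.flatPts_of_hasSk F J g h hg hgh hGfree n.asIdeal hn' h0 V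
    fun C' _ _ _ _ _ _ _ hpo q' hq' hm' => (hII V hloc C' hpo q' hq' (Ideal.map_le_iff_le_comap.2 hm'.ge)).2

end Groth.Agent.S18713
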