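import Groth.Statements.S18717
import Groth.Agent.Lib.DMod.SkEquidim

set_option autoImplicit false
universe u
open CategoryTheory
attribute [local instance] HasDerivedCategory.standard
open QGor

namespace Groth.Agent.S18717

open Groth.Agent.Lib.DMod

/-- Affine-local form with a normalized dualizing complex (so the codimension function vanishes at the
closed point). Let A be a Noetherian local ring with normalized dualizing complex ω, M a nonzero
finite A-module which is equidimensional of dimension δ, E^j = Ext^j(M, ω) the A-module of morphisms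
M → ω[j] in D(A), and k ≥ 1. Then M satisfies (S_k) if and only if dim Supp E^j ≤ −j − k for every
integer j ≠ −δ, where for −j − k < 0 this means E^j = 0. -/
theorem result (A : Type u) [CommRing A] [IsNoetherianRing A]
    [IsLocalRing A] (ω : Dual.D A) (hω : Dual.IsDualizing A ω) (hn : Dual.IsNormalized A ω)
    (M : Type u) [AddCommGroup M] [Module A M] [Module.Finite A M] [Nontrivial M]
    (hM : EGA4.IsEquidimModule A M) (δ : ℕ) (hδ : Module.supportDim A M = δ) (k : ℕ) (hk : 1 ≤ k) :
    LocCoh.HasSk k A M ↔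
      ∀ j : ℤ, j ≠ -(δ : ℤ) →
        (-j - (k : ℤ) < 0 → Subsingleton (Dual.inD A M ⟶ ω⟦j⟧)) ∧
        (0 ≤ -j - (k : ℤ) → Module.supportDim A (Dual.inD A M ⟶ ω⟦j⟧) ≤ ((-j - (k : ℤ)).toNat : WithBot ℕ∞)) := by
  have h0 : ∀ m : PrimeSpectrum A, m.asIdeal.IsMaximal → Degree.deg hω m = 0 := fun m hm => by
    rw [show m = IsLocalRing.closedPoint A from PrimeSpectrum.ext (IsLocalRing.eq_maximalIdeal hm)]
    exact LocalCase.deg_closedPoint_eq_zero hω hn
  obtain ⟨q₀, hq₀, hq₀d, hmin⟩ := LocalCase.exists_min_deg_local hω hn M δ hδ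
  have heq : ∀ p : PrimeSpectrum A, p ∈ Module.support A M →
      ∃ q ≤ p, q ∈ Module.support A M ∧ Degree.deg hω q = -(δ : ℤ) := by
    intro p hp
    obtain ⟨r, hr, hrp⟩ := Ideal.exists_minimalPrimes_le (Module.mem_support_iff_of_finite.1 hp)
    refine ⟨⟨r, hr.1.1⟩, hrp, Module.mem_support_iff_of_finite.2 hr.1.2, ?_⟩
    have h1 := hM r hr
    rw [show r = (⟨r, hr.1.1⟩ : PrimeSpectrum A).asIdeal from rfl,
      LocalCase.ringKrullDim_quotient_eq_neg_deg hω hn, hδ] at h1
    have h2 : (-Degree.deg hω ⟨r, hr.1.1⟩).toNat = δ := by exact_mod_cast h1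
    have := LocalCase.deg_nonpos hω hn ⟨r, hr.1.1⟩
    lia
  rw [SkEquidim.hasSk_iff hω M δ k hk heq fun p hp => hq₀d ▸ hmin p hp]
  refine forall₂_congr fun j hj => ⟨fun h => ⟨fun hneg => ?_, fun hpos => ?_⟩, fun h p hp => ?_⟩
  · rw [← Module.support_eq_empty_iff (R := A), Set.eq_empty_iff_forall_notMem]
    intro p hp
    have := h p hp
    have := LocalCase.deg_nonpos hω hn p
    lia
  · rw [SkEquidim.supportDim_le_iff hω h0]
    intro p hp
    have := h p hp
    lia
  · by_cases hpos : 0 ≤ -j - (k : ℤ)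
    · have := (SkEquidim.supportDim_le_iff hω h0 _ _).1 (h.2 hpos) p hp
      lia
    · have := h.1 (by lia)
      simp [Module.support_eq_empty] at hp

end Groth.Agent.S18717
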