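import Groth.Statements.S18721
import Groth.Agent.Lib.DMod.SkEquidim

set_option autoImplicit false
universe u
open CategoryTheory
attribute [local instance] HasDerivedCategory.standard
open QGor

namespace Groth.Agent.S18721

open Groth.Agent.Lib.DMod

/-- Affine form. Let k be a field and A a finitely generated k-algebra, equidimensional of Krull
dimension n, and let ω be a dualizing complex of A normalized at every maximal ideal m (no nonzero
morphisms A/m → ω[i] in D(A) for i ≠ 0 — the canonical dualizing complex of Spec A over k). Put Z_i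
= Supp H^{-i}(ω). Then H^{-i}(ω) = 0 for every i > n, and for every k′ ≥ 1: A satisfies (S_{k′}) if
and only if dim Z_i ≤ i − k′ for all i ≠ n, where for i < k′ this means H^{-i}(ω) = 0. -/
theorem result (k A : Type u) [Field k] [CommRing A]
    [Algebra k A] (hft : Algebra.FiniteType k A) [IsNoetherianRing A]
    (hEq : EGA4.IsEquidim A) (n : ℕ) (hd : ringKrullDim A = n)
    (ω : Dual.D A) (hω : Dual.IsDualizing A ω)
    (hnorm : ∀ (m : Ideal A) (_ : m.IsMaximal) (i : ℤ), i ≠ 0 → Subsingleton (Dual.inD A (A ⧸ m) ⟶ ω⟦i⟧)) :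
    (∀ i : ℕ, n < i → Subsingleton (Dual.HD A ω (-(i : ℤ)))) ∧
    ∀ k' : ℕ, 1 ≤ k' →
      (LocCoh.HasSk k' A A ↔
        ∀ i : ℕ, i ≠ n →
          (i < k' → Subsingleton (Dual.HD A ω (-(i : ℤ)))) ∧
          (k' ≤ i → Module.supportDim A (Dual.HD A ω (-(i : ℤ))) ≤ ((i - k' : ℕ) : WithBot ℕ∞))) := by
  have h0 : ∀ m : PrimeSpectrum A, m.asIdeal.IsMaximal → Degree.deg hω m = 0 := fun m hm => by
    by_contra hne
    have := hnorm m.asIdeal hm _ hne
    exact absurd (Degree.mem_support_deg hω m) (by simp [Module.support_eq_empty])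
  have hsupp : ∀ p : PrimeSpectrum A, p ∈ Module.support A A := fun p => by
    rw [Module.support_eq_zeroLocus, Module.annihilator_eq_bot.mpr inferInstance]
    simp
  have heq' : ∀ p : PrimeSpectrum A, ∃ q ≤ p, q ∈ Module.support A A ∧ Degree.deg hω q = -(n : ℤ) := by
    intro p
    obtain ⟨r, hr, hrp⟩ := Ideal.exists_minimalPrimes_le (I := (⊥ : Ideal A)) (J := p.asIdeal) bot_le
    refine ⟨⟨r, hr.1.1⟩, hrp, hsupp _, ?_⟩
    have h1 := hEq r hr
    rw [show r = (⟨r, hr.1.1⟩ : PrimeSpectrum A).asIdeal from rfl,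
      SkEquidim.ringKrullDim_quotient_eq hω h0, hd] at h1
    have h2 : (-Degree.deg hω ⟨r, hr.1.1⟩).toNat = n := by exact_mod_cast h1
    have := SkEquidim.deg_nonpos hω h0 ⟨r, hr.1.1⟩
    lia
  have hmin : ∀ p : PrimeSpectrum A, -(n : ℤ) ≤ Degree.deg hω p := fun p => by
    obtain ⟨q, hqp, -, hq⟩ := heq' p
    exact hq ▸ Degree.deg_le hω hqp
  have hiff : ∀ (i : ℤ) (p : PrimeSpectrum A),
      p ∈ Module.support A (Dual.inD A A ⟶ ω⟦i⟧) ↔ p ∈ Module.support A (Dual.HD A ω i) :=
    fun i p => by rw [(Basic.homUnitShiftEquiv ω i).support_eq]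
  have hrange : ∀ (i : ℤ) (p : PrimeSpectrum A), p ∈ Module.support A (Dual.HD A ω i) →
      -(n : ℤ) ≤ i ∧ i ≤ 0 := fun i p hp => by
    rw [← hiff] at hp
    refine ⟨?_, ?_⟩ <;> by_contra hc
    · exact Degree.notMem_support_hom_of_outside hω p A i
        (Or.inr fun q _ _ => lt_of_lt_of_le (not_le.1 hc) (hmin q)) hp
    · exact Degree.notMem_support_hom_of_outside hω p A i
        (Or.inl (lt_of_le_of_lt (SkEquidim.deg_nonpos hω h0 p) (not_le.1 hc))) hp
  refine ⟨fun i hi => ?_, fun k' hk' => ?_⟩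
  · rw [← Module.support_eq_empty_iff (R := A), Set.eq_empty_iff_forall_notMem]
    intro p hp
    have := hrange _ p hp
    lia
  rw [SkEquidim.hasSk_iff hω A n k' hk' (fun p _ => heq' p) fun p _ => hmin p]
  constructor
  · intro h i hi
    constructor
    · intro hik
      rw [← Module.support_eq_empty_iff (R := A), Set.eq_empty_iff_forall_notMem]
      intro p hp
      have := h (-(i : ℤ)) (by lia) p ((hiff _ p).2 hp)
      have := SkEquidim.deg_nonpos hω h0 p
      lia
    · intro hik
      rw [SkEquidim.supportDim_le_iff hω h0]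
      intro p hp
      have := h (-(i : ℤ)) (by lia) p ((hiff _ p).2 hp)
      lia
  · intro h j hj p hp
    rw [hiff] at hp
    have := hrange j p hp
    have hji : j = -((-j).toNat : ℤ) := by lia
    rw [hji] at hp
    by_cases hjk : (-j).toNat < k'
    · have := (h (-j).toNat (by lia)).1 hjk
      simp [Module.support_eq_empty] at hp
    · have := (SkEquidim.supportDim_le_iff hω h0 _ _).1 ((h (-j).toNat (by lia)).2 (not_lt.1 hjk)) p hp
      lia

end Groth.Agent.S18721
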