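import Groth.Statements.S18723
import Groth.Agent.Lib.DMod.OrdinaryOff
import Groth.Agent.Lib.QDepth.Reflexive
import Groth.Agent.Lib.QDepth.Two
import Groth.Agent.Lib.QDepth.DualSk
import Mathlib.LinearAlgebra.PiTensorProduct.Finite

set_option autoImplicit false
universe u
open CategoryTheory
attribute [local instance] HasDerivedCategory.standard
open QGor

namespace Groth.Agent.S18723
theorem supportDim_self_localized (A : Type u) [CommRing A] [IsNoetherianRing A] (p : Ideal A) [p.IsPrime] :
    Module.supportDim (Localization.AtPrime p) (LocalizedModule p.primeCompl A) =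
      ((p.height : ℕ∞) : WithBot ℕ∞) := by
  refine ((Module.supportDim_self_eq_ringKrullDim (R := Localization.AtPrime p)).trans ?_)
  exact IsLocalization.AtPrime.ringKrullDim_eq_height p _

/-- Affine-local form, with (2) for tensor powers m ≥ 0. Let A be a Noetherian local ring of Krull
dimension n with a dualizing complex ω, L = H⁰(ω), and J an ideal with ht J ≥ 2 (the closed set V(J)
has codimension ≥ 2) such that off V(J) the complex ω is the invertible module L in degree 0: for
every prime p not containing J, H^i(ω)_p = 0 for i ≠ 0 and L_p is free of rank 1. (1) If A satisfies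
(S₁), then ω is ordinary (A is equidimensional and ω[n] is normalized) and L is reflexive and
satisfies (S₂). (2) If A satisfies (S₂), then for every m ≥ 0 the double dual L^[m] of the m-th
tensor power of L satisfies (S₂) and depth_J L^[m] ≥ 2 (it is the module of sections of L^⊗m off
V(J)). -/
theorem result (A : Type u) [CommRing A] [IsNoetherianRing A]
    [IsLocalRing A] (ω : Dual.D A) (hω : Dual.IsDualizing A ω) (n : ℕ) (hd : ringKrullDim A = n)
    (J : Ideal A) (hJ : 2 ≤ J.height)
    (hoff : ∀ p : PrimeSpectrum A, ¬ J ≤ p.asIdeal →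
      (∀ i : ℤ, i ≠ 0 → p ∉ Module.support A (Dual.HD A ω i)) ∧
      Module.Free (Localization.AtPrime p.asIdeal) (LocalizedModule p.asIdeal.primeCompl (Dual.HD A ω 0)) ∧
      Module.finrank (Localization.AtPrime p.asIdeal) (LocalizedModule p.asIdeal.primeCompl (Dual.HD A ω 0)) = 1) :
    (LocCoh.HasSk 1 A A →
      (EGA4.IsEquidim A ∧ Dual.IsNormalized A (ω⟦(n : ℤ)⟧)) ∧
      Module.IsReflexive A (Dual.HD A ω 0) ∧ LocCoh.HasSk 2 A (Dual.HD A ω 0)) ∧
    (LocCoh.HasSk 2 A A → ∀ m : ℕ,
      LocCoh.HasSk 2 A (Module.Dual A (Module.Dual A (TensorPower A m (Dual.HD A ω 0)))) ∧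
      2 ≤ LocCoh.idealDepth J (Module.Dual A (Module.Dual A (TensorPower A m (Dual.HD A ω 0))))) := by

  have hJ1 : 1 ≤ J.height := le_trans (by norm_num) hJ
  have hoff1 : ∀ p : PrimeSpectrum A, ¬ J ≤ p.asIdeal → ∀ i : ℤ, i ≠ 0 →
      p ∉ Module.support A (Dual.HD A ω i) := fun p hp => (hoff p hp).1
  have hfin : Module.Finite A (Dual.HD A ω 0) := hω.finite_cohomology 0
  have hdepth : ∀ k : ℕ, k ≤ 2 → LocCoh.HasSk k A A → (k : ℕ∞) ≤ LocCoh.idealDepth J A := by
    intro k hk hS
    rw [Groth.Agent.Lib.QDepth.le_idealDepth_iff_forall]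
    intro p hp
    refine Groth.Agent.Lib.QDepth.le_depth_of_hasSk hS p.asIdeal le_rfl ?_
    have h2 : (k : ℕ∞) ≤ p.asIdeal.height :=
      le_trans (by exact_mod_cast hk) (hJ.trans (Ideal.height_mono hp))
    refine le_trans (WithBot.coe_le_coe.mpr h2) (le_of_eq ?_)
    rw [← Groth.Agent.S18723.supportDim_self_localized A p.asIdeal]
  refine ⟨fun h1 => ⟨⟨Groth.Agent.Lib.DMod.OrdinaryOff.isEquidim hω J hJ1 hoff1 n hd,
      Groth.Agent.Lib.DMod.OrdinaryOff.isNormalized hω J hJ1 hoff1 n hd⟩, ?_,
      Groth.Agent.Lib.DMod.OrdinaryOff.hasSk_two hω J hJ1 hoff1⟩, fun h2 m => ?_⟩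
  · refine Groth.Agent.Lib.QDepth.isReflexive_of_depth J (by simpa using hdepth 1 (by norm_num) h1)
      (fun p hp => ?_) (Groth.Agent.Lib.DMod.OrdinaryOff.two_le_idealDepth hω J hJ1 hoff1 hJ)
    have := (hoff p hp).2.1
    infer_instance
  · have : Module.Finite A (Module.Dual A (TensorPower A m (Dual.HD A ω 0))) := by
      obtain ⟨a, b, g, h, hg, -⟩ := Groth.Agent.Lib.QDepth.exists_exact_dual (R := A) (TensorPower A m (Dual.HD A ω 0))
      exact Module.Finite.of_injective g hg
    refine ⟨Groth.Agent.Lib.QDepth.hasSk_dual _ le_rfl h2, ?_⟩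
    have : Module.Finite A (Module.Dual A (Module.Dual A (TensorPower A m (Dual.HD A ω 0)))) := by
      obtain ⟨a, b, g, h, hg, -⟩ := Groth.Agent.Lib.QDepth.exists_exact_dual (R := A) (Module.Dual A (TensorPower A m (Dual.HD A ω 0)))
      exact Module.Finite.of_injective g hg
    exact Groth.Agent.Lib.QDepth.two_le_of_two J ((Groth.Agent.Lib.QDepth.two_of_two_le J (by simpa using hdepth 2 le_rfl h2)).hom _)

end Groth.Agent.S18723
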