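import Groth.Statements.S18725
import Groth.Agent.H68.FibDepth
import Groth.Agent.H19.FlatLocus.Main

set_option autoImplicit false
universe u
open QGor

namespace Groth.Agent.S18725

open Groth.Agent.H68

/-- Affine form of the equivalence (c) ⇔ (d). Let A → B be a homomorphism of finite type between
Noetherian rings, J an ideal of B and 0 → F → E⁰ → E¹ → G → 0 an exact sequence of finite B-modules
such that E⁰, E¹ are flat over A, G_q is flat over A for every prime q not containing J, and for
every prime q ⊇ J with contraction p the fibre stalk E⁰_q/pE⁰_q has depth ≥ 2 and E¹_q/pE¹_q has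
depth ≥ 1. Then for a prime n of B the following are equivalent: G is flat over A at n; there is a
basic open neighbourhood D(s) of n such that at every prime q ∈ D(s) the module F is flat over A at
q and, if q ⊇ J, the fibre stalk F_q/pF_q has depth ≥ 2 (the restriction maps of the fibres of F off
V(J) are bijective on D(s)). -/
theorem result (A B : Type u) [CommRing A] [CommRing B]
    [IsNoetherianRing A] [IsNoetherianRing B] [Algebra A B] (hft : Algebra.FiniteType A B) (J : Ideal B)
    (F E0 E1 G : Type u) [AddCommGroup F] [Module B F] [Module A F] [IsScalarTower A B F] [Module.Finite B F]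
    [AddCommGroup E0] [Module B E0] [Module A E0] [IsScalarTower A B E0] [Module.Finite B E0] [Module.Flat A E0]
    [AddCommGroup E1] [Module B E1] [Module A E1] [IsScalarTower A B E1] [Module.Finite B E1] [Module.Flat A E1]
    [AddCommGroup G] [Module B G] [Module A G] [IsScalarTower A B G] [Module.Finite B G]
    (f : F →ₗ[B] E0) (u : E0 →ₗ[B] E1) (v : E1 →ₗ[B] G)
    (hf : Function.Injective f) (hfu : Function.Exact f u) (huv : Function.Exact u v) (hv : Function.Surjective v)
    (hGU : ∀ q : PrimeSpectrum B, ¬ J ≤ q.asIdeal → FlatCA.FlatAt A q.asIdeal G)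
    (h0 : ∀ q : PrimeSpectrum B, J ≤ q.asIdeal →
      2 ≤ LocCoh.idealDepth (q.asIdeal.map (algebraMap B (EGA4.FibLocRing A B q.asIdeal))) (EGA4.FibLocMod A B q.asIdeal E0))
    (h1 : ∀ q : PrimeSpectrum B, J ≤ q.asIdeal →
      1 ≤ LocCoh.idealDepth (q.asIdeal.map (algebraMap B (EGA4.FibLocRing A B q.asIdeal))) (EGA4.FibLocMod A B q.asIdeal E1))
    (n : PrimeSpectrum B) :
    FlatCA.FlatAt A n.asIdeal G ↔
      ∃ s : B, s ∉ n.asIdeal ∧ ∀ q : PrimeSpectrum B, s ∉ q.asIdeal →
        FlatCA.FlatAt A q.asIdeal F ∧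
        (J ≤ q.asIdeal →
          2 ≤ LocCoh.idealDepth (q.asIdeal.map (algebraMap B (EGA4.FibLocRing A B q.asIdeal))) (EGA4.FibLocMod A B q.asIdeal F)) := by
  haveI : Algebra.FiniteType A B := hft
  haveI : Algebra.FinitePresentation A B := Algebra.FinitePresentation.of_finiteType.mp hft
  haveI : Module.FinitePresentation B G := Module.finitePresentation_of_finite B G
  have h0' : ∀ q : PrimeSpectrum B,
      2 ≤ LocCoh.idealDepth (J.map (algebraMap B (EGA4.FibLocRing A B q.asIdeal)))
        (EGA4.FibLocMod A B q.asIdeal E0) :=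
    fun q => FibDepth.le_idealDepth_of_forall J q E0 2 fun q' _ hJ => h0 q' hJ
  have h1' : ∀ q : PrimeSpectrum B,
      1 ≤ LocCoh.idealDepth (J.map (algebraMap B (EGA4.FibLocRing A B q.asIdeal)))
        (EGA4.FibLocMod A B q.asIdeal E1) :=
    fun q => FibDepth.le_idealDepth_of_forall J q E1 1 fun q' _ hJ => h1 q' hJ
  constructor
  · intro hG
    obtain ⟨_, ⟨_, ⟨s, rfl⟩, rfl⟩, hs, hsub⟩ := (PrimeSpectrum.isBasis_basic_opens.exists_subset_of_mem_open
      (show n ∈ {q : PrimeSpectrum B | Module.Flat A (LocalizedModule q.asIdeal.primeCompl G)} from hG)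
      (Groth.Agent.H19.FlatLocus.isOpen_flat_of_finitePresentation (R := A) (S := B) (M := G)))
    refine ⟨s, hs, fun q hq => ?_⟩
    have hGq : Module.Flat A (LocalizedModule q.asIdeal.primeCompl G) := hsub hq
    refine ⟨FibDepth.flat_localized_kernel f u v hf hfu huv hv q hGq, fun hJq => ?_⟩
    have h2 := (Lib.QDepth.flatAt_coker_iff J f u v hf hfu huv hv hGU q (h0' q) (h1' q)).2 hGq
    by_cases ht : q.asIdeal.map (algebraMap B (EGA4.FibLocRing A B q.asIdeal)) •
        (⊤ : Submodule (EGA4.FibLocRing A B q.asIdeal) (EGA4.FibLocMod A B q.asIdeal F)) = ⊤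
    · rw [Lib.Depth.Basic.idealDepth_of_smul_top_eq ht]
      exact le_top
    · exact h2.trans (Lib.Depth.Basic.idealDepth_mono (Ideal.map_mono hJq) ht)
  · rintro ⟨s, hs, hq⟩
    refine (Lib.QDepth.flatAt_coker_iff J f u v hf hfu huv hv hGU n (h0' n) (h1' n)).1 ?_
    exact FibDepth.le_idealDepth_of_forall J n F 2 fun q' hle hJ => (hq q' fun hc => hs (hle hc)).2 hJ

end Groth.Agent.S18725
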