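import Groth.Statements.S18732
import Groth.Agent.Lib.ModPair.Basic

set_option autoImplicit false
universe u
open CategoryTheory CategoryTheory.Limits AlgebraicGeometry TopologicalSpace
open ModPair

namespace Groth.Agent.S18732

/-- Let X be a scheme, I the quasi-coherent ideal sheaf of an effective Cartier divisor on X with open
complement U, and f : X' ⟶ X a morphism of schemes for which the open immersion of f⁻¹(U) into X'
has all of X' as its scheme-theoretic image. Then f⁻¹(U) is scheme-theoretically dense in X' (for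
every open W of X' the inclusion of f⁻¹(U) ∩ W into W is scheme-theoretically dominant), and the
closed subscheme of X' pulled back from the divisor of I is an effective Cartier divisor: I.comap f
is the ideal sheaf of an effective Cartier divisor. -/
theorem result {X X' : Scheme.{u}}
    (I : X.IdealSheafData) (hI : BlowUp.IsEffCartierIdeal I) (f : X' ⟶ X)
    [IsSchemeTheoreticallyDominant (f ⁻¹ᵁ ModPair.interior I).ι] :
    (∀ W : X'.Opens, IsSchemeTheoreticallyDominant
        (X'.homOfLE (inf_le_right : f ⁻¹ᵁ ModPair.interior I ⊓ W ≤ W))) ∧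
      BlowUp.IsEffCartierIdeal (I.comap f) := by
  have hlp := Lib.ModPair.isLP_of_effCartier hI
  have hlp' := hlp.comap f
  have e := Lib.ModPair.interior_comap f I
  have hqc : QuasiCompact (f ⁻¹ᵁ ModPair.interior I).ι := e ▸ Lib.ModPair.quasiCompact_interior hlp'
  have : IsSchemeTheoreticallyDominant (ModPair.interior (I.comap f)).ι := by
    rw [e]; infer_instance
  have hE : BlowUp.IsEffCartierIdeal (I.comap f) := Lib.ModPair.effCartier_of_std hlp'
  refine ⟨fun W => ?_, hE⟩
  have hW : BlowUp.IsEffCartierIdeal ((I.comap f).comap W.ι) :=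
    Lib.Ideal.EffCartier.isEffCartier_comap_of_flat W.ι hE
  have hstd := Lib.ModPair.std_interior hW
  rw [Lib.ModPair.interior_comap, e] at hstd
  have hr : Set.range (W.ι ⁻¹ᵁ (f ⁻¹ᵁ ModPair.interior I)).ι =
      Set.range (X'.homOfLE (inf_le_right : f ⁻¹ᵁ ModPair.interior I ⊓ W ≤ W)) := by
    rw [Scheme.Opens.range_ι]
    ext w
    constructor
    · intro hw
      refine ⟨⟨w.1, hw, w.2⟩, ?_⟩
      apply Subtype.ext
      simp
    · rintro ⟨z, rfl⟩
      show W.ι (X'.homOfLE _ z) ∈ f ⁻¹ᵁ ModPair.interior I
      show f ((X'.homOfLE _ ≫ W.ι) z) ∈ ModPair.interior I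
      rw [Scheme.homOfLE_ι]
      exact z.2.1
  rw [← IsOpenImmersion.isoOfRangeEq_inv_fac _ _ hr]
  infer_instance

end Groth.Agent.S18732
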