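import Groth.Statements.S18733
import Groth.Agent.Lib.ModPair.Basic
import Groth.Agent.Lib.RelDiv.Diff

set_option autoImplicit false
universe u
open CategoryTheory CategoryTheory.Limits AlgebraicGeometry TopologicalSpace
open ModPair

namespace Groth.Agent.S18733

/-- Let D₁, D₂ be effective Cartier divisors on a scheme X, with quasi-coherent ideal sheaves I₁, I₂,
such that the scheme-theoretic intersection E = D₁ ×_X D₂ (ideal sheaf I₁ ⊔ I₂) is again an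
effective Cartier divisor. Then (1) the divisors D₁ − E and D₂ − E are effective and disjoint: there
are ideal sheaves I₁', I₂' of effective Cartier divisors with I₁ = I₁'·(I₁ ⊔ I₂), I₂ = I₂'·(I₁ ⊔ I₂)
and I₁' ⊔ I₂' = ⊤; and (2) the effective Cartier divisor D₁ + D₂ − E, with ideal sheaf I₁'·I₂'·(I₁ ⊔
I₂), is contained in every effective Cartier divisor D of X containing D₁ and D₂: if the ideal sheaf
of D is ≤ I₁ and ≤ I₂ then it is ≤ I₁'·I₂'·(I₁ ⊔ I₂). -/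
theorem result {X : Scheme.{u}} (I₁ I₂ : X.IdealSheafData)
    (h₁ : BlowUp.IsEffCartierIdeal I₁) (h₂ : BlowUp.IsEffCartierIdeal I₂)
    (hE : BlowUp.IsEffCartierIdeal (I₁ ⊔ I₂)) :
    ∃ I₁' I₂' : X.IdealSheafData, BlowUp.IsEffCartierIdeal I₁' ∧ BlowUp.IsEffCartierIdeal I₂' ∧
      I₁ = I₁' * (I₁ ⊔ I₂) ∧ I₂ = I₂' * (I₁ ⊔ I₂) ∧ I₁' ⊔ I₂' = ⊤ ∧
      ∀ D : X.IdealSheafData, BlowUp.IsEffCartierIdeal D → D ≤ I₁ → D ≤ I₂ →
        D ≤ I₁' * I₂' * (I₁ ⊔ I₂) := by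
  have hc : ∀ {K I : X.IdealSheafData}, BlowUp.IsEffCartierIdeal I → K ≤ I →
      ∃ L, I * L = K := fun hI hle => ⟨_, Lib.RelDiv.Diff.mul_colon hI hle⟩
  obtain ⟨J₁, e₁⟩ := hc hE (le_sup_left : I₁ ≤ I₁ ⊔ I₂)
  obtain ⟨J₂, e₂⟩ := hc hE (le_sup_right : I₂ ≤ I₁ ⊔ I₂)
  have hJ₁ : BlowUp.IsEffCartierIdeal J₁ :=
    Lib.Ideal.EffCartier.isEffCartier_factor_right (e₁.symm ▸ h₁)
  have hJ₂ : BlowUp.IsEffCartierIdeal J₂ :=
    Lib.Ideal.EffCartier.isEffCartier_factor_right (e₂.symm ▸ h₂)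
  have htop : J₁ ⊔ J₂ = ⊤ := by
    refine Lib.RelDiv.Diff.mul_left_cancel hE ?_
    rw [Scheme.IdealSheafData.mul_inf, e₁, e₂, Scheme.IdealSheafData.mul_top]
  refine ⟨J₁, J₂, hJ₁, hJ₂, by rw [mul_comm]; exact e₁.symm, by rw [mul_comm]; exact e₂.symm,
    htop, fun D _ hD₁ hD₂ => ?_⟩
  obtain ⟨L, e⟩ := hc hE (hD₁.trans (le_sup_left : I₁ ≤ I₁ ⊔ I₂))
  have hL₁ : L ≤ J₁ := (Lib.RelDiv.Diff.mul_le_mul_left_iff hE).mp (by rw [e, e₁]; exact hD₁)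
  have hL₂ : L ≤ J₂ := (Lib.RelDiv.Diff.mul_le_mul_left_iff hE).mp (by rw [e, e₂]; exact hD₂)
  rw [mul_comm, ← e]
  refine (Lib.RelDiv.Diff.mul_le_mul_left_iff hE).mpr fun U => ?_
  have hU : J₁.ideal U ⊔ J₂.ideal U = ⊤ := by
    have := congrArg (fun K : X.IdealSheafData => K.ideal U) htop
    simpa [Scheme.IdealSheafData.ideal_sup] using this
  rw [Scheme.IdealSheafData.ideal_mul, Pi.mul_apply, Ideal.mul_eq_inf_of_coprime hU]
  exact le_inf (hL₁ U) (hL₂ U)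

end Groth.Agent.S18733
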