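import Groth.Statements.S18734
import Groth.Agent.H69.ValFlatFinite
-- import your own Groth.Agent.* helpers here

set_option autoImplicit false
universe u
open CategoryTheory CategoryTheory.Limits AlgebraicGeometry TopologicalSpace
open ModPair

namespace Groth.Agent.S18734
set_option backward.isDefEq.respectTransparency false

/-- Let R be a valuation ring with fraction field K and f : Y ⟶ Spec R a morphism of schemes which is
flat, proper and generically finite (the generic fibre Y ×_{Spec R} Spec K ⟶ Spec K is a finite
morphism). Then f is finite. No finite-presentation hypothesis is assumed. -/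
theorem result {R : Type u} [CommRing R]
    [IsDomain R] [ValuationRing R] {Y : Scheme.{u}} (f : Y ⟶ Spec (CommRingCat.of R)) [Flat f] [IsProper f]
    (hgen : IsFinite (pullback.snd f
      (Spec.map (CommRingCat.ofHom (algebraMap R (FractionRing R)))))) :
    IsFinite f := by
  suffices LocallyQuasiFinite f from IsFinite.of_isProper_of_locallyQuasiFinite f
  let K := FractionRing R
  let k := Spec.map (CommRingCat.ofHom (algebraMap R K))
  have hU : ∀ U : Y.affineOpens, LocallyQuasiFinite (U.1.ι ≫ f) := by
    intro U
    let B : CommRingCat.{u} := Γ(Y, U.1)
    let g : Spec B ⟶ Spec (CommRingCat.of R) := U.2.fromSpec ≫ f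
    suffices LocallyQuasiFinite g by
      have e : U.1.ι ≫ f = U.2.isoSpec.hom ≫ g := by
        rw [← IsAffineOpen.isoSpec_hom_fromSpec_assoc]
      rw [e]
      infer_instance
    obtain ⟨φ, hφ⟩ : ∃ φ : CommRingCat.of R ⟶ B, Spec.map φ = g := ⟨Spec.preimage g, Spec.map_preimage g⟩
    have hflat : Flat g := inferInstance
    have hft : LocallyOfFiniteType g := inferInstance
    rw [← hφ, HasRingHomProperty.Spec_iff (P := @Flat)] at hflat
    rw [← hφ, HasRingHomProperty.Spec_iff (P := @LocallyOfFiniteType)] at hft
    rw [← hφ, HasRingHomProperty.Spec_iff (P := @LocallyQuasiFinite)]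
    algebraize [φ.hom]
    -- the generic fibre of the chart
    have hgK : LocallyQuasiFinite (pullback.snd g k) := by
      have sq : IsPullback (pullback.map g k f k U.2.fromSpec (𝟙 _) (𝟙 _) (by simp [g]) (by simp))
          (pullback.fst g k) (pullback.fst f k) U.2.fromSpec := by
        refine IsPullback.of_right ?_ (pullback.lift_fst _ _ _)
          (IsPullback.of_hasPullback f k).flip
        have e : pullback.map g k f k U.2.fromSpec (𝟙 _) (𝟙 _) (by simp [g]) (by simp) ≫
            pullback.snd f k = pullback.snd g k := by simp
        rw [e]
        exact (IsPullback.of_hasPullback g k).flip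
      have : IsOpenImmersion
          (pullback.map g k f k U.2.fromSpec (𝟙 _) (𝟙 _) (by simp [g]) (by simp)) :=
        MorphismProperty.of_isPullback (P := @IsOpenImmersion) sq.flip inferInstance
      have e : pullback.snd g k =
          pullback.map g k f k U.2.fromSpec (𝟙 _) (𝟙 _) (by simp [g]) (by simp) ≫
            pullback.snd f k := by simp
      rw [e]
      infer_instance
    have hq : RingHom.QuasiFinite
        (Algebra.TensorProduct.includeRight : K →ₐ[R] TensorProduct R B K).toRingHom := by
      rw [← CommRingCat.hom_ofHom
          (Algebra.TensorProduct.includeRight : K →ₐ[R] TensorProduct R B K).toRingHom,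
        ← HasRingHomProperty.Spec_iff (P := @LocallyQuasiFinite)]
      have e := pullbackSpecIso_inv_snd R B K
      have hg : Spec.map (CommRingCat.ofHom (algebraMap R B)) = g := hφ
      erw [← e]
      have : LocallyQuasiFinite (pullback.snd (Spec.map (CommRingCat.ofHom (algebraMap R B))) k) := by
        rw [hg]; exact hgK
      infer_instance
    have hq2 : RingHom.FiniteType
        (Algebra.TensorProduct.includeRight : K →ₐ[R] TensorProduct R B K).toRingHom := by
      rw [← CommRingCat.hom_ofHom
          (Algebra.TensorProduct.includeRight : K →ₐ[R] TensorProduct R B K).toRingHom,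
        ← HasRingHomProperty.Spec_iff (P := @LocallyOfFiniteType)]
      have e := pullbackSpecIso_inv_snd R B K
      have hg : Spec.map (CommRingCat.ofHom (algebraMap R B)) = g := hφ
      erw [← e]
      have : LocallyOfFiniteType (pullback.snd (Spec.map (CommRingCat.ofHom (algebraMap R B))) k) := by
        rw [hg]; exact MorphismProperty.pullback_snd (P := @LocallyOfFiniteType) _ _ inferInstance
      infer_instance
    algebraize [(Algebra.TensorProduct.includeRight : K →ₐ[R] TensorProduct R B K).toRingHom]
    have : Module.Finite K (TensorProduct R B K) := Module.Finite.of_quasiFinite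
    exact Groth.Agent.H69.ValFlatFinite.quasiFinite (K := K)
      (fun x => (Algebra.IsIntegral.of_finite K (TensorProduct R B K)).isIntegral x)
  exact IsZariskiLocalAtSource.of_openCover (Y.openCoverOfIsOpenCover _
    Y.isBasis_affineOpens.isOpenCover) (fun U => hU U)

end Groth.Agent.S18734
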