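import Groth.Statements.S18737
import Groth.Agent.Lib.ModPair.Coprod
import Mathlib.AlgebraicGeometry.Morphisms.Finite

set_option autoImplicit false
universe u
open CategoryTheory CategoryTheory.Limits AlgebraicGeometry TopologicalSpace
open ModPair

namespace Groth.Agent.S18737
theorem quasiCompact_part {X : Scheme.{u}} {I : X.IdealSheafData}
    (hI : BlowUp.IsEffCartierIdeal I) {U₀ U₁ : X.Opens}
    (hU : U₀ ⊔ U₁ = ModPair.interior I) (hd : Disjoint U₀ U₁) : QuasiCompact U₀.ι := by
  have := Lib.ModPair.quasiCompact_interior (Lib.ModPair.isLP_of_effCartier hI)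
  let j := X.homOfLE (le_sup_left.trans hU.le : U₀ ≤ ModPair.interior I)
  have hc : IsClosed (Set.range j) := by
    have he : Set.range j = ((ModPair.interior I).ι ⁻¹ᵁ U₁ : Set (ModPair.interior I : Scheme.{u}))ᶜ := by
      ext x
      constructor
      · rintro ⟨y, rfl⟩ hy
        have : (y.1 : X) ∈ (U₁ : Set X) := by
          have e := congr($(X.homOfLE_ι (le_sup_left.trans hU.le : U₀ ≤ ModPair.interior I)) y)
          exact (congrArg (· ∈ (U₁ : Set X)) e).mp hy
        exact Set.disjoint_left.1 (disjoint_iff.2 (SetLike.ext'_iff.1 (disjoint_iff.1 hd))) y.2 this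
      · intro hx
        have hm : (x.1 : X) ∈ U₀ ⊔ U₁ := hU.symm.le x.2
        refine ⟨⟨x.1, hm.resolve_right hx⟩, Subtype.ext ?_⟩
        exact congr($(X.homOfLE_ι (le_sup_left.trans hU.le : U₀ ≤ ModPair.interior I)) ⟨x.1, hm.resolve_right hx⟩)
    rw [he]
    exact ((ModPair.interior I).ι ⁻¹ᵁ U₁).2.isClosed_compl
  have : IsClosedImmersion j :=
    IsClosedImmersion.of_isPreimmersion j hc
  have : QuasiCompact (j ≫ (ModPair.interior I).ι) := inferInstance
  rwa [X.homOfLE_ι] at this

theorem preimage_eq_bot {X : Scheme.{u}} {U₀ U₁ : X.Opens} [QuasiCompact U₁.ι]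
    (hd : Disjoint U₀ U₁) : U₁.ι.imageι ⁻¹ᵁ U₀ = ⊥ := by
  refine eq_bot_iff.2 fun y hy => ?_
  obtain ⟨z, hz, hz'⟩ := mem_closure_iff.1
    (show U₁.ι.imageι y ∈ closure (U₁ : Set X) by
      have : U₁.ι.imageι y ∈ Set.range U₁.ι.imageι := ⟨y, rfl⟩
      rw [Scheme.IdealSheafData.range_subschemeι, Scheme.Hom.support_ker,
        Scheme.Opens.range_ι] at this
      exact this) U₀ U₀.2 hy
  exact (Set.disjoint_left.1 (disjoint_iff.2 (SetLike.ext'_iff.1 (disjoint_iff.1 hd))) hz hz').elim


/-- Let X be a scheme and I the quasi-coherent ideal sheaf of an effective Cartier divisor on X, with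
open complement U, and suppose U is the disjoint union of two opens U₀, U₁ of X. Let X₀, X₁ ⊆ X be
the scheme-theoretic images of U₀ and U₁ in X and p : X₀ ⨿ X₁ ⟶ X the morphism induced by the two
closed immersions. Then the pulled-back ideal I.comap p is the ideal sheaf of an effective Cartier
divisor, and p is an abstract admissible blow-up from (X₀ ⨿ X₁, I.comap p) to (X, I): proper, with
the pulled-back modulus, and an isomorphism over U. -/
theorem result {X : Scheme.{u}}
    (I : X.IdealSheafData) (hI : BlowUp.IsEffCartierIdeal I) (U₀ U₁ : X.Opens)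
    (hU : U₀ ⊔ U₁ = ModPair.interior I) (hd : Disjoint U₀ U₁) :
    BlowUp.IsEffCartierIdeal (I.comap (coprod.desc U₀.ι.imageι U₁.ι.imageι)) ∧
      ModPair.IsAdmBlowup (I.comap (coprod.desc U₀.ι.imageι U₁.ι.imageι)) I
        (coprod.desc U₀.ι.imageι U₁.ι.imageι) := by
  have hq₀ := quasiCompact_part hI hU hd
  have hq₁ := quasiCompact_part hI (sup_comm U₁ U₀ ▸ hU) hd.symm
  set p := coprod.desc U₀.ι.imageι U₁.ι.imageι
  have hp : IsFinite p := by
    have : IsFinite U₀.ι.imageι := inferInstance
    have : IsFinite U₁.ι.imageι := inferInstance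
    infer_instance
  have hlp := Lib.ModPair.isLP_of_effCartier hI
  refine ⟨?_, rfl, inferInstance, ?_⟩
  · refine Lib.ModPair.effCartier_of_cover (coprodOpenCover.{u, u} _ _).f
      (fun x => ⟨_, (coprodOpenCover.{u, u} _ _).covers x⟩) ?_
    rintro (_ | _)
    · show BlowUp.IsEffCartierIdeal ((I.comap p).comap coprod.inl)
      rw [← Scheme.IdealSheafData.comap_comp, coprod.inl_desc]
      exact Lib.ModPair.effCartier_comap_imageι _ hlp fun x => hU.le (le_sup_left (b := U₁) x.2)
    · show BlowUp.IsEffCartierIdeal ((I.comap p).comap coprod.inr)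
      rw [← Scheme.IdealSheafData.comap_comp, coprod.inr_desc]
      exact Lib.ModPair.effCartier_comap_imageι _ hlp fun x => hU.le (le_sup_right (a := U₀) x.2)
  · refine Lib.ModPair.prop_restrict_of_cover (MorphismProperty.isomorphisms Scheme.{u}) p _
      fun x hx => ?_
    rcases (hU ▸ hx : x ∈ U₀ ⊔ U₁) with hx0 | hx1
    · refine ⟨U₀, hx0, le_sup_left.trans hU.le, ?_⟩
      refine Lib.ModPair.restrict_of_square _ p coprod.inl (𝟙 X) U₀.ι.imageι
        ((coprod.inl_desc _ _).trans (Category.comp_id _).symm) U₀ (by simp) (fun y hy => ?_) ?_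
      · obtain ⟨z | z, rfl⟩ := (coprodMk _ _).surjective y
        · exact ⟨z, (coprodMk_inl _ _ z).symm⟩
        · rw [coprodMk_inr] at hy
          replace hy : U₁.ι.imageι z ∈ U₀ := by
            have e := congr($(coprod.inr_desc U₀.ι.imageι U₁.ι.imageι) z)
            exact e ▸ hy
          exact ((preimage_eq_bot hd).le hy).elim
      · exact Lib.ModPair.isIso_imageι_restrict U₀
    · refine ⟨U₁, hx1, le_sup_right.trans hU.le, ?_⟩
      refine Lib.ModPair.restrict_of_square _ p coprod.inr (𝟙 X) U₁.ι.imageι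
        ((coprod.inr_desc _ _).trans (Category.comp_id _).symm) U₁ (by simp) (fun y hy => ?_) ?_
      · obtain ⟨z | z, rfl⟩ := (coprodMk _ _).surjective y
        · rw [coprodMk_inl] at hy
          replace hy : U₀.ι.imageι z ∈ U₁ := by
            have e := congr($(coprod.inl_desc U₀.ι.imageι U₁.ι.imageι) z)
            exact e ▸ hy
          exact ((preimage_eq_bot hd.symm).le hy).elim
        · exact ⟨z, (coprodMk_inr _ _ z).symm⟩
      · exact Lib.ModPair.isIso_imageι_restrict U₁

end Groth.Agent.S18737
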