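import Groth.Statements.S1874
import Groth.Agent.H19.IntMult.RegSeq


set_option autoImplicit false
universe u
open CategoryTheory AlgebraicGeometry
attribute [local instance] HasDerivedCategory.standard
open IntMult

namespace Groth.Agent.S1874

/-- Suppose the ideal of V in O_{X,ξ} is generated by a regular sequence g₁, …, g_c. Then c! ·
length(O_{W,ξ}/(g₁, …, g_c)^t O_{W,ξ}) / t^c tends to e(X, V·W, Z) as t → ∞ (so e is c! times the
leading coefficient of that Hilbert polynomial), and e(X, V·W, Z) > 0. Here X is a nonsingular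
variety over an algebraically closed field K (smooth, separated, of finite type, integral), V and W
are closed subvarieties given by quasi-coherent ideal sheaves with integral subschemes, of
dimensions r and s with dim X = n, intersecting properly, and ξ is the generic point of an
irreducible component Z of V ∩ W; e(X, V·W, Z) is the alternating sum of lengths of Tor over
O_{X,ξ}. -/
theorem result (K : Type u) [Field K] [IsAlgClosed K] (X : Scheme.{u}) (f : X ⟶ Spec (CommRingCat.of K)) [Smooth f] [IsSeparated f] [QuasiCompact f] [IsIntegral X] (IV IW : X.IdealSheafData) [IsIntegral IV.subscheme] [IsIntegral IW.subscheme] (n r s : ℕ) (hn : topologicalKrullDim X = n) (hr : topologicalKrullDim IV.support = r) (hs : topologicalKrullDim IW.support = s) (hprop : IntMult.ProperInt (IV.support : Set X) (IW.support : Set X) n r s) (ξ : X) (hξV : ξ ∈ IV.support) (hξW : ξ ∈ IW.support) (hmax : ∀ ξ' : X, ξ' ∈ IV.support → ξ' ∈ IW.support → ξ' ⤳ ξ → ξ' = ξ) (c : ℕ) (g : Fin c → ↑(X.presheaf.stalk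 ξ)) (hg : IntMult.stalkIdeal IV ξ = Ideal.span (Set.range g)) (hreg : RingTheory.Sequence.IsRegular (↑(X.presheaf.stalk ξ)) (List.ofFn g)) : Filter.Tendsto (fun t : ℕ => (c.factorial : ℝ) * ((Module.length (X.presheaf.stalk ξ) (↑(X.presheaf.stalk ξ) ⧸ (IntMult.stalkIdeal IW ξ ⊔ IntMult.stalkIdeal IV ξ ^ t))).toNat : ℝ) / (t : ℝ) ^ c) Filter.atTop (nhds (IntMult.mult IV IW ξ : ℝ)) ∧ 0 < IntMult.mult IV IW ξ := by
  obtain ⟨_, hP, hQ, hfin, d, a, b, hd, ha, hb, hle⟩ :=
    Groth.Agent.H19.IntMult.Dims.dims f IV IW n r s hn hr hs hprop ξ hξV hξW hmax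
  rw [hg] at hfin
  rw [ringKrullDim_eq_of_ringEquiv (Ideal.quotEquivOfEq hg)] at ha
  have hpos := Groth.Agent.H19.IntMult.RegSeq.chi_pos g hreg (IntMult.stalkIdeal IW ξ) hfin hd ha hb hle
  have hmult : IntMult.mult IV IW ξ = IntMult.chi (X.presheaf.stalk ξ)
      (X.presheaf.stalk ξ ⧸ IntMult.stalkIdeal IW ξ) (X.presheaf.stalk ξ ⧸ Ideal.span (Set.range g)) := by
    rw [IntMult.mult, hg]
  refine ⟨?_, hmult ▸ hpos⟩
  have hfl := Groth.Agent.H19.IntMult.RegSeq.isFiniteLength_cut g (IntMult.stalkIdeal IW ξ) hfin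
  have h := Groth.Agent.Lib.Lech.tendsto_samuel_chi c g (X.presheaf.stalk ξ ⧸ IntMult.stalkIdeal IW ξ) hfl
  rw [hmult, Groth.Agent.H19.IntMult.RegSeq.chi_comm, ← Groth.Agent.H19.IntMult.RegSeq.ofList_ofFn g,
    Groth.Agent.H19.Koszul.TorChi.chi_eq _ hreg.toIsWeaklyRegular]
  refine h.congr fun t => ?_
  rw [hg]
  congr 4
  refine LinearEquiv.length_eq ?_
  exact (Submodule.quotEquivOfEq _ _ (by rw [Ideal.smul_top_eq_map]; rfl)).trans
    ((Submodule.Quotient.restrictScalarsEquiv _ _).trans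
      (DoubleQuot.quotQuotEquivQuotSupₐ (X.presheaf.stalk ξ) (IntMult.stalkIdeal IW ξ)
        (Ideal.span (Set.range g) ^ t)).toLinearEquiv)


end Groth.Agent.S1874
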