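import Groth.Statements.S18741

set_option autoImplicit false
universe v₁ v₂ v₃ u₁ u₂ u₃
open CategoryTheory
open ModPair

namespace Groth.Agent.S18741
theorem overRightCalculus {C : Type u₁} [Category.{v₁} C] (W : MorphismProperty C)
    [W.HasRightCalculusOfFractions] (S : C) :
    (W.inverseImage (Over.forget S)).HasRightCalculusOfFractions where
  exists_rightFraction A B φ := by
    obtain ⟨ψ, hψ⟩ := (MorphismProperty.LeftFraction.mk φ.f.left φ.s.left φ.hs :
      W.LeftFraction A.left B.left).exists_rightFraction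
    refine ⟨⟨(Over.homMk ψ.s rfl : Over.mk (ψ.s ≫ A.hom) ⟶ A), ψ.hs,
      (Over.homMk ψ.f ?_ : Over.mk (ψ.s ≫ A.hom) ⟶ B)⟩, ?_⟩
    · show ψ.f ≫ B.hom = ψ.s ≫ A.hom
      rw [← Over.w φ.s, ← Over.w φ.f, ← Category.assoc, ← Category.assoc]
      exact congrArg (fun m => m ≫ φ.Y'.hom) hψ.symm
    · exact Over.OverMorphism.ext hψ
  ext A B B' f₁ f₂ s hs h := by
    obtain ⟨X', t, ht, e⟩ := MorphismProperty.HasRightCalculusOfFractions.ext
      f₁.left f₂.left s.left hs (congrArg CommaMorphism.left h)
    exact ⟨Over.mk (t ≫ A.hom), Over.homMk t rfl, ht, Over.OverMorphism.ext e⟩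


/-- Let C be a category, W a class of morphisms of C admitting a calculus of right fractions, and S an
object of C; let W_S be the class of morphisms of the slice category over S whose underlying
morphism lies in W. Then the canonical functor from the localization of the slice category C/S at
W_S to the slice category over S of the localization of C at W is an equivalence: for every
localization functor L : C ⥤ D at W, every localization functor L' : C/S ⥤ E at W_S, and every
functor Φ : E ⥤ D/L(S) through which the functor C/S ⥤ D/L(S) induced by L factors up to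
isomorphism, Φ is an equivalence of categories. -/
theorem result {C : Type u₁}
    [Category.{v₁} C] (W : MorphismProperty C) [W.HasRightCalculusOfFractions] (S : C)
    {D : Type u₂} [Category.{v₂} D] (L : C ⥤ D) [L.IsLocalization W]
    {E : Type u₃} [Category.{v₃} E] (L' : Over S ⥤ E)
    [L'.IsLocalization (W.inverseImage (Over.forget S))]
    (Φ : E ⥤ Over (L.obj S)) (e : L' ⋙ Φ ≅ Over.post L) : Φ.IsEquivalence := by
  have := overRightCalculus W S
  have keyC : ∀ {V Y : C} (φ : L.obj V ⟶ L.obj Y),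
      ∃ (V' : C) (s : V' ⟶ V) (_ : W s) (a : V' ⟶ Y), L.map s ≫ φ = L.map a := by
    intro V Y φ
    obtain ⟨ψ, rfl⟩ := Localization.exists_rightFraction L W φ
    exact ⟨_, ψ.s, ψ.hs, ψ.f, ψ.map_s_comp_map L (Localization.inverts L W)⟩
  have hfull : ∀ A B : Over S, Function.Bijective
      (fun m : L'.obj A ⟶ L'.obj B => e.inv.app A ≫ Φ.map m ≫ e.hom.app B) := by
    intro A B
    have hnat : ∀ {A' B' : Over S} (c : A' ⟶ B'),
        e.inv.app A' ≫ Φ.map (L'.map c) ≫ e.hom.app B' = (Over.post L).map c := by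
      intro A' B' c
      have := e.hom.naturality c
      simp only [Functor.comp_map] at this
      rw [this, Iso.inv_hom_id_app_assoc]
    refine ⟨fun m m' hm => ?_, fun ψ => ?_⟩
    · obtain ⟨φ, rfl⟩ := Localization.exists_rightFraction L' (W.inverseImage (Over.forget S)) m
      let s := φ.s
      have hs : IsIso (L'.map φ.s) := Localization.inverts L' _ φ.s φ.hs
      obtain ⟨ψ, hψ⟩ := Localization.exists_rightFraction L' (W.inverseImage (Over.forget S))
        (L'.map φ.s ≫ m')
      have hs' : IsIso (L'.map ψ.s) := Localization.inverts L' _ ψ.s ψ.hs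
      have e₁ : L'.map (ψ.s ≫ φ.s) ≫ φ.map L' (Localization.inverts L' _) = L'.map (ψ.s ≫ φ.f) := by
        rw [L'.map_comp, Category.assoc, φ.map_s_comp_map, ← L'.map_comp]
      have e₂ : L'.map (ψ.s ≫ φ.s) ≫ m' = L'.map ψ.f := by
        rw [L'.map_comp, Category.assoc, hψ, ψ.map_s_comp_map]
      have hss : IsIso (L'.map (ψ.s ≫ φ.s)) := by rw [L'.map_comp]; infer_instance
      rw [← cancel_epi (L'.map (ψ.s ≫ φ.s)), e₁, e₂]
      have h' := congrArg (fun r => e.inv.app _ ≫ Φ.map (L'.map (ψ.s ≫ φ.s)) ≫ e.hom.app A ≫ r) hm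
      simp only [Iso.hom_inv_id_app_assoc, ← Φ.map_comp_assoc, e₁, e₂, hnat] at h'
      obtain ⟨X', t, ht, het⟩ := (MorphismProperty.map_eq_iff_precomp L W _ _).1
        (congrArg CommaMorphism.left h')
      let t' : Over.mk (t ≫ ψ.X'.hom) ⟶ ψ.X' := Over.homMk t rfl
      have := Localization.inverts L' (W.inverseImage (Over.forget S)) t' ht
      rw [← cancel_epi (L'.map t'), ← L'.map_comp, ← L'.map_comp]
      exact congrArg L'.map (Over.OverMorphism.ext het)
    · let ψl : L.obj A.left ⟶ L.obj B.left := ψ.left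
      have hψl : ψl ≫ L.map B.hom = L.map A.hom := Over.w ψ
      obtain ⟨V, s, hs, c, hc⟩ := keyC ψl
      have hw : L.map (c ≫ B.hom) = L.map (s ≫ A.hom) := by
        rw [L.map_comp, ← hc, L.map_comp, Category.assoc, hψl]
      obtain ⟨V', t, ht, het⟩ := (MorphismProperty.map_eq_iff_precomp L W _ _).1 hw
      let s' : Over.mk (t ≫ s ≫ A.hom) ⟶ A := Over.homMk (t ≫ s) (Category.assoc _ _ _)
      let c' : Over.mk (t ≫ s ≫ A.hom) ⟶ B := Over.homMk (t ≫ c) ((Category.assoc _ _ _).trans het)
      have hW : W (t ≫ s) := W.comp_mem _ _ ht hs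
      have := Localization.inverts L' (W.inverseImage (Over.forget S)) s' hW
      have : IsIso ((Over.post L).map s').left := Localization.inverts L W _ hW
      refine ⟨inv (L'.map s') ≫ L'.map c', ?_⟩
      apply Over.OverMorphism.ext
      rw [← cancel_epi ((Over.post L).map s').left, ← Over.comp_left]
      refine (congrArg CommaMorphism.left (show (Over.post L).map s' ≫ e.inv.app A ≫
        Φ.map (inv (L'.map s') ≫ L'.map c') ≫ e.hom.app B = (Over.post L).map c' by
          rw [← hnat c', ← hnat s']; simp)).trans ?_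
      show L.map (t ≫ c) = L.map (t ≫ s) ≫ ψl
      rw [L.map_comp, L.map_comp, Category.assoc, hc]
  have := Localization.essSurj L' (W.inverseImage (Over.forget S))
  have := Localization.essSurj L W
  have hmap : ∀ X Y : E, Function.Bijective (Φ.map : (X ⟶ Y) → _) := by
    intro X Y
    obtain ⟨hi, hsj⟩ := hfull (L'.objPreimage X) (L'.objPreimage Y)
    let a := L'.objObjPreimageIso X
    let b := L'.objObjPreimageIso Y
    refine ⟨fun m m' h => ?_, fun ψ => ?_⟩
    · rw [← cancel_epi a.hom, ← cancel_mono b.inv]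
      apply hi
      simp only [Φ.map_comp, h]
    · obtain ⟨m, hm⟩ := hsj (e.inv.app _ ≫ Φ.map a.hom ≫ ψ ≫ Φ.map b.inv ≫ e.hom.app _)
      refine ⟨a.inv ≫ m ≫ b.hom, ?_⟩
      replace hm : Φ.map m = Φ.map a.hom ≫ ψ ≫ Φ.map b.inv := by
        have h2 := congrArg (fun r => e.hom.app (L'.objPreimage X) ≫ r ≫ e.inv.app _) hm
        simpa using h2
      erw [Φ.map_comp, Φ.map_comp, hm]
      simp [← Functor.map_comp_assoc, ← Functor.map_comp]
  refine { faithful := ⟨fun {X Y} => (hmap X Y).1⟩, full := ⟨fun {X Y} => (hmap X Y).2⟩,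
           essSurj := ⟨fun Z => ?_⟩ }
  let i := L.objObjPreimageIso Z.left
  obtain ⟨V, s, hs, a, ha⟩ := keyC (i.hom ≫ Z.hom)
  have : IsIso (L.map s) := Localization.inverts L W s hs
  let j := @asIso _ _ _ _ (L.map s) this
  exact ⟨L'.obj (Over.mk a), ⟨e.app (Over.mk a) ≪≫
    Over.isoMk (j ≪≫ i) ((Category.assoc _ _ _).trans ha)⟩⟩

end Groth.Agent.S18741
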