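import Groth.Statements.S18744
import Mathlib.AlgebraicGeometry.AffineTransitionLimit
import Groth.Agent.Lib.ModPair.Basic

set_option autoImplicit false
universe u
open CategoryTheory CategoryTheory.Limits AlgebraicGeometry TopologicalSpace
open ModPair

namespace Groth.Agent.S18744
theorem nzd_gen {X : Scheme.{u}} {J : X.IdealSheafData} (hJ : BlowUp.IsEffCartierIdeal J)
    {U : X.affineOpens} {f : Γ(X, U.1)} (h : J.ideal U = Ideal.span {f}) :
    f ∈ nonZeroDivisors Γ(X, U.1) := by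
  refine Lib.Ideal.EffCartier.mem_nonZeroDivisors_of_eq_zero fun b hb => ?_
  refine Lib.Ideal.EffCartier.eq_zero_of_germ_eq_zero_off hJ b fun x hx hxs => ?_
  have hu := Lib.ModPair.isUnit_germ_gen h hx hxs
  refine (hu.mul_right_eq_zero).1 ?_
  rw [← map_mul, hb, map_zero]

theorem gen_comap {W Z : Scheme.{u}} [IsAffine W] [IsAffine Z] (g : W ⟶ Z) (A : Z.IdealSheafData)
    {s : Γ(Z, ⊤)} (h : A.ideal ⟨⊤, isAffineOpen_top Z⟩ = Ideal.span {s}) :
    (A.comap g).ideal ⟨⊤, isAffineOpen_top W⟩ = Ideal.span {g.appTop s} := by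
  rw [Lib.Ideal.Comap.ideal_comap_top g A, h, Ideal.map_span, Set.image_singleton]

theorem comap_square {X Y X' Y' : Scheme.{u}} (a : X' ⟶ X) (b : Y' ⟶ Y) (g : X ⟶ Y) (g' : X' ⟶ Y')
    (w : g' ≫ b = a ≫ g) (K : Y.IdealSheafData) : (K.comap b).comap g' = (K.comap g).comap a := by
  rw [← Scheme.IdealSheafData.comap_comp, w, Scheme.IdealSheafData.comap_comp]

theorem nzd_iso {R S : CommRingCat.{u}} (e : R ≅ S) {x : R} (h : x ∈ nonZeroDivisors R) :
    e.hom x ∈ nonZeroDivisors S := by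
  refine Lib.Ideal.EffCartier.mem_nonZeroDivisors_of_eq_zero fun b hb => ?_
  have h' := congrArg e.inv hb
  rw [map_mul, ← CommRingCat.comp_apply, Iso.hom_inv_id, map_zero] at h'
  have := congrArg e.hom ((mul_left_mem_nonZeroDivisors_eq_zero_iff h).1 h')
  rwa [← CommRingCat.comp_apply, Iso.inv_hom_id, map_zero] at this

theorem nzd_limit {I : Type u} [SmallCategory I] [IsCofiltered I] (D : I ⥤ Scheme.{u})
    (c : Cone D) (hc : IsLimit c) [∀ i, IsAffine (D.obj i)] {i : I} (s : Γ(D.obj i, ⊤))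
    (hs : ∀ j (t : j ⟶ i), (D.map t).appTop s ∈ nonZeroDivisors Γ(D.obj j, ⊤)) :
    (c.π.app i).appTop s ∈ nonZeroDivisors Γ(c.pt, ⊤) := by
  refine Lib.Ideal.EffCartier.mem_nonZeroDivisors_of_eq_zero fun b hb => ?_
  obtain ⟨k, bk, rfl⟩ := exists_appTop_π_eq_of_isAffine_of_isLimit D c hc b
  obtain ⟨m, ti, tk, -⟩ := IsCofilteredOrEmpty.cone_objs i k
  have h : (c.π.app m).appTop ((D.map ti).appTop s * (D.map tk).appTop bk) = 0 := by
    rw [map_mul, ← CommRingCat.comp_apply, ← CommRingCat.comp_apply,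
      ← Scheme.Hom.comp_appTop, ← Scheme.Hom.comp_appTop, c.w, c.w]
    exact hb
  obtain ⟨l, tl, hl⟩ := exists_appTop_map_eq_zero_of_isAffine_of_isLimit D c hc m _ h
  rw [map_mul, ← CommRingCat.comp_apply, ← CommRingCat.comp_apply, ← Scheme.Hom.comp_appTop,
    ← Scheme.Hom.comp_appTop, ← D.map_comp, ← D.map_comp] at hl
  have hz := (mul_left_mem_nonZeroDivisors_eq_zero_iff (hs l (tl ≫ ti))).1 hl
  have := congrArg (c.π.app l).appTop hz
  rw [map_zero, ← CommRingCat.comp_apply, ← Scheme.Hom.comp_appTop, c.w] at this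
  exact this


/-- Let (X_i, I_i) be a cofiltered system of schemes equipped with quasi-coherent ideal sheaves of
effective Cartier divisors, with affine and minimal transition morphisms (the modulus of X_i is the
pull-back of the modulus of X_j along each transition morphism X_i ⟶ X_j), and let X be its limit
with projections π_i. Then the pulled-back ideal I_i.comap π_i is the ideal sheaf of an effective
Cartier divisor on X for every i; with this modulus X is a modulus pair mapping minimally to each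
(X_i, I_i). (The source allows the conditions on the transition morphisms to hold only beyond some
index; here they are assumed throughout.) -/
theorem result {I : Type u}
    [SmallCategory I] [IsCofiltered I] (D : I ⥤ Scheme.{u}) (c : Cone D) (hc : IsLimit c)
    [∀ (i j : I) (t : i ⟶ j), IsAffineHom (D.map t)]
    (J : ∀ i, (D.obj i).IdealSheafData) (hJ : ∀ i, BlowUp.IsEffCartierIdeal (J i))
    (hmin : ∀ (i j : I) (t : i ⟶ j), ModPair.IsMinimal (J i) (J j) (D.map t)) (i : I) :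
    BlowUp.IsEffCartierIdeal ((J i).comap (c.π.app i)) := by
  have hπ : IsAffineHom (c.π.app i) := isAffineHom_π_app D c hc i
  intro x
  obtain ⟨U₀, hxU, f₀, -, hIf₀⟩ := hJ i (c.π.app i x)
  have hle : D.map (𝟙 i) ⁻¹ᵁ U₀.1 ≤ U₀.1 := by simp
  have := fun j : Over i => (U₀.2.preimage (D.map j.hom) : IsAffineOpen _)
  have hAff : ∀ j : Over i, IsAffine ((opensDiagram D i U₀.1).obj j) := this
  let U' : (D.obj i).affineOpens := ⟨D.map (𝟙 i) ⁻¹ᵁ U₀.1, this (Over.mk (𝟙 i))⟩
  have hIf := Lib.Ideal.EffCartier.ideal_eq_span_of_le (I := J i) (V := U') hle hIf₀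
  set f := (D.obj i).presheaf.map (homOfLE hle).op f₀ with hfdef
  let s : Γ((opensDiagram D i U₀.1).obj (Over.mk (𝟙 i)), ⊤) := U'.1.topIso.inv f
  have hJ₀ : ((J i).comap U'.1.ι).ideal ⟨⊤, @isAffineOpen_top _ (hAff (Over.mk (𝟙 i)))⟩ =
      Ideal.span {s} := by
    rw [Lib.Ideal.Comap.ideal_comap_ι_top U' (J i), hIf, Ideal.map_span, Set.image_singleton]; rfl
  have hnzd := nzd_limit (opensDiagram D i U₀.1) (opensCone D c i U₀.1)
    (isLimitOpensCone D c hc i U₀.1) (i := Over.mk (𝟙 i)) s fun j t => by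
    have heff : BlowUp.IsEffCartierIdeal ((J j.left).comap (D.map j.hom ⁻¹ᵁ U₀.1).ι) :=
      Lib.Ideal.EffCartier.isEffCartier_comap_of_flat _ (hJ j.left)
    have heq : ((J i).comap U'.1.ι).comap ((opensDiagram D i U₀.1).map t) =
        (J j.left).comap (D.map j.hom ⁻¹ᵁ U₀.1).ι := by
      refine (comap_square (D.map j.hom ⁻¹ᵁ U₀.1).ι U'.1.ι (D.map t.left) _
        (Scheme.Hom.resLE_comp_ι _ _) (J i)).trans ?_
      rw [← hmin j.left i t.left]
    exact nzd_gen (U := ⟨⊤, @isAffineOpen_top _ (hAff j)⟩) (heq ▸ heff)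
      (@gen_comap _ _ (hAff j) (hAff _) _ _ _ hJ₀)
  let V : c.pt.affineOpens := ⟨c.π.app i ⁻¹ᵁ U₀.1, U₀.2.preimage _⟩
  have hxV : x ∈ V.1 := hxU
  have e : V.1 ≤ c.π.app i ⁻¹ᵁ U'.1 := le_of_eq (by simp [V, U'])
  refine ⟨V, hxV, (c.π.app i).appLE U'.1 V.1 e f, ?_, ?_⟩
  · have h1 : ((c.π.app i).resLE U'.1 V.1 e).appTop s ∈ nonZeroDivisors Γ(V.1, ⊤) := hnzd
    have h2 : V.1.topIso.hom (((c.π.app i).resLE U'.1 V.1 e).appTop s) =
        (c.π.app i).appLE U'.1 V.1 e f := by
      have h4 : ((c.π.app i).resLE U'.1 V.1 e).appTop =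
          U'.1.topIso.hom ≫ (c.π.app i).appLE U'.1 V.1 e ≫ V.1.topIso.inv :=
        Scheme.Hom.resLE_app_top (c.π.app i) e
      have h5 : U'.1.topIso.inv ≫ ((c.π.app i).resLE U'.1 V.1 e).appTop ≫ V.1.topIso.hom =
          (c.π.app i).appLE U'.1 V.1 e := by
        rw [h4]; simp only [Category.assoc, Iso.inv_hom_id, Category.comp_id, Iso.inv_hom_id_assoc]
      exact congrArg (fun m => m.hom f) h5
    rw [← h2]
    exact nzd_iso V.1.topIso h1
  · rw [Lib.Ideal.Comap.ideal_comap (c.π.app i) (J i) U' V e, hIf, Ideal.map_span,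
      Set.image_singleton]

end Groth.Agent.S18744
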