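import Groth.Statements.S18745
import Groth.Agent.H69.DominantLimit
import Groth.Agent.H69.DominantProj
import Groth.Agent.H69.IdealStage
import Groth.Agent.Lib.Lim.IdealExt
import Mathlib.CategoryTheory.Limits.Connected
import Mathlib.CategoryTheory.Limits.Constructions.Over.Connected
-- import your own Groth.Agent.* helpers here

set_option autoImplicit false
universe u
open CategoryTheory CategoryTheory.Limits AlgebraicGeometry TopologicalSpace
open ModPair

namespace Groth.Agent.S18745
set_option backward.isDefEq.respectTransparency false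

/-- Let S be a quasi-compact quasi-separated scheme, (X_i, I_i) a cofiltered system of S-schemes, all
quasi-compact and quasi-separated, carrying quasi-coherent ideal sheaves of effective Cartier
divisors, with affine and minimal transition morphisms, and let X be its limit (as an S-scheme) with
projections π_i and modulus I = I_i.comap π_i for every i. Let Y ⟶ S be locally of finite type with
Y quasi-compact and quasi-separated, carrying the ideal sheaf I_Y of an effective Cartier divisor.
Assume that either every transition morphism is scheme-theoretically dominant, or Y ⟶ S is locally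
of finite presentation. Then every S-morphism φ : X ⟶ Y satisfying the modulus condition I ≤
I_Y.comap φ descends: for some i there is an S-morphism φ_i : X_i ⟶ Y satisfying the modulus
condition I_i ≤ I_Y.comap φ_i with π_i ≫ φ_i = φ. (The base is taken to be a scheme, that is the
base modulus pair with empty modulus; morphisms over an arbitrary base modulus pair are among
these.) -/
theorem result {S : Scheme.{u}}
    [CompactSpace S] [QuasiSeparatedSpace S] {I : Type u} [SmallCategory I] [IsCofiltered I]
    (D : I ⥤ Over S) (c : Cone D) (hc : IsLimit c)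
    [∀ (i j : I) (t : i ⟶ j), IsAffineHom (D.map t).left]
    [∀ i, CompactSpace (D.obj i).left] [∀ i, QuasiSeparatedSpace (D.obj i).left]
    (J : ∀ i, (D.obj i).left.IdealSheafData) (hJ : ∀ i, BlowUp.IsEffCartierIdeal (J i))
    (hmin : ∀ (i j : I) (t : i ⟶ j), ModPair.IsMinimal (J i) (J j) (D.map t).left)
    (IX : c.pt.left.IdealSheafData) (hIX : ∀ i, IX = (J i).comap (c.π.app i).left)
    (Y : Over S) [CompactSpace Y.left] [QuasiSeparatedSpace Y.left] [LocallyOfFiniteType Y.hom]
    (IY : Y.left.IdealSheafData) (hY : BlowUp.IsEffCartierIdeal IY)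
    (h : (∀ (i j : I) (t : i ⟶ j), IsSchemeTheoreticallyDominant (D.map t).left) ∨
      LocallyOfFinitePresentation Y.hom)
    (φ : c.pt ⟶ Y) (hφ : ModPair.IsAmbient IX IY φ.left) :
    ∃ (i : I) (φi : D.obj i ⟶ Y), ModPair.IsAmbient (J i) IY φi.left ∧ c.π.app i ≫ φi = φ := by
  have : IsConnected I := IsCofiltered.isConnected I
  let F := D ⋙ Over.forget S
  let c' : Cone F := (Over.forget S).mapCone c
  let hc' : IsLimit c' := isLimitOfPreserves (Over.forget S) hc
  let t : F ⟶ (Functor.const I).obj S :=
    { app := fun i => (D.obj i).hom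
      naturality := fun i j g => (Over.w (D.map g)).trans (Category.comp_id _).symm }
  have : ∀ {i j : I} (g : i ⟶ j), IsAffineHom (F.map g) := fun g =>
    inferInstanceAs (IsAffineHom (D.map g).left)
  have : ∀ i, CompactSpace (F.obj i) := fun i => inferInstanceAs (CompactSpace (D.obj i).left)
  have : ∀ i, QuasiSeparatedSpace (F.obj i) := fun i =>
    inferInstanceAs (QuasiSeparatedSpace (D.obj i).left)
  have hw : c'.π ≫ t = (Functor.const _).map (φ.left ≫ Y.hom) := by
    ext i
    exact (Over.w (c.π.app i)).trans (Over.w φ).symm
  obtain ⟨i, g, h1, h2⟩ : ∃ (i : I) (g : (D.obj i).left ⟶ Y.left),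
      (c.π.app i).left ≫ g = φ.left ∧ g ≫ Y.hom = (D.obj i).hom := by
    rcases h with h | h
    · have : ∀ i, IsSchemeTheoreticallyDominant (c'.π.app i) :=
        Groth.Agent.H69.DominantProj.isSchemeTheoreticallyDominant_π
          (fun i j g => h i j g) hc'
      exact Groth.Agent.H69.DominantLimit.exists_comp_eq F t Y.hom c' hc' φ.left hw
    · obtain ⟨i, g, h1, h2⟩ := Scheme.exists_π_app_comp_eq_of_locallyOfFinitePresentation
        F t Y.hom c' hc' φ.left hw
      first
        | exact ⟨i, g, h1, h2⟩
        | exact ⟨i, g, h2, h1⟩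
  have hfg : Groth.Agent.Lib.Lim.IdealExt.IsFG (J i) := by
    choose U hU f hf using hJ i
    refine Groth.Agent.Lib.Lim.IdealExt.isFG_of_iSup_eq_top _ U
      (top_le_iff.mp fun x _ => TopologicalSpace.Opens.mem_iSup.mpr ⟨x, hU x⟩) fun x => ?_
    rw [(hf x).2]
    exact Submodule.fg_span_singleton (f x)
  have hle : (J i).comap (c.π.app i).left ≤ (IY.comap g).comap (c.π.app i).left := by
    rw [← Scheme.IdealSheafData.comap_comp, h1, ← hIX i]
    exact hφ
  obtain ⟨j, s, hs⟩ := Groth.Agent.H69.IdealStage.exists_comap_le_comap (D := F) (c := c') hc'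
    (J i) (IY.comap g) hfg hle
  refine ⟨j, D.map s ≫ Over.homMk g h2, ?_, ?_⟩
  · unfold ModPair.IsAmbient
    rw [(hmin j i s), Over.comp_left]
    show _ ≤ IY.comap ((D.map s).left ≫ g)
    rw [Scheme.IdealSheafData.comap_comp]
    exact hs
  · rw [← Category.assoc, c.w]
    exact Over.OverMorphism.ext h1

end Groth.Agent.S18745
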