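import Groth.Statements.S18746
import Groth.Agent.S2079
import Groth.Agent.Lib.Lim.Valuative
import Groth.Agent.Lib.Lim.FPDescend
import Groth.Agent.Lib.ModPair.MProd
-- import your own Groth.Agent.* helpers here

set_option autoImplicit false
universe u
open CategoryTheory CategoryTheory.Limits AlgebraicGeometry TopologicalSpace
open ModPair

namespace Groth.Agent.S18746
set_option backward.isDefEq.respectTransparency false

/-- Let (X_i, I_i) be a cofiltered system of quasi-compact quasi-separated schemes with quasi-coherent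
ideal sheaves of effective Cartier divisors and affine, minimal transition morphisms, X its limit
with projections π_i and modulus I = I_i.comap π_i for all i, and s : Y ⟶ X an abstract admissible
blow-up of modulus pairs (I.comap s an effective Cartier ideal sheaf, s proper and an isomorphism
over the interior of (X, I)). Then the blow-up descends: for some index i there are a scheme Y_i
with the ideal sheaf I_{Y_i} of an effective Cartier divisor, an abstract admissible blow-up s_i :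
Y_i ⟶ X_i from (Y_i, I_{Y_i}) to (X_i, I_i), and an isomorphism over X between Y and the ambient
product of X and Y_i over X_i, namely the scheme-theoretic image of pr₁⁻¹(X°) ∩ pr₂⁻¹(Y_i°) in X
×_{X_i} Y_i. -/
theorem result {I : Type u}
    [SmallCategory I] [IsCofiltered I] (D : I ⥤ Scheme.{u}) (c : Cone D) (hc : IsLimit c)
    [∀ (i j : I) (t : i ⟶ j), IsAffineHom (D.map t)]
    [∀ i, CompactSpace (D.obj i)] [∀ i, QuasiSeparatedSpace (D.obj i)]
    (J : ∀ i, (D.obj i).IdealSheafData) (hJ : ∀ i, BlowUp.IsEffCartierIdeal (J i))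
    (hmin : ∀ (i j : I) (t : i ⟶ j), ModPair.IsMinimal (J i) (J j) (D.map t))
    (IX : c.pt.IdealSheafData) (hIX : ∀ i, IX = (J i).comap (c.π.app i))
    {Y : Scheme.{u}} (s : Y ⟶ c.pt) (hY : BlowUp.IsEffCartierIdeal (IX.comap s))
    (hs : ModPair.IsAdmBlowup (IX.comap s) IX s) :
    ∃ (i : I) (Yi : Scheme.{u}) (IYi : Yi.IdealSheafData) (si : Yi ⟶ D.obj i),
      BlowUp.IsEffCartierIdeal IYi ∧ ModPair.IsAdmBlowup IYi (J i) si ∧
        ∃ e : Y ≅ ModPair.mprod (c.π.app i) si IX IYi,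
          e.hom ≫ ModPair.mprodι (c.π.app i) si IX IYi ≫ pullback.fst (c.π.app i) si = s := by
  obtain ⟨hmY, hpY, hiY⟩ := hs
  have hA : ∀ {i j : I} (g : i ⟶ j), IsAffineHom (D.map g) := fun g => inferInstance
  obtain ⟨i₁⟩ := IsCofiltered.nonempty (C := I)
  have : CompactSpace c.pt := Lib.Lim.Basic.compactSpace_pt hc i₁
  have : QuasiSeparatedSpace c.pt := Lib.Lim.Basic.quasiSeparatedSpace_pt hc i₁
  -- a finitely presented proper scheme containing `Y`
  obtain ⟨K, hK1, hK2, R, cR, -, eR, -, hR⟩ := Groth.Agent.S2079.result s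
  obtain ⟨k₀⟩ := IsCofiltered.nonempty (C := K)
  obtain ⟨hk1, hk2, hk3⟩ := hR k₀
  let Z : Scheme.{u} := (R.obj k₀).left
  let z : Z ⟶ c.pt := (R.obj k₀).hom
  let ζ : Y ⟶ Z := eR.inv.left ≫ (cR.π.app k₀).left
  have hζ : ζ ≫ z = s := by
    simp only [ζ, z, Category.assoc, Over.w]
    exact Over.w eR.inv
  have : IsClosedImmersion ζ :=
    MorphismProperty.comp_mem @IsClosedImmersion _ _
      (inferInstanceAs (IsClosedImmersion ((Over.forget _).map eR.inv))) hk1
  have : CompactSpace Z := QuasiCompact.compactSpace_of_compactSpace z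
  have : QuasiSeparatedSpace Z := quasiSeparatedSpace_of_quasiSeparated z
  obtain ⟨i₂, Z₂, f₂, g₂, hc₂, hq₂, hl₂, hpb₂⟩ := Lib.Lim.FPDescend.exists_descent hc z
  obtain ⟨i, t₂, hprop⟩ := Groth.Agent.Lib.Lim.Valuative.isProper_descends D c hc
    (fun _ _ _ => inferInstance) i₂ inferInstance inferInstance f₂ hc₂ hq₂ inferInstance z g₂
    hpb₂ hk2
  let f₁ := pullback.snd f₂ (D.map t₂)
  have hl₁ : LocallyOfFinitePresentation f₁ :=
    MorphismProperty.pullback_snd (P := @LocallyOfFinitePresentation) _ _ hl₂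
  obtain ⟨g₁, hpb₁⟩ : ∃ g₁, IsPullback g₁ z f₁ (c.π.app i) :=
    ⟨_, Lib.Lim.FPDescend.move hpb₂ t₂⟩
  -- the section over the interior
  let π := c.π.app i
  let Ui := ModPair.interior (J i)
  let U := ModPair.interior IX
  have hUeq : π ⁻¹ᵁ Ui = U := by
    rw [← Lib.ModPair.interior_comap, ← hIX i]
  have : IsIso (s ∣_ U) := hiY
  let σ₀ : (π ⁻¹ᵁ Ui : Scheme.{u}) ⟶ Z :=
    (c.pt.isoOfEq hUeq).hom ≫ inv (s ∣_ U) ≫ (s ⁻¹ᵁ U).ι ≫ ζ
  have hσ₀ : σ₀ ≫ z = (π ⁻¹ᵁ Ui).ι := by
    simp only [σ₀, Category.assoc, hζ, ← morphismRestrict_ι, IsIso.inv_hom_id_assoc,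
      Scheme.isoOfEq_hom_ι]
  have : CompactSpace (Ui : Scheme.{u}) := by
    have := Lib.ModPair.quasiCompact_interior (Lib.ModPair.isLP_of_effCartier (hJ i))
    exact QuasiCompact.compactSpace_of_compactSpace Ui.ι
  have : QuasiSeparatedSpace (Ui : Scheme.{u}) := quasiSeparatedSpace_of_quasiSeparated Ui.ι
  obtain ⟨j, t, g', hg', hg'σ⟩ := Lib.Lim.Basic.exists_bc_hom hc
    (isPullback_morphismRestrict π Ui) f₁ Ui.ι (σ₀ ≫ g₁) (by
      rw [Category.assoc, hpb₁.w, ← Category.assoc, hσ₀, morphismRestrict_ι])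
  let σ : pullback Ui.ι (D.map t) ⟶ pullback f₁ (D.map t) :=
    pullback.lift g' (pullback.snd _ _) (by rw [hg', pullback.condition])
  let p := pullback.snd f₁ (D.map t)
  have hσp : σ ≫ p = pullback.snd Ui.ι (D.map t) := pullback.lift_snd _ _ _
  have hpp : IsProper p := MorphismProperty.pullback_snd (P := @IsProper) _ _ hprop
  have : QuasiCompact σ := by
    have : QuasiCompact Ui.ι := Lib.ModPair.quasiCompact_interior
      (Lib.ModPair.isLP_of_effCartier (hJ i))
    have : QuasiCompact (σ ≫ p) := by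
      rw [hσp]; exact MorphismProperty.pullback_snd (P := @QuasiCompact) _ _ inferInstance
    exact QuasiCompact.of_comp σ p
  let sj := σ.imageι ≫ p
  let Uj := ModPair.interior (J j)
  have hUj : Uj = D.map t ⁻¹ᵁ Ui := by
    rw [← Lib.ModPair.interior_comap, ← hmin j i t]
  have hrange : Set.range (pullback.snd Ui.ι (D.map t)) = (Uj : Set (D.obj j)) := by
    rw [hUj, Scheme.Pullback.range_snd, Scheme.Opens.range_ι]
    rfl
  have hσU : ∀ x, σ x ∈ ModPair.interior ((J j).comap p) := fun x => by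
    rw [Lib.ModPair.interior_comap]
    show p (σ x) ∈ Uj
    rw [← Scheme.Hom.comp_apply, hσp]
    exact SetLike.mem_coe.mp (hrange.le (Set.mem_range_self x))
  have hEj : BlowUp.IsEffCartierIdeal ((J j).comap sj) := by
    rw [Scheme.IdealSheafData.comap_comp]
    exact Lib.ModPair.effCartier_comap_imageι σ ((Lib.ModPair.isLP_of_effCartier (hJ j)).comap p) hσU
  have hisoj : IsIso (sj ∣_ Uj) := by
    let q := (IsOpenImmersion.isoOfRangeEq (pullback.snd Ui.ι (D.map t)) Uj.ι
      (by rw [hrange, Scheme.Opens.range_ι])).hom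
    have hq : q ≫ Uj.ι = pullback.snd Ui.ι (D.map t) := IsOpenImmersion.isoOfRangeEq_hom_fac _ _ _
    have : IsClosedImmersion q := inferInstance
    have hrr : Set.range σ.toImage ⊆ Set.range (sj ⁻¹ᵁ Uj).ι := by
      rw [Scheme.Opens.range_ι]
      rintro _ ⟨x, rfl⟩
      show p (σ.imageι (σ.toImage x)) ∈ Uj
      rw [Lib.ModPair.imageι_toImage_apply, ← Scheme.Hom.comp_apply, hσp]
      exact SetLike.mem_coe.mp (hrange.le (Set.mem_range_self x))
    let k := IsOpenImmersion.lift (sj ⁻¹ᵁ Uj).ι σ.toImage hrr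
    have hk : k ≫ (sj ∣_ Uj) = q := by
      rw [← cancel_mono Uj.ι, Category.assoc, morphismRestrict_ι, IsOpenImmersion.lift_fac_assoc,
        hq, ← hσp]
      simp [sj]
    have : IsClosedImmersion k := by
      have : IsClosedImmersion (k ≫ (sj ∣_ Uj)) := by rw [hk]; infer_instance
      exact IsClosedImmersion.of_comp k (sj ∣_ Uj)
    have : IsSchemeTheoreticallyDominant k := by
      have := Lib.ModPair.std_toImage σ
      refine IsSchemeTheoreticallyDominant.of_isPullback (f := σ.toImage) (g := (sj ⁻¹ᵁ Uj).ι)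
        (pX := 𝟙 _) ?_
      refine IsPullback.of_iso_pullback ⟨by simp [k]⟩
        (IsOpenImmersion.isoOfRangeEq (𝟙 _) (pullback.fst σ.toImage (sj ⁻¹ᵁ Uj).ι) ?_) ?_ ?_
      · rw [Scheme.Pullback.range_fst, Scheme.Opens.range_ι, Set.preimage_eq_univ_iff.mpr]
        · simp
        · exact hrr.trans (Scheme.Opens.range_ι _).le
      · exact IsOpenImmersion.isoOfRangeEq_hom_fac _ _ _
      · rw [← cancel_mono (sj ⁻¹ᵁ Uj).ι, Category.assoc, ← pullback.condition,
          IsOpenImmersion.lift_fac, ← Category.assoc, IsOpenImmersion.isoOfRangeEq_hom_fac,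
          Category.id_comp]
    have : IsIso k := IsClosedImmersion.isIso_of_ker_eq k (𝟙 _) k (Category.comp_id _)
      (by rw [k.ker_eq_bot]; simp)
    have : IsIso (k ≫ (sj ∣_ Uj)) := hk ▸ inferInstance
    exact IsIso.of_isIso_comp_left k _
  have hpsj : IsProper sj := inferInstanceAs (IsProper (σ.imageι ≫ p))
  have hadm : ModPair.IsAdmBlowup ((J j).comap sj) (J j) sj := ⟨rfl, hpsj, hisoj⟩
  refine ⟨j, σ.image, (J j).comap sj, sj, hEj, hadm, ?_⟩
  -- the comparison with the ambient product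
  let πj := c.π.app j
  let G : Z ⟶ pullback f₁ (D.map t) := pullback.lift g₁ (z ≫ πj) (by
    rw [hpb₁.w, Category.assoc]; simp [πj])
  have hG : IsPullback G z p πj := Lib.Lim.FPDescend.move hpb₁ t
  have hdom : IsSchemeTheoreticallyDominant (s ⁻¹ᵁ U).ι := by
    rw [← Lib.ModPair.interior_comap s IX]
    exact Lib.ModPair.std_interior hY
  let w : (s ⁻¹ᵁ U : Scheme.{u}) ⟶ pullback Ui.ι (D.map t) :=
    pullback.lift ((s ∣_ U) ≫ (c.pt.isoOfEq hUeq).inv ≫ (π ∣_ Ui))
      ((s ⁻¹ᵁ U).ι ≫ s ≫ πj) (by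
      simp only [Category.assoc, morphismRestrict_ι, Scheme.isoOfEq_inv_ι_assoc, πj, c.w, π,
        morphismRestrict_ι_assoc])
  have hw : w ≫ σ = (s ⁻¹ᵁ U).ι ≫ ζ ≫ G := by
    apply pullback.hom_ext
    · simp only [σ, G, Category.assoc, pullback.lift_fst]
      have : w ≫ g' = ((s ∣_ U) ≫ (c.pt.isoOfEq hUeq).inv) ≫ (σ₀ ≫ g₁) := by
        rw [← hg'σ, ← Category.assoc ((s ∣_ U) ≫ (c.pt.isoOfEq hUeq).inv)]
        congr 1
        apply pullback.hom_ext
        · simp [w, π]
        · simp [w, π, πj, morphismRestrict_ι_assoc]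
      rw [this]
      simp [σ₀]
    · simp only [σ, G, Category.assoc, pullback.lift_snd]
      simp [w, reassoc_of% hζ]
  have hker : σ.imageι.ker ≤ (ζ ≫ G).ker := by
    have e2 : ((s ⁻¹ᵁ U).ι ≫ ζ ≫ G).ker = (ζ ≫ G).ker := by
      rw [Scheme.Hom.ker_comp, (s ⁻¹ᵁ U).ι.ker_eq_bot, Scheme.IdealSheafData.map_bot]
    rw [← e2, ← hw]
    refine le_trans ?_ (Scheme.Hom.le_ker_comp w σ)
    simp [Scheme.Hom.imageι, Scheme.Hom.image]
  let v := IsClosedImmersion.lift σ.imageι (ζ ≫ G) hker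
  have hv : v ≫ σ.imageι = ζ ≫ G := IsClosedImmersion.lift_fac _ _ _
  have hvs : v ≫ sj = s ≫ πj := by
    show v ≫ σ.imageι ≫ p = _
    rw [reassoc_of% hv, hG.w, reassoc_of% hζ]
  let θ : Y ⟶ pullback πj sj := pullback.lift s v hvs.symm
  let m : pullback πj sj ⟶ Z := hG.lift (pullback.snd πj sj ≫ σ.imageι) (pullback.fst πj sj) (by
    rw [Category.assoc]; exact pullback.condition.symm)
  have hθm : θ ≫ m = ζ := by
    apply hG.hom_ext
    · simp [θ, m, hv]
    · simp [θ, m, hζ]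
  have : IsClosedImmersion θ := by
    have : IsClosedImmersion (θ ≫ m) := hθm ▸ inferInstance
    have : IsSeparated m := by
      have : IsSeparated (m ≫ z) := by
        rw [IsPullback.lift_snd]
        exact MorphismProperty.pullback_fst (P := @IsSeparated) _ _ inferInstance
      exact IsSeparated.of_comp m z
    exact IsClosedImmersion.of_comp θ m
  let V := ModPair.prodInterior πj sj IX ((J j).comap sj)
  have hV : V = pullback.fst πj sj ⁻¹ᵁ U := by
    apply le_antisymm inf_le_left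
    refine le_inf le_rfl fun x hx => ?_
    rw [Lib.ModPair.interior_comap]
    show (pullback.snd πj sj ≫ sj) x ∈ Uj
    rw [← pullback.condition]
    have h1 : pullback.fst πj sj x ∈ U := hx
    have h2 : U = πj ⁻¹ᵁ Uj := by rw [← Lib.ModPair.interior_comap, ← hIX j]
    rw [h2] at h1
    exact h1
  have hiso2 : IsIso (pullback.fst πj sj ∣_ U) :=
    Lib.ModPair.isIso_restrict_of_isPullback (IsPullback.of_hasPullback πj sj).flip Uj (by
      rw [← Lib.ModPair.interior_comap, ← hIX j])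
  have hkerθ : θ.ker = V.ι.ker := by
    have e1 : ((s ⁻¹ᵁ U).ι ≫ θ).ker = θ.ker := by
      rw [Scheme.Hom.ker_comp, (s ⁻¹ᵁ U).ι.ker_eq_bot, Scheme.IdealSheafData.map_bot]
    let u : (s ⁻¹ᵁ U : Scheme.{u}) ⟶ V :=
      (s ∣_ U) ≫ inv (pullback.fst πj sj ∣_ U) ≫ ((pullback πj sj).isoOfEq hV).inv
    have hu : u ≫ V.ι = (s ⁻¹ᵁ U).ι ≫ θ := by
      have hθfst : θ ≫ pullback.fst πj sj = s := pullback.lift_fst _ _ _
      let d : (s ⁻¹ᵁ U : Scheme.{u}) ⟶ (pullback.fst πj sj ⁻¹ᵁ U : Scheme.{u}) :=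
        IsOpenImmersion.lift (pullback.fst πj sj ⁻¹ᵁ U).ι ((s ⁻¹ᵁ U).ι ≫ θ) (by
          rw [Scheme.Opens.range_ι]
          rintro _ ⟨x, rfl⟩
          show (((s ⁻¹ᵁ U).ι ≫ θ) ≫ pullback.fst πj sj) x ∈ U
          rw [Category.assoc, hθfst]
          exact x.2)
      have hd : d ≫ (pullback.fst πj sj ∣_ U) = s ∣_ U := by
        rw [← cancel_mono U.ι, Category.assoc, morphismRestrict_ι, morphismRestrict_ι,
          IsOpenImmersion.lift_fac_assoc, Category.assoc, hθfst]
      simp only [u, Category.assoc, Scheme.isoOfEq_inv_ι]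
      rw [← hd, Category.assoc, IsIso.hom_inv_id_assoc, IsOpenImmersion.lift_fac]
    rw [← e1, ← hu, Scheme.Hom.ker_comp_of_isIso]
  have hkι : θ.ker = (ModPair.mprodι πj sj IX ((J j).comap sj)).ker := by
    rw [hkerθ]
    simp [ModPair.mprodι, Scheme.Hom.imageι, Scheme.Hom.image, V]
  let e := IsClosedImmersion.lift (ModPair.mprodι πj sj IX ((J j).comap sj)) θ hkι.ge
  have he : e ≫ ModPair.mprodι πj sj IX ((J j).comap sj) = θ := IsClosedImmersion.lift_fac _ _ _
  have : IsIso e := IsClosedImmersion.isIso_of_ker_eq θ _ e he hkι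
  refine ⟨asIso e, ?_⟩
  show e ≫ _ ≫ _ = s
  rw [reassoc_of% he]
  exact pullback.lift_fst _ _ _

end Groth.Agent.S18746
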