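import Groth.Statements.S18749
import Groth.Agent.Lib.ModPair.MProd
import Groth.Agent.Lib.Ideal.BlowUp
import Groth.Agent.Lib.RelDiv.Diff

set_option autoImplicit false
universe u
open CategoryTheory CategoryTheory.Limits AlgebraicGeometry TopologicalSpace
open ModPair

namespace Groth.Agent.S18749

/-- Let (S, I_S), (T, J), (X, I) be schemes with quasi-coherent ideal sheaves of effective Cartier
divisors and f : X ⟶ S, g : T ⟶ S morphisms satisfying the modulus condition. Let Y₀ be the
scheme-theoretic image of pr₁⁻¹(X°) ∩ pr₂⁻¹(T°) in X ×_S T, let π : Y ⟶ Y₀ be a blowing up of Y₀ in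
the sum of the two ideal sheaves I, J pulled back to Y₀ (the intersection of the two pulled-back
divisors), and let K be an ideal sheaf on Y whose product with the exceptional ideal is the product
of the pull-backs of I and J to Y. Then K is the ideal sheaf of an effective Cartier divisor (the
divisor D_X + D_T − E), the projections Y ⟶ X and Y ⟶ T satisfy the modulus condition with respect
to K, and the interior of (Y, K) is the preimage of pr₁⁻¹(X°) ∩ pr₂⁻¹(T°). -/
theorem result {S T X Y : Scheme.{u}} (IS : S.IdealSheafData)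
    (J : T.IdealSheafData) (I : X.IdealSheafData) (hS : BlowUp.IsEffCartierIdeal IS)
    (hT : BlowUp.IsEffCartierIdeal J) (hX : BlowUp.IsEffCartierIdeal I)
    (f : X ⟶ S) (hf : ModPair.IsAmbient I IS f) (g : T ⟶ S) (hg : ModPair.IsAmbient J IS g)
    (π : Y ⟶ ModPair.mprod f g I J) (K : Y.IdealSheafData) (hY : ModPair.IsAmbProd f g I J π K) :
    BlowUp.IsEffCartierIdeal K ∧
      ModPair.IsAmbient K I (π ≫ ModPair.mprodι f g I J ≫ pullback.fst f g) ∧
      ModPair.IsAmbient K J (π ≫ ModPair.mprodι f g I J ≫ pullback.snd f g) ∧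
      ModPair.interior K = (π ≫ ModPair.mprodι f g I J) ⁻¹ᵁ ModPair.prodInterior f g I J := by
  obtain ⟨hb, hK⟩ := hY
  have hIlp := Lib.ModPair.isLP_of_effCartier hX
  have hJlp := Lib.ModPair.isLP_of_effCartier hT
  set A := (I.comap (ModPair.mprodι f g I J ≫ pullback.fst f g)).comap π with hA
  set B := (J.comap (ModPair.mprodι f g I J ≫ pullback.snd f g)).comap π with hB
  have hAe : BlowUp.IsEffCartierIdeal A :=
    Lib.Ideal.BlowUp.isEffCartier_comap_blowUp hb (Lib.ModPair.effCartier_mprod_fst f g hIlp hJlp)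
  have hBe : BlowUp.IsEffCartierIdeal B :=
    Lib.Ideal.BlowUp.isEffCartier_comap_blowUp hb (Lib.ModPair.effCartier_mprod_snd f g hIlp hJlp)
  set E := (ModPair.prodCentre f g I J).comap π with hE
  have hEs : E = A ⊔ B := Scheme.IdealSheafData.comap_sup ..
  have hKA : K ≤ A := by
    refine (Lib.RelDiv.Diff.mul_le_mul_left_iff hb.1).mp ?_
    rw [mul_comm (E) K, hK, mul_comm E A]
    intro U
    simp only [Scheme.IdealSheafData.ideal_mul, Pi.mul_apply]
    exact Ideal.mul_mono le_rfl ((hEs ▸ le_sup_right : B ≤ E) U)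
  have hKB : K ≤ B := by
    refine (Lib.RelDiv.Diff.mul_le_mul_left_iff hb.1).mp ?_
    rw [mul_comm (E) K, hK, mul_comm A B, mul_comm E B]
    intro U
    simp only [Scheme.IdealSheafData.ideal_mul, Pi.mul_apply]
    exact Ideal.mul_mono le_rfl ((hEs ▸ le_sup_left : A ≤ E) U)
  refine ⟨Lib.Ideal.EffCartier.isEffCartier_factor_left (hK ▸
    Lib.Ideal.EffCartier.isEffCartier_mul hAe hBe), ?_, ?_, ?_⟩
  · show K ≤ _
    rw [Scheme.IdealSheafData.comap_comp]
    exact hKA
  · show K ≤ _
    rw [Scheme.IdealSheafData.comap_comp]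
    exact hKB
  · have hAB : ModPair.interior A ⊓ ModPair.interior B =
        (π ≫ ModPair.mprodι f g I J) ⁻¹ᵁ ModPair.prodInterior f g I J := by
      simp only [hA, hB, Lib.ModPair.interior_comap]
      rfl
    rw [← hAB]
    refine le_antisymm (le_inf (Lib.ModPair.interior_le hKA) (Lib.ModPair.interior_le hKB)) ?_
    rw [← Lib.ModPair.interior_mul, ← hK, Lib.ModPair.interior_mul]
    exact inf_le_left

end Groth.Agent.S18749
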