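import Groth.Statements.S18753
import Groth.Agent.H69.SemiVal
import Groth.Agent.S18734
import Groth.Agent.Lib.ModPair.Basic
import Groth.Agent.Lib.Ideal.EffCartier
import Mathlib.RingTheory.Spectrum.Prime.Topology
import Mathlib.AlgebraicGeometry.ZariskisMainTheorem
-- import your own Groth.Agent.* helpers here

set_option autoImplicit false
universe u
open CategoryTheory CategoryTheory.Limits AlgebraicGeometry TopologicalSpace
open ModPair

namespace Groth.Agent.S18753
set_option backward.isDefEq.respectTransparency false
open TopologicalSpace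
open scoped TensorProduct

/-- Let O be a local ring with residue field κ, R a valuation ring of κ, A ⊆ O the subring of elements
whose residue class lies in R (the fibre product ring R ×_κ O, a semi-valuation ring), and f an
element of A such that O is the localization of A obtained by inverting f. Equip P = Spec A with the
modulus V(f), the closed subscheme cut out by f (an effective Cartier divisor: f is a unit of O, so
a nonzerodivisor of A), whose interior is Spec O. Let q : Q ⟶ P be a proper, minimal morphism of
modulus pairs (the modulus of Q is the pull-back of V(f) and is an effective Cartier divisor) whose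
restriction over the interior of P is a finite morphism. Then q is finite. -/
theorem result {O : Type u} [CommRing O]
    [IsLocalRing O] (R : ValuationSubring (IsLocalRing.ResidueField O))
    (f : ↥((R.toSubring).comap (IsLocalRing.residue O)))
    [IsLocalization.Away f O] {Q : Scheme.{u}} (IQ : Q.IdealSheafData)
    (hQ : BlowUp.IsEffCartierIdeal IQ)
    (q : Q ⟶ Spec (CommRingCat.of ↥((R.toSubring).comap (IsLocalRing.residue O))))
    (hq : ModPair.IsMinimal IQ
      (Spec.map (CommRingCat.ofHom (Ideal.Quotient.mk (Ideal.span {f})))).ker q)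
    [IsProper q]
    (hfin : IsFinite (q ∣_ ModPair.interior
      (Spec.map (CommRingCat.ofHom (Ideal.Quotient.mk (Ideal.span {f})))).ker)) :
    IsFinite q := by
  suffices LocallyQuasiFinite q from IsFinite.of_isProper_of_locallyQuasiFinite q
  let A := ↥((R.toSubring).comap (IsLocalRing.residue O))
  let k := Spec.map (CommRingCat.ofHom (algebraMap A O))
  let π : A →+* ↥R := Groth.Agent.H69.SemiVal.toVal R
  let iR := Spec.map (CommRingCat.ofHom π)
  let I := (Spec.map (CommRingCat.ofHom (Ideal.Quotient.mk (Ideal.span {f})))).ker
  have : IsOpenImmersion k := IsOpenImmersion.of_isLocalization f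
  have hI : ModPair.interior I = PrimeSpectrum.basicOpen f := by
    ext x
    show x ∈ ((I.support : Set _))ᶜ ↔ x ∈ SetLike.coe (PrimeSpectrum.basicOpen f)
    have hr : (I.support : Set _) =
        closure (Set.range (Spec.map (CommRingCat.ofHom (Ideal.Quotient.mk (Ideal.span {f}))))) :=
      Scheme.Hom.support_ker (Spec.map (CommRingCat.ofHom (Ideal.Quotient.mk (Ideal.span {f}))))
    have hr' : Set.range (Spec.map (CommRingCat.ofHom (Ideal.Quotient.mk (Ideal.span {f})))) =
        Set.range (PrimeSpectrum.comap (Ideal.Quotient.mk (Ideal.span {f}))) := rfl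
    rw [Set.mem_compl_iff, hr, hr', range_comap_of_surjective _ _
        Ideal.Quotient.mk_surjective, Ideal.mk_ker, PrimeSpectrum.zeroLocus_span,
      (PrimeSpectrum.isClosed_zeroLocus _).closure_eq, PrimeSpectrum.basicOpen_eq_zeroLocus_compl]
    rfl
  have hk : ModPair.interior I = k.opensRange := by
    rw [hI]
    ext1
    exact (PrimeSpectrum.localization_away_comap_range O f).symm
  have hgen : IsFinite (pullback.snd q k) := by
    have h : IsFinite (q ∣_ k.opensRange) := hk ▸ hfin
    exact (MorphismProperty.arrow_mk_iso_iff @IsFinite (morphismRestrictOpensRange q k)).mp h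
  have key : ∀ (B : CommRingCat.{u}) (j : Spec B ⟶ Q) [IsOpenImmersion j],
      Flat (pullback.snd (j ≫ q) iR) := by
    intro B j _
    obtain ⟨φ, hφ⟩ : ∃ φ : CommRingCat.of A ⟶ B, Spec.map φ = j ≫ q :=
      ⟨Spec.preimage _, Spec.map_preimage _⟩
    have hE : BlowUp.IsEffCartierIdeal (IQ.comap j) :=
      Groth.Agent.Lib.Ideal.EffCartier.isEffCartier_comap_of_flat j hQ
    have hsd : IsSchemeTheoreticallyDominant (ModPair.interior (IQ.comap j)).ι :=
      Groth.Agent.Lib.ModPair.std_interior hE
    have hqc : QuasiCompact (ModPair.interior (IQ.comap j)).ι :=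
      Groth.Agent.Lib.ModPair.quasiCompact_interior
        (Groth.Agent.Lib.ModPair.isLP_of_effCartier hE)
    have hnzd : φ f ∈ nonZeroDivisors B := by
      refine Groth.Agent.Lib.Ideal.EffCartier.mem_nonZeroDivisors_of_eq_zero fun b hb => ?_
      apply (Scheme.ΓSpecIso B).commRingCatIsoToRingEquiv.symm.injective
      rw [map_zero]
      refine Groth.Agent.Lib.ModPair.eq_zero_of_dense (ModPair.interior (IQ.comap j)) _
        fun x hx hxI => ?_
      rw [Groth.Agent.Lib.ModPair.interior_comap,
        Groth.Agent.Lib.ModPair.interior_of_isMinimal hq] at hxI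
      have h' : (Spec.map φ) x ∈ PrimeSpectrum.basicOpen f := by rw [hφ, ← hI]; exact hxI
      have hbo : x ∈ (Spec B).basicOpen ((Scheme.ΓSpecIso B).inv (φ f)) := by
        rw [basicOpen_eq_of_affine']
        show ((Scheme.ΓSpecIso B).hom ((Scheme.ΓSpecIso B).inv (φ f))) ∉ x.asIdeal
        rw [Iso.inv_hom_id_apply]
        exact h'
      have hu := ((Spec B).mem_basicOpen _ x hx).mp hbo
      refine hu.mul_right_eq_zero.mp ?_
      rw [← map_mul]
      have e : (Scheme.ΓSpecIso B).inv (φ f) * (Scheme.ΓSpecIso B).inv b = 0 := by
        rw [← map_mul, hb, map_zero]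
      exact (congrArg _ e).trans (map_zero _)
    algebraize [φ.hom]
    letI := π.toAlgebra
    have hfl := Groth.Agent.H69.SemiVal.flat_tensor f (B := ↥B) hnzd
    have hg : Spec.map (CommRingCat.ofHom (algebraMap A B)) = j ≫ q := hφ
    rw [← hg]
    have e := pullbackSpecIso_hom_snd A B ↥R
    erw [← e]
    have : Flat (Spec.map (CommRingCat.ofHom
        (Algebra.TensorProduct.includeRight : ↥R →ₐ[A] B ⊗[A] ↥R).toRingHom)) :=
      (HasRingHomProperty.Spec_iff (P := @Flat)).mpr hfl
    exact MorphismProperty.comp_mem @Flat _ _ inferInstance this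
  have hflat : Flat (pullback.snd q iR) := by
    refine IsZariskiLocalAtSource.of_openCover
      (Scheme.Pullback.openCoverOfLeft Q.affineCover q iR) fun i => ?_
    have hcomp : (Scheme.Pullback.openCoverOfLeft Q.affineCover q iR).f i ≫ pullback.snd q iR =
        pullback.snd (Q.affineCover.f i ≫ q) iR := by simp
    rw [hcomp]
    exact key _ (Q.affineCover.f i)
  have hfR : IsFinite (pullback.snd q iR) := by
    refine Groth.Agent.S18734.result (pullback.snd q iR) ?_
    let K := IsLocalRing.ResidueField O
    let eK : FractionRing ↥R →+* K := (FractionRing.algEquiv ↥R K).toRingEquiv.toRingHom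
    let k' := Spec.map (CommRingCat.ofHom (algebraMap ↥R (FractionRing ↥R)))
    let θ : O →+* FractionRing ↥R :=
      (FractionRing.algEquiv ↥R K).symm.toRingEquiv.toRingHom.comp (IsLocalRing.residue O)
    have hθ : k' ≫ iR = Spec.map (CommRingCat.ofHom θ) ≫ k := by
      rw [← Spec.map_comp, ← Spec.map_comp]
      congr 1
      ext a
      show algebraMap ↥R (FractionRing ↥R) (π a) =
        (FractionRing.algEquiv ↥R K).symm (IsLocalRing.residue O (a : O))
      exact ((FractionRing.algEquiv ↥R K).symm.commutes (π a)).symm
    have h1 : IsFinite (pullback.snd q (k' ≫ iR)) := by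
      rw [hθ, ← pullbackLeftPullbackSndIso_inv_snd_snd]
      have : IsFinite (pullback.snd (pullback.snd q k) (Spec.map (CommRingCat.ofHom θ))) :=
        MorphismProperty.pullback_snd (P := @IsFinite) _ _ hgen
      infer_instance
    rw [← pullbackLeftPullbackSndIso_hom_snd]
    infer_instance
  have hfib : ∀ {T : Scheme.{u}} (j : T ⟶ Spec (CommRingCat.of A)) [Mono j]
      (hj : IsFinite (pullback.snd q j)) (y : T), (q ⁻¹' {j y}).Finite := by
    intro T j _ hj y
    refine ((Scheme.Hom.finite_preimage_singleton (pullback.snd q j) y).image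
      (pullback.fst q j)).subset fun x hx => ?_
    obtain ⟨z, h1, h2⟩ := Scheme.Pullback.exists_preimage_pullback x y hx
    exact ⟨z, h2, h1⟩
  refine LocallyQuasiFinite.of_finite_preimage_singleton q fun x => ?_
  by_cases hx : x ∈ PrimeSpectrum.basicOpen f
  · obtain ⟨y, rfl⟩ : x ∈ Set.range k := by rw [← hI, hk] at hx; exact hx
    exact hfib k hgen y
  · have : IsClosedImmersion iR := IsClosedImmersion.spec_of_surjective _
      (Groth.Agent.H69.SemiVal.toVal_surjective R)
    obtain ⟨y, rfl⟩ : x ∈ Set.range iR := by
      show x ∈ Set.range (PrimeSpectrum.comap π)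
      rw [range_comap_of_surjective _ _
        (Groth.Agent.H69.SemiVal.toVal_surjective R), PrimeSpectrum.mem_zeroLocus]
      have hfx : f ∈ x.asIdeal := by
        by_contra h
        exact hx h
      have ha : Groth.Agent.H69.SemiVal.toVal R f ≠ 0 := fun h0 => by
        have h1 : IsUnit (f : O) := IsLocalization.Away.algebraMap_isUnit f
        exact (h1.map (IsLocalRing.residue O)).ne_zero (congrArg Subtype.val h0)
      intro m hm
      obtain ⟨m', rfl, -⟩ := Groth.Agent.H69.SemiVal.exists_mul_eq ha hm
      · exact x.asIdeal.mul_mem_right _ hfx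
    exact hfib iR hfR y

end Groth.Agent.S18753
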