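import Groth.Statements.S18754
import Groth.Agent.Lib.Lim.Eventual
import Groth.Agent.Lib.ModPair.Basic
import Mathlib.CategoryTheory.Limits.Connected
import Mathlib.CategoryTheory.Limits.Constructions.Over.Connected
-- import your own Groth.Agent.* helpers here

set_option autoImplicit false
universe u
open CategoryTheory CategoryTheory.Limits AlgebraicGeometry TopologicalSpace
open ModPair

namespace Groth.Agent.S18754
set_option backward.isDefEq.respectTransparency false

/-- Let (Y, I_Y) be a modulus pair with Y quasi-compact and quasi-separated, and let (X_i ⟶ Y) be a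
cofiltered system of Y-schemes with affine transition morphisms such that every X_i is quasi-compact
and quasi-separated, the pulled-back ideal I_Y.comap (X_i ⟶ Y) is the ideal of an effective Cartier
divisor, and X_i ⟶ Y is an abstract admissible blow-up of modulus pairs which is locally of finite
presentation. Let X be the limit of the system over Y and suppose that X ⟶ Y, with the pulled-back
modulus (assumed effective Cartier), is also an abstract admissible blow-up. Then X ⟶ Y is locally
of finite presentation: an abstract admissible blow-up of quasi-compact quasi-separated modulus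
pairs which is not of finite presentation is never a limit of finitely presented ones. -/
theorem result {Y : Scheme.{u}}
    [CompactSpace Y] [QuasiSeparatedSpace Y] (IY : Y.IdealSheafData) (hY : BlowUp.IsEffCartierIdeal IY)
    {I : Type u} [SmallCategory I] [IsCofiltered I] (D : I ⥤ Over Y) (c : Cone D) (hc : IsLimit c)
    [∀ (i j : I) (t : i ⟶ j), IsAffineHom (D.map t).left]
    [∀ i, CompactSpace (D.obj i).left] [∀ i, QuasiSeparatedSpace (D.obj i).left]
    (hI : ∀ i, BlowUp.IsEffCartierIdeal (IY.comap (D.obj i).hom))
    (hadm : ∀ i, ModPair.IsAdmBlowup (IY.comap (D.obj i).hom) IY (D.obj i).hom)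
    [∀ i, LocallyOfFinitePresentation (D.obj i).hom]
    (hX : BlowUp.IsEffCartierIdeal (IY.comap c.pt.hom))
    (hXadm : ModPair.IsAdmBlowup (IY.comap c.pt.hom) IY c.pt.hom) :
    LocallyOfFinitePresentation c.pt.hom := by
  have : IsConnected I := IsCofiltered.isConnected I
  let F := D ⋙ Over.forget Y
  let c' : Cone F := (Over.forget Y).mapCone c
  let hc' : IsLimit c' := isLimitOfPreserves (Over.forget Y) hc
  let t : F ⟶ (Functor.const I).obj Y :=
    { app := fun i => (D.obj i).hom
      naturality := fun i j g => (Over.w (D.map g)).trans (Category.comp_id _).symm }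
  have : ∀ {i j : I} (g : i ⟶ j), IsAffineHom (F.map g) := fun g =>
    inferInstanceAs (IsAffineHom (D.map g).left)
  have : ∀ i, CompactSpace (F.obj i) := fun i => inferInstanceAs (CompactSpace (D.obj i).left)
  obtain ⟨i₀⟩ := IsCofiltered.nonempty (C := I)
  have hp : IsProper c.pt.hom := hXadm.2.1
  have : LocallyOfFiniteType (𝟙 c'.pt ≫ c'.π.app i₀ ≫ t.app i₀) := by
    rw [Category.id_comp, show c'.π.app i₀ ≫ t.app i₀ = c.pt.hom from Over.w (c.π.app i₀)]
    infer_instance
  obtain ⟨i, hi⟩ := Groth.Agent.Lib.Lim.Eventual.exists_isClosedImmersion_comp t hc' (𝟙 c'.pt) i₀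
  let π := (c.π.app i).left
  let h := (D.obj i).hom
  have : IsClosedImmersion π := Category.id_comp π ▸ hi
  let U := ModPair.interior IY
  have h1 : IsIso (h ∣_ U) := (hadm i).2.2
  have h2 : IsIso ((π ≫ h) ∣_ U) := by
    rw [show π ≫ h = c.pt.hom from Over.w (c.π.app i)]
    exact hXadm.2.2
  have h3 : IsIso (π ∣_ h ⁻¹ᵁ U) := by
    rw [morphismRestrict_comp] at h2
    exact IsIso.of_isIso_comp_right _ (h ∣_ U)
  have h4 : IsSchemeTheoreticallyDominant (h ⁻¹ᵁ U).ι := by
    rw [← Groth.Agent.Lib.ModPair.interior_comap h IY]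
    exact Groth.Agent.Lib.ModPair.std_interior (hI i)
  have hker : π.ker = ⊥ := le_bot_iff.mp (by
    rw [← (h ⁻¹ᵁ U).ι.ker_eq_bot]
    have : (h ⁻¹ᵁ U).ι = (inv (π ∣_ h ⁻¹ᵁ U) ≫ (π ⁻¹ᵁ h ⁻¹ᵁ U).ι) ≫ π := by
      rw [Category.assoc, ← morphismRestrict_ι, IsIso.inv_hom_id_assoc]
    rw [this]
    exact Scheme.Hom.le_ker_comp _ _)
  have : IsIso π := IsClosedImmersion.isIso_of_ker_eq π (𝟙 _) π (Category.comp_id _)
    (hker.trans (by simp))
  have : LocallyOfFinitePresentation (π ≫ h) :=
    MorphismProperty.comp_mem @LocallyOfFinitePresentation π h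
      (locallyOfFinitePresentation_of_isOpenImmersion π) inferInstance
  exact Over.w (c.π.app i) ▸ this

end Groth.Agent.S18754
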