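import Groth.Statements.S18755
import Groth.Agent.Lib.ModPair.Limits

set_option autoImplicit false
universe u
open CategoryTheory CategoryTheory.Limits AlgebraicGeometry TopologicalSpace
open ModPair

namespace Groth.Agent.S18755

/-- Let (S₀, I₀), (S₁, I₁), (T, J), (X, I) be schemes with quasi-coherent ideal sheaves of effective
Cartier divisors, f : X ⟶ S₁, g : T ⟶ S₁ and σ : S₁ ⟶ S₀ morphisms satisfying the modulus condition,
and let (Y₁, K₁) with π₁ and (Y₀, K₀) with π₀ be ambient products of (X, I) and (T, J) over S₁ and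
over S₀ (the latter for f ≫ σ and g ≫ σ): blow-ups of the scheme-theoretic image of the product of
the interiors inside X ×_{S₁} T, resp. X ×_{S₀} T, in the intersection of the pulled-back moduli,
with K·E = D_X·D_T. Then the ambient product is functorial in the base: there is a unique morphism φ
: Y₁ ⟶ Y₀ compatible with the maps to X ×_{S₀} T (through the canonical X ×_{S₁} T ⟶ X ×_{S₀} T),
and every such φ is minimal, K₁ = K₀.comap φ. -/
theorem result {S₀ S₁ T X Y₁ Y₀ : Scheme.{u}} (I₀ : S₀.IdealSheafData)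
    (I₁ : S₁.IdealSheafData) (J : T.IdealSheafData) (I : X.IdealSheafData)
    (h₀ : BlowUp.IsEffCartierIdeal I₀) (h₁ : BlowUp.IsEffCartierIdeal I₁)
    (hT : BlowUp.IsEffCartierIdeal J) (hX : BlowUp.IsEffCartierIdeal I)
    (f : X ⟶ S₁) (hf : ModPair.IsAmbient I I₁ f) (g : T ⟶ S₁) (hg : ModPair.IsAmbient J I₁ g)
    (σ : S₁ ⟶ S₀) (hσ : ModPair.IsAmbient I₁ I₀ σ)
    (π₁ : Y₁ ⟶ ModPair.mprod f g I J) (K₁ : Y₁.IdealSheafData) (hY₁ : ModPair.IsAmbProd f g I J π₁ K₁)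
    (π₀ : Y₀ ⟶ ModPair.mprod (f ≫ σ) (g ≫ σ) I J) (K₀ : Y₀.IdealSheafData)
    (hY₀ : ModPair.IsAmbProd (f ≫ σ) (g ≫ σ) I J π₀ K₀) :
    (∃! φ : Y₁ ⟶ Y₀, φ ≫ π₀ ≫ ModPair.mprodι (f ≫ σ) (g ≫ σ) I J =
        π₁ ≫ ModPair.mprodι f g I J ≫ pullback.mapDesc f g σ) ∧
      ∀ φ : Y₁ ⟶ Y₀, φ ≫ π₀ ≫ ModPair.mprodι (f ≫ σ) (g ≫ σ) I J =
          π₁ ≫ ModPair.mprodι f g I J ≫ pullback.mapDesc f g σ →
        ModPair.IsMinimal K₁ K₀ φ := by
  have hIlp := Lib.ModPair.isLP_of_effCartier hX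
  have hJlp := Lib.ModPair.isLP_of_effCartier hT
  obtain ⟨hK₁, hK₁X, hK₁T⟩ := Lib.ModPair.isAmbient_of_isAmbProd hIlp hJlp hY₁
  set m := pullback.mapDesc f g σ
  have hm₁ : m ≫ pullback.fst (f ≫ σ) (g ≫ σ) = pullback.fst f g :=
    (pullback.lift_fst _ _ _).trans (Category.comp_id _)
  have hm₂ : m ≫ pullback.snd (f ≫ σ) (g ≫ σ) = pullback.snd f g :=
    (pullback.lift_snd _ _ _).trans (Category.comp_id _)
  obtain ⟨c, hc⟩ := Lib.ModPair.exists_lift_mprod (f ≫ σ) (g ≫ σ) (I := I) (J := J) hK₁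
    (π₁ ≫ ModPair.mprodι f g I J ≫ m) (by simpa only [Category.assoc, hm₁, hm₂] using hK₁X)
    (by simpa only [Category.assoc, hm₁, hm₂] using hK₁T)
  set p₀ := ModPair.mprodι (f ≫ σ) (g ≫ σ) I J ≫ pullback.fst (f ≫ σ) (g ≫ σ)
  set q₀ := ModPair.mprodι (f ≫ σ) (g ≫ σ) I J ≫ pullback.snd (f ≫ σ) (g ≫ σ)
  set p₁ := ModPair.mprodι f g I J ≫ pullback.fst f g
  set q₁ := ModPair.mprodι f g I J ≫ pullback.snd f g
  have hp : c ≫ p₀ = π₁ ≫ p₁ := by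
    simp only [p₀, p₁, reassoc_of% hc, hm₁]
  have hq : c ≫ q₀ = π₁ ≫ q₁ := by
    simp only [q₀, q₁, reassoc_of% hc, hm₂]
  have hA : (I.comap p₀).comap c = (I.comap p₁).comap π₁ := by
    rw [← Scheme.IdealSheafData.comap_comp, ← Scheme.IdealSheafData.comap_comp, hp]
  have hB : (J.comap q₀).comap c = (J.comap q₁).comap π₁ := by
    rw [← Scheme.IdealSheafData.comap_comp, ← Scheme.IdealSheafData.comap_comp, hq]
  have hE : (ModPair.prodCentre (f ≫ σ) (g ≫ σ) I J).comap c =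
      (ModPair.prodCentre f g I J).comap π₁ := by
    show (I.comap p₀ ⊔ J.comap q₀).comap c = (I.comap p₁ ⊔ J.comap q₁).comap π₁
    rw [Scheme.IdealSheafData.comap_sup, Scheme.IdealSheafData.comap_sup, hA, hB]
  obtain ⟨φ, hφ, huniq⟩ := hY₀.1.2 Y₁ c (by rw [hE]; exact hY₁.1.1)
  have hkey : ∀ ψ : Y₁ ⟶ Y₀, ψ ≫ π₀ ≫ ModPair.mprodι (f ≫ σ) (g ≫ σ) I J =
      π₁ ≫ ModPair.mprodι f g I J ≫ m → ψ ≫ π₀ = c := by
    intro ψ hψ
    rw [← cancel_mono (ModPair.mprodι (f ≫ σ) (g ≫ σ) I J), Category.assoc, hψ, hc]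
  refine ⟨⟨φ, ?_, fun ψ hψ => huniq ψ (hkey ψ hψ)⟩, fun ψ hψ => ?_⟩
  · show φ ≫ π₀ ≫ _ = _
    rw [reassoc_of% hφ, hc]
  · have e := congrArg (fun L : Y₀.IdealSheafData => L.comap ψ) hY₀.2
    simp only [Lib.Ideal.Comap.comap_mul] at e
    rw [← Scheme.IdealSheafData.comap_comp (prodCentre _ _ I J) ψ π₀,
      ← Scheme.IdealSheafData.comap_comp (I.comap p₀) ψ π₀,
      ← Scheme.IdealSheafData.comap_comp (J.comap q₀) ψ π₀, hkey ψ hψ] at e
    rw [hE, hA, hB] at e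
    show K₁ = K₀.comap ψ
    have h1 := hY₁.2
    refine le_antisymm ?_ ?_ <;>
      refine (Lib.RelDiv.Diff.mul_le_mul_left_iff hY₁.1.1).mp (le_of_eq ?_)
    · rw [mul_comm, h1, ← e, mul_comm]
    · rw [mul_comm, e, ← h1, mul_comm]

end Groth.Agent.S18755
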