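import Groth.Statements.S18757
import Groth.Agent.H69.MProdSystem
import Groth.Agent.S18744
import Groth.Agent.S18745
import Groth.Agent.S18746
import Groth.Agent.S2151
import Groth.Agent.Lib.ModPair.RightLoc
import Groth.Agent.Lib.ModPair.Category
import Groth.Agent.Lib.NilExt.Descend
import Mathlib.CategoryTheory.Limits.Constructions.Over.Connected
-- import your own Groth.Agent.* helpers here

set_option autoImplicit false
universe u
open CategoryTheory CategoryTheory.Limits AlgebraicGeometry TopologicalSpace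
open ModPair

namespace Groth.Agent.S18757
set_option backward.isDefEq.respectTransparency false

open Groth.Agent.H69

theorem interior_ι_dominant (P : ModPair.Pair.{u}) :
    IsSchemeTheoreticallyDominant (ModPair.interior P.mod).ι :=
  Groth.Agent.Lib.ModPair.std_interior P.isEffCartier

/-- Admissible blow-ups have epimorphic underlying morphisms. -/
theorem epi_of_admBlowup {W P : ModPair.Pair.{u}} (t : W ⟶ P) (h : ModPair.Pair.admBlowup t) :
    Epi t.hom := by
  obtain ⟨-, hp, hi⟩ := h
  let U := ModPair.interior P.mod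
  have : IsIso (t.hom ∣_ U) := hi
  have hd : IsSchemeTheoreticallyDominant t.hom := by
    refine ⟨le_bot_iff.mp ?_⟩
    have : IsSchemeTheoreticallyDominant U.ι := interior_ι_dominant P
    have h1 : ((t.hom ⁻¹ᵁ U).ι ≫ t.hom).ker = ⊥ := by
      rw [← morphismRestrict_ι]
      exact Scheme.Hom.ker_eq_bot _
    rw [← h1]
    exact Scheme.Hom.le_ker_comp _ _
  have : Surjective t.hom := ⟨by
    rw [← Set.range_eq_univ, ← t.hom.isClosedMap.isClosed_range.closure_eq]
    exact t.hom.denseRange.closure_eq⟩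
  exact Groth.Agent.Lib.NilExt.Descend.epi_of_dominant_surjective t.hom

/-- Let S be a modulus pair whose total space is quasi-compact and quasi-separated, (X_i ⟶ S) a
cofiltered system of modulus pairs over S whose transition morphisms have affine, minimal underlying
morphisms, with every X_i quasi-compact and quasi-separated, and X ⟶ S a limit of the system in the
category of modulus pairs over S, X quasi-compact and quasi-separated. Let Y ⟶ S be a modulus pair
over S whose structure morphism is locally of finite type, Y quasi-compact and quasi-separated, and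
assume either that all transition morphisms are scheme-theoretically dominant or that Y ⟶ S is
locally of finite presentation. Let Q be the localization functor at the abstract admissible
blow-ups. Then the colimit of the sets of morphisms Q X_i ⟶ Q Y over Q S maps bijectively to the
morphisms Q X ⟶ Q Y over Q S: every such morphism factors through Q X ⟶ Q X_i for some i, and two
morphisms Q X_i ⟶ Q Y over Q S with the same composite Q X ⟶ Q Y agree after Q X_j ⟶ Q X_i for some
j. -/
theorem result (S : ModPair.Pair.{u})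
    [CompactSpace S.total] [QuasiSeparatedSpace S.total]
    {I : Type u} [SmallCategory I] [IsCofiltered I] (D : I ⥤ Over S) (c : Cone D) (hc : IsLimit c)
    [∀ (i j : I) (t : i ⟶ j), IsAffineHom (D.map t).left.hom]
    (hmin : ∀ (i j : I) (t : i ⟶ j),
      ModPair.IsMinimal (D.obj i).left.mod (D.obj j).left.mod (D.map t).left.hom)
    [∀ i, CompactSpace (D.obj i).left.total] [∀ i, QuasiSeparatedSpace (D.obj i).left.total]
    [CompactSpace c.pt.left.total] [QuasiSeparatedSpace c.pt.left.total]
    (Y : Over S) [CompactSpace Y.left.total] [QuasiSeparatedSpace Y.left.total]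
    [LocallyOfFiniteType Y.hom.hom]
    (h : (∀ (i j : I) (t : i ⟶ j), IsSchemeTheoreticallyDominant (D.map t).left.hom) ∨
      LocallyOfFinitePresentation Y.hom.hom) :
    (∀ φ : (ModPair.Pair.admBlowup.{u}).Q.obj c.pt.left ⟶ (ModPair.Pair.admBlowup.{u}).Q.obj Y.left,
        φ ≫ (ModPair.Pair.admBlowup.{u}).Q.map Y.hom = (ModPair.Pair.admBlowup.{u}).Q.map c.pt.hom →
        ∃ (i : I) (φi : (ModPair.Pair.admBlowup.{u}).Q.obj (D.obj i).left ⟶
            (ModPair.Pair.admBlowup.{u}).Q.obj Y.left),
          φi ≫ (ModPair.Pair.admBlowup.{u}).Q.map Y.hom = (ModPair.Pair.admBlowup.{u}).Q.map (D.obj i).hom ∧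
            (ModPair.Pair.admBlowup.{u}).Q.map (c.π.app i).left ≫ φi = φ) ∧
      ∀ (i : I) (φ ψ : (ModPair.Pair.admBlowup.{u}).Q.obj (D.obj i).left ⟶
          (ModPair.Pair.admBlowup.{u}).Q.obj Y.left),
        φ ≫ (ModPair.Pair.admBlowup.{u}).Q.map Y.hom = (ModPair.Pair.admBlowup.{u}).Q.map (D.obj i).hom →
        ψ ≫ (ModPair.Pair.admBlowup.{u}).Q.map Y.hom = (ModPair.Pair.admBlowup.{u}).Q.map (D.obj i).hom →
        (ModPair.Pair.admBlowup.{u}).Q.map (c.π.app i).left ≫ φ =
            (ModPair.Pair.admBlowup.{u}).Q.map (c.π.app i).left ≫ ψ →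
          ∃ (j : I) (t : j ⟶ i), (ModPair.Pair.admBlowup.{u}).Q.map (D.map t).left ≫ φ =
            (ModPair.Pair.admBlowup.{u}).Q.map (D.map t).left ≫ ψ := by
  have : IsConnected I := IsCofiltered.isConnected I
  let F : I ⥤ ModPair.Pair.{u} := D ⋙ Over.forget S
  let cp : Cone F := (Over.forget S).mapCone c
  let hcp : IsLimit cp := isLimitOfPreserves (Over.forget S) hc
  let E := MProdSystem.tot F
  have hA : ∀ {j k : I} (t : j ⟶ k), IsAffineHom (E.map t) := fun t =>
    inferInstanceAs (IsAffineHom (D.map t).left.hom)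
  have hmF : ∀ (j k : I) (t : j ⟶ k),
      ModPair.IsMinimal (F.obj j).mod (F.obj k).mod (F.map t).hom := hmin
  have hcF : ∀ j, CompactSpace (F.obj j).total := fun j =>
    inferInstanceAs (CompactSpace (D.obj j).left.total)
  have hqF : ∀ j, QuasiSeparatedSpace (F.obj j).total := fun j =>
    inferInstanceAs (QuasiSeparatedSpace (D.obj j).left.total)
  have hcE : ∀ j, CompactSpace (E.obj j) := hcF
  have hqE : ∀ j, QuasiSeparatedSpace (E.obj j) := hqF
  let cs : Cone E := ModPair.Pair.forget.mapCone cp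
  -- the limit of pairs is the limit of schemes with the pulled back modulus
  obtain ⟨hcs, hIX⟩ : Nonempty (IsLimit cs) ∧
      ∀ j, cp.pt.mod = (F.obj j).mod.comap (cp.π.app j).hom := by
    obtain ⟨c₀, hc₀, -⟩ := Groth.Agent.S2151.result E
    obtain ⟨j₀⟩ := IsCofiltered.nonempty (C := I)
    have heff : ∀ j, BlowUp.IsEffCartierIdeal ((F.obj j).mod.comap (c₀.π.app j)) := fun j =>
      Groth.Agent.S18744.result E c₀ hc₀ (fun j => (F.obj j).mod) (fun j => (F.obj j).isEffCartier)
        hmF j
    have hmeq : ∀ j, (F.obj j₀).mod.comap (c₀.π.app j₀) = (F.obj j).mod.comap (c₀.π.app j) := by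
      intro j
      obtain ⟨k, f, g, -⟩ := IsCofilteredOrEmpty.cone_objs j₀ j
      rw [← c₀.w f, ← c₀.w g, Scheme.IdealSheafData.comap_comp, Scheme.IdealSheafData.comap_comp]
      exact congrArg (fun Z => Z.comap (c₀.π.app k)) ((hmF _ _ f).symm.trans (hmF _ _ g))
    let P₀ : ModPair.Pair.{u} := ⟨c₀.pt, _, heff j₀⟩
    let cp₀ : Cone F :=
      { pt := P₀
        π :=
          { app := fun j => (⟨c₀.π.app j, (hmeq j).le⟩ : P₀ ⟶ F.obj j)
            naturality := fun j k g => by
              apply ModPair.Pair.Hom.ext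
              exact c₀.π.naturality g } }
    let hcp₀ : IsLimit cp₀ :=
      { lift := fun a => (⟨hc₀.lift (ModPair.Pair.forget.mapCone a), by
            show a.pt.mod ≤ ((F.obj j₀).mod.comap (c₀.π.app j₀)).comap _
            rw [← Scheme.IdealSheafData.comap_comp, hc₀.fac]
            exact (a.π.app j₀).cond⟩ : a.pt ⟶ P₀)
        fac := fun a j => ModPair.Pair.Hom.ext (hc₀.fac (ModPair.Pair.forget.mapCone a) j)
        uniq := fun a m hm => ModPair.Pair.Hom.ext (hc₀.hom_ext fun j => by
          rw [hc₀.fac]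
          exact congrArg ModPair.Pair.Hom.hom (hm j)) }
    let e := hcp.conePointUniqueUpToIso hcp₀
    have he : ∀ j, e.hom ≫ cp₀.π.app j = cp.π.app j :=
      IsLimit.conePointUniqueUpToIso_hom_comp hcp hcp₀
    refine ⟨⟨hc₀.ofIsoLimit (Cone.ext (ModPair.Pair.forget.mapIso e).symm fun j => ?_)⟩, fun j => ?_⟩
    · have h1 : e.inv ≫ cp.π.app j = cp₀.π.app j := (Iso.inv_comp_eq e).mpr (he j).symm
      exact (congrArg ModPair.Pair.Hom.hom h1).symm
    · have h1 := (Groth.Agent.Lib.ModPair.admBlowup_of_isIso e.hom).1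
      rw [← congrArg ModPair.Pair.Hom.hom (he j)]
      show cp.pt.mod = (F.obj j).mod.comap (e.hom.hom ≫ c₀.π.app j)
      rw [Scheme.IdealSheafData.comap_comp, ← hmeq j]
      exact h1
  obtain ⟨hcs⟩ := hcs
  let L := (ModPair.Pair.admBlowup.{u}).Q
  have hinv : ∀ {P Q : ModPair.Pair.{u}} (t : P ⟶ Q), ModPair.Pair.admBlowup t → IsIso (L.map t) :=
    fun t ht => Localization.inverts L ModPair.Pair.admBlowup t ht
  refine ⟨fun φ hφ => ?_, fun i φ ψ hφ hψ hπ => ?_⟩
  · obtain ⟨P, s₀, hs₀, g₀, hg₀⟩ := Groth.Agent.Lib.ModPair.exists_map_comp_eq L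
      ModPair.Pair.admBlowup φ
    have hcomm : L.map (g₀ ≫ Y.hom) = L.map (s₀ ≫ c.pt.hom) := by
      rw [L.map_comp, L.map_comp, ← hg₀, Category.assoc, hφ]
    obtain ⟨P', t, ht, htw⟩ := (MorphismProperty.map_eq_iff_precomp L ModPair.Pair.admBlowup _ _).mp hcomm
    let s₁ : P' ⟶ cp.pt := t ≫ s₀
    let g₁ : P' ⟶ Y.left := t ≫ g₀
    have hs₁ : ModPair.Pair.admBlowup s₁ := ModPair.Pair.admBlowup.comp_mem _ _ ht hs₀
    have hPI : P'.mod = cp.pt.mod.comap s₁.hom := hs₁.1
    obtain ⟨i, Yi, IYi, si, hEi, hadm, e, he⟩ := Groth.Agent.S18746.result E cs hcs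
      (fun j => (F.obj j).mod) (fun j => (F.obj j).isEffCartier) hmF cp.pt.mod hIX s₁.hom
      (hPI ▸ P'.isEffCartier) (by rw [← hPI]; exact hs₁)
    let V : ModPair.Pair.{u} := ⟨Yi, IYi, hEi⟩
    let s : V ⟶ F.obj i := ⟨si, le_of_eq hadm.1⟩
    have hs : ModPair.Pair.admBlowup s := hadm
    let π : cp.pt ⟶ F.obj i := cp.π.app i
    have hπmin : ModPair.IsMinimal cp.pt.mod (F.obj i).mod π.hom := hIX i
    let σ := pullbackSymmetry π.hom si
    let U' := pullback.fst si π.hom ⁻¹ᵁ ModPair.interior IYi
    have hU : σ.hom ⁻¹ᵁ U' = ModPair.prodInterior π.hom si cp.pt.mod IYi := by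
      have hfst : σ.hom ⁻¹ᵁ U' = pullback.snd π.hom si ⁻¹ᵁ ModPair.interior IYi := by
        rw [← Scheme.Hom.comp_preimage, pullbackSymmetry_hom_comp_fst]
      rw [hfst]
      refine le_antisymm (le_inf (fun x hx => ?_) le_rfl) inf_le_right
      rw [Groth.Agent.Lib.ModPair.interior_of_isMinimal hπmin]
      show (pullback.fst π.hom si ≫ π.hom) x ∈ ModPair.interior (F.obj i).mod
      rw [pullback.condition]
      have h' : pullback.snd π.hom si x ∈ si ⁻¹ᵁ ModPair.interior (F.obj i).mod := by
        rw [← Groth.Agent.Lib.ModPair.interior_of_isMinimal hadm.1]; exact hx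
      exact h'
    have : QuasiCompact (ModPair.interior IYi).ι :=
      Groth.Agent.Lib.ModPair.quasiCompact_interior (Groth.Agent.Lib.ModPair.isLP_of_effCartier hEi)
    have : QuasiCompact U'.ι := MorphismProperty.of_isPullback (P := @QuasiCompact)
      (isPullback_morphismRestrict (pullback.fst si π.hom) (ModPair.interior IYi)) inferInstance
    have : QuasiCompact (ModPair.prodInterior π.hom si cp.pt.mod IYi).ι :=
      Groth.Agent.Lib.ModPair.quasiCompact_prodInterior _ _
        (Groth.Agent.Lib.ModPair.isLP_of_effCartier cp.pt.isEffCartier)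
        (Groth.Agent.Lib.ModPair.isLP_of_effCartier hEi)
    obtain ⟨θ, hθ⟩ := MProdSystem.exists_iso_image σ _ U' hU
    let Eiso : P'.total ≅ U'.ι.image := e ≪≫ θ
    have hEs : Eiso.hom ≫ U'.ι.imageι ≫ pullback.snd si π.hom = s₁.hom := by
      show (e.hom ≫ θ.hom) ≫ _ = _
      rw [Category.assoc, reassoc_of% hθ, pullbackSymmetry_hom_comp_snd]
      exact he
    have hbc : IsPullback (pullback.fst si π.hom) (pullback.snd si π.hom) si (cs.π.app i) :=
      IsPullback.of_hasPullback _ _
    let cb := Groth.Agent.Lib.Lim.Basic.bcCone (D := E) (c := cs) (a := s.hom) hbc.w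
    let hcb : IsLimit cb := Groth.Agent.Lib.Lim.Basic.isLimitBcCone hcs hbc
    let ci := ImageLimit.cone (MProdSystem.bcFst F i s) (ModPair.interior V.mod) cb
      (pullback.fst si π.hom) (Groth.Agent.Lib.Lim.Basic.bcCone_π_fst hbc.w)
    let hci : IsLimit ci := ImageLimit.isLimitCone (MProdSystem.bcFst F i s)
      (ModPair.interior V.mod) cb (pullback.fst si π.hom)
      (Groth.Agent.Lib.Lim.Basic.bcCone_π_fst hbc.w) hcb
    have hproj : ∀ j : Over i, ci.π.app j ≫ MProdSystem.proj F i s j =
        (U'.ι.imageι ≫ pullback.snd si π.hom) ≫ cs.π.app j.left := fun j => by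
      show ci.π.app j ≫ (MProdSystem.incl F i s).app j ≫ pullback.snd s.hom (F.map j.hom).hom = _
      rw [← Category.assoc]
      erw [ImageLimit.cone_π_fac (MProdSystem.bcFst F i s) (ModPair.interior V.mod) cb
        (pullback.fst si π.hom) (Groth.Agent.Lib.Lim.Basic.bcCone_π_fst hbc.w) j]
      rw [Category.assoc, Category.assoc]
      congr 1
      exact Groth.Agent.Lib.Lim.Basic.bcCone_π_snd hbc.w j
    let D' : Over i ⥤ Over S.total :=
      { obj := fun j => Over.mk (MProdSystem.proj F i s j ≫ (D.obj j.left).hom.hom)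
        map := fun {j k} f => Over.homMk ((MProdSystem.diagram F i s).map f) (by
          show (MProdSystem.diagram F i s).map f ≫ MProdSystem.proj F i s k ≫ _ = _
          rw [← Category.assoc, MProdSystem.map_proj, Category.assoc]
          exact congrArg (MProdSystem.proj F i s j ≫ ·)
            (congrArg ModPair.Pair.Hom.hom (Over.w (D.map f.left))))
        map_id := fun j => Over.OverMorphism.ext ((MProdSystem.diagram F i s).map_id j)
        map_comp := fun f g => Over.OverMorphism.ext ((MProdSystem.diagram F i s).map_comp f g) }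
    let c' : Cone D' :=
      { pt := Over.mk ((U'.ι.imageι ≫ pullback.snd si π.hom) ≫ c.pt.hom.hom)
        π :=
          { app := fun j => Over.homMk (ci.π.app j) (by
              show ci.π.app j ≫ MProdSystem.proj F i s j ≫ _ = _
              rw [← Category.assoc, hproj, Category.assoc]
              exact congrArg ((U'.ι.imageι ≫ pullback.snd si π.hom) ≫ ·)
                (congrArg ModPair.Pair.Hom.hom (Over.w (c.π.app j.left))))
            naturality := fun j k f => Over.OverMorphism.ext (ci.π.naturality f) } }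
    have : IsConnected (Over i) := IsCofiltered.isConnected _
    have hc'' : IsLimit ((Over.forget S.total).mapCone c') :=
      hci.ofIsoLimit (Cone.ext (Iso.refl _) fun j => (Category.id_comp _).symm)
    let hc' : IsLimit c' := isLimitOfReflects (Over.forget S.total) hc''
    have : ∀ (j k : Over i) (f : j ⟶ k), IsAffineHom (D'.map f).left := fun j k f =>
      MProdSystem.isAffineHom_map f
    have : ∀ j : Over i, CompactSpace (D'.obj j).left := fun j =>
      MProdSystem.compactSpace_obj hs hmF j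
    have : ∀ j : Over i, QuasiSeparatedSpace (D'.obj j).left := fun j =>
      MProdSystem.quasiSeparatedSpace_obj hs hmF j
    let IXP := cp.pt.mod.comap (U'.ι.imageι ≫ pullback.snd si π.hom)
    let g : c'.pt ⟶ Over.mk Y.hom.hom := Over.homMk (Eiso.inv ≫ g₁.hom) (by
      show (Eiso.inv ≫ g₁.hom) ≫ Y.hom.hom = (U'.ι.imageι ≫ pullback.snd si π.hom) ≫ c.pt.hom.hom
      rw [Category.assoc, Iso.inv_comp_eq]
      simp only [← Category.assoc]
      rw [Category.assoc Eiso.hom, hEs]
      have h1 := congrArg ModPair.Pair.Hom.hom htw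
      show (t.hom ≫ g₀.hom) ≫ Y.hom.hom = (t.hom ≫ s₀.hom) ≫ c.pt.hom.hom
      rw [Category.assoc, Category.assoc]
      exact h1)
    have hgamb : ModPair.IsAmbient IXP Y.left.mod g.left := by
      have h1 := Scheme.IdealSheafData.comap_mono Eiso.inv g₁.cond
      change P'.mod.comap Eiso.inv ≤ (Y.left.mod.comap g₁.hom).comap Eiso.inv at h1
      show IXP ≤ Y.left.mod.comap (Eiso.inv ≫ g₁.hom)
      rw [Scheme.IdealSheafData.comap_comp]
      refine le_trans (le_of_eq ?_) h1
      rw [hPI, ← Scheme.IdealSheafData.comap_comp]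
      show cp.pt.mod.comap _ = cp.pt.mod.comap _
      rw [← hEs, Iso.inv_hom_id_assoc]
    have : CompactSpace (Over.mk Y.hom.hom).left := inferInstanceAs (CompactSpace Y.left.total)
    have : QuasiSeparatedSpace (Over.mk Y.hom.hom).left :=
      inferInstanceAs (QuasiSeparatedSpace Y.left.total)
    have : LocallyOfFiniteType (Over.mk Y.hom.hom).hom :=
      inferInstanceAs (LocallyOfFiniteType Y.hom.hom)
    obtain ⟨k, gk, hgk1, hgk2⟩ := Groth.Agent.S18745.result D' c' hc'
      (fun j => (F.obj j.left).mod.comap (MProdSystem.proj F i s j))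
      (fun j => (MProdSystem.facts hs hmF j).1) (fun j k f => MProdSystem.mod_map hmF f) IXP
      (fun j => by
        show IXP = ((F.obj j.left).mod.comap _).comap (ci.π.app j)
        rw [← Scheme.IdealSheafData.comap_comp, hproj, Scheme.IdealSheafData.comap_comp]
        exact congrArg (fun Z => Z.comap (U'.ι.imageι ≫ pullback.snd si π.hom)) (hIX j.left))
      (Over.mk Y.hom.hom) Y.left.mod Y.left.isEffCartier
      (h.imp (fun hd j k f => MProdSystem.dominant_map hs hmF hd f) id) g hgamb
    let Pk := MProdSystem.pair hs hmF k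
    let qk : Pk ⟶ (D.obj k.left).left := MProdSystem.pairProj hs hmF k
    let gP : Pk ⟶ Y.left := ⟨gk.left, hgk1⟩
    have : IsIso (L.map qk) := hinv _ (MProdSystem.admBlowup_pairProj hs hmF k)
    refine ⟨k.left, inv (L.map qk) ≫ L.map gP, ?_, ?_⟩
    · rw [Category.assoc, IsIso.inv_comp_eq, ← L.map_comp, ← L.map_comp]
      exact congrArg L.map (ModPair.Pair.Hom.ext (Over.w gk))
    · have : IsIso (L.map s₁) := hinv _ hs₁
      rw [← cancel_epi (L.map s₁)]
      let ρ : P' ⟶ Pk := ⟨Eiso.hom ≫ ci.π.app k, by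
        show P'.mod ≤ ((F.obj k.left).mod.comap _).comap (Eiso.hom ≫ ci.π.app k)
        rw [← Scheme.IdealSheafData.comap_comp, Category.assoc, hproj,
          ← Category.assoc Eiso.hom, hEs, Scheme.IdealSheafData.comap_comp]
        show P'.mod ≤ ((F.obj k.left).mod.comap (cp.π.app k.left).hom).comap s₁.hom
        rw [← hIX k.left]
        exact s₁.cond⟩
      have e1 : s₁ ≫ cp.π.app k.left = ρ ≫ qk := by
        apply ModPair.Pair.Hom.ext
        show s₁.hom ≫ cs.π.app k.left = (Eiso.hom ≫ ci.π.app k) ≫ MProdSystem.proj F i s k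
        rw [Category.assoc, hproj, ← Category.assoc Eiso.hom, hEs]
      have e2 : ρ ≫ gP = g₁ := by
        apply ModPair.Pair.Hom.ext
        show (Eiso.hom ≫ ci.π.app k) ≫ gk.left = g₁.hom
        rw [Category.assoc, show ci.π.app k ≫ gk.left = Eiso.inv ≫ g₁.hom from
          congrArg Over.Hom.left hgk2, Iso.hom_inv_id_assoc]
      show L.map s₁ ≫ L.map (cp.π.app k.left) ≫ _ = _
      rw [← Category.assoc, ← L.map_comp, e1, L.map_comp, Category.assoc, IsIso.hom_inv_id_assoc,
        ← L.map_comp, e2]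
      show L.map (t ≫ g₀) = L.map (t ≫ s₀) ≫ φ
      rw [L.map_comp, L.map_comp, Category.assoc, hg₀]
  · obtain ⟨V₀, s₀, hs₀, a₀, b₀, ha₀, hb₀⟩ := Groth.Agent.Lib.ModPair.exists_common L
      ModPair.Pair.admBlowup φ ψ
    obtain ⟨V₁, t₁, ht₁, e₁⟩ := (MorphismProperty.map_eq_iff_precomp L ModPair.Pair.admBlowup
      (a₀ ≫ Y.hom) (s₀ ≫ (D.obj i).hom)).mp (by
        rw [L.map_comp, L.map_comp, ← ha₀, Category.assoc, hφ])
    obtain ⟨V, t₂, ht₂, e₂⟩ := (MorphismProperty.map_eq_iff_precomp L ModPair.Pair.admBlowup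
      ((t₁ ≫ b₀) ≫ Y.hom) ((t₁ ≫ s₀) ≫ (D.obj i).hom)).mp (by
        rw [L.map_comp, L.map_comp (t₁ ≫ s₀), L.map_comp, L.map_comp, ← hb₀]
        simp only [Category.assoc]
        exact congrArg (fun w => L.map t₁ ≫ L.map s₀ ≫ w) hψ)
    let s : V ⟶ F.obj i := t₂ ≫ t₁ ≫ s₀
    have hs : ModPair.Pair.admBlowup s := ModPair.Pair.admBlowup.comp_mem _ _ ht₂
      (ModPair.Pair.admBlowup.comp_mem _ _ ht₁ hs₀)
    let a : V ⟶ Y.left := t₂ ≫ t₁ ≫ a₀
    let b : V ⟶ Y.left := t₂ ≫ t₁ ≫ b₀
    have haY : a ≫ Y.hom = s ≫ (D.obj i).hom := by simp only [a, s, Category.assoc, e₁]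
    have hbY : b ≫ Y.hom = s ≫ (D.obj i).hom := by
      simp only [Category.assoc] at e₂; simp only [b, s, Category.assoc, e₂]
    have ha : L.map s ≫ φ = L.map a := by
      simp only [s, a, L.map_comp, Category.assoc, ha₀]
    have hb : L.map s ≫ ψ = L.map b := by
      simp only [s, b, L.map_comp, Category.assoc, hb₀]
    let π : cp.pt ⟶ F.obj i := cp.π.app i
    let U' := pullback.fst s.hom π.hom ⁻¹ᵁ ModPair.interior V.mod
    obtain ⟨hE, hadm, hamb⟩ := MProdSystem.mprod_facts hs π (hIX i)
    let P : ModPair.Pair.{u} := ⟨_, _, hE⟩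
    let qP : P ⟶ cp.pt := ⟨U'.ι.imageι ≫ pullback.snd s.hom π.hom, le_rfl⟩
    let rP : P ⟶ V := ⟨U'.ι.imageι ≫ pullback.fst s.hom π.hom, hamb⟩
    have hsq : rP ≫ s = qP ≫ π := by
      apply ModPair.Pair.Hom.ext
      show (U'.ι.imageι ≫ _) ≫ _ = (U'.ι.imageι ≫ _) ≫ _
      rw [Category.assoc, Category.assoc, pullback.condition]
    have hab : L.map (rP ≫ a) = L.map (rP ≫ b) := by
      rw [L.map_comp rP a, L.map_comp rP b, ← ha, ← hb, ← Category.assoc, ← Category.assoc, ← L.map_comp,
        hsq, L.map_comp, Category.assoc, Category.assoc]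
      exact congrArg (L.map qP ≫ ·) hπ
    obtain ⟨W, t, ht, e₃⟩ := (MorphismProperty.map_eq_iff_precomp L ModPair.Pair.admBlowup _ _).mp hab
    have := epi_of_admBlowup t ht
    have heq : rP.hom ≫ a.hom = rP.hom ≫ b.hom :=
      (cancel_epi t.hom).mp (congrArg ModPair.Pair.Hom.hom e₃)
    have hbc : IsPullback (pullback.fst s.hom π.hom) (pullback.snd s.hom π.hom) s.hom (cs.π.app i) :=
      IsPullback.of_hasPullback _ _
    let cb := Groth.Agent.Lib.Lim.Basic.bcCone (D := E) (c := cs) (a := s.hom) hbc.w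
    let hcb : IsLimit cb := Groth.Agent.Lib.Lim.Basic.isLimitBcCone hcs hbc
    let ci := ImageLimit.cone (MProdSystem.bcFst F i s) (ModPair.interior V.mod) cb
      (pullback.fst s.hom π.hom) (Groth.Agent.Lib.Lim.Basic.bcCone_π_fst hbc.w)
    let hci : IsLimit ci := ImageLimit.isLimitCone (MProdSystem.bcFst F i s)
      (ModPair.interior V.mod) cb (pullback.fst s.hom π.hom)
      (Groth.Agent.Lib.Lim.Basic.bcCone_π_fst hbc.w) hcb
    have hprojV : ∀ j : Over i, ci.π.app j ≫ MProdSystem.projV F i s j = rP.hom := fun j => by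
      show ci.π.app j ≫ (MProdSystem.incl F i s).app j ≫ pullback.fst s.hom (F.map j.hom).hom = _
      rw [← Category.assoc]
      erw [ImageLimit.cone_π_fac (MProdSystem.bcFst F i s) (ModPair.interior V.mod) cb
        (pullback.fst s.hom π.hom) (Groth.Agent.Lib.Lim.Basic.bcCone_π_fst hbc.w) j]
      rw [Category.assoc]
      show _ = U'.ι.imageι ≫ _
      congr 1
      exact Groth.Agent.Lib.Lim.Basic.bcCone_π_fst hbc.w j
    let T := MProdSystem.diagram F i s
    let tS : T ⟶ (Functor.const (Over i)).obj S.total :=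
      { app := fun j => MProdSystem.projV F i s j ≫ a.hom ≫ Y.hom.hom
        naturality := fun j k f => by
          rw [← Category.assoc, MProdSystem.map_projV]
          exact (Category.comp_id _).symm }
    have : ∀ {j k : Over i} (f : j ⟶ k), IsAffineHom (T.map f) := fun f =>
      MProdSystem.isAffineHom_map f
    have : ∀ j : Over i, CompactSpace (T.obj j) := fun j => MProdSystem.compactSpace_obj hs hmF j
    let j₀ : Over i := Over.mk (𝟙 i)
    obtain ⟨k, f, hk⟩ := Scheme.exists_hom_comp_eq_comp_of_locallyOfFiniteType T tS Y.hom.hom ci hci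
      (i := j₀) (MProdSystem.projV F i s j₀ ≫ a.hom) (MProdSystem.projV F i s j₀ ≫ b.hom)
      (Category.assoc _ _ _).symm
      (by
        rw [Category.assoc]
        exact congrArg (MProdSystem.projV F i s j₀ ≫ ·)
          ((congrArg ModPair.Pair.Hom.hom haY).trans (congrArg ModPair.Pair.Hom.hom hbY).symm))
      (by rw [← Category.assoc, ← Category.assoc, hprojV, heq])
    rw [← Category.assoc, ← Category.assoc, MProdSystem.map_projV] at hk
    refine ⟨k.left, k.hom, ?_⟩
    have : IsIso (L.map (MProdSystem.pairProj hs hmF k)) :=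
      hinv _ (MProdSystem.admBlowup_pairProj hs hmF k)
    rw [← cancel_epi (L.map (MProdSystem.pairProj hs hmF k))]
    show L.map (MProdSystem.pairProj hs hmF k) ≫ L.map (F.map k.hom) ≫ φ =
      L.map (MProdSystem.pairProj hs hmF k) ≫ L.map (F.map k.hom) ≫ ψ
    simp only [← Category.assoc, ← L.map_comp, ← MProdSystem.pairProjV_w hs hmF k]
    simp only [L.map_comp, Category.assoc, ha, hb]
    rw [← L.map_comp, ← L.map_comp]
    exact congrArg L.map (ModPair.Pair.Hom.ext hk)

end Groth.Agent.S18757
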