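import Groth.Statements.S18759
import Groth.Agent.H69.IdealLP
import Groth.Agent.H69.IsoStage
import Groth.Agent.Lib.Lim.Approx.Proper
import Groth.Agent.Lib.AlmostBlowUp.Basic
-- import your own Groth.Agent.* helpers here

set_option autoImplicit false
universe u
open CategoryTheory CategoryTheory.Limits AlgebraicGeometry TopologicalSpace
open ModPair Opposite Groth.Agent.Lib.Lim.Approx Groth.Agent.Lib

namespace Groth.Agent.S18759
set_option backward.isDefEq.respectTransparency false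

/-- Let (X, I_X) and (Y, I_Y) be modulus pairs with X, Y quasi-compact and quasi-separated, and f : X ⟶
Y an ambient morphism (modulus condition I_X ≤ I_Y.comap f) which is locally of finite type. Then X
⟶ Y is a cofiltered limit of Y-schemes X_i such that: (1) every X_i ⟶ Y is of finite presentation
and all transition maps X_i ⟶ X_j and projections X ⟶ X_i are closed immersions; (2) every X_i
carries a locally principal quasi-coherent ideal sheaf J_i whose pull-back to X is I_X and whose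
pull-back along each transition map X_i ⟶ X_j of J_j is J_i; (3) every X_i ⟶ Y satisfies the modulus
condition for J_i, and if f is minimal all X_i ⟶ Y are minimal; (4) if f is proper all X_i ⟶ Y are
proper; (5) if f is minimal and an isomorphism over the interior of Y, every X_i ⟶ Y is an
isomorphism over the interior of Y. (Part (5) is given here in the minimal case, where the interior
of (X_i, J_i) is the preimage of the interior of Y.) -/
theorem result {X Y : Scheme.{u}}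
    [CompactSpace X] [QuasiSeparatedSpace X] [CompactSpace Y] [QuasiSeparatedSpace Y]
    (IX : X.IdealSheafData) (IY : Y.IdealSheafData) (hX : BlowUp.IsEffCartierIdeal IX)
    (hY : BlowUp.IsEffCartierIdeal IY) (f : X ⟶ Y) (hf : ModPair.IsAmbient IX IY f)
    [LocallyOfFiniteType f] :
    ∃ (I : Type u) (_ : SmallCategory I) (_ : IsCofiltered I) (D : I ⥤ Over Y) (c : Cone D)
      (_ : IsLimit c) (e : c.pt ≅ Over.mk f) (J : ∀ i, (D.obj i).left.IdealSheafData),
      (∀ i, LocallyOfFinitePresentation (D.obj i).hom ∧ QuasiCompact (D.obj i).hom ∧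
          QuasiSeparated (D.obj i).hom) ∧
        (∀ (i j : I) (t : i ⟶ j), IsClosedImmersion (D.map t).left) ∧
        (∀ i, IsClosedImmersion (c.π.app i).left) ∧
        (∀ i, Curv2.IsLocPrincipal (J i)) ∧
        (∀ i, IX = (J i).comap (e.inv.left ≫ (c.π.app i).left)) ∧
        (∀ (i j : I) (t : i ⟶ j), J i = (J j).comap (D.map t).left) ∧
        (∀ i, ModPair.IsAmbient (J i) IY (D.obj i).hom) ∧
        (ModPair.IsMinimal IX IY f → ∀ i, ModPair.IsMinimal (J i) IY (D.obj i).hom) ∧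
        (IsProper f → ∀ i, IsProper (D.obj i).hom) ∧
        (ModPair.IsMinimal IX IY f → IsIso (f ∣_ ModPair.interior IY) →
          ∀ i, IsIso ((D.obj i).hom ∣_ ModPair.interior IY)) := by
  classical
  have hYlp : HTop.IsLocPrincipal IY := fun y => by
    obtain ⟨U, hy, g, -, hg⟩ := hY y
    exact ⟨U, hy, g, hg⟩
  have hXlp : ∀ x : X, ∃ U : X.affineOpens, x ∈ U.1 ∧
      ∃ g : Γ(X, U.1), IX.ideal U = Ideal.span {g} := fun x => by
    obtain ⟨U, hx, g, -, hg⟩ := hX x
    exact ⟨U, hx, g, hg⟩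
  obtain ⟨R, hcl, hπ, hpr⟩ : ∃ R : Rel.RelApprox f,
      (∀ {i j : R.Kᵒᵖ} (a : i ⟶ j), IsClosedImmersion (R.D.map a)) ∧
        (∀ k, IsClosedImmersion (R.π.app k)) ∧ (IsProper f → ∀ k, IsProper (R.t.app k)) := by
    by_cases h : IsProper f
    · obtain ⟨R, h1, h2, h3⟩ := Proper.exists_properApprox f
      exact ⟨R, h1, h2, fun _ => h3⟩
    · obtain ⟨R, h1, h2⟩ := Rel.exists_closedApprox f
      exact ⟨R, h1, h2, fun h' => (h h').elim⟩
  have := fun {i j : R.Kᵒᵖ} (a : i ⟶ j) => hcl a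
  have : ∀ k, IsClosedImmersion (R.cone.π.app k) := hπ
  have hw : ∀ {i j : R.Kᵒᵖ} (a : i ⟶ j), R.D.map a ≫ R.t.app j = R.t.app i :=
    fun a => (R.t.naturality a).trans (Category.comp_id _)
  obtain ⟨k₁, J₁, hJ₁, hJ₁X, hamb, hmin⟩ : ∃ (k : R.Kᵒᵖ) (J : (R.D.obj k).IdealSheafData),
      HTop.IsLocPrincipal J ∧ J.comap (R.π.app k) = IX ∧ J ≤ IY.comap (R.t.app k) ∧
        (ModPair.IsMinimal IX IY f → J = IY.comap (R.t.app k)) := by
    by_cases h : ModPair.IsMinimal IX IY f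
    · obtain ⟨k⟩ := IsCofiltered.nonempty (C := R.Kᵒᵖ)
      refine ⟨k, IY.comap (R.t.app k), AlmostBlowUp.Basic.isLocPrincipal_comap _ hYlp, ?_, le_rfl,
        fun _ => rfl⟩
      rw [← Scheme.IdealSheafData.comap_comp, R.w]
      exact h.symm
    · obtain ⟨k₀, J₀, hfg, hlp, hJ₀⟩ :=
        H69.IdealLP.exists_locPrincipal R.isLimit IX hXlp
      obtain ⟨k, a, ha⟩ := H69.IdealStage.exists_comap_le_comap R.isLimit J₀
        (IY.comap (R.t.app k₀)) hfg (by
          rw [hJ₀, ← Scheme.IdealSheafData.comap_comp]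
          exact hf.trans_eq (congrArg IY.comap (R.w k₀).symm))
      refine ⟨k, J₀.comap (R.D.map a), AlmostBlowUp.Basic.isLocPrincipal_comap _ hlp, ?_, ?_,
        fun h' => (h h').elim⟩
      · rw [← Scheme.IdealSheafData.comap_comp]
        exact (congrArg J₀.comap (R.cone.w a)).trans hJ₀
      · rwa [← Scheme.IdealSheafData.comap_comp, hw a] at ha
  obtain ⟨k₂, a₂, hiso⟩ : ∃ (k : R.Kᵒᵖ) (_ : k ⟶ k₁), ModPair.IsMinimal IX IY f →
      IsIso (f ∣_ ModPair.interior IY) →
        ∀ (m : R.Kᵒᵖ) (_ : m ⟶ k), IsIso (R.t.app m ∣_ ModPair.interior IY) := by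
    by_cases h : IsIso (f ∣_ ModPair.interior IY)
    swap
    · exact ⟨k₁, 𝟙 _, fun _ h' => (h h').elim⟩
    let U := ModPair.interior IY
    have hU : IsAffineHom U.ι := AlmostBlowUp.Basic.isAffineHom_awayFrom_ι hYlp
    let V := R.t.app k₁ ⁻¹ᵁ U
    have : IsAffineHom V.ι := MorphismProperty.of_isPullback (P := @IsAffineHom)
      (isPullback_morphismRestrict (R.t.app k₁) U) hU
    have hfp : LocallyOfFinitePresentation
        ((R.cone.π.app k₁ ⁻¹ᵁ V).ι ≫ R.cone.π.app k₁ ≫ R.t.app k₁) := by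
      have h' : IsIso ((R.π.app k₁ ≫ R.t.app k₁) ∣_ U) :=
        (R.w k₁).symm ▸ h
      show LocallyOfFinitePresentation
        (((R.π.app k₁ ≫ R.t.app k₁) ⁻¹ᵁ U).ι ≫ (R.π.app k₁ ≫ R.t.app k₁))
      rw [← morphismRestrict_ι]
      infer_instance
    obtain ⟨j, a, ha⟩ := H69.IsoStage.exists_isIso_π R.isLimit k₁ V (R.t.app k₁) hfp
    refine ⟨j, a, fun _ _ m b => ?_⟩
    have htr : ∀ {g g' : X ⟶ Y}, g = g' → IsIso (g ∣_ U) → IsIso (g' ∣_ U) := by
      rintro g _ rfl hg; exact hg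
    have hj : IsIso (R.π.app j ∣_ R.t.app j ⁻¹ᵁ U) := by
      have e : R.D.map a ⁻¹ᵁ V = R.t.app j ⁻¹ᵁ U := by
        rw [← hw a, Scheme.Hom.comp_preimage]
      exact e ▸ ha
    have hjt : IsIso (R.t.app j ∣_ U) := by
      have : IsIso (R.π.app j ∣_ R.t.app j ⁻¹ᵁ U ≫ R.t.app j ∣_ U) := by
        rw [← morphismRestrict_comp]; exact htr (R.w j).symm h
      exact IsIso.of_isIso_comp_left (R.π.app j ∣_ R.t.app j ⁻¹ᵁ U) (R.t.app j ∣_ U)
    have : IsClosedImmersion (R.D.map b ∣_ R.t.app j ⁻¹ᵁ U) :=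
      IsZariskiLocalAtTarget.restrict (P := @IsClosedImmersion) (hcl b) _
    have hb : IsIso (R.D.map b ∣_ R.t.app j ⁻¹ᵁ U) := by
      have hbm : IsIso ((R.π.app m ≫ R.D.map b) ∣_ R.t.app j ⁻¹ᵁ U) := by
        have hsub : ∀ {g g' : X ⟶ R.D.obj j}, g = g' → IsIso (g ∣_ R.t.app j ⁻¹ᵁ U) →
            IsIso (g' ∣_ R.t.app j ⁻¹ᵁ U) := by
          rintro g _ rfl hg; exact hg
        exact hsub (R.cone.w b).symm hj
      rw [morphismRestrict_comp] at hbm
      have : IsSplitEpi (R.D.map b ∣_ R.t.app j ⁻¹ᵁ U) := IsSplitEpi.mk'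
        ⟨inv (R.π.app m ∣_ R.D.map b ⁻¹ᵁ R.t.app j ⁻¹ᵁ U ≫ R.D.map b ∣_ R.t.app j ⁻¹ᵁ U) ≫
          R.π.app m ∣_ R.D.map b ⁻¹ᵁ R.t.app j ⁻¹ᵁ U, by simp⟩
      exact isIso_of_mono_of_isSplitEpi _
    have hm : IsIso ((R.D.map b ≫ R.t.app j) ∣_ U) := by
      rw [morphismRestrict_comp]
      exact inferInstance
    exact (hw b) ▸ hm
  let R' := R.tail k₂.unop
  let ai : ∀ i : R'.Kᵒᵖ, op i.unop.1 ⟶ k₁ := fun i => (homOfLE i.unop.2).op ≫ a₂
  refine ⟨R'.Kᵒᵖ, inferInstance, inferInstance, R'.overD, R'.overCone, R'.isLimitOverCone,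
    Iso.refl _, fun i => J₁.comap (R.D.map (ai i)), fun i => ⟨R'.lfp i, R'.qc i, R'.qs i⟩,
    fun i j t => hcl _, fun i => hπ _, fun i => ?_, fun i => ?_, fun i j t => ?_, fun i => ?_,
    fun h i => ?_, fun h i => hpr h _, fun h h' i => hiso h h' _ (homOfLE i.unop.2).op⟩
  · intro x _
    exact AlmostBlowUp.Basic.isLocPrincipal_comap _ hJ₁ x
  · show IX = (J₁.comap _).comap (𝟙 X ≫ R.π.app (op i.unop.1))
    rw [Category.id_comp, ← Scheme.IdealSheafData.comap_comp]
    exact hJ₁X.symm.trans (congrArg J₁.comap (R.cone.w (ai i)).symm)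
  · show _ = (J₁.comap _).comap
      (R.D.map ((homOfLE (show j.unop.1 ≤ i.unop.1 from leOfHom t.unop)).op))
    rw [← Scheme.IdealSheafData.comap_comp, ← R.D.map_comp]
    exact congrArg (fun a => J₁.comap (R.D.map a)) (Subsingleton.elim _ _)
  · show J₁.comap (R.D.map (ai i)) ≤ IY.comap (R.t.app (op i.unop.1))
    rw [← hw (ai i), Scheme.IdealSheafData.comap_comp]
    exact (Scheme.IdealSheafData.map_gc (R.D.map (ai i))).monotone_l hamb
  · show J₁.comap (R.D.map (ai i)) = IY.comap (R.t.app (op i.unop.1))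
    rw [← hw (ai i), Scheme.IdealSheafData.comap_comp, hmin h]

end Groth.Agent.S18759
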