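import Groth.Statements.S1876
import Mathlib

set_option autoImplicit false
universe u
open CategoryTheory
attribute [local instance] HasDerivedCategory.standard
open Trace

namespace Groth.Agent.S1876
open CategoryTheory CategoryTheory.Limits

variable {Λ : Type u} [CommRing Λ]

/-- The alternating trace over a range of degrees. -/
noncomputable def alt {P : DRing.Cx Λ} (a b : ℤ) (f : P ⟶ P) : Λ :=
  ∑ i ∈ Finset.Icc a b, ((i.negOnePow : ℤˣ) : ℤ) • LinearMap.trace Λ (P.X i) (f.f i).hom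

lemma kproj {P : DRing.Cx Λ} {a b : ℤ} (hP : DRing.VanishesOutside P a b)
    (hPf : DRing.TermwiseFiniteFree P) : CochainComplex.IsKProjective P := by
  haveI : P.IsStrictlyLE b := (CochainComplex.isStrictlyLE_iff P b).2 fun i hi => hP i (Or.inr hi)
  haveI : ∀ i, Projective (P.X i) := fun i => by
    haveI := (hPf i).2
    exact (IsProjective.iff_projective (P.X i)).1 inferInstance
  exact CochainComplex.isKProjective_of_projective P b

lemma homotopy_of_Q_eq {P Q : DRing.Cx Λ} [P.IsKProjective] (f g : P ⟶ Q)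
    (h : DerivedCategory.Q.map f = DerivedCategory.Q.map g) : Nonempty (Homotopy f g) := by
  refine ⟨HomotopyCategory.homotopyOfEq _ _
    ((CochainComplex.IsKProjective.Qh_map_bijective P _).1 ?_)⟩
  have hf := (DerivedCategory.quotientCompQhIso (ModuleCat.{u} Λ)).hom.naturality f
  have hg := (DerivedCategory.quotientCompQhIso (ModuleCat.{u} Λ)).hom.naturality g
  rw [← h] at hg
  exact (cancel_mono ((DerivedCategory.quotientCompQhIso (ModuleCat.{u} Λ)).hom.app Q)).1
    (hf.trans hg.symm)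

lemma exists_map {P Q : DRing.Cx Λ} [P.IsKProjective]
    (f : DerivedCategory.Q.obj P ⟶ DerivedCategory.Q.obj Q) :
    ∃ φ : P ⟶ Q, DerivedCategory.Q.map φ = f := by
  let e := DerivedCategory.quotientCompQhIso (ModuleCat.{u} Λ)
  obtain ⟨g, hg⟩ := (CochainComplex.IsKProjective.Qh_map_bijective P
    ((HomotopyCategory.quotient _ _).obj Q)).2 (e.hom.app P ≫ f ≫ e.inv.app Q)
  obtain ⟨φ, rfl⟩ := (HomotopyCategory.quotient _ _).map_surjective g
  refine ⟨φ, ?_⟩
  rw [← cancel_epi (e.hom.app P), ← e.hom.naturality φ]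
  simp only [Functor.comp_map, hg, Category.assoc, Iso.inv_hom_id_app]
  exact congrArg (e.hom.app P ≫ ·) (Category.comp_id f)

lemma trace_eq_zero {P : DRing.Cx Λ} {i : ℤ} (hz : IsZero (P.X i)) (f : P.X i →ₗ[Λ] P.X i) :
    LinearMap.trace Λ (P.X i) f = 0 := by
  haveI := ModuleCat.subsingleton_of_isZero hz
  rw [Subsingleton.elim f 0, map_zero]

lemma alt_comm {P Q : DRing.Cx Λ} (hPf : DRing.TermwiseFiniteFree P)
    (hQf : DRing.TermwiseFiniteFree Q) (a b : ℤ) (u : P ⟶ Q) (v : Q ⟶ P) :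
    alt a b (u ≫ v) = alt a b (v ≫ u) := by
  refine Finset.sum_congr rfl fun i _ => ?_
  haveI := (hPf i).1; haveI := (hPf i).2; haveI := (hQf i).1; haveI := (hQf i).2
  simp only [HomologicalComplex.comp_f, ModuleCat.hom_comp]
  rw [LinearMap.trace_comp_comm']

lemma alt_homotopy {P : DRing.Cx Λ} (hPf : DRing.TermwiseFiniteFree P) {a b : ℤ}
    (hP : DRing.VanishesOutside P a b) {f g : P ⟶ P} (H : Homotopy f g) :
    alt a b f = alt a b g := by
  let T : ℤ → Λ := fun i => LinearMap.trace Λ (P.X i) ((P.d i (i + 1)) ≫ H.hom (i + 1) i).hom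
  let T' : ℤ → Λ := fun i => LinearMap.trace Λ (P.X (i + 1)) ((H.hom (i + 1) i) ≫ P.d i (i + 1)).hom
  have hTT : ∀ i, T i = T' i := fun i => by
    haveI := (hPf i).1; haveI := (hPf i).2; haveI := (hPf (i + 1)).1; haveI := (hPf (i + 1)).2
    simp only [T, T', ModuleCat.hom_comp]
    rw [LinearMap.trace_comp_comm']
  have hi : ∀ i, LinearMap.trace Λ (P.X i) (f.f i).hom =
      T i + T' (i - 1) + LinearMap.trace Λ (P.X i) (g.f i).hom := fun i => by
    obtain ⟨j, rfl⟩ : ∃ j, i = j + 1 := ⟨i - 1, by ring⟩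
    rw [show j + 1 - 1 = j by ring, H.comm (j + 1),
      dNext_eq H.hom (show (ComplexShape.up ℤ).Rel (j + 1) (j + 1 + 1) from rfl),
      prevD_eq H.hom (show (ComplexShape.up ℤ).Rel j (j + 1) from rfl)]
    simp only [ModuleCat.hom_add, map_add, T, T']
  have key : ∀ m, a - 1 ≤ m → ∑ i ∈ Finset.Icc a m, ((i.negOnePow : ℤˣ) : ℤ) • (T i + T' (i - 1)) =
      ((m.negOnePow : ℤˣ) : ℤ) • T m - (((a - 1).negOnePow : ℤˣ) : ℤ) • T (a - 1) := by
    intro m hm
    induction m, hm using Int.le_induction with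
    | base => rw [Finset.Icc_eq_empty (by omega)]; simp
    | succ m hm ih =>
      rw [← Finset.insert_Icc_right_eq_Icc_add_one (by omega), Finset.sum_insert (by simp), ih,
        show m + 1 - 1 = m by ring, ← hTT m, Int.negOnePow_succ]
      simp only [Units.val_neg, neg_smul, smul_add]
      abel
  unfold alt
  simp only [hi]
  rw [Finset.sum_congr rfl fun i _ => smul_add _ _ _, Finset.sum_add_distrib]
  by_cases hab : a - 1 ≤ b
  · rw [key b hab, show T (a - 1) = 0 from trace_eq_zero (hP _ (Or.inl (by omega))) _,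
      hTT b, show T' b = 0 from trace_eq_zero (hP _ (Or.inr (by omega))) _]
    simp
  · rw [Finset.Icc_eq_empty (by omega)]; simp

lemma alt_Icc {P : DRing.Cx Λ} (a b : ℤ) (f : P ⟶ P) : alt a b f =
    ∑ i ∈ Finset.Icc a b, ((i.negOnePow : ℤˣ) : ℤ) • LinearMap.trace Λ (P.X i) (f.f i).hom := rfl


/-- Commutative coefficient ring, finite free terms: let P and Q be bounded complexes of finite free
Λ-modules with chain endomorphisms f and g, and α : P ≅ Q an isomorphism in the derived category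
D(Λ) with α ∘ f = g ∘ α there. Then Σ_i (−1)^i Tr(f^i | P^i) = Σ_i (−1)^i Tr(g^i | Q^i); that is,
the trace of an endomorphism of a perfect object of D(Λ) is well defined. -/
theorem result (Λ : Type u) [CommRing Λ] (P Q : DRing.Cx Λ) (a b : ℤ) (hP : DRing.VanishesOutside P a b) (hQ : DRing.VanishesOutside Q a b) (hPf : DRing.TermwiseFiniteFree P) (hQf : DRing.TermwiseFiniteFree Q) (f : P ⟶ P) (g : Q ⟶ Q) (α : DRing.toD P ≅ DRing.toD Q) (h : α.hom ≫ DerivedCategory.Q.map g = DerivedCategory.Q.map f ≫ α.hom) : ∑ i ∈ Finset.Icc a b, ((i.negOnePow : ℤˣ) : ℤ) • LinearMap.trace Λ (P.X i) (f.f i).hom = ∑ i ∈ Finset.Icc a b, ((i.negOnePow : ℤˣ) : ℤ) • LinearMap.trace Λ (Q.X i) (g.f i).hom := by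
  rw [← alt_Icc, ← alt_Icc]
  haveI := kproj hP hPf
  haveI := kproj hQ hQf
  obtain ⟨s, hs⟩ := exists_map α.hom
  obtain ⟨t, ht⟩ := exists_map α.inv
  obtain ⟨H1⟩ := homotopy_of_Q_eq f (f ≫ s ≫ t) (by
    rw [Functor.map_comp, Functor.map_comp, hs, ht, Iso.hom_inv_id, Category.comp_id])
  obtain ⟨H2⟩ := homotopy_of_Q_eq g (t ≫ f ≫ s) (by
    rw [Functor.map_comp, Functor.map_comp, hs, ht, ← h, Iso.inv_hom_id_assoc])
  rw [alt_homotopy hPf hP H1, alt_homotopy hQf hQ H2, ← Category.assoc f s t,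
    alt_comm hPf hQf a b (f ≫ s) t]

end Groth.Agent.S1876
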