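import Groth.Statements.S18761
import Groth.Agent.Lib.ConstSub76.Main
import Groth.Agent.Lib.ConstSub76.Retr
import Groth.Agent.Lib.Curves.GlobalSections
import Groth.Agent.Lib.KoszulSh.Divisor.Chart
import Groth.Agent.Lib.Modules.AffineHom
import Groth.Agent.H87.SplitMax
import Mathlib.AlgebraicGeometry.Morphisms.Finite

set_option autoImplicit false
universe u
open CategoryTheory MonoidalCategory CartesianMonoidalCategory MonObj GrpObj AlgebraicGeometry
open AlgGrp

namespace Groth.Agent.S18761

open Groth.Agent.Lib Groth.Agent.Lib.ConstSub76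

/-- Frames of the push-forward of the structure sheaf are bases of the algebra of sections. -/
theorem exists_basis_push {X S : Scheme.{u}} (h : X ⟶ S) {m : ℕ}
    (hE : FlatMod.IsFinLocFreeOfRank m ((Coh.push h).obj (Coh.structureModule X))) (x : S) :
    ∃ V : S.Opens, IsAffineOpen V ∧ x ∈ V ∧
      letI := (h.app V).hom.toAlgebra
      Nonempty (Module.Basis (Fin m) Γ(S, V) Γ(X, h ⁻¹ᵁ V)) := by
  obtain ⟨A, hxA, ⟨e⟩⟩ := hE x
  obtain ⟨f, hf⟩ := Pinch.StalkFrame.exists_isFrame_of_iso e
  obtain ⟨U, hU, hxU⟩ := Modules.AffineHom.exists_affine hxA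
  have hf' : Pinch.StalkFrame.IsFrame ((Coh.push h).obj (Coh.structureModule X)) U.1
      (fun j => TensorMod.Dual.rs _ hU (f j)) := fun y hy => by
    have := hf y (hU hy)
    convert this using 2 with c
    exact Finset.sum_congr rfl fun j _ => congrArg (c j • ·)
      (TopCat.Presheaf.germ_res_apply _ (homOfLE hU) y hy (f j))
  obtain ⟨B, -⟩ := KoszulSh.Divisor.exists_basis hf'
  letI := (h.app U.1).hom.toAlgebra
  exact ⟨U.1, U.2, hxU, ⟨B.map
    ({ toFun := fun z => z, invFun := fun z => z, left_inv := fun _ => rfl, right_inv := fun _ => rfl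
       map_add' := fun _ _ => rfl
       map_smul' := fun _ _ => rfl } : _ ≃ₗ[Γ(S, U.1)] Γ(X, h ⁻¹ᵁ U.1))⟩⟩


/-- Let k be an algebraically closed field, S a smooth, proper and integral curve over k (integral,
smooth and proper over k of dimension one), G a finite group scheme over k, and H a closed subgroup
scheme of the base change G_S = G ×_k S whose structure morphism H → S is faithfully flat, such that
the direct image of O_H on S is locally free of rank m and its space of global sections, that is
Γ(H, O_H), has dimension exactly m over k. Then H descends to k: there are a group scheme H' over k,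
a homomorphism H' → G which is a closed immersion, and an isomorphism of S-group schemes H ≅ H' ×_k
S carrying the inclusion of H into G_S to the base change of H' → G; moreover the induced ring map
Γ(H', O) → Γ(H, O_H) is bijective, so that H' is the spectrum of Γ(H, O_H). -/
theorem result
    (k : Type u) [Field k] [IsAlgClosed k] (S : Scheme.{u}) [S.Over (Spec (CommRingCat.of k))]
    [IsIntegral S] [IsProper (S ↘ Spec (CommRingCat.of k))] [Smooth (S ↘ Spec (CommRingCat.of k))]
    (hdim : topologicalKrullDim S = 1)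
    (G : Over (Spec (CommRingCat.of k))) [GrpObj G] [IsFinite G.hom]
    (H : Over S) [GrpObj H] (i : H ⟶ Red.bc (S ↘ Spec (CommRingCat.of k)) G) [IsMonHom i]
    [IsClosedImmersion i.left] [Flat H.hom] [Surjective H.hom] (m : ℕ)
    (hE : FlatMod.IsFinLocFreeOfRank m ((Coh.push H.hom).obj (Coh.structureModule H.left)))
    (hh0 : Module.finrank k (Coh.HH S ((Coh.push H.hom).obj (Coh.structureModule H.left)) 0) = m) :
    ∃ (H' : Grp (Over (Spec (CommRingCat.of k)))) (j : H'.X ⟶ G), IsMonHom j ∧ IsClosedImmersion j.left ∧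
      ∃ e : H ≅ Red.bc (S ↘ Spec (CommRingCat.of k)) H'.X, IsMonHom e.hom ∧
        e.hom ≫ (Over.pullback (S ↘ Spec (CommRingCat.of k))).map j = i ∧
        Function.Bijective (e.hom.left ≫ Limits.pullback.fst H'.X.hom (S ↘ Spec (CommRingCat.of k))).appTop.hom := by
  obtain ⟨s₀, hs₀⟩ : ∃ s₀ : Spec (CommRingCat.of k) ⟶ S, s₀ ≫ (S ↘ Spec (CommRingCat.of k)) = 𝟙 _ :=
    Retr.exists_ratPoint _
  let sk := S ↘ Spec (CommRingCat.of k)
  let pr : H.left ⟶ G.left := i.left ≫ Limits.pullback.fst G.hom sk
  have hpr : pr ≫ G.hom = H.hom ≫ sk := by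
    rw [Category.assoc, Limits.pullback.condition, ← Category.assoc]
    exact congr($(Over.w i) ≫ sk)
  haveI : IsFinite H.hom := by
    rw [← Over.w i]
    exact inferInstanceAs (IsFinite (i.left ≫ Limits.pullback.snd G.hom sk))
  haveI : IsAffine G.left := isAffine_of_isAffineHom G.hom
  letI algR : Algebra k Γ(G.left, ⊤) :=
    ((Scheme.ΓSpecIso (CommRingCat.of k)).inv ≫ G.hom.appTop).hom.toAlgebra
  letI algB : Algebra k Γ(H.left, ⊤) :=
    ((Scheme.ΓSpecIso (CommRingCat.of k)).inv ≫ (H.hom ≫ sk).appTop).hom.toAlgebra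
  let c : Γ(G.left, ⊤) →ₐ[k] Γ(H.left, ⊤) :=
    { pr.appTop.hom with
      commutes' := fun r => by
        show (G.hom.appTop ≫ pr.appTop).hom ((Scheme.ΓSpecIso (CommRingCat.of k)).inv r) =
          (H.hom ≫ sk).appTop.hom ((Scheme.ΓSpecIso (CommRingCat.of k)).inv r)
        rw [← Scheme.Hom.comp_appTop, hpr] }
  let jY : Spec (CommRingCat.of c.range) ⟶ G.left :=
    Spec.map (CommRingCat.ofHom c.rangeRestrict.toRingHom) ≫ G.left.isoSpec.inv
  haveI : IsClosedImmersion jY := by
    haveI : IsClosedImmersion (Spec.map (CommRingCat.ofHom c.rangeRestrict.toRingHom)) :=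
      IsClosedImmersion.spec_of_surjective _ c.rangeRestrict_surjective
    exact inferInstanceAs (IsClosedImmersion (_ ≫ G.left.isoSpec.inv))
  have hκ : G.hom = G.left.isoSpec.hom ≫ Spec.map (CommRingCat.ofHom (algebraMap k Γ(G.left, ⊤))) := by
    show G.hom = G.left.isoSpec.hom ≫ Spec.map ((Scheme.ΓSpecIso (CommRingCat.of k)).inv ≫ G.hom.appTop)
    rw [Spec.map_comp, Scheme.isoSpec_hom, ← Scheme.toSpecΓ_naturality_assoc, toSpecΓ_SpecMap_ΓSpecIso_inv,
      Category.comp_id]
  have hjY : jY ≫ G.hom = Spec.map (CommRingCat.ofHom (algebraMap k c.range)) := by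
    rw [hκ, Category.assoc, Iso.inv_hom_id_assoc, ← Spec.map_comp]
    congr 1
    ext r
    exact congrArg Subtype.val (c.rangeRestrict.commutes r)
  let toB : H.left ⟶ Spec (CommRingCat.of c.range) :=
    H.left.toSpecΓ ≫ Spec.map (CommRingCat.ofHom c.range.val.toRingHom)
  have htoB : toB ≫ jY = pr := by
    rw [Category.assoc, ← Category.assoc (Spec.map _), ← Spec.map_comp]
    rw [show CommRingCat.ofHom c.rangeRestrict.toRingHom ≫ CommRingCat.ofHom c.range.val.toRingHom =
      pr.appTop from rfl, ← Category.assoc, ← Scheme.toSpecΓ_naturality, Category.assoc,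
      ← Scheme.isoSpec_hom, Iso.hom_inv_id, Category.comp_id]
  have htoBk : toB ≫ Spec.map (CommRingCat.ofHom (algebraMap k c.range)) = H.hom ≫ sk := by
    rw [← hjY, reassoc_of% htoB, hpr]
  let φ : H.left ⟶ Main.constObj sk c.range := Limits.pullback.lift toB H.hom htoBk
  haveI : IsClosedImmersion φ := by
    let νm : Main.constObj sk c.range ⟶ Limits.pullback G.hom sk :=
      Limits.pullback.lift (Limits.pullback.fst _ _ ≫ jY) (Limits.pullback.snd _ _) (by
        rw [Category.assoc, hjY]; exact Limits.pullback.condition)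
    haveI : IsSeparated νm := by
      haveI : IsSeparated (νm ≫ Limits.pullback.snd G.hom sk) := by
        rw [Limits.pullback.lift_snd]; infer_instance
      exact IsSeparated.of_comp νm (Limits.pullback.snd G.hom sk)
    haveI : IsClosedImmersion (φ ≫ νm) := by
      rw [show φ ≫ νm = i.left by
        refine Limits.pullback.hom_ext ?_ ?_
        · rw [Category.assoc, Limits.pullback.lift_fst, Limits.pullback.lift_fst_assoc, htoB]
        · rw [Category.assoc, Limits.pullback.lift_snd, Limits.pullback.lift_snd]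
          exact (Over.w i).symm]
      infer_instance
    exact IsClosedImmersion.of_comp φ νm
  -- the space of global sections
  letI := Curves.GlobalSections.secModule k ((Coh.push H.hom).obj (Coh.structureModule H.left))
  let eB : Coh.HH S ((Coh.push H.hom).obj (Coh.structureModule H.left)) 0 ≃ₗ[k] Γ(H.left, ⊤) :=
    (Curves.GlobalSections.h0Linear k _).trans
      { toFun := fun z => z, invFun := fun z => z, left_inv := fun _ => rfl, right_inv := fun _ => rfl
        map_add' := fun _ _ => rfl, map_smul' := fun _ _ => rfl }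
  obtain ⟨V, hV, hxV, ⟨bV⟩⟩ := exists_basis_push H.hom hE (s₀ (IsLocalRing.closedPoint k))
  have hm : 0 < m := by
    obtain ⟨z, hz⟩ := H.hom.surjective (s₀ (IsLocalRing.closedPoint k))
    haveI : Nonempty (H.hom ⁻¹ᵁ V) := ⟨⟨z, show H.hom z ∈ V from hz ▸ hxV⟩⟩
    letI := (H.hom.app V).hom.toAlgebra
    exact Fin.pos (Classical.arbitrary (h := bV.index_nonempty) (Fin m))
  haveI : Module.Finite k Γ(H.left, ⊤) :=
    Module.finite_of_finrank_pos (by rw [← eB.finrank_eq, hh0]; exact hm)
  obtain ⟨hiso, hrank⟩ := Main.isIso_of_rank H.hom φ (Limits.pullback.lift_snd _ _ _) m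
    (exists_basis_push H.hom hE)
    ((Submodule.finrank_le (Subalgebra.toSubmodule c.range)).trans (le_of_eq (eB.finrank_eq.symm.trans hh0)))
  haveI := hiso
  -- the subgroup
  obtain ⟨α, hα⟩ := Retr.exists_retr sk s₀ hs₀
  let Y : Over (Spec (CommRingCat.of k)) := Over.mk (Spec.map (CommRingCat.ofHom (algebraMap k c.range)))
  let j : Y ⟶ G := Over.homMk jY hjY
  let φO : H ≅ Red.bc sk Y := Over.isoMk (asIso φ) (Limits.pullback.lift_snd _ _ _)
  have hφO : φO.hom ≫ (Over.pullback sk).map j = i := by
    apply Over.OverMorphism.ext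
    refine Limits.pullback.hom_ext ?_ ?_
    · show (φ ≫ Limits.pullback.lift (Limits.pullback.fst _ _ ≫ jY) (Limits.pullback.snd _ _) _) ≫
        Limits.pullback.fst _ _ = pr
      rw [Category.assoc, Limits.pullback.lift_fst, Limits.pullback.lift_fst_assoc, htoB]
    · show (φ ≫ Limits.pullback.lift (Limits.pullback.fst _ _ ≫ jY) (Limits.pullback.snd _ _) _) ≫
        Limits.pullback.snd _ _ = i.left ≫ Limits.pullback.snd _ _
      rw [Category.assoc, Limits.pullback.lift_snd, Limits.pullback.lift_snd]
      exact (Over.w i).symm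
  let θ : Red.bc s₀ H ≅ Y := (Over.pullback s₀).mapIso φO ≪≫ α.app Y
  letI : GrpObj Y := GrpObj.ofIso θ
  haveI : IsMonHom θ.inv := ⟨by simp [MonObj.ofIso_one], by simp [MonObj.ofIso_mul]⟩
  have hj : j = θ.inv ≫ (Over.pullback s₀).map i ≫ α.hom.app G := by
    rw [← hφO, Functor.map_comp, Category.assoc, Iso.eq_inv_comp]
    show ((Over.pullback s₀).map φO.hom ≫ α.hom.app Y) ≫ j = _
    rw [Category.assoc]
    congr 1
    exact (α.hom.naturality j).symm
  haveI := hα G
  haveI : IsMonHom j := by
    rw [hj]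
    exact inferInstanceAs (IsMonHom (M := Y) (N := G)
      (CategoryStruct.comp (Y := Red.bc s₀ H) θ.inv
        (CategoryStruct.comp (Y := Red.bc s₀ (Red.bc sk G)) ((Over.pullback s₀).map i) (α.hom.app G))))
  haveI : IsClosedImmersion j.left := ‹IsClosedImmersion jY›
  haveI : Mono j := Over.mono_of_mono_left j
  haveI : Mono ((Over.pullback sk).map j) := inferInstance
  haveI : IsMonHom φO.hom := Groth.Agent.H87.SplitMax.isMonHom_of_comp _ i _ hφO
  refine ⟨Grp.mk Y, j, inferInstance, ‹_›, φO, inferInstance, hφO, ?_⟩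
  show Function.Bijective (φ ≫ Limits.pullback.fst _ sk).appTop.hom
  rw [Limits.pullback.lift_fst]
  have hB : c.range = ⊤ := by
    rw [← Subalgebra.toSubmodule_injective.eq_iff, Algebra.top_toSubmodule]
    exact Submodule.eq_top_of_finrank_eq (le_antisymm (Submodule.finrank_le _) (by
      rw [← eB.finrank_eq, hh0]
      exact (hrank (s₀ (IsLocalRing.closedPoint k))).ge))
  have hval : Function.Bijective c.range.val :=
    ⟨Subtype.val_injective, fun b => ⟨⟨b, hB ▸ Algebra.mem_top⟩, rfl⟩⟩
  rw [Scheme.Hom.comp_appTop, Scheme.toSpecΓ_appTop]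
  rw [show (Spec.map (CommRingCat.ofHom c.range.val.toRingHom)).appTop =
    (Scheme.ΓSpecIso _).hom ≫ CommRingCat.ofHom c.range.val.toRingHom ≫ (Scheme.ΓSpecIso _).inv by
      rw [← Category.assoc, ← Scheme.ΓSpecIso_naturality, Category.assoc, Iso.hom_inv_id, Category.comp_id]]
  rw [Category.assoc, Category.assoc]
  erw [Iso.inv_hom_id, Category.comp_id]
  rw [CommRingCat.hom_comp, RingHom.coe_comp]
  exact hval.comp (ConcreteCategory.bijective_of_isIso (Scheme.ΓSpecIso _).hom)


end Groth.Agent.S18761
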