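import Groth.Statements.S18763

import Groth.Agent.Lib.GrpSch.Basic

set_option autoImplicit false
universe u
open CategoryTheory CategoryTheory.Limits MonoidalCategory CartesianMonoidalCategory MonObj GrpObj AlgebraicGeometry
open AlgGrp

open Groth.Agent.Lib.GrpSch

namespace Groth.Agent.S18763

theorem inv_inv' {S : Scheme.{u}} {T G : Over S} [GrpObj G] (g : T ⟶ G) : g⁻¹⁻¹ = g := _root_.inv_inv g

theorem exists_core {S : Scheme.{u}} {G H Q N : Over S} [GrpObj G] [GrpObj H] (i : H ⟶ G)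
    (a : AlgGrp.Action G Q) (o : 𝟙_ (Over S) ⟶ Q) (sq : IsPullback (fst G H) ((G ◁ i) ≫ μ[G]) (a.orbitMap o) (a.orbitMap o))
    (cov : ∀ (T : Over S) (x : T ⟶ Q), ∃ (T' : Over S) (c : T' ⟶ T) (_ : Epi c) (g : T' ⟶ G), g ≫ a.orbitMap o = c ≫ x)
    [GrpObj N] (n : N ⟶ G)
    (hN : ∀ (T : Over S) (g : T ⟶ G),
      (∃ m : T ⟶ N, m ≫ n = g) ↔
        ∀ (T' : Over S) (s : T' ⟶ T) (x : T' ⟶ Q), CartesianMonoidalCategory.lift (s ≫ g) x ≫ a.act = x) :
    AlgGrp.IsNormalHom n ∧ (∃ f : N ⟶ H, f ≫ i = n) ∧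
      ∀ (N' : Over S) [GrpObj N'] (n' : N' ⟶ G),
        AlgGrp.IsNormalHom n' → (∃ f : N' ⟶ H, f ≫ i = n') → ∃ f' : N' ⟶ N, f' ≫ n = n' := by
  have act1 : ∀ {T : Over S} (m : T ⟶ N) (x : T ⟶ Q), lift (m ≫ n) x ≫ a.act = x := fun {T} m x => by
    simpa using (hN T (m ≫ n)).1 ⟨m, rfl⟩ T (𝟙 T) x
  have fixH : ∀ {T : Over S} (h : T ⟶ H), lift (h ≫ i) (toUnit T ≫ o) ≫ a.act = toUnit T ≫ o := fun {T} h => by
    have h1 := congrArg (lift (1 : T ⟶ G) h ≫ ·) sq.w
    simp only [Category.assoc, lift_fst_assoc, lift_whiskerLeft_assoc] at h1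
    rw [← Category.assoc, ← Hom.mul_def, _root_.one_mul, comp_orbit, comp_orbit, act_one] at h1
    exact h1.symm
  refine ⟨fun T g m => ?_, ?_, fun N' _ n' hn' ⟨f, hf⟩ => ?_⟩
  · obtain ⟨m', hm'⟩ := (hN T (g * (m ≫ n) * g⁻¹)).2 fun T' s x => by
      rw [MonObj.comp_mul, MonObj.comp_mul, GrpObj.comp_inv, act_mul, act_mul, ← Category.assoc, act1,
        act_act_inv]
    exact ⟨m', hm'.symm⟩
  · have hw : (1 : N ⟶ G) ≫ a.orbitMap o = n ≫ a.orbitMap o := by
      rw [comp_orbit, comp_orbit, act_one]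
      exact (by simpa using act1 (𝟙 N) (toUnit N ≫ o) : lift n (toUnit N ≫ o) ≫ a.act = toUnit N ≫ o).symm
    refine ⟨sq.lift 1 n hw ≫ snd G H, ?_⟩
    have h1 := sq.lift_fst 1 n hw
    have h2 := sq.lift_snd 1 n hw
    generalize sq.lift 1 n hw = l at h1 h2 ⊢
    rw [show (G ◁ i) ≫ μ[G] = fst G H * (snd G H ≫ i) by rw [Hom.mul_def]; congr 1,
      MonObj.comp_mul, h1, _root_.one_mul, ← Category.assoc] at h2
    exact h2
  · refine (hN N' n').2 fun T' s x => ?_
    obtain ⟨T'', c, hc, g, hg⟩ := cov T' x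
    rw [← cancel_epi c, comp_lift_assoc, ← hg, comp_orbit]
    obtain ⟨m, hm⟩ := hn' T'' g⁻¹ (c ≫ s)
    rw [inv_inv'] at hm
    have h3 : (c ≫ s ≫ n') * g = g * (m ≫ n') := by
      rw [← hm]; simp [← _root_.mul_assoc]
    rw [← act_mul, h3, act_mul, ← hf, ← Category.assoc m f i, fixH]

/-- Let G be a finite group scheme over a field k and H a closed subgroup scheme of G, and let (Q, q₀)
with its G-action be the homogeneous space G/H for the fppf topology (the orbit map of q₀ is an fppf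
H-torsor onto Q). Let N be a closed subgroup scheme of G which is the kernel of the action of G on
Q: a point g of G with values in a k-scheme T factors through N exactly when g acts as the identity
on all points of Q with values in T-schemes. Then N (the core of H in G) is normal in G, is
contained in H, and contains every closed normal subgroup scheme of G which is contained in H. (The
published definition takes the core to be the kernel of the linear representation of G on the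
coordinate ring of G/H; this is the same subgroup as the kernel of the action on G/H used here.) -/
theorem result
    (k : Type u) [Field k]
    (G : Over (Spec (CommRingCat.of k))) [GrpObj G] [IsFinite G.hom]
    (H : Over (Spec (CommRingCat.of k))) [GrpObj H] (i : H ⟶ G) [IsMonHom i] [IsClosedImmersion i.left]
    (Q : Over (Spec (CommRingCat.of k))) (aQ : AlgGrp.Action G Q) (q₀ : 𝟙_ (Over (Spec (CommRingCat.of k))) ⟶ Q)
    (hQ : ChGrp.IsHomog Scheme.fppfPrecoverage i aQ q₀)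
    (N : Over (Spec (CommRingCat.of k))) [GrpObj N] (n : N ⟶ G) [IsMonHom n] [IsClosedImmersion n.left]
    (hN : ∀ (T : Over (Spec (CommRingCat.of k))) (g : T ⟶ G),
      (∃ g' : T ⟶ N, g' ≫ n = g) ↔
        ∀ (T' : Over (Spec (CommRingCat.of k))) (v : T' ⟶ T) (q : T' ⟶ Q), lift (v ≫ g) q ≫ aQ.act = q) :
    AlgGrp.IsNormalHom n ∧ (∃ m : N ⟶ H, m ≫ i = n) ∧
      ∀ (N' : Over (Spec (CommRingCat.of k))) [GrpObj N'] (n' : N' ⟶ G) [IsMonHom n'] [IsClosedImmersion n'.left],
        AlgGrp.IsNormalHom n' → (∃ m' : N' ⟶ H, m' ≫ i = n') → ∃ r : N' ⟶ N, r ≫ n = n' := by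
  obtain ⟨-, sq, hloc⟩ := hQ
  refine ⟨(exists_core i aQ q₀ sq ?_ n hN).1, (exists_core i aQ q₀ sq ?_ n hN).2.1, fun N' _ n' _ _ hn' hf =>
    (exists_core i aQ q₀ sq ?_ n hN).2.2 N' n' hn' hf⟩
  all_goals
    intro T x
    obtain ⟨R, hR, hs⟩ := hloc
    obtain ⟨ι', X', f', rfl⟩ := R.exists_eq_ofArrows
    rw [Scheme.fppfPrecoverage, Scheme.ofArrows_mem_precoverage_iff] at hR
    choose idx hidx using hR.1
    choose s hsec using fun q => hs (f' (idx q)) ⟨_⟩
    let c₀ : (∐ fun q : Q.left => X' (idx q)) ⟶ Q.left := Limits.Sigma.desc fun q => f' (idx q)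
    haveI : ∀ q : Q.left, Flat (f' (idx q)) := fun q => (hR.2 _).1
    haveI : Flat c₀ := inferInstance
    haveI : Surjective c₀ := ⟨fun q => by
      obtain ⟨z, hz⟩ := hidx q
      exact ⟨(Limits.Sigma.ι (fun q : Q.left => X' (idx q)) q).base z, by
        rw [← Scheme.Hom.comp_apply, Limits.Sigma.ι_desc]; exact hz⟩⟩
    let s₀ : (∐ fun q : Q.left => X' (idx q)) ⟶ G.left := Limits.Sigma.desc fun q => s q
    have hs₀ : s₀ ≫ (aQ.orbitMap q₀).left = c₀ := Limits.Sigma.hom_ext _ _ fun q => by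
      rw [Limits.Sigma.ι_desc_assoc, Limits.Sigma.ι_desc]; exact hsec q
    let T' : Over (Spec (CommRingCat.of k)) := Over.mk (Limits.pullback.fst x.left c₀ ≫ T.hom)
    let c : T' ⟶ T := Over.homMk (Limits.pullback.fst _ _)
    haveI : Epi c.left := Flat.epi_of_flat_of_surjective (Limits.pullback.fst x.left c₀)
    refine ⟨T', c, (Over.forget _).epi_of_epi_map (f := c) ‹_›, Over.homMk (Limits.pullback.snd _ _ ≫ s₀) ?_,
      Over.OverMorphism.ext ?_⟩
    · change _ = Limits.pullback.fst x.left c₀ ≫ T.hom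
      rw [← Over.w x, ← Over.w (aQ.orbitMap q₀), Category.assoc, reassoc_of% hs₀, Limits.pullback.condition_assoc]
    · change (Limits.pullback.snd _ _ ≫ s₀) ≫ _ = Limits.pullback.fst x.left c₀ ≫ x.left
      rw [Category.assoc, hs₀, Limits.pullback.condition]

end Groth.Agent.S18763
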