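import Groth.Statements.S18764
import Groth.Agent.Lib.TorsorSch.FibreProd
import Groth.Agent.Lib.Flat55.FibreTransfer

set_option autoImplicit false
universe u
open CategoryTheory CategoryTheory.Limits MonoidalCategory CartesianMonoidalCategory MonObj GrpObj AlgebraicGeometry
open NonAbH1

namespace Groth.Agent.S18764

/-- Let k be a field and X a quasi-compact k-scheme, connected and reduced, having a k-point x; let G,
G₁, G₂ be finite group schemes over k with homomorphisms φ₁ : G₁ → G and φ₂ : G₂ → G, and let T, T₁,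
T₂ be torsors over X (fppf-locally trivial) under the base changes to X of G, G₁, G₂ respectively,
each pointed by a k-point lying over x. Let f₁ : T₁ → T and f₂ : T₂ → T be morphisms of pointed
torsors: X-morphisms which intertwine the actions along φ₁, φ₂ and send the marked points of T₁, T₂
to that of T. Let P be the fibre product group scheme G₁ ×_G G₂ with its projections π₁, π₂. Then
the fibre product T₁ ×_T T₂ carries an action of the base change of P for which both projections to
T₁ and T₂ are equivariant (along π₁, π₂) and which makes it a torsor over X (fppf-locally trivial).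
(The published statement says that such an X has a fundamental group scheme; this row states the
closure of finite pointed torsors under fibre products to which it is reduced.) -/
theorem result
    (k : Type u) [Field k] (X : Scheme.{u}) [X.Over (Spec (CommRingCat.of k))] [ConnectedSpace X]
    [CompactSpace X] [AlgebraicGeometry.IsReduced X]
    (x : Spec (CommRingCat.of k) ⟶ X) (hx : x ≫ (X ↘ Spec (CommRingCat.of k)) = 𝟙 _)
    (G G₁ G₂ : Over (Spec (CommRingCat.of k))) [GrpObj G] [GrpObj G₁] [GrpObj G₂]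
    [IsFinite G.hom] [IsFinite G₁.hom] [IsFinite G₂.hom]
    (φ₁ : G₁ ⟶ G) (φ₂ : G₂ ⟶ G) [IsMonHom φ₁] [IsMonHom φ₂]
    (T T₁ T₂ : Over X)
    (a : AlgGrp.Action (Red.bc (X ↘ Spec (CommRingCat.of k)) G) T)
    (a₁ : AlgGrp.Action (Red.bc (X ↘ Spec (CommRingCat.of k)) G₁) T₁)
    (a₂ : AlgGrp.Action (Red.bc (X ↘ Spec (CommRingCat.of k)) G₂) T₂)
    (hT : NonAbH1.IsTorsorFor Scheme.fppfPrecoverage a)
    (hT₁ : NonAbH1.IsTorsorFor Scheme.fppfPrecoverage a₁)
    (hT₂ : NonAbH1.IsTorsorFor Scheme.fppfPrecoverage a₂)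
    (t : Spec (CommRingCat.of k) ⟶ T.left) (t₁ : Spec (CommRingCat.of k) ⟶ T₁.left)
    (t₂ : Spec (CommRingCat.of k) ⟶ T₂.left)
    (ht : t ≫ T.hom = x) (ht₁ : t₁ ≫ T₁.hom = x) (ht₂ : t₂ ≫ T₂.hom = x)
    (f₁ : T₁ ⟶ T) (f₂ : T₂ ⟶ T)
    (hf₁ : AlgGrp.Action.IsEquivariant a₁ (a.restrict ((Over.pullback (X ↘ Spec (CommRingCat.of k))).map φ₁)) f₁)
    (hf₂ : AlgGrp.Action.IsEquivariant a₂ (a.restrict ((Over.pullback (X ↘ Spec (CommRingCat.of k))).map φ₂)) f₂)
    (hft₁ : t₁ ≫ f₁.left = t) (hft₂ : t₂ ≫ f₂.left = t)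
    (P : Over (Spec (CommRingCat.of k))) [GrpObj P] (π₁ : P ⟶ G₁) (π₂ : P ⟶ G₂) [IsMonHom π₁] [IsMonHom π₂]
    (hP : IsPullback π₁ π₂ φ₁ φ₂) :
    ∃ c : AlgGrp.Action (Red.bc (X ↘ Spec (CommRingCat.of k)) P) (pullback f₁ f₂),
      AlgGrp.Action.IsEquivariant c (a₁.restrict ((Over.pullback (X ↘ Spec (CommRingCat.of k))).map π₁)) (pullback.fst f₁ f₂) ∧
      AlgGrp.Action.IsEquivariant c (a₂.restrict ((Over.pullback (X ↘ Spec (CommRingCat.of k))).map π₂)) (pullback.snd f₁ f₂) ∧
      NonAbH1.IsTorsorFor Scheme.fppfPrecoverage c := by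
  let p := X ↘ Spec (CommRingCat.of k)
  obtain ⟨c, hc₁, hc₂, hpseudo⟩ := Groth.Agent.Lib.TorsorSch.FibreProd.exists_action
    (hP.map (Over.pullback p)) a a₁ a₂ f₁ f₂ hf₁ hf₂
  have hc := hpseudo hT.1 hT₁.1 hT₂.1
  refine ⟨c, hc₁, hc₂, hc, ?_⟩
  set W := pullback f₁ f₂
  obtain ⟨_, _, _⟩ := Groth.Agent.Lib.TorsorSch.FibreProd.finite_flat_of_torsor p hT
  obtain ⟨_, _, _⟩ := Groth.Agent.Lib.TorsorSch.FibreProd.finite_flat_of_torsor p hT₁
  obtain ⟨_, _, _⟩ := Groth.Agent.Lib.TorsorSch.FibreProd.finite_flat_of_torsor p hT₂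
  have hsurj : Surjective W.hom := by
    refine Groth.Agent.Lib.TorsorSch.FibreProd.surjective p hT.1 f₁ f₂
      (Groth.Agent.Lib.TorsorSch.FibreProd.finite_flat_of_torsor p hT₁)
      (Groth.Agent.Lib.TorsorSch.FibreProd.finite_flat_of_torsor p hT₂) ?_
    let u₁ : Over.mk x ⟶ T₁ := Over.homMk t₁ ht₁
    let u₂ : Over.mk x ⟶ T₂ := Over.homMk t₂ ht₂
    have h : u₁ ≫ f₁ = u₂ ≫ f₂ := by ext1; exact hft₁.trans hft₂.symm
    obtain ⟨z⟩ : Nonempty (Spec (CommRingCat.of k)) := inferInstance
    exact ⟨(pullback.lift u₁ u₂ h).left z⟩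
  have hsq : IsPullback (pullback.fst f₁ f₂).left (pullback.snd f₁ f₂).left f₁.left f₂.left :=
    (IsPullback.of_hasPullback f₁ f₂).map (Over.forget X)
  have : IsFinite f₂.left := by
    have : IsFinite (f₂.left ≫ T.hom) := by rw [Over.w f₂]; infer_instance
    exact IsFinite.of_comp f₂.left T.hom
  have : LocallyOfFiniteType T.hom := inferInstance
  have : LocallyOfFinitePresentation f₂.left := by
    have : LocallyOfFinitePresentation (f₂.left ≫ T.hom) := by rw [Over.w f₂]; infer_instance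
    exact Groth.Agent.Lib.Flat55.FibreTransfer.locallyOfFinitePresentation_of_comp (f := f₂.left) (g := T.hom) this inferInstance
  have : IsFinite (pullback.fst f₁ f₂).left := MorphismProperty.of_isPullback hsq.flip ‹IsFinite f₂.left›
  have : LocallyOfFinitePresentation (pullback.fst f₁ f₂).left :=
    MorphismProperty.of_isPullback hsq.flip ‹LocallyOfFinitePresentation f₂.left›
  have : IsFinite W.hom := by rw [← Over.w (pullback.fst f₁ f₂)]; infer_instance
  have : LocallyOfFinitePresentation W.hom := by rw [← Over.w (pullback.fst f₁ f₂)]; infer_instance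
  have : IsFinite P.hom := by
    have : IsFinite (φ₂.left ≫ G.hom) := by rw [Over.w φ₂]; infer_instance
    have : IsFinite φ₂.left := IsFinite.of_comp φ₂.left G.hom
    have : IsFinite π₁.left := MorphismProperty.of_isPullback (hP.map (Over.forget _)).flip ‹IsFinite φ₂.left›
    rw [← Over.w π₁]
    infer_instance
  obtain ⟨z₀⟩ : Nonempty (Spec (CommRingCat.of k)) := inferInstance
  have : Flat W.hom := by
    refine Groth.Agent.Lib.TorsorSch.FibreProd.flat_of_finrank W.hom (P.hom.finrank z₀) fun K _ g z => ?_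
    have hpc := NonAbH1.isPseudoTorsorSch_bc g hc
    have : IsFinite (Red.bc g W).hom := MorphismProperty.pullback_snd _ _ ‹IsFinite W.hom›
    have : IsFinite (Red.bc p P).hom := MorphismProperty.pullback_snd _ _ ‹IsFinite P.hom›
    have : IsFinite (Red.bc g (Red.bc p P)).hom := MorphismProperty.pullback_snd _ _ ‹IsFinite (Red.bc p P).hom›
    have : Nonempty (Red.bc g W).left := by
      obtain ⟨w, hw⟩ := W.hom.surjective (g z)
      obtain ⟨v, -, -⟩ := Scheme.Pullback.exists_preimage_pullback (f := W.hom) (g := g) w z hw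
      exact ⟨v⟩
    have h := Groth.Agent.Lib.TorsorSch.Field.finrank_eq hpc (𝟙 (Red.bc g W)) z
    refine h.trans ?_
    have : Flat P.hom := inferInstance
    have : Flat (Red.bc p P).hom := MorphismProperty.pullback_snd _ _ ‹Flat P.hom›
    have h1 : (Red.bc g (Red.bc p P)).hom.finrank z = (Red.bc p P).hom.finrank (g z) :=
      Scheme.Hom.finrank_pullback_snd (Red.bc p P).hom g z
    have h2 : (Red.bc p P).hom.finrank (g z) = P.hom.finrank (p (g z)) :=
      Scheme.Hom.finrank_pullback_snd P.hom p (g z)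
    rw [h1, h2, Subsingleton.elim (p (g z)) z₀]
  exact ⟨Presieve.singleton W.hom, Scheme.Hom.singleton_mem_fppfPrecoverage W.hom, fun S' g hg => by
    cases hg
    exact ⟨𝟙 _, Category.id_comp _⟩⟩

end Groth.Agent.S18764
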