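import Groth.Statements.S18773
import Groth.Agent.Lib.ShStab.BoundedFamily

set_option autoImplicit false
universe u
open CategoryTheory CategoryTheory.Limits AlgebraicGeometry
open VBCurve

namespace Groth.Agent.S18773

/-- Let k be algebraically closed of characteristic zero, Y a smooth proper k-scheme of dimension one,
possibly disconnected, L an ample invertible O_Y-module, r a natural number and d an integer, and S
a family of locally free O_Y-modules of rank r and degree d (degree χ(E) − r·χ(O_Y)). For a module M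
write χ for the Euler characteristic, M(n) = M ⊗ L^{⊗n} and α(M) = χ(M(1)) − χ(M) (the multiplicity:
leading coefficient of the Hilbert polynomial). Then S is bounded in the sense that for some n₀,
every E in S and every n ≥ n₀ have H¹(Y, E(n)) = 0 and E(n) globally generated, if and only if there
is a constant C such that for every E in S and every locally free quotient E → Q with α(Q) > 0 one
has χ(Q)/α(Q) − χ(E)/α(E) ≥ C (the minimal slope of a locally free quotient is at least the slope of
E plus C; slopes deg/α differ from χ/α by the constant χ(O_Y)/deg L). -/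
theorem result
    (k : Type u) [Field k] [IsAlgClosed k] [CharZero k]
    (Y : Scheme.{u}) [Y.Over (Spec (CommRingCat.of k))] [IsProper (Y ↘ Spec (CommRingCat.of k))]
    [Smooth (Y ↘ Spec (CommRingCat.of k))] (hdim : topologicalKrullDim Y = 1)
    (L : Y.Modules) (hL : CohB1.IsAmple L)
    (r : ℕ) (d : ℤ) (S : Set Y.Modules)
    (hS : ∀ E ∈ S, FlatMod.IsFinLocFreeOfRank r E ∧ Curv2.deg k Y E r = d) :
    (∃ n₀ : ℕ, ∀ n : ℕ, n₀ ≤ n → ∀ E ∈ S,
        Subsingleton (Coh.HH Y (CohB1.tensorMod E (CohB1.tensorPow L n)) 1) ∧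
        Curv2.IsGloballyGenerated (CohB1.tensorMod E (CohB1.tensorPow L n))) ↔
    (∃ C : ℤ, ∀ E ∈ S, ∀ (Q : Y.Modules) (p : E ⟶ Q), Epi p → FlatMod.IsFinLocFree Q →
        0 < Curv2.euler k Y (CohB1.tensorMod Q L) - Curv2.euler k Y Q →
        (C : ℚ) ≤ (Curv2.euler k Y Q : ℚ) / ((Curv2.euler k Y (CohB1.tensorMod Q L) - Curv2.euler k Y Q : ℤ) : ℚ)
          - (Curv2.euler k Y E : ℚ) / ((Curv2.euler k Y (CohB1.tensorMod E L) - Curv2.euler k Y E : ℤ) : ℚ)) := by
  open Groth.Agent.Lib Groth.Agent.Lib.ShStab in
    classical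
    haveI := Curves.GlobalSections.isNoetherian_of_proper k Y
    have hLi := (Ample.Pow.isAmple_iff.1 hL).1
    let s : ℚ := ((d + r * Curv2.euler k Y (Coh.structureModule Y) : ℤ) : ℚ) /
      (((r : ℤ) * (Curv2.euler k Y L - Curv2.euler k Y (Coh.structureModule Y)) : ℤ) : ℚ)
    have hs : ∀ E ∈ S, (Curv2.euler k Y E : ℚ) /
        ((Curv2.euler k Y (CohB1.tensorMod E L) - Curv2.euler k Y E : ℤ) : ℚ) = s := by
      intro E hE
      obtain ⟨hEr, hEd⟩ := hS E hE
      rw [BoundedFamily.alpha_bundle hLi hdim.le hEr]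
      have : Curv2.euler k Y E = d + r * Curv2.euler k Y (Coh.structureModule Y) := by
        unfold Curv2.deg at hEd
        linarith
      rw [this]
    constructor
    · rintro ⟨n₀, h⟩
      refine ⟨-(n₀ : ℤ) - ⌈s⌉, fun E hE Q p hp hQ hpos => ?_⟩
      haveI := hp
      have hq := BoundedFamily.quotient_slope hL hdim.le (CurveBundle.Coherent.isCoh (TensorMod.LocFree.of_rank (hS E hE).1))
        (CurveBundle.Coherent.isCoh hQ) p n₀ (h n₀ le_rfl E hE).1 hpos
      rw [hs E hE]
      have := Int.le_ceil s
      push_cast at hq ⊢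
      linarith
    · rintro ⟨C, hC⟩
      obtain ⟨t, ht, -, hcov⟩ := ComponentLine.exists_cover (Y := Y)
      have hb : ∀ U ∈ t, ∃ N : ℕ, ∀ n : ℕ, N ≤ n → ∀ E ∈ S,
          (letI := SurfRR.Components.overOpen (k := k) U
           Subsingleton (Coh.HH (↑U : Scheme.{u}) ((CohB1.tensorMod E (CohB1.tensorPow L n)).restrict U.ι) 1)) ∧
            Curv2.IsGloballyGenerated ((CohB1.tensorMod E (CohB1.tensorPow L n)).restrict U.ι) := fun U hU =>
        BoundedFamily.bounded_component (k := k) hL hdim.le (ht U hU) (fun E hE => (hS E hE).1) ((C : ℚ) + s)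
          fun E hE Q p hp hQ hpos => by
            have := hC E hE Q p hp hQ hpos
            rw [hs E hE] at this
            linarith
      choose! N hN using hb
      refine ⟨t.sup N, fun n hn E hE => ?_⟩
      have key := fun U (hU : U ∈ t) => hN U hU n ((Finset.le_sup hU).trans hn) E hE
      have hc : Coh.IsCoh (CohB1.tensorMod E (CohB1.tensorPow L n)) :=
        CurveBundle.Twist.isCoh (TensorMod.Invertible.isInvertible_tensorPow hLi n)
          (CurveBundle.Coherent.isCoh (TensorMod.LocFree.of_rank (hS E hE).1))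
      refine ⟨ComponentBounded.h1_of_parts k _ hc t ht (fun y h => ?_) (fun U hU => (key U hU).1),
        ComponentBounded.gg_of_cover (fun U : t => U.1) (fun U => (ht U.1 U.2).1) (fun y => ?_) _
          fun U => (key U.1 U.2).2⟩
      · obtain ⟨U, hU, hy⟩ := hcov y
        exact absurd hy (h U hU)
      · obtain ⟨U, hU, hy⟩ := hcov y
        exact ⟨⟨U, hU⟩, hy⟩


end Groth.Agent.S18773
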