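import Groth.Statements.S18774
import Groth.Agent.Lib.CurveBundle.Ctx

set_option autoImplicit false
universe u
open CategoryTheory CategoryTheory.Limits AlgebraicGeometry
open VBCurve

namespace Groth.Agent.S18774

/-- Let k be a finite field and C a smooth proper geometrically integral curve over k (proper, smooth
and geometrically integral over k, of dimension one), and write g = dim_k H^1(C, O_C). Let E be a
finite locally free O_C-module and F a finite locally free submodule of E of rank r' ≥ 1 (a
monomorphism F → E). Then deg F ≤ r' · (dim_k H^0(C, E) + g − 1), that is, the slope of F is at most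
h^0(C, E) + g − 1; here the degree of a rank-n locally free module G is χ(G) − n·χ(O_C). -/
theorem result (k : Type u) [Field k] [Finite k] (X : Scheme.{u}) [X.Over (Spec (CommRingCat.of k))]
    [IsProper (X ↘ Spec (CommRingCat.of k))] [Smooth (X ↘ Spec (CommRingCat.of k))]
    [GeometricallyIntegral (X ↘ Spec (CommRingCat.of k))] (hdim : topologicalKrullDim ↥X = 1)
    (E : X.Modules) (hE : FlatMod.IsFinLocFree E) (F : X.Modules) (r' : ℕ) (hr' : 0 < r')
    (hF : FlatMod.IsFinLocFreeOfRank r' F) (i : F ⟶ E) [Mono i] :
    Curv2.deg k X F r' ≤ (r' : ℤ) * ((Module.finrank k (Coh.HH X E 0) : ℤ) + (Curv2.genus k X : ℤ) - 1) := by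
  open Groth.Agent.Lib in
    have : GeometricallyConnected (X ↘ Spec (CommRingCat.of k)) := ⟨by
      intro K _ y Z a b h
      have : IrreducibleSpace Z := GeometricallyIrreducible.geometrically_irreducibleSpace
        (f := X ↘ Spec (CommRingCat.of k)) y a b h
      infer_instance⟩
    have := CurveBundle.Ctx.ofConnected k hdim
    have hi := this.integral
    have hFc := CurveBundle.Coherent.isCoh (TensorMod.LocFree.of_rank hF)
    have hEc := CurveBundle.Coherent.isCoh hE
    have hOc := CurveBundle.Coherent.isCoh (TensorMod.LocFree.of_rank
      (TensorMod.LocFree.of_isInvertible (PicLoc.isInvertible_structureModule X)))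
    have gF := CurveBundle.Ctx.good k hdim.le F hFc
    have gO := CurveBundle.Ctx.good k hdim.le _ hOc
    have := (CurveBundle.Ctx.good k hdim.le E hEc).fin₀
    have := gO.fin₀
    have h1 := Curves.Euler.hdim_zero_le_of_mono (k := k) i
    have h2 : 0 < Curves.Euler.hdim k X (Coh.structureModule X) 0 := by
      have hn : Nontrivial (X.presheaf.obj (Opposite.op ⊤)) := inferInstance
      have : Nontrivial (Coh.HH X (Coh.structureModule X) 0) :=
        (Curves.GlobalSections.h0Equiv (Coh.structureModule X)).toEquiv.nontrivial_congr.mpr hn
      exact Module.finrank_pos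
    have e1 := gF.euler
    have e2 := gO.euler
    unfold Curv2.deg Curv2.genus
    rw [e1, e2]
    simp only [Curves.Euler.hdim] at h1 h2 ⊢
    zify at h1 h2 hr'
    nlinarith

end Groth.Agent.S18774
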