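import Groth.Statements.S18776
import Groth.Agent.Lib.CurveBundle.GenusOneEmbed
import Groth.Agent.Lib.CurveBundle.RankTwoExt
import Groth.Agent.Lib.CurveBundle.Ctx
import Groth.Agent.Lib.CurveFF.Consts

set_option autoImplicit false
universe u
open CategoryTheory CategoryTheory.Limits AlgebraicGeometry
open VBCurve

namespace Groth.Agent.S18776

/-- Let k be a finite field and C a smooth proper geometrically integral curve over k (proper, smooth
and geometrically integral over k, of dimension one) of genus one, i.e. dim_k H^1(C, O_C) = 1, with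
a k-rational point O (an elliptic curve over k). Let F and F' be finite locally free O_C-modules of
ranks r ≥ 1 and s ≥ 1 such that F is semistable in the sense that deg G · rk F ≤ deg F · rk G for
every finite locally free submodule G of F of positive rank (the degree of a rank-n locally free
module being χ − n·χ(O_C)), and likewise for F'. Then for every finite locally free submodule G of F
⊗ F' of rank t ≥ 1 one has μ(G) − μ(F) − μ(F') ≤ 4, that is deg G · r · s ≤ t · (4 r s + deg F · s +
deg F' · r). (The published statement takes F and F' arbitrary; that form fails for F the direct sum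
of invertible modules of degrees 5 and −5 and F' = O_C, so both are taken semistable here, as the
published argument requires.) -/
theorem result (k : Type u) [Field k] [Finite k] (X : Scheme.{u}) [X.Over (Spec (CommRingCat.of k))]
    [IsProper (X ↘ Spec (CommRingCat.of k))] [Smooth (X ↘ Spec (CommRingCat.of k))]
    [GeometricallyIntegral (X ↘ Spec (CommRingCat.of k))] (hdim : topologicalKrullDim ↥X = 1)
    (hg : Curv2.genus k X = 1) (O : Spec (CommRingCat.of k) ⟶ X) (hO : O ≫ (X ↘ Spec (CommRingCat.of k)) = 𝟙 _)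
    (F F' : X.Modules) (r s : ℕ) (hr : 0 < r) (hs : 0 < s)
    (hF : FlatMod.IsFinLocFreeOfRank r F) (hF' : FlatMod.IsFinLocFreeOfRank s F')
    (hFss : (∀ (G : X.Modules) (r' : ℕ) (i : G ⟶ F), Mono i → 0 < r' → FlatMod.IsFinLocFreeOfRank r' G →
      Curv2.deg k X G r' * (r : ℤ) ≤ Curv2.deg k X F r * (r' : ℤ)))
    (hF'ss : (∀ (G : X.Modules) (r' : ℕ) (i : G ⟶ F'), Mono i → 0 < r' → FlatMod.IsFinLocFreeOfRank r' G →
      Curv2.deg k X G r' * (s : ℤ) ≤ Curv2.deg k X F' s * (r' : ℤ)))
    (G : X.Modules) (t : ℕ) (ht : 0 < t) (hG : FlatMod.IsFinLocFreeOfRank t G)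
    (i : G ⟶ CohB1.tensorMod F F') [Mono i] :
    Curv2.deg k X G t * (r : ℤ) * (s : ℤ) ≤
      (t : ℤ) * (4 * (r : ℤ) * (s : ℤ) + Curv2.deg k X F r * (s : ℤ) + Curv2.deg k X F' s * (r : ℤ)) := by
  have : GeometricallyConnected (X ↘ Spec (CommRingCat.of k)) :=
    ⟨fun K _ y Z p q h => by
      have : IrreducibleSpace Z := GeometricallyIrreducible.geometrically_irreducibleSpace y p q h
      infer_instance⟩
  have hC := Groth.Agent.Lib.CurveBundle.Ctx.ofConnected k hdim
  have := hC.integral
  have h0 := Groth.Agent.Lib.CurveFF.finrank_h0_eq_one k X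
  obtain ⟨-, -, -, edF⟩ := Groth.Agent.Lib.CurveBundle.Slope.bundle (k := k) hF
  obtain ⟨-, -, -, edF'⟩ := Groth.Agent.Lib.CurveBundle.Slope.bundle (k := k) hF'
  obtain ⟨-, -, -, edG⟩ := Groth.Agent.Lib.CurveBundle.Slope.bundle (k := k) hG
  obtain ⟨x, hx, -, hI, hId⟩ := Groth.Agent.Lib.CurveBundle.GenusOneEmbed.point_ideal (k := k) hdim O hO
  have hA1 : Groth.Agent.Lib.CurveBundle.Degree.dg k (Groth.Agent.Lib.TensorMod.Dual.dual
      (ClSub.idealMod (Groth.Agent.Lib.Curves.PointIdeal.ptI hx))) = 1 := by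
    rw [Groth.Agent.Lib.CurveBundle.H0Crit.dg_dual hI, hId]; rfl
  obtain ⟨L, hL, hLd⟩ := Groth.Agent.Lib.CurveBundle.RankTwoExt.exists_deg (k := k)
    (Groth.Agent.Lib.TensorMod.Invertible.isInvertible_dual hI) hA1 (Curv2.deg k X F r / (r : ℤ) + 2)
  have hr' : (0 : ℤ) < r := by exact_mod_cast hr
  have hdiv := Int.emod_add_mul_ediv (Curv2.deg k X F r) (r : ℤ)
  have hm0 := Int.emod_nonneg (Curv2.deg k X F r) hr'.ne'
  have hm1 := Int.emod_lt_of_pos (Curv2.deg k X F r) hr'
  obtain ⟨M, -, j, hj⟩ := Groth.Agent.Lib.CurveBundle.GenusOneEmbed.exists_mono (k := k) h0 hg hdim O hO hr hF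
    (Groth.Agent.Lib.CurveBundle.Slope.ss_of hF hFss) hL (by rw [hLd, ← edF]; linarith)
  have h := Groth.Agent.Lib.CurveBundle.GenusOneEmbed.slope_tensor_le (k := k) hF hs hF'
    (Groth.Agent.Lib.CurveBundle.Slope.ss_of hF' hF'ss) hL j hG i
  rw [← edG, ← edF', hLd] at h
  have ht' : (0 : ℤ) ≤ t := Int.natCast_nonneg t
  have hs' : (0 : ℤ) ≤ s := Int.natCast_nonneg s
  nlinarith [mul_le_mul_of_nonneg_left h hr'.le, mul_nonneg (mul_nonneg ht' hs') hm0, mul_nonneg (mul_nonneg ht' hs') hr'.le]

end Groth.Agent.S18776
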