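import Groth.Statements.S18783
import Groth.Agent.Lib.CurveBundle.NonGeom

set_option autoImplicit false
universe u
open CategoryTheory CategoryTheory.Limits AlgebraicGeometry
open VBCurve

namespace Groth.Agent.S18783

/-- Let k be a finite field and C a smooth proper geometrically integral curve over k (proper, smooth
and geometrically integral over k, of dimension one) of genus one, i.e. dim_k H^1(C, O_C) = 1, with
a k-rational point O (an elliptic curve over k); finiteness of k matters. Let G and G' be finite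
locally free O_C-modules of rank 2 such that G is indecomposable (nonzero, no isomorphism with a
direct sum of two nonzero modules) but not geometrically indecomposable (its pull-back to C_K splits
into two nonzero summands for some field extension K of k, taken in the universe of k), and likewise
G'; put E = O_C ⊕ G and E' = O_C ⊕ G' (rank 3). Let k₂ be a degree-2 field extension of k and π :
C_{k₂} → C the projection. Then E ≅ E' if and only if π^*E ≅ π^*E'. (The published setting takes k
of characteristic at least 5; the argument does not use this and the row allows every finite field.) -/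
theorem result (k : Type u) [Field k] [Finite k] (X : Scheme.{u}) [X.Over (Spec (CommRingCat.of k))]
    [IsProper (X ↘ Spec (CommRingCat.of k))] [Smooth (X ↘ Spec (CommRingCat.of k))]
    [GeometricallyIntegral (X ↘ Spec (CommRingCat.of k))] (hdim : topologicalKrullDim ↥X = 1)
    (hg : Curv2.genus k X = 1) (O : Spec (CommRingCat.of k) ⟶ X) (hO : O ≫ (X ↘ Spec (CommRingCat.of k)) = 𝟙 _)
    (G G' : X.Modules) (hG : FlatMod.IsFinLocFreeOfRank 2 G) (hG' : FlatMod.IsFinLocFreeOfRank 2 G')
    (hGi : (¬ IsZero G ∧ ∀ (E₁ E₂ : X.Modules), Nonempty (G ≅ E₁ ⊞ E₂) → IsZero E₁ ∨ IsZero E₂)) (hGng : (∃ (K : Type u) (_ : Field K) (_ : Algebra k K) (E₁ E₂ : (Curv2.bc k X K).Modules),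
      ¬ IsZero E₁ ∧ ¬ IsZero E₂ ∧ Nonempty ((Scheme.Modules.pullback (Curv2.bcFst k X K)).obj G ≅ E₁ ⊞ E₂)))
    (hG'i : (¬ IsZero G' ∧ ∀ (E₁ E₂ : X.Modules), Nonempty (G' ≅ E₁ ⊞ E₂) → IsZero E₁ ∨ IsZero E₂)) (hG'ng : (∃ (K : Type u) (_ : Field K) (_ : Algebra k K) (E₁ E₂ : (Curv2.bc k X K).Modules),
      ¬ IsZero E₁ ∧ ¬ IsZero E₂ ∧ Nonempty ((Scheme.Modules.pullback (Curv2.bcFst k X K)).obj G' ≅ E₁ ⊞ E₂)))
    (k₂ : Type u) [Field k₂] [Algebra k k₂] (hk₂ : Module.finrank k k₂ = 2) :
    Nonempty ((Coh.structureModule X ⊞ G) ≅ (Coh.structureModule X ⊞ G')) ↔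
      Nonempty ((Scheme.Modules.pullback (Curv2.bcFst k X k₂)).obj (Coh.structureModule X ⊞ G) ≅ (Scheme.Modules.pullback (Curv2.bcFst k X k₂)).obj (Coh.structureModule X ⊞ G')) := by
  refine ⟨fun ⟨φ⟩ => ⟨(Scheme.Modules.pullback (Curv2.bcFst k X k₂)).mapIso φ⟩, fun ⟨φ⟩ => ?_⟩
  open Groth.Agent.Lib Groth.Agent.Lib.CurveBundle in
    have hOr := TensorMod.LocFree.of_isInvertible (PicLoc.isInvertible_structureModule X)
    have hM : FlatMod.IsFinLocFree (Coh.structureModule X ⊞ G') :=
      TensorMod.LocFree.of_iso (biprod.isoCoprod _ _).symm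
        (TensorMod.LocFree.isFinLocFree_biprod (TensorMod.LocFree.of_rank hOr) (TensorMod.LocFree.of_rank hG'))
    obtain ⟨a, c, hac⟩ := NonGeom.exists_round_trip k hdim Nat.prime_two hG hGi hGng k₂ (Coherent.isCoh hM)
      ((Scheme.Modules.pullback (Curv2.bcFst k X k₂)).map biprod.inr ≫ φ.hom)
      (φ.inv ≫ (Scheme.Modules.pullback (Curv2.bcFst k X k₂)).map biprod.snd)
      (by rw [Category.assoc, Iso.hom_inv_id_assoc, ← Functor.map_comp, biprod.inr_snd, CategoryTheory.Functor.map_id])
    have hsum : (a ≫ biprod.fst) ≫ (biprod.inl ≫ c) + (a ≫ biprod.snd) ≫ (biprod.inr ≫ c) = a ≫ c := by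
      conv_rhs => rw [← Category.id_comp c, ← biprod.total]
      simp only [Preadditive.add_comp, Preadditive.comp_add, Category.assoc]
    haveI := (NonGeom.setup k hdim).1
    letI := (NonGeom.setup k hdim).1.integral
    by_cases h : (a ≫ biprod.fst) ≫ (biprod.inl ≫ c) = 0
    · rw [h, zero_add] at hsum
      haveI : IsIso ((a ≫ biprod.snd) ≫ (biprod.inr ≫ c)) := hsum ▸ hac
      obtain ⟨θ⟩ := BCSplit.iso_of_comp hG'i hGi.1 (a ≫ biprod.snd) (biprod.inr ≫ c)
      exact ⟨biprod.mapIso (Iso.refl _) θ⟩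
    · haveI := NonGeom.isIso_of_ne_zero k hdim Nat.prime_two hG hGi hGng _ h
      obtain ⟨θ⟩ := BCSplit.iso_of_comp (Indec.indecomposable_of_rank_one hOr) hGi.1 (a ≫ biprod.fst)
        (biprod.inl ≫ c)
      have := Rank.grank_congr θ
      rw [Rank.grank_eq_of_rank hG, Rank.grank_eq_of_rank hOr] at this
      exact absurd this (by norm_num)

end Groth.Agent.S18783
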