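import Groth.Statements.S18784
import Groth.Statements.S18784
import Groth.Agent.H56.CurveDual.Duality
import Groth.Agent.H56.CurveDual.Line
import Groth.Agent.H2.Rigid.H0
import Groth.Agent.Lib.TensorMod.QCohInv

set_option autoImplicit false
universe u
open CategoryTheory CategoryTheory.Limits AlgebraicGeometry
attribute [local instance] HasDerivedCategory.standard
open Curves

open Groth.Agent

namespace Groth.Agent.S18784

/-- Let k be a perfect field and X a proper scheme over k of dimension one which is geometrically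
connected and geometrically reduced over k, Gorenstein with trivial dualizing sheaf: its dualizing
module ω_X (the degree −1 cohomology sheaf of f^! O for the structure morphism f, assuming Rf_* on
D_QCoh and its right adjoint exist) is isomorphic to O_X. Let D be an effective Cartier divisor on X
of positive degree, given here as an invertible module L = O_X(D) with a monomorphism s : O_X → L
and deg L = χ(L) − χ(O_X) > 0. Then H^1(X, O_X(D)) = 0. (The first assertion of the lemma, H^0(X,
O_X) = k, is not restated.) -/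
theorem result (k : Type u) [Field k] [PerfectField k]
    (X : Scheme.{u}) [X.Over (Spec (CommRingCat.of k))] [IsProper (X ↘ Spec (CommRingCat.of k))]
    [GeometricallyConnected (X ↘ Spec (CommRingCat.of k))] [GeometricallyReduced (X ↘ Spec (CommRingCat.of k))]
    (hdim : topologicalKrullDim ↥X = 1)
    [DCoh.HasRpush (X ↘ Spec (CommRingCat.of k))] (h : DCoh.RpushPreservesQCoh (X ↘ Spec (CommRingCat.of k))) [DCoh.HasShriek (X ↘ Spec (CommRingCat.of k)) h]
    (OY : DCoh.DQCoh (Spec (CommRingCat.of k))) (hOY : Nonempty (OY.obj ≅ DCoh.inD (Spec (CommRingCat.of k)) (Coh.structureModule (Spec (CommRingCat.of k)))))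
    (hω : Nonempty (DCoh.dualizingMod (X ↘ Spec (CommRingCat.of k)) h OY 1 ≅ Coh.structureModule X))
    (L : X.Modules) (hL : PicF.IsInvertible L) (s : Coh.structureModule X ⟶ L) [Mono s]
    (hdeg : 0 < Curv2.deg k X L 1) :
    Subsingleton (Coh.HH X L 1) := by
  let f := X ↘ Spec (CommRingCat.of k)
  haveI := LocallyOfFiniteType.isLocallyNoetherian f
  haveI : Nonempty X := by
    by_contra hne
    haveI : IsEmpty X := not_nonempty_iff.1 hne
    have hbot : topologicalKrullDim ↥X = ⊥ := by
      unfold topologicalKrullDim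
      rw [Order.krullDim_eq_bot_iff]
      exact ⟨fun Z => IsEmpty.false (Z.isIrreducible.1.some)⟩
    rw [hbot] at hdim
    exact WithBot.bot_ne_coe hdim
  obtain ⟨eO⟩ := hOY
  by_contra hne
  obtain ⟨g, hg⟩ : ∃ g : L ⟶ DCoh.dualizingMod f h OY 1, g ≠ 0 := by
    by_contra hh
    push Not at hh
    exact hne (H56.CurveDual.Duality.subsingleton_HH_one f hdim.le h (DCoh.shriek f h)
      (DCoh.shriekAdj f h) OY eO L (Lib.TensorMod.QCohInv.isQCoh_of_isInvertible hL) hh)
  obtain ⟨eω⟩ := hω
  let r : L ⟶ Coh.structureModule X := g ≫ eω.hom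
  by_cases hc : s ≫ r = 0
  · exact hg ((cancel_mono eω.hom).1 ((H56.CurveDual.Line.eq_zero_of_comp hL s r hc).trans zero_comp.symm))
  have hsurj : Function.Surjective f.appTop.hom :=
    (H2.Rigid.H0.of_geometrically f).isPullback (pt := 𝟙 _) (p₁ := 𝟙 X) (p₂ := f)
      (IsPullback.of_horiz_isIso ⟨by simp⟩)
  haveI : IsIso (s ≫ r) := by
    refine H56.CurveDual.Line.isIso_of_isUnit _ ?_
    let a : Γ(X, ⊤) := (s ≫ r).app ⊤ (Lib.TensorMod.Gen.one X ⊤)
    obtain ⟨b, hb⟩ := hsurj a
    let b' : k := (Scheme.ΓSpecIso (CommRingCat.of k)).hom.hom b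
    by_cases hb0 : b' = 0
    · exfalso
      apply hc
      have hbz : b = 0 := (ConcreteCategory.bijective_of_isIso (Scheme.ΓSpecIso (CommRingCat.of k)).hom).1
        (hb0.trans (map_zero _).symm)
      refine H56.CurveDual.Line.eq_zero_of_app_one _ ?_
      exact hb.symm.trans ((congrArg f.appTop.hom hbz).trans (map_zero _))
    · have hbu : IsUnit b := by
        have h1 : IsUnit b' := isUnit_iff_ne_zero.2 hb0
        have h2 := h1.map (Scheme.ΓSpecIso (CommRingCat.of k)).inv.hom
        rwa [show (Scheme.ΓSpecIso (CommRingCat.of k)).inv.hom b' = b from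
          congrArg (fun t => t.hom b) (Scheme.ΓSpecIso (CommRingCat.of k)).hom_inv_id] at h2
      have h3 : IsUnit a := hb ▸ hbu.map f.appTop.hom
      exact h3
  haveI := H56.CurveDual.Line.isIso_of_retraction hL s (r ≫ CategoryTheory.inv (s ≫ r))
    (by rw [← Category.assoc, IsIso.hom_inv_id])
  rw [H56.CurveDual.Line.deg_eq_zero_of_iso k (asIso s)] at hdeg
  exact lt_irrefl _ hdeg

end Groth.Agent.S18784
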