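import Groth.Statements.S18786
import Groth.Agent.Lib.CurveBundle.NonGeom

set_option autoImplicit false
universe u
open CategoryTheory CategoryTheory.Limits AlgebraicGeometry
open VBCurve

namespace Groth.Agent.S18786

/-- Let k be a finite field and C a smooth proper geometrically integral curve over k (proper, smooth
and geometrically integral over k, of dimension one) of genus one, i.e. dim_k H^1(C, O_C) = 1, with
a k-rational point O (an elliptic curve over k); k is finite with q elements. Let G be a finite
locally free O_C-module of rank 2 and degree 0 (the degree of a rank-n locally free module being χ −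
n·χ(O_C)) which is indecomposable (nonzero, no isomorphism with a direct sum of two nonzero modules)
but not geometrically indecomposable (its pull-back to C_K splits into two nonzero summands for some
field extension K of k, taken in the universe of k), and put E = O_C ⊕ G. Then Aut(E) has exactly (q
− 1)(q² − 1) elements. (The accompanying bound on the number of isomorphism classes of such E is not
restated.) (The published setting takes k of characteristic at least 5; the argument does not use
this and the row allows every finite field.) -/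
theorem result (k : Type u) [Field k] [Finite k] (X : Scheme.{u}) [X.Over (Spec (CommRingCat.of k))]
    [IsProper (X ↘ Spec (CommRingCat.of k))] [Smooth (X ↘ Spec (CommRingCat.of k))]
    [GeometricallyIntegral (X ↘ Spec (CommRingCat.of k))] (hdim : topologicalKrullDim ↥X = 1)
    (hg : Curv2.genus k X = 1) (O : Spec (CommRingCat.of k) ⟶ X) (hO : O ≫ (X ↘ Spec (CommRingCat.of k)) = 𝟙 _)
    (G : X.Modules) (hG : FlatMod.IsFinLocFreeOfRank 2 G) (hdeg : Curv2.deg k X G 2 = 0)
    (hGi : (¬ IsZero G ∧ ∀ (E₁ E₂ : X.Modules), Nonempty (G ≅ E₁ ⊞ E₂) → IsZero E₁ ∨ IsZero E₂)) (hGng : (∃ (K : Type u) (_ : Field K) (_ : Algebra k K) (E₁ E₂ : (Curv2.bc k X K).Modules),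
      ¬ IsZero E₁ ∧ ¬ IsZero E₂ ∧ Nonempty ((Scheme.Modules.pullback (Curv2.bcFst k X K)).obj G ≅ E₁ ⊞ E₂))) :
    Nat.card (Aut (Coh.structureModule X ⊞ G)) = (Nat.card k - 1) * (Nat.card k ^ 2 - 1) := by
  open Groth.Agent.Lib Groth.Agent.Lib.CurveBundle in
    obtain ⟨hOG, hGO⟩ := NonGeom.hom_eq_zero k hdim hG hdeg hGi hGng
    haveI := (NonGeom.setup k hdim).1
    letI := (NonGeom.setup k hdim).1.integral
    cases nonempty_fintype k
    letI := EndAlg.algEnd k G
    obtain ⟨f, -, hfi, hfd, e, -⟩ := NonGeom.endField k hdim Nat.prime_two hG hGi hGng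
    haveI : Fact (Irreducible f) := ⟨hfi⟩
    haveI : Module.Finite k (AdjoinRoot f) := (AdjoinRoot.powerBasis hfi.ne_zero).finite
    haveI : Finite (AdjoinRoot f) := Module.finite_of_finite k
    cases nonempty_fintype (AdjoinRoot f)
    haveI : Subsingleton (Coh.structureModule X ⟶ G) := ⟨fun s t => (hOG s).trans (hOG t).symm⟩
    haveI : Subsingleton (G ⟶ Coh.structureModule X) := ⟨fun s t => (hGO s).trans (hGO t).symm⟩
    have hO := PicLoc.isInvertible_structureModule X
    rw [AutCount.card_aut_biprod (fun p q => by rw [hOG p, Limits.zero_comp]),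
      AutCount.card_aut_one (RingEquiv.ofBijective _
        (AutCount.bijective_scal (NonGeom.setup k hdim).2 hO (AutCount.not_isZero (k := k) hO))),
      AutCount.card_aut_one e.toRingEquiv, Nat.card_of_subsingleton (0 : Coh.structureModule X ⟶ G),
      Nat.card_of_subsingleton (0 : G ⟶ Coh.structureModule X),
      Module.natCard_eq_pow_finrank (K := k) (V := AdjoinRoot f), (AdjoinRoot.powerBasis hfi.ne_zero).finrank,
      AdjoinRoot.powerBasis_dim, hfd, mul_one, mul_one]

end Groth.Agent.S18786
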