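import Groth.Statements.S18787
import Groth.Agent.Lib.CurveBundle.AutCount

set_option autoImplicit false
universe u
open CategoryTheory CategoryTheory.Limits AlgebraicGeometry
open VBCurve

namespace Groth.Agent.S18787

/-- Let k be a finite field and C a smooth proper geometrically integral curve over k (proper, smooth
and geometrically integral over k, of dimension one) of genus one, i.e. dim_k H^1(C, O_C) = 1, with
a k-rational point O (an elliptic curve over k); k is finite with q elements. Let L₁ and L₂ be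
invertible O_C-modules of degree 0 (χ(L) − χ(O_C) = 0) and E = O_C ⊕ L₁ ⊕ L₂. Then the number of
automorphisms of E is: (q³ − 1)(q³ − q)(q³ − q²) if L₁ ≅ L₂ ≅ O_C; (q − 1)³ (q + 1) q if L₁ ≅ L₂ and
L₁ ≇ O_C; (q − 1)³ (q + 1) q if L₁ ≇ L₂ and L₂ ≅ O_C; and (q − 1)³ if O_C, L₁, L₂ are pairwise
non-isomorphic. (In the third case the published value is (q − 1)² q³, and the published computation
gives (q − 1)³ q²; but there E ≅ O_C ⊕ O_C ⊕ L₁ with L₁ of degree 0 and non-trivial, whose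
endomorphism ring is M₂(k) × k, so Aut(E) ≅ GL₂(k) × kˣ has (q − 1)³ (q + 1) q elements, the same
count as in the second case; the row states this corrected value.) (The published setting takes k of
characteristic at least 5; the argument does not use this and the row allows every finite field.) -/
theorem result (k : Type u) [Field k] [Finite k] (X : Scheme.{u}) [X.Over (Spec (CommRingCat.of k))]
    [IsProper (X ↘ Spec (CommRingCat.of k))] [Smooth (X ↘ Spec (CommRingCat.of k))]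
    [GeometricallyIntegral (X ↘ Spec (CommRingCat.of k))] (hdim : topologicalKrullDim ↥X = 1)
    (hg : Curv2.genus k X = 1) (O : Spec (CommRingCat.of k) ⟶ X) (hO : O ≫ (X ↘ Spec (CommRingCat.of k)) = 𝟙 _)
    (L₁ L₂ : X.Modules) (hL₁ : PicF.IsInvertible L₁) (hL₂ : PicF.IsInvertible L₂)
    (hd₁ : Curv2.deg k X L₁ 1 = 0) (hd₂ : Curv2.deg k X L₂ 1 = 0) :
    (Nonempty (L₁ ≅ Coh.structureModule X) → Nonempty (L₂ ≅ Coh.structureModule X) →
      Nat.card (Aut (Coh.structureModule X ⊞ L₁ ⊞ L₂)) =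
        (Nat.card k ^ 3 - 1) * (Nat.card k ^ 3 - Nat.card k) * (Nat.card k ^ 3 - Nat.card k ^ 2)) ∧
    (Nonempty (L₁ ≅ L₂) → ¬ Nonempty (L₁ ≅ Coh.structureModule X) →
      Nat.card (Aut (Coh.structureModule X ⊞ L₁ ⊞ L₂)) = (Nat.card k - 1) ^ 3 * (Nat.card k + 1) * Nat.card k) ∧
    (¬ Nonempty (L₁ ≅ L₂) → Nonempty (L₂ ≅ Coh.structureModule X) →
      Nat.card (Aut (Coh.structureModule X ⊞ L₁ ⊞ L₂)) = (Nat.card k - 1) ^ 3 * (Nat.card k + 1) * Nat.card k) ∧
    (¬ Nonempty (L₁ ≅ Coh.structureModule X) → ¬ Nonempty (L₂ ≅ Coh.structureModule X) → ¬ Nonempty (L₁ ≅ L₂) →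
      Nat.card (Aut (Coh.structureModule X ⊞ L₁ ⊞ L₂)) = (Nat.card k - 1) ^ 3) := by
  open Groth.Agent.Lib.CurveBundle.AutCount in
    have : GeometricallyConnected (X ↘ Spec (CommRingCat.of k)) :=
      ⟨fun K _ y Z p q h => by
        have : IrreducibleSpace Z := GeometricallyIrreducible.geometrically_irreducibleSpace y p q h
        infer_instance⟩
    have hC := Groth.Agent.Lib.CurveBundle.Ctx.ofConnected k hdim
    have := hC.integral
    cases nonempty_fintype k
    have hs := cst_surjective (k := k) (X := X)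
    have hO' : PicF.IsInvertible (Coh.structureModule X) := PicLoc.isInvertible_structureModule X
    have hd0 : Curv2.deg k X (Coh.structureModule X) 1 = 0 := by simp [Curv2.deg]
    let κ : ∀ {L : X.Modules}, PicF.IsInvertible L → k ≃+* End L := fun hL =>
      RingEquiv.ofBijective _ (bijective_scal hs hL (not_isZero (k := k) hL))
    have hz : ∀ {L M : X.Modules}, PicF.IsInvertible L → PicF.IsInvertible M → Curv2.deg k X L 1 = 0 →
        Curv2.deg k X M 1 = 0 → ¬ Nonempty (L ≅ M) → Nat.card (L ⟶ M) = 1 ∧ ∀ f : L ⟶ M, f = 0 := by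
      intro L M hL hM a b hne
      have h0 := hom_eq_zero (k := k) hL hM (a.trans b.symm) hne
      have : Subsingleton (L ⟶ M) := ⟨fun f g => (h0 f).trans (h0 g).symm⟩
      exact ⟨Nat.card_of_subsingleton 0, h0⟩
    have mix : ∀ {L M : X.Modules}, PicF.IsInvertible L → PicF.IsInvertible M → Curv2.deg k X L 1 = 0 →
        Curv2.deg k X M 1 = 0 → ¬ Nonempty (L ≅ M) →
        Nat.card (Aut (L ⊞ (M ⊞ M))) = (Nat.card k - 1) ^ 3 * (Nat.card k + 1) * Nat.card k := by
      intro L M hL hM a b hne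
      obtain ⟨-, hLM⟩ := hz hL hM a b hne
      obtain ⟨-, hML⟩ := hz hM hL b a (fun ⟨e⟩ => hne ⟨e.symm⟩)
      have hfwd : ∀ f : L ⟶ M ⊞ M, f = 0 := fun f => biprod.hom_ext _ _ (by simp [hLM]) (by simp [hLM])
      have hbwd : ∀ f : M ⊞ M ⟶ L, f = 0 := fun f => biprod.hom_ext' _ _ (by simp [hML]) (by simp [hML])
      have : Subsingleton (L ⟶ M ⊞ M) := ⟨fun f g => (hfwd f).trans (hfwd g).symm⟩
      have : Subsingleton (M ⊞ M ⟶ L) := ⟨fun f g => (hbwd f).trans (hbwd g).symm⟩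
      rw [card_aut_biprod (fun p q => by rw [hfwd p, zero_comp]), card_aut_one (κ hL), card_aut_two (κ hM),
        Nat.card_of_subsingleton (0 : L ⟶ M ⊞ M), Nat.card_of_subsingleton (0 : M ⊞ M ⟶ L)]
      have hq : 1 ≤ Nat.card k := Nat.card_pos
      generalize Nat.card k = q at hq
      have h2 : q ≤ q ^ 2 := Nat.le_self_pow two_ne_zero q
      have h1 : 1 ≤ q ^ 2 := hq.trans h2
      zify [hq, h1, h2]
      ring
    refine ⟨?_, ?_, ?_, ?_⟩
    · rintro ⟨e₁⟩ ⟨e₂⟩
      rw [card_aut_congr (biprod.mapIso (Iso.refl (Coh.structureModule X)) (biprod.mapIso e₁ e₂) ≪≫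
        (biprod.associator _ _ _).symm), card_aut_three (κ hO')]
    · rintro ⟨e⟩ hne
      rw [card_aut_congr (biprod.mapIso (Iso.refl (Coh.structureModule X)) (biprod.mapIso (Iso.refl L₁) e.symm))]
      exact mix hO' hL₁ hd0 hd₁ (fun ⟨i⟩ => hne ⟨i.symm⟩)
    · rintro hne ⟨e⟩
      rw [card_aut_congr (biprod.mapIso (Iso.refl (Coh.structureModule X)) (biprod.mapIso (Iso.refl L₁) e) ≪≫
        biprod.braiding _ _ ≪≫ biprod.associator _ _ _)]
      exact mix hL₁ hO' hd₁ hd0 (fun ⟨i⟩ => hne ⟨i ≪≫ e.symm⟩)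
    · intro h1 h2 h12
      obtain ⟨-, z1⟩ := hz hO' hL₁ hd0 hd₁ (fun ⟨i⟩ => h1 ⟨i.symm⟩)
      obtain ⟨-, z1'⟩ := hz hL₁ hO' hd₁ hd0 h1
      obtain ⟨-, z2⟩ := hz hO' hL₂ hd0 hd₂ (fun ⟨i⟩ => h2 ⟨i.symm⟩)
      obtain ⟨-, z2'⟩ := hz hL₂ hO' hd₂ hd0 h2
      obtain ⟨c3, z3⟩ := hz hL₁ hL₂ hd₁ hd₂ h12
      obtain ⟨c3', -⟩ := hz hL₂ hL₁ hd₂ hd₁ (fun ⟨i⟩ => h12 ⟨i.symm⟩)
      have hf : ∀ f : Coh.structureModule X ⟶ L₁ ⊞ L₂, f = 0 := fun f =>
        biprod.hom_ext _ _ (by simp [z1]) (by simp [z2])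
      have hb : ∀ f : L₁ ⊞ L₂ ⟶ Coh.structureModule X, f = 0 := fun f =>
        biprod.hom_ext' _ _ (by simp [z1']) (by simp [z2'])
      have : Subsingleton (Coh.structureModule X ⟶ L₁ ⊞ L₂) := ⟨fun f g => (hf f).trans (hf g).symm⟩
      have : Subsingleton (L₁ ⊞ L₂ ⟶ Coh.structureModule X) := ⟨fun f g => (hb f).trans (hb g).symm⟩
      rw [card_aut_biprod (fun p q => by rw [hf p, zero_comp]),
        card_aut_biprod (fun p q => by rw [z3 p, zero_comp]), card_aut_one (κ hO'), card_aut_one (κ hL₁),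
        card_aut_one (κ hL₂), c3, c3', Nat.card_of_subsingleton (0 : Coh.structureModule X ⟶ L₁ ⊞ L₂),
        Nat.card_of_subsingleton (0 : L₁ ⊞ L₂ ⟶ Coh.structureModule X)]
      ring

end Groth.Agent.S18787
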