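import Groth.Statements.S18788
import Groth.Agent.Lib.CurveBundle.AutCount

set_option autoImplicit false
universe u
open CategoryTheory CategoryTheory.Limits AlgebraicGeometry
open VBCurve

namespace Groth.Agent.S18788

/-- Let k be a finite field and C a smooth proper geometrically integral curve over k (proper, smooth
and geometrically integral over k, of dimension one) of genus one, i.e. dim_k H^1(C, O_C) = 1, with
a k-rational point O (an elliptic curve over k); k is finite with q elements. Let F be an O_C-module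
with a short exact sequence 0 → O_C → F → O_C → 0 that does not split, and L an invertible
O_C-module of degree 0 (χ(L) − χ(O_C) = 0). Then Aut(O_C ⊕ F) has (q − 1)² q³ elements, and if L ≇
O_C then Aut(O_C ⊕ (L ⊗ F)) has (q − 1)² q elements. (The source states this for E = O_C ⊕ G with G
a geometrically indecomposable rank-2 bundle of degree 0, which it writes as L ⊗ F with F the
non-split self-extension of O_C by a classification it quotes; the row takes G in that form
directly. The accompanying count of isomorphism classes is not restated.) (The published setting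
takes k of characteristic at least 5; the argument does not use this and the row allows every finite
field.) -/
theorem result (k : Type u) [Field k] [Finite k] (X : Scheme.{u}) [X.Over (Spec (CommRingCat.of k))]
    [IsProper (X ↘ Spec (CommRingCat.of k))] [Smooth (X ↘ Spec (CommRingCat.of k))]
    [GeometricallyIntegral (X ↘ Spec (CommRingCat.of k))] (hdim : topologicalKrullDim ↥X = 1)
    (hg : Curv2.genus k X = 1) (O : Spec (CommRingCat.of k) ⟶ X) (hO : O ≫ (X ↘ Spec (CommRingCat.of k)) = 𝟙 _)
    (T : ShortComplex X.Modules) (hT : T.ShortExact)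
    (e₁ : T.X₁ ≅ Coh.structureModule X) (e₃ : T.X₃ ≅ Coh.structureModule X) (hns : ¬ IsSplitEpi T.g)
    (L : X.Modules) (hL : PicF.IsInvertible L) (hdeg : Curv2.deg k X L 1 = 0) :
    Nat.card (Aut (Coh.structureModule X ⊞ T.X₂)) = (Nat.card k - 1) ^ 2 * Nat.card k ^ 3 ∧
    (¬ Nonempty (L ≅ Coh.structureModule X) →
      Nat.card (Aut (Coh.structureModule X ⊞ CohB1.tensorMod L T.X₂)) = (Nat.card k - 1) ^ 2 * Nat.card k) := by
  open Groth.Agent.Lib Groth.Agent.Lib.CurveBundle Groth.Agent.Lib.CurveBundle.AutCount Groth.Agent.Lib.TensorMod.Basic in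
    have : GeometricallyConnected (X ↘ Spec (CommRingCat.of k)) :=
      ⟨fun K _ y Z p q h => by
        have : IrreducibleSpace Z := GeometricallyIrreducible.geometrically_irreducibleSpace y p q h
        infer_instance⟩
    have hC := CurveBundle.Ctx.ofConnected k hdim
    have := hC.integral
    cases nonempty_fintype k
    have hs := AutCount.cst_surjective (k := k) (X := X)
    have hO' : PicF.IsInvertible (Coh.structureModule X) := PicLoc.isInvertible_structureModule X
    have hd0 : Curv2.deg k X (Coh.structureModule X) 1 = 0 := by simp [Curv2.deg]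
    let κ : k ≃+* End (Coh.structureModule X) :=
      RingEquiv.ofBijective _ (bijective_scal hs hO' (not_isZero (k := k) hO'))
    let S : k →+* End T.X₂ := (EndAlg.scalHom T.X₂).comp (EndAlg.cst X k)
    let m : k → (Coh.structureModule X ⟶ Coh.structureModule X) := fun c => κ c
    let sc : k → (T.X₂ ⟶ T.X₂) := fun c => S c
    let i : Coh.structureModule X ⟶ T.X₂ := e₁.inv ≫ T.f
    let g : T.X₂ ⟶ Coh.structureModule X := T.g ≫ e₃.hom
    haveI := hT.mono_f
    haveI := hT.epi_g
    haveI : Mono i := mono_comp _ _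
    haveI : Epi g := epi_comp _ _
    have hig : i ≫ g = 0 := by simp [i, g, T.zero_assoc]
    have him : ∀ c, sc c = EndAlg.scal T.X₂ (EndAlg.cst X k c) := fun c => rfl
    have hm : ∀ c, m c = EndAlg.scal (Coh.structureModule X) (EndAlg.cst X k c) := fun c => rfl
    have hisc : ∀ c, i ≫ sc c = m c ≫ i := fun c => by rw [him, hm, EndAlg.scal_comm]
    have hscg : ∀ c, sc c ≫ g = g ≫ m c := fun c => by rw [him, hm, EndAlg.scal_comm]
    have mz : m 0 = 0 := map_zero κ
    have m1 : m 1 = 𝟙 _ := map_one κ
    have madd : ∀ a b, m (a + b) = m a + m b := fun a b => map_add κ a b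
    have mmul : ∀ a b, m a ≫ m b = m (b * a) := fun a b => (map_mul κ b a).symm
    have minj : Function.Injective m := κ.injective
    have msurj : Function.Surjective m := κ.surjective
    have munit : ∀ c, c ≠ 0 → IsIso (m c) := fun c hc =>
      ⟨m c⁻¹, by rw [mmul, inv_mul_cancel₀ hc, m1], by rw [mmul, mul_inv_cancel₀ hc, m1]⟩
    have hspl : ∀ r : T.X₂ ⟶ T.X₁, T.f ≫ r = 𝟙 _ → False := fun r hr =>
      hns (IsSplitEpi.mk' ⟨(ShortComplex.Splitting.ofExactOfRetraction T hT.exact r hr hT.epi_g).s,
        (ShortComplex.Splitting.ofExactOfRetraction T hT.exact r hr hT.epi_g).s_g⟩)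
    -- maps `O → F`
    have bOF : Function.Bijective fun c : k => m c ≫ i := by
      refine ⟨fun a b h => minj ((cancel_mono i).1 h), fun s => ?_⟩
      obtain ⟨c, hc⟩ := msurj (s ≫ g)
      have hc0 : c = 0 := by
        by_contra h
        haveI := munit c h
        refine hns (IsSplitEpi.mk' ⟨e₃.hom ≫ inv (m c) ≫ s, ?_⟩)
        rw [← cancel_mono e₃.hom]
        simp only [Category.assoc, Category.id_comp]
        rw [show s ≫ T.g ≫ e₃.hom = m c from hc.symm, IsIso.inv_hom_id, Category.comp_id]
      rw [hc0, mz] at hc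
      have h0 : s ≫ T.g = 0 := by
        rw [← cancel_mono e₃.hom, Category.assoc, zero_comp]; exact hc.symm
      obtain ⟨d, hd⟩ := msurj (hT.exact.lift s h0 ≫ e₁.hom)
      exact ⟨d, by simp [hd, i]⟩
    -- maps `F → O`
    have bFO : Function.Bijective fun c : k => g ≫ m c := by
      refine ⟨fun a b h => minj ((cancel_epi g).1 h), fun v => ?_⟩
      obtain ⟨c, hc⟩ := msurj (i ≫ v)
      have hc0 : c = 0 := by
        by_contra h
        haveI := munit c h
        refine hspl (v ≫ inv (m c) ≫ e₁.inv) ?_
        rw [← cancel_epi e₁.inv]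
        simp only [Category.comp_id]
        rw [← reassoc_of% (show m c = e₁.inv ≫ T.f ≫ v by simpa [i] using hc), IsIso.hom_inv_id_assoc]
      rw [hc0, mz] at hc
      have h0 : T.f ≫ v = 0 := by
        rw [← cancel_epi e₁.inv, comp_zero]; simpa [i] using hc.symm
      obtain ⟨d, hd⟩ := msurj (e₃.inv ≫ hT.exact.desc v h0)
      exact ⟨d, by simp [hd, g]⟩
    -- endomorphisms of `F`
    let Φ : k × k → (T.X₂ ⟶ T.X₂) := fun p => sc p.1 + g ≫ m p.2 ≫ i
    have iΦ : ∀ p, i ≫ Φ p = m p.1 ≫ i := fun p => by simp [Φ, hisc, reassoc_of% hig]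
    have bEnd : Function.Bijective Φ := by
      refine ⟨fun p p' h => ?_, fun φ => ?_⟩
      · have h1 : p.1 = p'.1 := minj ((cancel_mono i).1 (by rw [← iΦ, ← iΦ, h]))
        have h2 := h
        simp only [Φ, h1, add_right_inj] at h2
        exact Prod.ext h1 (minj ((cancel_mono i).1 ((cancel_epi g).1 h2)))
      · obtain ⟨c, hc⟩ := bOF.2 (i ≫ φ)
        have h0 : T.f ≫ (φ - sc c) = 0 := by
          rw [← cancel_epi e₁.inv, comp_zero, ← Category.assoc, Preadditive.comp_sub]
          exact sub_eq_zero.2 (hc.symm.trans (hisc c).symm)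
        obtain ⟨d, hd⟩ := bOF.2 (e₃.inv ≫ hT.exact.desc (φ - sc c) h0)
        refine ⟨(c, d), ?_⟩
        have : g ≫ m d ≫ i = φ - sc c := by
          rw [show m d ≫ i = e₃.inv ≫ hT.exact.desc (φ - sc c) h0 from hd]; simp [g]
        simp [Φ, this]
    have scmul : ∀ a b, sc a ≫ sc b = sc (b * a) := fun a b => (map_mul S b a).symm
    have sc1 : sc 1 = 𝟙 _ := map_one S
    have sc0 : sc 0 = 0 := map_zero S
    have Φmul : ∀ p p', Φ p ≫ Φ p' = Φ (p'.1 * p.1, p'.2 * p.1 + p'.1 * p.2) := fun p p' => by
      simp only [Φ, Preadditive.add_comp, Preadditive.comp_add, Category.assoc, scmul,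
        reassoc_of% hscg, hisc, reassoc_of% hig, reassoc_of% (mmul _ _), madd, comp_zero, zero_comp, add_zero]
      abel
    have Φone : Φ (1, 0) = 𝟙 _ := by simp [Φ, sc1, mz]
    have hiso : ∀ p, IsIso (Φ p) ↔ p.1 ≠ 0 := fun p => by
      constructor
      · intro h hp
        have h1 := iΦ p
        rw [hp, mz, zero_comp] at h1
        have h2 : i = 0 := by rw [← cancel_mono (Φ p), h1, zero_comp]
        exact not_isZero (k := k) hO' (IsZero.of_mono_eq_zero i h2)
      · intro hp
        refine ⟨Φ (p.1⁻¹, -(p.1⁻¹ * p.1⁻¹ * p.2)), ?_, ?_⟩ <;> rw [Φmul, ← Φone] <;> congr 2 <;> field_simp <;> ring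
    have cF : Nat.card (Aut T.X₂) = (Nat.card k - 1) * Nat.card k := by
      rw [Nat.card_congr (autEquiv T.X₂),
        ← Nat.card_congr ((Equiv.ofBijective Φ bEnd).subtypeEquiv (p := fun p : k × k => p.1 ≠ 0)
          (q := fun f => IsIso f) fun p => (hiso p).symm),
        Nat.card_congr (Equiv.prodSubtypeFstEquivSubtypeProd (p := fun c : k => c ≠ 0)).symm.symm,
        Nat.card_prod, ← Nat.card_congr (unitsEquivNeZero (G₀ := k)), Nat.card_units]
    refine ⟨?_, fun hne => ?_⟩
    · rw [card_aut_biprod (fun p q => ?_), card_aut_one κ, cF, ← Nat.card_eq_of_bijective _ bOF,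
        ← Nat.card_eq_of_bijective _ bFO]
      · ring
      · obtain ⟨a, rfl⟩ := bOF.2 p
        obtain ⟨b, rfl⟩ := bFO.2 q
        simp [reassoc_of% hig]
    · haveI := Twist.isEquivalence hL
      let c : CohB1.tensorMod L T.X₂ ≅ (tensorBy L).obj T.X₂ := comm _ _
      have hS := Twist.shortExact hL hT
      have z : ∀ f : Coh.structureModule X ⟶ L, f = 0 :=
        hom_eq_zero (k := k) hO' hL (hd0.trans hdeg.symm) (fun ⟨e⟩ => hne ⟨e.symm⟩)
      have z' : ∀ f : L ⟶ Coh.structureModule X, f = 0 := hom_eq_zero (k := k) hL hO' (hdeg.trans hd0.symm) hne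
      let a₁ : CohB1.tensorMod T.X₁ L ≅ L := tensorIso e₁ (Iso.refl L) ≪≫ leftUnit L
      let a₃ : CohB1.tensorMod T.X₃ L ≅ L := tensorIso e₃ (Iso.refl L) ≪≫ leftUnit L
      have hin : ∀ f : Coh.structureModule X ⟶ CohB1.tensorMod L T.X₂, f = 0 := fun f => by
        haveI := hS.mono_f
        have h0 : (f ≫ c.hom) ≫ tmap T.g (𝟙 L) = 0 := by
          rw [← cancel_mono a₃.hom, zero_comp]; exact z _
        have h1 : hS.exact.lift (f ≫ c.hom) h0 = 0 := by rw [← cancel_mono a₁.hom, zero_comp]; exact z _
        have h2 := hS.exact.lift_f (f ≫ c.hom) h0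
        rw [h1, zero_comp] at h2
        rw [← cancel_mono c.hom, zero_comp]; exact h2.symm
      have hout : ∀ f : CohB1.tensorMod L T.X₂ ⟶ Coh.structureModule X, f = 0 := fun f => by
        haveI := hS.epi_g
        have h0 : tmap T.f (𝟙 L) ≫ c.inv ≫ f = 0 := by
          rw [← cancel_epi a₁.inv, comp_zero]; exact z' _
        have h1 : hS.exact.desc (c.inv ≫ f) h0 = 0 := by rw [← cancel_epi a₃.inv, comp_zero]; exact z' _
        have h2 := hS.exact.g_desc (c.inv ≫ f) h0
        rw [h1, comp_zero] at h2
        rw [← cancel_epi c.inv, comp_zero]; exact h2.symm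
      have : Subsingleton (Coh.structureModule X ⟶ CohB1.tensorMod L T.X₂) :=
        ⟨fun f g => (hin f).trans (hin g).symm⟩
      have : Subsingleton (CohB1.tensorMod L T.X₂ ⟶ Coh.structureModule X) :=
        ⟨fun f g => (hout f).trans (hout g).symm⟩
      rw [card_aut_biprod (fun p q => by rw [hin p, zero_comp]), card_aut_one κ,
        Nat.card_of_subsingleton (0 : Coh.structureModule X ⟶ CohB1.tensorMod L T.X₂),
        Nat.card_of_subsingleton (0 : CohB1.tensorMod L T.X₂ ⟶ Coh.structureModule X),
        card_aut_congr c,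
        ← Nat.card_congr (Functor.FullyFaithful.autMulEquivOfFullyFaithful
          (Functor.FullyFaithful.ofFullyFaithful (tensorBy L)) T.X₂).toEquiv, cF]
      ring

end Groth.Agent.S18788
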