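import Groth.Statements.S18789
import Mathlib
-- import your own Groth.Agent.* helpers here

set_option autoImplicit false
universe u v w x
open TorusGr

namespace Groth.Agent.S18789


section
open DirectSum
variable {k : Type*} [Field k] {M : Type*} [AddCommGroup M] [DecidableEq M]
  {A : Type*} [CommRing A] [Algebra k A] (𝒜 : M → Submodule k A) [GradedAlgebra 𝒜]
  {P : Type*} [AddCommGroup P] [Module A P] [Module k P] [IsScalarTower k A P]
  (ℳ : M → Submodule k P) [Decomposition ℳ] [SetLike.GradedSMul 𝒜 ℳ]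

theorem proj_smul {μ : M} {p : P} (hp : p ∈ ℳ μ) (ν : M) (a : A) :
    (decompose ℳ (a • p) ν : P) = (decompose 𝒜 a (ν - μ) : A) • p := by
  induction a using DirectSum.Decomposition.inductionOn 𝒜 with
  | zero => simp
  | add a b ha hb =>
    simp only [add_smul, decompose_add, DirectSum.add_apply, Submodule.coe_add, ha, hb]
  | @homogeneous i a =>
    obtain ⟨a, ha⟩ := a
    simp only
    have hap : a • p ∈ ℳ (i + μ) := SetLike.GradedSMul.smul_mem ha hp
    by_cases h : i + μ = ν
    · subst h
      rw [decompose_of_mem_same ℳ hap, show i + μ - μ = i by abel, decompose_of_mem_same 𝒜 ha]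
    · rw [decompose_of_mem_ne ℳ hap h, decompose_of_mem_ne 𝒜 ha (fun h' => h (by rw [h']; abel)), zero_smul]

theorem proj_sum_smul {n : ℕ} (wt : Fin n → M) (f : Fin n → P) (hf : ∀ i, f i ∈ ℳ (wt i)) (c : Fin n → A) (ν : M) :
    (decompose ℳ (∑ i, c i • f i) ν : P) = ∑ i, (decompose 𝒜 (c i) (ν - wt i) : A) • f i := by
  have : ∀ t : Finset (Fin n), (decompose ℳ (∑ i ∈ t, c i • f i) ν : P) =
      ∑ i ∈ t, (decompose 𝒜 (c i) (ν - wt i) : A) • f i := by
    intro t
    induction t using Finset.induction_on with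
    | empty => simp
    | insert i t hi ih =>
      rw [Finset.sum_insert hi, Finset.sum_insert hi, decompose_add, DirectSum.add_apply, Submodule.coe_add, ih,
        proj_smul 𝒜 ℳ (hf i) ν (c i)]
  exact this _

theorem comp_mem_span {n : ℕ} (wt : Fin n → M) (f : Fin n → P) (hf : ∀ i, f i ∈ ℳ (wt i)) (a : A)
    (ha : ∀ p : P, a • p ∈ Submodule.span A (Set.range f)) (ν : M) (p : P) :
    (decompose 𝒜 a ν : A) • p ∈ Submodule.span A (Set.range f) := by
  classical
  induction p using DirectSum.Decomposition.inductionOn ℳ with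
  | zero => simp
  | add p q hp hq => rw [smul_add]; exact add_mem hp hq
  | @homogeneous μ p =>
    obtain ⟨c, hc⟩ := (Submodule.mem_span_range_iff_exists_fun A).mp (ha p)
    have h := congrArg (fun z => (decompose ℳ z (ν + μ) : P)) hc
    simp only at h
    rw [proj_sum_smul 𝒜 ℳ wt f hf, proj_smul 𝒜 ℳ p.2, add_sub_cancel_right] at h
    rw [← h]
    exact Submodule.sum_mem _ fun i _ => Submodule.smul_mem _ _ (Submodule.subset_span ⟨i, rfl⟩)

theorem comp_kills_relations {n : ℕ} (wt : Fin n → M) (f : Fin n → P) (hf : ∀ i, f i ∈ ℳ (wt i)) (a : A)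
    (ha : ∀ c : Fin n → A, ∑ i, c i • f i = 0 → ∀ i, a * c i = 0) (ν : M)
    (c : Fin n → A) (hc : ∑ i, c i • f i = 0) (i : Fin n) : (decompose 𝒜 a ν : A) * c i = 0 := by
  classical
  rw [← sum_support_decompose 𝒜 (c i), Finset.mul_sum]
  refine Finset.sum_eq_zero fun σ _ => ?_
  have hcomp : ∑ j, (decompose 𝒜 (c j) (σ + wt i - wt j) : A) • f j = 0 := by
    rw [← proj_sum_smul 𝒜 ℳ wt f hf, hc]; simp
  have h := ha _ hcomp i
  rw [add_sub_cancel_right] at h
  have h2 := congrArg (fun z => (decompose 𝒜 z (ν + σ) : A)) h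
  simp only [decompose_zero, DirectSum.zero_apply, ZeroMemClass.coe_zero] at h2
  rw [← coe_decompose_mul_add_of_right_mem 𝒜 (SetLike.coe_mem (decompose 𝒜 (c i) σ))]
  exact h2

theorem exists_comp_notMem (m : Ideal A) (a : A) (ha : a ∉ m) : ∃ ν, (decompose 𝒜 a ν : A) ∉ m := by
  classical
  by_contra h
  push_neg at h
  refine ha ?_
  rw [← sum_support_decompose 𝒜 a]
  exact Ideal.sum_mem _ fun ν _ => h ν

end


open DirectSum in
/-- Let `A` be a commutative algebra over a field `k`, graded by an additive commutative group `M` (for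
`M` the character group of a split torus `T` this is a `T`-action on `Spec A`, and an `M`-graded
`A`-module is a `T`-equivariant quasi-coherent sheaf), let `P` be a finitely generated projective
`A`-module with a compatible `M`-grading (a locally free `T`-sheaf of finite rank), and let `m` be a
homogeneous maximal ideal with residue field `k` (a `T`-fixed rational point). If homogeneous
elements `f i` of `P` reduce to a basis of `P/mP`, then there is a homogeneous `s ∉ m` such that
after inverting `s` the `f i` generate `P` and every relation among them is killed by a power of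
`s`: on the invariant open `D(s)` the module is free on the homogeneous sections `f i`, with the
weights of the fibre `P/mP`. (The published statement has `M ≅ ℤ^r`, a split torus; here `M` is any
additive commutative group, i.e. any diagonalizable group.) -/
theorem result
    {k : Type u} [Field k] {M : Type v} [AddCommGroup M] [DecidableEq M]
    {A : Type w} [CommRing A] [Algebra k A] (𝒜 : M → Submodule k A) [GradedAlgebra 𝒜]
    {P : Type x} [AddCommGroup P] [Module A P] [Module k P] [IsScalarTower k A P]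
    (ℳ : M → Submodule k P) [Decomposition ℳ] [SetLike.GradedSMul 𝒜 ℳ]
    [Module.Finite A P] [Module.Projective A P]
    (m : Ideal A) [m.IsMaximal] (hm : m.IsHomogeneous 𝒜)
    (hrat : Function.Surjective (algebraMap k (A ⧸ m)))
    {n : ℕ} (wt : Fin n → M) (f : Fin n → P) (hf : ∀ i, f i ∈ ℳ (wt i))
    (hli : LinearIndependent (A ⧸ m)
      (fun i => (Submodule.Quotient.mk (f i) : P ⧸ (m • (⊤ : Submodule A P)))))
    (hsp : Submodule.span A (Set.range f) ⊔ m • (⊤ : Submodule A P) = ⊤) :
    ∃ s : A, SetLike.IsHomogeneousElem 𝒜 s ∧ s ∉ m ∧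
      (∀ p : P, ∃ (N : ℕ) (c : Fin n → A), s ^ N • p = ∑ i, c i • f i) ∧
      (∀ c : Fin n → A, ∑ i, c i • f i = 0 → ∃ N : ℕ, ∀ i, s ^ N * c i = 0) := by
  classical
  set N := Submodule.span A (Set.range f) with hN
  -- generation
  obtain ⟨a, ha, haN⟩ := Submodule.exists_sub_one_mem_and_smul_le_of_fg_of_le_sup (I := m) (N := N) (N' := ⊤) (P := ⊤)
    Module.Finite.fg_top le_rfl hsp.ge
  have ham : a ∉ m := fun h => m.ne_top_iff_one.mp (‹m.IsMaximal›.ne_top) (by
    have := m.sub_mem h ha; rwa [sub_sub_cancel] at this)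
  have haP : ∀ p, a • p ∈ N := fun p => haN (Submodule.smul_mem_pointwise_smul p a ⊤ Submodule.mem_top)
  obtain ⟨ν₁, hν₁⟩ := exists_comp_notMem 𝒜 m a ham
  set s₁ : A := (decompose 𝒜 a ν₁ : A) with hs₁
  have hs₁P : ∀ p, s₁ • p ∈ N := comp_mem_span 𝒜 ℳ wt f hf a haP ν₁
  -- relations
  let φ : (Fin n → A) →ₗ[A] P := Fintype.linearCombination A f
  let L : P →ₗ[A] N := (s₁ • LinearMap.id : P →ₗ[A] P).codRestrict N hs₁P
  let φN : (Fin n → A) →ₗ[A] N := φ.codRestrict N (fun c => (Submodule.mem_span_range_iff_exists_fun A).mpr ⟨c, by simp [φ, Fintype.linearCombination_apply]⟩)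
  have hφN : Function.Surjective φN := by
    rintro ⟨x, hx⟩
    obtain ⟨c, hc⟩ := (Submodule.mem_span_range_iff_exists_fun A).mp hx
    exact ⟨c, Subtype.ext (by simp [φN, φ, Fintype.linearCombination_apply, hc])⟩
  obtain ⟨σ, hσ⟩ := Module.projective_lifting_property φN L hφN
  have hσ' : ∀ p, φ (σ p) = s₁ • p := fun p => congrArg Subtype.val (LinearMap.congr_fun hσ p)
  let E : Matrix (Fin n) (Fin n) A := LinearMap.toMatrix' (σ ∘ₗ φ)
  have hE : ∀ c, E.mulVec c = σ (φ c) := fun c => by
    rw [← Matrix.toLin'_apply, Matrix.toLin'_toMatrix']; rfl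
  have hmodm : ∀ c : Fin n → A, φ c = 0 → ∀ i, c i ∈ m := by
    intro c hc i
    have h0 : ∑ i, (Ideal.Quotient.mk m (c i)) • (Submodule.Quotient.mk (f i) : P ⧸ (m • (⊤ : Submodule A P))) = 0 := by
      have := congrArg (Submodule.mkQ (m • (⊤ : Submodule A P))) hc
      simp only [φ, Fintype.linearCombination_apply, map_sum, map_zero] at this
      rw [← this]
      exact Finset.sum_congr rfl fun j _ => by rw [map_smul]; rfl
    exact Ideal.Quotient.eq_zero_iff_mem.mp (Fintype.linearIndependent_iff.mp hli _ h0 i)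
  have hEm : E.map (Ideal.Quotient.mk m) = Ideal.Quotient.mk m s₁ • (1 : Matrix (Fin n) (Fin n) (A ⧸ m)) := by
    ext i j
    have h0 : φ (σ (φ (Pi.single j 1)) - s₁ • Pi.single j 1) = 0 := by rw [map_sub, hσ', map_smul, sub_self]
    have h1 := hmodm _ h0 i
    rw [Pi.sub_apply, ← hE, Matrix.mulVec_single_one, Pi.smul_apply, Matrix.col_apply] at h1
    rw [Matrix.map_apply, Ideal.Quotient.eq.mpr h1, Matrix.smul_apply, Matrix.one_apply, Pi.single_apply]
    split_ifs <;> simp
  have hdet : E.det ∉ m := by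
    intro h
    rw [← Ideal.Quotient.eq_zero_iff_mem, RingHom.map_det, RingHom.mapMatrix_apply, hEm, Matrix.det_smul, Matrix.det_one,
      mul_one, ← map_pow, Ideal.Quotient.eq_zero_iff_mem] at h
    exact hν₁ (‹m.IsMaximal›.isPrime.mem_of_pow_mem _ h)
  have hdetK : ∀ c : Fin n → A, ∑ i, c i • f i = 0 → ∀ i, E.det * c i = 0 := by
    intro c hc i
    have h0 : E.mulVec c = 0 := by
      rw [hE, show φ c = 0 by simpa [φ, Fintype.linearCombination_apply] using hc, map_zero]
    have := congrArg (fun v => E.adjugate.mulVec v i) h0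
    simpa [Matrix.mulVec_mulVec, Matrix.adjugate_mul, Matrix.smul_mulVec, Matrix.one_mulVec] using this
  obtain ⟨ν₂, hν₂⟩ := exists_comp_notMem 𝒜 m E.det hdet
  set s₂ : A := (decompose 𝒜 E.det ν₂ : A) with hs₂
  refine ⟨s₁ * s₂, ⟨ν₁ + ν₂, SetLike.mul_mem_graded (SetLike.coe_mem _) (SetLike.coe_mem _)⟩,
    fun h => (‹m.IsMaximal›.isPrime.mem_or_mem h).elim hν₁ hν₂, fun p => ?_, fun c hc => ⟨1, fun i => ?_⟩⟩
  · obtain ⟨c, hc⟩ := (Submodule.mem_span_range_iff_exists_fun A).mp (hs₁P (s₂ • p))
    exact ⟨1, c, by rw [pow_one, mul_smul, hc]⟩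
  · rw [pow_one, mul_assoc, comp_kills_relations 𝒜 ℳ wt f hf E.det hdetK ν₂ c hc i, mul_zero]

end Groth.Agent.S18789
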