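import Groth.Statements.S18790
import Mathlib


set_option autoImplicit false
universe u v w
open TorusGr

namespace Groth.Agent.S18790

/-- Let `A` be a commutative algebra over a field `k`, graded by an additive commutative group `M` (for
`M` the character group of a split torus `T`, a `T`-action on `Spec A`), let `J` be the ideal
generated by the homogeneous elements of non-zero degree (its zero locus is the fixed-point
subscheme) and let `m ⊇ J` be a maximal ideal with residue field `k` (a fixed rational point) at
which the fixed-point subscheme is the reduced point: `J` and `m` agree after localizing at `m`.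
Then the cotangent space `m/m²` has no part of weight zero: every degree-zero element of `m` lies in
`m²`. (The published statement has `M ≅ ℤ^r`, a split torus, and phrases the conclusion as the
non-vanishing of the weights of a semi-invariant basis of `m/m²`; here `M` is any additive
commutative group, i.e. any diagonalizable group.) -/
theorem result
    {k : Type u} [Field k] {M : Type v} [AddCommGroup M] [DecidableEq M]
    {A : Type w} [CommRing A] [Algebra k A] (𝒜 : M → Submodule k A) [GradedAlgebra 𝒜]
    (m : Ideal A) [m.IsMaximal] (hrat : Function.Surjective (algebraMap k (A ⧸ m)))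
    (hfix : ∀ i : M, i ≠ 0 → ∀ a ∈ 𝒜 i, a ∈ m)
    (hred : ∀ a ∈ m, ∃ s ∉ m, s * a ∈ Ideal.span {b : A | ∃ i : M, i ≠ 0 ∧ b ∈ 𝒜 i})
    {f : A} (hf0 : f ∈ 𝒜 0) (hfm : f ∈ m) : f ∈ m ^ 2 := by
  classical
  have hcomp : ∀ (x : A), x - (DirectSum.decompose 𝒜 x 0 : A) ∈ m := by
    intro x
    induction x using DirectSum.Decomposition.inductionOn 𝒜 with
    | zero => simp
    | @homogeneous i a =>
      by_cases hi : i = 0
      · subst hi
        rw [DirectSum.decompose_of_mem_same 𝒜 a.2, sub_self]; exact zero_mem _
      · rw [DirectSum.decompose_of_mem_ne 𝒜 a.2 hi, sub_zero]; exact hfix i hi _ a.2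
    | add u v hu hv =>
      rw [DirectSum.decompose_add, DirectSum.add_apply, AddMemClass.coe_add, add_sub_add_comm]
      exact add_mem hu hv
  have hJ : ∀ x ∈ Ideal.span {b : A | ∃ i : M, i ≠ 0 ∧ b ∈ 𝒜 i}, (DirectSum.decompose 𝒜 x 0 : A) ∈ m ^ 2 := by
    intro x hx
    obtain ⟨c, hc⟩ := Finsupp.mem_span_iff_linearCombination _ _ _ |>.mp hx
    rw [← hc, Finsupp.linearCombination_apply, Finsupp.sum, DirectSum.decompose_sum, DFinsupp.finsetSum_apply, AddSubmonoidClass.coe_finsetSum]
    refine sum_mem fun b _ => ?_
    obtain ⟨i, hi, hb⟩ := b.2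
    generalize c b = a
    rw [smul_eq_mul]
    induction a using DirectSum.Decomposition.inductionOn 𝒜 with
    | zero => simp
    | @homogeneous j a =>
      by_cases hji : j + i = 0
      · have hj : j ≠ 0 := fun h => hi (by rwa [h, zero_add] at hji)
        have hab : (a : A) * (b : A) ∈ 𝒜 0 := by
          have h := SetLike.mul_mem_graded a.2 hb
          rwa [hji] at h
        rw [DirectSum.decompose_of_mem_same 𝒜 hab, pow_two]
        exact Ideal.mul_mem_mul (hfix j hj _ a.2) (hfix i hi _ hb)
      · rw [DirectSum.decompose_of_mem_ne 𝒜 (SetLike.mul_mem_graded a.2 hb) hji]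
        exact zero_mem _
    | add u v hu hv =>
      rw [add_mul, DirectSum.decompose_add, DirectSum.add_apply, AddMemClass.coe_add]
      exact add_mem hu hv
  obtain ⟨s, hs, hsf⟩ := hred f hfm
  set s₀ : A := (DirectSum.decompose 𝒜 s 0 : A)
  have hs₀ : s₀ ∉ m := fun h => hs (by have := add_mem (hcomp s) h; rwa [sub_add_cancel] at this)
  have h1 := hJ _ hsf
  have h2 : (DirectSum.decompose 𝒜 (s * f) 0 : A) = s₀ * f := by
    rw [DirectSum.decompose_mul]
    have := DirectSum.coe_decompose_mul_add_of_right_mem 𝒜 (a := s) (b := f) (i := 0) hf0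
    rw [zero_add] at this
    simpa [DirectSum.decompose_mul, s₀] using this
  rw [h2] at h1
  obtain ⟨t, i, hi, hti⟩ := Ideal.IsMaximal.exists_inv (inferInstance : m.IsMaximal) hs₀
  have : f = t * (s₀ * f) + i * f := by rw [← mul_assoc, ← add_mul, hti, one_mul]
  rw [this]
  exact add_mem (Ideal.mul_mem_left _ _ h1) (by rw [pow_two]; exact Ideal.mul_mem_mul hi hfm)

end Groth.Agent.S18790
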