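import Groth.Statements.S18791
import Mathlib


set_option autoImplicit false
universe u v w x
open TorusGr

namespace Groth.Agent.S18791

/-- Let `φ : B → A` be a degree-preserving homomorphism of commutative algebras over a field `k` graded
by an additive commutative group `M` (for `M` the character group of a split torus, an equivariant
morphism `Spec A → Spec B`), and let `m` be a maximal ideal of `A` containing all homogeneous
elements of non-zero degree (a fixed point). Then the ideal of those `b` whose image is zero in the
local ring `A_m` is homogeneous: the homogeneous (weight) components of such a `b` again die in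
`A_m`. Since `A_m` embeds in its completion when `A` is Noetherian, these are the elements of `B`
that die in the completed local ring. (The published lemma asserts moreover that, for `B = k[Y_1, …,
Y_d]` mapping the `Y_i` to semi-invariant lifts of a basis of `m/m²`, the kernel of the induced
surjection of completions `k[[Y]] → Â_m` is generated by semi-invariant polynomials; generation of
that kernel by polynomials can fail, so only the statement about polynomial elements of the kernel
is recorded here. The published statement has `M ≅ ℤ^r` (a split torus) and `B` the polynomial ring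
on the lifts; here `M` is any additive commutative group and `B` any `M`-graded `k`-algebra.) -/
theorem result
    {k : Type u} [Field k] {M : Type v} [AddCommGroup M] [DecidableEq M]
    {A : Type w} [CommRing A] [Algebra k A] (𝒜 : M → Submodule k A) [GradedAlgebra 𝒜]
    {B : Type x} [CommRing B] [Algebra k B] (ℬ : M → Submodule k B) [GradedAlgebra ℬ]
    (φ : B →ₐ[k] A) (hφ : ∀ i : M, ∀ b ∈ ℬ i, φ b ∈ 𝒜 i)
    (m : Ideal A) [m.IsMaximal] (hfix : ∀ i : M, i ≠ 0 → ∀ a ∈ 𝒜 i, a ∈ m) :
    (RingHom.ker ((algebraMap A (Localization.AtPrime m)).comp (φ : B →+* A))).IsHomogeneous ℬ := by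
  classical
  intro j b hb
  set x := φ b with hxdef
  have hcompφ : ∀ i, φ (DirectSum.decompose ℬ b i : B) = (DirectSum.decompose 𝒜 x i : A) := by
    intro i
    rw [hxdef]
    clear hb hxdef x
    induction b using DirectSum.Decomposition.inductionOn ℬ with
    | zero => simp
    | @homogeneous l a =>
      by_cases hl : l = i
      · subst hl
        rw [DirectSum.decompose_of_mem_same ℬ a.2, DirectSum.decompose_of_mem_same 𝒜 (hφ l _ a.2)]
      · rw [DirectSum.decompose_of_mem_ne ℬ a.2 hl, DirectSum.decompose_of_mem_ne 𝒜 (hφ l _ a.2) hl, map_zero]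
    | add u v hu hv => simp [DirectSum.decompose_add, map_add, hu, hv]
  rw [RingHom.mem_ker, RingHom.comp_apply] at hb ⊢
  show algebraMap A (Localization.AtPrime m) (φ (DirectSum.decompose ℬ b j : B)) = 0
  rw [hcompφ]
  obtain ⟨⟨s, hs⟩, hsx⟩ := (IsLocalization.map_eq_zero_iff m.primeCompl (Localization.AtPrime m) x).mp hb
  have hcomp : ∀ (z : A), z - (DirectSum.decompose 𝒜 z 0 : A) ∈ m := by
    intro z
    induction z using DirectSum.Decomposition.inductionOn 𝒜 with
    | zero => simp
    | @homogeneous i a =>
      by_cases hi : i = 0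
      · subst hi
        rw [DirectSum.decompose_of_mem_same 𝒜 a.2, sub_self]; exact zero_mem _
      · rw [DirectSum.decompose_of_mem_ne 𝒜 a.2 hi, sub_zero]; exact hfix i hi _ a.2
    | add u v hu hv =>
      rw [DirectSum.decompose_add, DirectSum.add_apply, AddMemClass.coe_add, add_sub_add_comm]
      exact add_mem hu hv
  set s₀ : A := (DirectSum.decompose 𝒜 s 0 : A)
  have hs₀ : s₀ ∈ m.primeCompl := fun h => hs (by have := add_mem (hcomp s) h; rwa [sub_add_cancel] at this)
  let Am := Localization.AtPrime m
  let g := algebraMap A Am
  let X : Ideal Am := Ideal.span (((DirectSum.decompose 𝒜 x).support.image fun i => g (DirectSum.decompose 𝒜 x i : A) : Finset Am) : Set Am)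
  have hX : ∀ i, g (DirectSum.decompose 𝒜 x i : A) ∈ X := fun i => by
    by_cases hi : i ∈ (DirectSum.decompose 𝒜 x).support
    · exact Ideal.subset_span (Finset.mem_coe.mpr (Finset.mem_image_of_mem _ hi))
    · rw [DFinsupp.notMem_support_iff.mp hi, ZeroMemClass.coe_zero, map_zero]; exact zero_mem _
  have hrest : ∀ (a : A) (l : M), (DirectSum.decompose 𝒜 (a * x) l : A) - (DirectSum.decompose 𝒜 a 0 : A) * (DirectSum.decompose 𝒜 x l : A) ∈ RingHom.ker ((Ideal.Quotient.mk (IsLocalRing.maximalIdeal Am * X)).comp g) := by
    intro a l
    induction a using DirectSum.Decomposition.inductionOn 𝒜 with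
    | zero => simp
    | add u v hu hv =>
      rw [add_mul, DirectSum.decompose_add, DirectSum.add_apply, AddMemClass.coe_add, DirectSum.decompose_add, DirectSum.add_apply, AddMemClass.coe_add, add_mul, add_sub_add_comm]
      exact add_mem hu hv
    | @homogeneous i a =>
      have h3 : (DirectSum.decompose 𝒜 ((a : A) * x) l : A) = (a : A) * (DirectSum.decompose 𝒜 x (l - i) : A) := by
        have := DirectSum.coe_decompose_mul_add_of_left_mem 𝒜 (a := (a : A)) (b := x) (i := i) (j := l - i) a.2
        rwa [add_sub_cancel] at this
      by_cases hi : i = 0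
      · subst hi
        rw [h3, sub_zero, DirectSum.decompose_of_mem_same 𝒜 a.2, sub_self]
        exact zero_mem _
      · rw [h3, DirectSum.decompose_of_mem_ne 𝒜 a.2 hi, zero_mul, sub_zero, RingHom.mem_ker, RingHom.comp_apply, Ideal.Quotient.eq_zero_iff_mem, map_mul]
        exact Ideal.mul_mem_mul ((IsLocalization.AtPrime.to_map_mem_maximal_iff Am m _).mpr (hfix i hi _ a.2)) (hX _)
  have hle : X ≤ IsLocalRing.maximalIdeal Am • X := by
    refine Ideal.span_le.mpr fun y hy => ?_
    obtain ⟨l, -, rfl⟩ := Finset.mem_image.mp hy
    have h4 := hrest s l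
    rw [show s * x = 0 from hsx, DirectSum.decompose_zero, DirectSum.zero_apply, ZeroMemClass.coe_zero, zero_sub, neg_mem_iff, RingHom.mem_ker, RingHom.comp_apply, Ideal.Quotient.eq_zero_iff_mem, map_mul] at h4
    exact (Ideal.unit_mul_mem_iff_mem _ (IsLocalization.map_units Am (⟨s₀, hs₀⟩ : m.primeCompl))).mp h4
  have hbot := Submodule.eq_bot_of_le_smul_of_le_jacobson_bot (IsLocalRing.maximalIdeal Am) X ⟨_, rfl⟩ hle (IsLocalRing.jacobson_eq_maximalIdeal ⊥ bot_ne_top).ge
  have h5 := hX j
  rwa [hbot, Submodule.mem_bot] at h5

end Groth.Agent.S18791
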