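import Groth.Statements.S18792
-- import your own Groth.Agent.* helpers here

set_option autoImplicit false
universe u
open DefMod

namespace Groth.Agent.S18792

/-- Let A be an associative unital algebra over ℚ, let a ∈ A be nilpotent and let b ∈ A. Then the
commutator map x ↦ a x − x a is a nilpotent ℚ-linear endomorphism of A, and exp(a) b exp(−a) =
exp(ad a)(b), where exp is the finite exponential series of a nilpotent element and ad a is the
commutator map. (The published statement takes A an algebra over an arbitrary commutative ring; the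
factorials in the exponential series require the rationals to act, so A is taken to be a ℚ-algebra
here. The intermediate double-sum expansion printed between the two sides is not restated.) -/
theorem result {A : Type u} [Ring A] [Algebra ℚ A] (a b : A)
    (ha : IsNilpotent a) :
    IsNilpotent (LinearMap.mulLeft ℚ a - LinearMap.mulRight ℚ a) ∧
      IsNilpotent.exp a * b * IsNilpotent.exp (-a) =
        IsNilpotent.exp (LinearMap.mulLeft ℚ a - LinearMap.mulRight ℚ a) b := by
  have hc : Commute (LinearMap.mulLeft ℚ a) (LinearMap.mulRight ℚ a) := LinearMap.commute_mulLeft_right a a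
  obtain ⟨k, hk⟩ := ha
  have hL : LinearMap.mulLeft ℚ a ^ k = 0 := by rw [LinearMap.pow_mulLeft, hk, LinearMap.mulLeft_zero_eq_zero]
  have hR : LinearMap.mulRight ℚ a ^ k = 0 := by rw [LinearMap.pow_mulRight, hk, LinearMap.mulRight_zero_eq_zero]
  have hR' : IsNilpotent (-LinearMap.mulRight ℚ a) := IsNilpotent.neg ⟨k, hR⟩
  refine ⟨by rw [sub_eq_add_neg]; exact hc.neg_right.isNilpotent_add ⟨k, hL⟩ hR', ?_⟩
  rw [sub_eq_add_neg, IsNilpotent.exp_add_of_commute hc.neg_right ⟨k, hL⟩ hR', Module.End.mul_apply]
  have hnR : (-LinearMap.mulRight ℚ a) ^ k = 0 := (neg_pow (LinearMap.mulRight ℚ a : Module.End ℚ A) k).trans (by rw [hR, mul_zero])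
  have hna : (-a) ^ k = 0 := by rw [neg_pow, hk, mul_zero]
  rw [IsNilpotent.exp_eq_sum hL, IsNilpotent.exp_eq_sum hnR, IsNilpotent.exp_eq_sum hk, IsNilpotent.exp_eq_sum hna]
  have hnR2 : -LinearMap.mulRight ℚ a = LinearMap.mulRight ℚ (-a) := LinearMap.ext fun x => by simp
  simp only [hnR2, LinearMap.pow_mulLeft, LinearMap.pow_mulRight, LinearMap.sum_apply, LinearMap.smul_apply,
    LinearMap.mulLeft_apply, LinearMap.mulRight_apply, Finset.sum_mul, Finset.mul_sum, Finset.smul_sum,
    mul_smul_comm, smul_mul_assoc, mul_assoc]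
  rw [Finset.sum_comm]
  refine Finset.sum_congr rfl fun i _ => Finset.sum_congr rfl fun j _ => ?_
  rw [smul_comm]

end Groth.Agent.S18792
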