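import Groth.Statements.S18797
import Mathlib.LinearAlgebra.Trace
-- import your own Groth.Agent.* helpers here

set_option autoImplicit false
universe u v w
open DefMod

namespace Groth.Agent.S18797

/-- Let K be a field of characteristic zero, O a commutative K-algebra with a K-linear derivation ∂, and
E a finite free O-module equipped with a K-linear map ∂_E satisfying the Leibniz rule ∂_E(a e) =
∂(a) e + a ∂_E(e) (a differential module). The induced derivation on End_O(E) sends φ to ∂_E ∘ φ − φ
∘ ∂_E, which is again O-linear; the trace End_O(E) → O is compatible with the two derivations: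
tr(∂_E ∘ φ − φ ∘ ∂_E) = ∂(tr φ). Here the O-linear map ψ = ∂_E ∘ φ − φ ∘ ∂_E is given by its values.
(The published lemma also asserts that the trace is split surjective and that it respects commutator
brackets; the split surjectivity fails for E = 0 over a nonzero ring and holds only in positive
rank, and neither clause is restated.) -/
theorem result
    {K : Type u} [Field K] [CharZero K]
    {O : Type v} [CommRing O] [Algebra K O] (δ : Derivation K O O)
    {E : Type w} [AddCommGroup E] [Module O E] [Module K E] [IsScalarTower K O E]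
    [Module.Free O E] [Module.Finite O E]
    (δE : E →ₗ[K] E) (hδE : ∀ (a : O) (e : E), δE (a • e) = δ a • e + a • δE e)
    (φ ψ : E →ₗ[O] E) (hψ : ∀ e : E, ψ e = δE (φ e) - φ (δE e)) :
    LinearMap.trace O E ψ = δ (LinearMap.trace O E φ) := by
  classical
  let b := Module.Free.chooseBasis O E
  let Dm : E → E := fun m => ∑ i, δ (b.repr m i) • b i
  let Γ : E →ₗ[O] E :=
    { toFun := fun m => δE m - Dm m
      map_add' := fun x y => by
        simp only [Dm, map_add, Finsupp.add_apply, add_smul, Finset.sum_add_distrib]
        abel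
      map_smul' := fun c m => by
        simp only [RingHom.id_apply, Dm, hδE, map_smul, Finsupp.smul_apply, smul_eq_mul, Derivation.leibniz,
          map_add, add_smul, mul_smul, Finset.sum_add_distrib, ← Finset.smul_sum, smul_sub]
        rw [Finset.sum_congr rfl (fun i _ => smul_comm (b.repr m i) (δ c) (b i)), ← Finset.smul_sum, b.sum_repr]
        abel }
  let Φ : E →ₗ[O] E := ψ - (Γ ∘ₗ φ - φ ∘ₗ Γ)
  have hD : ∀ i, Dm (b i) = 0 := fun i => Finset.sum_eq_zero fun j _ => by
    rcases eq_or_ne i j with rfl | hne
    · simp
    · simp [hne.symm, Finsupp.single_apply, hne]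
  have hΦ : ∀ i, Φ (b i) = ∑ j, δ (b.repr (φ (b i)) j) • b j := fun i => by
    show ψ (b i) - (Γ (φ (b i)) - φ (Γ (b i))) = _
    rw [hψ]
    show _ - ((δE (φ (b i)) - Dm (φ (b i))) - φ (δE (b i) - Dm (b i))) = _
    rw [hD, sub_zero]
    show _ = Dm (φ (b i))
    abel
  have h0 : ψ = (Γ ∘ₗ φ - φ ∘ₗ Γ) + Φ := by simp [Φ]
  rw [h0, map_add, map_sub, LinearMap.trace_comp_comm', sub_self, zero_add,
    LinearMap.trace_eq_matrix_trace O b, LinearMap.trace_eq_matrix_trace O b]
  simp only [Matrix.trace, Matrix.diag, LinearMap.toMatrix_apply, map_sum]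
  refine Finset.sum_congr rfl fun i _ => ?_
  rw [hΦ, b.repr_sum_self]

end Groth.Agent.S18797
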