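import Groth.Statements.S18802
import Mathlib.Algebra.Algebra.Tower
import Mathlib.Algebra.Module.Projective
import Mathlib.LinearAlgebra.Basis.VectorSpace
-- import your own Groth.Agent.* helpers here

set_option autoImplicit false
universe u v w w' w''
open DefMod

namespace Groth.Agent.S18802

/-- Let K be a field of characteristic zero, D an associative K-algebra and E, F left D-modules. A
K-linear map s : D → Hom_K(E, F) with s(ab)(e) = a s(b)(e) + s(a)(b e) (a derivation into the
bimodule Hom_K(E, F), i.e. a Hochschild 1-cocycle) defines the twisted sum F ⊕_s E = F × E with a ·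
(f, e) = (a f + s(a) e, a e), an extension of E by F. Every extension of left D-modules 0 → F → Q →
E → 0 arises this way: there are such an s and a D-linear isomorphism Q ≅ F ⊕_s E carrying the given
map F → Q to the inclusion f ↦ (f, 0) and compatible with the two projections onto E. (Together with
the splitting criterion this identifies derivations modulo principal derivations with Ext¹_D(E, F);
the compatibility of that identification with addition and scalars is not restated.) -/
theorem result
    {K : Type u} [Field K] [CharZero K]
    {D : Type v} [Ring D] [Algebra K D]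
    {E : Type w} [AddCommGroup E] [Module K E] [Module D E] [IsScalarTower K D E]
    {F : Type w'} [AddCommGroup F] [Module K F] [Module D F] [IsScalarTower K D F]
    {Q : Type w''} [AddCommGroup Q] [Module D Q]
    (i : F →ₗ[D] Q) (p : Q →ₗ[D] E) (hi : Function.Injective i) (hp : Function.Surjective p)
    (hex : Function.Exact i p) :
    ∃ (s : D →ₗ[K] E →ₗ[K] F) (hs : W4c6defoisocp1.IsHomDerivation s) (Φ : Q ≃ₗ[D] W4c6defoisocp1.TwistExt s hs),
      (∀ f : F, Φ (i f) = W4c6defoisocp1.TwistExt.inl f) ∧ ∀ q : Q, W4c6defoisocp1.TwistExt.snd (Φ q) = p q := by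
  classical
  let mQ : Module K Q := Module.compHom Q (algebraMap K D)
  have hT : IsScalarTower K D Q := IsScalarTower.of_algebraMap_smul fun r x => rfl
  obtain ⟨σ, hσ⟩ := LinearMap.exists_rightInverse_of_surjective (p.restrictScalars K)
    (LinearMap.range_eq_top.mpr hp)
  replace hσ : ∀ e, p (σ e) = e := fun e => LinearMap.congr_fun hσ e
  have hpre : ∀ q : Q, p q = 0 → ∃ f, i f = q := fun q hq => (hex q).mp hq
  have hs0 : ∀ (a : D) (e : E), ∃ f, i f = a • σ e - σ (a • e) := fun a e => hpre _ (by simp [hσ])
  choose s0 hs0 using hs0
  let s : D →ₗ[K] E →ₗ[K] F := LinearMap.mk₂ K s0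
    (fun a a' e => hi (by simp only [hs0, map_add, add_smul]; abel))
    (fun k a e => hi (by simp only [hs0, LinearMap.map_smul_of_tower, smul_assoc, map_smul, smul_sub]))
    (fun a e e' => hi (by simp only [hs0, map_add, smul_add]; abel))
    (fun k a e => hi (by simp only [hs0, LinearMap.map_smul_of_tower, map_smul, smul_sub,
      smul_comm a k (σ e), smul_comm a k e]))
  have hs : W4c6defoisocp1.IsHomDerivation s := fun a b e => hi (by
    simp only [s, LinearMap.mk₂_apply, hs0, map_add, map_smul, smul_sub, mul_smul]
    abel)
  have hr : ∀ q : Q, ∃ f, i f = q - σ (p q) := fun q => hpre _ (by simp [hσ])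
  choose ρ hρ using hr
  refine ⟨s, hs,
    { toFun := fun q => W4c6defoisocp1.TwistExt.mk (ρ q, p q)
      invFun := fun x => i (W4c6defoisocp1.TwistExt.val x).1 + σ (W4c6defoisocp1.TwistExt.val x).2
      map_add' := fun q q' => W4c6defoisocp1.TwistExt.ext
        (hi (by simp only [W4c6defoisocp1.TwistExt.val_mk, W4c6defoisocp1.TwistExt.val_add, Prod.fst_add, map_add, hρ]; abel))
        (by simp)
      map_smul' := fun a q => W4c6defoisocp1.TwistExt.ext
        (hi (by simp only [RingHom.id_apply, W4c6defoisocp1.TwistExt.val_mk, W4c6defoisocp1.TwistExt.val_smul, s,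
          LinearMap.mk₂_apply, map_add, map_smul, hρ, hs0, smul_sub]; abel))
        (by simp)
      left_inv := fun q => by simp [hρ]
      right_inv := fun x => W4c6defoisocp1.TwistExt.ext
        (hi (by simp [hρ, hσ, hex.apply_apply_eq_zero]))
        (by simp [hσ, hex.apply_apply_eq_zero]) }, fun f => ?_, fun q => rfl⟩
  exact W4c6defoisocp1.TwistExt.ext (hi (by simp [hρ, hex.apply_apply_eq_zero])) (by simp [hex.apply_apply_eq_zero])

end Groth.Agent.S18802
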