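import Groth.Statements.S18803
import Mathlib.LinearAlgebra.Prod
import Mathlib.Algebra.Algebra.Tower
-- import your own Groth.Agent.* helpers here

set_option autoImplicit false
universe u v w w'
open DefMod

namespace Groth.Agent.S18803

/-- Let K be a field of characteristic zero, D an associative K-algebra, E and F left D-modules, and s :
D → Hom_K(E, F) a K-linear map with s(ab)(e) = a s(b)(e) + s(a)(b e). The twisted sum F ⊕_s E (that
is F × E with a · (f, e) = (a f + s(a) e, a e)) is a trivial extension of E by F — there is a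
D-linear isomorphism F ⊕_s E ≅ F × E with the direct-sum module structure, carrying the inclusion f
↦ (f, 0) to itself and compatible with the second projections — if and only if s is principal:
s(a)(e) = a σ(e) − σ(a e) for some K-linear σ : E → F (a Hochschild 1-coboundary). -/
theorem result
    {K : Type u} [Field K] [CharZero K]
    {D : Type v} [Ring D] [Algebra K D]
    {E : Type w} [AddCommGroup E] [Module K E] [Module D E] [IsScalarTower K D E]
    {F : Type w'} [AddCommGroup F] [Module K F] [Module D F] [IsScalarTower K D F]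
    (s : D →ₗ[K] E →ₗ[K] F) (hs : W4c6defoisocp1.IsHomDerivation s) :
    (∃ Ψ : W4c6defoisocp1.TwistExt s hs ≃ₗ[D] F × E,
        (∀ f : F, Ψ (W4c6defoisocp1.TwistExt.inl f) = (f, 0)) ∧ ∀ x : W4c6defoisocp1.TwistExt s hs, (Ψ x).2 = W4c6defoisocp1.TwistExt.snd x) ↔
      W4c6defoisocp1.IsPrincipal s := by
  constructor
  · rintro ⟨Ψ, hΨi, hΨs⟩
    let τ : E → F := fun e => (Ψ (W4c6defoisocp1.TwistExt.mk (0, e))).1
    have hΨ : ∀ (f : F) (e : E), Ψ (W4c6defoisocp1.TwistExt.mk (f, e)) = (f + τ e, e) := fun f e => by
      have h : (W4c6defoisocp1.TwistExt.mk (f, e) : W4c6defoisocp1.TwistExt s hs) =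
          W4c6defoisocp1.TwistExt.inl f + W4c6defoisocp1.TwistExt.mk (0, e) :=
        W4c6defoisocp1.TwistExt.ext (by simp) (by simp)
      refine Prod.ext ?_ (hΨs _)
      rw [h, map_add, hΨi]
      rfl
    have hadd : ∀ e e', τ (e + e') = τ e + τ e' := fun e e' => by
      have h : (W4c6defoisocp1.TwistExt.mk (0, e + e') : W4c6defoisocp1.TwistExt s hs) =
          W4c6defoisocp1.TwistExt.mk (0, e) + W4c6defoisocp1.TwistExt.mk (0, e') :=
        W4c6defoisocp1.TwistExt.ext (by simp) (by simp)
      simp only [τ, h, map_add, Prod.fst_add]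
    have key : ∀ (a : D) (e : E), s a e + τ (a • e) = a • τ e := fun a e => by
      have h : (W4c6defoisocp1.TwistExt.mk (s a e, a • e) : W4c6defoisocp1.TwistExt s hs) =
          a • W4c6defoisocp1.TwistExt.mk (0, e) :=
        W4c6defoisocp1.TwistExt.ext (by simp) (by simp)
      have h' := congrArg (fun x => (Ψ x).1) h
      simp only [map_smul, Prod.smul_fst, hΨ] at h'
      simpa using h'
    refine ⟨{ toFun := τ, map_add' := hadd, map_smul' := fun k e => ?_ }, fun a e => eq_sub_of_add_eq (key a e)⟩
    have h := key (algebraMap K D k) e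
    rw [Algebra.algebraMap_eq_smul_one, map_smul, W4c6defoisocp1.TwistExt.map_one_eq_zero hs, smul_zero] at h
    simpa using h
  · rintro ⟨σ, hσ⟩
    refine ⟨{ toFun := fun x => ((W4c6defoisocp1.TwistExt.val x).1 + σ (W4c6defoisocp1.TwistExt.val x).2, (W4c6defoisocp1.TwistExt.val x).2)
              invFun := fun y => W4c6defoisocp1.TwistExt.mk (y.1 - σ y.2, y.2)
              map_add' := fun x y => by simp; abel
              map_smul' := fun a x => by simp [hσ]; abel
              left_inv := fun x => W4c6defoisocp1.TwistExt.ext (by simp) (by simp)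
              right_inv := fun y => by simp }, fun f => by simp, fun x => rfl⟩

end Groth.Agent.S18803
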