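import Groth.Statements.S18804
import Groth.Agent.Lib.CurveFF.IdealInv
import Groth.Agent.Lib.Curves.Clifford
-- import your own Groth.Agent.* helpers here

set_option autoImplicit false
universe u
open CategoryTheory CategoryTheory.Limits AlgebraicGeometry
open Curves

namespace Groth.Agent.S18804
open Groth.Agent.Lib
attribute [local instance] Curv2.stalkAlgebra

/-- Let k be an algebraically closed field of characteristic zero, X a smooth proper integral curve over
k (integral, proper and smooth over k, of dimension one) of genus g, and L an invertible O_X-module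
of degree deg L = χ(L) − χ(O_X) at least 2g + 3. Then L is 3-very ample: every closed subscheme Z of
X of length 4 imposes independent conditions on H^0(X, L), stated as dim_k H^0(X, L ⊗ I) + 4 = dim_k
H^0(X, L) for every quasi-coherent ideal I of O_X with dim_k H^0(X, O_X/I) = 4. -/
theorem result
    (k : Type u) [Field k] [IsAlgClosed k] [CharZero k]
    (X : Scheme.{u}) [X.Over (Spec (CommRingCat.of k))] [IsIntegral X]
    [IsProper (X ↘ Spec (CommRingCat.of k))] [Smooth (X ↘ Spec (CommRingCat.of k))]
    (hdim : topologicalKrullDim X = 1)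
    (L : X.Modules) (hL : PicF.IsInvertible L)
    (hdeg : 2 * (Curv2.genus k X : ℤ) + 3 ≤ Curv2.deg k X L 1)
    (I : X.IdealSheafData) (hI : Module.finrank k (Coh.HH X (ClSub.quotMod I) 0) = 4) :
    Module.finrank k (Coh.HH X (CohB1.tensorMod L (ClSub.idealMod I)) 0) + 4 =
      Module.finrank k (Coh.HH X L 0) := by
  have h := CurveFF.curveHyp_of_smooth k hdim
  have h0 := Curves.GlobalSections.finrank_h0_structure k X
  have hK := CurveFF.isFunctionField (k := k) h h0
  have hns := CurveFF.IdealInv.not_mem_of_length h h0 I (by rw [hI]; norm_num)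
  have hInv := CurveFF.IdealInv.isInvertible (k := k) h I hns
  have hT := TensorMod.Invertible.isInvertible_tensorMod hL hInv
  have hd : Curv2.deg k X (CohB1.tensorMod L (ClSub.idealMod I)) 1 = Curv2.deg k X L 1 - 4 := by
    rw [Curves.Degree.deg_tensor hdim.le hL hInv, Curves.Degree.deg_idealMod hdim.le hInv hns]
    show Curv2.deg k X L 1 + -(Module.finrank k (Coh.HH X (ClSub.quotMod I) 0) : ℤ) = _
    rw [hI]; rfl
  have h1 := Curves.Clifford.hdim_zero_eq_of_deg k hdim.le h0 hT (by rw [hd]; omega)
  have h2 := Curves.Clifford.hdim_zero_eq_of_deg k hdim.le h0 hL (by omega)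
  change (Module.finrank k _ : ℤ) = _ at h1 h2
  omega

end Groth.Agent.S18804
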