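import Groth.Statements.S18805
import Groth.Agent.Lib.CurveFF.IdealInv
import Groth.Agent.Lib.CurveFF.OmegaRep
import Groth.Agent.Lib.TensorMod.TensorInv
-- import your own Groth.Agent.* helpers here

set_option autoImplicit false
universe u
open CategoryTheory CategoryTheory.Limits AlgebraicGeometry
open Curves

namespace Groth.Agent.S18805
open Groth.Agent.Lib
attribute [local instance] Curv2.stalkAlgebra

/-- Let k be an algebraically closed field of characteristic zero and X a smooth proper integral curve
over k (integral, proper and smooth over k, of dimension one), with sheaf of differentials ω =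
Ω_(X/k). Then ω is 3-very ample, meaning dim_k H^0(X, ω ⊗ I) + 4 = dim_k H^0(X, ω) for every
quasi-coherent ideal I of O_X with dim_k H^0(X, O_X/I) = 4, if and only if X carries no g^1_4,
meaning that for every such I (the ideal of an effective divisor D of degree 4) every module M with
I ⊗ M ≅ O_X (so M plays the role of O_X(D)) has dim_k H^0(X, M) = 1. -/
theorem result
    (k : Type u) [Field k] [IsAlgClosed k] [CharZero k]
    (X : Scheme.{u}) [X.Over (Spec (CommRingCat.of k))] [IsIntegral X]
    [IsProper (X ↘ Spec (CommRingCat.of k))] [Smooth (X ↘ Spec (CommRingCat.of k))]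
    (hdim : topologicalKrullDim X = 1) :
    (∀ (I : X.IdealSheafData), Module.finrank k (Coh.HH X (ClSub.quotMod I) 0) = 4 →
      Module.finrank k (Coh.HH X (CohB1.tensorMod (Omega.sheaf (X ↘ Spec (CommRingCat.of k))) (ClSub.idealMod I)) 0) + 4 =
        Module.finrank k (Coh.HH X (Omega.sheaf (X ↘ Spec (CommRingCat.of k))) 0)) ↔
    (∀ (I : X.IdealSheafData), Module.finrank k (Coh.HH X (ClSub.quotMod I) 0) = 4 →
      ∀ (M : X.Modules), ClSub.IsInverseOf (ClSub.idealMod I) M →
        Module.finrank k (Coh.HH X M 0) = 1) := by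
  have h := CurveFF.curveHyp_of_smooth k hdim
  have h0 := Curves.GlobalSections.finrank_h0_structure k X
  have hK := CurveFF.isFunctionField (k := k) h h0
  obtain ⟨W, hW⟩ := CurveFF.OmegaRep.exists_rep h hK
  refine forall_congr' fun I => forall_congr' fun hI => ?_
  have hns := CurveFF.IdealInv.not_mem_of_length h h0 I (by rw [hI]; norm_num)
  obtain ⟨J⟩ := CurveFF.LineDiv.nonempty_rep (CurveFF.IdealInv.isInvertible (k := k) h I hns)
  have hJd : (J.div h hK).deg = -4 := by
    rw [← J.deg_eq, Curves.Degree.deg_idealMod hdim.le J.inv hns]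
    show -(Module.finrank k (Coh.HH X (ClSub.quotMod I) 0) : ℤ) = _
    rw [hI]; rfl
  have hrr := FunFld.Weil.riemann_roch hK hW (-J.div h hK)
  rw [sub_neg_eq_add, FunFld.Degree.deg_neg, hJd] at hrr
  rw [(W.mul J).finrank_h0 h hK, W.finrank_h0 h hK, W.div_mul, FunFld.Weil.ell_canonical hK hW]
  constructor
  · intro hv M hM
    obtain ⟨S⟩ := CurveFF.LineDiv.nonempty_rep (L := M)
      (hM.elim fun e => TensorMod.TensorInv.isInvertible_of_tensor_iso
        (TensorMod.Basic.comm M _ ≪≫ e))
    obtain ⟨f, hf, hS⟩ := CurveFF.LineDiv.exists_div_inverse h hK h0 J S hM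
    rw [S.finrank_h0 h hK, hS, FunFld.Riemann.ell_add_div hK _ hf]
    omega
  · intro hv
    obtain ⟨A, hA, ⟨eA⟩⟩ := TensorMod.Invertible.exists_inverse J.inv
    obtain ⟨S⟩ := CurveFF.LineDiv.nonempty_rep hA
    obtain ⟨f, hf, hS⟩ := CurveFF.LineDiv.exists_div_inverse h hK h0 J S ⟨eA⟩
    have := hv A ⟨eA⟩
    rw [S.finrank_h0 h hK, hS, FunFld.Riemann.ell_add_div hK _ hf] at this
    omega

end Groth.Agent.S18805
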