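import Groth.Statements.S18806
import Groth.Agent.H66.Base
import Mathlib.RingTheory.Flat.Basic
-- import your own Groth.Agent.* helpers here

set_option autoImplicit false
universe u v v' w w' x
open TensorProduct
open HopfRep

namespace Groth.Agent.S18806

/-- Let k be a field, i : C → D an injective morphism of k-coalgebras and V a right D-comodule with
coaction ρ : V → V ⊗ D. If ρ(v) lies in the image of V ⊗ C → V ⊗ D (induced by i) for every v, then
V comes from a C-comodule: there is a C-comodule structure on V whose coaction, followed by V ⊗ C →
V ⊗ D, is ρ. (The source states this for left comodules over the coordinate bialgebras of an affine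
monoid scheme over k and of its group of units, assumed open and schematically dense, and uses that
assumption only through the injectivity of the restriction map of coordinate rings; the row is the
right-comodule mirror image for any injective coalgebra map. The converse direction is immediate.) -/
theorem result (k : Type u) [Field k]
    (C : Type v) [AddCommGroup C] [Module k C] [Coalgebra k C]
    (D : Type v') [AddCommGroup D] [Module k D] [Coalgebra k D]
    (i : C →ₗc[k] D) (hi : Function.Injective i)
    (V : Type w) [AddCommGroup V] [Module k V] [HopfRep.Comod k D V]
    (h : ∀ v : V, HopfRep.Comod.coact (k := k) (A := D) v ∈ LinearMap.range ((i : C →ₗ[k] D).lTensor V)) :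
    ∃ c : HopfRep.Comod k C V,
      (i : C →ₗ[k] D).lTensor V ∘ₗ c.coact = HopfRep.Comod.coact (k := k) (A := D) := by
  let iL : C →ₗ[k] D := (i : C →ₗ[k] D)
  have hinj : Function.Injective (iL.lTensor V) :=
    Module.Flat.lTensor_preserves_injective_linearMap _ hi
  let co : V →ₗ[k] V ⊗[k] C :=
    (LinearEquiv.ofInjective (iL.lTensor V) hinj).symm.toLinearMap ∘ₗ
      LinearMap.codRestrict (LinearMap.range (iL.lTensor V)) (HopfRep.Comod.coact (k := k) (A := D)) h
  have hco : ∀ v, iL.lTensor V (co v) = HopfRep.Comod.coact (k := k) (A := D) v := by
    intro v
    exact congrArg Subtype.val ((LinearEquiv.ofInjective (iL.lTensor V) hinj).apply_symm_apply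
      ⟨HopfRep.Comod.coact (k := k) (A := D) v, h v⟩)
  refine ⟨{ coact := co, coassoc := ?_, counit_comp := ?_ }, LinearMap.ext hco⟩
  · refine LinearMap.ext fun v => ?_
    have hinj2 : Function.Injective ((TensorProduct.map iL iL).lTensor V) :=
      Module.Flat.lTensor_preserves_injective_linearMap _
        (TensorProduct.map_injective_of_flat_flat iL iL hi hi)
    apply hinj2
    have e := H66.Base.coassoc_apply (k := k) (A := D) v
    rw [← hco v] at e
    simp only [LinearMap.coe_comp, LinearEquiv.coe_coe, Function.comp_apply]
    rw [← LinearMap.lTensor_comp_apply ,
      show TensorProduct.map iL iL ∘ₗ CoalgebraStruct.comul = CoalgebraStruct.comul ∘ₗ iL from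
        CoalgHomClass.map_comp_comul i, LinearMap.lTensor_comp_apply, ← e]
    have hcomp : HopfRep.Comod.coact (k := k) (A := D) = iL.lTensor V ∘ₗ co := (LinearMap.ext hco).symm
    rw [hcomp]
    induction co v using TensorProduct.induction_on with
    | zero => simp
    | add x y hx hy => simp only [map_add, hx, hy]
    | tmul x c =>
      simp only [LinearMap.lTensor_tmul, LinearMap.rTensor_tmul, LinearMap.coe_comp, Function.comp_apply]
      induction co x using TensorProduct.induction_on with
      | zero => simp
      | add p q hp hq => simp only [map_add, TensorProduct.add_tmul, hp, hq]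
      | tmul p q => simp
  · refine LinearMap.ext fun v => ?_
    have e := H66.Base.counit_apply (k := k) (A := D) v
    rw [← hco v, ← LinearMap.lTensor_comp_apply] at e
    rw [show CoalgebraStruct.counit (R := k) (A := D) ∘ₗ iL = CoalgebraStruct.counit from
      CoalgHomClass.counit_comp i] at e
    exact e

end Groth.Agent.S18806
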