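import Groth.Statements.S18808
import Groth.Agent.Lib.Comod.Basic
import Groth.Agent.H66.Coeff
-- import your own Groth.Agent.* helpers here

set_option autoImplicit false
universe u v v' w w' x
open TensorProduct
open HopfRep

namespace Groth.Agent.S18808

/-- Let k be a field, i : C → D an injective morphism of k-coalgebras and V a right D-comodule with
coaction ρ. Call a D-subcomodule K of V admissible when the induced coaction of V/K, namely ρ
followed by the projection V ⊗ D → (V/K) ⊗ D, takes all its values in the image of (V/K) ⊗ C → (V/K)
⊗ D (so that V/K comes from a C-comodule). Then there is a least admissible D-subcomodule of V: V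
has a largest quotient D-comodule coming from C, through which every D-comodule map from V to a
comodule coming from C factors. (The source states this for left comodules over the coordinate
bialgebras of an affine monoid scheme and its open schematically dense group of units, as the
existence of a universal map from a representation of the unit group to a representation of the
monoid; it uses that assumption only through the injectivity of the restriction map.) -/
theorem result (k : Type u) [Field k]
    (C : Type v) [AddCommGroup C] [Module k C] [Coalgebra k C]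
    (D : Type v') [AddCommGroup D] [Module k D] [Coalgebra k D]
    (i : C →ₗc[k] D) (hi : Function.Injective i)
    (V : Type w) [AddCommGroup V] [Module k V] [HopfRep.Comod k D V] :
    ∃ K : Submodule k V, HopfRep.IsSubcomod (k := k) (A := D) K ∧
      (∀ v : V, K.mkQ.rTensor D (HopfRep.Comod.coact (k := k) (A := D) v) ∈
        LinearMap.range ((i : C →ₗ[k] D).lTensor (V ⧸ K))) ∧
      ∀ K' : Submodule k V, HopfRep.IsSubcomod (k := k) (A := D) K' →
        (∀ v : V, K'.mkQ.rTensor D (HopfRep.Comod.coact (k := k) (A := D) v) ∈
          LinearMap.range ((i : C →ₗ[k] D).lTensor (V ⧸ K'))) → K ≤ K' := by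
  classical
  have key : ∀ (U : Submodule k V),
      (∀ v : V, U.mkQ.rTensor D (HopfRep.Comod.coact (k := k) (A := D) v) ∈
          LinearMap.range ((i : C →ₗ[k] D).lTensor (V ⧸ U))) ↔
        ∀ ψ : D →ₗ[k] k, ψ ∘ₗ (i : C →ₗ[k] D) = 0 → ∀ v, Lib.Comod.Basic.dact V ψ v ∈ U := by
    intro U
    constructor
    · intro h ψ hψ v
      rw [← Submodule.Quotient.mk_eq_zero, ← Submodule.mkQ_apply, Lib.Comod.Basic.dact_apply,
        ← Lib.Comod.Basic.contract_rTensor]
      obtain ⟨y, hy⟩ := h v
      rw [← hy]
      clear hy
      induction y using TensorProduct.induction_on with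
      | zero => simp
      | add p q hp hq => simp only [map_add, hp, hq, add_zero]
      | tmul p q =>
        rw [LinearMap.lTensor_tmul, Lib.Comod.Basic.contract_tmul, show ψ ((i : C →ₗ[k] D) q) = 0 from
          LinearMap.congr_fun hψ q, zero_smul]
    · intro h v
      let R' := LinearMap.range (i : C →ₗ[k] D)
      have hm : U.mkQ.rTensor D (HopfRep.Comod.coact (k := k) (A := D) v) ∈
          LinearMap.range (R'.subtype.lTensor (V ⧸ U)) := by
        rw [H66.Coeff.mem_range_lTensor_iff]
        intro φ
        rw [← Submodule.Quotient.mk_eq_zero]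
        refine (Module.forall_dual_apply_eq_zero_iff k _).1 fun χ => ?_
        have hl : ∀ z : (V ⧸ U) ⊗[k] D, χ (Submodule.Quotient.mk (TensorProduct.lid k D (φ.rTensor D z))) =
            φ (Lib.Comod.Basic.contract (V ⧸ U) (χ ∘ₗ R'.mkQ) z) := by
          intro z
          induction z using TensorProduct.induction_on with
          | zero => simp
          | add p q hp hq => simp only [map_add, Submodule.Quotient.mk_add, hp, hq]
          | tmul p q => simp [mul_comm]
        rw [hl, Lib.Comod.Basic.contract_rTensor]
        have := h (χ ∘ₗ R'.mkQ) (LinearMap.ext fun c => by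
          have hc : Submodule.Quotient.mk (p := R') (i c) = 0 := (Submodule.Quotient.mk_eq_zero R').2 ⟨c, rfl⟩
          simp [hc]) v
        rw [Lib.Comod.Basic.dact_apply] at this
        rw [Submodule.mkQ_apply, (Submodule.Quotient.mk_eq_zero U).2 this, map_zero]
      obtain ⟨y, hy⟩ := hm
      rw [← hy]
      clear hy
      induction y using TensorProduct.induction_on with
      | zero => simp
      | add p q hp hq => simp only [map_add]; exact Submodule.add_mem _ hp hq
      | tmul p q =>
        obtain ⟨c, hc⟩ := q.2
        exact ⟨p ⊗ₜ c, by simp [hc]⟩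
  let S : Set (Submodule k V) := {U | HopfRep.IsSubcomod (k := k) (A := D) U ∧
    ∀ ψ : D →ₗ[k] k, ψ ∘ₗ (i : C →ₗ[k] D) = 0 → ∀ v, Lib.Comod.Basic.dact V ψ v ∈ U}
  refine ⟨sInf S, (Lib.Comod.Basic.isSubcomod_iff _).2 fun φ w hw => ?_, (key _).2 fun ψ hψ v => ?_,
    fun U hU h => sInf_le ⟨hU, (key U).1 h⟩⟩
  · rw [Submodule.mem_sInf] at hw ⊢
    exact fun U hU => Lib.Comod.Basic.dact_mem hU.1 φ (hw U hU)
  · rw [Submodule.mem_sInf]
    exact fun U hU => hU.2 ψ hψ v

end Groth.Agent.S18808
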