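import Groth.Statements.S18809
import Groth.Agent.H66.DualMod
import Mathlib.RingTheory.SimpleModule.Isotypic
import Groth.Agent.H66.Base
-- import your own Groth.Agent.* helpers here

set_option autoImplicit false
universe u v v' w w' x
open TensorProduct
open HopfRep

namespace Groth.Agent.S18809
open TensorProduct Groth.Agent.Lib.Comod.Basic Groth.Agent.H66.DualMod
set_option linter.style.haveILetI false

/-- Let k be a field and i : C → D an injective morphism of k-coalgebras. If every right D-comodule is
semisimple (every subcomodule has a complementary subcomodule), then every right C-comodule is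
semisimple. (The source states this for the coordinate bialgebras of an affine monoid scheme over k
and of its open schematically dense group of units, through the injectivity of the restriction map,
with semisimple meaning that every representation is a sum of irreducible subrepresentations;
D-comodules are quantified in the universe of the given C-comodule.) -/
theorem result (k : Type u) [Field k]
    (C : Type v) [AddCommGroup C] [Module k C] [Coalgebra k C]
    (D : Type v') [AddCommGroup D] [Module k D] [Coalgebra k D]
    (i : C →ₗc[k] D) (hi : Function.Injective i)
    (hD : ∀ (W : Type w) [AddCommGroup W] [Module k W] [HopfRep.Comod k D W], HopfRep.IsSemisimpleComod k D W)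
    (V : Type w) [AddCommGroup V] [Module k V] [HopfRep.Comod k C V] :
    HopfRep.IsSemisimpleComod k C V := by
  letI cD : HopfRep.Comod k D V :=
    { coact := (i : C →ₗ[k] D).lTensor V ∘ₗ HopfRep.Comod.coact (k := k) (A := C)
      coassoc := by
        refine LinearMap.ext fun v => ?_
        simp only [LinearMap.coe_comp, LinearEquiv.coe_coe, Function.comp_apply]
        rw [← LinearMap.lTensor_comp_apply,
          show CoalgebraStruct.comul ∘ₗ (i : C →ₗ[k] D) =
            TensorProduct.map (i : C →ₗ[k] D) (i : C →ₗ[k] D) ∘ₗ CoalgebraStruct.comul from
            (CoalgHomClass.map_comp_comul i).symm, LinearMap.lTensor_comp_apply, ← H66.Base.coassoc_apply]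
        induction HopfRep.Comod.coact (k := k) (A := C) v using TensorProduct.induction_on with
        | zero => simp
        | add x y hx hy => simp only [map_add, hx, hy]
        | tmul x c =>
          simp only [LinearMap.lTensor_tmul, LinearMap.rTensor_tmul, LinearMap.coe_comp, Function.comp_apply]
          induction HopfRep.Comod.coact (k := k) (A := C) x using TensorProduct.induction_on with
          | zero => simp
          | add p q hp hq => simp only [map_add, TensorProduct.add_tmul, hp, hq]
          | tmul p q => simp
      counit_comp := by
        rw [← LinearMap.comp_assoc, ← LinearMap.lTensor_comp,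
          show CoalgebraStruct.counit (R := k) (A := D) ∘ₗ (i : C →ₗ[k] D) = CoalgebraStruct.counit from
            CoalgHomClass.counit_comp i]
        exact HopfRep.Comod.counit_comp }
  intro W hW
  have hWD : HopfRep.IsSubcomod (k := k) (A := D) W := by
    intro w hw
    rw [H66.Base.mem_range_rTensor_subtype_iff]
    change W.mkQ.rTensor D ((i : C →ₗ[k] D).lTensor V (HopfRep.Comod.coact (k := k) (A := C) w)) = 0
    rw [← LinearMap.comp_apply (W.mkQ.rTensor D), LinearMap.rTensor_comp_lTensor,
      ← LinearMap.lTensor_comp_rTensor, LinearMap.comp_apply,
      (H66.Base.mem_range_rTensor_subtype_iff W _).1 (hW w hw), map_zero]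
  obtain ⟨W', hW', hc⟩ := hD V W hWD
  refine ⟨W', fun w hw => ?_, hc⟩
  have h1 := (H66.Base.mem_range_rTensor_subtype_iff W' _).1 (hW' w hw)
  rw [H66.Base.mem_range_rTensor_subtype_iff]
  change W'.mkQ.rTensor D ((i : C →ₗ[k] D).lTensor V (HopfRep.Comod.coact (k := k) (A := C) w)) = 0 at h1
  rw [← LinearMap.comp_apply (W'.mkQ.rTensor D), LinearMap.rTensor_comp_lTensor,
    ← LinearMap.lTensor_comp_rTensor, LinearMap.comp_apply] at h1
  exact (map_eq_zero_iff _ (Module.Flat.lTensor_preserves_injective_linearMap
    (i : C →ₗ[k] D) hi)).mp h1

end Groth.Agent.S18809
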