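import Groth.Statements.S18810
import Groth.Agent.H66.DualMod
import Mathlib.RingTheory.SimpleModule.Isotypic
-- import your own Groth.Agent.* helpers here

set_option autoImplicit false
universe u v v' w w' x
open TensorProduct
open HopfRep

namespace Groth.Agent.S18810
open TensorProduct Groth.Agent.Lib.Comod.Basic Groth.Agent.H66.DualMod
set_option linter.style.haveILetI false

/-- Let k be a field, C a k-coalgebra, V a right C-comodule and (S_j) a family of simple C-comodules
which are pairwise non-isomorphic (for j ≠ j' no k-linear isomorphism S_j ≃ S_j' commutes with the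
coactions). For each j let V[j] be the isotypic component of type S_j: the sum of the images of all
comodule maps S_j → V (equivalently of all simple subcomodules of V isomorphic to S_j, a nonzero
such map being injective). Then the family j ↦ V[j] is independent, so that the socle of V is the
direct sum of its isotypic components. (The source states this for representations of an affine
monoid scheme over k, i.e. left comodules over its coordinate bialgebra; the row is the
right-comodule form over any coalgebra.) -/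
theorem result (k : Type u) [Field k]
    (C : Type v) [AddCommGroup C] [Module k C] [Coalgebra k C]
    (V : Type w) [AddCommGroup V] [Module k V] [HopfRep.Comod k C V]
    {ι : Type x} (S : ι → Type w') [∀ j, AddCommGroup (S j)] [∀ j, Module k (S j)]
    [∀ j, HopfRep.Comod k C (S j)] (hS : ∀ j, HopfRep.IsSimpleComod k C (S j))
    (hne : ∀ j j', j ≠ j' → ∀ e : S j ≃ₗ[k] S j', ¬ Hoch.IsComodHom C (e : S j →ₗ[k] S j')) :
    iSupIndep (fun j => ⨆ f : {f : S j →ₗ[k] V // Hoch.IsComodHom C f}, LinearMap.range f.1) := by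
  letI := module k C V
  letI := fun j => module k C (S j)
  haveI hSs : ∀ j, IsSimpleModule (CDual k C) (S j) := fun j => isSimpleComod_iff.1 (hS j)
  let I : ι → Submodule (CDual k C) V := fun j => isotypicComponent (CDual k C) V (S j)
  have hI : ∀ j, ofSub (I j) = ⨆ f : {f : S j →ₗ[k] V // Hoch.IsComodHom C f}, LinearMap.range f.1 := by
    intro j
    refine le_antisymm ?_ (iSup_le fun f => ?_)
    · rw [show I j = sSup _ from rfl, ofSub_sSup]
      refine iSup₂_le fun N ⟨e⟩ => ?_
      let G : S j →ₗ[CDual k C] V := N.subtype ∘ₗ e.symm.toLinearMap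
      refine le_iSup_of_le ⟨homBack G, isComodHom_homBack G⟩ fun x hx => ?_
      exact ⟨e ⟨x, hx⟩, by simp [homBack, G]⟩
    · rcases (homOf f.1 f.2).injective_or_eq_zero with h | h
      · have : LinearMap.range (homOf f.1 f.2) ≤ I j := le_sSup ⟨(LinearEquiv.ofInjective _ h).symm⟩
        exact this
      · rintro x ⟨y, rfl⟩
        rw [show f.1 y = 0 from LinearMap.congr_fun h y]
        exact Submodule.zero_mem _
  have hne' : ∀ j j', j ≠ j' → IsEmpty (S j ≃ₗ[CDual k C] S j') := fun j j' h => ⟨fun e =>
    hne j j' h (LinearEquiv.ofBijective (homBack e.toLinearMap) e.bijective) (isComodHom_homBack e.toLinearMap)⟩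
  have hind : iSupIndep I := by
    intro j
    rw [disjoint_iff]
    by_contra hd
    let J := {N : Submodule (CDual k C) V | ∃ i, i ≠ j ∧ Nonempty (N ≃ₗ[CDual k C] S i)}
    haveI hJ : ∀ m : J, IsSimpleModule (CDual k C) m := fun ⟨m, i, _, ⟨e⟩⟩ => IsSimpleModule.congr e
    haveI hJ' : ∀ m : {N : Submodule (CDual k C) V | Nonempty (N ≃ₗ[CDual k C] S j)},
        IsSimpleModule (CDual k C) m := fun ⟨m, ⟨e⟩⟩ => IsSimpleModule.congr e
    have hle : (⨆ i, ⨆ (_ : i ≠ j), I i) ≤ sSup J :=
      iSup₂_le fun i hi => sSup_le_sSup fun N hN => ⟨i, hi, hN⟩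
    have : IsSemisimpleModule (CDual k C) ↥(I j ⊓ ⨆ i, ⨆ (_ : i ≠ j), I i) := by
      haveI : IsSemisimpleModule (CDual k C) ↥(I j) := inferInstanceAs
        (IsSemisimpleModule (CDual k C) ↥(isotypicComponent (CDual k C) V (S j)))
      exact IsSemisimpleModule.congr (R := CDual k C) (M := ↥(Submodule.comap (I j).subtype (I j ⊓ ⨆ i, ⨆ (_ : i ≠ j), I i))) (Submodule.comapSubtypeEquivOfLe (inf_le_left : I j ⊓ (⨆ i, ⨆ (_ : i ≠ j), I i) ≤ I j)).symm
    obtain ⟨N, hN, hNs⟩ := (IsSemisimpleModule.eq_bot_or_exists_simple_le _).resolve_left hd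
    obtain ⟨m, ⟨em⟩, ⟨e⟩⟩ := Submodule.linearEquiv_of_le_sSup N
      {N : Submodule (CDual k C) V | Nonempty (N ≃ₗ[CDual k C] S j)} (hN.trans inf_le_left)
    obtain ⟨m', ⟨i, hi, ⟨em'⟩⟩, ⟨e'⟩⟩ := Submodule.linearEquiv_of_le_sSup N J (hN.trans (inf_le_right.trans hle))
    exact (hne' i j hi).false (((e'.trans em').symm.trans e).trans em)
  intro j
  have h := (disjoint_ofSub _ _).2 (hind j)
  simpa only [ofSub_iSup, hI] using h

end Groth.Agent.S18810
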