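import Groth.Statements.S18814
import Groth.Agent.Lib.Comod.Basic
-- import your own Groth.Agent.* helpers here

set_option autoImplicit false
universe u v v' w w'
open TensorProduct
open HopfRep

namespace Groth.Agent.S18814

/-- Let k be a field, C and D commutative bialgebras over k (coordinate rings of affine monoid schemes M
and N) and V a k-vector space carrying a right C-comodule structure with coaction ρ_C : V → V ⊗ C
and a right D-comodule structure with coaction ρ_D : V → V ⊗ D which commute: (ρ_C ⊗ id_D) ∘ ρ_D and
(ρ_D ⊗ id_C) ∘ ρ_C agree in V ⊗ C ⊗ D after reassociating and swapping the last two factors (the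
actions of M and N on V commute). Assume V is semisimple as a D-comodule. Then for every simple
D-comodule S the isotypic component of V of type S, the sum of the images of all D-comodule maps S →
V, is a C-subcomodule of V. (The source works with left comodules; this is the right-comodule form.) -/
theorem result (k : Type u) [Field k]
    (C : Type v) [CommRing C] [Bialgebra k C] (D : Type v') [CommRing D] [Bialgebra k D]
    (V : Type w) [AddCommGroup V] [Module k V] [HopfRep.Comod k C V] [HopfRep.Comod k D V]
    (hcomm : (TensorProduct.assoc k V C D).toLinearMap ∘ₗ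
        (HopfRep.Comod.coact (k := k) (A := C) (V := V)).rTensor D ∘ₗ HopfRep.Comod.coact (k := k) (A := D) =
      (TensorProduct.comm k D C).toLinearMap.lTensor V ∘ₗ (TensorProduct.assoc k V D C).toLinearMap ∘ₗ
        (HopfRep.Comod.coact (k := k) (A := D) (V := V)).rTensor C ∘ₗ HopfRep.Comod.coact (k := k) (A := C))
    (hV : HopfRep.IsSemisimpleComod k D V)
    (S : Type w') [AddCommGroup S] [Module k S] [HopfRep.Comod k D S] (hS : HopfRep.IsSimpleComod k D S) :
    HopfRep.IsSubcomod (k := k) (A := C)
      (⨆ f : {f : S →ₗ[k] V // Hoch.IsComodHom D f}, LinearMap.range f.1) := by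
  rw [Lib.Comod.Basic.isSubcomod_iff]
  intro φ w hw
  have key : ∀ (ψ : D →ₗ[k] k) (v : V), Lib.Comod.Basic.dact V φ (Lib.Comod.Basic.dact V ψ v) =
      Lib.Comod.Basic.dact V ψ (Lib.Comod.Basic.dact V φ v) := by
    intro ψ v
    have h := congrArg (Lib.Comod.Basic.contract V (LinearMap.mul' k k ∘ₗ TensorProduct.map φ ψ))
      (LinearMap.congr_fun hcomm v)
    simp only [LinearMap.comp_apply, LinearEquiv.coe_coe] at h
    have h1 : ∀ y : (V ⊗[k] C) ⊗[k] D,
        Lib.Comod.Basic.contract V (LinearMap.mul' k k ∘ₗ TensorProduct.map φ ψ) (TensorProduct.assoc k V C D y) =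
          Lib.Comod.Basic.contract V φ (Lib.Comod.Basic.contract (V ⊗[k] C) ψ y) := by
      intro y
      induction y using TensorProduct.induction_on with
      | zero => simp
      | add p q hp hq => simp only [map_add, hp, hq]
      | tmul x c =>
        induction x using TensorProduct.induction_on with
        | zero => simp
        | add p q hp hq => simp only [TensorProduct.add_tmul, map_add, hp, hq]
        | tmul a b => simp [smul_smul, mul_comm]
    have h2 : ∀ y : (V ⊗[k] D) ⊗[k] C,
        Lib.Comod.Basic.contract V (LinearMap.mul' k k ∘ₗ TensorProduct.map φ ψ)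
            ((TensorProduct.comm k D C).toLinearMap.lTensor V (TensorProduct.assoc k V D C y)) =
          Lib.Comod.Basic.contract V ψ (Lib.Comod.Basic.contract (V ⊗[k] D) φ y) := by
      intro y
      induction y using TensorProduct.induction_on with
      | zero => simp
      | add p q hp hq => simp only [map_add, hp, hq]
      | tmul x c =>
        induction x using TensorProduct.induction_on with
        | zero => simp
        | add p q hp hq => simp only [TensorProduct.add_tmul, map_add, hp, hq]
        | tmul a b => simp [smul_smul, mul_comm]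
    rw [h1, h2, Lib.Comod.Basic.contract_rTensor, Lib.Comod.Basic.contract_rTensor] at h
    exact h
  have hle : (⨆ f : {f : S →ₗ[k] V // Hoch.IsComodHom D f}, LinearMap.range f.1) ≤
      (⨆ f : {f : S →ₗ[k] V // Hoch.IsComodHom D f}, LinearMap.range f.1).comap (Lib.Comod.Basic.dact V φ) := by
    refine iSup_le fun f => ?_
    rintro _ ⟨s, rfl⟩
    refine Submodule.mem_comap.2 (Submodule.mem_iSup_of_mem ⟨Lib.Comod.Basic.dact V φ ∘ₗ f.1,
      (Lib.Comod.Basic.isComodHom_iff _).2 fun ψ x => ?_⟩ ⟨s, rfl⟩)
    simp only [LinearMap.comp_apply]
    rw [Lib.Comod.Basic.map_dact f.2, key]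
  exact hle hw

end Groth.Agent.S18814
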