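import Groth.Statements.S18815
import Groth.Agent.H66.Base
-- import your own Groth.Agent.* helpers here

set_option autoImplicit false
universe u v w w'
open TensorProduct
open HopfRep

namespace Groth.Agent.S18815

/-- Let k be a field, C a k-coalgebra and V, W simple right C-comodules (nonzero, with no subcomodules
other than 0 and the whole space). Then every k-linear map V → W commuting with the coactions is
either zero or bijective. (The source states this for irreducible representations of an affine
monoid scheme over k, i.e. left comodules over its coordinate bialgebra.) -/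
theorem result (k : Type u) [Field k]
    (C : Type v) [AddCommGroup C] [Module k C] [Coalgebra k C]
    (V : Type w) [AddCommGroup V] [Module k V] [HopfRep.Comod k C V] (hV : HopfRep.IsSimpleComod k C V)
    (W : Type w') [AddCommGroup W] [Module k W] [HopfRep.Comod k C W] (hW : HopfRep.IsSimpleComod k C W)
    (f : V →ₗ[k] W) (hf : Hoch.IsComodHom C f) :
    f = 0 ∨ Function.Bijective f := by
  have hker : HopfRep.IsSubcomod (k := k) (A := C) (LinearMap.ker f) := by
    intro w hw
    rw [← H66.Base.ker_rTensor_eq, LinearMap.mem_ker, ← H66.Base.isComodHom_apply hf,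
      LinearMap.mem_ker.mp hw, map_zero]
  have hran : HopfRep.IsSubcomod (k := k) (A := C) (LinearMap.range f) := by
    rintro w ⟨v, rfl⟩
    rw [H66.Base.isComodHom_apply hf, H66.Base.mem_range_rTensor_subtype_iff, ← LinearMap.rTensor_comp_apply,
      (LinearMap.range f).mkQ.comp f |> fun _ => LinearMap.range_le_ker_iff.mp (Submodule.ker_mkQ _).ge,
      LinearMap.rTensor_zero, LinearMap.zero_apply]
  rcases hV.2 _ hker with hk | hk
  · rcases hW.2 _ hran with hr | hr
    · exact Or.inl (LinearMap.range_eq_bot.mp hr)
    · exact Or.inr ⟨LinearMap.ker_eq_bot.mp hk, LinearMap.range_eq_top.mp hr⟩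
  · exact Or.inl (LinearMap.ker_eq_top.mp hk)

end Groth.Agent.S18815
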