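import Groth.Statements.S18816
import Groth.Agent.Lib.FreeRes.Transporter

set_option autoImplicit false
universe u
open CategoryTheory MonoidalCategory CartesianMonoidalCategory AlgebraicGeometry
open AlgGrp

namespace Groth.Agent.S18816

/-- Let k be a field, X a separated k-scheme, Y an arbitrary k-scheme and a : Y ×_k X → X an arbitrary
k-morphism. Consider the subfunctor X^a of X whose T-valued points, for a k-scheme T, are the
k-morphisms x : T → X with a ∘ (id_Y × x) = x ∘ pr_T as morphisms Y ×_k T → X. Then X^a is
represented by a closed subscheme of X: there is a closed immersion j : Z → X over k lying in X^a(Z)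
through which every element of X^a(T) factors. In particular, when Y = G is a k-group scheme and a
is an action of G on the separated k-scheme X, the functor X^G of G-fixed points is representable by
some closed subscheme of X. No finiteness condition is imposed on X, Y or G. -/
theorem result (k : Type u) [Field k]
    (X Y : Over (Spec (CommRingCat.of k))) [IsSeparated X.hom] (a : Y ⊗ X ⟶ X) :
    ∃ (Z : Over (Spec (CommRingCat.of k))) (j : Z ⟶ X), IsClosedImmersion j.left ∧
      (Y ◁ j) ≫ a = CartesianMonoidalCategory.snd Y Z ≫ j ∧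
      ∀ (T : Over (Spec (CommRingCat.of k))) (x : T ⟶ X),
        (Y ◁ x) ≫ a = CartesianMonoidalCategory.snd Y T ≫ x → ∃ z : T ⟶ Z, z ≫ j = x := by
  obtain ⟨Z, i, hi, hZ⟩ := Groth.Agent.Lib.FreeRes.exists_closed_eq (P := X) (X := Y)
    (Groth.Agent.Lib.FreeRes.isEssentiallyFree_field _)
    (lift (snd X Y) (fst X Y) ≫ a) (fst X Y)
  have key : ∀ {T : Over (Spec (CommRingCat.of k))} (x : T ⟶ X),
      (∃ z, z ≫ i = x) ↔ (Y ◁ x) ≫ a = CartesianMonoidalCategory.snd Y T ≫ x := fun {T} x => by
    rw [hZ x]
    have e1 : (x ▷ Y) ≫ lift (snd X Y) (fst X Y) = (β_ T Y).hom ≫ (Y ◁ x) := by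
      apply CartesianMonoidalCategory.hom_ext <;> simp
    rw [reassoc_of% e1, whiskerRight_fst, ← braiding_hom_snd T Y, Category.assoc, cancel_epi]
  exact ⟨Z, i, hi, (key i).1 ⟨𝟙 _, Category.id_comp _⟩, fun T x hx => (key x).2 hx⟩

end Groth.Agent.S18816
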