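import Groth.Statements.S18817

import Groth.Agent.Lib.GrpSch.UnitOpen
import Mathlib.RingTheory.TensorProduct.Maps
import Mathlib.RingTheory.Nilpotent.Lemmas

set_option autoImplicit false
universe u
open CategoryTheory MonoidalCategory CartesianMonoidalCategory MonObj AlgebraicGeometry
open AlgGrp

open Groth.Agent.Lib.GrpSch TensorProduct Limits

namespace Groth.Agent.S18817

section

variable {k : Type u} [Field k]

local notation "Sk" => Spec (CommRingCat.of k)

/-- The affine `k`-scheme of a `k`-algebra. -/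
noncomputable abbrev sp (R : Type u) [CommRing R] [Algebra k R] : Over (Spec (CommRingCat.of k)) :=
  Over.mk (Spec.map (CommRingCat.ofHom (algebraMap k R)))

/-- The morphism of affine `k`-schemes of a map of `k`-algebras. -/
noncomputable def spMap {A B : Type u} [CommRing A] [Algebra k A] [CommRing B] [Algebra k B] (f : A →ₐ[k] B) :
    sp (k := k) B ⟶ sp (k := k) A :=
  Over.homMk (Spec.map (CommRingCat.ofHom f.toRingHom))
    (by dsimp; rw [← Spec.map_comp, ← CommRingCat.ofHom_comp, f.comp_algebraMap])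

theorem spMap_comp {A B C : Type u} [CommRing A] [Algebra k A] [CommRing B] [Algebra k B] [CommRing C]
    [Algebra k C] (f : A →ₐ[k] B) (g : B →ₐ[k] C) : spMap g ≫ spMap f = spMap (g.comp f) := by
  apply Over.OverMorphism.ext
  change Spec.map (CommRingCat.ofHom g.toRingHom) ≫ Spec.map (CommRingCat.ofHom f.toRingHom) = _
  rw [← Spec.map_comp, ← CommRingCat.ofHom_comp]
  rfl

theorem spMap_id (A : Type u) [CommRing A] [Algebra k A] : spMap (AlgHom.id k A) = 𝟙 (sp (k := k) A) :=
  Over.OverMorphism.ext (Spec.map_id _)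

theorem exists_spMap {A B : Type u} [CommRing A] [Algebra k A] [CommRing B] [Algebra k B]
    (g : sp (k := k) B ⟶ sp (k := k) A) : ∃ f : A →ₐ[k] B, spMap f = g := by
  obtain ⟨f, hf⟩ := Spec.map_surjective g.left
  have w : Spec.map f ≫ Spec.map (CommRingCat.ofHom (algebraMap k A)) =
      Spec.map (CommRingCat.ofHom (algebraMap k B)) := by rw [hf]; exact Over.w g
  rw [← Spec.map_comp] at w
  exact ⟨⟨f.hom, fun r => congr($((Spec.map_injective w)) r)⟩, Over.OverMorphism.ext hf⟩

variable {M : Over (Spec (CommRingCat.of k))} [MonObj M] [LocallyOfFiniteType M.hom]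

/-- A nilpotent deformation of the unit of a monoid scheme has a right inverse of the same kind. -/
theorem exists_right_inv (R : Type u) [CommRing R] [Algebra k R] (ρ : R →ₐ[k] k)
    (hρ : IsNilpotent (RingHom.ker ρ.toRingHom)) (m : sp (k := k) R ⟶ M) (hm : spMap ρ ≫ m = 1) :
    ∃ y : sp (k := k) R ⟶ M, m * y = 1 ∧ spMap ρ ≫ y = 1 := by
  classical
  let pt : ↥(Spec (CommRingCat.of k)) := IsLocalRing.closedPoint k
  obtain ⟨_, ⟨W, hW, rfl⟩, hxW, -⟩ := M.left.isBasis_affineOpens.exists_subset_of_mem_open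
    (Set.mem_univ ((1 : sp (k := k) k ⟶ M).left.base pt)) isOpen_univ
  obtain ⟨sk, hsk⟩ := Spec.map_surjective (hW.fromSpec ≫ M.hom)
  letI : Algebra k Γ(M.left, W) := sk.hom.toAlgebra
  let j : sp (k := k) Γ(M.left, W) ⟶ M := Over.homMk hW.fromSpec hsk.symm
  haveI : IsOpenImmersion hW.fromSpec := hW.isOpenImmersion_fromSpec
  haveI : IsOpenImmersion j.left := ‹IsOpenImmersion hW.fromSpec›
  haveI : Mono j := (Over.forget _).mono_of_mono_map (f := j) (inferInstanceAs (Mono j.left))
  -- the unit as a point of the chart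
  have hlift : ∀ {A : Type u} [CommRing A] [Algebra k A] (f : sp (k := k) A ⟶ M),
      Set.range f.left.base ⊆ (W : Set M.left) → ∃ g : sp (k := k) A ⟶ sp Γ(M.left, W), g ≫ j = f := by
    intro A _ _ f hf
    let g := IsOpenImmersion.lift hW.fromSpec f.left (by rwa [hW.range_fromSpec])
    have hg : g ≫ hW.fromSpec = f.left := IsOpenImmersion.lift_fac _ _ _
    refine ⟨Over.homMk g ?_, Over.OverMorphism.ext hg⟩
    change g ≫ Spec.map sk = _
    rw [hsk, ← Category.assoc, hg]
    exact Over.w f
  obtain ⟨e0, he0⟩ := hlift (1 : sp (k := k) k ⟶ M) (by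
    rintro _ ⟨q, rfl⟩
    rwa [show q = pt from Subsingleton.elim (α := ↥(Spec (CommRingCat.of k))) _ _])
  obtain ⟨ε, rfl⟩ := exists_spMap e0
  let p₁ : R →ₐ[k] (R ⊗[k] Γ(M.left, W)) := Algebra.TensorProduct.includeLeft
  let p₂ : Γ(M.left, W) →ₐ[k] (R ⊗[k] Γ(M.left, W)) := Algebra.TensorProduct.includeRight
  let s₀ : (R ⊗[k] Γ(M.left, W)) →ₐ[k] Γ(M.left, W) :=
    Algebra.TensorProduct.lift ((Algebra.ofId k _).comp ρ) (AlgHom.id k _) fun _ _ => Commute.all _ _
  let L : sp (k := k) (R ⊗[k] Γ(M.left, W)) ⟶ M := (spMap p₁ ≫ m) * (spMap p₂ ≫ j)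
  have hs₁ : s₀.comp p₁ = (Algebra.ofId k _).comp ρ := by
    ext r; simp [s₀, p₁]
  have hs₂ : s₀.comp p₂ = AlgHom.id k _ := by
    ext r; simp [s₀, p₂]
  have hL0 : spMap s₀ ≫ L = j := by
    rw [MonObj.comp_mul, ← Category.assoc, ← Category.assoc, spMap_comp, spMap_comp, hs₁, hs₂, spMap_id,
      Category.id_comp, ← spMap_comp, Category.assoc, hm, MonObj.comp_one, _root_.one_mul]
  have hker : ∀ z, z - Algebra.TensorProduct.includeRight (s₀ z) ∈
      (RingHom.ker ρ.toRingHom).map (algebraMap R (R ⊗[k] Γ(M.left, W))) := by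
    intro z
    induction z using TensorProduct.induction_on with
    | zero => simp
    | add x y hx hy =>
      rw [map_add, map_add, add_sub_add_comm]
      exact add_mem hx hy
    | tmul r c =>
      have h1 : Algebra.TensorProduct.includeRight (s₀ (r ⊗ₜ[k] c)) =
          (algebraMap k R (ρ r)) ⊗ₜ[k] c := by
        simp only [s₀, Algebra.TensorProduct.lift_tmul, AlgHom.coe_comp, Function.comp_apply,
          AlgHom.coe_id, id_eq, Algebra.TensorProduct.includeRight_apply]
        rw [Algebra.ofId_apply, ← Algebra.smul_def, TensorProduct.tmul_smul, TensorProduct.smul_tmul',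
          Algebra.algebraMap_eq_smul_one]
      rw [h1, ← TensorProduct.sub_tmul, show (r - algebraMap k R (ρ r)) ⊗ₜ[k] c =
        algebraMap R (R ⊗[k] Γ(M.left, W)) (r - algebraMap k R (ρ r)) * ((1 : R) ⊗ₜ[k] c) by simp]
      exact Ideal.mul_mem_right _ _ (Ideal.mem_map_of_mem _ (by simp [RingHom.mem_ker]))
  have hrange : Set.range L.left.base ⊆ (W : Set M.left) := by
    rintro _ ⟨q, rfl⟩
    have hqs : q ∈ Set.range (PrimeSpectrum.comap s₀.toRingHom) := by
      rw [range_comap_of_surjective _ _ (fun c => ⟨p₂ c, AlgHom.congr_fun hs₂ c⟩)]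
      intro z hz
      obtain ⟨N, hN⟩ := hρ
      have h1 := hker z
      rw [show s₀ z = 0 from hz, map_zero, sub_zero] at h1
      refine (PrimeSpectrum.isPrime q).mem_of_pow_mem N ?_
      have h2 := Ideal.pow_mem_pow h1 N
      rw [← Ideal.map_pow, hN, Ideal.zero_eq_bot, Ideal.map_bot, Ideal.mem_bot] at h2
      rw [h2]
      exact zero_mem _
    obtain ⟨q', rfl⟩ := hqs
    change L.left.base ((spMap s₀).left.base q') ∈ _
    rw [← Scheme.Hom.comp_apply, ← Over.comp_left, hL0]
    exact hW.range_fromSpec.le ⟨q', rfl⟩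
  obtain ⟨L', hL'⟩ := hlift L hrange
  obtain ⟨l, rfl⟩ := exists_spMap L'
  have hls : s₀.comp l = AlgHom.id k _ := by
    have h1 : spMap s₀ ≫ spMap l = 𝟙 _ := by
      rw [← cancel_mono j, Category.assoc, hL', hL0, Category.id_comp]
    rw [spMap_comp, ← spMap_id] at h1
    exact AlgHom.ext fun c => congr($(Spec.map_injective (congrArg CommaMorphism.left h1)) c)
  let φ : (R ⊗[k] Γ(M.left, W)) →ₐ[R] (R ⊗[k] Γ(M.left, W)) :=
    Algebra.TensorProduct.lift (Algebra.ofId R _) l fun _ _ => Commute.all _ _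
  have hφ1 : ∀ z, φ z - z ∈
      (RingHom.ker ρ.toRingHom).map (algebraMap R (R ⊗[k] Γ(M.left, W))) := by
    intro z
    induction z using TensorProduct.induction_on with
    | zero => simp
    | add x y hx hy =>
      rw [map_add, add_sub_add_comm]
      exact add_mem hx hy
    | tmul r c =>
      have h1 := hker (l c)
      rw [show s₀ (l c) = c from (AlgHom.congr_fun hls c)] at h1
      rw [show φ (r ⊗ₜ[k] c) - r ⊗ₜ[k] c = algebraMap R (R ⊗[k] Γ(M.left, W)) r *
          (l c - Algebra.TensorProduct.includeRight c) by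
        simp [φ, mul_sub, Algebra.ofId_apply]]
      exact Ideal.mul_mem_left _ _ h1
  have hnil : IsNilpotent (φ.toLinearMap - 1 : Module.End R (R ⊗[k] Γ(M.left, W))) := by
    obtain ⟨N, hN⟩ := hρ
    refine ⟨N, ?_⟩
    have hstep : ∀ (n : ℕ) (z), ((φ.toLinearMap - 1 : Module.End R _) ^ n) z ∈
        (RingHom.ker ρ.toRingHom) ^ n • (⊤ : Submodule R (R ⊗[k] Γ(M.left, W))) := by
      intro n
      induction n with
      | zero => intro z; rw [pow_zero, pow_zero, Ideal.one_eq_top, Submodule.top_smul]; trivial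
      | succ n ih =>
        intro z
        rw [pow_succ (φ.toLinearMap - 1), Module.End.mul_apply, pow_succ' (RingHom.ker ρ.toRingHom), Submodule.mul_smul]
        have h1 : (φ.toLinearMap - 1 : Module.End R _) z ∈
            (RingHom.ker ρ.toRingHom) • (⊤ : Submodule R (R ⊗[k] Γ(M.left, W))) := by
          rw [Ideal.smul_top_eq_map, Submodule.restrictScalars_mem]
          exact hφ1 z
        refine Submodule.smul_induction_on h1 (fun r hr w _ => ?_) fun a b ha hb => by
          rw [map_add]; exact add_mem ha hb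
        rw [map_smul]
        exact Submodule.smul_mem_smul hr (ih w)
    refine LinearMap.ext fun z => ?_
    have h2 := hstep N z
    rw [hN, Ideal.zero_eq_bot, Submodule.bot_smul, Submodule.mem_bot] at h2
    rw [h2]; rfl
  have hbij : Function.Bijective φ := by
    have hu := hnil.isUnit_one_add
    rw [add_sub_cancel] at hu
    exact (Module.End.isUnit_iff φ.toLinearMap).1 hu
  let φe := AlgEquiv.ofBijective φ hbij
  let εu : (R ⊗[k] Γ(M.left, W)) →ₐ[R] R :=
    Algebra.TensorProduct.lift (AlgHom.id R R) ((Algebra.ofId k R).comp ε) fun _ _ => Commute.all _ _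
  let χ : (R ⊗[k] Γ(M.left, W)) →ₐ[R] R := εu.comp φe.symm.toAlgHom
  let y : sp (k := k) R ⟶ M := spMap ((χ.restrictScalars k).comp p₂) ≫ j
  have hχ1 : (χ.restrictScalars k).comp p₁ = AlgHom.id k R :=
    AlgHom.ext fun r => χ.commutes r
  have hχl : (χ.restrictScalars k).comp l = (Algebra.ofId k R).comp ε := AlgHom.ext fun c => by
    change εu (φe.symm (l c)) = algebraMap k R (ε c)
    rw [show l c = φe (Algebra.TensorProduct.includeRight c) by simp [φe, φ, ← Algebra.TensorProduct.one_def], AlgEquiv.symm_apply_apply]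
    simp [εu, Algebra.ofId_apply]
  have hmy : m * y = 1 := by
    have h1 : spMap (χ.restrictScalars k) ≫ L = m * y := by
      rw [MonObj.comp_mul, ← Category.assoc, ← Category.assoc, spMap_comp, spMap_comp, hχ1, spMap_id,
        Category.id_comp]
    rw [← h1, ← hL', ← Category.assoc, spMap_comp, hχl, ← spMap_comp, Category.assoc, he0,
      MonObj.comp_one]
  refine ⟨y, hmy, ?_⟩
  have h2 := congrArg (spMap ρ ≫ ·) hmy
  simpa [MonObj.comp_mul, hm] using h2

/-- A nilpotent deformation of the unit of a monoid scheme is a unit. -/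
theorem isUnit_of_nilpotent (R : Type u) [CommRing R] [Algebra k R] (ρ : R →ₐ[k] k)
    (hρ : IsNilpotent (RingHom.ker ρ.toRingHom)) (m : sp (k := k) R ⟶ M) (hm : spMap ρ ≫ m = 1) :
    IsUnit m := by
  obtain ⟨y, hy, hy0⟩ := exists_right_inv R ρ hρ m hm
  obtain ⟨z, hz, -⟩ := exists_right_inv R ρ hρ y hy0
  exact ⟨⟨m, y, hy, by rwa [← left_inv_eq_right_inv hy hz] at hz⟩, rfl⟩

theorem exists_factor {X : Scheme.{u}} {R : CommRingCat.{u}} [IsLocalRing R] (g : Spec R ⟶ X) (x : X)
    (h : g.base (IsLocalRing.closedPoint R) = x) :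
    ∃ ψ : X.presheaf.stalk x ⟶ R, IsLocalHom ψ.hom ∧ Spec.map ψ ≫ X.fromSpecStalk x = g := by
  subst h
  exact ⟨Scheme.stalkClosedPointTo g, inferInstance, Scheme.Spec_stalkClosedPointTo_fromSpecStalk g⟩

/-- The unit group is flat over the monoid at the unit. -/
theorem flat_at_one {G : Over (Spec (CommRingCat.of k))} [LocallyOfFiniteType G.hom] (i : G ⟶ M) [Mono i.left]
    (hi : ∀ (T : Over (Spec (CommRingCat.of k))) (m : T ⟶ M), (∃ g : T ⟶ G, g ≫ i = m) ↔ IsUnit m)
    (η₀ : 𝟙_ (Over (Spec (CommRingCat.of k))) ⟶ G) (hη₀ : η₀ ≫ i = η[M])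
    (pt : ↥(𝟙_ (Over (Spec (CommRingCat.of k)))).left) :
    (i.left.stalkMap (η₀.left.base pt)).hom.Flat := by
  haveI : IsLocallyNoetherian G.left := LocallyOfFiniteType.isLocallyNoetherian G.hom
  haveI : IsLocallyNoetherian M.left := LocallyOfFiniteType.isLocallyNoetherian M.hom
  set e := η₀.left.base pt with he
  let A := M.left.presheaf.stalk (i.left.base e)
  let B := G.left.presheaf.stalk e
  have key : ∀ n : ℕ, ∃ ψ : ↑B →+* ↑A ⧸ IsLocalRing.maximalIdeal ↑A ^ (n + 1),
      ψ.comp (i.left.stalkMap e).hom = Ideal.Quotient.mk _ ∧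
      IsLocalHom ψ := by
    intro n
    let J := IsLocalRing.maximalIdeal ↑A ^ (n + 1)
    obtain ⟨a, ha⟩ := Spec.map_surjective (M.left.fromSpecStalk (i.left.base e) ≫ M.hom)
    letI : Algebra k ↑A := a.hom.toAlgebra
    obtain ⟨r, hrloc, hr⟩ := exists_factor (R := CommRingCat.of k) η[M].left (i.left.base e) (by
      rw [← hη₀, Over.comp_left, Scheme.Hom.comp_apply, he]
      exact congrArg (fun q => i.left.base (η₀.left.base q))
        (Subsingleton.elim (α := ↥(Spec (CommRingCat.of k))) _ _))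
    have hrk : a ≫ r = 𝟙 _ := Spec.map_injective (by
      rw [Spec.map_comp, Spec.map_id, ha, ← Category.assoc, hr]
      exact Over.w η[M])
    let ρA : ↑A →ₐ[k] k := ⟨r.hom, fun c => congr($hrk c)⟩
    have hJ : ∀ z ∈ J, ρA z = 0 := fun z hz => by
      have hzm : z ∈ IsLocalRing.maximalIdeal ↑A := Ideal.pow_le_self (by omega) hz
      by_contra h0
      exact hzm ((isUnit_map_iff r.hom z).1 (isUnit_iff_ne_zero.2 h0))
    let ρ : (↑A ⧸ J) →ₐ[k] k := Ideal.Quotient.liftₐ J ρA hJ
    have hρ : IsNilpotent (RingHom.ker ρ.toRingHom) := by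
      refine ⟨n + 1, le_bot_iff.1 ((Ideal.pow_right_mono (I := RingHom.ker ρ.toRingHom)
        (J := (IsLocalRing.maximalIdeal ↑A).map (Ideal.Quotient.mk J)) ?_ _).trans ?_)⟩
      · intro z hz
        obtain ⟨z, rfl⟩ := Ideal.Quotient.mk_surjective z
        refine Ideal.mem_map_of_mem _ fun hu => ?_
        exact (hu.map ρA).ne_zero (show ρA z = 0 from hz)
      · rw [← Ideal.map_pow, Ideal.map_quotient_self]
    let c : sp (k := k) (↑A ⧸ J) ⟶ M :=
      Over.homMk (Spec.map (CommRingCat.ofHom (Ideal.Quotient.mk J)) ≫ M.left.fromSpecStalk (i.left.base e)) (by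
        rw [Category.assoc, ← ha, ← Spec.map_comp]
        rfl)
    have hc : spMap ρ ≫ c = 1 := by
      apply Over.OverMorphism.ext
      rw [Over.comp_left, Hom.one_def, Over.comp_left]
      change Spec.map (CommRingCat.ofHom ρ.toRingHom) ≫ Spec.map _ ≫ _ = _
      rw [← Category.assoc, ← Spec.map_comp, show (toUnit (sp (k := k) k)).left = 𝟙 _ from ?_,
        Category.id_comp, ← hr]
      · rfl
      · change Spec.map (CommRingCat.ofHom (algebraMap k k)) = 𝟙 _
        exact Spec.map_id _
    obtain ⟨g, hg⟩ := (hi _ c).2 (isUnit_of_nilpotent _ ρ hρ c hc)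
    haveI : Nontrivial (↑A ⧸ J) := Ideal.Quotient.nontrivial_iff.2
      (fun h => (IsLocalRing.maximalIdeal.isMaximal ↑A).ne_top
        (top_le_iff.1 (h ▸ Ideal.pow_le_self (by omega))))
    haveI : IsLocalRing (↑A ⧸ J) := .of_surjective' _ Ideal.Quotient.mk_surjective
    haveI : IsLocalHom (Ideal.Quotient.mk J) := .of_surjective _ Ideal.Quotient.mk_surjective
    have hge : g.left.base (IsLocalRing.closedPoint (↑A ⧸ J)) = e := by
      apply i.left.injective
      rw [← Scheme.Hom.comp_apply, ← Over.comp_left, hg]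
      change (Spec.map _ ≫ M.left.fromSpecStalk _).base _ = _
      rw [Scheme.Hom.comp_apply]
      exact (congrArg (M.left.fromSpecStalk (i.left.base e)).base
        (IsLocalRing.comap_closedPoint _)).trans Scheme.fromSpecStalk_closedPoint
    obtain ⟨ψ, hψl, hψ⟩ := exists_factor (R := CommRingCat.of (↑A ⧸ J)) g.left e hge
    refine ⟨ψ.hom, ?_, hψl⟩
    have h3 : Spec.map ψ ≫ Spec.map (i.left.stalkMap e) =
        Spec.map (CommRingCat.ofHom (Ideal.Quotient.mk J)) := by
      rw [← cancel_mono (M.left.fromSpecStalk _), Category.assoc,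
        Scheme.SpecMap_stalkMap_fromSpecStalk, reassoc_of% hψ, ← Over.comp_left, hg]
      rfl
    rw [← Spec.map_comp] at h3
    exact congrArg CommRingCat.Hom.hom (Spec.map_injective h3)
  refine UnitOpen.flat_of_completion _ (fun n => ?_) (fun n a ha => ?_)
  · obtain ⟨ψ, hψ, hψl⟩ := key n
    let q : ↑B →+* ↑B ⧸ IsLocalRing.maximalIdeal ↑B ^ (n + 1) := Ideal.Quotient.mk _
    let φn : ↑A ⧸ IsLocalRing.maximalIdeal ↑A ^ (n + 1) →+* ↑B ⧸ IsLocalRing.maximalIdeal ↑B ^ (n + 1) :=
      Ideal.Quotient.lift _ (q.comp (i.left.stalkMap e).hom) fun z hz => by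
        refine Ideal.Quotient.eq_zero_iff_mem.2 ?_
        have h1 := Ideal.mem_map_of_mem (i.left.stalkMap e).hom hz
        rw [Ideal.map_pow] at h1
        exact Ideal.pow_right_mono (IsLocalRing.map_maximalIdeal_le _) _ h1
    have hq : φn.comp ψ = q := by
      have h0 : (i.left.stalkMap e) ≫ CommRingCat.ofHom (φn.comp ψ) =
          (i.left.stalkMap e) ≫ CommRingCat.ofHom q := CommRingCat.hom_ext (by
        change (φn.comp ψ).comp _ = q.comp _
        rw [RingHom.comp_assoc]
        exact (congrArg φn.comp hψ).trans (Ideal.Quotient.lift_comp_mk _ _ _))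
      have h1 : Spec.map (CommRingCat.ofHom (φn.comp ψ)) ≫ G.left.fromSpecStalk e ≫ i.left =
          Spec.map (CommRingCat.ofHom q) ≫ G.left.fromSpecStalk e ≫ i.left := by
        rw [← Scheme.SpecMap_stalkMap_fromSpecStalk, ← Category.assoc, ← Category.assoc, ← Spec.map_comp,
          ← Spec.map_comp]
        exact congrArg (fun x => Spec.map x ≫ M.left.fromSpecStalk _) h0
      rw [← Category.assoc, ← Category.assoc, cancel_mono, cancel_mono] at h1
      exact congrArg CommRingCat.Hom.hom (Spec.map_injective h1)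
    intro z
    obtain ⟨b, rfl⟩ := Ideal.Quotient.mk_surjective z
    obtain ⟨a, ha⟩ := Ideal.Quotient.mk_surjective (ψ b)
    refine ⟨a, ?_⟩
    have h2 := RingHom.congr_fun hq b
    rw [RingHom.comp_apply, ← ha] at h2
    exact h2
  · obtain ⟨ψ, hψ, hψl⟩ := key n
    rw [← Ideal.Quotient.eq_zero_iff_mem, ← hψ, RingHom.comp_apply]
    have h1 : ψ ((i.left.stalkMap e).hom a) ∈
        (IsLocalRing.maximalIdeal ↑B).map ψ ^ (n + 1) := by
      rw [← Ideal.map_pow]; exact Ideal.mem_map_of_mem _ ha
    have h2 : (IsLocalRing.maximalIdeal ↑B).map ψ ≤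
        (IsLocalRing.maximalIdeal ↑A).map (Ideal.Quotient.mk (IsLocalRing.maximalIdeal ↑A ^ (n + 1))) := by
      rw [Ideal.map_le_iff_le_comap]
      intro b hb
      obtain ⟨z, hz⟩ := Ideal.Quotient.mk_surjective (ψ b)
      rw [Ideal.mem_comap, ← hz]
      refine Ideal.mem_map_of_mem _ fun hu => hb (hψl.map_nonunit b ?_)
      rw [← hz]; exact hu.map _
    have h3 := Ideal.pow_right_mono h2 _ h1
    rwa [← Ideal.map_pow, Ideal.map_quotient_self, Ideal.mem_bot] at h3

end

theorem sMul {S : Scheme.{u}} {M : Over S} [MonObj M]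
    (s : PullbackCone (lift μ[M] (lift (snd M M) (fst M M) ≫ μ[M])) (lift η[M] η[M])) :
    (s.fst ≫ fst M M) * (s.fst ≫ snd M M) = 1 ∧ (s.fst ≫ snd M M) * (s.fst ≫ fst M M) = 1 := by
  have h := s.condition
  constructor
  · have h1 := congrArg (· ≫ fst M M) h
    simp only [Category.assoc, lift_fst] at h1
    rw [Hom.mul_def, ← comp_lift, lift_fst_snd, Category.comp_id, h1, Hom.one_def,
      toUnit_unique s.snd (toUnit _)]
  · have h1 := congrArg (· ≫ snd M M) h
    simp only [Category.assoc, lift_snd] at h1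
    rw [Hom.mul_def, ← comp_lift, Category.assoc, h1, Hom.one_def, toUnit_unique s.snd (toUnit _)]

theorem sUnit {S : Scheme.{u}} {M : Over S} [MonObj M]
    (s : PullbackCone (lift μ[M] (lift (snd M M) (fst M M) ≫ μ[M])) (lift η[M] η[M])) :
    IsUnit (s.fst ≫ fst M M) :=
  ⟨⟨_, _, (sMul s).1, (sMul s).2⟩, rfl⟩

/-- Let k be a field and M an algebraic monoid over k, i.e. a monoid object in k-schemes whose
underlying scheme is of finite type over k, and assume M is geometrically integral. Let i : G → M be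
the group of units of M: a monomorphism of k-schemes such that, for every k-scheme T, a T-valued
point of M factors through i if and only if it is invertible in the monoid M(T). Then i is an open
immersion. -/
theorem result (k : Type u) [Field k]
    (M G : Over (Spec (CommRingCat.of k))) [MonObj M] [LocallyOfFiniteType M.hom] [QuasiCompact M.hom]
    [GeometricallyIntegral M.hom] (i : G ⟶ M) [Mono i]
    (hi : ∀ (T : Over (Spec (CommRingCat.of k))) (m : T ⟶ M), (∃ g : T ⟶ G, g ≫ i = m) ↔ IsUnit m) :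
    IsOpenImmersion i.left := by
  haveI : Mono i.left := inferInstanceAs (Mono ((Over.forget _).map i))
  have hone : ∃ g : 𝟙_ (Over (Spec (CommRingCat.of k))) ⟶ G, g ≫ i = η[M] :=
    (hi _ _).2 (by rw [MonObj.one_eq_one]; exact isUnit_one)
  obtain ⟨η₀, hη₀⟩ := hone
  have hmem : ∀ (T : Over (Spec (CommRingCat.of k))) (g : T ⟶ G), IsUnit (g ≫ i) :=
    fun T g => (hi T _).1 ⟨g, rfl⟩
  obtain ⟨μ₀, hμ₀⟩ := (hi _ _).2 ((hmem _ (fst G G)).mul (hmem _ (snd G G)))
  obtain ⟨inv₀, hinv₀⟩ := (hi _ _).2 ((hmem _ (𝟙 G)).unit⁻¹).isUnit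
  have hmul : ∀ (T : Over (Spec (CommRingCat.of k))) (g h : T ⟶ G),
      lift g h ≫ μ₀ ≫ i = (g ≫ i) * (h ≫ i) := fun T g h => by
    rw [hμ₀, MonObj.comp_mul, lift_fst_assoc, lift_snd_assoc]
  letI : GrpObj G :=
    { one := η₀
      mul := μ₀
      one_mul := by
        rw [← cancel_mono i]
        have e1 : η₀ ▷ G = lift (fst _ _ ≫ η₀) (snd _ _) := by ext1 <;> simp
        rw [e1, Category.assoc, hmul, Category.assoc, hη₀, leftUnitor_hom,
          toUnit_unique (fst _ _) (toUnit _), ← Hom.one_def, _root_.one_mul]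
      mul_one := by
        rw [← cancel_mono i]
        have e1 : G ◁ η₀ = lift (fst _ _) (snd _ _ ≫ η₀) := by ext1 <;> simp
        rw [e1, Category.assoc, hmul, Category.assoc, hη₀, rightUnitor_hom,
          toUnit_unique (snd _ _) (toUnit _), ← Hom.one_def, _root_.mul_one]
      mul_assoc := by
        rw [← cancel_mono i]
        have e1 : μ₀ ▷ G = lift (fst _ _ ≫ μ₀) (snd _ _) := by ext1 <;> simp
        have e2 : G ◁ μ₀ = lift (fst _ _) (snd _ _ ≫ μ₀) := by ext1 <;> simp
        simp only [e1, e2, Category.assoc, hmul]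
        simp only [Category.assoc, hμ₀, MonObj.comp_mul, associator_hom_fst_assoc,
          associator_hom_snd_fst_assoc, associator_hom_snd_snd_assoc, _root_.mul_assoc]
      inv := inv₀
      left_inv := by
        rw [← cancel_mono i, Category.assoc, hmul, hinv₀, Category.assoc]
        erw [hη₀]
        rw [← Hom.one_def]
        exact (hmem _ (𝟙 G)).val_inv_mul
      right_inv := by
        rw [← cancel_mono i, Category.assoc, hmul, hinv₀, Category.assoc]
        erw [hη₀]
        rw [← Hom.one_def]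
        exact (hmem _ (𝟙 G)).mul_val_inv }
  haveI : IsMonHom i :=
    { one_hom := hη₀
      mul_hom := by
        change μ₀ ≫ i = _
        rw [hμ₀, Hom.mul_def]
        congr 1 }
  -- `G` is locally of finite type: it is cartesian over `M ⊗ M` above the unit
  haveI : LocallyOfFiniteType G.hom := by
    have hp : IsPullback (lift i (inv₀ ≫ i)) (toUnit G)
        (lift μ[M] (lift (snd M M) (fst M M) ≫ μ[M])) (lift η[M] η[M]) := by
      have hw : lift i (inv₀ ≫ i) ≫ lift μ[M] (lift (snd M M) (fst M M) ≫ μ[M]) =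
          toUnit G ≫ lift η[M] η[M] := by
        apply CartesianMonoidalCategory.hom_ext
        · simp only [Category.assoc, lift_fst, comp_lift]
          rw [← Hom.mul_def, hinv₀, ← Hom.one_def]
          simpa using (hmem _ (𝟙 G)).mul_val_inv
        · simp only [Category.assoc, lift_snd, comp_lift]
          rw [← Category.assoc, comp_lift]
          simp only [lift_snd, lift_fst]
          rw [← Hom.mul_def, hinv₀, ← Hom.one_def]
          simpa using (hmem _ (𝟙 G)).val_inv_mul
      refine IsPullback.of_isLimit (PullbackCone.IsLimit.mk hw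
        (fun s => Classical.choose ((hi _ (s.fst ≫ fst M M)).2 (sUnit s)))
        (fun s => ?_) (fun s => toUnit_unique _ _) fun s m h1 _ => ?_)
      · have hg := Classical.choose_spec ((hi _ (s.fst ≫ fst M M)).2 (sUnit s))
        apply CartesianMonoidalCategory.hom_ext
        · rw [Category.assoc, lift_fst, hg]
        · rw [Category.assoc, lift_snd, ← Category.assoc]
          refine left_inv_eq_right_inv (a := s.fst ≫ fst M M) ?_ (sMul s).1
          have h2 := (hmem _ (𝟙 G)).val_inv_mul
          rw [← hinv₀] at h2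
          have h3 := congrArg (Classical.choose ((hi _ (s.fst ≫ fst M M)).2 (sUnit s)) ≫ ·) h2
          simpa [MonObj.comp_mul, MonObj.comp_one, hg, ← Category.assoc] using h3
      · rw [← cancel_mono i, Classical.choose_spec ((hi _ (s.fst ≫ fst M M)).2 (sUnit s)), ← h1,
          Category.assoc, lift_fst]
    have h2 := hp.map (Over.forget (Spec (CommRingCat.of k)))
    haveI : LocallyOfFiniteType ((lift η[M] η[M]).left ≫ (M ⊗ M).hom) := by
      rw [Over.w]; exact inferInstanceAs (LocallyOfFiniteType (𝟙 _))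
    haveI : LocallyOfFiniteType (lift η[M] η[M]).left := locallyOfFiniteType_of_comp _ (M ⊗ M).hom
    haveI : LocallyOfFiniteType (lift i (inv₀ ≫ i)).left :=
      MorphismProperty.of_isPullback (P := @LocallyOfFiniteType) h2.flip ‹_›
    haveI : LocallyOfFiniteType (M ⊗ M).hom := by
      rw [← Over.w (fst M M)]
      haveI : LocallyOfFiniteType (fst M M).left := fst_left_of (P := @LocallyOfFiniteType) M ‹_›
      infer_instance
    rw [← Over.w (lift i (inv₀ ≫ i))]
    infer_instance
  let a : AlgGrp.Action G M := actionMk ((i ▷ M) ≫ μ[M])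
    (fun T x => by rw [lift_whiskerRight_assoc, MonObj.one_comp, ← Hom.mul_def, _root_.one_mul])
    (fun T g g' x => by
      rw [lift_whiskerRight_assoc, lift_whiskerRight_assoc, lift_whiskerRight_assoc, MonObj.mul_comp,
        ← Hom.mul_def, ← Hom.mul_def, ← Hom.mul_def, _root_.mul_assoc])
  refine UnitOpen.isOpenImmersion_of_flat_at_one a i ?_ (IsLocalRing.closedPoint k)
    (flat_at_one i hi η₀ hη₀ _)
  change (G ◁ i) ≫ (i ▷ M) ≫ μ[M] = μ[G] ≫ i
  rw [IsMonHom.mul_hom, tensorHom_def', Category.assoc]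

end Groth.Agent.S18817
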