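import Groth.Statements.S18819
import Groth.Agent.H66.DualMod
import Mathlib.RingTheory.SimpleModule.Isotypic
-- import your own Groth.Agent.* helpers here

set_option autoImplicit false
universe u v w w'
open TensorProduct
open HopfRep

namespace Groth.Agent.S18819
open TensorProduct Groth.Agent.Lib.Comod.Basic Groth.Agent.H66.DualMod
set_option linter.style.haveILetI false

/-- Let k be a field, C a k-coalgebra and V a right C-comodule which is the sum of finitely many simple
subcomodules, given as the images of comodule maps g_i : K_i → V (i < n) from simple comodules K_i.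
If S is a simple comodule and f : S → V a nonzero comodule map (so that its image is a simple
subcomodule of V), then S is isomorphic as a comodule to some K_i: there is a k-linear isomorphism S
≃ K_i commuting with the coactions. (The source states this for representations of an affine monoid
scheme over k with the subrepresentations given as subspaces; here the simple subcomodules are
presented as images of maps from simple comodules.) -/
theorem result (k : Type u) [Field k]
    (C : Type v) [AddCommGroup C] [Module k C] [Coalgebra k C]
    (V : Type w) [AddCommGroup V] [Module k V] [HopfRep.Comod k C V]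
    {n : ℕ} (K : Fin n → Type w') [∀ i, AddCommGroup (K i)] [∀ i, Module k (K i)] [∀ i, HopfRep.Comod k C (K i)]
    (hK : ∀ i, HopfRep.IsSimpleComod k C (K i)) (g : ∀ i, K i →ₗ[k] V) (hg : ∀ i, Hoch.IsComodHom C (g i))
    (hsum : (⨆ i, LinearMap.range (g i)) = ⊤)
    (S : Type w') [AddCommGroup S] [Module k S] [HopfRep.Comod k C S] (hS : HopfRep.IsSimpleComod k C S)
    (f : S →ₗ[k] V) (hf : Hoch.IsComodHom C f) (hf0 : f ≠ 0) :
    ∃ (i : Fin n) (e : S ≃ₗ[k] K i), Hoch.IsComodHom C (e : S →ₗ[k] K i) := by
  letI := module k C V
  letI := fun i => module k C (K i)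
  letI := module k C S
  haveI hKs : ∀ i, IsSimpleModule (CDual k C) (K i) := fun i => isSimpleComod_iff.1 (hK i)
  haveI := isSimpleComod_iff.1 hS
  let G : ∀ i, K i →ₗ[CDual k C] V := fun i => homOf (g i) (hg i)
  have htop : ⨆ i, LinearMap.range (G i) = ⊤ := ofSub_inj (by rw [ofSub_iSup]; exact hsum)
  haveI : IsSemisimpleModule (CDual k C) V :=
    isSemisimpleModule_of_isSemisimpleModule_submodule' (fun i => IsSemisimpleModule.range (G i)) htop
  let F : S →ₗ[CDual k C] V := homOf f hf
  have hF : Function.Injective F :=
    (F.injective_or_eq_zero).resolve_right fun h => hf0 (LinearMap.ext fun x => LinearMap.congr_fun h x)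
  obtain ⟨p, hp⟩ := IsSemisimpleModule.extension_property F hF LinearMap.id
  have : ∃ i, p ∘ₗ G i ≠ 0 := by
    by_contra hne
    simp only [not_exists, not_not] at hne
    have hp0 : p = 0 := by
      rw [← LinearMap.ker_eq_top, eq_top_iff, ← htop]
      exact iSup_le fun i => LinearMap.range_le_ker_iff.2 (hne i)
    haveI := IsSimpleModule.nontrivial (CDual k C) S
    obtain ⟨x, hx⟩ := exists_ne (0 : S)
    exact hx (by simpa [hp0] using (LinearMap.congr_fun hp x).symm)
  obtain ⟨i, hi⟩ := this
  let e := LinearEquiv.ofBijective (p ∘ₗ G i) (LinearMap.bijective_of_ne_zero hi)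
  refine ⟨i, LinearEquiv.ofBijective (homBack e.symm.toLinearMap) e.symm.bijective, ?_⟩
  exact isComodHom_homBack e.symm.toLinearMap

end Groth.Agent.S18819
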