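import Groth.Statements.S1882
import Groth.Agent.H63.GrpdIrred
-- import your own Groth.Agent.* helpers here

set_option autoImplicit false
universe u
open CategoryTheory CategoryTheory.Limits AlgebraicGeometry
open Grpd

namespace Groth.Agent.S1882
open Groth.Agent.H63.GrpdIrred

/-- Let (U, R, s, t, c) be a groupoid scheme over S with U isomorphic to the spectrum of a field k. Then
every local ring of R has exactly one minimal prime ideal, and exactly one irreducible component of
R passes through the identity point e. (The published statement has a third part, geometric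
irreducibility of that component over k, which is not stated here.) (A groupoid scheme carries U, R,
s, t, c, e, i over S with the groupoid axioms on T-points.) -/
theorem result (S : Scheme.{u}) (G : Grpd.GroupoidScheme S) (k : Type u) [Field k] (eU : G.U ≅ Spec (CommRingCat.of k)) : (∀ r : G.R, (minimalPrimes (G.R.presheaf.stalk r)).Subsingleton) ∧ ∃! Z : Set G.R, Z ∈ irreducibleComponents (G.R : Type u) ∧ G.e (eU.inv (IsLocalRing.closedPoint k)) ∈ Z := by
  constructor
  · intro x p hp q hq
    have hemb : Topology.IsInducing (G.R.fromSpecStalk x) :=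
      (G.R.fromSpecStalk x).isEmbedding.isInducing
    let p' : ↑(Spec (G.R.presheaf.stalk x)) := ⟨p, hp.1.1⟩
    let q' : ↑(Spec (G.R.presheaf.stalk x)) := ⟨q, hq.1.1⟩
    have hp' : G.R.fromSpecStalk x p' ⤳ x := Scheme.range_fromSpecStalk.subset ⟨p', rfl⟩
    have hq' : G.R.fromSpecStalk x q' ⤳ x := Scheme.range_fromSpecStalk.subset ⟨q', rfl⟩
    obtain ⟨z, hz1, hz2⟩ := common_gen G eU hp' hq'
    obtain ⟨z', rfl⟩ := Scheme.range_fromSpecStalk.symm.subset (hz1.trans hp')
    have h1 : z'.asIdeal ≤ p := (PrimeSpectrum.le_iff_specializes z' p').2 (hemb.specializes_iff.1 hz1)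
    have h2 : z'.asIdeal ≤ q := (PrimeSpectrum.le_iff_specializes z' q').2 (hemb.specializes_iff.1 hz2)
    rw [← (h1.antisymm (hp.2 ⟨z'.isPrime, bot_le⟩ h1)), h2.antisymm (hq.2 ⟨z'.isPrime, bot_le⟩ h2)]
  · exact ⟨irreducibleComponent (ePt G eU),
      ⟨irreducibleComponent_mem_irreducibleComponents _, mem_irreducibleComponent⟩,
      fun Z hZ => eq_irreducibleComponent G eU hZ.1 hZ.2⟩

end Groth.Agent.S1882
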