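import Groth.Statements.S18823

import Groth.Agent.Lib.GrpSch.FiniteAgree
import Groth.Agent.Lib.GrpSch.AffPts
import Mathlib.AlgebraicGeometry.Morphisms.SchemeTheoreticallyDominant

set_option autoImplicit false
universe u
open CategoryTheory MonoidalCategory CartesianMonoidalCategory AlgebraicGeometry
open AlgGrp

open Groth.Agent.Lib.GrpSch TensorProduct

namespace Groth.Agent.S18823

open Limits FreeRestr AffPts in
/-- Over a field, the preimage condition along a projection is closed. -/
theorem exists_restr_prod {k : Type u} [Field k] (M T : Over (Spec (CommRingCat.of k))) {E : Scheme.{u}}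
    (e : E ⟶ (M ⊗ T).left) [IsClosedImmersion e] :
    ∃ (Z : Scheme.{u}) (j : Z ⟶ M.left), IsClosedImmersion j ∧
      ∀ (W : Scheme.{u}) (x : W ⟶ M.left), (∃ w, w ≫ j = x) ↔ Restr (fst M T).left e x := by
  classical
  refine Groth.Agent.Lib.GrpSch.exists_closed_of_local (X := M.left) (fun {W} x => Restr (fst M T).left e x)
    (fun g x hx => Restr.precomp hx g) (fun x hx => Restr.of_local x hx) (fun x => ?_)
  obtain ⟨U, hU, hxU, -⟩ := exists_isAffineOpen_mem_and_subset (X := M.left) (x := x) (U := ⊤) trivial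
  obtain ⟨φ, hφ⟩ := Spec.map_surjective (hU.fromSpec ≫ M.hom)
  letI : Algebra k Γ(M.left, U) := φ.hom.toAlgebra
  let cA : sp (k := k) Γ(M.left, U) ⟶ M := Over.homMk hU.fromSpec hφ.symm
  haveI : IsOpenImmersion cA.left := hU.isOpenImmersion_fromSpec
  obtain ⟨B, _, _, cB, hcBo, hcBs⟩ : ∃ (B : T.left → Type u) (_ : ∀ t, CommRing (B t)) (_ : ∀ t, Algebra k (B t))
      (cB : ∀ t, sp (k := k) (B t) ⟶ T), (∀ t, IsOpenImmersion (cB t).left) ∧
        ∀ t : T.left, t ∈ Set.range (cB t).left.base := by
    choose V hV htV hVle using fun t : T.left =>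
      exists_isAffineOpen_mem_and_subset (X := T.left) (x := t) (U := ⊤) trivial
    choose ψ hψ using fun t => Spec.map_surjective ((hV t).fromSpec ≫ T.hom)
    letI : ∀ t, Algebra k Γ(T.left, V t) := fun t => (ψ t).hom.toAlgebra
    exact ⟨fun t => Γ(T.left, V t), inferInstance, inferInstance,
      fun t => Over.homMk (hV t).fromSpec (hψ t).symm, fun t => (hV t).isOpenImmersion_fromSpec,
      fun t => (hV t).range_fromSpec.symm ▸ htV t⟩
  let π := (fst M T).left
  let θ : ∀ t, Spec (CommRingCat.of (Γ(M.left, U) ⊗[k] B t)) ⟶ (M ⊗ T).left := fun t =>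
    (pullbackSpecIso k Γ(M.left, U) (B t)).inv ≫ (cA ⊗ₘ cB t).left
  have hθπ : ∀ t, θ t ≫ π = Spec.map (CommRingCat.ofHom (algebraMap Γ(M.left, U) (Γ(M.left, U) ⊗[k] B t))) ≫
      hU.fromSpec := fun t => by
    change (_ ≫ (cA ⊗ₘ cB t).left) ≫ (fst M T).left = _
    rw [Category.assoc, ← Over.comp_left, tensorHom_fst, Over.comp_left]
    exact (reassoc_of% (pullbackSpecIso_inv_fst k Γ(M.left, U) (B t))) hU.fromSpec
  let q : ∀ t, Spec (CommRingCat.of (Γ(M.left, U) ⊗[k] B t)) ⟶ pullback π hU.fromSpec := fun t =>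
    pullback.lift (θ t) (Spec.map (CommRingCat.ofHom (algebraMap Γ(M.left, U) _))) (hθπ t)
  haveI : ∀ t, IsOpenImmersion (θ t) := fun t => by
    haveI : IsOpenImmersion (cA ⊗ₘ cB t).left :=
      tensorHom_left_of (P := @IsOpenImmersion) cA (cB t) inferInstance (hcBo t)
    infer_instance
  haveI : IsOpenImmersion hU.fromSpec := hU.isOpenImmersion_fromSpec
  haveI : ∀ t, IsOpenImmersion (q t) := fun t => by
    haveI : IsOpenImmersion (q t ≫ pullback.fst π hU.fromSpec) := by
      rw [pullback.lift_fst]; infer_instance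
    exact IsOpenImmersion.of_comp (q t) (pullback.fst π hU.fromSpec)
  obtain ⟨Z, j, hj, hZ⟩ := exists_restr_affine (pullback.snd π hU.fromSpec)
    (pullback.snd e (pullback.fst π hU.fromSpec)) (fun t => Γ(M.left, U) ⊗[k] B t) q (fun y => by
      let y' := pullback.fst π hU.fromSpec y
      refine ⟨(snd M T).left y', ?_⟩
      have h1 : (fst M T).left y' ∈ Set.range hU.fromSpec.base :=
        ⟨pullback.snd π hU.fromSpec y, by
          rw [← Scheme.Hom.comp_apply, ← pullback.condition, Scheme.Hom.comp_apply]⟩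
      have h2 : y' ∈ Set.range (cA ⊗ₘ cB ((snd M T).left y')).left.base := by
        rw [Over.tensorHom_left]
        erw [Scheme.Pullback.range_map]
        exact ⟨h1, hcBs _⟩
      obtain ⟨w, hw⟩ := h2
      obtain ⟨w', hw'⟩ := (pullbackSpecIso k Γ(M.left, U) (B ((snd M T).left y'))).inv.surjective w
      refine ⟨w', (pullback.fst π hU.fromSpec).isOpenEmbedding.injective ?_⟩
      rw [← Scheme.Hom.comp_apply, pullback.lift_fst]
      change (_ ≫ (cA ⊗ₘ cB _).left).base w' = _
      rw [Scheme.Hom.comp_apply, hw', hw])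
    (fun t => pullback.lift_snd _ _ _)
  refine ⟨U, hxU, Z, j ≫ hU.isoSpec.inv, inferInstance, fun W t => ?_⟩
  have e1 : (∃ w, w ≫ j ≫ hU.isoSpec.inv = t) ↔ ∃ w, w ≫ j = t ≫ hU.isoSpec.hom :=
    ⟨fun ⟨w, hw⟩ => ⟨w, by rw [← hw]; simp⟩, fun ⟨w, hw⟩ => ⟨w, by rw [reassoc_of% hw]; simp⟩⟩
  have e2 : (t ≫ hU.isoSpec.hom) ≫ hU.fromSpec = t ≫ U.ι := by
    rw [Category.assoc, IsAffineOpen.isoSpec_hom, IsAffineOpen.toSpecΓ_fromSpec]
  rw [e1, hZ]
  constructor
  · intro h V p r hpr
    let p' := pullback.lift p (r ≫ t ≫ hU.isoSpec.hom) (by rw [hpr, Category.assoc, e2])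
    obtain ⟨w, hw⟩ := h V p' r (pullback.lift_snd _ _ _)
    exact ⟨w ≫ pullback.fst e _, by rw [Category.assoc, pullback.condition, reassoc_of% hw, pullback.lift_fst]⟩
  · intro h V p r hpr
    obtain ⟨w, hw⟩ := h V (p ≫ pullback.fst π hU.fromSpec) r (by
      rw [Category.assoc, pullback.condition, reassoc_of% hpr, ← e2, Category.assoc])
    exact ⟨pullback.lift w p hw, pullback.lift_snd _ _ _⟩

/-- Let k be a field, X a separated k-scheme, M a k-scheme (in the source a monoid k-scheme) acting on X
through a : M ×_k X → X, and i : G → M a morphism of k-schemes which is a scheme-theoretically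
dominant open immersion: no nonzero quasi-coherent ideal of O_M restricts to zero on G (for
quasi-compact i this is the usual schematic density, O_M → i_*O_G injective; in the source G is the
group of units of M, open and schematically dense). For a k-scheme T and a T-valued point x of X, x
is fixed under M, i.e. a ∘ (id_M × x) = x ∘ pr_T on M ×_k T, if and only if x is fixed under G, i.e.
a ∘ (i × x) = x ∘ pr_T on G ×_k T. Thus the fixed-point subpresheaves X^M and X^G of X are equal.
(The published statement has no separatedness assumption on X and reduces to points landing in an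
affine open; the step asserting that the equalizer of the two maps M ×_k T → X is closed uses that
the target is separated, so X is taken separated here, the case the printed argument establishes.
The monoid structure and the action axioms play no role in that argument and are not assumed.) -/
theorem result (k : Type u) [Field k]
    (M G X : Over (Spec (CommRingCat.of k))) [IsSeparated X.hom] (a : M ⊗ X ⟶ X) (i : G ⟶ M)
    [IsOpenImmersion i.left] [IsSchemeTheoreticallyDominant i.left]
    (T : Over (Spec (CommRingCat.of k))) (x : T ⟶ X) :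
    (M ◁ x) ≫ a = CartesianMonoidalCategory.snd M T ≫ x ↔
      (G ◁ x) ≫ (i ▷ X) ≫ a = CartesianMonoidalCategory.snd G T ≫ x := by
  constructor
  · intro h
    have h1 := congrArg ((i ▷ T) ≫ ·) h
    simp only [← Category.assoc] at h1
    rw [← whisker_exchange, whiskerRight_snd] at h1
    simpa using h1
  · intro h
    haveI : IsClosedImmersion (FiniteAgree.diag X) := FiniteAgree.diag_closed
    let u : M ⊗ T ⟶ X := (M ◁ x) ≫ a
    let v : M ⊗ T ⟶ X := snd M T ≫ x
    haveI : IsClosedImmersion (FiniteAgree.eqι u v) :=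
      MorphismProperty.pullback_fst (P := @IsClosedImmersion) _ _ ‹_›
    obtain ⟨Z, j, hj, hZ⟩ := exists_restr_prod M T (FiniteAgree.eqι u v)
    obtain ⟨g, hg⟩ := (hZ _ i.left).2 (fun W p q hpq => by
      let Wo : Over (Spec (CommRingCat.of k)) := Over.mk (p ≫ (M ⊗ T).hom)
      let po : Wo ⟶ M ⊗ T := Over.homMk p
      let qo : Wo ⟶ G := Over.homMk q (by
        change q ≫ G.hom = p ≫ (M ⊗ T).hom
        rw [← Over.w i, ← reassoc_of% hpq, Over.w (fst M T)])
      refine (FiniteAgree.factor_iff u v po).2 ?_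
      have hpo : po ≫ fst M T = qo ≫ i := Over.OverMorphism.ext hpq
      have hfac : po = lift qo (po ≫ snd M T) ≫ (i ▷ T) := by
        apply CartesianMonoidalCategory.hom_ext
        · simp [hpo]
        · simp
      have hh : (i ▷ T) ≫ u = (i ▷ T) ≫ v := by
        change (i ▷ T) ≫ (M ◁ x) ≫ a = (i ▷ T) ≫ snd M T ≫ x
        rw [← whisker_exchange_assoc, whiskerRight_snd_assoc]
        exact h
      rw [hfac, Category.assoc, Category.assoc, hh])
    have hker : j.ker = ⊥ := le_bot_iff.1 (by
      rw [← i.left.ker_eq_bot, ← hg]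
      exact Scheme.Hom.le_ker_comp g j)
    haveI : IsIso j := IsClosedImmersion.isIso_iff_ker_eq_bot.2 hker
    exact (FiniteAgree.factor_iff u v (𝟙 (M ⊗ T))).1
      ((hZ _ (𝟙 _)).1 ⟨inv j, IsIso.inv_hom_id j⟩ _ (𝟙 _) (fst M T).left (by simp))

end Groth.Agent.S18823
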