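import Groth.Statements.S18826

import Groth.Agent.Lib.GrpSch.Basic

set_option autoImplicit false
universe u
open CategoryTheory MonoidalCategory CartesianMonoidalCategory MonObj AlgebraicGeometry
open AlgGrp

open CategoryTheory MonoidalCategory CartesianMonoidalCategory MonObj AlgebraicGeometry

namespace Groth.Agent.S18826

open Groth.Agent.Lib.GrpSch

/-- Restriction of a cartesian square to opens of the bottom row. -/
theorem exists_restrict {A B C D : Scheme.{u}} {t : A ⟶ B} {l : A ⟶ C} {r : B ⟶ D} {b : C ⟶ D}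
    (h : IsPullback t l r b) (W : C.Opens) (U : D.Opens) (e : W ≤ b ⁻¹ᵁ U) :
    ∃ m, IsPullback m (l ∣_ W) (r ∣_ U) (b.resLE U W e) := by
  have h1 : IsPullback ((l ⁻¹ᵁ W).ι ≫ t) (l ∣_ W) r (W.ι ≫ b) :=
    (isPullback_morphismRestrict l W).flip.paste_horiz h
  rw [← Scheme.Hom.resLE_comp_ι b e] at h1
  exact ⟨_, h1.of_right' (isPullback_morphismRestrict r U).flip⟩

/-- A local property holds over a union of opens. -/
theorem restrict_iSup {A B : Scheme.{u}} (f : A ⟶ B) (P : MorphismProperty Scheme.{u})
    [IsZariskiLocalAtTarget P] {σ : Type u} (V : σ → B.Opens) (h : ∀ i, P (f ∣_ V i)) :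
    P (f ∣_ ⨆ i, V i) := by
  refine IsZariskiLocalAtTarget.of_iSup_eq_top (fun i ↦ (⨆ i, V i).ι ⁻¹ᵁ V i) ?_ fun i ↦ ?_
  · rw [← Scheme.Hom.preimage_iSup, Scheme.Opens.ι_preimage_self]
  · rw [P.arrow_mk_iso_iff (morphismRestrictRestrict f _ _)]
    have e : (⨆ i, V i).ι ''ᵁ ((⨆ i, V i).ι ⁻¹ᵁ V i) = V i := by
      rw [Scheme.Hom.image_preimage_eq_opensRange_inf, Scheme.Opens.opensRange_ι]
      exact inf_eq_right.mpr (le_iSup V i)
    rw [e]
    exact h i

/-- Let k be a field, G a locally algebraic group over k (a group k-scheme locally of finite type)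
acting on k-schemes X and Y, and f : X → Y a G-equivariant k-morphism. Let P be a property of
morphisms of schemes which is local on the target for the Zariski topology, stable under base
change, and descends along flat surjective universally open morphisms (the published hypothesis is
descent along fpqc morphisms; the printed argument descends only along the restriction G ×_k U → G·U
of the action, which is flat, surjective and universally open). Then there is a largest open subset
V of Y such that the restriction f⁻¹(V) → V of f has P, and this V is G-stable: the action G ×_k Y →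
Y maps G ×_k V into V. -/
theorem result (k : Type u) [Field k]
    (G X Y : Over (Spec (CommRingCat.of k))) [GrpObj G] [LocallyOfFiniteType G.hom]
    (aX : AlgGrp.Action G X) (aY : AlgGrp.Action G Y) (f : X ⟶ Y) (hf : (G ◁ f) ≫ aY.act = aX.act ≫ f)
    (P : MorphismProperty Scheme.{u}) [IsZariskiLocalAtTarget P] [P.IsStableUnderBaseChange]
    [P.DescendsAlong (@Flat ⊓ @Surjective ⊓ @UniversallyOpen)] :
    ∃ V : Y.left.Opens, P (f.left ∣_ V) ∧ (∀ V' : Y.left.Opens, P (f.left ∣_ V') → V' ≤ V) ∧
      (CartesianMonoidalCategory.snd G Y).left ⁻¹ᵁ V ≤ aY.act.left ⁻¹ᵁ V := by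
  let σ := {V' : Y.left.Opens // P (f.left ∣_ V')}
  let V : Y.left.Opens := ⨆ i : σ, i.1
  have hV : P (f.left ∣_ V) := restrict_iSup f.left P (fun i : σ ↦ i.1) fun i ↦ i.2
  have hmax : ∀ V' : Y.left.Opens, P (f.left ∣_ V') → V' ≤ V := fun V' h ↦
    le_iSup (fun i : σ ↦ i.1) ⟨V', h⟩
  refine ⟨V, hV, hmax, ?_⟩
  have : Flat G.hom := inferInstance
  have : UniversallyOpen G.hom := inferInstance
  have hfl : Flat aY.act.left := act_left_of aY (P := @Flat) ‹_›
  have huo : UniversallyOpen aY.act.left := act_left_of aY (P := @UniversallyOpen) ‹_›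
  set W := (snd G Y).left ⁻¹ᵁ V with hW
  let U : Y.left.Opens := ⟨aY.act.left '' (W : Set (G ⊗ Y).left), aY.act.left.isOpenMap _ W.2⟩
  have e : W ≤ aY.act.left ⁻¹ᵁ U := fun x hx ↦ ⟨x, hx, rfl⟩
  -- the two cartesian squares
  have hsnd : IsPullback (snd G X).left (G ◁ f).left f.left (snd G Y).left :=
    (isPullback_whiskerLeft G f).flip
  have hact : IsPullback aX.act.left (G ◁ f).left f.left aY.act.left := by
    have hsq : (shear aX).hom ≫ (G ◁ f) = (G ◁ f) ≫ (shear aY).hom := by
      apply CartesianMonoidalCategory.hom_ext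
      · simp
      · rw [Category.assoc, whiskerLeft_snd, shear_hom_snd_assoc, Category.assoc, shear_hom_snd, hf]
    have h1 : IsPullback (shear aX).hom.left (G ◁ f).left (G ◁ f).left (shear aY).hom.left := by
      have : IsIso (shear aX).hom.left := ((Over.forget _).mapIso (shear aX)).isIso_hom
      have : IsIso (shear aY).hom.left := ((Over.forget _).mapIso (shear aY)).isIso_hom
      exact IsPullback.of_horiz_isIso ⟨congrArg CommaMorphism.left hsq⟩
    have h2 := h1.paste_horiz hsnd
    rwa [← Over.comp_left, ← Over.comp_left, shear_hom_snd, shear_hom_snd] at h2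
  have hPW : P ((G ◁ f).left ∣_ W) := by
    obtain ⟨m, hm⟩ := exists_restrict hsnd W V le_rfl
    exact P.of_isPullback hm hV
  obtain ⟨m, hm⟩ := exists_restrict hact W U e
  set q := aY.act.left.resLE U W e with hq
  have hqs : Surjective q := ⟨fun y ↦ by
    obtain ⟨x, hx, hxy⟩ := y.2
    refine ⟨⟨x, hx⟩, U.ι.isOpenEmbedding.injective ?_⟩
    rw [← Scheme.Hom.comp_apply, hq, Scheme.Hom.resLE_comp_ι]
    exact hxy⟩
  have hqf : Flat q := by
    have : Flat (q ≫ U.ι) := by rw [hq, Scheme.Hom.resLE_comp_ι]; infer_instance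
    exact MorphismProperty.of_isPullback (P := @Flat)
      (IsPullback.of_horiz_isIso_mono (fst := 𝟙 _) (snd := q) (f := q ≫ U.ι) (g := U.ι) ⟨by simp⟩)
      this
  have hqo : UniversallyOpen q := by
    have : UniversallyOpen (q ≫ U.ι) := by rw [hq, Scheme.Hom.resLE_comp_ι]; infer_instance
    exact MorphismProperty.of_isPullback (P := @UniversallyOpen)
      (IsPullback.of_horiz_isIso_mono (fst := 𝟙 _) (snd := q) (f := q ≫ U.ι) (g := U.ι) ⟨by simp⟩)
      this
  have hU : U ≤ V := hmax U (P.of_isPullback_of_descendsAlong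
    (Q := @Flat ⊓ @Surjective ⊓ @UniversallyOpen) hm.flip ⟨⟨hqf, hqs⟩, hqo⟩ hPW)
  exact fun x hx ↦ hU (e hx)

end Groth.Agent.S18826
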