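import Groth.Statements.S18828

import Groth.Agent.Lib.GrpSch.UnitOpen

set_option autoImplicit false
universe u
open CategoryTheory MonoidalCategory CartesianMonoidalCategory MonObj AlgebraicGeometry
open AlgGrp

open Groth.Agent.Lib.GrpSch

namespace Groth.Agent.S18828

/-- Let k be a field and f : H → G a homomorphism of locally algebraic groups over k (group k-schemes
locally of finite type). Write e_H for the unit point of H (the image under the unit section of the
point pt of the base Spec k) and φ : O_{G,f(e_H)} → O_{H,e_H} for the induced local homomorphism of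
local rings. Assume (1) φ induces an isomorphism of completed local rings, stated here as: for every
n, φ followed by reduction modulo the (n+1)-st power of the maximal ideal of O_{H,e_H} is
surjective, and an element of O_{G,f(e_H)} maps into that power exactly when it lies in the (n+1)-st
power of the maximal ideal of O_{G,f(e_H)}; and (2) f is a monomorphism of schemes. Then f is an
open immersion. -/
theorem result (k : Type u) [Field k]
    (H G : Over (Spec (CommRingCat.of k))) [GrpObj H] [GrpObj G]
    [LocallyOfFiniteType H.hom] [LocallyOfFiniteType G.hom] (f : H ⟶ G) [IsMonHom f] [Mono f.left]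
    (pt : ↥(𝟙_ (Over (Spec (CommRingCat.of k)))).left)
    (h : ∀ n : ℕ,
      Function.Surjective ((Ideal.Quotient.mk (IsLocalRing.maximalIdeal
          ↑(H.left.presheaf.stalk (η[H].left.base pt)) ^ (n + 1))).comp
        (f.left.stalkMap (η[H].left.base pt)).hom) ∧
      ∀ a : ↑(G.left.presheaf.stalk (f.left.base (η[H].left.base pt))),
        (f.left.stalkMap (η[H].left.base pt)).hom a ∈
            IsLocalRing.maximalIdeal ↑(H.left.presheaf.stalk (η[H].left.base pt)) ^ (n + 1) ↔
          a ∈ IsLocalRing.maximalIdeal ↑(G.left.presheaf.stalk (f.left.base (η[H].left.base pt))) ^ (n + 1)) :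
    IsOpenImmersion f.left := by
  haveI : IsLocallyNoetherian H.left := LocallyOfFiniteType.isLocallyNoetherian H.hom
  haveI : IsLocallyNoetherian G.left := LocallyOfFiniteType.isLocallyNoetherian G.hom
  have hflat : (f.left.stalkMap (η[H].left.base pt)).hom.Flat :=
    UnitOpen.flat_of_completion _ (fun n => (h n).1) (fun n a ha => ((h n).2 a).1 ha)
  let a : AlgGrp.Action H G := actionMk ((f ▷ G) ≫ μ[G])
    (fun T x => by rw [lift_whiskerRight_assoc, MonObj.one_comp, ← Hom.mul_def, _root_.one_mul])
    (fun T g g' x => by
      rw [lift_whiskerRight_assoc, lift_whiskerRight_assoc, lift_whiskerRight_assoc, MonObj.mul_comp,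
        ← Hom.mul_def, ← Hom.mul_def, ← Hom.mul_def, _root_.mul_assoc])
  refine UnitOpen.isOpenImmersion_of_flat_at_one a f ?_ pt hflat
  change (H ◁ f) ≫ (f ▷ G) ≫ μ[G] = μ[H] ≫ f
  rw [IsMonHom.mul_hom, tensorHom_def', Category.assoc]

end Groth.Agent.S18828
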