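import Groth.Statements.S18829
import Groth.Agent.H66.Tame
import Mathlib.RingTheory.HopfAlgebra.MonoidAlgebra
-- import your own Groth.Agent.* helpers here

set_option autoImplicit false
universe u
open scoped TensorProduct
open HopfRep

namespace Groth.Agent.S18829

/-- Let k be a field and A a finitely generated commutative Hopf algebra over k, the coordinate ring of
an affine algebraic group T. Suppose T is a torus: for some algebraically closed field extension K
of k the base change K ⊗_k A is isomorphic as a K-bialgebra to the group algebra over K of a free
abelian group ℤ^n (T_K is a split torus of rank n). Then T is linearly reductive in the sense that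
every finite-dimensional A-comodule is semisimple. (The source's definition of a torus asks for such
an isomorphism over every algebraically closed extension; one suffices for the printed argument. The
source's notion of a linearly reductive algebraic group also includes smoothness of T over k, which
this row does not assert.) -/
theorem result (k K A : Type u) [Field k] [Field K]
    [Algebra k K] [IsAlgClosed K] [CommRing A] [HopfAlgebra k A] [Algebra.FiniteType k A] (n : ℕ)
    (e : (K ⊗[k] A) ≃ₐc[K] MonoidAlgebra K (Multiplicative (Fin n → ℤ))) :
    HopfRep.IsLinearlyReductive k A := by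
  classical
  rw [← H66.Tame.hasIntegral_iff]
  refine H66.Tame.hasIntegral_descend (K := K) ?_
  let M := Multiplicative (Fin n → ℤ)
  let α₀ : MonoidAlgebra K M →ₗ[K] K := Finsupp.lapply 1 ∘ₗ (MonoidAlgebra.coeffLinearEquiv K).toLinearMap
  have hα₀ : ∀ (m : M) (r : K), α₀ (MonoidAlgebra.single m r) = if m = 1 then r else 0 := by
    intro m r
    change (MonoidAlgebra.single m r).coeff 1 = _
    simp [Finsupp.single_apply]
  have hα : ∀ x : MonoidAlgebra K M, α₀ x ⊗ₜ[K] (1 : MonoidAlgebra K M) =
      α₀.rTensor (MonoidAlgebra K M) (CoalgebraStruct.comul x) := by
    intro x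
    induction x using MonoidAlgebra.induction_linear with
    | zero => simp
    | add a b ha hb => simp only [map_add, TensorProduct.add_tmul, ha, hb]
    | single m r =>
      rw [MonoidAlgebra.comul_single]
      by_cases hm : m = 1
      · subst hm
        simp [hα₀, MonoidAlgebra.one_def]
        rw [show r = r • (1 : K) by simp, TensorProduct.smul_tmul]
        simp
      · simp [hα₀, hm]
  refine ⟨α₀ ∘ₗ e.toLinearMap, ?_, fun x => ?_⟩
  · rw [LinearMap.comp_apply]
    erw [map_one e]
    exact (hα₀ 1 1).trans (if_pos rfl)
  have hinj : Function.Injective ((e.toLinearMap : K ⊗[k] A →ₗ[K] MonoidAlgebra K M).lTensor K) :=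
    (TensorProduct.congr (LinearEquiv.refl K K) (LinearEquiv.ofBijective _ e.bijective)).injective
  refine hinj ?_
  have hc := LinearMap.congr_fun (CoalgHomClass.map_comp_comul e) x
  simp only [LinearMap.comp_apply] at hc
  rw [LinearMap.lTensor_tmul]
  change α₀ (e x) ⊗ₜ[K] e 1 = _
  rw [map_one, hα (e x)]
  erw [← hc]
  induction CoalgebraStruct.comul (R := K) x using TensorProduct.induction_on with
  | zero => simp
  | add p q hp hq => simp only [map_add, hp, hq]
  | tmul p q => simp; rfl

end Groth.Agent.S18829
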