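import Groth.Statements.S18830

import Groth.Agent.Lib.GrpSch.UnitsObj
import Groth.Agent.Lib.GrpSch.Basic

set_option autoImplicit false
universe u
open CategoryTheory MonoidalCategory CartesianMonoidalCategory MonObj AlgebraicGeometry
open AlgGrp

open Groth.Agent.Lib.GrpSch

namespace Groth.Agent.S18830

/-- Let k be a field and M an algebraic monoid over k (a monoid k-scheme of finite type). Let i : G → M
be its group of units: a monomorphism of k-schemes through which a T-valued point of M factors if
and only if it is invertible in the monoid M(T). Then G is of finite type over k, i.e. the unit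
group is an algebraic group. -/
theorem result (k : Type u) [Field k]
    (M G : Over (Spec (CommRingCat.of k))) [MonObj M] [LocallyOfFiniteType M.hom] [QuasiCompact M.hom]
    (i : G ⟶ M) [Mono i]
    (hi : ∀ (T : Over (Spec (CommRingCat.of k))) (m : T ⟶ M), (∃ g : T ⟶ G, g ≫ i = m) ↔ IsUnit m) :
    LocallyOfFiniteType G.hom ∧ QuasiCompact G.hom := by
  let j := unitsPair M ≫ fst M M
  have : Mono j := mono_unitsPair_fst M
  obtain ⟨g, hg⟩ := (hi (unitsObj M) j).2 ((unitsObj_factor_iff M j).1 ⟨𝟙 _, Category.id_comp _⟩)
  obtain ⟨g', hg'⟩ := (unitsObj_factor_iff M i).2 ((hi G i).1 ⟨𝟙 _, Category.id_comp _⟩)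
  have hg'' : g' ≫ j = i := hg'
  let e : G ≅ unitsObj M := ⟨g', g, by rw [← cancel_mono i, Category.assoc, hg, hg'', Category.id_comp],
    by rw [← cancel_mono j, Category.assoc, hg'', hg, Category.id_comp]⟩
  have : IsIso e.hom.left := ((Over.forget _).mapIso e).isIso_hom
  have : IsImmersion (unitsPair M).left := isImmersion_unitsPair M
  have : QuasiCompact (unitsPair M).left := quasiCompact_unitsPair M
  have h1 : LocallyOfFiniteType (M ⊗ M).hom := by
    rw [← Over.w (fst M M)]
    have := fst_left_of (P := @LocallyOfFiniteType) M (Y := M) inferInstance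
    infer_instance
  have h2 : QuasiCompact (M ⊗ M).hom := by
    rw [← Over.w (fst M M)]
    have := fst_left_of (P := @QuasiCompact) M (Y := M) inferInstance
    infer_instance
  rw [← Over.w e.hom, ← Over.w (unitsPair M)]
  exact ⟨inferInstance, inferInstance⟩

end Groth.Agent.S18830
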