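import Groth.Statements.S18831
import Groth.Agent.Lib.CurveBundle.Sections

set_option autoImplicit false
universe u
open CategoryTheory CategoryTheory.Limits AlgebraicGeometry
open VBCurve

namespace Groth.Agent.S18831

/-- Let X be a smooth projective integral curve over an algebraically closed field k of characteristic
zero, and G a finite locally free O_X-module of rank r ≥ 1 which is slope-semistable, of slope μ =
deg G / r (deg G = χ(G) − r χ(O_X)). Then dim_k H^0(X, G) ≤ r · max(⌊μ⌋ + 1, 0); in particular a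
slope-semistable bundle of negative slope has no nonzero global section. -/
theorem result (k : Type u) [Field k] [IsAlgClosed k] [CharZero k]
    (X : Scheme.{u}) [X.Over (Spec (CommRingCat.of k))]
    [IsIntegral X] [IsProper (X ↘ Spec (CommRingCat.of k))] [Smooth (X ↘ Spec (CommRingCat.of k))]
    (hdim : topologicalKrullDim X = 1)
    (r : ℕ) (hr : 0 < r) (G : X.Modules) (hG : FlatMod.IsFinLocFreeOfRank r G)
    (hss : ModFun.IsSlopeSemistable k X G r) :
    (Module.finrank k (Coh.HH X G 0) : ℤ) ≤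
      (r : ℤ) * max (⌊(Curv2.deg k X G r : ℚ) / (r : ℚ)⌋ + 1) 0 := by
  open Groth.Agent.Lib.CurveBundle in
    have := Ctx.ofIntegral k hdim
    obtain ⟨I, hI, hJ, hJd⟩ := Point.exists_point k hdim
    obtain ⟨-, -, -, ed⟩ := Slope.bundle (k := k) hG
    rw [← Degree.dg_eq_deg k
      (Groth.Agent.Lib.TensorMod.LocFree.of_isInvertible hJ)] at hJd
    rw [ed]
    obtain ⟨N, hN⟩ : ∃ N : ℕ, (N : ℤ) = max (⌊(Degree.dg k G : ℚ) / (r : ℚ)⌋ + 1) 0 :=
      ⟨_, Int.toNat_of_nonneg (le_max_right _ _)⟩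
    have hlt : Degree.dg k G < (N : ℤ) * r := by
      have h1 := Int.lt_floor_add_one ((Degree.dg k G : ℚ) / (r : ℚ))
      have h2 : ((⌊(Degree.dg k G : ℚ) / (r : ℚ)⌋ + 1 : ℤ) : ℚ) ≤ ((N : ℤ) : ℚ) :=
        Int.cast_le.mpr (by rw [hN]; exact le_max_left _ _)
      push_cast at h2
      have h3 := (div_lt_iff₀ (by exact_mod_cast hr : (0 : ℚ) < r)).mp (lt_of_lt_of_le h1 h2)
      exact_mod_cast h3
    rw [← hN]
    exact Sections.h0_le hI hJ hJd hr N G hG (Slope.ss_of hG hss) hlt

end Groth.Agent.S18831
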