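import Groth.Statements.S18832
import Groth.Agent.Lib.ArtinFun.Jets

set_option autoImplicit false
universe u
open Polynomial
open DefT

open Groth.Agent.Lib.ArtinFun

namespace Groth.Agent.S18832

/-- Let k be an algebraically closed field of characteristic zero, A a finitely generated k-algebra and
m a maximal ideal of A. Then A_m is a regular local ring (the pointed scheme (Spec A, m) is smooth
at m) if and only if, for every l ≥ 1, every k-algebra homomorphism φ : A → k[X]/(X^l) mapping m
into the nilpotent elements extends to a k-algebra homomorphism ψ : A → k[X]/(X^(l+1)) reducing to φ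
modulo X^l. Only jets along Spec k[X]/(X^l) are tested, not all local Artinian algebras. -/
theorem result (k : Type u) [Field k] [IsAlgClosed k] [CharZero k]
    (A : Type u) [CommRing A] [Algebra k A] [Algebra.FiniteType k A]
    (m : Ideal A) [m.IsMaximal] :
    IsRegularLocalRing (Localization.AtPrime m) ↔
      ∀ (l : ℕ), 1 ≤ l →
        ∀ (φ : A →ₐ[k] (k[X] ⧸ Ideal.span {(X : k[X]) ^ l})),
          (∀ a ∈ m, IsNilpotent (φ a)) →
          ∃ ψ : A →ₐ[k] (k[X] ⧸ Ideal.span {(X : k[X]) ^ (l + 1)}),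
            (Ideal.Quotient.factorₐ k
                (Ideal.span_singleton_le_span_singleton.mpr (pow_dvd_pow (X : k[X]) (Nat.le_succ l)))).comp ψ = φ := by
  haveI : Infinite k := inferInstance
  letI : Field (A ⧸ m) := Ideal.Quotient.field m
  haveI : Module.Finite k (A ⧸ m) := finite_of_finite_type_of_isJacobsonRing k (A ⧸ m)
  have hbij : Function.Bijective (Algebra.ofId k (A ⧸ m)) :=
    ⟨(algebraMap k (A ⧸ m)).injective, (IsAlgClosed.algebraMap_bijective_of_isIntegral (K := A ⧸ m)).2⟩
  let resA : A →ₐ[k] k :=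
    ((AlgEquiv.ofBijective _ hbij).symm : (A ⧸ m) →ₐ[k] k).comp (Ideal.Quotient.mkₐ k m)
  have hresA : ∀ a, resA a = 0 ↔ a ∈ m := fun a =>
    (map_eq_zero_iff _ (AlgEquiv.ofBijective _ hbij).symm.injective).trans Ideal.Quotient.eq_zero_iff_mem
  haveI : Algebra.EssFiniteType k (Localization.AtPrime m) :=
    Algebra.EssFiniteType.comp k A (Localization.AtPrime m)
  let res : Localization.AtPrime m →ₐ[k] k :=
    IsLocalization.liftAlgHom (M := m.primeCompl) (f := resA) fun a =>
      isUnit_iff_ne_zero.2 fun h => a.2 ((hresA a).1 h)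
  let e : ∀ n, T1Lift.Tr k n ≃ₐ[k] k[X] ⧸ Ideal.span {(Polynomial.X : k[X]) ^ (n + 1)} := fun n =>
    AlgEquiv.ofRingEquiv (f := RingEquiv.refl _) fun _ => rfl
  have hα : ∀ n, (Ideal.Quotient.factorₐ k
      (Ideal.span_singleton_le_span_singleton.mpr (pow_dvd_pow (Polynomial.X : k[X]) (Nat.le_succ (n + 1))))).comp
        (e (n + 1)).toAlgHom = (e n).toAlgHom.comp (T1Lift.αAlg k n) := fun n =>
    AdjoinRoot.algHom_ext (by
      show _ = e n (T1Lift.αAlg k n (T1Lift.t k (n + 1)))
      rw [T1Lift.αAlg_t]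
      rfl)
  constructor
  · intro hreg
    have hsm := (isRegularLocalRing_iff_isSmoothFunctor (Localization.AtPrime m) res).1 hreg
    intro l hl φ hφ
    obtain ⟨n, rfl⟩ : ∃ n, l = n + 1 := ⟨l - 1, by omega⟩
    let φ' : A →ₐ[k] T1Lift.Tr k n := (e n).symm.toAlgHom.comp φ
    have hu : ∀ a : m.primeCompl, IsUnit (φ' a) := fun a => by
      have h : IsNilpotent (φ' ((a : A) - algebraMap k A (resA a))) :=
        (hφ _ ((hresA _).1 (by rw [map_sub, AlgHom.commutes]; simp))).map (e n).symm
      rw [map_sub, AlgHom.commutes] at h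
      have h2 : IsUnit (algebraMap k (T1Lift.Tr k n) (resA a)) :=
        (Ne.isUnit fun h0 => a.2 ((hresA _).1 h0)).map _
      have := h.isUnit_add_left_of_commute h2 (Commute.all _ _)
      rwa [add_sub_cancel] at this
    let φR : ArtFun.HomSet (Localization.AtPrime m) res (T1Lift.A k n) :=
      ⟨IsLocalization.liftAlgHom (M := m.primeCompl) (f := φ') hu, res_unique _ _⟩
    obtain ⟨ψ₀, hψ⟩ := hsm (T1Lift.α k n) (α_surjective n) φR
    let ψ : ArtFun.HomSet (Localization.AtPrime m) res (T1Lift.A k (n + 1)) := ψ₀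
    let ψ₁ : Localization.AtPrime m →ₐ[k] T1Lift.Tr k (n + 1) := ψ.1
    refine ⟨((e (n + 1)).toAlgHom.comp ψ₁).comp (IsScalarTower.toAlgHom k A _), AlgHom.ext fun a => ?_⟩
    have h1 : T1Lift.αAlg k n (ψ₁ (algebraMap A _ a)) = φ' a :=
      (AlgHom.congr_fun (congrArg Subtype.val hψ) (algebraMap A _ a)).trans (IsLocalization.lift_eq _ a)
    refine (AlgHom.congr_fun (hα n) (ψ₁ (algebraMap A _ a))).trans ?_
    show e n (T1Lift.αAlg k n (ψ₁ (algebraMap A _ a))) = φ a
    rw [h1]
    exact (e n).apply_symm_apply _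
  · intro H
    obtain ⟨P, _, _, _, resP, q, hlift, hq, hqres⟩ :=
      exists_localized_presentation (Localization.AtPrime m) res
    obtain ⟨P₀, _, _, _, resP₀, q₀, -, hq₀, hq₀res, hker⟩ :=
      exists_reduced_presentation res _ P resP q rfl hlift hq hqres
    have hbot : RingHom.ker q₀ = ⊥ := by
      refine ker_eq_bot_of_jets resP₀ q₀ hq₀ hker fun n φ => ?_
      let φA : A →ₐ[k] k[X] ⧸ Ideal.span {(Polynomial.X : k[X]) ^ (n + 1)} :=
        ((e n).toAlgHom.comp φ).comp (IsScalarTower.toAlgHom k A _)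
      obtain ⟨ψ, hψ⟩ := H (n + 1) (Nat.le_add_left 1 n) φA fun a ha => by
        refine IsNilpotent.map ?_ (e n)
        have h0 : T1Lift.resA k n (φ (algebraMap A _ a)) = 0 := by
          rw [show T1Lift.resA k n (φ (algebraMap A _ a)) = res (algebraMap A _ a) from
            AlgHom.congr_fun (res_unique ((T1Lift.resA k n).comp φ) res) _]
          exact (IsLocalization.lift_eq _ a).trans ((hresA a).2 ha)
        obtain ⟨b, hb⟩ := T1Lift.eq_algebraMap_add_t_mul k n (φ (algebraMap A _ a))
        rw [h0, map_zero, zero_add] at hb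
        refine ⟨n + 1, ?_⟩
        show (φ (algebraMap A _ a)) ^ (n + 1) = 0
        rw [hb, mul_pow, T1Lift.t_pow, zero_mul]
      let ψ' : A →ₐ[k] T1Lift.Tr k (n + 1) := (e (n + 1)).symm.toAlgHom.comp ψ
      have hψ' : (T1Lift.αAlg k n).comp ψ' = φ.comp (IsScalarTower.toAlgHom k A _) := AlgHom.ext fun a => by
        apply (e n).injective
        refine (AlgHom.congr_fun (hα n) (ψ' a)).symm.trans ?_
        refine Eq.trans ?_ (AlgHom.congr_fun hψ a)
        exact congrArg _ ((e (n + 1)).apply_symm_apply (ψ a))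
      have hu : ∀ a : m.primeCompl, IsUnit (ψ' a) := fun a => by
        by_contra hnu
        have h1 : IsUnit (φ (algebraMap A _ (a : A))) :=
          ((IsLocalization.map_units (Localization.AtPrime m) a)).map φ
        have h2 : T1Lift.αAlg k n (ψ' a) = φ (algebraMap A _ (a : A)) := AlgHom.congr_fun hψ' a
        rw [← h2] at h1
        obtain ⟨b, hb⟩ := T1Lift.eq_algebraMap_add_t_mul k (n + 1) (ψ' a)
        have hz : T1Lift.resA k (n + 1) (ψ' a) = 0 := by
          by_contra hc
          refine hnu ?_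
          rw [hb]
          exact ((Commute.all (T1Lift.t k (n + 1)) b).isNilpotent_mul_right
            ⟨n + 1 + 1, T1Lift.t_pow k (n + 1)⟩).isUnit_add_left_of_commute ((Ne.isUnit hc).map _)
            (Commute.all _ _)
        rw [hb, hz, map_zero, zero_add, map_mul, T1Lift.αAlg_t] at h1
        have := (h1.map (T1Lift.resA k n))
        rw [map_mul, T1Lift.resA_t, zero_mul] at this
        exact not_isUnit_zero this
      refine ⟨IsLocalization.liftAlgHom (M := m.primeCompl) (f := ψ') hu, ?_⟩
      refine IsLocalization.algHom_ext m.primeCompl (AlgHom.ext fun a => ?_)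
      refine Eq.trans ?_ (AlgHom.congr_fun hψ' a)
      exact congrArg _ (IsLocalization.lift_eq _ a)
    exact IsRegularLocalRing.of_ringEquiv
      (RingEquiv.ofBijective q₀ ⟨(RingHom.injective_iff_ker_eq_bot q₀.toRingHom).2 hbot, hq₀⟩)

end Groth.Agent.S18832
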