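import Groth.Statements.S18833
import Groth.Agent.Lib.ShStab.EllHN
import Groth.Agent.Lib.ShStab.Saturation
import Groth.Agent.Lib.Curves.GlobalSections

set_option autoImplicit false
open CategoryTheory CategoryTheory.Limits AlgebraicGeometry Polynomial
universe u
open ShStab

namespace Groth.Agent.S18833

open Groth.Agent.Lib Groth.Agent.Lib.ShStab

/-- Let k be an algebraically closed field of characteristic zero, X a smooth projective integral
variety of dimension n ≥ 1 over k with an ample invertible sheaf L, and F a nonzero torsion-free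
coherent O_X-module (pure of dimension n). Then F has exactly one increasing filtration by saturated
subsheaves 0 ⊂ F_0 ⊂ ⋯ ⊂ F_s = F whose graded pieces are torsion-free and slope-semistable with
strictly decreasing slopes. Slopes are compared through the quantity α_(n−1)/α_n of the Hilbert
polynomials with respect to L, an increasing affine function of the slope det · L^(n−1)/rank used in
the source; the source takes L very ample, its argument using only that high twists of coherent
sheaves are globally generated, so L is taken ample here. -/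
theorem result (k : Type u) [Field k] [IsAlgClosed k] [CharZero k]
    (X : Scheme.{u}) [X.Over (Spec (CommRingCat.of k))] [IsIntegral X]
    [IsProper (X ↘ Spec (CommRingCat.of k))] [Smooth (X ↘ Spec (CommRingCat.of k))]
    (n : ℕ) (hn : 1 ≤ n) (hX : topologicalKrullDim X = (n : WithBot ℕ∞))
    (L : X.Modules) (hLi : PicF.IsInvertible L) (hL : CohB1.IsAmple L)
    (F : X.Modules) (hF : Coh.IsCoh F) (h0 : ¬ IsZero F) (htf : ShStab.IsPure X F n) :
    ∃! s : LTSeries (Subobject F),
      s.head = ⊥ ∧ s.last = ⊤ ∧
      (∀ i : Fin s.length,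
        ShStab.IsPure X (StabCat.factor s i) n ∧ ShStab.IsMuSemistable k X L (StabCat.factor s i) n) ∧
      ∀ (i j : Fin s.length), i.val + 1 = j.val →
        ∀ (p q : ℚ[X]), ShStab.IsHilbPoly k X L (StabCat.factor s i) p →
          ShStab.IsHilbPoly k X L (StabCat.factor s j) q →
          StabCat.hatSlope n q < StabCat.hatSlope n p := by
  haveI := Groth.Agent.Lib.Curves.GlobalSections.isNoetherian_of_proper k X
  refine (existsUnique_congr fun s => ?_).1 (EllHN.existsUnique (k := k) (ℓ := 1) hL htf hF)
  have hpos : ∀ i, ShStab.IsEllSemistable k X L (StabCat.factor s i) n 1 →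
      ∀ p, ShStab.IsHilbPoly k X L (StabCat.factor s i) p → 0 < StabCat.alpha n p := fun i h p hp => by
    rw [← SubLattice.hp_eq k L hp]
    exact Saturation.alpha_pos hL h.1 h.2.1 h.2.2.1
  constructor
  · intro ⟨h1, h2, hss, hdec⟩
    refine ⟨h1, h2, fun i => (EllHN.mu_iff (k := k) hL hn).2 (hss i), fun i j hij p q hp hq => ?_⟩
    exact (EllInterval.redLT_one_iff hn (hpos j (hss j) q hq) (hpos i (hss i) p hp)).1
      (hdec i j hij _ _ ⟨p, hp, rfl⟩ ⟨q, hq, rfl⟩)
  · intro ⟨h1, h2, hss, hdec⟩
    refine ⟨h1, h2, fun i => (EllHN.mu_iff (k := k) hL hn).1 (hss i), fun i j hij p q hp hq => ?_⟩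
    obtain ⟨P, hP, rfl⟩ := hp
    obtain ⟨Q, hQ, rfl⟩ := hq
    exact (EllInterval.redLT_one_iff hn (hpos j ((EllHN.mu_iff (k := k) hL hn).1 (hss j)) Q hQ)
      (hpos i ((EllHN.mu_iff (k := k) hL hn).1 (hss i)) P hP)).2 (hdec i j hij P Q hP hQ)

end Groth.Agent.S18833
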