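import Groth.Statements.S18835
import Groth.Agent.Lib.JumpP1.Family

set_option autoImplicit false
universe u
open CategoryTheory CategoryTheory.Limits AlgebraicGeometry Polynomial
open VBCurve

namespace Groth.Agent.S18835

/-- Let k be an algebraically closed field of characteristic zero and i ≥ 0. On the projective line P
over the affine line Spec k[t] (that is A^1 × P^1 over k) there is a finite locally free module F of
rank 2 whose restriction to the fibre over t = 0 is isomorphic to O(i+1) ⊕ O(−i−1) and whose
restriction to the fibre over every k-point t = a with a ≠ 0 is isomorphic to O(i) ⊕ O(−i). Fibres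
are the copies of P^1_k mapped into P by the k-algebra maps k[t] → k, t ↦ a; in particular the
isomorphism type of the fibres of a vector bundle in a family can jump at a special point. -/
theorem result (k : Type u) [Field k] [IsAlgClosed k] [CharZero k]
    (i : ℕ) :
    ∃ F : (CohB1.ProjSpaceOver 1 (Spec (CommRingCat.of k[X]))).Modules,
      FlatMod.IsFinLocFreeOfRank 2 F ∧
      (∀ a : k,
        letI ι : CohB1.ProjSpaceOver 1 (Spec (CommRingCat.of k)) ⟶ CohB1.ProjSpaceOver 1 (Spec (CommRingCat.of k[X])) :=
          pullback.lift (pullback.fst _ _)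
            (pullback.snd _ _ ≫ Spec.map (CommRingCat.ofHom (Polynomial.evalRingHom a)))
            (specULiftZIsTerminal.hom_ext _ _)
        (a = 0 → Nonempty ((Scheme.Modules.pullback ι).obj F ≅
            Twist.twistOver 1 (Spec (CommRingCat.of k)) ((i : ℤ) + 1) ⊞
              Twist.twistOver 1 (Spec (CommRingCat.of k)) (-((i : ℤ) + 1)))) ∧
        (a ≠ 0 → Nonempty ((Scheme.Modules.pullback ι).obj F ≅
            Twist.twistOver 1 (Spec (CommRingCat.of k)) (i : ℤ) ⊞
              Twist.twistOver 1 (Spec (CommRingCat.of k)) (-(i : ℤ))))) := by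
  refine ⟨Groth.Agent.Lib.JumpP1.Family.F k (-((i : ℤ) + 1)) (2 * i + 1),
    Groth.Agent.Lib.JumpP1.Family.rank k _ _, fun a => ⟨fun ha => ?_, fun ha => ?_⟩⟩
  · exact Groth.Agent.Lib.JumpP1.Family.fibre_zero k _ _ a ha (by push_cast; ring)
  · exact Groth.Agent.Lib.JumpP1.Family.fibre_unit k _ _ a (isUnit_iff_ne_zero.2 ha)
      (by push_cast; ring) (by ring)

end Groth.Agent.S18835
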