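import Groth.Statements.S18837
import Groth.Agent.Lib.CotTwo.DtSeq


set_option autoImplicit false
universe u
open Polynomial TensorProduct
open Deform

namespace Groth.Agent.S18837

open Groth.Agent.Lib.CotTwo.DtSeq

/-- Let k be an algebraically closed field of characteristic zero, n ≥ 1, D = k[X]/(X^(n+1)) (given with
a k-algebra isomorphism e identifying the class of X with τ ∈ D), and B a finitely generated
k-algebra which is a flat D-algebra such that B/tB is smooth over k, where t is the image of τ in B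
(an affine open of a flat deformation of a smooth k-scheme over Spec D); put B' = B/t^nB. Then
Ω_(B/D) is a projective B-module, B' ⊗_B Ω_(B/k) is a projective B'-module, and the sequence 0 → B'
→ B' ⊗_B Ω_(B/k) → B' ⊗_B Ω_(B/D) → 0 is exact, the first map being b ↦ b · (1 ⊗ dt) and the second
the base change of the canonical surjection Ω_(B/k) → Ω_(B/D). The source states this for a flat
proper family over Spec D with smooth central fibre; the statement is local and is given here on an
affine open. -/
theorem result (k : Type u) [Field k] [IsAlgClosed k] [CharZero k] (n : ℕ) (hn : 1 ≤ n)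
    (D : Type u) [CommRing D] [Algebra k D] (τ : D)
    (e : (k[X] ⧸ Ideal.span {(X : k[X]) ^ (n + 1)}) ≃ₐ[k] D)
    (he : e (Ideal.Quotient.mk (Ideal.span {(X : k[X]) ^ (n + 1)}) X) = τ)
    (B : Type u) [CommRing B] [Algebra k B] [Algebra D B] [IsScalarTower k D B]
    [Algebra.FiniteType k B] [Module.Flat D B]
    (t : B) (ht : t = algebraMap D B τ) (hsm : Algebra.Smooth k (B ⧸ Ideal.span {t})) :
    Module.Projective B (Ω[B⁄D]) ∧
    Module.Projective (B ⧸ Ideal.span {t ^ n}) ((B ⧸ Ideal.span {t ^ n}) ⊗[B] Ω[B⁄k]) ∧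
    Function.Injective
      (LinearMap.toSpanSingleton (B ⧸ Ideal.span {t ^ n}) ((B ⧸ Ideal.span {t ^ n}) ⊗[B] Ω[B⁄k])
        ((1 : (B ⧸ Ideal.span {t ^ n})) ⊗ₜ[B] KaehlerDifferential.D k B t)) ∧
    Function.Exact
      (LinearMap.toSpanSingleton (B ⧸ Ideal.span {t ^ n}) ((B ⧸ Ideal.span {t ^ n}) ⊗[B] Ω[B⁄k])
        ((1 : (B ⧸ Ideal.span {t ^ n})) ⊗ₜ[B] KaehlerDifferential.D k B t))
      (LinearMap.baseChange (B ⧸ Ideal.span {t ^ n}) (KaehlerDifferential.map k D B B)) ∧
    Function.Surjective (LinearMap.baseChange (B ⧸ Ideal.span {t ^ n}) (KaehlerDifferential.map k D B B)) := by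
  haveI := formallySmooth e he ht hsm
  obtain ⟨r, hr⟩ := exists_retraction e he ht hsm
  obtain ⟨hex, hsurj⟩ := exact_dtMap (n := n) e he ht
  haveI : Module.Projective B (Ω[B⁄D]) := inferInstance
  let B' := B ⧸ Ideal.span {t ^ n}
  let g := LinearMap.baseChange B' (KaehlerDifferential.map k D B B)
  have hinj : Function.Injective (dtMap n t k) := fun a b hab => by
    have := congrArg r hab
    simpa [hr] using this
  refine ⟨inferInstance, ?_, hinj, hex, hsurj⟩
  refine Module.Projective.of_equiv (LinearEquiv.ofBijective (r.prod g) ⟨?_, fun z => ?_⟩).symm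
  · rw [injective_iff_map_eq_zero]
    intro x hx
    obtain ⟨b, rfl⟩ := (hex x).1 (congrArg Prod.snd hx)
    have h1 : r (dtMap n t k b) = 0 := congrArg Prod.fst hx
    rw [LinearMap.toSpanSingleton_apply, map_smul, hr, smul_eq_mul, mul_one] at h1
    rw [h1, map_zero]
  · obtain ⟨x, hx⟩ := hsurj z.2
    refine ⟨x + dtMap n t k (z.1 - r x), Prod.ext ?_ ?_⟩
    · show r (x + dtMap n t k (z.1 - r x)) = z.1
      rw [map_add, LinearMap.toSpanSingleton_apply, map_smul, hr, smul_eq_mul, mul_one, add_sub_cancel]
    · show g (x + dtMap n t k (z.1 - r x)) = z.2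
      rw [map_add, (hex _).2 ⟨_, rfl⟩, add_zero]
      exact hx

end Groth.Agent.S18837
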