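import Groth.Statements.S18838
import Groth.Agent.Lib.CotTwo.DtSeq
import Mathlib.Tactic.LinearCombination


set_option autoImplicit false
universe u
open Polynomial TensorProduct
open Deform

namespace Groth.Agent.S18838

open Groth.Agent.Lib.CotTwo.DtSeq

/-- Let k be an algebraically closed field of characteristic zero, n ≥ 1, D = k[X]/(X^(n+1)) (given with
a k-algebra isomorphism e identifying the class of X with τ ∈ D), and B a finitely generated
k-algebra which is a flat D-algebra such that B/tB is smooth over k, where t is the image of τ in B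
(an affine open of a flat deformation of a smooth k-scheme over Spec D); put B' = B/t^nB. The map μ
: B → B' × (B' ⊗_B Ω_(B/k)) sending f to (f mod t^n, 1 ⊗ df) is injective, and its image consists
exactly of the pairs (g, α) with dg = r(α) in Ω_(B'/k), r being the canonical map B' ⊗_B Ω_(B/k) →
Ω_(B'/k). Injectivity uses that n is invertible in k. The source works with a flat proper family
over Spec D with smooth central fibre; the statement is local and is given here on an affine open. -/
theorem result (k : Type u) [Field k] [IsAlgClosed k] [CharZero k] (n : ℕ) (hn : 1 ≤ n)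
    (D : Type u) [CommRing D] [Algebra k D] (τ : D)
    (e : (k[X] ⧸ Ideal.span {(X : k[X]) ^ (n + 1)}) ≃ₐ[k] D)
    (he : e (Ideal.Quotient.mk (Ideal.span {(X : k[X]) ^ (n + 1)}) X) = τ)
    (B : Type u) [CommRing B] [Algebra k B] [Algebra D B] [IsScalarTower k D B]
    [Algebra.FiniteType k B] [Module.Flat D B]
    (t : B) (ht : t = algebraMap D B τ) (hsm : Algebra.Smooth k (B ⧸ Ideal.span {t})) :
    Function.Injective (fun f : B =>
      ((Ideal.Quotient.mk (Ideal.span {t ^ n}) f,
        (1 : (B ⧸ Ideal.span {t ^ n})) ⊗ₜ[B] KaehlerDifferential.D k B f) : (B ⧸ Ideal.span {t ^ n}) × ((B ⧸ Ideal.span {t ^ n}) ⊗[B] Ω[B⁄k]))) ∧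
    Set.range (fun f : B =>
      ((Ideal.Quotient.mk (Ideal.span {t ^ n}) f,
        (1 : (B ⧸ Ideal.span {t ^ n})) ⊗ₜ[B] KaehlerDifferential.D k B f) : (B ⧸ Ideal.span {t ^ n}) × ((B ⧸ Ideal.span {t ^ n}) ⊗[B] Ω[B⁄k]))) =
      {p | KaehlerDifferential.D k (B ⧸ Ideal.span {t ^ n}) p.1 = KaehlerDifferential.mapBaseChange k B (B ⧸ Ideal.span {t ^ n}) p.2} := by
  obtain ⟨r, hr⟩ := exists_retraction e he ht hsm
  let B' := B ⧸ Ideal.span {t ^ n}
  have ht0 := t_pow e he ht
  have hqt : ∀ c : B, Ideal.Quotient.mk (Ideal.span {t ^ n}) (t ^ n * c) = 0 := fun c =>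
    Ideal.Quotient.eq_zero_iff_mem.2 (Ideal.mul_mem_right _ _ (Ideal.mem_span_singleton_self _))
  have hsmul : ∀ (b : B) (w : Ω[B⁄k]), (1 : B') ⊗ₜ[B] (b • w) = (Ideal.Quotient.mk (Ideal.span {t ^ n}) b) • ((1 : B') ⊗ₜ[B] w) := fun b w => by
    rw [TensorProduct.tmul_smul, TensorProduct.smul_tmul', TensorProduct.smul_tmul', smul_eq_mul, mul_one, Algebra.smul_def, mul_one]
    rfl
  have hd : ∀ c : B, (1 : B') ⊗ₜ[B] KaehlerDifferential.D k B (t ^ n * c) =
      (Ideal.Quotient.mk (Ideal.span {t ^ n}) ((n : B) * t ^ (n - 1) * c)) • ((1 : B') ⊗ₜ[B] KaehlerDifferential.D k B t) := fun c => by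
    rw [Derivation.leibniz, TensorProduct.tmul_add, hsmul, show Ideal.Quotient.mk (Ideal.span {t ^ n}) (t ^ n) = 0 by
      simpa using hqt 1, zero_smul, zero_add, hsmul, Derivation.leibniz_pow, ← Nat.cast_smul_eq_nsmul B, smul_smul,
      hsmul, smul_smul, ← map_mul]
    congr 2
    ring
  refine ⟨fun f f' hff => ?_, ?_⟩
  · obtain ⟨h1, h2⟩ := Prod.ext_iff.1 hff
    obtain ⟨g, hg⟩ := Ideal.mem_span_singleton'.1 (Ideal.Quotient.eq.1 h1)
    have h3 : (1 : B') ⊗ₜ[B] KaehlerDifferential.D k B (f - f') = 0 := by rw [map_sub, TensorProduct.tmul_sub]; exact sub_eq_zero.2 h2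
    rw [← hg, mul_comm g, hd] at h3
    have h4 := congrArg r h3
    rw [map_smul, hr, smul_eq_mul, mul_one, map_zero, Ideal.Quotient.eq_zero_iff_mem, mul_assoc] at h4
    have hunit : IsUnit (n : B) := by
      rw [← map_natCast (algebraMap k B) n]
      exact (IsUnit.mk0 (n : k) (Nat.cast_ne_zero.2 (by omega))).map _
    obtain ⟨h, hh⟩ := Ideal.mem_span_singleton'.1 ((Ideal.unit_mul_mem_iff_mem _ hunit).1 h4)
    obtain ⟨h', hh'⟩ := Ideal.mem_span_singleton'.1 (mem_span_of_pow_mul e he ht (i := n - 1) (j := 2) (by omega)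
      (x := g - h * t) (by
        rw [mul_sub, ← hh, sub_eq_zero, mul_left_comm, ← pow_succ, Nat.sub_add_cancel hn]))
    have h5 : g = (h + h' * t) * t := by linear_combination -hh'
    rw [← sub_eq_zero, ← hg, h5, mul_assoc, ← pow_succ', ht0, mul_zero]
  · ext ⟨g, α⟩
    constructor
    · rintro ⟨f, hf⟩
      obtain ⟨rfl, rfl⟩ := Prod.ext_iff.1 hf
      show KaehlerDifferential.D k B' (Ideal.Quotient.mk _ f) = KaehlerDifferential.mapBaseChange k B B' (1 ⊗ₜ KaehlerDifferential.D k B f)
      rw [KaehlerDifferential.mapBaseChange_tmul, one_smul, KaehlerDifferential.map_D]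
      rfl
    · intro hgα
      obtain ⟨f, rfl⟩ := Ideal.Quotient.mk_surjective g
      have h1 : KaehlerDifferential.mapBaseChange k B B' (α - 1 ⊗ₜ KaehlerDifferential.D k B f) = 0 := by
        rw [map_sub, KaehlerDifferential.mapBaseChange_tmul, one_smul, KaehlerDifferential.map_D, sub_eq_zero]
        exact hgα.symm
      obtain ⟨y, hy⟩ := (KaehlerDifferential.exact_kerCotangentToTensor_mapBaseChange k B B' Ideal.Quotient.mk_surjective _).1 h1
      obtain ⟨⟨x, hx⟩, rfl⟩ := Ideal.toCotangent_surjective _ y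
      rw [KaehlerDifferential.kerCotangentToTensor_toCotangent] at hy
      have hx' : Ideal.Quotient.mk (Ideal.span {t ^ n}) x = 0 := hx
      refine ⟨f + x, Prod.ext ?_ ?_⟩
      · show Ideal.Quotient.mk _ (f + x) = _
        rw [map_add, hx', add_zero]
      · show (1 : B') ⊗ₜ[B] KaehlerDifferential.D k B (f + x) = α
        rw [map_add, TensorProduct.tmul_add]
        exact (congrArg _ hy).trans (add_sub_cancel _ _)

end Groth.Agent.S18838
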