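import Groth.Statements.S18839
import Groth.Agent.Lib.CotTwo.DtSeq


set_option autoImplicit false
universe u
open Polynomial TensorProduct
open Deform

namespace Groth.Agent.S18839

open Groth.Agent.Lib.CotTwo.DtSeq

/-- Let k be an algebraically closed field of characteristic zero, n ≥ 1, D = k[X]/(X^(n+1)) (given with
a k-algebra isomorphism e identifying the class of X with τ ∈ D), and B a finitely generated
k-algebra which is a flat D-algebra such that B/tB is smooth over k, where t is the image of τ in B
(an affine open of a flat deformation of a smooth k-scheme over Spec D); put B' = B/t^nB. The map ν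
: Ω_(B/k) → Ω_(B/D) × (B' ⊗_B Ω_(B/k)), η ↦ (η relative to D, 1 ⊗ η), is injective, and its image
consists exactly of the pairs (α, β) with the same image in Ω_(B'/D) under the canonical maps
Ω_(B/D) → Ω_(B'/D) and B' ⊗_B Ω_(B/k) → Ω_(B'/k) → Ω_(B'/D). Injectivity uses that n + 1 is
invertible in k (so that t^n dt = 0 in Ω_(B/k)). The source works with a flat proper family over
Spec D with smooth central fibre; the statement is local and is given here on an affine open. -/
theorem result (k : Type u) [Field k] [IsAlgClosed k] [CharZero k] (n : ℕ) (hn : 1 ≤ n)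
    (D : Type u) [CommRing D] [Algebra k D] (τ : D)
    (e : (k[X] ⧸ Ideal.span {(X : k[X]) ^ (n + 1)}) ≃ₐ[k] D)
    (he : e (Ideal.Quotient.mk (Ideal.span {(X : k[X]) ^ (n + 1)}) X) = τ)
    (B : Type u) [CommRing B] [Algebra k B] [Algebra D B] [IsScalarTower k D B]
    [Algebra.FiniteType k B] [Module.Flat D B]
    (t : B) (ht : t = algebraMap D B τ) (hsm : Algebra.Smooth k (B ⧸ Ideal.span {t})) :
    Function.Injective (fun η : Ω[B⁄k] =>
      ((KaehlerDifferential.map k D B B η, (1 : (B ⧸ Ideal.span {t ^ n})) ⊗ₜ[B] η) : Ω[B⁄D] × ((B ⧸ Ideal.span {t ^ n}) ⊗[B] Ω[B⁄k]))) ∧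
    Set.range (fun η : Ω[B⁄k] =>
      ((KaehlerDifferential.map k D B B η, (1 : (B ⧸ Ideal.span {t ^ n})) ⊗ₜ[B] η) : Ω[B⁄D] × ((B ⧸ Ideal.span {t ^ n}) ⊗[B] Ω[B⁄k]))) =
      {p | KaehlerDifferential.map D D B (B ⧸ Ideal.span {t ^ n}) p.1 =
        KaehlerDifferential.map k D (B ⧸ Ideal.span {t ^ n}) (B ⧸ Ideal.span {t ^ n}) (KaehlerDifferential.mapBaseChange k B (B ⧸ Ideal.span {t ^ n}) p.2)} := by
  obtain ⟨r, hr⟩ := exists_retraction e he ht hsm
  haveI := formallySmooth e he ht hsm
  let B' := B ⧸ Ideal.span {t ^ n}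
  let m₁ := KaehlerDifferential.map k D B B
  let m₂ := KaehlerDifferential.map D D B B'
  let c : B' ⊗[B] Ω[B⁄k] → Ω[B'⁄D] := fun β =>
    KaehlerDifferential.map k D B' B' (KaehlerDifferential.mapBaseChange k B B' β)
  have hsmul : ∀ (b : B) (w : Ω[B⁄k]), (1 : B') ⊗ₜ[B] (b • w) = (Ideal.Quotient.mk (Ideal.span {t ^ n}) b) • ((1 : B') ⊗ₜ[B] w) := fun b w => by
    rw [TensorProduct.tmul_smul, TensorProduct.smul_tmul', TensorProduct.smul_tmul', smul_eq_mul, mul_one, Algebra.smul_def, mul_one]
    rfl
  have hfac : ∀ β, c β = KaehlerDifferential.mapBaseChange D B B' (LinearMap.baseChange B' m₁ β) := by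
    intro β
    induction β with
    | zero => simp [c]
    | add a b ha hb => simp only [c, map_add] at ha hb ⊢; rw [ha, hb]
    | tmul a w =>
      have hw : KaehlerDifferential.map k D B' B' (KaehlerDifferential.map k k B B' w) = KaehlerDifferential.map D D B B' (m₁ w) := by
        have hmem : w ∈ Submodule.span B (Set.range (KaehlerDifferential.D k B)) := by
          rw [KaehlerDifferential.span_range_derivation]; trivial
        induction hmem using Submodule.span_induction with
        | mem x hx =>
          obtain ⟨b, rfl⟩ := hx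
          simp only [m₁, KaehlerDifferential.map_D, Algebra.algebraMap_self, RingHom.id_apply]
        | zero => simp
        | add x y _ _ hx hy => simp only [map_add, hx, hy]
        | smul b x _ hx => simp only [map_smul, LinearMap.map_smul_of_tower, hx]
      simp only [c, LinearMap.baseChange_tmul, KaehlerDifferential.mapBaseChange_tmul, map_smul]
      rw [hw]
  obtain ⟨hex, -⟩ := exact_dtMap (n := n) e he ht
  refine ⟨fun η η' h => sub_eq_zero.1 ?_, ?_⟩
  · obtain ⟨h1, h2⟩ := Prod.ext_iff.1 h
    have h3 : η - η' ∈ LinearMap.ker m₁ := by rw [LinearMap.mem_ker, map_sub]; exact sub_eq_zero.2 h1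
    rw [ker_map e he ht, Submodule.mem_span_singleton] at h3
    obtain ⟨b, hb⟩ := h3
    have h4 : (1 : B') ⊗ₜ[B] (η - η') = 0 := by rw [TensorProduct.tmul_sub]; exact sub_eq_zero.2 h2
    rw [← hb, hsmul] at h4
    have h5 := congrArg r h4
    rw [map_smul, hr, smul_eq_mul, mul_one, map_zero, Ideal.Quotient.eq_zero_iff_mem, Ideal.mem_span_singleton'] at h5
    obtain ⟨d, rfl⟩ := h5
    have h6 : ((n + 1 : ℕ) : B) • (t ^ n • KaehlerDifferential.D k B t) = 0 := by
      have h7 := congrArg (KaehlerDifferential.D k B) (t_pow e he ht)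
      rwa [Derivation.leibniz_pow, map_zero, Nat.add_sub_cancel, ← Nat.cast_smul_eq_nsmul B] at h7
    have hunit : IsUnit ((n + 1 : ℕ) : B) := by
      rw [← map_natCast (algebraMap k B) (n + 1)]
      exact (IsUnit.mk0 ((n + 1 : ℕ) : k) (Nat.cast_ne_zero.2 (by omega))).map _
    rw [← hb, mul_smul, hunit.smul_eq_zero.1 h6, smul_zero]
  · ext ⟨α, β⟩
    constructor
    · rintro ⟨η, hη⟩
      obtain ⟨rfl, rfl⟩ := Prod.ext_iff.1 hη
      show m₂ (m₁ η) = c ((1 : B') ⊗ₜ η)
      rw [hfac, LinearMap.baseChange_tmul, KaehlerDifferential.mapBaseChange_tmul, one_smul]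
    · intro hp
      change m₂ α = c β at hp
      obtain ⟨η, rfl⟩ := KaehlerDifferential.map_surjective k D B α
      have hinj : Function.Injective (KaehlerDifferential.mapBaseChange D B B') := by
        rw [injective_iff_map_eq_zero]
        intro z hz
        obtain ⟨y, rfl⟩ := (KaehlerDifferential.exact_kerCotangentToTensor_mapBaseChange D B B' Ideal.Quotient.mk_surjective z).1 hz
        obtain ⟨⟨x, hx⟩, rfl⟩ := Ideal.toCotangent_surjective _ y
        rw [KaehlerDifferential.kerCotangentToTensor_toCotangent]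
        have hx' : x ∈ Ideal.span {t ^ n} := Ideal.Quotient.eq_zero_iff_mem.1 hx
        obtain ⟨d, rfl⟩ := Ideal.mem_span_singleton'.1 hx'
        show (1 : B') ⊗ₜ[B] KaehlerDifferential.D D B (d * t ^ n) = 0
        have hDt : KaehlerDifferential.D D B t = 0 := by rw [ht]; exact Derivation.map_algebraMap _ _
        rw [Derivation.leibniz, Derivation.leibniz_pow, hDt, smul_zero, smul_zero, smul_zero, zero_add,
          TensorProduct.tmul_smul, TensorProduct.smul_tmul', Algebra.smul_def, mul_one,
          show algebraMap B B' (t ^ n) = 0 from Ideal.Quotient.eq_zero_iff_mem.2 (Ideal.mem_span_singleton_self _),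
          TensorProduct.zero_tmul]
      have h1 : LinearMap.baseChange B' m₁ (β - 1 ⊗ₜ η) = 0 := hinj (by
        rw [map_zero, map_sub, map_sub, ← hfac, ← hfac, ← hp, hfac, LinearMap.baseChange_tmul,
          KaehlerDifferential.mapBaseChange_tmul, one_smul]
        exact sub_self _)
      obtain ⟨b, hb⟩ := (hex _).1 h1
      obtain ⟨b, rfl⟩ := Ideal.Quotient.mk_surjective b
      rw [LinearMap.toSpanSingleton_apply, ← hsmul] at hb
      refine ⟨η + b • KaehlerDifferential.D k B t, Prod.ext ?_ ?_⟩
      · show m₁ (η + b • KaehlerDifferential.D k B t) = m₁ η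
        rw [map_add, map_smul, map_D_t e he ht, smul_zero, add_zero]
      · show (1 : B') ⊗ₜ[B] (η + b • KaehlerDifferential.D k B t) = β
        rw [TensorProduct.tmul_add, hb, add_sub_cancel]

end Groth.Agent.S18839
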