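import Groth.Statements.S18859
import Groth.Agent.Lib.TorsorSch.Basic

set_option autoImplicit false
universe u
open CategoryTheory MonoidalCategory CartesianMonoidalCategory MonObj GrpObj AlgebraicGeometry
open NonAbH1

namespace Groth.Agent.S18859

open MonoidalCategory CartesianMonoidalCategory Limits in
/-- Two points of a torsor have the same image under an invariant morphism. -/
theorem comp_eq {S : Scheme.{u}} {G X : Over S} [GrpObj G] {a : AlgGrp.Action G X}
    (ha : NonAbH1.IsPseudoTorsorSch a) {A : Scheme.{u}} {σ : X.left ⟶ A}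
    (hσ : a.act.left ≫ σ = (snd G X).left ≫ σ) {W : Scheme.{u}} (x y : W ⟶ X.left)
    (h : x ≫ X.hom = y ≫ X.hom) : x ≫ σ = y ≫ σ := by
  have : IsIso (lift a.act (snd G X)) := ha
  let x' : Over.mk (x ≫ X.hom) ⟶ X := Over.homMk x rfl
  let y' : Over.mk (x ≫ X.hom) ⟶ X := Over.homMk y h.symm
  set w := lift x' y' ≫ inv (lift a.act (snd G X)) with hw
  have e : w ≫ lift a.act (snd G X) = lift x' y' := by
    rw [hw, Category.assoc, IsIso.inv_hom_id, Category.comp_id]
  have e1 : w ≫ a.act = x' := by simpa using congr($e ≫ fst X X)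
  have e2 : w ≫ snd G X = y' := by simpa using congr($e ≫ snd X X)
  calc x ≫ σ = (w ≫ a.act).left ≫ σ := by rw [e1]; rfl
    _ = (w ≫ snd G X).left ≫ σ := by
      simp only [Over.comp_left, Category.assoc, hσ]
    _ = y ≫ σ := by rw [e2]; rfl

open Limits Groth.Agent.Lib.TorsorSch.Descent in
/-- An fpqc locally trivial scheme has a section over an fpqc cover of each affine open. -/
theorem exists_cover {S : Scheme.{u}} {X : Over S}
    (hX : NonAbH1.IsLocallyTrivialFor Scheme.fpqcPrecoverage X) (U : S.Opens) (hU : IsAffineOpen U) :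
    ∃ (T : Scheme.{u}) (q : T ⟶ (U : Scheme.{u})), Surjective q ∧ Flat q ∧ QuasiCompact q ∧
      ∃ 𝒱 : Scheme.OpenCover.{0} T, ∀ i, ∃ x : 𝒱.X i ⟶ X.left,
        x ≫ X.hom = 𝒱.f i ≫ q ≫ U.ι := by
  obtain ⟨R, hR, hs⟩ := hX
  obtain ⟨T, _, q, h1, h2, h3, 𝒱, h𝒱⟩ := exists_affine_cover hR U hU
  refine ⟨T, q, h1, h2, h3, 𝒱, fun i ↦ ?_⟩
  obtain ⟨S', g, hg, b, hb⟩ := h𝒱 i
  obtain ⟨s, hs⟩ := hs g hg
  exact ⟨b ≫ s, by rw [Category.assoc, hs, hb]⟩

open Limits in
theorem epi_hom {S : Scheme.{u}} {X : Over S}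
    (hX : NonAbH1.IsLocallyTrivialFor Scheme.fpqcPrecoverage X) : Epi X.hom := by
  refine ⟨fun {A} r r' h ↦ ?_⟩
  refine (S.openCoverOfIsOpenCover (fun U : S.affineOpens ↦ U.1)
    (iSup_affineOpens_eq_top S)).hom_ext _ _ fun ⟨U, hU⟩ ↦ ?_
  obtain ⟨T, q, _, _, _, 𝒱, h𝒱⟩ := exists_cover hX U hU
  change U.ι ≫ r = U.ι ≫ r'
  rw [← cancel_epi q]
  refine 𝒱.hom_ext _ _ fun i ↦ ?_
  obtain ⟨x, hx⟩ := h𝒱 i
  rw [← Category.assoc, ← Category.assoc, Category.assoc (𝒱.f i), ← hx, Category.assoc,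
    h, ← Category.assoc, hx]
  simp

open MonoidalCategory CartesianMonoidalCategory Limits in
theorem exists_desc {S : Scheme.{u}} {G X : Over S} [GrpObj G] {a : AlgGrp.Action G X}
    (ha : NonAbH1.IsTorsorFor Scheme.fpqcPrecoverage a) {A : Scheme.{u}} {σ : X.left ⟶ A}
    (hσ : a.act.left ≫ σ = (snd G X).left ≫ σ) : ∃ r : S ⟶ A, X.hom ≫ r = σ := by
  have key : ∀ U : S.affineOpens, ∃ r : (U.1 : Scheme.{u}) ⟶ A, ∀ {W : Scheme.{u}}
      (h : W ⟶ (U.1 : Scheme.{u})) (x : W ⟶ X.left), x ≫ X.hom = h ≫ U.1.ι → h ≫ r = x ≫ σ := by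
    rintro ⟨U, hU⟩
    obtain ⟨T, q, _, _, _, 𝒱, h𝒱⟩ := exists_cover ha.2 U hU
    choose y hy using h𝒱
    let t : T ⟶ A := 𝒱.glueMorphisms (fun i ↦ y i ≫ σ) fun i j ↦ by
      rw [← Category.assoc, ← Category.assoc]
      refine comp_eq ha.1 hσ _ _ ?_
      rw [Category.assoc, Category.assoc, hy, hy, pullback.condition_assoc]
    have ht : ∀ {W : Scheme.{u}} (g : W ⟶ T) (x : W ⟶ X.left),
        x ≫ X.hom = g ≫ q ≫ U.ι → g ≫ t = x ≫ σ := by
      intro W g x hx
      refine Scheme.Cover.hom_ext (𝒱.pullback₁ g) _ _ fun i ↦ ?_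
      change pullback.fst g (𝒱.f i) ≫ g ≫ t = pullback.fst g (𝒱.f i) ≫ x ≫ σ
      rw [pullback.condition_assoc, Scheme.Cover.ι_glueMorphisms, ← Category.assoc,
        ← Category.assoc]
      refine comp_eq ha.1 hσ _ _ ?_
      rw [Category.assoc, Category.assoc, hy, hx, pullback.condition_assoc]
    have hq : ∀ {Z : Scheme.{u}} (g₁ g₂ : Z ⟶ T), g₁ ≫ q = g₂ ≫ q → g₁ ≫ t = g₂ ≫ t := by
      intro Z g₁ g₂ h
      refine Scheme.Cover.hom_ext (𝒱.pullback₁ g₁) _ _ fun i ↦ ?_
      change pullback.fst g₁ (𝒱.f i) ≫ g₁ ≫ t = pullback.fst g₁ (𝒱.f i) ≫ g₂ ≫ t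
      rw [pullback.condition_assoc, Scheme.Cover.ι_glueMorphisms]
      rw [← Category.assoc (pullback.fst g₁ (𝒱.f i)) g₂,
        ht (pullback.fst g₁ (𝒱.f i) ≫ g₂) (pullback.snd g₁ (𝒱.f i) ≫ y i)
          (by simp only [Category.assoc, hy, ← reassoc_of% h, pullback.condition_assoc]),
        Category.assoc]
    refine ⟨EffectiveEpi.desc q t hq, fun {W} h x hx ↦ ?_⟩
    have : Flat (pullback.fst h q) := inferInstance
    have : Surjective (pullback.fst h q) := inferInstance
    have : QuasiCompact (pullback.fst h q) := inferInstance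
    rw [← cancel_epi (pullback.fst h q), pullback.condition_assoc, EffectiveEpi.fac,
      ht (pullback.snd h q) (pullback.fst h q ≫ x)
        (by rw [Category.assoc, hx, pullback.condition_assoc]), Category.assoc]
  choose r hr using key
  let 𝒰 := S.openCoverOfIsOpenCover (fun U : S.affineOpens ↦ U.1) (iSup_affineOpens_eq_top S)
  let R : S ⟶ A := 𝒰.glueMorphisms r fun U U' ↦ by
    let Z := pullback (𝒰.f U) (𝒰.f U')
    obtain ⟨T, q, _, _, _, 𝒱, h𝒱⟩ := exists_cover ha.2 U.1 U.2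
    have : Flat (pullback.fst (pullback.fst (𝒰.f U) (𝒰.f U')) q) :=
      MorphismProperty.pullback_fst (P := @Flat) _ _ ‹_›
    have : Surjective (pullback.fst (pullback.fst (𝒰.f U) (𝒰.f U')) q) :=
      MorphismProperty.pullback_fst (P := @Surjective) _ _ ‹_›
    have : QuasiCompact (pullback.fst (pullback.fst (𝒰.f U) (𝒰.f U')) q) :=
      MorphismProperty.pullback_fst (P := @QuasiCompact) _ _ ‹_›
    rw [← cancel_epi (pullback.fst (pullback.fst (𝒰.f U) (𝒰.f U')) q)]
    refine Scheme.Cover.hom_ext (𝒱.pullback₁ (pullback.snd (pullback.fst (𝒰.f U) (𝒰.f U')) q)) _ _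
      fun i ↦ ?_
    obtain ⟨y, hy⟩ := h𝒱 i
    simp only [← Category.assoc]
    refine Eq.trans (hr U _ (pullback.snd _ (𝒱.f i) ≫ y) ?_)
      (hr U' _ (pullback.snd _ (𝒱.f i) ≫ y) ?_).symm
    all_goals rw [Category.assoc, hy, ← pullback.condition_assoc]
    all_goals erw [← pullback.condition_assoc]
    · exact (Category.assoc _ _ _).symm.trans (by simp only [Category.assoc]; rfl)
    · simp only [Category.assoc]
      erw [pullback.condition]
      rfl
  refine ⟨R, Scheme.Cover.hom_ext (𝒰.pullback₁ X.hom) _ _ fun U ↦ ?_⟩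
  change pullback.fst X.hom (𝒰.f U) ≫ X.hom ≫ R = pullback.fst X.hom (𝒰.f U) ≫ σ
  rw [pullback.condition_assoc, Scheme.Cover.ι_glueMorphisms]
  exact hr U _ _ pullback.condition

/-- The affine line over `ℤ`. -/
noncomputable abbrev line : Scheme.{u} := Spec (CommRingCat.of (Polynomial (ULift.{u} ℤ)))

/-- The global function attached to a morphism to the affine line. -/
noncomputable def toFn {Y : Scheme.{u}} (f : Y ⟶ line.{u}) : Γ(Y, ⊤) :=
  ((Scheme.ΓSpecIso _).inv ≫ f.appTop) Polynomial.X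

theorem toFn_comp {Y Z : Scheme.{u}} (g : Y ⟶ Z) (f : Z ⟶ line.{u}) :
    toFn (g ≫ f) = g.appTop.hom (toFn f) := by
  simp [toFn]

theorem toFn_bijective (Y : Scheme.{u}) : Function.Bijective (toFn (Y := Y)) := by
  refine ⟨fun f g h ↦ ext_to_Spec (CommRingCat.hom_ext (Polynomial.ringHom_ext' ?_ h)), fun s ↦ ?_⟩
  · refine RingHom.ext fun ⟨n⟩ ↦ ?_
    rw [show (ULift.up n : ULift.{u} ℤ) = (n : ULift.{u} ℤ) from rfl, map_intCast, map_intCast]
  let φ : CommRingCat.of (Polynomial (ULift.{u} ℤ)) ⟶ Γ(Y, ⊤) := CommRingCat.ofHom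
    (Polynomial.eval₂RingHom ((Int.castRingHom Γ(Y, ⊤)).comp ULift.ringEquiv.toRingHom) s)
  refine ⟨ΓSpec.adjunction.homEquiv Y (Opposite.op _) φ.op, ?_⟩
  rw [toFn, ΓSpecIso_inv_ΓSpec_adjunction_homEquiv]
  simp [φ]

/-- Let S be a scheme, G a group scheme over S and X → S a G-torsor for the fpqc topology (a
pseudo-torsor under G acquiring sections on the members of some fpqc covering family of S). Then the
functions on S are the G-invariant functions on X: the ring map Γ(S, O_S) → Γ(X, O_X) is injective,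
and a global function s on X lies in its image if and only if the pullbacks of s to G ×_S X along
the action morphism and along the second projection coincide. (The source works over a scheme of
finite type over a field with G the base change of an affine group scheme over that field and states
the equality O_S = (O_X)^G as sheaves on S; applied to the restriction of the torsor over each open
of S, the present global form is that equality.) -/
theorem result {S : Scheme.{u}} {G X : Over S}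
    [GrpObj G] (a : AlgGrp.Action G X) (ha : NonAbH1.IsTorsorFor Scheme.fpqcPrecoverage a) :
    Function.Injective X.hom.appTop.hom ∧
      ∀ s : Γ(X.left, ⊤), s ∈ Set.range X.hom.appTop.hom ↔
        a.act.left.appTop.hom s = (CartesianMonoidalCategory.snd G X).left.appTop.hom s := by
  have := epi_hom ha.2
  refine ⟨fun r r' h ↦ ?_, fun s ↦ ⟨?_, fun h ↦ ?_⟩⟩
  · obtain ⟨f, rfl⟩ := (toFn_bijective S).2 r
    obtain ⟨g, rfl⟩ := (toFn_bijective S).2 r'
    rw [← toFn_comp, ← toFn_comp] at h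
    rw [(cancel_epi X.hom).mp ((toFn_bijective _).1 h)]
  · rintro ⟨r, rfl⟩
    obtain ⟨f, rfl⟩ := (toFn_bijective S).2 r
    rw [← toFn_comp, ← toFn_comp, ← toFn_comp, ← Category.assoc, ← Category.assoc,
      Over.w, Over.w]
  · obtain ⟨σ, rfl⟩ := (toFn_bijective _).2 s
    rw [← toFn_comp, ← toFn_comp] at h
    obtain ⟨r, hr⟩ := exists_desc ha ((toFn_bijective _).1 h)
    exact ⟨toFn r, by rw [← toFn_comp, hr]⟩

end Groth.Agent.S18859
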