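import Groth.Statements.S1886
import Groth.Agent.H63.GrpdBasic
import Groth.Agent.H63.GrpdStab
-- import your own Groth.Agent.* helpers here

set_option autoImplicit false
universe u
open CategoryTheory CategoryTheory.Limits AlgebraicGeometry
open Grpd

namespace Groth.Agent.S1886
open Groth.Agent.H63.GrpdStab
open Groth.Agent.H63.GrpdBasic

/-- Let (U, R, s, t, c) be a groupoid scheme over S with stabilizer group scheme G → U and identity
section e : U → G. Then j = (t, s) : R → U ×_S U is separated iff G → U is separated iff e is a
closed immersion; and j is quasi-separated iff G → U is quasi-separated iff e is quasi-compact. (A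
groupoid scheme carries U, R, s, t, c, e, i over S with the groupoid axioms on T-points; 'finite
locally free' is finite, flat and locally of finite presentation; C ⊂ Γ(U) is the ring of functions
a with s♯(a) = t♯(a) and M = Spec C.) -/
theorem result (S : Scheme.{u}) (G : Grpd.GroupoidScheme S) : ((IsSeparated G.j ↔ IsSeparated G.stabilizerToU) ∧ (IsSeparated G.stabilizerToU ↔ IsClosedImmersion G.eStab)) ∧ ((QuasiSeparated G.j ↔ QuasiSeparated G.stabilizerToU) ∧ (QuasiSeparated G.stabilizerToU ↔ QuasiCompact G.eStab)) := by
  have hsec : G.eStab ≫ G.stabilizerToU = 𝟙 G.U := eStab_toU G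
  have hpb := isPullback_diagonal_j G
  refine ⟨⟨isSeparated_j_iff G, ?_, ?_⟩, ⟨?_, ?_⟩, ?_, ?_⟩
  · intro h
    have : IsClosedImmersion (G.eStab ≫ G.stabilizerToU) := by rw [hsec]; infer_instance
    exact IsClosedImmersion.of_comp G.eStab G.stabilizerToU
  · intro h
    have hj : IsSeparated G.j :=
      ⟨MorphismProperty.of_isPullback (P := @IsClosedImmersion) hpb.flip h⟩
    exact (isSeparated_j_iff G).1 hj
  · exact fun h => MorphismProperty.of_isPullback (P := @QuasiSeparated)
      (IsPullback.of_hasPullback G.j G.diag) h
  · intro h
    have : QuasiCompact (G.eStab ≫ G.stabilizerToU) := by rw [hsec]; infer_instance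
    exact ⟨MorphismProperty.of_isPullback (P := @QuasiCompact) hpb.flip
      (QuasiCompact.of_comp G.eStab G.stabilizerToU)⟩
  · intro h
    have : QuasiCompact (G.eStab ≫ G.stabilizerToU) := by rw [hsec]; infer_instance
    exact QuasiCompact.of_comp G.eStab G.stabilizerToU
  · intro h
    have hj : QuasiSeparated G.j :=
      ⟨MorphismProperty.of_isPullback (P := @QuasiCompact) hpb.flip h⟩
    exact MorphismProperty.of_isPullback (P := @QuasiSeparated)
      (IsPullback.of_hasPullback G.j G.diag) hj

end Groth.Agent.S1886
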