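import Groth.Statements.S18864
import Mathlib.RingTheory.Flat.Basic
import Mathlib.RingTheory.Flat.Tensor
import Mathlib.LinearAlgebra.Basis.VectorSpace
import Mathlib.RingTheory.Flat.Stability
-- import your own Groth.Agent.* helpers here

set_option autoImplicit false
universe u v w
open HopfRep

namespace Groth.Agent.S18864

/-- Let k be a field and G = lim G_i a pro-algebraic group scheme over k, so that G = Spec A with A the
direct limit of the Hopf algebras A_i of the affine group schemes G_i of finite type; assume
moreover that the maps A_i → A are injective, so that A is the directed union of the A_i, here given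
as injective bialgebra maps A_i → A with directed, jointly covering images. Then every homomorphism
from G to an affine group scheme H = Spec B of finite type over k factors through some projection G
→ G_i: every bialgebra map f : B → A with B finitely generated as a k-algebra is the composite of
A_i → A with a bialgebra map B → A_i for some i. (The published statement allows arbitrary
transition maps in the system; this row assumes each A_i → A injective, the case the printed
argument treats. The source also states the pro-finite variant with H finite, which is the case of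
finite-dimensional A_i and B; finite generation of the A_i is not used.) -/
theorem result (k : Type u) [Field k]
    (A : Type v) [CommRing A] [HopfAlgebra k A] {ι : Type v} (Aι : ι → Type v)
    [∀ i, CommRing (Aι i)] [∀ i, HopfAlgebra k (Aι i)] (emb : ∀ i, Aι i →ₐc[k] A)
    (hinj : ∀ i, Function.Injective (emb i))
    (hdir : ∀ i j, ∃ l, Set.range (emb i) ⊆ Set.range (emb l) ∧ Set.range (emb j) ⊆ Set.range (emb l))
    (hcov : ∀ a : A, ∃ i, a ∈ Set.range (emb i))
    (B : Type w) [CommRing B] [HopfAlgebra k B] [Algebra.FiniteType k B] (f : B →ₐc[k] A) :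
    ∃ (i : ι) (g : B →ₐc[k] Aι i), (emb i).comp g = f := by
  classical
  obtain ⟨s, hs⟩ := (Algebra.FiniteType.out : (⊤ : Subalgebra k B).FG)
  have key : ∀ t : Finset B, ∃ i, ∀ b ∈ t, f b ∈ Set.range (emb i) := by
    intro t
    induction t using Finset.induction with
    | empty =>
      obtain ⟨i, -⟩ := hcov 0
      exact ⟨i, by simp⟩
    | insert b t hb ih =>
      obtain ⟨i, hi⟩ := ih
      obtain ⟨j, hj⟩ := hcov (f b)
      obtain ⟨l, hil, hjl⟩ := hdir i j
      refine ⟨l, fun c hc => ?_⟩
      rcases Finset.mem_insert.1 hc with rfl | hc
      · exact hjl hj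
      · exact hil (hi c hc)
  obtain ⟨i, hi⟩ := key s
  have hrange : ∀ b, f b ∈ (emb i).toAlgHom.range := by
    intro b
    have hle : Algebra.adjoin k (s : Set B) ≤ (emb i).toAlgHom.range.comap f.toAlgHom := by
      apply Algebra.adjoin_le
      intro c hc
      obtain ⟨x, hx⟩ := hi c hc
      exact ⟨x, hx⟩
    exact hle (hs ▸ Algebra.mem_top)
  let g₀ : B →ₐ[k] Aι i := (AlgEquiv.ofInjective (emb i).toAlgHom (hinj i)).symm.toAlgHom.comp
    (f.toAlgHom.codRestrict _ hrange)
  have hg : ∀ b, emb i (g₀ b) = f b := by
    intro b
    have h := (AlgEquiv.ofInjective (emb i).toAlgHom (hinj i)).apply_symm_apply ⟨f b, hrange b⟩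
    exact congrArg Subtype.val h
  have hEG : (emb i).toLinearMap ∘ₗ g₀.toLinearMap = f.toLinearMap := LinearMap.ext hg
  have hTinj : Function.Injective (TensorProduct.map (emb i).toLinearMap (emb i).toLinearMap) :=
    TensorProduct.map_injective_of_flat_flat (R := k) _ _ (hinj i) (hinj i)
  refine ⟨i, BialgHom.ofAlgHom g₀ ?_ ?_, BialgHom.ext hg⟩
  · apply AlgHom.ext
    intro b
    have h1 : Coalgebra.counit (R := k) (emb i (g₀ b)) = Coalgebra.counit (g₀ b) :=
      CoalgHomClass.counit_comp_apply (emb i) _
    rw [hg] at h1
    exact h1.symm.trans (CoalgHomClass.counit_comp_apply f b)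
  · apply AlgHom.ext
    intro b
    show TensorProduct.map g₀.toLinearMap g₀.toLinearMap (Coalgebra.comul b) =
      Coalgebra.comul (g₀ b)
    apply hTinj
    rw [← LinearMap.comp_apply, ← TensorProduct.map_comp, hEG]
    have e1 := CoalgHomClass.map_comp_comul_apply (emb i) (g₀ b)
    have e2 := CoalgHomClass.map_comp_comul_apply f b
    rw [hg] at e1
    exact e2.trans e1.symm

end Groth.Agent.S18864
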