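import Groth.Statements.S18876
import Groth.Agent.Lib.Gerbe.Coarse

set_option autoImplicit false
universe u
open Gerb

namespace Groth.Agent.S18876

open CategoryTheory AlgebraicGeometry in
/-- Let S be a scheme and F : 𝒳 → 𝒴 a morphism of algebraic stacks over S which makes 𝒳 an fppf gerbe
over 𝒴 and through which every morphism from 𝒳 to an algebraic space factors, uniquely up to
2-isomorphism. Then 𝒴 admits a coarse moduli space exactly when 𝒳 does, and the two coarse moduli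
spaces coincide: for every coarse moduli map π : 𝒴 → M the composite 𝒳 → 𝒴 → M is a coarse moduli
map of 𝒳. (The published statement is about the rigidification F of 𝒳 along a flat finitely
presented subgroup stack of its inertia; only two of its properties are assumed here, that F is a
gerbe and that maps to algebraic spaces factor through F, which is what the published argument uses;
neither stack is assumed quasi-separated or locally of finite presentation over S, and their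
diagonals are not assumed quasi-compact or separated.) -/
theorem result (S : Scheme.{u}) (𝒳 𝒴 : AlgSt.Cat S)
    (h𝒳 : AlgSt.IsAlgStack Scheme.fppfPrecoverage 𝒳) (h𝒴 : AlgSt.IsAlgStack Scheme.fppfPrecoverage 𝒴)
    (F : 𝒳 ⥤ᵇ 𝒴) (hF : Gerb.IsGerbeOver (QuotSh.J Scheme.fppfPrecoverage S) F)
    (huniv : ∀ (N : AlgSp.Sp S), AlgSp.IsAlgSpace N → ∀ φ : 𝒳 ⥤ᵇ AlgSt.ofSp N,
      ∃ ψ : 𝒴 ⥤ᵇ AlgSt.ofSp N, Nonempty (BasedFunctor.comp F ψ ≅ φ) ∧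
        ∀ ψ' : 𝒴 ⥤ᵇ AlgSt.ofSp N, Nonempty (BasedFunctor.comp F ψ' ≅ φ) → Nonempty (ψ' ≅ ψ)) :
    ((∃ (M : AlgSp.Sp S) (π : 𝒴 ⥤ᵇ AlgSt.ofSp M), AlgSt.IsCoarseModuli π) ↔
        ∃ (M : AlgSp.Sp S) (π : 𝒳 ⥤ᵇ AlgSt.ofSp M), AlgSt.IsCoarseModuli π) ∧
      ∀ (M : AlgSp.Sp S) (π : 𝒴 ⥤ᵇ AlgSt.ofSp M), AlgSt.IsCoarseModuli π →
        AlgSt.IsCoarseModuli (BasedFunctor.comp F π) := by
  have key : ∀ (M : AlgSp.Sp S) (π : 𝒴 ⥤ᵇ AlgSt.ofSp M), AlgSt.IsCoarseModuli π →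
      AlgSt.IsCoarseModuli (BasedFunctor.comp F π) := by
    rintro M π ⟨⟨hM, hc⟩, hb⟩
    refine ⟨⟨hM, fun N hN φ => ?_⟩, (Lib.Gerbe.Coarse.geomPtBij_comp_iff h𝒳.isStack.1 h𝒴.isStack.1 F hF π).2 hb⟩
    obtain ⟨ψ, ⟨β⟩, huψ⟩ := huniv N hN φ
    obtain ⟨g, ⟨γ⟩, hg⟩ := hc N hN ψ
    exact ⟨g, ⟨Lib.AlgStack.BasedBasic.isoWhiskerLeft F γ ≪≫ β⟩,
      fun g' ⟨δ⟩ => hg g' (huψ (BasedFunctor.comp π (AlgSt.ofSpMap g')) ⟨δ⟩)⟩
  refine ⟨⟨fun ⟨M, π, h⟩ => ⟨M, _, key M π h⟩, ?_⟩, key⟩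
  rintro ⟨M, ρ, ⟨hM, hc⟩, hb⟩
  obtain ⟨ψ, ⟨β⟩, -⟩ := huniv M hM ρ
  refine ⟨M, ψ, ⟨hM, fun N hN φ => ?_⟩, (Lib.Gerbe.Coarse.geomPtBij_comp_iff h𝒳.isStack.1 h𝒴.isStack.1 F hF ψ).1
    (Lib.Gerbe.Coarse.geomPtBij_of_iso β.symm hb)⟩
  obtain ⟨g, ⟨γ⟩, hg⟩ := hc N hN (BasedFunctor.comp F φ)
  obtain ⟨ψ₀, -, hu⟩ := huniv N hN (BasedFunctor.comp F φ)
  obtain ⟨a⟩ := hu φ ⟨Iso.refl _⟩
  obtain ⟨b⟩ := hu (BasedFunctor.comp ψ (AlgSt.ofSpMap g))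
    ⟨Lib.AlgStack.BasedBasic.isoWhiskerRight β (AlgSt.ofSpMap g) ≪≫ γ⟩
  exact ⟨g, ⟨b ≪≫ a.symm⟩, fun g' ⟨δ⟩ => hg g'
    ⟨(Lib.AlgStack.BasedBasic.isoWhiskerRight β (AlgSt.ofSpMap g')).symm ≪≫
      Lib.AlgStack.BasedBasic.isoWhiskerLeft F δ⟩⟩

end Groth.Agent.S18876
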