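import Groth.Statements.S18877
import Groth.Agent.H69.ConsStage
import Groth.Agent.H46.GeomSpread.Fibre
import Groth.Agent.H46.GeomSpread.Constructible
import Mathlib.FieldTheory.IsAlgClosed.AlgebraicClosure
-- import your own Groth.Agent.* helpers here

set_option autoImplicit false
universe u
open Lim

namespace Groth.Agent.S18877
set_option backward.isDefEq.respectTransparency false

open CategoryTheory AlgebraicGeometry in
/-- Let S = lim S_i be a cofiltered limit of Noetherian schemes with affine transition morphisms, let X₀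
→ S_{i₀} be a scheme of finite type over one stage and X → S its base change to the limit. If all
geometric fibres of X → S are connected, then for some stage S_i → S_{i₀} all geometric fibres of
the base change X₀ ×_{S_{i₀}} S_i → S_i are connected. (Connected is read so as to allow the empty
fibre: the underlying space of each geometric fibre is preconnected; the geometric fibre of X₀
×_{S_{i₀}} S_i over Spec Ω → S_i is written as the pullback of X₀ → S_{i₀} along Spec Ω → S_i →
S_{i₀}.) -/
theorem result {I : Type u} [SmallCategory I] [IsCofiltered I]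
    (D : I ⥤ Scheme.{u}) (c : Limits.Cone D) (hc : Limits.IsLimit c)
    [∀ (i j : I) (a : i ⟶ j), IsAffineHom (D.map a)] [∀ i : I, AlgebraicGeometry.IsNoetherian (D.obj i)]
    (i₀ : I) {X₀ : Scheme.{u}} (f₀ : X₀ ⟶ D.obj i₀) [QuasiCompact f₀] [LocallyOfFiniteType f₀]
    {X : Scheme.{u}} (f : X ⟶ c.pt) (q : X ⟶ X₀) (hX : IsPullback q f f₀ (c.π.app i₀))
    (hconn : ∀ (Ω : Type u) [Field Ω] [IsAlgClosed Ω] (t : Spec (CommRingCat.of Ω) ⟶ c.pt),
      PreconnectedSpace ↥(Limits.pullback f t)) :
    ∃ (i : I) (a : i ⟶ i₀), ∀ (Ω : Type u) [Field Ω] [IsAlgClosed Ω] (t : Spec (CommRingCat.of Ω) ⟶ D.obj i),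
      PreconnectedSpace ↥(Limits.pullback f₀ (t ≫ D.map a)) := by
  open Groth.Agent.H46.GeomSpread in
  classical
  have hle : ∀ {W : Scheme.{u}}, PreconnectedSpace W ↔
      ENat.card (_root_.ConnectedComponents W) ≤ 1 := fun {W} => by
    rw [ENat.card_le_one_iff_subsingleton]
    constructor
    · intro hW
      refine ⟨fun a b => ?_⟩
      obtain ⟨a, rfl⟩ := ConnectedComponents.surjective_coe a
      obtain ⟨b, rfl⟩ := ConnectedComponents.surjective_coe b
      exact (ConnectedComponents.coe_eq_coe' (x := a)).2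
        (PreconnectedSpace.connectedComponent_eq_univ b ▸ Set.mem_univ a)
    · intro hW
      exact preconnectedSpace_iff_connectedComponent.2 fun x => Set.eq_univ_of_forall fun w =>
        (ConnectedComponents.coe_eq_coe' (x := w)).1 (Subsingleton.elim _ _)
  have hgeom : ∀ (Ω : Type u) [Field Ω] [IsAlgClosed Ω] (g : Spec (CommRingCat.of Ω) ⟶ D.obj i₀),
      PreconnectedSpace ↥(Limits.pullback f₀ g) ↔
        MoreMor.nGeomConnComp f₀ (g (IsLocalRing.closedPoint Ω)) ≤ 1 := by
    intro Ω _ _ g
    obtain ⟨y, φ, hg⟩ : ∃ (y : D.obj i₀) (φ : (D.obj i₀).residueField y ⟶ CommRingCat.of Ω),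
        Spec.map φ ≫ (D.obj i₀).fromSpecResidueField y = g :=
      ⟨((Scheme.SpecToEquivOfField Ω (D.obj i₀)) g).1, ((Scheme.SpecToEquivOfField Ω (D.obj i₀)) g).2,
        (Scheme.SpecToEquivOfField Ω (D.obj i₀)).symm_apply_apply g⟩
    have hy : g (IsLocalRing.closedPoint Ω) = y := by
      rw [← hg, Scheme.Hom.comp_apply]
      exact Scheme.fromSpecResidueField_apply _ _
    rw [hy, hle]
    let A : CommRingCat.{u} := (D.obj i₀).residueField y
    let p : f₀.fiber y ⟶ Spec A := f₀.fiberToSpecResidueField y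
    let L := SeparableClosure ((D.obj i₀).residueField y)
    letI algΩ : Algebra A Ω := φ.hom.toAlgebra
    letI : Algebra L Ω := (IsSepClosed.lift : L →ₐ[(D.obj i₀).residueField y] Ω).toRingHom.toAlgebra
    have : IsScalarTower A L Ω := IsScalarTower.of_algebraMap_eq fun a =>
      ((IsSepClosed.lift : L →ₐ[(D.obj i₀).residueField y] Ω).commutes a).symm
    have h2 := (counts_eq_of_sepClosed p L Ω).2
    have sq : IsPullback (Limits.pullback.fst p (sp A Ω) ≫ f₀.fiberι y)
        (Limits.pullback.snd p (sp A Ω)) f₀ g := by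
      rw [← hg]
      exact (IsPullback.of_hasPullback p (sp A Ω)).paste_horiz (IsPullback.of_hasPullback _ _)
    have h3 := (counts_eq_of_iso sq.isoPullback).2
    show nC (Limits.pullback f₀ g) ≤ 1 ↔ nC (fib p L) ≤ 1
    rw [← h3, h2]
  have hE : Topology.IsConstructible {y : D.obj i₀ | ¬ MoreMor.nGeomConnComp f₀ y ≤ 1} := by
    refine isConstructible_of_locallyClosed _ fun η => ?_
    obtain ⟨V, h1, h2, h3, h4⟩ := exists_locallyClosed_counts f₀ η
    exact ⟨V, h1, h2, h3, fun z hz => by simp only [Set.mem_setOf_eq, (h4 z hz).2]⟩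
  obtain ⟨i, a, ha⟩ := Groth.Agent.H69.ConsStage.exists_preimage_eq_empty D c hc i₀ hE (by
    refine Set.eq_empty_iff_forall_notMem.mpr fun z hz => hz ?_
    let Ω := AlgebraicClosure (c.pt.residueField z)
    let t : Spec (CommRingCat.of Ω) ⟶ c.pt :=
      Spec.map (CommRingCat.ofHom (algebraMap (c.pt.residueField z) Ω)) ≫ c.pt.fromSpecResidueField z
    have h1 := hconn Ω t
    have sq := (IsPullback.of_hasPullback f t).paste_horiz hX
    have h2 : PreconnectedSpace ↥(Limits.pullback f₀ (t ≫ c.π.app i₀)) :=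
      (Scheme.homeoOfIso sq.isoPullback).surjective.denseRange.preconnectedSpace
        (Scheme.homeoOfIso sq.isoPullback).continuous
    have h3 := (hgeom Ω (t ≫ c.π.app i₀)).1 h2
    rw [Scheme.Hom.comp_apply, show t (IsLocalRing.closedPoint Ω) = z from
      (Scheme.Hom.comp_apply _ _ _).trans (Scheme.fromSpecResidueField_apply _ _)] at h3
    exact h3)
  refine ⟨i, a, fun Ω _ _ t => (hgeom Ω (t ≫ D.map a)).2 ?_⟩
  have := Set.eq_empty_iff_forall_notMem.mp ha (t (IsLocalRing.closedPoint Ω))
  simp only [Set.mem_preimage, Set.mem_setOf_eq, not_not] at this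
  rwa [Scheme.Hom.comp_apply]


end Groth.Agent.S18877
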