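import Groth.Statements.S18878
import Groth.Agent.H69.SubgroupStage
import Groth.Agent.H69.GrpData
-- import your own Groth.Agent.* helpers here

set_option autoImplicit false
universe u
open Lim

namespace Groth.Agent.S18878
set_option backward.isDefEq.respectTransparency false
set_option synthInstance.maxHeartbeats 400000
open CategoryTheory MonoidalCategory AlgebraicGeometry
open Groth.Agent

open CategoryTheory AlgebraicGeometry in
/-- Let S = lim S_i be a cofiltered limit of schemes with affine transition morphisms over a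
quasi-compact quasi-separated stage S_{i₀}, let G₀ be a group scheme separated and of finite
presentation over S_{i₀} and H₀ ⊆ G₀ a closed subscheme whose immersion is of finite presentation,
and write G, H (resp. G_i, H_i) for the base changes to S (resp. to a stage S_i). If H is a closed
subgroup scheme of G, that is H carries a group structure over S for which H → G is a homomorphism,
then H_i is a closed subgroup scheme of G_i for some stage i → i₀; if moreover H is normal in G, the
stage can be chosen so that H_i is normal in G_i. (The published statement is for separated finitely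
presented group algebraic spaces and an arbitrary closed subspace H₀; this row is the case of
schemes and assumes H₀ → G₀ of finite presentation: over the limit Spec k of the spectra of k[x_1,
x_2, …]/(x_1, …, x_n), k of characteristic zero, the closed subscheme of the additive group cut out
by all x_m t^m becomes the whole additive group over Spec k but is a subgroup over no stage, so a
finiteness condition on H₀ is needed, and finite presentation is what the published limit argument
uses.) -/
theorem result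
    {I : Type u} [SmallCategory I] [IsCofiltered I]
    (D : I ⥤ Scheme.{u}) (c : Limits.Cone D) (hc : Limits.IsLimit c)
    [∀ (i j : I) (a : i ⟶ j), IsAffineHom (D.map a)] (i₀ : I)
    [CompactSpace (D.obj i₀)] [QuasiSeparatedSpace (D.obj i₀)]
    (G₀ : Over (D.obj i₀)) [GrpObj G₀] [IsSeparated G₀.hom] [QuasiCompact G₀.hom]
    [LocallyOfFinitePresentation G₀.hom]
    (H₀ : Over (D.obj i₀)) (ι₀ : H₀ ⟶ G₀) [IsClosedImmersion ι₀.left]
    [LocallyOfFinitePresentation ι₀.left]
    (hH : ∃ _ : GrpObj (Red.bc (c.π.app i₀) H₀), IsMonHom ((Over.pullback (c.π.app i₀)).map ι₀)) :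
    (∃ (i : I) (a : i ⟶ i₀) (_ : GrpObj (Red.bc (D.map a) H₀)),
        IsMonHom ((Over.pullback (D.map a)).map ι₀)) ∧
    ((∃ (_ : GrpObj (Red.bc (c.π.app i₀) H₀)) (_ : IsMonHom ((Over.pullback (c.π.app i₀)).map ι₀)),
        AlgGrp.IsNormalHom ((Over.pullback (c.π.app i₀)).map ι₀)) →
      ∃ (i : I) (a : i ⟶ i₀) (_ : GrpObj (Red.bc (D.map a) H₀))
        (_ : IsMonHom ((Over.pullback (D.map a)).map ι₀)),
        AlgGrp.IsNormalHom ((Over.pullback (D.map a)).map ι₀)) := by
  classical
  have : ∀ {i j : I} (g : i ⟶ j), IsAffineHom (D.map g) := fun g => inferInstance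
  let F := Over.forget i₀
  let D' := F ⋙ D
  let c' : Limits.Cone D' := c.whisker F
  have hc' : Limits.IsLimit c' := (Functor.Initial.isLimitWhiskerEquiv F c).symm hc
  have : ∀ (i j : Over i₀) (g : i ⟶ j), IsAffineHom (D'.map g) := fun i j g =>
    inferInstanceAs (IsAffineHom (D.map g.left))
  have : ∀ k : Over i₀, CompactSpace (D'.obj k) := fun k =>
    QuasiCompact.compactSpace_of_compactSpace (D.map k.hom)
  have : ∀ k : Over i₀, QuasiSeparatedSpace (D'.obj k) := fun k =>
    quasiSeparatedSpace_of_quasiSeparated (D.map k.hom)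
  let o : Over i₀ := Over.mk (𝟙 i₀)
  have hHqc : QuasiCompact H₀.hom := by rw [← Over.w ι₀]; infer_instance
  have hHqs : QuasiSeparated H₀.hom := by rw [← Over.w ι₀]; infer_instance
  have hHfp : LocallyOfFinitePresentation H₀.hom := by rw [← Over.w ι₀]; infer_instance
  have : CompactSpace H₀.left := QuasiCompact.compactSpace_of_compactSpace H₀.hom
  have : QuasiSeparatedSpace H₀.left := quasiSeparatedSpace_of_quasiSeparated H₀.hom
  obtain ⟨hqc2, hqs2⟩ := H69.GrpData.qcqs_tensor H₀ H₀
  have : CompactSpace (H₀ ⊗ H₀).left :=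
    QuasiCompact.compactSpace_of_compactSpace (H₀ ⊗ H₀).hom
  have : QuasiSeparatedSpace (H₀ ⊗ H₀).left :=
    quasiSeparatedSpace_of_quasiSeparated (H₀ ⊗ H₀).hom
  have : CompactSpace (𝟙_ (Over (D.obj i₀))).left := inferInstanceAs (CompactSpace (D.obj i₀))
  have : QuasiSeparatedSpace (𝟙_ (Over (D.obj i₀))).left :=
    inferInstanceAs (QuasiSeparatedSpace (D.obj i₀))
  obtain ⟨hm, hi, h1⟩ := H69.SubgroupStage.factorsOver_of_grpObj ι₀ (c'.π.app o) hH
  obtain ⟨k₁, f₁, hm'⟩ := H69.SubgroupStage.exists_factorsOver (D := D') hc' (j := o) ι₀ _ hm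
  obtain ⟨k₂, f₂, hi'⟩ := H69.SubgroupStage.exists_factorsOver (D := D') hc' (j := o) ι₀ _ hi
  obtain ⟨k₃, f₃, h1'⟩ := H69.SubgroupStage.exists_factorsOver (D := D') hc' (j := o) ι₀ _ h1
  obtain ⟨k₁₂, a₁, a₂, -⟩ := IsCofilteredOrEmpty.cone_objs k₁ k₂
  obtain ⟨k, b, a₃, -⟩ := IsCofilteredOrEmpty.cone_objs k₁₂ k₃
  have htriv : ∀ {p q : Over i₀} (x y : p ⟶ q) (hq : q = o), x = y := fun x y hq => by
    subst hq
    apply Over.OverMorphism.ext
    simpa [o] using (Over.w x).trans (Over.w y).symm
  have hgrp : ∀ (l : Over i₀) (e : l ⟶ k), ∃ _ : GrpObj (Red.bc (D.map l.hom) H₀),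
      IsMonHom ((Over.pullback (D.map l.hom)).map ι₀) := by
    intro l e
    have key : ∀ {p : Over i₀} (s : l ⟶ p) (g : p ⟶ o), D'.map s ≫ D'.map g = D.map l.hom :=
      fun s g => by
        rw [← D'.map_comp]
        exact congrArg D.map ((Category.comp_id _).symm.trans (Over.w (s ≫ g)))
    exact H69.SubgroupStage.exists_grpObj_of_factorsOver ι₀ (D.map l.hom)
      (H69.SubgroupStage.factorsOver_comp _ (key (e ≫ b ≫ a₁) f₁) hm')
      (H69.SubgroupStage.factorsOver_comp _ (key (e ≫ b ≫ a₂) f₂) hi')
      (H69.SubgroupStage.factorsOver_comp _ (key (e ≫ a₃) f₃) h1')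
  refine ⟨⟨k.left, k.hom, hgrp k (𝟙 k)⟩, ?_⟩
  rintro ⟨g, hg, hnormal⟩
  have hn : H69.NormalDescend.NormalOver ι₀ (c'.π.app o) :=
    (H69.SubgroupStage.isNormalHom_iff ι₀ (c.π.app i₀)).mp hnormal
  have : QuasiSeparated G₀.hom := inferInstance
  obtain ⟨k', f', hn'⟩ := H69.NormalDescend.exists_normalOver (D := D') hc' (j := o) ι₀ hn
  obtain ⟨l, e, e', -⟩ := IsCofilteredOrEmpty.cone_objs k k'
  obtain ⟨g', hg'⟩ := hgrp l e
  refine ⟨l.left, l.hom, g', hg', (H69.SubgroupStage.isNormalHom_iff ι₀ (D.map l.hom)).mpr ?_⟩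
  refine H69.NormalDescend.normalOver_comp _ (D'.map e') ?_ hn'
  rw [← D'.map_comp]
  exact congrArg D.map ((Category.comp_id _).symm.trans (Over.w (e' ≫ f')))

end Groth.Agent.S18878
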