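import Groth.Statements.S1888
import Groth.Agent.H63.GrpdBasic
-- import your own Groth.Agent.* helpers here

set_option autoImplicit false
universe u
open CategoryTheory CategoryTheory.Limits AlgebraicGeometry
open Grpd

namespace Groth.Agent.S1888
open Groth.Agent.H63.GrpdBasic

/-- Let (U, R, s, t, c) be a groupoid scheme over S with U the spectrum of a field k, and r a point of R
such that both s and t induce isomorphisms from k to κ(r). Then there is an automorphism of the
scheme R carrying the identity point e to r. (The source's automorphism is x ↦ c(r, x); only the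
existence of an automorphism moving e to r is stated here.) (A groupoid scheme carries U, R, s, t,
c, e, i over S with the groupoid axioms on T-points; 'finite locally free' is finite, flat and
locally of finite presentation; C ⊂ Γ(U) is the ring of functions a with s♯(a) = t♯(a) and M = Spec
C.) -/
theorem result (S : Scheme.{u}) (G : Grpd.GroupoidScheme S) (k : Type u) [Field k] (eU : G.U ≅ Spec (CommRingCat.of k)) (r : G.R) (hs : IsIso (G.s.residueFieldMap r)) (ht : IsIso (G.t.residueFieldMap r)) : ∃ φ : G.R ≅ G.R, φ.hom (G.e (eU.inv (IsLocalRing.closedPoint k))) = r := by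
  open CategoryTheory.Limits in
    have : Subsingleton G.U := @Function.Injective.subsingleton _ _ eU.hom eU.hom.homeomorph.injective
      (inferInstanceAs (Subsingleton (PrimeSpectrum k)))
    have : IsReduced G.U := isReduced_of_isOpenImmersion eU.hom
    have hp : ∀ p : G.U, IsIso (G.U.fromSpecResidueField p) := fun p ↦ by
      have : IsClosedImmersion (G.U.fromSpecResidueField p) :=
        isClosed_singleton_iff_isClosedImmersion.1 (by
          rw [show ({p} : Set G.U) = Set.univ from Set.eq_univ_of_forall fun q ↦ Subsingleton.elim q p]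
          exact isClosed_univ)
      have : Surjective (G.U.fromSpecResidueField p) :=
        ⟨fun q ↦ ⟨IsLocalRing.closedPoint _, Subsingleton.elim _ _⟩⟩
      exact isIso_of_isClosedImmersion_of_surjective _
    have w : ∀ f : G.R ⟶ G.U, IsIso (f.residueFieldMap r) → IsIso (G.R.fromSpecResidueField r ≫ f) := by
      intro f hf
      have := hp (f r)
      rw [← Scheme.Hom.SpecMap_residueFieldMap_fromSpecResidueField]
      infer_instance
    have := w G.s hs
    have := w G.t ht
    let ρ : G.U ⟶ G.R := inv (G.R.fromSpecResidueField r ≫ G.s) ≫ G.R.fromSpecResidueField r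
    have ρs : ρ ≫ G.s = 𝟙 _ := by rw [Category.assoc, IsIso.inv_hom_id]
    let θ : G.U ⟶ G.U := inv (G.R.fromSpecResidueField r ≫ G.s) ≫ G.R.fromSpecResidueField r ≫ G.t
    have hθ : IsIso θ := inferInstanceAs (IsIso (_ ≫ _))
    have ρt : ρ ≫ G.t = θ := Category.assoc _ _ _
    let φ : G.R ⟶ G.R := cmp G (G.t ≫ ρ) (𝟙 _) (by rw [Category.assoc, ρs, Category.comp_id, Category.id_comp])
    let ψ : G.R ⟶ G.R := cmp G ((G.t ≫ inv θ ≫ ρ) ≫ G.i) (𝟙 _)
      (by rw [Category.assoc, G.i_s, Category.assoc, Category.assoc, ρt, IsIso.inv_hom_id, Category.comp_id,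
        Category.id_comp])
    have φt : φ ≫ G.t = G.t ≫ θ := by rw [cmp_t, Category.assoc, ρt]
    have ψt : ψ ≫ G.t = G.t ≫ inv θ := by
      rw [cmp_t, Category.assoc, G.i_t, Category.assoc, Category.assoc, ρs, Category.comp_id]
    have h₁ : φ ≫ ψ = 𝟙 _ := by
      have hu : (φ ≫ (G.t ≫ inv θ ≫ ρ) ≫ G.i) = (G.t ≫ ρ) ≫ G.i := by
        simp only [Category.assoc]; rw [reassoc_of% φt, IsIso.hom_inv_id_assoc]
      rw [show φ ≫ ψ = _ from comp_cmp G φ _ _ _, cmp_congr G hu (Category.comp_id φ) _
        (by rw [Category.assoc _ G.i, G.i_s, φt, Category.assoc, ρt])]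
      exact inv_cmp_cancel G _ _ (by rw [Category.assoc, ρs, Category.comp_id, Category.id_comp])
    have h₂ : ψ ≫ φ = 𝟙 _ := by
      have hu : ψ ≫ G.t ≫ ρ = G.t ≫ inv θ ≫ ρ := by rw [reassoc_of% ψt]
      rw [show ψ ≫ φ = _ from comp_cmp G ψ _ _ _, cmp_congr G hu (Category.comp_id ψ) _
        (by rw [Category.assoc, Category.assoc, ρs, Category.comp_id, ψt])]
      exact cmp_inv_cancel_left G _ _ (by rw [Category.assoc, Category.assoc, ρt, IsIso.inv_hom_id,
        Category.comp_id, Category.id_comp])
    refine ⟨⟨φ, ψ, h₁, h₂⟩, ?_⟩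
    have he : G.e ≫ φ = ρ := by
      rw [show G.e ≫ φ = _ from comp_cmp G G.e _ _ _]
      refine (cmp_congr G (α' := ρ) (β' := G.e) (by rw [reassoc_of% G.e_t]) (Category.comp_id _) _
        (by rw [ρs, G.e_t])).trans ?_
      exact cmp_one G ρ G.e (by rw [reassoc_of% ρs]) _
    show φ (G.e _) = r
    rw [← Scheme.Hom.comp_apply, he, Scheme.Hom.comp_apply]
    exact G.R.fromSpecResidueField_apply r _

end Groth.Agent.S1888
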