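import Groth.Statements.S18883
import Groth.Agent.H81.ProjBundle.Embed
import Groth.Agent.S8855

set_option autoImplicit false
set_option linter.style.haveILetI false
universe u
open CategoryTheory AlgebraicGeometry
open RegImm

namespace Groth.Agent.S18883

/-- Let S be a Noetherian separated scheme all of whose local rings are regular, let X be a scheme all
of whose local rings are regular, and let f : X ⟶ S be an open immersion followed by a projective
morphism (the relative Proj of a quasi-coherent graded algebra generated by its degree-one part, of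
finite type). Then f = i ≫ p for a closed immersion i : X ⟶ W which is a regular immersion (its
ideal is locally generated by a regular sequence) and a smooth morphism p : W ⟶ S which is again an
open immersion followed by a projective morphism. -/
theorem result {X S : Scheme.{u}}
    (f : X ⟶ S) [IsNoetherian S] [S.IsSeparated] (hS : ∀ s : S, IsRegularLocalRing (S.presheaf.stalk s))
    (hX : ∀ x : X, IsRegularLocalRing (X.presheaf.stalk x))
    (hf : ∃ (Z : Scheme.{u}) (v : X ⟶ Z) (q : Z ⟶ S), IsOpenImmersion v ∧ RelProj.IsProjective q ∧ v ≫ q = f) :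
    ∃ (W : Scheme.{u}) (i : X ⟶ W) (p : W ⟶ S), IsClosedImmersion i ∧
      RegImm.IsRegularImmersion RegImm.Kind.regular i ∧ Smooth p ∧
      (∃ (P : Scheme.{u}) (v : W ⟶ P) (q : P ⟶ S), IsOpenImmersion v ∧ RelProj.IsProjective q ∧ v ≫ q = p) ∧
      i ≫ p = f := by
  obtain ⟨Z, v, q, hv, hq, hvq⟩ := hf
  obtain ⟨P, p, i₀, _, _, hp, _, hPreg, hip⟩ := Groth.Agent.H81.ProjBundle.Embed.exists_embed hS hq
  obtain ⟨O, hO, hOv⟩ := i₀.isClosedEmbedding.isInducing.isOpen_iff.1 v.opensRange.isOpen
  let W : P.Opens := ⟨O, hO⟩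
  have hW : v.opensRange = i₀ ⁻¹ᵁ W := TopologicalSpace.Opens.ext hOv.symm
  let i : X ⟶ (W : Scheme.{u}) := (v.isoOpensRange ≪≫ Z.isoOfEq hW).hom ≫ (i₀ ∣_ W)
  have hι : i ≫ W.ι = v ≫ i₀ := by
    simp only [i, Category.assoc, morphismRestrict_ι]
    simp [Scheme.Hom.isoOpensRange]
  haveI : IsClosedImmersion (i₀ ∣_ W) := IsZariskiLocalAtTarget.restrict ‹_› W
  haveI : IsClosedImmersion i := (MorphismProperty.cancel_left_of_respectsIso @IsClosedImmersion _ _).mpr ‹_›
  haveI : IsLocallyNoetherian (W : Scheme.{u}) := isLocallyNoetherian_of_isOpenImmersion W.ι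
  haveI : IsLocallyNoetherian X := LocallyOfFiniteType.isLocallyNoetherian i
  have hWreg : ∀ w : (W : Scheme.{u}), IsRegularLocalRing ((W : Scheme.{u}).presheaf.stalk w) := fun w =>
    haveI := hPreg (W.ι w)
    IsRegularLocalRing.of_ringEquiv (asIso (W.ι.stalkMap w)).commRingCatIsoToRingEquiv
  exact ⟨W, i, W.ι ≫ p, inferInstance, Groth.Agent.S8855.result i hWreg hX, inferInstance,
    ⟨P, W.ι, p, inferInstance, hp, rfl⟩, by rw [← Category.assoc, hι, Category.assoc, hip, hvq]⟩

end Groth.Agent.S18883
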