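import Groth.Statements.S18884
import Mathlib.Algebra.Category.Grp.Basic
import Mathlib.Algebra.Group.Subgroup.Basic
import Mathlib.CategoryTheory.ObjectProperty.FullSubcategory

set_option autoImplicit false
set_option backward.isDefEq.respectTransparency false
set_option backward.isDefEq.respectTransparency.types false
universe v u w
open CategoryTheory CategoryTheory.Limits
open Desc

namespace Groth.Agent.S18884

/-- Let C be a category with pullbacks equipped with a class W of morphisms, the covers, stable under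
base change and under composition. An abelian cosheaf is a functor F : C ⥤ Ab such that for every
cover π : Y ⟶ X the map F(π) is surjective and its kernel is the image of F(p₁) − F(p₂), where p₁,
p₂ : Y ×_X Y ⟶ Y are the two projections. If D is a full subcategory of C such that every object of
C is the target of a cover whose source lies in D, then the restriction functor from the full
subcategory of abelian cosheaves in C ⥤ Ab to D ⥤ Ab is full and faithful. -/
theorem result {C : Type u} [Category.{v} C]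
    [HasPullbacks C] (W : MorphismProperty C) [W.IsStableUnderBaseChange] [W.IsStableUnderComposition]
    (D : ObjectProperty C) (hD : ∀ X : C, ∃ (Y : C) (π : Y ⟶ X), W π ∧ D Y) :
    (ObjectProperty.ι (fun F : C ⥤ AddCommGrpCat.{w} =>
        ∀ ⦃Y X : C⦄ (π : Y ⟶ X), W π → Function.Surjective (F.map π).hom ∧
          (F.map π).hom.ker = ((F.map (pullback.fst π π)).hom - (F.map (pullback.snd π π)).hom).range) ⋙
      (Functor.whiskeringLeft D.FullSubcategory C AddCommGrpCat.{w}).obj D.ι).Full ∧
    (ObjectProperty.ι (fun F : C ⥤ AddCommGrpCat.{w} =>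
        ∀ ⦃Y X : C⦄ (π : Y ⟶ X), W π → Function.Surjective (F.map π).hom ∧
          (F.map π).hom.ker = ((F.map (pullback.fst π π)).hom - (F.map (pullback.snd π π)).hom).range) ⋙
      (Functor.whiskeringLeft D.FullSubcategory C AddCommGrpCat.{w}).obj D.ι).Faithful := by
  choose Y π hπ hY using hD
  refine ⟨⟨fun {F G} α ↦ ?_⟩, ⟨fun {F G} η η' h ↦ ?_⟩⟩
  · let a : ∀ (A : C), D A → (F.obj.obj A →+ G.obj.obj A) := fun A hA ↦ (α.app ⟨A, hA⟩).hom
    have mc : ∀ (H : C ⥤ AddCommGrpCat.{w}) {A B E : C} (k : A ⟶ B) (l : B ⟶ E) (x : H.obj A),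
        (H.map l).hom ((H.map k).hom x) = (H.map (k ≫ l)).hom x :=
      fun H _ _ _ k l x ↦ by rw [H.map_comp]; rfl
    have nat : ∀ {A B : C} (hA : D A) (hB : D B) (k : A ⟶ B) (x : F.obj.obj A),
        (a (B) (hB)) ((F.obj.map k).hom x) = (G.obj.map k).hom ((a (A) (hA)) x) :=
      fun {A B} hA hB k x ↦ congr($(α.naturality (ObjectProperty.homMk k :
        (⟨A, hA⟩ : D.FullSubcategory) ⟶ ⟨B, hB⟩)).hom x)
    have hker : ∀ (X : C) (x : F.obj.obj (Y X)), (F.obj.map (π X)).hom x = 0 →
        (G.obj.map (π X)).hom ((a (Y X) (hY X)) x) = 0 := by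
      intro X x hx
      have hx' : x ∈ (F.obj.map (π X)).hom.ker := hx
      rw [(F.property (π X) (hπ X)).2] at hx'
      obtain ⟨y, rfl⟩ := hx'
      obtain ⟨z, rfl⟩ := (F.property (π (pullback (π X) (π X))) (hπ _)).1 y
      show (G.obj.map (π X)).hom ((a (Y X) (hY X))
        ((F.obj.map _).hom ((F.obj.map (π _)).hom z) - (F.obj.map _).hom ((F.obj.map (π _)).hom z))) = 0
      rw [map_sub, map_sub, mc, mc, nat (hY (pullback (π X) (π X))) (hY X), nat (hY (pullback (π X) (π X))) (hY X), mc, mc, Category.assoc, Category.assoc, pullback.condition, sub_self]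
    let β (X : C) : F.obj.obj X →+ G.obj.obj X :=
      AddMonoidHom.liftOfSurjective (F.obj.map (π X)).hom (F.property (π X) (hπ X)).1
        ⟨(G.obj.map (π X)).hom.comp (a (Y X) (hY X)), fun x hx ↦ hker X x hx⟩
    have hβ : ∀ (X : C) (x : F.obj.obj (Y X)),
        β X ((F.obj.map (π X)).hom x) = (G.obj.map (π X)).hom ((a (Y X) (hY X)) x) :=
      fun X x ↦ AddMonoidHom.liftOfRightInverse_comp_apply (F.obj.map (π X)).hom _
        (Function.rightInverse_surjInv (F.property (π X) (hπ X)).1)
        ⟨(G.obj.map (π X)).hom.comp (a (Y X) (hY X)), fun x hx ↦ hker X x hx⟩ x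
    have hnat : ∀ {X X' : C} (f : X ⟶ X') (x : F.obj.obj X),
        β X' ((F.obj.map f).hom x) = (G.obj.map f).hom (β X x) := by
      intro X X' f x
      obtain ⟨y, rfl⟩ := (F.property (π X) (hπ X)).1 x
      let P := pullback (π X ≫ f) (π X')
      have hc : W (π P ≫ pullback.fst (π X ≫ f) (π X')) :=
        MorphismProperty.comp_mem _ _ _ (hπ P) (MorphismProperty.pullback_fst _ _ (hπ X'))
      obtain ⟨z, rfl⟩ := (F.property _ hc).1 y
      have e : (π P ≫ pullback.fst (π X ≫ f) (π X')) ≫ π X ≫ f =
          (π P ≫ pullback.snd (π X ≫ f) (π X')) ≫ π X' := by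
        rw [Category.assoc, Category.assoc, pullback.condition]
      rw [hβ, nat (hY P) (hY X)]
      simp only [mc, Category.assoc]
      rw [show π P ≫ pullback.fst (π X ≫ f) (π X') ≫ π X ≫ f = (π P ≫ pullback.snd (π X ≫ f) (π X')) ≫ π X'
        by simpa using e]
      rw [← mc F.obj, hβ, nat (hY P) (hY X'), mc G.obj, Category.assoc]
    refine ⟨ObjectProperty.homMk { app := fun X ↦ AddCommGrpCat.ofHom (β X), naturality := fun X X' f ↦ ?_ }, ?_⟩
    · ext x; exact hnat f x
    · ext ⟨X, hX⟩ x
      obtain ⟨y, rfl⟩ := (F.property (π X) (hπ X)).1 x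
      exact (hβ X y).trans (nat (hY X) hX (π X) y).symm
  · ext X x
    obtain ⟨y, rfl⟩ := (F.property (π X) (hπ X)).1 x
    have e := congr(($h).app ⟨Y X, hY X⟩ |>.hom y)
    exact (congr($(η.hom.naturality (π X)).hom y)).trans
      ((congrArg (G.obj.map (π X)).hom e).trans (congr($(η'.hom.naturality (π X)).hom y)).symm)

end Groth.Agent.S18884
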