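import Groth.Statements.S18888
import Mathlib.LinearAlgebra.FiniteDimensional.Lemmas
import Mathlib.FieldTheory.Minpoly.IsIntegrallyClosed
import Mathlib.RingTheory.Polynomial.RationalRoot
import Mathlib.Algebra.Squarefree.Basic
import Mathlib.Tactic.ComputeDegree
import Mathlib.Tactic.LinearCombination
import Mathlib.RingTheory.Localization.NumDen

set_option autoImplicit false
universe u v w
open CAlg

namespace Groth.Agent.S18888

/-- Let A be a unique factorisation domain in which 2 is invertible, with fraction field K, and let L ⊇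
K be a quadratic extension field (of degree 2 over K) containing an element y ∉ K whose square is a
squarefree element d of A. Then the integral closure of A in L equals the A-subalgebra A[y]
generated by y. -/
theorem result {A : Type u} {K : Type v} {L : Type w}
    [CommRing A] [IsDomain A] [UniqueFactorizationMonoid A] [Field K] [Algebra A K] [IsFractionRing A K]
    [Field L] [Algebra K L] [Algebra A L] [IsScalarTower A K L]
    (h2 : IsUnit (2 : A)) (hL : Module.finrank K L = 2)
    (d : A) (hd : Squarefree d) (y : L) (hy : y * y = algebraMap A L d)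
    (hyK : y ∉ Set.range (algebraMap K L)) :
    integralClosure A L = Algebra.adjoin A {y} := by
  classical
  haveI : Module.Finite K L := Module.finite_of_finrank_eq_succ hL
  have hyint : IsIntegral A y := IsIntegral.of_pow (n := 2) two_pos (by rw [sq, hy]; exact isIntegral_algebraMap)
  refine le_antisymm (fun z hz => ?_) (Algebra.adjoin_le (Set.singleton_subset_iff.mpr hyint))
  have hz' : IsIntegral A z := hz
  have hli : LinearIndependent K ![(1 : L), y] := by
    rw [LinearIndependent.pair_iff]
    intro s t hst
    by_cases ht : t = 0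
    · subst ht
      simpa using hst
    · exfalso
      apply hyK
      refine ⟨-s / t, ?_⟩
      have htL : algebraMap K L t ≠ 0 := (map_ne_zero _).mpr ht
      rw [Algebra.smul_def, Algebra.smul_def, mul_one] at hst
      rw [map_div₀, map_neg, div_eq_iff htL]
      linear_combination -hst
  have hspan : Submodule.span K (Set.range ![(1 : L), y]) = ⊤ :=
    hli.span_eq_top_of_card_eq_finrank (by simp [hL])
  obtain ⟨c, hc⟩ := (Submodule.mem_span_range_iff_exists_fun K).mp (hspan ▸ Submodule.mem_top : z ∈ _)
  rw [Fin.sum_univ_two, Algebra.smul_def, Algebra.smul_def] at hc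
  simp only [Matrix.cons_val_zero, Matrix.cons_val_one, mul_one] at hc
  obtain ⟨a, b, hab⟩ : ∃ a b : K, algebraMap K L a + algebraMap K L b * y = z := ⟨c 0, c 1, hc⟩
  have hAK : Function.Injective (algebraMap A K) := IsFractionRing.injective A K
  have hdL : algebraMap A L d = algebraMap K L (algebraMap A K d) := IsScalarTower.algebraMap_apply A K L d
  -- the trace
  obtain ⟨a₀, ha₀⟩ : ∃ a₀, algebraMap A K a₀ = a := by
    by_cases hb : b = 0
    · refine IsIntegrallyClosed.isIntegral_iff.mp ?_
      refine (isIntegral_algHom_iff (IsScalarTower.toAlgHom A K L) (algebraMap K L).injective).mp ?_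
      rw [hb, map_zero, zero_mul, add_zero] at hab
      exact hab ▸ hz'
    have hzK : z ∉ Set.range (algebraMap K L) := by
      rintro ⟨e, he⟩
      apply hyK
      refine ⟨(e - a) / b, ?_⟩
      rw [map_div₀, map_sub, div_eq_iff ((map_ne_zero _).mpr hb), he, ← hab]; ring
    let q : Polynomial K := Polynomial.X ^ 2 + Polynomial.C (-(2 * a)) * Polynomial.X + Polynomial.C (a ^ 2 - b ^ 2 * algebraMap A K d)
    have hqm : q.Monic := by simp only [q]; monicity!
    have hq0 : Polynomial.aeval z q = 0 := by
      simp only [q, map_add, map_mul, map_pow, Polynomial.aeval_X, Polynomial.aeval_C, map_neg, map_sub, map_ofNat]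
      rw [← hdL, ← hy, ← hab]; ring
    have hqd : q.natDegree = 2 := by simp only [q]; compute_degree!
    have hzi : IsIntegral K z := hz'.tower_top
    have heq : minpoly K z = q := (Polynomial.eq_of_monic_of_dvd_of_natDegree_le (minpoly.monic hzi) hqm
      (minpoly.dvd K z hq0) (hqd ▸ (minpoly.two_le_natDegree_iff hzi).mpr hzK)).symm
    have h1 := congrArg (fun p => Polynomial.coeff p 1) (minpoly.isIntegrallyClosed_eq_field_fractions' K hz')
    rw [heq] at h1
    simp only [q, Polynomial.coeff_map, Polynomial.coeff_add, Polynomial.coeff_C_mul, Polynomial.coeff_X_one, Polynomial.coeff_X_pow, Polynomial.coeff_C] at h1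
    norm_num at h1
    obtain ⟨w, hw⟩ := h2
    refine ⟨-(↑w⁻¹ * (minpoly A z).coeff 1), ?_⟩
    have h2K : algebraMap A K (↑w⁻¹ : A) * 2 = 1 := by
      rw [← map_ofNat (algebraMap A K) 2, ← map_mul, ← hw, Units.inv_mul, map_one]
    rw [map_neg, map_mul, ← h1]
    linear_combination a * h2K
  have hby : IsIntegral A (algebraMap K L b * y) := by
    rw [show algebraMap K L b * y = z - algebraMap A L a₀ by rw [← hab, IsScalarTower.algebraMap_apply A K L, ha₀]; ring]
    exact hz'.sub isIntegral_algebraMap
  obtain ⟨e, he⟩ : ∃ e, algebraMap A K e = b ^ 2 * algebraMap A K d := by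
    refine IsIntegrallyClosed.isIntegral_iff.mp ?_
    refine (isIntegral_algHom_iff (IsScalarTower.toAlgHom A K L) (algebraMap K L).injective).mp ?_
    show IsIntegral A (algebraMap K L _)
    rw [map_mul, map_pow, ← hdL, ← hy, show algebraMap K L b ^ 2 * (y * y) = (algebraMap K L b * y) ^ 2 by ring]
    exact hby.pow 2
  obtain ⟨p, q, hpq, hb⟩ : ∃ p : A, ∃ q : nonZeroDivisors A, IsRelPrime p (q : A) ∧ IsLocalization.mk' K p q = b :=
    IsFractionRing.exists_reduced_fraction (A := A) b
  have hmain : (q : A) ^ 2 * e = p ^ 2 * d := hAK (by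
    rw [map_mul, map_mul, map_pow, map_pow, he, ← hb, ← IsLocalization.mk'_spec K p q]; ring)
  have hdvd : (q : A) ^ 2 ∣ d := (hpq.symm.pow (m := 2) (n := 2)).dvd_of_dvd_mul_left ⟨e, hmain.symm⟩
  have hqu : IsUnit (q : A) := hd _ (by rw [← sq]; exact hdvd)
  obtain ⟨u, hu⟩ := hqu
  have hb' : algebraMap A K (p * ↑u⁻¹) = b := by
    have hspec := IsLocalization.mk'_spec K p q
    rw [hb] at hspec
    rw [map_mul, ← hspec, mul_assoc, ← map_mul, ← hu, Units.mul_inv, map_one, mul_one]
  rw [← hab, ← ha₀, ← hb', ← IsScalarTower.algebraMap_apply, ← IsScalarTower.algebraMap_apply]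
  exact add_mem (Subalgebra.algebraMap_mem _ _) (mul_mem (Subalgebra.algebraMap_mem _ _) (Algebra.subset_adjoin rfl))

end Groth.Agent.S18888
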