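import Groth.Statements.S18889
import Mathlib.RingTheory.Finiteness.ModuleFinitePresentation
import Mathlib.RingTheory.Invariant.Basic
import Mathlib.Algebra.Polynomial.Lifts
import Mathlib.RingTheory.FinitePresentation

set_option autoImplicit false
universe u v w
open CAlg

namespace Groth.Agent.S18889

/-- Let R be a commutative ring, A a commutative R-algebra of finite presentation, and G a finite group
acting on A by R-algebra automorphisms such that the order of G is invertible in R. Then the ring of
invariants A^G is an R-algebra of finite presentation. (The source takes G to be a group of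
automorphisms of A; here G acts through a possibly non-faithful action, which changes nothing since
the invariants and the invertibility of the order only depend on the image of G.) -/
theorem result {R : Type u} {A : Type v} [CommRing R] [CommRing A]
    [Algebra R A] [Algebra.FinitePresentation R A]
    {G : Type w} [Group G] [Finite G] [MulSemiringAction G A] [SMulCommClass G R A]
    (hG : IsUnit ((Nat.card G : ℕ) : R)) :
    Algebra.FinitePresentation R (FixedPoints.subalgebra R A G) := by
  classical
  cases nonempty_fintype G
  let C₀ := FixedPoints.subalgebra R A G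
  haveI : Algebra.IsInvariant C₀ A G := ⟨fun b hb => ⟨⟨b, hb⟩, rfl⟩⟩
  haveI : SMulCommClass G C₀ A := ⟨fun g c a => by
    show g • ((c : A) * a) = (c : A) * (g • a)
    rw [smul_mul', c.2 g]⟩
  haveI : Algebra.IsIntegral C₀ A := Algebra.IsInvariant.isIntegral C₀ A G
  obtain ⟨S, hS⟩ := (Algebra.FiniteType.out : (⊤ : Subalgebra R A).FG)
  let Y : Finset C₀ := S.biUnion fun x => Finset.image (fun i => (minpoly C₀ x).coeff i)
    (Finset.range ((minpoly C₀ x).natDegree + 1))
  let P := MvPolynomial Y R
  let φ : P →ₐ[R] C₀ := MvPolynomial.aeval fun y : Y => (y : C₀)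
  letI : Algebra P C₀ := φ.toRingHom.toAlgebra
  letI : Algebra P A := ((algebraMap C₀ A).comp φ.toRingHom).toAlgebra
  haveI : IsScalarTower P C₀ A := IsScalarTower.of_algebraMap_eq fun _ => rfl
  haveI : IsScalarTower R P C₀ := IsScalarTower.of_algebraMap_eq fun r => (φ.commutes r).symm
  haveI : IsScalarTower R P A := IsScalarTower.of_algebraMap_eq fun r => by
    show algebraMap R A r = algebraMap C₀ A (φ (algebraMap R P r))
    rw [φ.commutes, ← IsScalarTower.algebraMap_apply R C₀ A]
  have hint : ∀ x ∈ S, IsIntegral P x := by
    intro x hx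
    have hm := minpoly.monic (Algebra.IsIntegral.isIntegral (R := C₀) x)
    have hl : minpoly C₀ x ∈ Polynomial.lifts (algebraMap P C₀) := by
      rw [Polynomial.lifts_iff_coeff_lifts]
      intro i
      by_cases hi : i ≤ (minpoly C₀ x).natDegree
      · refine ⟨MvPolynomial.X ⟨(minpoly C₀ x).coeff i, ?_⟩, MvPolynomial.aeval_X _ _⟩
        exact Finset.mem_biUnion.2 ⟨x, hx, Finset.mem_image.2 ⟨i, Finset.mem_range.2 (by omega), rfl⟩⟩
      · exact ⟨0, by rw [map_zero, Polynomial.coeff_eq_zero_of_natDegree_lt (by omega)]⟩
    obtain ⟨q, hq, -, hqm⟩ := Polynomial.lifts_and_natDegree_eq_and_monic hl hm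
    refine ⟨q, hqm, ?_⟩
    rw [IsScalarTower.algebraMap_eq P C₀ A, ← Polynomial.eval₂_map, hq]
    exact minpoly.aeval C₀ x
  haveI : Algebra.IsIntegral P A := ⟨fun a => by
    have ha : a ∈ Algebra.adjoin R (S : Set A) := hS ▸ Algebra.mem_top
    have hle : Algebra.adjoin R (S : Set A) ≤ (integralClosure P A).restrictScalars R :=
      Algebra.adjoin_le fun x hx => hint x hx
    exact hle ha⟩
  haveI : Algebra.FiniteType P A := Algebra.FiniteType.of_restrictScalars_finiteType R P A
  haveI : Module.Finite P A := Algebra.IsIntegral.finite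
  haveI : Algebra.FinitePresentation P A :=
    Algebra.FinitePresentation.of_restrict_scalars_finitePresentation R P A
  haveI : Module.FinitePresentation P A :=
    Module.FinitePresentation.of_finite_of_finitePresentation P A
  obtain ⟨u, hu⟩ := hG
  let c : R := (↑u⁻¹ : R)
  have hfix : ∀ a : A, (c • ∑ g : G, g • a) ∈ C₀ := fun a h => by
    rw [smul_comm, Finset.smul_sum]
    congr 1
    simp only [← mul_smul]
    exact Fintype.sum_equiv (Equiv.mulLeft h) _ _ fun _ => rfl
  let π : A →ₗ[P] C₀ :=
    { toFun := fun a => ⟨_, hfix a⟩
      map_add' := fun a b => Subtype.ext (by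
        show c • ∑ g : G, g • (a + b) = c • (∑ g : G, g • a) + c • ∑ g : G, g • b
        simp only [smul_add, Finset.sum_add_distrib])
      map_smul' := fun p a => Subtype.ext (by
        show c • ∑ g : G, g • (algebraMap P A p * a) =
          (φ p : A) * (c • ∑ g : G, g • a)
        rw [mul_smul_comm, Finset.mul_sum]
        congr 1
        refine Finset.sum_congr rfl fun g _ => ?_
        rw [smul_mul']
        congr 1
        exact (φ p).2 g) }
  have hπ : ∀ x : C₀, π (x : A) = x := fun x => Subtype.ext (by
    show c • ∑ g : G, g • (x : A) = x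
    rw [Finset.sum_congr rfl fun g _ => x.2 g, Finset.sum_const, Finset.card_univ,
      ← Nat.cast_smul_eq_nsmul R, smul_smul, ← Nat.card_eq_fintype_card, ← hu, Units.inv_mul, one_smul])
  have hsurj : Function.Surjective π := fun x => ⟨x, hπ x⟩
  have hker : (LinearMap.ker π).FG := by
    let δ : A →ₗ[P] A := LinearMap.id - (IsScalarTower.toAlgHom P C₀ A).toLinearMap ∘ₗ π
    have : LinearMap.ker π = LinearMap.range δ := by
      ext a
      refine ⟨fun ha => ⟨a, ?_⟩, ?_⟩
      · rw [LinearMap.mem_ker] at ha
        simp [δ, ha]
      · rintro ⟨b, rfl⟩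
        rw [LinearMap.mem_ker]
        show π (b - (π b : A)) = 0
        rw [map_sub, hπ, sub_self]
    rw [this, LinearMap.range_eq_map]
    exact Module.Finite.fg_top.map δ
  haveI : Module.FinitePresentation P C₀ := Module.finitePresentation_of_surjective π hsurj hker
  haveI : Algebra.FinitePresentation P C₀ := Algebra.FinitePresentation.of_finitePresentation P C₀
  exact Algebra.FinitePresentation.trans R P C₀

end Groth.Agent.S18889
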