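import Groth.Statements.S1889
import Groth.Agent.H63.GrpdBasic
-- import your own Groth.Agent.* helpers here

set_option autoImplicit false
universe u
open CategoryTheory CategoryTheory.Limits AlgebraicGeometry
open Grpd

namespace Groth.Agent.S1889
open Groth.Agent.H63.GrpdBasic

/-- Let (U, R, s, t, c) be a groupoid scheme over S with U the spectrum of a field, W ⊆ R open and a : Z
→ R a morphism. Then the image of Z ×_{s∘a, U, t} W → R ×_{s,U,t} R → R (composition) is open. (A
groupoid scheme carries U, R, s, t, c, e, i over S with the groupoid axioms on T-points; 'finite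
locally free' is finite, flat and locally of finite presentation; C ⊂ Γ(U) is the ring of functions
a with s♯(a) = t♯(a) and M = Spec C.) -/
theorem result (S : Scheme.{u}) (G : Grpd.GroupoidScheme S) (k : Type u) [Field k] (eU : G.U ≅ Spec (CommRingCat.of k)) (W : G.R.Opens) (Z : Scheme.{u}) (a : Z ⟶ G.R) : IsOpen (Set.range ⇑(pullback.lift (pullback.fst (a ≫ G.s) (W.ι ≫ G.t) ≫ a) (pullback.snd (a ≫ G.s) (W.ι ≫ G.t) ≫ W.ι) ((Category.assoc _ _ _).trans (pullback.condition.trans (Category.assoc _ _ _).symm)) ≫ G.c)) := by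
  have := universallyOpen_t G k eU
  let L : pullback (a ≫ G.s) G.t ⟶ pullback G.s G.t :=
    pullback.map (a ≫ G.s) G.t G.s G.t a (𝟙 G.R) (𝟙 G.U) (by simp) (by simp)
  have hL : IsPullback L (pullback.fst (a ≫ G.s) G.t) (pullback.fst G.s G.t) a :=
    IsPullback.of_right
      (by
        have : L ≫ pullback.snd G.s G.t = pullback.snd (a ≫ G.s) G.t :=
          (pullback.lift_snd _ _ _).trans (Category.comp_id _)
        rw [this]
        exact (IsPullback.of_hasPullback (a ≫ G.s) G.t).flip)
      (pullback.lift_fst _ _ _)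
      (IsPullback.of_hasPullback G.s G.t).flip
  have hp : IsPullback (L ≫ G.c) (pullback.fst (a ≫ G.s) G.t) G.t (a ≫ G.t) :=
    hL.paste_horiz (isPullback_c_fst G).flip
  have huo : UniversallyOpen (L ≫ G.c) :=
    MorphismProperty.of_isPullback (P := @UniversallyOpen) hp.flip
      (by
        have := isIntegral_of_iso_spec k eU
        have := subsingleton_of_iso_spec k eU
        infer_instance)
  have hr : Set.range ⇑(pullback.map (a ≫ G.s) (W.ι ≫ G.t) (a ≫ G.s) G.t (𝟙 Z) W.ι (𝟙 G.U)
      (by simp) (by simp) ≫ (L ≫ G.c)) = (L ≫ G.c) '' Set.range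
      ⇑(pullback.map (a ≫ G.s) (W.ι ≫ G.t) (a ≫ G.s) G.t (𝟙 Z) W.ι (𝟙 G.U) (by simp) (by simp)) := by
    rw [← Set.range_comp]; rfl
  have heq : pullback.lift (pullback.fst (a ≫ G.s) (W.ι ≫ G.t) ≫ a)
      (pullback.snd (a ≫ G.s) (W.ι ≫ G.t) ≫ W.ι)
      ((Category.assoc _ _ _).trans (pullback.condition.trans (Category.assoc _ _ _).symm)) ≫ G.c =
      pullback.map (a ≫ G.s) (W.ι ≫ G.t) (a ≫ G.s) G.t (𝟙 Z) W.ι (𝟙 G.U) (by simp) (by simp) ≫
        (L ≫ G.c) := by
    refine Eq.trans ?_ (Category.assoc _ _ _)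
    congr 1
    apply pullback.hom_ext
    · simp only [pullback.map, L, Category.assoc, Category.comp_id]
      rw [pullback.lift_fst, pullback.lift_fst, pullback.lift_fst_assoc]
    · simp only [pullback.map, L, Category.assoc, Category.comp_id]
      rw [pullback.lift_snd, pullback.lift_snd, pullback.lift_snd]
  rw [heq, hr]
  refine (L ≫ G.c).isOpenMap _ ?_
  rw [Scheme.Pullback.range_map]
  refine IsOpen.inter ?_ ?_
  · exact ((Scheme.Hom.isOpenEmbedding (𝟙 Z)).isOpen_range).preimage (Scheme.Hom.continuous _)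
  · exact (W.ι.isOpenEmbedding.isOpen_range).preimage (Scheme.Hom.continuous _)

end Groth.Agent.S1889
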