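import Groth.Statements.S18890
import Mathlib

set_option autoImplicit false
universe u v w w'
open CAlg

namespace Groth.Agent.S18890

/-- Let R be a commutative ring, G a finite group whose order is invertible in R, M an R-module with an
R-linear action ρ of G and N an arbitrary R-module. Then the natural map M^G ⊗_R N → M ⊗_R N induced
by the inclusion of the invariants is injective, and its image is the submodule of invariants of M
⊗_R N under the action ρ ⊗ 1 (G acting on the first factor). (The source lets G be a group of
R-automorphisms of M; a possibly non-faithful linear action changes nothing.) -/
theorem result {R : Type u} [CommRing R]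
    {G : Type v} [Group G] [Finite G] (hG : IsUnit ((Nat.card G : ℕ) : R))
    {M : Type w} {N : Type w'} [AddCommGroup M] [Module R M] [AddCommGroup N] [Module R N]
    (ρ : Representation R G M) :
    Function.Injective (LinearMap.rTensor N ρ.invariants.subtype) ∧
      LinearMap.range (LinearMap.rTensor N ρ.invariants.subtype) =
        (ρ.tprod (Representation.trivial R G N)).invariants := by
  classical
  haveI := Fintype.ofFinite G
  haveI : Invertible ((Fintype.card G : ℕ) : R) := IsUnit.invertible (by rwa [← Nat.card_eq_fintype_card])
  let π : M →ₗ[R] ρ.invariants := LinearMap.codRestrict ρ.invariants ρ.averageMap ρ.averageMap_invariant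
  have hπ : π ∘ₗ ρ.invariants.subtype = LinearMap.id := LinearMap.ext fun v => Subtype.ext (ρ.averageMap_id v v.2)
  constructor
  · intro a b hab
    have := congrArg (LinearMap.rTensor N π) hab
    simpa [← LinearMap.rTensor_comp_apply, hπ] using this
  · ext z
    simp only [LinearMap.mem_range, Representation.mem_invariants]
    constructor
    · rintro ⟨w, rfl⟩ g
      rw [Representation.tprod_apply]
      induction w using TensorProduct.induction_on with
      | zero => simp
      | tmul v x => simp [v.2 g]
      | add a b ha hb => rw [map_add, map_add, ha, hb]
    · intro hz
      refine ⟨LinearMap.rTensor N π z, ?_⟩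
      rw [← LinearMap.rTensor_comp_apply]
      have e : ρ.invariants.subtype ∘ₗ π = ρ.averageMap := rfl
      have e2 : ∀ w : TensorProduct R M N, LinearMap.rTensor N ρ.averageMap w = (ρ.tprod (Representation.trivial R G N)).averageMap w := by
        intro w
        induction w using TensorProduct.induction_on with
        | zero => simp
        | tmul v x => simp [GroupAlgebra.average, map_sum, TensorProduct.sum_tmul, TensorProduct.smul_tmul']
        | add a b ha hb => rw [map_add, map_add, ha, hb]
      rw [e, e2, Representation.averageMap_id _ z hz]

end Groth.Agent.S18890
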