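import Groth.Statements.S18891
import Mathlib.AlgebraicGeometry.ZariskisMainTheorem
import Groth.Agent.Lib.Unram.EtaleMono
import Mathlib.FieldTheory.IsAlgClosed.AlgebraicClosure

set_option autoImplicit false
universe u
open CategoryTheory CategoryTheory.Limits AlgebraicGeometry
open Mor

namespace Groth.Agent.S18891

/-- Let f : X → Y be a morphism of schemes which is proper and formally unramified, and such that for
every algebraically closed field Ω the map X(Ω) → Y(Ω), g ↦ g ≫ f, is injective. Then f is a closed
immersion. -/
theorem result {X Y : Scheme.{u}} (f : X ⟶ Y)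
    [IsProper f] [FormallyUnramified f]
    (hinj : ∀ (Ω : Type u) [Field Ω] [IsAlgClosed Ω],
      Function.Injective (fun g : Spec (CommRingCat.of Ω) ⟶ X => g ≫ f)) :
    IsClosedImmersion f := by
    have : UniversallyInjective f := by
      refine ((tfae_universallyInjective f).out 1 0).mp ?_
      intro K hK g₁ g₂ h
      let i : Spec (CommRingCat.of (AlgebraicClosure K)) ⟶ Spec (CommRingCat.of K) :=
        Spec.map (CommRingCat.ofHom (algebraMap K (AlgebraicClosure K)))
      have : Flat i := HasRingHomProperty.Spec_iff.mpr
        (RingHom.flat_algebraMap_iff.mpr inferInstance)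
      have : Surjective i := ⟨fun p => ⟨IsLocalRing.closedPoint _, Subsingleton.elim _ _⟩⟩
      have := Flat.epi_of_flat_of_surjective i
      refine (cancel_epi i).mp (hinj (AlgebraicClosure K) ?_)
      change (i ≫ g₁) ≫ f = (i ≫ g₂) ≫ f
      simp only [Category.assoc]
      rw [show g₁ ≫ f = g₂ ≫ f from h]
    have := (UniversallyInjective.iff_diagonal f).mp this
    exact (IsClosedImmersion.iff_isProper_and_mono (f := f)).mpr
      ⟨inferInstance, Groth.Agent.Lib.Unram.EtaleMono.mono_of_surjective_diagonal f⟩

end Groth.Agent.S18891
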