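import Groth.Statements.S18893
import Groth.Agent.Lib.CurveFF.DoubleInvol
import Groth.Agent.Lib.CurveBundle.SmoothField
-- import your own Groth.Agent.* helpers here

set_option autoImplicit false
universe u
open CategoryTheory CategoryTheory.Limits AlgebraicGeometry
open Curves

namespace Groth.Agent.S18893
open Groth.Agent.Lib
attribute [local instance] Curv2.stalkAlgebra

/-- Let k be an algebraically closed field of characteristic different from 2 and X a hyperelliptic
curve over k (p : X → Spec k smooth and proper, X connected of dimension one, genus dim_k H¹(X, O_X)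
≥ 2, with a double cover h : X → P¹_k, finite and flat of rank 2 everywhere) with hyperelliptic
involution σ (σ ≫ h = h, σ ≠ id). Then σ lies in the centre of the automorphism group of X over k:
it commutes with every k-automorphism τ of X. -/
theorem result (k : Type u) [Field k] [IsAlgClosed k] (h2 : (2 : k) ≠ 0)
    {X : Scheme.{u}} (p : X ⟶ Spec (CommRingCat.of k)) [IsProper p] [Smooth p] [ConnectedSpace ↥X]
    (hX : topologicalKrullDim ↥X = 1) (hg : 2 ≤ @Curv2.genus k _ X ⟨p⟩)
    (h : X ⟶ CohB1.ProjSpace 1 k) (hh : h ≫ CohB1.ProjSpace.toSpec 1 k = p)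
    [IsFinite h] [Flat h] (hr : ∀ y : ↥(CohB1.ProjSpace 1 k), h.finrank y = 2)
    (σ : X ⟶ X) (hσ : σ ≫ h = h) (hσ₁ : σ ≠ 𝟙 X)
    (τ : X ≅ X) (hτ : τ.hom ≫ p = p) :
    τ.hom ≫ σ = σ ≫ τ.hom := by
  letI : X.Over (Spec (CommRingCat.of k)) := ⟨p⟩
  haveI : IsProper (X ↘ Spec (CommRingCat.of k)) := ‹IsProper p›
  haveI : Smooth (X ↘ Spec (CommRingCat.of k)) := ‹Smooth p›
  haveI : IsIntegral X := CurveBundle.SmoothField.isIntegral k hX.le
  haveI : X.IsSeparated := ⟨by rw [← Limits.terminal.comp_from p]; infer_instance⟩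
  have hh0 := Curves.GlobalSections.finrank_h0_structure k X
  have hc := CurveFF.curveHyp_of_smooth k hX
  have hK := CurveFF.isFunctionField (k := k) hc hh0
  have hg' : 2 ≤ _root_.FunFld.genus k X.functionField := by rw [← CurveFF.genus_eq hc hh0]; exact hg
  have hp := CurveFF.DoubleInvol.over_of_comp h hh hσ
  have e := CurveFF.DoubleInvol.genericPoint_fixed (k := k) h hX hσ
  have hx := CurveFF.DoubleInvol.finrank_coord h hh hX hr
  have hfix := CurveFF.DoubleInvol.fix_coord h (CurveFF.DoubleCover.generic_eq h hX) hσ e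
    (CurveFF.DoubleCover.generic_mem h (CurveFF.DoubleCover.generic_eq h hX) 0)
  have hτ' : τ.inv ≫ p = p := by rw [Iso.inv_comp_eq, hτ]
  have hgen : ∀ {T : X ⟶ X}, IsIso T → T (genericPoint X) = genericPoint X := fun {T} hT => by
    refine (SmoothCurve.Curve.eq_genericPoint_or_isClosed hX _).resolve_right fun hc' => ?_
    have hinj : Function.Injective T := T.isOpenEmbedding.injective
    have h1 := hc'.preimage T.continuous
    rw [show T ⁻¹' {T (genericPoint X)} = {genericPoint X} from
      Set.ext fun y => ⟨fun hy => hinj hy, fun hy => by rw [Set.mem_singleton_iff.1 hy]; rfl⟩] at h1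
    exact SmoothCurve.Stalk.ne_genericPoint_of_isClosed (by rw [hX]; exact one_ne_zero) h1 rfl
  have eτ := hgen (T := τ.hom) inferInstance
  have eτ' := hgen (T := τ.inv) inferInstance
  let φ := CurveFF.DoubleInvol.endAlg σ hp e
  let A := CurveFF.DoubleInvol.endAlg (k := k) τ.hom hτ eτ
  let B := CurveFF.DoubleInvol.endAlg (k := k) τ.inv hτ' eτ'
  have hAB : ∀ z, A (B z) = z := fun z =>
    (CurveFF.AutoMap.kMap_comp τ.hom τ.inv eτ eτ' (by rw [Iso.hom_inv_id]; rfl) z).symm.trans
      ((CurveFF.AutoMap.kMap_congr τ.hom_inv_id _ rfl z).trans (CurveFF.AutoMap.kMap_id rfl z))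
  have hBA : ∀ z, B (A z) = z := fun z =>
    (CurveFF.AutoMap.kMap_comp τ.inv τ.hom eτ' eτ (by rw [Iso.inv_hom_id]; rfl) z).symm.trans
      ((CurveFF.AutoMap.kMap_congr τ.inv_hom_id _ rfl z).trans (CurveFF.AutoMap.kMap_id rfl z))
  let T : X.functionField ≃ₐ[k] X.functionField :=
    AlgEquiv.ofAlgHom A B (AlgHom.ext hAB) (AlgHom.ext hBA)
  -- the conjugate involution
  let ψ : X.functionField →ₐ[k] X.functionField := A.comp (φ.comp B)
  set x := CurveFF.DoubleCover.coord h 0
    (CurveFF.DoubleCover.generic_mem h (CurveFF.DoubleCover.generic_eq h hX) 0)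
  have hTx := (CurveFF.DoubleInvol.finrank_adjoin_map T x).trans hx
  have heq := Groth.Agent.H81.DoubleCover.adjoin_eq hK hg' hx hTx
  have hψx : ψ (T x) = T x := by
    show A (φ (B (A x))) = A x
    rw [hBA]
    exact congrArg A hfix
  have hψ : ψ x = x := CurveFF.DoubleInvol.fix_adjoin ψ hψx
    (heq ▸ IntermediateField.mem_adjoin_simple_self k x)
  obtain ⟨z, hz⟩ := CurveFF.DoubleInvol.exists_ne σ hp e hσ₁
  have hψ1 : ∃ w, ψ w ≠ w := ⟨A z, fun hw => hz (by
    have h' := congrArg B hw
    show φ z = z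
    simpa only [ψ, AlgHom.comp_apply, hBA] using h')⟩
  have heq' := CurveFF.DoubleInvol.eq_of_quadratic hx φ ψ hfix hψ
    (CurveFF.DoubleInvol.exists_ne σ hp e hσ₁) hψ1
  have hcomm : ∀ z, A (φ z) = φ (A z) := fun z => by
    conv_rhs => rw [DFunLike.congr_fun heq' (A z)]
    show A (φ z) = A (φ (B (A z)))
    rw [hBA]
  have e1 : (τ.hom ≫ σ) (genericPoint X) = genericPoint X := by
    show σ (τ.hom (genericPoint X)) = _
    rw [eτ, e]
  have e2 : (σ ≫ τ.hom) (genericPoint X) = genericPoint X := by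
    show τ.hom (σ (genericPoint X)) = _
    rw [e, eτ]
  exact CurveFF.AutoMap.ext_of_kMap e1 e2 fun w =>
    (CurveFF.AutoMap.kMap_comp τ.hom σ eτ e e1 w).trans ((hcomm w).trans
      (CurveFF.AutoMap.kMap_comp σ τ.hom e eτ e2 w).symm)

end Groth.Agent.S18893
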