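import Groth.Statements.S18894
import Groth.Agent.H58Aut.Forms
-- import your own Groth.Agent.* helpers here

set_option autoImplicit false
set_option linter.style.haveILetI false
set_option backward.isDefEq.respectTransparency false
set_option backward.isDefEq.respectTransparency.types false
universe u
open CategoryTheory CategoryTheory.Limits AlgebraicGeometry
open Curves

namespace Groth.Agent.S18894

/-- Together with the accompanying claim: let R be a discrete valuation ring with fraction field K, η :
Spec K → Spec R the generic point, and f : X → Spec R, g : Y → Spec R two smooth curves of genus n ≥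
1 (proper and smooth, with geometrically connected fibres of dimension one and genus n). Then
restriction to the generic fibre is a bijection from R-isomorphisms X ≅ Y onto K-isomorphisms X_η ≅
Y_η: every isomorphism φ of the generic fibres over Spec K is induced by a unique morphism e : X → Y
compatible with the first projections, and this e is an isomorphism over Spec R. -/
theorem result {R : Type u} [CommRing R] [IsDomain R]
    [IsDiscreteValuationRing R] {X Y : Scheme.{u}}
    (f : X ⟶ Spec (CommRingCat.of R)) (g : Y ⟶ Spec (CommRingCat.of R))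
    [IsProper f] [Smooth f] [GeometricallyConnected f] [IsProper g] [Smooth g] [GeometricallyConnected g]
    (hXdim : ∀ s : ↥(Spec (CommRingCat.of R)), topologicalKrullDim ↥(f.fiber s) = 1)
    (hYdim : ∀ s : ↥(Spec (CommRingCat.of R)), topologicalKrullDim ↥(g.fiber s) = 1)
    (n : ℕ) (hn : 1 ≤ n)
    (hXgen : ∀ s : ↥(Spec (CommRingCat.of R)),
      letI : (f.fiber s).Over (Spec ((Spec (CommRingCat.of R)).residueField s)) := ⟨f.fiberToSpecResidueField s⟩
      Curv2.genus ((Spec (CommRingCat.of R)).residueField s) (f.fiber s) = n)
    (hYgen : ∀ s : ↥(Spec (CommRingCat.of R)),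
      letI : (g.fiber s).Over (Spec ((Spec (CommRingCat.of R)).residueField s)) := ⟨g.fiberToSpecResidueField s⟩
      Curv2.genus ((Spec (CommRingCat.of R)).residueField s) (g.fiber s) = n)
    (η : Spec (CommRingCat.of (FractionRing R)) ⟶ Spec (CommRingCat.of R))
    (hη : η = Spec.map (CommRingCat.ofHom (algebraMap R (FractionRing R))))
    (φ : pullback f η ≅ pullback g η) (hφ : φ.hom ≫ pullback.snd g η = pullback.snd f η) :
    ∃ e : X ≅ Y, e.hom ≫ g = f ∧ pullback.fst f η ≫ e.hom = φ.hom ≫ pullback.fst g η ∧
      ∀ e' : X ⟶ Y, pullback.fst f η ≫ e' = φ.hom ≫ pullback.fst g η → e' = e.hom := by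
  haveI : Nonempty ↥(pullback f η) := by
    have h := hXdim (η (IsLocalRing.closedPoint (FractionRing R)))
    haveI : Nonempty (f.fiber (η (IsLocalRing.closedPoint (FractionRing R)))) := by
      by_contra hne
      rw [not_nonempty_iff] at hne
      haveI : IsEmpty (TopologicalSpace.IrreducibleCloseds (f.fiber (η (IsLocalRing.closedPoint (FractionRing R))))) :=
        ⟨fun Z => hne.false Z.isIrreducible.nonempty.some⟩
      rw [topologicalKrullDim, Order.krullDim_eq_bot] at h
      exact absurd h (by simp)
    obtain ⟨x⟩ := ‹Nonempty (f.fiber (η (IsLocalRing.closedPoint (FractionRing R))))›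
    obtain ⟨z, -⟩ : f.fiberι _ x ∈ Set.range (pullback.fst f η) := by
      rw [Scheme.Pullback.range_fst]
      exact ⟨_, ((f.range_fiberι _).le ⟨x, rfl⟩ : f (f.fiberι _ x) = _).symm⟩
    exact ⟨z⟩
  haveI : Smooth (pullback.snd f η) := inferInstance
  haveI : GeometricallyConnected (pullback.snd f η) :=
    MorphismProperty.of_isPullback (P := @GeometricallyConnected) (IsPullback.of_hasPullback f η) ‹GeometricallyConnected f›
  haveI : Nonempty (Spec (CommRingCat.of (FractionRing R))) := inferInstanceAs (Nonempty (PrimeSpectrum _))
  haveI : Subsingleton (Spec (CommRingCat.of (FractionRing R))) := inferInstanceAs (Subsingleton (PrimeSpectrum _))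
  haveI : ConnectedSpace ↥(pullback f η) := GeometricallyConnected.connectedSpace_of_subsingleton (pullback.snd f η)
  haveI : IsIntegral (pullback f η) := Groth.Agent.H2.Rigid.GeomIrred.isIntegral_of_smooth (pullback.snd f η)
  subst hη
  let MX : Groth.Agent.H58Aut.Mdl R (pullback f _) (pullback.snd f _) :=
    ⟨X, f, pullback.fst f _, IsPullback.of_hasPullback _ _, ‹_›, ‹_›, ‹_›, hXdim⟩
  let MY : Groth.Agent.H58Aut.Mdl R (pullback f _) (pullback.snd f _) :=
    ⟨Y, g, φ.hom ≫ pullback.fst g _,
      IsPullback.of_iso_pullback ⟨by rw [Category.assoc, pullback.condition, ← Category.assoc, hφ]⟩ φ rfl hφ,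
      ‹_›, ‹_›, ‹_›, hYdim⟩
  obtain ⟨e, he, hie⟩ := Groth.Agent.H58Aut.exists_extend MX MY hn hXgen
  haveI : Y.IsSeparated := ⟨by rw [← terminal.comp_from g]; infer_instance⟩
  exact ⟨e, he, hie, fun e' he' => MX.hom_ext (he'.trans hie.symm)⟩

end Groth.Agent.S18894
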