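import Groth.Statements.S18895
import Groth.Agent.Lib.Curves.EqualityCase
import Groth.Agent.Lib.CurveBundle.SmoothField

set_option autoImplicit false
universe u
open CategoryTheory CategoryTheory.Limits AlgebraicGeometry
open Curves

namespace Groth.Agent.S18895

/-- Let k be an algebraically closed field of characteristic different from 2 (the standing convention
of the section; it plays no role here) and X a connected smooth proper curve over k of genus dim_k
H¹(X, O_X) ≥ 1. For every invertible O_X-module L of positive degree one has dim_k H⁰(X, L) ≤ deg L. -/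
theorem result (k : Type u) [Field k] [IsAlgClosed k] (h2 : (2 : k) ≠ 0)
    (X : Scheme.{u}) [X.Over (Spec (CommRingCat.of k))]
    [IsProper (X ↘ Spec (CommRingCat.of k))] [Smooth (X ↘ Spec (CommRingCat.of k))] [ConnectedSpace ↥X]
    (hX : topologicalKrullDim ↥X = 1) (hg : 1 ≤ Curv2.genus k X)
    (L : X.Modules) (hL : PicF.IsInvertible L) (hdeg : 0 < Curv2.deg k X L 1) :
    (Module.finrank k (Coh.HH X L 0) : ℤ) ≤ Curv2.deg k X L 1 := by
  have hint := Groth.Agent.Lib.CurveBundle.SmoothField.isIntegral k (X := X) hX.le
  have hd : topologicalKrullDim X ≤ 1 := hX.le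
  have h0 := Groth.Agent.Lib.Curves.GlobalSections.finrank_h0_structure k X
  rcases subsingleton_or_nontrivial (Coh.HH X L 0) with h | h
  · rw [Module.finrank_zero_of_subsingleton]
    push_cast
    linarith
  · have hle := Groth.Agent.Lib.Curves.Degree.hdim_zero_le (k := k) hd hL h
    simp only [Groth.Agent.Lib.Curves.Euler.hdim] at hle
    rw [h0] at hle
    by_contra hc
    have := Groth.Agent.Lib.Curves.EqualityCase.genus_eq_zero k hX h0 hL
      (by simp only [Groth.Agent.Lib.Curves.Euler.hdim]; push_cast at hle hc ⊢; omega) hdeg
    omega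

end Groth.Agent.S18895
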