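import Groth.Statements.S18898
import Groth.Statements.S18898
import Groth.Agent.H34.Stein.FlatModel
import Groth.Agent.H69.FibreLoci.Approx
import Groth.Agent.S2553
import Groth.Agent.S1026
import Groth.Agent.S4627
import Groth.Agent.H34.CohFlat0.Family
import Groth.Agent.Lib.Lim.SmoothEtale
import Groth.Agent.Lib.CurveFF.Consts
import Groth.Agent.Lib.Curves.Positivity
import Groth.Agent.Lib.Curves.BaseChange
import Groth.Agent.Lib.Curves.GlobalSections
import Groth.Agent.H2.Rigid.GeomIrred

set_option autoImplicit false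
set_option backward.isDefEq.respectTransparency false
set_option backward.isDefEq.respectTransparency.types false
set_option linter.style.haveILetI false
set_option maxHeartbeats 800000
universe u
open CategoryTheory CategoryTheory.Limits AlgebraicGeometry
open Curves

namespace Groth.Agent.S18898

open Groth.Agent Groth.Agent.Lib Opposite Topology

/-- The Euler characteristic of a smooth proper geometrically integral fibre of dimension one. -/
theorem euler_fibre {X S : Scheme.{u}} (f : X ⟶ S) [IsProper f] [Smooth f] (s : S)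
    [GeometricallyIntegral (f.fiberToSpecResidueField s)]
    (hdim : topologicalKrullDim ↥(f.fiber s) = 1) :
    PerfAux.eulerChar f (Coh.structureModule X) s =
      1 - ((letI : (f.fiber s).Over (Spec (S.residueField s)) := ⟨f.fiberToSpecResidueField s⟩
        Curv2.genus (S.residueField s) (f.fiber s) : ℕ) : ℤ) := by
  letI : (f.fiber s).Over (Spec (CommRingCat.of (S.residueField s))) := ⟨f.fiberToSpecResidueField s⟩
  haveI hp : IsProper (f.fiber s ↘ Spec (CommRingCat.of (S.residueField s))) :=
    MorphismProperty.pullback_snd _ _ ‹IsProper f›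
  haveI : Smooth (f.fiber s ↘ Spec (CommRingCat.of (S.residueField s))) :=
    MorphismProperty.pullback_snd _ _ ‹Smooth f›
  haveI : GeometricallyIntegral (f.fiber s ↘ Spec (CommRingCat.of (S.residueField s))) :=
    ‹GeometricallyIntegral (f.fiberToSpecResidueField s)›
  haveI : GeometricallyConnected (f.fiber s ↘ Spec (CommRingCat.of (S.residueField s))) :=
    H2.Rigid.GeomIrred.geometricallyConnected _
  haveI : IsIntegral (f.fiber s) :=
    GeometricallyIntegral.isIntegral_of_subsingleton (f.fiber s ↘ Spec (CommRingCat.of (S.residueField s)))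
  haveI := Curves.GlobalSections.isNoetherian_of_proper (S.residueField s) (f.fiber s)
  have hb : ∀ i, PerfAux.betti f (Coh.structureModule X) s i =
      Module.finrank (S.residueField s) (Coh.HH (f.fiber s) (Coh.structureModule (f.fiber s)) i) := fun i =>
    (Curves.LES.isoK (S.residueField s) (PicLoc.pullbackStructureIso (f.fiberι s)) i).finrank_eq
  have h0 := CurveFF.finrank_h0_eq_one (S.residueField s) (f.fiber s)
  have h2 : ∀ i, 2 ≤ i →
      Module.finrank (S.residueField s) (Coh.HH (f.fiber s) (Coh.structureModule (f.fiber s)) i) = 0 := fun i hi =>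
    haveI := Curves.Positivity.subsingleton_HH_of_two_le hdim.le (Coh.structureModule (f.fiber s)) i hi
    Module.finrank_zero_of_subsingleton
  rw [PerfAux.eulerChar, finsum_eq_sum_of_support_subset (s := Finset.range 2)]
  · rw [Finset.sum_range_succ, Finset.sum_range_one, hb, hb, h0]
    simp [Curv2.genus, sub_eq_add_neg]
  · intro i hi
    simp only [Function.mem_support, Finset.coe_range, Set.mem_Iio] at hi ⊢
    by_contra h
    exact hi (by rw [hb, h2 i (by omega)]; simp)

/-- The fibre square over a point. -/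
theorem fibre_square {X X₀ S S₀ : Scheme.{u}} {f : X ⟶ S} {f₀ : X₀ ⟶ S₀} {u : S ⟶ S₀} {v : X ⟶ X₀}
    (h : IsPullback v f f₀ u) (s : S) :
    ∃ c : f.fiber s ⟶ f₀.fiber (u s), IsPullback c (f.fiberToSpecResidueField s)
      (f₀.fiberToSpecResidueField (u s)) (Spec.map (u.residueFieldMap s)) := by
  have hw : (pullback.fst f (S.fromSpecResidueField s) ≫ v) ≫ f₀ =
      (f.fiberToSpecResidueField s ≫ Spec.map (u.residueFieldMap s)) ≫ S₀.fromSpecResidueField (u s) := by
    rw [Category.assoc, h.w, Category.assoc, Scheme.Hom.SpecMap_residueFieldMap_fromSpecResidueField,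
      pullback.condition_assoc]
    rfl
  refine ⟨pullback.lift _ _ hw, IsPullback.of_right ?_ (pullback.lift_snd _ _ _)
    (IsPullback.of_hasPullback f₀ (S₀.fromSpecResidueField (u s)))⟩
  rw [pullback.lift_fst, Scheme.Hom.SpecMap_residueFieldMap_fromSpecResidueField]
  exact (IsPullback.of_hasPullback f (S.fromSpecResidueField s)).paste_horiz h

/-- The points with a genus `g` curve as fibre. -/
def goodSet {X S : Scheme.{u}} (f : X ⟶ S) (g : ℕ) : Set S :=
  {y | GeometricallyIntegral (f.fiberToSpecResidueField y)} ∩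
  {y | topologicalKrullDim ↥(f.fiber y) = 1} ∩
  {y | PerfAux.eulerChar f (Coh.structureModule X) y = 1 - (g : ℤ)}

theorem isConstructible_goodSet {X S : Scheme.{u}} (f : X ⟶ S) [IsProper f] [Smooth f]
    [IsAffine S] [IsLocallyNoetherian S] (g : ℕ) : IsConstructible (goodSet f g) := by
  haveI : IsNoetherian S := {}
  have ho : ∀ {U : Set S}, IsOpen U → IsConstructible U := fun hU =>
    Spectral.Noetherian.isConstructible_of_isOpen hU
  refine ((ho (Groth.Agent.S2553.result f)).inter
    (H69.FibreLoci.Dim.isLocallyConstructible_eq f 1).isConstructible).inter ?_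
  have hfp : CohB1.IsFP (Coh.structureModule X) :=
    TensorMod.FPConv.isFP_of_isFinLocFree (H34.CohFlat0.isFinLocFree_structure X)
  exact ho ((Groth.Agent.S1026.result f _ hfp
    (_root_.ZarCoh.Exchange.NearFibre.isFlatOver_of_isFinLocFree f (H34.CohFlat0.isFinLocFree_structure X))).isOpen_fiber _)

theorem mem_goodSet {X S : Scheme.{u}} (f : X ⟶ S) [IsProper f] [Smooth f] (g : ℕ) {y : S}
    (h1 : GeometricallyIntegral (f.fiberToSpecResidueField y))
    (h2 : topologicalKrullDim ↥(f.fiber y) = 1)
    (h3 : (letI : (f.fiber y).Over (Spec (S.residueField y)) := ⟨f.fiberToSpecResidueField y⟩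
      Curv2.genus (S.residueField y) (f.fiber y)) = g) : y ∈ goodSet f g :=
  ⟨⟨h1, h2⟩, by
    haveI := h1
    show PerfAux.eulerChar f _ y = _
    rw [euler_fibre f y h2, h3]⟩

theorem finiteType_global (R : CommRingCat.{u}) (h : Algebra.FiniteType ℤ R) :
    Algebra.FiniteType ℤ Γ(Spec R, ⊤) :=
  h.of_surjective (Scheme.ΓSpecIso R).inv.hom.toIntAlgHom
    (Scheme.ΓSpecIso R).commRingCatIsoToRingEquiv.symm.surjective

/-- Take an affine base S and a smooth genus-g curve f : X → S over it (proper and smooth, with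
geometrically connected fibres of dimension one and genus g). Then there exist an affine scheme S₀
whose ring of global sections is of finite type over ℤ (in particular S₀ is Noetherian), a morphism
u : S → S₀ which is injective on global sections (so that S₀ is the spectrum of a subring of
O_S(S)), and a smooth curve of genus g, f₀ : X₀ → S₀, together with a cartesian square making f the
base change of f₀ along u. -/
theorem result {X S : Scheme.{u}} (f : X ⟶ S) [IsAffine S]
    [IsProper f] [Smooth f] [GeometricallyConnected f]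
    (hdim : ∀ s : S, topologicalKrullDim ↥(f.fiber s) = 1) (g : ℕ)
    (hgen : ∀ s : S, letI : (f.fiber s).Over (Spec (S.residueField s)) := ⟨f.fiberToSpecResidueField s⟩
      Curv2.genus (S.residueField s) (f.fiber s) = g) :
    ∃ (S₀ X₀ : Scheme.{u}) (f₀ : X₀ ⟶ S₀) (u : S ⟶ S₀) (v : X ⟶ X₀),
      IsAffine S₀ ∧ Algebra.FiniteType ℤ Γ(S₀, ⊤) ∧ Function.Injective (u.appTop).hom ∧
      IsPullback v f f₀ u ∧ IsProper f₀ ∧ Smooth f₀ ∧ GeometricallyConnected f₀ ∧
      (∀ s : S₀, topologicalKrullDim ↥(f₀.fiber s) = 1) ∧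
      ∀ s : S₀, letI : (f₀.fiber s).Over (Spec (S₀.residueField s)) := ⟨f₀.fiberToSpecResidueField s⟩
        Curv2.genus (S₀.residueField s) (f₀.fiber s) = g := by
  classical
  let B : CommRingCat.{u} := Γ(S, ⊤)
  let D := H2.Rigid.SubDiagram.diagram B
  let C := H2.Rigid.SubDiagram.cone B
  have hC : IsLimit C := H2.Rigid.SubDiagram.isLimitCone B
  haveI : IsAffine C.pt := inferInstanceAs (IsAffine (Spec B))
  have hD : ∀ (i j : (Finset B)ᵒᵖ) (a : i ⟶ j), IsAffineHom (D.map a) := fun _ _ a => isAffineHom_of_isAffine _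
  let i₀ : S ≅ C.pt := S.isoSpec
  let f' : X ⟶ C.pt := f ≫ i₀.hom
  haveI : IsProper f' := inferInstanceAs (IsProper (f ≫ i₀.hom))
  haveI : Smooth f' := inferInstanceAs (Smooth (f ≫ i₀.hom))
  obtain ⟨k, X₀, f₀, q, h, hp, -, hfp⟩ := @H34.Stein.exists_flat_model_of_limit _ _ _ _
    D C hC _ _ X f' inferInstance inferInstance inferInstance
  haveI := hp; haveI := hfp
  haveI : CompactSpace X₀ := (quasiCompact_iff_compactSpace f₀).mp inferInstance
  haveI : QuasiSeparatedSpace X₀ := quasiSeparatedSpace_of_quasiSeparated f₀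
  obtain ⟨k₁, φ₁, hsm⟩ := Lim.SmoothEtale.smooth_descends D C hC hD k inferInstance inferInstance f₀
    inferInstance inferInstance hfp f' q h inferInstance
  let f₁ := pullback.snd f₀ (D.map φ₁)
  haveI : Smooth f₁ := hsm
  have h₁ : IsPullback (pullback.lift q (f' ≫ C.π.app k₁) (by rw [Category.assoc, C.w, h.w])) f' f₁
      (C.π.app k₁) := Lim.FPDescend.move h φ₁
  have h₁' := h₁.of_iso (Iso.refl X) (Iso.refl _) i₀.symm (Iso.refl _)
    (fst' := pullback.lift q (f' ≫ C.π.app k₁) (by rw [Category.assoc, C.w, h.w])) (snd' := f)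
    (f' := f₁) (g' := i₀.hom ≫ C.π.app k₁)
    (by simp) (by simp [f']) (by simp) (by simp)
  have hE : IsConstructible (goodSet f₁ g) := isConstructible_goodSet f₁ g
  have hmem : ∀ s : S, (i₀.hom ≫ C.π.app k₁) s ∈ goodSet f₁ g := by
    intro s
    let y := (i₀.hom ≫ C.π.app k₁) s
    obtain ⟨c, hc⟩ := fibre_square h₁' s
    letI : Algebra ((D.obj k₁).residueField y) (S.residueField s) :=
      ((i₀.hom ≫ C.π.app k₁).residueFieldMap s).hom.toAlgebra
    letI : (f.fiber s).Over (Spec (CommRingCat.of (S.residueField s))) := ⟨f.fiberToSpecResidueField s⟩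
    letI : (f₁.fiber y).Over (Spec (CommRingCat.of ((D.obj k₁).residueField y))) := ⟨f₁.fiberToSpecResidueField y⟩
    haveI : IsProper (f₁.fiber y ↘ Spec (CommRingCat.of ((D.obj k₁).residueField y))) :=
      MorphismProperty.pullback_snd _ _ (inferInstance : IsProper f₁)
    have hc' : IsPullback c (f.fiber s ↘ Spec (CommRingCat.of (S.residueField s)))
        (f₁.fiber y ↘ Spec (CommRingCat.of ((D.obj k₁).residueField y)))
        (Spec.map (CommRingCat.ofHom (algebraMap ((D.obj k₁).residueField y) (S.residueField s)))) := hc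
    haveI := H2.Rigid.GeomIrred.geometricallyIntegral_of_smooth f
    haveI hI : GeometricallyIntegral (f.fiber s ↘ Spec (CommRingCat.of (S.residueField s))) :=
      MorphismProperty.pullback_snd _ _ ‹GeometricallyIntegral f›
    have hI' : GeometricallyIntegral (f₁.fiberToSpecResidueField y) := by
      refine (Groth.Agent.S4627.result (K := S.residueField s)
        (f₁.fiber y ↘ Spec (CommRingCat.of ((D.obj k₁).residueField y)))).2 ?_
      exact (MorphismProperty.cancel_left_of_respectsIso @GeometricallyIntegral hc'.isoPullback.hom _).1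
        (hc'.isoPullback_hom_snd.symm ▸ hI)
    haveI : IsIntegral (f.fiber s) :=
      GeometricallyIntegral.isIntegral_of_subsingleton (f.fiber s ↘ Spec (CommRingCat.of (S.residueField s)))
    haveI : IsIntegral (f₁.fiber y) :=
      @GeometricallyIntegral.isIntegral_of_subsingleton _ _ (f₁.fiberToSpecResidueField y) hI' _ _
    refine mem_goodSet f₁ g hI' ?_ ?_
    · rw [← Curves.BaseChange.topologicalKrullDim_eq hc']; exact hdim s
    · exact (Curves.BaseChange.genus_eq hc').symm.trans (hgen s)
  obtain ⟨l, φ, hφ⟩ := LimTop.Points.exists_map_preimage_subset hC k₁ LimTop.PC.IsPC.univ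
    (LimTop.PC.IsPC.compl_of_isConstructible hE) fun s _ => by
      have := hmem (i₀.inv s)
      rwa [← Scheme.Hom.comp_apply, Iso.inv_hom_id_assoc] at this
  let f₂ := pullback.snd f₁ (D.map φ)
  let u := i₀.hom ≫ C.π.app l
  have hu : u ≫ D.map φ = i₀.hom ≫ C.π.app k₁ := by rw [Category.assoc, C.w]
  have hsq : IsPullback (pullback.lift
      (pullback.lift q (f' ≫ C.π.app k₁) (by rw [Category.assoc, C.w, h.w])) (f ≫ u)
      (h₁'.w.trans ((congrArg (fun t => f ≫ t) hu.symm).trans (Category.assoc _ _ _).symm))) f f₂ u := by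
    refine IsPullback.of_right ?_ (pullback.lift_snd _ _ _) (IsPullback.of_hasPullback f₁ (D.map φ))
    rw [pullback.lift_fst, hu]
    exact h₁'
  have hgood : ∀ y, GeometricallyIntegral (f₂.fiberToSpecResidueField y) ∧
      topologicalKrullDim ↥(f₂.fiber y) = 1 ∧
      (letI : (f₂.fiber y).Over (Spec ((D.obj l).residueField y)) := ⟨f₂.fiberToSpecResidueField y⟩;
        Curv2.genus ((D.obj l).residueField y) (f₂.fiber y)) = g := by
    intro y
    obtain ⟨⟨hI, hd⟩, he⟩ := hφ (Set.mem_univ y)
    have hI : GeometricallyIntegral (f₁.fiberToSpecResidueField (D.map φ y)) := hI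
    have hd : topologicalKrullDim ↥(f₁.fiber (D.map φ y)) = 1 := hd
    have he : PerfAux.eulerChar f₁ (Coh.structureModule (pullback f₀ (D.map φ₁))) (D.map φ y) = 1 - (g : ℤ) := he
    have heq := euler_fibre f₁ (D.map φ y) hd
    rw [he] at heq
    obtain ⟨c, hc⟩ := fibre_square (IsPullback.of_hasPullback f₁ (D.map φ)) y
    letI : Algebra ((D.obj k₁).residueField (D.map φ y)) ((D.obj l).residueField y) :=
      ((D.map φ).residueFieldMap y).hom.toAlgebra
    letI : (f₂.fiber y).Over (Spec (CommRingCat.of ((D.obj l).residueField y))) := ⟨f₂.fiberToSpecResidueField y⟩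
    letI : (f₁.fiber (D.map φ y)).Over (Spec (CommRingCat.of ((D.obj k₁).residueField (D.map φ y)))) :=
      ⟨f₁.fiberToSpecResidueField (D.map φ y)⟩
    haveI : IsProper (f₁.fiber (D.map φ y) ↘ Spec (CommRingCat.of ((D.obj k₁).residueField (D.map φ y)))) :=
      MorphismProperty.pullback_snd _ _ (inferInstance : IsProper f₁)
    haveI : GeometricallyIntegral (f₁.fiber (D.map φ y) ↘ Spec (CommRingCat.of ((D.obj k₁).residueField (D.map φ y)))) := hI
    have hc' : IsPullback c (f₂.fiber y ↘ Spec (CommRingCat.of ((D.obj l).residueField y)))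
        (f₁.fiber (D.map φ y) ↘ Spec (CommRingCat.of ((D.obj k₁).residueField (D.map φ y))))
        (Spec.map (CommRingCat.ofHom (algebraMap ((D.obj k₁).residueField (D.map φ y)) ((D.obj l).residueField y)))) := hc
    have hI2 : GeometricallyIntegral (f₂.fiberToSpecResidueField y) := MorphismProperty.of_isPullback hc' hI
    haveI : IsIntegral (f₂.fiber y) :=
      @GeometricallyIntegral.isIntegral_of_subsingleton _ _ (f₂.fiberToSpecResidueField y) hI2 _ _
    haveI : IsIntegral (f₁.fiber (D.map φ y)) :=
      @GeometricallyIntegral.isIntegral_of_subsingleton _ _ (f₁.fiberToSpecResidueField (D.map φ y)) hI _ _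
    refine ⟨hI2, (Curves.BaseChange.topologicalKrullDim_eq hc').trans hd,
      (Curves.BaseChange.genus_eq hc').trans ?_⟩
    exact_mod_cast (sub_right_inj.1 heq).symm
  refine ⟨D.obj l, _, f₂, u, _, inferInstanceAs (IsAffine (D.obj l)), ?_, ?_, hsq, inferInstance,
    inferInstance, ?_, fun y => (hgood y).2.1, fun y => (hgood y).2.2⟩
  · refine finiteType_global _ ?_
    exact (Subalgebra.fg_iff_finiteType _).1 (Subalgebra.fg_def.2 ⟨_, (l.unop).finite_toSet, rfl⟩)
  · have hn : (Spec.map (CommRingCat.ofHom (Algebra.adjoin ℤ ((l.unop : Finset B) : Set B)).val.toRingHom)).appTop =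
        (Scheme.ΓSpecIso _).hom ≫ CommRingCat.ofHom (Algebra.adjoin ℤ ((l.unop : Finset B) : Set B)).val.toRingHom
          ≫ (Scheme.ΓSpecIso B).inv := by
      rw [← Scheme.ΓSpecIso_naturality_assoc]; erw [Iso.hom_inv_id, Category.comp_id]
    show Function.Injective ((C.π.app l).appTop ≫ i₀.hom.appTop).hom
    intro a b hab
    have hi : Function.Injective i₀.hom.appTop.hom := (ConcreteCategory.bijective_of_isIso _).1
    have h' : (C.π.app l).appTop.hom a = (C.π.app l).appTop.hom b := hi hab
    rw [show C.π.app l = Spec.map (CommRingCat.ofHom (Algebra.adjoin ℤ ((l.unop : Finset B) : Set B)).val.toRingHom)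
      from rfl, hn] at h'
    exact (ConcreteCategory.bijective_of_isIso (Scheme.ΓSpecIso (CommRingCat.of
      (Algebra.adjoin ℤ ((l.unop : Finset B) : Set B)))).hom).1
      (Subtype.val_injective ((ConcreteCategory.bijective_of_isIso (Scheme.ΓSpecIso B).inv).1 h'))
  · rw [GeometricallyConnected.iff_geometricallyConnected_fiber]
    intro y
    haveI := (hgood y).1
    exact H2.Rigid.GeomIrred.geometricallyConnected _

end Groth.Agent.S18898
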