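import Groth.Statements.S1890
-- import your own Groth.Agent.* helpers here

set_option autoImplicit false
universe u
open CategoryTheory CategoryTheory.Limits AlgebraicGeometry
open Grpd

namespace Groth.Agent.S1890

/-- Take a quasi-compact immersion j : V → Spec A and an element f ∈ A such that j⁻¹(D(f)) is affine and
j(V) ∩ V(f) is closed in Spec A. Then V is affine. -/
theorem result (A : Type u) [CommRing A] (V : Scheme.{u}) (j : V ⟶ Spec (CommRingCat.of A)) [IsImmersion j] [QuasiCompact j] (f : A) (haff : IsAffineOpen (j ⁻¹ᵁ PrimeSpectrum.basicOpen f)) (hcl : IsClosed (Set.range ⇑j ∩ PrimeSpectrum.zeroLocus {f})) : IsAffine V := by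
  have : IsAffineHom j := by
    refine isAffineHom_of_forall_exists_isAffineOpen j fun x ↦ ?_
    by_cases hf : x ∈ PrimeSpectrum.basicOpen f
    · exact ⟨_, hf, (IsAffineOpen.Spec_basicOpen (R := CommRingCat.of A) f), haff⟩
    by_cases hj : x ∈ Set.range ⇑j
    · have hx : x ∈ j.coborderRange := subset_coborder hj
      obtain ⟨_, ⟨_, ⟨g, rfl⟩, rfl⟩, hxg, hgU⟩ :=
        PrimeSpectrum.isBasis_basic_opens.exists_subset_of_mem_open hx j.coborderRange.2
      refine ⟨PrimeSpectrum.basicOpen g, hxg, IsAffineOpen.Spec_basicOpen (R := CommRingCat.of A) g, ?_⟩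
      have h1 : IsAffineOpen (j.coborderRange.ι ⁻¹ᵁ PrimeSpectrum.basicOpen g) :=
        (IsAffineOpen.Spec_basicOpen g).preimage_of_isOpenImmersion _ (by rw [Scheme.Opens.opensRange_ι]; exact hgU)
      have h2 := h1.preimage j.liftCoborder
      rwa [← Scheme.Hom.comp_preimage, j.liftCoborder_ι] at h2
    · obtain ⟨_, ⟨_, ⟨g, rfl⟩, rfl⟩, hxg, hgc⟩ :=
        PrimeSpectrum.isBasis_basic_opens.exists_subset_of_mem_open
          (show x ∈ (Set.range ⇑j ∩ PrimeSpectrum.zeroLocus {f})ᶜ from fun h ↦ hj h.1) hcl.isOpen_compl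
      refine ⟨PrimeSpectrum.basicOpen g, hxg, IsAffineOpen.Spec_basicOpen (R := CommRingCat.of A) g, ?_⟩
      have hle : (j ⁻¹ᵁ PrimeSpectrum.basicOpen g) ≤ j ⁻¹ᵁ PrimeSpectrum.basicOpen f := by
        intro v hv
        by_contra hvf
        refine hgc hv ⟨⟨v, rfl⟩, ?_⟩
        refine PrimeSpectrum.mem_zeroLocus _ _ |>.2 (Set.singleton_subset_iff.2 ?_)
        by_contra h
        exact hvf h
      have hg : PrimeSpectrum.basicOpen g = (Spec (CommRingCat.of A)).basicOpen
          ((Scheme.ΓSpecIso (CommRingCat.of A)).inv g) := (basicOpen_eq_of_affine g).symm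
      rw [hg, Scheme.preimage_basicOpen] at hle ⊢
      have h3 := haff.basicOpen (V.presheaf.map (homOfLE le_top).op
        (j.app ⊤ ((Scheme.ΓSpecIso (CommRingCat.of A)).inv g)))
      erw [Scheme.basicOpen_res] at h3
      exact (inf_eq_right.2 hle) ▸ h3
  exact isAffine_of_isAffineHom j

end Groth.Agent.S1890
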