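import Groth.Statements.S18903
import Groth.Agent.Lib.QuotTame53.Double
import Groth.Agent.S18900

set_option autoImplicit false
universe u
open CategoryTheory CategoryTheory.Limits AlgebraicGeometry
open Curves

namespace Groth.Agent.S18903

/-- Let S be a scheme on which 2 is invertible and f : X → S a smooth curve of genus g ≥ 2 (proper and
smooth, geometrically connected fibres of dimension one and genus g). The following are equivalent:
(a) f = h ≫ q for a conic bundle q : P → S (a smooth curve of genus 0) and a double cover h : X → P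
(finite, flat, locally of finite presentation, of rank 2 at every point); (b) there are an
S-automorphism σ of X with σ ∘ σ = id and a quotient π : X → P of X by the group generated by σ (π
affine and σ-invariant, with O_P the σ-invariant sections of O_X over every open) such that the
induced morphism P → S is a conic bundle. -/
theorem result {X S : Scheme.{u}} (f : X ⟶ S)
    (h2 : IsUnit (2 : Γ(S, ⊤)))
    [IsProper f] [Smooth f] [GeometricallyConnected f]
    (hdim : ∀ s : S, topologicalKrullDim ↥(f.fiber s) = 1) (g : ℕ) (hg : 2 ≤ g)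
    (hgen : ∀ s : S, letI : (f.fiber s).Over (Spec (S.residueField s)) := ⟨f.fiberToSpecResidueField s⟩
      Curv2.genus (S.residueField s) (f.fiber s) = g) :
    (∃ (P : Scheme.{u}) (q : P ⟶ S) (h : X ⟶ P), h ≫ q = f ∧
        IsProper q ∧ Smooth q ∧ GeometricallyConnected q ∧
        (∀ s : S, topologicalKrullDim ↥(q.fiber s) = 1) ∧
        (∀ s : S, letI : (q.fiber s).Over (Spec (S.residueField s)) := ⟨q.fiberToSpecResidueField s⟩
          Curv2.genus (S.residueField s) (q.fiber s) = 0) ∧
        IsFinite h ∧ Flat h ∧ LocallyOfFinitePresentation h ∧ ∀ y : P, h.finrank y = 2) ↔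
      ∃ (σ : Aut X) (P : Scheme.{u}) (π : X ⟶ P) (q : P ⟶ S), σ.hom ≫ f = f ∧ σ * σ = 1 ∧ π ≫ q = f ∧
        SGA1.IsQuot (Subgroup.zpowers σ).subtype π ∧
        IsProper q ∧ Smooth q ∧ GeometricallyConnected q ∧
        (∀ s : S, topologicalKrullDim ↥(q.fiber s) = 1) ∧
        ∀ s : S, letI : (q.fiber s).Over (Spec (S.residueField s)) := ⟨q.fiberToSpecResidueField s⟩
          Curv2.genus (S.residueField s) (q.fiber s) = 0 := by
  constructor
  · rintro ⟨P, q, h, rfl, hq1, hq2, hq3, hq4, hq5, _, _, _, hrk⟩
    have h2' : IsUnit (2 : Γ(P, ⊤)) := by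
      have := h2.map q.appTop.hom
      rwa [map_ofNat] at this
    obtain ⟨σ, hσ1, hσ2, hσ3⟩ := Groth.Agent.S18900.result h hrk h2'
    exact ⟨σ, P, h, q, by rw [← Category.assoc, hσ1], hσ2, rfl, hσ3, hq1, hq2, hq3, hq4, hq5⟩
  · rintro ⟨σ, P, π, q, hσf, hσ2, rfl, hquot, hq1, hq2, hq3, hq4, hq5⟩
    refine ⟨P, q, π, rfl, hq1, hq2, hq3, hq4, hq5, ?_⟩
    have hfo : IsOfFinOrder σ := isOfFinOrder_iff_pow_eq_one.mpr ⟨2, two_pos, by rw [pow_two, hσ2]⟩
    have : Finite (Subgroup.zpowers σ) := hfo.finite_zpowers.to_subtype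
    have hmem : ∀ a : Subgroup.zpowers σ, (a : Aut X) = 1 ∨ (a : Aut X) = σ := fun a => by
      obtain ⟨m, hm⟩ := Subgroup.mem_zpowers_iff.mp a.2
      rw [← hm]
      rcases Int.even_or_odd m with ⟨j, rfl⟩ | ⟨j, rfl⟩
      · left
        rw [zpow_add, ← (Commute.refl σ).mul_zpow, hσ2, one_zpow]
      · right
        rw [zpow_add, zpow_one, zpow_mul, zpow_two, hσ2, one_zpow, one_mul]
    have hρ : ∀ a : Subgroup.zpowers σ,
        ((Subgroup.zpowers σ).subtype a).hom ≫ π ≫ q = π ≫ q := fun a => by
      rcases hmem a with h | h <;> simp only [Subgroup.coe_subtype, h]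
      · exact Category.id_comp _
      · exact hσf
    have hcard2 : Nonempty S → Nat.card (Subgroup.zpowers σ) = 2 ∧ ∀ s : S, Function.Injective
        (Groth.Agent.Lib.QuotTame53.Curve.actBC hρ (S.fromSpecResidueField s)) := by
      intro hne
      have key : ∀ s : S, (Groth.Agent.Lib.QuotTame53.Curve.actBC hρ (S.fromSpecResidueField s)
          ⟨σ, Subgroup.mem_zpowers σ⟩).hom ≠ 𝟙 _ := by
        intro s hs
        have hG1 : IsUnit ((Nat.card (Subgroup.zpowers σ) : ℕ) : Γ(S, ⊤)) := by
          rw [Nat.card_zpowers]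
          rcases (Nat.dvd_prime Nat.prime_two).mp
            (orderOf_dvd_of_pow_eq_one (x := σ) (n := 2) (by rw [pow_two, hσ2])) with h | h
          · simp [h]
          · rw [h]; exact_mod_cast h2
        have hqs := Groth.Agent.Lib.QuotTame53.Family.isQuot_quotBC_tame hG1 hquot hρ
          (S.fromSpecResidueField s)
        have hiso : IsIso (Groth.Agent.Lib.QuotTame53.Curve.quotBC (S.fromSpecResidueField s) (q := q)
            (π := π) rfl) := Groth.Agent.Lib.QuotTame53.Double.isIso_of_trivial hqs fun a => by
          rcases hmem a with h | h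
          · have ha : a = 1 := Subtype.ext h
            rw [ha, map_one]
            rfl
          · have ha : a = ⟨σ, Subgroup.mem_zpowers σ⟩ := Subtype.ext h
            rw [ha]
            exact hs
        haveI : IsProper (q.fiberToSpecResidueField s) :=
          MorphismProperty.pullback_snd _ _ inferInstance
        haveI : CompactSpace ↥(q.fiber s) :=
          QuasiCompact.compactSpace_of_compactSpace (q.fiberToSpecResidueField s)
        haveI : QuasiSeparatedSpace ↥(q.fiber s) :=
          quasiSeparatedSpace_of_quasiSeparated (q.fiberToSpecResidueField s)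
        letI i1 : ((π ≫ q).fiber s).Over (Spec (S.residueField s)) :=
          ⟨(π ≫ q).fiberToSpecResidueField s⟩
        letI i2 : (q.fiber s).Over (Spec (S.residueField s)) := ⟨q.fiberToSpecResidueField s⟩
        have e := @Groth.Agent.Lib.QuotTame53.Double.genus_eq_of_iso (S.residueField s) _ _ _ i1 i2 _ _
          (@asIso _ _ _ _ (Groth.Agent.Lib.QuotTame53.Curve.quotBC (S.fromSpecResidueField s) (q := q)
            (π := π) rfl) hiso) ((pullback.lift_snd _ _ _).trans (Category.comp_id _))
        have := (hgen s).symm.trans (e.trans (hq5 s))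
        omega
      have hσ1 : σ ≠ 1 := fun h => by
        obtain ⟨s⟩ := hne
        refine key s ?_
        have h1 : (⟨σ, Subgroup.mem_zpowers σ⟩ : Subgroup.zpowers σ) = 1 := Subtype.ext h
        rw [h1, map_one]
        rfl
      refine ⟨?_, fun s => ?_⟩
      · rw [Nat.card_zpowers]
        exact orderOf_eq_prime (by rw [pow_two, hσ2]) hσ1
      · rw [injective_iff_map_eq_one]
        intro a ha
        rcases hmem a with h | h
        · exact Subtype.ext h
        · have h1 : a = ⟨σ, Subgroup.mem_zpowers σ⟩ := Subtype.ext h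
          exact absurd (congrArg Iso.hom (h1 ▸ ha)) (key s)
    have hG : IsUnit ((Nat.card (Subgroup.zpowers σ) : ℕ) : Γ(S, ⊤)) := by
      rcases isEmpty_or_nonempty S with he | hne
      · haveI : Subsingleton Γ(S, ⊤) := by
          rw [show (⊤ : S.Opens) = ⊥ from TopologicalSpace.Opens.ext
            (Set.eq_empty_iff_forall_notMem.2 fun x _ => he.false x)]
          infer_instance
        exact isUnit_of_subsingleton _
      · rw [(hcard2 hne).1]; exact_mod_cast h2
    obtain ⟨-, -, -, -, h5, h6, h7, h8⟩ := Groth.Agent.Lib.QuotTame53.Double.curve_family (π ≫ q) hdim hG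
      (Subgroup.zpowers σ).subtype hρ (fun s => (hcard2 ⟨s⟩).2 s) π q rfl hquot
    exact ⟨h5, h6, h7, fun y => (h8 y).trans (hcard2 ⟨q y⟩).1⟩

end Groth.Agent.S18903
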