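import Groth.Statements.S18907
import Groth.Agent.Lib.QuotTame53.Scheme
import Groth.Agent.Lib.HProj.Proper
import Groth.Agent.Lib.Lim.OpenImm

set_option autoImplicit false
universe u
open CategoryTheory CategoryTheory.Limits AlgebraicGeometry
open Curves

namespace Groth.Agent.S18907

/-- Let f : X → S be a projective morphism of schemes (X ≅ Proj of a quasi-coherent graded O_S-algebra
generated in degree one with degree-one part of finite type), G a finite group acting on X by
S-automorphisms, and π : X → Y, with q : Y → S and π ≫ q = f, a quotient of X by G: π is affine and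
G-invariant and over every open of Y the sections of O_Y are exactly the G-invariant sections of
O_X. Then π is surjective, finite, open and closed. If moreover the order of G is invertible in
O_S(S), then: Y is flat over S whenever X is; q is separated; and if f is locally of finite
presentation then q is proper and locally of finite presentation and π is locally of finite
presentation. (The existence of the quotient, parts (1), (2), and the base-change statement (5) of
the source are not stated.) -/
theorem result {X Y S : Scheme.{u}} (f : X ⟶ S)
    (hf : RelProj.IsProjective f)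
    {G : Type u} [Group G] [Finite G] (ρ : G →* Aut X) (hρ : ∀ g : G, (ρ g).hom ≫ f = f)
    (π : X ⟶ Y) (q : Y ⟶ S) (hπ : π ≫ q = f) (hquot : SGA1.IsQuot ρ π) :
    (Surjective π ∧ IsFinite π ∧ IsOpenMap π ∧ IsClosedMap π) ∧
      (IsUnit ((Nat.card G : ℕ) : Γ(S, ⊤)) →
        (Flat f → Flat q) ∧ IsSeparated q ∧
        (LocallyOfFinitePresentation f →
          IsProper q ∧ LocallyOfFinitePresentation q ∧ LocallyOfFinitePresentation π)) := by
  subst hπ
  have := Groth.Agent.Lib.HProj.Proper.isProper_of_isProjective hf
  have hfin : IsFinite π := Groth.Agent.Lib.SchQuot.Props.isFinite_of_comp hquot q inferInstance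
  refine ⟨⟨⟨Groth.Agent.Lib.SchQuot.IsQuot.surjective hquot⟩, hfin,
    Groth.Agent.Lib.QuotTame53.isOpenMap hquot, Groth.Agent.Lib.SchQuot.IsQuot.isClosedMap hquot⟩,
    fun hG => ⟨Groth.Agent.Lib.QuotTame53.flat hquot q hG,
      Groth.Agent.Lib.SchQuot.Props.isSeparated_of_comp hquot q inferInstance, fun hfp => ?_⟩⟩
  have hq := Groth.Agent.Lib.QuotTame53.locallyOfFinitePresentation hquot q hG hfp
  refine ⟨Groth.Agent.Lib.QuotTame53.isProper hquot q inferInstance, hq, ?_⟩
  exact Groth.Agent.Lib.Lim.OpenImm.lfp_of_comp π q

end Groth.Agent.S18907
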