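import Groth.Statements.S18908
import Mathlib.FieldTheory.SeparableDegree
import Mathlib.LinearAlgebra.Dual.Lemmas
import Mathlib.LinearAlgebra.LinearIndependent.Basic
import Mathlib.LinearAlgebra.Dimension.Constructions
import Mathlib.LinearAlgebra.FreeModule.Finite.Matrix

set_option autoImplicit false
universe u v w
open scoped TensorProduct
open CAlg

namespace Groth.Agent.S18908

/-- Let K ⊇ k be a finite field extension of degree n and Ω ⊇ k an algebraically closed extension. Then
K is separable over k if and only if Ω ⊗_k K is isomorphic, as an Ω-algebra, to the product of n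
copies of Ω. (The source says 'for every (some) algebraically closed extension Ω'; the equivalence
is stated for each fixed Ω, which gives both readings.) -/
theorem result (k : Type u) (K : Type v) (Ω : Type w)
    [Field k] [Field K] [Algebra k K] [FiniteDimensional k K]
    [Field Ω] [Algebra k Ω] [IsAlgClosed Ω] :
    Algebra.IsSeparable k K ↔ Nonempty ((Ω ⊗[k] K) ≃ₐ[Ω] (Fin (Module.finrank k K) → Ω)) := by
  classical
  constructor
  · intro hsep
    haveI : Fintype (K →ₐ[k] Ω) := Fintype.ofFinite _
    have hcard : Fintype.card (K →ₐ[k] Ω) = Module.finrank k K := by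
      rw [← Nat.card_eq_fintype_card, ← Field.finSepDegree_eq_of_isAlgClosed k K Ω]
      exact (Field.finSepDegree_eq_finrank_iff k K).mpr hsep
    let Φ : Ω ⊗[k] K →ₐ[Ω] ((K →ₐ[k] Ω) → Ω) :=
      Pi.algHom Ω (fun _ => Ω) fun σ => Algebra.TensorProduct.lift (AlgHom.id Ω Ω) σ fun _ _ => Commute.all _ _
    have hsurj : Function.Surjective Φ.toLinearMap := by
      rw [← LinearMap.range_eq_top, ← Subspace.dualAnnihilator_inj, Submodule.dualAnnihilator_top, eq_bot_iff]
      intro u hu
      rw [Submodule.mem_dualAnnihilator] at hu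
      rw [Submodule.mem_bot]
      have hli : LinearIndependent Ω (fun σ : K →ₐ[k] Ω => ((σ : K →* Ω) : K → Ω)) :=
        (linearIndependent_monoidHom K Ω).comp (fun σ : K →ₐ[k] Ω => (σ : K →* Ω))
          fun σ τ h => AlgHom.ext fun x => DFunLike.congr_fun h x
      have hz := Fintype.linearIndependent_iff.mp hli (fun σ => u (Pi.single σ 1)) (funext fun a => ?_)
      · refine LinearMap.pi_ext fun σ c => ?_
        rw [LinearMap.zero_apply, show (Pi.single σ c : (K →ₐ[k] Ω) → Ω) = c • Pi.single σ 1 by rw [← Pi.single_smul, smul_eq_mul, mul_one],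
          map_smul, hz σ, smul_zero]
      · rw [Finset.sum_apply, Pi.zero_apply, ← hu _ ⟨1 ⊗ₜ a, rfl⟩,
          LinearMap.pi_apply_eq_sum_univ u (Φ.toLinearMap (1 ⊗ₜ a))]
        refine Finset.sum_congr rfl fun σ _ => ?_
        rw [Pi.smul_apply, smul_eq_mul, smul_eq_mul, mul_comm]
        congr 1
        · show σ a = _
          simp [Φ]
        · congr 1; funext τ; simp [Pi.single_apply, eq_comm]
    have hdim : Module.finrank Ω (Ω ⊗[k] K) = Module.finrank Ω ((K →ₐ[k] Ω) → Ω) := by
      rw [Module.finrank_baseChange, Module.finrank_fintype_fun_eq_card, hcard]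
    have hinj : Function.Injective Φ.toLinearMap :=
      (LinearMap.injective_iff_surjective_of_finrank_eq_finrank hdim).mpr hsurj
    exact ⟨(AlgEquiv.ofBijective Φ ⟨hinj, hsurj⟩).trans
      (AlgEquiv.piCongrLeft Ω (fun _ => Ω) (Fintype.equivFinOfCardEq hcard))⟩
  · rintro ⟨e⟩
    rw [← Field.finSepDegree_eq_finrank_iff k K, Field.finSepDegree_eq_of_isAlgClosed k K Ω]
    refine le_antisymm ?_ ?_
    · exact card_algHom_le_finrank k K Ω
    · let g : Fin (Module.finrank k K) → (K →ₐ[k] Ω) := fun i =>
        (((Pi.evalAlgHom Ω (fun _ => Ω) i).comp e.toAlgHom).restrictScalars k).comp Algebra.TensorProduct.includeRight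
      have hg : Function.Injective g := by
        intro i j hij
        by_contra hne
        have h1 : (Pi.evalAlgHom Ω (fun _ => Ω) i).comp e.toAlgHom = (Pi.evalAlgHom Ω (fun _ => Ω) j).comp e.toAlgHom :=
          Algebra.TensorProduct.ext (Subsingleton.elim _ _) hij
        have h2 := AlgHom.congr_fun h1 (e.symm (Pi.single i 1))
        simp [Pi.single_apply, Ne.symm hne] at h2
      simpa using Nat.card_le_card_of_injective g hg

end Groth.Agent.S18908
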