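import Groth.Statements.S18909
import Groth.Agent.Lib.QuotTame53.Family
import Groth.Agent.Lib.Flat55.SmoothAt
import Groth.Agent.Lib.Flat55.FibrewiseStalk
import Groth.Agent.Lib.Lim.OpenImm
import Groth.Agent.S18897

set_option autoImplicit false
universe u
open CategoryTheory CategoryTheory.Limits AlgebraicGeometry
open Curves

namespace Groth.Agent.S18909

/-- Let f : X → S be a smooth curve of genus g ≠ 1 (proper and smooth, geometrically connected fibres of
dimension one and genus g) and G a finite group acting on X by S-automorphisms, faithfully on every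
fibre (rendered: every g ≠ 1 moves some point of each fibre), with the order of G invertible in
O_S(S). Let π : X → Y be a quotient of X by G over S (π affine and G-invariant, O_Y the G-invariant
sections of O_X; the source shows such a quotient exists). Then Y → S is proper and smooth with
geometrically connected fibres of dimension one, and π is a cover of degree |G|: finite, flat,
locally of finite presentation and of rank |G| at every point of Y. -/
theorem result {X Y S : Scheme.{u}} (f : X ⟶ S)
    [IsProper f] [Smooth f] [GeometricallyConnected f]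
    (hdim : ∀ s : S, topologicalKrullDim ↥(f.fiber s) = 1) (g : ℕ) (hg : g ≠ 1)
    (hgen : ∀ s : S, letI : (f.fiber s).Over (Spec (S.residueField s)) := ⟨f.fiberToSpecResidueField s⟩
      Curv2.genus (S.residueField s) (f.fiber s) = g)
    {G : Type u} [Group G] [Finite G] (hG : IsUnit ((Nat.card G : ℕ) : Γ(S, ⊤)))
    (ρ : G →* Aut X) (hρ : ∀ a : G, (ρ a).hom ≫ f = f)
    (hfaith : ∀ (s : S) (a : G), a ≠ 1 → ∃ x : X, f x = s ∧ (ρ a).hom x ≠ x)
    (π : X ⟶ Y) (q : Y ⟶ S) (hπ : π ≫ q = f) (hquot : SGA1.IsQuot ρ π) :
    IsProper q ∧ Smooth q ∧ GeometricallyConnected q ∧ (∀ s : S, topologicalKrullDim ↥(q.fiber s) = 1) ∧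
      IsFinite π ∧ Flat π ∧ LocallyOfFinitePresentation π ∧ ∀ y : Y, π.finrank y = Nat.card G := by
  subst hπ
  have hqp := Groth.Agent.Lib.QuotTame53.locallyOfFinitePresentation hquot q hG inferInstance
  have hprop : IsProper q := Groth.Agent.Lib.QuotTame53.isProper hquot q inferInstance
  have hfin : IsFinite π := Groth.Agent.Lib.SchQuot.Props.isFinite_of_comp hquot q inferInstance
  have hpfp : LocallyOfFinitePresentation π := Groth.Agent.Lib.Lim.OpenImm.lfp_of_comp π q
  have hqflat : Flat q := Groth.Agent.Lib.QuotTame53.flat hquot q hG inferInstance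
  have hfibre : ∀ s : S, IsProper (q.fiberToSpecResidueField s) ∧
      Smooth (q.fiberToSpecResidueField s) ∧ GeometricallyConnected (q.fiberToSpecResidueField s) ∧
      topologicalKrullDim ↥(q.fiber s) = 1 ∧
      IsFinite (Groth.Agent.Lib.QuotTame53.Curve.quotBC (S.fromSpecResidueField s) (q := q)
        (π := π) rfl) ∧
      Flat (Groth.Agent.Lib.QuotTame53.Curve.quotBC (S.fromSpecResidueField s) (q := q)
        (π := π) rfl) ∧
      ∀ y, (Groth.Agent.Lib.QuotTame53.Curve.quotBC (S.fromSpecResidueField s) (q := q)
        (π := π) rfl).finrank y = Nat.card G := fun s => by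
    haveI : IsProper ((π ≫ q).fiberToSpecResidueField s) :=
      MorphismProperty.pullback_snd _ _ inferInstance
    haveI : Smooth ((π ≫ q).fiberToSpecResidueField s) :=
      MorphismProperty.pullback_snd _ _ inferInstance
    haveI : GeometricallyConnected ((π ≫ q).fiberToSpecResidueField s) :=
      MorphismProperty.pullback_snd _ _ inferInstance
    refine Groth.Agent.S18897.result (S.residueField s) ((π ≫ q).fiberToSpecResidueField s)
      (hdim s) ?_ (Groth.Agent.Lib.QuotTame53.Curve.actBC hρ (S.fromSpecResidueField s)) ?_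
      (fun a => ?_) _ _ ?_
      (Groth.Agent.Lib.QuotTame53.Family.isQuot_quotBC_tame hG hquot hρ (S.fromSpecResidueField s))
    · have h := hG.map (S.evaluation ⊤ s trivial).hom
      rw [map_natCast] at h
      exact h.ne_zero
    · rw [injective_iff_map_eq_one]
      intro a ha
      by_contra hne
      obtain ⟨x, hxs, hxa⟩ := hfaith s a hne
      obtain ⟨x', rfl⟩ : x ∈ Set.range ((π ≫ q).fiberι s) := by
        rw [Scheme.Hom.range_fiberι]; exact hxs
      refine hxa ?_
      have e : (Groth.Agent.Lib.QuotTame53.Curve.actBC hρ (S.fromSpecResidueField s) a).hom ≫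
          (π ≫ q).fiberι s = (π ≫ q).fiberι s ≫ (ρ a).hom := pullback.lift_fst _ _ _
      have h1 : (Groth.Agent.Lib.QuotTame53.Curve.actBC hρ (S.fromSpecResidueField s) a).hom =
          𝟙 _ := (congrArg Iso.hom ha).trans rfl
      exact (Scheme.Hom.comp_apply _ _ x').symm.trans
        (congrArg (fun m : (π ≫ q).fiber s ⟶ X => m x')
          (e.symm.trans ((congrArg (· ≫ (π ≫ q).fiberι s) h1).trans (Category.id_comp _))))
    · exact (pullback.lift_snd _ _ _).trans (Category.comp_id _)
    · exact (pullback.lift_snd _ _ _).trans (Category.comp_id _)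
  have hsm : Smooth q := by
    rw [← Scheme.Hom.smoothLocus_eq_top_iff, ← top_le_iff]
    intro y _
    exact Groth.Agent.Lib.Flat55.SmoothAt.mem_smoothLocus_of_fibre q y (Flat.stalkMap _ _) (q y)
      rfl (hfibre (q y)).2.1
  have hflat : Flat π := by
    rw [Flat.iff_flat_stalkMap]
    intro x
    obtain ⟨a, ha⟩ : x ∈ Set.range ((π ≫ q).fiberι (q (π x))) := by
      rw [Scheme.Hom.range_fiberι]; rfl
    have e : MoreMor.fiberMap π q (q (π x)) = Groth.Agent.Lib.QuotTame53.Curve.quotBC
        (S.fromSpecResidueField (q (π x))) (q := q) (π := π) rfl := by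
      apply pullback.hom_ext
      · exact (pullback.lift_fst _ _ _).trans (pullback.lift_fst _ _ _).symm
      · exact (pullback.lift_snd _ _ _).trans
          ((Category.comp_id _).symm.trans (pullback.lift_snd _ _ _).symm)
    haveI : Flat (MoreMor.fiberMap π q (q (π x))) := e ▸ (hfibre _).2.2.2.2.2.1
    exact (Groth.Agent.Lib.Flat55.FibrewiseStalk.flat_stalkMap_of_fiberMap π q x _ a ha
      (Flat.stalkMap _ _) (Flat.stalkMap _ _)).1
  refine ⟨hprop, hsm, ⟨fun K _ y Z fst snd hZ => ?_⟩, fun s => (hfibre s).2.2.2.1, hfin, hflat, hpfp,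
    fun y => ?_⟩
  · have hsurj := Groth.Agent.Lib.QuotTame53.Family.surjective_quotBC (q := q) hquot y
    have : ConnectedSpace ↥(pullback (π ≫ q) y) :=
      GeometricallyConnected.geometrically_connectedSpace y _ _ (IsPullback.of_hasPullback _ _)
    have h2 : ConnectedSpace ↥(pullback q y) := hsurj.1.connectedSpace
      (Groth.Agent.Lib.QuotTame53.Curve.quotBC y (q := q) (π := π) rfl).continuous
    show ConnectedSpace Z
    exact hZ.isoPullback.inv.surjective.connectedSpace hZ.isoPullback.inv.continuous
  · obtain ⟨y', hy'⟩ : y ∈ Set.range (q.fiberι (q y)) := by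
      rw [Scheme.Hom.range_fiberι]; rfl
    rw [← (hfibre (q y)).2.2.2.2.2.2 y', Scheme.Hom.finrank_of_isPullback _ _ _ _
      (Groth.Agent.Lib.QuotTame53.Curve.isPullback_quotBC (S.fromSpecResidueField (q y))
        (q := q) (π := π) rfl) y']
    exact congrArg π.finrank hy'.symm

end Groth.Agent.S18909
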