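import Groth.Statements.S18912
import Mathlib.RingTheory.RootsOfUnity.Basic
import Mathlib.FieldTheory.IsAlgClosed.Basic
import Mathlib.RingTheory.RootsOfUnity.AlgebraicallyClosed

set_option autoImplicit false
universe u
open CategoryTheory CategoryTheory.Limits AlgebraicGeometry
open TFNodal

namespace Groth.Agent.S18912

/-- Let k be an algebraically closed field of characteristic zero, X a reduced scheme locally of finite
type over k, F an O_X-module, d ≥ 1 an integer and τ, τ' : F → O_X two O_X-linear maps whose d-th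
symmetric powers agree, in the sense that for every open U and all sections a_1, …, a_d of F over U
the products τ(a_1)⋯τ(a_d) and τ'(a_1)⋯τ'(a_d) coincide in Γ(U, O_X). Then for every point η of X
whose local ring is a field (a generic point of an irreducible component) there is a d-th root of
unity ξ in k such that, for every section a of F over an open containing η, the germ of τ'(a) at η
is ξ times the germ of τ(a). The published statement is for a coherent module on a projective nodal
curve and concludes that τ' = ξ τ with one root of unity ξ on each connected component; that form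
fails for the union of two lines meeting at a node, F the ideal of the node, τ the inclusion and τ'
equal to τ on one line and to −τ on the other (d = 2), so the conclusion is stated here at each
generic point, i.e. per irreducible component, which is what the stalkwise argument yields. -/
theorem result
    (k : Type u) [Field k] [IsAlgClosed k] [CharZero k]
    (X : Scheme.{u}) [X.Over (Spec (CommRingCat.of k))]
    [LocallyOfFiniteType (X ↘ Spec (CommRingCat.of k))] [AlgebraicGeometry.IsReduced X]
    (F : X.Modules) (τ τ' : F ⟶ Coh.structureModule X) (d : ℕ) (hd : 1 ≤ d)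
    (hS : ∀ (U : X.Opens) (a : Fin d → Γ(F, U)),
      (∏ i, (τ.app U (a i) : Γ(X, U)) : Γ(X, U)) = (∏ i, (τ'.app U (a i) : Γ(X, U)) : Γ(X, U)))
    (η : X) (hη : IsField (X.presheaf.stalk η)) :
    ∃ ξ : k, ξ ^ d = 1 ∧ ∀ (U : X.Opens) (hU : η ∈ U) (a : Γ(F, U)),
      (X.presheaf.germ U η hU (τ'.app U a : Γ(X, U)) : X.presheaf.stalk η) =
        Curv2.stalkMap k X η ξ * X.presheaf.germ U η hU (τ.app U a : Γ(X, U)) := by
  classical
  letI : Field (X.presheaf.stalk η) := hη.toField
  let σ : k →+* X.presheaf.stalk η := Curv2.stalkMap k X η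
  let g : ∀ (_ : F ⟶ Coh.structureModule X) (U : X.Opens) (_ : η ∈ U), Γ(F, U) → X.presheaf.stalk η :=
    fun t U hU a => X.presheaf.germ U η hU (t.app U a : Γ(X, U))
  have gres : ∀ (t : F ⟶ Coh.structureModule X) (U V : X.Opens) (h : V ≤ U) (hV : η ∈ V) (a : Γ(F, U)),
      g t V hV (F.presheaf.map (homOfLE h).op a) = g t U (h hV) a := fun t U V h hV a => by
    have h1 : (t.app V (F.presheaf.map (homOfLE h).op a) : Γ(X, V)) =
        X.presheaf.map (homOfLE h).op (t.app U a : Γ(X, U)) :=
      ConcreteCategory.congr_hom (t.mapPresheaf.naturality (homOfLE h).op) a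
    show X.presheaf.germ V η hV _ = X.presheaf.germ U η (h hV) _
    rw [h1]
    exact TopCat.Presheaf.germ_res_apply X.presheaf (homOfLE h) η hV _
  have hprod : ∀ (U V : X.Opens) (hU : η ∈ U) (hV : η ∈ V) (a : Γ(F, U)) (b : Γ(F, V)),
      g τ U hU a * g τ V hV b ^ (d - 1) = g τ' U hU a * g τ' V hV b ^ (d - 1) := by
    intro U V hU hV a b
    have hW : η ∈ U ⊓ V := ⟨hU, hV⟩
    let c : Fin d → Γ(F, U ⊓ V) := fun i => if i = ⟨0, hd⟩ then F.presheaf.map (homOfLE inf_le_left).op a
      else F.presheaf.map (homOfLE inf_le_right).op b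
    have h1 := congrArg (X.presheaf.germ (U ⊓ V) η hW) (hS (U ⊓ V) c)
    replace h1 := ((map_prod (X.presheaf.germ (U ⊓ V) η hW).hom _ _).symm.trans
      (h1.trans (map_prod (X.presheaf.germ (U ⊓ V) η hW).hom _ _)))
    have h2 : ∀ t : F ⟶ Coh.structureModule X,
        (∏ i, X.presheaf.germ (U ⊓ V) η hW (t.app (U ⊓ V) (c i) : Γ(X, U ⊓ V))) =
          g t U hU a * g t V hV b ^ (d - 1) := fun t => by
      show ∏ i, g t (U ⊓ V) hW (c i) = _
      rw [← Finset.mul_prod_erase Finset.univ _ (Finset.mem_univ (⟨0, hd⟩ : Fin d)),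
        Finset.prod_congr rfl (g := fun _ => g t V hV b) fun i hi => ?_, Finset.prod_const,
        Finset.card_erase_of_mem (Finset.mem_univ _), Finset.card_univ, Fintype.card_fin]
      · rw [show c ⟨0, hd⟩ = F.presheaf.map (homOfLE inf_le_left).op a from if_pos rfl, gres]
      · rw [show c i = F.presheaf.map (homOfLE inf_le_right).op b from if_neg (Finset.ne_of_mem_erase hi), gres]
    rw [h2, h2] at h1
    exact h1
  have hpow : ∀ (U : X.Opens) (hU : η ∈ U) (a : Γ(F, U)), g τ U hU a ^ d = g τ' U hU a ^ d := fun U hU a => by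
    obtain ⟨e, rfl⟩ : ∃ e, d = e + 1 := ⟨d - 1, by omega⟩
    simpa [pow_succ'] using hprod U U hU hU a a
  by_cases h0 : ∀ (U : X.Opens) (hU : η ∈ U) (a : Γ(F, U)), g τ U hU a = 0
  · refine ⟨1, one_pow d, fun U hU a => ?_⟩
    have h1 : g τ' U hU a = 0 := eq_zero_of_pow_eq_zero (n := d) (by
      rw [← hpow, h0, zero_pow (by omega)])
    show g τ' U hU a = σ 1 * g τ U hU a
    rw [h1, h0, mul_zero]
  push Not at h0
  obtain ⟨V, hV, b, hb⟩ := h0
  have hb' : g τ' V hV b ≠ 0 := fun h => hb (eq_zero_of_pow_eq_zero (n := d) (by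
    rw [hpow, h, zero_pow (by omega)]))
  have hc : (g τ' V hV b / g τ V hV b) ^ d = 1 := by
    rw [div_pow, ← hpow, div_self (pow_ne_zero _ hb)]
  obtain ⟨ξ, hξ⟩ : ∃ ξ : k, σ ξ = g τ' V hV b / g τ V hV b := by
    haveI : NeZero d := ⟨by omega⟩
    haveI : NeZero (d : k) := ⟨Nat.cast_ne_zero.2 (by omega)⟩
    obtain ⟨ζ, hζ⟩ := HasEnoughRootsOfUnity.exists_primitiveRoot k d
    obtain ⟨i, -, hi⟩ := (hζ.map_of_injective σ.injective).eq_pow_of_pow_eq_one hc
    exact ⟨ζ ^ i, by rw [map_pow, hi]⟩
  refine ⟨ξ, σ.injective (by rw [map_pow, map_one, hξ, hc]), fun U hU a => ?_⟩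
  show g τ' U hU a = σ ξ * g τ U hU a
  rw [hξ, div_mul_eq_mul_div, eq_div_iff hb]
  refine mul_right_cancel₀ (pow_ne_zero (d - 1) hb') ?_
  calc g τ' U hU a * g τ V hV b * g τ' V hV b ^ (d - 1)
      = g τ V hV b * (g τ' U hU a * g τ' V hV b ^ (d - 1)) := by ring
    _ = g τ V hV b * (g τ U hU a * g τ V hV b ^ (d - 1)) := by rw [hprod U V hU hV a b]
    _ = g τ U hU a * g τ V hV b ^ d := by
        obtain ⟨e, rfl⟩ : ∃ e, d = e + 1 := ⟨d - 1, by omega⟩
        simp [pow_succ']; ring
    _ = g τ U hU a * g τ' V hV b ^ d := by rw [hpow]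
    _ = g τ' V hV b * g τ U hU a * g τ' V hV b ^ (d - 1) := by
        obtain ⟨e, rfl⟩ : ∃ e, d = e + 1 := ⟨d - 1, by omega⟩
        simp [pow_succ']; ring

end Groth.Agent.S18912
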