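import Groth.Statements.S18915
import Groth.Agent.S1575
import Groth.Agent.H52.FBase.NoEmb
import Groth.Agent.H19.IntMult.BCClosed
import Groth.Agent.Lib.DerivedOX.PullbackStalk
import Groth.Agent.Lib.SmoothCurve.Stalk
import Groth.Agent.Lib.Cyc.FP.Stalk
import Groth.Agent.Lib.GrpSch.SmoothReduced
import Groth.Agent.Lib.TFNodal.RetractDepth
import Mathlib.AlgebraicGeometry.AlgClosed.Basic
import Mathlib.AlgebraicGeometry.Morphisms.Flat

set_option autoImplicit false
universe u
open CategoryTheory CategoryTheory.Limits AlgebraicGeometry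
open TFNodal

namespace Groth.Agent.S18915

open IsLocalRing in
/-- A Noetherian local ring whose maximal ideal is not associated has a non-zero-divisor in it. -/
theorem exists_regular (R : Type u) [CommRing R] [IsLocalRing R] [IsNoetherianRing R]
    (h : ¬ Groth.Agent.Lib.AssPt.Basic.MaxAssoc R) :
    ∃ a ∈ maximalIdeal R, IsRegular a := by
  by_contra hc
  push Not at hc
  have hzd : ∀ a ∈ maximalIdeal R, a ∈ ⋃ p ∈ associatedPrimes R R, (p : Set R) := by
    intro a ha
    rw [biUnion_associatedPrimes_eq_zero_divisors]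
    by_contra hreg
    simp only [Set.mem_setOf_eq, not_exists, not_and, smul_eq_mul] at hreg
    refine hc a ha (isRegular_iff_mem_nonZeroDivisors.2 (mem_nonZeroDivisors_iff_right.2 fun z hz => ?_))
    by_contra hne
    exact hreg z hne (by rwa [mul_comm])
  obtain ⟨P, hP, hle⟩ := (Ideal.subset_union_prime_finite (associatedPrimes.finite R R)
    (f := fun p => p) (maximalIdeal R) (maximalIdeal R)
    fun p hp _ _ => hp.1).mp hzd
  obtain rfl := le_antisymm hle (le_maximalIdeal hP.1.ne_top)
  exact h hP

/-- A closed point of a reduced scheme of finite type with no isolated point is not associated. -/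
theorem not_maxAssoc {X : Scheme.{u}} [IsNoetherian X] [AlgebraicGeometry.IsReduced X]
    (hpure : ∀ x : X, IsClosed ({x} : Set X) → ¬ IsOpen ({x} : Set X))
    {x : X} (hx : IsClosed ({x} : Set X)) :
    ¬ Groth.Agent.Lib.AssPt.Basic.MaxAssoc (X.presheaf.stalk x) := fun hm => by
  have hmax := (Groth.Agent.Lib.AssPt.Basic.maxAssoc_iff_maximalPoint x).1 hm
  have hfin : (genericPoints X).Finite :=
    ((TopologicalSpace.NoetherianSpace.finite_irreducibleComponents (α := X)).preimage
      (f := fun η : X => closure ({η} : Set X)) (fun a _ b _ e => by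
        exact ((specializes_iff_mem_closure.2 ((show closure ({a} : Set X) = closure {b} from e) ▸ subset_closure rfl : a ∈ closure {b})).antisymm
          (specializes_iff_mem_closure.2 ((show closure ({b} : Set X) = closure {a} from e.symm) ▸ subset_closure rfl : b ∈ closure {a}))).eq.symm)).subset
      fun η hη => hη
  let C : Set X := ⋃ η ∈ genericPoints X \ {x}, closure {η}
  have hC : IsClosed C := (hfin.subset Set.sdiff_subset).isClosed_biUnion fun _ _ => isClosed_closure
  refine hpure x hx ?_
  have : ({x} : Set X) = Cᶜ := by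
    ext z
    constructor
    · rintro rfl hzC
      obtain ⟨η, hη, hz⟩ := Set.mem_iUnion₂.1 hzC
      exact hη.2 (hmax η (specializes_iff_mem_closure.2 hz))
    · intro hz
      obtain ⟨η, hη, hηz⟩ := Groth.Agent.Lib.Flat55.GenericPoints.exists_specializes z
      by_contra hne
      refine hz (Set.mem_iUnion₂.2 ⟨η, ⟨hη, ?_⟩, hηz.mem_closure⟩)
      rintro rfl
      exact hne (by have := hηz.mem_closure; rwa [hx.closure_eq] at this)
  rw [this]
  exact hC.isOpen_compl

/-- Depth two of a pulled back torsion free module at a point of a section cut out by a uniformizer. -/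
theorem two_le_depth_section {X Z C S₀ : Scheme.{u}} [IsNoetherian X] [AlgebraicGeometry.IsReduced X]
    (hpure : ∀ x : X, IsClosed ({x} : Set X) → ¬ IsOpen ({x} : Set X))
    (f : Z ⟶ X) (g : Z ⟶ C) [Flat g] [IsIntegral C] {pX : X ⟶ S₀} [IsIntegral S₀] [Subsingleton S₀] {pt : S₀ ⟶ C}
    [IsPreimmersion pt] (s : X ⟶ Z) [IsPreimmersion s] (hs : s ≫ f = 𝟙 X)
    (H : IsPullback s pX g pt) (F : X.Modules) (htF : TorSh.IsTorsionFree F) (x : X)
    (hx : IsClosed ({x} : Set X)) (hC : IsDiscreteValuationRing (C.presheaf.stalk (g (s x)))) :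
    2 ≤ LocCoh.depth (Z.presheaf.stalk (s x))
      (((Scheme.Modules.pullback f).obj F).presheaf.stalk (s x)) := by
  have hy : f (s x) = x := by rw [← Scheme.Hom.comp_apply, hs]; rfl
  have hyc : IsClosed ({f (s x)} : Set X) := by rw [hy]; exact hx
  obtain ⟨a, ham, hareg⟩ := exists_regular _ (not_maxAssoc hpure hyc)
  obtain ⟨ϖ, hϖ⟩ := IsDiscreteValuationRing.exists_irreducible (C.presheaf.stalk (g (s x)))
  letI : Algebra (X.presheaf.stalk (f (s x))) (Z.presheaf.stalk (s x)) :=
    (f.stalkMap (s x)).hom.toAlgebra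
  haveI : IsIso (s ≫ f) := by rw [hs]; infer_instance
  have hbij : Function.Bijective ((s.stalkMap x).hom.comp (f.stalkMap (s x)).hom) := by
    have h := ConcreteCategory.bijective_of_isIso ((s ≫ f).stalkMap x)
    rw [Scheme.Hom.stalkMap_comp] at h
    exact h
  let e := RingEquiv.ofBijective _ hbij
  let q : Z.presheaf.stalk (s x) →ₐ[X.presheaf.stalk (f (s x))] X.presheaf.stalk (f (s x)) :=
    { e.symm.toRingHom.comp (s.stalkMap x).hom with
      commutes' := fun r => e.symm_apply_apply r }
  have hker : RingHom.ker q = Ideal.span {(g.stalkMap (s x)).hom ϖ} := by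
    have h := Groth.Agent.H19.IntMult.BCClosed.ker_stalkMap H x (Subsingleton.elim _ _)
    rw [hϖ.maximalIdeal_eq, Ideal.map_span, Set.image_singleton] at h
    rw [← h]
    exact Ideal.ext fun b => by
      simp only [RingHom.mem_ker]
      exact map_eq_zero_iff e.symm e.symm.injective
  have hflat : (g.stalkMap (s x)).hom.Flat := Flat.stalkMap g (s x)
  have ht : IsSMulRegular (Z.presheaf.stalk (s x)) ((g.stalkMap (s x)).hom ϖ) := by
    letI := (g.stalkMap (s x)).hom.toAlgebra
    haveI : Module.Flat (C.presheaf.stalk (g (s x))) (Z.presheaf.stalk (s x)) := hflat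
    have h1 : IsSMulRegular (Z.presheaf.stalk (s x)) ϖ :=
      (isRegular_of_ne_zero hϖ.ne_zero).isSMulRegular
    exact fun b c hbc => h1 ((Algebra.smul_def ϖ b).trans (hbc.trans (Algebra.smul_def ϖ c).symm))
  have htm : (g.stalkMap (s x)).hom ϖ ∈ IsLocalRing.maximalIdeal (Z.presheaf.stalk (s x)) :=
    map_nonunit (g.stalkMap (s x)).hom ϖ hϖ.not_isUnit
  have haM : IsSMulRegular (F.presheaf.stalk (f (s x))) a := (htF _).isSMulRegular hareg
  have h2 := Groth.Agent.Lib.TFNodal.RetractDepth.two_le_depth q hker ht htm haM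
    (map_nonunit (f.stalkMap (s x)).hom a ham)
  exact h2.trans_eq (Groth.Agent.Lib.Depth.Basic.depth_congr
    (((Groth.Agent.Lib.DerivedOX.PullbackStalk.pullbackStalkIso f (s x)).app F).toLinearEquiv))


/-- Let k be an algebraically closed field of characteristic zero, X a reduced proper curve over k (a
proper k-scheme of dimension one) without isolated points (no closed point is open, i.e. X is
one-dimensional at every point), C a smooth irreducible k-scheme of dimension one and c a closed
point of C. Put Z = X ×_k C with projections p_X and p_C, let Y be a nonempty finite set of closed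
points of Z lying over c, and let j : U → Z be the inclusion of the open complement of Y. Then for
every coherent torsion free O_X-module F (every stalk a torsion free module over the local ring),
the unit map p_X^* F → j_* j^* (p_X^* F) is an isomorphism. -/
theorem result
    (k : Type u) [Field k] [IsAlgClosed k] [CharZero k]
    (X : Scheme.{u}) [X.Over (Spec (CommRingCat.of k))] [IsProper (X ↘ Spec (CommRingCat.of k))]
    [AlgebraicGeometry.IsReduced X] (hdim : topologicalKrullDim X = 1)
    (hpure : ∀ x : X, IsClosed ({x} : Set X) → ¬ IsOpen ({x} : Set X))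
    (C : Scheme.{u}) [C.Over (Spec (CommRingCat.of k))] [Smooth (C ↘ Spec (CommRingCat.of k))]
    [IrreducibleSpace C] (hdimC : topologicalKrullDim C = 1)
    (c : C) (hc : IsClosed ({c} : Set C))
    (Y : Set ↑(pullback (X ↘ Spec (CommRingCat.of k)) (C ↘ Spec (CommRingCat.of k))))
    (hYfin : Y.Finite) (hYne : Y.Nonempty) (hYcl : ∀ z ∈ Y, IsClosed ({z} : Set _))
    (hYc : ∀ z ∈ Y, (pullback.snd (X ↘ Spec (CommRingCat.of k)) (C ↘ Spec (CommRingCat.of k))).base z = c)
    (U : (pullback (X ↘ Spec (CommRingCat.of k)) (C ↘ Spec (CommRingCat.of k))).Opens)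
    (hU : (U : Set _) = Yᶜ)
    (F : X.Modules) (hF : Coh.IsCoh F) (htF : TorSh.IsTorsionFree F) :
    IsIso ((Scheme.Modules.restrictAdjunction U.ι).unit.app
      ((Scheme.Modules.pullback (pullback.fst (X ↘ Spec (CommRingCat.of k)) (C ↘ Spec (CommRingCat.of k)))).obj F)) := by
  let kk := Spec (CommRingCat.of k)
  let pX : X ⟶ kk := X ↘ kk
  let pC : C ⟶ kk := C ↘ kk
  haveI : IsLocallyNoetherian X := LocallyOfFiniteType.isLocallyNoetherian pX
  haveI : CompactSpace X := QuasiCompact.compactSpace_of_compactSpace pX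
  haveI : IsNoetherian X := {}
  haveI : IsLocallyNoetherian C := LocallyOfFiniteType.isLocallyNoetherian pC
  haveI : IsLocallyNoetherian (pullback pX pC : Scheme.{u}) :=
    LocallyOfFiniteType.isLocallyNoetherian (pullback.fst pX pC)
  haveI : AlgebraicGeometry.IsReduced C := Groth.Agent.Lib.GrpSch.isReduced_of_smooth_field pC
  haveI : IsIntegral C := isIntegral_of_irreducibleSpace_of_isReduced C
  have hcne := Groth.Agent.Lib.SmoothCurve.Stalk.ne_genericPoint_of_isClosed
    (by rw [hdimC]; exact one_ne_zero) hc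
  have hdvr := Groth.Agent.Lib.SmoothCurve.Stalk.isDiscreteValuationRing_stalk pC hdimC.le hc hcne
  let pt : kk ⟶ C := pointOfClosedPoint pC c hc
  have hpt : pt ≫ pC = 𝟙 kk := pointOfClosedPoint_comp pC c hc
  let s : X ⟶ pullback pX pC := pullback.lift (𝟙 X) (pX ≫ pt)
    (by rw [Category.assoc, hpt, Category.comp_id, Category.id_comp])
  have hs : s ≫ pullback.fst pX pC = 𝟙 X := pullback.lift_fst _ _ _
  have hs2 : s ≫ pullback.snd pX pC = pX ≫ pt := pullback.lift_snd _ _ _
  haveI : IsIso (s ≫ pullback.fst pX pC) := by rw [hs]; infer_instance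
  haveI : IsIso (pt ≫ pC) := by rw [hpt]; infer_instance
  haveI : IsPreimmersion pt := by dsimp only [pt, pointOfClosedPoint]; infer_instance
  have H : IsPullback s pX (pullback.snd pX pC) pt :=
    (IsPullback.of_bot (v₂₁ := pullback.fst pX pC) (v₂₂ := pC) (h₃₁ := pX)
      (IsPullback.of_vert_isIso ⟨by rw [hs, hpt]; simp⟩) hs2.symm
      (IsPullback.of_hasPullback pX pC).flip).flip
  haveI : IsPreimmersion s := MorphismProperty.of_isPullback H.flip inferInstance
  let G := (Scheme.Modules.pullback (pullback.fst pX pC)).obj F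
  have hG : Coh.IsCoh G := Groth.Agent.Lib.Cyc.FP.Stalk.isCoh_pullback _ hF
  have hdepth : ∀ z : (pullback pX pC : Scheme.{u}), z ∉ U →
      2 ≤ LocCoh.depth ((pullback pX pC : Scheme.{u}).presheaf.stalk z) (G.presheaf.stalk z) := by
    intro z hz
    have hzY : z ∈ Y := by_contra fun h => hz (show z ∈ (U : Set _) by rw [hU]; exact h)
    let P := pointOfClosedPoint (pullback.fst pX pC ≫ pX) z (hYcl z hzY)
    have hP : P ≫ pullback.fst pX pC ≫ pX = 𝟙 _ := pointOfClosedPoint_comp _ z (hYcl z hzY)
    have hP2 : P ≫ pullback.snd pX pC = pt := by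
      refine ext_of_apply_closedPoint_eq pC
        (by rw [Category.assoc, ← pullback.condition]; exact hP) hpt ?_
      rw [Scheme.Hom.comp_apply, pointOfClosedPoint_apply, pointOfClosedPoint_apply]
      exact hYc z hzY
    have hPs : (P ≫ pullback.fst pX pC) ≫ s = P := by
      apply pullback.hom_ext
      · rw [Category.assoc, hs, Category.comp_id]
      · rw [Category.assoc, hs2, hP2, ← Category.assoc, Category.assoc P, hP, Category.id_comp]
    have hzs : s ((pullback.fst pX pC).base z) = z := by
      have := congrArg (fun φ => φ (IsLocalRing.closedPoint k)) hPs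
      simpa only [Scheme.Hom.comp_apply, P, pointOfClosedPoint_apply] using this
    have hxcl : IsClosed ({(pullback.fst pX pC).base z} : Set X) := by
      have : ({(pullback.fst pX pC).base z} : Set X) = s ⁻¹' {z} := by
        ext y
        simp only [Set.mem_singleton_iff, Set.mem_preimage]
        exact ⟨fun h => h ▸ hzs, fun h => s.isEmbedding.injective (h.trans hzs.symm)⟩
      rw [this]
      exact (hYcl z hzY).preimage s.continuous
    have key := fun hC => two_le_depth_section hpure (pullback.fst pX pC) (pullback.snd pX pC) s hs H F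
      htF _ hxcl hC
    rw [hzs] at key
    refine key ?_
    rw [hYc z hzY]
    exact hdvr
  refine Scheme.Modules.Hom.isIso_iff_isIso_app.2 fun V => ?_
  rw [Scheme.Modules.restrictAdjunction_unit_app_app]
  have hb := Groth.Agent.S1575.result _ G hG U hdepth V
  have e : U.ι ''ᵁ (U.ι ⁻¹ᵁ V) = V ⊓ U := by
    rw [Scheme.Hom.image_preimage_eq_opensRange_inf, Scheme.Opens.opensRange_ι, inf_comm]
  haveI : IsIso (G.presheaf.map (homOfLE (inf_le_left : V ⊓ U ≤ V)).op) :=
    (ConcreteCategory.isIso_iff_bijective _).2 hb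
  rw [show (homOfLE (U.ι.image_preimage_le V)).op =
    (homOfLE (inf_le_left : V ⊓ U ≤ V)).op ≫ (eqToHom e).op from rfl, Functor.map_comp]
  exact IsIso.comp_isIso' ‹_› (Functor.map_isIso _ _)

end Groth.Agent.S18915
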