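import Groth.Statements.S18916
import Groth.Agent.Lib.RefHull.HomSh
import Groth.Agent.H52.FBase.NoEmb

set_option autoImplicit false
universe u
open CategoryTheory CategoryTheory.Limits AlgebraicGeometry
open TFNodal

namespace Groth.Agent.S18916

/-- Let k be an algebraically closed field of characteristic zero, X a reduced proper curve over k (a
proper k-scheme of dimension one) without isolated points (no closed point is open, i.e. X is
one-dimensional at every point) and F a coherent O_X-module. Then the dual 𝓗om(F, O_X) is torsion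
free: no closed point of X is an associated point of it. -/
theorem result
    (k : Type u) [Field k] [IsAlgClosed k] [CharZero k]
    (X : Scheme.{u}) [X.Over (Spec (CommRingCat.of k))] [IsProper (X ↘ Spec (CommRingCat.of k))]
    [AlgebraicGeometry.IsReduced X] (hdim : topologicalKrullDim X = 1)
    (hpure : ∀ x : X, IsClosed ({x} : Set X) → ¬ IsOpen ({x} : Set X))
    (F : X.Modules) (hF : Coh.IsCoh F) (x : X) (hx : IsClosed ({x} : Set X)) :
    ¬ Curv2.IsAssPoint (RefHull.dual F) x := by
  intro h
  haveI : IsLocallyNoetherian X := LocallyOfFiniteType.isLocallyNoetherian (X ↘ Spec (CommRingCat.of k))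
  haveI : CompactSpace X := QuasiCompact.compactSpace_of_compactSpace (X ↘ Spec (CommRingCat.of k))
  haveI : IsNoetherian X := {}
  have hR : ¬ Groth.Agent.Lib.AssPt.Basic.MaxAssoc (X.presheaf.stalk x) := fun hm => by
    have hmax := (Groth.Agent.Lib.AssPt.Basic.maxAssoc_iff_maximalPoint x).1 hm
    have hfin : (genericPoints X).Finite :=
      ((TopologicalSpace.NoetherianSpace.finite_irreducibleComponents (α := X)).preimage
        (f := fun η : X => closure ({η} : Set X)) (fun a _ b _ e => by
          exact ((specializes_iff_mem_closure.2 ((show closure ({a} : Set X) = closure {b} from e) ▸ subset_closure rfl : a ∈ closure {b})).antisymm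
            (specializes_iff_mem_closure.2 ((show closure ({b} : Set X) = closure {a} from e.symm) ▸ subset_closure rfl : b ∈ closure {a}))).eq.symm)).subset
        fun η hη => hη
    let C : Set X := ⋃ η ∈ genericPoints X \ {x}, closure {η}
    have hC : IsClosed C := (hfin.subset Set.sdiff_subset).isClosed_biUnion fun _ _ => isClosed_closure
    refine hpure x hx ?_
    have : ({x} : Set X) = Cᶜ := by
      ext z
      constructor
      · rintro rfl hzC
        obtain ⟨η, hη, hz⟩ := Set.mem_iUnion₂.1 hzC
        exact hη.2 (hmax η (specializes_iff_mem_closure.2 hz))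
      · intro hz
        obtain ⟨η, hη, hηz⟩ := Groth.Agent.Lib.Flat55.GenericPoints.exists_specializes z
        by_contra hne
        refine hz (Set.mem_iUnion₂.2 ⟨η, ⟨hη, ?_⟩, hηz.mem_closure⟩)
        rintro rfl
        exact hne (by have := hηz.mem_closure; rwa [hx.closure_eq] at this)
    rw [this]
    exact hC.isOpen_compl
  obtain ⟨hp, v, hv⟩ := h
  let φ := RefHull.evalStalk F (Coh.structureModule X) x v
  have hinj := Groth.Agent.Lib.RefHull.HomSh.evalStalk_injective (G := Coh.structureModule X) hF x
  have hv0 : v ≠ 0 := by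
    rintro rfl
    exact hp.ne_top (eq_top_iff.mpr fun z _ => by
      rw [hv]; exact Ideal.le_radical (Submodule.mem_colon_singleton.mpr (by simp)))
  obtain ⟨w, hw⟩ : ∃ w, φ w ≠ 0 := by
    by_contra hcon
    push Not at hcon
    exact hv0 (hinj (by rw [map_zero]; exact LinearMap.ext hcon))
  let e := Groth.Agent.Lib.AssPt.Basic.unitStalkEquiv (X := X) x
  refine hR (Groth.Agent.H52.FBase.NoEmb.maxAssoc_iff.2 ⟨e.symm (φ w),
    fun h0 => hw (e.symm.injective (h0.trans (map_zero _).symm)), fun a ha => ?_⟩)
  rw [hv, Ideal.mem_radical_iff] at ha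
  obtain ⟨n, hn⟩ := ha
  rw [Submodule.mem_colon_singleton, Submodule.mem_bot] at hn
  refine ⟨n, ?_⟩
  have h1 : (a ^ n) • φ = 0 :=
    (map_smul (RefHull.evalStalk F (Coh.structureModule X) x) (a ^ n) v).symm.trans
      ((congrArg _ hn).trans (map_zero _))
  have h2 : (a ^ n) • φ w = 0 := LinearMap.congr_fun h1 w
  rw [← smul_eq_mul, ← map_smul, h2, map_zero]

end Groth.Agent.S18916
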