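import Groth.Statements.S18917
import Groth.Agent.Lib.ShStab.Linear
import Groth.Agent.Lib.CurveBundle.Coherent

set_option autoImplicit false
universe u
open CategoryTheory CategoryTheory.Limits AlgebraicGeometry
open VBCurve

namespace Groth.Agent.S18917

/-- Let k be an algebraically closed field of characteristic zero, Y a smooth proper k-scheme of
dimension one, possibly disconnected, L an ample invertible O_Y-module (the polarization) and E a
nonzero finite locally free O_Y-module. For an open and closed U ⊆ Y with inclusion j write E_U =
j_*(E|_U), the part of E supported on U (a direct summand of E), χ for the Euler characteristic over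
k and α(M) = χ(M ⊗ L) − χ(M) for the multiplicity. Then E is semistable of dimension one with
respect to L if and only if, for every connected component U of Y with E_U ≠ 0, the module E_U is
semistable of dimension one with respect to L and has the same reduced Hilbert polynomial as E, that
is χ(E_U) · α(E) = χ(E) · α(E_U). (Equality of reduced Hilbert polynomials is the source's condition
that the slope of E equals the slope of E|_U plus the correction term attached to the component.) -/
theorem result
    (k : Type u) [Field k] [IsAlgClosed k] [CharZero k]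
    (Y : Scheme.{u}) [Y.Over (Spec (CommRingCat.of k))] [IsProper (Y ↘ Spec (CommRingCat.of k))]
    [Smooth (Y ↘ Spec (CommRingCat.of k))] (hdim : topologicalKrullDim Y = 1)
    (L : Y.Modules) (hL : CohB1.IsAmple L)
    (E : Y.Modules) (hE : FlatMod.IsFinLocFree E) (hE0 : ¬ IsZero E) :
    ShStab.IsSemistable k Y L E 1 ↔
      ∀ U : Y.Opens, IsClopen (U : Set Y) → _root_.IsConnected (U : Set Y) →
        ¬ IsZero ((Scheme.Modules.pushforward U.ι).obj (E.restrict U.ι)) →
        ShStab.IsSemistable k Y L ((Scheme.Modules.pushforward U.ι).obj (E.restrict U.ι)) 1 ∧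
          Curv2.euler k Y ((Scheme.Modules.pushforward U.ι).obj (E.restrict U.ι)) *
              (Curv2.euler k Y (CohB1.tensorMod E L) - Curv2.euler k Y E) =
            Curv2.euler k Y E *
              (Curv2.euler k Y (CohB1.tensorMod ((Scheme.Modules.pushforward U.ι).obj (E.restrict U.ι)) L) -
                Curv2.euler k Y ((Scheme.Modules.pushforward U.ι).obj (E.restrict U.ι))) := by
  open Groth.Agent.Lib in
    haveI := Curves.GlobalSections.isNoetherian_of_proper k Y
    have hEc : Coh.IsCoh E := CurveBundle.Coherent.isCoh hE
    constructor
    · intro hs U hU _ h0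
      obtain ⟨h1, h2⟩ := ShStab.Clopen.part hL hU hs h0
      exact ⟨h1, (ShStab.Linear.redEq_iff hL hdim.le h1.1 hEc).1 h2⟩
    · intro h
      haveI : IsIso (RefHull.PushU.un (⊤ : Y.Opens) E) := by
        rw [Modules.StalkModule.isIso_iff_stalkMapₗ_bijective]
        exact fun y => RefHull.PushU.unit_bijective ⊤ trivial
      let e : E ≅ RefHull.PushU.P (⊤ : Y.Opens) E := asIso (RefHull.PushU.un (⊤ : Y.Opens) E)
      by_cases hR : StabCat.alpha 1 (ShStab.SubLattice.hp k L E) = 0
      · exfalso
        have hd := ShStab.Linear.natDegree_le (k := k) hL hdim.le hEc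
        obtain ⟨h1, -⟩ := ShStab.Clopen.sum_semistable (k := k) hL
          (fun G hG => ShStab.Linear.natDegree_le hL hdim.le hG) hEc (R := Polynomial.X)
          (by simp [StabCat.alpha]) (fun U hU hc h0 => by
            exfalso
            obtain ⟨hs, he⟩ := h U hU hc h0
            have hr := (ShStab.Linear.redEq_iff hL hdim.le hs.1 hEc).2 he
            have hp := ShStab.Saturation.alpha_pos (k := k) hL hs.1 hs.2.1 hs.2.2.1
            unfold StabCat.RedEq at hr
            rw [hR, zero_smul] at hr
            exact hE0 ((ShStab.Interval.isZero_iff (k := k) hL hEc).2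
              ((smul_eq_zero.1 hr.symm).resolve_left hp.ne')))
          ⊤ isOpen_univ (fun hz => hE0 (hz.of_iso e))
        have hs := ShStab.FactorMatch.ss_of_iso hL h1 e
        exact (ShStab.Saturation.alpha_pos (k := k) hL hs.1 hs.2.1 hs.2.2.1).ne' hR
      · exact ShStab.FactorMatch.ss_of_iso hL
          ((ShStab.Clopen.sum_semistable (k := k) hL (fun G hG => ShStab.Linear.natDegree_le hL hdim.le hG) hEc hR
            (fun U hU hc h0 => ⟨(h U hU hc h0).1,
              (ShStab.Linear.redEq_iff hL hdim.le (h U hU hc h0).1.1 hEc).2 (h U hU hc h0).2⟩)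
            ⊤ isOpen_univ (fun hz => hE0 (hz.of_iso e))).1) e

end Groth.Agent.S18917
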