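import Groth.Statements.S18918
import Groth.Agent.Lib.EtSplit.Basic
import Groth.Agent.H81.PushLocFree

set_option backward.isDefEq.respectTransparency false
set_option linter.style.haveILetI false

set_option autoImplicit false
universe u
open CategoryTheory CategoryTheory.Limits AlgebraicGeometry
open FEt

namespace Groth.Agent.S18918

open Groth.Agent.Lib.EtSplit.Basic

theorem eq_of_agree {Z B : Scheme.{u}} (p : Z ⟶ B) [IsFinite p] [Etale p] [ConnectedSpace B]
    (s t : B ⟶ Z) (hs : s ≫ p = 𝟙 B) (ht : t ≫ p = 𝟙 B) {K : Type u} [Field K]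
    (w : Spec (CommRingCat.of K) ⟶ B) (hw : w ≫ s = w ≫ t) : s = t := by
  let m : B ⟶ pullback p p := pullback.lift s t (hs.trans ht.symm)
  let q := pullback.snd (pullback.diagonal p) m
  haveI : IsOpenImmersion (pullback.diagonal p) := inferInstance
  haveI : IsOpenImmersion q := inferInstanceAs (IsOpenImmersion (pullback.snd (pullback.diagonal p) m))
  haveI : IsClosedImmersion q := inferInstanceAs (IsClosedImmersion (pullback.snd (pullback.diagonal p) m))
  let e : Spec (CommRingCat.of K) ⟶ pullback (pullback.diagonal p) m := pullback.lift (w ≫ s) w (by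
    apply pullback.hom_ext <;> simp [m, hw])
  have hclopen : IsClopen (Set.range q) :=
    ⟨(inferInstance : IsClosedImmersion q).isClosedEmbedding.isClosed_range,
      IsOpenImmersion.isOpen_range q⟩
  have huniv : Set.range q = Set.univ := hclopen.eq_univ ⟨_, e (IsLocalRing.closedPoint K), rfl⟩
  haveI : Surjective q := ⟨Set.range_eq_univ.mp huniv⟩
  haveI : IsIso q := (isIso_iff_isOpenImmersion_and_surjective q).mpr ⟨inferInstance, inferInstance⟩
  rw [← cancel_epi q]
  have h1 : pullback.fst (pullback.diagonal p) m = q ≫ s := by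
    have := congrArg (fun g => g ≫ pullback.fst p p) (pullback.condition (f := pullback.diagonal p) (g := m))
    simpa [m, q] using this
  have h2 : pullback.fst (pullback.diagonal p) m = q ≫ t := by
    have := congrArg (fun g => g ≫ pullback.snd p p) (pullback.condition (f := pullback.diagonal p) (g := m))
    simpa [m, q] using this
  exact h1.symm.trans h2

/-- Let f : X → Y be a finite étale morphism of degree n (f_*O_X locally free of rank n) and φ : X' → Y
a morphism from a nonempty connected scheme X'. Then the Y-morphisms X' → X (equivalently, the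
sections of X ×_Y X' → X') form a finite set with at most n elements, and there are exactly n of
them if and only if the covering X ×_Y X' → X' is trivial, i.e. X ×_Y X' is isomorphic over X' to
the disjoint union of n copies of X'. The source works with separated Noetherian schemes over an
algebraically closed field of characteristic zero; that setting is not needed for the statement. -/
theorem result
    {X Y X' : Scheme.{u}} (f : X ⟶ Y) [IsFinite f] [Etale f] (n : ℕ)
    (hdeg : FlatMod.IsFinLocFreeOfRank n ((Scheme.Modules.pushforward f).obj (Coh.structureModule X)))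
    (φ : X' ⟶ Y) [Nonempty X'] [ConnectedSpace X'] :
    Finite (Over.mk φ ⟶ Over.mk f) ∧ Nat.card (Over.mk φ ⟶ Over.mk f) ≤ n ∧
      (Nat.card (Over.mk φ ⟶ Over.mk f) = n ↔
        ∃ e : pullback f φ ≅ ∐ fun _ : Fin n => X',
          e.hom ≫ Sigma.desc (fun _ : Fin n => 𝟙 X') = pullback.snd f φ) := by
  classical
  have hr : ∀ y, f.finrank y = n := fun y => by
    obtain ⟨U, hy, ⟨i⟩⟩ := hdeg y
    exact Groth.Agent.H81.PushLocFree.finrank_eq hy i
  let p := pullback.snd f φ
  haveI : IsFinite p := inferInstanceAs (IsFinite (pullback.snd f φ))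
  haveI : Etale p := inferInstanceAs (Etale (pullback.snd f φ))
  have hrp : ∀ x, p.finrank x = n := fun x => by
    rw [Scheme.Hom.finrank_pullback_snd, hr]
  let S := {s : X' ⟶ pullback f φ // s ≫ p = 𝟙 X'}
  let eH : (Over.mk φ ⟶ Over.mk f) ≃ S :=
    ({ toFun := fun a => ⟨a.left, Over.w a⟩
       invFun := fun a => Over.homMk a.1 a.2
       left_inv := fun a => by ext; rfl
       right_inv := fun a => rfl } : (Over.mk φ ⟶ Over.mk f) ≃ {a : X' ⟶ X // a ≫ f = φ}).trans
      (sectionsEquiv f φ).symm
  let ev : ∀ {K : Type u} [Field K] (ω : Spec (CommRingCat.of K) ⟶ X'), S →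
      {c : Spec (CommRingCat.of K) ⟶ pullback f φ // c ≫ p = ω} := fun ω s =>
    ⟨ω ≫ s.1, by rw [Category.assoc, s.2, Category.comp_id]⟩
  have hev : ∀ {K : Type u} [Field K] (ω : Spec (CommRingCat.of K) ⟶ X'), Function.Injective (ev ω) :=
    fun ω s t h => Subtype.ext (eq_of_agree p _ _ s.2 t.2 ω (congrArg Subtype.val h))
  have hcard : ∀ {K : Type u} [Field K] [IsAlgClosed K] (ω : Spec (CommRingCat.of K) ⟶ X'),
      Finite {c : Spec (CommRingCat.of K) ⟶ pullback f φ // c ≫ p = ω} ∧
      Nat.card {c : Spec (CommRingCat.of K) ⟶ pullback f φ // c ≫ p = ω} = n := by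
    intro K _ _ ω
    have h := natCard_points p ω
    rw [hrp] at h
    refine ⟨?_, h⟩
    rcases Nat.eq_zero_or_pos n with hn | hn
    · haveI : IsEmpty {c : Spec (CommRingCat.of K) ⟶ pullback f φ // c ≫ p = ω} := ⟨fun c => by
        have h1 := Scheme.Hom.one_le_finrank_map p (c.1 (IsLocalRing.closedPoint K))
        rw [hrp, hn] at h1
        exact absurd h1 (by decide)⟩
      infer_instance
    · exact Nat.finite_of_card_ne_zero (by omega)
  obtain ⟨x₀⟩ := (inferInstance : Nonempty X')
  let ω₀ : Spec (CommRingCat.of (AlgebraicClosure (X'.residueField x₀))) ⟶ X' :=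
    Spec.map (CommRingCat.ofHom (algebraMap (X'.residueField x₀) _)) ≫ X'.fromSpecResidueField x₀
  haveI := (hcard ω₀).1
  haveI : Finite S := Finite.of_injective _ (hev ω₀)
  haveI : Finite (Over.mk φ ⟶ Over.mk f) := Finite.of_equiv _ eH.symm
  rw [Nat.card_congr eH]
  have hle : Nat.card S ≤ n := (hcard ω₀).2 ▸ Nat.card_le_card_of_injective _ (hev ω₀)
  refine ⟨inferInstance, hle, fun hn => ?_, ?_⟩
  · let σ' : Fin n ≃ S := (hn ▸ (Finite.equivFin S).symm : Fin n ≃ S)
    have hsplit : Split p (fun i => (σ' i).1) := by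
      refine ⟨fun i => (σ' i).2, fun K _ z => ?_⟩
      let L := AlgebraicClosure K
      let g : Spec (CommRingCat.of L) ⟶ Spec (CommRingCat.of K) :=
        Spec.map (CommRingCat.ofHom (algebraMap K L))
      obtain ⟨_, hc⟩ := hcard (g ≫ z ≫ p)
      haveI := (hcard (g ≫ z ≫ p)).1
      have hb : Function.Bijective (ev (g ≫ z ≫ p)) :=
        (Nat.bijective_iff_injective_and_card _).2 ⟨hev _, by rw [hn, hc]⟩
      obtain ⟨s, hs⟩ := hb.2 ⟨g ≫ z, by rw [Category.assoc]⟩
      have hs' : g ≫ z ≫ p ≫ s.1 = g ≫ z := by simpa [ev] using congrArg Subtype.val hs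
      haveI : IsOpenImmersion s.1 := by
        haveI : Etale (s.1 ≫ p) := by rw [s.2]; infer_instance
        haveI : Etale s.1 := Etale.of_comp s.1 p
        haveI : Mono s.1 := mono_of_mono_fac s.2
        exact IsOpenImmersion.of_flat_of_mono s.1
      have hmem : z (IsLocalRing.closedPoint K) ∈ Set.range s.1 := by
        have h1 := congrArg (fun m => m (IsLocalRing.closedPoint L)) hs'
        simp only [Scheme.Hom.comp_apply] at h1
        have : g (IsLocalRing.closedPoint L) = IsLocalRing.closedPoint K :=
          Subsingleton.elim (α := PrimeSpectrum K) _ _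
        rw [this] at h1
        exact ⟨_, h1⟩
      obtain ⟨v, hv⟩ := exists_lift_of_apply_mem s.1 z hmem
      have hz : z ≫ p ≫ s.1 = z := by
        rw [← hv]
        simp [reassoc_of% s.2]
      refine ⟨σ'.symm s, by simpa using hz, fun j hj => ?_⟩
      apply σ'.injective
      rw [Equiv.apply_symm_apply]
      exact Subtype.ext (eq_of_agree p _ _ (σ' j).2 s.2 (z ≫ p)
        (by rw [Category.assoc, Category.assoc, hz]; exact hj))
    obtain ⟨e, he⟩ := iso_of_split p _ hsplit
    refine ⟨e, ?_⟩
    rw [← Iso.eq_inv_comp]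
    exact Sigma.hom_ext _ _ fun i => by rw [Sigma.ι_desc, he i]
  · rintro ⟨e, he⟩
    refine le_antisymm hle ?_
    have hsec : ∀ i : Fin n, (Sigma.ι (fun _ : Fin n => X') i ≫ e.inv) ≫ p = 𝟙 X' := fun i => by
      rw [Category.assoc, show p = pullback.snd f φ from rfl, ← he]
      simp
    have hinj : Function.Injective (fun i : Fin n => (⟨_, hsec i⟩ : S)) := by
      intro i j h
      by_contra hne
      have h' : Sigma.ι (fun _ : Fin n => X') i = Sigma.ι (fun _ : Fin n => X') j :=
        (cancel_mono e.inv).mp (congrArg Subtype.val h)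
      have hd := disjoint_opensRange_sigmaι (fun _ : Fin n => X') i j hne
      rw [disjoint_iff, ← TopologicalSpace.Opens.coe_inj] at hd
      have hm : Sigma.ι (fun _ : Fin n => X') i x₀ ∈
          (Scheme.Hom.opensRange (Sigma.ι (fun _ : Fin n => X') i) ⊓
            Scheme.Hom.opensRange (Sigma.ι (fun _ : Fin n => X') j) : (∐ fun _ : Fin n => X').Opens) :=
        ⟨⟨x₀, rfl⟩, ⟨x₀, by rw [h']⟩⟩
      rw [← SetLike.mem_coe, hd] at hm
      exact hm
    have := Nat.card_le_card_of_injective _ hinj
    rwa [Nat.card_eq_fintype_card, Fintype.card_fin] at this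

end Groth.Agent.S18918
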