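import Groth.Statements.S18919
import Groth.Agent.Lib.TFNodal.Spread
import Groth.Agent.Lib.TFNodal.Node

set_option autoImplicit false
universe u
open CategoryTheory CategoryTheory.Limits AlgebraicGeometry
open TFNodal

namespace Groth.Agent.S18919

/-- Let k be an algebraically closed field of characteristic zero, X a connected proper curve over k (a
proper k-scheme of dimension one) whose closed points are smooth points or nodes, and F a coherent
torsion free O_X-module (every stalk a torsion free module over the local ring). Let x be a node at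
which the stalk F_x is isomorphic, as an O_{X,x}-module, to m_x^{⊕a} ⊕ O_{X,x}^{⊕b} (F of type given
by a and b at x). Then there is an open neighbourhood U of x containing no other node such that F|_U
is isomorphic to I|_U^{⊕a} ⊕ O_U^{⊕b}, where I ⊆ O_X is the ideal sheaf of the reduced closed point
x (existence of an isomorphism; the source produces one whose stalk at x is the given one). The
published statement assumes F of uniform multirank r with b = r − a; this row allows any a and b,
the argument being local at x. -/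
theorem result
    (k : Type u) [Field k] [IsAlgClosed k] [CharZero k]
    (X : Scheme.{u}) [X.Over (Spec (CommRingCat.of k))] [IsProper (X ↘ Spec (CommRingCat.of k))]
    [ConnectedSpace X] (hdim : topologicalKrullDim X = 1) (hnod : Curv2.AtWorstNodal k X)
    (F : X.Modules) (hF : Coh.IsCoh F) (htF : TorSh.IsTorsionFree F)
    (x : X) (hx : Curv2.IsNode k X x) (a b : ℕ)
    (hΦ : Nonempty (F.presheaf.stalk x ≃ₗ[X.presheaf.stalk x]
      ((Fin a → IsLocalRing.maximalIdeal (X.presheaf.stalk x)) × (Fin b → X.presheaf.stalk x)))) :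
    ∃ U : X.Opens, x ∈ U ∧ (∀ y ∈ U, Curv2.IsNode k X y → y = x) ∧
      Nonempty (F.restrict U.ι ≅
        (∐ fun _ : Fin a =>
            (ClSub.idealMod (Scheme.IdealSheafData.vanishingIdeal (⟨{x}, hx.1⟩ : TopologicalSpace.Closeds X))).restrict U.ι) ⨿
          (∐ fun _ : Fin b => Coh.structureModule (↑U : Scheme.{u}))) := by
  classical
  haveI : IsLocallyNoetherian X :=
    LocallyOfFiniteType.isLocallyNoetherian (X ↘ Spec (CommRingCat.of k))
  haveI := Groth.Agent.H25.Node.AtWorst.isReduced k X hnod
  haveI := Groth.Agent.Lib.Curves.GlobalSections.noetherianSpace_of_proper k X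
  have hfin : {y : X | Curv2.IsNode k X y}.Finite := by
    obtain ⟨V, hd, hV⟩ := (S1549.result k X).1 (Groth.Agent.H25.Node.AtWorst.geometricallyReduced k X hnod)
    refine (Groth.Agent.Lib.Curves.Birational.finite_compl (X ↘ Spec (CommRingCat.of k)) hdim.le V.2 hd).subset
      fun y hy hyV => ?_
    have h0 := Groth.Agent.Lib.Curves.NormGenus.deltaInv_smooth k X
      ((Groth.Agent.H25.Node.AtWorst.exists_smooth_iff k X y).1 ⟨V, hyV, hV⟩)
    rw [Groth.Agent.Lib.Curves.NormGenus.deltaInv_node k X hy] at h0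
    exact one_ne_zero h0
  have hclosed : IsClosed ({y : X | Curv2.IsNode k X y} \ {x}) := by
    rw [← Set.biUnion_of_singleton ({y : X | Curv2.IsNode k X y} \ {x})]
    exact hfin.sdiff.isClosed_biUnion fun y hy => hy.1.1
  let V : X.Opens := ⟨({y : X | Curv2.IsNode k X y} \ {x})ᶜ, hclosed.isOpen_compl⟩
  set I := ClSub.idealMod (Scheme.IdealSheafData.vanishingIdeal (⟨{x}, hx.1⟩ : TopologicalSpace.Closeds X))
  haveI := Groth.Agent.Lib.Ample.QAffCrit.isQCoh_idealMod
    (Scheme.IdealSheafData.vanishingIdeal (⟨{x}, hx.1⟩ : TopologicalSpace.Closeds X))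
  have hI : Coh.IsCoh I := by
    refine Groth.Agent.Lib.CohBasics.Closure.isCoh_of_finite_sections fun W hW => ?_
    haveI : IsNoetherianRing Γ(X, W) := IsLocallyNoetherian.component_noetherian ⟨W, hW⟩
    haveI : Mono (ClSub.idealModι (Scheme.IdealSheafData.vanishingIdeal
        (⟨{x}, hx.1⟩ : TopologicalSpace.Closeds X))) :=
      (Groth.Agent.Lib.ClSub.Quot.idealSeq_shortExact _).mono_f
    let f : Γ(I, W) →ₗ[Γ(X, W)] Γ(X, W) :=
      { toFun := fun t => ((ClSub.idealModι _).app W t : Γ(X, W))
        map_add' := fun s t => map_add _ s t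
        map_smul' := fun c t => Scheme.Modules.Hom.app_smul _ c t }
    exact Module.Finite.of_injective f
      ((Groth.Agent.Lib.Modules.Stalk.mono_iff_app_injective _).1 inferInstance W)
  have hG : ∀ (d : ℕ) (M : X.Modules), Coh.IsCoh M → Coh.IsCoh (∐ fun _ : Fin d => M) := fun d M hM => by
    haveI : HasFiniteBiproducts X.Modules := HasFiniteBiproducts.of_hasFiniteProducts
    exact Groth.Agent.Lib.CohBasics.Closure.isCoh_of_iso (biproduct.isoCoproduct fun _ : Fin d => M)
      (Groth.Agent.Lib.CohDelta.IdealMul.DevExt.isCoh_biproduct _ fun _ => hM)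
  obtain ⟨e₁⟩ := Groth.Agent.Lib.TFNodal.Spread.exists_stalk_coprod
    (∐ fun _ : Fin a => I) (∐ fun _ : Fin b => Coh.structureModule X) x
  obtain ⟨e₂⟩ := Groth.Agent.Lib.TFNodal.Spread.exists_stalk_coproduct (fun _ : Fin a => I) x
  obtain ⟨e₃⟩ := Groth.Agent.Lib.TFNodal.Spread.exists_stalk_coproduct (fun _ : Fin b => Coh.structureModule X) x
  obtain ⟨e₄⟩ := Groth.Agent.Lib.TFNodal.Spread.exists_stalk_pointIdeal hx.1
  obtain ⟨φ⟩ := hΦ
  obtain ⟨U, hxU, hUV, ⟨i⟩⟩ := Groth.Agent.Lib.TFNodal.Spread.exists_iso_restrict hF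
    (Groth.Agent.Lib.TFNodal.Spread.isCoh_coprod (hG a I hI)
      (hG b _ Groth.Agent.Lib.RefHull.Reflexive.isCoh_structure))
    (φ.trans ((LinearEquiv.prodCongr (LinearEquiv.piCongrRight fun _ => e₄.symm)
      (LinearEquiv.piCongrRight fun _ => (Groth.Agent.Lib.RefHull.Reflexive.oEquiv x).symm)).trans
        (e₁.trans (LinearEquiv.prodCongr e₂ e₃)).symm))
    (V := V) (fun h => h.2 rfl)
  refine ⟨U, hxU, fun y hy hn => by_contra fun hne => hUV hy ⟨hn, hne⟩, ⟨?_⟩⟩
  haveI : PreservesColimitsOfSize.{0, 0} (Scheme.Modules.restrictFunctor U.ι) :=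
    (Scheme.Modules.restrictAdjunction U.ι).leftAdjoint_preservesColimits
  exact i ≪≫ (PreservesColimitPair.iso (Scheme.Modules.restrictFunctor U.ι) _ _).symm ≪≫
    coprod.mapIso (PreservesCoproduct.iso (Scheme.Modules.restrictFunctor U.ι) _)
      (PreservesCoproduct.iso (Scheme.Modules.restrictFunctor U.ι) _ ≪≫
        Sigma.mapIso fun _ => Scheme.Modules.restrictUnitIso U.ι)

end Groth.Agent.S18919
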