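import Groth.Statements.S18920
import Mathlib.Tactic.Ring

set_option autoImplicit false
universe u
open CAlg

namespace Groth.Agent.S18920

/-- Let M be a commutative monoid, s ≥ 1, and ξ_1, …, ξ_s elements of M with ξ_i ^ (s!/i) = 1 for 1 ≤ i
≤ s (an (s!/i)-th root of unity for each i). Suppose that for every finitely supported function d on
{1, …, s} with Σ_i i · d_i = s! the product ∏_i ξ_i ^ d_i equals 1. Then ξ_1 ^ j = ξ_j for every 1 ≤
j ≤ s. (The source works with roots of unity in the complex numbers.) -/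
theorem result
    {M : Type u} [CommMonoid M] (s : ℕ) (hs : 1 ≤ s) (ξ : ℕ → M)
    (hξ : ∀ i : ℕ, 1 ≤ i → i ≤ s → ξ i ^ (s.factorial / i) = 1)
    (hprod : ∀ d : ℕ →₀ ℕ, (∀ i ∈ d.support, 1 ≤ i ∧ i ≤ s) →
      (d.sum fun i n => i * n) = s.factorial → (d.prod fun i n => ξ i ^ n) = 1)
    (j : ℕ) (hj : 1 ≤ j) (hjs : j ≤ s) :
    ξ 1 ^ j = ξ j := by
  rcases eq_or_lt_of_le hj with rfl | hj1
  · rw [pow_one]
  obtain ⟨q, hq⟩ := Nat.dvd_factorial (show 0 < j by omega) hjs
  have hq0 : 0 < q := Nat.pos_of_ne_zero (by rintro rfl; simp at hq; exact s.factorial_ne_zero hq)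
  have hxj : ξ j ^ q = 1 := by
    simpa [hq, Nat.mul_div_cancel_left q (show 0 < j by omega)] using hξ j hj hjs
  have h := hprod (Finsupp.single 1 j + Finsupp.single j (q - 1)) (by
    intro i hi
    have := Finsupp.support_add hi
    rcases Finset.mem_union.1 this with h | h <;> have := Finsupp.support_single_subset h <;> simp at this <;> omega) (by
    rw [Finsupp.sum_add_index' (fun _ => by simp) (fun _ _ _ => mul_add _ _ _), Finsupp.sum_single_index (by simp),
      Finsupp.sum_single_index (by simp), hq, one_mul]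
    rcases q with _ | q
    · omega
    · simp only [Nat.add_sub_cancel]; ring)
  rw [Finsupp.prod_add_index' (fun _ => by simp) (fun _ _ _ => pow_add _ _ _), Finsupp.prod_single_index (by simp),
    Finsupp.prod_single_index (by simp)] at h
  calc ξ 1 ^ j = ξ 1 ^ j * ξ j ^ q := by rw [hxj, mul_one]
    _ = ξ 1 ^ j * (ξ j ^ (q - 1) * ξ j) := by rw [← pow_succ, Nat.sub_add_cancel hq0]
    _ = ξ j := by rw [← mul_assoc, h, one_mul]

end Groth.Agent.S18920
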