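import Groth.Statements.S18921
import Groth.Agent.S18917
import Groth.Agent.Lib.ShStab.ComponentLine

set_option autoImplicit false
universe u
open CategoryTheory CategoryTheory.Limits AlgebraicGeometry
open VBCurve

namespace Groth.Agent.S18921

/-- Let k be an algebraically closed field of characteristic zero, Y a smooth proper k-scheme of
dimension one, possibly disconnected but with no isolated points (every connected component is a
curve), and L an ample invertible O_Y-module. Say (Y, L) has property P when for any two finite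
locally free O_Y-modules E, F with nowhere-zero stalks (support equal to Y) that are semistable of
dimension one with respect to L, the tensor product E ⊗ F is again semistable. If (Y, L) has
property P then for every connected component U of Y, with j : U → Y the inclusion, O_U =
j_*(O_Y|_U) and L_U = j_*(L|_U), the Euler characteristics over k satisfy χ(O_U) · (χ(L) − χ(O_Y)) =
χ(O_Y) · (χ(L_U) − χ(O_U)); in words, χ(O_U)/deg(L|_U) is the same for all components and equals
χ(O_Y)/deg L. -/
theorem result
    (k : Type u) [Field k] [IsAlgClosed k] [CharZero k]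
    (Y : Scheme.{u}) [Y.Over (Spec (CommRingCat.of k))] [IsProper (Y ↘ Spec (CommRingCat.of k))]
    [Smooth (Y ↘ Spec (CommRingCat.of k))] (hdim : topologicalKrullDim Y = 1)
    (hpure : ∀ y : Y, ¬ IsOpen ({y} : Set Y))
    (L : Y.Modules) (hL : CohB1.IsAmple L)
    (hP : ∀ E F : Y.Modules, FlatMod.IsFinLocFree E → FlatMod.IsFinLocFree F →
      (∀ y : Y, ¬ Subsingleton (E.presheaf.stalk y)) → (∀ y : Y, ¬ Subsingleton (F.presheaf.stalk y)) →
      ShStab.IsSemistable k Y L E 1 → ShStab.IsSemistable k Y L F 1 →
      ShStab.IsSemistable k Y L (CohB1.tensorMod E F) 1)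
    (U : Y.Opens) (hUc : IsClopen (U : Set Y)) (hUconn : _root_.IsConnected (U : Set Y)) :
    Curv2.euler k Y ((Scheme.Modules.pushforward U.ι).obj ((Coh.structureModule Y).restrict U.ι)) *
        (Curv2.euler k Y L - Curv2.euler k Y (Coh.structureModule Y)) =
      Curv2.euler k Y (Coh.structureModule Y) *
        (Curv2.euler k Y ((Scheme.Modules.pushforward U.ι).obj (L.restrict U.ι)) -
          Curv2.euler k Y ((Scheme.Modules.pushforward U.ι).obj ((Coh.structureModule Y).restrict U.ι))) := by
  open Groth.Agent.Lib Groth.Agent.Lib.ShStab Groth.Agent.Lib.CurveBundle in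
    classical
    haveI := Curves.GlobalSections.isNoetherian_of_proper k Y
    let ov : ∀ V : Y.Opens, (↑V : Scheme.{u}).Over (Spec (CommRingCat.of k)) := fun V =>
      SurfRR.Components.overOpen V
    obtain ⟨t, ht, hmem, hcov⟩ := ComponentLine.exists_cover (Y := Y)
    have hLi := (Ample.Pow.isAmple_iff.1 hL).1
    have hU : ComponentLine.IsComp U := ⟨hUc, hUconn⟩
    have hex : ∀ V : Y.Opens, ∃ M : (↑V : Scheme.{u}).Modules, ComponentLine.IsComp V →
        PicF.IsInvertible M ∧ @Curv2.euler k _ _ (ov V) M = 0 := by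
      intro V
      by_cases hV : ComponentLine.IsComp V
      · letI := ov V
        obtain ⟨hi, hp, hsm, hd1⟩ := ComponentLine.ctx_comp k hdim.le hpure hV
        haveI := hi; haveI := hp; haveI := hsm
        haveI := Ctx.ofIntegral k hd1
        obtain ⟨I, -, hIinv, hIdeg⟩ := Point.exists_point k hd1
        rw [(SlopeLine.line (k := k) hIinv).2.2.2] at hIdeg
        obtain ⟨M, hM, hMd⟩ := RankTwoExt.exists_deg (k := k) (TensorMod.Invertible.isInvertible_dual hIinv)
          (by rw [H0Crit.dg_dual hIinv, hIdeg]; rfl)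
          (- Curv2.euler k (↑V : Scheme.{u}) (Coh.structureModule (↑V : Scheme.{u})))
        refine ⟨M, fun _ => ⟨hM, ?_⟩⟩
        have := (SlopeLine.line (k := k) hM).2.2.2
        rw [hMd, Curv2.deg] at this
        simpa using this
      · exact ⟨Coh.structureModule _, fun h => absurd h hV⟩
    choose N hN using hex
    obtain ⟨E, hE, hEN⟩ := ComponentLine.exists_glue N fun V hV => (hN V hV).1
    have hEc := Coherent.isCoh (TensorMod.LocFree.of_rank (TensorMod.LocFree.of_isInvertible hE))
    have hne : ∀ {M : Y.Modules}, PicF.IsInvertible M → ∀ y, ¬ Subsingleton (M.presheaf.stalk y) := by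
      intro M hM y hy
      obtain ⟨b⟩ := Coherent.exists_basis_stalk (TensorMod.LocFree.of_isInvertible hM) y
      haveI := hy
      exact b.ne_zero 0 (Subsingleton.elim _ _)
    have hPne : ∀ {M : Y.Modules}, PicF.IsInvertible M → ∀ V, ComponentLine.IsComp V →
        ¬ IsZero ((Scheme.Modules.pushforward V.ι).obj (M.restrict V.ι)) := by
      intro M hM V hV hz
      obtain ⟨y, hy⟩ := hV.2.nonempty
      haveI := (Modules.Stalk.isZero_iff_stalk_subsingleton).1 hz y
      exact hne hM y (RefHull.PushU.unit_bijective V (M := M) hy).1.subsingleton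
    have hE0 : ¬ IsZero E := fun hz => by
      obtain ⟨y, -⟩ := hUconn.nonempty
      exact hne hE y ((Modules.Stalk.isZero_iff_stalk_subsingleton).1 hz y)
    have hEχ : ∀ V, ComponentLine.IsComp V → @Curv2.euler k _ _ (ov V) (E.restrict V.ι) = 0 := by
      intro V hV
      letI := ov V
      obtain ⟨e⟩ := hEN V hV
      rw [Curves.Euler.euler_eq_of_iso e]
      exact (hN V hV).2
    haveI := hEc.1
    have hEs : ShStab.IsSemistable k Y L E 1 := by
      refine (S18917.result k Y hdim L hL E (TensorMod.LocFree.of_rank (TensorMod.LocFree.of_isInvertible hE)) hE0).2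
        fun V hVc hVconn _ => ?_
      have hV : ComponentLine.IsComp V := ⟨hVc, hVconn⟩
      obtain ⟨e⟩ := hEN V hV
      refine ⟨FactorMatch.ss_of_iso hL (ComponentLine.semistable_line k hdim.le hpure hL hV (hN V hV).1)
        ((Scheme.Modules.pushforward V.ι).mapIso e), ?_⟩
      rw [ComponentLine.euler_P k hVc.1, hEχ V hV, ComponentLine.euler_eq_sum k hdim.le ht hcov hEc,
        Finset.sum_eq_zero fun W hW => hEχ W (ht W hW), zero_mul, zero_mul]
    have hF : PicF.IsInvertible (CohB1.tensorMod E E) := TensorMod.Invertible.isInvertible_tensorMod hE hE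
    have hFc := Coherent.isCoh (TensorMod.LocFree.of_rank (TensorMod.LocFree.of_isInvertible hF))
    have hFs := hP E E (TensorMod.LocFree.of_rank (TensorMod.LocFree.of_isInvertible hE))
      (TensorMod.LocFree.of_rank (TensorMod.LocFree.of_isInvertible hE)) (hne hE) (hne hE) hEs hEs
    obtain ⟨-, heq⟩ := (S18917.result k Y hdim L hL _ (TensorMod.LocFree.of_rank (TensorMod.LocFree.of_isInvertible hF))
      (fun hz => by
        obtain ⟨y, -⟩ := hUconn.nonempty
        exact hne hF y ((Modules.Stalk.isZero_iff_stalk_subsingleton).1 hz y))).1 hFs U hUc hUconn (hPne hF U hU)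
    have hval : ∀ V, ComponentLine.IsComp V →
        (@Curv2.euler k _ _ (ov V) ((CohB1.tensorMod E E).restrict V.ι) =
          - @Curv2.euler k _ _ (ov V) ((Coh.structureModule Y).restrict V.ι)) ∧
        (@Curv2.euler k _ _ (ov V) ((CohB1.tensorMod (CohB1.tensorMod E E) L).restrict V.ι) -
            @Curv2.euler k _ _ (ov V) ((CohB1.tensorMod E E).restrict V.ι) =
          @Curv2.euler k _ _ (ov V) (L.restrict V.ι) -
            @Curv2.euler k _ _ (ov V) ((Coh.structureModule Y).restrict V.ι)) := by
      intro V hV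
      letI := ov V
      obtain ⟨hi, hp, hsm, hd1⟩ := ComponentLine.ctx_comp k hdim.le hpure hV
      haveI := hi; haveI := hp; haveI := hsm
      haveI := Ctx.ofIntegral k hd1
      obtain ⟨e⟩ := hEN V hV
      obtain ⟨hM, hMχ⟩ := hN V hV
      have hLV : PicF.IsInvertible (L.restrict V.ι) := TensorMod.Invertible.isInvertible_of_iso
        ((Scheme.Modules.restrictFunctorIsoPullback V.ι).app L).symm (PicLoc.isInvertible_pullback V.ι hLi)
      have hMM := TensorMod.Invertible.isInvertible_tensorMod hM hM
      have i1 : (CohB1.tensorMod E E).restrict V.ι ≅ CohB1.tensorMod (N V) (N V) :=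
        TensorMod.Pullback.restrictTensorIso V.ι E E ≪≫ TensorMod.Basic.tensorIso e e
      have i2 : (CohB1.tensorMod (CohB1.tensorMod E E) L).restrict V.ι ≅
          CohB1.tensorMod (CohB1.tensorMod (N V) (N V)) (L.restrict V.ι) :=
        TensorMod.Pullback.restrictTensorIso V.ι _ L ≪≫ TensorMod.Basic.tensorIso i1 (Iso.refl _)
      obtain ⟨hc, -, -, hd⟩ := SlopeLine.line (k := k) hM
      obtain ⟨hcc, -, hg2, hd2⟩ := SlopeLine.line (k := k) hMM
      obtain ⟨-, -, -, hd3⟩ := SlopeLine.line (k := k) (TensorMod.Invertible.isInvertible_tensorMod hMM hLV)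
      obtain ⟨-, -, -, hd4⟩ := SlopeLine.line (k := k) hLV
      obtain ⟨-, t2⟩ := Twist.gr_dg_twist k hM hc
      obtain ⟨-, t3⟩ := Twist.gr_dg_twist k hLV hcc
      rw [(SlopeLine.line (k := k) hM).2.2.1, ← hd, ← hd2] at t2
      rw [hg2, ← hd2, ← hd3, ← hd4] at t3
      simp only [Curv2.deg, Nat.cast_one, one_mul, hMχ] at t2 t3
      rw [Curves.Euler.euler_eq_of_iso i1, Curves.Euler.euler_eq_of_iso i2,
        Curves.Euler.euler_eq_of_iso (Scheme.Modules.restrictUnitIso V.ι :
          (Coh.structureModule Y).restrict V.ι ≅ Coh.structureModule (↑V : Scheme.{u}))]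
      constructor <;> linarith
    have hOc : Coh.IsCoh (Coh.structureModule Y) :=
      Coherent.isCoh (TensorMod.LocFree.of_rank (TensorMod.LocFree.of_isInvertible (PicLoc.isInvertible_structureModule Y)))
    have hLc : Coh.IsCoh L := Coherent.isCoh (TensorMod.LocFree.of_rank (TensorMod.LocFree.of_isInvertible hLi))
    have hFLc := Twist.isCoh hLi hFc
    haveI := hFc.1; haveI := hOc.1; haveI := hLc.1
    have s1 : Curv2.euler k Y (CohB1.tensorMod E E) = - Curv2.euler k Y (Coh.structureModule Y) := by
      rw [ComponentLine.euler_eq_sum k hdim.le ht hcov hFc, ComponentLine.euler_eq_sum k hdim.le ht hcov hOc,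
        ← Finset.sum_neg_distrib]
      exact Finset.sum_congr rfl fun V hV => (hval V (ht V hV)).1
    have s2 : Curv2.euler k Y (CohB1.tensorMod (CohB1.tensorMod E E) L) - Curv2.euler k Y (CohB1.tensorMod E E) =
        Curv2.euler k Y L - Curv2.euler k Y (Coh.structureModule Y) := by
      rw [ComponentLine.euler_eq_sum k hdim.le ht hcov hFc, ComponentLine.euler_eq_sum k hdim.le ht hcov hOc,
        ComponentLine.euler_eq_sum k hdim.le ht hcov hFLc, ComponentLine.euler_eq_sum k hdim.le ht hcov hLc,
        ← Finset.sum_sub_distrib, ← Finset.sum_sub_distrib]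
      exact Finset.sum_congr rfl fun V hV => (hval V (ht V hV)).2
    have hPc := Clopen.isCoh_P hUc.1 hFc
    letI := ov U
    have s3 : Curv2.euler k Y (CohB1.tensorMod (RefHull.PushU.P U (CohB1.tensorMod E E)) L) =
        Curv2.euler k (↑U : Scheme.{u}) ((CohB1.tensorMod (CohB1.tensorMod E E) L).restrict U.ι) := by
      rw [ComponentLine.euler_of_supported k hdim.le hU (Twist.isCoh hLi hPc)
        (ComponentLine.tensor_off hUc.1 (fun y hy => Clopen.subsingleton_P hUc.1 _ hy) L)]
      exact Curves.Euler.euler_eq_of_iso (TensorMod.Pullback.restrictTensorIso U.ι _ L ≪≫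
        TensorMod.Basic.tensorIso ((asIso (Scheme.Modules.restrictAdjunction U.ι).counit).app _) (Iso.refl _) ≪≫
          (TensorMod.Pullback.restrictTensorIso U.ι (CohB1.tensorMod E E) L).symm)
    rw [s3, ComponentLine.euler_P k hUc.1, s2, s1, (hval U hU).2, (hval U hU).1] at heq
    rw [ComponentLine.euler_P k hUc.1, ComponentLine.euler_P k hUc.1]
    linarith

end Groth.Agent.S18921
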