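import Groth.Statements.S18923
import Groth.Agent.S18917
import Groth.Agent.S7637
import Groth.Agent.Lib.ShStab.ComponentLine

set_option autoImplicit false
universe u
open CategoryTheory CategoryTheory.Limits AlgebraicGeometry
open VBCurve

namespace Groth.Agent.S18923

/-- Let k be an algebraically closed field of characteristic zero, Y a smooth proper k-scheme of
dimension one, possibly disconnected but with no isolated points, and L an ample invertible
O_Y-module such that for every connected component U of Y, with j : U → Y, O_U = j_*(O_Y|_U) and L_U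
= j_*(L|_U), one has χ(O_U) · (χ(L) − χ(O_Y)) = χ(O_Y) · (χ(L_U) − χ(O_U)) (all correction terms of
the components vanish). Let E and F be finite locally free O_Y-modules with nowhere-zero stalks,
both semistable of dimension one with respect to L, and write α(M) = χ(M ⊗ L) − χ(M). Then χ(E ⊗
F)/α(E ⊗ F) = χ(E)/α(E) + χ(F)/α(F) − χ(O_Y)/(χ(L) − χ(O_Y)) as rational numbers; equivalently the
slope of E ⊗ F is the sum of the slopes of E and F. The published statement speaks of any two
semistable locally free sheaves; this row takes E and F with nowhere-zero stalks (support all of Y),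
without which E ⊗ F can be zero and the slopes undefined. -/
theorem result
    (k : Type u) [Field k] [IsAlgClosed k] [CharZero k]
    (Y : Scheme.{u}) [Y.Over (Spec (CommRingCat.of k))] [IsProper (Y ↘ Spec (CommRingCat.of k))]
    [Smooth (Y ↘ Spec (CommRingCat.of k))] (hdim : topologicalKrullDim Y = 1)
    (hpure : ∀ y : Y, ¬ IsOpen ({y} : Set Y))
    (L : Y.Modules) (hL : CohB1.IsAmple L)
    (hB : ∀ U : Y.Opens, IsClopen (U : Set Y) → _root_.IsConnected (U : Set Y) →
      Curv2.euler k Y ((Scheme.Modules.pushforward U.ι).obj ((Coh.structureModule Y).restrict U.ι)) * (Curv2.euler k Y L - Curv2.euler k Y (Coh.structureModule Y)) =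
        Curv2.euler k Y (Coh.structureModule Y) * (Curv2.euler k Y ((Scheme.Modules.pushforward U.ι).obj (L.restrict U.ι)) - Curv2.euler k Y ((Scheme.Modules.pushforward U.ι).obj ((Coh.structureModule Y).restrict U.ι))))
    (E F : Y.Modules) (hE : FlatMod.IsFinLocFree E) (hF : FlatMod.IsFinLocFree F)
    (hE0 : ∀ y : Y, ¬ Subsingleton (E.presheaf.stalk y)) (hF0 : ∀ y : Y, ¬ Subsingleton (F.presheaf.stalk y))
    (hEs : ShStab.IsSemistable k Y L E 1) (hFs : ShStab.IsSemistable k Y L F 1) :
    ((Curv2.euler k Y (CohB1.tensorMod E F) : ℚ) /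
        ((Curv2.euler k Y (CohB1.tensorMod (CohB1.tensorMod E F) L) - Curv2.euler k Y (CohB1.tensorMod E F) : ℤ) : ℚ)) =
      (Curv2.euler k Y E : ℚ) / ((Curv2.euler k Y (CohB1.tensorMod E L) - Curv2.euler k Y E : ℤ) : ℚ) +
        (Curv2.euler k Y F : ℚ) / ((Curv2.euler k Y (CohB1.tensorMod F L) - Curv2.euler k Y F : ℤ) : ℚ) -
        (Curv2.euler k Y (Coh.structureModule Y) : ℚ) /
          ((Curv2.euler k Y L - Curv2.euler k Y (Coh.structureModule Y) : ℤ) : ℚ) := by
  open Groth.Agent.Lib Groth.Agent.Lib.ShStab Groth.Agent.Lib.CurveBundle in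
    classical
    haveI := Curves.GlobalSections.isNoetherian_of_proper k Y
    let ov : ∀ V : Y.Opens, (↑V : Scheme.{u}).Over (Spec (CommRingCat.of k)) := fun V =>
      SurfRR.Components.overOpen V
    obtain ⟨t, ht, hmem, hcov⟩ := ComponentLine.exists_cover (Y := Y)
    have hLi := (Ample.Pow.isAmple_iff.1 hL).1
    have hEc := Coherent.isCoh hE
    have hFc := Coherent.isCoh hF
    have hEFc := Coherent.isCoh (TensorMod.LocFree.isFinLocFree_tensorMod hE hF)
    have hOc : Coh.IsCoh (Coh.structureModule Y) :=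
      Coherent.isCoh (TensorMod.LocFree.of_rank (TensorMod.LocFree.of_isInvertible (PicLoc.isInvertible_structureModule Y)))
    have hLc : Coh.IsCoh L := Coherent.isCoh (TensorMod.LocFree.of_rank (TensorMod.LocFree.of_isInvertible hLi))
    haveI := hOc.1; haveI := hLc.1
    let χ : ∀ V : Y.Opens, (↑V : Scheme.{u}).Modules → ℤ := fun V M => @Curv2.euler k _ _ (ov V) M
    let o : Y.Opens → ℤ := fun V => χ V ((Coh.structureModule Y).restrict V.ι)
    let d : Y.Opens → ℤ := fun V => χ V (L.restrict V.ι) - o V
    have part : ∀ M : Y.Modules, FlatMod.IsFinLocFree M → ShStab.IsSemistable k Y L M 1 →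
        (∀ y, ¬ Subsingleton (M.presheaf.stalk y)) →
        0 < Curv2.euler k Y (CohB1.tensorMod M L) - Curv2.euler k Y M ∧
        ∀ V, ComponentLine.IsComp V → ∃ r : ℕ, FlatMod.IsFinLocFreeOfRank r (M.restrict V.ι) ∧
          χ V ((CohB1.tensorMod M L).restrict V.ι) = χ V (M.restrict V.ι) + r * d V ∧
          χ V (M.restrict V.ι) * (Curv2.euler k Y (CohB1.tensorMod M L) - Curv2.euler k Y M) =
            Curv2.euler k Y M * (r * d V) ∧ 0 < (r : ℤ) * d V := by
      intro M hM hMs h0
      have hMc := Coherent.isCoh hM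
      haveI := hMc.1
      refine ⟨?_, fun V hV => ?_⟩
      · have h := Saturation.alpha_pos (k := k) hL hMs.1 hMs.2.1 hMs.2.2.1
        rw [(Linear.coeff_eq (k := k) hL hdim.le hMc).2] at h
        exact_mod_cast h
      obtain ⟨y, hy⟩ := hV.2.nonempty
      have hPne : ¬ IsZero (RefHull.PushU.P V M) := fun hz => by
        haveI := (Modules.Stalk.isZero_iff_stalk_subsingleton).1 hz y
        exact h0 y (RefHull.PushU.unit_bijective V (M := M) hy).1.subsingleton
      obtain ⟨hps, heq⟩ := (S18917.result k Y hdim L hL M hM (fun hz =>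
        h0 y ((Modules.Stalk.isZero_iff_stalk_subsingleton).1 hz y))).1 hMs V hV.1 hV.2 hPne
      have hpos := Saturation.alpha_pos (k := k) hL hps.1 hps.2.1 hps.2.2.1
      rw [(Linear.coeff_eq (k := k) hL hdim.le hps.1).2] at hpos
      letI := ov V
      obtain ⟨hi, hp, hsm, hd1⟩ := ComponentLine.ctx_comp k hdim.le hpure hV
      haveI := hi; haveI := hp; haveI := hsm
      haveI := Ctx.ofIntegral k hd1
      have hMV := TensorMod.LocFree.isFinLocFree_restrict V.ι hM
      have hr := Degree.rank_gr k (Coherent.isCoh hMV) (Coherent.isTorsionFree hMV)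
      generalize Degree.gr k (M.restrict V.ι) = r at hr
      refine ⟨r, hr, ?_⟩
      have hLV : FlatMod.IsFinLocFreeOfRank 1 (L.restrict V.ι) := TensorMod.LocFree.of_isInvertible
        (TensorMod.Invertible.isInvertible_of_iso
          ((Scheme.Modules.restrictFunctorIsoPullback V.ι).app L).symm (PicLoc.isInvertible_pullback V.ι hLi))
      have h7 := S7637.result k (↑V : Scheme.{u}) hd1.le r 1 _ _ hr hLV
      have e1 : χ V ((CohB1.tensorMod M L).restrict V.ι) = χ V (M.restrict V.ι) + r * d V := by
        simp only [Curv2.deg, Nat.cast_mul, Nat.cast_one, one_mul, mul_one] at h7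
        show Curv2.euler k (↑V : Scheme.{u}) _ = Curv2.euler k (↑V : Scheme.{u}) _ + _ * (Curv2.euler k (↑V : Scheme.{u}) _ -
          Curv2.euler k (↑V : Scheme.{u}) _)
        rw [Curves.Euler.euler_eq_of_iso (TensorMod.Pullback.restrictTensorIso V.ι M L),
          Curves.Euler.euler_eq_of_iso (Scheme.Modules.restrictUnitIso V.ι :
            (Coh.structureModule Y).restrict V.ι ≅ Coh.structureModule (↑V : Scheme.{u}))]
        linarith
      have e2 : Curv2.euler k Y (CohB1.tensorMod (RefHull.PushU.P V M) L) =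
          χ V ((CohB1.tensorMod M L).restrict V.ι) := by
        rw [ComponentLine.euler_of_supported k hdim.le hV (Twist.isCoh hLi (Clopen.isCoh_P hV.1.1 hMc))
          (ComponentLine.tensor_off hV.1.1 (fun z hz => Clopen.subsingleton_P hV.1.1 _ hz) L)]
        exact Curves.Euler.euler_eq_of_iso (TensorMod.Pullback.restrictTensorIso V.ι _ L ≪≫
          TensorMod.Basic.tensorIso ((asIso (Scheme.Modules.restrictAdjunction V.ι).counit).app _) (Iso.refl _) ≪≫
            (TensorMod.Pullback.restrictTensorIso V.ι M L).symm)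
      have e3 : Curv2.euler k Y (RefHull.PushU.P V M) = χ V (M.restrict V.ι) := ComponentLine.euler_P k hV.1.1 M
      rw [e2, e3] at heq hpos
      rw [e1] at heq hpos
      rw [add_sub_cancel_left] at heq
      refine ⟨e1, heq, ?_⟩
      rw [← @Int.cast_lt ℚ]
      push_cast at hpos ⊢
      linarith
    obtain ⟨hA, hE'⟩ := part E hE hEs hE0
    obtain ⟨hB', hF'⟩ := part F hF hFs hF0
    choose! r hr1 hr2 hr3 hr4 using hE'
    choose! s hs1 hs2 hs3 hs4 using hF'
    have hd : ∀ V ∈ t, 0 < d V := fun V hV =>
      (pos_iff_pos_of_mul_pos (hr4 V (ht V hV))).1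
        (by
          rcases Nat.eq_zero_or_pos (r V) with h | h
          · have := hr4 V (ht V hV); rw [h] at this; simp at this
          · exact_mod_cast h)
    have hrs : ∀ V ∈ t, χ V ((CohB1.tensorMod E F).restrict V.ι) =
        r V * χ V (F.restrict V.ι) + s V * χ V (E.restrict V.ι) - r V * s V * o V ∧
        χ V ((CohB1.tensorMod (CohB1.tensorMod E F) L).restrict V.ι) =
          χ V ((CohB1.tensorMod E F).restrict V.ι) + r V * s V * d V := by
      intro V hV
      letI := ov V
      obtain ⟨hi, hp, hsm, hd1⟩ := ComponentLine.ctx_comp k hdim.le hpure (ht V hV)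
      haveI := hi; haveI := hp; haveI := hsm
      have hLV : FlatMod.IsFinLocFreeOfRank 1 (L.restrict V.ι) := TensorMod.LocFree.of_isInvertible
        (TensorMod.Invertible.isInvertible_of_iso
          ((Scheme.Modules.restrictFunctorIsoPullback V.ι).app L).symm (PicLoc.isInvertible_pullback V.ι hLi))
      have h7 := S7637.result k (↑V : Scheme.{u}) hd1.le (r V) (s V) _ _ (hr1 V (ht V hV)) (hs1 V (ht V hV))
      have h8 := S7637.result k (↑V : Scheme.{u}) hd1.le (r V * s V) 1 _ _
        (TensorMod.LocFree.rank_tensorMod (hr1 V (ht V hV)) (hs1 V (ht V hV))) hLV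
      simp only [Curv2.deg, Nat.cast_mul, Nat.cast_one, one_mul, mul_one] at h7 h8
      show Curv2.euler k (↑V : Scheme.{u}) _ = _ * Curv2.euler k (↑V : Scheme.{u}) _ +
          _ * Curv2.euler k (↑V : Scheme.{u}) _ - _ * Curv2.euler k (↑V : Scheme.{u}) _ ∧
        Curv2.euler k (↑V : Scheme.{u}) _ = Curv2.euler k (↑V : Scheme.{u}) _ +
          _ * (Curv2.euler k (↑V : Scheme.{u}) _ - Curv2.euler k (↑V : Scheme.{u}) _)
      rw [Curves.Euler.euler_eq_of_iso (TensorMod.Pullback.restrictTensorIso V.ι E F),
        Curves.Euler.euler_eq_of_iso (TensorMod.Pullback.restrictTensorIso V.ι (CohB1.tensorMod E F) L ≪≫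
          TensorMod.Basic.tensorIso (TensorMod.Pullback.restrictTensorIso V.ι E F) (Iso.refl _)),
        Curves.Euler.euler_eq_of_iso (Scheme.Modules.restrictUnitIso V.ι :
          (Coh.structureModule Y).restrict V.ι ≅ Coh.structureModule (↑V : Scheme.{u}))]
      constructor <;> linarith
    obtain ⟨y₀⟩ : Nonempty Y := by
      by_contra h
      rw [not_nonempty_iff] at h
      haveI : IsEmpty (TopologicalSpace.IrreducibleCloseds Y) := ⟨fun A => h.false A.isIrreducible.nonempty.some⟩
      rw [topologicalKrullDim, Order.krullDim_eq_bot] at hdim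
      exact WithBot.bot_ne_one hdim
    obtain ⟨V₀, hV₀, -⟩ := hcov y₀
    set A := Curv2.euler k Y (CohB1.tensorMod E L) - Curv2.euler k Y E with hAdef
    set B := Curv2.euler k Y (CohB1.tensorMod F L) - Curv2.euler k Y F with hBdef
    set D := Curv2.euler k Y L - Curv2.euler k Y (Coh.structureModule Y) with hDdef
    have hDsum : D = ∑ V ∈ t, d V := by
      rw [hDdef, ComponentLine.euler_eq_sum k hdim.le ht hcov hLc, ComponentLine.euler_eq_sum k hdim.le ht hcov hOc,
        ← Finset.sum_sub_distrib]
    have hD : 0 < D := hDsum ▸ Finset.sum_pos hd ⟨V₀, hV₀⟩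
    have ho : ∀ V ∈ t, o V * D = Curv2.euler k Y (Coh.structureModule Y) * d V := by
      intro V hV
      have h := hB V (ht V hV).1 (ht V hV).2
      rw [ComponentLine.euler_P k (ht V hV).1.1, ComponentLine.euler_P k (ht V hV).1.1] at h
      exact h
    set C := ∑ V ∈ t, (r V : ℤ) * s V * d V with hCdef
    have hC : 0 < C := Finset.sum_pos (fun V hV => by
      have h1 : (0:ℤ) < r V := (pos_iff_pos_of_mul_pos (hr4 V (ht V hV))).2 (hd V hV)
      have h2 : (0:ℤ) < s V := (pos_iff_pos_of_mul_pos (hs4 V (ht V hV))).2 (hd V hV)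
      have := hd V hV
      positivity) ⟨V₀, hV₀⟩
    have hCe : Curv2.euler k Y (CohB1.tensorMod (CohB1.tensorMod E F) L) - Curv2.euler k Y (CohB1.tensorMod E F) = C := by
      rw [ComponentLine.euler_eq_sum k hdim.le ht hcov (Twist.isCoh hLi hEFc),
        ComponentLine.euler_eq_sum k hdim.le ht hcov hEFc, hCdef, ← Finset.sum_sub_distrib]
      refine Finset.sum_congr rfl fun V hV => ?_
      have := (hrs V hV).2
      simp only [χ] at this
      linarith
    have hmain : Curv2.euler k Y (CohB1.tensorMod E F) * (A * B * D) =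
        C * (Curv2.euler k Y F * A * D + Curv2.euler k Y E * B * D -
          Curv2.euler k Y (Coh.structureModule Y) * A * B) := by
      rw [ComponentLine.euler_eq_sum k hdim.le ht hcov hEFc, Finset.sum_mul, hCdef, Finset.sum_mul]
      refine Finset.sum_congr rfl fun V hV => ?_
      have e0 := (hrs V hV).1
      simp only [χ] at e0
      rw [e0]
      have e1 := hr3 V (ht V hV)
      have e2 := hs3 V (ht V hV)
      have e3 := ho V hV
      simp only [χ, o] at e1 e2 e3 ⊢
      linear_combination ((r V : ℤ) * A * D) * e2 + ((s V : ℤ) * B * D) * e1 - ((r V : ℤ) * s V * A * B) * e3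
    rw [hCe]
    have hA0 : (A : ℚ) ≠ 0 := by exact_mod_cast hA.ne'
    have hB0 : (B : ℚ) ≠ 0 := by exact_mod_cast hB'.ne'
    have hD0 : (D : ℚ) ≠ 0 := by exact_mod_cast hD.ne'
    have hC0 : (C : ℚ) ≠ 0 := by exact_mod_cast hC.ne'
    field_simp
    have := congrArg (Int.cast : ℤ → ℚ) hmain
    push_cast at this
    linear_combination this

end Groth.Agent.S18923
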