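import Groth.Statements.S18925
import Groth.Agent.Lib.ResCount.Basic
import Mathlib.Tactic.Ring

set_option autoImplicit false
universe u
open ResHyp

namespace Groth.Agent.S18925

/-- Let F be a finite field with q elements and let n ≥ 2. Count the pairs (f, g) where f is a binary
quadratic form and g a binary form of degree n over F, recorded by their coefficient vectors of
lengths 3 and n + 1 (leading coefficients may vanish), whose resultant — the Sylvester determinant
of the two coefficient vectors with size parameters 2 and n — is nonzero, i.e. f and g have no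
common zero on the projective line. The number of such pairs is q ^ (n + 4) - q ^ (n + 3) - q ^ (n +
2) + q ^ (n + 1). (The source's result is the compactly supported ℓ-adic cohomology of this locus:
one-dimensional of Tate weights n + 4, n + 3, n + 2, n + 1 in degrees 2n + 8, 2n + 7, 2n + 5, 2n + 4
and zero elsewhere; this row keeps only the resulting point count.) -/
theorem result (F : Type u) [Field F] [Fintype F] (n : ℕ) (h2 : 2 ≤ n) :
    Nat.card {p : (Fin 3 → F) × (Fin (n + 1) → F) //
      Polynomial.resultant (∑ i : Fin 3, Polynomial.C (p.1 i) * Polynomial.X ^ (i : ℕ))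
        (∑ j : Fin (n + 1), Polynomial.C (p.2 j) * Polynomial.X ^ (j : ℕ)) 2 n ≠ 0} =
      Fintype.card F ^ (n + 4) - Fintype.card F ^ (n + 3) - Fintype.card F ^ (n + 2) + Fintype.card F ^ (n + 1) := by
  refine (Groth.Agent.Lib.ResCount.Basic.card_ne n h2).trans ?_
  obtain ⟨m, hm⟩ : ∃ m, Fintype.card F = m + 1 := ⟨Fintype.card F - 1, by have := Fintype.card_pos (α := F); omega⟩
  rw [hm, Nat.add_sub_cancel]
  have e1 : (m + 1) ^ (n + 4) = (m + 1) ^ (n + 3) + m * (m + 1) ^ (n + 3) := by ring
  have hpos : 1 ≤ m * (m + 1) := by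
    have : 1 ≤ m := by
      have := Fintype.one_lt_card (α := F); omega
    exact Nat.le_trans this (Nat.le_mul_of_pos_right m (by omega))
  have e2 : (m + 1) ^ (n + 2) ≤ (m * (m + 1)) * (m + 1) ^ (n + 2) := Nat.le_mul_of_pos_left _ hpos
  have e4 : m * (m + 1) ^ (n + 3) = (m * (m + 1)) * (m + 1) ^ (n + 2) := by ring
  have e3 : (m + 1) ^ (n + 1) * (m * m) * (m + 1 + 1) + (m + 1) ^ (n + 2) =
      (m * (m + 1)) * (m + 1) ^ (n + 2) + (m + 1) ^ (n + 1) := by ring
  omega

end Groth.Agent.S18925
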