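import Groth.Statements.S18926
import Groth.Agent.H2.Rigid.H0
import Groth.Agent.Lib.Curves.GlobalSections
import Groth.Agent.Lib.ExtZAffine.Main
import Groth.Agent.Lib.GrpQ.FlatInj
import Groth.Agent.Lib.Curves.NormStalk
import Groth.Agent.S7856
-- import your own Groth.Agent.* helpers here

set_option autoImplicit false
universe u
open FinCov

namespace Groth.Agent.S18926

open CategoryTheory CategoryTheory.Limits AlgebraicGeometry in
/-- Let k be a field, Y a proper, geometrically connected and geometrically reduced scheme over k, and ρ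
: X ⟶ Y a finite, flat and surjective morphism. If the zeroth cohomology group of the cokernel of
the O_Y-module map O_Y ⟶ ρ_* O_X has at most one element, then X is geometrically connected over k.
(The published statement assumes Y projective and takes for X one of the finite locally free
Gorenstein covers of degree 3, 4 or 5 that it constructs, with the cokernel identified with a dual
vector bundle; this row assumes only that ρ is finite, flat and surjective and that Y is proper.) -/
theorem result
    (k : Type u) [Field k] (X Y : Scheme.{u}) (g : Y ⟶ Spec (CommRingCat.of k)) (ρ : X ⟶ Y)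
    [IsProper g] [GeometricallyConnected g] [GeometricallyReduced g]
    [IsFinite ρ] [Flat ρ] [Surjective ρ]
    (h0 : Subsingleton (Coh.HH Y (cokernel (ClSub.unitToPush ρ)) 0)) :
    GeometricallyConnected (ρ ≫ g) := by
  have hH0 : Groth.Agent.H2.Rigid.H0 g := Groth.Agent.H2.Rigid.H0.of_geometrically g
  have hY : Function.Surjective g.appTop.hom :=
    hH0.isPullback (L := k) (pt := 𝟙 (Spec (CommRingCat.of k))) (p₁ := 𝟙 Y)
      (IsPullback.of_horiz_isIso ⟨by rw [Category.id_comp, Category.comp_id]⟩)
  haveI : Nonempty Y := by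
    haveI : ConnectedSpace ↥(pullback g (𝟙 (Spec (CommRingCat.of k)))) :=
      pullback_of_geometrically GeometricallyConnected.geometrically_connectedSpace k (𝟙 _)
    exact ⟨pullback.fst g (𝟙 (Spec (CommRingCat.of k))) (Classical.arbitrary _)⟩
  haveI : Nonempty X :=
    ⟨(ρ.surjective (Classical.arbitrary Y)).choose⟩
  haveI : Mono (ClSub.unitToPush ρ) := by
    rw [Groth.Agent.Lib.Modules.Stalk.mono_iff_app_injective]
    exact fun U => Groth.Agent.Lib.GrpQ.FlatInj.app_injective ρ U
  let S : ShortComplex Y.Modules :=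
    ShortComplex.mk (ClSub.unitToPush ρ) (cokernel.π _) (cokernel.condition _)
  have hS : S.Exact := ShortComplex.exact_cokernel _
  haveI : Mono S.f := ‹Mono (ClSub.unitToPush ρ)›
  have hz : ∀ a b : (cokernel (ClSub.unitToPush ρ)).val.obj (Opposite.op (⊤ : Y.Opens)), a = b :=
    fun a b => (Groth.Agent.Lib.Curves.GlobalSections.h0Equiv _).symm.injective
      (h0.elim _ _)
  have hρ : Function.Surjective (ρ.app ⊤).hom := fun t => by
    obtain ⟨a, ha⟩ := Groth.Agent.Lib.ExtZAffine.exists_of_app_eq_zero (⊤ : Y.Opens) hS t (hz _ _)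
    exact ⟨a, ha⟩
  have hX : Function.Surjective (ρ ≫ g).appTop.hom := by
    rw [Scheme.Hom.comp_appTop]
    exact hρ.comp hY
  haveI : Nontrivial Γ(X, ⊤) := by
    haveI : Nonempty ((⊤ : X.Opens) : Scheme.{u}) := ⟨⟨Classical.arbitrary _, trivial⟩⟩
    infer_instance
  let φ : k →+* Γ(X, ⊤) :=
    (ρ ≫ g).appTop.hom.comp (Scheme.ΓSpecIso (CommRingCat.of k)).inv.hom
  have hφ : Function.Bijective φ := ⟨φ.injective, hX.comp
    (ConcreteCategory.bijective_of_isIso (Scheme.ΓSpecIso (CommRingCat.of k)).inv).2⟩
  have hF : IsField Γ(X, ⊤) :=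
    (RingEquiv.ofBijective φ hφ).symm.toMulEquiv.isField (Field.toIsField k)
  rw [Groth.Agent.S7856.result]
  refine ⟨?_, ringKrullDim_eq_zero_of_isField hF, fun a => ⟨0, ?_⟩⟩
  · letI := hF.toField
    infer_instance
  · obtain ⟨c, hc⟩ := hφ.2 a
    refine ⟨c, ?_⟩
    rw [pow_zero, pow_one]
    exact ⟨1, by rw [pow_one]; exact sub_eq_zero.mpr hc.symm⟩

end Groth.Agent.S18926
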