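import Groth.Statements.S18927
import Mathlib.LinearAlgebra.Alternating.Basic
import Mathlib.LinearAlgebra.StdBasis

set_option autoImplicit false
universe u v
open W4c6secantcecovers

namespace Groth.Agent.S18927

section Helpers

variable {R : Type u} [CommRing R] {r : ℕ}

lemma ιMulti_eq_zero {n : ℕ} (h : r < n) (v : Fin n → Fin r → R) : ExteriorAlgebra.ιMulti R n v = 0 := by
  have : ExteriorAlgebra.ιMulti R n (M := Fin r → R) = 0 :=
    Module.Basis.ext_alternating (Pi.basisFun R (Fin r)) fun w hw => by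
      exact absurd (Fintype.card_le_of_injective w hw) (by simp; omega)
  rw [this]
  rfl

lemma mul_eq_zero' {a b : ℕ} (h : r < a + b) (e : Fin a → Fin r → R) (f : Fin b → Fin r → R) :
    ExteriorAlgebra.ιMulti R a e * ExteriorAlgebra.ιMulti R b f = 0 := by
  have h0 : ∀ l : List (Fin r → R), r < l.length → (l.map (ExteriorAlgebra.ι R)).prod = 0 := fun l hl => by
    rw [← ιMulti_eq_zero hl l.get, ExteriorAlgebra.ιMulti_apply]
    congr 1
    conv_lhs => rw [← List.ofFn_get l, List.map_ofFn]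
    rfl
  rw [ExteriorAlgebra.ιMulti_apply, ExteriorAlgebra.ιMulti_apply, ← List.prod_append]
  have := h0 (List.ofFn e ++ List.ofFn f) (by simpa using h)
  simpa [List.map_ofFn, Function.comp_def] using this

lemma contr_mul (j : Fin r) : ∀ (n : ℕ) (e : Fin n → Fin r → R) (η : SSLam R r),
    ssContr R r j (ExteriorAlgebra.ιMulti R n e * η) =
      ssContr R r j (ExteriorAlgebra.ιMulti R n e) * η +
        (-1 : R) ^ n • (ExteriorAlgebra.ιMulti R n e * ssContr R r j η) := by
  intro n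
  induction n with
  | zero => intro e η; simp [ExteriorAlgebra.ιMulti_zero_apply, ssContr]
  | succ n ih =>
    intro e η
    rw [ExteriorAlgebra.ιMulti_succ_apply, mul_assoc]
    have key : ∀ (v : Fin r → R) (x : SSLam R r),
        ssContr R r j (ExteriorAlgebra.ι R v * x) = v j • x - ExteriorAlgebra.ι R v * ssContr R r j x :=
      fun v x => CliffordAlgebra.contractLeft_ι_mul _ v x
    rw [key, key, ih, pow_succ']
    simp only [mul_add, sub_mul, smul_mul_assoc, mul_smul_comm, mul_assoc, neg_mul, one_mul, neg_smul]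
    abel

lemma pair_tmul {N : Type v} [AddCommGroup N] [Module R N] (β : N →ₗ[R] N →ₗ[R] R) (k : ℕ)
    (a b : SSB R r) (n m : N) :
    ssPair R r N β k (a ⊗ₜ[R] n) (b ⊗ₜ[R] m) = (-1 : R) ^ (k.choose 2) • β n m • (a * b) := by
  simp [ssPair, ssPairAux]

end Helpers

open TensorProduct in
/-- Let R be a commutative ring, E = R^r the free module with its coordinate basis, S = R[X_1, …, X_r]
(the symmetric algebra of E), and N an R-module carrying R-linear operators φ_j (the action of the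
j-th basis vector of E) and an R-bilinear form β with β(φ_j n, m) = β(n, φ_j m) for every j. On (ΛE
⊗ S) ⊗ N — all terms Λ^k(S ⊗ E) ⊗ N of the Scheja–Storch complex at once — let δ be the differential
sending (e_1 ∧ ⋯ ∧ e_k) ⊗ s ⊗ n to Σ_i (-1)^(i-1) (e_1 ∧ ⋯ ê_i ⋯ ∧ e_k) ⊗ x(e_i) s ⊗ n + Σ_i (-1)^i
(e_1 ∧ ⋯ ê_i ⋯ ∧ e_k) ⊗ s ⊗ e_i · n, and pair a term u = ω ⊗ s ⊗ n of degree k with v = η ⊗ t ⊗ m by
⟨u, v⟩_k = (-1)^(k choose 2) β(n, m) · (ω ∧ η) ⊗ s t. Then the differential is adjoint to itself for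
this pairing in complementary degrees: for u = (e_0 ∧ ⋯ ∧ e_k) ⊗ s ⊗ n of degree k + 1 ≤ r and v =
(f_1 ∧ ⋯ ∧ f_(r-k)) ⊗ t ⊗ m of degree r - k, ⟨δ u, v⟩_k = ⟨u, δ v⟩_(k+1). (The source takes E
finitely generated projective and N a module over the ambient algebra with a pairing satisfying ⟨f,
g h⟩ = ⟨g f, h⟩; the proof runs on a basis, which is the form stated here, with the action of E
recorded by the operators φ_j.) -/
theorem result
    (R : Type u) [CommRing R] (r : ℕ) (N : Type v) [AddCommGroup N] [Module R N]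
    (φ : Fin r → (N →ₗ[R] N)) (β : N →ₗ[R] N →ₗ[R] R)
    (hβ : ∀ (j : Fin r) (n m : N), β (φ j n) m = β n (φ j m))
    (k : ℕ) (hk : k < r)
    (e : Fin (k + 1) → (Fin r → R)) (f : Fin (r - k) → (Fin r → R))
    (s t : MvPolynomial (Fin r) R) (n m : N) :
    W4c6secantcecovers.ssPair R r N β k
        (W4c6secantcecovers.ssDelta R r N φ ((ExteriorAlgebra.ιMulti R (k + 1) e ⊗ₜ[R] s) ⊗ₜ[R] n))
        ((ExteriorAlgebra.ιMulti R (r - k) f ⊗ₜ[R] t) ⊗ₜ[R] m) =
      W4c6secantcecovers.ssPair R r N β (k + 1)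
        ((ExteriorAlgebra.ιMulti R (k + 1) e ⊗ₜ[R] s) ⊗ₜ[R] n)
        (W4c6secantcecovers.ssDelta R r N φ ((ExteriorAlgebra.ιMulti R (r - k) f ⊗ₜ[R] t) ⊗ₜ[R] m)) := by
  have hc : ∀ j, ssContr R r j (ExteriorAlgebra.ιMulti R (k + 1) e) * ExteriorAlgebra.ιMulti R (r - k) f =
      (-1 : R) ^ k • (ExteriorAlgebra.ιMulti R (k + 1) e * ssContr R r j (ExteriorAlgebra.ιMulti R (r - k) f)) := by
    intro j
    have h0 := contr_mul j (k + 1) e (ExteriorAlgebra.ιMulti R (r - k) f)
    rw [mul_eq_zero' (by omega) e f, map_zero] at h0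
    rw [eq_neg_of_add_eq_zero_left h0.symm, ← neg_smul, pow_succ, mul_neg, mul_one, neg_neg]
  have hchoose : (k + 1).choose 2 = k.choose 2 + k := by
    rw [Nat.choose_succ_succ, Nat.choose_one_right, add_comm]
  simp only [ssDelta, LinearMap.sum_apply, map_sum, LinearMap.add_apply, LinearMap.smul_apply, map_add,
    map_smul, ssDKoszul, ssDAct, TensorProduct.map_tmul, LinearMap.id_apply, LinearMap.mulLeft_apply,
    pair_tmul, Algebra.TensorProduct.tmul_mul_tmul, hchoose, pow_add]
  refine Finset.sum_congr rfl fun j _ => ?_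
  rw [hc, hβ, mul_left_comm s (MvPolynomial.X j) t, mul_assoc (MvPolynomial.X j) s t]
  simp only [← TensorProduct.smul_tmul', smul_smul]
  congr 2 <;> ring

end Groth.Agent.S18927
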