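import Groth.Statements.S18928
import Mathlib.Tactic.LinearCombination
import Mathlib.Tactic.Ring
import Mathlib.Data.Nat.Choose.Sum
-- import your own Groth.Agent.* helpers here

set_option autoImplicit false
universe u
open DPow

namespace Groth.Agent.S18928

/-- Let B be a commutative ring, I an ideal of B with a divided power structure, p a prime, r a natural
number, b an element of B and δ an element of I. Then (b + δ)^(p^r) − b^(p^r) lies in the ideal p^r
I. (The source states this for a divided power thickening over the Witt vectors of length n and 0 ≤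
r ≤ n; neither restriction is used.) -/
theorem result {B : Type u} [CommRing B] {I : Ideal B}
    (hI : DividedPowers I) (p : ℕ) [Fact p.Prime] (r : ℕ) (b δ : B) (hδ : δ ∈ I) :
    (b + δ) ^ (p ^ r) - b ^ (p ^ r) ∈ Ideal.span {((p : B) ^ r)} * I := by
  have hp := (Fact.out : p.Prime)
  set q := p ^ r with hq
  have hqpos : 0 < q := pow_pos hp.pos r
  rw [Ideal.mem_span_singleton_mul]
  refine ⟨∑ i ∈ Finset.range q, ((q - 1).choose i * i.factorial : ℕ) * hI.dpow (i + 1) δ * b ^ (q - (i + 1)),
    sum_mem fun i _ => Ideal.mul_mem_right _ _ (Ideal.mul_mem_left _ _ (hI.dpow_mem i.succ_ne_zero hδ)), ?_⟩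
  rw [add_comm b δ, add_pow, Finset.sum_range_succ', pow_zero, one_mul, Nat.choose_zero_right, Nat.cast_one,
    mul_one, Nat.sub_zero, add_sub_cancel_right, Finset.mul_sum, ← Nat.cast_pow]
  refine Finset.sum_congr rfl fun i hi => ?_
  rw [← hI.factorial_mul_dpow_eq_pow hδ]
  have h1 : q * ((q - 1).choose i * i.factorial) = (i + 1).factorial * q.choose (i + 1) := by
    have h2 := Nat.add_one_mul_choose_eq (q - 1) i
    rw [Nat.sub_add_cancel hqpos] at h2
    rw [Nat.factorial_succ, ← mul_assoc, h2]
    ring
  have h3 := congrArg (Nat.cast : ℕ → B) h1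
  rw [hq] at h3 ⊢
  push_cast at h3 ⊢
  linear_combination (hI.dpow (i + 1) δ * b ^ (p ^ r - (i + 1))) * h3

end Groth.Agent.S18928
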