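import Groth.Statements.S18929
import Groth.Agent.S18928
import Mathlib.RingTheory.WittVector.Truncated
-- import your own Groth.Agent.* helpers here

set_option autoImplicit false
universe u
open DPow

namespace Groth.Agent.S18929

/-- Let p be a prime, n a natural number, B a commutative ring in which p^n = 0, and I an ideal of B
equipped with divided powers. There is a ring homomorphism θ from the truncated Witt vectors
W_n(B/I) to B such that, for every Witt vector x over B, θ applied to the truncation of the image of
x in W_n(B/I) equals Σ_{i<n} p^i x_i^(p^(n−i)); in particular this sum depends only on the residues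
of x_0, …, x_{n−1} modulo I. (The source works with a divided power thickening of an algebra over a
perfect field and also checks linearity over the Witt vectors of that field; only the ring
homomorphism is asserted here. θ is unique, the truncation-of-reduction map being surjective.) -/
theorem result (p : ℕ) [Fact p.Prime] (n : ℕ)
    {B : Type u} [CommRing B] (hp : (p : B) ^ n = 0) {I : Ideal B} (hI : DividedPowers I) :
    ∃ θ : TruncatedWittVector p n (B ⧸ I) →+* B, ∀ x : WittVector p B, θ (WittVector.truncate n (WittVector.map (Ideal.Quotient.mk I) x)) =
        ∑ i : Fin n, (p : B) ^ (i : ℕ) * (x.coeff i) ^ (p ^ (n - i)) := by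
  have hp' := (Fact.out : p.Prime)
  have hghost : ∀ x : WittVector p B, WittVector.ghostComponent n x =
      ∑ i : Fin n, (p : B) ^ (i : ℕ) * (x.coeff i) ^ (p ^ (n - i)) := fun x => by
    rw [WittVector.ghostComponent_apply, aeval_wittPolynomial, Finset.sum_range_succ, hp, zero_mul, add_zero,
      Finset.sum_range]
  let g : WittVector p B →+* TruncatedWittVector p n (B ⧸ I) :=
    (WittVector.truncate n).comp (WittVector.map (Ideal.Quotient.mk I))
  have hg : Function.Surjective g :=
    (WittVector.truncate_surjective p n (B ⧸ I)).comp (WittVector.map_surjective _ Ideal.Quotient.mk_surjective)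
  have hker : RingHom.ker g ≤ RingHom.ker (WittVector.ghostComponent n : WittVector p B →+* B) := by
    intro x hx
    rw [RingHom.mem_ker, hghost]
    refine Finset.sum_eq_zero fun i _ => ?_
    have hxi : x.coeff i ∈ I := by
      have := congrArg (TruncatedWittVector.coeff i) (RingHom.mem_ker.1 hx)
      rw [TruncatedWittVector.coeff_zero] at this
      simp only [g, RingHom.comp_apply, WittVector.coeff_truncate, WittVector.map_coeff] at this
      exact Ideal.Quotient.eq_zero_iff_mem.1 this
    have h := Groth.Agent.S18928.result hI p (n - i) 0 (x.coeff i) hxi
    rw [zero_add, zero_pow (pow_pos hp'.pos _).ne', sub_zero, Ideal.mem_span_singleton_mul] at h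
    obtain ⟨z, -, hz⟩ := h
    rw [← hz, ← mul_assoc, ← pow_add, Nat.add_sub_cancel' i.2.le, hp, zero_mul]
  refine ⟨g.liftOfSurjective hg ⟨_, hker⟩, fun x => ?_⟩
  rw [← hghost]
  exact RingHom.liftOfRightInverse_comp_apply g _ _ ⟨_, hker⟩ x

end Groth.Agent.S18929
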