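import Groth.Statements.S18930
import Mathlib.RingTheory.WittVector.Truncated
-- import your own Groth.Agent.* helpers here

set_option autoImplicit false
universe u
open DPow

namespace Groth.Agent.S18930

/-- Let p be a prime, n ≥ 1, B a commutative ring with p^n = 0 and A = B/pB. Let θ : W_n(A) → B be the
ring homomorphism which sends the reduction of a Witt vector (x_0, …, x_{n−1}) over B to Σ_{i<n} p^i
x_i^(p^(n−i)), let J_n be its kernel and let I_n be the set of a in W_n(A) whose zeroth component
satisfies a_0^(p^n) = 0. Then J_n + (p) ⊆ I_n. (In the source B is the ring of global sections of a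
scheme over the Witt vectors of length n of a perfect field.) -/
theorem result (p : ℕ) [Fact p.Prime] (n : ℕ) (hn : 0 < n)
    {B : Type u} [CommRing B] (hp : (p : B) ^ n = 0)
    (θ : TruncatedWittVector p n (B ⧸ (Ideal.span {(p : B)})) →+* B)
    (hθ : ∀ x : WittVector p B, θ (WittVector.truncate n (WittVector.map (Ideal.Quotient.mk (Ideal.span {(p : B)})) x)) =
        ∑ i : Fin n, (p : B) ^ (i : ℕ) * (x.coeff i) ^ (p ^ (n - i)))
    (a : TruncatedWittVector p n (B ⧸ (Ideal.span {(p : B)})))
    (ha : a ∈ RingHom.ker θ ⊔ Ideal.span {(p : TruncatedWittVector p n (B ⧸ (Ideal.span {(p : B)})))}) :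
    (TruncatedWittVector.coeff ⟨0, hn⟩ a) ^ (p ^ n) = 0 := by
  have hp' := (Fact.out : p.Prime)
  let c : TruncatedWittVector p n (B ⧸ Ideal.span {(p : B)}) →+* B ⧸ Ideal.span {(p : B)} :=
    RingHom.liftOfSurjective (WittVector.truncate n) (WittVector.truncate_surjective p n _)
      ⟨WittVector.constantCoeff, fun x hx => (WittVector.mem_ker_truncate n x).1 hx 0 hn⟩
  have hc : ∀ w, c w = TruncatedWittVector.coeff ⟨0, hn⟩ w := fun w => by
    obtain ⟨v, rfl⟩ := WittVector.truncate_surjective p n _ w
    rw [WittVector.coeff_truncate]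
    exact RingHom.liftOfRightInverse_comp_apply _ _ _ _ v
  rw [← hc]
  obtain ⟨y, hy, z, hz, rfl⟩ := Submodule.mem_sup.1 ha
  obtain ⟨t, rfl⟩ := Ideal.mem_span_singleton'.1 hz
  have hcp : c (p : TruncatedWittVector p n (B ⧸ Ideal.span {(p : B)})) = 0 := by
    rw [map_natCast, ← map_natCast (Ideal.Quotient.mk (Ideal.span {(p : B)}))]
    exact Ideal.Quotient.eq_zero_iff_mem.2 (Ideal.mem_span_singleton_self _)
  rw [map_add, map_mul, hcp, mul_zero, add_zero]
  obtain ⟨v, rfl⟩ := WittVector.truncate_surjective p n _ y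
  obtain ⟨x, rfl⟩ := WittVector.map_surjective _ Ideal.Quotient.mk_surjective v
  have h := congrArg (Ideal.Quotient.mk (Ideal.span {(p : B)})) (RingHom.mem_ker.1 hy)
  rw [hθ, map_zero, map_sum] at h
  rw [Finset.sum_eq_single ⟨0, hn⟩] at h
  · rw [hc, WittVector.coeff_truncate, WittVector.map_coeff]
    simpa using h
  · intro i _ hi
    rw [map_mul, map_pow, Ideal.Quotient.eq_zero_iff_mem.2 (Ideal.mem_span_singleton_self _),
      zero_pow (fun h0 => hi (Fin.ext h0)), zero_mul]
  · simp

end Groth.Agent.S18930
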