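import Groth.Statements.S18933
import Groth.Agent.Lib.Synt92.FiniteGCI
import Mathlib.Algebra.MvPolynomial.Expand

set_option autoImplicit false
universe u
open Synt

namespace Groth.Agent.S18933

open MvPolynomial in
theorem syntomic_of_pow {A B C : Type u} [CommRing A] [CommRing B] [CommRing C] [Algebra A B]
    [Algebra A C] [Algebra B C] [IsScalarTower A B C] (p m : ℕ) (hp : 0 < p)
    (eB : MvPolynomial (Fin m) A ≃ₐ[A] B) (eC : MvPolynomial (Fin m) A ≃ₐ[A] C)
    (h : ∀ i, algebraMap B C (eB (X i)) = eC (X i) ^ p) (hinj : Function.Injective (algebraMap B C)) :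
    Synt.IsSyntomic B C ∧ Module.FaithfullyFlat B C := by
  have hint : ∀ f : MvPolynomial (Fin m) A, IsIntegral B (eC f) := by
    intro f
    induction f using MvPolynomial.induction_on with
    | C a =>
      rw [show eC (MvPolynomial.C a) = algebraMap B C (algebraMap A B a) by
        rw [← IsScalarTower.algebraMap_apply, ← eC.commutes]; rfl]
      exact isIntegral_algebraMap
    | add f g hf hg => rw [map_add]; exact hf.add hg
    | mul_X f i hf =>
      rw [map_mul]
      exact hf.mul (IsIntegral.of_pow hp (h i ▸ isIntegral_algebraMap))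
  haveI : Algebra.IsIntegral B C := ⟨fun c => by simpa using hint (eC.symm c)⟩
  haveI : Algebra.FiniteType A C := Algebra.FiniteType.equiv inferInstance eC
  haveI : Algebra.FiniteType B C := Algebra.FiniteType.of_restrictScalars_finiteType A B C
  haveI : Module.Finite B C := Algebra.IsIntegral.finite
  let F : Fin m → MvPolynomial (Fin m) B := fun i => X i ^ p - MvPolynomial.C (eB (X i))
  let Ψ : Synt.RelGCIRing B m m F →ₐ[B] C := Ideal.Quotient.liftₐ _ (aeval fun i => eC (X i))
    (fun x hx => by
      have h1 : Ideal.span (Set.range F) ≤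
          RingHom.ker (aeval (R := B) fun i => eC (X i)).toRingHom := by
        rw [Ideal.span_le]
        rintro _ ⟨i, rfl⟩
        simp [F, h]
      exact h1 hx)
  let θ₀ : C →ₐ[A] Synt.RelGCIRing B m m F :=
    (aeval fun i => Ideal.Quotient.mk _ (X i)).comp eC.symm.toAlgHom
  have hθX : ∀ i, θ₀ (eC (X i)) = Ideal.Quotient.mk _ (X i) := fun i => by simp [θ₀]
  have hθB : ∀ b, θ₀ (algebraMap B C b) = algebraMap B _ b := by
    have h1 : (θ₀.comp (IsScalarTower.toAlgHom A B C)).comp eB.toAlgHom =
        (IsScalarTower.toAlgHom A B (Synt.RelGCIRing B m m F)).comp eB.toAlgHom := by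
      refine MvPolynomial.algHom_ext fun i => ?_
      change θ₀ (algebraMap B C (eB (X i))) = algebraMap B _ (eB (X i))
      rw [h, map_pow, hθX, ← map_pow]
      exact Ideal.Quotient.eq.2 (Ideal.subset_span ⟨i, rfl⟩)
    intro b
    have := DFunLike.congr_fun h1 (eB.symm b)
    simpa using this
  let θ : C →ₐ[B] Synt.RelGCIRing B m m F := { θ₀.toRingHom with commutes' := hθB }
  let E : Synt.RelGCIRing B m m F ≃ₐ[B] C := AlgEquiv.ofAlgHom Ψ θ
    (by
      have h1 : ((Ψ.comp θ).restrictScalars A).comp eC.toAlgHom = eC.toAlgHom := by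
        refine MvPolynomial.algHom_ext fun i => ?_
        change Ψ (θ₀ (eC (X i))) = eC (X i)
        rw [hθX]
        exact aeval_X _ i
      exact AlgHom.ext fun c => by simpa using DFunLike.congr_fun h1 (eC.symm c))
    (Ideal.Quotient.algHom_ext B (MvPolynomial.algHom_ext fun i => by
      change θ₀ (Ψ (Ideal.Quotient.mk _ (X i))) = Ideal.Quotient.mk _ (X i)
      rw [show Ψ (Ideal.Quotient.mk _ (X i)) = eC (X i) from aeval_X _ i, hθX]))
  have hs := Lib.Synt92.FiniteGCI.isSyntomic F E
  haveI := hs.1
  haveI : FaithfulSMul B C := (faithfulSMul_iff_algebraMap_injective B C).mpr hinj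
  exact ⟨hs, Module.FaithfullyFlat.of_comap_surjective (Algebra.IsIntegral.comap_surjective B C)⟩


/-- Let p be a prime, A a Noetherian commutative ring and m a natural number, and let φ be the A-algebra
endomorphism of the polynomial ring A[T_1, …, T_m] with φ(T_i) = T_i^p. Then φ is syntomic and
faithfully flat (so Spec φ is a covering for the syntomic topology). -/
theorem result (p : ℕ) [Fact p.Prime]
    (A : Type u) [CommRing A] [IsNoetherianRing A] (m : ℕ)
    (φ : MvPolynomial (Fin m) A →ₐ[A] MvPolynomial (Fin m) A)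
    (hφ : ∀ i : Fin m, φ (MvPolynomial.X i) = MvPolynomial.X i ^ p) :
    @Synt.IsSyntomic (MvPolynomial (Fin m) A) _ (MvPolynomial (Fin m) A) _ φ.toRingHom.toAlgebra ∧
      φ.toRingHom.FaithfullyFlat := by
  letI alg : Algebra (MvPolynomial (Fin m) A) (MvPolynomial (Fin m) A) := φ.toRingHom.toAlgebra
  have hp := (Fact.out : p.Prime).pos
  have hφe : φ = MvPolynomial.expand p := MvPolynomial.algHom_ext fun i => by
    rw [hφ, MvPolynomial.expand_X]
  have key : @Synt.IsSyntomic (MvPolynomial (Fin m) A) _ (MvPolynomial (Fin m) A) _ alg ∧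
      @Module.FaithfullyFlat (MvPolynomial (Fin m) A) (MvPolynomial (Fin m) A) _ _ alg.toModule :=
    @syntomic_of_pow A (MvPolynomial (Fin m) A) (MvPolynomial (Fin m) A) _ _ _ _ _ alg
      (@IsScalarTower.of_algebraMap_eq A (MvPolynomial (Fin m) A) (MvPolynomial (Fin m) A) _ _ _ _ alg _
        fun a => (φ.commutes a).symm) p m hp AlgEquiv.refl AlgEquiv.refl (fun i => hφ i)
      (show Function.Injective φ by rw [hφe]; exact MvPolynomial.expand_injective hp)
  exact ⟨key.1, key.2⟩

end Groth.Agent.S18933
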