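import Groth.Statements.S18934
import Groth.Agent.Lib.Synt92.FiniteGCI

set_option autoImplicit false
universe u
open Synt

namespace Groth.Agent.S18934

open Polynomial in
/-- Let p be a prime, A a commutative ring and a an element of A. Then the A-algebra A[T]/(T^p − a) is
syntomic and faithfully flat over A. This is the step of the source's proof showing that adjoining a
p-th root of any element is a covering for the syntomic topology. -/
theorem result (p : ℕ) [Fact p.Prime]
    (A : Type u) [CommRing A] (a : A) :
    Synt.IsSyntomic A (AdjoinRoot (X ^ p - C a)) ∧ Module.FaithfullyFlat A (AdjoinRoot (X ^ p - C a)) := by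
  have hP : (Polynomial.X ^ p - Polynomial.C a).Monic :=
    Polynomial.monic_X_pow_sub_C a (Fact.out : p.Prime).ne_zero
  refine ⟨Lib.Synt92.FiniteGCI.isSyntomic_adjoinRoot _ hP, ?_⟩
  rcases subsingleton_or_nontrivial A with hA | hA
  · haveI : Subsingleton (AdjoinRoot (Polynomial.X ^ p - Polynomial.C a)) :=
      Module.subsingleton A _
    haveI : Module.Flat A (AdjoinRoot (Polynomial.X ^ p - Polynomial.C a)) :=
      haveI := hP.free_adjoinRoot; inferInstance
    exact Module.FaithfullyFlat.of_comap_surjective fun q => absurd q.isPrime.ne_top (not_not.2 (Subsingleton.elim _ _))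
  · haveI := hP.free_adjoinRoot
    haveI : Nontrivial (AdjoinRoot (Polynomial.X ^ p - Polynomial.C a)) :=
      ⟨0, 1, fun h => hP.not_dvd_of_natDegree_lt one_ne_zero (by
        rw [Polynomial.natDegree_X_pow_sub_C, Polynomial.natDegree_one]
        exact (Fact.out : p.Prime).pos) (AdjoinRoot.mk_eq_zero.1 (h.symm.trans rfl : AdjoinRoot.mk _ 1 = 0))⟩
    infer_instance

end Groth.Agent.S18934
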