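import Groth.Statements.S18935
import Groth.Agent.Lib.Synt92.KRRank

set_option autoImplicit false
universe u
open LCI

namespace Groth.Agent.S18935

/-- Let R be a commutative ring and I a proper ideal of R which is generated by some Koszul-regular
sequence. A finite sequence f of generators of I is Koszul-regular if and only if f has the smallest
possible length among all finite generating sequences of I. (Properness of I is needed: the
sequences (1) and (1, 1) are both Koszul-regular and generate the unit ideal.) -/
theorem result {R : Type u} [CommRing R] {I : Ideal R} (hI : I ≠ ⊤)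
    (g : List R) (hg : LCI.IsKoszulRegularSeq R g) (hgI : Ideal.ofList g = I)
    (f : List R) (hfI : Ideal.ofList f = I) :
    LCI.IsKoszulRegularSeq R f ↔ ∀ h : List R, Ideal.ofList h = I → f.length ≤ h.length := by
  have hga := Groth.Agent.Lib.Wiebe.Bridge.acyc_of_isKoszulRegularSeq g.get (by rwa [List.ofFn_get])
  have hgs : Ideal.span (Set.range g.get) = I := by
    rw [Groth.Agent.Lib.Synt92.KRLoc.span_range_eq_ofList, List.ofFn_get, hgI]
  constructor
  · intro hf h hh
    exact Groth.Agent.Lib.Synt92.KRRank.le_length f.get hI
      (Groth.Agent.Lib.Wiebe.Bridge.acyc_of_isKoszulRegularSeq f.get (by rwa [List.ofFn_get]))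
      (by rw [Groth.Agent.Lib.Synt92.KRLoc.span_range_eq_ofList, List.ofFn_get, hfI]) h hh
  · intro hmin
    have e : g.length = f.length :=
      le_antisymm (Groth.Agent.Lib.Synt92.KRRank.le_length g.get hI hga hgs f hfI) (hmin g hgI)
    have hA := Groth.Agent.Lib.Synt92.KRRank.acyc_of_card_eq g.get (f.get ∘ Fin.cast e) hga (by
      rw [hgs, Set.range_comp, (finCongr e).surjective.range_eq.trans rfl |> fun h => (h : Set.range (Fin.cast e) = Set.univ),
        Set.image_univ, Groth.Agent.Lib.Synt92.KRLoc.span_range_eq_ofList, List.ofFn_get, hfI])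
    have := Groth.Agent.Lib.Synt92.CubeBase.isKoszulRegularSeq_of_acyc _ hA
    rwa [show List.ofFn (f.get ∘ Fin.cast e) = f from by
      rw [List.ofFn_congr e]; simp] at this

end Groth.Agent.S18935
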