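import Groth.Statements.S18936
import Groth.Agent.H25.Basic
-- import your own Groth.Agent.* helpers here

set_option autoImplicit false
universe u
open CAlg

namespace Groth.Agent.S18936

/-- Let A be a Noetherian commutative ring, q a prime ideal of A and f an element of A whose image in
the localization A_q is a non-zero-divisor. Then there is an element b of A not in q such that the
image of f in A[1/b] is a non-zero-divisor. -/
theorem result {A : Type u} [CommRing A] [IsNoetherianRing A]
    (q : Ideal A) [q.IsPrime] (f : A)
    (hf : algebraMap A (Localization.AtPrime q) f ∈ nonZeroDivisors (Localization.AtPrime q)) :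
    ∃ b : A, b ∉ q ∧ algebraMap A (Localization.Away b) f ∈ nonZeroDivisors (Localization.Away b) := by
  obtain ⟨b, hb, hK'⟩ := Groth.Agent.H25.Basic.exists_notMem_mul_eq_zero q
    (IsNoetherian.noetherian (LinearMap.ker (LinearMap.mulLeft A f))) (fun y hy => by
      have hy' : f * y = 0 := hy
      have : algebraMap A (Localization.AtPrime q) y = 0 := by
        apply (mem_nonZeroDivisors_iff_right.mp hf)
        rw [← map_mul, mul_comm, hy', map_zero]
      obtain ⟨⟨s, hs⟩, h⟩ := (IsLocalization.map_eq_zero_iff q.primeCompl (Localization.AtPrime q) y).mp this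
      exact ⟨s, hs, h⟩)
  have hK : ∀ a, f * a = 0 → b * a = 0 := hK'
  refine ⟨b, hb, mem_nonZeroDivisors_iff_right.mpr fun z hz => ?_⟩
  · obtain ⟨a, u, rfl⟩ := IsLocalization.exists_mk'_eq (Submonoid.powers b) z
    have h1 : algebraMap A (Localization.Away b) (a * f) = 0 := by
      rw [map_mul, ← IsLocalization.mk'_spec (Localization.Away b) a u, mul_right_comm, hz, zero_mul]
    obtain ⟨⟨v, n, rfl⟩, hv⟩ := (IsLocalization.map_eq_zero_iff (Submonoid.powers b) _ _).mp h1
    rw [IsLocalization.mk'_eq_zero_iff]
    refine ⟨⟨b * b ^ n, n + 1, pow_succ' b n⟩, ?_⟩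
    simp only at hv ⊢
    rw [mul_assoc]
    exact hK _ (by rw [← hv]; ring)

end Groth.Agent.S18936
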