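import Groth.Statements.S18937
import Groth.Agent.H26.RegImmKind
import Groth.Agent.H26.RegImmAppend
import Groth.Agent.H26.RegImmComp
import Mathlib.RingTheory.MvPolynomial.Basic


set_option autoImplicit false
universe u
open CategoryTheory AlgebraicGeometry
open RegImm

set_option maxHeartbeats 400000

namespace Groth.Agent.S18937

theorem ker_of_square {P B L L' : Type u} [CommRing P] [CommRing B] [CommRing L] [CommRing L']
    [Algebra P L] [Algebra B L'] (f : P →+* B) (hf : Function.Surjective f) (q : Ideal B) [q.IsPrime]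
    [IsLocalization.AtPrime L (q.comap f)] [IsLocalization.AtPrime L' q] (φ : L →+* L')
    (hφ : ∀ x, φ (algebraMap P L x) = algebraMap B L' (f x)) :
    RingHom.ker φ = (RingHom.ker f).map (algebraMap P L) := by
  refine le_antisymm (fun z hz => ?_) (Ideal.map_le_iff_le_comap.mpr fun x hx => ?_)
  · obtain ⟨⟨x, s⟩, e⟩ := IsLocalization.surj (q.comap f).primeCompl z
    refine (Ideal.mul_unit_mem_iff_mem _ (IsLocalization.map_units L s)).mp ?_
    rw [e]
    have h0 : algebraMap B L' (f x) = 0 := by
      rw [← hφ, ← e, map_mul, RingHom.mem_ker.mp hz, zero_mul]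
    obtain ⟨t, ht⟩ := (IsLocalization.map_eq_zero_iff q.primeCompl _ _).mp h0
    obtain ⟨t₀, ht₀⟩ := hf t.1
    have hu : IsUnit (algebraMap P L t₀) :=
      IsLocalization.map_units L (⟨t₀, fun h => t.2 (ht₀ ▸ h)⟩ : (q.comap f).primeCompl)
    refine (Ideal.unit_mul_mem_iff_mem _ hu).mp ?_
    rw [← map_mul]
    refine Ideal.mem_map_of_mem _ ?_
    rw [RingHom.mem_ker, map_mul, ht₀, ht]
  · show φ _ = 0
    rw [hφ, RingHom.mem_ker.mp hx, map_zero]

theorem exists_quotient_presentation {P B : Type u} [CommRing P] [CommRing B] (f : P →+* B)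
    (hf : Function.Surjective f) (a : P) (fs : List P)
    (hw : RingTheory.Sequence.IsWeaklyRegular (Localization.Away a) (fs.map (algebraMap P (Localization.Away a))))
    (hI : (RingHom.ker f).map (algebraMap P (Localization.Away a)) =
      Ideal.ofList (fs.map (algebraMap P (Localization.Away a)))) :
    ∃ (rs : List (Polynomial P)) (ψ : Polynomial P →+* Localization.Away (f a)),
      RingTheory.Sequence.IsWeaklyRegular (Polynomial P) rs ∧ Function.Surjective ψ ∧
      RingHom.ker ψ = Ideal.ofList rs ∧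
      ∀ x, ψ (Polynomial.C x) = algebraMap B (Localization.Away (f a)) (f x) := by
  letI : Algebra P (Localization.Away (f a)) :=
    ((algebraMap B (Localization.Away (f a))).comp f).toAlgebra
  let Sa := Localization.Away a
  let φ : Polynomial P →+* Sa := ((Localization.awayEquivAdjoin a).symm.toRingEquiv.toRingHom).comp
    (AdjoinRoot.mk (Polynomial.C a * Polynomial.X - 1))
  have hφ : Function.Surjective φ :=
    (Localization.awayEquivAdjoin a).symm.surjective.comp AdjoinRoot.mk_surjective
  have hφker : RingHom.ker φ = Ideal.ofList [Polynomial.C a * Polynomial.X - 1] := by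
    rw [Ideal.ofList_singleton]
    ext p
    show (Localization.awayEquivAdjoin a).symm (AdjoinRoot.mk _ p) = 0 ↔ _
    rw [map_eq_zero_iff _ (Localization.awayEquivAdjoin a).symm.injective, AdjoinRoot.mk_eq_zero,
      Ideal.mem_span_singleton]
  have hφC : ∀ x, φ (Polynomial.C x) = algebraMap P Sa x := fun x => by
    show (Localization.awayEquivAdjoin a).symm (AdjoinRoot.mk _ (Polynomial.C x)) = _
    rw [AdjoinRoot.mk_C]
    exact (Localization.awayEquivAdjoin a).symm.commutes x
  have hh : RingTheory.Sequence.IsWeaklyRegular (Polynomial P) [Polynomial.C a * Polynomial.X - 1] := by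
    rw [RingTheory.Sequence.isWeaklyRegular_cons_iff]
    refine ⟨isSMulRegular_iff_right_eq_zero_of_smul.mpr fun p hp => ?_,
      RingTheory.Sequence.IsWeaklyRegular.nil _ _⟩
    rw [smul_eq_mul, sub_mul, one_mul, sub_eq_zero] at hp
    ext k
    induction k with
    | zero => rw [← hp, mul_assoc, Polynomial.coeff_C_mul, Polynomial.coeff_X_mul_zero, mul_zero, Polynomial.coeff_zero]
    | succ k ih =>
      rw [show p.coeff (k + 1) = (Polynomial.C a * Polynomial.X * p).coeff (k + 1) by rw [hp],
        mul_assoc, Polynomial.coeff_C_mul, Polynomial.coeff_X_mul, ih, Polynomial.coeff_zero, mul_zero, Polynomial.coeff_zero]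
  have hmap : (fs.map Polynomial.C).map φ = fs.map (algebraMap P Sa) := by
    rw [List.map_map]; exact List.map_congr_left fun x _ => hφC x
  have hu : ∀ y : Submonoid.powers a, IsUnit ((algebraMap B (Localization.Away (f a))).comp f y) := by
    rintro ⟨_, k, rfl⟩
    simp only [RingHom.comp_apply, map_pow]
    exact (IsLocalization.Away.algebraMap_isUnit (f a)).pow k
  let φB : Sa →+* Localization.Away (f a) := IsLocalization.lift hu
  have hφB : ∀ x, φB (algebraMap P Sa x) = algebraMap B (Localization.Away (f a)) (f x) :=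
    IsLocalization.lift_eq hu
  have hφBs : Function.Surjective φB := by
    intro c
    obtain ⟨⟨x, _, k, rfl⟩, e⟩ := IsLocalization.surj (Submonoid.powers (f a)) c
    obtain ⟨x₀, rfl⟩ := hf x
    obtain ⟨w, hw⟩ := IsLocalization.map_units Sa (⟨a ^ k, k, rfl⟩ : Submonoid.powers a)
    refine ⟨algebraMap P Sa x₀ * ↑w⁻¹,
      (IsLocalization.map_units (Localization.Away (f a)) (⟨f a ^ k, k, rfl⟩ : Submonoid.powers (f a))).mul_right_cancel ?_⟩
    rw [e, map_mul, hφB, show algebraMap B (Localization.Away (f a)) (f a ^ k) = φB ↑w by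
      rw [hw, hφB, map_pow, map_pow, map_pow], mul_assoc, ← map_mul, Units.inv_mul, map_one, mul_one]
  have hφBker : RingHom.ker φB = (RingHom.ker f).map (algebraMap P Sa) := by
    refine le_antisymm (fun z hz => ?_) (Ideal.map_le_iff_le_comap.mpr fun x hx => ?_)
    · obtain ⟨⟨x, s⟩, e⟩ := IsLocalization.surj (Submonoid.powers a) z
      refine (Ideal.mul_unit_mem_iff_mem _ (IsLocalization.map_units _ s)).mp ?_
      rw [e]
      have h0 : algebraMap B (Localization.Away (f a)) (f x) = 0 := by
        rw [← hφB, ← e, map_mul, RingHom.mem_ker.mp hz, zero_mul]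
      obtain ⟨⟨_, k, rfl⟩, ht⟩ := (IsLocalization.map_eq_zero_iff (Submonoid.powers (f a)) _ _).mp h0
      have ht' : f a ^ k * f x = 0 := ht
      have hu' : IsUnit (algebraMap P Sa (a ^ k)) :=
        IsLocalization.map_units Sa (⟨a ^ k, k, rfl⟩ : Submonoid.powers a)
      refine (Ideal.unit_mul_mem_iff_mem _ hu').mp ?_
      rw [← map_mul]
      exact Ideal.mem_map_of_mem _ (by rw [RingHom.mem_ker, map_mul, map_pow, ht'])
    · show φB _ = 0
      rw [hφB, RingHom.mem_ker.mp hx, map_zero]
  refine ⟨[Polynomial.C a * Polynomial.X - 1] ++ fs.map Polynomial.C, φB.comp φ,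
    Groth.Agent.H26.RegImmAppend.weaklyRegular_append φ hφ _ _ hφker hh (by rw [hmap]; exact hw),
    hφBs.comp hφ, ?_, fun x => by rw [RingHom.comp_apply, hφC, hφB]⟩
  rw [Groth.Agent.H26.RegImmAppend.ofList_append_eq φ hφ _ _ hφker, hmap, ← hI, ← hφBker, RingHom.comap_ker]

theorem finish {A Q P B : Type u} [CommRing A] [CommRing Q] [CommRing P] [CommRing B] [Algebra A Q]
    [Algebra A P] [Algebra A B] [Nontrivial B] (E : Q ≃ₐ[A] Polynomial P) (rs' : List (Polynomial P))
    (ψ : Polynomial P →+* B) (hw' : RingTheory.Sequence.IsWeaklyRegular (Polynomial P) rs')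
    (hψ : Function.Surjective ψ) (hψk : RingHom.ker ψ = Ideal.ofList rs')
    (hA : ∀ r, ψ (algebraMap A (Polynomial P) r) = algebraMap A B r) :
    ∃ (d : ℕ) (Ps : Fin d → Q), RingTheory.Sequence.IsRegular Q (List.ofFn Ps) ∧
      Nonempty (B ≃ₐ[A] (Q ⧸ Ideal.ofList (List.ofFn Ps))) := by
  let Ψ : Q →ₐ[A] B := { ψ.comp E.toRingEquiv.toRingHom with
    commutes' := fun r => by
      show ψ (E (algebraMap A _ r)) = _
      rw [E.commutes, hA] }
  let ps := rs'.map E.symm
  have hΨ : Function.Surjective Ψ := hψ.comp E.surjective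
  have hΨk : RingHom.ker Ψ = Ideal.ofList ps := by
    show RingHom.ker (ψ.comp E.toRingEquiv.toRingHom) = _
    rw [← RingHom.comap_ker, hψk]
    refine le_antisymm (fun x hx => ?_) (Ideal.span_le.mpr fun x hx => ?_)
    · have h1 := Ideal.mem_map_of_mem E.symm.toRingEquiv.toRingHom (Ideal.mem_comap.mp hx)
      rw [Ideal.map_ofList] at h1
      have h2 : E.symm.toRingEquiv.toRingHom (E.toRingEquiv.toRingHom x) = x := E.symm_apply_apply x
      rw [h2] at h1
      exact h1
    · obtain ⟨r, hr, rfl⟩ := List.mem_map.mp hx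
      show E (E.symm r) ∈ Ideal.ofList rs'
      rw [E.apply_symm_apply]
      exact Ideal.subset_span hr
  have hreg' : RingTheory.Sequence.IsRegular Q ps := by
    refine ⟨(AddEquiv.isWeaklyRegular_congr (e := E.symm.toAddEquiv) (as := rs') (bs := ps)
      (List.forall₂_map_right_iff.mpr (List.forall₂_same.mpr fun r _ x => map_mul E.symm r x))).mp hw', ?_⟩
    rw [smul_eq_mul, Ideal.mul_top, ← hΨk]
    exact (RingHom.ker_ne_top _).symm
  refine ⟨ps.length, fun i => ps[i.1], ?_, ?_⟩
  · rw [List.ofFn_getElem]; exact hreg'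
  · rw [List.ofFn_getElem, ← hΨk]
    exact ⟨(Ideal.quotientKerAlgEquivOfSurjective hΨ).symm⟩

/-- Let A be a Noetherian commutative ring, n a natural number, I an ideal of the polynomial ring A[X_1,
…, X_n] and B = A[X_1, …, X_n]/I, and assume that the closed immersion Spec B → Spec A[X_1, …, X_n]
is a regular immersion (kind: successive non-zero-divisors). Then Spec B is covered by basic opens
D(g) with B[1/g] isomorphic, as an A-algebra, to a quotient A[X_0, …, X_n]/(P_1, …, P_d) of the
polynomial ring in one more variable by a regular sequence P_1, …, P_d. -/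
theorem result
    (A : Type u) [CommRing A] [IsNoetherianRing A] (n : ℕ) (I : Ideal (MvPolynomial (Fin n) A))
    (h : RegImm.IsRegularImmersion RegImm.Kind.regular
      (Spec.map (CommRingCat.ofHom (Ideal.Quotient.mk I))))
    (q : PrimeSpectrum (MvPolynomial (Fin n) A ⧸ I)) :
    ∃ g : MvPolynomial (Fin n) A ⧸ I, g ∉ q.asIdeal ∧
      ∃ (d : ℕ) (P : Fin d → MvPolynomial (Fin (n + 1)) A),
        RingTheory.Sequence.IsRegular (MvPolynomial (Fin (n + 1)) A) (List.ofFn P) ∧
        Nonempty (Localization.Away g ≃ₐ[A] (MvPolynomial (Fin (n + 1)) A ⧸ Ideal.ofList (List.ofFn P))) := by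
  set mk : MvPolynomial (Fin n) A →+* MvPolynomial (Fin n) A ⧸ I := Ideal.Quotient.mk I with hmk
  have hreg := Groth.Agent.H26.RegImmKind.isRegularIdeal_ker (h.2 q)
  let x := (Spec.map (CommRingCat.ofHom mk)) q
  letI : Algebra (MvPolynomial (Fin n) A) ((Spec (CommRingCat.of (MvPolynomial (Fin n) A))).presheaf.stalk x) :=
    StructureSheaf.stalkAlgebra (MvPolynomial (Fin n) A) x
  haveI : IsLocalization.AtPrime ((Spec (CommRingCat.of (MvPolynomial (Fin n) A))).presheaf.stalk x)
      (q.asIdeal.comap mk) := StructureSheaf.IsLocalization.to_stalk (MvPolynomial (Fin n) A) x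
  letI : Algebra (MvPolynomial (Fin n) A ⧸ I) ((Spec (CommRingCat.of (MvPolynomial (Fin n) A ⧸ I))).presheaf.stalk q) :=
    StructureSheaf.stalkAlgebra (MvPolynomial (Fin n) A ⧸ I) q
  haveI : IsLocalization.AtPrime ((Spec (CommRingCat.of (MvPolynomial (Fin n) A ⧸ I))).presheaf.stalk q)
      q.asIdeal := StructureSheaf.IsLocalization.to_stalk (MvPolynomial (Fin n) A ⧸ I) q
  have hk := ker_of_square (L := (Spec (CommRingCat.of (MvPolynomial (Fin n) A))).presheaf.stalk x)
    (L' := (Spec (CommRingCat.of (MvPolynomial (Fin n) A ⧸ I))).presheaf.stalk q)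
    mk Ideal.Quotient.mk_surjective q.asIdeal ((Spec.map (CommRingCat.ofHom mk)).stalkMap q).hom
    (fun y => stalkMap_toStalk_apply (CommRingCat.ofHom mk) q y)
  obtain ⟨rs, hrs, hrsI⟩ := hreg
  rw [hk, Ideal.mk_ker] at hrsI
  obtain ⟨a, ha, fs, hfs⟩ := Groth.Agent.H26.RegImmLocal.exists_away (q.asIdeal.comap mk)
    ((Spec (CommRingCat.of (MvPolynomial (Fin n) A))).presheaf.stalk x) I rs hrs.toIsWeaklyRegular hrsI
  obtain ⟨hw, hI⟩ := hfs (Localization.Away a)
  rw [← Ideal.mk_ker (I := I)] at hI
  obtain ⟨rs', ψ, hw', hψ, hψk, hψC⟩ := exists_quotient_presentation mk Ideal.Quotient.mk_surjective a fs hw hI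
  have hga : mk a ∉ q.asIdeal := ha
  refine ⟨mk a, hga, ?_⟩
  haveI : Nontrivial (Localization.Away (mk a)) :=
    OreLocalization.nontrivial_iff.mpr (by
      rintro ⟨k, hk⟩
      exact hga (q.2.mem_of_pow_mem k (by
        rw [show mk a ^ k = 0 from hk]; exact q.asIdeal.zero_mem)))
  exact finish (MvPolynomial.finSuccEquiv A n) rs' ψ hw' hψ hψk (fun r => by
    rw [Polynomial.algebraMap_apply, hψC]; rfl)

end Groth.Agent.S18937
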