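import Groth.Statements.S18938
import Groth.Agent.Lib.Synt92.KoszulChart
import Groth.Agent.Lib.Synt92.CritLocal
import Groth.Agent.Lib.Synt92.MorAlg
import Groth.Agent.H26.CISpread

set_option autoImplicit false
universe u
open Synt

namespace Groth.Agent.S18938

open MvPolynomial Pointwise RingTheory.Sequence

theorem isSMulRegular_extraEquation {A : Type u} [CommRing A] {n : ℕ} (g : MvPolynomial (Fin n) A) :
    IsSMulRegular (MvPolynomial (Fin (n + 1)) A) (rename Fin.castSucc g * X (Fin.last n) - 1) := by
  classical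
  refine IsSMulRegular.of_right_eq_zero_of_smul fun z hz => ?_
  rw [smul_eq_mul, sub_mul, one_mul, sub_eq_zero] at hz
  have hpow : ∀ N : ℕ, (rename Fin.castSucc g * X (Fin.last n)) ^ N * z = z := by
    intro N
    induction N with
    | zero => simp
    | succ N ih => rw [pow_succ, mul_assoc, hz, ih]
  ext m
  rw [coeff_zero]
  by_contra hm
  have h1 := congrArg (coeff m) (hpow (z.totalDegree + 1))
  rw [mul_pow, X_pow_eq_monomial, mul_comm ((rename Fin.castSucc g) ^ _), mul_assoc,
    coeff_monomial_mul', if_neg] at h1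
  · exact hm h1.symm
  · intro hle
    have h2 := hle (Fin.last n)
    rw [Finsupp.single_eq_same] at h2
    have h3 := le_totalDegree (mem_support_iff.2 hm)
    rw [Finsupp.sum_fintype _ _ (fun _ => rfl)] at h3
    have h4 := Finset.single_le_sum (f := fun i => m i) (fun i _ => Nat.zero_le _) (Finset.mem_univ (Fin.last n))
    omega

theorem isWeaklyRegular_away {P : Type u} [CommRing P] (g : P) (fs : List P)
    (h : ∀ (q : Ideal P) [q.IsPrime], g ∉ q →
      IsWeaklyRegular (Localization.AtPrime q) (fs.map (algebraMap P (Localization.AtPrime q)))) :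
    IsWeaklyRegular (Localization.Away g) (fs.map (algebraMap P (Localization.Away g))) := by
  refine ⟨fun i hi => ?_⟩
  rw [Groth.Agent.H26.CISpread.isSMulRegular_quotient_iff]
  intro z hz
  refine Ideal.mem_of_localization_maximal fun m hm => ?_
  haveI := hm.isPrime
  let q := m.comap (algebraMap P (Localization.Away g))
  haveI : q.IsPrime := Ideal.IsPrime.comap _
  have hgq : g ∉ q := fun hg => Ideal.IsPrime.ne_top ‹m.IsPrime›
    (Ideal.eq_top_of_isUnit_mem _ hg (IsLocalization.Away.algebraMap_isUnit g))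
  haveI : IsLocalization.AtPrime (Localization.AtPrime m) q := by
    simpa only [IsLocalization.AtPrime, Ideal.under] using
      IsLocalization.isLocalization_isLocalization_atPrime_isLocalization
        (Submonoid.powers g) (Localization.AtPrime m) m
  let e := IsLocalization.algEquiv q.primeCompl (Localization.AtPrime q) (Localization.AtPrime m)
  have hm' : IsWeaklyRegular (Localization.AtPrime m)
      ((fs.map (algebraMap P (Localization.Away g))).map (algebraMap _ (Localization.AtPrime m))) := by
    refine (e.toRingEquiv.toAddEquiv.isWeaklyRegular_congr ?_).1 (h q hgq)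
    rw [List.map_map, List.forall₂_map_left_iff, List.forall₂_map_right_iff, List.forall₂_same]
    intro r _ x
    change e (algebraMap P _ r * x) = algebraMap _ (Localization.AtPrime m) (algebraMap P (Localization.Away g) r) * e x
    rw [map_mul, e.commutes, ← IsScalarTower.algebraMap_apply]
  have h2 := (Groth.Agent.H26.CISpread.isSMulRegular_quotient_iff _ _).1
    (hm'.regular_mod_prev i (by simpa using hi)) (algebraMap _ _ z)
  rw [← List.map_take, ← Ideal.map_ofList, List.getElem_map, ← map_mul] at h2
  exact h2 (Ideal.mem_map_of_mem _ hz)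


/-- Let A be a Noetherian commutative ring and B a syntomic A-algebra. Then Spec B is covered by basic
opens D(g) with B[1/g] isomorphic, as an A-algebra, to A[T_1, …, T_n]/(P_1, …, P_d) for a regular
sequence P_1, …, P_d (successive non-zero-divisors with nonzero last quotient) in the polynomial
ring A[T_1, …, T_n]. (The source states this for a syntomic scheme over Spec A, syntomic meaning
flat, locally of finite presentation and locally a Koszul-regular immersion into a smooth scheme;
here syntomic is the ring-map notion with local complete intersection fibres, which agrees with it.) -/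
theorem result
    (A : Type u) [CommRing A] [IsNoetherianRing A] (B : Type u) [CommRing B] [Algebra A B]
    (h : Synt.IsSyntomic A B) (q : PrimeSpectrum B) :
    ∃ g : B, g ∉ q.asIdeal ∧
      ∃ (n d : ℕ) (P : Fin d → MvPolynomial (Fin n) A),
        RingTheory.Sequence.IsRegular (MvPolynomial (Fin n) A) (List.ofFn P) ∧
        Nonempty (Localization.Away g ≃ₐ[A] (MvPolynomial (Fin n) A ⧸ Ideal.ofList (List.ofFn P))) := by
  classical
  obtain ⟨hflat, hfp, hci⟩ := Lib.Synt92.MorAlg.isSyntomic_iff.1 h
  haveI := hflat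
  obtain ⟨n, ψ, hψ, hI⟩ := hfp.out
  let p : PrimeSpectrum A := PrimeSpectrum.comap (algebraMap A B) q
  let a := PrimeSpectrum.preimageEquivFiber A B p ⟨q, rfl⟩
  have ha : a.asIdeal.comap Algebra.TensorProduct.includeRight.toRingHom = q.asIdeal :=
    congrArg (fun z => z.1.asIdeal) ((PrimeSpectrum.preimageEquivFiber A B p).symm_apply_apply ⟨q, rfl⟩)
  haveI : Module.Flat A (Localization.AtPrime q.asIdeal) := Module.Flat.trans A B _
  obtain ⟨c, F, g₀, hg₀, hFI, hmul, hrel⟩ :=
    Lib.Synt92.CritLocal.exists_data ψ hψ hI q.asIdeal p.asIdeal rfl a.asIdeal ha (hci p a)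
  -- regular at the point
  set Q := q.asIdeal.comap ψ.toRingHom
  haveI : Q.IsPrime := Ideal.IsPrime.comap _
  obtain ⟨π₀, hπ₀, hker₀, hren₀⟩ := Lib.Synt92.KoszulChart.exists_away_hom g₀
  set a₀ : MvPolynomial (Fin (n + 1)) A := rename Fin.castSucc g₀ * X (Fin.last n) - 1
  have hQ : IsWeaklyRegular (Localization.AtPrime Q)
      ((List.ofFn F).map (algebraMap (MvPolynomial (Fin n) A) (Localization.AtPrime Q))) := by
    have hd : Disjoint (Submonoid.powers g₀ : Set (MvPolynomial (Fin n) A)) Q :=
      (Ideal.disjoint_powers_iff_notMem g₀ (Ideal.IsPrime.isRadical ‹Q.IsPrime›)).mpr hg₀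
    let m := Q.map (algebraMap _ (Localization.Away g₀))
    haveI : m.IsPrime := IsLocalization.isPrime_of_isPrime_disjoint (Submonoid.powers g₀) _ Q ‹_› hd
    have hmc : m.under (MvPolynomial (Fin n) A) = Q :=
      IsLocalization.under_map_of_isPrime_disjoint (Submonoid.powers g₀) _ ‹Q.IsPrime› hd
    have hK := Lib.Synt92.KoszulChart.isWeaklyRegular_atPrime F g₀ hrel m (fun x hx => by
      obtain ⟨f, hf, rfl⟩ := List.mem_map.1 hx
      obtain ⟨i, rfl⟩ := List.mem_ofFn.1 hf
      refine Ideal.mem_map_of_mem _ ?_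
      change ψ (F i) ∈ q.asIdeal
      rw [hFI]
      exact zero_mem _)
    haveI : IsLocalization.AtPrime (Localization.AtPrime m) Q := by
      have := IsLocalization.isLocalization_isLocalization_atPrime_isLocalization
        (Submonoid.powers g₀) (Localization.AtPrime m) m
      simpa only [IsLocalization.AtPrime, Ideal.under, show m.comap (algebraMap _ _) = Q from hmc] using this
    let e := IsLocalization.algEquiv Q.primeCompl (Localization.AtPrime Q) (Localization.AtPrime m)
    refine (e.toRingEquiv.toAddEquiv.isWeaklyRegular_congr ?_).2 hK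
    rw [List.map_map, List.forall₂_map_left_iff, List.forall₂_map_right_iff, List.forall₂_same]
    intro r _ x
    change e (algebraMap _ _ r * x) =
      algebraMap _ (Localization.AtPrime m) (algebraMap _ (Localization.Away g₀) r) * e x
    rw [map_mul, e.commutes, ← IsScalarTower.algebraMap_apply]
  obtain ⟨g₁, hg₁, hnhd⟩ := Groth.Agent.H26.CISpread.exists_weaklyRegular_nhd Q _ hQ
  set g := g₀ * g₁
  have hgQ : ψ g ∉ q.asIdeal := fun hm =>
    (Ideal.IsPrime.mem_or_mem (inferInstance : Q.IsPrime) (show g ∈ Q from hm)).elim hg₀ hg₁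
  have hwr : IsWeaklyRegular (Localization.Away g)
      ((List.ofFn F).map (algebraMap (MvPolynomial (Fin n) A) (Localization.Away g))) :=
    isWeaklyRegular_away g _ fun q' _ hg' => hnhd q' fun h' => hg' (q'.mul_mem_left _ h')
  obtain ⟨π, hπ, hker, hren⟩ := Lib.Synt92.KoszulChart.exists_away_hom g
  set P : Fin (c + 1) → MvPolynomial (Fin (n + 1)) A :=
    Fin.cons (rename Fin.castSucc g * X (Fin.last n) - 1) fun i => rename Fin.castSucc (F i)
  obtain ⟨e₁⟩ := Lib.Synt92.Congr.nonempty_away_quotient (R := A) (RingHom.ker ψ.toRingHom)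
    (Ideal.span (Set.range F)) (Ideal.span_le.2 (by rintro _ ⟨i, rfl⟩; exact hFI i)) g
    (fun y hy => by
      rw [show g = g₁ * g₀ from mul_comm _ _, mul_assoc]
      exact Ideal.mul_mem_left _ _ (hmul y hy))
  obtain ⟨e₂⟩ := Lib.Synt92.AwayPres.nonempty_equiv A n c F g
  obtain ⟨e₃⟩ := Lib.Synt92.Congr.nonempty_away_congr (Ideal.quotientKerAlgEquivOfSurjective hψ)
    (Ideal.Quotient.mk (RingHom.ker ψ) g)
  have hspan : Ideal.span (Set.range (Lib.Synt92.AwayPres.ext A n c F g)) = Ideal.ofList (List.ofFn P) := by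
    refine congrArg Ideal.span (Set.ext fun x => ⟨?_, fun hx => ?_⟩)
    · rintro ⟨i, rfl⟩
      rw [Set.mem_setOf_eq, List.mem_ofFn]
      refine Fin.lastCases ⟨0, ?_⟩ (fun j => ⟨j.succ, ?_⟩) i <;> simp [P, Lib.Synt92.AwayPres.ext]
    · obtain ⟨i, rfl⟩ := List.mem_ofFn.1 hx
      refine Fin.cases ⟨Fin.last c, ?_⟩ (fun j => ⟨j.castSucc, ?_⟩) i <;>
        simp [P, Lib.Synt92.AwayPres.ext]
  let E : Localization.Away (ψ g) ≃ₐ[A] (MvPolynomial (Fin (n + 1)) A ⧸ Ideal.ofList (List.ofFn P)) :=
    e₃.symm.trans (e₁.symm.trans (e₂.trans (Ideal.quotientEquivAlgOfEq A hspan)))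
  refine ⟨ψ g, hgQ, n + 1, c + 1, P, ⟨?_, ?_⟩, ⟨E⟩⟩
  · rw [List.ofFn_succ, isWeaklyRegular_cons_iff]
    simp only [P, Fin.cons_zero, Fin.cons_succ]
    refine ⟨isSMulRegular_extraEquation g, ?_⟩
    letI := π.toRingHom.toAlgebra
    let ι : MvPolynomial (Fin (n + 1)) A →ₗ[MvPolynomial (Fin (n + 1)) A] Localization.Away g :=
      Algebra.linearMap _ _
    have hk : LinearMap.ker ι = (rename Fin.castSucc g * X (Fin.last n) - 1) •
        (⊤ : Submodule (MvPolynomial (Fin (n + 1)) A) (MvPolynomial (Fin (n + 1)) A)) := by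
      rw [← Submodule.ideal_span_singleton_smul, smul_eq_mul, Ideal.mul_top, ← hker]
      rfl
    let e : QuotSMulTop (rename Fin.castSucc g * X (Fin.last n) - 1) (MvPolynomial (Fin (n + 1)) A) ≃ₗ[
        MvPolynomial (Fin (n + 1)) A] Localization.Away g :=
      (Submodule.quotEquivOfEq _ _ hk.symm).trans (ι.quotKerEquivOfSurjective hπ)
    refine (LinearEquiv.isWeaklyRegular_congr e _).2 ?_
    rw [← isWeaklyRegular_map_algebraMap_iff (Localization.Away g), List.map_ofFn]
    rw [List.map_ofFn] at hwr
    have hl := List.ofFn_inj.2 (funext fun i => hren (F i))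
    have hwr' : IsWeaklyRegular (Localization.Away g)
        (List.ofFn fun i => π (rename Fin.castSucc (F i))) := hl.symm ▸ hwr
    exact hwr'
  · rw [smul_eq_mul, Ideal.mul_top]
    intro htop
    haveI : Subsingleton (MvPolynomial (Fin (n + 1)) A ⧸ Ideal.ofList (List.ofFn P)) :=
      Ideal.Quotient.subsingleton_iff.2 htop.symm
    have hsub : Subsingleton (Localization.Away (ψ g)) := E.toEquiv.subsingleton
    obtain ⟨k, hk⟩ : ∃ k : ℕ, ψ g ^ k * 1 = 0 := by
      obtain ⟨⟨_, k, rfl⟩, hk⟩ := (IsLocalization.map_eq_zero_iff (Submonoid.powers (ψ g))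
        (Localization.Away (ψ g)) (1 : B)).1 (Subsingleton.elim _ _)
      exact ⟨k, hk⟩
    rw [mul_one] at hk
    exact hgQ (Ideal.IsPrime.mem_of_pow_mem inferInstance k (hk ▸ zero_mem _))

end Groth.Agent.S18938
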