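import Groth.Statements.S18942
import Groth.Agent.Lib.DPTheta
import Mathlib.RingTheory.WittVector.TeichmullerSeries
import Mathlib.NumberTheory.Basic
-- import your own Groth.Agent.* helpers here

set_option autoImplicit false
universe u
open DPow

namespace Groth.Agent.S18942

/-- Let p be a prime, k a perfect field of characteristic p, n a natural number and x an element of
W_n(k), written here as the truncation of a Witt vector x over k. For any Witt vectors y_0, …,
y_{n−1} over k lifting the components of x under the map y ↦ (y_0)^(p^n) (that is, (y_i)_0^(p^n) =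
x_i), one has x = Σ_{i<n} p^i y_i^(p^(n−i)) in W_n(k). -/
theorem result (p : ℕ) [Fact p.Prime]
    (k : Type u) [Field k] [CharP k p] [PerfectRing k p] (n : ℕ) (x : WittVector p k)
    (y : Fin n → WittVector p k) (hy : ∀ i : Fin n, ((y i).coeff 0) ^ (p ^ n) = x.coeff i) :
    WittVector.truncate n x =
      WittVector.truncate n (∑ i : Fin n, (p : WittVector p k) ^ (i : ℕ) * (y i) ^ (p ^ (n - i))) := by
  have hp' := (Fact.out : p.Prime)
  rcases Nat.eq_zero_or_pos n with rfl | hn
  · exact TruncatedWittVector.ext fun i => i.elim0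
  have hdvd : (p : WittVector p k) ^ n ∣ x - ∑ i : Fin n, (p : WittVector p k) ^ (i : ℕ) * (y i) ^ (p ^ (n - i)) := by
    have h1 := WittVector.dvd_sub_sum_teichmuller_iterateFrobeniusEquiv_coeff x (n - 1)
    rw [Nat.sub_add_cancel hn, show Finset.Iic (n - 1) = Finset.range n by ext; simp; omega, Finset.sum_range] at h1
    suffices h2 : (p : WittVector p k) ^ n ∣
        ∑ i : Fin n, ((p : WittVector p k) ^ (i : ℕ) * (y i) ^ (p ^ (n - i)) -
          WittVector.teichmuller p (((frobeniusEquiv k p).symm ^ (i : ℕ)) (x.coeff i)) * (p : WittVector p k) ^ (i : ℕ)) by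
      rw [Finset.sum_sub_distrib] at h2
      have := dvd_sub h1 h2
      rwa [sub_sub_sub_cancel_right] at this
    refine Finset.dvd_sum fun i _ => ?_
    have hroot : ((frobeniusEquiv k p).symm ^ (i : ℕ)) (x.coeff i) = ((y i).coeff 0) ^ p ^ (n - i) := by
      apply ((frobeniusEquiv k p) ^ (i : ℕ)).injective
      rw [show (frobeniusEquiv k p).symm = (frobeniusEquiv k p)⁻¹ from rfl, inv_pow]
      show (((frobeniusEquiv k p) ^ (i : ℕ)) * ((frobeniusEquiv k p) ^ (i : ℕ))⁻¹) _ = _
      rw [mul_inv_cancel, RingAut.one_apply, ← hy i]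
      have hpow : ∀ (j : ℕ) (z : k), ((frobeniusEquiv k p) ^ j) z = z ^ p ^ j := by
        intro j
        induction j with
        | zero => simp
        | succ j ih => intro z; rw [pow_succ', RingAut.mul_apply, ih, frobeniusEquiv_apply, frobenius_def, ← pow_mul, pow_succ]
      rw [hpow, ← pow_mul, ← pow_add, Nat.sub_add_cancel i.2.le]
    rw [hroot, map_pow, mul_comm (WittVector.teichmuller p _ ^ _), ← mul_sub]
    have h3 : (p : WittVector p k) ∣ y i - WittVector.teichmuller p ((y i).coeff 0) := by
      rw [← Ideal.mem_span_singleton, ← WittVector.ker_constantCoeff, RingHom.mem_ker, map_sub]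
      show (y i).coeff 0 - (WittVector.teichmuller p ((y i).coeff 0)).coeff 0 = 0
      rw [WittVector.teichmuller_coeff_zero, sub_self]
    calc (p : WittVector p k) ^ n = (p : WittVector p k) ^ (i : ℕ) * (p : WittVector p k) ^ (n - i) := by
          rw [← pow_add, Nat.add_sub_cancel' i.2.le]
      _ ∣ _ := mul_dvd_mul_left _ (dvd_trans (pow_dvd_pow _ (Nat.le_succ _)) (dvd_sub_pow_of_dvd_sub h3 _))
  obtain ⟨w, hw⟩ := hdvd
  have := congrArg (WittVector.truncate n) hw
  rw [map_sub, map_mul, map_pow, map_natCast, Groth.Agent.Lib.DPTheta.natCast_pow_eq_zero p n k, zero_mul,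
    sub_eq_zero] at this
  exact this

end Groth.Agent.S18942
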