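import Groth.Statements.S18943
import Mathlib

set_option autoImplicit false
open scoped ContDiff
open CInfGerm

namespace Groth.Agent.S18943

/-- Let f be an infinitely differentiable real-valued function on the real line with f(0) = 0. Then f(x)
= x·g(x) for an infinitely differentiable function g. (The source phrases this for germs at 0: the
maximal ideal of the local ring of germs of smooth functions at the origin is generated by the
coordinate t; the global form stated here is what its argument, smooth extension of f(x)/x across 0,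
gives.) -/
theorem result (f : ℝ → ℝ) (hf : ContDiff ℝ ∞ f) (h0 : f 0 = 0) :
    ∃ g : ℝ → ℝ, ContDiff ℝ ∞ g ∧ ∀ x : ℝ, f x = x * g x := by
  have hc : ∀ j : ℕ, Continuous (iteratedDeriv j f) := fun j =>
    (hf.continuous_iteratedDeriv j (by exact_mod_cast le_top))
  have hd : ∀ j : ℕ, ∀ y : ℝ, HasDerivAt (iteratedDeriv j f) (iteratedDeriv (j + 1) f y) y := by
    intro j y
    rw [iteratedDeriv_succ]
    exact ((hf.differentiable_iteratedDeriv j (by exact_mod_cast WithTop.coe_lt_top _)) y).hasDerivAt
  let h : ℕ → ℝ → ℝ := fun k x => ∫ t in (0:ℝ)..1, t ^ k * iteratedDeriv (k + 1) f (t * x)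
  have hder : ∀ k x, HasDerivAt (h k) (h (k + 1) x) x := by
    intro k x
    obtain ⟨C, hC⟩ := (isCompact_Icc (a := ((x - 1 : ℝ), (0:ℝ))) (b := (x + 1, 1))).exists_bound_of_continuousOn
      (f := fun p : ℝ × ℝ => p.2 ^ (k + 1) * iteratedDeriv (k + 2) f (p.2 * p.1))
      (Continuous.continuousOn (by have := hc (k + 2); fun_prop))
    have hF : ∀ y : ℝ, Continuous fun t : ℝ => t ^ k * iteratedDeriv (k + 1) f (t * y) := fun y => by
      have := hc (k + 1); fun_prop
    refine (intervalIntegral.hasDerivAt_integral_of_dominated_loc_of_deriv_le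
      (F := fun y t => t ^ k * iteratedDeriv (k + 1) f (t * y))
      (F' := fun y t => t ^ (k + 1) * iteratedDeriv (k + 1 + 1) f (t * y))
      (bound := fun _ => C) (Icc_mem_nhds (show x - 1 < x by linarith) (show x < x + 1 by linarith))
      (Filter.Eventually.of_forall fun y => (hF y).aestronglyMeasurable)
      ((hF x).intervalIntegrable _ _) ?_ ?_ intervalIntegrable_const ?_).2
    · exact (show Continuous fun t : ℝ => t ^ (k + 1) * iteratedDeriv (k + 1 + 1) f (t * x) by
        have := hc (k + 1 + 1); fun_prop).aestronglyMeasurable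
    · refine MeasureTheory.ae_of_all _ fun t ht y hy => hC (y, t) ?_
      rw [Set.uIoc_of_le zero_le_one] at ht
      exact ⟨⟨hy.1, ht.1.le⟩, ⟨hy.2, ht.2⟩⟩
    · refine MeasureTheory.ae_of_all _ fun t _ y _ => ?_
      have := ((hd (k + 1) (t * y)).comp y ((hasDerivAt_id y).const_mul t)).const_mul (t ^ k)
      refine this.congr_deriv ?_
      ring
  have hsm : ∀ n : ℕ, ∀ k, ContDiff ℝ n (h k) := by
    intro n
    induction n with
    | zero => intro k; exact contDiff_zero.mpr (continuous_iff_continuousAt.mpr fun x => (hder k x).continuousAt)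
    | succ n ih =>
      intro k
      rw [Nat.cast_succ, contDiff_succ_iff_deriv]
      refine ⟨fun x => (hder k x).differentiableAt, by simp, ?_⟩
      rw [show deriv (h k) = h (k + 1) from funext fun x => (hder k x).deriv]
      exact ih (k + 1)
  refine ⟨h 0, contDiff_infty.mpr fun n => hsm n 0, fun x => ?_⟩
  have h1 : ∀ t ∈ Set.uIcc (0:ℝ) 1, HasDerivAt (fun t => f (t * x)) (iteratedDeriv 1 f (t * x) * x) t := by
    intro t _
    have := hd 0 (t * x)
    rw [iteratedDeriv_zero] at this
    exact (this.comp t ((hasDerivAt_id t).mul_const x)).congr_deriv (by ring)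
  have h2 := intervalIntegral.integral_eq_sub_of_hasDerivAt h1
    ((show Continuous fun t : ℝ => iteratedDeriv 1 f (t * x) * x by have := hc 1; fun_prop).intervalIntegrable _ _)
  rw [one_mul, zero_mul, h0, sub_zero, intervalIntegral.integral_mul_const] at h2
  simp only [h, pow_zero, one_mul]
  linarith

end Groth.Agent.S18943
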