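import Groth.Statements.S18945
import Groth.Agent.Lib.Synt92.FiniteGCI
import Groth.Agent.Lib.Synt92.MorStd
import Groth.Agent.S18934

set_option autoImplicit false
universe u
open CategoryTheory AlgebraicGeometry
open Synt

namespace Groth.Agent.S18945

theorem appTop_affine (X : Scheme.{u}) {U : X.Opens} (hU : IsAffineOpen U) {B : CommRingCat.{u}}
    (φ : Γ(X, U) ⟶ B) : (Spec.map φ ≫ hU.fromSpec).appTop =
      X.presheaf.map (homOfLE le_top).op ≫ φ ≫ (Scheme.ΓSpecIso B).inv := by
  change (Spec.map φ ≫ hU.fromSpec).app ⊤ = _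
  rw [Scheme.Hom.comp_app, hU.fromSpec_app_of_le ⊤ le_top, Category.assoc, Category.assoc,
    Scheme.ΓSpecIso_inv_naturality]
  congr 2

/-- An affine algebra over an affine open, syntomic over it, is syntomic over the scheme. -/
theorem isSyntomicMor_affine (X : Scheme.{u}) {U : X.Opens} (hU : IsAffineOpen U) {B : CommRingCat.{u}}
    (φ : Γ(X, U) ⟶ B) (h : letI := φ.hom.toAlgebra; Synt.IsSyntomic Γ(X, U) B) :
    Synt.IsSyntomicMor (Spec.map φ ≫ hU.fromSpec) := by
  intro z
  have e : (⊤ : (Spec B).Opens) ≤ (Spec.map φ ≫ hU.fromSpec) ⁻¹ᵁ U := by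
    rw [Scheme.Hom.comp_preimage, hU.fromSpec_preimage_self]
    rfl
  refine ⟨⟨⊤, isAffineOpen_top _⟩, ⟨U, hU⟩, e, trivial, ?_⟩
  have happ : (Spec.map φ ≫ hU.fromSpec).appLE U ⊤ e = φ ≫ (Scheme.ΓSpecIso B).inv := by
    rw [Scheme.Hom.comp_appLE, hU.fromSpec_app_self, Category.assoc, Scheme.Hom.map_appLE]
    rw [show (Spec.map φ).appLE ⊤ ⊤ (by exact le_rfl) = (Spec.map φ).appTop from Scheme.Hom.appLE_eq_app _]
    exact (Scheme.ΓSpecIso_inv_naturality φ).symm
  letI := φ.hom.toAlgebra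
  letI := ((Spec.map φ ≫ hU.fromSpec).appLE U ⊤ e).hom.toAlgebra
  refine Lib.Synt92.MorStd.isSyntomic_of_arrow (RingEquiv.refl Γ(X, U))
    (Scheme.ΓSpecIso B).commRingCatIsoToRingEquiv (fun r => ?_) h
  change (Scheme.ΓSpecIso B).hom.hom (((Spec.map φ ≫ hU.fromSpec).appLE U ⊤ e).hom r) = φ.hom r
  rw [happ]
  exact (Scheme.ΓSpecIso B).commRingCatIsoToRingEquiv.apply_symm_apply (φ.hom r)


/-- Let p be a prime, X a scheme and a a global section of the structure sheaf of X. There is a covering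
of X for the syntomic topology, that is a jointly surjective family of syntomic morphisms X_i → X,
such that the restriction of a to each X_i is a p-th power. (The source states the surjectivity of
the p-th power map of the structure sheaf on the small syntomic site of a syntomic scheme over a
perfect field of characteristic p; the covering it uses elsewhere, adjoining a p-th root T^p = a
over affine pieces, gives the statement for every scheme, which is the form given here.) -/
theorem result (p : ℕ) [Fact p.Prime] (X : Scheme.{u}) (a : Γ(X, ⊤)) :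
    ∃ 𝒰 : Scheme.Cover.{u} (Scheme.precoverage @Synt.IsSyntomicMor) X,
      ∀ i : 𝒰.I₀, ∃ b : Γ(𝒰.X i, ⊤), b ^ p = (𝒰.f i).appTop a := by
  let P : ∀ U : X.affineOpens, Polynomial Γ(X, U.1) := fun U =>
    Polynomial.X ^ p - Polynomial.C ((X.presheaf.map (homOfLE le_top).op).hom a : Γ(X, U.1))
  let φ : ∀ U : X.affineOpens, Γ(X, U.1) ⟶ CommRingCat.of (AdjoinRoot (P U)) := fun U =>
    CommRingCat.ofHom (AdjoinRoot.of (P U))
  refine ⟨Scheme.Cover.mkOfCovers X.affineOpens (fun U => Spec (CommRingCat.of (AdjoinRoot (P U))))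
    (fun U => Spec.map (φ U) ≫ U.2.fromSpec) (fun x => ?_) (fun U => ?_), fun (U : X.affineOpens) => ?_⟩
  · obtain ⟨U, hU, hxU, -⟩ := exists_isAffineOpen_mem_and_subset (X := X) (x := x) (U := ⊤) trivial
    haveI : Module.FaithfullyFlat Γ(X, U) (AdjoinRoot (P ⟨U, hU⟩)) := (S18934.result p Γ(X, U) _).2
    obtain ⟨y, hy⟩ := PrimeSpectrum.comap_surjective_of_faithfullyFlat
      (A := Γ(X, U)) (B := AdjoinRoot (P ⟨U, hU⟩)) (hU.primeIdealOf ⟨x, hxU⟩)
    refine ⟨⟨U, hU⟩, y, ?_⟩
    change hU.fromSpec (PrimeSpectrum.comap (algebraMap Γ(X, U) (AdjoinRoot (P ⟨U, hU⟩))) y) = x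
    rw [hy]
    exact hU.fromSpec_primeIdealOf _
  · refine isSyntomicMor_affine X U.2 (φ U) ?_
    have h := (S18934.result p Γ(X, U.1) ((X.presheaf.map (homOfLE le_top).op).hom a : Γ(X, U.1))).1
    have hh : @Synt.IsSyntomic Γ(X, U.1) _ (AdjoinRoot (P U)) _ (AdjoinRoot.of (P U)).toAlgebra := by
      convert h using 2
      exact Algebra.algebra_ext _ _ fun x => rfl
    exact hh
  · let r : (CommRingCat.of (AdjoinRoot (P U)) : Type u) := AdjoinRoot.root (P U)
    refine ⟨(Scheme.ΓSpecIso (CommRingCat.of (AdjoinRoot (P U)))).inv.hom r, ?_⟩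
    refine (map_pow (Scheme.ΓSpecIso (CommRingCat.of (AdjoinRoot (P U)))).inv.hom r p).symm.trans ?_
    have hroot : (AdjoinRoot.root (P U)) ^ p =
        AdjoinRoot.of (P U) ((X.presheaf.map (homOfLE le_top).op).hom a : Γ(X, U.1)) := by
      have h := AdjoinRoot.eval₂_root (P U)
      rwa [Polynomial.eval₂_sub, Polynomial.eval₂_pow, Polynomial.eval₂_X, Polynomial.eval₂_C, sub_eq_zero] at h
    refine (congrArg (Scheme.ΓSpecIso (CommRingCat.of (AdjoinRoot (P U)))).inv.hom hroot).trans ?_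
    have h1 := appTop_affine X U.2 (φ U)
    exact (congrArg (fun g => g.hom a) h1).symm

end Groth.Agent.S18945
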