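import Groth.Statements.S18946
import Mathlib.Algebra.MvPolynomial.CommRing
import Mathlib.FieldTheory.IsAlgClosed.Basic
import Mathlib.RingTheory.MvPolynomial.Basic
-- import your own Groth.Agent.* helpers here

set_option autoImplicit false
universe u
open scoped BigOperators
open InvQ

namespace Groth.Agent.S18946

/-- Let k be an algebraically closed field of characteristic zero and n a natural number, and let the
torus of (n+1)-tuples of units of k with product 1 act on the polynomial ring k[t_0, ..., t_n] by
rescaling each variable t_i by the i-th unit. A polynomial is fixed by every such rescaling if and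
only if it lies in the k-subalgebra generated by the product t_0 t_1 ... t_n. (This is the
computation of the ring of functions on affine (n+1)-space invariant under the maximal diagonal
torus of the special linear group, identified with the polynomial ring in the single coordinate t =
t_0 ... t_n of the line it maps to by the product map; invariance is tested on k-valued points of
the torus, which over an infinite field is the same as invariance under the group scheme.) -/
theorem result
    (k : Type u) [Field k] [IsAlgClosed k] [CharZero k] (n : ℕ)
    (f : MvPolynomial (Fin (n + 1)) k) :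
    (∀ σ : Fin (n + 1) → kˣ, ∏ i, (σ i : k) = 1 →
        MvPolynomial.aeval (fun i => MvPolynomial.C (σ i : k) * MvPolynomial.X i) f = f) ↔
      f ∈ Algebra.adjoin k ({∏ i : Fin (n + 1), MvPolynomial.X i} : Set (MvPolynomial (Fin (n + 1)) k)) := by
  constructor
  · intro h
    have hcoef : ∀ (σ : Fin (n + 1) → kˣ) (g : MvPolynomial (Fin (n + 1)) k) (m : Fin (n + 1) →₀ ℕ),
        MvPolynomial.coeff m (MvPolynomial.aeval (fun i => MvPolynomial.C (σ i : k) * MvPolynomial.X i) g) =
          (∏ i, (σ i : k) ^ m i) * MvPolynomial.coeff m g := by
      intro σ g m
      induction g using MvPolynomial.induction_on' with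
      | add p q hp hq => rw [map_add, MvPolynomial.coeff_add, MvPolynomial.coeff_add, hp, hq, mul_add]
      | monomial s c =>
        rw [MvPolynomial.aeval_monomial, Finsupp.prod_fintype _ _ (fun i => pow_zero _)]
        simp only [mul_pow, Finset.prod_mul_distrib, ← map_pow, ← map_prod, MvPolynomial.algebraMap_eq]
        rw [← mul_assoc, ← map_mul, show (∏ i, (MvPolynomial.X i : MvPolynomial (Fin (n + 1)) k) ^ s i) = MvPolynomial.monomial s 1 by
          rw [MvPolynomial.monomial_eq, Finsupp.prod_fintype _ _ (fun i => pow_zero _), map_one, one_mul],
          MvPolynomial.C_mul_monomial, mul_one, MvPolynomial.coeff_monomial, MvPolynomial.coeff_monomial]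
        split_ifs with hs
        · subst hs; ring
        · ring
    rw [← MvPolynomial.support_sum_monomial_coeff f]
    refine Subalgebra.sum_mem _ fun m hm => ?_
    have hm' : ∀ i, m i = m 0 := by
      intro i
      by_cases hi : i = 0
      · rw [hi]
      let c : kˣ := Units.mk0 (2 : k) two_ne_zero
      let σ : Fin (n + 1) → kˣ := Function.update (Function.update 1 i c) 0 c⁻¹
      have hprod : ∀ e : Fin (n + 1) → ℕ, (∏ j, (σ j : k) ^ e j) = (2 : k) ^ e i * ((2 : k)⁻¹) ^ e 0 := by
        intro e
        rw [Finset.prod_eq_mul_of_mem i 0 (Finset.mem_univ _) (Finset.mem_univ _) hi]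
        · simp [σ, c, hi]
        · rintro j - ⟨hji, hj0⟩
          simp [σ, hji, hj0]
      have hs : ∏ j, (σ j : k) = 1 := by
        have := hprod fun _ => 1
        simpa using this
      have h1 := congrArg (MvPolynomial.coeff m) (h σ hs)
      rw [hcoef, mul_eq_right₀ (MvPolynomial.mem_support_iff.1 hm), hprod] at h1
      have h2 : (2 : k) ^ m i = (2 : k) ^ m 0 := by
        rwa [inv_pow, mul_inv_eq_one₀ (pow_ne_zero _ two_ne_zero)] at h1
      exact Nat.pow_right_injective le_rfl (by exact_mod_cast h2)
    rw [MvPolynomial.monomial_eq, Finsupp.prod_fintype _ _ (fun i => pow_zero _)]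
    simp only [hm', Finset.prod_pow]
    rw [← MvPolynomial.algebraMap_eq]
    refine Subalgebra.mul_mem _ (Subalgebra.algebraMap_mem _ _) (Subalgebra.pow_mem _ ?_ _)
    exact Algebra.subset_adjoin (Set.mem_singleton _)
  · intro hf σ hσ
    induction hf using Algebra.adjoin_induction with
    | mem x hx =>
      rw [Set.mem_singleton_iff] at hx
      subst hx
      rw [map_prod]
      simp only [MvPolynomial.aeval_X, Finset.prod_mul_distrib, ← map_prod, hσ, map_one, one_mul]
    | algebraMap r => exact AlgHom.commutes _ r
    | add x y _ _ hx hy => rw [map_add, hx, hy]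
    | mul x y _ _ hx hy => rw [map_mul, hx, hy]

end Groth.Agent.S18946
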