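import Groth.Statements.S18948
import Mathlib.GroupTheory.GroupAction.ConjAct
import Mathlib.Tactic.Group

set_option autoImplicit false
universe u v
open CExt

namespace Groth.Agent.S18948

/-- Let f : E → G be a surjective homomorphism of groups whose kernel is central in E, and let x ∈ E.
Then f maps the conjugacy class of x bijectively onto the conjugacy class of f(x) if and only if
every element of G commuting with f(x) is the image of some element of E commuting with x. (In the
source E → G is the central extension, with kernel the roots of unity, attached to a Brauer class of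
the classifying stack of a finite tame étale group scheme, and a conjugacy class of E mapping
bijectively onto a given class of G is a marking; the equivalence is stated here for an arbitrary
central extension of abstract groups.) -/
theorem result {E : Type u} {G : Type v} [Group E] [Group G]
    (f : E →* G) (hf : Function.Surjective f) (hker : f.ker ≤ Subgroup.center E) (x : E) :
    Set.BijOn f (MulAction.orbit (ConjAct E) x) (MulAction.orbit (ConjAct G) (f x)) ↔
      ∀ g : G, g * f x = f x * g → ∃ e : E, f e = g ∧ e * x = x * e := by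
  have horbE : ∀ (a b : E), a ∈ MulAction.orbit (ConjAct E) b ↔ ∃ e : E, e * b * e⁻¹ = a := fun a b =>
    ⟨fun ⟨e, he⟩ => ⟨ConjAct.ofConjAct e, by simpa [ConjAct.smul_def] using he⟩,
      fun ⟨e, he⟩ => ⟨ConjAct.toConjAct e, by simpa [ConjAct.smul_def] using he⟩⟩
  have horbG : ∀ (a b : G), a ∈ MulAction.orbit (ConjAct G) b ↔ ∃ e : G, e * b * e⁻¹ = a := fun a b =>
    ⟨fun ⟨e, he⟩ => ⟨ConjAct.ofConjAct e, by simpa [ConjAct.smul_def] using he⟩,
      fun ⟨e, he⟩ => ⟨ConjAct.toConjAct e, by simpa [ConjAct.smul_def] using he⟩⟩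
  constructor
  · intro h g hg
    obtain ⟨e, rfl⟩ := hf g
    refine ⟨e, rfl, ?_⟩
    have he : e * x * e⁻¹ = x := h.injOn ((horbE _ _).mpr ⟨e, rfl⟩) ((horbE _ _).mpr ⟨1, by group⟩)
      (by rw [map_mul, map_mul, map_inv, hg, mul_inv_cancel_right])
    calc e * x = (e * x * e⁻¹) * e := by group
      _ = x * e := by rw [he]
  · intro h
    refine ⟨fun a ha => ?_, fun a ha b hb hab => ?_, fun g hg => ?_⟩
    · obtain ⟨e, rfl⟩ := (horbE _ _).mp ha
      exact (horbG _ _).mpr ⟨f e, by simp⟩
    · obtain ⟨a', rfl⟩ := (horbE _ _).mp ha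
      obtain ⟨b', rfl⟩ := (horbE _ _).mp hb
      obtain ⟨e, he, hex⟩ := h (f (b'⁻¹ * a')) (by
        calc f (b'⁻¹ * a') * f x = (f b')⁻¹ * f (a' * x * a'⁻¹) * f a' := by simp only [map_mul, map_inv]; group
          _ = (f b')⁻¹ * f (b' * x * b'⁻¹) * f a' := by rw [hab]
          _ = f x * f (b'⁻¹ * a') := by simp only [map_mul, map_inv]; group)
      have hc : e⁻¹ * (b'⁻¹ * a') ∈ Subgroup.center E := hker (by
        rw [MonoidHom.mem_ker, map_mul, map_inv, he, inv_mul_cancel])
      have hc' := (Subgroup.mem_center_iff.mp hc x)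
      calc a' * x * a'⁻¹ = b' * (e * (e⁻¹ * (b'⁻¹ * a') * x) * (e⁻¹ * (b'⁻¹ * a'))⁻¹ * e⁻¹) * b'⁻¹ := by group
        _ = b' * (e * (x * (e⁻¹ * (b'⁻¹ * a'))) * (e⁻¹ * (b'⁻¹ * a'))⁻¹ * e⁻¹) * b'⁻¹ := by rw [hc']
        _ = b' * (e * x * e⁻¹) * b'⁻¹ := by group
        _ = b' * x * b'⁻¹ := by rw [hex, mul_inv_cancel_right]
    · obtain ⟨g', rfl⟩ := (horbG _ _).mp hg
      obtain ⟨e, rfl⟩ := hf g'
      exact ⟨e * x * e⁻¹, (horbE _ _).mpr ⟨e, rfl⟩, by simp⟩

end Groth.Agent.S18948
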