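import Groth.Statements.S18949
import Mathlib.GroupTheory.GroupAction.ConjAct
import Mathlib.Tactic.Group

set_option autoImplicit false
universe u v
open CExt

namespace Groth.Agent.S18949

/-- Automorphisms over the base: let f : E → G be a surjective homomorphism of groups with central
kernel A. For every homomorphism χ : G → A the map e ↦ χ(f(e)) · e is an endomorphism of E over G
which is the identity on A; and every endomorphism α of E with f ∘ α = f and α equal to the identity
on A is of this form for exactly one χ. (In the source this identifies the automorphisms of a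
central extension fixing its kernel with Hom(G, A), for extensions of profinite étale group schemes
over a field; stated here for abstract groups.) -/
theorem result {E : Type u} {G : Type v} [Group E] [Group G]
    (f : E →* G) (hf : Function.Surjective f) (hker : f.ker ≤ Subgroup.center E) :
    (∀ χ : G →* f.ker, ∃ α : E →* E, f.comp α = f ∧ (∀ a ∈ f.ker, α a = a) ∧
        ∀ e : E, α e = (χ (f e) : E) * e) ∧
      ∀ α : E →* E, f.comp α = f → (∀ a ∈ f.ker, α a = a) →
        ∃! χ : G →* f.ker, ∀ e : E, α e = (χ (f e) : E) * e := by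
  have hcen : ∀ a ∈ f.ker, ∀ e : E, e * a = a * e := fun a ha e => Subgroup.mem_center_iff.mp (hker ha) e
  refine ⟨fun χ => ⟨MonoidHom.mk' (fun e => (χ (f e) : E) * e) fun a b => ?_, ?_, ?_, fun e => rfl⟩, fun α hα hαA => ?_⟩
  · rw [map_mul, map_mul, Subgroup.coe_mul]
    calc (χ (f a) : E) * χ (f b) * (a * b) = χ (f a) * ((χ (f b) : E) * a) * b := by group
      _ = χ (f a) * (a * χ (f b)) * b := by rw [hcen _ (χ (f b)).2 a]
      _ = _ := by group
  · ext e
    simp [show f (χ (f e) : E) = 1 from (χ (f e)).2]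
  · intro a ha
    simp [MonoidHom.mem_ker.mp ha]
  · have hmem : ∀ e, α e * e⁻¹ ∈ f.ker := fun e => by
      rw [MonoidHom.mem_ker, map_mul, map_inv, show f (α e) = f e from DFunLike.congr_fun hα e, mul_inv_cancel]
    have hwd : ∀ e e', f e = f e' → α e * e⁻¹ = α e' * e'⁻¹ := by
      intro e e' he
      have ha : e' * e⁻¹ ∈ f.ker := by rw [MonoidHom.mem_ker, map_mul, map_inv, he, mul_inv_cancel]
      have h1 : α e' = e' * e⁻¹ * α e := by
        rw [← hαA _ ha, ← map_mul, inv_mul_cancel_right]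
      rw [h1]
      calc α e * e⁻¹ = (e' * e⁻¹)⁻¹ * ((e' * e⁻¹) * (α e * e⁻¹)) := by group
        _ = (e' * e⁻¹)⁻¹ * ((α e * e⁻¹) * (e' * e⁻¹)) := by rw [hcen _ ha (α e * e⁻¹)]
        _ = (e' * e⁻¹)⁻¹ * (α e * e⁻¹) * (e' * e⁻¹) := by group
        _ = (α e * e⁻¹) * (e' * e⁻¹)⁻¹ * (e' * e⁻¹) := by rw [hcen _ (hmem e) (e' * e⁻¹)⁻¹]
        _ = e' * e⁻¹ * (α e * e⁻¹) * (e' * e⁻¹)⁻¹ := by rw [← hcen _ ha (α e * e⁻¹)]; group
        _ = _ := by group
    let s : G → E := Function.surjInv hf
    have hs : ∀ g, f (s g) = g := Function.surjInv_eq hf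
    refine ⟨MonoidHom.mk' (fun g => (⟨α (s g) * (s g)⁻¹, hmem _⟩ : f.ker)) fun a b => Subtype.ext ?_, fun e => ?_, fun χ hχ => ?_⟩
    · show α (s (a * b)) * (s (a * b))⁻¹ = α (s a) * (s a)⁻¹ * (α (s b) * (s b)⁻¹)
      rw [hwd (s (a * b)) (s a * s b) (by rw [map_mul, hs, hs, hs]), map_mul]
      calc α (s a) * α (s b) * (s a * s b)⁻¹ = α (s a) * ((α (s b) * (s b)⁻¹) * (s a)⁻¹) := by group
        _ = α (s a) * ((s a)⁻¹ * (α (s b) * (s b)⁻¹)) := by rw [← hcen _ (hmem (s b)) (s a)⁻¹]
        _ = _ := by group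
    · show α e = α (s (f e)) * (s (f e))⁻¹ * e
      rw [hwd (s (f e)) e (hs _), inv_mul_cancel_right]
    · ext g
      show (χ g : E) = α (s g) * (s g)⁻¹
      rw [hχ (s g), hs, mul_inv_cancel_right]

end Groth.Agent.S18949
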