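import Groth.Statements.S18951


set_option autoImplicit false
universe u
open OrbPic

namespace Groth.Agent.S18951

/-- Let G be a group and C ⊆ G a subset that generates G. Then the projection (χ, w) ↦ w from the group
of geometric partial orbifold line bundles with respect to C to functions G → ℚ is injective, its
image contains every conjugation-invariant integer-valued function vanishing at 1 and outside C, and
the group is torsion-free. (The source works with the geometric points of a tame finite étale group
scheme, characters with values in roots of unity and weights on conjugacy classes of the Tate twist;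
here these are identified with a group, homomorphisms to ℚ/ℤ and class functions as the source does
after choosing roots of unity. The case C = G ∖ {1} is the statement for full orbifold line
bundles.) -/
theorem result (G : Type u) [Group G] (C : Set G)
    (hC : Subgroup.closure C = ⊤) :
    Set.InjOn (fun p : (Additive G →+ W4c6brauerbgmalle.QmodZ) × (G → ℚ) => p.2) (W4c6brauerbgmalle.picOrb G C) ∧
      (∀ w ∈ W4c6brauerbgmalle.intWeights G C, ((0 : Additive G →+ W4c6brauerbgmalle.QmodZ), w) ∈ W4c6brauerbgmalle.picOrb G C) ∧
      ∀ (n : ℕ) (p : (Additive G →+ W4c6brauerbgmalle.QmodZ) × (G → ℚ)), p ∈ W4c6brauerbgmalle.picOrb G C → n ≠ 0 →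
        n • p = 0 → p = 0 := by
  have hinj : ∀ χ : Additive G →+ W4c6brauerbgmalle.QmodZ, (∀ g ∈ C, χ (Additive.ofMul g) = 0) → χ = 0 := by
    intro χ hχ
    ext g
    suffices ∀ y ∈ Subgroup.closure C, χ (Additive.ofMul y) = 0 from this (Additive.toMul g) (by rw [hC]; exact Subgroup.mem_top _)
    intro y hy
    induction hy using Subgroup.closure_induction with
    | mem x hx => exact hχ x hx
    | one => exact map_zero χ
    | mul x y _ _ hx hy =>
      show χ (Additive.ofMul x + Additive.ofMul y) = 0
      rw [map_add]; exact (congrArg₂ (· + ·) hx hy).trans (add_zero 0)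
    | inv x _ hx =>
      show χ (-Additive.ofMul x) = 0
      rw [map_neg, neg_eq_zero]; exact hx
  refine ⟨?_, fun w hw => ⟨hw.1, hw.2.1, hw.2.2.1, fun g _ => ?_⟩, fun n p hp hn h0 => ?_⟩
  · rintro p hp q hq (hpq : p.2 = q.2)
    refine Prod.ext (sub_eq_zero.mp (hinj _ fun g hg => ?_)) hpq
    rw [AddMonoidHom.sub_apply, ← hp.2.2.2 g hg, ← hq.2.2.2 g hg, hpq, sub_self]
  · obtain ⟨m, hm⟩ := hw.2.2.2 g
    simp only [AddMonoidHom.zero_apply, hm]
    rw [QuotientAddGroup.mk'_apply, QuotientAddGroup.eq_zero_iff]
    exact ⟨m, by simp⟩
  · have h2 : p.2 = 0 := by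
      funext g
      have := congrArg (fun q => q.2 g) h0
      simp at this
      exact this.resolve_left hn
    refine Prod.ext (hinj _ fun g hg => ?_) h2
    rw [← hp.2.2.2 g hg, h2]; simp

end Groth.Agent.S18951
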