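import Groth.Statements.S18952
import Mathlib.Tactic.Abel

set_option autoImplicit false
universe u
open OrbPic

namespace Groth.Agent.S18952

/-- Let G be a group and C ⊆ G a subset stable under conjugation. Then (χ, w) ↦ χ maps the group of
geometric partial orbifold line bundles with respect to C onto all characters G → ℚ/ℤ, and a pair in
its kernel (χ trivial) has w a conjugation-invariant integer-valued function vanishing at 1 and
outside C: with the inclusion of such functions this is the exact sequence 0 → Hom(C/conj, ℤ) → Pic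
→ Hom(G, ℚ/ℤ) → 0 over a separably closed field. (As in the source after a choice of roots of unity,
the group G stands for the geometric points of a tame finite étale group scheme, characters are
homomorphisms to ℚ/ℤ and weights are class functions on G.) -/
theorem result (G : Type u) [Group G] (C : Set G)
    (hC : ∀ g h : G, g ∈ C → h * g * h⁻¹ ∈ C) :
    (∀ χ : Additive G →+ W4c6brauerbgmalle.QmodZ, ∃ w : G → ℚ, (χ, w) ∈ W4c6brauerbgmalle.picOrb G C) ∧
      (∀ p : (Additive G →+ W4c6brauerbgmalle.QmodZ) × (G → ℚ), p ∈ W4c6brauerbgmalle.picOrb G C → p.1 = 0 →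
        p.2 ∈ W4c6brauerbgmalle.intWeights G C) := by
  classical
  refine ⟨fun χ => ⟨fun g => if g ∈ C ∧ g ≠ 1 then (χ (Additive.ofMul g)).out else 0, ?_, ?_, ?_, ?_⟩, fun p hp h0 => ?_⟩
  · simp
  · intro g hg; simp [hg]
  · intro g h
    have h1 : h * g * h⁻¹ ∈ C ↔ g ∈ C := ⟨fun hh => by simpa [mul_assoc] using hC _ h⁻¹ hh, hC g h⟩
    have h2 : h * g * h⁻¹ ≠ 1 ↔ g ≠ 1 := by simp [mul_inv_eq_one]
    have h3 : χ (Additive.ofMul (h * g * h⁻¹)) = χ (Additive.ofMul g) := by
      rw [ofMul_mul, ofMul_mul, ofMul_inv, map_add, map_add, map_neg]; abel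
    simp only [h1, h2, h3]
  · intro g hg
    by_cases h1 : g = 1
    · subst h1; simp
    · simp only [hg, ne_eq, h1, not_false_eq_true, and_self, if_true]
      exact Quotient.out_eq (χ (Additive.ofMul g))
  · refine ⟨hp.1, hp.2.1, hp.2.2.1, fun g => ?_⟩
    by_cases hg : g ∈ C
    · have h1 := hp.2.2.2 g hg
      rw [h0, AddMonoidHom.zero_apply, QuotientAddGroup.mk'_apply, QuotientAddGroup.eq_zero_iff] at h1
      obtain ⟨n, hn⟩ := h1
      exact ⟨n, by simpa using hn.symm⟩
    · exact ⟨0, by simpa using hp.2.1 g hg⟩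

end Groth.Agent.S18952
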