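import Groth.Statements.S18953


set_option autoImplicit false
universe u v
open OrbPic

namespace Groth.Agent.S18953

/-- Let G₁ and G₂ be groups with subsets C₁ ⊆ G₁ and C₂ ⊆ G₂, and let C ⊆ G₁ × G₂ be the union of C₁ ×
{1} and {1} × C₂. Restricting the character and the weight along the two inclusions G₁ → G₁ × G₂ and
G₂ → G₁ × G₂ is a bijection from the geometric partial orbifold line bundles of G₁ × G₂ with respect
to C onto pairs of geometric partial orbifold line bundles of G₁ with respect to C₁ and of G₂ with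
respect to C₂. (As in the source after a choice of roots of unity, each group stands for the
geometric points of a tame finite étale group scheme, characters are homomorphisms to ℚ/ℤ and
weights are class functions; the source states the Galois-equivariant version, which follows by
taking invariants.) -/
theorem result (G₁ : Type u) (G₂ : Type v) [Group G₁] [Group G₂] (C₁ : Set G₁) (C₂ : Set G₂) :
    Set.BijOn
      (fun p : (Additive (G₁ × G₂) →+ W4c6brauerbgmalle.QmodZ) × (G₁ × G₂ → ℚ) =>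
        ((p.1.comp (MonoidHom.toAdditive (MonoidHom.inl G₁ G₂)), fun g => p.2 (g, 1)),
          (p.1.comp (MonoidHom.toAdditive (MonoidHom.inr G₁ G₂)), fun g => p.2 (1, g))))
      (W4c6brauerbgmalle.picOrb (G₁ × G₂) ((fun g => (g, (1 : G₂))) '' C₁ ∪ (fun g => ((1 : G₁), g)) '' C₂))
      ((W4c6brauerbgmalle.picOrb G₁ C₁ : Set _) ×ˢ (W4c6brauerbgmalle.picOrb G₂ C₂ : Set _)) := by
  classical
  set C : Set (G₁ × G₂) := (fun g => (g, (1 : G₂))) '' C₁ ∪ (fun g => ((1 : G₁), g)) '' C₂ with hC
  refine ⟨?_, ?_, ?_⟩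
  · rintro p ⟨h1, h2, h3, h4⟩
    refine ⟨⟨h1, fun g hg => ?_, fun g h => ?_, fun g hg => ?_⟩, ⟨h1, fun g hg => ?_, fun g h => ?_, fun g hg => ?_⟩⟩
    · rcases eq_or_ne g 1 with rfl | hg1
      · exact h1
      · exact h2 _ (by rintro (⟨a, ha, e⟩ | ⟨a, ha, e⟩) <;> simp only [Prod.mk.injEq] at e
                       · exact hg (e.1 ▸ ha)
                       · exact hg1 e.1.symm)
    · simpa using h3 (g, 1) (h, 1)
    · exact h4 (g, 1) (Or.inl ⟨g, hg, rfl⟩)
    · rcases eq_or_ne g 1 with rfl | hg1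
      · exact h1
      · exact h2 _ (by rintro (⟨a, ha, e⟩ | ⟨a, ha, e⟩) <;> simp only [Prod.mk.injEq] at e
                       · exact hg1 e.2.symm
                       · exact hg (e.2 ▸ ha))
    · simpa using h3 (1, g) (1, h)
    · exact h4 (1, g) (Or.inr ⟨g, hg, rfl⟩)
  · rintro p ⟨-, p2, -, -⟩ q ⟨-, q2, -, -⟩ hpq
    simp only [Prod.mk.injEq] at hpq
    obtain ⟨⟨e1, e2⟩, e3, e4⟩ := hpq
    refine Prod.ext (AddMonoidHom.ext fun x => ?_) (funext fun g => ?_)
    · obtain ⟨a, b⟩ := (Additive.toMul x : G₁ × G₂)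
      show p.1 (Additive.ofMul (Additive.toMul x)) = q.1 (Additive.ofMul (Additive.toMul x))
      have hx : Additive.ofMul (Additive.toMul x) = Additive.ofMul ((Additive.toMul x).1, (1 : G₂)) + Additive.ofMul ((1 : G₁), (Additive.toMul x).2) := by
        rw [← ofMul_mul]; simp
      rw [hx, map_add, map_add]
      exact congrArg₂ (· + ·) (DFunLike.congr_fun e1 (Additive.ofMul (Additive.toMul x).1)) (DFunLike.congr_fun e3 (Additive.ofMul (Additive.toMul x).2))
    · by_cases hg : g ∈ C
      · obtain ⟨a, _, rfl⟩ | ⟨a, _, rfl⟩ := hg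
        · exact congrFun e2 a
        · exact congrFun e4 a
      · rw [p2 g hg, q2 g hg]
  · rintro ⟨a, b⟩ ⟨⟨a1, a2, a3, a4⟩, b1, b2, b3, b4⟩
    dsimp only at a1 a2 a3 a4 b1 b2 b3 b4
    refine ⟨(a.1.comp (MonoidHom.toAdditive (MonoidHom.fst G₁ G₂)) + b.1.comp (MonoidHom.toAdditive (MonoidHom.snd G₁ G₂)),
      fun g => if g.2 = 1 then a.2 g.1 else if g.1 = 1 then b.2 g.2 else 0), ⟨?_, ?_, ?_, ?_⟩, ?_⟩
    · simpa using a1
    · rintro ⟨g, g'⟩ hg
      dsimp only
      split_ifs with e1 e2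
      · exact a2 g fun h => hg (Or.inl ⟨g, h, by simp_all⟩)
      · exact b2 g' fun h => hg (Or.inr ⟨g', h, by simp_all⟩)
      · rfl
    · rintro ⟨g, g'⟩ ⟨h, h'⟩
      simp only [Prod.mk_mul_mk, Prod.inv_mk, mul_inv_eq_one, mul_eq_left, a3, b3]
    · rintro _ (⟨g, hg, rfl⟩ | ⟨g, hg, rfl⟩)
      · simpa using a4 g hg
      · rcases eq_or_ne g 1 with rfl | h1
        · simp [a1]
        · simpa [h1] using b4 g hg
    · refine Prod.ext (Prod.ext (AddMonoidHom.ext fun x => ?_) (funext fun g => by simp))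
        (Prod.ext (AddMonoidHom.ext fun x => ?_) (funext fun g => ?_))
      · show a.1 x + b.1 (Additive.ofMul 1) = a.1 x
        simp
      · show a.1 (Additive.ofMul 1) + b.1 x = b.1 x
        simp
      · rcases eq_or_ne g 1 with rfl | h1
        · simp [a1, b1]
        · simp [h1]

end Groth.Agent.S18953
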