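import Groth.Statements.S18955

import Groth.Agent.Lib.GrpSch.ExtClosed
import Groth.Agent.Lib.GrpSch.Basic
import Groth.Agent.Lib.GrpSch.FreeRestr
import Groth.Agent.Lib.SchDense.Basic
import Groth.Prelude.Def_Magnet2
import Mathlib.AlgebraicGeometry.Morphisms.Flat
import Mathlib.LinearAlgebra.Basis.VectorSpace

set_option autoImplicit false
universe u
open CategoryTheory MonoidalCategory CartesianMonoidalCategory MonObj AlgebraicGeometry Opposite
open Magnet

namespace Groth.Agent.S18955

theorem exists_algSpec_iso {R : CommRingCat.{u}} (Y : Over (Spec R)) [IsAffine Y.left] :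
    ∃ A : CommAlgCat R, Nonempty (Y ≅ (algSpec R).obj (op A)) := by
  obtain ⟨τ, hτ⟩ := Spec.map_surjective (Y.left.isoSpec.inv ≫ Y.hom)
  letI : Algebra R Γ(Y.left, ⊤) := τ.hom.toAlgebra
  refine ⟨CommAlgCat.of R Γ(Y.left, ⊤), ⟨Over.isoMk Y.left.isoSpec ?_⟩⟩
  change Y.left.isoSpec.hom ≫ Spec.map (CommRingCat.ofHom τ.hom) = Y.hom
  rw [CommRingCat.ofHom_hom, hτ, Iso.hom_inv_id_assoc]

theorem flat_hom {k : Type u} [Field k] (T : Over (Spec (CommRingCat.of k))) : Flat T.hom := by
  haveI : Subsingleton ↥(Spec (CommRingCat.of k)) := inferInstanceAs (Subsingleton (PrimeSpectrum k))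
  infer_instance

theorem std_whisker {k : Type u} [Field k] {G M : Over (Spec (CommRingCat.of k))} (i : G ⟶ M)
    [IsSchemeTheoreticallyDominant i.left] [QuasiCompact i.left] (T : Over (Spec (CommRingCat.of k))) :
    IsSchemeTheoreticallyDominant (i ▷ T).left ∧ QuasiCompact (i ▷ T).left := by
  haveI := flat_hom T
  have h := Groth.Agent.Lib.GrpSch.isPullback_whiskerRight i T
  haveI : Flat (fst M T).left :=
    MorphismProperty.of_isPullback (P := @Flat) (Groth.Agent.Lib.GrpSch.isPullback_left M T).flip (flat_hom T)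
  exact ⟨IsSchemeTheoreticallyDominant.of_isPullback h.flip,
    MorphismProperty.of_isPullback (P := @QuasiCompact) h.flip ‹_›⟩

theorem eq_of_whiskerRight {k : Type u} [Field k] {G M X : Over (Spec (CommRingCat.of k))} [IsSeparated X.hom]
    (i : G ⟶ M) [IsSchemeTheoreticallyDominant i.left] [QuasiCompact i.left] {T : Over (Spec (CommRingCat.of k))}
    {φ ψ : M ⊗ T ⟶ X} (h : (i ▷ T) ≫ φ = (i ▷ T) ≫ ψ) : φ = ψ := by
  haveI := (std_whisker i T).1
  exact Over.OverMorphism.ext (Groth.Agent.Lib.SchDense.Basic.ext_of_std X.hom (by rw [Over.w, Over.w])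
    (i ▷ T).left (congrArg CommaMorphism.left h))

theorem eq_of_whiskerLeft {k : Type u} [Field k] {G M X : Over (Spec (CommRingCat.of k))} [IsSeparated X.hom]
    (i : G ⟶ M) [IsSchemeTheoreticallyDominant i.left] [QuasiCompact i.left] {T : Over (Spec (CommRingCat.of k))}
    {φ ψ : G ⊗ (M ⊗ T) ⟶ X} (h : (G ◁ (i ▷ T)) ≫ φ = (G ◁ (i ▷ T)) ≫ ψ) : φ = ψ := by
  obtain ⟨_, _⟩ := std_whisker i T
  haveI := flat_hom G
  haveI : Flat (snd G (M ⊗ T)).left :=
    MorphismProperty.of_isPullback (P := @Flat) (Groth.Agent.Lib.GrpSch.isPullback_left G (M ⊗ T)) (flat_hom G)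
  haveI := IsSchemeTheoreticallyDominant.of_isPullback (Groth.Agent.Lib.GrpSch.isPullback_whiskerLeft G (i ▷ T)).flip
  exact Over.OverMorphism.ext (Groth.Agent.Lib.SchDense.Basic.ext_of_std X.hom (by rw [Over.w, Over.w])
    (G ◁ (i ▷ T)).left (congrArg CommaMorphism.left h))

theorem exists_inj_map {k : Type u} [Field k] {G M : Over (Spec (CommRingCat.of k))}
    {A A' : CommAlgCat (CommRingCat.of k)} (eM : M ≅ (algSpec _).obj (op A)) (eG : G ≅ (algSpec _).obj (op A'))
    (i : G ⟶ M) [IsSchemeTheoreticallyDominant i.left] :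
    ∃ φ : A ⟶ A', Function.Injective φ.hom ∧ (algSpec _).map φ.op = eG.inv ≫ i ≫ eM.hom := by
  let f := algSpec.fullyFaithful.preimage (eG.inv ≫ i ≫ eM.hom)
  have hf : (algSpec (CommRingCat.of k)).map f.unop.op = eG.inv ≫ i ≫ eM.hom := algSpec.fullyFaithful.map_preimage _
  refine ⟨f.unop, ?_, hf⟩
  haveI : IsSchemeTheoreticallyDominant (Spec.map (CommRingCat.ofHom f.unop.hom.toRingHom)) := by
    have : (Spec.map (CommRingCat.ofHom f.unop.hom.toRingHom)) = eG.inv.left ≫ i.left ≫ eM.hom.left :=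
      congrArg CommaMorphism.left hf
    rw [this]
    haveI : IsIso eG.inv.left := inferInstanceAs (IsIso ((Over.forget _).map eG.inv))
    haveI : IsIso eM.hom.left := inferInstanceAs (IsIso ((Over.forget _).map eM.hom))
    have h1 : IsSchemeTheoreticallyDominant eG.inv.left := ⟨Scheme.Hom.ker_eq_bot_of_isIso _⟩
    have h2 : IsSchemeTheoreticallyDominant eM.hom.left := ⟨Scheme.Hom.ker_eq_bot_of_isIso _⟩
    have h3 : IsSchemeTheoreticallyDominant (i.left ≫ eM.hom.left) :=
      MorphismProperty.comp_mem @IsSchemeTheoreticallyDominant _ _ ‹IsSchemeTheoreticallyDominant i.left› h2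
    exact MorphismProperty.comp_mem @IsSchemeTheoreticallyDominant _ _ h1 h3
  have h := (Spec.map (CommRingCat.ofHom f.unop.hom.toRingHom)).app_injective ⊤
  intro x y hxy
  have hn := Scheme.ΓSpecIso_inv_naturality (CommRingCat.ofHom f.unop.hom.toRingHom)
  have e : ∀ z, (Spec.map (CommRingCat.ofHom f.unop.hom.toRingHom)).appTop
      ((Scheme.ΓSpecIso _).inv z) = (Scheme.ΓSpecIso _).inv (f.unop.hom z) := fun z =>
    (ConcreteCategory.congr_hom hn z).symm
  apply (ConcreteCategory.bijective_of_isIso (Scheme.ΓSpecIso (CommRingCat.of A)).inv).1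
  apply h
  exact (e x).trans ((congrArg _ hxy).trans (e y).symm)

theorem eqvHom_eq {k : Type u} [Field k] {M G X : Over (Spec (CommRingCat.of k))} [MonObj M] [GrpObj G]
    (i : G ⟶ M) [IsMonHom i] (a : AlgGrp.Action G X) {T : Over (Spec (CommRingCat.of k))}
    (φ : (Magnet.MonAct.eqvHom ((Magnet.MonAct.regular M).restrict i) (Magnet.MonAct.ofAction a)).obj (op T)) :
    (i ▷ T) ≫ φ.1 = (G ◁ (Magnet.MonAct.eqvHom.evalAt ((Magnet.MonAct.regular M).restrict i)
      (Magnet.MonAct.ofAction a) η[M]).app (op T) φ) ≫ (Magnet.MonAct.ofAction a).act := by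
  refine Magnet.hom_ext_lift₂ fun U g t => ?_
  have h := (Magnet.MonAct.mem_eqvHom_iff _).1 φ.2 U g 1 t
  rw [Magnet.MonAct.lift_restrict_act, Magnet.MonAct.lift_regular_act, _root_.mul_one] at h
  rw [lift_whiskerRight_assoc, h, lift_whiskerLeft_assoc, Magnet.MonAct.eqvHom.evalAt_app, ← Category.assoc t,
    comp_lift, Category.comp_id, ← Category.assoc t, toUnit_unique (t ≫ toUnit _) (toUnit U), Hom.one_def]
/-- Let k be a field, M an affine monoid k-scheme (a monoid object in k-schemes with affine underlying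
scheme), G an affine group k-scheme and i : G → M a homomorphism of monoids which is an open
immersion with scheme-theoretically dense image, and let X be an affine k-scheme with an action a of
G. Let D_X be the functor on k-schemes whose value at Y is the set of k-morphisms M ×_k Y → X that
are G-equivariant for G acting on M ×_k Y by left multiplication through i on the first factor and
on X through a. Then D_X is representable by a k-scheme Z, and the canonical map D_X → X
(restriction to the unit section of M) is a closed immersion j : Z → X. (The published statement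
takes G to be the group of units of M, open and schematically dense; here it is assumed only that i
is a homomorphism of monoids and a scheme-theoretically dominant open immersion of affine schemes.) -/
theorem result (k : Type u) [Field k]
    (M G X : Over (Spec (CommRingCat.of k))) [MonObj M] [GrpObj G] [IsAffine M.left] [IsAffine G.left]
    [IsAffine X.left] (i : G ⟶ M) [IsMonHom i] [IsOpenImmersion i.left]
    [IsSchemeTheoreticallyDominant i.left] (a : AlgGrp.Action G X) :
    ∃ (Z : Over (Spec (CommRingCat.of k))) (j : Z ⟶ X)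
      (e : (Magnet.MonAct.eqvHom ((Magnet.MonAct.regular M).restrict i) (Magnet.MonAct.ofAction a)).RepresentableBy Z),
      IsClosedImmersion j.left ∧
      ∀ (T : Over (Spec (CommRingCat.of k))) (z : T ⟶ Z),
        (Magnet.MonAct.eqvHom.evalAt ((Magnet.MonAct.regular M).restrict i) (Magnet.MonAct.ofAction a) η[M]).app
          (op T) (e.homEquiv z) = z ≫ j := by
  haveI : IsSeparated X.hom := inferInstance
  haveI : QuasiCompact i.left := inferInstance
  obtain ⟨A, ⟨eM⟩⟩ := exists_algSpec_iso M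
  obtain ⟨A', ⟨eG⟩⟩ := exists_algSpec_iso G
  obtain ⟨C, ⟨eX⟩⟩ := exists_algSpec_iso X
  obtain ⟨φ, hinj, hφ⟩ := exists_inj_map eM eG i
  letI : Field (CommRingCat.of k) := ‹Field k›
  haveI : Module.Free (CommRingCat.of k) A' := Module.Free.of_divisionRing _ _
  obtain ⟨ψ, hψ⟩ := φ.hom.toLinearMap.exists_leftInverse_of_injective (LinearMap.ker_eq_bot.mpr hinj)
  let act := (eG.inv ⊗ₘ eX.inv) ≫ (Magnet.MonAct.ofAction a).act ≫ eX.hom
  have hact : ∀ (U : Over (Spec (CommRingCat.of k))) (g : U ⟶ (algSpec _).obj (op A')) (x : U ⟶ (algSpec _).obj (op C)),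
      lift g x ≫ act = lift (g ≫ eG.inv) (x ≫ eX.inv) ≫ (Magnet.MonAct.ofAction a).act ≫ eX.hom :=
    fun U g x => by simp only [act, lift_map_assoc]
  obtain ⟨I, hI⟩ := Groth.Agent.Lib.GrpSch.exists_closed_extension φ (LinearMap.congr_fun hψ) act
  let Q : CommAlgCat (CommRingCat.of k) := CommAlgCat.of _ (C ⧸ I)
  let mk : C ⟶ Q := CommAlgCat.ofHom (Ideal.Quotient.mkₐ _ I)
  let Z := (algSpec (CommRingCat.of k)).obj (op Q)
  obtain ⟨e0, he0⟩ := (hI Q mk).1 (le_of_eq Ideal.mk_ker.symm)
  let j : Z ⟶ X := (algSpec _).map mk.op ≫ eX.inv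
  haveI hj : IsClosedImmersion j.left := by
    change IsClosedImmersion (Spec.map (CommRingCat.ofHom (Ideal.Quotient.mk I)) ≫ eX.inv.left)
    haveI : IsClosedImmersion (Spec.map (CommRingCat.ofHom (Ideal.Quotient.mk I))) :=
      IsClosedImmersion.spec_of_surjective _ Ideal.Quotient.mk_surjective
    exact MorphismProperty.comp_mem _ _ _ ‹_› (inferInstanceAs (IsClosedImmersion ((Over.forget _).map eX.inv)))
  haveI : Mono j := Over.mono_of_mono_left _
  let φZ : M ⊗ Z ⟶ X := (eM.hom ▷ Z) ≫ e0 ≫ eX.inv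
  have hφZ : ∀ (U : Over (Spec (CommRingCat.of k))) (g : U ⟶ G) (z : U ⟶ Z),
      lift (g ≫ i) z ≫ φZ = lift g (z ≫ j) ≫ (Magnet.MonAct.ofAction a).act := fun U g z => by
    have h := congrArg (fun w => lift (g ≫ eG.hom) z ≫ w ≫ eX.inv) he0
    have e := lift_whiskerRight_assoc (g ≫ eG.hom) z ((algSpec (CommRingCat.of k)).map φ.op) (e0 ≫ eX.inv)
    simp only [Category.assoc] at h e
    have h2 := e.symm.trans h
    rw [lift_whiskerLeft_assoc, reassoc_of% hact, hφ] at h2
    simp only [Iso.hom_inv_id_assoc, Iso.hom_inv_id, Category.comp_id, Category.assoc] at h2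
    exact ((lift_whiskerRight_assoc (g ≫ i) z eM.hom (e0 ≫ eX.inv)).trans
      (by rw [Category.assoc]; exact h2))
  have hequ : Magnet.MonAct.IsEquivariant (((Magnet.MonAct.regular M).restrict i).prod (Magnet.MonAct.trivial G Z))
      (Magnet.MonAct.ofAction a) φZ := by
    refine (Magnet.MonAct.mem_eqvHom_iff _).2 fun U g b t => ?_
    let G₁ : G ⊗ (M ⊗ Z) ⟶ X :=
      lift ((fst _ _ ≫ i) * (snd _ _ ≫ fst _ _)) (snd _ _ ≫ snd _ _) ≫ φZ
    let G₂ : G ⊗ (M ⊗ Z) ⟶ X := lift (fst _ _) (snd _ _ ≫ φZ) ≫ (Magnet.MonAct.ofAction a).act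
    have hG : G₁ = G₂ := by
      refine eq_of_whiskerLeft i (Magnet.hom_ext_lift₂ fun V g w => ?_)
      obtain ⟨g', t, rfl⟩ : ∃ x t, w = lift x t := ⟨_, _, (lift_comp_fst_snd w).symm⟩
      simp only [G₁, G₂, lift_whiskerLeft_assoc, lift_whiskerRight, comp_lift_assoc, comp_lift,
        MonObj.comp_mul, lift_fst_assoc, lift_snd_assoc, lift_fst, lift_snd, Category.assoc]
      rw [← MonObj.mul_comp, hφZ, hφZ, Magnet.MonAct.lift_mul_act]
    rw [Magnet.MonAct.lift_restrict_act, Magnet.MonAct.lift_regular_act]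
    have := congrArg (lift g (lift b t) ≫ ·) hG
    simpa only [G₁, G₂, comp_lift_assoc, MonObj.comp_mul, lift_fst_assoc, lift_snd_assoc, lift_fst, lift_snd]
      using this
  let ev := Magnet.MonAct.eqvHom.evalAt ((Magnet.MonAct.regular M).restrict i) (Magnet.MonAct.ofAction a) η[M]
  let ζ : ∀ {T : Over (Spec (CommRingCat.of k))}, (T ⟶ Z) →
      (Magnet.MonAct.eqvHom ((Magnet.MonAct.regular M).restrict i) (Magnet.MonAct.ofAction a)).obj (op T) :=
    fun z => (Magnet.MonAct.eqvHom _ _).map z.op ⟨φZ, hequ⟩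
  have hev : ∀ {T : Over (Spec (CommRingCat.of k))} (z : T ⟶ Z), ev.app (op T) (ζ z) = z ≫ j := by
    intro T z
    change lift (toUnit _ ≫ η[M]) (𝟙 T) ≫ ((M ◁ z) ≫ φZ) = z ≫ j
    rw [lift_whiskerLeft_assoc, Category.id_comp, ← Hom.one_def, ← MonObj.one_comp (f := i), hφZ,
      Magnet.MonAct.lift_one_act]
  have hbij : ∀ T : Over (Spec (CommRingCat.of k)), Function.Bijective (ζ (T := T)) := by
    intro T
    refine ⟨fun z z' h => (cancel_mono j).mp (by rw [← hev, ← hev, h]), fun ξ => ?_⟩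
    have hfac : ∃ z : T.left ⟶ Z.left, z ≫ j.left = (ev.app (op T) ξ).left := by
      refine Groth.Agent.Lib.GrpSch.FreeRestr.exists_factor_of_openCover j.left _ T.left.affineCover fun c => ?_
      let B₀ : CommRingCat.{u} := Γ(T.left.affineCover.X c, ⊤)
      let f : Spec B₀ ⟶ T.left := (T.left.affineCover.X c).isoSpec.inv ≫ T.left.affineCover.f c
      obtain ⟨t, ht⟩ := Spec.map_surjective (f ≫ T.hom)
      letI : Algebra (CommRingCat.of k) B₀ := t.hom.toAlgebra
      let B : CommAlgCat (CommRingCat.of k) := CommAlgCat.of _ B₀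
      let fU : (algSpec (CommRingCat.of k)).obj (op B) ⟶ T := Over.homMk f ht.symm
      let τ := algSpec.fullyFaithful.preimage (fU ≫ ev.app (op T) ξ ≫ eX.hom)
      have hτ : (algSpec (CommRingCat.of k)).map τ.unop.op = fU ≫ ev.app (op T) ξ ≫ eX.hom :=
        algSpec.fullyFaithful.map_preimage _
      have hle := (hI B τ.unop).2 ⟨(eM.inv ⊗ₘ fU) ≫ ξ.1 ≫ eX.hom, Magnet.hom_ext_lift₂ fun U g u => by
        have h := congrArg (fun w => lift (g ≫ eG.inv) (u ≫ fU) ≫ w) (eqvHom_eq i a ξ)
        simp only [lift_whiskerRight_assoc, lift_whiskerLeft_assoc, Category.assoc] at h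
        simp only [lift_whiskerRight_assoc, lift_whiskerLeft_assoc, lift_map_assoc, hact, hτ, hφ,
          Category.assoc, Iso.hom_inv_id, Category.comp_id]
        rw [reassoc_of% h]⟩
      let w : Q ⟶ B := CommAlgCat.ofHom (Ideal.Quotient.liftₐ I τ.unop.hom fun x hx => hle hx)
      have hw : mk ≫ w = τ.unop := CommAlgCat.hom_ext (AlgHom.ext fun x => rfl)
      have h2 : (algSpec (CommRingCat.of k)).map w.op ≫ j = fU ≫ ev.app (op T) ξ := by
        rw [← Category.assoc, ← Functor.map_comp, ← op_comp, hw, hτ]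
        simp
      refine ⟨(T.left.affineCover.X c).isoSpec.hom ≫ ((algSpec (CommRingCat.of k)).map w.op).left, ?_⟩
      exact (Category.assoc _ _ _).trans ((congrArg ((T.left.affineCover.X c).isoSpec.hom ≫ ·)
        (congrArg CommaMorphism.left h2)).trans ((congrArg ((T.left.affineCover.X c).isoSpec.hom ≫ ·)
          (Category.assoc _ _ _)).trans (Iso.hom_inv_id_assoc _ _)))
    obtain ⟨z, hz⟩ := hfac
    let zo : T ⟶ Z := Over.homMk z (by rw [← Over.w j, ← Category.assoc, hz, Over.w])
    have hzo : zo ≫ j = ev.app (op T) ξ := Over.OverMorphism.ext hz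
    refine ⟨zo, Subtype.ext (eq_of_whiskerRight i ?_)⟩
    rw [eqvHom_eq, eqvHom_eq]
    exact congrArg (fun x => (G ◁ x) ≫ (Magnet.MonAct.ofAction a).act) ((hev zo).trans hzo)
  refine ⟨Z, j, {
    homEquiv := fun {T} => Equiv.ofBijective _ (hbij T)
    homEquiv_comp := fun g z => Functor.map_comp_apply (Magnet.MonAct.eqvHom _ _) z.op g.op ⟨φZ, hequ⟩ }, hj, fun T z => hev z⟩


end Groth.Agent.S18955
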