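import Groth.Statements.S18956

import Groth.Agent.Lib.GrpSch.EqvHom
import Groth.Agent.Lib.GrpSch.Basic
import Groth.Agent.Lib.GrpSch.GenericIso

set_option autoImplicit false
universe u
open CategoryTheory MonoidalCategory CartesianMonoidalCategory MonObj AlgebraicGeometry Opposite
open Magnet

open Groth.Agent.Lib.GrpSch

namespace Groth.Agent.S18956

/-- Let k be a field, M an affine monoid k-scheme, G an affine group k-scheme and i : G → M a
homomorphism of monoids which is a quasi-compact open immersion with scheme-theoretically dense
image. Let X be a k-scheme with an action aX of G, and j : Z → X a closed immersion which is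
G-equivariant for an action aZ of G on Z (a closed G-stable subscheme). For a G-scheme W write D_W
for the functor on k-schemes whose value at Y is the set of k-morphisms M ×_k Y → W that are
G-equivariant for G acting on M ×_k Y by left multiplication through i on the first factor. Then the
square of presheaves formed by D_Z → D_X (composition with j), the restrictions D_Z → Z and D_X → X
to the unit section of M, and j is cartesian. (The published statement takes G to be the group of
units of M, open and schematically dense; here it is assumed only that i is a homomorphism of
monoids and a quasi-compact, scheme-theoretically dominant open immersion.) -/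
theorem result (k : Type u) [Field k]
    (M G X Z : Over (Spec (CommRingCat.of k))) [MonObj M] [GrpObj G] [IsAffine M.left] [IsAffine G.left]
    (i : G ⟶ M) [IsMonHom i] [IsOpenImmersion i.left] [QuasiCompact i.left]
    [IsSchemeTheoreticallyDominant i.left]
    (aX : AlgGrp.Action G X) (aZ : AlgGrp.Action G Z) (j : Z ⟶ X) [IsClosedImmersion j.left]
    (hj : Magnet.MonAct.IsEquivariant (Magnet.MonAct.ofAction aZ) (Magnet.MonAct.ofAction aX) j) :
    IsPullback
      (Magnet.MonAct.eqvHom.postcomp ((Magnet.MonAct.regular M).restrict i) j hj)
      (Magnet.MonAct.eqvHom.evalAt ((Magnet.MonAct.regular M).restrict i) (Magnet.MonAct.ofAction aZ) η[M])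
      (Magnet.MonAct.eqvHom.evalAt ((Magnet.MonAct.regular M).restrict i) (Magnet.MonAct.ofAction aX) η[M])
      (yoneda.map j) := by
  have : Mono j := (Over.forget _).mono_of_mono_map (inferInstanceAs (Mono j.left))
  refine isPullback_postcomp_evalAt j hj η[M] fun T φ z hz => ?_
  have hflat : Flat T.hom := flat_of_isField (Field.toIsField k) T.hom
  have hfst : Flat (fst M T).left := fst_left_of (P := @Flat) M hflat
  have : IsSchemeTheoreticallyDominant (i ▷ T).left :=
    .of_isPullback (isPullback_whiskerRight i T).flip
  refine exists_factor_of_std (i ▷ T) φ.1 j ((G ◁ z) ≫ aZ.act) ?_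
  rw [restrict_eq_orbit i (MonAct.ofAction aX) φ, hz, Category.assoc]
  have hj' : aZ.act ≫ j = (G ◁ j) ≫ aX.act := hj
  rw [hj', ← MonoidalCategory.whiskerLeft_comp_assoc]
  rfl

end Groth.Agent.S18956
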