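import Groth.Statements.S18957

import Groth.Agent.Lib.GrpSch.Basic
import Groth.Prelude.Def_Magnet2
import Mathlib.AlgebraicGeometry.Morphisms.SchemeTheoreticallyDominant
import Mathlib.AlgebraicGeometry.Morphisms.Flat
import Mathlib.AlgebraicGeometry.IdealSheaf.Functorial

set_option autoImplicit false
universe u
open CategoryTheory MonoidalCategory CartesianMonoidalCategory MonObj AlgebraicGeometry Opposite
open Magnet

namespace Groth.Agent.S18957

/-- Let k be a field, M a monoid k-scheme with an action a on a k-scheme X, G a group k-scheme and i : G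
→ M a homomorphism of monoids which is a quasi-compact open immersion with scheme-theoretically
dense image. Let j : Z → X be a closed immersion and b an action of G on Z for which j is
equivariant, G acting on X through i and a (a closed G-stable subscheme). Then the G-action on Z
extends to an M-action making j equivariant: there is an action c of M on Z such that j is
equivariant for c and a and the restriction of c along i is b. (The published statement takes G to
be the group of units of M, schematically dense in M; here it is assumed only that i is a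
homomorphism of monoids and a quasi-compact, scheme-theoretically dominant open immersion.) -/
theorem result (k : Type u) [Field k]
    (M G X Z : Over (Spec (CommRingCat.of k))) [MonObj M] [GrpObj G]
    (i : G ⟶ M) [IsMonHom i] [IsOpenImmersion i.left] [QuasiCompact i.left]
    [IsSchemeTheoreticallyDominant i.left]
    (a : Magnet.MonAct M X) (b : AlgGrp.Action G Z) (j : Z ⟶ X) [IsClosedImmersion j.left]
    (hj : Magnet.MonAct.IsEquivariant (Magnet.MonAct.ofAction b) (a.restrict i) j) :
    ∃ c : Magnet.MonAct M Z, Magnet.MonAct.IsEquivariant c a j ∧ c.restrict i = Magnet.MonAct.ofAction b := by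
  haveI : Mono j := Over.mono_of_mono_left _
  haveI : Flat Z.hom := by
    haveI : Subsingleton ↥(Spec (CommRingCat.of k)) := inferInstanceAs (Subsingleton (PrimeSpectrum k))
    infer_instance
  haveI : Flat (fst M Z).left :=
    MorphismProperty.of_isPullback (P := @Flat) (Groth.Agent.Lib.GrpSch.isPullback_left M Z).flip ‹_›
  haveI := IsSchemeTheoreticallyDominant.of_isPullback (Groth.Agent.Lib.GrpSch.isPullback_whiskerRight i Z).flip
  let f : M ⊗ Z ⟶ X := (M ◁ j) ≫ a.act
  have hf : (i ▷ Z) ≫ f = (Magnet.MonAct.ofAction b).act ≫ j := by
    rw [hj, Magnet.MonAct.restrict_act, whisker_exchange_assoc]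
  have hker : j.left.ker ≤ f.left.ker := by
    have h : ((i ▷ Z) ≫ f).left.ker = f.left.ker := by
      rw [Over.comp_left, Scheme.Hom.ker_comp, Scheme.Hom.ker_eq_bot, Scheme.IdealSheafData.map_bot]
    rw [← h, hf, Over.comp_left]
    exact Scheme.Hom.le_ker_comp _ _
  let cl := IsClosedImmersion.lift j.left f.left hker
  have hcl : cl ≫ j.left = f.left := IsClosedImmersion.lift_fac _ _ _
  let cm : M ⊗ Z ⟶ Z := Over.homMk cl (by rw [← Over.w j, ← Category.assoc, hcl, Over.w])
  have hcm : cm ≫ j = (M ◁ j) ≫ a.act := Over.OverMorphism.ext hcl
  refine ⟨Magnet.MonAct.mk' cm (fun U x => ?_) (fun U g h x => ?_), hcm, ?_⟩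
  · rw [← cancel_mono j, Category.assoc, hcm, lift_whiskerLeft_assoc, Magnet.MonAct.lift_one_act]
  · simp only [← cancel_mono j, Category.assoc, hcm, lift_whiskerLeft_assoc, Magnet.MonAct.lift_mul_act]
  · apply Magnet.MonAct.ext'
    rw [Magnet.MonAct.restrict_act, Magnet.MonAct.mk'_act, ← cancel_mono j, Category.assoc, hcm]
    exact hf


end Groth.Agent.S18957
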