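import Groth.Statements.S18958

import Groth.Agent.Lib.GrpSch.EqvHom
import Groth.Agent.Lib.GrpSch.Basic

set_option autoImplicit false
universe u
open CategoryTheory MonoidalCategory CartesianMonoidalCategory MonObj AlgebraicGeometry Opposite
open Magnet

open Groth.Agent.Lib.GrpSch

namespace Groth.Agent.S18958

/-- Let k be a field, G a group k-scheme and M a monoid k-scheme with a homomorphism of monoids i : G →
M and a zero o : Spec k → M (m·o = o = o·m for every point m of M). Assume that for every k-scheme T
whose underlying scheme is the spectrum of a field K, every open subset of M ×_k T which is stable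
under G acting by left multiplication through i on the first factor and which contains the zero
section T → M ×_k T is the whole of M ×_k T. Let X be a k-scheme with an action aX of G and j : U →
X an open immersion, G-equivariant for an action aU of G on U (an open G-stable subscheme). For a
G-scheme W write D_W for the functor on k-schemes whose value at Y is the set of k-morphisms M ×_k Y
→ W that are G-equivariant for G acting on M ×_k Y by left multiplication through i on the first
factor. Then the square of presheaves formed by D_U → D_X (composition with j), the restrictions D_U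
→ U and D_X → X to the zero section of M, and j is cartesian. (In the source M is a Kempf monoid
with G its group of units, and the restriction to the zero section is viewed as the retraction of
D_X onto the fixed points X^G; the displayed property of the open G-stable subsets of M over field
extensions is what the argument uses about M, and the square over X^G is cartesian exactly when the
one over X is, U^G being X^G ×_X U.) -/
theorem result (k : Type u) [Field k]
    (M G X U : Over (Spec (CommRingCat.of k))) [MonObj M] [GrpObj G] (i : G ⟶ M) [IsMonHom i]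
    (o : 𝟙_ (Over (Spec (CommRingCat.of k))) ⟶ M)
    (ho : ∀ (T : Over (Spec (CommRingCat.of k))) (m : T ⟶ M), m * (toUnit T ≫ o) = toUnit T ≫ o ∧ (toUnit T ≫ o) * m = toUnit T ≫ o)
    (hM : ∀ (T : Over (Spec (CommRingCat.of k))) (K : Type u) [Field K] (eT : T.left ≅ Spec (CommRingCat.of K))
      (W : (M ⊗ T).left.Opens),
      (CartesianMonoidalCategory.snd G (M ⊗ T)).left ⁻¹ᵁ W ≤
          ((((Magnet.MonAct.regular M).restrict i).prod (Magnet.MonAct.trivial G T)).act).left ⁻¹ᵁ W →
      (CartesianMonoidalCategory.lift (toUnit T ≫ o) (𝟙 T)).left ⁻¹ᵁ W = ⊤ → W = ⊤)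
    (aX : AlgGrp.Action G X) (aU : AlgGrp.Action G U) (j : U ⟶ X) [IsOpenImmersion j.left]
    (hj : Magnet.MonAct.IsEquivariant (Magnet.MonAct.ofAction aU) (Magnet.MonAct.ofAction aX) j) :
    IsPullback
      (Magnet.MonAct.eqvHom.postcomp ((Magnet.MonAct.regular M).restrict i) j hj)
      (Magnet.MonAct.eqvHom.evalAt ((Magnet.MonAct.regular M).restrict i) (Magnet.MonAct.ofAction aU) o)
      (Magnet.MonAct.eqvHom.evalAt ((Magnet.MonAct.regular M).restrict i) (Magnet.MonAct.ofAction aX) o)
      (yoneda.map j) := by
  have : Mono j := (Over.forget _).mono_of_mono_map (inferInstanceAs (Mono j.left))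
  refine isPullback_postcomp_evalAt j hj o fun T φ z hz => ?_
  let ρ := (MonAct.regular M).restrict i
  -- preimages of `U` under equivariant maps are stable
  have key : ∀ (T' : Over (Spec (CommRingCat.of k))) (χ : (MonAct.eqvHom ρ (MonAct.ofAction aX)).obj (op T')),
      (snd G (M ⊗ T')).left ⁻¹ᵁ (χ.1.left ⁻¹ᵁ j.left.opensRange) ≤
        ((ρ.prod (MonAct.trivial G T')).act).left ⁻¹ᵁ (χ.1.left ⁻¹ᵁ j.left.opensRange) := by
    intro T' χ w hw
    have hχ : (ρ.prod (MonAct.trivial G T')).act ≫ χ.1 = (G ◁ χ.1) ≫ aX.act := χ.2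
    obtain ⟨v, hv⟩ : χ.1.left ((snd G (M ⊗ T')).left w) ∈ Set.range j.left := hw
    have e0 : (snd G X).left ((G ◁ χ.1).left w) = χ.1.left ((snd G (M ⊗ T')).left w) := by
      rw [← Scheme.Hom.comp_apply, ← Scheme.Hom.comp_apply, ← Over.comp_left, ← Over.comp_left, whiskerLeft_snd]
    let sq := isPullback_whiskerLeft G j
    obtain ⟨p, hp1, -⟩ := Scheme.Pullback.exists_preimage_pullback (f := (snd G X).left) (g := j.left)
      ((G ◁ χ.1).left w) v (e0.trans hv.symm)
    have hu : (G ◁ j).left (sq.isoPullback.inv p) = (G ◁ χ.1).left w := by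
      rw [← Scheme.Hom.comp_apply, sq.isoPullback_inv_fst, hp1]
    refine ⟨aU.act.left (sq.isoPullback.inv p), ?_⟩
    have hj' : aU.act ≫ j = (G ◁ j) ≫ aX.act := hj
    rw [← Scheme.Hom.comp_apply, ← Over.comp_left, hj', Over.comp_left, Scheme.Hom.comp_apply, hu,
      ← Scheme.Hom.comp_apply, ← Over.comp_left, ← hχ, Over.comp_left, Scheme.Hom.comp_apply]
  have hall : ∀ x : (M ⊗ T).left, φ.1.left x ∈ Set.range j.left := by
    intro x
    let t := (snd M T).left x
    let T₁ : Over (Spec (CommRingCat.of k)) := Over.mk (T.left.fromSpecResidueField t ≫ T.hom)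
    let jt : T₁ ⟶ T := Over.homMk (T.left.fromSpecResidueField t) rfl
    let φ₁ := (MonAct.eqvHom ρ (MonAct.ofAction aX)).map jt.op φ
    have htop := hM T₁ (T.left.residueField t) (Iso.refl _) (φ₁.1.left ⁻¹ᵁ j.left.opensRange) (key T₁ φ₁) (by
      refine eq_top_iff.2 fun y _ => ⟨(jt ≫ z).left y, ?_⟩
      rw [← Scheme.Hom.comp_apply, ← Scheme.Hom.comp_apply, ← Over.comp_left, ← Over.comp_left]
      refine congrArg (fun f : T₁ ⟶ X => f.left y) ?_
      have hz' : lift (toUnit T ≫ o) (𝟙 T) ≫ φ.1 = z ≫ j := hz
      change (jt ≫ z) ≫ j = lift (toUnit T₁ ≫ o) (𝟙 T₁) ≫ (M ◁ jt) ≫ φ.1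
      rw [Category.assoc, ← hz', lift_whiskerLeft_assoc, comp_lift_assoc, Category.id_comp, Category.comp_id,
        ← Category.assoc jt, toUnit_unique (jt ≫ toUnit T) (toUnit T₁)])
    obtain ⟨p, hp1, -⟩ := Scheme.Pullback.exists_preimage_pullback (f := (snd M T).left) (g := jt.left) x
      (IsLocalRing.closedPoint _) (Scheme.fromSpecResidueField_apply _ _).symm
    let sq := isPullback_whiskerLeft M jt
    have hx : (M ◁ jt).left (sq.isoPullback.inv p) = x := by
      rw [← Scheme.Hom.comp_apply, sq.isoPullback_inv_fst, hp1]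
    have hmem : φ₁.1.left (sq.isoPullback.inv p) ∈ Set.range j.left :=
      (htop.ge (TopologicalSpace.Opens.mem_top _) : sq.isoPullback.inv p ∈ φ₁.1.left ⁻¹ᵁ j.left.opensRange)
    rw [← hx, ← Scheme.Hom.comp_apply, ← Over.comp_left]
    exact hmem
  have hsub : Set.range φ.1.left ⊆ Set.range j.left := by
    rintro _ ⟨x, rfl⟩
    exact hall x
  refine ⟨Over.homMk (IsOpenImmersion.lift j.left φ.1.left hsub) ?_, Over.OverMorphism.ext (IsOpenImmersion.lift_fac _ _ hsub)⟩
  rw [← Over.w j, IsOpenImmersion.lift_fac_assoc]
  exact Over.w φ.1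

end Groth.Agent.S18958
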