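import Groth.Statements.S1896
import Groth.Agent.Lib.Cyc.SheafLen

set_option autoImplicit false
universe u
open CategoryTheory AlgebraicGeometry
open Cyc

namespace Groth.Agent.S1896

/-- For a short exact sequence 0 → F → G → H → 0 of coherent O_X-modules (X locally Noetherian with
dimension function δ) whose supports have δ-dimension at most k, one has [G]_k = [F]_k + [H]_k
coefficientwise. Here (X, δ) satisfies Cyc.IsSetup (X locally Noetherian with universally catenary
local rings, δ a dimension function). -/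
theorem result (X : Scheme.{u}) (δ : X → ℤ) (hX : Cyc.IsSetup X δ) (k : ℤ) (T : ShortComplex X.Modules) (hT : T.ShortExact) (h₁ : Coh.IsCoh T.X₁) (h₂ : Coh.IsCoh T.X₂) (h₃ : Coh.IsCoh T.X₃) (hdim : ∀ x : X, Nontrivial (T.X₂.presheaf.stalk x) → δ x ≤ k) : Cyc.sheafFun δ k T.X₂ = Cyc.sheafFun δ k T.X₁ + Cyc.sheafFun δ k T.X₃ := by
  funext x
  simp only [Pi.add_apply, Cyc.sheafFun]
  split_ifs with hx
  swap
  · simp
  have := hX.1
  have h2 : Groth.Agent.Lib.Cyc.SheafLen.IsMaxSupp T.X₂ x := fun y hy hn =>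
    Groth.Agent.Lib.Cyc.DimFun.eq_of_specializes_of_le hX.2.2 hy (hx ▸ hdim y hn)
  have hne := Groth.Agent.Lib.Cyc.SheafLen.length_ne_top h₂ x h2
  rw [Groth.Agent.Lib.Cyc.SheafLen.length_additive T hT x] at hne ⊢
  rw [ENat.toNat_add (fun h => hne (by rw [h, top_add])) (fun h => hne (by rw [h, add_top])),
    Nat.cast_add]

end Groth.Agent.S1896
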