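import Groth.Statements.S18960
import Mathlib.CategoryTheory.Limits.Creates
import Mathlib.CategoryTheory.Endofunctor.Algebra


set_option autoImplicit false
universe w' w v u
open CategoryTheory Limits
open CatLim

namespace Groth.Agent.S18960

/-- Let C be a category and T an endofunctor of C; let C(T) be the category whose objects are pairs (X,
u) with u : T X → X an isomorphism and whose morphisms (X, u) → (Y, w) are the morphisms X → Y
compatible with u and w — the full subcategory of T-algebras with invertible structure map — and let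
π : C(T) → C be the forgetful functor. If T preserves colimits of shape J then π creates colimits of
shape J. (The source assumes T preserves all small colimits and concludes for all small shapes; the
argument is shape by shape.) -/
theorem result {C : Type u} [Category.{v} C] (T : C ⥤ C)
    (J : Type w) [Category.{w'} J] [PreservesColimitsOfShape J T] :
    Nonempty (CreatesColimitsOfShape J
      ((ObjectProperty.ι (fun A : Endofunctor.Algebra T => IsIso A.str)) ⋙ Endofunctor.Algebra.forget T)) := by
  refine ⟨⟨fun {K} => createsColimitOfReflectsIso fun c t => ?_⟩⟩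
  let tT := isColimitOfPreserves T t
  let st : ∀ j, T.obj (K.obj j).obj.a ⟶ (K.obj j).obj.a := fun j => (K.obj j).obj.str
  have hiso : ∀ j, IsIso (st j) := fun j => (K.obj j).property
  have hnat : ∀ {i j : J} (a : i ⟶ j), T.map (K.map a).hom.f ≫ st j = st i ≫ (K.map a).hom.f := fun a => (K.map a).hom.h
  let κ : ∀ j, (K.obj j).obj.a ⟶ c.pt := fun j => c.ι.app j
  have hc : ∀ {i j : J} (a : i ⟶ j), (K.map a).hom.f ≫ κ j = κ i := fun a => c.w a
  let G := ((ObjectProperty.ι (fun A : Endofunctor.Algebra T => IsIso A.str)) ⋙ Endofunctor.Algebra.forget T)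
  let sc : Cocone ((K ⋙ G) ⋙ T) :=
    { pt := c.pt
      ι :=
        { app := fun j => st j ≫ κ j
          naturality := fun i j a => by
            change T.map (K.map a).hom.f ≫ st j ≫ κ j = (st i ≫ κ i) ≫ 𝟙 _
            rw [← Category.assoc, hnat, Category.assoc, hc, Category.comp_id] } }
  let ic : Cocone (K ⋙ G) :=
    { pt := T.obj c.pt
      ι :=
        { app := fun j => @inv _ _ _ _ (st j) (hiso j) ≫ T.map (κ j)
          naturality := fun i j a => by
            change (K.map a).hom.f ≫ inv (st j) ≫ T.map (κ j) = (inv (st i) ≫ T.map (κ i)) ≫ 𝟙 _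
            rw [Category.comp_id, IsIso.eq_inv_comp, ← Category.assoc (st i), ← hnat, Category.assoc,
              IsIso.hom_inv_id_assoc, ← T.map_comp, hc] } }
  let u : T.obj c.pt ⟶ c.pt := tT.desc sc
  have hu : ∀ j, T.map (κ j) ≫ u = st j ≫ κ j := fun j => tT.fac sc j
  have hv : ∀ j, κ j ≫ t.desc ic = @inv _ _ _ _ (st j) (hiso j) ≫ T.map (κ j) := fun j => t.fac ic j
  have : IsIso u := ⟨t.desc ic, tT.hom_ext fun j => by
      change T.map (κ j) ≫ u ≫ t.desc ic = T.map (κ j) ≫ 𝟙 _
      rw [← Category.assoc, hu, Category.assoc, hv, IsIso.hom_inv_id_assoc, Category.comp_id],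
    t.hom_ext fun j => by
      change κ j ≫ t.desc ic ≫ u = κ j ≫ 𝟙 _
      rw [← Category.assoc, hv, Category.assoc, hu, IsIso.inv_hom_id_assoc, Category.comp_id]⟩
  let A : ObjectProperty.FullSubcategory (fun A : Endofunctor.Algebra T => IsIso A.str) := ⟨⟨c.pt, u⟩, this⟩
  let L : Cocone K :=
    { pt := A
      ι :=
        { app := fun j => ObjectProperty.homMk ({ f := κ j, h := hu j } : (K.obj j).obj ⟶ A.obj)
          naturality := fun i j a => by
            apply ObjectProperty.hom_ext
            apply Endofunctor.Algebra.ext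
            exact (hc a).trans (Category.comp_id _).symm } }
  refine { liftedCocone := L, validLift := Cocone.ext (Iso.refl _) (fun j => Category.comp_id _), makesColimit := ?_ }
  let dd : ∀ s : Cocone K, c.pt ⟶ s.pt.obj.a := fun s => t.desc (G.mapCocone s)
  have hd : ∀ (s : Cocone K) (j : J), κ j ≫ dd s = (s.ι.app j).hom.f := fun s j => t.fac (G.mapCocone s) j
  have hdd : ∀ s : Cocone K, T.map (dd s) ≫ s.pt.obj.str = u ≫ dd s := fun s => tT.hom_ext fun j => by
    change T.map (κ j) ≫ T.map (dd s) ≫ s.pt.obj.str = T.map (κ j) ≫ u ≫ dd s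
    rw [← Category.assoc, ← T.map_comp, hd, ← Category.assoc, hu, Category.assoc, hd]
    exact (s.ι.app j).hom.h
  exact
    { desc := fun s => ObjectProperty.homMk ({ f := dd s, h := hdd s } : A.obj ⟶ s.pt.obj)
      fac := fun s j => by
        apply ObjectProperty.hom_ext
        apply Endofunctor.Algebra.ext
        exact hd s j
      uniq := fun s m hm => by
        apply ObjectProperty.hom_ext
        apply Endofunctor.Algebra.ext
        exact t.uniq (G.mapCocone s) m.hom.f fun j => congrArg (fun z => z.hom.f) (hm j) }

end Groth.Agent.S18960
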