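import Groth.Statements.S18961
import Groth.Agent.H21.BBGraded
import Mathlib.RingTheory.FinitePresentation

set_option autoImplicit false
universe u
open BBDec

namespace Groth.Agent.S18961

/-- Let k be a field, A a finitely generated k-algebra and B a finitely generated A-algebra graded by
the natural numbers as an A-algebra, with degree-zero part equal to the image of A and A → B
injective; let B₊ be the irrelevant ideal. So Spec B → Spec A is the retraction of an affine scheme
with an action of the multiplicative monoid of the affine line onto its fixed-point scheme, with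
zero section cut out by B₊; this is the affine-local graded form, for that monoid, of the published
statement, which covers any Kempf monoid M with unit group G and a k-scheme X locally of finite
type, and concludes that the retraction X⁺ → X^G is an affine-space bundle near a fixed point at
whose section value it is smooth. Assume that A → B is smooth at every prime ideal containing B₊ and
that B₊/B₊² is a free A-module of finite rank. Then B is isomorphic, as an A-algebra, to the
polynomial ring over A in (rank of B₊/B₊²) variables. (The published statement also makes the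
isomorphism equivariant for a suitable linear action when G is linearly reductive; only the
existence of an A-algebra isomorphism is stated here. Freeness of the conormal module holds after
shrinking the base, which is how the published proof reaches this situation.) -/
theorem result (k : Type u) [Field k]
    (A B : Type u) [CommRing A] [CommRing B] [Algebra k A] [Algebra k B] [Algebra A B] [IsScalarTower k A B]
    [Algebra.FiniteType k A] [Algebra.FiniteType A B] (𝒜 : ℕ → Submodule A B) [GradedAlgebra 𝒜]
    (h0 : ∀ b : B, b ∈ 𝒜 0 ↔ b ∈ Set.range (algebraMap A B)) (hinj : Function.Injective (algebraMap A B))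
    (hsm : ∀ (P : Ideal B) [P.IsPrime], (HomogeneousIdeal.irrelevant 𝒜).toIdeal ≤ P → Algebra.IsSmoothAt A P)
    [Module.Free A (HomogeneousIdeal.irrelevant 𝒜).toIdeal.Cotangent]
    [Module.Finite A (HomogeneousIdeal.irrelevant 𝒜).toIdeal.Cotangent] :
    Nonempty (B ≃ₐ[A]
      MvPolynomial (Fin (Module.finrank A (HomogeneousIdeal.irrelevant 𝒜).toIdeal.Cotangent)) A) := by
  haveI : IsNoetherianRing A := Algebra.FiniteType.isNoetherianRing k A
  haveI : Algebra.FinitePresentation A B := Algebra.FinitePresentation.of_finiteType.1 inferInstance
  let J := (HomogeneousIdeal.irrelevant 𝒜).toIdeal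
  have hopen : IsClosed (Algebra.smoothLocus A B)ᶜ := Algebra.isOpen_smoothLocus.isClosed_compl
  obtain ⟨K, hK⟩ := (PrimeSpectrum.isClosed_iff_zeroLocus_ideal _).1 hopen
  have htop : K ⊔ J = ⊤ := by
    by_contra hne
    obtain ⟨P, hP, hle⟩ := Ideal.exists_le_maximal _ hne
    have h1 : (⟨P, hP.isPrime⟩ : PrimeSpectrum B) ∈ (Algebra.smoothLocus A B)ᶜ := by
      rw [hK]; exact le_sup_left.trans hle
    exact h1 (hsm P (le_sup_right.trans hle))
  obtain ⟨f, hf, i, hi, hfi⟩ := Submodule.mem_sup.1 (htop ▸ Submodule.mem_top : (1 : B) ∈ K ⊔ J)
  have hsub : ↑(PrimeSpectrum.basicOpen f) ⊆ Algebra.smoothLocus A B := by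
    intro P hP
    by_contra hc
    have hmem : P ∈ PrimeSpectrum.zeroLocus (K : Set B) := hK ▸ hc
    exact hP (hmem hf)
  haveI : Algebra.Smooth A (Localization.Away f) := Algebra.basicOpen_subset_smoothLocus_iff_smooth.1 hsub
  by_cases hA : Nontrivial A
  · exact Groth.Agent.H21.BBGraded.nonempty_algEquiv 𝒜 h0 hinj f
      (show 1 - f ∈ J by rw [← hfi, add_sub_cancel_left]; exact hi)
      (Module.finBasis A (HomogeneousIdeal.irrelevant 𝒜).toIdeal.Cotangent)
  · haveI : Subsingleton A := not_nontrivial_iff_subsingleton.1 hA
    haveI : Subsingleton B := Module.subsingleton A B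
    let ψ : MvPolynomial (Fin (Module.finrank A (HomogeneousIdeal.irrelevant 𝒜).toIdeal.Cotangent)) A →ₐ[A] B :=
      MvPolynomial.aeval fun _ => 0
    exact ⟨(AlgEquiv.ofBijective ψ
      ⟨fun x y _ => Subsingleton.elim x y, fun y => ⟨0, Subsingleton.elim _ _⟩⟩).symm⟩

end Groth.Agent.S18961
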