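import Groth.Statements.S18963

import Groth.Agent.Lib.GrpSch.LineChart
import Groth.Agent.Lib.GrpSch.Basic
import Groth.Agent.Lib.GrpSch.GenericIso
import Mathlib.AlgebraicGeometry.Morphisms.Flat

set_option autoImplicit false
universe u
open CategoryTheory MonoidalCategory CartesianMonoidalCategory MonObj AlgebraicGeometry Opposite
open Magnet

open Groth.Agent.Lib.GrpSch

namespace Groth.Agent.S18963

/-- Over an affine open of `Y`, the two maps agree near the zero section and near some other point of each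
fibre. -/
theorem exists_agree_nhd (k : Type u) [Field k] (X Y : Over (Spec (CommRingCat.of k)))
    (γ₁ γ₂ : AMonS (Spec (CommRingCat.of k)) lineMon ⊗ Y ⟶ X)
    (h : ∀ (T : Over (Spec (CommRingCat.of k))) (m : T ⟶ AMonS (Spec (CommRingCat.of k)) lineMon) (t : T ⟶ Y),
      (∃ n : ℕ, ∀ m' : T ⟶ AMonS (Spec (CommRingCat.of k)) lineMon, m ^ (n + 1) * m' = m ^ (n + 1)) →
      lift m t ≫ γ₁ = lift m t ≫ γ₂) (y : Y.left) :
    ∃ O : (AMonS (Spec (CommRingCat.of k)) lineMon ⊗ Y).left.Opens, O.ι ≫ γ₁.left = O.ι ≫ γ₂.left ∧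
      (∀ w, (snd (AMonS (Spec (CommRingCat.of k)) lineMon) Y).left w = y →
        w ∉ (AMonS (Spec (CommRingCat.of k)) lineMon ⊗ Y).left.basicOpen
          (monFn (fst (AMonS (Spec (CommRingCat.of k)) lineMon) Y) lineGen) → w ∈ O) ∧
      ∃ w ∈ O, (snd (AMonS (Spec (CommRingCat.of k)) lineMon) Y).left w = y ∧
        w ∈ (AMonS (Spec (CommRingCat.of k)) lineMon ⊗ Y).left.basicOpen
          (monFn (fst (AMonS (Spec (CommRingCat.of k)) lineMon) Y) lineGen) := by
  obtain ⟨_, ⟨V, hV, rfl⟩, hyV, -⟩ := Y.left.isBasis_affineOpens.exists_subset_of_mem_open (Set.mem_univ y) isOpen_univ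
  let B := Γ(Y.left, V)
  let q : Spec B := hV.primeIdealOf ⟨y, hyV⟩
  have hq : hV.fromSpec q = y := hV.fromSpec_primeIdealOf ⟨y, hyV⟩
  obtain ⟨p, hp, hp2, hp1⟩ := exists_line_chart B (hV.fromSpec ≫ Y.hom)
  let A : Over (Spec (CommRingCat.of k)) :=
    Over.mk (Spec.map (CommRingCat.ofHom (Polynomial.C : B →+* Polynomial B)) ≫ hV.fromSpec ≫ Y.hom)
  let j : Over.mk (hV.fromSpec ≫ Y.hom) ⟶ Y := Over.homMk hV.fromSpec rfl
  let ψ : A ⟶ (AMonS (Spec (CommRingCat.of k)) lineMon) ⊗ Y := p ≫ ((AMonS (Spec (CommRingCat.of k)) lineMon) ◁ j)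
  have : IsOpenImmersion hV.fromSpec := hV.isOpenImmersion_fromSpec
  have : IsOpenImmersion ((AMonS (Spec (CommRingCat.of k)) lineMon) ◁ j).left := whiskerLeft_left_of (AMonS (Spec (CommRingCat.of k)) lineMon) j (inferInstanceAs (IsOpenImmersion hV.fromSpec))
  have : IsIso p.left := ((Over.forget _).mapIso (asIso p)).isIso_hom
  have : IsOpenImmersion ψ.left := inferInstanceAs (IsOpenImmersion (p.left ≫ ((AMonS (Spec (CommRingCat.of k)) lineMon) ◁ j).left))
  have hψ2 : (ψ ≫ snd (AMonS (Spec (CommRingCat.of k)) lineMon) Y).left = Spec.map (CommRingCat.ofHom Polynomial.C) ≫ hV.fromSpec := by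
    have hp2' : p.left ≫ (snd (AMonS (Spec (CommRingCat.of k)) lineMon) (Over.mk (hV.fromSpec ≫ Y.hom))).left =
        Spec.map (CommRingCat.ofHom Polynomial.C) := hp2
    simp only [ψ, Category.assoc, whiskerLeft_snd, Over.comp_left, reassoc_of% hp2']
    rfl
  have hψ1 : monFn (ψ ≫ fst (AMonS (Spec (CommRingCat.of k)) lineMon) Y) lineGen =
      (Scheme.ΓSpecIso (CommRingCat.of (Polynomial B))).inv Polynomial.X := by
    rw [← hp1]
    congr 1
    simp [ψ]
  have hbas : ∀ P : A.left, ψ.left P ∈ ((AMonS (Spec (CommRingCat.of k)) lineMon) ⊗ Y).left.basicOpen (monFn (fst (AMonS (Spec (CommRingCat.of k)) lineMon) Y) lineGen) ↔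
      Polynomial.X ∉ (show PrimeSpectrum (Polynomial B) from P).asIdeal := fun P => by
    have e : ψ.left ⁻¹ᵁ ((AMonS (Spec (CommRingCat.of k)) lineMon) ⊗ Y).left.basicOpen (monFn (fst (AMonS (Spec (CommRingCat.of k)) lineMon) Y) lineGen) =
        A.left.basicOpen (monFn (ψ ≫ fst (AMonS (Spec (CommRingCat.of k)) lineMon) Y) lineGen) := by
      rw [monFn_comp]
      exact Scheme.preimage_basicOpen _ _
    have e2 := basicOpen_eq_of_affine (R := CommRingCat.of (Polynomial B)) Polynomial.X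
    rw [hψ1] at e
    have e3 : ψ.left ⁻¹ᵁ ((AMonS (Spec (CommRingCat.of k)) lineMon) ⊗ Y).left.basicOpen (monFn (fst (AMonS (Spec (CommRingCat.of k)) lineMon) Y) lineGen) =
        PrimeSpectrum.basicOpen (Polynomial.X : Polynomial B) := e.trans e2
    exact SetLike.ext_iff.1 e3 P
  -- agreement modulo powers of the coordinate
  have hnil : ∀ (L : CommRingCat.{u}) (α : CommRingCat.of (Polynomial B) ⟶ L) (n : ℕ),
      α Polynomial.X ^ (n + 1) = 0 →
      Spec.map α ≫ ψ.left ≫ γ₁.left = Spec.map α ≫ ψ.left ≫ γ₂.left := fun L α n hα => by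
    let T : Over (Spec (CommRingCat.of k)) := Over.mk (Spec.map α ≫ A.hom)
    let r : T ⟶ A := Over.homMk (Spec.map α) rfl
    have hm : monFn (r ≫ ψ ≫ fst (AMonS (Spec (CommRingCat.of k)) lineMon) Y) lineGen = (Scheme.ΓSpecIso L).inv (α Polynomial.X) := by
      rw [monFn_comp, hψ1]
      exact (CategoryTheory.congr_fun (Scheme.ΓSpecIso_inv_naturality α) Polynomial.X).symm
    have := h T (r ≫ ψ ≫ fst (AMonS (Spec (CommRingCat.of k)) lineMon) Y) (r ≫ ψ ≫ snd (AMonS (Spec (CommRingCat.of k)) lineMon) Y) ⟨n, fun m' => monFn_line_ext (by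
      rw [monFn_mul, monFn_pow, hm, ← map_pow, hα]
      exact (congrArg (· * monFn m' lineGen) (map_zero _)).trans
        ((zero_mul _).trans (map_zero _).symm))⟩
    rw [← comp_lift, ← comp_lift, lift_fst_snd, Category.comp_id] at this
    simp only [Category.assoc] at this
    exact congrArg CommaMorphism.left this
  let ev : Polynomial B →+* B := Polynomial.evalRingHom 0
  let P₀ : A.left := (show PrimeSpectrum B from q).comap ev
  have hP₀ : Spec.map (CommRingCat.ofHom (Polynomial.evalRingHom (0 : B))) q = P₀ := rfl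
  let x₀ := γ₁.left (ψ.left P₀)
  have hx₀ : γ₂.left (ψ.left P₀) = x₀ := by
    have e := hnil (CommRingCat.of B) (CommRingCat.ofHom ev) 0 (by simp [ev])
    have := congrArg (fun f : Spec (CommRingCat.of B) ⟶ X.left => f q) e
    exact this.symm
  obtain ⟨_, ⟨U, hU, rfl⟩, hxU, -⟩ := X.left.isBasis_affineOpens.exists_subset_of_mem_open (Set.mem_univ x₀) isOpen_univ
  obtain ⟨_, ⟨f, rfl⟩, hfP, hfsub⟩ := PrimeSpectrum.isTopologicalBasis_basic_opens.exists_subset_of_mem_open
    (show P₀ ∈ ((ψ.left ≫ γ₁.left) ⁻¹ᵁ U ⊓ (ψ.left ≫ γ₂.left) ⁻¹ᵁ U : A.left.Opens) from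
      ⟨hxU, (congrArg (· ∈ U) hx₀).mpr hxU⟩)
    ((ψ.left ≫ γ₁.left) ⁻¹ᵁ U ⊓ (ψ.left ≫ γ₂.left) ⁻¹ᵁ U : A.left.Opens).2
  let f' : Polynomial B := Polynomial.C (f.coeff 0) * f
  have hf0 : f.coeff 0 ∉ (show PrimeSpectrum B from q).asIdeal := by
    rw [Polynomial.coeff_zero_eq_eval_zero]
    exact hfP
  have hf'P : f' ∉ (show PrimeSpectrum (Polynomial B) from P₀).asIdeal := by
    change ev f' ∉ (show PrimeSpectrum B from q).asIdeal
    intro hmem
    simp only [ev, f', map_mul, Polynomial.coe_evalRingHom, Polynomial.eval_C] at hmem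
    rcases (show PrimeSpectrum B from q).isPrime.mem_or_mem hmem with h' | h'
    · exact hf0 h'
    · exact hfP h'
  let L := CommRingCat.of (Localization.Away f')
  let lmap : CommRingCat.of (Polynomial B) ⟶ L := CommRingCat.ofHom (algebraMap _ _)
  let l : Spec L ⟶ A.left := Spec.map lmap
  have : IsOpenImmersion l := inferInstanceAs (IsOpenImmersion (Spec.map lmap))
  have hlrange : Set.range l = (PrimeSpectrum.basicOpen f' : Set (PrimeSpectrum (Polynomial B))) :=
    PrimeSpectrum.localization_away_comap_range (Localization.Away f') f'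
  have hlU : ∀ x, l x ∈ (ψ.left ≫ γ₁.left) ⁻¹ᵁ U ∧ l x ∈ (ψ.left ≫ γ₂.left) ⁻¹ᵁ U := fun x => by
    have hx : l x ∈ (PrimeSpectrum.basicOpen f' : Set (PrimeSpectrum (Polynomial B))) := hlrange ▸ ⟨x, rfl⟩
    exact hfsub fun hf => hx ((show PrimeSpectrum (Polynomial B) from l x).asIdeal.mul_mem_left _ hf)
  have hagree : l ≫ ψ.left ≫ γ₁.left = l ≫ ψ.left ≫ γ₂.left := by
    have : IsOpenImmersion hU.fromSpec := hU.isOpenImmersion_fromSpec
    have hs1 : Set.range (l ≫ ψ.left ≫ γ₁.left) ⊆ Set.range hU.fromSpec := by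
      rw [hU.range_fromSpec]
      rintro _ ⟨x, rfl⟩
      exact (hlU x).1
    have hs2 : Set.range (l ≫ ψ.left ≫ γ₂.left) ⊆ Set.range hU.fromSpec := by
      rw [hU.range_fromSpec]
      rintro _ ⟨x, rfl⟩
      exact (hlU x).2
    obtain ⟨φ₁, hφ₁⟩ := Spec.map_surjective (IsOpenImmersion.lift hU.fromSpec _ hs1)
    obtain ⟨φ₂, hφ₂⟩ := Spec.map_surjective (IsOpenImmersion.lift hU.fromSpec _ hs2)
    have e1 : Spec.map φ₁ ≫ hU.fromSpec = l ≫ ψ.left ≫ γ₁.left := by rw [hφ₁, IsOpenImmersion.lift_fac]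
    have e2 : Spec.map φ₂ ≫ hU.fromSpec = l ≫ ψ.left ≫ γ₂.left := by rw [hφ₂, IsOpenImmersion.lift_fac]
    suffices φ₁ = φ₂ by rw [← e1, ← e2, this]
    ext s
    refine sub_eq_zero.1 (eq_zero_of_forall_mem_span_pow f f' rfl _ fun n => ?_)
    let I : Ideal L := Ideal.span {algebraMap (Polynomial B) (Localization.Away f') Polynomial.X ^ (n + 1)}
    let π : L ⟶ CommRingCat.of (L ⧸ I) := CommRingCat.ofHom (Ideal.Quotient.mk I)
    have hπ : Spec.map π ≫ l ≫ ψ.left ≫ γ₁.left = Spec.map π ≫ l ≫ ψ.left ≫ γ₂.left := by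
      have hpow : (lmap ≫ π) Polynomial.X ^ (n + 1) = 0 := by
        change (Ideal.Quotient.mk I (algebraMap _ _ Polynomial.X)) ^ (n + 1) = 0
        rw [← map_pow, Ideal.Quotient.eq_zero_iff_mem]
        exact Ideal.subset_span rfl
      have := hnil _ (lmap ≫ π) n hpow
      simpa [l] using this
    rw [← e1, ← e2, ← Category.assoc, ← Category.assoc, cancel_mono, ← Spec.map_comp, ← Spec.map_comp] at hπ
    have hs := congrArg (fun φ => CommRingCat.Hom.hom φ s) (Spec.map_injective hπ)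
    have hmem : φ₁ s - φ₂ s ∈ I := (Ideal.Quotient.mk_eq_mk_iff_sub_mem _ _).1 hs
    refine (Ideal.span_singleton_le_span_singleton.2 ⟨algebraMap (Polynomial B) (Localization.Away f') Polynomial.X, ?_⟩) hmem
    exact pow_succ _ _
  let χ := l ≫ ψ.left
  have : IsOpenImmersion χ := inferInstanceAs (IsOpenImmersion (l ≫ ψ.left))
  have hmemO : ∀ P : A.left, f' ∉ (show PrimeSpectrum (Polynomial B) from P).asIdeal → ψ.left P ∈ χ.opensRange := by
    intro P hP
    have : P ∈ Set.range l := hlrange ▸ hP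
    obtain ⟨z, rfl⟩ := this
    exact ⟨z, rfl⟩
  refine ⟨χ.opensRange, ?_, ?_, ?_⟩
  · rw [← cancel_epi χ.isoOpensRange.hom, Scheme.Hom.isoOpensRange_hom_ι_assoc,
      Scheme.Hom.isoOpensRange_hom_ι_assoc, Category.assoc, Category.assoc, hagree]
  · intro w hw hnot
    obtain ⟨v, hv1, hv2⟩ := Scheme.Pullback.exists_preimage_pullback (f := (snd (AMonS (Spec (CommRingCat.of k)) lineMon) Y).left) (g := j.left) w q
      (hw.trans hq.symm)
    let sq := isPullback_whiskerLeft (AMonS (Spec (CommRingCat.of k)) lineMon) j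
    have hwv : ψ.left (inv p.left (sq.isoPullback.inv v)) = w := by
      rw [show ψ.left = p.left ≫ ((AMonS (Spec (CommRingCat.of k)) lineMon) ◁ j).left from rfl, ← Scheme.Hom.comp_apply, IsIso.inv_hom_id_assoc,
        ← Scheme.Hom.comp_apply, sq.isoPullback_inv_fst, hv1]
    set P := inv p.left (sq.isoPullback.inv v)
    have hPq : Spec.map (CommRingCat.ofHom (Polynomial.C : B →+* Polynomial B)) P = q := by
      apply hV.fromSpec.injective
      rw [← Scheme.Hom.comp_apply, ← hψ2, Over.comp_left, Scheme.Hom.comp_apply, hwv, hw, hq]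
    have hX : Polynomial.X ∈ (show PrimeSpectrum (Polynomial B) from P).asIdeal := by
      by_contra hc
      exact hnot (hwv ▸ (hbas P).2 hc)
    rw [← hwv]
    refine hmemO P fun hmem => hf'P ?_
    change ev f' ∈ (show PrimeSpectrum B from q).asIdeal
    rw [← hPq]
    change Polynomial.C (ev f') ∈ (show PrimeSpectrum (Polynomial B) from P).asIdeal
    have hdec : f' = Polynomial.X * f'.divX + Polynomial.C (ev f') := by
      conv_lhs => rw [← Polynomial.X_mul_divX_add f', Polynomial.coeff_zero_eq_eval_zero]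
      rfl
    rw [hdec] at hmem
    exact (Ideal.add_mem_iff_right _ ((show PrimeSpectrum (Polynomial B) from P).asIdeal.mul_mem_right _ hX)).1 hmem
  · let qI := (show PrimeSpectrum B from q).asIdeal
    have : qI.IsPrime := (show PrimeSpectrum B from q).isPrime
    let mr := Polynomial.mapRingHom (Ideal.Quotient.mk qI)
    let P₁ : A.left := (⟨RingHom.ker mr, RingHom.ker_isPrime mr⟩ : PrimeSpectrum (Polynomial B))
    refine ⟨ψ.left P₁, hmemO P₁ ?_, ?_, (hbas P₁).2 ?_⟩
    · intro hmem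
      apply hf'P
      change ev f' ∈ qI
      have h0 : (mr f').coeff 0 = 0 := by rw [RingHom.mem_ker.1 hmem, Polynomial.coeff_zero]
      rw [show ev f' = f'.coeff 0 from (Polynomial.coeff_zero_eq_eval_zero f').symm, ← Ideal.Quotient.eq_zero_iff_mem]
      simpa [mr] using h0
    · rw [← Scheme.Hom.comp_apply, ← Over.comp_left, hψ2, Scheme.Hom.comp_apply, ← hq]
      congr 1
      apply PrimeSpectrum.ext
      ext b
      change mr (Polynomial.C b) = 0 ↔ b ∈ qI
      simp [mr, Ideal.Quotient.eq_zero_iff_mem]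
    · change ¬ (mr Polynomial.X = 0)
      simp [mr]

/-- For the multiplicative monoid of the affine line with unit group G_m (the published statement: any
Kempf monoid M with unit group G), let k be a field, X a k-scheme with an action a of the
multiplicative group G_m = D(ℤ) over k, and Y a k-scheme. Let γ₁ and γ₂ be two k-morphisms A^1 ×_k Y
→ X, where A^1 is the diagonalizable monoid scheme of the non-negative integers (the affine line
under multiplication), that are G_m-equivariant for G_m scaling the first factor — two Y-valued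
points of the Białynicki-Birula functor D_X. Suppose γ₁ and γ₂ agree at every T-valued point (m, t)
of A^1 ×_k Y whose first coordinate m is nilpotent in the monoid A^1(T), i.e. some power of m is
absorbing (equal to its product with any element); equivalently γ₁ and γ₂ agree on all infinitesimal
neighbourhoods of {0} ×_k Y. Then γ₁ = γ₂; that is, the canonical map from D_X to the formal
Białynicki-Birula functor is injective on Y-points. -/
theorem result (k : Type u) [Field k]
    (X Y : Over (Spec (CommRingCat.of k))) (a : AlgGrp.Action (Red.DS (Spec (CommRingCat.of k)) ℤ) X)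
    (γ₁ γ₂ : (Magnet.attr (Magnet.MonAct.ofAction a) (AddSubmonoid.multiples (1 : ℤ))).obj (op Y))
    (h : ∀ (T : Over (Spec (CommRingCat.of k))) (m : T ⟶ Magnet.AMonS (Spec (CommRingCat.of k)) (AddSubmonoid.multiples (1 : ℤ))) (t : T ⟶ Y),
      (∃ n : ℕ, ∀ m' : T ⟶ Magnet.AMonS (Spec (CommRingCat.of k)) (AddSubmonoid.multiples (1 : ℤ)), m ^ (n + 1) * m' = m ^ (n + 1)) →
      CartesianMonoidalCategory.lift m t ≫ γ₁.1 = CartesianMonoidalCategory.lift m t ≫ γ₂.1) :
    γ₁ = γ₂ := by
  let S := Spec (CommRingCat.of k)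
  let G := AMonS S ℤ
  let B1 := AMonS S lineMon
  let W := B1 ⊗ Y
  let ts : Γ(W.left, ⊤) := monFn (fst B1 Y) lineGen
  have hloc := exists_agree_nhd k X Y γ₁.1 γ₂.1 h
  let E : W.left.Opens := ⨆ O : {O : W.left.Opens // O.ι ≫ γ₁.1.left = O.ι ≫ γ₂.1.left}, O.1
  have hE : E.ι ≫ γ₁.1.left = E.ι ≫ γ₂.1.left := by
    refine Scheme.Cover.hom_ext (Scheme.Opens.iSupOpenCover fun O : {O : W.left.Opens //
      O.ι ≫ γ₁.1.left = O.ι ≫ γ₂.1.left} => O.1) _ _ fun O => ?_
    change W.left.homOfLE (le_iSup (fun O : {O : W.left.Opens // O.ι ≫ γ₁.1.left = O.ι ≫ γ₂.1.left} => O.1) O) ≫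
        E.ι ≫ γ₁.1.left =
      W.left.homOfLE (le_iSup (fun O : {O : W.left.Opens // O.ι ≫ γ₁.1.left = O.ι ≫ γ₂.1.left} => O.1) O) ≫
        E.ι ≫ γ₂.1.left
    rw [Scheme.homOfLE_ι_assoc, Scheme.homOfLE_ι_assoc]
    exact O.2
  have hle : ∀ (O : W.left.Opens), O.ι ≫ γ₁.1.left = O.ι ≫ γ₂.1.left → O ≤ E :=
    fun O hO => le_iSup (fun O : {O : W.left.Opens // O.ι ≫ γ₁.1.left = O.ι ≫ γ₂.1.left} => O.1) ⟨O, hO⟩
  let Eo : Over S := Over.mk (E.ι ≫ W.hom)
  let jE : Eo ⟶ W := Over.homMk E.ι rfl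
  let ρ := (subAct S ℤ lineMon).prod (MonAct.trivial G Y)
  let c : G ⊗ Eo ⟶ W := (G ◁ jE) ≫ ρ.act
  have hEeq : jE ≫ γ₁.1 = jE ≫ γ₂.1 := Over.OverMorphism.ext hE
  have hceq : c ≫ γ₁.1 = c ≫ γ₂.1 := by
    have e1 : ρ.act ≫ γ₁.1 = (G ◁ γ₁.1) ≫ a.act := γ₁.2
    have e2 : ρ.act ≫ γ₂.1 = (G ◁ γ₂.1) ≫ a.act := γ₂.2
    simp only [c, Category.assoc, e1, e2, ← MonoidalCategory.whiskerLeft_comp_assoc, hEeq]
  let aW : AlgGrp.Action (Red.DS S ℤ) W := MonAct.toAction (G := Red.DS S ℤ) ρ
  have hflatG : Flat G.hom := flat_of_isField (Field.toIsField k) G.hom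
  have : Flat ρ.act.left := act_left_of aW (P := @Flat) hflatG
  have : IsOpenImmersion (G ◁ jE).left := whiskerLeft_left_of G jE (inferInstanceAs (IsOpenImmersion E.ι))
  have : Flat c.left := inferInstanceAs (Flat ((G ◁ jE).left ≫ ρ.act.left))
  have : Surjective c.left := by
    refine ⟨fun p => ?_⟩
    let y := (snd B1 Y).left p
    obtain ⟨O, hO, hzero, w, hwO, hwy, hwb⟩ := hloc y
    by_cases hp : p ∈ W.left.basicOpen ts
    · obtain ⟨z, hz1, hz2⟩ := Scheme.Pullback.exists_preimage_pullback (f := (snd B1 Y).left) (g := (snd B1 Y).left)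
        p w (show (snd B1 Y).left p = (snd B1 Y).left w from hwy.symm)
      let PB := Limits.pullback (snd B1 Y).left (snd B1 Y).left
      let e₁ := PB.fromSpecResidueField z ≫ Limits.pullback.fst (snd B1 Y).left (snd B1 Y).left
      let e₂ := PB.fromSpecResidueField z ≫ Limits.pullback.snd (snd B1 Y).left (snd B1 Y).left
      let T : Over S := Over.mk (e₁ ≫ W.hom)
      have he : e₁ ≫ (snd B1 Y).left = e₂ ≫ (snd B1 Y).left := by
        simp only [e₁, e₂, Category.assoc, Limits.pullback.condition, PB]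
      let x₁ : T ⟶ W := Over.homMk e₁ rfl
      let x₂ : T ⟶ W := Over.homMk e₂ (by
        change e₂ ≫ W.hom = e₁ ≫ W.hom
        rw [← Over.w (snd B1 Y), reassoc_of% he])
      have hx12 : x₁ ≫ snd B1 Y = x₂ ≫ snd B1 Y := Over.OverMorphism.ext he
      let K := PB.residueField z
      have hx2E : Set.range e₂ ⊆ Set.range E.ι := by
        rintro _ ⟨s, rfl⟩
        rw [Scheme.Opens.range_ι]
        simp only [e₂, Scheme.Hom.comp_apply, Scheme.fromSpecResidueField_apply, hz2]
        exact hle O hO hwO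
      have hunit : ∀ (x : T ⟶ W), (∀ s, x.left s ∈ W.left.basicOpen ts) → IsUnit (monFn (x ≫ fst B1 Y) lineGen) := by
        intro x hx
        rw [monFn_comp]
        have hF : IsField Γ(T.left, ⊤) :=
          (Scheme.ΓSpecIso K).commRingCatIsoToRingEquiv.toMulEquiv.isField (Field.toIsField _)
        let _ := hF.toField
        refine isUnit_iff_ne_zero.2 fun h0 => ?_
        have : x.left ⁻¹ᵁ W.left.basicOpen ts = T.left.basicOpen (x.left.appTop ts) := Scheme.preimage_basicOpen _ _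
        rw [h0, Scheme.basicOpen_zero] at this
        exact (this.le (hx (IsLocalRing.closedPoint K)) : _ ∈ (⊥ : T.left.Opens))
      obtain ⟨u₁, hu₁⟩ := hunit x₁ (fun s => by
        change e₁ s ∈ _
        simp only [e₁, Scheme.Hom.comp_apply, Scheme.fromSpecResidueField_apply, hz1]
        exact hp)
      obtain ⟨u₂, hu₂⟩ := hunit x₂ (fun s => by
        change e₂ s ∈ _
        simp only [e₂, Scheme.Hom.comp_apply, Scheme.fromSpecResidueField_apply, hz2]
        exact hwb)
      let g : T ⟶ G := monPt ((Units.coeHom _).comp (zpowersHom _ (u₁ * u₂⁻¹)))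
      let x₂' : T ⟶ Eo := Over.homMk (IsOpenImmersion.lift E.ι e₂ hx2E) (by
        change IsOpenImmersion.lift E.ι e₂ hx2E ≫ E.ι ≫ W.hom = e₁ ≫ W.hom
        rw [IsOpenImmersion.lift_fac_assoc, ← Over.w (snd B1 Y), reassoc_of% he])
      have hx2' : x₂' ≫ jE = x₂ := Over.OverMorphism.ext (IsOpenImmersion.lift_fac _ _ _)
      have key : lift g x₂' ≫ c = x₁ := by
        simp only [c, lift_whiskerLeft_assoc, hx2']
        conv_lhs => rw [← lift_comp_fst_snd x₂]
        rw [MonAct.lift_prod_act, MonAct.lift_trivial_act]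
        apply CartesianMonoidalCategory.hom_ext
        · rw [lift_fst]
          refine monFn_line_ext ?_
          rw [subAct, MonAct.lift_restrict_act, MonAct.lift_regular_act, monFn_mul, monFn_map, ← hu₁, ← hu₂,
            show lineMon.subtype lineGen = (1 : ℤ) from rfl, monFn_monPt]
          simp
        · rw [lift_snd, hx12]
      refine ⟨(lift g x₂').left (IsLocalRing.closedPoint K), ?_⟩
      rw [← Scheme.Hom.comp_apply, ← Over.comp_left, key]
      change e₁ (IsLocalRing.closedPoint K) = p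
      simp only [e₁, Scheme.Hom.comp_apply, Scheme.fromSpecResidueField_apply, hz1]
    · have key : lift (1 : Eo ⟶ G) (𝟙 Eo) ≫ c = jE := by
        simp only [c, lift_whiskerLeft_assoc, Category.id_comp]
        exact ρ.lift_one_act jE
      let p' : Eo.left := (⟨p, hle O hO (hzero p rfl hp)⟩ : E)
      refine ⟨(lift (1 : Eo ⟶ G) (𝟙 Eo)).left p', ?_⟩
      rw [← Scheme.Hom.comp_apply, ← Over.comp_left, key]
      rfl
  have : Epi c.left := Flat.epi_of_flat_of_surjective c.left
  have : Epi c := (Over.forget S).epi_of_epi_map this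
  exact Subtype.ext ((cancel_epi c).1 hceq)

end Groth.Agent.S18963
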