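import Groth.Statements.S18964
import Groth.Agent.Lib.WeilRep.Charts
import Groth.Agent.Lib.GrpSch.Basic
import Groth.Agent.S18955
import Groth.Agent.S18958

set_option autoImplicit false
set_option backward.isDefEq.respectTransparency false
set_option backward.isDefEq.respectTransparency.types false
set_option linter.style.haveILetI false
universe u
open CategoryTheory MonoidalCategory CartesianMonoidalCategory MonObj AlgebraicGeometry Opposite
open Magnet

namespace Groth.Agent.S18964

section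
open CategoryTheory CategoryTheory.Limits MonoidalCategory CartesianMonoidalCategory MonObj AlgebraicGeometry Opposite TopologicalSpace
open Magnet
open Groth.Agent.Lib.GrpSch Groth.Agent.Lib.WeilRep.Glue

variable {S : Scheme.{u}} {Z T W : Over S} {κ : Type u} {Ti : κ → Over S} (f : ∀ i, Ti i ⟶ T)

theorem exists_whisker_preimage (Z : Over S) (hf : ∀ x, ∃ i, x ∈ Set.range (f i).left) (p : (Z ⊗ T).left) :
    ∃ i, p ∈ Set.range (Z ◁ f i).left := by
  obtain ⟨i, v, hv⟩ := hf ((snd Z T).left p)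
  let sq := isPullback_whiskerLeft Z (f i)
  obtain ⟨q, hq, -⟩ := Scheme.Pullback.exists_preimage_pullback (f := (snd Z T).left) (g := (f i).left)
    p v hv.symm
  exact ⟨i, sq.isoPullback.inv q, by rw [← Scheme.Hom.comp_apply, sq.isoPullback_inv_fst, hq]⟩

noncomputable def cover (Z : Over S) [∀ i, IsOpenImmersion (f i).left] (hf : ∀ x, ∃ i, x ∈ Set.range (f i).left) :
    (Z ⊗ T).left.OpenCover where
  I₀ := κ
  X i := (Z ⊗ Ti i).left
  f i := (Z ◁ f i).left
  mem₀ := by
    rw [Scheme.presieve₀_mem_precoverage_iff]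
    exact ⟨exists_whisker_preimage f Z hf, fun i => whiskerLeft_left_of Z (f i) inferInstance⟩

theorem tensor_hom_ext [∀ i, IsOpenImmersion (f i).left] (hf : ∀ x, ∃ i, x ∈ Set.range (f i).left)
    {a b : Z ⊗ T ⟶ W} (h : ∀ i, (Z ◁ f i) ≫ a = (Z ◁ f i) ≫ b) : a = b :=
  Over.OverMorphism.ext ((cover f Z hf).hom_ext _ _ fun i => congrArg CommaMorphism.left (h i))

theorem exists_tensor_glue {Z T W : Over S} {κ : Type u} (V : κ → T.left.Opens) (hV : ∀ x, ∃ i, x ∈ V i)
    (a : ∀ i, Z ⊗ res T (V i) ⟶ W)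
    (ha : ∀ i j, (Z ◁ resLE T (inf_le_left : V i ⊓ V j ≤ V i)) ≫ a i = (Z ◁ resLE T inf_le_right) ≫ a j) :
    ∃ b : Z ⊗ T ⟶ W, ∀ i, (Z ◁ resι T (V i)) ≫ b = a i := by
  haveI : ∀ i, IsOpenImmersion (resι T (V i)).left := fun i => inferInstanceAs (IsOpenImmersion (V i).ι)
  have hf : ∀ x, ∃ i, x ∈ Set.range (resι T (V i)).left := fun x => by
    obtain ⟨i, hi⟩ := hV x
    exact ⟨i, (range_ι (V i)).symm.subset hi⟩
  let 𝒰 := cover (fun i => resι T (V i)) Z hf
  have key : ∀ i j (R : Over S) (p₁ : R ⟶ Z ⊗ res T (V i)) (p₂ : R ⟶ Z ⊗ res T (V j)),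
      p₁ ≫ (Z ◁ resι T (V i)) = p₂ ≫ (Z ◁ resι T (V j)) → p₁ ≫ a i = p₂ ≫ a j := by
    intro i j R p₁ p₂ hp
    let r : R ⟶ T := p₁ ≫ snd _ _ ≫ resι T (V i)
    have hr : r = p₂ ≫ snd _ _ ≫ resι T (V j) := by
      simpa [r] using congrArg (· ≫ snd Z T) hp
    have hr1 : Set.range r.left ⊆ Set.range (V i ⊓ V j).ι := by
      rw [range_ι]
      rintro _ ⟨x, rfl⟩
      refine ⟨?_, ?_⟩
      · exact (range_ι (V i)).subset ⟨(snd Z (res T (V i))).left (p₁.left x), rfl⟩
      · rw [hr]
        exact (range_ι (V j)).subset ⟨(snd Z (res T (V j))).left (p₂.left x), rfl⟩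
    let l : R ⟶ res T (V i ⊓ V j) := Over.homMk (IsOpenImmersion.lift (V i ⊓ V j).ι r.left hr1) (by
      change IsOpenImmersion.lift _ _ _ ≫ (V i ⊓ V j).ι ≫ T.hom = R.hom
      rw [← Category.assoc, IsOpenImmersion.lift_fac, Over.w r])
    have hl : l ≫ resι T _ = r := Over.OverMorphism.ext (IsOpenImmersion.lift_fac _ _ _)
    haveI : ∀ i, Mono (resι T (V i)) := fun i => (Over.forget _).mono_of_mono_map (inferInstanceAs (Mono (V i).ι))
    have h1 : lift (p₁ ≫ fst _ _) l ≫ (Z ◁ resLE T inf_le_left) = p₁ := by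
      apply CartesianMonoidalCategory.hom_ext
      · simp
      · rw [← cancel_mono (resι T (V i))]
        simp only [Category.assoc, whiskerLeft_snd_assoc, lift_snd_assoc, resLE_resι, hl, r]
    have h2 : lift (p₁ ≫ fst _ _) l ≫ (Z ◁ resLE T inf_le_right) = p₂ := by
      apply CartesianMonoidalCategory.hom_ext
      · simpa using congrArg (· ≫ fst Z T) hp
      · rw [← cancel_mono (resι T (V j))]
        simp only [Category.assoc, whiskerLeft_snd_assoc, lift_snd_assoc, resLE_resι, hl, hr]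
    rw [← h1, ← h2, Category.assoc, Category.assoc, ha]
  have hc : ∀ i j, pullback.fst (𝒰.f i) (𝒰.f j) ≫ (a i).left = pullback.snd (𝒰.f i) (𝒰.f j) ≫ (a j).left := by
    intro i j
    let R : Over S := Over.mk (pullback.fst (𝒰.f i) (𝒰.f j) ≫ (Z ⊗ res T (V i)).hom)
    let p₁ : R ⟶ Z ⊗ res T (V i) := Over.homMk (pullback.fst (𝒰.f i) (𝒰.f j)) rfl
    let p₂ : R ⟶ Z ⊗ res T (V j) := Over.homMk (pullback.snd (𝒰.f i) (𝒰.f j)) (by
      change pullback.snd (𝒰.f i) (𝒰.f j) ≫ (Z ⊗ res T (V j)).hom =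
        pullback.fst (𝒰.f i) (𝒰.f j) ≫ (Z ⊗ res T (V i)).hom
      rw [← Over.w (Z ◁ resι T (V j)), ← Over.w (Z ◁ resι T (V i))]
      exact (pullback.condition_assoc _).symm)
    exact congrArg CommaMorphism.left (key i j R p₁ p₂ (Over.OverMorphism.ext pullback.condition))
  refine ⟨Over.homMk (𝒰.glueMorphisms (fun i => (a i).left) hc) (𝒰.hom_ext _ _ fun i => ?_), fun i => ?_⟩
  · exact (Category.assoc _ _ _).symm.trans
      ((congrArg (· ≫ W.hom) (𝒰.ι_glueMorphisms _ hc i)).trans ((Over.w (a i)).trans (Over.w (Z ◁ resι T (V i))).symm))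
  · ext1
    exact 𝒰.ι_glueMorphisms _ hc i

theorem isZSheaf_eqvHom {A B X : Over S} [MonObj A] (ρ : MonAct A B) (a : MonAct A X) :
    IsZSheaf (MonAct.eqvHom ρ a) where
  sep T φ ψ h := by
    choose V hV hVe using h
    haveI : ∀ x, IsOpenImmersion (resι T (V x)).left := fun x => inferInstanceAs (IsOpenImmersion (V x).ι)
    refine Subtype.ext (tensor_hom_ext (fun x => resι T (V x)) (fun x => ⟨x, (range_ι (V x)).symm.subset (hV x)⟩)
      fun x => congrArg Subtype.val (hVe x))
  glue T κ V hV φ hφ := by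
    obtain ⟨b, hb⟩ := exists_tensor_glue V hV (fun i => (φ i).1) fun i j => congrArg Subtype.val (hφ i j)
    refine ⟨⟨b, ?_⟩, fun i => Subtype.ext (hb i)⟩
    haveI : ∀ i, IsOpenImmersion (resι T (V i)).left := fun i => inferInstanceAs (IsOpenImmersion (V i).ι)
    haveI : ∀ i, IsOpenImmersion (B ◁ resι T (V i)).left := fun i => whiskerLeft_left_of B _ inferInstance
    unfold MonAct.IsEquivariant
    refine tensor_hom_ext (fun i => B ◁ resι T (V i)) (exists_whisker_preimage _ B fun x => ?_) fun i => ?_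
    · obtain ⟨i, hi⟩ := hV x
      exact ⟨i, (range_ι (V i)).symm.subset hi⟩
    · rw [← MonAct.prod_trivial_act_whiskerLeft_assoc, hb, ← MonoidalCategory.whiskerLeft_comp_assoc, hb]
      exact (φ i).2

theorem exists_restrict_action {G X : Over S} [GrpObj G] (aX : AlgGrp.Action G X) (U : X.left.Opens)
    (hU : (snd G X).left ⁻¹ᵁ U ≤ aX.act.left ⁻¹ᵁ U) :
    ∃ aU : AlgGrp.Action G (res X U),
      MonAct.IsEquivariant (MonAct.ofAction aU) (MonAct.ofAction aX) (resι X U) := by
  haveI : Mono (resι X U) := (Over.forget _).mono_of_mono_map (inferInstanceAs (Mono U.ι))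
  have hr : Set.range ((G ◁ resι X U) ≫ aX.act).left ⊆ Set.range U.ι := by
    rw [range_ι]
    rintro _ ⟨p, rfl⟩
    refine hU (show (snd G X).left ((G ◁ resι X U).left p) ∈ U from ?_)
    rw [← Scheme.Hom.comp_apply, ← Over.comp_left, whiskerLeft_snd]
    exact (range_ι U).subset ⟨(snd G (res X U)).left p, rfl⟩
  let act : G ⊗ res X U ⟶ res X U := Over.homMk (IsOpenImmersion.lift U.ι _ hr) (by
    change IsOpenImmersion.lift _ _ _ ≫ U.ι ≫ X.hom = _
    rw [← Category.assoc, IsOpenImmersion.lift_fac]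
    exact Over.w _)
  have hact : act ≫ resι X U = (G ◁ resι X U) ≫ aX.act := Over.OverMorphism.ext (IsOpenImmersion.lift_fac _ _ _)
  refine ⟨actionMk act (fun T x => ?_) (fun T g h x => ?_), hact⟩
  · rw [← cancel_mono (resι X U), Category.assoc, hact, lift_whiskerLeft_assoc, act_one]
  · rw [← cancel_mono (resι X U)]
    simp only [Category.assoc, hact, lift_whiskerLeft_assoc, act_mul]

end

/-- Let k be a field, M an affine monoid k-scheme, G an affine group k-scheme and i : G → M a
homomorphism of monoids which is an open immersion with scheme-theoretically dense image; let o :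
Spec k → M be a zero of M (m·o = o = o·m), and assume that for every k-scheme T whose underlying
scheme is the spectrum of a field, every open subset of M ×_k T which is stable under G acting by
left multiplication through i on the first factor and contains the zero section is the whole of M
×_k T. Let X be a k-scheme with an action aX of G such that the G-stable affine open subsets U of X
cover the fixed points: for every k-scheme T and every G-fixed T-valued point x of X, the preimages
under x of the G-stable affine opens cover T (equivalently, the open subfunctors U^G cover X^G; this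
holds when X is locally linear, i.e. every point has a G-stable affine open neighbourhood). Then the
functor D_X on k-schemes, whose value at Y is the set of k-morphisms M ×_k Y → X that are
G-equivariant for G acting on M ×_k Y by left multiplication through i on the first factor, is
representable by a k-scheme. (In the source M is a Kempf monoid with G its group of units;
affineness of G, density and openness of G in M and the displayed property of G-stable opens over
field extensions are the consequences of that hypothesis which the argument uses.) -/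
theorem result (k : Type u) [Field k]
    (M G X : Over (Spec (CommRingCat.of k))) [MonObj M] [GrpObj G] [IsAffine M.left] [IsAffine G.left]
    (i : G ⟶ M) [IsMonHom i] [IsOpenImmersion i.left] [IsSchemeTheoreticallyDominant i.left]
    (o : 𝟙_ (Over (Spec (CommRingCat.of k))) ⟶ M)
    (ho : ∀ (T : Over (Spec (CommRingCat.of k))) (m : T ⟶ M), m * (toUnit T ≫ o) = toUnit T ≫ o ∧ (toUnit T ≫ o) * m = toUnit T ≫ o)
    (hM : ∀ (T : Over (Spec (CommRingCat.of k))) (K : Type u) [Field K] (eT : T.left ≅ Spec (CommRingCat.of K))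
      (W : (M ⊗ T).left.Opens),
      (CartesianMonoidalCategory.snd G (M ⊗ T)).left ⁻¹ᵁ W ≤
          ((((Magnet.MonAct.regular M).restrict i).prod (Magnet.MonAct.trivial G T)).act).left ⁻¹ᵁ W →
      (CartesianMonoidalCategory.lift (toUnit T ≫ o) (𝟙 T)).left ⁻¹ᵁ W = ⊤ → W = ⊤)
    (aX : AlgGrp.Action G X)
    (hcov : ∀ (T : Over (Spec (CommRingCat.of k))) (x : (Magnet.MonAct.fixedPsh (Magnet.MonAct.ofAction aX)).obj (op T)),
      ⨆ (U : X.left.Opens) (_ : IsAffineOpen U ∧ (CartesianMonoidalCategory.snd G X).left ⁻¹ᵁ U ≤ aX.act.left ⁻¹ᵁ U),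
        x.1.left ⁻¹ᵁ U = ⊤) :
    ∃ Z : Over (Spec (CommRingCat.of k)),
      Nonempty ((Magnet.MonAct.eqvHom ((Magnet.MonAct.regular M).restrict i) (Magnet.MonAct.ofAction aX)).RepresentableBy Z) := by
  let ρ := (Magnet.MonAct.regular M).restrict i
  let a := Magnet.MonAct.ofAction aX
  let κ := {U : X.left.Opens // IsAffineOpen U ∧ (CartesianMonoidalCategory.snd G X).left ⁻¹ᵁ U ≤ aX.act.left ⁻¹ᵁ U}
  let Uo : κ → Over (Spec (CommRingCat.of k)) := fun U => Groth.Agent.Lib.WeilRep.Glue.res X U.1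
  let j : ∀ U : κ, Uo U ⟶ X := fun U => Groth.Agent.Lib.WeilRep.Glue.resι X U.1
  choose aU hj using fun U : κ => exists_restrict_action aX U.1 U.2.2
  haveI : ∀ U : κ, IsAffine (Uo U).left := fun U => U.2.1
  haveI : ∀ U : κ, IsOpenImmersion (j U).left := fun U => inferInstanceAs (IsOpenImmersion U.1.ι)
  haveI : ∀ U : κ, Mono (j U) := fun U => (Over.forget _).mono_of_mono_map (inferInstanceAs (Mono U.1.ι))
  choose W jW e _ _ using fun U : κ => Groth.Agent.S18955.result k M G (Uo U) i (aU U)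
  let post := fun (U : κ) (T : Over (Spec (CommRingCat.of k))) =>
    (Magnet.MonAct.eqvHom.postcomp ρ (j U) (hj U)).app (op T)
  let ev := fun (T : Over (Spec (CommRingCat.of k))) (φ : (Magnet.MonAct.eqvHom ρ a).obj (op T)) =>
    (Magnet.MonAct.eqvHom.evalAt ρ a o).app (op T) φ
  let O : κ → ∀ T : Over (Spec (CommRingCat.of k)), (Magnet.MonAct.eqvHom ρ a).obj (op T) → T.left.Opens :=
    fun U T φ => (CartesianMonoidalCategory.lift (toUnit T ≫ o) (𝟙 T) ≫ φ.1).left ⁻¹ᵁ U.1
  have hev : ∀ (T' T : Over (Spec (CommRingCat.of k))) (g : T' ⟶ T) (φ : M ⊗ T ⟶ X),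
      CartesianMonoidalCategory.lift (toUnit T' ≫ o) (𝟙 T') ≫ (M ◁ g) ≫ φ =
        g ≫ CartesianMonoidalCategory.lift (toUnit T ≫ o) (𝟙 T) ≫ φ := fun T' T g φ => by
    rw [lift_whiskerLeft_assoc, comp_lift_assoc, Category.id_comp, Category.comp_id,
      ← Category.assoc g, toUnit_unique (g ≫ toUnit T) (toUnit T')]
  have hr : (Magnet.MonAct.eqvHom ρ a).IsRepresentable := by
    refine Groth.Agent.Lib.WeilRep.Charts.isRepresentable_of_charts (Magnet.MonAct.eqvHom ρ a)
      (isZSheaf_eqvHom ρ a) W (fun U => post U (W U) ((e U).homEquiv (𝟙 _))) O ?_ ?_ ?_ ?_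
    · intro U T T' g φ
      show (CartesianMonoidalCategory.lift (toUnit T' ≫ o) (𝟙 T') ≫ (M ◁ g) ≫ φ.1).left ⁻¹ᵁ U.1 = _
      rw [hev]
      rfl
    · intro U
      refine eq_top_iff.2 fun x _ => ?_
      show (CartesianMonoidalCategory.lift (toUnit (W U) ≫ o) (𝟙 _) ≫ ((e U).homEquiv (𝟙 _)).1 ≫ j U).left x ∈ U.1
      exact (Groth.Agent.Lib.WeilRep.Glue.range_ι U.1).subset
        ⟨(CartesianMonoidalCategory.lift (toUnit (W U) ≫ o) (𝟙 _) ≫ ((e U).homEquiv (𝟙 _)).1).left x, rfl⟩
    · intro U T φ hφ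
      let z₀ := CartesianMonoidalCategory.lift (toUnit T ≫ o) (𝟙 T) ≫ φ.1
      have hz : Set.range z₀.left ⊆ Set.range U.1.ι := by
        rw [Groth.Agent.Lib.WeilRep.Glue.range_ι]
        rintro _ ⟨x, rfl⟩
        exact hφ.ge (Set.mem_univ x)
      let z : T ⟶ Uo U := Over.homMk (IsOpenImmersion.lift U.1.ι z₀.left hz) (by
        show IsOpenImmersion.lift _ _ _ ≫ U.1.ι ≫ X.hom = T.hom
        rw [← Category.assoc, IsOpenImmersion.lift_fac, Over.w z₀])
      have hzj : z ≫ j U = z₀ := Over.OverMorphism.ext (IsOpenImmersion.lift_fac _ _ _)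
      have sq := (Groth.Agent.S18958.result k M G X (Uo U) i o ho hM aX (aU U) (j U) (hj U)).app (op T)
      obtain ⟨ψ, hψ, -⟩ := ((Limits.Types.isPullback_iff _ _ _ _).1 sq).2.2 φ z hzj.symm
      have hcomp : ∀ g : T ⟶ W U, (Magnet.MonAct.eqvHom ρ a).map g.op (post U (W U) ((e U).homEquiv (𝟙 _))) =
          post U T ((e U).homEquiv g) := fun g => Subtype.ext (by
        rw [(e U).homEquiv_eq g]
        exact (Category.assoc _ _ _).symm)
      refine ⟨(e U).homEquiv.symm ψ, ?_, fun g hg => ?_⟩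
      · show (Magnet.MonAct.eqvHom ρ a).map _ _ = φ
        rw [hcomp, Equiv.apply_symm_apply]
        exact hψ
      · rw [Equiv.eq_symm_apply]
        refine Subtype.ext ((cancel_mono (j U)).1 ?_)
        have := ((hcomp g).symm.trans hg).trans hψ.symm
        exact congrArg Subtype.val this
    · intro T φ x
      let y : (Magnet.MonAct.fixedPsh a).obj (op T) :=
        ⟨CartesianMonoidalCategory.lift (toUnit T ≫ o) (𝟙 T) ≫ φ.1, fun T' t g => by
          have h := (Magnet.MonAct.mem_eqvHom_iff _).1 φ.2 T' g (toUnit T' ≫ o) t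
          rw [Magnet.MonAct.lift_restrict_act, Magnet.MonAct.lift_regular_act, (ho T' (g ≫ i)).1] at h
          rw [← Category.assoc t, comp_lift, Category.comp_id, ← Category.assoc t,
            toUnit_unique (t ≫ toUnit T) (toUnit T')]
          exact h.symm⟩
      have hx : x ∈ ⨆ (U : X.left.Opens) (_ : IsAffineOpen U ∧
          (CartesianMonoidalCategory.snd G X).left ⁻¹ᵁ U ≤ aX.act.left ⁻¹ᵁ U), y.1.left ⁻¹ᵁ U :=
        (hcov T y).ge (Set.mem_univ x)
      simp only [TopologicalSpace.Opens.mem_iSup] at hx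
      obtain ⟨U, hU, hxU⟩ := hx
      exact ⟨⟨U, hU⟩, hxU⟩
  exact ⟨_, ⟨(Magnet.MonAct.eqvHom ρ a).representableBy⟩⟩

end Groth.Agent.S18964
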