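import Groth.Statements.S18967
import Groth.Agent.Lib.ShStab.MuBasics
import Groth.Agent.Lib.Curves.GlobalSections

set_option autoImplicit false
open CategoryTheory CategoryTheory.Limits AlgebraicGeometry Polynomial
universe u
open ShStab

namespace Groth.Agent.S18967

open Groth.Agent.Lib Groth.Agent.Lib.ShStab

/-- Let k be an algebraically closed field of characteristic zero, X a smooth projective integral
variety of dimension n ≥ 1 over k polarised by an ample invertible sheaf L, and 0 → F → H → G → 0 a
short exact sequence of O_X-modules with F and G torsion-free coherent (pure of dimension n) and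
slope-semistable with respect to L of the same slope μ. Then H is slope-semistable of slope μ; in
particular this applies to H = F ⊕ G. Slopes are compared through the quantity α_(n−1)/α_n of the
Hilbert polynomials with respect to L, an increasing affine function of the slope det ·
L^(n−1)/rank. -/
theorem result (k : Type u) [Field k] [IsAlgClosed k] [CharZero k]
    (X : Scheme.{u}) [X.Over (Spec (CommRingCat.of k))] [IsIntegral X]
    [IsProper (X ↘ Spec (CommRingCat.of k))] [Smooth (X ↘ Spec (CommRingCat.of k))]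
    (n : ℕ) (hn : 1 ≤ n) (hX : topologicalKrullDim X = (n : WithBot ℕ∞))
    (L : X.Modules) (hLi : PicF.IsInvertible L) (hL : CohB1.IsAmple L)
    (T : ShortComplex X.Modules) (hT : T.ShortExact)
    (hFt : ShStab.IsPure X T.X₁ n) (hGt : ShStab.IsPure X T.X₃ n)
    (hF : ShStab.IsMuSemistable k X L T.X₁ n) (hG : ShStab.IsMuSemistable k X L T.X₃ n)
    (pF pG : ℚ[X]) (hpF : ShStab.IsHilbPoly k X L T.X₁ pF) (hpG : ShStab.IsHilbPoly k X L T.X₃ pG)
    (hμ : StabCat.hatSlope n pF = StabCat.hatSlope n pG) :
    ShStab.IsMuSemistable k X L T.X₂ n ∧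
      ∀ pH : ℚ[X], ShStab.IsHilbPoly k X L T.X₂ pH → StabCat.hatSlope n pH = StabCat.hatSlope n pF := by
  haveI := Groth.Agent.Lib.Curves.GlobalSections.isNoetherian_of_proper k X
  have hF' := (EllHN.mu_iff (k := k) hL hn).1 ⟨hFt, hF⟩
  have hG' := (EllHN.mu_iff (k := k) hL hn).1 ⟨hGt, hG⟩
  have hf := Saturation.alpha_pos (k := k) hL hF.1 hF.2.1 hFt
  have hg := Saturation.alpha_pos (k := k) hL hG.1 hG.2.1 hGt
  rw [← SubLattice.hp_eq k L hpF, ← SubLattice.hp_eq k L hpG] at hμ
  obtain ⟨h2, hr⟩ := MuBasics.isEllSemistable_of_shortExact hL hT hF' hG'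
    ((EllInterval.redEq_one_iff hn hf hg).2 hμ)
  refine ⟨((EllHN.mu_iff (k := k) hL hn).2 h2).2, fun pH hpH => ?_⟩
  rw [← SubLattice.hp_eq k L hpF, ← SubLattice.hp_eq k L hpH]
  exact (EllInterval.redEq_one_iff hn (Saturation.alpha_pos hL h2.1 h2.2.1 h2.2.2.1) hf).1 hr

end Groth.Agent.S18967
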