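import Groth.Statements.S18973
import Groth.Agent.Lib.ShStab.MinQuot
import Groth.Agent.Lib.ShStab.Abelian
import Groth.Agent.Lib.ShStab.EllHN
import Groth.Agent.Lib.Curves.GlobalSections

set_option autoImplicit false
open CategoryTheory CategoryTheory.Limits AlgebraicGeometry Polynomial
universe u
open ShStab

namespace Groth.Agent.S18973

open Groth.Agent.Lib Groth.Agent.Lib.ShStab

/-- Let k be a field and X an integral scheme, smooth and proper over k, with a closed immersion ι into
projective N-space over k compatible with the structure maps, polarised by the ample O_X(1) =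
ι^*O(1); let 1 ≤ ℓ ≤ d. Let E be a nonzero coherent O_X-module, pure of dimension d, with an
ℓ-Harder–Narasimhan filtration 0 = E_0 ⊂ E_1 ⊂ ⋯ ⊂ E_m = E (factors ℓ-semistable of dimension d,
reduced ℓ-truncated Hilbert polynomials of consecutive factors strictly decreasing), and let F =
E/E_(m−1) be its last factor, the minimal ℓ-destabilising quotient of E. If E → G is another
quotient with G nonzero, coherent and pure of dimension d, such that the Hilbert polynomials of F
and G have the same multiplicity α_d and the same reduced ℓ-truncation p_ℓ, then G and F are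
isomorphic as quotients of E: there is an isomorphism F ≅ G carrying the quotient map of F to that
of G. Here a sheaf is ℓ-semistable of dimension d when it is coherent, nonzero, pure of dimension d,
and p_ℓ(F') ≤ p_ℓ for every coherent submodule F' of multiplicity strictly between 0 and its own,
p_ℓ denoting the reduced truncation of the Hilbert polynomial (with respect to O_X(1)) to the
degrees d − ℓ, …, d. -/
theorem result (k : Type u) [Field k]
    (X : Scheme.{u}) [X.Over (Spec (CommRingCat.of k))] [IsIntegral X]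
    [Smooth (X ↘ Spec (CommRingCat.of k))] [IsProper (X ↘ Spec (CommRingCat.of k))]
    (N : ℕ) (ι : X ⟶ CohB1.ProjSpace N k) [IsClosedImmersion ι]
    (hι : ι ≫ CohB1.ProjSpace.toSpec N k = X ↘ Spec (CommRingCat.of k))
    (hL : CohB1.IsAmple ((Scheme.Modules.pullback ι).obj (Twist.twistProjSpace N k 1)))
    (d ℓ : ℕ) (hℓ : 1 ≤ ℓ) (hℓd : ℓ ≤ d)
    (E : X.Modules) (hE : Coh.IsCoh E) (h0 : ¬ IsZero E) (hp : ShStab.IsPure X E d)
    (s : LTSeries (Subobject E))
    (hs : StabCat.IsHNWith (fun G => ShStab.IsEllSemistable k X ((Scheme.Modules.pullback ι).obj (Twist.twistProjSpace N k 1)) G d ℓ)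
      (fun G P => ∃ Q : Polynomial ℚ, ShStab.IsHilbPoly k X ((Scheme.Modules.pullback ι).obj (Twist.twistProjSpace N k 1)) G Q ∧ P = StabCat.topPart ℓ d Q) d E s)
    (G : X.Modules) (q : E ⟶ G) [Epi q] (hG : Coh.IsCoh G) (hG0 : ¬ IsZero G) (hGp : ShStab.IsPure X G d)
    (pF pG : ℚ[X]) (hpF : ShStab.IsHilbPoly k X ((Scheme.Modules.pullback ι).obj (Twist.twistProjSpace N k 1)) (cokernel s.eraseLast.last.arrow) pF)
    (hpG : ShStab.IsHilbPoly k X ((Scheme.Modules.pullback ι).obj (Twist.twistProjSpace N k 1)) G pG)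
    (hα : StabCat.alpha d pF = StabCat.alpha d pG)
    (hred : StabCat.RedEq d (StabCat.topPart ℓ d pF) (StabCat.topPart ℓ d pG)) :
    ∃ φ : (cokernel s.eraseLast.last.arrow) ≅ G, cokernel.π s.eraseLast.last.arrow ≫ φ.hom = q := by
  haveI := Groth.Agent.Lib.Curves.GlobalSections.isNoetherian_of_proper k X
  set L := (Scheme.Modules.pullback ι).obj (Twist.twistProjSpace N k 1)
  have hc := EllHN.coh_of_isHN (k := k) hE hs
  have hS := (EllHN.isHN_iff (hE := hE) hL hp s hs.1 hs.2.1 hc).1 hs
  let S := EllHN.psys k hL ℓ (hE := hE) hp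
  obtain ⟨m, hm⟩ : ∃ m, s.length = m + 1 := by
    refine ⟨s.length - 1, ?_⟩
    by_contra hlen
    have hl : s.length = 0 := by omega
    have e : (⊥ : Subobject E) = ⊤ := by
      rw [← hs.1, ← hs.2.1]
      show s _ = s _
      congr 1
      ext
      simp [hl]
    exact h0 (IsZero.of_mono_eq_zero (𝟙 E) (by
      haveI : IsIso (⊥ : Subobject E).arrow := Subobject.isIso_arrow_iff_eq_top _ |>.2 e
      rw [← cancel_epi (⊥ : Subobject E).arrow]
      simp [Subobject.bot_arrow]))
  rw [hm] at hS
  have hlastval : (HN.seqOf (hE := hE) s hc m).1 = s.eraseLast.last := by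
    show s _ = s _
    congr 1
    ext
    simp [hm]
  have hK := CohBasics.Closure.isCoh_kernel q hE hG.1
  let g : SubLattice.CSub hE := ⟨Subobject.mk (kernel.ι q), SubLattice.isCoh_iso (Subobject.underlyingIso _).symm hK⟩
  have hq' : ∀ C : SubLattice.CSub hE, S.q C ⊤ =
      StabCat.topPart ℓ d (SubLattice.hp k L E - SubLattice.hp k L (C.1 : X.Modules)) := fun C => by
    rw [EllInterval.q_eq]
    show StabCat.topPart ℓ d (SubLattice.hp k L ((⊤ : Subobject E) : X.Modules) - _) = _
    rw [Interval.hp_top hL hE]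
    rfl
  let eG : cokernel (kernel.ι q) ≅ G :=
    haveI : IsIso (Abelian.factorThruCoimage q) := inferInstance
    asIso (Abelian.factorThruCoimage q)
  have hgG : S.q g ⊤ = StabCat.topPart ℓ d (SubLattice.hp k L G) := by
    rw [hq']
    have e := SubLattice.hp_add k hL (S := ShortComplex.mk (kernel.ι q) q (kernel.condition q))
      { exact := ShortComplex.exact_kernel q } hK hE hG
    change SubLattice.hp k L E = SubLattice.hp k L (kernel q) + SubLattice.hp k L G at e
    show StabCat.topPart ℓ d (_ - SubLattice.hp k L ((Subobject.mk (kernel.ι q) : Subobject E) : X.Modules)) = _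
    rw [SubLattice.hp_iso k hL (Subobject.underlyingIso (kernel.ι q)).symm hK, e, add_sub_cancel_left]
  have hgF : S.q (HN.seqOf (hE := hE) s hc m) ⊤ = StabCat.topPart ℓ d
      (SubLattice.hp k L (cokernel s.eraseLast.last.arrow)) := by
    have hcl : Coh.IsCoh ((s.eraseLast.last : Subobject E) : X.Modules) :=
      hlastval ▸ (HN.seqOf (hE := hE) s hc m).2
    rw [hq', SubLattice.hp_cokernel k hL _ hcl hE, hlastval]
  rw [← SubLattice.hp_eq k L hpF, ← SubLattice.hp_eq k L hpG] at hred hα
  rw [← hgF, ← hgG] at hred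
  have hgpos : 0 < StabCat.alpha d (S.q g ⊤) := by
    rw [hgG, Basics.alpha_topPart]
    exact Saturation.alpha_pos (k := k) hL hG hG0 hGp
  have hlt : g < ⊤ := lt_of_le_of_ne le_top fun e => by
    rw [e, Sys0.q_self] at hgpos
    simp [StabCat.alpha] at hgpos
  have hpureg : S.Pure g ⊤ := by
    refine (EllInterval.pure_iff hL _ hlt.le).1 ?_
    refine AbelianSub.isPure_congr hL ?_ hGp
    exact ((cokernel.mapIso _ _ (Iso.refl _) (asIso (⊤ : Subobject E).arrow)
      (by simp : Subobject.ofLE g.1 (⊤ : Subobject E) le_top ≫ _ = _)) ≪≫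
      (cokernel.mapIso g.1.arrow (kernel.ι q) (Subobject.underlyingIso (kernel.ι q)) (Iso.refl E)
        (by simp [g])) ≪≫
      eG).symm
  have hS0 : HN.seqOf (hE := hE) s hc 0 ≤ g := by
    show (HN.seqOf (hE := hE) s hc 0).1 ≤ g.1
    rw [show (HN.seqOf (hE := hE) s hc 0).1 = ⊥ from hs.1]
    exact bot_le
  obtain ⟨-, hdom⟩ := S.last_dominates m _ hS g hS0 hlt hpureg
  rw [hS.1] at hdom
  have hle := hdom (PolyOrder.redEq_iff.1 hred).2
  have heq : HN.seqOf (hE := hE) s hc m = g := by
    rcases hle.lt_or_eq with h | h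
    · exfalso
      have h2 := (hS.2.1 m (by omega)).2.1 g h (hS.1 ▸ le_top)
      have h3 := congrArg (StabCat.alpha d) (S.q_add (HN.seqOf (hE := hE) s hc m) g ⊤)
      rw [PolyOrder.alpha_add, hgF, hgG, Basics.alpha_topPart, Basics.alpha_topPart, hα] at h3
      linarith
    · exact h
  have heq' : s.eraseLast.last = Subobject.mk (kernel.ι q) := hlastval.symm.trans (congrArg Subtype.val heq)
  let φ : cokernel s.eraseLast.last.arrow ≅ G :=
    cokernel.mapIso _ (kernel.ι q) (Subobject.isoOfEq _ _ heq' ≪≫ Subobject.underlyingIso (kernel.ι q))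
      (Iso.refl E) (by simp [Subobject.isoOfEq]) ≪≫
    eG
  refine ⟨φ, ?_⟩
  simp only [φ, eG, Iso.trans_hom, cokernel.mapIso_hom, Iso.refl_hom, cokernel.π_desc_assoc,
    Category.id_comp, asIso_hom]
  simp

end Groth.Agent.S18973
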