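import Groth.Statements.S18974
import Mathlib

set_option autoImplicit false
universe u
open CAlg

namespace Groth.Agent.S18974

variable {A : Type u} [CommRing A] [Algebra ℚ A] (D : Derivation ℚ A A) (I : Ideal A)

noncomputable def term (x : A) (n : ℕ) : Polynomial (A ⧸ I) :=
  ((n.factorial : ℚ)⁻¹ • Polynomial.C (Ideal.Quotient.mk I (((D : A →ₗ[ℚ] A) ^ n) x))) * Polynomial.X ^ n

lemma pow_zero_of_le (x : A) (N n : ℕ) (hN : ((D : A →ₗ[ℚ] A) ^ N) x = 0) (h : N ≤ n) :
    ((D : A →ₗ[ℚ] A) ^ n) x = 0 := by
  obtain ⟨k, rfl⟩ := Nat.exists_eq_add_of_le h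
  rw [add_comm, pow_add, Module.End.mul_apply, hN, map_zero]

lemma coeff_expand (x : A) (N : ℕ) (hN : ((D : A →ₗ[ℚ] A) ^ N) x = 0) (n : ℕ) :
    (∑ k ∈ Finset.range N, term D I x k).coeff n =
      ((n.factorial : ℚ)⁻¹) • Ideal.Quotient.mk I (((D : A →ₗ[ℚ] A) ^ n) x) := by
  simp only [term, Polynomial.finsetSum_coeff, Polynomial.smul_C, Polynomial.coeff_C_mul_X_pow]
  rw [Finset.sum_ite_eq]
  split_ifs with h
  · rfl
  · rw [pow_zero_of_le D x N n hN (by simpa using h), map_zero, smul_zero]

lemma natCast_succ_isUnit {B : Type*} [CommRing B] [Algebra ℚ B] (n : ℕ) : IsUnit ((n : B) + 1) := by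
  have h : IsUnit ((n : ℚ) + 1) := isUnit_iff_ne_zero.mpr (by positivity)
  simpa using h.map (algebraMap ℚ B)

lemma expand_D (x : A) (P Q : Polynomial (A ⧸ I))
    (hP : ∀ n, P.coeff n = ((n.factorial : ℚ)⁻¹) • Ideal.Quotient.mk I (((D : A →ₗ[ℚ] A) ^ n) x))
    (hQ : ∀ n, Q.coeff n = ((n.factorial : ℚ)⁻¹) • Ideal.Quotient.mk I (((D : A →ₗ[ℚ] A) ^ n) (D x))) :
    Q = Polynomial.derivative P := by
  ext n
  rw [Polynomial.coeff_derivative, hP, hQ, pow_succ, Module.End.mul_apply, smul_mul_assoc,
    show ((n : A ⧸ I) + 1) = algebraMap ℚ (A ⧸ I) ((n : ℚ) + 1) by simp,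
    mul_comm, ← Algebra.smul_def, smul_smul, Nat.factorial_succ]
  congr 1
  have : (n.factorial : ℚ) ≠ 0 := by exact_mod_cast n.factorial_ne_zero
  push_cast
  field_simp

lemma mul_law (N : A → ℕ) (hN : ∀ x, ((D : A →ₗ[ℚ] A) ^ N x) x = 0) :
    ∀ (k : ℕ) (x y : A) (K L : ℕ), K + L ≤ k → ((D : A →ₗ[ℚ] A) ^ K) x = 0 → ((D : A →ₗ[ℚ] A) ^ L) y = 0 →
      ∑ n ∈ Finset.range (N (x * y)), term D I (x * y) n =
        (∑ n ∈ Finset.range (N x), term D I x n) * ∑ n ∈ Finset.range (N y), term D I y n := by
  have h00 : ∀ k, ∀ y, (∑ n ∈ Finset.range k, term D I (0 * y) n) = 0 := fun k y =>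
    Finset.sum_eq_zero fun n _ => by simp [term]
  have h01 : ∀ k, (∑ n ∈ Finset.range k, term D I (0 : A) n) = 0 := fun k =>
    Finset.sum_eq_zero fun n _ => by simp [term]
  intro k
  induction k with
  | zero =>
    intro x y K L h hx hy
    obtain rfl : K = 0 := by omega
    obtain rfl : x = 0 := by simpa using hx
    rw [h00, h01, zero_mul]
  | succ k ih =>
    intro x y K L h hx hy
    cases K with
    | zero => obtain rfl : x = 0 := by simpa using hx
              rw [h00, h01, zero_mul]
    | succ K =>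
      cases L with
      | zero => obtain rfl : y = 0 := by simpa using hy
                rw [mul_zero, h01, mul_zero]
      | succ L =>
        have hd : ∀ z, Polynomial.derivative (∑ n ∈ Finset.range (N z), term D I z n) =
            ∑ n ∈ Finset.range (N (D z)), term D I (D z) n := fun z =>
          (expand_D D I z _ _ (coeff_expand D I z _ (hN z)) (coeff_expand D I _ _ (hN _))).symm
        have hadd : ∀ z w, (∑ n ∈ Finset.range (N (z + w)), term D I (z + w) n) =
            (∑ n ∈ Finset.range (N z), term D I z n) + ∑ n ∈ Finset.range (N w), term D I w n := fun z w => by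
          apply Polynomial.ext
          intro n
          rw [Polynomial.coeff_add, coeff_expand D I _ _ (hN _), coeff_expand D I _ _ (hN _), coeff_expand D I _ _ (hN _)]
          simp [map_add, smul_add]
        rw [← sub_eq_zero]
        apply Polynomial.ext
        intro n
        cases n with
        | zero =>
          rw [Polynomial.coeff_sub, Polynomial.mul_coeff_zero, coeff_expand D I _ _ (hN _),
            coeff_expand D I _ _ (hN _), coeff_expand D I _ _ (hN _)]
          simp
        | succ n =>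
          have h1 := ih x (D y) (K + 1) L (by omega) hx (by rw [pow_succ] at hy; exact hy)
          have h2 := ih y (D x) (L + 1) K (by omega) hy (by rw [pow_succ] at hx; exact hx)
          have h3 : Polynomial.derivative ((∑ n ∈ Finset.range (N (x * y)), term D I (x * y) n) -
              (∑ n ∈ Finset.range (N x), term D I x n) * ∑ n ∈ Finset.range (N y), term D I y n) = 0 := by
            rw [Polynomial.derivative_sub, Polynomial.derivative_mul, hd, hd, hd, Derivation.leibniz,
              smul_eq_mul, smul_eq_mul, hadd, h1, h2]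
            ring
          have h4 := congrArg (fun P : Polynomial (A ⧸ I) => P.coeff n) h3
          simp only [Polynomial.coeff_derivative, Polynomial.coeff_zero] at h4
          rw [Polynomial.coeff_zero]
          exact (natCast_succ_isUnit n).mul_left_eq_zero.mp h4

variable (a : A) (ha : D a = 1)
include ha

lemma pow_slice_mul (z : A) : ∀ k : ℕ, ((D : A →ₗ[ℚ] A) ^ (k + 1)) (a * z) =
    a * ((D : A →ₗ[ℚ] A) ^ (k + 1)) z + ((k : A) + 1) * ((D : A →ₗ[ℚ] A) ^ k) z := by
  intro k
  induction k with
  | zero => simp [Derivation.leibniz, ha]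
  | succ k ih =>
    rw [pow_succ' _ (k + 1), Module.End.mul_apply, ih, Module.End.mul_apply, pow_succ' _ k, Module.End.mul_apply]
    simp only [Derivation.coeFn_coe, map_add, Derivation.leibniz, ha, smul_eq_mul]
    simp
    ring

lemma slice_zero : ∀ (y : A) (M : ℕ), ((D : A →ₗ[ℚ] A) ^ M) y = 0 → y + a * D y = 0 → y = 0 := by
  intro y M
  induction M with
  | zero => intro h _; simpa using h
  | succ M ih =>
    intro hM hy
    apply ih ?_ hy
    cases M with
    | zero =>
      have : D y = 0 := by simpa using hM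
      rw [this, mul_zero, add_zero] at hy
      simpa using hy
    | succ m =>
      have h := congrArg ((D : A →ₗ[ℚ] A) ^ (m + 1)) hy
      rw [map_add, map_zero, pow_slice_mul D a ha] at h
      rw [show D y = (D : A →ₗ[ℚ] A) y from rfl, ← Module.End.mul_apply, ← pow_succ, hM, mul_zero, zero_add,
        ← Module.End.mul_apply, ← pow_succ] at h
      refine (natCast_succ_isUnit (m + 1)).mul_right_eq_zero.mp ?_
      push_cast
      linear_combination h

lemma telescope (x : A) : ∀ K : ℕ,
    D (∑ n ∈ Finset.range (K + 1), (((-1 : ℚ) ^ n * (n.factorial : ℚ)⁻¹) • ((((D : A →ₗ[ℚ] A) ^ n) x) * a ^ n))) =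
      ((-1 : ℚ) ^ K * (K.factorial : ℚ)⁻¹) • ((((D : A →ₗ[ℚ] A) ^ (K + 1)) x) * a ^ K) := by
  intro K
  induction K with
  | zero => simp
  | succ K ih =>
    rw [Finset.sum_range_succ, map_add, ih, Derivation.map_smul, Derivation.leibniz, Derivation.leibniz_pow, ha]
    rw [show D (((D : A →ₗ[ℚ] A) ^ (K + 1)) x) = ((D : A →ₗ[ℚ] A) ^ (K + 1 + 1)) x from by
      rw [pow_succ' _ (K + 1), Module.End.mul_apply]; rfl]
    simp only [smul_eq_mul, mul_one, Nat.add_sub_cancel, nsmul_eq_mul]
    rw [smul_add, add_left_comm, mul_comm (a ^ (K + 1))]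
    rw [← add_assoc, add_eq_right, show (((K + 1 : ℕ) : A) * a ^ K) = algebraMap ℚ A ((K + 1 : ℕ) : ℚ) * a ^ K by simp]
    simp only [Algebra.smul_def, Nat.factorial_succ]
    have hK : (K.factorial : ℚ) ≠ 0 := by exact_mod_cast K.factorial_ne_zero
    have he : algebraMap ℚ A ((-1) ^ (K + 1) * (((K + 1) * K.factorial : ℕ) : ℚ)⁻¹) * algebraMap ℚ A ((K + 1 : ℕ) : ℚ) =
        - algebraMap ℚ A ((-1) ^ K * (K.factorial : ℚ)⁻¹) := by
      rw [← map_mul, ← map_neg]
      congr 1
      push_cast
      field_simp
      ring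
    linear_combination (((D : A →ₗ[ℚ] A) ^ (K + 1)) x) * a ^ K * he

omit ha


/-- Let A be a commutative algebra over the rationals, D a locally nilpotent derivation of A and a an
element with D a = 1; write A' for the quotient of A by the ideal generated by a. Then there is a
ring isomorphism from A onto the polynomial ring A'[Y] which sends every x to the (finite) sum over
n of (1/n!) (class of D^n x) Y^n; its inverse sends Y to a and the constant polynomial on the class
of x to the sum over n of ((-1)^n/n!) (D^n x) a^n, and under it D corresponds to the derivative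
d/dY. (The source says only that A is a ring, in a setting over a field of characteristic zero; the
rational coefficients 1/n! require an algebra over the rationals, which is the hypothesis taken
here. Both sums are written over any range beyond which the iterates of D vanish at x.) -/
theorem result
    (A : Type u) [CommRing A] [Algebra ℚ A] (D : Derivation ℚ A A)
    (hnil : ∀ x : A, ∃ n : ℕ, ((D : A →ₗ[ℚ] A) ^ n) x = 0) (a : A) (ha : D a = 1) :
    ∃ χ : A ≃+* Polynomial (A ⧸ Ideal.span ({a} : Set A)),
      (∀ (x : A) (N : ℕ), ((D : A →ₗ[ℚ] A) ^ N) x = 0 →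
        χ x = ∑ n ∈ Finset.range N,
          ((n.factorial : ℚ)⁻¹ • Polynomial.C (Ideal.Quotient.mk (Ideal.span ({a} : Set A)) (((D : A →ₗ[ℚ] A) ^ n) x))) *
            Polynomial.X ^ n) ∧
      χ.symm Polynomial.X = a ∧
      (∀ (x : A) (N : ℕ), ((D : A →ₗ[ℚ] A) ^ N) x = 0 →
        χ.symm (Polynomial.C (Ideal.Quotient.mk (Ideal.span ({a} : Set A)) x)) =
          ∑ n ∈ Finset.range N, (((-1 : ℚ) ^ n * (n.factorial : ℚ)⁻¹) • ((((D : A →ₗ[ℚ] A) ^ n) x) * a ^ n))) ∧
      ∀ p : Polynomial (A ⧸ Ideal.span ({a} : Set A)), χ (D (χ.symm p)) = Polynomial.derivative p := by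
  set I := Ideal.span ({a} : Set A)
  choose N hN using hnil
  let φ : A →+* Polynomial (A ⧸ I) :=
    { toFun := fun x => ∑ n ∈ Finset.range (N x), term D I x n
      map_one' := by
        ext n
        rw [coeff_expand D I 1 (N 1) (hN 1)]
        cases n with
        | zero => simp
        | succ n => simp [pow_succ, Polynomial.coeff_one]
      map_zero' := by
        ext n
        rw [coeff_expand D I 0 (N 0) (hN 0)]
        simp
      map_add' := fun x y => by
        ext n
        rw [Polynomial.coeff_add, coeff_expand D I _ _ (hN _), coeff_expand D I _ _ (hN _), coeff_expand D I _ _ (hN _)]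
        simp [map_add, smul_add]
      map_mul' := fun x y => mul_law D I N hN (N x + N y) x y (N x) (N y) le_rfl (hN x) (hN y) }
  have hco : ∀ x n, (φ x).coeff n = ((n.factorial : ℚ)⁻¹) • Ideal.Quotient.mk I ((((D : A →ₗ[ℚ] A) ^ n) x)) :=
    fun x n => coeff_expand D I x (N x) (hN x) n
  have hφD : ∀ x, φ (D x) = Polynomial.derivative (φ x) := fun x => expand_D D I x (φ x) (φ (D x)) (hco x) (hco (D x))
  have hφa : φ a = Polynomial.X := by
    ext n
    rw [hco]
    rcases n with _ | _ | n
    · simp [I, Ideal.Quotient.eq_zero_iff_mem, Ideal.mem_span_singleton_self]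
    · simp [ha]
    · simp [pow_succ, ha, Polynomial.coeff_X]
  have hinj : Function.Injective φ := by
    rw [injective_iff_map_eq_zero]
    suffices ∀ M x, ((D : A →ₗ[ℚ] A) ^ M) x = 0 → φ x = 0 → x = 0 from fun x hx => this (N x) x (hN x) hx
    intro M
    induction M with
    | zero => intro x hx _; simpa using hx
    | succ M ih =>
      intro x hx h0
      have hDx : D x = 0 := ih _ (by rw [pow_succ] at hx; exact hx) (by rw [hφD, h0, map_zero])
      have hmem : x ∈ I := by
        have := hco x 0
        rw [h0] at this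
        exact Ideal.Quotient.eq_zero_iff_mem.mp (by simpa using this.symm)
      obtain ⟨y, rfl⟩ := Ideal.mem_span_singleton.mp hmem
      have hy : y + a * D y = 0 := by
        rw [Derivation.leibniz, ha, smul_eq_mul, smul_eq_mul, mul_one] at hDx
        linear_combination hDx
      have hy0 : y = 0 := slice_zero D a ha y (N y) (hN y) hy
      rw [hy0, mul_zero]
  have hpi : ∀ (x : A) (M : ℕ), ((D : A →ₗ[ℚ] A) ^ M) x = 0 →
      φ (∑ n ∈ Finset.range M, (((-1 : ℚ) ^ n * (n.factorial : ℚ)⁻¹) • ((((D : A →ₗ[ℚ] A) ^ n) x) * a ^ n))) =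
        Polynomial.C (Ideal.Quotient.mk I x) := by
    intro x M hM
    set z := ∑ n ∈ Finset.range M, (((-1 : ℚ) ^ n * (n.factorial : ℚ)⁻¹) • ((((D : A →ₗ[ℚ] A) ^ n) x) * a ^ n)) with hz
    have hDz : D z = 0 := by
      cases M with
      | zero => simp [hz]
      | succ K =>
        rw [hz, telescope D a ha x K, hM, zero_mul, smul_zero]
    have hz0 : Ideal.Quotient.mk I z = Ideal.Quotient.mk I x := by
      cases M with
      | zero => simp at hM; simp [hz, hM]
      | succ K =>
        have haI : Ideal.Quotient.mk I a = 0 := Ideal.Quotient.eq_zero_iff_mem.mpr (Ideal.mem_span_singleton_self a)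
        rw [hz, map_sum, Finset.sum_eq_single 0]
        · simp
        · intro n _ hn
          rw [← Ideal.Quotient.mkₐ_eq_mk ℚ, map_smul, Ideal.Quotient.mkₐ_eq_mk, map_mul, map_pow, haI,
            zero_pow hn, mul_zero, smul_zero]
        · simp
    ext n
    rw [hco, Polynomial.coeff_C]
    cases n with
    | zero => simp [hz0]
    | succ n => simp [pow_succ, hDz]
  have hsurj : Function.Surjective φ := by
    intro P
    induction P using Polynomial.induction_on' with
    | add P Q hP hQ =>
      obtain ⟨x, rfl⟩ := hP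
      obtain ⟨y, rfl⟩ := hQ
      exact ⟨x + y, map_add φ x y⟩
    | monomial n c =>
      obtain ⟨c, rfl⟩ := Ideal.Quotient.mk_surjective c
      refine ⟨(∑ k ∈ Finset.range (N c), (((-1 : ℚ) ^ k * (k.factorial : ℚ)⁻¹) • ((((D : A →ₗ[ℚ] A) ^ k) c) * a ^ k))) * a ^ n, ?_⟩
      rw [map_mul, map_pow, hφa, hpi c (N c) (hN c), Polynomial.C_mul_X_pow_eq_monomial]
  let χ := RingEquiv.ofBijective φ ⟨hinj, hsurj⟩
  refine ⟨χ, fun x M hM => ?_, ?_, fun x M hM => ?_, fun P => ?_⟩
  · apply Polynomial.ext
    intro n
    rw [show χ x = φ x from rfl, hco]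
    exact (coeff_expand D I x M hM n).symm
  · rw [RingEquiv.symm_apply_eq]; exact hφa.symm
  · rw [RingEquiv.symm_apply_eq]; exact (hpi x M hM).symm
  · rw [show χ (D (χ.symm P)) = φ (D (χ.symm P)) from rfl, hφD, show φ (χ.symm P) = χ (χ.symm P) from rfl,
      RingEquiv.apply_symm_apply]

end Groth.Agent.S18974
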