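import Groth.Statements.S18976
import Groth.Agent.H60.AssocBundle
-- import your own Groth.Agent.* helpers here

set_option autoImplicit false
universe u
open CategoryTheory MonoidalCategory CartesianMonoidalCategory MonObj AlgebraicGeometry
open GIT

namespace Groth.Agent.S18976

/-- The associated fibre bundle exists. Over an algebraically closed field k of characteristic zero, let
G be an affine group scheme of finite type over k acting on a k-scheme X, let φ : X → Y be a
G-torsor over Y (the square formed by the action, the second projection and φ twice is cartesian,
and φ acquires sections on the members of some fpqc covering family of Y), and let G act on an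
affine k-scheme F. Give X ×_k F the diagonal action. Then there are a k-scheme Q with a morphism to
Y and a morphism q : X ×_k F → Q compatible with the projection to Y such that q is a G-torsor over
Q in the same sense; moreover q is affine and a geometric quotient. (The source writes the torsor
with a right action and lets g act on X × F by (x g⁻¹, g f); with the left action g x := x g⁻¹ this
is the diagonal action used here. The last assertion of the source, on the case where F is a larger
affine group containing G, is not part of this row.) -/
theorem result
    (k : Type u) [Field k] [IsAlgClosed k] [CharZero k]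
    (G X Y F : Over (Spec (CommRingCat.of k))) [GrpObj G] [IsAffine G.left] [LocallyOfFiniteType G.hom]
    (a : AlgGrp.Action G X) (φ : X ⟶ Y)
    (hcart : IsPullback a.act (snd G X) φ φ)
    (hloc : NonAbH1.IsLocallyTrivialFor Scheme.fpqcPrecoverage (Over.mk φ.left : Over Y.left))
    [IsAffine F.left] (b : AlgGrp.Action G F) :
    ∃ (Q : Over (Spec (CommRingCat.of k))) (q : X ⊗ F ⟶ Q) (r : Q ⟶ Y),
      q ≫ r = fst X F ≫ φ ∧
      IsPullback (a.prod b).act (snd G (X ⊗ F)) q q ∧
      NonAbH1.IsLocallyTrivialFor Scheme.fpqcPrecoverage (Over.mk q.left : Over Q.left) ∧
      IsAffineHom q.left ∧ GIT.IsGeomQuot (a.prod b) q := by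
  have : IsAffineHom G.hom := isAffineHom_of_isAffine _
  have : IsAffineHom F.hom := isAffineHom_of_isAffine _
  have hflatG : Flat G.hom := inferInstance
  have : IsAffineHom φ.left := Groth.Agent.H60.TorsorGeom.isAffineHom a φ hcart hloc
  have : Flat φ.left := Groth.Agent.H60.AssocBundle.of_group a φ hcart @Flat hloc hflatG
  have : Surjective φ.left := ⟨(Groth.Agent.H60.TorsorGeom.isGeomQuot a φ hcart hloc).surj⟩
  obtain ⟨Q, q, r, h1, h2, h3⟩ := Groth.Agent.H60.AssocBundle.exists_bundle a φ hcart b
  exact ⟨Q, q, r, h1, h2, h3, Groth.Agent.H60.TorsorGeom.isAffineHom (a.prod b) q h2 h3,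
    Groth.Agent.H60.TorsorGeom.isGeomQuot (a.prod b) q h2 h3⟩

end Groth.Agent.S18976
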