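import Groth.Statements.S18978
import Groth.Agent.H60.StabTors
import Groth.Agent.H60.RedLR.Reductive
import Groth.Agent.Lib.GrpQ.FlatHom
import Groth.Agent.H1.Hopf
-- import your own Groth.Agent.* helpers here

set_option autoImplicit false
universe u
open CategoryTheory MonoidalCategory CartesianMonoidalCategory MonObj AlgebraicGeometry
open GIT

namespace Groth.Agent.S18978

/-- Over an algebraically closed field k of characteristic zero, let G be an affine group scheme of
finite type over k with a closed normal subgroup scheme N, the kernel of a surjective homomorphism q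
: G → H onto an affine group scheme H of finite type over k (the factor group G/N). Let G act on a
separated k-scheme X of finite type, let φ : X → Y be a torsor over Y under the restricted action of
N (cartesian action square, sections on the members of some fpqc covering family of Y), and let H
act on Y so that φ is equivariant along q. Then for every geometric point x of X (a point with
values in an algebraically closed field Ω) with image y in Y: the G-orbit of x is closed in X_Ω and
the stabiliser of x in G is finite if and only if the H-orbit of y is closed in Y_Ω and the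
stabiliser of y in H is finite. (The induced action of the factor group on Y is taken as a datum
together with the equivariance of φ; the points of the published statement are rendered as geometric
points.) -/
theorem result
    (k : Type u) [Field k] [IsAlgClosed k] [CharZero k]
    (G N H X Y : Over (Spec (CommRingCat.of k))) [GrpObj G] [GrpObj N] [GrpObj H]
    [IsAffine G.left] [LocallyOfFiniteType G.hom]
    (iN : N ⟶ G) [IsMonHom iN] [IsClosedImmersion iN.left] (hnorm : AlgGrp.IsNormalHom iN)
    (q : G ⟶ H) [IsMonHom q] [Surjective q.left] [IsAffine H.left] [LocallyOfFiniteType H.hom]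
    (hker : AlgGrp.IsKernel iN q)
    [LocallyOfFiniteType X.hom] [QuasiCompact X.hom] [IsSeparated X.hom]
    (a : AlgGrp.Action G X) (φ : X ⟶ Y)
    (hcart : IsPullback (a.restrict iN).act (snd N X) φ φ)
    (hloc : NonAbH1.IsLocallyTrivialFor Scheme.fpqcPrecoverage (Over.mk φ.left : Over Y.left))
    (aY : AlgGrp.Action H Y) (hequiv : (q ⊗ₘ φ) ≫ aY.act = a.act ≫ φ)
    (Ω : Type u) [Field Ω] [IsAlgClosed Ω] (P : Over (Spec (CommRingCat.of k)))
    (e : P.left ≅ Spec (CommRingCat.of Ω)) (x : P ⟶ X) :
    (IsClosed (Set.range (GIT.psi a x).left.base) ∧ IsFinite (GLinSh.stabTo a x)) ↔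
      (IsClosed (Set.range (GIT.psi aY (x ≫ φ)).left.base) ∧ IsFinite (GLinSh.stabTo aY (x ≫ φ))) := by
  obtain ⟨A, _, _, eA, _⟩ := Groth.Agent.H1.Hopf.exists_iso H
  haveI : IsIso eA.inv.left := ((Over.forget _).mapIso eA).isIso_inv
  haveI : IsIso eA.hom.left := ((Over.forget _).mapIso eA).isIso_hom
  haveI : Algebra.FiniteType k A := Groth.Agent.H1.Hopf.finiteType_of_locallyOfFiniteType
    (by rw [← Over.w eA.inv]; infer_instance)
  haveI : Smooth H.hom := by
    rw [← Over.w eA.hom]
    haveI : Smooth ((Spec (CommRingCat.of A)).asOver (Spec (CommRingCat.of k))).hom :=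
      Groth.Agent.H60.RedLR.smooth_of_charZero (k := k) (A := A)
    infer_instance
  haveI : IsAffineHom G.hom := isAffineHom_of_isAffine _
  haveI : IsAffineHom H.hom := isAffineHom_of_isAffine _
  haveI : Flat q.left := Groth.Agent.Lib.GrpQ.flat_of_surjective_of_smooth q
  haveI : QuasiCompact q.left := Groth.Agent.Lib.GrpQ.quasiCompact_left q
  have hql : NonAbH1.IsLocallyTrivialFor Scheme.fpqcPrecoverage (Over.mk q.left : Over H.left) :=
    ⟨_, q.left.singleton_mem_fpqcPrecoverage, by rintro _ _ ⟨⟩; exact ⟨𝟙 _, Category.id_comp _⟩⟩
  refine and_congr (Groth.Agent.H60.StabTors.isClosed_range_psi_iff iN q a φ aY x hequiv hcart hloc) ?_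
  obtain ⟨ρ, hρ, hρ'⟩ := Groth.Agent.H60.StabTors.exists_isIso_stab iN q a φ aY x hequiv hker hql hcart
  haveI := hρ
  rw [← hρ']
  exact MorphismProperty.cancel_left_of_respectsIso (P := @IsFinite) ρ _

end Groth.Agent.S18978
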