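import Groth.Statements.S18981
import Groth.Agent.H60.GitQuot.GoodOrbit
import Groth.Agent.H60.AffQuot.Action
-- import your own Groth.Agent.* helpers here

set_option autoImplicit false
universe u
open CategoryTheory MonoidalCategory CartesianMonoidalCategory MonObj AlgebraicGeometry Topology
open NRQuot

namespace Groth.Agent.S18981

/-- Over an algebraically closed field k of characteristic zero, let G be an affine group scheme of
finite type over k acting on a k-scheme X locally of finite type, and let φ : X → Y be a good
quotient (affine and invariant, functions on every open of Y are exactly the invariant functions on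
its preimage, invariant closed subsets have closed images, images commute with intersections of
families of invariant closed subsets). If the orbit of every k-point of X is closed in X, then φ is
a geometric quotient; this row states the one clause that a good quotient lacks: fibres are orbits,
read on k-points — two k-points of X with the same image in Y are translates of each other by a
k-point of G. (Surjectivity and submersiveness of a good quotient are the content of the companion
statement on good quotients; X locally of finite type is what the argument on closed points uses.) -/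
theorem result
    (k : Type u) [Field k] [IsAlgClosed k] [CharZero k]
    (G X Y : Over (Spec (CommRingCat.of k))) [GrpObj G] [IsAffine G.left] [LocallyOfFiniteType G.hom]
    [LocallyOfFiniteType X.hom]
    (a : AlgGrp.Action G X) (φ : X ⟶ Y) (h : NRQuot.IsGoodQuot a φ)
    (hcl : ∀ x : 𝟙_ (Over (Spec (CommRingCat.of k))) ⟶ X, IsClosed (Set.range (a.orbitMap x).left.base))
    (x₁ x₂ : 𝟙_ (Over (Spec (CommRingCat.of k))) ⟶ X) (hφ : x₁ ≫ φ = x₂ ≫ φ) :
    ∃ g : 𝟙_ (Over (Spec (CommRingCat.of k))) ⟶ G, lift g x₁ ≫ a.act = x₂ := by
  obtain ⟨x, -, -, hx⟩ := H60.GitQuot.Good.exists_closed_orbit h (x₁ ≫ φ)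
  obtain ⟨g₁, hg₁⟩ := hx x₁ rfl (hcl x₁)
  obtain ⟨g₂, hg₂⟩ := hx x₂ hφ.symm (hcl x₂)
  refine ⟨g₂ * g₁⁻¹, ?_⟩
  rw [← hg₁, H60.AffQuot.lift_mul_act a, ← H60.AffQuot.lift_mul_act a g₁⁻¹, inv_mul_cancel,
    H60.AffQuot.lift_one_act a, hg₂]

end Groth.Agent.S18981
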