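import Groth.Statements.S18982
import Groth.Agent.H60.GitQuot.Unip
import Groth.Agent.S18981
-- import your own Groth.Agent.* helpers here

set_option autoImplicit false
universe u
open CategoryTheory MonoidalCategory CartesianMonoidalCategory MonObj AlgebraicGeometry Topology
open NRQuot

namespace Groth.Agent.S18982

/-- Fix an algebraically closed field k with characteristic zero. Suppose G is a unipotent group,
meaning an affine, smooth, connected group scheme of finite type over k with no non-trivial
subtorus, and that G acts on a finite-type k-scheme X. Assume φ : X → Y is a good quotient (φ is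
affine and invariant; for each open subset of Y, its functions are precisely the invariant functions
on the preimage; images of invariant closed subsets are closed; and taking images commutes with
intersecting families of invariant closed subsets), where Y is a finite-type k-scheme. Then φ is in
fact a geometric quotient, i.e. its fibres are orbits, which on k-points says: whenever two k-points
of X map to the same point of Y, some k-point of G carries one onto the other. (Unipotence is
encoded as the absence of a non-trivial subtorus; for smooth connected groups over k the two notions
agree.) -/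
theorem result
    (k : Type u) [Field k] [IsAlgClosed k] [CharZero k]
    (G X Y : Over (Spec (CommRingCat.of k))) [GrpObj G] [IsAffine G.left] [LocallyOfFiniteType G.hom]
    [Smooth G.hom] [ConnectedSpace G.left] (hG : Red.HasNoSubtorus k G)
    [LocallyOfFiniteType X.hom] [QuasiCompact X.hom] [LocallyOfFiniteType Y.hom] [QuasiCompact Y.hom]
    (a : AlgGrp.Action G X) (φ : X ⟶ Y) (h : NRQuot.IsGoodQuot a φ)
    (x₁ x₂ : 𝟙_ (Over (Spec (CommRingCat.of k))) ⟶ X) (hφ : x₁ ≫ φ = x₂ ≫ φ) :
    ∃ g : 𝟙_ (Over (Spec (CommRingCat.of k))) ⟶ G, lift g x₁ ≫ a.act = x₂ := by
  haveI : QuasiCompact G.hom := by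
    haveI : IsAffineHom G.hom := inferInstance
    infer_instance
  obtain ⟨A, _, _, _, _, e, he⟩ := Groth.Agent.H1.Classical.MaxTorusApply.exists_GA G
  haveI := he
  exact Groth.Agent.S18981.result k G X Y a φ h
    (fun x => Groth.Agent.H60.GitQuot.Unip.isClosed_range_orbit (e := e)
      (Groth.Agent.H60.GitQuot.Unip.isUnipotent_of_hasNoSubtorus e hG) h x) x₁ x₂ hφ

end Groth.Agent.S18982
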