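import Groth.Statements.S18983
import Mathlib

set_option autoImplicit false
set_option backward.isDefEq.respectTransparency false
universe u v w
open CAlg

namespace Groth.Agent.S18983

open DirectSum

variable {k : Type u} [Field k] {Λ : Type v} [AddCommGroup Λ] [DecidableEq Λ]
  {V : Type w} [AddCommGroup V] [Module k V] [FiniteDimensional k V]

/-- Cyclic decomposition of an invariant graded subspace. -/
theorem exists_cyclic (𝒱 : Λ → Submodule k V) [DirectSum.Decomposition 𝒱]
    (A : Module.End k V) (hA : IsNilpotent A) (χ : Λ)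
    (hhom : ∀ (μ : Λ) (v : V), v ∈ 𝒱 μ → A v ∈ 𝒱 (μ + χ))
    (d : ℕ) : ∀ (W : Submodule k V), Module.finrank k W = d → (∀ w ∈ W, A w ∈ W) →
    (∀ w ∈ W, ∀ τ, (decompose 𝒱 w τ : V) ∈ W) →
    ∃ (ι : Type) (_ : Fintype ι) (x : ι → V) (n : ι → ℕ) (μ : ι → Λ),
      (∀ i, x i ∈ 𝒱 (μ i)) ∧ (∀ i, (A ^ (n i + 1)) (x i) = 0) ∧
      LinearIndependent k (fun p : Σ i, Fin (n i + 1) => (A ^ (p.2 : ℕ)) (x p.1)) ∧
      Submodule.span k (Set.range fun p : Σ i, Fin (n i + 1) => (A ^ (p.2 : ℕ)) (x p.1)) = W := by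
  classical
  induction d using Nat.strong_induction_on with
  | _ d ih =>
  intro W hd hWA hWg
  by_cases hW : W = ⊥
  · exact ⟨PEmpty, inferInstance, PEmpty.elim, PEmpty.elim, PEmpty.elim, fun i => i.elim, fun i => i.elim,
      linearIndependent_empty_type, by simp [hW]⟩
  have hWpow : ∀ (j : ℕ), ∀ w ∈ W, (A ^ j) w ∈ W := by
    intro j
    induction j with
    | zero => simp
    | succ j hj => intro w hw; rw [pow_succ', Module.End.mul_apply]; exact hWA _ (hj w hw)
  have hex : ∃ m, ∀ w ∈ W, (A ^ m) w = 0 := hA.imp fun m hm w _ => by simp [hm]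
  obtain ⟨N, hN⟩ : ∃ N, Nat.find hex = N + 1 := by
    refine ⟨Nat.find hex - 1, (Nat.succ_pred ?_).symm⟩
    intro h0
    refine hW ((Submodule.eq_bot_iff _).mpr fun w hw => ?_)
    simpa [h0] using Nat.find_spec hex w hw
  have htop : ∀ w ∈ W, (A ^ (N + 1)) w = 0 := hN ▸ Nat.find_spec hex
  obtain ⟨x, μ, hxμ, hxW, hxN⟩ : ∃ x μ, x ∈ 𝒱 μ ∧ x ∈ W ∧ (A ^ N) x ≠ 0 := by
    by_contra hcon
    push_neg at hcon
    refine Nat.find_min hex (show N < Nat.find hex by omega) fun w hw => ?_
    rw [← DirectSum.sum_support_decompose 𝒱 w, map_sum]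
    exact Finset.sum_eq_zero fun τ _ => hcon _ τ (decompose 𝒱 w τ).2 (hWg w hw τ)
  have hpow : ∀ (j : ℕ) (τ : Λ) (v : V), v ∈ 𝒱 τ → (A ^ j) v ∈ 𝒱 (τ + j • χ) := by
    intro j
    induction j with
    | zero => simp
    | succ j hj =>
      intro τ v hv
      rw [pow_succ', Module.End.mul_apply, succ_nsmul, ← add_assoc]
      exact hhom _ _ (hj τ v hv)
  set ν := μ + N • χ
  obtain ⟨ψ, hψ⟩ := Module.Projective.exists_dual_eq_one k hxN
  let φ : V →ₗ[k] k := ψ.comp ((𝒱 ν).subtype.comp
    ((DirectSum.component k Λ (fun τ => 𝒱 τ) ν).comp (decomposeLinearEquiv 𝒱).toLinearMap))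
  have hφ : ∀ v, φ v = ψ (decompose 𝒱 v ν : V) := fun v => rfl
  have hφN : φ ((A ^ N) x) = 1 := by
    rw [hφ, decompose_of_mem_same 𝒱 (hpow N μ x hxμ), hψ]
  have hcomp : ∀ (j : ℕ) (v : V) (τ : Λ),
      (decompose 𝒱 ((A ^ j) v) (τ + j • χ) : V) = (A ^ j) (decompose 𝒱 v τ : V) := by
    intro j v τ
    induction v using DirectSum.Decomposition.inductionOn 𝒱 with
    | zero => simp
    | @homogeneous σ v =>
      by_cases h : σ = τ
      · subst h
        rw [decompose_of_mem_same 𝒱 v.2, decompose_of_mem_same 𝒱 (hpow j σ _ v.2)]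
      · rw [decompose_of_mem_ne 𝒱 v.2 h, decompose_of_mem_ne 𝒱 (hpow j σ _ v.2) (by simpa using h),
          map_zero]
    | add u w hu hw => simp only [map_add, decompose_add, DirectSum.add_apply, Submodule.coe_add, hu, hw]
  let Ω : V →ₗ[k] (Fin (N + 1) → k) := LinearMap.pi fun j => φ.comp (A ^ (j : ℕ))
  let g : (Fin (N + 1) → k) →ₗ[k] V := Fintype.linearCombination k fun l : Fin (N + 1) => (A ^ (l : ℕ)) x
  have hgW : ∀ c, g c ∈ W := fun c => by
    simp only [g, Fintype.linearCombination_apply]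
    exact sum_mem fun l _ => W.smul_mem _ (hWpow _ x hxW)
  have hinj : Function.Injective (Ω.comp g) := by
    rw [← LinearMap.ker_eq_bot, Submodule.eq_bot_iff]
    intro c hc
    by_contra hne
    obtain ⟨i, hi, hmin⟩ : ∃ i, c i ≠ 0 ∧ ∀ l < i, c l = 0 := by
      have : (Finset.univ.filter fun i => c i ≠ 0).Nonempty := by
        obtain ⟨i, hi⟩ := Function.ne_iff.mp hne
        exact ⟨i, by simpa using hi⟩
      refine ⟨_, (Finset.mem_filter.mp (Finset.min'_mem _ this)).2, fun l hl => ?_⟩
      by_contra h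
      exact absurd (Finset.min'_le _ l (by simpa using h)) (not_le.mpr hl)
    have h1 : φ ((A ^ (N - (i : ℕ))) (g c)) = 0 := congrFun hc ⟨N - i, by omega⟩
    simp only [g, Fintype.linearCombination_apply, map_sum, map_smul] at h1
    rw [Finset.sum_eq_single i] at h1
    · rw [← Module.End.mul_apply, ← pow_add, Nat.sub_add_cancel (Nat.lt_succ_iff.mp i.2), hφN] at h1
      exact hi (by simpa using h1)
    · intro l _ hl
      rcases lt_or_gt_of_ne hl with h | h
      · simp [hmin l h]
      · have h' : (i : ℕ) < l := h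
        rw [← Module.End.mul_apply, ← pow_add,
          show N - (i : ℕ) + l = (l - i - 1 : ℕ) + (N + 1) by omega, pow_add, Module.End.mul_apply,
          htop x hxW, map_zero, map_zero, smul_zero]
    · intro h; exact absurd (Finset.mem_univ i) h
  have hbij := LinearMap.injective_iff_surjective.mp hinj
  let W' : Submodule k V := W ⊓ LinearMap.ker Ω
  have hW'lt : Module.finrank k W' < d := by
    rw [← hd]
    refine Submodule.finrank_lt_finrank_of_lt (lt_of_le_of_ne inf_le_left fun h => ?_)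
    have h' : Ω x = 0 := (Submodule.mem_inf.mp (h.ge hxW)).2
    have := congrFun h' ⟨N, by omega⟩
    change φ ((A ^ N) x) = 0 at this
    rw [hφN] at this
    exact one_ne_zero this
  obtain ⟨ι, hι, x', n', μ', hxμ', hxn', hli, hsp⟩ := ih _ hW'lt W' rfl
    (fun w hw => by
      refine ⟨hWA w hw.1, ?_⟩
      funext j
      show φ ((A ^ (j : ℕ)) (A w)) = 0
      rw [← Module.End.mul_apply, ← pow_succ]
      by_cases hj : (j : ℕ) < N
      · exact congrFun hw.2 ⟨j + 1, by omega⟩
      · rw [show (j : ℕ) = N by omega, htop w hw.1, map_zero])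
    (fun w hw τ => by
      refine ⟨hWg w hw.1 τ, ?_⟩
      funext j
      show φ ((A ^ (j : ℕ)) (decompose 𝒱 w τ : V)) = 0
      by_cases h : τ + (j : ℕ) • χ = ν
      · rw [hφ, ← h, decompose_of_mem_same 𝒱 (hpow j τ _ (decompose 𝒱 w τ).2), ← hcomp, h, ← hφ]
        exact congrFun hw.2 j
      · rw [hφ, decompose_of_mem_ne 𝒱 (hpow j τ _ (decompose 𝒱 w τ).2) h, map_zero])
  refine ⟨Option ι, inferInstance, fun o => o.elim x x', fun o => o.elim N n', fun o => o.elim μ μ',
    fun o => by cases o with | none => exact hxμ | some i => exact hxμ' i,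
    fun o => by cases o with | none => exact htop x hxW | some i => exact hxn' i, ?_, ?_⟩
  · rw [Fintype.linearIndependent_iff]
    intro c hc
    rw [Fintype.sum_sigma, Fintype.sum_option] at hc
    have hy : (∑ i, ∑ l : Fin (n' i + 1), c ⟨some i, l⟩ • (A ^ (l : ℕ)) (x' i)) ∈ W' := by
      rw [← hsp]
      exact sum_mem fun i _ => sum_mem fun l _ => Submodule.smul_mem _ _
        (Submodule.subset_span ⟨⟨i, l⟩, rfl⟩)
    have hc' : g (fun l => c ⟨none, l⟩) +
        ∑ i, ∑ l : Fin (n' i + 1), c ⟨some i, l⟩ • (A ^ (l : ℕ)) (x' i) = 0 := by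
      rw [Fintype.linearCombination_apply]; exact hc
    have h0 : (fun l => c ⟨none, l⟩) = (0 : Fin (N + 1) → k) := hinj (by
      have h := congrArg Ω hc'
      rw [map_add, map_zero, LinearMap.mem_ker.mp hy.2, add_zero] at h
      rw [map_zero]; exact h)
    replace hc' : ∑ i, ∑ l : Fin (n' i + 1), c ⟨some i, l⟩ • (A ^ (l : ℕ)) (x' i) = 0 := by
      have hg : g (fun l => c ⟨none, l⟩) = 0 := by
        rw [show g (fun l => c ⟨none, l⟩) = g 0 from congrArg g h0, map_zero]
      rw [hg, zero_add] at hc'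
      exact hc'
    have h1 := Fintype.linearIndependent_iff.mp hli (fun p => c ⟨some p.1, p.2⟩)
      (by rw [Fintype.sum_sigma]; exact hc')
    rintro ⟨o, l⟩
    cases o with
    | none => exact congrFun h0 l
    | some i => exact h1 ⟨i, l⟩
  · refine le_antisymm (Submodule.span_le.mpr ?_) fun w hw => ?_
    · rintro _ ⟨⟨o, l⟩, rfl⟩
      cases o with
      | none => exact hWpow _ x hxW
      | some i =>
        have : (A ^ (l : ℕ)) (x' i) ∈ W' := hsp ▸ Submodule.subset_span ⟨⟨i, l⟩, rfl⟩
        exact this.1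
    · obtain ⟨c, hc⟩ := hbij (Ω w)
      have hr : w - g c ∈ W' := ⟨sub_mem hw (hgW c), by
        rw [SetLike.mem_coe, LinearMap.mem_ker, map_sub, sub_eq_zero]; exact hc.symm⟩
      rw [← sub_add_cancel w (g c)]
      refine add_mem ?_ ?_
      · rw [← hsp] at hr
        refine Submodule.span_mono ?_ hr
        rintro _ ⟨⟨i, l⟩, rfl⟩
        exact ⟨⟨some i, l⟩, rfl⟩
      · rw [Fintype.linearCombination_apply]
        exact sum_mem fun l _ => Submodule.smul_mem _ _ (Submodule.subset_span ⟨⟨none, l⟩, rfl⟩)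

/-- Let k be a field, Λ an additive commutative group, V a finite-dimensional k-vector space which is
the internal direct sum of subspaces V_μ indexed by Λ (a representation of a torus with character
group Λ), and A a nilpotent endomorphism of V mapping each V_μ into V_{μ+χ} for a fixed χ (the
infinitesimal generator of an action of the additive group on which the torus acts through the
character χ). Then V has a basis consisting of homogeneous vectors e_{i,l}, 0 ≤ l ≤ n_i, with A
e_{i,0} = 0 and A e_{i,l+1} = e_{i,l}: a weight basis bringing A into Jordan normal form. (The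
source states this, over an algebraically closed field of characteristic zero, as a decomposition of
every representation of the semidirect product of the additive group with a torus into twists of
symmetric powers of the standard two-dimensional representation by characters; the first line of its
proof reduces that to the present statement, which is what is proved, and which holds over any
field.) -/
theorem result
    (k : Type u) [Field k] (Λ : Type v) [AddCommGroup Λ] [DecidableEq Λ]
    (V : Type w) [AddCommGroup V] [Module k V] [FiniteDimensional k V]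
    (𝒱 : Λ → Submodule k V) (h𝒱 : DirectSum.IsInternal 𝒱)
    (A : Module.End k V) (hA : IsNilpotent A) (χ : Λ)
    (hhom : ∀ (μ : Λ) (v : V), v ∈ 𝒱 μ → A v ∈ 𝒱 (μ + χ)) :
    ∃ (ι : Type w) (_ : Finite ι) (n : ι → ℕ) (b : Module.Basis (Σ i : ι, Fin (n i + 1)) k V),
      (∀ (i : ι) (l : Fin (n i + 1)), ∃ μ : Λ, b ⟨i, l⟩ ∈ 𝒱 μ) ∧
      (∀ i : ι, A (b ⟨i, 0⟩) = 0) ∧
      ∀ (i : ι) (l : Fin (n i)), A (b ⟨i, l.succ⟩) = b ⟨i, l.castSucc⟩ := by
  classical
  letI := h𝒱.chooseDecomposition
  obtain ⟨ι, hι, x, n, μ, hxμ, hxn, hli, hsp⟩ := exists_cyclic 𝒱 A hA χ hhom _ ⊤ rfl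
    (fun _ _ => trivial) (fun _ _ _ => trivial)
  let e : (Σ i : ι, Fin (n i + 1)) ≃ (Σ i : ULift.{w} ι, Fin (n i.down + 1)) :=
    { toFun := fun p => ⟨⟨p.1⟩, p.2.rev⟩
      invFun := fun p => ⟨p.1.down, p.2.rev⟩
      left_inv := fun p => by simp
      right_inv := fun p => by rcases p with ⟨⟨i⟩, l⟩; simp }
  let b := (Module.Basis.mk hli hsp.ge).reindex e
  have hb : ∀ (i : ULift.{w} ι) (l : Fin (n i.down + 1)),
      b ⟨i, l⟩ = (A ^ (l.rev : ℕ)) (x i.down) := fun i l => by
    simp [b, e]
  refine ⟨ULift.{w} ι, inferInstance, fun i => n i.down, b, fun i l => ⟨μ i.down + (l.rev : ℕ) • χ, ?_⟩,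
    fun i => ?_, fun i l => ?_⟩
  · rw [hb]
    induction (l.rev : ℕ) with
    | zero => simpa using hxμ i.down
    | succ j hj => rw [pow_succ', Module.End.mul_apply, succ_nsmul, ← add_assoc]; exact hhom _ _ hj
  · rw [hb, ← Module.End.mul_apply, ← pow_succ', Fin.val_rev]
    simpa using hxn i.down
  · rw [hb, hb, ← Module.End.mul_apply, ← pow_succ', Fin.val_rev, Fin.val_rev]
    simp only [Fin.val_succ, Fin.val_castSucc]
    congr 2
    omega

end Groth.Agent.S18983
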