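import Groth.Statements.S18985
import Groth.Agent.H60.TorsQuot.Isotrivial

set_option autoImplicit false
universe u
open CategoryTheory MonoidalCategory CartesianMonoidalCategory MonObj AlgebraicGeometry
open GIT

namespace Groth.Agent.S18985

/-- Over an algebraically closed field k of characteristic zero, let G be an affine group scheme of
finite type over k acting on a k-scheme X, and let φ : X → Y be a G-torsor over Y: the square formed
by the action, the second projection and φ twice is cartesian, and φ acquires sections on the
members of some fpqc covering family of Y. Then φ is locally isotrivial: every point of Y has an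
open neighbourhood U and a finite étale surjective morphism U' → U such that φ acquires a section
over U' → Y. (The source's definition of an isotrivialising morphism asks only finite étale;
surjectivity is added, since an empty U' would make the condition vacuous. The second assertion of
the source, a criterion for a group to be special, is not part of this row.) -/
theorem result
    (k : Type u) [Field k] [IsAlgClosed k] [CharZero k]
    (G X Y : Over (Spec (CommRingCat.of k))) [GrpObj G] [IsAffine G.left] [LocallyOfFiniteType G.hom]
    (a : AlgGrp.Action G X) (φ : X ⟶ Y)
    (hcart : IsPullback a.act (snd G X) φ φ)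
    (hloc : NonAbH1.IsLocallyTrivialFor Scheme.fpqcPrecoverage (Over.mk φ.left : Over Y.left)) :
    ∀ y : ↥Y.left, ∃ (U : Y.left.Opens) (_ : y ∈ U) (U' : Scheme.{u}) (f : U' ⟶ ↑U)
      (_ : IsFinite f) (_ : Etale f) (_ : Surjective f),
      NonAbH1.HasSectionOver (Over.mk φ.left : Over Y.left) (f ≫ U.ι) := by
  intro y
  obtain ⟨U, hy, U', f, hf, hfe, hfs, s, hs⟩ := H60.TorsQuot.exists_isotrivial a φ hcart hloc y
  exact ⟨U, hy, U', f, hf, hfe, hfs, s, hs⟩

end Groth.Agent.S18985
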