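import Groth.Statements.S18986
import Groth.Agent.H60.GLSpecial.Solvable
import Groth.Agent.H1.Hopf

set_option autoImplicit false
universe u
open CategoryTheory MonoidalCategory CartesianMonoidalCategory MonObj AlgebraicGeometry
open GIT

namespace Groth.Agent.S18986

/-- Over an algebraically closed field k of characteristic zero, let G be a connected solvable affine
algebraic group (an affine smooth connected group scheme of finite type over k whose groups of
points are solvable of bounded derived length) acting on a k-scheme X, and let φ : X → Y be a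
G-torsor over Y: the square formed by the action, the second projection and φ twice is cartesian,
and φ acquires sections on the members of some fpqc covering family of Y. Then φ is locally trivial:
it acquires sections on the members of some Zariski open covering of Y. -/
theorem result
    (k : Type u) [Field k] [IsAlgClosed k] [CharZero k]
    (G X Y : Over (Spec (CommRingCat.of k))) [GrpObj G] [IsAffine G.left] [LocallyOfFiniteType G.hom]
    [Smooth G.hom] [ConnectedSpace G.left] (hsolv : Red.IsSolvableGrp G)
    (a : AlgGrp.Action G X) (φ : X ⟶ Y)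
    (hcart : IsPullback a.act (snd G X) φ φ)
    (hloc : NonAbH1.IsLocallyTrivialFor Scheme.fpqcPrecoverage (Over.mk φ.left : Over Y.left)) :
    NonAbH1.IsLocallyTrivialFor Scheme.zariskiPrecoverage (Over.mk φ.left : Over Y.left) := by
  obtain ⟨A, _, _, e, he⟩ := Groth.Agent.H1.Hopf.exists_iso G
  haveI := he
  haveI : IsIso e.inv.left := ((Over.forget _).mapIso e).isIso_inv
  haveI : IsIso e.hom.left := ((Over.forget _).mapIso e).isIso_hom
  haveI : Algebra.FiniteType k A := Groth.Agent.H1.Hopf.finiteType_of_locallyOfFiniteType
    (by rw [← Over.w e.inv]; infer_instance)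
  haveI : _root_.IsReduced A := Groth.Agent.Lib.Comod.Cartier.isReduced (k := k) (H := A)
  have hconn : ∀ x : A, IsIdempotentElem x → x = 0 ∨ x = 1 := fun x hx => by
    haveI : ConnectedSpace ↥((Spec (CommRingCat.of A)).asOver (Spec (CommRingCat.of k))).left :=
      (TopCat.homeoOfIso (Scheme.forgetToTop.mapIso (asIso e.hom.left))).surjective.connectedSpace
        (TopCat.homeoOfIso (Scheme.forgetToTop.mapIso (asIso e.hom.left))).continuous
    haveI : ConnectedSpace (PrimeSpectrum A) := ‹ConnectedSpace ↥((Spec (CommRingCat.of A)).asOver _).left›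
    have hc : IsClopen ((PrimeSpectrum.basicOpen x : TopologicalSpace.Opens (PrimeSpectrum A)) : Set (PrimeSpectrum A)) :=
      PrimeSpectrum.isClopen_iff.2 ⟨x, hx, rfl⟩
    rcases _root_.isClopen_iff.1 hc with h | h
    · exact Or.inl (PrimeSpectrum.basicOpen_injOn_isIdempotentElem hx IsIdempotentElem.zero
        (by rw [PrimeSpectrum.basicOpen_zero]; exact TopologicalSpace.Opens.coe_eq_empty.1 h))
    · exact Or.inr (PrimeSpectrum.basicOpen_injOn_isIdempotentElem hx IsIdempotentElem.one
        (by rw [PrimeSpectrum.basicOpen_one]; exact TopologicalSpace.Opens.coe_eq_univ.1 h))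
  haveI : IsDomain A := Groth.Agent.H60.GLSpecial.noZeroDivisors_of_connected (k := k) A hconn
  haveI : Group.IsSolvable (WithConv (A →ₐ[k] k)) := by
    obtain ⟨d, hd⟩ := hsolv
    let P : Over (Spec (CommRingCat.of k)) := (Spec (CommRingCat.of k)).asOver (Spec (CommRingCat.of k))
    haveI : Group.IsSolvable (P ⟶ G) := ⟨⟨d, hd P⟩⟩
    let f : WithConv (A →ₐ[k] k) →* (P ⟶ G) := MonoidHom.mk' (fun x => Spec.mapMulEquiv x ≫ e.inv) fun x y => by
      rw [map_mul, MonObj.mul_comp]
    exact Group.isSolvable_of_isSolvable_injective (f := f) fun x y h => by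
      have h' : Spec.mapMulEquiv x ≫ e.inv = Spec.mapMulEquiv y ≫ e.inv := h
      exact Spec.mapMulEquiv.injective ((cancel_mono e.inv).1 h')
  have hsp := Groth.Agent.H60.GLSpecial.special_of_trigonalizable A (Groth.Agent.S3266.result k A hconn)
  haveI : IsMonHom e.inv := inferInstance
  refine hsp X Y (a.restrict e.inv) φ ?_ hloc
  have hw : (a.restrict e.inv).act = (e.inv ▷ X) ≫ a.act := rfl
  rw [hw]
  exact IsPullback.of_iso hcart (whiskerRightIso e X) (Iso.refl _) (Iso.refl _) (Iso.refl _)
    (by simp) (by simp) (by simp) (by simp)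

end Groth.Agent.S18986
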