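import Groth.Statements.S18988
import Groth.Agent.H66.Cot.InfDetect

open Groth.Agent.Lib.Comod.Basic

set_option autoImplicit false
universe u
open TensorProduct
open HopfRep

namespace Groth.Agent.S18988

/-- In Hopf-algebra form, over an algebraically closed field k of characteristic zero, let A be a
finitely generated commutative Hopf algebra which is unipotent in the fixed-vector sense (the
coordinate ring of a unipotent group U), coacting multiplicatively on a finitely generated
commutative k-algebra R. Then a k-subspace V of R is a subcomodule (is invariant under U) if and
only if it is stable under the infinitesimal action of every ε-derivation ξ : A → k: for every v in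
V, applying ξ to the A-factor of the coaction of v gives an element of the image of V ⊗ k in R ⊗ k. -/
theorem result
    (k : Type u) [Field k] [IsAlgClosed k] [CharZero k]
    (A : Type u) [CommRing A] [HopfAlgebra k A] [Algebra.FiniteType k A] (hU : HopfRep.IsUnipotent k A)
    (R : Type u) [CommRing R] [Algebra k R] [Algebra.FiniteType k R]
    [HopfRep.Comod k A R] [GLin.IsCoactAlg k A R] (V : Submodule k R) :
    HopfRep.IsSubcomod (k := k) (A := A) V ↔
      ∀ (ξ : LieHopf.Lie k A) (v : R), v ∈ V →
        LinearMap.lTensor R (ξ.toLinearMap.restrictScalars k) (HopfRep.Comod.coact (k := k) (A := A) v) ∈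
          LinearMap.range (LinearMap.rTensor (LieHopf.K k A) V.subtype) := by
  constructor
  · intro hV ξ v hv
    refine (mem_range_rTensor_iff (A := LieHopf.K k A) V _).2 fun φ => ?_
    rw [contract_lTensor, ← dact_apply]
    exact dact_mem hV _ hv
  · intro h
    refine H66.Cot.isSubcomod_of_tangent hU V fun τ hτ v hv => ?_
    obtain ⟨z, hz⟩ := h (H66.Cot.toLie hτ) v hv
    have key : ∀ z : V ⊗[k] k, TensorProduct.rid k R (LinearMap.rTensor k V.subtype z) ∈ V := by
      intro z
      induction z using TensorProduct.induction_on with
      | zero => simp
      | add y z hy hz => simp only [map_add]; exact add_mem hy hz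
      | tmul w c => simpa using V.smul_mem c w.2
    rw [H66.Cot.dact_toLie hτ, ← hz]
    exact key z

end Groth.Agent.S18988
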