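import Groth.Statements.S18994
import Mathlib.RingTheory.MvPolynomial.Homogeneous


set_option autoImplicit false
universe u
open TernForm

namespace Groth.Agent.S18994

/-- Let R be a commutative ring, j ∈ {0, 1, 2}, q a homogeneous polynomial of degree 2 in R[X_0, X_1,
X_2] whose coefficient of X_j^2 is a unit, and n a natural number. Then the family consisting of the
monomials of degree n not divisible by X_j^2 (exponent of X_j at most 1) together with the products
q · m, m running over the monomials of degree n − 2 (indexed by exponents m with |m| + 2 = n), is
linearly independent over R and spans exactly the homogeneous polynomials of degree n; in particular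
it is a basis of that module and the two parts are disjoint. (The published lemma is stated over a
field with the coefficient nonzero, the special case of a field R here; the version over a ring with
the coefficient invertible is what its change-of-basis argument gives — ordering monomials by
decreasing exponent of X_j makes the matrix triangular with diagonal entries 1 and that coefficient
— and is the form used to trivialise the bundle of degree-n forms modulo multiples of q over the
locus where the coefficient is invertible. The published lemma also allows an arbitrary monomial of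
degree 2 in place of X_j^2; for the mixed monomial X_1X_2, the form q = X_1^2 + X_1X_2 + X_2^2 and n
= 3 give the linear relation q·X_1 − q·X_2 = X_1^3 − X_2^3 among members of the family, so the claim
fails there and is stated here for the square of a variable.) -/
theorem result
    (R : Type u) [CommRing R] (j : Fin 3) (q : MvPolynomial (Fin 3) R)
    (hq : q.IsHomogeneous 2) (hqj : IsUnit (q.coeff (Finsupp.single j 2))) (n : ℕ) :
    LinearIndependent R (Sum.elim (fun m : {m : Fin 3 →₀ ℕ // m.degree = n ∧ m j < 2} => MvPolynomial.monomial m.1 (1 : R)) (fun m : {m : Fin 3 →₀ ℕ // m.degree + 2 = n} => q * MvPolynomial.monomial m.1 (1 : R))) ∧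
      Submodule.span R (Set.range (Sum.elim (fun m : {m : Fin 3 →₀ ℕ // m.degree = n ∧ m j < 2} => MvPolynomial.monomial m.1 (1 : R)) (fun m : {m : Fin 3 →₀ ℕ // m.degree + 2 = n} => q * MvPolynomial.monomial m.1 (1 : R)))) = MvPolynomial.homogeneousSubmodule (Fin 3) R n := by
  classical
  set u := MvPolynomial.coeff (Finsupp.single j 2) q
  set F := Sum.elim (fun m : {m : Fin 3 →₀ ℕ // m.degree = n ∧ m j < 2} => MvPolynomial.monomial m.1 (1 : R))
    (fun m : {m : Fin 3 →₀ ℕ // m.degree + 2 = n} => q * MvPolynomial.monomial m.1 (1 : R))
  -- the exponents of q other than that of X_j²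
  have hqdeg : ∀ e : Fin 3 →₀ ℕ, MvPolynomial.coeff e q ≠ 0 → e.degree = 2 := fun e he => by
    have := hq he
    rwa [Finsupp.degree_eq_weight_one]
  have hqlt : ∀ e : Fin 3 →₀ ℕ, MvPolynomial.coeff e q ≠ 0 → e ≠ Finsupp.single j 2 → e j < 2 := fun e he hne => by
    by_contra hlt
    apply hne
    have h2 := hqdeg e he
    rw [Finsupp.degree_eq_sum] at h2
    have h3 : e j + ∑ i ∈ Finset.univ.erase j, e i = 2 := by rw [Finset.add_sum_erase _ _ (Finset.mem_univ j)]; exact h2
    ext i
    rcases eq_or_ne i j with rfl | hij
    · simp; omega
    · have : e i ≤ ∑ i ∈ Finset.univ.erase j, e i :=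
        Finset.single_le_sum (fun _ _ => Nat.zero_le _) (Finset.mem_erase.mpr ⟨hij, Finset.mem_univ i⟩)
      rw [Finsupp.single_eq_of_ne (by exact hij)]; omega
  have hmul : ∀ (m : Fin 3 →₀ ℕ), q * MvPolynomial.monomial m (1 : R) =
      ∑ e ∈ q.support, MvPolynomial.monomial (e + m) (MvPolynomial.coeff e q) := fun m => by
    conv_lhs => rw [q.as_sum, Finset.sum_mul]
    simp [MvPolynomial.monomial_mul]
  constructor
  · rw [linearIndependent_iff']
    intro s g hg i hi
    -- coefficient extraction
    by_contra hne
    have hcoeff : ∀ e : Fin 3 →₀ ℕ, ∑ x ∈ s, g x * MvPolynomial.coeff e (F x) = 0 := fun e => by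
      have := congrArg (MvPolynomial.coeff e) hg
      simpa [MvPolynomial.coeff_sum] using this
    have hinr : ∀ (N : ℕ) (b : {m : Fin 3 →₀ ℕ // m.degree + 2 = n}), Sum.inr b ∈ s → n ≤ b.1 j + N → g (Sum.inr b) = 0 := by
      intro N
      induction N using Nat.strong_induction_on with
      | _ N ih =>
        intro b hb hbN
        have h := hcoeff (Finsupp.single j 2 + b.1)
        rw [Finset.sum_eq_single (Sum.inr b)] at h
        · simp only [F, Sum.elim_inr] at h
          rw [MvPolynomial.coeff_mul_monomial', if_pos le_add_self, add_tsub_cancel_right, mul_one] at h
          exact hqj.mul_left_eq_zero.mp h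
        · rintro (a | b') hx' hxne
          · simp only [F, Sum.elim_inl, MvPolynomial.coeff_monomial]
            rw [if_neg, mul_zero]
            intro he
            have := congrArg (fun f => f j) he
            simp at this
            have := a.2.2
            omega
          · simp only [F, Sum.elim_inr, MvPolynomial.coeff_mul_monomial', mul_one]
            split_ifs with hle
            · by_contra hne0
              have hq0 := right_ne_zero_of_mul hne0
              have he : (Finsupp.single j 2 + b.1 - b'.1) ≠ Finsupp.single j 2 := fun he => hxne (by
                have h9 := tsub_add_cancel_of_le hle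
                rw [he] at h9
                exact congrArg Sum.inr (Subtype.ext (add_left_cancel h9)))
              have h2 := hqlt _ hq0 he
              have h4 : b'.1 j ≤ 2 + b.1 j := by simpa using hle j
              simp at h2
              have hb'd : b'.1 j + 2 ≤ n := (add_le_add (Finsupp.le_degree j b'.1) le_rfl).trans b'.2.le
              refine left_ne_zero_of_mul hne0 (ih (n - b'.1 j) (by omega) b' hx' (by omega))
            · rw [mul_zero]
        · exact fun h' => absurd hb h'
    rcases i with a | b
    · have h := hcoeff a.1
      rw [Finset.sum_eq_single (Sum.inl a)] at h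
      · simp [F] at h; exact hne h
      · rintro (a' | b') hx' hxne
        · simp only [F, Sum.elim_inl, MvPolynomial.coeff_monomial]
          rw [if_neg, mul_zero]
          exact fun he => hxne (congrArg Sum.inl (Subtype.ext he))
        · rw [hinr n b' hx' (by omega), zero_mul]
      · exact fun h' => absurd hi h'
    · exact hne (hinr n b hi (by omega))
  · apply le_antisymm
    · rw [Submodule.span_le]
      rintro _ ⟨x, rfl⟩
      rcases x with a | b
      · exact (MvPolynomial.mem_homogeneousSubmodule _ _).mpr (MvPolynomial.isHomogeneous_monomial _ a.2.1)
      · refine (MvPolynomial.mem_homogeneousSubmodule _ _).mpr ?_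
        have := hq.mul (MvPolynomial.isHomogeneous_monomial (1 : R) (rfl : b.1.degree = _))
        rwa [show 2 + b.1.degree = n by have := b.2; omega] at this
    · have hmono : ∀ (N : ℕ) (m : Fin 3 →₀ ℕ) (c : R), m.degree = n → m j ≤ N →
          MvPolynomial.monomial m c ∈ Submodule.span R (Set.range F) := by
        intro N
        induction N using Nat.strong_induction_on with
        | _ N ih =>
          intro m c hm hmN
          rw [show MvPolynomial.monomial m c = c • MvPolynomial.monomial m (1 : R) by rw [MvPolynomial.smul_monomial, smul_eq_mul, mul_one]]
          refine Submodule.smul_mem _ c ?_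
          rcases subsingleton_or_nontrivial R with hs | hnt
          · rw [Subsingleton.elim (MvPolynomial.monomial m (1 : R)) 0]; exact zero_mem _
          by_cases hlt : m j < 2
          · exact Submodule.subset_span ⟨Sum.inl ⟨m, hm, hlt⟩, rfl⟩
          obtain ⟨v, hv⟩ := hqj
          set m' := m - Finsupp.single j 2
          have hle : Finsupp.single j 2 ≤ m := Finsupp.single_le_iff.mpr (by omega)
          have hadd : Finsupp.single j 2 + m' = m := add_tsub_cancel_of_le hle
          have hm' : m'.degree + 2 = n := by
            have := congrArg Finsupp.degree hadd
            rw [map_add, Finsupp.degree_single] at this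
            omega
          have hsupp : Finsupp.single j 2 ∈ q.support := MvPolynomial.mem_support_iff.mpr fun h0 =>
            v.ne_zero (hv.trans h0)
          have hsum := hmul m'
          rw [← Finset.add_sum_erase _ _ hsupp, hadd] at hsum
          have h1 : MvPolynomial.monomial m (1 : R) = (↑v⁻¹ : R) • (q * MvPolynomial.monomial m' 1 -
              ∑ e ∈ q.support.erase (Finsupp.single j 2), MvPolynomial.monomial (e + m') (MvPolynomial.coeff e q)) := by
            rw [hsum, add_sub_cancel_right, MvPolynomial.smul_monomial, smul_eq_mul, show MvPolynomial.coeff (Finsupp.single j 2) q = (v : R) from hv.symm, Units.inv_mul]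
          rw [h1]
          refine Submodule.smul_mem _ _ (sub_mem (Submodule.subset_span ⟨Sum.inr ⟨m', hm'⟩, rfl⟩) (sum_mem fun e he => ?_))
          obtain ⟨hne, hes⟩ := Finset.mem_erase.mp he
          have h2 := hqlt e (MvPolynomial.mem_support_iff.mp hes) hne
          have h5 : m j = 2 + m' j := by rw [← hadd]; simp
          refine ih (m j - 1) (by omega) _ _ (by rw [map_add, hqdeg e (MvPolynomial.mem_support_iff.mp hes)]; omega) ?_
          simp only [Finsupp.add_apply]; omega
      intro p hp
      rw [p.as_sum]
      refine sum_mem fun m hm => hmono (m j) m _ ?_ le_rfl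
      have := (MvPolynomial.mem_homogeneousSubmodule _ _).mp hp (MvPolynomial.mem_support_iff.mp hm)
      rwa [Finsupp.degree_eq_weight_one]


end Groth.Agent.S18994
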