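import Groth.Statements.S18995
import Groth.Agent.Lib.Cyc.PB.Univ
import Groth.Agent.Lib.Cyc.CH.Split
import Groth.Agent.H34.UFDExt.Gen

set_option autoImplicit false
universe u
open CategoryTheory AlgebraicGeometry
open ProjBd

namespace Groth.Agent.S18995

open ZarCoh.FlatBC.PullbackSections
open Groth.Agent.Lib Groth.Agent.Lib.Cyc Groth.Agent.Lib.Cyc.PB Groth.Agent.Lib.Cyc.PB.Univ
open TensorMod TensorMod.Dual TensorMod.Gen TensorMod.Basis Modules.StalkModule CategoryTheory.Limits Opposite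
set_option maxHeartbeats 800000

/-- The composite of the universal property on pulled back sections, over any open. -/
theorem classify_at {X P T : Scheme.{u}} {π : P ⟶ X} {E : X.Modules} {O1 : P.Modules}
    (q : (Scheme.Modules.pullback π).obj E ⟶ O1) {U : X.Opens} {h : T ⟶ P} {g : T ⟶ X} (hg : h ≫ π = g)
    {W : T.Opens} (hW : W ≤ g ⁻¹ᵁ U) (hW' : W ≤ h ⁻¹ᵁ (π ⁻¹ᵁ U))
    {L : T.Modules} (i : (Scheme.Modules.pullback h).obj O1 ⟶ L) (m : Γ(E, U)) :
    ((Scheme.Modules.pullbackCongr hg).inv.app E ≫ (Scheme.Modules.pullbackComp h π).inv.app E ≫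
      (Scheme.Modules.pullback h).map q ≫ i).app W (pbRes g E hW m) =
      i.app W (pbRes h O1 hW' (q.app (π ⁻¹ᵁ U) (pbRes π E le_rfl m))) := by
  have h1 := DescAlg.PbSec.R_pbRes h hg E (le_refl (π ⁻¹ᵁ U)) hW' m
  rw [DescAlg.PbSec.R_eq] at h1
  show ((DescAlg.PbSec.tr h hg E).inv ≫ (Scheme.Modules.pullback h).map q ≫ i).app W _ = _
  rw [← h1, Scheme.Modules.Hom.comp_app, Scheme.Modules.Hom.comp_app, ConcreteCategory.comp_apply,
    ConcreteCategory.comp_apply]
  have e1 : (DescAlg.PbSec.tr h hg E).hom.app W ≫ (DescAlg.PbSec.tr h hg E).inv.app W = 𝟙 _ := by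
    rw [← Scheme.Modules.Hom.comp_app, Iso.hom_inv_id]
    rfl
  have e2 := ConcreteCategory.congr_hom e1 (pbRes h ((Scheme.Modules.pullback π).obj E)
    hW' (pbRes π E le_rfl m))
  rw [ConcreteCategory.comp_apply] at e2
  exact congrArg (i.app W) ((congrArg (((Scheme.Modules.pullback h).map q).app W) e2).trans
    (DescAlg.PbSec.pbRes_natural h q _ _))

/-- Off the sub-bundle the restricted quotient is onto. -/
theorem exists_mem_locus_sub {X P PB : Scheme.{u}} {S : ShortComplex X.Modules} (hS : S.ShortExact)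
    {π : P ⟶ X} {O1 : P.Modules} {q : (Scheme.Modules.pullback π).obj S.X₂ ⟶ O1}
    (hP : KRR.IsProjBundle π S.X₂ O1 q)
    {πB : PB ⟶ X} {O1B : PB.Modules} {qB : (Scheme.Modules.pullback πB).obj S.X₃ ⟶ O1B}
    (hPB : KRR.IsProjBundle πB S.X₃ O1B qB)
    (c : PB ⟶ P) (hc : c ≫ π = πB) (ec : (Scheme.Modules.pullback c).obj O1 ≅ O1B)
    (hcq : (Scheme.Modules.pullbackCongr hc).inv.app S.X₂ ≫ (Scheme.Modules.pullbackComp c π).inv.app S.X₂ ≫
      (Scheme.Modules.pullback c).map q ≫ ec.hom = (Scheme.Modules.pullback πB).map S.g ≫ qB)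
    {U : X.Opens} {m n : ℕ} (a : Fin m → Γ(S.X₁, U)) (ha : IsBasis a)
    (e : Fin n → Γ(S.X₂, U)) (he : IsBasis e) (w : P) (hwU : π w ∈ U) (hw : w ∉ Set.range c.base) :
    ∃ k, w ∈ locus q (fun k => S.f.app U (a k)) k := by
  by_contra! hne
  set j := P.fromSpecResidueField w
  have hjw : ∀ z, j z = w := fun z => Scheme.fromSpecResidueField_apply _ _
  have hU : (⊤ : (Spec (P.residueField w)).Opens) ≤ (j ≫ π) ⁻¹ᵁ U := fun z _ => by
    show π (j z) ∈ U
    rw [hjw]
    exact hwU
  obtain ⟨V, f, hwV, hf⟩ := isInvertible_iff.1 (invertible hP) w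
  have hV : (⊤ : (Spec (P.residueField w)).Opens) ≤ j ⁻¹ᵁ V := fun z _ => by
    show j z ∈ V
    rw [hjw]
    exact hwV
  have hgen := Sect.isGen_pbRes j hf hV
  have hzero : ∀ k, pbRes j O1 (le_preimage_of_comp rfl hU) (sec q (fun k => S.f.app U (a k)) k) = 0 := by
    intro k
    obtain ⟨r, hr⟩ := (hgen ⊤ le_rfl).2 (pbRes j O1 (le_preimage_of_comp rfl hU) (sec q (fun k => S.f.app U (a k)) k))
    simp only [rs_self] at hr
    by_contra hk
    have hr0 : r ≠ 0 := fun h0 => hk (by rw [← hr, h0, zero_smul])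
    have hu : IsUnit r := by
      let ρ : Γ(Spec (P.residueField w), ⊤) ≃+* P.residueField w :=
        (Scheme.ΓSpecIso (P.residueField w)).commRingCatIsoToRingEquiv
      exact (isUnit_map_iff ρ r).1 (IsUnit.mk0 _ ((map_ne_zero_iff _ ρ.injective).2 hr0))
    have := mem_locus _ hP j (le_preimage_of_comp rfl hU) (hr ▸ GenLocal.isGen_smul hgen hu)
      (genericPoint _) trivial
    rw [hjw] at this
    exact hne k this
  let g := j ≫ π
  let s : (Scheme.Modules.pullback g).obj S.X₂ ⟶ (Scheme.Modules.pullback j).obj O1 :=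
    (Scheme.Modules.pullbackCongr (rfl : j ≫ π = g)).inv.app S.X₂ ≫
    (Scheme.Modules.pullbackComp j π).inv.app S.X₂ ≫ (Scheme.Modules.pullback j).map q ≫ 𝟙 _
  haveI := hP.epi
  haveI : PreservesColimitsOfSize.{0, 0} (Scheme.Modules.pullback j) :=
    (Scheme.Modules.pullbackPushforwardAdjunction j).leftAdjoint_preservesColimits
  haveI : PreservesColimitsOfSize.{0, 0} (Scheme.Modules.pullback g) :=
    (Scheme.Modules.pullbackPushforwardAdjunction g).leftAdjoint_preservesColimits
  haveI : Epi s := by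
    haveI : Epi ((Scheme.Modules.pullback j).map q) := inferInstance
    infer_instance
  have hs0 : (Scheme.Modules.pullback g).map S.f ≫ s = 0 := Sect.hom_ext_basis g hU ha fun k => by
    rw [Scheme.Modules.Hom.comp_app, ConcreteCategory.comp_apply, DescAlg.PbSec.pbRes_natural]
    refine (classify_at q rfl hU (le_preimage_of_comp rfl hU) (𝟙 _) _).trans ?_
    have := hzero k
    rw [sec] at this
    rw [this, map_zero]
    rfl
  have hcok := CokernelCofork.mapIsColimit _ hS.gIsCokernel (Scheme.Modules.pullback g)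
  obtain ⟨s', hs'⟩ : ∃ s' : (Scheme.Modules.pullback g).obj S.X₃ ⟶ (Scheme.Modules.pullback j).obj O1,
      (Scheme.Modules.pullback g).map S.g ≫ s' = s :=
    ⟨(CokernelCofork.IsColimit.desc' hcok s hs0).1, (CokernelCofork.IsColimit.desc' hcok s hs0).2⟩
  have hepi : Epi s' := by
    haveI : Epi ((Scheme.Modules.pullback g).map S.g ≫ s') := by rw [hs']; infer_instance
    exact epi_of_epi ((Scheme.Modules.pullback g).map S.g) s'
  have hL : FlatMod.IsFinLocFreeOfRank 1 ((Scheme.Modules.pullback j).obj O1) :=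
    TensorMod.LocFree.of_isInvertible (PicLoc.isInvertible_pullback j (invertible hP))
  obtain ⟨h', ⟨hg', i', hi'⟩, -⟩ := hPB.univ _ g _ hL s' hepi
  obtain ⟨h₀, -, huniq⟩ := hP.univ _ g _ hL s inferInstance
  have hcomp : (h' ≫ c) ≫ π = g := by rw [Category.assoc, hc, hg']
  let i : (Scheme.Modules.pullback (h' ≫ c)).obj O1 ≅ (Scheme.Modules.pullback j).obj O1 :=
    ((Scheme.Modules.pullbackComp h' c).app O1).symm ≪≫ (Scheme.Modules.pullback h').mapIso ec ≪≫ i'
  have h1 : h' ≫ c = h₀ := huniq _ ⟨hcomp, i, Sect.hom_ext_basis g hU he fun k => by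
    rw [classify_at q hcomp hU (le_preimage_of_comp hcomp hU)]
    conv_rhs => rw [← hs', ← hi', Scheme.Modules.Hom.comp_app, ConcreteCategory.comp_apply,
      DescAlg.PbSec.pbRes_natural]
    refine Eq.trans ?_ (classify_at qB hg' hU (le_preimage_of_comp hg' hU) i'.hom _).symm
    have eB : (⊤ : (Spec (P.residueField w)).Opens) ≤ h' ⁻¹ᵁ (πB ⁻¹ᵁ U) := le_preimage_of_comp hg' hU
    have eC : πB ⁻¹ᵁ U ≤ c ⁻¹ᵁ (π ⁻¹ᵁ U) := by rw [← hc]; exact le_rfl
    have key : ec.hom.app _ (pbRes c O1 eC (q.app (π ⁻¹ᵁ U) (pbRes π S.X₂ le_rfl (e k)))) =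
        qB.app _ (pbRes πB S.X₃ le_rfl (S.g.app U (e k))) := by
      have := classify_at q hc (le_refl (πB ⁻¹ᵁ U)) eC ec.hom (e k)
      rw [hcq, Scheme.Modules.Hom.comp_app, ConcreteCategory.comp_apply,
        DescAlg.PbSec.pbRes_natural] at this
      exact this.symm
    have hR := DescAlg.PbSec.R_pbRes h' (rfl : h' ≫ c = h' ≫ c) O1 eC eB
      (q.app (π ⁻¹ᵁ U) (pbRes π S.X₂ le_rfl (e k)))
    rw [DescAlg.PbSec.R_eq] at hR
    rw [← key, ← DescAlg.PbSec.pbRes_natural h' ec.hom]
    show ((DescAlg.PbSec.tr h' (rfl : h' ≫ c = h' ≫ c) O1).inv ≫ (Scheme.Modules.pullback h').map ec.hom ≫ i'.hom).app ⊤ _ = _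
    rw [← hR, Scheme.Modules.Hom.comp_app, Scheme.Modules.Hom.comp_app, ConcreteCategory.comp_apply,
      ConcreteCategory.comp_apply]
    refine congrArg (fun z => i'.hom.app ⊤ (((Scheme.Modules.pullback h').map ec.hom).app ⊤ z)) ?_
    exact ConcreteCategory.congr_hom
      (congrArg (fun φ => Scheme.Modules.Hom.app φ ⊤) (DescAlg.PbSec.tr h' (rfl : h' ≫ c = h' ≫ c) O1).hom_inv_id) _⟩
  have h2 : j = h₀ := huniq _ ⟨rfl, Iso.refl _, rfl⟩
  refine hw ⟨h' (genericPoint _), ?_⟩
  have : (h' ≫ c) (genericPoint _) = w := by rw [h1, ← h2, hjw]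
  exact this

/-- Let X be a scheme and 0 → A → E → B → 0 a short exact sequence of finite locally free O_X-modules.
Let (π : P → X, O(1), q) be the projective bundle of rank-one quotients of E and (π_B : P_B → X,
O_B(1), q_B) that of B, each given through its universal property, and let c : P_B → P be the
morphism over X together with an isomorphism c^*O(1) ≅ O_B(1) identifying c^*q with π_B^*E → π_B^*B
→ O_B(1); thus c is the closed sub-bundle P(B) ⊂ P(E). Then for every open subset W of P that does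
not meet the image of c, the restriction to W of the composite π^*A → π^*E → O(1) is an epimorphism
of O_W-modules. Consequently W carries an invertible quotient of the pull-back of A and hence a
morphism to P(A) over X, the projection away from the sub-bundle. (In the convention where a
projective bundle parametrises lines rather than rank-one quotients, this is the statement that for
an exact sequence 0 → F → E → G → 0 of locally free sheaves the tautological line sub-bundle of E
restricted to the complement of P(F) in P(E) maps isomorphically onto a line sub-bundle of the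
pull-back of G, giving the canonical morphism from that complement to P(G); A, E, B here are the
duals of G, E, F there. The published statement takes X of finite type over a field; the row is
stated for an arbitrary scheme X, which the argument allows.) -/
theorem result
    (X P PB : Scheme.{u}) (S : ShortComplex X.Modules) (hS : S.ShortExact)
    (hA : FlatMod.IsFinLocFree S.X₁) (hE : FlatMod.IsFinLocFree S.X₂) (hB : FlatMod.IsFinLocFree S.X₃)
    (π : P ⟶ X) (O1 : P.Modules) (q : (Scheme.Modules.pullback π).obj S.X₂ ⟶ O1)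
    (hP : KRR.IsProjBundle π S.X₂ O1 q)
    (πB : PB ⟶ X) (O1B : PB.Modules) (qB : (Scheme.Modules.pullback πB).obj S.X₃ ⟶ O1B)
    (hPB : KRR.IsProjBundle πB S.X₃ O1B qB)
    (c : PB ⟶ P) (hc : c ≫ π = πB) (ec : (Scheme.Modules.pullback c).obj O1 ≅ O1B)
    (hcq : (Scheme.Modules.pullbackCongr hc).inv.app S.X₂ ≫ (Scheme.Modules.pullbackComp c π).inv.app S.X₂ ≫
      (Scheme.Modules.pullback c).map q ≫ ec.hom = (Scheme.Modules.pullback πB).map S.g ≫ qB)
    (W : P.Opens) (hW : Disjoint (W : Set P) (Set.range c.base)) :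
    Epi ((Scheme.Modules.pullback W.ι).map ((Scheme.Modules.pullback π).map S.f ≫ q)) := by
  have hsurj : ∀ x : (W : Scheme.{u}), Function.Surjective
      (stalkMapₗ ((Scheme.Modules.pullback π).map S.f ≫ q) (W.ι x)) := by
    intro x
    set w := W.ι x
    have hwW : w ∈ W := x.2
    obtain ⟨U₁, m, hw₁, ⟨i₁⟩⟩ := hA (π w)
    obtain ⟨a₀, ha₀⟩ := TensorMod.Basis.exists_basis_of_iso i₁
    obtain ⟨U₂, n, hw₂, ⟨i₂⟩⟩ := hE (π w)
    obtain ⟨e₀, he₀⟩ := TensorMod.Basis.exists_basis_of_iso i₂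
    obtain ⟨k, hk⟩ := exists_mem_locus_sub hS hP hPB c hc ec hcq
      (fun k => rs S.X₁ (inf_le_left : U₁ ⊓ U₂ ≤ U₁) (a₀ k)) (ha₀.res inf_le_left)
      (fun k => rs S.X₂ (inf_le_right : U₁ ⊓ U₂ ≤ U₂) (e₀ k)) (he₀.res inf_le_right)
      w ⟨hw₁, hw₂⟩ (fun hr => Set.disjoint_left.1 hW hwW hr)
    set U := U₁ ⊓ U₂
    set aU := fun k => rs S.X₁ (inf_le_left : U₁ ⊓ U₂ ≤ U₁) (a₀ k)
    have hb := H34.UFDExt.Gen.IsGen.stalk_bijective (M := O1)
      (fun V hV => isGen_locus (q := q) (fun k => S.f.app U (aU k)) k V hV) hk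
    intro v
    obtain ⟨r, hr⟩ := hb.2 v
    have hwπ : w ∈ π ⁻¹ᵁ U := ⟨hw₁, hw₂⟩
    refine ⟨r • ((Scheme.Modules.pullback π).obj S.X₁).presheaf.germ (π ⁻¹ᵁ U) w hwπ
      (pbRes π S.X₁ le_rfl (aU k)), ?_⟩
    rw [map_smul]
    refine Eq.trans ?_ hr
    congr 1
    refine (Modules.StalkModule.stalkMapₗ_germ _ _ _).trans ?_
    show O1.presheaf.germ (π ⁻¹ᵁ U) w hwπ _ = O1.presheaf.germ _ w hk (rs O1 _ (sec q _ k))
    rw [Scheme.Modules.Hom.comp_app, ConcreteCategory.comp_apply, DescAlg.PbSec.pbRes_natural]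
    exact (TopCat.Presheaf.germ_res_apply O1.presheaf _ w hk _).symm
  exact Groth.Agent.Lib.Cyc.CH.epi_pullback_of_surjective W.ι _ hsurj

end Groth.Agent.S18995
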