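import Groth.Statements.S18999
import Groth.Agent.Lib.SurfRR.Basic
import Groth.Agent.Lib.DualSch.LCI
import Groth.Agent.Lib.Goren.Basic
import Groth.Agent.Lib.Excellent.Transport
import Groth.Agent.Lib.FibreDeg.Basic

set_option autoImplicit false
universe u
open CategoryTheory CategoryTheory.Limits AlgebraicGeometry
open Surf

namespace Groth.Agent.S18999

/-- Stalks of a scheme lci over a field are Cohen–Macaulay. -/
theorem isCM_stalk {k : Type u} [Field k] {X : Scheme.{u}} (f : X ⟶ Spec (CommRingCat.of k))
    (hf : Dual3.IsLCIMor f) (x : X) :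
    LocCoh.IsCohenMacaulayLocalRing (X.presheaf.stalk x) := by
  haveI : IsIso ((Spec (CommRingCat.of k)).fromSpecResidueField (f x)) := by
    haveI : Surjective ((Spec (CommRingCat.of k)).fromSpecResidueField (f x)) :=
      ⟨fun q => ⟨default, @Subsingleton.elim (PrimeSpectrum k) _ _ _⟩⟩
    haveI : IsClosedImmersion ((Spec (CommRingCat.of k)).fromSpecResidueField (f x)) :=
      isClosed_singleton_iff_isClosedImmersion.1 (by
        rw [show ({f x} : Set ↥(Spec (CommRingCat.of k))) = Set.univ from
          Set.eq_univ_iff_forall.2 fun q =>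
            Set.mem_singleton_iff.2 (@Subsingleton.elim (PrimeSpectrum k) _ _ _)]
        exact isClosed_univ)
    exact isIso_of_isClosedImmersion_of_surjective _
  haveI : Flat f := Lib.FibreDeg.Basic.flat_of_field f
  have h := (Lib.DualSch.LCI.isGorensteinMor_of_lci f hf x).2
  haveI := h
  obtain ⟨n, hn⟩ := h.exists_hasInjectiveDimensionLT
  obtain ⟨d, -, -, hCM, -⟩ := Lib.Goren.Basic.exists_dim hn
  haveI : IsIso (f.fiberι (f x)) := by
    delta Scheme.Hom.fiberι
    exact (IsPullback.of_hasPullback f
      ((Spec (CommRingCat.of k)).fromSpecResidueField (f x))).isIso_fst_of_isIso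
  have e := (asIso ((f.fiberι (f x)).stalkMap (f.asFiber x))).commRingCatIsoToRingEquiv
  haveI := hCM
  have := Lib.Excellent.Transport.isCohenMacaulayLocalRing_of_ringEquiv e.symm
  rwa [f.fiberι_asFiber x] at this

/-- Let k be a field and X an integral scheme of dimension two admitting a closed immersion into some
P^n_k over k, such that X → Spec k is a local complete intersection morphism. Let (ω, t) be a
dualizing sheaf for X — ω coherent, t a k-linear form on H^2(X, ω), such that for every coherent F
and every k-linear form ψ on H^2(X, F) there is exactly one φ : F → ω with ψ = t ∘ H^2(φ) — and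
assume ω invertible (as it is, X being Gorenstein). Then for every invertible O_X-module L one has
2χ(L) = (L·L) − (L·ω) + 2χ(O_X), where (A·B) = χ(O_X) − χ(A) − χ(B) + χ(A ⊗ B) is the intersection
number (packaged as FGA.intNum) and all dimensions are over k. (The published statement is for a
proper two-dimensional variety of local complete intersection over k, with Euler characteristics
over the field of global functions; this row assumes X projective over k and counts dimensions over
k, which multiplies both sides by the same degree.) -/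
theorem result (k : Type u) [Field k] (X : Scheme.{u}) [X.Over (Spec (CommRingCat.of k))]
    [IsIntegral X] (hdim : topologicalKrullDim X = 2)
    (hproj : ∃ (n : ℕ) (ι : X ⟶ CohB1.ProjSpace n k), IsClosedImmersion ι ∧ ι ≫ CohB1.ProjSpace.toSpec n k = (X ↘ (Spec (CommRingCat.of k))))
    (hlci : Dual3.IsLCIMor (X ↘ (Spec (CommRingCat.of k))))
    (ω : X.Modules) (hωcoh : Coh.IsCoh ω) (hωinv : PicF.IsInvertible ω) (t : Coh.HH X ω 2 →ₗ[k] k)
    (hdual : ∀ F : X.Modules, Coh.IsCoh F → ∀ ψ : Coh.HH X F 2 →ₗ[k] k,
        ∃! φ : F ⟶ ω, ∀ x : Coh.HH X F 2,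
          ψ x = t (Sheaf.H.map ((SheafOfModules.toSheaf X.ringCatSheaf).map φ) 2 x))
    (L : X.Modules) (hL : PicF.IsInvertible L) :
    2 * Curv2.euler k X L = FGA.intNum k X 2 ![L, L] (Coh.structureModule X) - FGA.intNum k X 2 ![L, ω] (Coh.structureModule X) + 2 * Curv2.euler k X (Coh.structureModule X) := by
  obtain ⟨n, ι, hc, hι⟩ := hproj
  haveI := hc
  haveI : IsProper (X ↘ Spec (CommRingCat.of k)) := by rw [← hι]; infer_instance
  haveI := Lib.ProjCoh.ClosedSub.isLocallyNoetherian ι
  refine Lib.SurfRR.Basic.riemannRoch_of_dualizing ι hι hdim.le (fun x hx => ?_) hωcoh hdual hL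
  refine Lib.ProjCoh.DualityCM.depth_of_cm (n := 2) (isCM_stalk _ hlci x)
    (Lib.ProjCoh.DualityCM.ringKrullDim_stalk_of_equidim (X ↘ Spec (CommRingCat.of k))
      (by rw [hdim]; rfl) (fun Z hZ => ?_) x hx)
  rw [irreducibleComponents_eq_singleton, Set.mem_singleton_iff] at hZ
  subst hZ
  rw [(Homeomorph.Set.univ X).isHomeomorph.topologicalKrullDim_eq, hdim]
  rfl

end Groth.Agent.S18999
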