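import Groth.Statements.S19001
import Groth.Agent.Lib.ConstDeg98.Basic

set_option autoImplicit false
universe u
open CategoryTheory CategoryTheory.Limits AlgebraicGeometry
open FBase

namespace Groth.Agent.S19001

open Groth.Agent.Lib.ConstDeg98.Basic

theorem residue_bijective (X : Scheme.{u}) [IsIntegral X] :
    Function.Bijective (X.residue (genericPoint X)) :=
  ⟨RingHom.injective (R := X.functionField) (X.residue (genericPoint X)).hom,
    Scheme.residue_surjective X _⟩

theorem sep (X : Scheme.{u}) [IsIntegral X] (hX : Pi1.IsNormalScheme X) (x : X)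
    (hx : x = genericPoint X) (a : X.residueField x)
    (ha : (X.presheaf.germ ⊤ x trivial ≫ X.residue x).hom.IsIntegralElem a) :
    ∃ s : Γ(X, ⊤), (X.presheaf.germ ⊤ x trivial ≫ X.residue x) s = a := by
  subst hx
  obtain ⟨b, rfl⟩ := (residue_bijective X).2 a
  obtain ⟨P, hP, hPb⟩ := ha
  have hb : (X.presheaf.germ ⊤ (genericPoint X) trivial).hom.IsIntegralElem b := by
    refine ⟨P, hP, (residue_bijective X).1 ?_⟩
    rw [map_zero]
    exact (Polynomial.hom_eval₂ P _ (X.residue (genericPoint X)).hom b).trans hPb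
  obtain ⟨s, hs⟩ := exists_germ_eq_of_isIntegral hX hb
  exact ⟨s, congrArg (X.residue (genericPoint X)) hs⟩

theorem gr (X : Scheme.{u}) [IsIntegral X] (hL : IsField Γ(X, ⊤)) (x : X) (hx : x = genericPoint X)
    (hgr : ∀ (E : Type u) [Field E] (i : Γ(X, ⊤) →+* E),
      AlgebraicGeometry.IsReduced (pullback X.toSpecΓ (Spec.map (CommRingCat.ofHom i)))) :
    letI := hL.toField
    letI : Algebra Γ(X, ⊤) (X.residueField x) :=
      (X.presheaf.germ ⊤ x trivial ≫ X.residue x).hom.toAlgebra
    Algebra.IsGeometricallyReduced Γ(X, ⊤) (X.residueField x) := by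
  subst hx
  letI := hL.toField
  letI : Algebra Γ(X, ⊤) (X.residueField (genericPoint X)) :=
    (X.presheaf.germ ⊤ (genericPoint X) trivial ≫ X.residue (genericPoint X)).hom.toAlgebra
  obtain ⟨U, hU, hxU, -⟩ :=
    exists_isAffineOpen_mem_and_subset (show genericPoint X ∈ (⊤ : X.Opens) from trivial)
  haveI : Nonempty U := ⟨⟨_, hxU⟩⟩
  letI : Algebra Γ(X, ⊤) Γ(X, U) := (X.presheaf.map (homOfLE le_top).op).hom.toAlgebra
  haveI : Algebra.IsGeometricallyReduced Γ(X, ⊤) Γ(X, U) :=
    isGeometricallyReduced_sections (RingEquiv.refl _) hU (fun _ => rfl) (hgr _ _)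
  haveI := functionField_isFractionRing_of_isAffineOpen X U hU
  haveI := Groth.Agent.Lib.GrpQ.SmoothPt.isGeometricallyReduced_localization Γ(X, ⊤) Γ(X, U) (nonZeroDivisors Γ(X, U))
  let e : Localization (nonZeroDivisors Γ(X, U)) ≃ₐ[Γ(X, U)] X.functionField :=
    IsLocalization.algEquiv (nonZeroDivisors Γ(X, U)) _ _
  let φ : X.residueField (genericPoint X) ≃+* Localization (nonZeroDivisors Γ(X, U)) :=
    (RingEquiv.ofBijective (X.residue (genericPoint X)).hom (residue_bijective X)).symm.trans
      e.symm.toRingEquiv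
  refine Algebra.IsGeometricallyReduced.of_injective
    (AlgHom.mk φ.toRingHom fun s => ?_) φ.injective
  apply φ.symm.injective
  refine (φ.symm_apply_apply _).trans ?_
  change X.residue (genericPoint X) (X.presheaf.germ ⊤ (genericPoint X) trivial s) =
    X.residue (genericPoint X) (e (algebraMap Γ(X, ⊤) _ s))
  rw [IsScalarTower.algebraMap_apply Γ(X, ⊤) Γ(X, U) (Localization (nonZeroDivisors Γ(X, U))),
    e.commutes]
  exact congrArg (X.residue (genericPoint X))
    (TopCat.Presheaf.germ_res_apply X.presheaf (homOfLE le_top) (genericPoint X) hxU s).symm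

theorem main (X Z : Scheme.{u}) [IsIntegral X] [IsIntegral Z] (hX : Pi1.IsNormalScheme X)
    (f : Z ⟶ X) (hη : f.base (genericPoint Z) = genericPoint X) (hL : IsField Γ(X, ⊤))
    (hL' : IsField Γ(Z, ⊤)) (halg : f.appTop.hom.IsIntegral)
    (hgr : ∀ (E : Type u) [Field E] (i : Γ(X, ⊤) →+* E),
      AlgebraicGeometry.IsReduced (pullback X.toSpecΓ (Spec.map (CommRingCat.ofHom i)))) :
    letI := f.appTop.hom.toAlgebra;
    letI := (f.residueFieldMap (genericPoint Z)).hom.toAlgebra;
    Module.finrank Γ(X, ⊤) Γ(Z, ⊤) ∣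
      Module.finrank (X.residueField (f.base (genericPoint Z))) (Z.residueField (genericPoint Z)) := by
  letI := f.appTop.hom.toAlgebra
  letI := (f.residueFieldMap (genericPoint Z)).hom.toAlgebra
  letI := hL.toField
  letI := hL'.toField
  let gX := (X.presheaf.germ ⊤ (f.base (genericPoint Z)) trivial ≫ X.residue _).hom
  let gZ := (Z.presheaf.germ ⊤ (genericPoint Z) trivial ≫ Z.residue _).hom
  letI : Algebra Γ(X, ⊤) (X.residueField (f.base (genericPoint Z))) := gX.toAlgebra
  letI : Algebra Γ(Z, ⊤) (Z.residueField (genericPoint Z)) := gZ.toAlgebra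
  letI : Algebra Γ(X, ⊤) (Z.residueField (genericPoint Z)) := (gZ.comp f.appTop.hom).toAlgebra
  haveI : IsScalarTower Γ(X, ⊤) Γ(Z, ⊤) (Z.residueField (genericPoint Z)) :=
    IsScalarTower.of_algebraMap_eq fun _ => rfl
  haveI : IsScalarTower Γ(X, ⊤) (X.residueField (f.base (genericPoint Z)))
      (Z.residueField (genericPoint Z)) := by
    refine IsScalarTower.of_algebraMap_eq fun s => ?_
    have h := congrArg (fun φ => φ (X.presheaf.germ ⊤ (f.base (genericPoint Z)) trivial s))
      (Scheme.residue_residueFieldMap f (genericPoint Z))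
    refine Eq.trans ?_ h.symm
    exact congrArg (Z.residue _) (f.germ_stalkMap_apply ⊤ (genericPoint Z) trivial s).symm
  haveI : Algebra.IsIntegral Γ(X, ⊤) Γ(Z, ⊤) := ⟨halg⟩
  haveI := gr X hL (f.base (genericPoint Z)) hη hgr
  refine finrank_dvd Γ(X, ⊤) Γ(Z, ⊤) (X.residueField (f.base (genericPoint Z)))
    (Z.residueField (genericPoint Z)) ?_
  refine eq_bot_iff.2 fun a ha => ?_
  obtain ⟨s, hs⟩ := sep X hX _ hη a (mem_separableClosure_iff.1 ha).isIntegral
  exact IntermediateField.mem_bot.2 ⟨s, hs⟩

/-- Let f : Z → X be a finite surjective morphism of integral schemes proper over a field k, with X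
normal, and let d = [k(Z) : k(X)] be its degree on function fields (the residue fields at the
generic point of Z and at its image, the generic point of X). Write k_X = H^0(X, O_X) and k_Z =
H^0(Z, O_Z) (fields, finite over k). If X is geometrically reduced over k_X — X ×_{k_X} E is reduced
for every field E over k_X, i.e. k(X) is separable over k_X — then [k_Z : k_X] divides d. (The
published statement does not assume that X is geometrically reduced over k_X; without that
hypothesis the divisibility fails: for k_0 = F_p(s, t), X the normal proper curve with function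
field k_0(x, y), y^p = s + t x^p, and Z the projective line over k_0(s^{1/p}, t^{1/p}) mapping to X,
one has d = p but [k_Z : k_X] = p^2.) -/
theorem result (k : Type u) [Field k]
    (X Z : Scheme.{u}) [X.Over (Spec (CommRingCat.of k))] [Z.Over (Spec (CommRingCat.of k))]
    [IsIntegral X] [IsIntegral Z]
    [IsProper (X ↘ Spec (CommRingCat.of k))] [IsProper (Z ↘ Spec (CommRingCat.of k))]
    (hXn : ∀ x : X, IsIntegrallyClosed (X.presheaf.stalk x))
    (f : Z ⟶ X) (hf : f ≫ (X ↘ Spec (CommRingCat.of k)) = Z ↘ Spec (CommRingCat.of k))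
    [IsFinite f] [Surjective f]
    (hgr : ∀ (E : Type u) [Field E] (i : Γ(X, ⊤) →+* E),
      AlgebraicGeometry.IsReduced (pullback X.toSpecΓ (Spec.map (CommRingCat.ofHom i)))) :
    letI := f.appTop.hom.toAlgebra;
    letI := (f.residueFieldMap (genericPoint Z)).hom.toAlgebra;
    Module.finrank Γ(X, ⊤) Γ(Z, ⊤) ∣ Module.finrank (X.residueField (f.base (genericPoint Z))) (Z.residueField (genericPoint Z)) := by
  have hfin : f.appTop.hom.IsIntegral := by
    have h := isIntegral_appTop_of_universallyClosed (Z ↘ Spec (CommRingCat.of k))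
    rw [← hf, Scheme.Hom.comp_appTop, CommRingCat.hom_comp] at h
    exact RingHom.IsIntegral.tower_top _ _ h
  refine main X Z (fun x => ⟨inferInstance, hXn x⟩) f ?_
    (isField_of_universallyClosed k (X ↘ Spec (CommRingCat.of k)))
    (isField_of_universallyClosed k (Z ↘ Spec (CommRingCat.of k))) hfin hgr
  refine ((genericPoint_spec Z).image f.continuous).eq ?_
  convert genericPoint_spec X using 1
  rw [Set.image_univ, f.surjective.range_eq, closure_univ]

end Groth.Agent.S19001
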