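import Groth.Statements.S19004
import Mathlib.LinearAlgebra.Vandermonde

set_option autoImplicit false
open GIT

namespace Groth.Agent.S19004

/-- For the group PGL(n) acting on the space of n × n matrices the T-quotient is (P^{n−1})^n with Chow
ring ℚ[t_1,…,t_n]/(t_1^n,…,t_n^n), the class c_top(g/t) is the product of all roots t_i − t_j (i ≠
j), and the computation in the proof shows that this product equals n!·t_1^{n−1}⋯t_n^{n−1} in that
ring. Stated here as the equivalent coefficient identity in ℤ[t_1,…,t_n]: the coefficient of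
t_1^{n−1}⋯t_n^{n−1} in the product over ordered pairs i ≠ j of (t_i − t_j) is n!. -/
theorem result (n : ℕ) :
    MvPolynomial.coeff (Finsupp.equivFunOnFinite.symm (fun _ : Fin n => n - 1))
      (∏ i : Fin n, ∏ j ∈ Finset.univ.erase i, (MvPolynomial.X i - MvPolynomial.X j : MvPolynomial (Fin n) ℤ)) = (n.factorial : ℤ) := by
  classical
  let V : Matrix (Fin n) (Fin n) (MvPolynomial (Fin n) ℤ) := Matrix.vandermonde MvPolynomial.X
  let W : Matrix (Fin n) (Fin n) (MvPolynomial (Fin n) ℤ) := Matrix.projVandermonde 1 MvPolynomial.X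
  have hp : (∏ i : Fin n, ∏ j ∈ Finset.univ.erase i, (MvPolynomial.X i - MvPolynomial.X j : MvPolynomial (Fin n) ℤ)) = W.det * V.det := by
    rw [Matrix.det_vandermonde, Matrix.det_projVandermonde]
    simp only [Pi.one_apply, one_mul]
    rw [Finset.prod_comm' (s := Finset.univ) (t := fun i : Fin n => Finset.Ioi i) (t' := Finset.univ) (s' := fun j => Finset.Iio j)
      (f := fun i j => (MvPolynomial.X j - MvPolynomial.X i : MvPolynomial (Fin n) ℤ)) (by simp), ← Finset.prod_mul_distrib]
    refine Finset.prod_congr rfl fun i _ => ?_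
    rw [← Finset.prod_union (Finset.disjoint_left.2 fun a ha hb => lt_asymm (Finset.mem_Ioi.1 ha) (Finset.mem_Iio.1 hb))]
    refine Finset.prod_congr ?_ fun _ _ => rfl
    ext a
    simp [lt_or_lt_iff_ne, ne_comm]
  have mono : ∀ (σ : Equiv.Perm (Fin n)) (e : Fin n → ℕ), (∏ i, (MvPolynomial.X (σ i) : MvPolynomial (Fin n) ℤ) ^ e i) =
      MvPolynomial.monomial (Finsupp.equivFunOnFinite.symm fun l => e (σ.symm l)) 1 := by
    intro σ e
    rw [MvPolynomial.monomial_eq, map_one, one_mul, Finsupp.prod_fintype _ _ (fun _ => pow_zero _)]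
    rw [← Equiv.prod_comp σ.symm]
    simp
  rw [hp, Matrix.det_apply', Matrix.det_apply', Finset.sum_mul_sum, MvPolynomial.coeff_sum]
  have key : ∀ σ τ : Equiv.Perm (Fin n), MvPolynomial.coeff (Finsupp.equivFunOnFinite.symm (fun _ : Fin n => n - 1))
      ((((Equiv.Perm.sign σ : ℤ) : MvPolynomial (Fin n) ℤ) * ∏ i, W (σ i) i) * (((Equiv.Perm.sign τ : ℤ) : MvPolynomial (Fin n) ℤ) * ∏ i, V (τ i) i)) =
      if σ = τ then 1 else 0 := by
    intro σ τ
    simp only [W, V, Matrix.projVandermonde_apply, Matrix.vandermonde_apply, Pi.one_apply, one_pow, one_mul, mono]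
    rw [← eq_intCast (MvPolynomial.C : ℤ →+* MvPolynomial (Fin n) ℤ), ← eq_intCast (MvPolynomial.C : ℤ →+* MvPolynomial (Fin n) ℤ), MvPolynomial.C_mul_monomial, MvPolynomial.C_mul_monomial,
      MvPolynomial.monomial_mul, MvPolynomial.coeff_monomial, mul_one, mul_one]
    have hiff : (Finsupp.equivFunOnFinite.symm fun l => ((σ.symm l).rev : ℕ)) + (Finsupp.equivFunOnFinite.symm fun l => (τ.symm l : ℕ)) =
        Finsupp.equivFunOnFinite.symm (fun _ : Fin n => n - 1) ↔ σ = τ := by
      constructor
      · intro h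
        refine Equiv.symm_bijective.injective (Equiv.ext fun l => Fin.ext ?_)
        have := DFunLike.congr_fun h l
        simp [Fin.val_rev] at this
        have := (σ.symm l).isLt
        omega
      · rintro rfl
        ext l
        have := (σ.symm l).isLt
        simp [Fin.val_rev]
        omega
    simp only [hiff]
    split_ifs with h
    · subst h
      rw [← Units.val_mul, Int.units_mul_self]; rfl
    · rfl
  rw [Finset.sum_congr rfl fun σ _ => by rw [MvPolynomial.coeff_sum, Finset.sum_congr rfl fun τ _ => key σ τ, Finset.sum_ite_eq, if_pos (Finset.mem_univ σ)]]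
  simp [Fintype.card_perm]

end Groth.Agent.S19004
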