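import Groth.Statements.S19005
import Mathlib.Algebra.Ring.Int.Parity
import Mathlib.LinearAlgebra.QuadraticForm.Basic
import Mathlib.Tactic.Abel
import Mathlib.Tactic.LinearCombination
import Mathlib.LinearAlgebra.TensorProduct.Basic

set_option autoImplicit false
open scoped TensorProduct
open K2Cent

namespace Groth.Agent.S19005

/-- For abelian groups X and M and ε in M with 2ε = 0 (in the source X is the character group of a split
torus and ε is the class of −1 among the units), the map x ↦ (x ⊗ x, −(x ⊗ ε)) into (X ⊗ X) × (X ⊗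
M) is quadratic over ℤ, i.e. it underlies an integer quadratic map with exactly these values. -/
theorem result (X M : Type*) [AddCommGroup X]
    [AddCommGroup M] (ε : M) (hε : 2 • ε = 0) :
    ∃ R : QuadraticMap ℤ X (TensorProduct ℤ X X × TensorProduct ℤ X M),
      ∀ x : X, R x = (x ⊗ₜ[ℤ] x, -(x ⊗ₜ[ℤ] ε)) := by
  let B : X →ₗ[ℤ] X →ₗ[ℤ] TensorProduct ℤ X X × TensorProduct ℤ X M :=
    LinearMap.mk₂ ℤ (fun x y => (x ⊗ₜ[ℤ] y + y ⊗ₜ[ℤ] x, 0))
      (fun a b c => by simp [TensorProduct.tmul_add, TensorProduct.add_tmul]; abel)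
      (fun a b c => by simp [TensorProduct.tmul_smul, TensorProduct.smul_tmul'])
      (fun a b c => by simp [TensorProduct.tmul_add, TensorProduct.add_tmul]; abel)
      (fun a b c => by simp [TensorProduct.tmul_smul, TensorProduct.smul_tmul'])
  refine ⟨⟨fun x => (x ⊗ₜ[ℤ] x, -(x ⊗ₜ[ℤ] ε)), fun a x => ?_, ⟨B, fun x y => ?_⟩⟩, fun x => rfl⟩
  · have hpar : (a * a) • ε = a • ε := by
      obtain ⟨k, hk⟩ : Even (a * (a - 1)) := Int.even_mul_pred_self a
      rw [← sub_eq_zero, ← sub_smul, show a * a - a = k * 2 by linear_combination hk, mul_smul,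
        show (2 : ℤ) • ε = 2 • ε by simp [two_zsmul, two_nsmul], hε, smul_zero]
    simp only [Prod.smul_mk, smul_neg]
    refine Prod.ext ?_ ?_
    · dsimp only; rw [TensorProduct.tmul_smul, ← TensorProduct.smul_tmul', smul_smul]
    · simp only [neg_inj]
      rw [← TensorProduct.tmul_smul (a * a) x ε, hpar, TensorProduct.tmul_smul, TensorProduct.smul_tmul']
  · refine Prod.ext ?_ ?_
    · simp [B, TensorProduct.tmul_add, TensorProduct.add_tmul]; abel
    · simp [B, TensorProduct.add_tmul]; abel

end Groth.Agent.S19005
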