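import Groth.Statements.S19007
import Groth.Agent.H84.QForm
import Mathlib.LinearAlgebra.RootSystem.Base

set_option autoImplicit false
universe u v w x
open RootD

namespace Groth.Agent.S19007

/-- Let P be a finite reduced crystallographic root pairing over an integral domain of characteristic
zero, b a base of P (a system of simple roots) and Q a quadratic form on the coweight module with
polar form B. Then Q is invariant under all root reflections (equivalently under the Weyl group) on
the span of the coroots if and only if for all pairs of distinct simple roots α_i ≠ α_j one has
B(α_i^∨, α_j^∨) = ⟨α_j, α_i^∨⟩ Q(α_j^∨). (In the source the form is integer-valued on the lattice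
spanned by the coroots and the condition says that the bilinear form lies in the kernel of the last
map of a three-term complex built from the Bruhat cells of codimension at most two; here the form
takes values in the base ring.) -/
theorem result {ι : Type u} {R : Type v} {M : Type w} {N : Type x} [CommRing R] [IsDomain R] [CharZero R]
    [AddCommGroup M] [Module R M] [AddCommGroup N] [Module R N] (P : RootPairing ι R M N)
    [Finite ι] [P.IsCrystallographic] [P.IsReduced] (b : P.Base) (Q : QuadraticMap R N R) :
    (∀ i : ι, ∀ y ∈ Submodule.span R (Set.range P.coroot), Q (P.coreflection i y) = Q y) ↔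
      ∀ i ∈ b.support, ∀ j ∈ b.support, i ≠ j →
        QuadraticMap.polar Q (P.coroot i) (P.coroot j) = P.pairing j i * Q (P.coroot j) := by
  classical
  have hmem : ∀ i, P.coroot i ∈ Submodule.span R (Set.range P.coroot) :=
    fun i => Submodule.subset_span (Set.mem_range_self i)
  constructor
  · intro h i _ j _ _
    exact (Groth.Agent.H84.QForm.invariant_iff P Q j _ (hmem j)).mp (h j) _ (hmem i)
  · intro h
    have hsimp : ∀ j ∈ b.support, ∀ y ∈ Submodule.span R (Set.range P.coroot),
        Q (P.coreflection j y) = Q y := by
      intro j hj
      rw [Groth.Agent.H84.QForm.invariant_iff P Q j _ (hmem j)]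
      intro y hy
      rw [show Submodule.span R (Set.range P.coroot) = Submodule.span R (P.coroot '' b.support) from
        b.span_coroot_support.symm] at hy
      refine Submodule.span_induction (fun w hw => ?_) ?_ (fun u v _ _ hu hv => ?_)
        (fun r u _ hu => ?_) hy
      · obtain ⟨i, hi, rfl⟩ := hw
        by_cases e : i = j
        · subst e
          rw [QuadraticMap.polar_self, nsmul_eq_mul, Nat.cast_ofNat, P.root'_coroot_eq_pairing, P.pairing_same]
        · rw [h i hi j hj e, P.root'_coroot_eq_pairing]
      · rw [Q.polar_zero_left, map_zero, zero_mul]
      · rw [Q.polar_add_left, map_add, hu, hv, add_mul]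
      · rw [Q.polar_smul_left, hu, map_smul, smul_eq_mul, smul_eq_mul, mul_assoc]
    have hstab : ∀ j, ∀ y ∈ Submodule.span R (Set.range P.coroot),
        P.coreflection j y ∈ Submodule.span R (Set.range P.coroot) := fun j y hy => by
      rw [P.coreflection_apply]
      exact Submodule.sub_mem _ hy (Submodule.smul_mem _ _ (hmem j))
    intro i
    induction i using b.induction_reflect with
    | h₀ i hi =>
      intro y hy
      convert hi y hy using 2
      rw [P.coreflection_apply, P.coreflection_apply, P.coroot_reflectionPerm,
        P.coreflection_apply_self, RootPairing.root', P.root_reflectionPerm,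
        P.reflection_apply_self, map_neg, LinearMap.neg_apply]
      rw [smul_neg, neg_smul, neg_neg]
    | h₁ i hi => exact hsimp i hi
    | h₂ i j hi hj =>
      intro y hy
      have e : P.coreflection (P.reflectionPerm j i) y =
          P.coreflection j (P.coreflection i (P.coreflection j y)) := by
        have := P.flip.reflection_reflectionPerm (i := i) (j := j)
        exact LinearEquiv.congr_fun this y
      rw [e, hsimp j hj _ (hstab i _ (hstab j y hy)), hi _ (hstab j y hy), hsimp j hj y hy]

end Groth.Agent.S19007
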