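import Groth.Statements.S1901
import Groth.Agent.Lib.Cyc.PP.P1Graph

set_option autoImplicit false
universe u
open CategoryTheory AlgebraicGeometry
open CategoryTheory.Limits
open Cyc

namespace Groth.Agent.S1901

/-- If a k-cycle α on X is rationally equivalent to zero, there is a locally finite family of closed
immersions W_i → P^1_X with W_i integral of δ-dimension k + 1 and generic point over neither
section, such that α = Σ_i ([W_{i,0}]_k − [W_{i,∞}]_k) coefficientwise. A pair (X, δ) with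
Cyc.IsSetup plays the role of a scheme locally of finite type over a fixed base with a dimension
function (X locally Noetherian with universally catenary local rings, δ a dimension function), and
Cyc.DeltaCompat records that the dimension function upstairs is the induced one. -/
theorem result (X : Scheme.{u}) (δ : X → ℤ) (hX : Cyc.IsSetup X δ) (δP : ↥(CohB1.ProjSpaceOver 1 X) → ℤ) (hP : Cyc.DeltaCompat (CohB1.ProjSpaceOver.toBase 1 X) δP δ) (k : ℤ) (α : AlgebraicCycle X ℤ) (hα : α ∈ Cyc.Zk X δ k) (h0 : Cyc.RatEquivZero δ k α) : ∃ (I : Type u) (W : I → Scheme.{u}) (ι : (i : I) → (W i ⟶ CohB1.ProjSpaceOver 1 X)) (_ : ∀ i, IsIntegral (W i)) (_ : ∀ i, IsClosedImmersion (ι i)), (∀ i, δP (ι i (genericPoint (W i))) = k + 1 ∧ ι i (genericPoint (W i)) ∉ Set.range ⇑(P1.sect X 0) ∧ ι i (genericPoint (W i)) ∉ Set.range ⇑(P1.sect X 1)) ∧ (∀ p : ↥(CohB1.ProjSpaceOver 1 X), ∃ U : Set ↥(CohB1.ProjSpaceOver 1 X), IsOpen U ∧ p ∈ U ∧ {i | (Set.range ⇑(ι i) ∩ U).Nonempty}.Finite)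 ∧ ∀ x : X, α x = ∑ᶠ i, (Cyc.subschemeFun δ k (pullback.snd (ι i) (P1.sect X 0)) x - Cyc.subschemeFun δ k (pullback.snd (ι i) (P1.sect X 1)) x) := by
  classical
  obtain ⟨I, ξ, φ, hξ, hφ, hlf, hα'⟩ := h0
  choose W ι hWi hc hW hp hnot hdiv using fun i =>
    Groth.Agent.Lib.Cyc.PP.P1Graph.exists_subscheme X hX hP (ξ i) (φ i) (hφ i)
  refine ⟨I, W, ι, hWi, hc, fun i => ⟨(hW i).trans (hξ i), hnot i 0, hnot i 1⟩, fun p => ?_, fun x => ?_⟩
  · obtain ⟨U, hU, hxU, hfin⟩ := hlf (CohB1.ProjSpaceOver.toBase 1 X p)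
    refine ⟨⇑(CohB1.ProjSpaceOver.toBase 1 X) ⁻¹' U,
      hU.preimage (CohB1.ProjSpaceOver.toBase 1 X).continuous, hxU, hfin.subset ?_⟩
    rintro i ⟨_, ⟨w, rfl⟩, hw⟩
    refine ⟨CohB1.ProjSpaceOver.toBase 1 X (ι i w), ?_, hw⟩
    haveI := hWi i
    rw [← hp i]
    exact specializes_iff_mem_closure.1
      (((genericPoint_specializes w).map (ι i).continuous).map
        (CohB1.ProjSpaceOver.toBase 1 X).continuous)
  · rw [hα' x]
    refine finsum_congr fun i => ?_
    rw [hdiv i x, show δ (ξ i) - 1 = k from by have := hξ i; omega]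

end Groth.Agent.S1901
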