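import Groth.Statements.S19010
import Groth.Agent.H84.QForm
import Mathlib.LinearAlgebra.Projection

set_option autoImplicit false
universe u v w x
open RootD

namespace Groth.Agent.S19010

/-- Let P be a root pairing over an integral domain R of characteristic zero (roots α acting on the
coweight module N through reflections y ↦ y − ⟨α, y⟩ α^∨), D ⊆ N a submodule containing every coroot
and such that every element of D has a positive integer multiple in the span of the coroots (the
derived part), and Y₀ a complement of D in N. Let Q' be a quadratic form on N invariant under all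
root reflections. Then restriction to Y₀ is a bijection from the set of quadratic forms on N that
are invariant under all root reflections and agree with Q' on D onto the set of all quadratic forms
on Y₀. (In the source R = ℤ and N = Y₀ ⊕ Y_der is the cocharacter lattice of a split reductive
group; forms take values in R here.) -/
theorem result {ι : Type u} {R : Type v} {M : Type w} {N : Type x} [CommRing R] [IsDomain R] [CharZero R]
    [AddCommGroup M] [Module R M] [AddCommGroup N] [Module R N] (P : RootPairing ι R M N)
    (D Y₀ : Submodule R N) (hD : ∀ i : ι, P.coroot i ∈ D)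
    (hDsat : ∀ y ∈ D, ∃ n : ℕ, 0 < n ∧ n • y ∈ Submodule.span R (Set.range P.coroot))
    (hc : IsCompl Y₀ D)
    (Q' : QuadraticMap R N R) (hQ' : ∀ (i : ι) (y : N), Q' (P.coreflection i y) = Q' y) :
    Set.BijOn (fun Q : QuadraticMap R N R => Q.comp Y₀.subtype)
      {Q | (∀ (i : ι) (y : N), Q (P.coreflection i y) = Q y) ∧ ∀ y ∈ D, Q y = Q' y} Set.univ := by
  classical
  let p₀ : N →ₗ[R] N := Y₀.projection D hc
  let p : N →ₗ[R] N := D.projection Y₀ hc.symm
  have hsum : ∀ y, p₀ y + p y = y := fun y => Submodule.projection_add_projection_eq_self hc y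
  have hp₀ : ∀ y, p₀ y ∈ Y₀ := fun y => (Submodule.projectionOnto Y₀ D hc y).2
  have hp : ∀ y, p y ∈ D := fun y => (Submodule.projectionOnto D Y₀ hc.symm y).2
  refine ⟨fun Q _ => trivial, ?_, ?_⟩
  · rintro Q₁ ⟨h1, h1'⟩ Q₂ ⟨h2, h2'⟩ he
    have hy₀ : ∀ y ∈ Y₀, Q₁ y = Q₂ y := fun y hy => DFunLike.congr_fun he ⟨y, hy⟩
    have hpol : ∀ y, ∀ x ∈ D, QuadraticMap.polar Q₁ y x = QuadraticMap.polar Q₂ y x := by
      intro y x hx
      obtain ⟨n, hn, hmem⟩ := hDsat x hx
      have key : Submodule.span R (Set.range P.coroot) ≤
          LinearMap.ker (Q₁.polarBilin y - Q₂.polarBilin y) := by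
        rw [Submodule.span_le]
        rintro _ ⟨i, rfl⟩
        have a := (Groth.Agent.H84.QForm.invariant_iff P Q₁ i ⊤ trivial).mp
          (fun z _ => h1 i z) y trivial
        have b := (Groth.Agent.H84.QForm.invariant_iff P Q₂ i ⊤ trivial).mp
          (fun z _ => h2 i z) y trivial
        have c : Q₁ (P.coroot i) = Q₂ (P.coroot i) := (h1' _ (hD i)).trans (h2' _ (hD i)).symm
        simp [a, b, c]
      have h := key hmem
      rw [LinearMap.mem_ker, map_nsmul, nsmul_eq_mul, LinearMap.sub_apply] at h
      exact sub_eq_zero.mp ((mul_eq_zero.mp h).resolve_left (Nat.cast_ne_zero.mpr hn.ne'))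
    ext y
    rw [← hsum y, QuadraticMap.map_add Q₁, QuadraticMap.map_add Q₂, hy₀ _ (hp₀ y), hpol _ _ (hp y),
      h1' _ (hp y), h2' _ (hp y)]
  · intro q _
    let Q : QuadraticMap R N R := Q' + (q - Q'.comp Y₀.subtype).comp (Y₀.projectionOnto D hc)
    have hQ : ∀ y, Q y = Q' y + (q (Y₀.projectionOnto D hc y) - Q' (p₀ y)) := fun y => rfl
    refine ⟨Q, ⟨fun i y => ?_, fun y hy => ?_⟩, ?_⟩
    · have e : Y₀.projectionOnto D hc (P.coreflection i y) = Y₀.projectionOnto D hc y := by
        rw [P.coreflection_apply, map_sub, map_smul]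
        have : Y₀.projectionOnto D hc (P.coroot i) = 0 :=
          Subtype.ext (Submodule.projection_apply_right hc ⟨P.coroot i, hD i⟩)
        rw [this, smul_zero, sub_zero]
      change Q' _ + (q (Y₀.projectionOnto D hc _) - Q' (Y₀.projectionOnto D hc _ : N)) = _
      rw [e, hQ' i y]; rfl
    · have e2 : p₀ y = 0 := Submodule.projection_apply_right hc ⟨y, hy⟩
      have e3 : Y₀.projectionOnto D hc y = 0 := Subtype.ext e2
      rw [hQ, e2, e3, map_zero, map_zero, sub_self, add_zero]
    · refine QuadraticMap.ext fun y => ?_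
      have e2 : p₀ y = y := Submodule.projection_apply_left hc y
      have e3 : Y₀.projectionOnto D hc y = y := Subtype.ext e2
      change Q y = q y
      rw [hQ, e2, e3, add_sub_cancel]

end Groth.Agent.S19010
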