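import Groth.Statements.S19011
import Mathlib.LinearAlgebra.RootSystem.Base
import Groth.Agent.Lib.RootDatum.Weyl
import Groth.Agent.Lib.RootDatum.Length

set_option autoImplicit false
universe u v w x
open RootD

namespace Groth.Agent.S19011

open Groth.Agent.Lib.RootDatum Groth.Agent.Lib.RootDatum.Basic Groth.Agent.Lib.RootDatum.PosSys in
lemma base {ι R M N : Type*} [CommRing R] [IsDomain R] [CharZero R] [AddCommGroup M] [Module R M]
    [AddCommGroup N] [Module R N] (P : RootPairing ι R M N) [Finite ι] [P.IsCrystallographic] [P.IsReduced]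
    (L : (ι →₀ ℤ) →ₗ[ℤ] N) (hL : L = Finsupp.linearCombination ℤ (fun i : ι => (P.coroot i : N)))
    (Rel : Submodule ℤ (ι →₀ ℤ))
    (hrel : ∀ a c, Finsupp.single (P.reflectionPerm a c) (1 : ℤ) - Finsupp.single c 1 +
      P.pairingIn ℤ a c • Finsupp.single a 1 ∈ Rel) (hle : Rel ≤ LinearMap.ker L)
    (S : Set ι) (hS : RootD.IsPosSys P S) : LinearMap.ker L = Rel := by
  classical
  haveI := isTorsionFree_coweight P
  have hΔ := isSimpleSys_simples P hS
  set Δ := simples P S
  let Good : Submodule ℤ (ι →₀ ℤ) := Rel ⊔ Finsupp.supported ℤ ℤ Δ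
  have hgood : ∀ k : ι, Finsupp.single k (1 : ℤ) ∈ Good := by
    have hsimp : ∀ a ∈ Δ, Finsupp.single a (1 : ℤ) ∈ Good := fun a ha =>
      Submodule.mem_sup_right (Finsupp.single_mem_supported ℤ _ ha)
    have hstep : ∀ a ∈ Δ, ∀ k, Finsupp.single k (1 : ℤ) ∈ Good →
        Finsupp.single (P.reflectionPerm a k) (1 : ℤ) ∈ Good := by
      intro a ha k hk
      have h1 : Finsupp.single (P.reflectionPerm a k) (1 : ℤ) - Finsupp.single k 1 +
          P.pairingIn ℤ a k • Finsupp.single a 1 ∈ Good := Submodule.mem_sup_left (hrel a k)
      have := Submodule.add_mem _ (Submodule.sub_mem _ h1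
        (Submodule.smul_mem _ (P.pairingIn ℤ a k) (hsimp a ha))) hk
      simpa using this
    intro k
    have hind : RootD.IsIndiv P k := (Weyl.isIndiv_iff P k).mpr fun m hm => by
      have h4 : ¬ LinearIndependent R ![P.root k, P.root m] := fun h => by
        have := (LinearIndependent.pair_iff.mp h 1 (-2) (by rw [hm, two_nsmul]; module)).1
        exact one_ne_zero this
      rcases RootPairing.IsReduced.eq_or_eq_neg (P := P) k m h4 with e | e
      · rw [e] at hm
        have : P.root m = 0 := by
          have h5 : P.root m + 0 = P.root m + P.root m := by rw [add_zero, ← two_nsmul]; exact hm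
          exact (add_left_cancel h5).symm
        exact P.ne_zero m this
      · rw [e] at hm
        have : (3 : ℕ) • P.root m = 0 := by
          rw [succ_nsmul, ← hm]; abel
        exact P.ne_zero m (nsmul_eq_zero_weight P (by norm_num) this)
    obtain ⟨g, hg, a, ha, hga⟩ := Weyl.exists_smul_simple hΔ hind
    rw [← hga]
    obtain ⟨l, hl, hlg⟩ := Weyl.exists_word P hg
    rw [← hlg]
    clear hlg hga
    induction l with
    | nil => simpa [Weyl.wordProd] using hsimp a ha
    | cons x t ih =>
      rw [show Weyl.wordProd P (x :: t) = Weyl.refl P x * Weyl.wordProd P t by simp [Weyl.wordProd],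
        mul_smul]
      exact hstep x (hl x (by simp)) _ (ih (fun y hy => hl y (by simp [hy])))
  refine le_antisymm (fun x hx => ?_) hle
  have hxG : x ∈ Good := by
    rw [← Finsupp.sum_single x]
    refine Submodule.sum_mem _ fun k _ => ?_
    have := Submodule.smul_mem Good (x k) (hgood k)
    simpa using this
  obtain ⟨r, hr, s, hs, rfl⟩ := Submodule.mem_sup.mp hxG
  rw [LinearMap.mem_ker, map_add, LinearMap.mem_ker.mp (hle hr), zero_add] at hx
  haveI := Fintype.ofFinite ι
  haveI := isAddTorsionFree_weight P
  have hli : LinearIndepOn ℤ P.coroot Δ := by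
    rw [linearIndepOn_iff']
    intro u c hu hc a ha
    let w : ι → ℤ := fun x => c x * ∏ y ∈ Finset.univ.erase x, bz P y y
    let B : ℤ := ∏ y : ι, bz P y y
    have hv : (2 : ℕ) • P.Polarization (∑ x ∈ u, w x • P.root x) = B • ∑ x ∈ u, c x • P.coroot x := by
      rw [map_sum, Finset.smul_sum, Finset.smul_sum]
      refine Finset.sum_congr rfl fun x _ => ?_
      rw [map_zsmul, smul_comm, ← Length.bz_zsmul_coroot, smul_smul, smul_smul]
      congr 1
      simp only [w, B]
      rw [← Finset.mul_prod_erase _ _ (Finset.mem_univ x)]; ring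
    rw [hc, smul_zero] at hv
    haveI := isAddTorsionFree_coweight P
    have hmem : (∑ x ∈ u, w x • P.root x) ∈ Submodule.span R (Set.range P.root) :=
      Submodule.sum_mem _ fun x _ => zsmul_mem (Submodule.subset_span (Set.mem_range_self x)) _
    have h0 := Length.polarization_injOn P hmem ((nsmul_right_injective (two_ne_zero)) (hv.trans (nsmul_zero 2).symm))
    have hw := linearIndepOn_iff'.mp (hΔ.linInd.restrict_scalars' ℤ) u w hu h0 a ha
    exact (mul_eq_zero.mp hw).resolve_right (Finset.prod_ne_zero_iff.mpr fun y _ => (bz_self_pos P y).ne')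
  have hs0 : s = 0 := by
    rw [hL] at hx
    exact linearIndepOn_iff.mp hli s hs hx
  rw [hs0, add_zero]; exact hr

open Groth.Agent.Lib.RootDatum.Basic in
lemma main {ι R M N : Type*} [CommRing R] [IsDomain R] [CharZero R] [AddCommGroup M] [Module R M]
    [AddCommGroup N] [Module R N] (P : RootPairing ι R M N) [Finite ι] [P.IsCrystallographic] [P.IsReduced] :
    LinearMap.ker (Finsupp.linearCombination ℤ (fun i : ι => (P.coroot i : N))) =
      Submodule.span ℤ (Set.range fun p : ι × ι =>
        Finsupp.single (P.reflectionPerm p.1 p.2) (1 : ℤ) - Finsupp.single p.2 1 +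
          P.pairingIn ℤ p.1 p.2 • Finsupp.single p.1 1) := by
  classical
  set L := Finsupp.linearCombination ℤ (fun i : ι => (P.coroot i : N)) with hL
  set Rel := Submodule.span ℤ (Set.range fun p : ι × ι =>
        Finsupp.single (P.reflectionPerm p.1 p.2) (1 : ℤ) - Finsupp.single p.2 1 +
          P.pairingIn ℤ p.1 p.2 • Finsupp.single p.1 1) with hRel
  have hrel : ∀ a c, Finsupp.single (P.reflectionPerm a c) (1 : ℤ) - Finsupp.single c 1 +
      P.pairingIn ℤ a c • Finsupp.single a 1 ∈ Rel := fun a c => Submodule.subset_span ⟨(a, c), rfl⟩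
  have hle : Rel ≤ LinearMap.ker L := by
    rw [hRel, Submodule.span_le]
    rintro _ ⟨⟨a, c⟩, rfl⟩
    simp only [SetLike.mem_coe, LinearMap.mem_ker, hL, map_add, map_sub, map_smul,
      Finsupp.linearCombination_single, one_smul]
    rw [P.coroot_reflectionPerm, P.coreflection_apply_coroot, ← cast_pz P a c, Int.cast_smul_eq_zsmul]
    abel
  rcases isEmpty_or_nonempty ι with hι | hι
  · refine le_antisymm (fun x _ => ?_) hle
    rw [Subsingleton.elim x 0]; exact Rel.zero_mem
  obtain ⟨S, hS⟩ := Groth.Agent.Lib.RootDatum.PosSys.exists_isPosSys P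
  exact base P L hL Rel hrel hle S hS

/-- For a finite reduced crystallographic root pairing over an integral domain of characteristic zero,
the additive group generated by the coroots admits the presentation with one generator [β] for each
root β and the relations [s_α(β)] = [β] − ⟨α, β^∨⟩ [α] for all roots α, β, where ⟨α, β^∨⟩ is the
Cartan integer. Concretely: the kernel of the ℤ-linear map from the free abelian group on the index
type of the roots to the coweight module sending the generator of index β to the coroot β^∨ is the
subgroup generated by the elements [s_α(β)] − [β] + ⟨α, β^∨⟩ [α]. (The source states this for the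
cocharacter lattice of a split semi-simple simply connected group, which is the group generated by
the coroots.) -/
theorem result {ι : Type u} {R : Type v} {M : Type w} {N : Type x} [CommRing R] [IsDomain R] [CharZero R]
    [AddCommGroup M] [Module R M] [AddCommGroup N] [Module R N] (P : RootPairing ι R M N)
    [Finite ι] [P.IsCrystallographic] [P.IsReduced] :
    LinearMap.ker (Finsupp.linearCombination ℤ (fun i : ι => (P.coroot i : N))) =
      Submodule.span ℤ (Set.range fun p : ι × ι =>
        Finsupp.single (P.reflectionPerm p.1 p.2) (1 : ℤ) - Finsupp.single p.2 1 +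
          P.pairingIn ℤ p.1 p.2 • Finsupp.single p.1 1) := by
  exact main P

end Groth.Agent.S19011
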