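import Groth.Statements.S19012
import Groth.Agent.H84.QForm
import Mathlib.LinearAlgebra.RootSystem.Irreducible

set_option autoImplicit false
universe u v w x
open RootD

namespace Groth.Agent.S19012

/-- Let P be a finite reduced crystallographic root pairing over a field of characteristic zero which is
irreducible, and b a base. A quadratic form on the coweight module that is invariant under all root
reflections and vanishes on some simple coroot is zero; in other words an invariant form is
determined by its value on a single simple coroot. (The source proves, component by component of the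
Dynkin diagram, that an invariant integer-valued form on the coroot lattice with prescribed value on
the first simple coroot of each component is unique; here the system is irreducible, the coroots
span the coweight module, and forms take values in the base field.) -/
theorem result {ι : Type u} {K : Type v} {M : Type w} {N : Type x} [Field K] [CharZero K]
    [AddCommGroup M] [Module K M] [AddCommGroup N] [Module K N] (P : RootPairing ι K M N)
    [Finite ι] [P.IsCrystallographic] [P.IsReduced] [P.IsIrreducible] (b : P.Base)
    (Q : QuadraticMap K N K) (hQ : ∀ (i : ι) (y : N), Q (P.coreflection i y) = Q y)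
    (i₀ : ι) (hi₀ : i₀ ∈ b.support) (h0 : Q (P.coroot i₀) = 0) : Q = 0 := by
  classical
  have hpol : ∀ j y, QuadraticMap.polar Q y (P.coroot j) = P.root' j y * Q (P.coroot j) := fun j y =>
    (Groth.Agent.H84.QForm.invariant_iff P Q j ⊤ trivial).mp (fun z _ => hQ j z) y trivial
  let Z : Set N := {c | ∃ i, c = P.coroot i ∧ Q c = 0}
  have htop : Submodule.span K Z = ⊤ := by
    refine RootPairing.IsIrreducible.eq_top_of_invtSubmodule_coreflection (P := P) _ (fun l => ?_) ?_
    · rw [Module.End.mem_invtSubmodule_iff_map_le, Submodule.map_span, Submodule.span_le]
      rintro _ ⟨_, ⟨i, rfl, hi⟩, rfl⟩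
      refine Submodule.subset_span ⟨P.reflectionPerm l i, (P.coroot_reflectionPerm l i).symm, ?_⟩
      exact (hQ l _).trans hi
    · intro h
      have hm : P.coroot i₀ ∈ Submodule.span K Z := Submodule.subset_span ⟨i₀, rfl, h0⟩
      rw [h, Submodule.mem_bot] at hm
      exact P.flip.ne_zero i₀ hm
  have key : ∀ y : N, Q y = 0 ∧ ∀ x, QuadraticMap.polar Q x y = 0 := by
    intro y
    have hy : y ∈ Submodule.span K Z := htop ▸ Submodule.mem_top
    refine Submodule.span_induction (fun w hw => ?_) ?_ (fun u v _ _ hu hv => ?_)
      (fun r u _ hu => ?_) hy
    · obtain ⟨i, rfl, hi⟩ := hw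
      exact ⟨hi, fun x => by rw [hpol, hi, mul_zero]⟩
    · exact ⟨map_zero Q, fun x => Q.polar_zero_right x⟩
    · exact ⟨by rw [QuadraticMap.map_add Q, hu.1, hv.1, hv.2 u]; simp,
        fun x => by rw [Q.polar_add_right, hu.2, hv.2, add_zero]⟩
    · exact ⟨by rw [Q.map_smul, hu.1, smul_zero], fun x => by rw [Q.polar_smul_right, hu.2, smul_zero]⟩
  exact QuadraticMap.ext fun y => (key y).1

end Groth.Agent.S19012
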