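import Groth.Statements.S19017
import Groth.Agent.Lib.Cyc.MayerVietoris

set_option autoImplicit false
universe u
open CategoryTheory AlgebraicGeometry
open IntTh

namespace Groth.Agent.S19017

/-- Let k be an arbitrary field and X a scheme separated and of finite type over k, with the dimension
function δ induced from Spec k. Let i_1 : X_1 → X and i_2 : X_2 → X be closed subschemes whose
images cover X, and let Y be their intersection: closed immersions j_1 : Y → X_1, j_2 : Y → X_2 with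
i_1 ∘ j_1 = i_2 ∘ j_2 whose image in X is the intersection of the images of X_1 and X_2. Then the
sequence CH_n(Y) → CH_n(X_1) ⊕ CH_n(X_2) → CH_n(X) → 0, with first map γ ↦ (j_{1*}γ, −j_{2*}γ) and
second map the sum of the push-forwards, is exact for every integer n: every n-cycle on X is a sum
i_{1*}α_1 + i_{2*}α_2 of n-cycles on X_1 and X_2, and whenever such a sum is rationally equivalent
to zero on X there is an n-cycle γ on Y with α_1 rationally equivalent to j_{1*}γ on X_1 and α_2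
rationally equivalent to −j_{2*}γ on X_2. (The published statement does not require the two closed
subschemes to cover X; without that requirement the surjectivity fails already for two empty closed
subschemes of a point, and the printed argument uses the covering, so it is assumed here. The
published statement also calls the sequence one of rings graded by codimension; stated here is the
additive sequence graded by dimension, which is what the printed argument gives.) -/
theorem result (k : Type u) [Field k]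
    (X : Scheme.{u}) [X.Over (Spec (CommRingCat.of k))]
    [IsSeparated (X ↘ Spec (CommRingCat.of k))] [LocallyOfFiniteType (X ↘ Spec (CommRingCat.of k))]
    [QuasiCompact (X ↘ Spec (CommRingCat.of k))]
    (δ : X → ℤ) (hδ : Cyc.DeltaCompat (X ↘ Spec (CommRingCat.of k)) δ (fun _ => 0))
    {X₁ X₂ Y : Scheme.{u}} (i₁ : X₁ ⟶ X) (i₂ : X₂ ⟶ X) [IsClosedImmersion i₁] [IsClosedImmersion i₂]
    (hcov : Set.range i₁ ∪ Set.range i₂ = Set.univ)
    (j₁ : Y ⟶ X₁) (j₂ : Y ⟶ X₂) [IsClosedImmersion j₁] [IsClosedImmersion j₂]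
    (hcomm : j₁ ≫ i₁ = j₂ ≫ i₂) (hY : Set.range (j₁ ≫ i₁) = Set.range i₁ ∩ Set.range i₂) (n : ℤ) :
    (∀ α : AlgebraicCycle X ℤ, α ∈ Cyc.Zk X δ n →
      ∃ (α₁ : AlgebraicCycle X₁ ℤ) (α₂ : AlgebraicCycle X₂ ℤ),
        α₁ ∈ Cyc.Zk X₁ (fun x => δ (i₁ x)) n ∧ α₂ ∈ Cyc.Zk X₂ (fun x => δ (i₂ x)) n ∧
        α = AlgebraicCycle.map i₁ (fun x => δ (i₁ x)) δ α₁ + AlgebraicCycle.map i₂ (fun x => δ (i₂ x)) δ α₂) ∧
    (∀ (α₁ : AlgebraicCycle X₁ ℤ) (α₂ : AlgebraicCycle X₂ ℤ),
      α₁ ∈ Cyc.Zk X₁ (fun x => δ (i₁ x)) n → α₂ ∈ Cyc.Zk X₂ (fun x => δ (i₂ x)) n →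
      Cyc.RatEquivZero δ n
        (AlgebraicCycle.map i₁ (fun x => δ (i₁ x)) δ α₁ + AlgebraicCycle.map i₂ (fun x => δ (i₂ x)) δ α₂) →
      ∃ γ : AlgebraicCycle Y ℤ, γ ∈ Cyc.Zk Y (fun y => δ (i₁ (j₁ y))) n ∧
        Cyc.RatEquiv (fun x => δ (i₁ x)) n α₁
          (AlgebraicCycle.map j₁ (fun y => δ (i₁ (j₁ y))) (fun x => δ (i₁ x)) γ) ∧
        Cyc.RatEquiv (fun x => δ (i₂ x)) n α₂
          (-AlgebraicCycle.map j₂ (fun y => δ (i₁ (j₁ y))) (fun x => δ (i₂ x)) γ)) := by
  haveI : IsLocallyNoetherian X :=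
    LocallyOfFiniteType.isLocallyNoetherian (X ↘ Spec (CommRingCat.of k))
  have hd : Cyc.IsDimFun X δ := by
    have e : δ = Groth.Agent.Lib.Cyc.FieldDim.fdelta (X ↘ Spec (CommRingCat.of k)) := funext fun x => by
      obtain ⟨m, hm, e⟩ := hδ x
      rw [Groth.Agent.Lib.Cyc.FieldDim.fdelta, e, zero_add]
      simp only [Groth.Agent.Lib.Cyc.Residue.trdegAt]
      rw [hm, Cardinal.toNat_natCast]
    rw [e]
    exact Groth.Agent.Lib.Cyc.FieldDim.isDimFun_fdelta _
  refine ⟨fun α hα => ?_, fun α₁ α₂ h₁ _ h =>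
    Groth.Agent.Lib.Cyc.MayerVietoris.exists_cycle_on_inter i₁ i₂ hcov j₁ j₂ hcomm hY hd α₁ α₂ h₁ h⟩
  classical
  let α₁ : AlgebraicCycle X₁ ℤ := ⟨fun x => α (i₁ x), fun _ _ => trivial, fun x _ => by
    obtain ⟨W, hW, hWfin⟩ := α.supportLocallyFiniteWithinDomain' (i₁ x) trivial
    exact ⟨i₁ ⁻¹' W, i₁.continuous.continuousAt.preimage_mem_nhds hW,
      (hWfin.preimage i₁.isClosedEmbedding.injective.injOn).subset fun z hz => hz⟩⟩
  let α₂ : AlgebraicCycle X₂ ℤ := ⟨fun x => if i₂ x ∈ Set.range i₁ then 0 else α (i₂ x),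
    fun _ _ => trivial, fun x _ => by
    obtain ⟨W, hW, hWfin⟩ := α.supportLocallyFiniteWithinDomain' (i₂ x) trivial
    exact ⟨i₂ ⁻¹' W, i₂.continuous.continuousAt.preimage_mem_nhds hW,
      (hWfin.preimage i₂.isClosedEmbedding.injective.injOn).subset fun z hz =>
        ⟨hz.1, fun h => hz.2 (by
          by_cases hc : i₂ z ∈ Set.range i₁
          · exact if_pos hc
          · exact (if_neg hc).trans h)⟩⟩⟩
  refine ⟨α₁, α₂, fun x hx => hα _ hx, fun x hx => ?_, ?_⟩
  · show (if _ then (0:ℤ) else α (i₂ x)) = 0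
    rw [hα _ hx, ite_self]
  · ext x
    rw [Function.locallyFinsuppWithin.coe_add, Pi.add_apply]
    by_cases h1 : x ∈ Set.range i₁
    · obtain ⟨a, rfl⟩ := h1
      rw [Groth.Agent.Lib.Cyc.Gys.Closed.map_apply_image i₁ α₁ a]
      by_cases h2 : i₁ a ∈ Set.range i₂
      · obtain ⟨b, hb⟩ := h2
        rw [← hb, Groth.Agent.Lib.Cyc.Gys.Closed.map_apply_image i₂ α₂ b]
        show α (i₂ b) = α (i₁ a) + if i₂ b ∈ Set.range i₁ then 0 else α (i₂ b)
        rw [if_pos ⟨a, hb.symm⟩, add_zero, hb]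
      · rw [Groth.Agent.Lib.Cyc.Gys.Closed.map_apply_of_not_mem i₂ α₂ h2, add_zero]
        rfl
    · obtain ⟨b, rfl⟩ := (Set.eq_univ_iff_forall.1 hcov x).resolve_left h1
      rw [Groth.Agent.Lib.Cyc.Gys.Closed.map_apply_of_not_mem i₁ α₁ h1,
        Groth.Agent.Lib.Cyc.Gys.Closed.map_apply_image i₂ α₂ b, zero_add]
      show α (i₂ b) = if i₂ b ∈ Set.range i₁ then 0 else α (i₂ b)
      rw [if_neg h1]

end Groth.Agent.S19017
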