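import Groth.Statements.S19018
import Mathlib.RingTheory.Kaehler.Basic
-- import your own Groth.Agent.* helpers here

set_option autoImplicit false
universe u
open TensorProduct
open SymTen

namespace Groth.Agent.S19018

/-- Suppose k is a field in which 2 ≠ 0 and R is a commutative k-algebra. Write I for the ideal of the
diagonal, i.e. the kernel of multiplication R ⊗_k R → R, and write S for the subalgebra of R ⊗_k R
consisting of elements invariant under interchanging the two tensor factors. Then, viewed as ideals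
of S, the swap-invariant elements of I^4 form precisely the square of the ideal of swap-invariant
elements of I^2. (The source is stated over the complex numbers; the proof needs only that 2 is
invertible.) -/
theorem result
    (k R : Type u) [Field k] [NeZero (2 : k)] [CommRing R] [Algebra k R] :
    Ideal.comap
        (AlgHom.equalizer ((Algebra.TensorProduct.comm k R R : R ⊗[k] R ≃ₐ[k] R ⊗[k] R) : R ⊗[k] R →ₐ[k] R ⊗[k] R)
          (AlgHom.id k (R ⊗[k] R))).val
        (KaehlerDifferential.ideal k R ^ 4) =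
      (Ideal.comap
        (AlgHom.equalizer ((Algebra.TensorProduct.comm k R R : R ⊗[k] R ≃ₐ[k] R ⊗[k] R) : R ⊗[k] R →ₐ[k] R ⊗[k] R)
          (AlgHom.id k (R ⊗[k] R))).val
        (KaehlerDifferential.ideal k R ^ 2)) ^ 2 := by
  classical
  let σ : R ⊗[k] R →ₐ[k] R ⊗[k] R := (Algebra.TensorProduct.comm k R R : R ⊗[k] R ≃ₐ[k] R ⊗[k] R)
  let S := AlgHom.equalizer σ (AlgHom.id k (R ⊗[k] R))
  let I := KaehlerDifferential.ideal k R
  let J : Ideal S := Ideal.comap S.val (I ^ 2)
  have hσσ : ∀ x, σ (σ x) = x := fun x => by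
    induction x using TensorProduct.induction_on with
    | zero => simp
    | tmul a b => simp [σ]
    | add a b ha hb => simp only [map_add, ha, hb]
  have hmem : ∀ x, x ∈ S ↔ σ x = x := fun x => Iff.rfl
  show Ideal.comap S.val (I ^ 4) = J ^ 2
  refine le_antisymm ?_ ?_
  · have hspan : I ^ 2 = Ideal.span (Set.image2 (· * ·)
        (Set.range fun s : R => (1 : R) ⊗ₜ[k] s - s ⊗ₜ[k] (1 : R))
        (Set.range fun s : R => (1 : R) ⊗ₜ[k] s - s ⊗ₜ[k] (1 : R))) := by
      show KaehlerDifferential.ideal k R ^ 2 = _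
      rw [pow_two, ← KaehlerDifferential.span_range_eq_ideal, Ideal.span_mul_span', ← Set.image2_mul]
    let G := Set.image2 (· * ·) (Set.range fun s : R => (1 : R) ⊗ₜ[k] s - s ⊗ₜ[k] (1 : R))
        (Set.range fun s : R => (1 : R) ⊗ₜ[k] s - s ⊗ₜ[k] (1 : R))
    have hG : ∀ g ∈ G, σ g = g ∧ g ∈ I ^ 2 := by
      rintro _ ⟨_, ⟨a, rfl⟩, _, ⟨b, rfl⟩, rfl⟩
      refine ⟨by simp [σ]; ring, ?_⟩
      rw [pow_two]
      exact Ideal.mul_mem_mul (KaehlerDifferential.one_smul_sub_smul_one_mem_ideal k a)
        (KaehlerDifferential.one_smul_sub_smul_one_mem_ideal k b)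
    have key : ∀ z ∈ I ^ 4, ∀ c, ∃ w : S, w ∈ J ^ 2 ∧ (w : R ⊗[k] R) = c * z + σ (c * z) := by
      intro z hz
      rw [show (4 : ℕ) = 2 + 2 from rfl, pow_add, hspan, Ideal.span_mul_span'] at hz
      induction hz using Submodule.span_induction with
      | mem x hx =>
        obtain ⟨g, hg, g', hg', rfl⟩ := Set.mem_mul.mp hx
        intro c
        obtain ⟨hg1, hg2⟩ := hG g hg
        obtain ⟨hg1', hg2'⟩ := hG g' hg'
        refine ⟨⟨(c + σ c) * g, (hmem _).mpr (by rw [map_mul, map_add, hσσ, hg1, add_comm])⟩ *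
          ⟨g', (hmem _).mpr hg1'⟩, ?_, ?_⟩
        · rw [pow_two]
          exact Ideal.mul_mem_mul (show (c + σ c) * g ∈ I ^ 2 from Ideal.mul_mem_left _ _ hg2) (show g' ∈ I ^ 2 from hg2')
        · show (c + σ c) * g * g' = _
          rw [map_mul, map_mul, hg1, hg1']
          ring
      | zero => exact fun c => ⟨0, zero_mem _, by simp⟩
      | add a b _ _ ha hb =>
        intro c
        obtain ⟨w, hw, hw'⟩ := ha c
        obtain ⟨v, hv, hv'⟩ := hb c
        exact ⟨w + v, add_mem hw hv, by rw [mul_add, map_add]; push_cast; rw [hw', hv']; ring⟩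
      | smul r a _ ha =>
        intro c
        obtain ⟨w, hw, hw'⟩ := ha (c * r)
        exact ⟨w, hw, by rw [hw', smul_eq_mul, mul_assoc]⟩
    intro x hx
    obtain ⟨w, hw, hw'⟩ := key x.1 hx 1
    have hw2 : w = 2 * x := Subtype.ext (by
      rw [hw', one_mul, show σ x.1 = x.1 from x.2]
      push_cast
      exact (two_mul x.1).symm)
    have h2 : IsUnit (2 : S) := by
      have := (IsUnit.mk0 (2 : k) (NeZero.ne 2)).map (algebraMap k S)
      rwa [map_ofNat] at this
    rw [hw2] at hw
    exact (Ideal.unit_mul_mem_iff_mem _ h2).mp hw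
  · rw [pow_two, Ideal.mul_le]
    intro a ha b hb
    show (a.1 * b.1) ∈ I ^ 4
    rw [show (4 : ℕ) = 2 + 2 from rfl, pow_add]
    exact Ideal.mul_mem_mul ha hb

end Groth.Agent.S19018
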