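import Groth.Statements.S1902
import Groth.Agent.Lib.Cyc.PP.P1Stalk

set_option autoImplicit false
universe u
open CategoryTheory AlgebraicGeometry
open CategoryTheory.Limits
open Cyc

namespace Groth.Agent.S1902

/-- Let Z → P^1_X be a closed immersion with δP ≤ k + 1 on Z, δP ≤ k at the points of Z lying on Z_0 or
Z_∞, and such that every associated point ζ of Z (a point where the maximal ideal of O_{Z,ζ} is an
associated prime of O_{Z,ζ}) either lies on neither section or has δP(ζ) < k. Then [Z_0]_k ∼_rat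
[Z_∞]_k on X. (The published statement asks the last condition only of embedded points of Z; in that
form it fails when an irreducible component of Z of δ-dimension k lies inside Z_0 or Z_∞ — for X the
spectrum of a field, k = 0 and Z the point 0 of P^1_X one gets [Z_0]_0 = [X] but [Z_∞]_0 = 0 — so
what is required here is that no point of Z_0 ∪ Z_∞ with δP = k is an associated point of Z.) Here
P^1_X → X is the projective line over X with its dimension function δP induced from δ, s₀, s_∞ : X →
P^1_X are the sections at 0 and ∞, and for a closed subscheme Z → P^1_X the closed subschemes Z_0,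
Z_∞ → X are its pullbacks along the two sections. Here a pair (X, δ) satisfying Cyc.IsSetup (X
locally Noetherian with universally catenary local rings, δ a dimension function) plays the role of
a scheme locally of finite type over a fixed base equipped with a dimension function, and
Cyc.DeltaCompat records that the dimension function on P^1_X is the induced one. -/
theorem result (X : Scheme.{u}) (δ : X → ℤ) (hX : Cyc.IsSetup X δ) (δP : ↥(CohB1.ProjSpaceOver 1 X) → ℤ) (hP : Cyc.DeltaCompat (CohB1.ProjSpaceOver.toBase 1 X) δP δ) (k : ℤ) (Z : Scheme.{u}) (ι : Z ⟶ CohB1.ProjSpaceOver 1 X) [IsClosedImmersion ι] (hZ : ∀ z : Z, δP (ι z) ≤ k + 1) (hZ0 : ∀ z : Z, ι z ∈ Set.range ⇑(P1.sect X 0) ∪ Set.range ⇑(P1.sect X 1) → δP (ι z) ≤ k) (hemb : ∀ z : Z, IsAssociatedPrime (IsLocalRing.maximalIdeal (Z.presheaf.stalk z)) (Z.presheaf.stalk z) → ι z ∉ Set.range ⇑(P1.sect X 0) ∪ Set.range ⇑(P1.sect X 1) ∨ δP (ι z) < k) (α β : AlgebraicCycle X ℤ) (hα : ⇑α = Cyc.subschemeFun δ k (pullback.snd ι (P1.sect X 0))) (hβ : ⇑β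 = Cyc.subschemeFun δ k (pullback.snd ι (P1.sect X 1))) : Cyc.RatEquiv δ k α β := by
  haveI := hX.1
  haveI : IsLocallyNoetherian (CohB1.ProjSpaceOver 1 X) :=
    LocallyOfFiniteType.isLocallyNoetherian (CohB1.ProjSpaceOver.toBase 1 X)
  have hd := fun i x => Groth.Agent.Lib.Cyc.PP.P1Push.delta_sect (δ := δ) hP i x
  haveI : IsLocallyNoetherian Z := LocallyOfFiniteType.isLocallyNoetherian ι
  have hcoh : Coh.IsCoh ((Coh.push ι).obj (Coh.structureModule Z)) :=
    Groth.Agent.Lib.Cyc.PP.Push.isCoh_push ι (Groth.Agent.Lib.Snapper.Twist.isCoh_structureModule Z)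
  have hrange : ∀ p, Nontrivial (((Coh.push ι).obj (Coh.structureModule Z)).presheaf.stalk p) →
      p ∈ Set.range ι := fun p hp => by
    by_contra h
    haveI := Groth.Agent.Lib.Cyc.PP.P1Stalk.subsingleton_push_stalk ι h
    exact not_subsingleton _ this
  refine Groth.Agent.Lib.Cyc.PP.P1Sheaf.ratEquiv hX hP hcoh (fun p hp => ?_) (fun i x hx => ?_)
    (fun i x hx hass => ?_) (fun x => ?_) (fun x => ?_)
  · obtain ⟨z, rfl⟩ := hrange p hp
    exact hZ z
  · obtain ⟨z, hz⟩ := hrange _ hx
    rw [← hd i x, ← hz]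
    refine hZ0 z ?_
    rw [hz]
    fin_cases i
    · exact Or.inl ⟨x, rfl⟩
    · exact Or.inr ⟨x, rfl⟩
  · obtain ⟨z, hz⟩ := hrange (P1.sect X i x) (by
      by_contra hn
      rw [not_nontrivial_iff_subsingleton] at hn
      haveI := hn
      obtain ⟨v, hv⟩ := hass.2
      exact hass.1.ne_top (hv.trans (Ideal.radical_eq_top.2 (eq_top_iff.2 fun r _ =>
        Submodule.mem_colon_singleton.2 ((Submodule.mem_bot _).2 (Subsingleton.elim _ _))))))
    have hassz : IsAssociatedPrime (IsLocalRing.maximalIdeal ((CohB1.ProjSpaceOver 1 X).presheaf.stalk (ι z)))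
        (((Coh.push ι).obj (Coh.structureModule Z)).presheaf.stalk (ι z)) := by rw [hz]; exact hass
    letI := (ι.stalkMap z).hom.toAlgebra
    obtain ⟨e⟩ := Groth.Agent.Lib.Cyc.PP.P1Stalk.exists_push_structure_stalk ι z
    obtain ⟨-, v, hv⟩ := isAssociatedPrime_iff.1 (hassz.map_of_injective e.toLinearMap e.injective)
    have hassZ : IsAssociatedPrime (IsLocalRing.maximalIdeal (Z.presheaf.stalk z)) (Z.presheaf.stalk z) := by
      refine isAssociatedPrime_iff.2 ⟨inferInstance, v, ?_⟩
      ext b
      obtain ⟨a, rfl⟩ := ι.stalkMap_surjective z b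
      have hloc : (ι.stalkMap z).hom a ∈ IsLocalRing.maximalIdeal (Z.presheaf.stalk z) ↔
          a ∈ IsLocalRing.maximalIdeal ((CohB1.ProjSpaceOver 1 X).presheaf.stalk (ι z)) := by
        rw [IsLocalRing.mem_maximalIdeal, IsLocalRing.mem_maximalIdeal, mem_nonunits_iff,
          mem_nonunits_iff, isUnit_map_iff]
      refine hloc.trans ?_
      rw [hv, Submodule.mem_colon_singleton, Submodule.mem_colon_singleton]
      rfl
    rcases hemb z hassZ with h | h
    · refine h ?_
      rw [hz]
      fin_cases i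
      · exact Or.inl ⟨x, rfl⟩
      · exact Or.inr ⟨x, rfl⟩
    · rw [hz, hd i x, hx] at h
      exact lt_irrefl _ h
  · rw [hα, Groth.Agent.Lib.Cyc.PP.P1Stalk.subschemeFun_eq]
  · rw [hβ, Groth.Agent.Lib.Cyc.PP.P1Stalk.subschemeFun_eq]

end Groth.Agent.S1902
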