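import Groth.Statements.S19022
import Groth.Agent.Lib.TensorMod.QCohInv
import Groth.Agent.Lib.TensorMod.GenLocal

set_option autoImplicit false
universe u
open CategoryTheory AlgebraicGeometry
open PicF
open Groth.Agent.Lib.TensorMod.Dual Groth.Agent.Lib.TensorMod.Gen

namespace Groth.Agent.S19022

/-- A point of an affine open lies in the basic open of a section iff the section avoids its prime. -/
lemma mem_basicOpen_iff {X : Scheme.{u}} {U : X.Opens} (hU : IsAffineOpen U) {x : X} (hx : x ∈ U)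
    (g : Γ(X, U)) : x ∈ X.basicOpen g ↔ g ∉ (hU.primeIdealOf ⟨x, hx⟩).asIdeal := by
  have h := hU.fromSpec_preimage_basicOpen g
  have hp := hU.fromSpec_primeIdealOf ⟨x, hx⟩
  constructor
  · intro hxg
    have h1 : hU.primeIdealOf ⟨x, hx⟩ ∈ hU.fromSpec ⁻¹ᵁ X.basicOpen g := by
      change hU.fromSpec (hU.primeIdealOf ⟨x, hx⟩) ∈ X.basicOpen g
      rwa [hp]
    rw [h] at h1
    exact h1
  · intro hg
    have h1 : hU.primeIdealOf ⟨x, hx⟩ ∈ hU.fromSpec ⁻¹ᵁ X.basicOpen g := by
      rw [h]; exact hg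
    change hU.fromSpec (hU.primeIdealOf ⟨x, hx⟩) ∈ X.basicOpen g at h1
    rwa [hp] at h1

/-- Functions separating finitely many closed points of an affine open. -/
lemma exists_separating {X : Scheme.{u}} {U : X.Opens} (hU : IsAffineOpen U) (T : Finset X)
    (hT : ∀ x ∈ T, IsClosed ({x} : Set X)) (hTU : ∀ x ∈ T, x ∈ U) (x : {y // y ∈ T}) :
    ∃ a : Γ(X, U), x.1 ∈ X.basicOpen a ∧ ∀ y : {y // y ∈ T}, y ≠ x → y.1 ∉ X.basicOpen a := by
  classical
  let p : {y // y ∈ T} → Ideal Γ(X, U) := fun y => (hU.primeIdealOf ⟨y.1, hTU y.1 y.2⟩).asIdeal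
  have hmax : ∀ y, (p y).IsMaximal := fun y =>
    hU.primeIdealOf_isMaximal_of_isClosed ⟨y.1, hTU y.1 y.2⟩ (hT y.1 y.2)
  have hinj : Function.Injective p := fun y z h => by
    have h' : hU.primeIdealOf ⟨y.1, hTU y.1 y.2⟩ = hU.primeIdealOf ⟨z.1, hTU z.1 z.2⟩ :=
      PrimeSpectrum.ext h
    have := congrArg hU.fromSpec h'
    rw [hU.fromSpec_primeIdealOf, hU.fromSpec_primeIdealOf] at this
    exact Subtype.ext this
  have hb : ∀ y, y ≠ x → ∃ b, b ∈ p y ∧ b ∉ p x := fun y hy =>
    SetLike.not_le_iff_exists.1 fun hle => hy (hinj ((hmax y).eq_of_le (hmax x).ne_top hle))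
  choose b hby hbx using hb
  refine ⟨∏ y ∈ Finset.univ.erase x, if h : y = x then 1 else b y h, ?_, fun y hy => ?_⟩
  · rw [mem_basicOpen_iff hU (hTU x.1 x.2)]
    intro hmem
    obtain ⟨y, hy, hy'⟩ := (hmax x).isPrime.prod_mem_iff.1 hmem
    rw [dif_neg (Finset.ne_of_mem_erase hy)] at hy'
    exact hbx y _ hy'
  · rw [mem_basicOpen_iff hU (hTU y.1 y.2), not_not]
    refine Ideal.mem_of_dvd _ (Finset.dvd_prod_of_mem _ (Finset.mem_erase.2 ⟨hy, Finset.mem_univ y⟩)) ?_
    rw [dif_neg hy]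
    exact hby y hy

/-- The separating combination does not vanish at `x`. -/
lemma sum_mem_basicOpen {X : Scheme.{u}} {D : X.Opens} {ι : Type*} [Fintype ι] {x : X} (hx : x ∈ D)
    (i : ι) (c : ι → Γ(X, D)) (hi : x ∈ X.basicOpen (c i))
    (hne : ∀ j, j ≠ i → x ∉ X.basicOpen (c j)) : x ∈ X.basicOpen (∑ j, c j) := by
  classical
  rw [Scheme.mem_basicOpen X _ x hx] at hi ⊢
  rw [map_sum, ← Finset.add_sum_erase _ _ (Finset.mem_univ i)]
  by_contra hnu
  have h2 : (∑ j ∈ Finset.univ.erase i, (X.presheaf.germ D x hx) (c j)) ∈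
      IsLocalRing.maximalIdeal (X.presheaf.stalk x) :=
    Submodule.sum_mem _ fun j hj => by
      rw [IsLocalRing.mem_maximalIdeal]
      exact fun hu => hne j (Finset.ne_of_mem_erase hj)
        ((Scheme.mem_basicOpen X _ x hx).2 hu)
  have h3 := (IsLocalRing.mem_maximalIdeal _).2 hnu
  exact ((IsLocalRing.mem_maximalIdeal _).1 (by simpa using Submodule.sub_mem _ h3 h2)) hi

lemma rs_sum {X : Scheme.{u}} (M : X.Modules) {V W : X.Opens} (h : V ≤ W) {ι : Type*}
    (t : Finset ι) (f : ι → Γ(M, W)) : rs M h (∑ j ∈ t, f j) = ∑ j ∈ t, rs M h (f j) :=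
  map_sum (M.presheaf.map (homOfLE h).op).hom f t


/-- Let X be a scheme, L an invertible O_X-module and T a finite set of closed points of X that lies in
some affine open of X. Then T lies in an affine open U of X on which L is trivial (L restricted to U
is isomorphic to the structure sheaf). (The source states this for a smooth quasi-projective complex
surface, where every finite set of points lies in an affine open, and phrases it as: X^n and the
symmetric product S^n X are covered by the opens U^n and S^n U with U affine and L trivial on U; the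
printed argument uses only that the finitely many points lie in one affine open, which is taken as
the hypothesis here.) -/
theorem result
    (X : Scheme.{u}) (L : X.Modules) (hL : PicF.IsInvertible L)
    (T : Finset X) (hT : ∀ x ∈ T, IsClosed ({x} : Set X))
    (hU : ∃ U : X.Opens, IsAffineOpen U ∧ ∀ x ∈ T, x ∈ U) :
    ∃ U : X.Opens, IsAffineOpen U ∧ (∀ x ∈ T, x ∈ U) ∧
      Nonempty (L.restrict U.ι ≅ Coh.structureModule (↑U : Scheme.{u})) := by
  classical
  obtain ⟨U, hUa, hTU⟩ := hU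
  have := Groth.Agent.Lib.TensorMod.QCohInv.isQCoh_of_isInvertible hL
  -- local data at each point
  have hloc : ∀ x : {y // y ∈ T}, ∃ (f : Γ(X, U)) (e : Γ(L, X.basicOpen f)) (t : Γ(L, U))
      (c : Γ(X, X.basicOpen f)), x.1 ∈ X.basicOpen f ∧ IsGen L (X.basicOpen f) e ∧
      rs L (X.basicOpen_le f) t = c • e ∧ x.1 ∈ X.basicOpen c := by
    intro x
    obtain ⟨V, e, hxV, he⟩ := isInvertible_iff.1 hL x.1
    obtain ⟨f, hfV, hxf⟩ := hUa.exists_basicOpen_le ⟨x.1, hxV⟩ (hTU x.1 x.2)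
    obtain ⟨n, t, ht⟩ :=
      (Groth.Agent.Lib.QCoh.Localizing.localizes_of_isAffineOpen L hUa f).ext' (rs L hfV e)
    refine ⟨f, rs L hfV e, t, rf (X.basicOpen_le f) f ^ n, hxf, he.res hfV, ht, ?_⟩
    rw [Scheme.mem_basicOpen X _ x.1 hxf, map_pow]
    refine IsUnit.pow n ?_
    rw [← Scheme.mem_basicOpen X _ x.1 hxf, rf, Scheme.basicOpen_res]
    exact ⟨hxf, hxf⟩
  choose f e t c hxf hgen htc hxc using hloc
  choose a hax hane using exists_separating hUa T hT hTU
  let s : Γ(L, U) := ∑ j, a j • t j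
  -- `s` generates near every point of `T`
  have hs : ∀ x : {y // y ∈ T}, ∃ (V : X.Opens) (hV : V ≤ U), x.1 ∈ V ∧ IsGen L V (rs L hV s) := by
    intro x
    let D := X.basicOpen (f x)
    have hD : D ≤ U := X.basicOpen_le _
    have hb : ∀ j, ∃ b : Γ(X, D), b • e x = rs L hD (t j) := fun j => by
      obtain ⟨b, hb⟩ := (hgen x D le_rfl).2 (rs L hD (t j))
      exact ⟨b, by simpa only [rs_self] using hb⟩
    choose b hb using hb
    have hbx : b x = c x := by
      refine (hgen x D le_rfl).1 ?_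
      simp only [rs_self]
      exact (hb x).trans (htc x)
    have hsum : rs L hD s = (∑ j, rf hD (a j) * b j) • e x := by
      rw [rs_sum, Finset.sum_smul]
      refine Finset.sum_congr rfl fun j _ => ?_
      rw [rs_smul, ← hb j, smul_smul]
    have hmem : x.1 ∈ X.basicOpen (∑ j, rf hD (a j) * b j) := by
      refine sum_mem_basicOpen (hxf x) x _ ?_ fun j hj hmem => hane j x hj.symm ?_
      · rw [Scheme.basicOpen_mul, rf, Scheme.basicOpen_res, hbx]
        exact ⟨⟨hxf x, hax x⟩, hxc x⟩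
      · rw [Scheme.basicOpen_mul, rf, Scheme.basicOpen_res] at hmem
        exact hmem.1.2
    refine ⟨X.basicOpen (∑ j, rf hD (a j) * b j), (X.basicOpen_le _).trans hD, hmem, ?_⟩
    rw [← rs_rs L hD (X.basicOpen_le _) s, hsum, rs_smul]
    exact Groth.Agent.Lib.TensorMod.GenLocal.isGen_smul ((hgen x).res _)
      (RingedSpace.isUnit_res_basicOpen X.toLocallyRingedSpace.toRingedSpace _)
  choose V hVU hxV hVgen using hs
  -- a basic open around `T` inside the locus where `s` generates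
  let G : X.Opens := ⨆ x, V x
  have hg : ∀ x : {y // y ∈ T}, ∃ g : Γ(X, U), x.1 ∈ X.basicOpen g ∧ X.basicOpen g ≤ G := fun x => by
    obtain ⟨g, hg, hxg⟩ := hUa.exists_basicOpen_le (V := G)
      ⟨x.1, TopologicalSpace.Opens.mem_iSup.2 ⟨x, hxV x⟩⟩ (hTU x.1 x.2)
    exact ⟨g, hxg, hg⟩
  choose g hxg hgG using hg
  let g₀ : Γ(X, U) := ∑ j, a j * g j
  refine ⟨X.basicOpen g₀, hUa.basicOpen g₀, fun x hx => ?_, ?_⟩
  · refine sum_mem_basicOpen (hTU x hx) ⟨x, hx⟩ _ ?_ fun j hj hmem => hane j ⟨x, hx⟩ hj.symm ?_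
    · rw [Scheme.basicOpen_mul]
      exact ⟨hax ⟨x, hx⟩, hxg ⟨x, hx⟩⟩
    · rw [Scheme.basicOpen_mul] at hmem
      exact hmem.1
  · refine exists_iso_of_gen (e := rs L (X.basicOpen_le g₀) s)
      (Groth.Agent.Lib.TensorMod.GenLocal.isGen_of_forall_exists fun y hy => ?_)
    obtain ⟨j, hj⟩ : ∃ j, y ∈ X.basicOpen (g j) := by
      by_contra hno
      have hyU : y ∈ U := X.basicOpen_le _ hy
      refine (mem_basicOpen_iff hUa hyU g₀).1 hy (Submodule.sum_mem _ fun j _ => ?_)
      refine Ideal.mul_mem_left _ _ (not_not.1 fun h => hno ⟨j, ?_⟩)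
      exact (mem_basicOpen_iff hUa hyU (g j)).2 h
    obtain ⟨i, hi⟩ := TopologicalSpace.Opens.mem_iSup.1 (hgG j hj)
    refine ⟨X.basicOpen g₀ ⊓ V i, inf_le_left, ⟨hy, hi⟩, ?_⟩
    rw [rs_rs, ← rs_rs L (hVU i) inf_le_right]
    exact (hVgen i).res _

end Groth.Agent.S19022
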