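import Groth.Statements.S19025
import Mathlib.Tactic.Ring
import Mathlib.Algebra.BigOperators.Ring.Finset
-- import your own Groth.Agent.* helpers here

set_option autoImplicit false
universe u
open HigherRestr

namespace Groth.Agent.S19025

/-- The error term. -/
def err {S : Type u} [CommRing S] (g₀ g₁ : S) (N : ℕ) (y : ℕ → S) : S :=
  (fwdDiff (1 : ℕ))^[N] (fun j : ℕ => g₀ ^ (N - j) * g₁ ^ j * y j) 0 -
    g₀ ^ N * (fwdDiff (1 : ℕ))^[N] y 0

lemma iter_congr {S : Type u} [CommRing S] {N : ℕ} {f g : ℕ → S} (h : ∀ j ≤ N, f j = g j) :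
    (fwdDiff (1 : ℕ))^[N] f 0 = (fwdDiff (1 : ℕ))^[N] g 0 := by
  rw [fwdDiff_iter_eq_sum_shift, fwdDiff_iter_eq_sum_shift]
  refine Finset.sum_congr rfl fun j hj => ?_
  have hj' : j ≤ N := Nat.lt_succ_iff.mp (Finset.mem_range.mp hj)
  simp only [smul_eq_mul, mul_one, zero_add]
  rw [h j hj']

lemma iter_linear {S : Type u} [CommRing S] (N : ℕ) (a b : S) (f g : ℕ → S) (x : ℕ) :
    (fwdDiff (1 : ℕ))^[N] (fun j => a * f j + b * g j) x =
      a * (fwdDiff (1 : ℕ))^[N] f x + b * (fwdDiff (1 : ℕ))^[N] g x := by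
  simp only [fwdDiff_iter_eq_sum_shift, zsmul_eq_mul]
  rw [Finset.mul_sum, Finset.mul_sum, ← Finset.sum_add_distrib]
  exact Finset.sum_congr rfl fun j _ => by ring

lemma iter_shift {S : Type u} [CommRing S] (N : ℕ) (f : ℕ → S) (x : ℕ) :
    (fwdDiff (1 : ℕ))^[N] (fun j => f (j + 1)) x = (fwdDiff (1 : ℕ))^[N] f (x + 1) := by
  simp only [fwdDiff_iter_eq_sum_shift]
  exact Finset.sum_congr rfl fun j _ => by rw [add_right_comm]

lemma err_succ {S : Type u} [CommRing S] (g₀ g₁ : S) (N : ℕ) (y : ℕ → S) :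
    err g₀ g₁ (N + 1) y = g₀ * err g₀ g₁ N (fwdDiff (1 : ℕ) y) +
      (g₁ - g₀) * err g₀ g₁ N (fun j => y (j + 1)) +
      (g₁ - g₀) * g₀ ^ N * (fwdDiff (1 : ℕ))^[N] y 1 := by
  have h1 : (fwdDiff (1 : ℕ))^[N] (fwdDiff (1 : ℕ) (fun j : ℕ => g₀ ^ (N + 1 - j) * g₁ ^ j * y j)) 0 =
      g₀ * (fwdDiff (1 : ℕ))^[N] (fun j : ℕ => g₀ ^ (N - j) * g₁ ^ j * fwdDiff (1 : ℕ) y j) 0 +
      (g₁ - g₀) * (fwdDiff (1 : ℕ))^[N] (fun j : ℕ => g₀ ^ (N - j) * g₁ ^ j * y (j + 1)) 0 := by
    rw [← iter_linear]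
    refine iter_congr fun j hj => ?_
    simp only [fwdDiff]
    rw [show N + 1 - (j + 1) = N - j by omega, show N + 1 - j = N - j + 1 by omega]
    ring
  simp only [err, Function.iterate_succ_apply]
  rw [h1, iter_shift N y 0]
  ring

lemma err_mem {S : Type u} [CommRing S] (I : Ideal S) (g₀ g₁ : S) (hg : g₁ - g₀ ∈ I) :
    ∀ (N k : ℕ) (y : ℕ → S),
      (∀ i : ℕ, 1 ≤ i → i ≤ N → (fwdDiff (1 : ℕ))^[N - i] y i ∈ I ^ (N - i + k)) →
        err g₀ g₁ N y ∈ I ^ (N + k)
  | 0, k, y, _ => by simp [err]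
  | N + 1, k, y, h => by
    rw [err_succ]
    refine add_mem (add_mem (Ideal.mul_mem_left _ _ ?_) ?_) ?_
    · rw [show N + 1 + k = N + (k + 1) by omega]
      refine err_mem I g₀ g₁ hg N (k + 1) _ fun i hi hiN => ?_
      have := h i hi (by omega)
      rw [show N + 1 - i = N - i + 1 by omega, Function.iterate_succ_apply] at this
      rwa [show N - i + (k + 1) = N - i + 1 + k by omega]
    · rw [show N + 1 + k = 1 + (N + k) by omega, pow_add, pow_one]
      refine Ideal.mul_mem_mul hg (err_mem I g₀ g₁ hg N k _ fun i hi hiN => ?_)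
      have := h (i + 1) (by omega) (by omega)
      rw [iter_shift]
      rwa [show N + 1 - (i + 1) = N - i by omega] at this
    · rw [mul_assoc, show N + 1 + k = 1 + (N + k) by omega, pow_add, pow_one]
      refine Ideal.mul_mem_mul hg (Ideal.mul_mem_left _ _ ?_)
      have := h 1 le_rfl (by omega)
      rwa [show N + 1 - 1 = N by omega] at this

/-- In abstract form, the estimate its proof establishes. Let S be a commutative ring, I an ideal of S,
g₀ and g₁ elements with g₁ - g₀ ∈ I, N a natural number and y a sequence in S such that, for 1 ≤ i ≤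
N, the (N-i)-fold unit-step forward difference of y taken at i lies in I^(N-i). Then g₀^N times the
N-fold forward difference of y at 0, minus the N-fold forward difference at 0 of the twisted
sequence j ↦ g₀^(N-j) g₁^j y_j, lies in I^N. (In the source S is the ring of functions on an affine
chart of X^n, I the ideal of a pairwise diagonal, g₀ and g₁ the two pullbacks of a transition unit
of L, and y_j the components x_λ along the compositions a₀^(N-j) a₁^j μ; the estimate is what makes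
the higher order restrictions D^l_L well defined on ker D^(l-1)_L independently of the
trivialisation.) -/
theorem result
    (S : Type u) [CommRing S] (I : Ideal S) (g₀ g₁ : S) (hg : g₁ - g₀ ∈ I)
    (N : ℕ) (y : ℕ → S)
    (hy : ∀ i : ℕ, 1 ≤ i → i ≤ N → (fwdDiff (1 : ℕ))^[N - i] y i ∈ I ^ (N - i)) :
    g₀ ^ N * (fwdDiff (1 : ℕ))^[N] y 0 -
        (fwdDiff (1 : ℕ))^[N] (fun j : ℕ => g₀ ^ (N - j) * g₁ ^ j * y j) 0 ∈ I ^ N := by
  have h := err_mem I g₀ g₁ hg N 0 y fun i hi hiN => by simpa using hy i hi hiN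
  rw [add_zero, err] at h
  rw [← neg_sub]
  exact neg_mem h

end Groth.Agent.S19025
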