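import Groth.Statements.S19033

import Groth.Agent.Lib.LabGraph.BI
import Mathlib.Algebra.BigOperators.Ring.Finset
import Mathlib.Data.Int.LeastGreatest
import Mathlib.Data.Fintype.Lattice

set_option autoImplicit false
universe u
open LabGraph

namespace Groth.Agent.S19033

open LabGraph in
/-- Let X be a quasi-wp-stable curve of genus g ≥ 2 over an algebraically closed field, encoded by a
weighted multigraph: vertices are the irreducible components C_v, with the weight w v and the loops
at v chosen so that w v plus the number of loops at v is the arithmetic genus of C_v; two distinct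
components are joined by one edge for each node and by two edges for each tacnode at which they
meet. For a set Y of vertices (a subcurve) canDeg Y is then deg_Y ω_X = 2 g_Y − 2 + k_Y and cut Y is
k_Y, the length of the intersection of Y with its complementary subcurve; a vertex is exceptional
(weight zero, loopless, exactly two edges to other vertices) exactly when C_v is an exceptional
component; the twist of the indicator function of Y is the multidegree Σ_{C ⊆ Y} C of the degree
class group construction; and the graph is a connected quasistable graph. Let d, d' be properly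
balanced multidegrees of the same total degree D (each satisfies the Basic Inequality 2·|K·d_Y −
D·canDeg Y| ≤ cut Y·K for every Y, where K = 2g − 2 = canDeg of the whole graph, and takes the value
1 on every exceptional vertex), with d strictly balanced: for every nonempty proper Y with d_Y equal
to the upper extreme, i.e. 2(K·d_Y − D·canDeg Y) = K·cut Y, every edge with exactly one endpoint in
Y has an exceptional endpoint. Suppose d' = d + Σ_i twist(1_{Z_i}) for nested vertex sets Z_1 ⊆ ⋯ ⊆
Z_m, each with d at its upper extreme, such that for j < i no edge joins a vertex of Z_j to a vertex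
outside Z_i. Then d = d'. (The source assumes only that d − d' lies in the lattice generated by the
multidegrees of the components and takes the existence of such a nested family from an earlier paper
it cites without proof; this row carries that description as its hypothesis.) -/
theorem result {V E : Type u} [Fintype V] [Fintype E]
    [DecidableEq V] [DecidableEq E] (ends : E → V × V) (w : V → ℕ) (hX : IsQuasistableGraph ends w)
    (hg : 2 ≤ genus ends w) (d d' : V → ℤ) (hD : ∑ v, d v = ∑ v, d' v)
    (hBI : SatisfiesBI ends w d) (hBI' : SatisfiesBI ends w d')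
    (hone : ∀ v : V, IsExceptional ends w v → d v = 1) (hone' : ∀ v : V, IsExceptional ends w v → d' v = 1)
    (hstrict : ∀ Y : Finset V, Y.Nonempty → Y ≠ Finset.univ →
      2 * (canDeg ends w Finset.univ * (∑ v ∈ Y, d v) - (∑ v, d v) * canDeg ends w Y)
          = (cut ends Y : ℤ) * canDeg ends w Finset.univ →
      ∀ e : E, (((ends e).1 ∈ Y ∧ (ends e).2 ∉ Y) ∨ ((ends e).1 ∉ Y ∧ (ends e).2 ∈ Y)) →
        (IsExceptional ends w (ends e).1 ∨ IsExceptional ends w (ends e).2))
    (m : ℕ) (Z : Fin m → Finset V) (hmono : ∀ i j : Fin m, i ≤ j → Z i ⊆ Z j)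
    (hext : ∀ i : Fin m, 2 * (canDeg ends w Finset.univ * (∑ v ∈ Z i, d v) - (∑ v, d v) * canDeg ends w (Z i))
          = (cut ends (Z i) : ℤ) * canDeg ends w Finset.univ)
    (hsep : ∀ i j : Fin m, j < i → ∀ e : E,
      ¬ (((ends e).1 ∈ Z j ∧ (ends e).2 ∉ Z i) ∨ ((ends e).2 ∈ Z j ∧ (ends e).1 ∉ Z i)))
    (hsum : ∀ v : V, d' v = d v + ∑ i : Fin m, twist ends (fun u => if u ∈ Z i then (1 : ℤ) else 0) v) :
    d = d' := by
  open LabGraph Lib.LabGraph.BI in
  have hG : 1 ≤ canDeg ends w Finset.univ := by rw [canDeg_univ]; omega
  let h : V → ℤ := fun v => ∑ i : Fin m, ind (Z i) v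
  have htw : ∀ v, d' v = d v + twist ends h v := fun v => by
    rw [hsum v, twist_sum]
    rfl
  have huniq : ∀ e i j, j < i → ¬ ind (Z i) (ends e).1 = ind (Z i) (ends e).2 →
      ind (Z j) (ends e).1 = ind (Z j) (ends e).2 := by
    intro e i j hji hi
    have hs := hsep i j hji e
    have h1 := @hmono j i hji.le (ends e).1
    have h2 := @hmono j i hji.le (ends e).2
    revert hi hs
    simp only [ind]
    by_cases ha : (ends e).1 ∈ Z j <;> by_cases hb : (ends e).2 ∈ Z j <;>
      by_cases hc : (ends e).1 ∈ Z i <;> by_cases hd : (ends e).2 ∈ Z i <;>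
      simp_all
  have hdiff : ∀ e i, ¬ ind (Z i) (ends e).1 = ind (Z i) (ends e).2 →
      h (ends e).1 - h (ends e).2 = ind (Z i) (ends e).1 - ind (Z i) (ends e).2 := by
    intro e i hi
    simp only [h, ← Finset.sum_sub_distrib]
    refine Finset.sum_eq_single i (fun j _ hne => sub_eq_zero.2 ?_) (fun hn => absurd (Finset.mem_univ i) hn)
    rcases lt_or_gt_of_ne hne with hlt | hgt
    · exact huniq e i j hlt hi
    · by_contra hj
      exact hi (huniq e j i hgt hj)
  have hzero : ∀ v, IsExceptional ends w v → twist ends h v = 0 := fun v hv => by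
    have := htw v
    rw [hone v hv, hone' v hv] at this
    linarith
  -- the key impossibility
  have hkey : ∀ v, IsExceptional ends w v → ∀ i e, ((ends e).1 = v ∧ (ends e).2 ∈ Z i ∨
      (ends e).2 = v ∧ (ends e).1 ∈ Z i) → v ∉ Z i → False := by
    intro v hv i e hev hvZ
    obtain ⟨e₁, e₂, hne, he⟩ := exceptional_edges hv
    -- the other edge
    obtain ⟨e', hne', he'⟩ : ∃ e', e ≠ e' ∧ (∀ x, ((ends x).1 = v ∨ (ends x).2 = v) ↔ x = e ∨ x = e') := by
      rcases (he e).1 (hev.imp And.left And.left) with rfl | rfl
      · exact ⟨e₂, hne, he⟩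
      · exact ⟨e₁, hne.symm, fun x => (he x).trans or_comm⟩
    have hloop := hv.2.1
    obtain ⟨a, hav, haZ, hea⟩ : ∃ a, a ≠ v ∧ a ∈ Z i ∧ (ends e = (v, a) ∨ ends e = (a, v)) := by
      rcases hev with ⟨h1, h2⟩ | ⟨h1, h2⟩
      · exact ⟨_, fun h => hvZ (h ▸ h2), h2, Or.inl (Prod.ext h1 rfl)⟩
      · exact ⟨_, fun h => hvZ (h ▸ h2), h2, Or.inr (Prod.ext rfl h1)⟩
    obtain ⟨b, hbv, heb⟩ : ∃ b, b ≠ v ∧ (ends e' = (v, b) ∨ ends e' = (b, v)) := by
      rcases (he' e').2 (Or.inr rfl) with h1 | h1
      · exact ⟨_, fun h => hloop e' (Prod.ext h1 h), Or.inl (Prod.ext h1 rfl)⟩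
      · exact ⟨_, fun h => hloop e' (Prod.ext h h1), Or.inr (Prod.ext rfl h1)⟩
    have ht : twist ends h v = (h a - h v) + (h b - h v) := by
      rw [twist, sum_exceptional hne' he']
      · rcases hea with h1 | h1 <;> rcases heb with h2 | h2 <;> simp [h1, h2, hav, hbv]
      · intro x hx
        push Not at hx
        simp [hx.1, hx.2]
    have hd1 : h a - h v = 1 := by
      rcases hea with h1 | h1
      · have := hdiff e i (by simp [h1, ind, haZ, hvZ])
        simp [h1, ind, haZ, hvZ] at this
        linarith
      · have := hdiff e i (by simp [h1, ind, haZ, hvZ])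
        simp [h1, ind, haZ, hvZ] at this
        linarith
    by_cases hbZ : b ∈ Z i
    · have hd2 : h b - h v = 1 := by
        rcases heb with h1 | h1
        · have := hdiff e' i (by simp [h1, ind, hbZ, hvZ])
          simp [h1, ind, hbZ, hvZ] at this
          linarith
        · have := hdiff e' i (by simp [h1, ind, hbZ, hvZ])
          simp [h1, ind, hbZ, hvZ] at this
          linarith
      rw [hzero v hv] at ht
      linarith
    -- `Z i ∪ {v}` violates the Basic Inequality
    have hcut : (cut ends (insert v (Z i)) : ℤ) = cut ends (Z i) := by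
      rw [← sub_eq_zero, cut_eq_sum, cut_eq_sum, ← Finset.sum_sub_distrib, sum_exceptional hne' he']
      · rcases hea with h1 | h1 <;> rcases heb with h2 | h2 <;>
          simp [h1, h2, ind, hav, hbv, haZ, hbZ, hvZ]
      · intro x hx
        push Not at hx
        simp [ind, Finset.mem_insert, hx.1, hx.2]
    have hB := hBI (insert v (Z i))
    rw [Finset.sum_insert hvZ, hone v hv, hcut] at hB
    have hc : canDeg ends w (insert v (Z i)) = canDeg ends w (Z i) := by
      have h0 := canDeg_exceptional hv
      simp only [canDeg, Finset.sum_singleton] at h0 ⊢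
      rw [Finset.sum_insert hvZ, h0, zero_add]
    rw [hc] at hB
    have := hext i
    have := le_abs_self (canDeg ends w Finset.univ * (1 + ∑ x ∈ Z i, d x) -
      (∑ x, d x) * canDeg ends w (Z i))
    nlinarith
  have hflat : ∀ e, h (ends e).1 = h (ends e).2 := by
    intro e
    by_contra hne
    obtain ⟨i, hi⟩ : ∃ i, ¬ ind (Z i) (ends e).1 = ind (Z i) (ends e).2 := by
      by_contra hc
      push Not at hc
      exact hne (Finset.sum_congr rfl fun i _ => hc i)
    have hcr : ((ends e).1 ∈ Z i ∧ (ends e).2 ∉ Z i) ∨ ((ends e).1 ∉ Z i ∧ (ends e).2 ∈ Z i) := by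
      revert hi
      simp only [ind]
      by_cases h1 : (ends e).1 ∈ Z i <;> by_cases h2 : (ends e).2 ∈ Z i <;> simp [h1, h2]
    have hne0 : (Z i).Nonempty := hcr.elim (fun h => ⟨_, h.1⟩) (fun h => ⟨_, h.2⟩)
    have hneu : Z i ≠ Finset.univ := fun h => by simp [h] at hcr
    -- an exceptional endpoint `v` with other end `a`
    obtain ⟨v, a, hv, hea, hor⟩ : ∃ v a, IsExceptional ends w v ∧
        (ends e = (v, a) ∨ ends e = (a, v)) ∧ (v ∉ Z i ∧ a ∈ Z i ∨ v ∈ Z i ∧ a ∉ Z i) := by
      rcases hstrict _ hne0 hneu (hext i) e hcr with hv | hv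
      · exact ⟨_, _, hv, Or.inl rfl, by tauto⟩
      · exact ⟨_, _, hv, Or.inr rfl, by tauto⟩
    rcases hor with ⟨hvZ, haZ⟩ | ⟨hvZ, haZ⟩
    · refine hkey v hv i e ?_ hvZ
      rcases hea with h1 | h1 <;> simp [h1, haZ]
    · obtain ⟨e₁, e₂, hne12, he⟩ := exceptional_edges hv
      -- the other edge goes up
      have hd1 : h a - h v = -1 := by
        rcases hea with h1 | h1
        · have := hdiff e i (by simp [h1, ind, haZ, hvZ])
          simp [h1, ind, haZ, hvZ] at this
          linarith
        · have := hdiff e i (by simp [h1, ind, haZ, hvZ])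
          simp [h1, ind, haZ, hvZ] at this
          linarith
      have ht := hzero v hv
      obtain ⟨e', b, heb, hb⟩ : ∃ e' b, (ends e' = (v, b) ∨ ends e' = (b, v)) ∧ h v < h b := by
        by_contra hc
        push Not at hc
        have : twist ends h v < 0 := by
          rw [twist]
          refine Finset.sum_neg' (fun x _ => ?_) ⟨e, Finset.mem_univ _, ?_⟩
          · have hx1 := fun p : (ends x).1 = v => hc x (ends x).2 (Or.inl (Prod.ext p rfl))
            have hx2 := fun p : (ends x).2 = v => hc x (ends x).1 (Or.inr (Prod.ext rfl p))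
            split_ifs with p q q <;> simp_all
            all_goals linarith
          · have hloop := hv.2.1 e
            rcases hea with h1 | h1 <;> simp only [h1] <;>
              (split_ifs <;> simp_all) <;> linarith
        linarith
      obtain ⟨k, hk⟩ : ∃ k, ind (Z k) v < ind (Z k) b := by
        by_contra hc
        push Not at hc
        exact absurd hb (not_lt.2 (Finset.sum_le_sum fun k _ => hc k))
      have hkv : v ∉ Z k ∧ b ∈ Z k := by
        revert hk
        simp only [ind]
        by_cases h1 : v ∈ Z k <;> by_cases h2 : b ∈ Z k <;> simp [h1, h2]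
      refine hkey v hv k e' ?_ hkv.1
      rcases heb with h1 | h1 <;> simp [h1, hkv.2]
  funext v
  rw [htw v, twist]
  simp [hflat]


end Groth.Agent.S19033
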