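import Groth.Statements.S19034

import Groth.Agent.Lib.LabGraph.BI
import Mathlib.Algebra.BigOperators.Ring.Finset
import Mathlib.Data.Int.LeastGreatest
import Mathlib.Data.Fintype.Lattice

set_option autoImplicit false
universe u
open LabGraph

namespace Groth.Agent.S19034

open LabGraph in
/-- Let σ : Z → X be the contraction of some exceptional components of a quasi-wp-stable curve Z of
genus g ≥ 2 onto a quasi-wp-stable curve X, and d a properly balanced multidegree on X; then the
pull-back d̃ of d to Z (d̃_W = d_{σ(W)} when σ(W) is a curve, d̃ = 0 on contracted components) is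
balanced. Encode Z by its weighted multigraph (vertices = irreducible components, weight plus number
of loops = arithmetic genus of the component, one edge per node and two per tacnode joining distinct
components; canDeg Y = deg_Y ω_Z, cut Y = k_Y, K = canDeg of all vertices = 2g − 2; exceptional
vertex = exceptional component), and let S be the set of contracted components, each an exceptional
vertex. The components of X are the vertices outside S; for a set W of them, the subcurve σ(W) of X
has deg ω_X equal to canDeg Ŵ and k equal to cut Ŵ, where Ŵ is W together with the vertices of S all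
of whose edges end in W, and the exceptional components of X are the exceptional vertices outside S.
So the hypotheses below say that d̃ vanishes on S and that d = d̃|_{V∖S} is properly balanced on X
(Basic Inequality 2·|K·d_W − D·canDeg Ŵ| ≤ cut Ŵ·K for every W disjoint from S, D the total degree,
and value 1 on exceptional vertices outside S); the conclusion is the Basic Inequality for d̃ on Z,
for every set of vertices. -/
theorem result {V E : Type u} [Fintype V] [Fintype E]
    [DecidableEq V] [DecidableEq E] (ends : E → V × V) (w : V → ℕ) (hZ : IsQuasistableGraph ends w)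
    (hg : 2 ≤ genus ends w) (S : Finset V) (hS : ∀ v ∈ S, IsExceptional ends w v)
    (dt : V → ℤ) (hzero : ∀ v ∈ S, dt v = 0)
    (hBI : ∀ W : Finset V, Disjoint W S →
      2 * |canDeg ends w Finset.univ * (∑ v ∈ W, dt v) - (∑ v, dt v) * canDeg ends w (Finset.univ.filter (fun v : V => v ∈ W ∨ (v ∈ S ∧ ∀ e : E, ((ends e).1 = v → (ends e).2 ∈ W) ∧ ((ends e).2 = v → (ends e).1 ∈ W))))|
        ≤ (cut ends (Finset.univ.filter (fun v : V => v ∈ W ∨ (v ∈ S ∧ ∀ e : E, ((ends e).1 = v → (ends e).2 ∈ W) ∧ ((ends e).2 = v → (ends e).1 ∈ W)))) : ℤ) * canDeg ends w Finset.univ)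
    (hone : ∀ v : V, v ∉ S → IsExceptional ends w v → dt v = 1) :
    SatisfiesBI ends w dt := by
  open LabGraph Lib.LabGraph.BI in
  intro Y
  have hadj : ∀ e, (ends e).1 ∈ S → (ends e).2 ∈ S → False := fun e h1 h2 => by
    have hne : (ends e).1 ≠ (ends e).2 := fun h => (hS _ h1).2.1 e (Prod.ext rfl h.symm)
    exact hZ.2 e hne ⟨hS _ h1, hS _ h2⟩
  set W := Y \ S with hW
  set W' := Finset.univ.filter (fun v : V => v ∈ W ∨ (v ∈ S ∧ ∀ e : E,
    ((ends e).1 = v → (ends e).2 ∈ W) ∧ ((ends e).2 = v → (ends e).1 ∈ W))) with hW'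
  have hb : 2 * |canDeg ends w Finset.univ * (∑ v ∈ W, dt v) - (∑ v, dt v) * canDeg ends w W'|
      ≤ (cut ends W' : ℤ) * canDeg ends w Finset.univ := hBI W Finset.sdiff_disjoint
  have hc0 : ∀ v ∈ S, (2 * (w v : ℤ) - 2 + (endCount ends Finset.univ v : ℤ)) = 0 := fun v hv => by
    simpa [canDeg] using canDeg_exceptional (hS v hv)
  have hd : ∑ v ∈ W, dt v = ∑ v ∈ Y, dt v := by
    refine Finset.sum_subset Finset.sdiff_subset fun v hvY hvW => hzero v ?_
    by_contra h
    exact hvW (Finset.mem_sdiff.2 ⟨hvY, h⟩)
  have hcan : canDeg ends w W' = canDeg ends w Y := by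
    have h1 : canDeg ends w W = canDeg ends w W' := by
      refine Finset.sum_subset (fun v hv => by simp [hW', hv]) fun v hv hvW => hc0 v ?_
      simp only [hW', Finset.mem_filter] at hv
      tauto
    rw [← h1]
    refine Finset.sum_subset Finset.sdiff_subset fun v hvY hvW => hc0 v ?_
    by_contra h
    exact hvW (Finset.mem_sdiff.2 ⟨hvY, h⟩)
  have hcut : (cut ends W' : ℤ) ≤ cut ends Y := by
    let g : E → ℤ := fun e => |ind Y (ends e).1 - ind Y (ends e).2| -
      |ind W' (ends e).1 - ind W' (ends e).2|
    have hout : ∀ v, v ∉ S → ind W' v = ind Y v := fun v hv => by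
      simp [ind, hW', hW, hv]
    have h1 : ∀ e, g e = ∑ s ∈ S, if (ends e).1 = s ∨ (ends e).2 = s then g e else 0 := by
      intro e
      by_cases ha : (ends e).1 ∈ S
      · rw [Finset.sum_eq_single (ends e).1]
        · simp
        · intro s hs hne
          rw [if_neg]
          rintro (h | h)
          · exact hne h.symm
          · exact hadj e ha (h ▸ hs)
        · exact fun h => (h ha).elim
      · by_cases hb : (ends e).2 ∈ S
        · rw [Finset.sum_eq_single (ends e).2]
          · simp
          · intro s hs hne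
            rw [if_neg]
            rintro (h | h)
            · exact ha (h ▸ hs)
            · exact hne h.symm
          · exact fun h => (h hb).elim
        · simp [g, hout _ ha, hout _ hb]
    suffices 0 ≤ ∑ e, g e by
      simp only [g, Finset.sum_sub_distrib, ← cut_eq_sum] at this
      linarith
    rw [Finset.sum_congr rfl fun e _ => h1 e, Finset.sum_comm]
    refine Finset.sum_nonneg fun s hs => ?_
    obtain ⟨e₁, e₂, hne, he⟩ := exceptional_edges (hS s hs)
    rw [sum_exceptional hne he _ (fun e h => if_neg h), if_pos ((he e₁).2 (Or.inl rfl)),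
      if_pos ((he e₂).2 (Or.inr rfl))]
    -- neighbours
    have hnb : ∀ e, ((ends e).1 = s ∨ (ends e).2 = s) → ∃ b, b ∉ S ∧
        (g e = |ind Y s - ind Y b| - |ind W' s - ind Y b|) ∧
        ((((ends e).1 = s → (ends e).2 ∈ W) ∧ ((ends e).2 = s → (ends e).1 ∈ W)) ↔ b ∈ Y) := by
      intro e hor
      have hloop := (hS s hs).2.1 e
      rcases hor with h | h
      · have hb : (ends e).2 ∉ S := fun h2 => hadj e (h ▸ hs) h2
        refine ⟨_, hb, ?_, ?_⟩
        · simp only [g, hout _ hb, h]
        · have : (ends e).2 ≠ s := fun h2 => hb (h2 ▸ hs)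
          simp [hW, h, this, hb]
      · have hb : (ends e).1 ∉ S := fun h2 => hadj e h2 (h ▸ hs)
        refine ⟨_, hb, ?_, ?_⟩
        · simp only [g, hout _ hb, h]
          rw [abs_sub_comm (ind Y (ends e).1), abs_sub_comm (ind Y (ends e).1)]
        · have : (ends e).1 ≠ s := fun h2 => hb (h2 ▸ hs)
          simp [hW, h, this, hb]
    obtain ⟨b₁, -, g₁, i₁⟩ := hnb e₁ ((he e₁).2 (Or.inl rfl))
    obtain ⟨b₂, -, g₂, i₂⟩ := hnb e₂ ((he e₂).2 (Or.inr rfl))
    have hmem : s ∈ W' ↔ b₁ ∈ Y ∧ b₂ ∈ Y := by
      simp only [hW', hW, Finset.mem_filter, Finset.mem_univ, true_and, Finset.mem_sdiff, hs,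
        not_true, and_false, false_or]
      refine ⟨fun h => ⟨i₁.1 (by simpa [hW] using h e₁), i₂.1 (by simpa [hW] using h e₂)⟩,
        fun h e => ?_⟩
      by_cases hor : (ends e).1 = s ∨ (ends e).2 = s
      · rcases (he e).1 hor with rfl | rfl
        · simpa [hW] using i₁.2 h.1
        · simpa [hW] using i₂.2 h.2
      · exact ⟨fun h1 => (hor (Or.inl h1)).elim, fun h1 => (hor (Or.inr h1)).elim⟩
    rw [g₁, g₂]
    simp only [ind, hmem]
    by_cases k1 : s ∈ Y <;> by_cases k2 : b₁ ∈ Y <;> by_cases k3 : b₂ ∈ Y <;> simp [k1, k2, k3]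
  rw [hd, hcan] at hb
  refine hb.trans (mul_le_mul_of_nonneg_right hcut ?_)
  rw [canDeg_univ]; omega


end Groth.Agent.S19034
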