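import Groth.Statements.S19035
import Mathlib

set_option autoImplicit false
universe u v w x
open CAlg

namespace Groth.Agent.S19035

/-- Let p be a prime and k a perfect field of characteristic p. Let (A_i) be a directed system of
finitely generated commutative k-algebras, indexed by a nonempty directed preorder, with compatible
k-algebra transition maps, and let B be a finitely generated k-algebra with compatible k-algebra
maps A_i → B which present B as the direct limit of the system (every element of B is the image of
an element of some A_i, and two elements of some A_i with the same image in B have the same image in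
some A_j). Then the p-typical Witt vectors commute with this direct limit: every Witt vector over B
is the image of a Witt vector over some A_i, and two Witt vectors over some A_i with the same image
over B already have the same image over some A_j. (Both finiteness hypotheses matter: for an
arbitrary filtered direct limit of commutative rings either assertion can fail.) -/
theorem result
    (p : ℕ) [Fact p.Prime] (k : Type u) [Field k] [CharP k p] [PerfectRing k p]
    {ι : Type v} [Preorder ι] [IsDirected ι (· ≤ ·)] [Nonempty ι]
    (A : ι → Type w) [∀ i, CommRing (A i)] [∀ i, Algebra k (A i)]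
    [∀ i, Algebra.FiniteType k (A i)]
    (f : ∀ i j, i ≤ j → (A i →ₐ[k] A j))
    (hf : ∀ i j l (hij : i ≤ j) (hjl : j ≤ l) (x : A i),
      f j l hjl (f i j hij x) = f i l (hij.trans hjl) x)
    (B : Type x) [CommRing B] [Algebra k B] [Algebra.FiniteType k B]
    (g : ∀ i, A i →ₐ[k] B)
    (hfg : ∀ i j (hij : i ≤ j) (x : A i), g j (f i j hij x) = g i x)
    (hsurj : ∀ b : B, ∃ i, ∃ x : A i, g i x = b)
    (hinj : ∀ i (x y : A i), g i x = g i y → ∃ j, ∃ hij : i ≤ j, f i j hij x = f i j hij y) :
    (∀ w : WittVector p B, ∃ i, ∃ v : WittVector p (A i),
        WittVector.map (g i).toRingHom v = w) ∧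
    (∀ i (v v' : WittVector p (A i)),
        WittVector.map (g i).toRingHom v = WittVector.map (g i).toRingHom v' →
        ∃ j, ∃ hij : i ≤ j,
          WittVector.map (f i j hij).toRingHom v = WittVector.map (f i j hij).toRingHom v') := by
  classical
  constructor
  · intro w
    obtain ⟨s, hs⟩ := Algebra.FiniteType.out (R := k) (A := B)
    choose ia xa hxa using hsurj
    obtain ⟨i, hi⟩ := (s.image ia).exists_le
    refine ⟨i, ?_⟩
    have hsu : Function.Surjective (g i) := by
      rw [← AlgHom.range_eq_top, eq_top_iff, ← hs]
      refine Algebra.adjoin_le fun b hb => ?_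
      exact ⟨f _ _ (hi _ (Finset.mem_image_of_mem ia hb)) (xa b), by
        show g i (f _ _ _ (xa b)) = b
        rw [hfg, hxa]⟩
    exact WittVector.map_surjective _ hsu w
  · intro i v v' h
    haveI : IsNoetherianRing (A i) := Algebra.FiniteType.isNoetherianRing k (A i)
    obtain ⟨s, hs⟩ := IsNoetherian.noetherian (RingHom.ker (g i).toRingHom : Ideal (A i))
    have hs0 : ∀ x ∈ s, g i x = g i 0 := fun x hx => by
      rw [map_zero]
      exact (hs ▸ Submodule.subset_span hx : x ∈ RingHom.ker (g i).toRingHom)
    choose ja hja hja' using fun (x : {x // x ∈ s}) => hinj i x 0 (hs0 x x.2)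
    obtain ⟨j, hj⟩ := (insert i (s.attach.image ja)).exists_le
    have hij : i ≤ j := hj i (Finset.mem_insert_self _ _)
    refine ⟨j, hij, ?_⟩
    have hker : RingHom.ker (g i).toRingHom ≤ RingHom.ker (f i j hij).toRingHom := by
      rw [← hs, Ideal.submodule_span_eq, Ideal.span_le]
      intro x hx
      show f i j hij x = 0
      have hle := hj (ja ⟨x, hx⟩) (Finset.mem_insert_of_mem (Finset.mem_image_of_mem ja (Finset.mem_attach s ⟨x, hx⟩)))
      rw [← hf i _ j (hja ⟨x, hx⟩) hle x, hja' ⟨x, hx⟩, map_zero, map_zero]
    ext n
    rw [WittVector.map_coeff, WittVector.map_coeff, ← sub_eq_zero, ← map_sub]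
    refine RingHom.mem_ker.mp (hker ?_)
    rw [RingHom.mem_ker, map_sub, sub_eq_zero, ← WittVector.map_coeff, ← WittVector.map_coeff, h]

end Groth.Agent.S19035
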