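import Groth.Statements.S19037
import Mathlib.LinearAlgebra.DFinsupp
import Mathlib.Algebra.DirectSum.Decomposition

set_option autoImplicit false
universe u v
open scoped Polynomial LaurentPolynomial
open Instab

namespace Groth.Agent.S19037

/-- Affine form over a ring R. Let A be a commutative ℤ-graded R-algebra and t an element of degree −1
(so A is a graded algebra over R[t] with t in degree −1), and let ψ : A[1/t] → R[T, T⁻¹] be an
R-algebra map sending t to T which is graded, in the sense that each homogeneous element of degree n
of A goes to an element of R times T^(−n). Then ψ is obtained by inverting t from an R-algebra map χ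
: A → R[T] (compared through the inclusion of R[T] in R[T, T⁻¹]) if and only if ψ kills t·a for
every homogeneous a of degree 1; such a χ is unique. (The source states this for quasi-coherent
graded algebras over an arbitrary base scheme; the statement is local on the base and is given here
over an affine base.) -/
theorem result
    {R : Type u} {A : Type v} [CommRing R] [CommRing A] [Algebra R A]
    (𝒜 : ℤ → Submodule R A) [GradedAlgebra 𝒜] (t : A) (ht : t ∈ 𝒜 (-1))
    (ψ : Localization.Away t →ₐ[R] R[T;T⁻¹])
    (hψt : ψ (algebraMap A (Localization.Away t) t) = LaurentPolynomial.T 1)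
    (hψ : ∀ (n : ℤ) (a : A), a ∈ 𝒜 n →
      ∃ r : R, ψ (algebraMap A (Localization.Away t) a) = LaurentPolynomial.C r * LaurentPolynomial.T (-n)) :
    (∃! χ : A →ₐ[R] R[X], ∀ a : A,
        ψ (algebraMap A (Localization.Away t) a) = Polynomial.toLaurentAlg (χ a)) ↔
      ∀ a ∈ 𝒜 1, ψ (algebraMap A (Localization.Away t) (t * a)) = 0 := by
  classical
  let φ : A →ₐ[R] R[T;T⁻¹] := ψ.comp (IsScalarTower.toAlgHom R A (Localization.Away t))
  have hφ : ∀ a, φ a = ψ (algebraMap A (Localization.Away t) a) := fun a => rfl
  have hT : ∀ n : ℤ, IsUnit (LaurentPolynomial.T n : R[T;T⁻¹]) := fun n => LaurentPolynomial.isUnit_T n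
  constructor
  · rintro ⟨χ, hχ, -⟩ a ha
    obtain ⟨r, hr⟩ := hψ 1 a ha
    have h : Polynomial.toLaurent (χ a) = LaurentPolynomial.C r * LaurentPolynomial.T (-1) := by
      rw [← hr, hχ a]; rfl
    have h2 : Polynomial.toLaurent (χ a * Polynomial.X) = Polynomial.toLaurent (Polynomial.C r) := by
      rw [map_mul, h, Polynomial.toLaurent_X, mul_assoc, ← LaurentPolynomial.T_add, Polynomial.toLaurent_C]
      simp
    have h3 := congrArg (fun q => Polynomial.coeff q 0) (Polynomial.toLaurent_injective h2)
    simp at h3
    rw [map_mul, map_mul, hr, ← h3]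
    simp
  · intro h
    have hzero : ∀ (n : ℕ) (a : A), a ∈ 𝒜 ((n : ℤ) + 1) → φ a = 0 := by
      intro n
      induction n with
      | zero =>
        intro a ha
        have h1 := h a (by simpa using ha)
        rw [map_mul, map_mul, hψt] at h1
        exact (hT 1).mul_right_eq_zero.1 h1
      | succ n ih =>
        intro a ha
        have h1 := ih (t * a) (by
          have := SetLike.GradedMul.mul_mem ht ha
          rwa [show -1 + (((n + 1 : ℕ) : ℤ) + 1) = (n : ℤ) + 1 by push_cast; ring] at this)
        rw [map_mul, hφ t, hψt] at h1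
        exact (hT 1).mul_right_eq_zero.1 h1
    have hrange : ∀ a, φ a ∈ (Polynomial.toLaurentAlg (R := R)).range := by
      intro a
      induction a using DirectSum.Decomposition.inductionOn 𝒜 with
      | zero => rw [map_zero]; exact zero_mem _
      | add a b ha hb => rw [map_add]; exact add_mem ha hb
      | @homogeneous n a =>
        rcases le_or_gt n 0 with hn | hn
        · obtain ⟨r, hr⟩ := hψ n a a.2
          obtain ⟨m, hm⟩ : ∃ m : ℕ, -n = m := ⟨(-n).toNat, by omega⟩
          refine ⟨Polynomial.C r * Polynomial.X ^ m, ?_⟩
          rw [hφ, hr, hm]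
          exact Polynomial.toLaurent_C_mul_X_pow m r
        · obtain ⟨m, hm⟩ : ∃ m : ℕ, n = m + 1 := ⟨(n - 1).toNat, by omega⟩
          rw [hzero m a (hm ▸ a.2)]
          exact zero_mem _
    let e := AlgEquiv.ofInjective (Polynomial.toLaurentAlg (R := R)) Polynomial.toLaurent_injective
    refine ⟨e.symm.toAlgHom.comp (φ.codRestrict _ hrange), fun a => ?_, fun χ' hχ' => AlgHom.ext fun a => ?_⟩
    · exact (congrArg Subtype.val (e.apply_symm_apply ⟨φ a, hrange a⟩)).symm
    · refine Polynomial.toLaurent_injective ?_
      exact (hχ' a).symm.trans (congrArg Subtype.val (e.apply_symm_apply ⟨φ a, hrange a⟩)).symm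

end Groth.Agent.S19037
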