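import Groth.Statements.S19041
import Groth.Agent.Lib.H58GcMod
-- import your own Groth.Agent.* helpers here

set_option autoImplicit false
universe u
open Dieu

namespace Groth.Agent.S19041

/-- Let `k` be a perfect field of characteristic `2` and `c` a natural number, and consider the explicit
`2c`-dimensional `k`-space on `X_1, …, X_c, Y_1, …, Y_c` with its operators `F` and `V` (`F Y_j =
0`; `F X_j = X_{j/2}` for `j` even and `Y_{c-(j-1)/2}` for `j` odd; `V Y_j = Y_{2j}` when `2j ≤ c`,
else `0`; `V X_j = Y_{2c-2j+1}` when `2j > c`, else `0`). For `j = 2^e l` with `l` odd and `c < 2j ≤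
2c`, and for `j'` with `c < 2j' ≤ 2c` and `n` with `2^n (2c - 2j' + 1) = c - (l-1)/2`, one has
`F^{e+1} X_j + V^{n+1} X_{j'} = 0`. (Stated over any perfect field of characteristic `2`; the source
works over an algebraically closed one.) -/
theorem result (c : ℕ) (k : Type u) [Field k] [CharP k 2] [PerfectRing k 2]
    (j e l : ℕ) (hj : j = 2 ^ e * l) (hl : Odd l) (hjc : j ≤ c) (hcj : c < 2 * j)
    (j' n : ℕ) (hj'c : j' ≤ c) (hcj' : c < 2 * j') (hn : 2 ^ n * (2 * c - 2 * j' + 1) = c - (l - 1) / 2) :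
    (W4c6eohyperellchar2.F c k)^[e + 1] (W4c6eohyperellchar2.X c k j) + (W4c6eohyperellchar2.V c k)^[n + 1] (W4c6eohyperellchar2.X c k j') = 0 := by
  open Groth.Agent.Lib.H58GcMod in
  subst hj
  obtain ⟨a, rfl⟩ := hl
  have hF : ∀ t : ℕ, 2 ^ t * (2 * a + 1) ≤ c →
      (W4c6eohyperellchar2.F c k)^[t] (W4c6eohyperellchar2.X c k (2 ^ t * (2 * a + 1))) =
        W4c6eohyperellchar2.X c k (2 * a + 1) := by
    intro t
    induction t with
    | zero => simp
    | succ t ih =>
      intro h
      rw [pow_succ', mul_assoc] at h ⊢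
      have hpos : 1 ≤ 2 ^ t * (2 * a + 1) := Nat.one_le_iff_ne_zero.2 (mul_ne_zero (by simp) (by omega))
      rw [Function.iterate_succ_apply, F_X_even hpos h]
      exact ih (by omega)
  have hV : ∀ t m : ℕ, 1 ≤ m → 2 ^ t * m ≤ c →
      (W4c6eohyperellchar2.V c k)^[t] (W4c6eohyperellchar2.Y c k m) = W4c6eohyperellchar2.Y c k (2 ^ t * m) := by
    intro t
    induction t with
    | zero => simp
    | succ t ih =>
      intro m h1 h
      rw [pow_succ, mul_assoc] at h ⊢
      have : 1 * m ≤ 2 ^ t * m := Nat.mul_le_mul_right m Nat.one_le_two_pow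
      have h2 : 2 ^ t * m ≤ 2 ^ t * (2 * m) := Nat.mul_le_mul_left _ (by omega)
      rw [Function.iterate_succ_apply, V_Y h1 (by omega)]
      exact ih (2 * m) (by omega) h
  have hl' : 2 * a + 1 ≤ c := le_trans (Nat.le_mul_of_pos_left _ (Nat.two_pow_pos e)) hjc
  rw [Function.iterate_succ_apply', hF e hjc, F_X_odd hl', Function.iterate_succ_apply,
    V_X (by omega) hj'c, hV n _ (by omega) (by omega), hn, show (2 * a + 1 - 1) / 2 = a by omega]
  refine Prod.ext ?_ ?_ <;> funext i <;> simp only [Prod.fst_add, Prod.snd_add, Pi.add_apply] <;>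
    exact CharTwo.add_self_eq_zero _

end Groth.Agent.S19041
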