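import Groth.Statements.S19043
import Groth.Agent.Lib.H58GcMod
-- import your own Groth.Agent.* helpers here

set_option autoImplicit false
universe u
open Dieu

namespace Groth.Agent.S19043

/-- Let `k` be a perfect field of characteristic `2` and `c` a natural number, and let `M` be the
explicit `2c`-dimensional `k`-space on `X_1, …, X_c, Y_1, …, Y_c` with its operators `F` and `V` (`F
Y_j = 0`; `F X_j = X_{j/2}` for `j` even and `Y_{c-(j-1)/2}` for `j` odd; `V Y_j = Y_{2j}` when `2j
≤ c`, else `0`; `V X_j = Y_{2c-2j+1}` when `2j > c`, else `0`). The classes of the `X_j` with `c <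
2j ≤ 2c` in the quotient of `M` by the `k`-span of `F(M) ∪ V(M)` are linearly independent and span
that quotient. (Stated over any perfect field of characteristic `2`; the source works over an
algebraically closed one.) -/
theorem result (c : ℕ) (k : Type u) [Field k] [CharP k 2] [PerfectRing k 2] :
    LinearIndependent k (fun j : {j : ℕ // c < 2 * j ∧ j ≤ c} =>
        Submodule.mkQ (Submodule.span k (Set.range (W4c6eohyperellchar2.F c k) ∪ Set.range (W4c6eohyperellchar2.V c k))) (W4c6eohyperellchar2.X c k j.1)) ∧
      Submodule.span k (Set.range (fun j : {j : ℕ // c < 2 * j ∧ j ≤ c} =>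
        Submodule.mkQ (Submodule.span k (Set.range (W4c6eohyperellchar2.F c k) ∪ Set.range (W4c6eohyperellchar2.V c k))) (W4c6eohyperellchar2.X c k j.1))) = ⊤ := by
  open Groth.Agent.Lib.H58GcMod in
  open W4c6eohyperellchar2 in
  set Q : Submodule k (GcMod c k) := Submodule.span k (Set.range (F c k) ∪ Set.range (V c k))
  constructor
  · let π : GcMod c k →ₗ[k] ({j : ℕ // c < 2 * j ∧ j ≤ c} → k) :=
      LinearMap.pi fun j => (LinearMap.proj (⟨j.1 - 1, by have := j.2; omega⟩ : Fin c)).comp
        (LinearMap.fst k (Fin c → k) (Fin c → k))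
    have hle : Q ≤ LinearMap.ker π := by
      rw [Submodule.span_le]
      rintro _ (⟨v, rfl⟩ | ⟨v, rfl⟩) <;> refine LinearMap.mem_ker.2 (funext fun j => ?_)
      · have := j.2
        show coefX v (2 * (j.1 - 1 + 1)) ^ 2 = 0
        rw [coefX, dif_neg (by omega)]
        exact zero_pow two_ne_zero
      · rfl
    refine LinearIndependent.of_comp (Q.liftQ π hle) ?_
    have key : (fun j : {j : ℕ // c < 2 * j ∧ j ≤ c} => π (X c k j.1)) = fun j => Pi.single j (1 : k) := by
      funext j i
      have := i.2
      have := j.2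
      show (X c k j.1).1 ⟨i.1 - 1, _⟩ = _
      by_cases h : i = j
      · subst h
        simp only [X, Pi.single_eq_same]
        rw [if_pos (by omega)]
      · have h' : i.1 ≠ j.1 := fun e => h (Subtype.ext e)
        simp only [X, Pi.single_eq_of_ne h]
        rw [if_neg (by omega)]
    show LinearIndependent k (fun j : {j : ℕ // c < 2 * j ∧ j ≤ c} => π (X c k j.1))
    rw [key]
    exact Pi.linearIndependent_single_one _ k
  · rw [← top_le_iff]
    intro x _
    obtain ⟨v, rfl⟩ := Submodule.mkQ_surjective Q x
    set S := Submodule.span k (Set.range (fun j : {j : ℕ // c < 2 * j ∧ j ≤ c} => Q.mkQ (X c k j.1)))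
    have hQ : ∀ w ∈ Q, w ∈ S.comap Q.mkQ := fun w hw => by
      rw [Submodule.mem_comap, (Submodule.Quotient.mk_eq_zero Q).2 hw |> fun h => (show Q.mkQ w = 0 from h)]
      exact zero_mem _
    have htop := top_of_stable (c := c) (k := k) (S.comap Q.mkQ)
      (fun w _ => hQ _ (Submodule.subset_span (Or.inl ⟨w, rfl⟩)))
      (fun w _ => hQ _ (Submodule.subset_span (Or.inr ⟨w, rfl⟩)))
      (fun j h1 h2 => Submodule.subset_span ⟨⟨j, h1, h2⟩, rfl⟩)
    exact (SetLike.ext_iff.1 htop v).2 trivial

end Groth.Agent.S19043
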