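import Groth.Statements.S19044
import Groth.Agent.S12587
import Groth.Agent.H81.ASGenus

set_option autoImplicit false
universe u v w
open FunFld

namespace Groth.Agent.S19044

open Groth.Agent.Lib.FunFld Groth.Agent.H81 in
/-- A point of the affine line carries one place. -/
theorem place_unique {k : Type u} [Field k] (α : k) (P Q : _root_.FunFld.Place k (RatFunc k))
    (hP : P.1 ((RatFunc.X : RatFunc k) - RatFunc.C α) < 1) (hQ : Q.1 ((RatFunc.X : RatFunc k) - RatFunc.C α) < 1) :
    P = Q := by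
  have hι : algebraMap (Polynomial k) (RatFunc k) (Polynomial.X - Polynomial.C α) = RatFunc.X - RatFunc.C α := by
    rw [map_sub, RatFunc.algebraMap_X, RatFunc.algebraMap_C]
  have hp := Polynomial.irreducible_X_sub_C α
  rw [← hι] at hP hQ
  refine Place.place_eq_of_O_le fun z hz => ?_
  have hXP := RatPlace.X_nonneg_of_irreducible P hp hP
  have hXQ := RatPlace.X_nonneg_of_irreducible Q hp hQ
  have hQd : Q.ord (algebraMap (Polynomial k) (RatFunc k) z.denom) = 0 := by
    refine RatPlace.ord_eq_zero_of_isCoprime Q hp hQ ((hp.coprime_iff_not_dvd).2 fun hdvd => ?_)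
    have hn : z.num ≠ 0 := fun h => by
      rw [RatFunc.num_eq_zero_iff.1 h, RatFunc.denom_zero] at hdvd
      exact hp.not_isUnit (isUnit_of_dvd_one hdvd)
    have h0 := RatPlace.ord_eq_zero_of_isCoprime P hp hP
      ((z.isCoprime_num_denom.symm).of_isCoprime_of_dvd_left hdvd)
    obtain ⟨c, hc⟩ := hdvd
    have hc0 : c ≠ 0 := fun h => z.denom_ne_zero (by rw [hc, h, mul_zero])
    have hz' : P.1 z ≤ 1 := hz
    rw [Place.val_le_one_iff, ← z.num_div_denom, Place.ord_div P (RatPlace.ι_ne_zero hn)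
      (RatPlace.ι_ne_zero z.denom_ne_zero), h0, hc, map_mul, Place.ord_mul P (RatPlace.ι_ne_zero hp.ne_zero)
      (RatPlace.ι_ne_zero hc0), RatPlace.ord_irreducible P hp hP] at hz'
    have := RatPlace.ord_nonneg_of_X P hXP c
    omega
  show Q.1 z ≤ 1
  rw [← z.num_div_denom, map_div₀, Place.val_eq_exp Q (RatPlace.ι_ne_zero z.denom_ne_zero), hQd, neg_zero,
    WithZero.exp_zero, div_one]
  exact (Place.val_le_one_iff Q).2 (RatPlace.ord_nonneg_of_X Q hXQ _)

/-- Let `k` be algebraically closed of characteristic `2` and `K = k(x, y)` with `y² + y = f(x)`, `K`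
separable of degree `2` over `k(x)`; let `B ⊆ k` be a finite set containing `0` such that `f` has a
pole of odd order `d_α` at `x = α` for every `α ∈ B` and is integral at all other places of `k(x)`
(so also at infinity), and put `c_α = (d_α - 1)/2`. Then the differentials `z dx` with `z = (x -
α)^{-(j+1)}` (`α ∈ B`, `1 ≤ j ≤ c_α`) and `z = α/(x(x-α))` (`α ∈ B`, `α ≠ 0`) are regular, this
family of `z` is linearly independent over `k`, and every `z` with `z dx` regular is a `k`-linear
combination of them; regularity is read through Laurent expansions over `k` at every place of `K`.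
(Up to sign these are the forms `x_α^{j-1} dx_α` and `x_α^{-1} dx_α - x_0^{-1} dx_0` with `x_α = (x
- α)^{-1}`.) -/
theorem result (k : Type u) (K : Type v)
    [Field k] [IsAlgClosed k] [CharP k 2] [Field K] [Algebra k K] [Algebra (RatFunc k) K] [IsScalarTower k (RatFunc k) K]
    (hK : FunFld.IsFunctionField k K) (hdeg : Module.finrank (RatFunc k) K = 2) [Algebra.IsSeparable (RatFunc k) K]
    (y : K) (hy : y ∉ Set.range (algebraMap (RatFunc k) K)) (f : RatFunc k)
    (heq : y ^ 2 + y = algebraMap (RatFunc k) K f)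
    (B : Finset k) (h0 : (0 : k) ∈ B) (d : k → ℕ) (hd : ∀ α ∈ B, Odd (d α))
    (hpole : ∀ (p : FunFld.Place k (RatFunc k)) (α : k), α ∈ B →
      p.1 ((RatFunc.X : RatFunc k) - RatFunc.C α) < 1 → p.ord f = -(d α : ℤ))
    (hint : ∀ p : FunFld.Place k (RatFunc k), (∀ α ∈ B, 1 ≤ p.1 ((RatFunc.X : RatFunc k) - RatFunc.C α)) → p.1 f ≤ 1)
    (F : FunFld.Place k K → Type w) [∀ P, Field (F P)] [∀ P, Algebra k (F P)] [∀ P, FiniteDimensional k (F P)]
    (φ : ∀ P, K →ₐ[k] LaurentSeries (F P)) (hφ : ∀ P, LocRes.IsExpansionAt P.1 (φ P)) :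
    (∀ i P, LocRes.vDiff (φ P) ((Sum.elim
        (fun a : {a : ↥B × ℕ // 1 ≤ a.2 ∧ 2 * a.2 + 1 ≤ d (a.1 : k)} => algebraMap (RatFunc k) K (((RatFunc.X : RatFunc k) - RatFunc.C (a.1.1 : k))⁻¹ ^ (a.1.2 + 1)))
        (fun b : {b : ↥B // (b : k) ≠ 0} => algebraMap (RatFunc k) K (RatFunc.C (b.1 : k) / ((RatFunc.X : RatFunc k) * ((RatFunc.X : RatFunc k) - RatFunc.C (b.1 : k)))))) i) (algebraMap (RatFunc k) K RatFunc.X) ≤ 1) ∧
    LinearIndependent k (Sum.elim
        (fun a : {a : ↥B × ℕ // 1 ≤ a.2 ∧ 2 * a.2 + 1 ≤ d (a.1 : k)} => algebraMap (RatFunc k) K (((RatFunc.X : RatFunc k) - RatFunc.C (a.1.1 : k))⁻¹ ^ (a.1.2 + 1)))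
        (fun b : {b : ↥B // (b : k) ≠ 0} => algebraMap (RatFunc k) K (RatFunc.C (b.1 : k) / ((RatFunc.X : RatFunc k) * ((RatFunc.X : RatFunc k) - RatFunc.C (b.1 : k)))))) ∧
    ∀ z : K, (∀ P, LocRes.vDiff (φ P) z (algebraMap (RatFunc k) K RatFunc.X) ≤ 1) →
      z ∈ Submodule.span k (Set.range (Sum.elim
        (fun a : {a : ↥B × ℕ // 1 ≤ a.2 ∧ 2 * a.2 + 1 ≤ d (a.1 : k)} => algebraMap (RatFunc k) K (((RatFunc.X : RatFunc k) - RatFunc.C (a.1.1 : k))⁻¹ ^ (a.1.2 + 1)))
        (fun b : {b : ↥B // (b : k) ≠ 0} => algebraMap (RatFunc k) K (RatFunc.C (b.1 : k) / ((RatFunc.X : RatFunc k) * ((RatFunc.X : RatFunc k) - RatFunc.C (b.1 : k))))))) := by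
  classical
  have h2 : ringChar k = 2 := ringChar.eq k 2
  have hK₀ := Groth.Agent.H81.RatPlace.isFunctionField (k := k)
  let ι := algebraMap (Polynomial k) (RatFunc k)
  let l : k → Polynomial k := fun α => Polynomial.X - Polynomial.C α
  have hl : ∀ α, ι (l α) = RatFunc.X - RatFunc.C α := fun α => by
    simp only [ι, l, map_sub, RatFunc.algebraMap_X, RatFunc.algebraMap_C]
  have hl0 : ∀ α, ι (l α) ≠ 0 := fun α => Groth.Agent.H81.RatPlace.ι_ne_zero (Polynomial.X_sub_C_ne_zero α)
  have htr : ∀ α, Transcendental k (ι (l α)) := fun α =>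
    (transcendental_algebraMap_iff (IsFractionRing.injective (Polynomial k) (RatFunc k))).2
      (Polynomial.transcendental _ (by simp [l]) (mem_nonZeroDivisors_of_ne_zero (by simp [l])))
  choose Pl hPl using fun α => Groth.Agent.Lib.FunFld.Gen.Existence.exists_zero hK₀.1 (htr α)
  have hPl' : ∀ α, (Pl α).1 (ι (l α)) < 1 := fun α =>
    (Groth.Agent.Lib.FunFld.Place.val_lt_one_iff _).2 (Or.inr (hPl α))
  have hordne : ∀ (α β : k) (P : FunFld.Place k (RatFunc k)), P.1 (ι (l α)) < 1 → β ≠ α → P.ord (ι (l β)) = 0 :=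
    fun α β P hP hne => Groth.Agent.H81.RatPlace.ord_eq_zero_of_isCoprime P (Polynomial.irreducible_X_sub_C α) hP
      (Polynomial.isCoprime_X_sub_C_of_isUnit_sub (sub_ne_zero.2 (Ne.symm hne)).isUnit)
  have hordeq : ∀ (α : k) (P : FunFld.Place k (RatFunc k)), P.1 (ι (l α)) < 1 → P.ord (ι (l α)) = 1 :=
    fun α P hP => Groth.Agent.H81.RatPlace.ord_irreducible P (Polynomial.irreducible_X_sub_C α) hP
  let m : k → ℕ := fun α => (d α + 1) / 2
  let q : Polynomial k := ∏ α ∈ B, l α ^ m α
  have hq0 : q ≠ 0 := Finset.prod_ne_zero_iff.2 fun α _ => pow_ne_zero _ (Polynomial.X_sub_C_ne_zero α)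
  have hqdeg : q.natDegree = ∑ α ∈ B, m α := by
    rw [Polynomial.natDegree_prod _ _ fun α _ => pow_ne_zero _ (Polynomial.X_sub_C_ne_zero α)]
    simp [l]
  have hordq : ∀ P : FunFld.Place k (RatFunc k), P.ord (ι q) = ∑ α ∈ B, (m α : ℤ) * P.ord (ι (l α)) := by
    intro P
    simp only [q, map_prod, map_pow]
    have key : ∀ S : Finset k, P.ord (∏ α ∈ S, ι (l α) ^ m α) = ∑ α ∈ S, (m α : ℤ) * P.ord (ι (l α)) := fun S => by
      induction S using Finset.induction_on with
      | empty => simp [Groth.Agent.Lib.FunFld.Place.ord_def]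
      | insert i S hi ih =>
        rw [Finset.prod_insert hi, Finset.sum_insert hi, Groth.Agent.Lib.FunFld.Place.ord_mul P (pow_ne_zero _ (hl0 i))
          (Finset.prod_ne_zero_iff.2 fun α _ => pow_ne_zero _ (hl0 α)), ih, Groth.Agent.Lib.FunFld.Place.ord_pow]
    exact key B
  have hodd : ∀ P : FunFld.Place k (RatFunc k), 1 < P.1 f →
      ∃ α ∈ B, P.1 (ι (l α)) < 1 ∧ P.ord f = -(d α : ℤ) := by
    intro P hP
    obtain ⟨α, hα, hlt⟩ : ∃ α ∈ B, P.1 ((RatFunc.X : RatFunc k) - RatFunc.C α) < 1 := by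
      by_contra h
      push Not at h
      exact absurd (hint P h) (not_le.2 hP)
    exact ⟨α, hα, by rw [hl]; exact hlt, hpole P α hα hlt⟩
  have hodd' : ∀ P : FunFld.Place k (RatFunc k), 1 < P.1 f → Odd (P.ord f) := fun P hP => by
    obtain ⟨α, hα, -, h⟩ := hodd P hP
    rw [h]
    exact (hd α hα).natCast.neg
  have hq : ∀ P : FunFld.Place k (RatFunc k), P.1 RatFunc.X ≤ 1 →
      P.ord (ι q) = if 1 < P.1 f then (1 - P.ord f) / 2 else 0 := by
    intro P hX
    rw [hordq]
    by_cases hP : 1 < P.1 f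
    · obtain ⟨α, hα, hlt, hf⟩ := hodd P hP
      rw [if_pos hP, hf, Finset.sum_eq_single_of_mem α hα fun β _ hne => by rw [hordne α β P hlt hne, mul_zero],
        hordeq α P hlt]
      simp only [m]
      push_cast
      omega
    · rw [if_neg hP]
      refine Finset.sum_eq_zero fun α hα => ?_
      have hnn : 0 ≤ P.ord (ι (l α)) :=
        Groth.Agent.H81.RatPlace.ord_nonneg_of_X P ((Groth.Agent.Lib.FunFld.Place.val_le_one_iff P).1 hX) _
      rcases hnn.eq_or_lt with h | h
      · rw [← h, mul_zero]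
      · exfalso
        have hlt : P.1 (ι (l α)) < 1 := (Groth.Agent.Lib.FunFld.Place.val_lt_one_iff P).2 (Or.inr h)
        rw [hl] at hlt
        have h1 := hpole P α hα hlt
        refine hP ((Groth.Agent.Lib.FunFld.Place.one_lt_val_iff P).2 ?_)
        have := (hd α hα).pos
        omega
  obtain ⟨hreg, hspan⟩ := S12587.result k K hK hdeg h2 y hy f heq hodd' q hq0 hq F φ hφ
  have hgen : (FunFld.genus k K : ℤ) = -1 + ∑ α ∈ B, (m α : ℤ) := by
    rw [Groth.Agent.H81.ASGenus.genus_eq hK hdeg y hy f heq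
      (fun P hP => hodd' P ((Groth.Agent.Lib.FunFld.Place.one_lt_val_iff P).2 hP)) (B.image Pl) fun P => ?_,
      Finset.sum_image]
    · congr 1
      refine Finset.sum_congr rfl fun α hα => ?_
      rw [Groth.Agent.Lib.FunFld.Rational.deg_eq_one hK₀, hpole (Pl α) α hα (by rw [← hl]; exact hPl' α)]
      simp only [m]
      push_cast
      omega
    · intro α _ β _ h
      by_contra hne
      have h1 := hordne α β (Pl α) (hPl' α) (Ne.symm hne)
      rw [h, hordeq β (Pl β) (hPl' β)] at h1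
      omega
    · rw [Finset.mem_image]
      constructor
      · rintro ⟨α, hα, rfl⟩
        rw [hpole (Pl α) α hα (by rw [← hl]; exact hPl' α)]
        have := (hd α hα).pos
        omega
      · intro hP
        obtain ⟨α, hα, hlt, -⟩ := hodd P ((Groth.Agent.Lib.FunFld.Place.one_lt_val_iff P).2 hP)
        exact ⟨α, hα, place_unique α _ _ (by rw [← hl]; exact hPl' α) (by rw [← hl]; exact hlt)⟩
  let g := FunFld.genus k K
  let ev : Polynomial k →ₗ[k] K :=
    { toFun := fun a => algebraMap (RatFunc k) K (ι a / ι q)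
      map_add' := fun a b => by rw [map_add, add_div, map_add]
      map_smul' := fun c a => by
        rw [RingHom.id_apply, Algebra.smul_def, Algebra.smul_def, map_mul, mul_div_assoc, map_mul,
          ← IsScalarTower.algebraMap_apply k (Polynomial k) (RatFunc k),
          ← IsScalarTower.algebraMap_apply k (RatFunc k) K] }
  let W : Submodule k K := (Polynomial.degreeLT k g).map ev
  have hWle : ∀ z ∈ W, ∀ P, LocRes.vDiff (φ P) z (algebraMap (RatFunc k) K RatFunc.X) ≤ 1 := by
    intro z hz P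
    obtain ⟨a, ha, rfl⟩ := hz
    rcases eq_or_ne a 0 with rfl | hane0
    · rw [map_zero, LocRes.vDiff, map_zero, zero_mul, map_zero]
      exact zero_le
    rw [SetLike.mem_coe, Polynomial.mem_degreeLT] at ha
    have hsum : ev a = ∑ i ∈ Finset.range g, algebraMap k K (a.coeff i) *
        algebraMap (RatFunc k) K (RatFunc.X ^ i / ι q) := by
      conv_lhs => rw [a.as_sum_range' g (by
        exact (Polynomial.natDegree_lt_iff_degree_lt hane0).2 ha), map_sum]
      · refine Finset.sum_congr rfl fun i _ => ?_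
        rw [← Polynomial.smul_X_eq_monomial, map_smul, Algebra.smul_def]
        show _ * algebraMap (RatFunc k) K (ι (Polynomial.X ^ i) / ι q) = _
        rw [map_pow, RatFunc.algebraMap_X]
    rw [hsum, LocRes.vDiff, map_sum, Finset.sum_mul]
    refine Valuation.map_sum_le _ fun i hi => ?_
    rw [map_mul (φ P), mul_assoc, map_mul, (hφ P).1]
    exact mul_le_one' (P.2.1 _) (hreg i (Finset.mem_range.1 hi) P)
  let fam := Sum.elim
    (fun a : {a : ↥B × ℕ // 1 ≤ a.2 ∧ 2 * a.2 + 1 ≤ d (a.1 : k)} => algebraMap (RatFunc k) K (((RatFunc.X : RatFunc k) - RatFunc.C (a.1.1 : k))⁻¹ ^ (a.1.2 + 1)))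
    (fun b : {b : ↥B // (b : k) ≠ 0} => algebraMap (RatFunc k) K (RatFunc.C (b.1 : k) / ((RatFunc.X : RatFunc k) * ((RatFunc.X : RatFunc k) - RatFunc.C (b.1 : k)))))
  have hmem : ∀ i, fam i ∈ W := by
    rintro (⟨⟨α, j⟩, hj1, hj2⟩ | ⟨b, hb⟩)
    · have hle : j + 1 ≤ m α := by simp only [m]; change 2 * j + 1 ≤ d (α : k) at hj2; omega
      obtain ⟨r, hr⟩ : l (α : k) ^ (j + 1) ∣ q :=
        (pow_dvd_pow _ hle).trans (Finset.dvd_prod_of_mem (fun α => l α ^ m α) α.2)
      have hr0 : r ≠ 0 := fun h => hq0 (by rw [hr, h, mul_zero])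
      refine ⟨r, ?_, ?_⟩
      · have h1 := congrArg Polynomial.natDegree hr
        rw [Polynomial.natDegree_mul (pow_ne_zero _ (Polynomial.X_sub_C_ne_zero _)) hr0, Polynomial.natDegree_pow,
          Polynomial.natDegree_X_sub_C, hqdeg] at h1
        rw [SetLike.mem_coe, Polynomial.mem_degreeLT, Polynomial.degree_eq_natDegree hr0]
        norm_cast
        have : (g : ℤ) = -1 + ∑ α ∈ B, (m α : ℤ) := hgen
        push_cast [← Nat.cast_sum] at this
        change 1 ≤ j at hj1
        omega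
      · show algebraMap (RatFunc k) K (ι r / ι q) = algebraMap (RatFunc k) K _
        congr 1
        rw [hr, map_mul, map_pow, hl, inv_pow, div_mul_eq_div_div_swap, div_self (Groth.Agent.H81.RatPlace.ι_ne_zero hr0), one_div]
    · obtain ⟨r, hr⟩ : l 0 * l (b : k) ∣ q := by
        rw [show q = l 0 ^ m 0 * ∏ α ∈ B.erase 0, l α ^ m α from (Finset.mul_prod_erase B (fun α => l α ^ m α) h0).symm]
        have hm : ∀ α ∈ B, m α ≠ 0 := fun α hα => by
          have := (hd α hα).pos
          simp only [m]; omega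
        exact mul_dvd_mul (dvd_pow_self _ (hm 0 h0))
          ((dvd_pow_self _ (hm b b.2)).trans (Finset.dvd_prod_of_mem (fun α => l α ^ m α) (Finset.mem_erase.2 ⟨hb, b.2⟩)))
      have hr0 : r ≠ 0 := fun h => hq0 (by rw [hr, h, mul_zero])
      refine ⟨Polynomial.C (b : k) * r, ?_, ?_⟩
      · have h1 := congrArg Polynomial.natDegree hr
        rw [Polynomial.natDegree_mul (mul_ne_zero (Polynomial.X_sub_C_ne_zero _) (Polynomial.X_sub_C_ne_zero _)) hr0,
          Polynomial.natDegree_mul (Polynomial.X_sub_C_ne_zero _) (Polynomial.X_sub_C_ne_zero _),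
          Polynomial.natDegree_X_sub_C, Polynomial.natDegree_X_sub_C, hqdeg] at h1
        rw [SetLike.mem_coe, Polynomial.mem_degreeLT,
          Polynomial.degree_eq_natDegree (mul_ne_zero (Polynomial.C_ne_zero.2 hb) hr0), Polynomial.natDegree_C_mul hb]
        norm_cast
        have : (g : ℤ) = -1 + ∑ α ∈ B, (m α : ℤ) := hgen
        push_cast [← Nat.cast_sum] at this
        omega
      · show algebraMap (RatFunc k) K (ι _ / ι q) = algebraMap (RatFunc k) K _
        congr 1
        rw [hr, map_mul, map_mul, map_mul, hl, hl, map_zero, sub_zero, RatFunc.algebraMap_C,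
          mul_div_mul_right _ _ (Groth.Agent.H81.RatPlace.ι_ne_zero hr0)]
  have hfin : Finite ({a : ↥B × ℕ // 1 ≤ a.2 ∧ 2 * a.2 + 1 ≤ d (a.1 : k)}) :=
    Finite.of_injective (fun a => (⟨a.1.1, ⟨a.1.2, by have := a.2.2; omega⟩⟩ : Σ α : ↥B, Fin (d (α : k)))) fun a b h => by
      obtain ⟨⟨α, i⟩, hi⟩ := a
      obtain ⟨⟨β, j⟩, hj⟩ := b
      simp only [Sigma.mk.inj_iff] at h
      obtain ⟨rfl, h⟩ := h
      simp only [heq_eq_eq, Fin.mk.injEq] at h
      subst h
      rfl
  let _ := Fintype.ofFinite {a : ↥B × ℕ // 1 ≤ a.2 ∧ 2 * a.2 + 1 ≤ d (a.1 : k)}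
  let Ω : k → RatFunc k → WithZero (Multiplicative ℤ) := fun α z => (Pl α).1 z
  have hval : ∀ α β : k, Ω α (RatFunc.X - RatFunc.C β) = if β = α then WithZero.exp (-1) else 1 := fun α β => by
    show (Pl α).1 _ = _
    rw [← hl, Groth.Agent.Lib.FunFld.Place.val_eq_exp _ (hl0 β)]
    split_ifs with h
    · rw [h, hordeq α _ (hPl' α)]
    · rw [hordne α β _ (hPl' α) h, neg_zero, WithZero.exp_zero]
  have hvalC : ∀ α c : k, c ≠ 0 → Ω α (RatFunc.C c) = 1 := fun α c hc => by
    show (Pl α).1 _ = _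
    rw [← RatFunc.algebraMap_eq_C]
    exact Groth.Agent.Lib.FunFld.Place.val_algebraMap _ hc
  have hLI : LinearIndependent k fam := by
    rw [Fintype.linearIndependent_iff]
    intro c hc
    rw [Fintype.sum_sum_type] at hc
    let u : {a : ↥B × ℕ // 1 ≤ a.2 ∧ 2 * a.2 + 1 ≤ d (a.1 : k)} → RatFunc k := fun a =>
      RatFunc.C (c (Sum.inl a)) * ((RatFunc.X : RatFunc k) - RatFunc.C (a.1.1 : k))⁻¹ ^ (a.1.2 + 1)
    let w : {b : ↥B // (b : k) ≠ 0} → RatFunc k := fun b =>
      RatFunc.C (c (Sum.inr b)) * (RatFunc.C (b.1 : k) / ((RatFunc.X : RatFunc k) * ((RatFunc.X : RatFunc k) - RatFunc.C (b.1 : k))))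
    have hzero : ∑ a, u a + ∑ b, w b = 0 := by
      refine (algebraMap (RatFunc k) K).injective ?_
      rw [map_zero, map_add, map_sum, map_sum, ← hc]
      congr 1 <;> refine Finset.sum_congr rfl fun a _ => ?_
      all_goals
        simp only [u, w, map_mul, fam, Sum.elim_inl, Sum.elim_inr, Algebra.smul_def]
        rw [← RatFunc.algebraMap_eq_C, ← IsScalarTower.algebraMap_apply]
    have hu : ∀ α a, Ω α (u a) = (if c (Sum.inl a) = 0 then 0 else if (a.1.1 : k) = α then WithZero.exp ((a.1.2 : ℤ) + 1) else 1) := by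
      intro α a
      show (Pl α).1 (RatFunc.C _ * _) = _
      by_cases h : c (Sum.inl a) = 0
      · rw [if_pos h, h, map_zero, zero_mul, map_zero]
      rw [if_neg h, map_mul, map_pow, map_inv₀]
      change Ω α _ * (Ω α _)⁻¹ ^ _ = _
      rw [hvalC α _ h, hval, one_mul]
      split_ifs
      · rw [← WithZero.exp_neg, ← WithZero.exp_nsmul]; congr 1; simp
      · rw [inv_one, one_pow]
    have hw : ∀ α b, Ω α (w b) ≤ if α = 0 ∨ (b.1 : k) = α then WithZero.exp 1 else 1 := by
      intro α b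
      by_cases h : c (Sum.inr b) = 0
      · show (Pl α).1 (RatFunc.C _ * _) ≤ _
        rw [h, map_zero, zero_mul, map_zero]; exact zero_le
      show (Pl α).1 (RatFunc.C _ * _) ≤ _
      rw [map_mul, map_div₀, map_mul]
      change Ω α _ * (Ω α _ / (Ω α _ * Ω α _)) ≤ _
      have hX : Ω α RatFunc.X = if (0 : k) = α then WithZero.exp (-1) else 1 := by
        rw [← hval α 0, map_zero, sub_zero]
      rw [hvalC α _ h, hvalC α _ b.2, hX, hval]
      by_cases h1 : (0 : k) = α
      · subst h1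
        rw [if_pos rfl, if_neg b.2, if_pos (Or.inl rfl), one_mul, mul_one, one_div, ← WithZero.exp_neg, neg_neg]
      · by_cases h2 : (b.1 : k) = α
        · rw [if_neg h1, if_pos h2, if_pos (Or.inr h2), one_mul, one_mul, one_div, ← WithZero.exp_neg, neg_neg]
        · rw [if_neg h1, if_neg h2, if_neg (by tauto), one_mul, one_mul, div_one]
    have hA : ∀ a, c (Sum.inl a) = 0 := by
      by_contra h
      push Not at h
      obtain ⟨a₀, ha₀⟩ := h
      obtain ⟨a, ha, hmax⟩ := (Finset.univ.filter fun a => c (Sum.inl a) ≠ 0).exists_max_image (fun a => a.1.2)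
        ⟨a₀, Finset.mem_filter.2 ⟨Finset.mem_univ _, ha₀⟩⟩
      have hane := (Finset.mem_filter.1 ha).2
      let α : k := a.1.1
      have hone : (1 : WithZero (Multiplicative ℤ)) < WithZero.exp ((a.1.2 : ℤ) + 1) :=
        WithZero.exp_zero.symm.trans_lt (WithZero.exp_lt_exp.2 (by omega))
      have h1 : Ω α (u a) = WithZero.exp ((a.1.2 : ℤ) + 1) := by rw [hu, if_neg hane, if_pos rfl]
      have h3 : Ω α (∑ a' ∈ Finset.univ.erase a, u a' + ∑ b, w b) < WithZero.exp ((a.1.2 : ℤ) + 1) := by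
        refine Valuation.map_add_lt _ (Valuation.map_sum_lt _ WithZero.exp_ne_zero fun a' ha' => ?_)
          (Valuation.map_sum_lt _ WithZero.exp_ne_zero fun b _ => ?_)
        · change Ω α (u a') < _
          rw [hu]
          split_ifs with h4 h5
          · exact WithZero.exp_pos
          · refine WithZero.exp_lt_exp.2 ?_
            have hle := hmax a' (Finset.mem_filter.2 ⟨Finset.mem_univ _, h4⟩)
            have hne : a'.1.2 ≠ a.1.2 := fun h6 => (Finset.mem_erase.1 ha').1 (Subtype.ext (Prod.ext (Subtype.ext h5) h6))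
            omega
          · exact hone
        · refine (hw α b).trans_lt ?_
          split_ifs
          · exact WithZero.exp_lt_exp.2 (by have := a.2.1; omega)
          · exact hone
      rw [← Finset.add_sum_erase _ _ (Finset.mem_univ a), add_assoc, add_eq_zero_iff_eq_neg] at hzero
      rw [hzero] at h1
      change (Pl α).1 (-_) = _ at h1
      rw [Valuation.map_neg] at h1
      exact h3.ne h1
    rintro (a | b)
    · exact hA a
    by_contra hb
    let α : k := b.1
    have hu0 : ∀ a, u a = 0 := fun a => by simp only [u, hA a, map_zero, zero_mul]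
    rw [Finset.sum_eq_zero fun a _ => hu0 a, zero_add, ← Finset.add_sum_erase _ _ (Finset.mem_univ b),
      add_eq_zero_iff_eq_neg] at hzero
    have h1 : Ω α (w b) = WithZero.exp 1 := by
      show (Pl α).1 (RatFunc.C _ * _) = _
      rw [map_mul, map_div₀, map_mul]
      change Ω α _ * (Ω α _ / (Ω α _ * Ω α _)) = _
      have hX : Ω α RatFunc.X = 1 := by
        rw [← sub_zero RatFunc.X, ← map_zero (RatFunc.C (K := k)), hval, if_neg (Ne.symm b.2)]
      rw [hvalC α _ hb, hvalC α _ b.2, hX, hval, if_pos rfl, one_mul, one_mul, one_div, ← WithZero.exp_neg, neg_neg]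
    have h3 : Ω α (∑ b' ∈ Finset.univ.erase b, w b') < WithZero.exp 1 := by
      refine Valuation.map_sum_lt _ WithZero.exp_ne_zero fun b' hb' => (hw α b').trans_lt ?_
      rw [if_neg (by
        rintro (h | h)
        · exact b.2 h
        · exact (Finset.mem_erase.1 hb').1 (Subtype.ext (Subtype.ext h)))]
      exact WithZero.exp_zero.symm.trans_lt (WithZero.exp_lt_exp.2 one_pos)
    rw [hzero] at h1
    change (Pl α).1 (-_) = _ at h1
    rw [Valuation.map_neg] at h1
    exact h3.ne h1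
  have : FiniteDimensional k (Polynomial.degreeLT k g) := Module.Finite.equiv (Polynomial.degreeLTEquiv k g).symm
  have hspanW : W ≤ Submodule.span k (Set.range fam) := by
    refine (Submodule.eq_of_le_of_finrank_le (Submodule.span_le.2 (Set.range_subset_iff.2 hmem)) ?_).ge
    rw [finrank_span_eq_card hLI]
    refine (Submodule.finrank_map_le ev _).trans ?_
    rw [(Polynomial.degreeLTEquiv k g).finrank_eq, Module.finrank_pi, Fintype.card_fin, Fintype.card_sum]
    have hcardA : Fintype.card {a : ↥B × ℕ // 1 ≤ a.2 ∧ 2 * a.2 + 1 ≤ d (a.1 : k)} = ∑ α : ↥B, (m α - 1) := by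
      have hbound : ∀ (α : ↥B) (i : Fin (m α - 1)), 1 ≤ (i : ℕ) + 1 ∧ 2 * ((i : ℕ) + 1) + 1 ≤ d (α : k) := fun α i => by
        have := i.2
        simp only [m] at this
        omega
      rw [show ∑ α : ↥B, (m (α : k) - 1) = ∑ α : ↥B, Fintype.card (Fin (m (α : k) - 1)) by simp, ← Fintype.card_sigma]
      exact Fintype.card_congr
        { toFun := fun a => ⟨a.1.1, ⟨a.1.2 - 1, by have := a.2; simp only [m]; omega⟩⟩
          invFun := fun s => ⟨(s.1, (s.2 : ℕ) + 1), hbound s.1 s.2⟩
          left_inv := fun a => Subtype.ext (Prod.ext rfl (Nat.sub_add_cancel a.2.1))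
          right_inv := fun s => by simp }
    have hcardB : Fintype.card {b : ↥B // (b : k) ≠ 0} + 1 = B.card := by
      have h1 : Fintype.card {b : ↥B // (b : k) ≠ 0} = (B.erase 0).card := by
        rw [← Fintype.card_coe]
        exact Fintype.card_congr
          { toFun := fun b => ⟨b.1.1, Finset.mem_erase.2 ⟨b.2, b.1.2⟩⟩
            invFun := fun b => ⟨⟨b.1, (Finset.mem_erase.1 b.2).2⟩, (Finset.mem_erase.1 b.2).1⟩
            left_inv := fun _ => rfl
            right_inv := fun _ => rfl }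
      rw [h1, Finset.card_erase_add_one h0]
    have hm : ∑ α : ↥B, (m α - 1) + B.card = ∑ α ∈ B, m α := by
      rw [Finset.sum_coe_sort B (fun α => m α - 1), Finset.card_eq_sum_ones, ← Finset.sum_add_distrib]
      refine Finset.sum_congr rfl fun α hα => ?_
      have := (hd α hα).pos
      simp only [m]; omega
    have : (g : ℤ) = -1 + ∑ α ∈ B, (m α : ℤ) := hgen
    push_cast [← Nat.cast_sum] at this
    omega
  refine ⟨fun i P => hWle _ (hmem i) P, hLI, fun z hz => ?_⟩
  obtain ⟨a, ha, rfl⟩ := hspan z hz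
  exact hspanW ⟨a, Polynomial.mem_degreeLT.2 ha, rfl⟩

end Groth.Agent.S19044
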