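import Groth.Statements.S19045
import Groth.Agent.H81.ASPoints
import Groth.Agent.H81.IntClosure
import Groth.Agent.Lib.FunFld.Hasse.Param

set_option autoImplicit false
universe u v
open FunFld

namespace Groth.Agent.S19045

/-- Let `k` be algebraically closed of characteristic `2` and `K = k(x, y)` with `y² + y = f(x)`, `K`
separable of degree `2` over `k(x)`; let `B ⊆ k` be a finite set containing `0` such that `f` has a
pole of odd order `d_β` at `x = β` for every `β ∈ B` and is integral at all other places of `k(x)`.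
Then `y` is integral at the places of `K` above `x = ∞` and has order `0` at one of them, and for `α
∈ B` and `j ∈ ℤ` the divisor of poles of `y (x - α)^j` consists of: order `max(d_α - 2j, 0)` at the
place above `α`, order exactly `d_β` above every other `β ∈ B`, order `max(j - ord_P y, 0)` at each
place `P` above `∞`, and nothing elsewhere. -/
theorem result (k : Type u) (K : Type v)
    [Field k] [IsAlgClosed k] [CharP k 2] [Field K] [Algebra k K] [Algebra (RatFunc k) K] [IsScalarTower k (RatFunc k) K]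
    (hK : FunFld.IsFunctionField k K) (hdeg : Module.finrank (RatFunc k) K = 2) [Algebra.IsSeparable (RatFunc k) K]
    (y : K) (hy : y ∉ Set.range (algebraMap (RatFunc k) K)) (f : RatFunc k)
    (heq : y ^ 2 + y = algebraMap (RatFunc k) K f)
    (B : Finset k) (h0 : (0 : k) ∈ B) (d : k → ℕ) (hd : ∀ β ∈ B, Odd (d β))
    (hpole : ∀ (p : FunFld.Place k (RatFunc k)) (β : k), β ∈ B →
      p.1 ((RatFunc.X : RatFunc k) - RatFunc.C β) < 1 → p.ord f = -(d β : ℤ))
    (hint : ∀ p : FunFld.Place k (RatFunc k), (∀ β ∈ B, 1 ≤ p.1 ((RatFunc.X : RatFunc k) - RatFunc.C β)) → p.1 f ≤ 1) :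
    (∀ P : FunFld.Place k K, 1 < P.1 (algebraMap (RatFunc k) K RatFunc.X) → 0 ≤ P.ord y) ∧
    (∃ P : FunFld.Place k K, 1 < P.1 (algebraMap (RatFunc k) K RatFunc.X) ∧ P.ord y = 0) ∧
    ∀ (α : k), α ∈ B → ∀ (j : ℤ) (P : FunFld.Place k K),
      (P.1 ((algebraMap (RatFunc k) K RatFunc.X) - (algebraMap k K α)) < 1 →
        max (-(P.ord (y * ((algebraMap (RatFunc k) K RatFunc.X) - (algebraMap k K α)) ^ j))) 0 = max ((d α : ℤ) - 2 * j) 0) ∧
      (∀ β : k, β ∈ B → β ≠ α → P.1 ((algebraMap (RatFunc k) K RatFunc.X) - (algebraMap k K β)) < 1 →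
        P.ord (y * ((algebraMap (RatFunc k) K RatFunc.X) - (algebraMap k K α)) ^ j) = -(d β : ℤ)) ∧
      (1 < P.1 (algebraMap (RatFunc k) K RatFunc.X) → max (-(P.ord (y * ((algebraMap (RatFunc k) K RatFunc.X) - (algebraMap k K α)) ^ j))) 0 = max (j - P.ord y) 0) ∧
      (P.1 (algebraMap (RatFunc k) K RatFunc.X) ≤ 1 → (∀ β : k, β ∈ B → 1 ≤ P.1 ((algebraMap (RatFunc k) K RatFunc.X) - (algebraMap k K β))) → 0 ≤ P.ord (y * ((algebraMap (RatFunc k) K RatFunc.X) - (algebraMap k K α)) ^ j)) := by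
  classical
  have : FiniteDimensional (RatFunc k) K := Module.finite_of_finrank_eq_succ hdeg
  have : CharP K 2 := charP_of_injective_algebraMap (algebraMap k K).injective 2
  have hK₀ := Groth.Agent.H81.RatPlace.isFunctionField (k := k)
  let ψ := algebraMap (RatFunc k) K
  have hy0 : y ≠ 0 := fun h => hy ⟨0, by rw [h, map_zero]⟩
  have hsub : ∀ γ : k, algebraMap (RatFunc k) K RatFunc.X - algebraMap k K γ = ψ (RatFunc.X - RatFunc.C γ) := fun γ =>
    (Groth.Agent.H81.ASPoints.sub_eq γ).symm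
  -- some place over every place of the line has a unit `y`
  have hunit : ∀ (y' : K), y' ∉ Set.range ψ → ∀ f' : RatFunc k, y' ^ 2 + y' = ψ f' → ∀ P : FunFld.Place k (RatFunc k),
      ∃ Q : FunFld.Place k K, FunFld.IsOver Q P ∧ 1 ≤ Q.1 y' := by
    intro y' hy' f' heq' P
    by_contra hcon
    push Not at hcon
    let _ : Algebra P.O K := (ψ.comp P.O.subtype).toAlgebra
    have : IsScalarTower P.O (RatFunc k) K := IsScalarTower.of_algebraMap_eq fun _ => rfl
    obtain ⟨π, hπ⟩ := Groth.Agent.Lib.FunFld.Place.exists_val_eq_exp P (-1)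
    have hπ0 : π ≠ 0 := fun h => WithZero.exp_ne_zero (a := (-1 : ℤ)) (by rw [← hπ, h, map_zero])
    have hw : IsIntegral P.O (π⁻¹ • y' ^ 2) := (Groth.Agent.H81.IntClosure.isIntegral_iff hK₀).2 fun Q hQ => by
      have h1 := hcon Q hQ
      obtain ⟨e', he'⟩ := hQ
      have hy1 : Q.1 y' ≤ WithZero.exp (-1) := by
        rcases eq_or_ne y' 0 with h | h
        · rw [h, map_zero]; exact zero_le
        · rw [Groth.Agent.Lib.FunFld.Place.val_eq_exp Q h] at h1 ⊢
          refine WithZero.exp_le_exp.2 ?_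
          have := WithZero.exp_lt_exp.1 (h1.trans_eq WithZero.exp_zero.symm)
          omega
      have he2 : e' ≤ 2 := by
        obtain ⟨hfin, hsum⟩ := Groth.Agent.Lib.FunFld.Ext.sum_ramIdx_mul_deg (K' := K) hK₀ P
        have h2 := Finset.single_le_sum (f := fun R => FunFld.ramIdx R P * R.deg) (fun R _ => Nat.zero_le _)
          (hfin.mem_toFinset.2 ⟨e', he'⟩ : Q ∈ hfin.toFinset)
        rw [hsum, hdeg, Groth.Agent.Lib.FunFld.Ext.ramIdx_eq he', Groth.Agent.Lib.FunFld.Rational.deg_eq_one hK,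
          Groth.Agent.Lib.FunFld.Rational.deg_eq_one hK₀] at h2
        omega
      rw [Algebra.smul_def, map_mul, map_pow, he', map_inv₀, hπ, ← WithZero.exp_neg, ← WithZero.exp_nsmul]
      refine (mul_le_mul' le_rfl (pow_le_pow_left₀ zero_le hy1 2)).trans ?_
      rw [← WithZero.exp_nsmul, ← WithZero.exp_add]
      refine (WithZero.exp_le_exp.2 ?_).trans WithZero.exp_zero.le
      simp only [nsmul_eq_mul]
      push_cast
      omega
    obtain ⟨a, ha⟩ := IsIntegrallyClosed.isIntegral_iff.1 (Algebra.isIntegral_trace (L := RatFunc k) hw)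
    have htr := Groth.Agent.H81.ASPoints.trace_y hdeg hy' heq'
    have : CharP (RatFunc k) 2 := charP_of_injective_algebraMap (algebraMap k (RatFunc k)).injective 2
    rw [map_smul, show y' ^ 2 = ψ f' + y' by rw [← heq']; linear_combination (-y') * CharTwo.two_eq_zero (R := K),
      map_add, Algebra.trace_algebraMap, hdeg, htr, two_nsmul, CharTwo.add_self_eq_zero, zero_add, smul_eq_mul, mul_one] at ha
    have h1 : P.1 π⁻¹ ≤ 1 := ha ▸ a.2
    rw [map_inv₀, hπ, ← WithZero.exp_neg] at h1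
    have := WithZero.exp_le_exp.1 (h1.trans WithZero.exp_zero.symm.le)
    omega
  have hXinf : ∀ (Q : FunFld.Place k K), 1 < Q.1 (algebraMap (RatFunc k) K RatFunc.X) →
      ∀ γ : k, Q.1 (algebraMap (RatFunc k) K RatFunc.X - algebraMap k K γ) = Q.1 (algebraMap (RatFunc k) K RatFunc.X) := by
    intro Q hQ γ
    rw [sub_eq_add_neg, Valuation.map_add_eq_of_lt_left]
    rw [Valuation.map_neg]
    exact (Q.2.1 γ).trans_lt hQ
  have hint' : ∀ Q : FunFld.Place k K, 1 < Q.1 (algebraMap (RatFunc k) K RatFunc.X) → 0 ≤ Q.ord y := fun Q hQ =>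
    (Groth.Agent.Lib.FunFld.Place.val_le_one_iff Q).1 (Groth.Agent.H81.ASPoints.val_y_le heq hint fun β _ => by
      rw [hXinf Q hQ β]; exact hQ.le)
  -- infinity is unramified
  have hinf : ∀ (Q : FunFld.Place k K), 1 < Q.1 (algebraMap (RatFunc k) K RatFunc.X) →
      Q.ord (algebraMap (RatFunc k) K RatFunc.X) = -1 := by
    intro Q hQ
    obtain ⟨P, e, he0, he⟩ := Groth.Agent.Lib.FunFld.Ext.exists_place_below hK₀ Q
    have hQ' : 1 < P.1 (RatFunc.X : RatFunc k) := by
      rw [he] at hQ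
      exact not_le.1 fun h => absurd (pow_le_one₀ zero_le h) (not_le.2 hQ)
    rw [Groth.Agent.Lib.FunFld.Ext.ord_map he,
      Groth.Agent.H81.RatPlace.ord_X_eq_neg_one P ((Groth.Agent.Lib.FunFld.Place.one_lt_val_iff P).1 hQ')]
    suffices e = 1 by rw [this]; norm_num
    by_contra hne
    obtain ⟨hfin, hsum⟩ := Groth.Agent.Lib.FunFld.Ext.sum_ramIdx_mul_deg (K' := K) hK₀ P
    have honly : ∀ R, FunFld.IsOver R P → R = Q := by
      intro R hR
      by_contra hRQ
      have hle : ∑ S ∈ ({Q, R} : Finset _), FunFld.ramIdx S P * S.deg ≤ ∑ S ∈ hfin.toFinset, FunFld.ramIdx S P * S.deg :=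
        Finset.sum_le_sum_of_subset fun S hS => by
          rw [hfin.mem_toFinset]
          simp only [Finset.mem_insert, Finset.mem_singleton] at hS
          rcases hS with rfl | rfl
          · exact ⟨e, he⟩
          · exact hR
      obtain ⟨e', he'⟩ := hR
      have := Groth.Agent.Lib.FunFld.Ext.pos_of_isOverWith he'
      rw [hsum, hdeg, Finset.sum_pair (Ne.symm hRQ), Groth.Agent.Lib.FunFld.Ext.ramIdx_eq he,
        Groth.Agent.Lib.FunFld.Ext.ramIdx_eq he', Groth.Agent.Lib.FunFld.Rational.deg_eq_one hK,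
        Groth.Agent.Lib.FunFld.Rational.deg_eq_one hK, Groth.Agent.Lib.FunFld.Rational.deg_eq_one hK₀] at hle
      omega
    have hyO : Q.1 y ≤ 1 := (Groth.Agent.Lib.FunFld.Place.val_le_one_iff Q).2 (hint' Q hQ)
    obtain ⟨r, hr⟩ := (Groth.Agent.Lib.FunFld.Hasse.Param.res_bijective hK Q).2 (IsLocalRing.residue Q.O ⟨y, hyO⟩)
    have hlt : Q.1 (y - algebraMap k K r) < 1 := by
      have h0 : IsLocalRing.residue Q.O (⟨y, hyO⟩ - algebraMap k Q.O r) = 0 := by
        rw [map_sub, sub_eq_zero]; exact hr.symm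
      rw [Groth.Agent.Lib.FunFld.Place.res_eq_zero_iff] at h0
      push_cast at h0
      rwa [Groth.Agent.Lib.FunFld.Place.coe_algebraMap_O] at h0
    have hC : algebraMap k K r = ψ (RatFunc.C r) := by
      rw [← RatFunc.algebraMap_eq_C, ← IsScalarTower.algebraMap_apply]
    obtain ⟨R, hR, hge⟩ := hunit (y - algebraMap k K r) (fun ⟨a, ha⟩ => hy ⟨a + RatFunc.C r, by
        rw [map_add, ha, ← hC, sub_add_cancel]⟩) (f + RatFunc.C r ^ 2 + RatFunc.C r) (by
        rw [map_add, map_add, map_pow, ← hC, ← heq]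
        linear_combination (-(y * algebraMap k K r) - algebraMap k K r) * CharTwo.two_eq_zero (R := K)) P
    rw [honly R hR] at hge
    exact absurd hlt (not_lt.2 hge)
  refine ⟨hint', ?_, fun α hα j P => ?_⟩
  · obtain ⟨Pinf, hPinf⟩ := Groth.Agent.Lib.FunFld.Gen.Existence.exists_pole hK₀.1 (RatFunc.transcendental_X (K := k))
    obtain ⟨Q, ⟨e, he⟩, hge⟩ := hunit y hy f heq Pinf
    have hQ : 1 < Q.1 (algebraMap (RatFunc k) K RatFunc.X) := by
      rw [he]
      exact one_lt_pow₀ ((Groth.Agent.Lib.FunFld.Place.one_lt_val_iff Pinf).2 hPinf)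
        (Groth.Agent.Lib.FunFld.Ext.pos_of_isOverWith he).ne'
    refine ⟨Q, hQ, le_antisymm ?_ (hint' Q hQ)⟩
    rw [Groth.Agent.Lib.FunFld.Place.val_eq_exp Q hy0] at hge
    have := WithZero.exp_le_exp.1 (WithZero.exp_zero.le.trans hge)
    omega
  obtain ⟨R, e, he0, he⟩ := Groth.Agent.Lib.FunFld.Ext.exists_place_below hK₀ P
  have hne : ∀ γ : k, (RatFunc.X : RatFunc k) - RatFunc.C γ ≠ 0 := fun γ => by
    rw [show (RatFunc.X : RatFunc k) - RatFunc.C γ = algebraMap (Polynomial k) (RatFunc k) (Polynomial.X - Polynomial.C γ) by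
      rw [map_sub, RatFunc.algebraMap_X, RatFunc.algebraMap_C]]
    exact Groth.Agent.H81.RatPlace.ι_ne_zero (Polynomial.X_sub_C_ne_zero γ)
  have hu0 : algebraMap (RatFunc k) K RatFunc.X - algebraMap k K α ≠ 0 := by
    rw [hsub]; exact (_root_.map_ne_zero _).2 (hne α)
  have hordz : ∀ (w : K) (n : ℤ), w ≠ 0 → P.ord (w ^ n) = n * P.ord w := fun w n _ => by
    rw [Groth.Agent.Lib.FunFld.Place.ord_def, Groth.Agent.Lib.FunFld.Place.ord_def, map_zpow₀, WithZero.log_zpow, zsmul_eq_mul,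
      Int.cast_id, mul_neg]
  have hord : P.ord (y * (algebraMap (RatFunc k) K RatFunc.X - algebraMap k K α) ^ j) =
      P.ord y + j * P.ord (algebraMap (RatFunc k) K RatFunc.X - algebraMap k K α) := by
    rw [Groth.Agent.Lib.FunFld.Place.ord_mul P hy0 (zpow_ne_zero _ hu0), hordz _ _ hu0]
  refine ⟨fun hlt => ?_, fun β hβ hne' hlt => ?_, fun hgt => ?_, fun hle hall => ?_⟩
  · have hR := (Groth.Agent.H81.ASPoints.val_sub_iff he α).1 hlt
    obtain ⟨he2, hordy, -⟩ := Groth.Agent.H81.ASPoints.at_pole hdeg heq hd hpole hα hR he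
    rw [hord, hordy, hsub, Groth.Agent.Lib.FunFld.Ext.ord_map he, Groth.Agent.H81.ASPoints.ord_sub hR, he2]
    congr 1
    push_cast
    ring
  · have hR := (Groth.Agent.H81.ASPoints.val_sub_iff he β).1 hlt
    obtain ⟨he2, hordy, -⟩ := Groth.Agent.H81.ASPoints.at_pole hdeg heq hd hpole hβ hR he
    rw [hord, hordy, hsub, Groth.Agent.Lib.FunFld.Ext.ord_map he,
      Groth.Agent.H81.ASPoints.ord_sub_ne hR (Ne.symm hne'), mul_zero, mul_zero, add_zero]
  · have : P.ord (algebraMap (RatFunc k) K RatFunc.X - algebraMap k K α) = -1 := by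
      rw [← hinf P hgt, Groth.Agent.Lib.FunFld.Place.ord_def, Groth.Agent.Lib.FunFld.Place.ord_def, hXinf P hgt α]
    rw [hord, this]
    congr 1
    ring
  · have hy1 : 0 ≤ P.ord y := (Groth.Agent.Lib.FunFld.Place.val_le_one_iff P).1
      (Groth.Agent.H81.ASPoints.val_y_le heq hint hall)
    have hu1 : P.ord (algebraMap (RatFunc k) K RatFunc.X - algebraMap k K α) = 0 := by
      have h1 : P.1 (algebraMap (RatFunc k) K RatFunc.X - algebraMap k K α) = 1 :=
        le_antisymm (P.1.map_sub_le hle (P.2.1 α)) (hall α hα)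
      rw [Groth.Agent.Lib.FunFld.Place.ord_def, h1, WithZero.log_one, neg_zero]
    rw [hord, hu1, mul_zero, add_zero]
    exact hy1

end Groth.Agent.S19045
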