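import Groth.Statements.S19046
import Groth.Agent.H81.ASPoints
import Groth.Agent.H81.IntClosure

set_option autoImplicit false
universe u v
open Classical
open FunFld

namespace Groth.Agent.S19046

/-- Let `k` be algebraically closed of characteristic `2`, `K = k(x, y)` with `y² + y = f(x)` separable
of degree `2` over `k(x)`, `B ⊆ k` a finite set containing `0` with `f` having a pole of odd order
`d_β` at `x = β` for `β ∈ B` and integral elsewhere, `c_β = (d_β - 1)/2`, and `P_β` a place of `K`
above `x = β`. Identify `H¹(X, O)` of the smooth projective model with the repartitions (adeles with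
components in `K`) modulo `W = A(0) + K` (everywhere-integral repartitions plus constants), a Čech
class with defining component `h` at `β` corresponding to the repartition with component `h` at
`P_β` and `0` elsewhere. Then the repartitions supported at `P_α` with value `y (x - α)^j` (`α ∈ B`,
`1 ≤ j ≤ c_α`) and with value `y` (`α ∈ B`, `α ≠ 0`) are adeles whose classes modulo `W` are
linearly independent over `k` and, together with `W`, span the adeles: they give a basis of `H¹(X,
O)`. -/
theorem result (k : Type u) (K : Type v)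
    [Field k] [IsAlgClosed k] [CharP k 2] [Field K] [Algebra k K] [Algebra (RatFunc k) K] [IsScalarTower k (RatFunc k) K]
    (hK : FunFld.IsFunctionField k K) (hdeg : Module.finrank (RatFunc k) K = 2) [Algebra.IsSeparable (RatFunc k) K]
    (y : K) (hy : y ∉ Set.range (algebraMap (RatFunc k) K)) (f : RatFunc k)
    (heq : y ^ 2 + y = algebraMap (RatFunc k) K f)
    (B : Finset k) (h0 : (0 : k) ∈ B) (d : k → ℕ) (hd : ∀ β ∈ B, Odd (d β))
    (hpole : ∀ (p : FunFld.Place k (RatFunc k)) (β : k), β ∈ B →
      p.1 ((RatFunc.X : RatFunc k) - RatFunc.C β) < 1 → p.ord f = -(d β : ℤ))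
    (hint : ∀ p : FunFld.Place k (RatFunc k), (∀ β ∈ B, 1 ≤ p.1 ((RatFunc.X : RatFunc k) - RatFunc.C β)) → p.1 f ≤ 1)
    (Pl : k → FunFld.Place k K) (hPl : ∀ β ∈ B, (Pl β).1 ((algebraMap (RatFunc k) K RatFunc.X) - (algebraMap k K β)) < 1) :
    (∀ i, (Sum.elim
        (fun a : {a : ↥B × ℕ // 1 ≤ a.2 ∧ 2 * a.2 + 1 ≤ d (a.1 : k)} =>
          (Pi.single (Pl (a.1.1 : k)) (y * ((algebraMap (RatFunc k) K RatFunc.X) - (algebraMap k K (a.1.1 : k))) ^ a.1.2) : FunFld.Place k K → K))
        (fun b : {b : ↥B // (b : k) ≠ 0} => (Pi.single (Pl (b.1 : k)) y : FunFld.Place k K → K))) i ∈ FunFld.adele k K) ∧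
    LinearIndependent k (fun i => Submodule.mkQ (FunFld.AD (0 : FunFld.Divisor k K) ⊔ LinearMap.range (FunFld.diag k K)) ((Sum.elim
        (fun a : {a : ↥B × ℕ // 1 ≤ a.2 ∧ 2 * a.2 + 1 ≤ d (a.1 : k)} =>
          (Pi.single (Pl (a.1.1 : k)) (y * ((algebraMap (RatFunc k) K RatFunc.X) - (algebraMap k K (a.1.1 : k))) ^ a.1.2) : FunFld.Place k K → K))
        (fun b : {b : ↥B // (b : k) ≠ 0} => (Pi.single (Pl (b.1 : k)) y : FunFld.Place k K → K))) i)) ∧
    ∀ a : FunFld.Place k K → K, a ∈ FunFld.adele k K →
      a ∈ (FunFld.AD (0 : FunFld.Divisor k K) ⊔ LinearMap.range (FunFld.diag k K)) ⊔ Submodule.span k (Set.range (Sum.elim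
        (fun a : {a : ↥B × ℕ // 1 ≤ a.2 ∧ 2 * a.2 + 1 ≤ d (a.1 : k)} =>
          (Pi.single (Pl (a.1.1 : k)) (y * ((algebraMap (RatFunc k) K RatFunc.X) - (algebraMap k K (a.1.1 : k))) ^ a.1.2) : FunFld.Place k K → K))
        (fun b : {b : ↥B // (b : k) ≠ 0} => (Pi.single (Pl (b.1 : k)) y : FunFld.Place k K → K)))) := by
  have : FiniteDimensional (RatFunc k) K := Module.finite_of_finrank_eq_succ hdeg
  have : CharP K 2 := charP_of_injective_algebraMap (algebraMap k K).injective 2
  have hK₀ := Groth.Agent.H81.RatPlace.isFunctionField (k := k)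
  let ψ := algebraMap (RatFunc k) K
  let W : Submodule k (FunFld.Place k K → K) := FunFld.AD (0 : FunFld.Divisor k K) ⊔ LinearMap.range (FunFld.diag k K)
  let fam := Sum.elim
    (fun a : {a : ↥B × ℕ // 1 ≤ a.2 ∧ 2 * a.2 + 1 ≤ d (a.1 : k)} =>
      (Pi.single (Pl (a.1.1 : k)) (y * ((algebraMap (RatFunc k) K RatFunc.X) - (algebraMap k K (a.1.1 : k))) ^ a.1.2) : FunFld.Place k K → K))
    (fun b : {b : ↥B // (b : k) ≠ 0} => (Pi.single (Pl (b.1 : k)) y : FunFld.Place k K → K))
  have hadele : ∀ i, fam i ∈ FunFld.adele k K := by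
    rintro (a | b)
    · exact Groth.Agent.H81.ASPoints.single_mem _ _
    · exact Groth.Agent.H81.ASPoints.single_mem _ _
  have hfin : Finite ({a : ↥B × ℕ // 1 ≤ a.2 ∧ 2 * a.2 + 1 ≤ d (a.1 : k)}) :=
    Finite.of_injective (fun a => (⟨a.1.1, ⟨a.1.2, by have := a.2.2; omega⟩⟩ : Σ α : ↥B, Fin (d (α : k)))) fun a b h => by
      obtain ⟨⟨α, i⟩, hi⟩ := a
      obtain ⟨⟨β, j⟩, hj⟩ := b
      simp only [Sigma.mk.inj_iff] at h
      obtain ⟨rfl, h⟩ := h
      simp only [heq_eq_eq, Fin.mk.injEq] at h
      subst h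
      rfl
  let _ := Fintype.ofFinite {a : ↥B × ℕ // 1 ≤ a.2 ∧ 2 * a.2 + 1 ≤ d (a.1 : k)}
  -- the places over the poles
  choose Pb eb _ heb using fun β : ↥B => Groth.Agent.Lib.FunFld.Ext.exists_place_below hK₀ (Pl (β : k))
  have hPb : ∀ β : ↥B, (Pb β).1 ((RatFunc.X : RatFunc k) - RatFunc.C (β : k)) < 1 := fun β =>
    (Groth.Agent.H81.ASPoints.val_sub_iff (heb β) (β : k)).1 (hPl β β.2)
  have hat := fun β : ↥B => Groth.Agent.H81.ASPoints.at_pole hdeg heq hd hpole β.2 (hPb β) (heb β)
  have hPlinj : ∀ β γ : ↥B, Pl (β : k) = Pl (γ : k) → β = γ := fun β γ h => Subtype.ext <| by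
    by_contra hne
    have h1 := Groth.Agent.H81.ASPoints.ord_sub_ne (hPb β) (Ne.symm hne)
    have h2 := heb β
    rw [h] at h2
    obtain ⟨hp, -⟩ := Groth.Agent.Lib.FunFld.Ext.place_below_unique h2 (heb γ)
    rw [hp, Groth.Agent.H81.ASPoints.ord_sub (hPb γ)] at h1
    omega
  have hLI : LinearIndependent k (fun i => Submodule.mkQ W (fam i)) := by
    rw [Fintype.linearIndependent_iff]
    intro c hc
    replace hc : Submodule.mkQ W (∑ i, c i • fam i) = 0 := by
      refine Eq.trans ?_ hc
      rw [map_sum]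
      exact Finset.sum_congr rfl fun i _ => map_smul _ _ _
    rw [Submodule.mkQ_apply, Submodule.Quotient.mk_eq_zero] at hc
    obtain ⟨b, hb, _, ⟨z, rfl⟩, hbz⟩ := Submodule.mem_sup.1 hc
    rw [Fintype.sum_sum_type] at hbz
    -- the principal part at each pole
    let pj : ↥B → RatFunc k := fun β => ∑ a : {a : ↥B × ℕ // 1 ≤ a.2 ∧ 2 * a.2 + 1 ≤ d (a.1 : k)},
      if a.1.1 = β then RatFunc.C (c (Sum.inl a)) * ((RatFunc.X : RatFunc k) - RatFunc.C (β : k)) ^ a.1.2 else 0
    let cb : ↥B → k := fun β => if h : (β : k) ≠ 0 then c (Sum.inr ⟨β, h⟩) else 0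
    let p : ↥B → RatFunc k := fun β => pj β + RatFunc.C (cb β)
    have hpt : ∀ R, b R + z = ∑ a, c (Sum.inl a) • fam (Sum.inl a) R + ∑ b', c (Sum.inr b') • fam (Sum.inr b') R :=
      fun R => by
        have := congrFun hbz R
        simp only [Pi.add_apply, Finset.sum_apply, Pi.smul_apply] at this
        exact this
    have hb' : ∀ R : FunFld.Place k K, R.1 (b R) ≤ 1 := fun R => (hb R).trans_eq (by simp)
    have hsmul : ∀ (r : k) (w : K), r • w = ψ (RatFunc.C r) * w := fun r w => by
      rw [Algebra.smul_def, ← RatFunc.algebraMap_eq_C, ← IsScalarTower.algebraMap_apply]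
    have hval : ∀ β : ↥B, (Pl (β : k)).1 (ψ (p β) * y - z) ≤ 1 := fun β => by
      have h := hpt (Pl (β : k))
      have he : ∑ a, c (Sum.inl a) • fam (Sum.inl a) (Pl (β : k)) + ∑ b', c (Sum.inr b') • fam (Sum.inr b') (Pl (β : k)) =
          ψ (p β) * y := by
        simp only [p, pj, map_add, map_sum, add_mul, Finset.sum_mul]
        congr 1
        · refine Finset.sum_congr rfl fun a _ => ?_
          simp only [fam, Sum.elim_inl]
          by_cases ha : a.1.1 = β
          · rw [if_pos ha, ← ha, Pi.single_eq_same, hsmul, map_mul, map_pow, Groth.Agent.H81.ASPoints.sub_eq]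
            ring
          · rw [if_neg ha, Pi.single_eq_of_ne (fun h' => ha (hPlinj _ _ h'.symm)), smul_zero, map_zero, zero_mul]
        · simp only [fam, Sum.elim_inr, cb]
          by_cases h0' : (β : k) ≠ 0
          · rw [dif_pos h0', Finset.sum_eq_single (⟨β, h0'⟩ : {b : ↥B // (b : k) ≠ 0}), Pi.single_eq_same, hsmul]
            · intro b' _ hne
              rw [Pi.single_eq_of_ne (fun h' => hne (Subtype.ext (hPlinj _ _ h'.symm))), smul_zero]
            · simp
          · rw [dif_neg h0', map_zero, map_zero, zero_mul]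
            refine Finset.sum_eq_zero fun b' _ => ?_
            rw [Pi.single_eq_of_ne (fun h' => b'.2 (by rw [show (b'.1) = β from hPlinj _ _ h'.symm]; exact not_ne_iff.1 h0')), smul_zero]
      rw [he] at h
      rw [← h, add_sub_cancel_right]
      exact hb' _
    have hother : ∀ R : FunFld.Place k K, (∀ β : ↥B, R ≠ Pl (β : k)) → R.1 z ≤ 1 := fun R hR => by
      have h := hpt R
      simp only [fam, Sum.elim_inl, Sum.elim_inr, Pi.single_eq_of_ne (hR _), smul_zero, Finset.sum_const_zero,
        add_zero] at h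
      rw [eq_neg_of_add_eq_zero_right h, Valuation.map_neg]
      exact hb' R
    have hpint : ∀ (β : ↥B) (P : FunFld.Place k (RatFunc k)),
        P.1 ((RatFunc.X : RatFunc k) - RatFunc.C (β : k)) < 1 → P.1 (p β) ≤ 1 := fun β P hP => by
      refine (P.1.map_add _ _).trans (max_le (Valuation.map_sum_le _ fun a _ => ?_) ?_)
      · split_ifs
        · rw [map_mul, map_pow]
          exact mul_le_one' (by rw [← RatFunc.algebraMap_eq_C]; exact P.2.1 _) (pow_le_one₀ zero_le hP.le)
        · rw [map_zero]; exact zero_le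
      · rw [← RatFunc.algebraMap_eq_C]; exact P.2.1 _
    have htrace : Algebra.trace (RatFunc k) K y = 1 := Groth.Agent.H81.ASPoints.trace_y hdeg hy heq
    set t := Algebra.trace (RatFunc k) K z with htdef
    have htint : ∀ P : FunFld.Place k (RatFunc k), P.1 t ≤ 1 := by
      intro P
      let _ : Algebra P.O K := (ψ.comp P.O.subtype).toAlgebra
      have : IsScalarTower P.O (RatFunc k) K := IsScalarTower.of_algebraMap_eq fun _ => rfl
      have htr : ∀ w : K, (∀ R, FunFld.IsOver R P → R.1 w ≤ 1) → P.1 (Algebra.trace (RatFunc k) K w) ≤ 1 := by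
        intro w hw
        obtain ⟨a, ha⟩ := IsIntegrallyClosed.isIntegral_iff.1
          (Algebra.isIntegral_trace (L := RatFunc k) ((Groth.Agent.H81.IntClosure.isIntegral_iff hK₀).2 hw))
        rw [← ha]
        exact a.2
      by_cases hP : ∃ β : ↥B, P = Pb β
      · obtain ⟨β, rfl⟩ := hP
        have h1 := htr (ψ (p β) * y - z) fun R hR => by rw [(hat β).2.2 R hR]; exact hval β
        rw [map_sub, show ψ (p β) * y = p β • y by rw [Algebra.smul_def], map_smul, htrace, smul_eq_mul, mul_one] at h1
        rw [show t = p β - (p β - t) by ring]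
        exact (Pb β).1.map_sub_le (hpint β _ (hPb β)) h1
      · exact htr z fun R ⟨e', he'⟩ => hother R fun β h => hP ⟨β, by
          subst h
          exact (Groth.Agent.Lib.FunFld.Ext.place_below_unique he' (heb β)).1⟩
    obtain ⟨c₀, hc₀⟩ : ∃ c₀ : k, algebraMap k (RatFunc k) c₀ = t := by
      refine hK₀.2 t ?_
      by_contra h
      obtain ⟨P, hP⟩ := Groth.Agent.Lib.FunFld.Gen.Existence.exists_pole hK₀.1 (show Transcendental k t from h)
      exact absurd (htint P) (not_le.2 ((Groth.Agent.Lib.FunFld.Place.one_lt_val_iff P).2 hP))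
    rw [RatFunc.algebraMap_eq_C] at hc₀
    -- `z = A + c₀ y`
    obtain ⟨A, hA⟩ : ∃ A : RatFunc k, z = ψ A + ψ t * y := by
      have hlin : ∀ g : Polynomial (RatFunc k), ∃ a b : RatFunc k, Polynomial.aeval y g = ψ a + ψ b * y := fun g => by
        induction g using Polynomial.induction_on' with
        | add p q hp hq =>
          obtain ⟨a, b, h⟩ := hp
          obtain ⟨a', b', h'⟩ := hq
          exact ⟨a + a', b + b', by rw [map_add, h, h', map_add, map_add]; ring⟩
        | monomial n r =>
          suffices h : ∃ a b : RatFunc k, y ^ n = ψ a + ψ b * y by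
            obtain ⟨a, b, h⟩ := h
            exact ⟨r * a, r * b, by rw [Polynomial.aeval_monomial, h, map_mul, map_mul]; ring⟩
          induction n with
          | zero => exact ⟨1, 0, by simp⟩
          | succ n ih =>
            obtain ⟨a, b, h⟩ := ih
            refine ⟨b * f, a + b, ?_⟩
            rw [pow_succ, h, map_mul, ← heq, map_add]
            linear_combination (-(ψ b * y)) * CharTwo.two_eq_zero (R := K)
      obtain ⟨g, hg⟩ := Groth.Agent.H81.Quadratic.exists_linear hdeg hy z
      have hli : ∃ a b : RatFunc k, z = ψ a + ψ b * y := hg ▸ hlin g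
      obtain ⟨a, b', hab⟩ := hli
      refine ⟨a, ?_⟩
      have : t = b' := by
        rw [htdef, hab, show ψ b' * y = b' • y by rw [Algebra.smul_def], map_add, map_smul, htrace,
          Algebra.trace_algebraMap, hdeg, smul_eq_mul, mul_one]
        have : CharP (RatFunc k) 2 := charP_of_injective_algebraMap (algebraMap k (RatFunc k)).injective 2
        rw [two_nsmul, CharTwo.add_self_eq_zero, zero_add]
      rw [this]
      exact hab
    have hy0 : y ≠ 0 := fun h => hy ⟨0, by rw [h, map_zero]⟩
    have hcoef : ∀ (β : ↥B), (∀ a : {a : ↥B × ℕ // 1 ≤ a.2 ∧ 2 * a.2 + 1 ≤ d (a.1 : k)}, a.1.1 = β → c (Sum.inl a) = 0) ∧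
        cb β = c₀ := by
      intro β
      obtain ⟨he2, hordy, -⟩ := hat β
      let q : Polynomial k := Polynomial.C (cb β - c₀) + ∑ a : {a : ↥B × ℕ // 1 ≤ a.2 ∧ 2 * a.2 + 1 ≤ d (a.1 : k)},
        if a.1.1 = β then Polynomial.C (c (Sum.inl a)) * Polynomial.X ^ a.1.2 else 0
      let u : RatFunc k := (RatFunc.X : RatFunc k) - RatFunc.C (β : k)
      have hq : p β - t = Polynomial.aeval u q := by
        simp only [q, p, pj, map_add, Polynomial.aeval_C, map_sum, RatFunc.algebraMap_eq_C, ← hc₀, map_sub]
        rw [show ∀ s a b : RatFunc k, s + a - b = (a - b) + s from fun _ _ _ => by ring]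
        congr 1
        refine Finset.sum_congr rfl fun a _ => ?_
        split_ifs
        · rw [map_mul, Polynomial.aeval_C, map_pow, Polynomial.aeval_X, RatFunc.algebraMap_eq_C]
        · rw [map_zero]
      have hq0 : q = 0 := by
        by_contra hne
        let i := q.natTrailingDegree
        obtain ⟨r, hr⟩ : Polynomial.X ^ i ∣ q := by
          rw [Polynomial.X_pow_dvd_iff]
          exact fun m hm => Polynomial.coeff_eq_zero_of_lt_natTrailingDegree hm
        have hr0 : r.coeff 0 ≠ 0 := by
          have h1 := Polynomial.trailingCoeff_nonzero_iff_nonzero.2 hne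
          rwa [Polynomial.trailingCoeff, show q.coeff q.natTrailingDegree = r.coeff 0 by
            conv_lhs => arg 1; rw [hr]
            rw [show q.natTrailingDegree = 0 + i from (zero_add _).symm, Polynomial.coeff_X_pow_mul]] at h1
        have hu0 : u ≠ 0 := fun h => by
          have := Groth.Agent.H81.ASPoints.ord_sub (hPb β)
          rw [show (RatFunc.X : RatFunc k) - RatFunc.C (β : k) = u from rfl, h, Groth.Agent.Lib.FunFld.Place.ord_zero] at this
          omega
        have hur : (Pb β).1 (Polynomial.aeval u r) = 1 := by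
          obtain ⟨s, hs⟩ := Polynomial.X_dvd_sub_C (p := r)
          rw [sub_eq_iff_eq_add.1 hs, map_add, map_mul, Polynomial.aeval_X, Polynomial.aeval_C]
          have h1 := Groth.Agent.Lib.FunFld.Place.val_algebraMap (Pb β) hr0
          rw [Valuation.map_add_eq_of_lt_right, h1]
          rw [h1, map_mul]
          refine (mul_le_of_le_one_right' ?_).trans_lt (hPb β)
          rw [Polynomial.aeval_eq_sum_range]
          refine Valuation.map_sum_le _ fun m _ => ?_
          rw [Algebra.smul_def, map_mul, map_pow]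
          exact mul_le_one' ((Pb β).2.1 _) (pow_le_one₀ zero_le (hPb β).le)
        have hdegq : q.natDegree ≤ (d (β : k) - 1) / 2 := by
          refine (Polynomial.natDegree_add_le _ _).trans (max_le (by simp) ?_)
          refine Polynomial.natDegree_sum_le_of_forall_le _ _ fun a _ => ?_
          split_ifs with ha
          · refine (Polynomial.natDegree_C_mul_X_pow_le _ _).trans ?_
            have := a.2.2
            rw [ha] at this
            omega
          · simp
        have hi : i ≤ (d (β : k) - 1) / 2 := (Polynomial.natTrailingDegree_le_natDegree _).trans hdegq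
        have hodd := hd β β.2
        have hpos := hodd.pos
        have h1 : (Pl (β : k)).1 (ψ (p β - t) * y) = WithZero.exp ((d (β : k) : ℤ) - 2 * (i : ℤ)) := by
          rw [hq, hr, map_mul (Polynomial.aeval u), map_pow (Polynomial.aeval u), Polynomial.aeval_X, map_mul ψ, map_pow ψ, map_mul, map_mul, map_pow, heb β, heb β, he2, hur,
            one_pow, mul_one, Groth.Agent.Lib.FunFld.Place.val_eq_exp (Pb β) hu0,
            Groth.Agent.H81.ASPoints.ord_sub (hPb β),
            Groth.Agent.Lib.FunFld.Place.val_eq_exp (Pl (β : k)) hy0, hordy, ← WithZero.exp_nsmul,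
            ← WithZero.exp_nsmul, ← WithZero.exp_add]
          congr 1
          simp
          ring
        have h2 := hval β
        rw [hA, show ψ (p β) * y - (ψ A + ψ t * y) = ψ (p β - t) * y - ψ A by rw [map_sub]; ring] at h2
        rcases eq_or_ne A 0 with rfl | hA0
        · rw [map_zero, sub_zero, h1] at h2
          have := WithZero.exp_le_exp.1 (h2.trans WithZero.exp_zero.symm.le)
          omega
        have h3 : (Pl (β : k)).1 (ψ A) = WithZero.exp (-2 * (Pb β).ord A) := by
          rw [heb β, he2, Groth.Agent.Lib.FunFld.Place.val_eq_exp (Pb β) hA0, ← WithZero.exp_nsmul]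
          congr 1
          simp
        have hne' : (Pl (β : k)).1 (ψ (p β - t) * y) ≠ (Pl (β : k)).1 (ψ A) := by
          rw [h1, h3, Ne, WithZero.exp_inj]
          obtain ⟨m', hm'⟩ := hodd
          omega
        rw [sub_eq_add_neg, Valuation.map_add_of_distinct_val _ (by rwa [Valuation.map_neg]), h1] at h2
        have := WithZero.exp_le_exp.1 ((le_max_left _ _).trans h2 |>.trans WithZero.exp_zero.symm.le)
        omega
      refine ⟨fun a ha => ?_, ?_⟩
      · have h := congrArg (fun q : Polynomial k => q.coeff a.1.2) hq0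
        simp only [q, Polynomial.coeff_add, Polynomial.finsetSum_coeff, Polynomial.coeff_zero, Polynomial.coeff_C] at h
        rw [if_neg (by have := a.2.1; omega), zero_add, Finset.sum_eq_single a] at h
        · simpa [ha] using h
        · intro a' _ hne
          split_ifs with ha'
          · rw [Polynomial.coeff_C_mul_X_pow, if_neg fun hj => hne (Subtype.ext (Prod.ext (ha'.trans ha.symm) hj.symm))]
          · exact Polynomial.coeff_zero _
        · simp
      · have h := congrArg (fun q : Polynomial k => q.coeff 0) hq0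
        simp only [q, Polynomial.coeff_add, Polynomial.finsetSum_coeff, Polynomial.coeff_zero, Polynomial.coeff_C_zero] at h
        rw [Finset.sum_eq_zero, add_zero, sub_eq_zero] at h
        · exact h
        · intro a' _
          split_ifs
          · rw [Polynomial.coeff_C_mul_X_pow, if_neg (by have := a'.2.1; omega)]
          · exact Polynomial.coeff_zero _
    have hc0 : c₀ = 0 := by
      have := (hcoef ⟨0, h0⟩).2
      simpa [cb] using this.symm
    rintro (a | b')
    · exact (hcoef a.1.1).1 a rfl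
    · have := (hcoef b'.1).2
      rw [hc0] at this
      simpa [cb, b'.2] using this
  refine ⟨hadele, hLI, fun a ha => ?_⟩
  obtain ⟨hfd, hrank⟩ := Groth.Agent.Lib.FunFld.Riemann.finrank_adele_quot hK (0 : FunFld.Divisor k K)
  rw [Groth.Agent.Lib.FunFld.Riemann.delta_zero hK, sub_zero] at hrank
  have hgen := Groth.Agent.H81.ASPoints.genus_eq hdeg hy heq hd hpole hint hK
  let m : k → ℕ := fun α => (d α + 1) / 2
  have hcard : (Fintype.card ({a : ↥B × ℕ // 1 ≤ a.2 ∧ 2 * a.2 + 1 ≤ d (a.1 : k)} ⊕ {b : ↥B // (b : k) ≠ 0}) : ℤ) =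
      FunFld.genus k K := by
    rw [Fintype.card_sum]
    have hcardA : Fintype.card {a : ↥B × ℕ // 1 ≤ a.2 ∧ 2 * a.2 + 1 ≤ d (a.1 : k)} = ∑ α : ↥B, (m α - 1) := by
      have hbound : ∀ (α : ↥B) (i : Fin (m α - 1)), 1 ≤ (i : ℕ) + 1 ∧ 2 * ((i : ℕ) + 1) + 1 ≤ d (α : k) := fun α i => by
        have := i.2
        simp only [m] at this
        omega
      rw [show ∑ α : ↥B, (m (α : k) - 1) = ∑ α : ↥B, Fintype.card (Fin (m (α : k) - 1)) by simp, ← Fintype.card_sigma]
      exact Fintype.card_congr
        { toFun := fun a => ⟨a.1.1, ⟨a.1.2 - 1, by have := a.2; simp only [m]; omega⟩⟩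
          invFun := fun s => ⟨(s.1, (s.2 : ℕ) + 1), hbound s.1 s.2⟩
          left_inv := fun a => Subtype.ext (Prod.ext rfl (Nat.sub_add_cancel a.2.1))
          right_inv := fun s => by simp }
    have hcardB : Fintype.card {b : ↥B // (b : k) ≠ 0} + 1 = B.card := by
      have h1 : Fintype.card {b : ↥B // (b : k) ≠ 0} = (B.erase 0).card := by
        rw [← Fintype.card_coe]
        exact Fintype.card_congr
          { toFun := fun b => ⟨b.1.1, Finset.mem_erase.2 ⟨b.2, b.1.2⟩⟩
            invFun := fun b => ⟨⟨b.1, (Finset.mem_erase.1 b.2).2⟩, (Finset.mem_erase.1 b.2).1⟩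
            left_inv := fun _ => rfl
            right_inv := fun _ => rfl }
      rw [h1, Finset.card_erase_add_one h0]
    have hm : ∑ α : ↥B, (m α - 1) + B.card = ∑ α ∈ B, m α := by
      rw [Finset.sum_coe_sort B (fun α => m α - 1), Finset.card_eq_sum_ones, ← Finset.sum_add_distrib]
      refine Finset.sum_congr rfl fun α hα => ?_
      have := (hd α hα).pos
      simp only [m]; omega
    have h1 : (FunFld.genus k K : ℤ) = -1 + ∑ α ∈ B, (m α : ℤ) := hgen
    push_cast [← Nat.cast_sum] at h1
    omega
  let v : _ → ↥(FunFld.adele k K) ⧸ FunFld.ADK (0 : FunFld.Divisor k K) := fun i => Submodule.mkQ _ ⟨fam i, hadele i⟩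
  have hv : LinearIndependent k v := by
    let T : (↥(FunFld.adele k K) ⧸ FunFld.ADK (0 : FunFld.Divisor k K)) →ₗ[k] ((FunFld.Place k K → K) ⧸ W) :=
      Submodule.mapQ _ _ (FunFld.adele k K).subtype le_rfl
    exact LinearIndependent.of_comp T hLI
  have := hfd
  have htop := hv.span_eq_top_of_card_eq_finrank' (by
    have := hcard.trans hrank.symm
    exact_mod_cast this)
  obtain ⟨c, hc⟩ := (Submodule.mem_span_range_iff_exists_fun k).1
    (htop ▸ Submodule.mem_top : Submodule.mkQ _ (⟨a, ha⟩ : ↥(FunFld.adele k K)) ∈ Submodule.span k (Set.range v))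
  replace hc : Submodule.mkQ (FunFld.ADK (0 : FunFld.Divisor k K)) (∑ i, c i • (⟨fam i, hadele i⟩ : ↥(FunFld.adele k K))) =
      Submodule.mkQ _ (⟨a, ha⟩ : ↥(FunFld.adele k K)) := by
    refine Eq.trans ?_ hc
    rw [map_sum]
    exact Finset.sum_congr rfl fun i _ => map_smul _ _ _
  rw [Submodule.mkQ_apply, Submodule.mkQ_apply, Submodule.Quotient.eq] at hc
  have hmem : (∑ i, c i • fam i) - a ∈ W := by
    have h1 : ((∑ i, c i • (⟨fam i, hadele i⟩ : ↥(FunFld.adele k K))) - ⟨a, ha⟩ : ↥(FunFld.adele k K)).1 ∈ W := hc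
    simpa using h1
  refine Submodule.mem_sup.2 ⟨-((∑ i, c i • fam i) - a), W.neg_mem hmem, ∑ i, c i • fam i,
    Submodule.sum_mem _ fun i _ => Submodule.smul_mem _ _ (Submodule.subset_span ⟨i, rfl⟩), by abel⟩

end Groth.Agent.S19046
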