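import Groth.Statements.S19047
import Groth.Agent.H81.ASPoints

set_option autoImplicit false
universe u v
open Classical
open FunFld

namespace Groth.Agent.S19047

/-- Let `k` be algebraically closed of characteristic `2`, `K = k(x, y)` with `y² + y = f(x)` separable
of degree `2` over `k(x)`, `B ⊆ k` a finite set containing `0` with `f` having a pole of odd order
`d_β` at `x = β` for `β ∈ B` and integral elsewhere, `c_β = (d_β - 1)/2`, and `P_β` a place of `K`
above `x = β`. With `H¹(X, O)` of the smooth projective model written as repartitions modulo `W =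
A(0) + K` (everywhere-integral repartitions plus constants) and its Frobenius induced by
componentwise squaring, for `α ∈ B` and `j ≥ 0`: the Frobenius of the class of the repartition
supported at `P_α` with value `y (x - α)^j` is the class of the one with value `y (x - α)^{2j}` when
`2j ≤ c_α`, and is `0` when `2j > c_α`. -/
theorem result (k : Type u) (K : Type v)
    [Field k] [IsAlgClosed k] [CharP k 2] [Field K] [Algebra k K] [Algebra (RatFunc k) K] [IsScalarTower k (RatFunc k) K]
    (hK : FunFld.IsFunctionField k K) (hdeg : Module.finrank (RatFunc k) K = 2) [Algebra.IsSeparable (RatFunc k) K]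
    (y : K) (hy : y ∉ Set.range (algebraMap (RatFunc k) K)) (f : RatFunc k)
    (heq : y ^ 2 + y = algebraMap (RatFunc k) K f)
    (B : Finset k) (h0 : (0 : k) ∈ B) (d : k → ℕ) (hd : ∀ β ∈ B, Odd (d β))
    (hpole : ∀ (p : FunFld.Place k (RatFunc k)) (β : k), β ∈ B →
      p.1 ((RatFunc.X : RatFunc k) - RatFunc.C β) < 1 → p.ord f = -(d β : ℤ))
    (hint : ∀ p : FunFld.Place k (RatFunc k), (∀ β ∈ B, 1 ≤ p.1 ((RatFunc.X : RatFunc k) - RatFunc.C β)) → p.1 f ≤ 1)
    (Pl : k → FunFld.Place k K) (hPl : ∀ β ∈ B, (Pl β).1 ((algebraMap (RatFunc k) K RatFunc.X) - (algebraMap k K β)) < 1)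
    (α : k) (hα : α ∈ B) (j : ℕ) :
    (4 * j + 1 ≤ d α → (Pi.single (Pl α) ((y * ((algebraMap (RatFunc k) K RatFunc.X) - (algebraMap k K α)) ^ j) ^ 2) : FunFld.Place k K → K) - (Pi.single (Pl α) (y * ((algebraMap (RatFunc k) K RatFunc.X) - (algebraMap k K α)) ^ (2 * j)) : FunFld.Place k K → K) ∈ (FunFld.AD (0 : FunFld.Divisor k K) ⊔ LinearMap.range (FunFld.diag k K))) ∧
    (d α < 4 * j + 1 → (Pi.single (Pl α) ((y * ((algebraMap (RatFunc k) K RatFunc.X) - (algebraMap k K α)) ^ j) ^ 2) : FunFld.Place k K → K) ∈ (FunFld.AD (0 : FunFld.Divisor k K) ⊔ LinearMap.range (FunFld.diag k K))) := by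
  have : FiniteDimensional (RatFunc k) K := Module.finite_of_finrank_eq_succ hdeg
  have : CharP K 2 := charP_of_injective_algebraMap (algebraMap k K).injective 2
  obtain ⟨P, e, -, he⟩ := Groth.Agent.Lib.FunFld.Ext.exists_place_below
    (Groth.Agent.H81.RatPlace.isFunctionField (k := k)) (Pl α)
  have hP := (Groth.Agent.H81.ASPoints.val_sub_iff he α).1 (hPl α hα)
  obtain ⟨he2, hordy, huniq⟩ := Groth.Agent.H81.ASPoints.at_pole hdeg heq hd hpole hα hP he
  subst he2
  set u := (algebraMap (RatFunc k) K RatFunc.X) - (algebraMap k K α) with hu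
  have hu' : u = algebraMap (RatFunc k) K ((RatFunc.X : RatFunc k) - RatFunc.C α) :=
    (Groth.Agent.H81.ASPoints.sub_eq α).symm
  let g : RatFunc k := f * ((RatFunc.X : RatFunc k) - RatFunc.C α) ^ (2 * j)
  have hsq : (y * u ^ j) ^ 2 = algebraMap (RatFunc k) K g + y * u ^ (2 * j) := by
    simp only [g]
    rw [map_mul, map_pow, ← hu', ← heq]
    linear_combination (-(y * u ^ (2 * j))) * CharTwo.two_eq_zero (R := K)
  have hmain : (Pi.single (Pl α) (algebraMap (RatFunc k) K g) : FunFld.Place k K → K) ∈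
      (FunFld.AD (0 : FunFld.Divisor k K) ⊔ LinearMap.range (FunFld.diag k K)) := by
    obtain ⟨z, hz1, hz2⟩ := Groth.Agent.H81.ASPoints.exists_principal P g
    refine Submodule.mem_sup.2 ⟨(Pi.single (Pl α) (algebraMap (RatFunc k) K g) : FunFld.Place k K → K) -
      (fun _ => algebraMap (RatFunc k) K z), ?_, fun _ => algebraMap (RatFunc k) K z, ⟨algebraMap (RatFunc k) K z, rfl⟩,
      sub_add_cancel _ _⟩
    intro R
    rw [Finsupp.coe_zero, Pi.zero_apply, WithZero.exp_zero, Pi.sub_apply]
    obtain ⟨P', e', -, he'⟩ := Groth.Agent.Lib.FunFld.Ext.exists_place_below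
      (Groth.Agent.H81.RatPlace.isFunctionField (k := k)) R
    by_cases hR : R = Pl α
    · subst hR
      rw [Pi.single_eq_same, ← map_sub, he]
      exact pow_le_one₀ zero_le hz1
    · rw [Pi.single_eq_of_ne hR, zero_sub, Valuation.map_neg, he']
      refine pow_le_one₀ zero_le (hz2 P' fun h => hR ?_)
      subst h
      exact huniq R ⟨e', he'⟩
  rw [hsq, Pi.single_add]
  refine ⟨fun _ => ?_, fun hlt => ?_⟩
  · rw [add_sub_cancel_right]
    exact hmain
  · refine Submodule.add_mem _ hmain (Submodule.mem_sup_left fun R => ?_)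
    rw [Finsupp.coe_zero, Pi.zero_apply, WithZero.exp_zero]
    by_cases hR : R = Pl α
    · subst hR
      rw [Pi.single_eq_same, map_mul, map_pow, hu', he,
        Groth.Agent.Lib.FunFld.Place.val_eq_exp P (x := (RatFunc.X : RatFunc k) - RatFunc.C α) (fun h => by
          have := Groth.Agent.H81.ASPoints.ord_sub hP
          rw [h, Groth.Agent.Lib.FunFld.Place.ord_zero] at this; omega),
        Groth.Agent.H81.ASPoints.ord_sub hP,
        Groth.Agent.Lib.FunFld.Place.val_eq_exp (Pl α) (x := y) (fun h => hy ⟨0, by rw [h, map_zero]⟩), hordy,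
        ← WithZero.exp_nsmul, ← WithZero.exp_nsmul, ← WithZero.exp_add]
      refine (WithZero.exp_le_exp.2 ?_).trans WithZero.exp_zero.le
      obtain ⟨c, hc⟩ := hd α hα
      simp only [nsmul_eq_mul]
      push_cast
      omega
    · rw [Pi.single_eq_of_ne hR, map_zero]; exact zero_le

end Groth.Agent.S19047
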