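import Groth.Statements.S1905
import Groth.Agent.Lib.Cyc.FP.DivShift
import Mathlib.AlgebraicGeometry.FunctionField

set_option autoImplicit false
universe u
open CategoryTheory AlgebraicGeometry
open Cyc

namespace Groth.Agent.S1905

/-- Let f : X → Y be a flat morphism, locally of finite type, of relative dimension r between integral
schemes, and g a nonzero rational function on Y, taken in the residue field at f(η_X) (the generic
point of Y). Then f^*(div_Y g) = div_X(g ∘ f) coefficientwise, where g ∘ f is the image of g in
κ(η_X). A pair (X, δ) with Cyc.IsSetup plays the role of a scheme locally of finite type over a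
fixed base with a dimension function (X locally Noetherian with universally catenary local rings, δ
a dimension function), and Cyc.DeltaCompat records that the dimension function upstairs is the
induced one. -/
theorem result (X Y : Scheme.{u}) [IsIntegral X] [IsIntegral Y] (δX : X → ℤ) (δY : Y → ℤ) (hX : Cyc.IsSetup X δX) (hY : Cyc.IsSetup Y δY) (f : X ⟶ Y) [Flat f] [LocallyOfFiniteType f] (r : ℕ) (hr : Cyc.HasRelDim f r) (hδ : Cyc.DeltaCompat f δX δY) (g : Y.residueField (f (genericPoint X))) (hg : g ≠ 0) : Cyc.pullFun f δX δY r (Cyc.divFun δY (f (genericPoint X)) g) = Cyc.divFun δX (genericPoint X) (f.residueFieldMap (genericPoint X) g) := by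
  classical
  have := hX.1
  have := hY.1
  have hc := Groth.Agent.Lib.Cyc.FP.Main.shift_of_hasRelDim f hr hδ
  have hηY : f (genericPoint X) = genericPoint Y := by
    obtain ⟨w, hw, hfw⟩ := Flat.generalizingMap f (genericPoint_specializes (f (genericPoint X)))
    rwa [(hw.antisymm (genericPoint_specializes w)).eq] at hfw
  have hmax : ∀ (Z : Scheme.{u}) [IsIntegral Z] (z : Z), z = genericPoint Z →
      IsLocalRing.maximalIdeal (Z.presheaf.stalk z) = ⊥ := by
    rintro Z _ z rfl
    exact IsLocalRing.maximalIdeal_eq_bot (R := Z.functionField)
  have hP : (IsLocalRing.maximalIdeal (Y.presheaf.stalk (f (genericPoint X)))).map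
      (f.stalkMap (genericPoint X)).hom = IsLocalRing.maximalIdeal _ := by
    rw [hmax X _ rfl, hmax Y _ hηY, Ideal.map_bot]
  funext x
  exact Groth.Agent.Lib.Cyc.FP.DivShift.pullFun_divFun_shift f hX.2.2 hY.2.2 hc (genericPoint X) hP
    (fun w hw hwm => (hwm _ hw.symm (genericPoint_specializes w)).symm) g hg x

end Groth.Agent.S1905
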