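import Groth.Statements.S19050
import Groth.Agent.H47.HomFibre.Basic
import Groth.Agent.Lib.Exchange.Fibre
import Groth.Agent.Lib.ResDescend36.Ample
import Groth.Agent.Lib.HProj.QuasiProj
import Groth.Agent.Lib.CohBasics.Closure
import Mathlib.RingTheory.LocalRing.Module
-- import your own Groth.Agent.* helpers here

set_option autoImplicit false
set_option backward.isDefEq.respectTransparency false
open CategoryTheory CategoryTheory.Limits AlgebraicGeometry
universe u
open Coherent

namespace Groth.Agent.S19050

open CategoryTheory CategoryTheory.Limits AlgebraicGeometry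
open Groth.Agent.Lib
open scoped TensorProduct

/-- A finite module whose fibres all have dimension `n` over a local domain is free of rank `n`. -/
theorem nonempty_basis {R N : Type u} [CommRing R] [IsDomain R] [IsLocalRing R] [AddCommGroup N]
    [Module R N] [Module.Finite R N] (n : ℕ)
    (h : ∀ p : PrimeSpectrum R, Module.finrank p.asIdeal.ResidueField (p.asIdeal.ResidueField ⊗[R] N) = n) :
    Nonempty ((Fin n → R) ≃ₗ[R] N) := by
  classical
  let m := IsLocalRing.maximalIdeal R
  let k := R ⧸ m
  letI : Field k := Ideal.Quotient.field m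
  have hk : Module.finrank k (k ⊗[R] N) = n := by
    rw [← Module.finrank_baseChange (R := m.ResidueField) (S := k) (M' := k ⊗[R] N),
      (TensorProduct.AlgebraTensorModule.cancelBaseChange R k m.ResidueField m.ResidueField N).finrank_eq]
    exact h ⟨m, inferInstance⟩
  let b := Module.finBasisOfFinrankEq k (k ⊗[R] N) hk
  have hmk : Function.Surjective (TensorProduct.mk R k N 1) :=
    TensorProduct.mk_surjective R N k Ideal.Quotient.mk_surjective
  choose v hv using fun i => hmk (b i)
  have hspan : Submodule.span R (Set.range v) = ⊤ := IsLocalRing.span_eq_top_of_tmul_eq_basis v b hv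
  let g : (Fin n → R) →ₗ[R] N := Fintype.linearCombination R v
  have hg : Function.Surjective g := by
    rw [← LinearMap.range_eq_top, Fintype.range_linearCombination, hspan]
  refine ⟨LinearEquiv.ofBijective g ⟨?_, hg⟩⟩
  let K := (⊥ : Ideal R).ResidueField
  have hK := h ⟨⊥, Ideal.isPrime_bot⟩
  have hsurj : Function.Surjective (g.baseChange K) := LinearMap.lTensor_surjective K hg
  have hinj : Function.Injective (g.baseChange K) :=
    (LinearMap.injective_iff_surjective_of_finrank_eq_finrank (by
      rw [hK, (TensorProduct.piScalarRight R K K (Fin n)).finrank_eq, Module.finrank_fin_fun])).2 hsurj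
  intro x y hxy
  have h1 : (1 : K) ⊗ₜ[R] x = 1 ⊗ₜ y := hinj (by rw [LinearMap.baseChange_tmul, LinearMap.baseChange_tmul, hxy])
  funext i
  have h2 := congrFun (congrArg (TensorProduct.piScalarRight R K K (Fin n)) h1) i
  simp only [TensorProduct.piScalarRight_apply, TensorProduct.piScalarRightHom_tmul,
    Algebra.smul_def, mul_one] at h2
  exact IsFractionRing.injective R K h2

theorem finrank_over {K K' : CommRingCat.{u}} (e : K ≅ K') {Y : Scheme.{u}}
    (h : Y ⟶ Spec K) (h' : Y ⟶ Spec K')
    (H : ∀ r, Coh.toGlobal (X := Y) (A := K) h r = Coh.toGlobal (X := Y) (A := K') h' (e.hom r))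
    (M M' : Y.Modules) :
    (letI : Y.Over (Spec (CommRingCat.of K)) := ⟨h⟩; Module.finrank K (M ⟶ M')) =
      (letI : Y.Over (Spec (CommRingCat.of K')) := ⟨h'⟩; Module.finrank K' (M ⟶ M')) := by
  letI oK : Y.Over (Spec (CommRingCat.of K)) := ⟨h⟩
  letI oK' : Y.Over (Spec (CommRingCat.of K')) := ⟨h'⟩
  letI mK : Module K (M ⟶ M') := KLin.homModule K Y M M'
  letI mK' : Module K' (M ⟶ M') := KLin.homModule K' Y M M'
  refine congrArg Cardinal.toNat (rank_eq_of_equiv_equiv e.hom (AddEquiv.refl _)
    e.commRingCatIsoToRingEquiv.bijective ?_)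
  intro r z
  show Formal.smulModΓ M (Coh.toGlobal (X := Y) (A := K) h r) ≫ z =
    Formal.smulModΓ M (Coh.toGlobal (X := Y) (A := K') h' (e.hom r)) ≫ z
  rw [H r]

theorem exists_div {R : Type u} [CommRing R] (p : Ideal R) [p.IsPrime] (k : p.ResidueField) :
    ∃ a s : R, algebraMap R p.ResidueField s ≠ 0 ∧
      k * algebraMap R p.ResidueField s = algebraMap R p.ResidueField a := by
  obtain ⟨⟨a, s⟩, h⟩ := IsLocalization.surj (nonZeroDivisors (R ⧸ p)) k
  obtain ⟨a', ha⟩ := Ideal.Quotient.mk_surjective a
  obtain ⟨s', hs⟩ := Ideal.Quotient.mk_surjective (s : R ⧸ p)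
  refine ⟨a', s', ?_, ?_⟩
  · rw [← Ideal.algebraMap_quotient_residueField_mk, hs]
    exact (IsLocalization.map_units p.ResidueField s).ne_zero
  · rw [← Ideal.algebraMap_quotient_residueField_mk, ← Ideal.algebraMap_quotient_residueField_mk, ha, hs]
    exact h

/-- Let R be a discrete valuation ring, X a projective R-scheme and I, F coherent O_X-modules flat over
R. Suppose that for each point y of Spec R the κ(y)-vector space of morphisms I_y → F_y between the
restrictions to the fibre X_y = X ×_R Spec κ(y) has the same dimension n. Then the R-module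
Hom_{O_X}(I, F) is free of rank n (finitely generated, free, of rank n), and if n ≥ 1 there is a
morphism I → F whose restriction to each fibre is nonzero. (The published statement is for the base
change to R of a smooth projective variety over a field; it is stated here for any projective
R-scheme, to which the printed argument applies unchanged. The identification of the two fibres of
Hom(I, F) with the Hom spaces on the fibres is not restated; its consequence for n ≥ 1 is.) -/
theorem result
    (R : Type u) [CommRing R] [IsDomain R] [IsDiscreteValuationRing R]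
    (X : Scheme.{u}) [X.Over (Spec (CommRingCat.of R))]
    (hproj : ∃ (m : ℕ) (ι : X ⟶ CohB1.ProjSpace m R), IsClosedImmersion ι ∧
      ι ≫ CohB1.ProjSpace.toSpec m R = X ↘ Spec (CommRingCat.of R))
    (I F : X.Modules) (hI : Coh.IsCoh I) (hF : Coh.IsCoh F)
    (hIfl : FlatMod.IsFlatOver (X ↘ Spec (CommRingCat.of R)) I)
    (hFfl : FlatMod.IsFlatOver (X ↘ Spec (CommRingCat.of R)) F)
    (n : ℕ)
    (hfib : ∀ y : ↥(Spec (CommRingCat.of R)),
      letI : ((X ↘ Spec (CommRingCat.of R)).fiber y).Over
          (Spec (CommRingCat.of ((Spec (CommRingCat.of R)).residueField y))) :=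
        ⟨(X ↘ Spec (CommRingCat.of R)).fiberToSpecResidueField y⟩
      Module.finrank ((Spec (CommRingCat.of R)).residueField y)
        ((Scheme.Modules.pullback ((X ↘ Spec (CommRingCat.of R)).fiberι y)).obj I ⟶
          (Scheme.Modules.pullback ((X ↘ Spec (CommRingCat.of R)).fiberι y)).obj F) = n) :
    Module.Finite R (I ⟶ F) ∧ Module.Free R (I ⟶ F) ∧ Module.finrank R (I ⟶ F) = n ∧
      (0 < n → ∃ φ : I ⟶ F, ∀ y : ↥(Spec (CommRingCat.of R)),
        (Scheme.Modules.pullback ((X ↘ Spec (CommRingCat.of R)).fiberι y)).map φ ≠ 0) := by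
  obtain ⟨m, ι, hι, hιX⟩ := hproj
  haveI := hι
  haveI : IsProper (X ↘ Spec (CommRingCat.of R)) := by rw [← hιX]; infer_instance
  haveI : IsLocallyNoetherian X := LocallyOfFiniteType.isLocallyNoetherian (X ↘ Spec (CommRingCat.of R))
  haveI : CompactSpace X := QuasiCompact.compactSpace_of_compactSpace (X ↘ Spec (CommRingCat.of R))
  haveI : IsNoetherian X := {}
  have hres := ResDescend36.Ample.hasResolutionProperty _
    (Ample.Pullback.isAmple_pullback ι (Ample.Pullback.isQuasiAffine_of_isAffineHom ι)
      (HProj.QuasiProj.isAmple_twist_projSpace m R))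
  obtain ⟨E₀, π, hE₀, hπ⟩ := hres I hI.1 hI.2
  haveI := hπ
  have hK : Coh.IsCoh (kernel π) :=
    CohBasics.Closure.isCoh_kernel π (Perfect.Coherent.isCoh_of_isFinLocFree hE₀) hI.1
  obtain ⟨E₁, π₁, hE₁, hπ₁⟩ := hres (kernel π) hK.1 hK.2
  haveI := hπ₁
  have hex : (ShortComplex.mk (π₁ ≫ kernel.ι π) π (by simp)).Exact := by
    rw [ShortComplex.exact_iff_epi_kernel_lift]
    have : kernel.lift π (π₁ ≫ kernel.ι π) (by simp) = π₁ := by
      apply equalizer.hom_ext; simp
    rw [this]; infer_instance
  obtain ⟨N, hN, ⟨θ⟩⟩ := Groth.Agent.S4500.result R X F hF hFfl I E₀ E₁ hE₀ hE₁ _ π _ hex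
  haveI := hN
  haveI : F.IsQuasicoherent := hF.1
  have hrank : ∀ p : PrimeSpectrum R,
      Module.finrank p.asIdeal.ResidueField (p.asIdeal.ResidueField ⊗[R] N) = n := fun p => by
    let f := X ↘ Spec (CommRingCat.of R)
    have hsq := ZarCoh.Exchange.Fibre.isPullback_fiber f p
    rw [← Groth.Agent.H47.HomFibre.finrank_hom_fibre F θ (exists_div p.asIdeal) hsq]
    refine Eq.trans ?_ (hfib p)
    exact (finrank_over (Scheme.Spec.residueFieldIso (CommRingCat.of R) p) (f.fiberToSpecResidueField p)
      (f.fiberToSpecResidueField p ≫ Spec.map (Scheme.Spec.residueFieldIso (CommRingCat.of R) p).inv)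
      (fun r => by rw [ZarCoh.Exchange.Fibre.toGlobal_comp_residueFieldIso, Iso.hom_inv_id_apply]; rfl) _ _).symm
  obtain ⟨e⟩ := nonempty_basis n hrank
  haveI : Module.Free R N := Module.Free.of_equiv e
  let L : (I ⟶ F) ≃ₗ[R] (Fin n → R) :=
    (Groth.Agent.H47.HomFibre.homDual θ).trans (((e.arrowCongr (LinearEquiv.refl R R)).symm).trans
      (Module.piEquiv (Fin n) R R).symm)
  refine ⟨Module.Finite.equiv L.symm, Module.Free.of_equiv L.symm,
    L.finrank_eq.trans (Module.finrank_fin_fun R), fun hn => ?_⟩
  refine ⟨(Groth.Agent.H47.HomFibre.homDual θ).symm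
    ((LinearMap.proj (⟨0, hn⟩ : Fin n)).comp e.symm.toLinearMap), fun y => ?_⟩
  have hsq := ZarCoh.Exchange.Fibre.isPullback_fiber (X ↘ Spec (CommRingCat.of R)) y
  obtain ⟨c⟩ := Groth.Agent.H47.HomFibre.nonempty_pushPull hsq F
  refine Groth.Agent.H47.HomFibre.pullback_map_ne_zero F θ c _ (n := e (Pi.single ⟨0, hn⟩ 1)) ?_
  rw [LinearEquiv.apply_symm_apply]
  simp

end Groth.Agent.S19050
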