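import Groth.Statements.S19052
import Groth.Agent.H53IdHom.Basic

set_option autoImplicit false
open CategoryTheory CategoryTheory.Limits AlgebraicGeometry
universe u
open NonPure

namespace Groth.Agent.S19052

/-- Let K be a field and X an integral K-scheme, smooth, proper and geometrically irreducible over K, of
dimension at least 2, with an invertible ample O_X-module L (the polarisation for Hilbert
polynomials) and an integer ℓ ≥ 1. Let A_j (j ∈ J) be sets of closed subschemes of X (quasi-coherent
ideal sheaves), each member integral and different from X. Assume that each A_j contains every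
closed subscheme whose ideal sheaf is isomorphic, as an O_X-module, to the ideal sheaf of a member
of A_j, and condition (†)(2) over K: for W ∈ A_j, Y ∈ A_{j'} and every coherent torsion-free
O_Y-module G of generic rank one whose Hilbert polynomial is P_{O_Y} − ℓ, every morphism I_W → i_*G
vanishes (I_W the ideal sheaf of W as an O_X-module, i : Y → X the inclusion). Let Z ⊆ X be a closed
subscheme finite locally free of degree ℓ over K, so that F = I_Z is a sheaf of ideal type. Then for
every W ∈ A_j the K-vector space Hom(I_W, I_Z) is finite-dimensional of dimension at most one. (In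
the published statement X is the base change to K of a fixed smooth projective geometrically
connected variety and the A_j are the K-points of the connected components α_j of a fixed open and
closed α ⊆ Hilb(X) whose points are geometrically integral and geometrically normal or divisors,
with (†) asked over every field extension; the row keeps exactly what the printed argument uses over
K, and makes explicit that members of α are proper closed subschemes.) -/
theorem result
    (K : Type u) [Field K] (X : Scheme.{u}) [X.Over (Spec (CommRingCat.of K))]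
    [IsIntegral X] [Smooth (X ↘ Spec (CommRingCat.of K))] [IsProper (X ↘ Spec (CommRingCat.of K))]
    [GeometricallyIrreducible (X ↘ Spec (CommRingCat.of K))]
    (hdim : 2 ≤ topologicalKrullDim X)
    (L : X.Modules) (hLi : PicF.IsInvertible L) (hLa : CohB1.IsAmple L)
    (ℓ : ℕ) (hℓ : 0 < ℓ)
    (J : Type u) (A : J → Set X.IdealSheafData)
    (hA : ∀ j, ∀ W ∈ A j, IsIntegral W.subscheme ∧ W ≠ ⊥)
    (hAiso : ∀ j, ∀ W ∈ A j, ∀ W'' : X.IdealSheafData,
      Nonempty (ClSub.idealMod W'' ≅ ClSub.idealMod W) → W'' ∈ A j)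
    (dag2 : ∀ j j', ∀ W ∈ A j, ∀ Y ∈ A j', ∀ (hY : IsIntegral Y.subscheme) (G : Y.subscheme.Modules),
      Coh.IsCoh G → TorSh.IsTorsionFree G →
      (haveI := hY
       Module.finrank (Y.subscheme.presheaf.stalk (genericPoint Y.subscheme))
        (G.presheaf.stalk (genericPoint Y.subscheme)) = 1) →
      (letI : Y.subscheme.Over (Spec (CommRingCat.of K)) := ⟨Y.subschemeι ≫ (X ↘ Spec (CommRingCat.of K))⟩
       ∃ P : Polynomial ℚ,
        ShStab.IsHilbPoly K Y.subscheme ((Scheme.Modules.pullback Y.subschemeι).obj L)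
          (Coh.structureModule Y.subscheme) P ∧
        ShStab.IsHilbPoly K Y.subscheme ((Scheme.Modules.pullback Y.subschemeι).obj L) G
          (P - Polynomial.C (ℓ : ℚ))) →
      ∀ φ : ClSub.idealMod W ⟶ (Coh.push Y.subschemeι).obj G, φ = 0)
    (Z : X.IdealSheafData) (hZ : Mor2.IsFinLocFreeOfDeg ℓ (Z.subschemeι ≫ (X ↘ Spec (CommRingCat.of K))))
    (j : J) (W : X.IdealSheafData) (hW : W ∈ A j) :
    Module.Finite K (ClSub.idealMod W ⟶ ClSub.idealMod Z) ∧
      Module.finrank K (ClSub.idealMod W ⟶ ClSub.idealMod Z) ≤ 1 := by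
  obtain ⟨hfin, hrank⟩ := Groth.Agent.H73.IdealEnd.finrank_end (K := K) (hA j W hW).2
  haveI := hfin
  haveI : IsNoetherian X := Groth.Agent.Lib.Curves.GlobalSections.isNoetherian_of_proper K X
  by_cases h0 : ∀ φ : ClSub.idealMod W ⟶ ClSub.idealMod Z, φ = 0
  · haveI : Subsingleton (ClSub.idealMod W ⟶ ClSub.idealMod Z) := ⟨fun a b => by rw [h0 a, h0 b]⟩
    exact ⟨Module.Finite.of_finite, by rw [Module.finrank_zero_of_subsingleton]; exact Nat.zero_le _⟩
  push Not at h0
  obtain ⟨φ, hφ⟩ := h0
  haveI hmZ : Mono (ClSub.idealModι Z) := inferInstanceAs (Mono (kernel.ι _))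
  haveI := (Groth.Agent.Lib.TFNodal.Enlarge.isCoh_idealMod W).1
  haveI := Groth.Agent.H53IdHom.mono_of_ne_zero (hA j W hW).2 (φ ≫ ClSub.idealModι Z)
    fun h => hφ (by rw [← cancel_mono (ClSub.idealModι Z), h, zero_comp])
  obtain ⟨J', e, he⟩ := Groth.Agent.H53IdHom.exists_ideal_of_mono (φ ≫ ClSub.idealModι Z)
  have hJA : J' ∈ A j := hAiso j W hW J' ⟨e.symm⟩
  have hle : J' ≤ Z := fun U r hr => by
    obtain ⟨m, rfl⟩ := (Groth.Agent.Lib.ClSub.Sections.mem_range_idealModι_app_affine_iff J' U r).2 hr
    refine (Groth.Agent.Lib.ClSub.Sections.mem_range_idealModι_app_affine_iff Z U _).1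
      ⟨(e.inv ≫ φ).app U.1 m, ?_⟩
    show ((e.inv ≫ φ) ≫ ClSub.idealModι Z).app U.1 m = _
    rw [Category.assoc, ← he, Iso.inv_hom_id_assoc]
  have hincl : e.hom ≫ Groth.Agent.H25.SepNode.Split.incl hle = φ := by
    rw [← cancel_mono (ClSub.idealModι Z), Category.assoc, Groth.Agent.H25.SepNode.Split.incl_ι, he]
  obtain ⟨r, hr⟩ := Groth.Agent.H53IdHom.exists_residual hle
  have hvan : ∀ φ' : ClSub.idealMod W ⟶ ClSub.idealMod Z, φ' ≫ r = 0 := by
    intro φ'
    haveI : IsIntegral J'.subscheme := (hA j J' hJA).1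
    let i := Scheme.IdealSheafData.inclusion hle
    by_cases hk : i.ker = ⊥
    · have h1 : ClSub.idealModι i.ker = 0 := by
        refine Groth.Agent.Lib.Modules.AffineHom.hom_ext_affine fun U s => ?_
        have h2 := (Groth.Agent.Lib.ClSub.Sections.mem_range_idealModι_app_affine_iff i.ker U _).1 ⟨s, rfl⟩
        have e2 : i.ker.ideal U = ⊥ := by rw [hk]; simp [Scheme.IdealSheafData.ideal_bot]
        rw [e2] at h2
        rw [Scheme.Modules.Hom.zero_app]
        exact (Ideal.mem_bot.1 h2 :)
      haveI : Mono (ClSub.idealModι i.ker) := inferInstanceAs (Mono (kernel.ι _))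
      haveI : (Coh.push J'.subschemeι).Additive :=
        inferInstanceAs (Scheme.Modules.pushforward J'.subschemeι).Additive
      exact ((Coh.push J'.subschemeι).map_isZero (IsZero.of_mono_eq_zero _ h1)).eq_of_tgt _ _
    · letI : J'.subscheme.Over (Spec (CommRingCat.of K)) := ⟨J'.subschemeι ≫ (X ↘ Spec (CommRingCat.of K))⟩
      haveI : IsProper (J'.subscheme ↘ Spec (CommRingCat.of K)) :=
        inferInstanceAs (IsProper (J'.subschemeι ≫ X ↘ Spec (CommRingCat.of K)))
      haveI : IsNoetherian J'.subscheme := Groth.Agent.Lib.Curves.GlobalSections.isNoetherian_of_proper K _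
      have hLJ := Groth.Agent.Lib.Ample.Pullback.isAmple_pullback J'.subschemeι
        (Groth.Agent.Lib.Ample.Pullback.isQuasiAffine_of_isAffineHom _) hLa
      have hcomp : i.toImage ≫ i.ker.subschemeι ≫ (J'.subscheme ↘ Spec (CommRingCat.of K)) =
          Z.subschemeι ≫ (X ↘ Spec (CommRingCat.of K)) := by
        show i.toImage ≫ i.imageι ≫ J'.subschemeι ≫ _ = _
        rw [Scheme.Hom.toImage_imageι_assoc, Scheme.IdealSheafData.inclusion_subschemeι_assoc]
      haveI : IsFinite (Z.subschemeι ≫ X ↘ Spec (CommRingCat.of K)) := hZ.1.1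
      haveI hfinI : IsFinite (i.ker.subschemeι ≫ (J'.subscheme ↘ Spec (CommRingCat.of K))) := by
        rw [← MorphismProperty.cancel_left_of_respectsIso @IsFinite i.toImage, hcomp]
        infer_instance
      have hlen : Groth.Agent.Lib.Secant92.Fin.len (J'.subscheme ↘ Spec (CommRingCat.of K)) i.ker = ℓ := by
        let pt : Spec (CommRingCat.of K) := IsLocalRing.closedPoint K
        show Groth.Agent.Lib.Secant92.Fin.dim _ = ℓ
        rw [← Groth.Agent.Lib.Secant92.Fin.finrank_eq_dim _ pt, ← hZ.2 pt,
          ← Scheme.Hom.finrank_comp_left_of_isIso i.toImage, hcomp]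
      obtain ⟨P, hP, hP'⟩ := Groth.Agent.H53IdHom.isHilbPoly_ideal (k := K) hLJ i.ker hfinI
      rw [hlen] at hP'
      refine dag2 j j W hW J' hJA inferInstance (ClSub.idealMod i.ker)
        (Groth.Agent.Lib.TFNodal.Enlarge.isCoh_idealMod _)
        (fun x => Submodule.isTorsionFree_iff_torsion_eq_bot.2 (Groth.Agent.H73.IdealEnd.torsion_idealMod i.ker x))
        (Groth.Agent.H73.IdealEnd.finrank_stalk_idealMod hk) ⟨P, hP, hP'⟩ _
  have hsurj : Function.Surjective (Linear.rightComp K (ClSub.idealMod W) φ) := fun φ' => by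
    obtain ⟨t, ht⟩ := hr _ φ' (hvan φ')
    refine ⟨t ≫ e.inv, ?_⟩
    show (t ≫ e.inv) ≫ φ = φ'
    rw [← hincl, Category.assoc, Iso.inv_hom_id_assoc, ht]
  exact ⟨Module.Finite.of_surjective _ hsurj, hrank ▸ LinearMap.finrank_le_finrank_of_surjective hsurj⟩

end Groth.Agent.S19052
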