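import Groth.Statements.S19055
import Groth.Agent.Lib.SurfRR.Fundamental
import Groth.Agent.Lib.TFOne.Generic
import Groth.Agent.Lib.CurveBundle.Coherent

set_option autoImplicit false
set_option linter.style.haveILetI false
open CategoryTheory CategoryTheory.Limits AlgebraicGeometry
universe u
open NonPure

namespace Groth.Agent.S19055

open Groth.Agent.Lib Groth.Agent.Lib.SurfRR Groth.Agent.Lib.Curves.LES in
/-- A nonzero map from an invertible module to a torsion-free module of rank one on a curve increases
the Euler characteristic. -/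
theorem euler_le_of_ne_zero {k : Type u} [Field k] {Y : Scheme.{u}} [Y.Over (Spec (CommRingCat.of k))]
    [IsProper (Y ↘ Spec (CommRingCat.of k))] [IsIntegral Y] (hd : topologicalKrullDim Y ≤ 1)
    {P G : Y.Modules} (hP : PicF.IsInvertible P) (hGc : Coh.IsCoh G) (hGt : TorSh.IsTorsionFree G)
    (hGr : Module.finrank (Y.presheaf.stalk (genericPoint Y)) (G.presheaf.stalk (genericPoint Y)) = 1)
    {ψ : P ⟶ G} (hψ : ψ ≠ 0) : Curv2.euler k Y P ≤ Curv2.euler k Y G := by
  haveI := Curves.GlobalSections.isNoetherian_of_proper k Y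
  haveI := hGc.1
  haveI : P.IsQuasicoherent := TensorMod.QCohInv.isQCoh_of_isInvertible hP
  have hgen : ∀ η ∈ genericPoints Y, η = genericPoint Y := fun η hη =>
    (Flat55.GenericPoints.eq_of_specializes hη (genericPoint_specializes η)).symm
  obtain ⟨-, -, -, β, -, -⟩ := Curves.MonoSection.exists_gen_stalk hP (genericPoint Y)
  letI := (Field.toIsField Y.functionField).toField
  have hne : Modules.StalkModule.stalkMapₗ ψ (genericPoint Y) ≠ 0 := fun h0 =>
    hψ (TFOne.Generic.eq_zero_of_generic hGt ψ fun η hη => by rw [hgen η hη]; exact h0)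
  let l := (Modules.StalkModule.stalkMapₗ ψ (genericPoint Y)).comp β.toLinearMap
  have hl1 : l 1 ≠ 0 := fun h0 => hne (LinearMap.ext fun v => by
    obtain ⟨a, rfl⟩ := β.surjective v
    have : l a = 0 := by rw [← mul_one a, ← smul_eq_mul, map_smul, h0, smul_zero]
    exact this)
  have hsurj : Function.Surjective (Modules.StalkModule.stalkMapₗ ψ (genericPoint Y)) := fun w => by
    obtain ⟨c, hc⟩ := exists_smul_eq_of_finrank_eq_one hGr hl1 w
    exact ⟨β c, by rw [← hc, ← map_smul, smul_eq_mul, mul_one]; rfl⟩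
  have hinj : Function.Injective (Modules.StalkModule.stalkMapₗ ψ (genericPoint Y)) := by
    refine (injective_iff_map_eq_zero _).2 fun v hv => ?_
    obtain ⟨a, rfl⟩ := β.surjective v
    have : a • l 1 = 0 := by rw [← map_smul, smul_eq_mul, mul_one]; exact hv
    rw [(smul_eq_zero.1 this).resolve_right hl1, map_zero]
  haveI : Mono ψ := TFOne.Generic.mono_of_generic
    (CurveBundle.Coherent.isTorsionFree (TensorMod.LocFree.of_rank (TensorMod.LocFree.of_isInvertible hP))) ψ
    fun η hη => by rw [hgen η hη]; exact hinj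
  have hT : Curves.Positivity.IsTorsion (cokernel ψ) := by
    refine Curves.Degree.isTorsion_of_generic ?_
    have hepi : Epi ((Modules.Stalk.stalkFunctor Y (genericPoint Y)).map ψ) :=
      (AddCommGrpCat.epi_iff_surjective _).mpr hsurj
    have hz : IsZero ((Modules.Stalk.stalkFunctor Y (genericPoint Y)).obj (cokernel ψ)) := by
      refine IsZero.of_epi_eq_zero ((Modules.Stalk.stalkFunctor Y _).map (cokernel.π ψ)) ?_
      rw [← cancel_epi ((Modules.Stalk.stalkFunctor Y _).map ψ), comp_zero, ← Functor.map_comp,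
        cokernel.condition, Functor.map_zero]
    exact AddCommGrpCat.subsingleton_of_isZero hz
  have gP := Curves.Degree.isGood (k := k) hd hP
  have gG := Curves.Finiteness.isGood_of_isCoh (k := k) hd hGc
  have hS := Curves.Positivity.cokerSES_shortExact ψ
  haveI := gP.fin₁
  haveI := gG.fin₀
  have h0 : FiniteDimensional k (Coh.HH Y (Curves.Positivity.cokerSES ψ).X₃ 0) :=
    Curves.Euler.finite_of_exact (exactK₃ k hS 0 1 rfl)
  have h := Curves.Euler.euler_add hS gP gG (hT.isGood hd h0)
  have hQ : Curv2.euler k Y (Curves.Positivity.cokerSES ψ).X₃ =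
      (Curves.Euler.hdim k Y (cokernel ψ) 0 : ℤ) := hT.euler hd
  change Curv2.euler k Y G = Curv2.euler k Y P + _ at h
  omega

/-- Let K be an algebraically closed field and X a smooth projective surface over K — an integral
K-scheme, smooth, proper and projective over K, of dimension 2 — polarised by an invertible ample
O_X-module L. Let C₁, C₂ ⊆ X be closed subschemes which are integral of dimension one, with
intersection number I = C₁ · C₂ (computed as χ(O_X) − χ(I_{C₁}) − χ(I_{C₂}) + χ(I_{C₁} ⊗ I_{C₂})),
and let ℓ be a natural number with I < ℓ. If G is a coherent torsion-free O_{C₂}-module of generic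
rank one whose Hilbert polynomial with respect to L|_{C₂} is P_{O_{C₂}} − ℓ, then every morphism of
O_X-modules I_{C₁} → i_*G is zero, i : C₂ → X being the inclusion. (This is the verification, at the
start of the printed proof, that a family of integral curves with constant intersection number I(α)
< ℓ satisfies part (2) of condition (†); the contraction statement of the result itself rests on the
existence of the good moduli space and is not restated.) -/
theorem result
    (K : Type u) [Field K] [IsAlgClosed K] (X : Scheme.{u}) [X.Over (Spec (CommRingCat.of K))]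
    [IsIntegral X] [Smooth (X ↘ Spec (CommRingCat.of K))] [IsProper (X ↘ Spec (CommRingCat.of K))]
    (hproj : ∃ (n : ℕ) (ι : X ⟶ CohB1.ProjSpace n K), IsClosedImmersion ι ∧
      ι ≫ CohB1.ProjSpace.toSpec n K = X ↘ Spec (CommRingCat.of K))
    (hdim : topologicalKrullDim X = 2)
    (L : X.Modules) (hLi : PicF.IsInvertible L) (hLa : CohB1.IsAmple L)
    (C₁ C₂ : X.IdealSheafData) [IsIntegral C₁.subscheme] [IsIntegral C₂.subscheme]
    (hC₁ : topologicalKrullDim ↥C₁.subscheme = 1) (hC₂ : topologicalKrullDim ↥C₂.subscheme = 1)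
    (ℓ : ℕ)
    (hℓ : FGA.intNum K X 2 (fun i : Fin 2 => if i = 0 then ClSub.idealMod C₁ else ClSub.idealMod C₂)
      (Coh.structureModule X) < (ℓ : ℤ))
    (G : C₂.subscheme.Modules) (hGc : Coh.IsCoh G) (hGt : TorSh.IsTorsionFree G)
    (hGr : Module.finrank (C₂.subscheme.presheaf.stalk (genericPoint C₂.subscheme))
        (G.presheaf.stalk (genericPoint C₂.subscheme)) = 1)
    (hGP : letI : C₂.subscheme.Over (Spec (CommRingCat.of K)) := ⟨C₂.subschemeι ≫ (X ↘ Spec (CommRingCat.of K))⟩
       ∃ P : Polynomial ℚ,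
        ShStab.IsHilbPoly K C₂.subscheme ((Scheme.Modules.pullback C₂.subschemeι).obj L)
          (Coh.structureModule C₂.subscheme) P ∧
        ShStab.IsHilbPoly K C₂.subscheme ((Scheme.Modules.pullback C₂.subschemeι).obj L) G
          (P - Polynomial.C (ℓ : ℚ)))
    (φ : ClSub.idealMod C₁ ⟶ (Coh.push C₂.subschemeι).obj G) : φ = 0 := by
  classical
  by_contra hφ
  haveI := Groth.Agent.Lib.Curves.GlobalSections.isNoetherian_of_proper K X
  letI : C₂.subscheme.Over (Spec (CommRingCat.of K)) := ⟨C₂.subschemeι ≫ (X ↘ Spec (CommRingCat.of K))⟩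
  haveI : IsProper (C₂.subscheme ↘ Spec (CommRingCat.of K)) :=
    inferInstanceAs (IsProper (C₂.subschemeι ≫ (X ↘ Spec (CommRingCat.of K))))
  have h₁ : topologicalKrullDim (C₁.support : Set X) = 1 :=
    (Groth.Agent.Lib.SurfInt.Surface.dim_subscheme C₁).symm.trans hC₁
  have h₂ : topologicalKrullDim (C₂.support : Set X) = 1 :=
    (Groth.Agent.Lib.SurfInt.Surface.dim_subscheme C₂).symm.trans hC₂
  have hI₁ := Groth.Agent.Lib.SurfInt.Effective.isInvertible_idealMod
    (Groth.Agent.Lib.SurfRR.Fundamental.isEff (k := K) hdim h₁)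
  have hI₂ := Groth.Agent.Lib.SurfInt.Effective.isInvertible_idealMod
    (Groth.Agent.Lib.SurfRR.Fundamental.isEff (k := K) hdim h₂)
  have hP := PicLoc.isInvertible_pullback C₂.subschemeι hI₁
  let ψ := ((Scheme.Modules.pullbackPushforwardAdjunction C₂.subschemeι).homEquiv _ G).symm φ
  have hψ : ψ ≠ 0 := fun h0 => hφ (by
    have h2 := congrArg ((Scheme.Modules.pullbackPushforwardAdjunction C₂.subschemeι).homEquiv _ G) h0
    rw [Equiv.apply_symm_apply] at h2
    rw [h2, Adjunction.homEquiv_unit, Functor.map_zero, comp_zero])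
  have hle := euler_le_of_ne_zero (k := K) hC₂.le hP hGc hGt hGr hψ
  obtain ⟨Q, hQ0, hQG⟩ := hGP
  have h3 := hQG 0
  have h4 := hQ0 0
  simp only [ShStab.twist] at h3 h4
  have h0 : ∀ E : C₂.subscheme.Modules, Curv2.euler K C₂.subscheme
      (CohB1.tensorMod E (CohB1.tensorPow ((Scheme.Modules.pullback C₂.subschemeι).obj L) 0)) =
      Curv2.euler K C₂.subscheme E := fun E =>
    Groth.Agent.Lib.Curves.Euler.euler_eq_of_iso (Groth.Agent.Lib.TensorMod.Basic.rightUnit E)
  rw [h0] at h3 h4
  simp only [Polynomial.eval_sub, Polynomial.eval_C, ← h4] at h3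
  have h5 : Curv2.euler K C₂.subscheme G =
      Curv2.euler K C₂.subscheme (Coh.structureModule C₂.subscheme) - (ℓ : ℤ) := by exact_mod_cast h3
  rw [show (fun i : Fin 2 => if i = 0 then ClSub.idealMod C₁ else ClSub.idealMod C₂) =
      ![ClSub.idealMod C₁, ClSub.idealMod C₂] by funext i; fin_cases i <;> rfl,
    Groth.Agent.Lib.Snapper.IntNum.intNum_pair_comm,
    Groth.Agent.Lib.SurfInt.Surface.intNum_ideal_eq_neg_deg (Groth.Agent.Lib.Snapper.Finite.cohFinite K X)
      hdim.le hI₂ hI₁] at hℓ
  simp only [Curv2.deg, Nat.cast_one, one_mul] at hℓ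
  omega

end Groth.Agent.S19055
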