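import Groth.Statements.S19057
import Groth.Agent.H53IdHom.Hull
import Groth.Agent.Lib.LocalCoh.ConnDim

set_option autoImplicit false
open CategoryTheory CategoryTheory.Limits AlgebraicGeometry
universe u
open NonPure

namespace Groth.Agent.S19057

/-- Let K be a field and X an integral K-scheme which is smooth, proper, projective and geometrically
irreducible over K, of dimension at least 2, polarised by an invertible ample O_X-module L; let ℓ ≥
1. Let F be a coherent torsion-free O_X-module whose double dual Hom(Hom(F, O_X), O_X) is isomorphic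
to O_X (the sheaf Hom functors Hom(M, −) are taken as right adjoints of M ⊗ −; their existence is
the stated instance hypothesis and holds) and whose Hilbert polynomial with respect to L is P_{O_X}
− ℓ. Then there is a closed subscheme Z ⊆ X, finite locally free of degree ℓ over K, with F ≅ I_Z,
and Z is unique: two such subschemes of degree ℓ with isomorphic ideal sheaves coincide. (The
published statement is the isomorphism of stacks ψ : Hilb^ℓ(X) × B𝔾_m → Coh^tf(X)_{O_X,P_ℓ}; this
row is its shadow on K-valued points — every torsion-free sheaf with trivial determinant and Hilbert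
polynomial P_ℓ is the ideal sheaf of a unique length-ℓ subscheme — with triviality of the
determinant expressed, for a torsion-free sheaf of rank one on a smooth variety, as triviality of
the reflexive hull.) -/
theorem result
    (K : Type u) [Field K] (X : Scheme.{u}) [X.Over (Spec (CommRingCat.of K))]
    [IsIntegral X] [Smooth (X ↘ Spec (CommRingCat.of K))] [IsProper (X ↘ Spec (CommRingCat.of K))]
    [GeometricallyIrreducible (X ↘ Spec (CommRingCat.of K))]
    (hproj : ∃ (n : ℕ) (ι : X ⟶ CohB1.ProjSpace n K), IsClosedImmersion ι ∧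
      ι ≫ CohB1.ProjSpace.toSpec n K = X ↘ Spec (CommRingCat.of K))
    (hdim : 2 ≤ topologicalKrullDim X)
    (L : X.Modules) (hLi : PicF.IsInvertible L) (hLa : CohB1.IsAmple L)
    (ℓ : ℕ) (hℓ : 0 < ℓ)
    (F : X.Modules) (hFc : Coh.IsCoh F) (hFt : TorSh.IsTorsionFree F)
    [DCoh.HasSheafHom F] [DCoh.HasSheafHom ((DCoh.sheafHom F).obj (Coh.structureModule X))]
    (hdet : Nonempty ((DCoh.sheafHom ((DCoh.sheafHom F).obj (Coh.structureModule X))).obj
      (Coh.structureModule X) ≅ Coh.structureModule X))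
    (hFP : ∃ P : Polynomial ℚ, ShStab.IsHilbPoly K X L (Coh.structureModule X) P ∧
      ShStab.IsHilbPoly K X L F (P - Polynomial.C (ℓ : ℚ))) :
    (∃ Z : X.IdealSheafData, Mor2.IsFinLocFreeOfDeg ℓ (Z.subschemeι ≫ (X ↘ Spec (CommRingCat.of K))) ∧
      Nonempty (F ≅ ClSub.idealMod Z)) ∧
    (∀ Z Z' : X.IdealSheafData, Mor2.IsFinLocFreeOfDeg ℓ (Z.subschemeι ≫ (X ↘ Spec (CommRingCat.of K))) →
      Mor2.IsFinLocFreeOfDeg ℓ (Z'.subschemeι ≫ (X ↘ Spec (CommRingCat.of K))) →
      Nonempty (ClSub.idealMod Z ≅ ClSub.idealMod Z') → Z = Z') := by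
  haveI : IsNoetherian X := Groth.Agent.Lib.Curves.GlobalSections.isNoetherian_of_proper K X
  haveI := hFc.1
  have hO := Groth.Agent.Lib.Snapper.Twist.isCoh_structureModule X
  haveI hOq : (Coh.structureModule X).IsQuasicoherent := hO.1
  -- `O` is not zero
  have hOsupp : CohB1.support (Coh.structureModule X) = Set.univ := Set.eq_univ_iff_forall.2 fun x => fun hs => by
    haveI : Subsingleton (X.presheaf.stalk x) :=
      haveI : Subsingleton ((Coh.structureModule X).presheaf.stalk x) := hs
      (Groth.Agent.Lib.AssPt.Basic.unitStalkEquiv x).toEquiv.subsingleton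
    exact false_of_nontrivial_of_subsingleton (X.presheaf.stalk x)
  have hO0 : ¬ IsZero (Coh.structureModule X) := fun h => by
    have := Groth.Agent.Lib.Modules.Support.support_eq_empty_iff.2 h
    rw [hOsupp] at this
    exact Set.univ_nonempty.ne_empty this
  obtain ⟨ed⟩ := hdet
  obtain ⟨ψ₀, hψ₀⟩ := Groth.Agent.H53IdHom.exists_ne_zero_to_bidual F fun h => hO0 (h.of_iso ed.symm)
  obtain ⟨P, hP, hPF⟩ := hFP
  let ψ := ψ₀ ≫ ed.hom
  have hψ : ψ ≠ 0 := fun h => hψ₀ (by rw [← cancel_mono ed.hom, zero_comp]; exact h)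
  -- the image is an ideal
  let C := cokernel (kernel.ι ψ)
  have hKc : Coh.IsCoh (kernel ψ) := Groth.Agent.Lib.CohBasics.Closure.isCoh_kernel ψ hFc hO.1
  have hCc : Coh.IsCoh C := Groth.Agent.Lib.CohBasics.Closure.isCoh_cokernel (kernel.ι ψ) hKc.1 hFc
  let eC : C ≅ Abelian.image ψ := Abelian.coimageIsoImage ψ
  have hIc : Coh.IsCoh (Abelian.image ψ) := Groth.Agent.Lib.CohBasics.Closure.isCoh_of_iso eC hCc
  haveI := hIc.1
  obtain ⟨J, eJ, heJ⟩ := Groth.Agent.H53IdHom.exists_ideal_of_mono (Abelian.image.ι ψ)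
  have hJ : Groth.Agent.Lib.ShStab.SubLattice.hp K L (ClSub.idealMod J) =
      Groth.Agent.Lib.ShStab.SubLattice.hp K L F - Groth.Agent.Lib.ShStab.SubLattice.hp K L (kernel ψ) := by
    rw [Groth.Agent.Lib.ShStab.SubLattice.hp_iso K hLa (eC ≪≫ eJ) hCc]
    exact Groth.Agent.Lib.ShStab.SubLattice.hp_cokernel K hLa (kernel.ι ψ) hKc hFc
  have hsum := Groth.Agent.H53IdHom.hp_ideal_add_quot (k := K) hLa J
  rw [Groth.Agent.Lib.ShStab.SubLattice.hp_eq K L hP, hJ, Groth.Agent.Lib.ShStab.SubLattice.hp_eq K L hPF] at hsum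
  have hq : Groth.Agent.Lib.ShStab.SubLattice.hp K L (ClSub.quotMod J) =
      Groth.Agent.Lib.ShStab.SubLattice.hp K L (kernel ψ) + Polynomial.C (ℓ : ℚ) := by
    linear_combination -hsum
  obtain ⟨n, hn⟩ := Groth.Agent.Lib.ShStab.HilbPoly.exists_dim K hO hO0
  rw [hOsupp] at hn
  have hnX : topologicalKrullDim X = n :=
    ((Homeomorph.Set.univ X).isHomeomorph.topologicalKrullDim_eq _).symm.trans hn
  have hn2 : 2 ≤ n := by rw [hnX] at hdim; exact_mod_cast hdim
  have hinjF : ∀ x, Function.Injective (Groth.Agent.Lib.RefHull.Generic.toGen F x) := fun x =>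
    Groth.Agent.Lib.RefHull.Generic.toGen_injective x fun a v ha e => by
      haveI := hFt x
      exact (smul_eq_zero.1 e).resolve_left ha
  have hJne : J ≠ ⊥ := fun h => hψ (by
    have h1 : ClSub.idealModι J = 0 := by
      refine Groth.Agent.Lib.Modules.AffineHom.hom_ext_affine fun U s => ?_
      have h2 := (Groth.Agent.Lib.ClSub.Sections.mem_range_idealModι_app_affine_iff J U _).1 ⟨s, rfl⟩
      have e2 : J.ideal U = ⊥ := by rw [h]; simp [Scheme.IdealSheafData.ideal_bot]
      rw [e2] at h2
      rw [Scheme.Modules.Hom.zero_app]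
      exact (Ideal.mem_bot.1 h2 :)
    rw [← Abelian.image.fac ψ, ← heJ, h1, comp_zero, comp_zero])
  -- the kernel vanishes
  have hK0 : IsZero (kernel ψ) := by
    by_contra h0
    have hs := Groth.Agent.H53IdHom.support_eq_univ hKc h0 fun x =>
      Groth.Agent.H18.ExtIdeal.toGen_injective_of_mono (kernel.ι ψ) x (hinjF x)
    have hKd := (Groth.Agent.Lib.ShStab.HilbPoly.spec hLa hKc h0
      (Groth.Agent.Lib.ShStab.SubLattice.isHilbPoly_hp K hLa hKc) (D := n) (by rw [hs]; exact hn)).1
    have hqd : (Groth.Agent.Lib.ShStab.SubLattice.hp K L (ClSub.quotMod J)).natDegree < n := by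
      have hQc : Coh.IsCoh (ClSub.quotMod J) :=
        Groth.Agent.Lib.Devissage.Closure.isCoh_push_structureModule J.subschemeι
      by_cases hQ0 : IsZero (ClSub.quotMod J)
      · rw [Groth.Agent.Lib.ShStab.SubLattice.hp_isZero K hLa hQ0, Polynomial.natDegree_zero]
        omega
      obtain ⟨D, hD⟩ := Groth.Agent.Lib.ShStab.HilbPoly.exists_dim K hQc hQ0
      rw [(Groth.Agent.Lib.ShStab.HilbPoly.spec hLa hQc hQ0
        (Groth.Agent.Lib.ShStab.SubLattice.isHilbPoly_hp K hLa hQc) hD).1]
      rw [Groth.Agent.Lib.ClSub.Quot.support_quotMod] at hD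
      have hlt := Groth.Agent.Lib.LocalCoh.ConnDim.dim_lt (T := X) (IrreducibleSpace.isIrreducible_univ X) isClosed_univ
        J.support.isClosed (Set.subset_univ _) (fun he => Groth.Agent.H73.IdealEnd.genericPoint_not_mem_support hJne
          (by rw [he]; trivial)) n hn
      rw [hD] at hlt
      exact_mod_cast hlt
    rw [hq, Polynomial.natDegree_add_C, hKd] at hqd
    exact lt_irrefl _ hqd
  rw [Groth.Agent.Lib.ShStab.SubLattice.hp_isZero K hLa hK0, zero_add] at hq
  obtain ⟨hfinJ, hlen⟩ := Groth.Agent.H53IdHom.finite_of_hp_quot (k := K) hLa J ℓ hq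
  refine ⟨⟨J, (Groth.Agent.Lib.Secant92.Fin.deg_iff _ ℓ).2 ⟨hfinJ, hlen⟩, ?_⟩, fun Z Z' hZ _ ⟨e⟩ => ?_⟩
  · have h : kernel.ι ψ = 0 := hK0.eq_of_src _ _
    exact ⟨(cokernelIsoOfEq h ≪≫ cokernelZeroIsoTarget).symm ≪≫ eC ≪≫ eJ⟩
  · have hfin : Groth.Agent.Lib.Secant92.Fin.IsFin (X ↘ Spec (CommRingCat.of K)) Z := hZ.1.1
    have hS := Groth.Agent.Lib.Secant92.Fin.finite_support (f := X ↘ Spec (CommRingCat.of K)) hfin
    have hcl : ∀ x ∈ (Z.support : Set X), IsClosed ({x} : Set X) := by
      intro y hy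
      rw [← Scheme.IdealSheafData.range_subschemeι] at hy
      obtain ⟨t, rfl⟩ := hy
      haveI : IsFinite (Z.subschemeι ≫ X ↘ Spec (CommRingCat.of K)) := hfin
      haveI : JacobsonSpace Z.subscheme :=
        LocallyOfFiniteType.jacobsonSpace (Z.subschemeι ≫ X ↘ Spec (CommRingCat.of K))
      haveI : Finite Z.subscheme := Set.finite_univ_iff.1
        (((Z.subschemeι ≫ X ↘ Spec (CommRingCat.of K)).finite_preimage_singleton
          (IsLocalRing.closedPoint K)).subset fun x _ => Subsingleton.elim _ _)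
      simpa using Z.subschemeι.isClosedEmbedding.isClosedMap {t} (isClosed_discrete _)
    refine Groth.Agent.H53IdHom.eq_of_iso (k := K) hdim hS (fun h => ?_) hcl e
    -- `Z` is not everything
    have h1 : (Z.support : Set X) = Set.univ := by rw [h]; simp
    have h2 := hcl (genericPoint X) (by rw [h1]; trivial)
    haveI : Subsingleton X := ⟨fun a b => by
      have hc : ∀ x : X, x = genericPoint X := fun x => by
        have := (genericPoint_spec X).def.ge (Set.mem_univ x)
        rwa [h2.closure_eq, Set.mem_singleton_iff] at this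
      rw [hc a, hc b]⟩
    have h3 : topologicalKrullDim X = 0 := topologicalKrullDim_zero_of_discreteTopology X |>.antisymm (by
      exact Order.krullDim_nonneg_iff.2 ⟨⟨Set.univ, IrreducibleSpace.isIrreducible_univ X, isClosed_univ⟩⟩)
    rw [h3] at hdim
    exact absurd hdim (by decide)

end Groth.Agent.S19057
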