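import Groth.Statements.S19059
import Groth.Agent.Lib.Curves.NormalGen
import Groth.Agent.Lib.Exchange.Proper
import Groth.Agent.Lib.Curves.GlobalSections

set_option autoImplicit false
universe u
open CategoryTheory CategoryTheory.Limits AlgebraicGeometry Opposite
open Curves

namespace Groth.Agent.S19059

/-- Let R be a Noetherian ring and f : X ⟶ Spec R a relative curve (proper and smooth, with
geometrically connected fibres of dimension one). Let L be an ample invertible O_X-module which is
normally generated, i.e. for every n ≥ 1 the global sections of L^(n+1) = L^n ⊗ L are additively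
generated by the products m ⊗ s of a global section m of L^n and a global section s of L
(equivalently, the n-fold tensor powers of the global sections of L map onto the global sections of
L^n for all n ≥ 1). Then L is very ample relative to f: there is an immersion i : X ⟶ P^N over Spec
R with L ≅ i^*O(1). (The projectivity of X over Spec R assumed in the source follows here from the
ampleness of L.) -/
theorem result (R : Type u) [CommRing R] [IsNoetherianRing R]
    {X : Scheme.{u}} (f : X ⟶ Spec (CommRingCat.of R)) [IsProper f] [Smooth f] [GeometricallyConnected f]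
    (hdim : ∀ s : Spec (CommRingCat.of R), topologicalKrullDim ↥(f.fiber s) = 1)
    (L : X.Modules) (hL : PicF.IsInvertible L) (hLa : CohB1.IsAmple L)
    (hng : ∀ n : ℕ, 1 ≤ n → AddSubgroup.closure {t | ∃ (m : (CohB1.tensorPow L n).val.obj (op ⊤)) (s : L.val.obj (op ⊤)), t = SecTwist.tmul (CohB1.tensorPow L n) L ⊤ m s} = ⊤) :
    RelAmple.IsRelVeryAmplePn f L :=  by
  letI : X.Over (Spec (CommRingCat.of R)) := ⟨f⟩
  haveI : IsProper (X ↘ Spec (CommRingCat.of R)) := ‹IsProper f›
  letI := Groth.Agent.Lib.Curves.GlobalSections.secModule R L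
  haveI : IsLocallyNoetherian X := LocallyOfFiniteType.isLocallyNoetherian f
  haveI : Module.Finite R (L.val.obj (op ⊤) : Type u) := by
    haveI := ZarCoh.Exchange.Proper.finite_HH R L (Groth.Agent.Lib.Ample.GG.isCoh_of_isInvertible hL) 0
    exact Module.Finite.equiv (Groth.Agent.Lib.Curves.GlobalSections.h0Linear R L)
  obtain ⟨N, v, hv⟩ := Module.Finite.exists_fin (R := R) (M := (L.val.obj (op ⊤) : Type u))
  let t : Fin (N + 1) → Γ(L, ⊤) := Fin.cons 0 fun i => v i
  have hspan : ∀ s : Γ(L, ⊤), ∃ r : Fin (N + 1) → R,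
      s = ∑ j, (show Γ(X, ⊤) from Coh.toGlobal f (r j)) • t j := fun s => by
    have h : Submodule.span R (Set.range fun j => (show (L.val.obj (op ⊤) : Type u) from t j)) = ⊤ := by
      rw [eq_top_iff, ← hv]
      refine Submodule.span_mono ?_
      rintro _ ⟨i, rfl⟩
      exact ⟨i.succ, by simp [t]⟩
    obtain ⟨r, hr⟩ := (Submodule.mem_span_range_iff_exists_fun R).mp
      (h ▸ Submodule.mem_top : (show (L.val.obj (op ⊤) : Type u) from s) ∈ _)
    exact ⟨r, hr.symm⟩
  refine Groth.Agent.Lib.Curves.NormalGen.isRelVeryAmplePn f hLa t (fun x => ?_) hspan hng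
  obtain ⟨s, hs⟩ := Groth.Agent.Lib.Curves.NormalGen.exists_mem_locus_of_gen hLa hng x
  by_contra hno
  push Not at hno
  obtain ⟨U, e, hxU, he⟩ := Groth.Agent.Lib.TensorMod.Gen.isInvertible_iff.1 hL x
  choose c hc using fun j => Groth.Agent.Lib.Ample.GenLocus.exists_coord he
    (Groth.Agent.Lib.ProjMor.Sec.gl (t j) U)
  obtain ⟨r, hr⟩ := hspan s
  have hgl : Groth.Agent.Lib.ProjMor.Sec.gl s U =
      (∑ j, X.presheaf.map (homOfLE (le_top : U ≤ ⊤)).op (Coh.toGlobal f (r j)) * c j) • e := by
    rw [hr, Groth.Agent.Lib.ProjMor.Sec.gl, Finset.sum_smul]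
    refine (map_sum (L.presheaf.map (homOfLE (le_top : U ≤ ⊤)).op).hom _ _).trans (Finset.sum_congr rfl fun j _ => ?_)
    change Groth.Agent.Lib.TensorMod.Dual.rs L (le_top : U ≤ ⊤) ((show Γ(X, ⊤) from Coh.toGlobal f (r j)) • t j) = _
    rw [Groth.Agent.Lib.TensorMod.Dual.rs_smul, show Groth.Agent.Lib.TensorMod.Dual.rs L (le_top : U ≤ ⊤) (t j) = c j • e from hc j, smul_smul]
  have hmem := (Groth.Agent.Lib.ProjMor.Sec.locus_inf_eq he hgl).le ⟨hs, hxU⟩
  rw [Scheme.mem_basicOpen _ _ x hxU, map_sum] at hmem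
  refine absurd hmem ((IsLocalRing.mem_maximalIdeal _).mp (Submodule.sum_mem _ fun j _ => ?_))
  rw [map_mul]
  refine Ideal.mul_mem_left _ _ ((IsLocalRing.mem_maximalIdeal _).mpr fun hu => hno j ?_)
  exact ((Groth.Agent.Lib.ProjMor.Sec.locus_inf_eq he (hc j)).ge ((X.toRingedSpace.mem_basicOpen _ x hxU).2 hu)).1

end Groth.Agent.S19059
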