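import Groth.Statements.S19066
import Groth.Agent.Lib.HypSq96.Vanish
-- import your own Groth.Agent.* helpers here

set_option autoImplicit false
universe u
open CategoryTheory CategoryTheory.Limits AlgebraicGeometry Opposite
open HypSq

namespace Groth.Agent.S19066

/-- Let k be an algebraically closed field of characteristic ≠ 2 and C a hyperelliptic curve of genus g
≥ 2 over k: C ⟶ Spec k proper and smooth, C connected of dimension one with dim_k H^1(C, O_C) = g,
with a double cover κ : C ⟶ P^1_k over k (finite, flat, of rank 2 everywhere) and hyperelliptic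
involution σ (σ ≫ κ = κ, σ ≠ id). On the surface X = C ×_k C write L = κ^*O(1) (the divisor D_∞ of
degree 2), F_m = p_1^*L^m ⊗ p_2^*L^m (the divisor mF, F = p_1^*D_∞ + p_2^*D_∞) and let N be an
invertible O_X-module inverse to the ideal sheaf of the graph Γ_σ = (id, σ) : C ⟶ X of σ (the
divisor class of the graph of the involution). If m ≥ g and r ≥ 0 satisfy (g − 1)(r + 1) < 2m (that
is, γ < 2m − γ r with γ = g − 1), then dim_k H^0(X, F_m ⊗ N^r) = (2m − γ)^2 + 4mr − γ r (r + 2). -/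
theorem result (k : Type u) [Field k] [IsAlgClosed k] (h2 : (2 : k) ≠ 0)
    (C : Scheme.{u}) [C.Over (Spec (CommRingCat.of k))] [IsProper (C ↘ Spec (CommRingCat.of k))] [Smooth (C ↘ Spec (CommRingCat.of k))] [ConnectedSpace ↥C]
    (hdim : topologicalKrullDim ↥C = 1) (g : ℕ) (hg : 2 ≤ g) (hgen : Curv2.genus k C = g)
    (κ : C ⟶ CohB1.ProjSpace 1 k) (hκ : κ ≫ CohB1.ProjSpace.toSpec 1 k = (C ↘ Spec (CommRingCat.of k)))
    [IsFinite κ] [Flat κ] (hκ2 : ∀ y : ↥(CohB1.ProjSpace 1 k), κ.finrank y = 2)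
    (σ : C ⟶ C) (hσ : σ ≫ κ = κ) (hσ1 : σ ≠ 𝟙 C) (hσp : σ ≫ (C ↘ Spec (CommRingCat.of k)) = (C ↘ Spec (CommRingCat.of k)))
    (N : (pullback (C ↘ Spec (CommRingCat.of k)) (C ↘ Spec (CommRingCat.of k))).Modules) (hN : PicF.IsInvertible N)
    (hNinv : ClSub.IsInverseOf N (ClSub.idealMod (pullback.lift (𝟙 C) σ ((Category.id_comp (C ↘ Spec (CommRingCat.of k))).trans hσp.symm)).ker))
    (m r : ℕ) (hm : g ≤ m) (hmr : ((g : ℤ) - 1) * (r + 1) < 2 * m) :
    letI : (pullback (C ↘ Spec (CommRingCat.of k)) (C ↘ Spec (CommRingCat.of k))).Over (Spec (CommRingCat.of k)) := ⟨pullback.fst (C ↘ Spec (CommRingCat.of k)) (C ↘ Spec (CommRingCat.of k)) ≫ (C ↘ Spec (CommRingCat.of k))⟩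
    (Module.finrank k (Coh.HH (pullback (C ↘ Spec (CommRingCat.of k)) (C ↘ Spec (CommRingCat.of k))) (CohB1.tensorMod (CohB1.tensorMod ((Scheme.Modules.pullback (pullback.fst (C ↘ Spec (CommRingCat.of k)) (C ↘ Spec (CommRingCat.of k)))).obj (CohB1.tensorPow ((Scheme.Modules.pullback κ).obj (Twist.twistProjSpace 1 k 1)) m)) ((Scheme.Modules.pullback (pullback.snd (C ↘ Spec (CommRingCat.of k)) (C ↘ Spec (CommRingCat.of k)))).obj (CohB1.tensorPow ((Scheme.Modules.pullback κ).obj (Twist.twistProjSpace 1 k 1)) m))) (CohB1.tensorPow N r)) 0) : ℤ) =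
      (2 * (m : ℤ) - ((g : ℤ) - 1)) ^ 2 + 4 * (m : ℤ) * r - ((g : ℤ) - 1) * r * (r + 2) := by
  subst hgen
  have hL : PicF.IsInvertible (CohB1.tensorPow
      ((Scheme.Modules.pullback κ).obj (Twist.twistProjSpace 1 k 1)) m) :=
    Groth.Agent.Lib.TensorMod.Invertible.isInvertible_tensorPow
      (PicLoc.isInvertible_pullback κ Groth.Agent.Lib.HypSq96.Basic.isInvertible_O1) m
  have hv := Groth.Agent.Lib.HypSq96.Basic.subsingleton_pow hdim κ hκ hκ2 hm
  letI : (pullback (C ↘ Spec (CommRingCat.of k)) (C ↘ Spec (CommRingCat.of k))).Over (Spec (CommRingCat.of k)) :=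
    Groth.Agent.Lib.HypSq96.Basic.sqOver (k := k) (C := C)
  haveI := Groth.Agent.Lib.HypSq96.Table.isProper_sq (k := k) (C := C)
  haveI := Groth.Agent.Lib.Curves.GlobalSections.isNoetherian_of_proper k
    (pullback (C ↘ Spec (CommRingCat.of k)) (C ↘ Spec (CommRingCat.of k)))
  have hs := Groth.Agent.Lib.HypSq96.Surf.invol_sq hdim h2 hg κ hκ hκ2 hσ hσ1
  have h := Groth.Agent.Lib.HypSq96.Euler.euler_box_graph hdim hs hσp hN hNinv hL hL r
  rw [Groth.Agent.Lib.Snapper.Chi.euler_eq_eulerCharLE (Groth.Agent.Lib.HypSq96.Table.dim_sq hdim)] at h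
  haveI := Groth.Agent.Lib.HypSq96.Vanish.subsingleton_two hdim hσp hN hNinv hL hL hv hv 2 r le_rfl
  haveI := Groth.Agent.Lib.HypSq96.Vanish.subsingleton_one hdim hs hσp hN hNinv hL hL hv hv (by omega) r (by
    rw [Groth.Agent.Lib.HypSq96.Basic.deg_pullback_pow hdim κ hκ hκ2]
    linarith)
  simp only [FGA.eulerCharLE, Finset.sum_range_succ, Finset.sum_range_zero,
    Module.finrank_zero_of_subsingleton, Groth.Agent.Lib.HypSq96.Basic.deg_pullback_pow hdim κ hκ hκ2] at h
  simp only [Nat.cast_zero, mul_zero, add_zero, zero_add, pow_zero, one_mul] at h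
  rw [h]
  ring

end Groth.Agent.S19066
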