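import Groth.Statements.S19075
import Groth.Agent.Lib.HypSq96.Surf
import Groth.Agent.H40.HypFix
-- import your own Groth.Agent.* helpers here

set_option autoImplicit false
universe u
open CategoryTheory CategoryTheory.Limits AlgebraicGeometry Opposite
open HypSq

namespace Groth.Agent.S19075

/-- Let k be an algebraically closed field of characteristic ≠ 2 and C a hyperelliptic curve of genus g
≥ 2 over k: C ⟶ Spec k proper and smooth, C connected of dimension one with dim_k H^1(C, O_C) = g,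
with a double cover κ : C ⟶ P^1_k over k (finite, flat, of rank 2 everywhere) and hyperelliptic
involution σ (σ ≫ κ = κ, σ ≠ id). On X = C ×_k C let N be an invertible O_X-module inverse to the
ideal sheaf of the graph Γ_σ = (id, σ) : C ⟶ X, and N_Δ an invertible O_X-module inverse to the
ideal sheaf of the diagonal Δ : C ⟶ X. Then (N·N_Δ) = 2g + 2 (the graph of σ meets the diagonal
transversally in the 2g + 2 fixed points of σ), (L·M) = χ(O_X) − χ(L) − χ(M) + χ(L ⊗ M) denoting the
intersection number of invertible modules on the surface X. -/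
theorem result (k : Type u) [Field k] [IsAlgClosed k] (h2 : (2 : k) ≠ 0)
    (C : Scheme.{u}) [C.Over (Spec (CommRingCat.of k))] [IsProper (C ↘ Spec (CommRingCat.of k))] [Smooth (C ↘ Spec (CommRingCat.of k))] [ConnectedSpace ↥C]
    (hdim : topologicalKrullDim ↥C = 1) (g : ℕ) (hg : 2 ≤ g) (hgen : Curv2.genus k C = g)
    (κ : C ⟶ CohB1.ProjSpace 1 k) (hκ : κ ≫ CohB1.ProjSpace.toSpec 1 k = (C ↘ Spec (CommRingCat.of k)))
    [IsFinite κ] [Flat κ] (hκ2 : ∀ y : ↥(CohB1.ProjSpace 1 k), κ.finrank y = 2)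
    (σ : C ⟶ C) (hσ : σ ≫ κ = κ) (hσ1 : σ ≠ 𝟙 C) (hσp : σ ≫ (C ↘ Spec (CommRingCat.of k)) = (C ↘ Spec (CommRingCat.of k)))
    (N : (pullback (C ↘ Spec (CommRingCat.of k)) (C ↘ Spec (CommRingCat.of k))).Modules) (hN : PicF.IsInvertible N)
    (hNinv : ClSub.IsInverseOf N (ClSub.idealMod (pullback.lift (𝟙 C) σ ((Category.id_comp (C ↘ Spec (CommRingCat.of k))).trans hσp.symm)).ker))
    (ND : (pullback (C ↘ Spec (CommRingCat.of k)) (C ↘ Spec (CommRingCat.of k))).Modules) (hND : PicF.IsInvertible ND)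
    (hNDinv : ClSub.IsInverseOf ND (ClSub.idealMod (pullback.diagonal (C ↘ Spec (CommRingCat.of k))).ker)) :
    letI : (pullback (C ↘ Spec (CommRingCat.of k)) (C ↘ Spec (CommRingCat.of k))).Over (Spec (CommRingCat.of k)) := ⟨pullback.fst (C ↘ Spec (CommRingCat.of k)) (C ↘ Spec (CommRingCat.of k)) ≫ (C ↘ Spec (CommRingCat.of k))⟩
    FGA.intNum k (pullback (C ↘ Spec (CommRingCat.of k)) (C ↘ Spec (CommRingCat.of k))) 2 ![N, ND] (Coh.structureModule (pullback (C ↘ Spec (CommRingCat.of k)) (C ↘ Spec (CommRingCat.of k)))) = 2 * (g : ℤ) + 2 := by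
  subst hgen
  haveI := Groth.Agent.Lib.HypSq96.Basic.isIntegral_C (k := k) hdim
  have hσσ := Groth.Agent.Lib.HypSq96.Surf.invol_sq hdim h2 hg κ hκ hκ2 hσ hσ1
  have hD : BlowUp.IsEffCartierIdeal (pullback.diagonal (C ↘ Spec (CommRingCat.of k))).ker := by
    haveI : SmoothOfRelativeDimension 1 (C ↘ Spec (CommRingCat.of k)) := by
      letI : (Spec (CommRingCat.of k)).Over (Spec (CommRingCat.of k)) := ⟨𝟙 _⟩
      haveI : LocallyOfFiniteType (Spec (CommRingCat.of k) ↘ Spec (CommRingCat.of k)) :=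
        inferInstanceAs (LocallyOfFiniteType (𝟙 _))
      have h0 : topologicalKrullDim (Spec (CommRingCat.of k)) = ((0 : ℕ) : WithBot ℕ∞) := by
        change topologicalKrullDim (PrimeSpectrum k) = _
        rw [PrimeSpectrum.topologicalKrullDim_eq_ringKrullDim, ringKrullDim_eq_zero_of_field]
        rfl
      exact Groth.Agent.Lib.BirMap96.SmoothCritScheme.smoothOfRelativeDimension _ (Category.comp_id _) 1 0 hdim h0
    haveI : MorphismProperty.IsStableUnderBaseChange (@SmoothOfRelativeDimension 1 : MorphismProperty Scheme.{u}) :=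
      smoothOfRelativeDimension_isStableUnderBaseChange 1
    haveI : SmoothOfRelativeDimension 1 (pullback.fst (C ↘ Spec (CommRingCat.of k)) (C ↘ Spec (CommRingCat.of k))) :=
      MorphismProperty.pullback_fst (P := @SmoothOfRelativeDimension 1) _ _ inferInstance
    refine Groth.Agent.Lib.RelDiv.Cartier.isEffCartier_of_isFinLocFree (pullback.fst _ _) _ ?_
    haveI : IsIso (pullback.diagonal (C ↘ Spec (CommRingCat.of k))).toImage := inferInstance
    have hcomp : (pullback.diagonal (C ↘ Spec (CommRingCat.of k))).imageι ≫ pullback.fst _ _ =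
        inv (pullback.diagonal (C ↘ Spec (CommRingCat.of k))).toImage := by
      rw [eq_comm, IsIso.inv_eq_of_hom_inv_id]
      rw [Scheme.Hom.toImage_imageι_assoc, pullback.diagonal_fst]
    show Mor2.IsFinLocFree ((pullback.diagonal (C ↘ Spec (CommRingCat.of k))).imageι ≫ pullback.fst _ _)
    rw [hcomp]
    exact ⟨inferInstance, inferInstance, inferInstance⟩
  have hI : PicF.IsInvertible (ClSub.idealMod (pullback.diagonal (C ↘ Spec (CommRingCat.of k))).ker) := by
    obtain ⟨e⟩ := hNDinv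
    exact Groth.Agent.Lib.TensorMod.TensorInv.isInvertible_of_tensor_iso (Groth.Agent.Lib.TensorMod.Basic.comm _ _ ≪≫ e)
  have h := Groth.Agent.H40.HypFix.deg_graph_pullback_diag hdim h2 κ hκ hκ2 hσ hσσ hσp hσ1
    (pullback.lift (𝟙 C) σ ((Category.id_comp (C ↘ Spec (CommRingCat.of k))).trans hσp.symm))
    (pullback.lift_fst _ _ _) (pullback.lift_snd _ _ _) hD
  rw [Groth.Agent.Lib.HypSq96.Table.intNum_section hdim _ (pullback.lift_fst _ _ _) hN hNinv hND]
  obtain ⟨e⟩ := hNDinv
  rw [Groth.Agent.Lib.Curves.Degree.deg_of_isInverseOf (k := k) hdim.le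
    (PicLoc.isInvertible_pullback _ hND) (PicLoc.isInvertible_pullback _ hI)
    ⟨(Groth.Agent.Lib.TensorMod.Pullback.pullbackTensorIso _ _ _).symm ≪≫
      (Scheme.Modules.pullback _).mapIso e ≪≫ PicLoc.pullbackStructureIso _⟩, h]
  ring

end Groth.Agent.S19075
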