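import Groth.Statements.S19068
import Groth.Agent.H40.HypBox
import Groth.Agent.S19075
import Groth.Agent.H2.Rigid.GeomIrred
import Groth.Agent.Lib.GeomConn.Geometric
-- import your own Groth.Agent.* helpers here

set_option autoImplicit false
universe u
open CategoryTheory CategoryTheory.Limits AlgebraicGeometry Opposite
open HypSq

open Groth.Agent.Lib Groth.Agent.Lib.HypSq96.Basic Groth.Agent.Lib.HypSq96.Table
open Groth.Agent.Lib.TensorMod.Basic (comm assoc tensorIso leftUnit rightUnit)
open Groth.Agent.Lib.TensorMod.Invertible (isInvertible_tensorPow isInvertible_tensorMod)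

namespace Groth.Agent.S19068

/-- Let k be an algebraically closed field of characteristic ≠ 2 and C a hyperelliptic curve of genus g
≥ 2 over k: C ⟶ Spec k proper and smooth, C connected of dimension one with dim_k H^1(C, O_C) = g,
with a double cover κ : C ⟶ P^1_k over k (finite, flat, of rank 2 everywhere) and hyperelliptic
involution σ (σ ≫ κ = κ, σ ≠ id). On the surface X = C ×_k C write L = κ^*O(1) (the divisor D_∞ of
degree 2), F_m = p_1^*L^m ⊗ p_2^*L^m (the divisor mF, F = p_1^*D_∞ + p_2^*D_∞) and let N be an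
invertible O_X-module inverse to the ideal sheaf of the graph Γ_σ = (id, σ) : C ⟶ X of σ (the
divisor class of the graph of the involution); let also N_Δ be an invertible O_X-module inverse to
the ideal sheaf of the diagonal Δ : C ⟶ X. Then N_Δ ⊗ N ≅ F_1, i.e. the divisor classes satisfy Δ +
Γ_σ ~ p_1^*D_∞ + p_2^*D_∞ (an identity in Pic X: existence of an isomorphism only). -/
theorem result (k : Type u) [Field k] [IsAlgClosed k] (h2 : (2 : k) ≠ 0)
    (C : Scheme.{u}) [C.Over (Spec (CommRingCat.of k))] [IsProper (C ↘ Spec (CommRingCat.of k))] [Smooth (C ↘ Spec (CommRingCat.of k))] [ConnectedSpace ↥C]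
    (hdim : topologicalKrullDim ↥C = 1) (g : ℕ) (hg : 2 ≤ g) (hgen : Curv2.genus k C = g)
    (κ : C ⟶ CohB1.ProjSpace 1 k) (hκ : κ ≫ CohB1.ProjSpace.toSpec 1 k = (C ↘ Spec (CommRingCat.of k)))
    [IsFinite κ] [Flat κ] (hκ2 : ∀ y : ↥(CohB1.ProjSpace 1 k), κ.finrank y = 2)
    (σ : C ⟶ C) (hσ : σ ≫ κ = κ) (hσ1 : σ ≠ 𝟙 C) (hσp : σ ≫ (C ↘ Spec (CommRingCat.of k)) = (C ↘ Spec (CommRingCat.of k)))
    (N : (pullback (C ↘ Spec (CommRingCat.of k)) (C ↘ Spec (CommRingCat.of k))).Modules) (hN : PicF.IsInvertible N)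
    (hNinv : ClSub.IsInverseOf N (ClSub.idealMod (pullback.lift (𝟙 C) σ ((Category.id_comp (C ↘ Spec (CommRingCat.of k))).trans hσp.symm)).ker))
    (ND : (pullback (C ↘ Spec (CommRingCat.of k)) (C ↘ Spec (CommRingCat.of k))).Modules) (hND : PicF.IsInvertible ND)
    (hNDinv : ClSub.IsInverseOf ND (ClSub.idealMod (pullback.diagonal (C ↘ Spec (CommRingCat.of k))).ker)) :
    Nonempty (CohB1.tensorMod ND N ≅ (CohB1.tensorMod ((Scheme.Modules.pullback (pullback.fst (C ↘ Spec (CommRingCat.of k)) (C ↘ Spec (CommRingCat.of k)))).obj (CohB1.tensorPow ((Scheme.Modules.pullback κ).obj (Twist.twistProjSpace 1 k 1)) 1)) ((Scheme.Modules.pullback (pullback.snd (C ↘ Spec (CommRingCat.of k)) (C ↘ Spec (CommRingCat.of k)))).obj (CohB1.tensorPow ((Scheme.Modules.pullback κ).obj (Twist.twistProjSpace 1 k 1)) 1)))) := by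
  subst hgen
  haveI := isIntegral_C (k := k) hdim
  letI : (pullback (C ↘ Spec (CommRingCat.of k)) (C ↘ Spec (CommRingCat.of k))).Over (Spec (CommRingCat.of k)) :=
    sqOver (k := k) (C := C)
  haveI : GeometricallyIrreducible (C ↘ Spec (CommRingCat.of k)) := by
    rw [GeomConn.Geometric.geometricallyIrreducible_iff_sepClosure]
    haveI : IsIso (CommRingCat.ofHom (algebraMap k (SeparableClosure k))) :=
      (ConcreteCategory.isIso_iff_bijective _).2 ⟨(algebraMap k (SeparableClosure k)).injective,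
        IsSepClosed.algebraMap_surjective k (SeparableClosure k)⟩
    exact (Scheme.homeoOfIso (asIso (Curv2.bcFst k C (SeparableClosure k)))).irreducibleSpace_iff.2
      inferInstance
  haveI := Groth.Agent.H2.Rigid.GeomIrred.geometricallyConnected (C ↘ Spec (CommRingCat.of k))
  haveI := Groth.Agent.H2.Rigid.GeomIrred.geometricallyIntegral_of_smooth (C ↘ Spec (CommRingCat.of k))
  haveI := Curves.GlobalSections.isNoetherian_of_proper k C
  haveI : IsIntegral (pullback (C ↘ Spec (CommRingCat.of k)) (C ↘ Spec (CommRingCat.of k))) := inferInstance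
  haveI := isProper_sq (k := k) (C := C)
  let pC := C ↘ Spec (CommRingCat.of k)
  have hγ : 1 ≤ Curv2.genus k C := by omega
  have hσσ := HypSq96.Surf.invol_sq hdim h2 hg κ hκ hκ2 hσ hσ1
  let s : C ⟶ pullback pC pC := pullback.lift (𝟙 C) σ ((Category.id_comp pC).trans hσp.symm)
  have hs : s ≫ pullback.fst pC pC = 𝟙 C := pullback.lift_fst _ _ _
  have hs' : s ≫ pullback.snd pC pC = σ := pullback.lift_snd _ _ _
  let d : C ⟶ pullback pC pC := pullback.diagonal pC
  have hd : d ≫ pullback.fst pC pC = 𝟙 C := pullback.diagonal_fst _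
  let LL := (Scheme.Modules.pullback κ).obj (Twist.twistProjSpace 1 k 1)
  let L₁ := CohB1.tensorPow LL 1
  have hL₁ : PicF.IsInvertible L₁ := isInvertible_tensorPow (PicLoc.isInvertible_pullback κ isInvertible_O1) 1
  have dL : Curv2.deg k C L₁ 1 = 2 := by simpa using deg_pullback_pow hdim κ hκ hκ2 1
  obtain ⟨eN⟩ := id hNinv
  obtain ⟨eD⟩ := id hNDinv
  let IG := ClSub.idealMod s.ker
  let ID := ClSub.idealMod d.ker
  have hIG : PicF.IsInvertible IG := TensorMod.TensorInv.isInvertible_of_tensor_iso (comm _ _ ≪≫ eN)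
  have hID : PicF.IsInvertible ID := TensorMod.TensorInv.isInvertible_of_tensor_iso (comm _ _ ≪≫ eD)
  let F1 := box (k := k) L₁ L₁
  have hF1 : PicF.IsInvertible F1 :=
    isInvertible_tensorMod (PicLoc.isInvertible_pullback _ hL₁) (PicLoc.isInvertible_pullback _ hL₁)
  let B := CohB1.tensorMod F1 ID
  have hB : PicF.IsInvertible B := isInvertible_tensorMod hF1 hID
  let M := CohB1.tensorMod B IG
  have hM : PicF.IsInvertible M := isInvertible_tensorMod hB hIG
  -- degrees of the inverse modules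
  have dinv : ∀ (f : C ⟶ pullback pC pC) {P Q : (pullback pC pC).Modules}, PicF.IsInvertible P → PicF.IsInvertible Q →
      (CohB1.tensorMod P Q ≅ Coh.structureModule (pullback pC pC)) →
      Curv2.deg k C ((Scheme.Modules.pullback f).obj Q) 1 = - Curv2.deg k C ((Scheme.Modules.pullback f).obj P) 1 := by
    intro f P Q hP hQ e
    exact Curves.Degree.deg_of_isInverseOf (k := k) hdim.le (PicLoc.isInvertible_pullback f hQ)
      (PicLoc.isInvertible_pullback f hP)
      ⟨(TensorMod.Pullback.pullbackTensorIso f _ _).symm ≪≫ (Scheme.Modules.pullback f).mapIso (comm _ _ ≪≫ e) ≪≫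
        PicLoc.pullbackStructureIso f⟩
  have dM : ∀ f : C ⟶ pullback pC pC, Curv2.deg k C ((Scheme.Modules.pullback f).obj M) 1 =
      Curv2.deg k C ((Scheme.Modules.pullback f).obj F1) 1 -
        Curv2.deg k C ((Scheme.Modules.pullback f).obj ND) 1 -
        Curv2.deg k C ((Scheme.Modules.pullback f).obj N) 1 := fun f => by
    rw [Curves.Euler.deg_eq_of_iso (TensorMod.Pullback.pullbackTensorIso f B IG) 1,
      Curves.Degree.deg_tensor hdim.le (PicLoc.isInvertible_pullback f hB) (PicLoc.isInvertible_pullback f hIG),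
      Curves.Euler.deg_eq_of_iso (TensorMod.Pullback.pullbackTensorIso f F1 ID) 1,
      Curves.Degree.deg_tensor hdim.le (PicLoc.isInvertible_pullback f hF1) (PicLoc.isInvertible_pullback f hID),
      dinv f hND hID eD, dinv f hN hIG eN]
    ring
  let eσ : (Scheme.Modules.pullback σ).obj L₁ ≅ L₁ := Ample.Pow.pullbackPow σ LL 1 ≪≫
    Ample.Pow.powIso ((Scheme.Modules.pullbackComp σ κ).app _ ≪≫ (Scheme.Modules.pullbackCongr hσ).app _) 1
  let eF (f : C ⟶ pullback pC pC) (a b : C ⟶ C) (ha : f ≫ pullback.fst pC pC = a)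
      (hb : f ≫ pullback.snd pC pC = b) : (Scheme.Modules.pullback f).obj F1 ≅
        CohB1.tensorMod ((Scheme.Modules.pullback a).obj L₁) ((Scheme.Modules.pullback b).obj L₁) :=
    TensorMod.Pullback.pullbackTensorIso f _ _ ≪≫
      tensorIso ((Scheme.Modules.pullbackComp f _).app L₁ ≪≫ (Scheme.Modules.pullbackCongr ha).app L₁)
        ((Scheme.Modules.pullbackComp f _).app L₁ ≪≫ (Scheme.Modules.pullbackCongr hb).app L₁)
  let eΔ : (Scheme.Modules.pullback d).obj F1 ≅ CohB1.tensorPow LL (1 + 1) :=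
    eF d (𝟙 C) (𝟙 C) hd (pullback.diagonal_snd _) ≪≫
      tensorIso ((Scheme.Modules.pullbackId C).app L₁) ((Scheme.Modules.pullbackId C).app L₁) ≪≫
      (Ample.Pow.powAdd LL 1 1).symm
  let eΓ : (Scheme.Modules.pullback s).obj F1 ≅ CohB1.tensorPow LL (1 + 1) :=
    eF s (𝟙 C) σ hs hs' ≪≫ tensorIso ((Scheme.Modules.pullbackId C).app L₁) eσ ≪≫
      (Ample.Pow.powAdd LL 1 1).symm
  have dF : Curv2.deg k C ((Scheme.Modules.pullback d).obj F1) 1 = 4 ∧
      Curv2.deg k C ((Scheme.Modules.pullback s).obj F1) 1 = 4 := by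
    rw [Curves.Euler.deg_eq_of_iso eΔ 1, Curves.Euler.deg_eq_of_iso eΓ 1, deg_pullback_pow hdim κ hκ hκ2]
    norm_num
  -- intersection numbers on the two curves
  have i2 := Groth.Agent.S19075.result k h2 C hdim _ hg rfl κ hκ hκ2 σ hσ hσ1 hσp N hN hNinv ND hND hNDinv
  have i1 := i2
  rw [intNum_section hdim s hs hN hNinv hND] at i1
  rw [Snapper.IntNum.intNum_pair_comm, intNum_section hdim d hd hND hNDinv hN] at i2
  have iD := HypSq96.Surf.intNum_diag_self hdim hND hNDinv
  rw [intNum_section hdim d hd hND hNDinv hND] at iD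
  -- sections
  have hF0 : 4 ≤ Module.finrank k (Coh.HH (pullback pC pC) F1 0) := by
    have h := finrank_box_eq (k := k) hdim (Curves.Degree.isCoh_of_isInvertible hL₁)
      (Curves.Degree.isCoh_of_isInvertible hL₁) 0
    have h' : Module.finrank k (Coh.HH (pullback pC pC) F1 0) =
        Module.finrank k (Coh.HH C L₁ 0) * Module.finrank k (Coh.HH C L₁ 0) :=
      h.trans (Fin.sum_univ_one _)
    rw [h', HypSq96.Canon.finrank_h0_pow hdim κ hκ hκ2 (n := 1) (by omega)]
  have hC3 : Module.finrank k (Coh.HH C ((Scheme.Modules.pullback d).obj F1) 0) ≤ 3 := by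
    rw [(Curves.LES.isoK k eΔ 0).finrank_eq]
    by_cases h3 : 3 ≤ Curv2.genus k C
    · rw [HypSq96.Canon.finrank_h0_pow hdim κ hκ hκ2 (n := 1 + 1) (by omega)]
    · have h := Curves.Clifford.hdim_zero_eq_of_deg k hdim.le (Curves.GlobalSections.finrank_h0_structure k C)
        (isInvertible_tensorPow (PicLoc.isInvertible_pullback κ isInvertible_O1) (1 + 1))
        (by rw [deg_pullback_pow hdim κ hκ hκ2]; push_cast; omega)
      rw [deg_pullback_pow hdim κ hκ hκ2] at h
      change ((Module.finrank k (Coh.HH C (CohB1.tensorPow LL (1 + 1)) 0) : ℕ) : ℤ) = _ at h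
      push_cast at h
      show Module.finrank k (Coh.HH C (CohB1.tensorPow LL 2) 0) ≤ 3
      omega
  have hB0 : 1 ≤ Module.finrank k (Coh.HH (pullback pC pC) B 0) := by
    have := Groth.Agent.H40.HypBox.le_add hdim d hd hF1 hID
    change Module.finrank k (Coh.HH (pullback pC pC) F1 0) ≤
      Module.finrank k (Coh.HH (pullback pC pC) B 0) + _ at this
    omega
  have hC0 : Subsingleton (Coh.HH C ((Scheme.Modules.pullback s).obj B) 0) := by
    refine not_nontrivial_iff_subsingleton.1 fun h => ?_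
    have h1 := Curves.Degree.deg_nonneg (k := k) hdim.le (PicLoc.isInvertible_pullback s hB) h
    rw [Curves.Euler.deg_eq_of_iso (TensorMod.Pullback.pullbackTensorIso s F1 ID) 1,
      Curves.Degree.deg_tensor hdim.le (PicLoc.isInvertible_pullback s hF1) (PicLoc.isInvertible_pullback s hID),
      dinv s hND hID eD, dF.2, i1] at h1
    omega
  have hM0 : 1 ≤ Module.finrank k (Coh.HH (pullback pC pC) M 0) := by
    have := Groth.Agent.H40.HypBox.le_add hdim s hs hB hIG
    rw [Module.finrank_zero_of_subsingleton (R := k) (M := Coh.HH C ((Scheme.Modules.pullback s).obj B) 0)] at this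
    change Module.finrank k (Coh.HH (pullback pC pC) B 0) ≤
      Module.finrank k (Coh.HH (pullback pC pC) M 0) + 0 at this
    omega
  obtain ⟨φ, hφ⟩ := Curves.Positivity.exists_section_of_nontrivial (L := M)
    (Module.nontrivial_of_finrank_pos (R := k) (show 0 < Module.finrank k (Coh.HH (pullback pC pC) M 0) from hM0))
  obtain ⟨eM⟩ := Groth.Agent.H40.HypBox.nonempty_iso_of_section hdim hM φ hφ (fun x hx => by
    set f := pullback.lift (pC ≫ x) (𝟙 C) (by rw [Category.assoc, hx, Category.comp_id, Category.id_comp])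
    have hxc : IsClosedImmersion x := by
      haveI : IsSeparated pC := inferInstance
      haveI : IsClosedImmersion (x ≫ pC) := hx ▸ inferInstance
      exact IsClosedImmersion.of_comp x pC
    have hη : genericPoint C ∉ (x.ker.support : Set C) := by
      rw [Scheme.Hom.support_ker, x.isClosedEmbedding.isClosed_range.closure_eq]
      rintro ⟨o, ho⟩
      have hc : IsClosed ({genericPoint C} : Set C) := by
        have : ({genericPoint C} : Set C) = Set.range x := by
          ext y
          constructor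
          · rintro rfl; exact ⟨o, ho⟩
          · rintro ⟨o', rfl⟩; rw [Subsingleton.elim o' o, ho]; rfl
        rw [this]; exact x.isClosedEmbedding.isClosed_range
      exact SmoothCurve.Stalk.ne_genericPoint_of_isClosed (by rw [hdim]; exact one_ne_zero) hc rfl
    have hIx : PicF.IsInvertible (ClSub.idealMod x.ker) :=
      CurveFF.IdealInv.isInvertible (k := k) (CurveFF.curveHyp_of_smooth (k := k) hdim) x.ker hη
    have hAinv : ClSub.IsInverseOf (TensorMod.Dual.dual (ClSub.idealMod x.ker)) (ClSub.idealMod x.ker) :=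
      ⟨comm _ _ ≪≫ TensorMod.Invertible.tensorDualIso hIx⟩
    have hA := TensorMod.Invertible.isInvertible_dual hIx
    have f1 := fst_section hdim x hx hA hAinv d hd hND hNDinv
    rw [fst_deg hdim x hx hA hAinv hND] at f1
    have f2 := fst_section hdim x hx hA hAinv s hs hN hNinv
    rw [fst_deg hdim x hx hA hAinv hN] at f2
    have h0 : Curv2.deg k C ((Scheme.Modules.pullback (pC ≫ x)).obj L₁) 1 = 0 :=
      IntTheory.ProductCurves.deg_pullback_const k x L₁
        (PicGen.OpenUFD.nonempty_iso_spec k _ (PicLoc.isInvertible_pullback x hL₁)) _ rfl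
    rw [dM f, Curves.Euler.deg_eq_of_iso (eF f _ _ (pullback.lift_fst _ _ _) (pullback.lift_snd _ _ _)) 1,
      Curves.Degree.deg_tensor hdim.le (PicLoc.isInvertible_pullback _ hL₁) (PicLoc.isInvertible_pullback _ hL₁),
      h0, Curves.Euler.deg_eq_of_iso ((Scheme.Modules.pullbackId C).app L₁) 1,
      show Curv2.deg k C ((𝟭 C.Modules).obj L₁) 1 = 2 from dL, f1, f2]
    ring) (by
    change Curv2.deg k C ((Scheme.Modules.pullback d).obj M) 1 = 0
    rw [dM d, dF.1, iD, i2]
    ring)
  exact ⟨(rightUnit _).symm ≪≫ tensorIso (Iso.refl _) eM.symm ≪≫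
    tensorIso (Iso.refl _) (assoc F1 ID IG) ≪≫ comm _ _ ≪≫ assoc _ _ _ ≪≫
    tensorIso (Iso.refl F1) (comm _ _ ≪≫ assoc ND N _ ≪≫
      tensorIso (Iso.refl ND) ((assoc N ID IG).symm ≪≫ tensorIso (comm N ID) (Iso.refl _) ≪≫ assoc ID N IG ≪≫
        tensorIso (Iso.refl ID) eN ≪≫ rightUnit ID) ≪≫ eD) ≪≫ rightUnit F1⟩

end Groth.Agent.S19068
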