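import Groth.Statements.S1907
import Groth.Agent.S1833
import Groth.Agent.Lib.Cyc.FP.Prime
import Groth.Agent.Lib.Cyc.PP.FinStalk
import Groth.Agent.H19.IntMult.DiagReduce
import Groth.Agent.Lib.Koszul.Euler


set_option autoImplicit false
set_option linter.style.haveILetI false
universe u
open CategoryTheory AlgebraicGeometry
open Cyc

namespace Groth.Agent.S1907

open Groth.Agent.Lib Groth.Agent.Lib.Cyc IsLocalRing Pointwise

theorem ord_congr {R : Type u} [CommRing R] {I J : Ideal R} (h : I = J) (a : R) :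
    Ring.ord (R ⧸ I) (Ideal.Quotient.mk I a) = Ring.ord (R ⧸ J) (Ideal.Quotient.mk J a) := by
  subst h; rfl

theorem congr_specMap {Y : Scheme.{u}} {y η η' : Y} (e : η' = η) (h : η ⤳ y) (h' : η' ⤳ y)
    (c : Y.presheaf.stalk y) :
    (Y.residueFieldCongr e.symm).hom (Cyc.specMap y η h c) = Cyc.specMap y η' h' c := by
  subst e
  simp only [Scheme.residueFieldCongr_refl, Iso.refl_hom]
  rfl

theorem map_specMap {X Y : Scheme.{u}} (f : X ⟶ Y) {x ξ : X} {η : Y} (hξ : f ξ = η) (h : ξ ⤳ x)
    (hη : η ⤳ f x) (c : Y.presheaf.stalk (f x)) :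
    f.residueFieldMap ξ ((Y.residueFieldCongr hξ.symm).hom (Cyc.specMap (f x) η hη c)) =
      Cyc.specMap x ξ h (f.stalkMap x c) := by
  rw [congr_specMap hξ hη (h.map f.continuous)]
  exact (InducedDimFun.specMap_stalkMap f ξ x h c).symm

variable {X Y : Scheme.{u}} [IsIntegral Y] [IsLocallyNoetherian X] [IsLocallyNoetherian Y] (f : X ⟶ Y) [Flat f]

/-- The order of a function on the base against the orders on the components. -/
theorem key {δX : X → ℤ} {δY : Y → ℤ} (hX : Cyc.IsDimFun X δX) (hY : Cyc.IsDimFun Y δY) {r k : ℤ}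
    (hsh : FP.Main.Shift f δX δY r) (hk : δY (genericPoint Y) = k) (x : X) (hfx : δY (f x) + 1 = k)
    (hx : δX x = δY (f x) + r) (S : Finset (PrimeSpectrum (X.presheaf.stalk x)))
    (hS : ∀ p, p ∈ S ↔ p ≠ closedPoint (X.presheaf.stalk x))
    (c : Y.presheaf.stalk (f x)) (hc : Cyc.specMap (f x) (genericPoint Y) (genericPoint_specializes _) c ≠ 0) :
    Cyc.ordAt (f x) (genericPoint Y) (genericPoint_specializes _)
        (Cyc.specMap (f x) (genericPoint Y) (genericPoint_specializes _) c) * ((FibLen.fibLen f x).toNat : ℤ) =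
      ∑ p ∈ S, ((Module.length (X.presheaf.stalk (X.fromSpecStalk x p))
          (X.presheaf.stalk (X.fromSpecStalk x p))).toNat : ℤ) *
        Cyc.ordAt x (X.fromSpecStalk x p) (DimFun.fromSpecStalk_specializes_self x p)
          (Cyc.specMap x (X.fromSpecStalk x p) (DimFun.fromSpecStalk_specializes_self x p) (f.stalkMap x c)) := by
  classical
  let η := genericPoint Y
  have hη : η ⤳ f x := genericPoint_specializes _
  have hkη : δY η = k := hk
  have hker : RingHom.ker (Cyc.specMap (f x) η hη) = ⊥ := by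
    refine le_antisymm ?_ bot_le
    have h0 : DimFun.genPrime (f x) η hη ≤ ⟨⊥, Ideal.isPrime_bot⟩ := by
      rw [← DimFun.fromSpecStalk_specializes_iff, DimFun.fromSpecStalk_genPrime]
      exact genericPoint_specializes _
    exact h0
  have hc0 : c ≠ 0 := fun h => hc (by rw [h, map_zero])
  have hdA : ringKrullDim (Y.presheaf.stalk (f x)) = ((1 : ℕ) : WithBot ℕ∞) := by
    rw [DimFun.ringKrullDim_stalk hY (f x), hk, show (k - δY (f x)).toNat = 1 by omega]
  haveI : Ring.KrullDimLE 1 (Y.presheaf.stalk (f x)) := by rw [Ring.krullDimLE_iff, hdA]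
  have hL : Cyc.ordAt (f x) η hη (Cyc.specMap (f x) η hη c) =
      ((Module.length (Y.presheaf.stalk (f x)) (Y.presheaf.stalk (f x) ⧸ Ideal.span {c})).toNat : ℤ) := by
    rw [Ord.ordAt_specMap hY (f x) η hη (by omega) c hc, FP.Prime.ord_mk, hker, bot_sup_eq]
  have hfib : FibLen.IsMaxFib f x := fun y hy hyx => by
    refine DimFun.eq_of_specializes_of_le hX hyx ?_
    have := FP.Main.delta_le f hX hsh y
    rw [hy] at this
    omega
  have hfin : Module.length (Y.presheaf.stalk (f x)) (Y.presheaf.stalk (f x) ⧸ Ideal.span {c}) *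
      FibLen.fibLen f x ≠ ⊤ :=
    WithTop.mul_ne_top (Ring.ord_ne_top (mem_nonZeroDivisors_of_ne_zero hc0))
      ((FibLen.fibLen_ne_top_iff f x).2 hfib)
  set c' : X.presheaf.stalk x := f.stalkMap x c with hc'
  have hlen : Module.length (X.presheaf.stalk x) ((X.presheaf.stalk x) ⧸ Ideal.span {c'}) =
      Module.length (Y.presheaf.stalk (f x)) (Y.presheaf.stalk (f x) ⧸ Ideal.span {c}) * FibLen.fibLen f x := by
    rw [← FP.Prime.length_quotient_map, Ideal.map_span, Set.image_singleton]
  have hreg : IsSMulRegular (X.presheaf.stalk x) c' := by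
    letI := (f.stalkMap x).hom.toAlgebra
    haveI : Module.Flat (Y.presheaf.stalk (f x)) (X.presheaf.stalk x) := Flat.stalkMap f x
    have h2 : IsSMulRegular (Y.presheaf.stalk (f x)) c := IsSMulRegular.of_right_eq_zero_of_smul
      fun z hz => (mul_eq_zero.1 hz).resolve_left hc0
    have h1 : IsSMulRegular (X.presheaf.stalk x) c :=
      (LinearEquiv.isSMulRegular_congr (TensorProduct.rid (Y.presheaf.stalk (f x)) (X.presheaf.stalk x)) c).1
        (IsSMulRegular.lTensor (X.presheaf.stalk x) h2)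
    intro a b hab
    exact h1 (show c • a = c • b from hab)
  let pt := fun p : PrimeSpectrum (X.presheaf.stalk x) => X.fromSpecStalk x p
  have hspec : ∀ p, pt p ⤳ x := fun p => DimFun.fromSpecStalk_specializes_self x p
  have hgp : ∀ p, p = DimFun.genPrime x (pt p) (hspec p) := fun p => DimFun.eq_genPrime x p
  have hle : ∀ y : X, y ⤳ x → δX y ≤ k + r := fun y hy => by
    have h1 := FP.Main.delta_le f hX hsh y
    have h2 := DimFun.le_of_specializes hY (genericPoint_specializes (f y))
    rw [hk] at h2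
    omega
  have hdB : ringKrullDim (X.presheaf.stalk x) ≤ 1 := by
    refine iSup_le fun l => ?_
    by_contra hlt
    rw [not_le] at hlt
    have h2 : 2 ≤ l.length := by
      by_contra h
      exact absurd hlt (not_lt.2 (by exact_mod_cast (show l.length ≤ 1 by omega)))
    have hstep : ∀ {p q : PrimeSpectrum (X.presheaf.stalk x)}, p < q → δX (pt q) < δX (pt p) := fun {p q} hpq =>
      DimFun.lt_of_specializes hX ((DimFun.fromSpecStalk_specializes_iff x p q).2 hpq.le)
        fun e => hpq.ne (DimFun.fromSpecStalk_injective x e)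
    have s1 := hstep (l.strictMono (show (⟨0, by omega⟩ : Fin (l.length + 1)) < ⟨1, by omega⟩ from Nat.zero_lt_one))
    have s2 := hstep (l.strictMono (show (⟨1, by omega⟩ : Fin (l.length + 1)) < ⟨2, by omega⟩ from Nat.one_lt_two))
    have := DimFun.le_of_specializes hX (hspec (l ⟨2, by omega⟩))
    have := hle _ (hspec (l ⟨0, by omega⟩))
    omega
  have hnot : ∀ p ∈ S, δX (pt p) = k + r := fun p hp => by
    have hne : pt p ≠ x := fun e => (hS p).1 hp (DimFun.fromSpecStalk_injective x
      (e.trans Scheme.fromSpecStalk_closedPoint.symm))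
    have := DimFun.lt_of_specializes hX (hspec p) hne
    have := hle _ (hspec p)
    omega
  have hsd : Module.supportDim (X.presheaf.stalk x) (X.presheaf.stalk x) ≤ 1 := (Module.supportDim_self_eq_ringKrullDim (X.presheaf.stalk x)).le.trans hdB
  have hsm : (c' • (⊤ : Submodule (X.presheaf.stalk x) (X.presheaf.stalk x))) = Ideal.span {c'} :=
    (Submodule.ideal_span_singleton_smul c' ⊤).symm.trans (by simp)
  have hq0 : Module.supportDim (X.presheaf.stalk x) ((X.presheaf.stalk x) ⧸ c' • (⊤ : Submodule (X.presheaf.stalk x) (X.presheaf.stalk x))) ≤ 0 := by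
    have hne : Module.length (X.presheaf.stalk x) ((X.presheaf.stalk x) ⧸ c' • (⊤ : Submodule (X.presheaf.stalk x) (X.presheaf.stalk x))) ≠ ⊤ := by rw [hsm, hlen]; exact hfin
    exact Koszul.Euler.supportDim_le_zero_of_isFiniteLength (Module.length_ne_top_iff.1 hne)
  have hformula := S1833.result (X.presheaf.stalk x) (X.presheaf.stalk x) c' hsd hq0
  have hk0 : Module.length (X.presheaf.stalk x) (LinearMap.ker (LinearMap.lsmul (X.presheaf.stalk x) (X.presheaf.stalk x) c')) = 0 := by
    rw [LinearMap.ker_eq_bot.2 (fun a b h => hreg h)]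
    exact Module.length_eq_zero_iff.2 inferInstance
  rw [hsm, hlen, hk0, zero_add] at hformula
  rw [finsum_cond_eq_sum_of_cond_iff _ (t := S) fun {p} _ => by
    rw [hS p]
    have hu : p ∈ Module.support (X.presheaf.stalk x) (X.presheaf.stalk x) := by
      rw [Module.mem_support_iff_of_finite]
      intro a ha
      have := Module.mem_annihilator.1 ha 1
      simp only [smul_eq_mul, mul_one] at this
      rw [this]; exact zero_mem _
    exact ⟨fun h e => h.2 (by rw [e]; rfl), fun h => ⟨hu, fun e => h (PrimeSpectrum.ext e)⟩⟩] at hformula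
  rw [hL, ← Nat.cast_mul, ← ENat.toNat_mul, hformula, PP.FinStalk.toNat_sum S
    (fun p => Ring.ord ((X.presheaf.stalk x) ⧸ p.asIdeal) (Ideal.Quotient.mk p.asIdeal c') *
      Module.length (Localization.AtPrime p.asIdeal) (LocalizedModule p.asIdeal.primeCompl (X.presheaf.stalk x)))
    (fun p hp => (WithTop.sum_ne_top.1 (hformula ▸ hfin)) p hp), Nat.cast_sum]
  refine Finset.sum_congr rfl fun p hp => ?_
  have hkerp : p.asIdeal = RingHom.ker (Cyc.specMap x (pt p) (hspec p)) :=
    congrArg PrimeSpectrum.asIdeal (hgp p)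
  have hcp : Cyc.specMap x (pt p) (hspec p) c' ≠ 0 := by
    have hfp : f (pt p) = η := by
      have h1 := FP.Main.delta_le f hX hsh (pt p)
      have h2 := hnot p hp
      refine (DimFun.eq_of_specializes_of_le hY (genericPoint_specializes (f (pt p))) ?_).symm
      rw [hk]; omega
    rw [hc', ← map_specMap f hfp (hspec p) hη c]
    intro h0
    refine hc ?_
    have h1 := (f.residueFieldMap (pt p)).hom.injective (h0.trans (map_zero _).symm)
    exact (Y.residueFieldCongr hfp.symm).commRingCatIsoToRingEquiv.injective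
      (h1.trans (map_zero _).symm)
  rw [Ord.ordAt_specMap hX x (pt p) (hspec p) (by have := hnot p hp; omega) c' hcp, ENat.toNat_mul,
    Nat.cast_mul, ord_congr hkerp c', mul_comm]
  congr 2
  letI : Algebra (X.presheaf.stalk x) (X.presheaf.stalk (pt p)) := (X.presheaf.stalkSpecializes (hspec p)).hom.toAlgebra
  haveI : IsLocalization.AtPrime (X.presheaf.stalk (pt p)) p.asIdeal := by
    have := CartierDescent.isLocalization_stalkSpecializes (hspec p)
    show IsLocalization p.asIdeal.primeCompl _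
    rw [show p.asIdeal.primeCompl = (CDivInt.Factorial.primeOf (hspec p)).primeCompl from
      SetLike.ext fun t => not_congr (by
        rw [H19.IntMult.DiagReduce.genPrime_primeOf, ← congrArg PrimeSpectrum.asIdeal (hgp p)])]
    exact this
  exact congrArg ENat.toNat (H19.IntMult.StalkLen.length_eq p.asIdeal (X.presheaf.stalk (pt p))
    (X.presheaf.stalk (pt p)) (Algebra.linearMap (X.presheaf.stalk x) (X.presheaf.stalk (pt p)))).symm


/-- Let Y be integral with δY(η_Y) = k, f : X → Y flat, locally of finite type, of relative dimension r,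
and g a nonzero rational function on Y. Then f^*(div_Y g) = Σ_j n_j · div_{X_j}(g|_{X_j}) as (k + r
− 1)-cycles on X, the sum over the irreducible components X_j of X (generic points ξ_j, which map to
η_Y) with n_j the length of O_{X,ξ_j}, and g|_{X_j} the image of g in κ(ξ_j). A pair (X, δ) with
Cyc.IsSetup plays the role of a scheme locally of finite type over a fixed base with a dimension
function (X locally Noetherian with universally catenary local rings, δ a dimension function), and
Cyc.DeltaCompat records that the dimension function upstairs is the induced one. -/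
theorem result (X Y : Scheme.{u}) [IsIntegral Y] (δX : X → ℤ) (δY : Y → ℤ) (hX : Cyc.IsSetup X δX) (hY : Cyc.IsSetup Y δY) (f : X ⟶ Y) [Flat f] [LocallyOfFiniteType f] (r : ℕ) (hr : Cyc.HasRelDim f r) (hδ : Cyc.DeltaCompat f δX δY) (k : ℤ) (hk : δY (genericPoint Y) = k) (g : Y.residueField (genericPoint Y)) (hg : g ≠ 0) (x : X) : Cyc.pullFun f δX δY r (Cyc.divFun δY (genericPoint Y) g) x = ∑ᶠ ξ : {ξ : X // (∀ x' : X, x' ⤳ ξ → x' = ξ) ∧ f ξ = genericPoint Y}, ((Module.length (X.presheaf.stalk ξ.1) (X.presheaf.stalk ξ.1)).toNat : ℤ) * Cyc.divFun δX ξ.1 (f.residueFieldMap ξ.1 ((Y.residueFieldCongr ξ.2.2.symm).hom g)) x := by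
  classical
  haveI := hX.1
  haveI := hY.1
  have dX := hX.2.2
  have dY := hY.2.2
  have hsh : FP.Main.Shift f δX δY (r : ℤ) := FP.Main.shift_of_hasRelDim f hr hδ
  let η := genericPoint Y
  have hmax : ∀ ξ : X, (∀ x' : X, x' ⤳ ξ → x' = ξ) → f ξ = η ∧ δX ξ = k + r := fun ξ hξ => by
    have h1 : η = f ξ := FlatDim.isMaxPt_of_flat f hξ _ (genericPoint_specializes _)
    refine ⟨h1.symm, ?_⟩
    rw [hsh ξ (fun y _ hy => hξ y hy), ← h1, hk]
  have hle := FP.Main.delta_le f dX hsh
  have hkη : δY η = k := hk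
  let T := fun ξ : {ξ : X // (∀ x' : X, x' ⤳ ξ → x' = ξ) ∧ f ξ = η} =>
    ((Module.length (X.presheaf.stalk ξ.1) (X.presheaf.stalk ξ.1)).toNat : ℤ) *
      Cyc.divFun δX ξ.1 (f.residueFieldMap ξ.1 ((Y.residueFieldCongr ξ.2.2.symm).hom g)) x
  show _ = ∑ᶠ ξ, T ξ
  have hT : ∀ ξ, T ξ ≠ 0 → ξ.1 ⤳ x ∧ δX x + 1 = k + r := fun ξ h => by
    by_contra hn
    refine h (mul_eq_zero_of_right _ (dif_neg fun hh => hn ⟨hh.1, ?_⟩))
    rw [hh.2, (hmax ξ.1 ξ.2.1).2]
  by_cases hx : δX x + 1 = k + r
  swap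
  · rw [finsum_eq_zero_of_forall_eq_zero fun ξ => by by_contra h; exact hx (hT ξ h).2]
    rw [FibLen.pullFun_apply]
    split_ifs with h1
    · rw [Cyc.divFun, dif_neg (fun hh => hx (by rw [hk] at hh; omega)), zero_mul]
    · rfl
  have hηx : η ⤳ f x := genericPoint_specializes _
  have hfle : δY (f x) ≤ k := hk ▸ DimFun.le_of_specializes dY hηx
  obtain ⟨a, b, hb, hab⟩ := Ord.exists_specMap_fraction (f x) η hηx g
  have ha : Cyc.specMap (f x) η hηx a ≠ 0 := hab ▸ mul_ne_zero hg hb
  have hTval : ∀ (ξ : {ξ : X // (∀ x' : X, x' ⤳ ξ → x' = ξ) ∧ f ξ = η}) (h : ξ.1 ⤳ x),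
      T ξ = ((Module.length (X.presheaf.stalk ξ.1) (X.presheaf.stalk ξ.1)).toNat : ℤ) *
        (Cyc.ordAt x ξ.1 h (Cyc.specMap x ξ.1 h (f.stalkMap x a)) -
          Cyc.ordAt x ξ.1 h (Cyc.specMap x ξ.1 h (f.stalkMap x b))) := fun ξ h => by
    have hd : δX x + 1 = δX ξ.1 := by rw [(hmax ξ.1 ξ.2.1).2, hx]
    simp only [T, Cyc.divFun, dif_pos (show ξ.1 ⤳ x ∧ δX x + 1 = δX ξ.1 from ⟨h, hd⟩)]
    congr 1
    have hne : ∀ c, c ≠ 0 → f.residueFieldMap ξ.1 ((Y.residueFieldCongr ξ.2.2.symm).hom c) ≠ 0 := fun c hc h0 =>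
      hc ((Y.residueFieldCongr ξ.2.2.symm).commRingCatIsoToRingEquiv.injective
        (((f.residueFieldMap ξ.1).hom.injective (h0.trans (map_zero _).symm)).trans (map_zero _).symm))
    have e := Ord.ordAt_mul dX x ξ.1 h hd.ge _ _ (hne g hg) (hne _ hb)
    rw [← map_mul, ← map_mul, hab, map_specMap f ξ.2.2 h hηx a, map_specMap f ξ.2.2 h hηx b] at e
    omega
  by_cases hfx : δY (f x) = k
  · have hunit : ∀ c, Cyc.specMap (f x) η hηx c ≠ 0 → IsUnit c := fun c hc => by
      by_contra hn
      refine hc ?_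
      have hfη : f x = η := (DimFun.eq_of_specializes_of_le dY hηx (by rw [hfx]; exact hk.le)).symm
      have hcl : c ∈ (IsLocalRing.closedPoint (Y.presheaf.stalk (f x))).asIdeal := (mem_maximalIdeal c).2 hn
      rw [show IsLocalRing.closedPoint (Y.presheaf.stalk (f x)) = DimFun.genPrime (f x) η hηx from
        DimFun.fromSpecStalk_injective (f x) (by
          rw [Scheme.fromSpecStalk_closedPoint, DimFun.fromSpecStalk_genPrime]; exact hfη)] at hcl
      exact RingHom.mem_ker.1 hcl
    rw [finsum_eq_zero_of_forall_eq_zero fun ξ => by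
      by_contra hne
      obtain ⟨h, -⟩ := hT ξ hne
      have hd : δX x + 1 = δX ξ.1 := by rw [(hmax ξ.1 ξ.2.1).2, hx]
      refine hne ?_
      rw [hTval ξ h, Ord.ordAt_specMap_of_isUnit dX x ξ.1 h hd.ge _ ((hunit a ha).map (f.stalkMap x).hom),
        Ord.ordAt_specMap_of_isUnit dX x ξ.1 h hd.ge _ ((hunit b hb).map (f.stalkMap x).hom), sub_zero, mul_zero]]
    rw [FibLen.pullFun_apply]
    split_ifs with h1
    · rw [Cyc.divFun, dif_neg (fun hh => by rw [hk] at hh; omega), zero_mul]
    · rfl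
  have hlex := hle x
  have hfx1 : δY (f x) + 1 = k := by omega
  have hxr : δX x = δY (f x) + r := by omega
  rw [FibLen.pullFun_apply, if_pos hxr, Cyc.divFun, dif_pos ⟨hηx, by rw [hk]; exact hfx1⟩]
  let pt := fun p : PrimeSpectrum (X.presheaf.stalk x) => X.fromSpecStalk x p
  have hspec : ∀ p, pt p ⤳ x := fun p => DimFun.fromSpecStalk_specializes_self x p
  have hpt : ∀ p, p ≠ IsLocalRing.closedPoint _ → ∀ x' : X, x' ⤳ pt p → x' = pt p := fun p hp x' hx' => by
    refine DimFun.eq_of_specializes_of_le dX hx' ?_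
    have hne : pt p ≠ x := fun e => hp (DimFun.fromSpecStalk_injective x
      (e.trans Scheme.fromSpecStalk_closedPoint.symm))
    have := DimFun.lt_of_specializes dX (hspec p) hne
    have h1 := hle x'
    have h2 : δY (f x') ≤ k := hk ▸ DimFun.le_of_specializes dY (genericPoint_specializes (f x'))
    omega
  have hfinS : {p : PrimeSpectrum (X.presheaf.stalk x) | p ≠ IsLocalRing.closedPoint _}.Finite := by
    refine ((minimalPrimes.finite_of_isNoetherianRing (X.presheaf.stalk x)).preimage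
      (f := PrimeSpectrum.asIdeal) (fun _ _ _ _ h => PrimeSpectrum.ext h)).subset fun p hp => ?_
    refine ⟨⟨p.isPrime, bot_le⟩, fun q hq hqp => le_of_eq ?_⟩
    have hsp := (DimFun.fromSpecStalk_specializes_iff x ⟨q, hq.1⟩ p).2 hqp
    exact congrArg PrimeSpectrum.asIdeal (DimFun.fromSpecStalk_injective x (hpt p hp _ hsp)).symm
  set S := hfinS.toFinset with hSdef
  have hS : ∀ p, p ∈ S ↔ p ≠ IsLocalRing.closedPoint _ := fun p => hfinS.mem_toFinset
  let e : {p // p ∈ S} → {ξ : X // (∀ x' : X, x' ⤳ ξ → x' = ξ) ∧ f ξ = η} := fun p =>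
    ⟨pt p.1, hpt p.1 ((hS _).1 p.2), (hmax _ (hpt p.1 ((hS _).1 p.2))).1⟩
  rw [finsum_eq_sum_of_support_subset T (s := S.attach.image e) (fun ξ hξ => by
    obtain ⟨h, -⟩ := hT ξ hξ
    have hptξ : pt (DimFun.genPrime x ξ.1 h) = ξ.1 := DimFun.fromSpecStalk_genPrime x ξ.1 h
    have hmem : DimFun.genPrime x ξ.1 h ∈ S := (hS _).2 fun he => by
      have : ξ.1 = x := by
        rw [← hptξ, he]
        exact Scheme.fromSpecStalk_closedPoint
      have h2 := (hmax ξ.1 ξ.2.1).2
      rw [this] at h2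
      omega
    exact Finset.mem_image.2 ⟨⟨_, hmem⟩, Finset.mem_attach _ _, Subtype.ext hptξ⟩)]
  rw [Finset.sum_image (g := e) (fun p _ q _ h => Subtype.ext (DimFun.fromSpecStalk_injective x (show pt p.1 = pt q.1 from congrArg (fun ξ => ξ.1) h)))]
  rw [Finset.sum_congr rfl fun p _ => hTval (e p) (hspec p.1)]
  have e1 := Ord.ordAt_mul dY (f x) η hηx (by omega) g _ hg hb
  rw [hab] at e1
  have hA := key f dX dY hsh hk x hfx1 hxr S hS a ha
  have hB := key f dX dY hsh hk x hfx1 hxr S hS b hb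
  rw [e1, add_mul] at hA
  simp only [mul_sub, Finset.sum_sub_distrib]
  let Φ := fun (c : Y.presheaf.stalk (f x)) (p : PrimeSpectrum (X.presheaf.stalk x)) =>
    ((Module.length (X.presheaf.stalk (pt p)) (X.presheaf.stalk (pt p))).toNat : ℤ) *
      Cyc.ordAt x (pt p) (hspec p) (Cyc.specMap x (pt p) (hspec p) (f.stalkMap x c))
  show _ = ∑ p ∈ S.attach, Φ a p.1 - ∑ p ∈ S.attach, Φ b p.1
  rw [Finset.sum_attach S (Φ a), Finset.sum_attach S (Φ b)]
  simp only [Φ, pt]
  rw [← hA, ← hB]
  ring


end Groth.Agent.S1907
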