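import Groth.Statements.S19088
import Groth.Agent.Lib.HypSq96.Sym
import Groth.Agent.Lib.HypSq96.Surf
import Groth.Agent.S19075
-- import your own Groth.Agent.* helpers here

set_option autoImplicit false
universe u
open CategoryTheory CategoryTheory.Limits AlgebraicGeometry Opposite
open SymSq

namespace Groth.Agent.S19088

/-- Let k be an algebraically closed field of characteristic ≠ 2 and C a hyperelliptic curve of genus g
≥ 2 over k: C ⟶ Spec k proper and smooth, C connected of dimension one with dim_k H^1(C, O_C) = g,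
with a double cover κ : C ⟶ P^1_k over k (finite, flat, of rank 2 everywhere) and hyperelliptic
involution σ (σ ≫ κ = κ, σ ≠ id). On X = C ×_k C let L = κ^*O(1), F_m = p_1^*L^m ⊗ p_2^*L^m and N an
invertible O_X-module inverse to the ideal sheaf of the graph Γ_σ = (id, σ) : C ⟶ X. Let S = Sym²(C)
be the symmetric square: π : X ⟶ S is a quotient (affine, invariant, sections of S = invariant
sections) for the action of the symmetric group on two letters in which the transposition acts by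
the swap of the two factors, and q : S ⟶ Spec k its structure morphism with π over Spec k; let N_Δ
be an invertible module on X inverse to the ideal sheaf of the diagonal, x : Spec k ⟶ C a k-point
with A = O_C(x), and MΘ, MΔ, M∇ invertible O_S-modules with π^*MΘ ≅ p_1^*A ⊗ p_2^*A, π^*MΔ ≅ N_Δ ⊗
N_Δ and π^*M∇ ≅ N (the classes Θ_S = π({x} × C), Δ_S = π(Δ) with π^*Δ_S = 2Δ, and ∇_S = π(Γ_σ)).
Then (Θ_S·Θ_S) = 1, (Θ_S·Δ_S) = 2, (Θ_S·∇_S) = 1, (Δ_S·Δ_S) = 4 − 4g, (∇_S·∇_S) = 1 − g and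
(Δ_S·∇_S) = 2g + 2, intersection numbers being (M·M') = χ(O_S) − χ(M) − χ(M') + χ(M ⊗ M'). -/
theorem result (k : Type u) [Field k] [IsAlgClosed k] (h2 : (2 : k) ≠ 0)
    (C : Scheme.{u}) [C.Over (Spec (CommRingCat.of k))] [IsProper (C ↘ Spec (CommRingCat.of k))] [Smooth (C ↘ Spec (CommRingCat.of k))] [ConnectedSpace ↥C]
    (hdim : topologicalKrullDim ↥C = 1) (g : ℕ) (hg : 2 ≤ g) (hgen : Curv2.genus k C = g)
    (κ : C ⟶ CohB1.ProjSpace 1 k) (hκ : κ ≫ CohB1.ProjSpace.toSpec 1 k = (C ↘ Spec (CommRingCat.of k)))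
    [IsFinite κ] [Flat κ] (hκ2 : ∀ y : ↥(CohB1.ProjSpace 1 k), κ.finrank y = 2)
    (σ : C ⟶ C) (hσ : σ ≫ κ = κ) (hσ1 : σ ≠ 𝟙 C) (hσp : σ ≫ (C ↘ Spec (CommRingCat.of k)) = (C ↘ Spec (CommRingCat.of k)))
    (N : (pullback (C ↘ Spec (CommRingCat.of k)) (C ↘ Spec (CommRingCat.of k))).Modules) (hN : PicF.IsInvertible N)
    (hNinv : ClSub.IsInverseOf N (ClSub.idealMod (pullback.lift (𝟙 C) σ ((Category.id_comp (C ↘ Spec (CommRingCat.of k))).trans hσp.symm)).ker))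
    (ND : (pullback (C ↘ Spec (CommRingCat.of k)) (C ↘ Spec (CommRingCat.of k))).Modules) (hND : PicF.IsInvertible ND)
    (hNDinv : ClSub.IsInverseOf ND (ClSub.idealMod (pullback.diagonal (C ↘ Spec (CommRingCat.of k))).ker))
    (x : Spec (CommRingCat.of k) ⟶ C) (hx : x ≫ (C ↘ Spec (CommRingCat.of k)) = 𝟙 (Spec (CommRingCat.of k)))
    (A : C.Modules) (hA : PicF.IsInvertible A) (hAinv : ClSub.IsInverseOf A (ClSub.idealMod x.ker))
    (ρ : ULift.{u} (Equiv.Perm (Fin 2)) →* Aut (pullback (C ↘ Spec (CommRingCat.of k)) (C ↘ Spec (CommRingCat.of k)))) (hρ : (ρ (ULift.up (Equiv.swap 0 1))).hom = (pullbackSymmetry (C ↘ Spec (CommRingCat.of k)) (C ↘ Spec (CommRingCat.of k))).hom)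
    (Sq : Scheme.{u}) (π : (pullback (C ↘ Spec (CommRingCat.of k)) (C ↘ Spec (CommRingCat.of k))) ⟶ Sq) (hπ : SGA1.IsQuot ρ π) (q : Sq ⟶ Spec (CommRingCat.of k)) (hq : π ≫ q = pullback.fst (C ↘ Spec (CommRingCat.of k)) (C ↘ Spec (CommRingCat.of k)) ≫ (C ↘ Spec (CommRingCat.of k)))
    (MΘ MΔ MV : Sq.Modules) (hMΘ : PicF.IsInvertible MΘ) (hMΔ : PicF.IsInvertible MΔ) (hMV : PicF.IsInvertible MV)
    (hΘ : Nonempty ((Scheme.Modules.pullback π).obj MΘ ≅ CohB1.tensorMod ((Scheme.Modules.pullback (pullback.fst (C ↘ Spec (CommRingCat.of k)) (C ↘ Spec (CommRingCat.of k)))).obj A) ((Scheme.Modules.pullback (pullback.snd (C ↘ Spec (CommRingCat.of k)) (C ↘ Spec (CommRingCat.of k)))).obj A)))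
    (hΔ : Nonempty ((Scheme.Modules.pullback π).obj MΔ ≅ CohB1.tensorMod ND ND))
    (hV : Nonempty ((Scheme.Modules.pullback π).obj MV ≅ N)) :
    letI : Sq.Over (Spec (CommRingCat.of k)) := ⟨q⟩
    FGA.intNum k Sq 2 ![MΘ, MΘ] (Coh.structureModule Sq) = 1 ∧ FGA.intNum k Sq 2 ![MΘ, MΔ] (Coh.structureModule Sq) = 2 ∧ FGA.intNum k Sq 2 ![MΘ, MV] (Coh.structureModule Sq) = 1 ∧
      FGA.intNum k Sq 2 ![MΔ, MΔ] (Coh.structureModule Sq) = 4 - 4 * (g : ℤ) ∧ FGA.intNum k Sq 2 ![MV, MV] (Coh.structureModule Sq) = 1 - (g : ℤ) ∧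
      FGA.intNum k Sq 2 ![MΔ, MV] (Coh.structureModule Sq) = 2 * (g : ℤ) + 2 := by
  subst hgen
  haveI := Groth.Agent.Lib.HypSq96.Basic.isIntegral_C (k := k) hdim
  have hσσ := Groth.Agent.Lib.HypSq96.Surf.invol_sq hdim h2 hg κ hκ hκ2 hσ hσ1
  haveI : IsIso σ := ⟨⟨σ, hσσ, hσσ⟩⟩
  letI : (pullback (C ↘ Spec (CommRingCat.of k)) (C ↘ Spec (CommRingCat.of k))).Over (Spec (CommRingCat.of k)) := ⟨pullback.fst (C ↘ Spec (CommRingCat.of k)) (C ↘ Spec (CommRingCat.of k)) ≫ (C ↘ Spec (CommRingCat.of k))⟩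
  haveI := Groth.Agent.Lib.HypSq96.Table.isProper_sq (k := k) (C := C)
  haveI := Groth.Agent.Lib.Curves.GlobalSections.isNoetherian_of_proper k (pullback (C ↘ Spec (CommRingCat.of k)) (C ↘ Spec (CommRingCat.of k)))
  have hfin := Groth.Agent.Lib.Snapper.Finite.cohFinite k (pullback (C ↘ Spec (CommRingCat.of k)) (C ↘ Spec (CommRingCat.of k)))
  have hd := Groth.Agent.Lib.HypSq96.Table.dim_sq' (k := k) hdim
  obtain ⟨-, -, hint, -, -⟩ := Groth.Agent.Lib.IntTheory.ProductCurves.surface k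
    (Groth.Agent.Lib.HypSq96.Table.isCurve (k := k) hdim) (Groth.Agent.Lib.HypSq96.Table.isCurve (k := k) hdim)
  haveI : AlgebraicGeometry.IsIntegral (pullback (C ↘ Spec (CommRingCat.of k)) (C ↘ Spec (CommRingCat.of k))) := hint
  obtain ⟨eΘ⟩ := hΘ
  obtain ⟨eΔ⟩ := hΔ
  obtain ⟨eV⟩ := hV
  set a1 := (Scheme.Modules.pullback (pullback.fst (C ↘ Spec (CommRingCat.of k)) (C ↘ Spec (CommRingCat.of k)))).obj A with ha1
  set a2 := (Scheme.Modules.pullback (pullback.snd (C ↘ Spec (CommRingCat.of k)) (C ↘ Spec (CommRingCat.of k)))).obj A with ha2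
  have i1 : PicF.IsInvertible a1 := PicLoc.isInvertible_pullback _ hA
  have i2 : PicF.IsInvertible a2 := PicLoc.isInvertible_pullback _ hA
  let I := fun L M => FGA.intNum k (pullback (C ↘ Spec (CommRingCat.of k)) (C ↘ Spec (CommRingCat.of k))) 2 ![L, M] (Coh.structureModule _)
  have hcomm : ∀ L M, I L M = I M L := fun L M => Groth.Agent.Lib.Snapper.IntNum.intNum_pair_comm L M _
  have hl : ∀ {L L' M}, PicF.IsInvertible L → PicF.IsInvertible L' → PicF.IsInvertible M →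
      I (CohB1.tensorMod L L') M = I L M + I L' M := fun hL hL' hM =>
    Groth.Agent.Lib.Snapper.IntNum.intNum_pair_tensor_left hfin hd hL hL' hM (Groth.Agent.Lib.Snapper.Twist.isCoh_structureModule _)
  have hr : ∀ {L L' M}, PicF.IsInvertible L → PicF.IsInvertible L' → PicF.IsInvertible M →
      I M (CohB1.tensorMod L L') = I M L + I M L' := fun {L L' M} hL hL' hM => by
    rw [hcomm, hl hL hL' hM, hcomm L, hcomm L']
  have hc : ∀ {L L'} (_ : L ≅ L') M, I L M = I L' M := fun e M =>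
    Groth.Agent.Lib.SurfInt.NegDef.intNum_congr_left (k := k) e
  have hc2 : ∀ {L L'} (_ : L ≅ L') {M M'} (_ : M ≅ M'), I L M = I L' M' := fun {L L'} e {M M'} e' => by
    rw [hc e, hcomm, hc e', hcomm]
  have t11 : I a1 a1 = 0 := Groth.Agent.Lib.HypSq96.Table.fst_fst hdim x hx hA hAinv
  have t12 : I a1 a2 = 1 := Groth.Agent.Lib.HypSq96.Table.fst_snd hdim x hx hA hAinv
  have t22 : I a2 a2 = 0 := Groth.Agent.Lib.HypSq96.Sym.snd_snd hdim x hx hA hAinv
  have t1D : I a1 ND = 1 := Groth.Agent.Lib.HypSq96.Table.fst_section hdim x hx hA hAinv _ (pullback.diagonal_fst _) hND hNDinv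
  have t1N : I a1 N = 1 := Groth.Agent.Lib.HypSq96.Table.fst_section hdim x hx hA hAinv _ (pullback.lift_fst _ _ _) hN hNinv
  have t2D : I a2 ND = 1 := Groth.Agent.Lib.HypSq96.Sym.snd_section hdim x hx hA hAinv _ (pullback.diagonal_fst _) (𝟙 C) (Category.id_comp _) (pullback.diagonal_snd _) hND hNDinv
  have t2N : I a2 N = 1 := Groth.Agent.Lib.HypSq96.Sym.snd_section hdim x hx hA hAinv _ (pullback.lift_fst _ _ _) σ hσp (pullback.lift_snd _ _ _) hN hNinv
  have tDD : I ND ND = 2 - 2 * (Curv2.genus k C : ℤ) := Groth.Agent.Lib.HypSq96.Surf.intNum_diag_self hdim hND hNDinv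
  have tNN : I N N = 2 - 2 * (Curv2.genus k C : ℤ) := Groth.Agent.Lib.HypSq96.Surf.intNum_graph_self hdim hσσ hσp hN hNinv
  have tND : I N ND = 2 * (Curv2.genus k C : ℤ) + 2 :=
    Groth.Agent.S19075.result k h2 C hdim _ hg rfl κ hκ hκ2 σ hσ hσ1 hσp N hN hNinv ND hND hNDinv
  have hT : PicF.IsInvertible (CohB1.tensorMod a1 a2) := Groth.Agent.Lib.TensorMod.Invertible.isInvertible_tensorMod i1 i2
  have hDD : PicF.IsInvertible (CohB1.tensorMod ND ND) := Groth.Agent.Lib.TensorMod.Invertible.isInvertible_tensorMod hND hND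
  have key := fun {M M' : Sq.Modules} (h : PicF.IsInvertible M) (h' : PicF.IsInvertible M') =>
    Groth.Agent.Lib.HypSq96.Sym.intNum_pullback hdim ρ hρ π hπ q hq h h'
  have k1 := (key hMΘ hMΘ).symm.trans (hc2 eΘ eΘ)
  have k2 := (key hMΘ hMΔ).symm.trans (hc2 eΘ eΔ)
  have k3 := (key hMΘ hMV).symm.trans (hc2 eΘ eV)
  have k4 := (key hMΔ hMΔ).symm.trans (hc2 eΔ eΔ)
  have k5 := (key hMV hMV).symm.trans (hc2 eV eV)
  have k6 := (key hMΔ hMV).symm.trans (hc2 eΔ eV)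
  rw [hl i1 i2 hT, hr i1 i2 i1, hr i1 i2 i2, hcomm a2 a1, t11, t12, t22] at k1
  rw [hl i1 i2 hDD, hr hND hND i1, hr hND hND i2, t1D, t2D] at k2
  rw [hl i1 i2 hN, t1N, t2N] at k3
  rw [hl hND hND hDD, hr hND hND hND, tDD] at k4
  rw [tNN] at k5
  rw [hl hND hND hN, hcomm ND N, tND] at k6
  refine ⟨?_, ?_, ?_, ?_, ?_, ?_⟩ <;> linarith

end Groth.Agent.S19088
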