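import Groth.Statements.S19091
import Groth.Agent.H26.SymSqTheta
import Groth.Agent.S19068
import Groth.Agent.H2.Rigid.GeomIrred
import Groth.Agent.Lib.GeomConn.Geometric


set_option autoImplicit false
universe u
open CategoryTheory CategoryTheory.Limits AlgebraicGeometry Opposite
open SymSq
open Groth.Agent.Lib.TensorMod.Basic (tensorIso leftUnit)
open Groth.Agent.Lib.TensorMod.Invertible (isInvertible_tensorPow isInvertible_tensorMod exists_inverse cancelRight)
open Groth.Agent.Lib.TensorMod.Pullback (pullbackTensorIso)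
open Groth.Agent.Lib.Ample.Pow (pullbackPow powIso middleFour powTensor powMul)

namespace Groth.Agent.S19091

/-- Let k be an algebraically closed field of characteristic ≠ 2 and C a hyperelliptic curve of genus g
≥ 2 over k: C ⟶ Spec k proper and smooth, C connected of dimension one with dim_k H^1(C, O_C) = g,
with a double cover κ : C ⟶ P^1_k over k (finite, flat, of rank 2 everywhere) and hyperelliptic
involution σ (σ ≫ κ = κ, σ ≠ id). On X = C ×_k C let L = κ^*O(1), F_m = p_1^*L^m ⊗ p_2^*L^m and N an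
invertible O_X-module inverse to the ideal sheaf of the graph Γ_σ = (id, σ) : C ⟶ X. Let S = Sym²(C)
be the symmetric square: π : X ⟶ S is a quotient (affine, invariant, sections of S = invariant
sections) for the action of the symmetric group on two letters in which the transposition acts by
the swap of the two factors, and q : S ⟶ Spec k its structure morphism with π over Spec k; let N_Δ
be an invertible module on X inverse to the ideal sheaf of the diagonal, x : Spec k ⟶ C a k-point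
with A = O_C(x), and MΘ, MΔ, M∇ invertible O_S-modules with π^*MΘ ≅ p_1^*A ⊗ p_2^*A, π^*MΔ ≅ N_Δ ⊗
N_Δ and π^*M∇ ≅ N (the classes Θ_S = π({x} × C), Δ_S = π(Δ) with π^*Δ_S = 2Δ, and ∇_S = π(Γ_σ)).
Assume moreover that x is a Weierstrass point: σ fixes x. Then 4Θ_S ~ Δ_S + 2∇_S in Pic S: MΘ^4 ≅ MΔ
⊗ M∇^2 (existence of an isomorphism). -/
theorem result (k : Type u) [Field k] [IsAlgClosed k] (h2 : (2 : k) ≠ 0)
    (C : Scheme.{u}) [C.Over (Spec (CommRingCat.of k))] [IsProper (C ↘ Spec (CommRingCat.of k))] [Smooth (C ↘ Spec (CommRingCat.of k))] [ConnectedSpace ↥C]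
    (hdim : topologicalKrullDim ↥C = 1) (g : ℕ) (hg : 2 ≤ g) (hgen : Curv2.genus k C = g)
    (κ : C ⟶ CohB1.ProjSpace 1 k) (hκ : κ ≫ CohB1.ProjSpace.toSpec 1 k = (C ↘ Spec (CommRingCat.of k)))
    [IsFinite κ] [Flat κ] (hκ2 : ∀ y : ↥(CohB1.ProjSpace 1 k), κ.finrank y = 2)
    (σ : C ⟶ C) (hσ : σ ≫ κ = κ) (hσ1 : σ ≠ 𝟙 C) (hσp : σ ≫ (C ↘ Spec (CommRingCat.of k)) = (C ↘ Spec (CommRingCat.of k)))
    (N : (pullback (C ↘ Spec (CommRingCat.of k)) (C ↘ Spec (CommRingCat.of k))).Modules) (hN : PicF.IsInvertible N)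
    (hNinv : ClSub.IsInverseOf N (ClSub.idealMod (pullback.lift (𝟙 C) σ ((Category.id_comp (C ↘ Spec (CommRingCat.of k))).trans hσp.symm)).ker))
    (ND : (pullback (C ↘ Spec (CommRingCat.of k)) (C ↘ Spec (CommRingCat.of k))).Modules) (hND : PicF.IsInvertible ND)
    (hNDinv : ClSub.IsInverseOf ND (ClSub.idealMod (pullback.diagonal (C ↘ Spec (CommRingCat.of k))).ker))
    (x : Spec (CommRingCat.of k) ⟶ C) (hx : x ≫ (C ↘ Spec (CommRingCat.of k)) = 𝟙 (Spec (CommRingCat.of k)))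
    (A : C.Modules) (hA : PicF.IsInvertible A) (hAinv : ClSub.IsInverseOf A (ClSub.idealMod x.ker))
    (ρ : ULift.{u} (Equiv.Perm (Fin 2)) →* Aut (pullback (C ↘ Spec (CommRingCat.of k)) (C ↘ Spec (CommRingCat.of k)))) (hρ : (ρ (ULift.up (Equiv.swap 0 1))).hom = (pullbackSymmetry (C ↘ Spec (CommRingCat.of k)) (C ↘ Spec (CommRingCat.of k))).hom)
    (Sq : Scheme.{u}) (π : (pullback (C ↘ Spec (CommRingCat.of k)) (C ↘ Spec (CommRingCat.of k))) ⟶ Sq) (hπ : SGA1.IsQuot ρ π) (q : Sq ⟶ Spec (CommRingCat.of k)) (hq : π ≫ q = pullback.fst (C ↘ Spec (CommRingCat.of k)) (C ↘ Spec (CommRingCat.of k)) ≫ (C ↘ Spec (CommRingCat.of k)))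
    (hxW : x ≫ σ = x)
    (MΘ MΔ MV : Sq.Modules) (hMΘ : PicF.IsInvertible MΘ) (hMΔ : PicF.IsInvertible MΔ) (hMV : PicF.IsInvertible MV)
    (hΘ : Nonempty ((Scheme.Modules.pullback π).obj MΘ ≅ CohB1.tensorMod ((Scheme.Modules.pullback (pullback.fst (C ↘ Spec (CommRingCat.of k)) (C ↘ Spec (CommRingCat.of k)))).obj A) ((Scheme.Modules.pullback (pullback.snd (C ↘ Spec (CommRingCat.of k)) (C ↘ Spec (CommRingCat.of k)))).obj A)))
    (hΔ : Nonempty ((Scheme.Modules.pullback π).obj MΔ ≅ CohB1.tensorMod ND ND))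
    (hV : Nonempty ((Scheme.Modules.pullback π).obj MV ≅ N)) :
    Nonempty (CohB1.tensorPow MΘ 4 ≅ CohB1.tensorMod MΔ (CohB1.tensorPow MV 2)) := by
  subst hgen
  haveI := Groth.Agent.Lib.HypSq96.Basic.isIntegral_C (k := k) hdim
  haveI : GeometricallyIrreducible (C ↘ Spec (CommRingCat.of k)) := by
    rw [Groth.Agent.Lib.GeomConn.Geometric.geometricallyIrreducible_iff_sepClosure]
    haveI : IsIso (CommRingCat.ofHom (algebraMap k (SeparableClosure k))) :=
      (ConcreteCategory.isIso_iff_bijective _).2 ⟨(algebraMap k (SeparableClosure k)).injective,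
        IsSepClosed.algebraMap_surjective k (SeparableClosure k)⟩
    exact (Scheme.homeoOfIso (asIso (Curv2.bcFst k C (SeparableClosure k)))).irreducibleSpace_iff.2
      inferInstance
  haveI := Groth.Agent.H2.Rigid.GeomIrred.geometricallyConnected (C ↘ Spec (CommRingCat.of k))
  haveI := Groth.Agent.H2.Rigid.GeomIrred.geometricallyIntegral_of_smooth (C ↘ Spec (CommRingCat.of k))
  haveI := Groth.Agent.Lib.Curves.GlobalSections.isNoetherian_of_proper k C
  haveI : IsIntegral (pullback (C ↘ Spec (CommRingCat.of k)) (C ↘ Spec (CommRingCat.of k))) := inferInstance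
  obtain ⟨eF⟩ := Groth.Agent.S19068.result k h2 C hdim _ hg rfl κ hκ hκ2 σ hσ hσ1 hσp N hN hNinv ND hND hNDinv
  let pC := C ↘ Spec (CommRingCat.of k)
  let P1 := Scheme.Modules.pullback (pullback.fst pC pC)
  let P2 := Scheme.Modules.pullback (pullback.snd pC pC)
  let f : C ⟶ pullback pC pC := pullback.lift (pC ≫ x) (𝟙 C)
    (by rw [Category.assoc, hx, Category.comp_id, Category.id_comp])
  let L1 := CohB1.tensorPow ((Scheme.Modules.pullback κ).obj (Twist.twistProjSpace 1 k 1)) 1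
  have hL1 : PicF.IsInvertible L1 :=
    isInvertible_tensorPow (PicLoc.isInvertible_pullback κ Groth.Agent.Lib.HypSq96.Basic.isInvertible_O1) 1
  obtain ⟨tv⟩ := Groth.Agent.Lib.PicGen.OpenUFD.nonempty_iso_spec k _ (PicLoc.isInvertible_pullback x hL1)
  obtain ⟨fD⟩ := Groth.Agent.H26.SymSqTheta.nonempty_fibre_pullback hdim (𝟙 C) (Category.id_comp _) x hx
    (Category.comp_id _) hA hAinv (pullback.diagonal_fst _) (pullback.diagonal_snd _) hNDinv
  obtain ⟨fN⟩ := Groth.Agent.H26.SymSqTheta.nonempty_fibre_pullback hdim σ hσp x hx hxW hA hAinv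
    (pullback.lift_fst _ _ _) (pullback.lift_snd _ _ _) hNinv
  let hfix : (Scheme.Modules.pullback f).obj (P1.obj L1) ≅ Coh.structureModule C :=
    (Scheme.Modules.pullbackComp f _).app L1 ≪≫
      (Scheme.Modules.pullbackCongr (pullback.lift_fst _ _ _)).app L1 ≪≫
      ((Scheme.Modules.pullbackComp pC x).app L1).symm ≪≫
      (Scheme.Modules.pullback pC).mapIso tv ≪≫ PicLoc.pullbackStructureIso pC
  let hvar : (Scheme.Modules.pullback f).obj (P2.obj L1) ≅ L1 :=
    (Scheme.Modules.pullbackComp f _).app L1 ≪≫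
      (Scheme.Modules.pullbackCongr (pullback.lift_snd _ _ _)).app L1 ≪≫ (Scheme.Modules.pullbackId C).app L1
  let eL : L1 ≅ CohB1.tensorMod A A :=
    (leftUnit L1).symm ≪≫ (tensorIso hfix hvar).symm ≪≫ (pullbackTensorIso f _ _).symm ≪≫
      (Scheme.Modules.pullback f).mapIso eF.symm ≪≫ pullbackTensorIso f _ _ ≪≫ tensorIso fD fN
  let AA := CohB1.tensorMod (P1.obj A) (P2.obj A)
  let sq : ∀ {Z : Scheme.{u}} (M : Z.Modules), CohB1.tensorMod M M ≅ CohB1.tensorPow M 2 := fun M =>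
    tensorIso (leftUnit M).symm (Iso.refl M)
  let lhs : (Scheme.Modules.pullback π).obj (CohB1.tensorPow MΘ 4) ≅ CohB1.tensorPow AA 4 :=
    pullbackPow π MΘ 4 ≪≫ powIso hΘ.some 4
  let eFA : CohB1.tensorMod ND N ≅ CohB1.tensorPow AA 2 :=
    eF ≪≫ tensorIso (P1.mapIso eL ≪≫ pullbackTensorIso _ A A) (P2.mapIso eL ≪≫ pullbackTensorIso _ A A) ≪≫
      middleFour _ _ _ _ ≪≫ sq AA
  let rhs : (Scheme.Modules.pullback π).obj (CohB1.tensorMod MΔ (CohB1.tensorPow MV 2)) ≅ CohB1.tensorPow AA 4 :=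
    pullbackTensorIso π _ _ ≪≫ tensorIso (hΔ.some ≪≫ sq ND) (pullbackPow π MV 2 ≪≫ powIso hV.some 2) ≪≫
      (powTensor ND N 2).symm ≪≫ powIso eFA 2 ≪≫ powMul AA 2 2
  have hR : PicF.IsInvertible (CohB1.tensorMod MΔ (CohB1.tensorPow MV 2)) :=
    isInvertible_tensorMod hMΔ (isInvertible_tensorPow hMV 2)
  obtain ⟨R', hR', ⟨eR⟩⟩ := exists_inverse hR
  obtain ⟨eO⟩ := Groth.Agent.H26.SymSqTheta.nonempty_iso_of_pullback hπ (pullback.diagonal pC)
    (fun g => by
      obtain ⟨g⟩ := g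
      have h : g = 1 ∨ g = Equiv.swap 0 1 := by revert g; decide
      rcases h with rfl | rfl
      · show _ ≫ (ρ 1).hom = _
        rw [map_one]; exact Category.comp_id _
      · rw [hρ]
        apply pullback.hom_ext <;> simp [pC])
    (fun r hr => Groth.Agent.H26.SymSqTheta.eq_one_of_diag hdim r hr)
    (isInvertible_tensorMod (isInvertible_tensorPow hMΘ 4) hR')
    (pullbackTensorIso π _ _ ≪≫ tensorIso (lhs ≪≫ rhs.symm) (Iso.refl _) ≪≫
      (pullbackTensorIso π _ _).symm ≪≫ (Scheme.Modules.pullback π).mapIso eR ≪≫ PicLoc.pullbackStructureIso π)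
  exact ⟨cancelRight hR' (eO ≪≫ eR.symm)⟩

end Groth.Agent.S19091
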