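import Groth.Statements.S19092
import Mathlib.RingTheory.RingHom.Finite
import Mathlib.Algebra.CharP.Frobenius
-- import your own Groth.Agent.* helpers here

set_option autoImplicit false
universe u
open FrobAlg

namespace Groth.Agent.S19092

/-- Let p be a prime and A a commutative ring of characteristic p whose absolute Frobenius a ↦ a^p is a
finite ring homomorphism. Then the same holds for every quotient and every localization of A: for
every ideal I of A such that A ⧸ I has characteristic p (every proper ideal) the absolute Frobenius
of A ⧸ I is finite, and for every submonoid S of A and every localization B of A at S of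
characteristic p (every nonzero localization) the absolute Frobenius of B is finite. -/
theorem result (p : ℕ) [Fact p.Prime]
    (A : Type u) [CommRing A] [CharP A p] (hF : (frobenius A p).Finite) :
    (∀ (I : Ideal A) [CharP (A ⧸ I) p], (frobenius (A ⧸ I) p).Finite) ∧
      ∀ (S : Submonoid A) (B : Type u) [CommRing B] [Algebra A B] [IsLocalization S B] [CharP B p],
        (frobenius B p).Finite := by
  have hp := (Fact.out : p.Prime)
  refine ⟨fun I _ => ?_, fun S B _ _ _ _ => ?_⟩
  · refine RingHom.Finite.of_comp_finite (f := Ideal.Quotient.mk I) ?_
    have h : (frobenius (A ⧸ I) p).comp (Ideal.Quotient.mk I) = (Ideal.Quotient.mk I).comp (frobenius A p) :=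
      RingHom.ext fun a => by simp [frobenius_def]
    rw [h]
    exact (RingHom.Finite.of_surjective _ Ideal.Quotient.mk_surjective).comp hF
  · have hle : S.map (frobenius A p) ≤ S := by
      rintro _ ⟨s, hs, rfl⟩
      exact pow_mem hs p
    haveI : IsLocalization (S.map (frobenius A p)) B :=
      (IsLocalization.iff_of_le_of_exists_dvd (S.map (frobenius A p)) S hle
        (fun s hs => ⟨frobenius A p s, Submonoid.mem_map_of_mem _ hs, dvd_pow_self s hp.ne_zero⟩)).2 ‹_›
    have h := RingHom.finite_localizationPreserves (frobenius A p) S B B hF
    convert h using 1
    refine IsLocalization.ringHom_ext S (RingHom.ext fun a => ?_)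
    rw [IsLocalization.map_comp]
    simp [frobenius_def]

end Groth.Agent.S19092
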