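import Groth.Statements.S19093
import Groth.Agent.S19092
import Mathlib.RingTheory.PowerSeries.Expand
import Mathlib.FieldTheory.Finite.Basic
import Mathlib.RingTheory.FiniteType
import Mathlib.RingTheory.IntegralClosure.IsIntegralClosure.Basic
import Groth.Prelude.Def_FrobAlg
-- import your own Groth.Agent.* helpers here

set_option autoImplicit false
universe u
open FrobAlg

namespace Groth.Agent.S19093

/-- Let p be a prime, k a finite field of characteristic p, A a commutative k[[t]]-algebra of finite
type over the power series ring k[[t]], and P a prime ideal of A. Then the absolute Frobenius a ↦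
a^p of the local ring A_P is a finite ring homomorphism. In particular every local ring of a scheme
of finite type over k[[t]] has finite absolute Frobenius. (The instance hypothesis that A_P has
characteristic p always holds, A_P being a nonzero algebra over k.) The published statement is for
the local rings of a projective strictly semistable scheme over k[[t]] and adds that such a scheme
is regular with F-finite local rings; its proof uses only that the scheme is of finite type over
k[[t]], which is the form stated here. -/
theorem result (p : ℕ) [Fact p.Prime]
    (k : Type u) [Field k] [Finite k] [CharP k p]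
    (A : Type u) [CommRing A] [Algebra (PowerSeries k) A] [Algebra.FiniteType (PowerSeries k) A]
    (P : Ideal A) [P.IsPrime] [CharP (Localization.AtPrime P) p] :
    (frobenius (Localization.AtPrime P) p).Finite := by
  have hp := (Fact.out : p.Prime)
  haveI hP : CharP (PowerSeries k) p := charP_of_injective_ringHom (f := (PowerSeries.C : k →+* PowerSeries k))
    (fun a b h => by simpa using congr_arg PowerSeries.constantCoeff h) p
  haveI : PerfectRing k p := PerfectField.toPerfectRing p
  have hP0 : (frobenius (PowerSeries k) p).Finite := by
    let l : (Fin p → PowerSeries k) →ₗ[PowerSeries k] FrobAlg.Twist p (PowerSeries k) :=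
      Fintype.linearCombination (PowerSeries k) fun i : Fin p => FrobAlg.toTwist p (PowerSeries k) (PowerSeries.X ^ (i : ℕ))
    show Module.Finite (PowerSeries k) (FrobAlg.Twist p (PowerSeries k))
    refine Module.Finite.of_surjective l fun f => ?_
    obtain ⟨f, rfl⟩ := (FrobAlg.toTwist p (PowerSeries k)).surjective f
    refine ⟨fun i => PowerSeries.mk fun m => (frobeniusEquiv k p).symm (PowerSeries.coeff (p * m + i) f), ?_⟩
    simp only [l, Fintype.linearCombination_apply, Algebra.smul_def, FrobAlg.algebraMap_twist, ← map_mul, ← map_sum]
    congr 1
    ext m
    have hpow : ∀ g : PowerSeries k, g ^ p = PowerSeries.map (frobenius k p) (PowerSeries.expand p hp.ne_zero g) :=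
      fun g => (MvPowerSeries.map_frobenius_expand p hp.ne_zero).symm
    rw [map_sum, Finset.sum_eq_single (⟨m % p, Nat.mod_lt _ hp.pos⟩ : Fin p)]
    · have hdiv := Nat.div_add_mod m p
      rw [PowerSeries.coeff_mul_X_pow', if_pos (Nat.mod_le _ _), hpow, PowerSeries.coeff_map,
        show m - (((⟨m % p, Nat.mod_lt _ hp.pos⟩ : Fin p) : ℕ)) = p * (m / p) by simp only; omega,
        PowerSeries.coeff_expand_mul, PowerSeries.coeff_mk, frobenius_def, frobeniusEquiv_symm_pow_p, hdiv]
    · intro i _ hne
      rw [PowerSeries.coeff_mul_X_pow']
      split_ifs with hi
      · rw [hpow, PowerSeries.coeff_map, PowerSeries.coeff_expand_of_not_dvd, map_zero]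
        rintro ⟨q, hq⟩
        apply hne
        apply Fin.ext
        simp only
        rw [show m = i.val + p * q by omega, Nat.add_mul_mod_self_left, Nat.mod_eq_of_lt i.isLt]
      · rfl
    · intro h; exact absurd (Finset.mem_univ _) h
  haveI : Nontrivial A := (algebraMap A (Localization.AtPrime P)).domain_nontrivial
  haveI : CharP A p := (CharP.charP_iff_prime_eq_zero hp).2 (by
    rw [← map_natCast (algebraMap (PowerSeries k) A), CharP.cast_eq_zero, map_zero])
  have hA : (frobenius A p).Finite := by
    refine RingHom.Finite.of_isIntegral_of_finiteType (fun a => ⟨Polynomial.X ^ p - Polynomial.C a,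
      Polynomial.monic_X_pow_sub_C _ hp.ne_zero, by simp [frobenius_def]⟩) ?_
    refine RingHom.FiniteType.of_comp_finiteType (f := algebraMap (PowerSeries k) A) ?_
    have h : (frobenius A p).comp (algebraMap (PowerSeries k) A) =
        (algebraMap (PowerSeries k) A).comp (frobenius (PowerSeries k) p) :=
      RingHom.ext fun a => by simp [frobenius_def]
    rw [h]
    exact (RingHom.finiteType_algebraMap.2 ‹_›).comp hP0.finiteType
  exact (Groth.Agent.S19092.result p A hA).2 P.primeCompl (Localization.AtPrime P)

end Groth.Agent.S19093
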