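import Groth.Statements.S19098

set_option autoImplicit false
set_option linter.style.haveILetI false
universe u
open CategoryTheory MonoidalCategory CartesianMonoidalCategory MonObj AlgebraicGeometry
open ChGrp

namespace Groth.Agent.S19098

open CategoryTheory.Limits

/-- Let S be a scheme, G an S-group scheme acting on an S-scheme X through a, and h an S-point of G. Let
i : Z → G be a homomorphism and ψ : Ψ → G a monomorphism with a G-action on Ψ under which ψ
intertwines with conjugation, and o an S-point of Ψ over h, such that (Ψ, o) is the homogeneous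
space G/Z for the fppf topology through the orbit map g ↦ g h g⁻¹ (so Z is the centralizer of h and
Ψ its conjugacy class). Let incl : X^h → X be a monomorphism whose points are the points of X fixed
by h, with the Z-action restricted from a; let σ : S_Ψ → G ×_S X be a monomorphism whose points are
the pairs (g, x) with g a point of Ψ and g x = x (the part of the global stabilizer over Ψ), with
the G-action by conjugation on the first entry and by a on the second; and let Φ : G ×_S X^h → S_Ψ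
be the morphism (g, x) ↦ (g h g⁻¹, g x). Then Φ makes S_Ψ, with its G-action, the balanced product G
×^Z X^h for the fppf topology: Φ is G-equivariant, it is a Z-torsor for the action z (g, x) = (g
z⁻¹, z x), and it has sections fppf-locally on S_Ψ. (The source works with algebraic spaces of
finite type over the complex numbers and a semisimple conjugacy class Ψ, where the identification of
Ψ with G/Z comes from the theory of algebraic groups; here that identification is the hypothesis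
hhom, the base is arbitrary and X is a scheme.) -/
theorem result
    {S : Scheme.{u}} {G X Z Ψ Xh SΨ : Over S} [GrpObj G] [GrpObj Z]
    (a : AlgGrp.Action G X) (h : 𝟙_ (Over S) ⟶ G)
    (i : Z ⟶ G) [IsMonHom i]
    (ψ : Ψ ⟶ G) [Mono ψ] (aΨ : AlgGrp.Action G Ψ)
    (hψ : aΨ.act ≫ ψ = fst G Ψ * (snd G Ψ ≫ ψ) * (fst G Ψ)⁻¹)
    (o : 𝟙_ (Over S) ⟶ Ψ) (ho : o ≫ ψ = h)
    (hhom : ChGrp.IsHomog Scheme.fppfPrecoverage i aΨ o)
    (incl : Xh ⟶ X) [Mono incl]
    (hXh : ∀ (T : Over S) (x : T ⟶ X), (∃ y : T ⟶ Xh, y ≫ incl = x) ↔ lift (toUnit T ≫ h) x ≫ a.act = x)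
    (aXh : AlgGrp.Action Z Xh) (hincl : AlgGrp.Action.IsEquivariant aXh (a.restrict i) incl)
    (σ : SΨ ⟶ G ⊗ X) [Mono σ]
    (hSΨ : ∀ (T : Over S) (g : T ⟶ G) (x : T ⟶ X),
      (∃ q : T ⟶ SΨ, q ≫ σ = lift g x) ↔ ((∃ y : T ⟶ Ψ, y ≫ ψ = g) ∧ lift g x ≫ a.act = x))
    (aS : AlgGrp.Action G SΨ)
    (hσ : aS.act ≫ σ = lift (fst G SΨ * (snd G SΨ ≫ σ ≫ fst G X) * (fst G SΨ)⁻¹)
      (lift (fst G SΨ) (snd G SΨ ≫ σ ≫ snd G X) ≫ a.act))
    (Φ : G ⊗ Xh ⟶ SΨ)
    (hΦ : Φ ≫ σ = lift (fst G Xh * (toUnit (G ⊗ Xh) ≫ h) * (fst G Xh)⁻¹)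
      (lift (fst G Xh) (snd G Xh ≫ incl) ≫ a.act)) :
    ChGrp.IsBalProd Scheme.fppfPrecoverage i aXh aS Φ := by
  haveI := hhom.1
  have hpt : ∀ {T : Over S} (g : T ⟶ G) (p : T ⟶ Ψ),
      (lift g p ≫ aΨ.act) ≫ ψ = g * (p ≫ ψ) * g⁻¹ := by
    intro T g p
    rw [Category.assoc, hψ, MonObj.comp_mul, MonObj.comp_mul, GrpObj.comp_inv, lift_fst, lift_snd_assoc]
  have horb : ∀ {T : Over S} (g : T ⟶ G),
      (g ≫ aΨ.orbitMap o) ≫ ψ = g * (toUnit T ≫ h) * g⁻¹ := by
    intro T g
    rw [AlgGrp.Action.comp_orbitMap, hpt, Category.assoc, ho]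
  have hΦ' : ∀ {T : Over S} (g : T ⟶ G) (x : T ⟶ Xh), lift g x ≫ Φ ≫ σ =
      lift (g * (toUnit T ≫ h) * g⁻¹) (lift g (x ≫ incl) ≫ a.act) := by
    intro T g x
    rw [hΦ, comp_lift, MonObj.comp_mul, MonObj.comp_mul, GrpObj.comp_inv, lift_fst, comp_lift_assoc,
      lift_fst, lift_snd_assoc, ← Category.assoc _ (toUnit _) h, toUnit_unique (lift g x ≫ toUnit _) (toUnit T)]
  have hσ' : ∀ {T : Over S} (g : T ⟶ G) (p : T ⟶ SΨ), lift g p ≫ aS.act ≫ σ =
      lift (g * (p ≫ σ ≫ fst G X) * g⁻¹) (lift g (p ≫ σ ≫ snd G X) ≫ a.act) := by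
    intro T g p
    rw [hσ, comp_lift, MonObj.comp_mul, MonObj.comp_mul, GrpObj.comp_inv, lift_fst, lift_snd_assoc,
      comp_lift_assoc, lift_fst, lift_snd_assoc]
  have hinc : ∀ {T : Over S} (z : T ⟶ Z) (x : T ⟶ Xh),
      (lift z x ≫ aXh.act) ≫ incl = lift (z ≫ i) (x ≫ incl) ≫ a.act := by
    intro T z x
    rw [Category.assoc, hincl, lift_whiskerLeft_assoc, AlgGrp.Action.lift_restrict_act]
  have eta : ∀ {T A B : Over S} (z : T ⟶ A ⊗ B), z = lift (z ≫ fst A B) (z ≫ snd A B) := by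
    intro T A B z
    simp [← comp_lift]
  refine ⟨?_, ?_, ?_⟩
  · -- equivariance
    apply AlgGrp.Action.hom_ext_lift₂
    intro T g z
    rw [eta z, AlgGrp.Action.lift_prod_act_assoc, AlgGrp.Action.lift_trivial_act, lift_whiskerLeft_assoc,
      ← cancel_mono σ, Category.assoc, Category.assoc, hΦ', hσ',
      ← Category.assoc _ σ (fst G X), ← Category.assoc _ σ (snd G X), Category.assoc _ Φ σ, hΦ', lift_fst,
      lift_snd]
    have e1 : lift g (z ≫ fst G Xh) ≫ (NonAbH1.trivialAction G).act = g * (z ≫ fst G Xh) :=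
      (Hom.mul_def _ _).symm
    rw [e1, AlgGrp.Action.lift_mul_act, mul_inv_rev]
    congr 1
    group
  · -- kernel pair
    have hstab : ∀ {T : Over S} (z : T ⟶ Z),
        (z ≫ i) * (toUnit T ≫ h) * (z ≫ i)⁻¹ = toUnit T ≫ h := by
      intro T z
      have e := congrArg (fun k => lift (1 : T ⟶ G) z ≫ k ≫ ψ) hhom.2.1.w
      simp only [lift_fst_assoc, Category.assoc, lift_whiskerLeft_assoc] at e
      have e' : lift (1 : T ⟶ G) (z ≫ i) ≫ μ[G] = z ≫ i := (Hom.mul_def _ _).symm.trans (_root_.one_mul _)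
      rw [← Category.assoc (1 : T ⟶ G), horb, ← Category.assoc (lift _ _) μ[G], e', ← Category.assoc (z ≫ i),
        horb] at e
      simpa using e.symm
    have hw : (ChGrp.twist i aXh).act ≫ Φ = snd Z (G ⊗ Xh) ≫ Φ := by
      apply AlgGrp.Action.hom_ext_lift₂
      intro T z p
      rw [eta p, ChGrp.lift_twist_act_assoc, lift_snd_assoc, ← cancel_mono σ, Category.assoc, Category.assoc,
        hΦ', hΦ', hinc, ← AlgGrp.Action.lift_mul_act, inv_mul_cancel_right]
      congr 1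
      have e := hstab z
      have e2 := congrArg (fun u => (z ≫ i)⁻¹ * u * (z ≫ i)) e
      simp only [_root_.mul_assoc, inv_mul_cancel_left, inv_mul_cancel, _root_.mul_one] at e2
      simp only [mul_inv_rev, inv_inv, _root_.mul_assoc]
      rw [← _root_.mul_assoc (toUnit T ≫ h) (z ≫ i), ← _root_.mul_assoc ((z ≫ i)⁻¹), ← e2]
    have mk : ∀ {T : Over S} (p₁ p₂ : T ⟶ G ⊗ Xh), p₁ ≫ Φ = p₂ ≫ Φ →
        ∃ z : T ⟶ Z, lift z p₂ ≫ (ChGrp.twist i aXh).act = p₁ ∧
          p₂ ≫ fst G Xh = (p₁ ≫ fst G Xh) * (z ≫ i) := by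
      intro T p₁ p₂ e
      have e' := congrArg (· ≫ σ) e
      rw [eta p₁, eta p₂, Category.assoc, Category.assoc, hΦ', hΦ'] at e'
      have e1 := congrArg (· ≫ fst G X) e'
      have e2 := congrArg (· ≫ snd G X) e'
      simp only [lift_fst, lift_snd] at e1 e2
      have eo : (p₁ ≫ fst G Xh) ≫ aΨ.orbitMap o = (p₂ ≫ fst G Xh) ≫ aΨ.orbitMap o := by
        rw [← cancel_mono ψ, horb, horb, e1]
      let w := hhom.2.1.lift _ _ eo
      have w1 : w ≫ fst G Z = p₁ ≫ fst G Xh := hhom.2.1.lift_fst _ _ eo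
      have w2 : w ≫ (G ◁ i) ≫ μ[G] = p₂ ≫ fst G Xh := hhom.2.1.lift_snd _ _ eo
      have w3 : p₂ ≫ fst G Xh = (p₁ ≫ fst G Xh) * ((w ≫ snd G Z) ≫ i) := by
        rw [← w2, eta w, lift_whiskerLeft_assoc, w1, Hom.mul_def, lift_snd]
      refine ⟨w ≫ snd G Z, ?_, w3⟩
      conv_lhs => rw [eta p₂, ChGrp.lift_twist_act]
      conv_rhs => rw [eta p₁]
      congr 1
      · rw [w3, mul_inv_cancel_right]
      · rw [← cancel_mono incl, hinc]
        rw [w3, AlgGrp.Action.lift_mul_act] at e2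
        have := congrArg (fun k => lift (p₁ ≫ fst G Xh)⁻¹ k ≫ a.act) e2
        simp only [← AlgGrp.Action.lift_mul_act, inv_mul_cancel, inv_mul_cancel_left,
          AlgGrp.Action.lift_one_act] at this
        exact this.symm
    refine ⟨⟨hw⟩, ⟨PullbackCone.IsLimit.mk hw
      (fun c => lift (mk c.fst c.snd c.condition).choose c.snd)
      (fun c => (mk c.fst c.snd c.condition).choose_spec.1)
      (fun c => lift_snd _ _) fun c l h1 h2 => ?_⟩⟩
    apply CartesianMonoidalCategory.hom_ext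
    · rw [lift_fst]
      have hz := (mk c.fst c.snd c.condition).choose_spec.2
      have e := congrArg (· ≫ fst G Xh) h1
      rw [Category.assoc] at e
      rw [eta l, ← Category.assoc, eta (l ≫ snd Z (G ⊗ Xh)), ChGrp.lift_twist_act, lift_fst, h2] at e
      have ez : (l ≫ fst Z (G ⊗ Xh)) ≫ i = (mk c.fst c.snd c.condition).choose ≫ i := by
        have h5 := hz.trans (congrArg (· * _) e.symm)
        rw [_root_.mul_assoc, eq_comm, mul_eq_left, inv_mul_eq_one] at h5
        exact h5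
      have u1 : lift (1 : c.pt ⟶ G) (l ≫ fst Z (G ⊗ Xh)) =
          lift (1 : c.pt ⟶ G) (mk c.fst c.snd c.condition).choose := by
        apply hhom.2.1.hom_ext
        · simp
        · rw [lift_whiskerLeft_assoc, lift_whiskerLeft_assoc, ez]
      simpa using congrArg (· ≫ snd G Z) u1
    · rw [lift_snd]; exact h2
  · -- sections
    obtain ⟨y, hy⟩ := ((hSΨ SΨ (σ ≫ fst G X) (σ ≫ snd G X)).1 ⟨𝟙 _, by rw [Category.id_comp, ← eta]⟩).1
    have hfixσ := ((hSΨ SΨ (σ ≫ fst G X) (σ ≫ snd G X)).1 ⟨𝟙 _, by rw [Category.id_comp, ← eta]⟩).2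
    obtain ⟨R, hR, hsec⟩ := hhom.2.2
    haveI : R.HasPullbacks y.left := ⟨fun {_} {f} _ => inferInstance⟩
    refine ⟨R.pullbackArrows y.left, Precoverage.pullbackArrows_mem y.left hR, ?_⟩
    rintro _ _ ⟨W, g, hg⟩
    obtain ⟨s, hs⟩ := hsec g hg
    simp only [Over.mk_hom] at hs
    let T : Over S := Over.mk (Limits.pullback.snd g y.left ≫ SΨ.hom)
    let t : T ⟶ SΨ := Over.homMk (Limits.pullback.snd g y.left) rfl
    let gg : T ⟶ G := Over.homMk (Limits.pullback.fst g y.left ≫ s) (by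
      rw [← Over.w (aΨ.orbitMap o), Category.assoc, reassoc_of% hs, Limits.pullback.condition_assoc, Over.w y]
      rfl)
    have e1 : t ≫ y = gg ≫ aΨ.orbitMap o := by
      apply Over.OverMorphism.ext
      simp [t, gg, hs, Limits.pullback.condition]
    have e2 : t ≫ σ ≫ fst G X = gg * (toUnit T ≫ h) * gg⁻¹ := by
      rw [← hy, reassoc_of% e1, ← horb, Category.assoc]
    have e3 : lift (toUnit T ≫ h) (lift gg⁻¹ (t ≫ σ ≫ snd G X) ≫ a.act) ≫ a.act =
        lift gg⁻¹ (t ≫ σ ≫ snd G X) ≫ a.act := by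
      have := congrArg (fun k => lift gg⁻¹ (t ≫ k) ≫ a.act) hfixσ
      simp only [comp_lift_assoc] at this
      rw [e2, ← AlgGrp.Action.lift_mul_act] at this
      rw [← AlgGrp.Action.lift_mul_act]
      refine Eq.trans ?_ this
      congr 2
      group
    obtain ⟨xh, hxh⟩ := (hXh T _).2 e3
    have e4 : lift gg xh ≫ Φ = t := by
      rw [← cancel_mono σ, Category.assoc, hΦ', hxh, ← AlgGrp.Action.lift_mul_act, mul_inv_cancel,
        AlgGrp.Action.lift_one_act, ← e2, eta (t ≫ σ)]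
      simp
    exact ⟨(lift gg xh).left, by simpa [t] using congrArg (·.left) e4⟩

end Groth.Agent.S19098
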