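import Groth.Statements.S19099
import Groth.Agent.Lib.AlgSpMor.Sep

set_option autoImplicit false
set_option linter.style.haveILetI false
universe u
open CategoryTheory MonoidalCategory CartesianMonoidalCategory MonObj AlgebraicGeometry
open ChGrp

namespace Groth.Agent.S19099

open CategoryTheory.Limits

theorem isPullback_whiskerLeft {S : Scheme.{u}} (Q : Over S) {A B : Over S} (f : A ⟶ B) :
    IsPullback (Q ◁ f) (snd Q A) (snd Q B) f :=
  ⟨⟨whiskerLeft_snd Q f⟩, ⟨PullbackCone.IsLimit.mk (whiskerLeft_snd Q f) (fun c => lift (c.fst ≫ fst Q B) c.snd)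
    (fun c => by
      apply CartesianMonoidalCategory.hom_ext
      · simp
      · simp [← c.condition])
    (fun c => by simp)
    fun c w h1 h2 => by
      apply CartesianMonoidalCategory.hom_ext
      · simp [← h1]
      · simp [← h2]⟩⟩

theorem ext_cover {S : Scheme.{u}} {A Y : Over S} (j : A ⟶ Y)
    (hj : NonAbH1.IsLocallyTrivialFor Scheme.fppfPrecoverage (Over.mk j.left : Over Y.left))
    {T W : Over S} (y : T ⟶ Y) (v w : T ⟶ W)
    (H : ∀ (T' : Over S) (t : T' ⟶ T) (z : T' ⟶ A), t ≫ y = z ≫ j → t ≫ v = t ≫ w) : v = w := by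
  obtain ⟨R, hR, hsec⟩ := hj
  have hS : (Sieve.generate R).pullback y.left ∈ Scheme.fppfTopology T.left :=
    GrothendieckTopology.pullback_stable _ y.left (Precoverage.generate_mem_toGrothendieck hR)
  apply Over.OverMorphism.ext
  refine ((GrothendieckTopology.Subcanonical.isSheaf_of_isRepresentable (J := Scheme.fppfTopology)
    (yoneda.obj W.left)) _ hS).isSeparatedFor.ext fun U f hf => ?_
  obtain ⟨V, g', g, hg, e⟩ := hf
  obtain ⟨s, hs⟩ := hsec g hg
  have hs' : (g' ≫ s) ≫ j.left = f ≫ y.left := by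
    simp only [Over.mk_hom] at hs
    simp [hs, e]
  have := H (Over.mk (f ≫ T.hom)) (Over.homMk f rfl)
    (Over.homMk (g' ≫ s) (by rw [← Over.w j, ← Category.assoc, hs', Category.assoc, Over.w y]; rfl))
    (Over.OverMorphism.ext hs'.symm)
  exact congrArg (·.left) this

theorem exists_lift_cover {S : Scheme.{u}} {A Y Y' : Over S} (j : A ⟶ Y)
    (hj : NonAbH1.IsLocallyTrivialFor Scheme.fppfPrecoverage (Over.mk j.left : Over Y.left))
    (m : Y' ⟶ Y) [Mono m] {T : Over S} (y : T ⟶ Y)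
    (H : ∀ (T' : Over S) (t : T' ⟶ T) (z : T' ⟶ A), t ≫ y = z ≫ j → ∃ b : T' ⟶ Y', b ≫ m = t ≫ y) :
    ∃ y' : T ⟶ Y', y' ≫ m = y := by
  obtain ⟨R, hR, hsec⟩ := hj
  have hS : (Sieve.generate R).pullback y.left ∈ Scheme.fppfTopology T.left :=
    GrothendieckTopology.pullback_stable _ y.left (Precoverage.generate_mem_toGrothendieck hR)
  have hb : ∀ ⦃U : Scheme.{u}⦄ (f : U ⟶ T.left), ((Sieve.generate R).pullback y.left).arrows f →
      ∃ b : Over.mk (f ≫ T.hom) ⟶ Y', b ≫ m = Over.homMk f rfl ≫ y := by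
    intro U f hf
    obtain ⟨V, g', g, hg, e⟩ := hf
    obtain ⟨s, hs⟩ := hsec g hg
    have hs' : (g' ≫ s) ≫ j.left = f ≫ y.left := by
      simp only [Over.mk_hom] at hs
      simp [hs, e]
    let z : Over.mk (f ≫ T.hom) ⟶ A :=
      Over.homMk (g' ≫ s) (by rw [← Over.w j, ← Category.assoc, hs', Category.assoc, Over.w y]; rfl)
    exact H _ (Over.homMk f rfl : Over.mk (f ≫ T.hom) ⟶ T) z (Over.OverMorphism.ext hs'.symm)
  let x : Presieve.FamilyOfElements (yoneda.obj Y'.left) ((Sieve.generate R).pullback y.left).arrows :=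
    fun U f hf => (hb f hf).choose.left
  have hx : x.Compatible := by
    intro U₁ U₂ Z g₁ g₂ f₁ f₂ h₁ h₂ e
    let b₁ : Over.mk (g₁ ≫ f₁ ≫ T.hom) ⟶ Y' :=
      (Over.homMk g₁ rfl : Over.mk (g₁ ≫ f₁ ≫ T.hom) ⟶ Over.mk (f₁ ≫ T.hom)) ≫ (hb f₁ h₁).choose
    let b₂ : Over.mk (g₁ ≫ f₁ ≫ T.hom) ⟶ Y' :=
      (Over.homMk g₂ (by simp only [Over.mk_hom]; rw [← reassoc_of% e]) :
        Over.mk (g₁ ≫ f₁ ≫ T.hom) ⟶ Over.mk (f₂ ≫ T.hom)) ≫ (hb f₂ h₂).choose
    have : b₁ = b₂ := by
      rw [← cancel_mono m, Category.assoc, Category.assoc, (hb f₁ h₁).choose_spec, (hb f₂ h₂).choose_spec]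
      apply Over.OverMorphism.ext
      simp [reassoc_of% e]
    exact congrArg (·.left) this
  have hsheaf := (GrothendieckTopology.Subcanonical.isSheaf_of_isRepresentable (J := Scheme.fppfTopology)
    (yoneda.obj Y'.left)) _ hS
  obtain ⟨l, hl, -⟩ := hsheaf x hx
  have hlm : l ≫ m.left = y.left := by
    refine ((GrothendieckTopology.Subcanonical.isSheaf_of_isRepresentable (J := Scheme.fppfTopology)
      (yoneda.obj Y.left)) _ hS).isSeparatedFor.ext fun U f hf => ?_
    have := congrArg (·.left) (hb f hf).choose_spec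
    have h2 : f ≫ l = (hb f hf).choose.left := hl f hf
    simp only [yoneda_obj_map, TypeCat.ofHom_apply, Quiver.Hom.unop_op]
    rw [← Category.assoc, h2]
    exact this
  exact ⟨Over.homMk l (by rw [← Over.w m, reassoc_of% hlm, Over.w y]), Over.OverMorphism.ext hlm⟩

/-- Let S be a scheme, i : G → Q a monomorphic homomorphism of S-group schemes (a closed subgroup), h an
S-point of G whose image in Q is central, and X an S-scheme with a G-action a. Let incl : X^h → X be
a monomorphism whose points are the points of X fixed by h, with a G-action making incl equivariant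
(X^h is G-stable since h is central in G). Let Y with its Q-action and j : Q ×_S X → Y be the
balanced product Q ×^G X for the fppf topology, Y' with j' : Q ×_S X^h → Y' the balanced product Q
×^G X^h, and m : Y' → Y the morphism under which j' followed by m is Q × incl followed by j. Then m
is a monomorphism, a point of Y factors through m exactly when it is fixed by h acting on Y through
the Q-action, and m is a closed immersion if incl is one: Q ×^G X^h is the fixed locus of h in Q ×^G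
X. (The source states this for a smooth algebraic space X of finite type over the complex numbers,
as an equality of closed subspaces, and argues on closed points; the form here is the one its
computation gives for the fppf quotients over any base, with X a scheme.) -/
theorem result
    {S : Scheme.{u}} {Q G X Xh Y Y' : Over S} [GrpObj Q] [GrpObj G]
    (i : G ⟶ Q) [IsMonHom i] [Mono i]
    (h : 𝟙_ (Over S) ⟶ G)
    (hcent : ∀ (T : Over S) (q : T ⟶ Q), q * (toUnit T ≫ h ≫ i) = (toUnit T ≫ h ≫ i) * q)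
    (a : AlgGrp.Action G X)
    (incl : Xh ⟶ X) [Mono incl]
    (hXh : ∀ (T : Over S) (x : T ⟶ X), (∃ y : T ⟶ Xh, y ≫ incl = x) ↔ lift (toUnit T ≫ h) x ≫ a.act = x)
    (aXh : AlgGrp.Action G Xh) (hincl : AlgGrp.Action.IsEquivariant aXh a incl)
    (aY : AlgGrp.Action Q Y) (j : Q ⊗ X ⟶ Y) (hY : ChGrp.IsBalProd Scheme.fppfPrecoverage i a aY j)
    (aY' : AlgGrp.Action Q Y') (j' : Q ⊗ Xh ⟶ Y') (hY' : ChGrp.IsBalProd Scheme.fppfPrecoverage i aXh aY' j')
    (m : Y' ⟶ Y) (hm : j' ≫ m = (Q ◁ incl) ≫ j) :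
    Mono m ∧
      (∀ (T : Over S) (y : T ⟶ Y), (∃ y' : T ⟶ Y', y' ≫ m = y) ↔ lift (toUnit T ≫ h ≫ i) y ≫ aY.act = y) ∧
      (IsClosedImmersion incl.left → IsClosedImmersion m.left) := by
  haveI : IsClosedImmersion incl.left → MorphismProperty.IsLocalAtTarget @IsClosedImmersion.{u}
      Scheme.fppfPrecoverage := fun _ => Lib.AlgSpMor.Sep.isLocalAtTarget_fppf_isClosedImmersion
  -- points
  have hje : ∀ {T : Over S} (q' q : T ⟶ Q) (x : T ⟶ X),
      lift q' (lift q x ≫ j) ≫ aY.act = lift (q' * q) x ≫ j := by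
    intro T q' q x
    have e := congrArg (fun k => lift q' (lift q x) ≫ k) hY.1
    simp only [AlgGrp.Action.lift_prod_act_assoc, AlgGrp.Action.lift_trivial_act,
      lift_whiskerLeft_assoc] at e
    rw [← e, Hom.mul_def]
    rfl
  have pair : ∀ {T : Over S} (q q' : T ⟶ Q) (x x' : T ⟶ X), lift q x ≫ j = lift q' x' ≫ j →
      ∃ h0 : T ⟶ G, q = q' * (h0 ≫ i)⁻¹ ∧ x = lift h0 x' ≫ a.act := by
    intro T q q' x x' e
    let l := hY.2.1.lift (lift q x) (lift q' x') e
    have e1 := hY.2.1.lift_fst (lift q x) (lift q' x') e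
    have e2 := hY.2.1.lift_snd (lift q x) (lift q' x') e
    have el : l = lift (l ≫ fst _ _) (lift q' x') := by
      apply CartesianMonoidalCategory.hom_ext
      · simp
      · simp only [lift_snd]; exact e2
    refine ⟨l ≫ fst _ _, ?_⟩
    change l ≫ _ = _ at e1
    rw [el, ChGrp.lift_twist_act] at e1
    exact ⟨by simpa using (congrArg (· ≫ fst Q X) e1).symm, by simpa using (congrArg (· ≫ snd Q X) e1).symm⟩
  have inv : ∀ {T : Over S} (q : T ⟶ Q) (x : T ⟶ X) (h0 : T ⟶ G),
      lift (q * (h0 ≫ i)⁻¹) (lift h0 x ≫ a.act) ≫ j = lift q x ≫ j := by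
    intro T q x h0
    have e := congrArg (fun k => lift h0 (lift q x) ≫ k) hY.2.1.w
    simpa [ChGrp.lift_twist_act_assoc] using e
  have inv' : ∀ {T : Over S} (q : T ⟶ Q) (x : T ⟶ Xh) (h0 : T ⟶ G),
      lift (q * (h0 ≫ i)⁻¹) (lift h0 x ≫ aXh.act) ≫ j' = lift q x ≫ j' := by
    intro T q x h0
    have e := congrArg (fun k => lift h0 (lift q x) ≫ k) hY'.2.1.w
    simpa [ChGrp.lift_twist_act_assoc] using e
  have hinc : ∀ {T : Over S} (g : T ⟶ G) (x : T ⟶ Xh),
      (lift g x ≫ aXh.act) ≫ incl = lift g (x ≫ incl) ≫ a.act := by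
    intro T g x
    rw [Category.assoc, hincl, lift_whiskerLeft_assoc]
  have hjm : ∀ {T : Over S} (q : T ⟶ Q) (x : T ⟶ Xh),
      lift q x ≫ j' ≫ m = lift q (x ≫ incl) ≫ j := by
    intro T q x
    rw [hm, lift_whiskerLeft_assoc]
  have eta : ∀ {T A B : Over S} (z : T ⟶ A ⊗ B), z = lift (z ≫ fst A B) (z ≫ snd A B) := by
    intro T A B z
    simp [← comp_lift]
  -- local lifting
  have extY : ∀ {T W : Over S} (y : T ⟶ Y) (v w : T ⟶ W),
      (∀ (T' : Over S) (t : T' ⟶ T) (z : T' ⟶ Q ⊗ X), t ≫ y = z ≫ j → t ≫ v = t ≫ w) → v = w :=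
    fun y v w H => ext_cover j hY.2.2 y v w H
  have extY' : ∀ {T W : Over S} (y : T ⟶ Y') (v w : T ⟶ W),
      (∀ (T' : Over S) (t : T' ⟶ T) (z : T' ⟶ Q ⊗ Xh), t ≫ y = z ≫ j' → t ≫ v = t ≫ w) → v = w :=
    fun y v w H => ext_cover j' hY'.2.2 y v w H
  -- key: a point of Q × X over a point of Y' lies in Q × Xh
  have key : ∀ {T : Over S} (b : T ⟶ Y') (z : T ⟶ Q ⊗ X), b ≫ m = z ≫ j →
      ∃ w : T ⟶ Q ⊗ Xh, w ≫ j' = b ∧ w ≫ (Q ◁ incl) = z := by
    intro T b z e
    have loc : ∀ (T' : Over S) (t : T' ⟶ T) (z' : T' ⟶ Q ⊗ Xh), t ≫ b = z' ≫ j' →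
        ∃ h0 : T' ⟶ G, t ≫ z ≫ fst Q X = (z' ≫ fst Q Xh) * (h0 ≫ i)⁻¹ ∧
          t ≫ z ≫ snd Q X = (lift h0 (z' ≫ snd Q Xh) ≫ aXh.act) ≫ incl := by
      intro T' t z' e'
      have e2 : lift (t ≫ z ≫ fst Q X) (t ≫ z ≫ snd Q X) ≫ j =
          lift (z' ≫ fst Q Xh) ((z' ≫ snd Q Xh) ≫ incl) ≫ j := by
        rw [← hjm, ← Category.assoc t z, ← Category.assoc t z, ← eta, ← eta, Category.assoc, ← e,
          reassoc_of% e']
      obtain ⟨h0, q0, x0⟩ := pair _ _ _ _ e2
      exact ⟨h0, q0, by rw [hinc]; exact x0⟩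
    obtain ⟨xh, hxh⟩ := (hXh T (z ≫ snd Q X)).2 (by
      refine extY' b _ _ fun T' t z' e' => ?_
      obtain ⟨h0, -, x0⟩ := loc T' t z' e'
      have := (hXh T' (t ≫ z ≫ snd Q X)).1 ⟨_, x0.symm⟩
      rw [comp_lift_assoc, ← Category.assoc t (toUnit T), toUnit_unique (t ≫ toUnit T) (toUnit T')]
      exact this)
    refine ⟨lift (z ≫ fst Q X) xh, extY' b _ _ fun T' t z' e' => ?_, ?_⟩
    · obtain ⟨h0, q0, x0⟩ := loc T' t z' e'
      have hx : t ≫ xh = lift h0 (z' ≫ snd Q Xh) ≫ aXh.act := by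
        rw [← cancel_mono incl, Category.assoc, hxh, x0]
      rw [comp_lift_assoc, q0, hx, inv', ← eta, e']
    · rw [lift_whiskerLeft, hxh, ← eta]
  haveI hmono : Mono m := ⟨fun {T} b b' e => by
    refine extY' b b b' fun T' t z' e' => ?_
    obtain ⟨w, hw1, hw2⟩ := key (t ≫ b') (z' ≫ (Q ◁ incl)) (by
      rw [Category.assoc, ← e, reassoc_of% e', Category.assoc, hm])
    have ew : w = z' := by
      rw [eta w, eta z']
      have f1 := congrArg (· ≫ fst Q X) hw2
      have f2 := congrArg (· ≫ snd Q X) hw2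
      simp only [Category.assoc, whiskerLeft_fst, whiskerLeft_snd] at f1 f2
      rw [f1, (cancel_mono incl).1 (show (w ≫ snd Q Xh) ≫ incl = (z' ≫ snd Q Xh) ≫ incl by simpa using f2)]
    rw [e', ← ew, hw1]⟩
  have hfix : ∀ {T : Over S} (q : T ⟶ Q) (x : T ⟶ X),
      lift (toUnit T ≫ h) x ≫ a.act = x →
        lift (toUnit T ≫ h ≫ i) (lift q x ≫ j) ≫ aY.act = lift q x ≫ j := by
    intro T q x hx
    rw [hje, ← hcent T q, ← Category.assoc (toUnit T) h i]
    have hx' : lift (toUnit T ≫ h)⁻¹ x ≫ a.act = x := by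
      have := AlgGrp.Action.lift_mul_act a (toUnit T ≫ h)⁻¹ (toUnit T ≫ h) x
      rw [inv_mul_cancel, AlgGrp.Action.lift_one_act, hx] at this
      exact this.symm
    have := inv q x (toUnit T ≫ h)⁻¹
    rw [GrpObj.inv_comp, inv_inv, hx'] at this
    exact this
  have hfact : ∀ (T : Over S) (y : T ⟶ Y),
      (∃ y' : T ⟶ Y', y' ≫ m = y) ↔ lift (toUnit T ≫ h ≫ i) y ≫ aY.act = y := by
    intro T y
    constructor
    · rintro ⟨b, rfl⟩
      refine extY' b _ _ fun T' t z' e' => ?_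
      rw [comp_lift_assoc, ← Category.assoc t (toUnit T), toUnit_unique (t ≫ toUnit T) (toUnit T'),
        reassoc_of% e', eta z', hjm]
      exact hfix _ _ ((hXh _ _).1 ⟨_, rfl⟩)
    · intro hy
      refine exists_lift_cover j hY.2.2 m y fun T' t z e' => ?_
      have hy' : lift (toUnit T' ≫ h ≫ i) (t ≫ y) ≫ aY.act = t ≫ y := by
        conv_rhs => rw [← hy]
        rw [comp_lift_assoc, ← Category.assoc t (toUnit T), toUnit_unique (t ≫ toUnit T) (toUnit T')]
      rw [e', eta z, hje, ← hcent] at hy'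
      obtain ⟨h0, q0, x0⟩ := pair _ _ _ _ hy'
      have e0 : h0 = (toUnit T' ≫ h)⁻¹ := by
        rw [← cancel_mono i, GrpObj.inv_comp, Category.assoc]
        exact (inv_eq_iff_eq_inv).1 (mul_left_cancel q0).symm
      have hx : lift (toUnit T' ≫ h) (z ≫ snd Q X) ≫ a.act = z ≫ snd Q X := by
        conv_lhs => rw [x0, ← AlgGrp.Action.lift_mul_act, e0, mul_inv_cancel, AlgGrp.Action.lift_one_act]
      obtain ⟨xh, hxh⟩ := (hXh _ _).2 hx
      exact ⟨lift (z ≫ fst Q X) xh ≫ j', by rw [Category.assoc, hjm, hxh, ← eta, e']⟩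
  refine ⟨hmono, hfact, fun hci => ?_⟩
  haveI := this hci
  obtain ⟨R, hR, hsec⟩ := hY.2.2
  refine MorphismProperty.IsLocalAtTarget.of_forall_pullbackSnd (P := @IsClosedImmersion) hR
    fun {U g} _ hg => ?_
  obtain ⟨s, hs⟩ := hsec g hg
  have sq : IsPullback j' (Q ◁ incl) m j := by
    refine ⟨⟨hm⟩, ⟨PullbackCone.IsLimit.mk hm (fun c => (key c.fst c.snd c.condition).choose)
      (fun c => (key c.fst c.snd c.condition).choose_spec.1)
      (fun c => (key c.fst c.snd c.condition).choose_spec.2) fun c w h1 h2 => ?_⟩⟩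
    have e1 := h2.trans (key c.fst c.snd c.condition).choose_spec.2.symm
    have f1 := congrArg (· ≫ fst Q X) e1
    have f2 := congrArg (· ≫ snd Q X) e1
    simp only [Category.assoc, whiskerLeft_fst, whiskerLeft_snd] at f1 f2
    rw [eta w, f1, (cancel_mono incl).1 (show (w ≫ snd Q Xh) ≫ incl = (_ ≫ snd Q Xh) ≫ incl by simpa using f2), ← eta]
  have hl := sq.map (Over.forget S)
  have h1 : IsClosedImmersion (Q ◁ incl).left := by
    have hp : IsPullback (Q ◁ incl) (snd Q Xh) (snd Q X) incl :=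
      isPullback_whiskerLeft Q incl
    exact MorphismProperty.of_isPullback (P := @IsClosedImmersion) (hp.map (Over.forget S)).flip hci
  have h3 : IsClosedImmersion (pullback.snd (Q ◁ incl).left s) :=
    MorphismProperty.pullback_snd (P := @IsClosedImmersion) _ _ h1
  have h2 := ((IsPullback.of_hasPullback (Q ◁ incl).left s).flip).paste_vert hl.flip
  have h4 : IsPullback (pullback.fst (Q ◁ incl).left s ≫ j'.left) (pullback.snd (Q ◁ incl).left s)
      m.left g := by
    convert h2.flip using 1 <;> first | rfl | exact hs.symm | exact heq_of_eq hs.symm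
  exact (MorphismProperty.arrow_mk_iso_iff (P := @IsClosedImmersion)
    (Arrow.isoMk h4.isoPullback (Iso.refl _) (by simp))).1 h3

end Groth.Agent.S19099
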