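import Groth.Statements.S19101
import Groth.Agent.S9371
import Groth.Agent.S9372
import Groth.Agent.Lib.GrpSch.GenericIso


set_option autoImplicit false
open CategoryTheory MonoidalCategory CartesianMonoidalCategory MonObj AlgebraicGeometry Limits
open Omega
set_option linter.style.haveILetI false

namespace Groth.Agent.S19101

theorem unit_comp_fst {S S' : Scheme.{0}} (f : S' ⟶ S) (G : Over S) [GrpObj G] :
    ∃ r : (𝟙_ (Over S')).left ⟶ (𝟙_ (Over S)).left,
      (η[Red.bc f G]).left ≫ pullback.fst G.hom f = r ≫ (η[G]).left := by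
  refine ⟨(Functor.LaxMonoidal.ε (Over.pullback f)).left ≫ pullback.fst _ _, ?_⟩
  have h : η[Red.bc f G] = Functor.LaxMonoidal.ε (Over.pullback f) ≫ (Over.pullback f).map η[G] := rfl
  rw [h]
  simp
  erw [pullback.lift_fst]
  rw [← Category.assoc, ← pullback.condition]
  simp

theorem isPullback_unit {S Y : Scheme.{0}} (G : Over S) [GrpObj G] (f : Y ⟶ S) (X : Over Y) :
    IsPullback ((fst (Red.bc f G) X).left ≫ pullback.fst G.hom f) (snd (Red.bc f G) X).left
        G.hom (X.hom ≫ f) ∧
      IsPullback (lift (toUnit X ≫ η[Red.bc f G]) (𝟙 X)).left (toUnit (Over.mk (X.hom ≫ f))).left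
        ((fst (Red.bc f G) X).left ≫ pullback.fst G.hom f) (η[G]).left := by
  have h1 : IsPullback (fst (Red.bc f G) X).left (snd (Red.bc f G) X).left
      (pullback.snd G.hom f) X.hom := IsPullback.of_hasPullback _ _
  have h2 : IsPullback ((fst (Red.bc f G) X).left ≫ pullback.fst G.hom f) (snd (Red.bc f G) X).left
      G.hom (X.hom ≫ f) := h1.paste_horiz (IsPullback.of_hasPullback G.hom f)
  refine ⟨h2, ?_⟩
  have he : (lift (toUnit X ≫ η[Red.bc f G]) (𝟙 X)).left ≫ (snd (Red.bc f G) X).left = 𝟙 _ := by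
    rw [← Over.comp_left, lift_snd]; rfl
  have hη : (η[G]).left ≫ G.hom = 𝟙 _ := Over.w η[G]
  obtain ⟨r, hr⟩ := unit_comp_fst f G
  set e0 := (lift (toUnit X ≫ η[Red.bc f G]) (𝟙 X)).left
  set q := (fst (Red.bc f G) X).left ≫ pullback.fst G.hom f
  have hq : e0 ≫ q = ((toUnit X).left ≫ r) ≫ (η[G]).left := by
    show e0 ≫ (fst (Red.bc f G) X).left ≫ pullback.fst G.hom f = _
    rw [← Category.assoc, ← Over.comp_left, lift_fst, Over.comp_left, Category.assoc, hr,
      ← Category.assoc]
  have hgZ : (toUnit (Over.mk (X.hom ≫ f))).left = X.hom ≫ f := by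
    simpa using Over.w (toUnit (Over.mk (X.hom ≫ f)))
  have hr' : (toUnit X).left ≫ r = X.hom ≫ f := by
    have := congrArg (· ≫ G.hom) hq
    simp only [Category.assoc, hη, Category.comp_id] at this
    rw [← this, h2.w, ← Category.assoc, he, Category.id_comp]
  rw [hr'] at hq
  rw [hgZ]
  have outer : IsPullback (e0 ≫ (snd (Red.bc f G) X).left) (X.hom ≫ f) (X.hom ≫ f)
      ((η[G]).left ≫ G.hom) := by
    rw [he, hη]
    haveI : IsIso (𝟙 X.left) := inferInstance
    exact @IsPullback.of_horiz_isIso _ _ _ _ _ _ (𝟙 X.left) _ _ _ (IsIso.id _) (IsIso.id _) ⟨(Category.id_comp _).trans (Category.comp_id (Y := 𝟙_ (Over S) |>.left) (X.hom ≫ f)).symm⟩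
  exact IsPullback.of_right outer hq h2.flip

theorem exists_iso_of_cartesian
    {G Y : Over (Spec (CommRingCat.of ℂ))} [GrpObj G] [IsAffine G.left]
    {X : Over Y.left} [Flat (X.hom ≫ Y.hom)] (a : AlgGrp.Action (Red.bc Y.hom G) X)
    (hX : NonAbH1.IsTorsorFor Scheme.fppfPrecoverage a)
    (g : pullback X.hom X.hom ⟶ G.left)
    (hg : (lift a.act (snd (Red.bc Y.hom G) X)).left ≫ g =
      (fst (Red.bc Y.hom G) X).left ≫ pullback.fst G.hom Y.hom) :
    ∃ φ : (Scheme.Modules.pullback (toUnit (Over.mk (X.hom ≫ Y.hom) : Over (Spec (CommRingCat.of ℂ)))).left).obj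
        (Omega.conormal (η[G]).left) ⟶ Omega.conormal (pullback.diagonal X.hom),
      OmegaSh.IsConormalMap (pullback.diagonal X.hom) (η[G]).left g
        (toUnit (Over.mk (X.hom ≫ Y.hom) : Over (Spec (CommRingCat.of ℂ)))).left φ ∧ IsIso φ := by
  haveI : IsIso (lift a.act (snd (Red.bc Y.hom G) X)) := hX.1
  obtain ⟨h2, h3⟩ := isPullback_unit G Y.hom X
  let Φ : ((Red.bc Y.hom G) ⊗ X).left ≅ pullback X.hom X.hom :=
    (Over.forget _).mapIso (asIso (lift a.act (snd (Red.bc Y.hom G) X)))
  have hΦ : Φ.hom = (lift a.act (snd (Red.bc Y.hom G) X)).left := rfl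
  have hdiag : (lift (toUnit X ≫ η[Red.bc Y.hom G]) (𝟙 X)).left ≫ Φ.hom = pullback.diagonal X.hom := by
    have h : lift (toUnit X ≫ η[Red.bc Y.hom G]) (𝟙 X) ≫ lift a.act (snd (Red.bc Y.hom G) X) =
        lift (𝟙 X) (𝟙 X) := by
      rw [comp_lift, lift_snd]
      congr 1
      have h1 : lift (toUnit X ≫ η[Red.bc Y.hom G]) (𝟙 X) =
          (λ_ X).inv ≫ (η[Red.bc Y.hom G] ▷ X) := by
        ext <;> simp
      rw [h1, Category.assoc, a.one_act, Iso.inv_hom_id]
    rw [hΦ]
    exact (congrArg CommaMorphism.left h).trans (by rfl)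
  have hsq : IsPullback (pullback.diagonal X.hom)
      (toUnit (Over.mk (X.hom ≫ Y.hom) : Over (Spec (CommRingCat.of ℂ)))).left g (η[G]).left :=
    h3.of_iso (Iso.refl _) Φ (Iso.refl _) (Iso.refl _) (by rw [Iso.refl_hom, Category.id_comp]; exact hdiag) (by simp)
      (by simp only [Iso.refl_hom, Category.comp_id, hΦ]; exact hg.symm) (by simp)
  haveI : IsClosedImmersion (η[G]).left :=
    isClosedImmersion_of_comp_eq_id (Y := Spec (.of ℂ)) G.hom (η[G]).left (by simp)
  haveI : IsClosedImmersion (pullback.diagonal X.hom) :=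
    MorphismProperty.of_isPullback hsq.flip inferInstance
  haveI : Flat ((fst (Red.bc Y.hom G) X).left ≫ pullback.fst G.hom Y.hom) :=
    MorphismProperty.of_isPullback h2.flip inferInstance
  haveI : Flat g := by
    have : g = Φ.inv ≫ ((fst (Red.bc Y.hom G) X).left ≫ pullback.fst G.hom Y.hom) := by
      rw [← hg, ← hΦ, Iso.inv_hom_id_assoc]
    rw [this]; infer_instance
  obtain ⟨φ, hφ, -⟩ := Groth.Agent.S9371.result (pullback.diagonal X.hom) (η[G]).left g _ hsq.w.symm
  exact ⟨φ, hφ, (Groth.Agent.S9372.result _ _ g _ hsq φ hφ).2 inferInstance⟩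

/-- Over S = Spec ℂ let G be an affine group scheme of finite type, Y a scheme over ℂ, and X a scheme
over Y carrying an action, over Y, of the base change G_Y of G to Y which makes X an fppf torsor
under G over Y. Let g : X ×_Y X → G be the morphism determined by g(h x, x) = h, i.e. the composite
of the inverse of the isomorphism G_Y ×_Y X → X ×_Y X, (h, x) ↦ (h x, x), with the projection to G;
the diagonal X → X ×_Y X and the unit section Spec ℂ → G then form a commutative (indeed cartesian)
square with g and X → Spec ℂ. Then there is a map of conormal sheaves for this square, from the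
pullback to X of the conormal sheaf m_e/m_e² of the unit section (the trivial bundle with fibre the
dual of the Lie algebra 𝔤) to the conormal sheaf of the diagonal, which is the sheaf of relative
differentials Ω_{X/Y}, characterised by sending the class of a local equation of the unit section to
the class of its pullback under g, and this map is an isomorphism: Ω_{X/Y} ≅ O_X ⊗ 𝔤^∨ canonically.
(The source states the dual form T_f = X × 𝔤 for algebraic spaces and moreover as G-equivariant
bundles for the adjoint action; the equivariance is not expressed here, and X, Y are schemes.) -/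
theorem result
    {G Y : Over (Spec (CommRingCat.of ℂ))} [GrpObj G] [IsAffine G.left] [LocallyOfFiniteType G.hom]
    {X : Over Y.left} (a : AlgGrp.Action (Red.bc Y.hom G) X)
    (hX : NonAbH1.IsTorsorFor Scheme.fppfPrecoverage a)
    (g : pullback X.hom X.hom ⟶ G.left)
    (hg : (lift a.act (snd (Red.bc Y.hom G) X)).left ≫ g =
      (fst (Red.bc Y.hom G) X).left ≫ pullback.fst G.hom Y.hom) :
    ∃ φ : (Scheme.Modules.pullback (toUnit (Over.mk (X.hom ≫ Y.hom) : Over (Spec (CommRingCat.of ℂ)))).left).obj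
        (Omega.conormal (η[G]).left) ⟶ Omega.conormal (pullback.diagonal X.hom),
      OmegaSh.IsConormalMap (pullback.diagonal X.hom) (η[G]).left g
        (toUnit (Over.mk (X.hom ≫ Y.hom) : Over (Spec (CommRingCat.of ℂ)))).left φ ∧ IsIso φ := by
  haveI : Flat (X.hom ≫ Y.hom) := Groth.Agent.Lib.GrpSch.flat_of_isField (Field.toIsField ℂ) (X.hom ≫ Y.hom)
  exact exists_iso_of_cartesian a hX g hg

end Groth.Agent.S19101
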