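import Groth.Statements.S19104
import Groth.Agent.Lib.RelDiv.Diff

set_option autoImplicit false
open CategoryTheory CategoryTheory.Limits AlgebraicGeometry
universe u
open HilbD

namespace Groth.Agent.S19104

/-- Let f : X ⟶ S be smooth of relative dimension 1, μ a non-empty Young diagram and n a reversed plane
partition of shape μ (a labelling of the cells by naturals, non-decreasing along rows and columns).
Call relative divisor of degree d a closed subscheme of X, given by a quasi-coherent ideal sheaf,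
whose projection to S is finite locally free of degree d; sums of divisors are products of ideal
sheaves. Then every flag (Z_c)_{c ∈ μ} of relative divisors of degrees n_c which grows along rows
and columns has exactly one system of edge data of type n — the corner divisor Z_00, for each cell
(i,j) with i ≥ 1 a divisor X_ij of degree n_ij − n_{i−1,j} with Z_ij = Z_{i−1,j} + X_ij, and for
each cell with j ≥ 1 a divisor Y_ij of degree n_ij − n_{i,j−1} with Z_ij = Z_{i,j−1} + Y_ij — and
this edge data satisfies X_ij + Y_{i−1,j} = Y_ij + X_{i,j−1} for every cell with i, j ≥ 1. (The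
published statement is for X = C × T ⟶ T with C a smooth irreducible quasi-projective complex curve
and T a complex scheme, and identifies, through T-points, the scheme of such flags with the zero
scheme of a section of a vector bundle on the product of symmetric powers that carries the edge
data; the vanishing of the pulled-back section at a T-point amounts to the containment of Y_ij +
X_{i,j−1} in X_ij + Y_{i−1,j}, which for divisors of equal degree is the equality stated last. Here
f is any smooth morphism of relative dimension 1, and neither the bundle nor its section is formed.) -/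
theorem result {X S : Scheme.{u}} (f : X ⟶ S) [SmoothOfRelativeDimension 1 f]
    (μ : YoungDiagram) (h00 : ((0, 0) : ℕ × ℕ) ∈ μ) (n : ℕ × ℕ → ℕ) (hn : HilbD.IsRevPlanePartition μ n)
    (Z : ∀ c : ℕ × ℕ, c ∈ μ → X.IdealSheafData) (hZ : HilbD.IsDnFlag f μ n Z) :
    (∃! E : HilbD.DnEdgeData μ X, E.IsOfType f n ∧ E.IsEdgesOf h00 Z) ∧
      ∀ E : HilbD.DnEdgeData μ X, E.IsOfType f n → E.IsEdgesOf h00 Z →
        ∀ (c : ℕ × ℕ) (hc : c ∈ μ) (hi : 1 ≤ c.1) (hj : 1 ≤ c.2), E.gammaOne c hc hi hj = E.gammaTwo c hc hi hj := by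
  have hcart : ∀ (c : ℕ × ℕ) (hc : c ∈ μ), BlowUp.IsEffCartierIdeal (Z c hc) := fun c hc =>
    Groth.Agent.Lib.RelDiv.Cartier.isEffCartier_of_isFinLocFree f _ (hZ.1 c hc).1
  have hup : ∀ (c : ℕ × ℕ) (hc : c ∈ μ), Z c hc ≤ Z (c.1 - 1, c.2) (HilbD.mem_up hc) := fun c hc =>
    hZ.2 _ _ _ _ ⟨Nat.sub_le _ _, le_rfl⟩
  have hleft : ∀ (c : ℕ × ℕ) (hc : c ∈ μ), Z c hc ≤ Z (c.1, c.2 - 1) (HilbD.mem_left hc) :=
    fun c hc => hZ.2 _ _ _ _ ⟨le_rfl, Nat.sub_le _ _⟩
  choose V hV hV' using fun (c : ℕ × ℕ) (hc : c ∈ μ) =>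
    Groth.Agent.Lib.RelDiv.Diff.exists_difference f _ _ (hup c hc) _ _
      (hZ.1 _ (HilbD.mem_up hc)) (hZ.1 c hc)
  choose H hH hH' using fun (c : ℕ × ℕ) (hc : c ∈ μ) =>
    Groth.Agent.Lib.RelDiv.Diff.exists_difference f _ _ (hleft c hc) _ _
      (hZ.1 _ (HilbD.mem_left hc)) (hZ.1 c hc)
  refine ⟨⟨⟨Z (0, 0) h00, fun c hc _ => V c hc, fun c hc _ => H c hc⟩,
    ⟨⟨hZ.1 _ h00, fun c hc _ => hV c hc, fun c hc _ => hH c hc⟩,
      rfl, fun c hc _ => hV' c hc, fun c hc _ => hH' c hc⟩, ?_⟩, ?_⟩
  · rintro ⟨b, v, h⟩ ⟨-, hb, hv, hh⟩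
    obtain rfl : Z (0, 0) h00 = b := hb
    have hv' : v = fun c hc _ => V c hc := funext fun c => funext fun hc => funext fun hi =>
      Groth.Agent.Lib.RelDiv.Diff.mul_left_cancel (hcart _ (HilbD.mem_up hc))
        ((hv c hc hi).symm.trans (hV' c hc))
    have hh' : h = fun c hc _ => H c hc := funext fun c => funext fun hc => funext fun hj =>
      Groth.Agent.Lib.RelDiv.Diff.mul_left_cancel (hcart _ (HilbD.mem_left hc))
        ((hh c hc hj).symm.trans (hH' c hc))
    subst hv'; subst hh'; rfl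
  · intro E _ hE c hc hi hj
    apply Groth.Agent.Lib.RelDiv.Diff.mul_left_cancel
      (hcart _ (HilbD.mem_left (HilbD.mem_up hc)))
    have e1 := hE.2.1 c hc hi
    rw [hE.2.2 (c.1 - 1, c.2) (HilbD.mem_up hc) hj] at e1
    have e2 := hE.2.2 c hc hj
    rw [hE.2.1 (c.1, c.2 - 1) (HilbD.mem_left hc) hi] at e2
    simp only [HilbD.DnEdgeData.gammaOne, HilbD.DnEdgeData.gammaTwo]
    rw [mul_comm (E.vert c hc hi), mul_comm (E.horiz c hc hj), ← mul_assoc, ← mul_assoc, ← e1,
      ← e2]

end Groth.Agent.S19104
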