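import Groth.Statements.S19105
import Groth.Agent.Lib.RelDiv.Diff

set_option autoImplicit false
open CategoryTheory CategoryTheory.Limits AlgebraicGeometry
universe u
open HilbD

namespace Groth.Agent.S19105

/-- Let f : X ⟶ S be smooth of relative dimension 1, μ a non-empty Young diagram and n a reversed plane
partition of shape μ (a labelling of the cells by naturals, non-decreasing along rows and columns).
Call relative divisor of degree d a closed subscheme of X, given by a quasi-coherent ideal sheaf,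
whose projection to S is finite locally free of degree d; sums of divisors are products of ideal
sheaves. Let edge data of type n be given: a relative divisor Z_00 of degree n_00, for each cell
(i,j) with i ≥ 1 a relative divisor X_ij of degree n_ij − n_{i−1,j} and for each cell with j ≥ 1 a
relative divisor Y_ij of degree n_ij − n_{i,j−1}, such that for every cell with i, j ≥ 1 the divisor
Y_ij + X_{i,j−1} is contained in X_ij + Y_{i−1,j} (containment of ideal sheaves the other way). Then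
there is exactly one flag (Z_c)_{c ∈ μ} of relative divisors of degrees n_c, growing along rows and
columns, with corner Z_00 and with Z_ij = Z_{i−1,j} + X_ij and Z_ij = Z_{i,j−1} + Y_ij throughout.
(The published statement is for X = C × T ⟶ T with C a smooth irreducible quasi-projective complex
curve and T a complex scheme, and identifies, through T-points, the scheme of such flags with the
zero scheme of a section of a vector bundle on the product of symmetric powers that carries the edge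
data; the vanishing of the pulled-back section at a T-point amounts to the stated containment of
divisors. Here f is any smooth morphism of relative dimension 1, and neither the bundle nor its
section is formed.) -/
theorem result {X S : Scheme.{u}} (f : X ⟶ S) [SmoothOfRelativeDimension 1 f]
    (μ : YoungDiagram) (h00 : ((0, 0) : ℕ × ℕ) ∈ μ) (n : ℕ × ℕ → ℕ) (hn : HilbD.IsRevPlanePartition μ n)
    (E : HilbD.DnEdgeData μ X) (hE : E.IsOfType f n)
    (hcomm : ∀ (c : ℕ × ℕ) (hc : c ∈ μ) (hi : 1 ≤ c.1) (hj : 1 ≤ c.2), E.gammaOne c hc hi hj ≤ E.gammaTwo c hc hi hj) :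
    ∃! Z : ∀ c : ℕ × ℕ, c ∈ μ → X.IdealSheafData, HilbD.IsDnFlag f μ n Z ∧ E.IsEdgesOf h00 Z := by
  classical
  have heq : ∀ (c : ℕ × ℕ) (hc : c ∈ μ) (hi : 1 ≤ c.1) (hj : 1 ≤ c.2),
      E.gammaOne c hc hi hj = E.gammaTwo c hc hi hj := by
    intro c hc hi hj
    have d1 := Groth.Agent.Lib.RelDiv.Diff.mul_finLocFreeOfDeg f _ _ _ _
      (hE.2.1 c hc hi) (hE.2.2 (c.1 - 1, c.2) (HilbD.mem_up hc) hj)
    have d2 := Groth.Agent.Lib.RelDiv.Diff.mul_finLocFreeOfDeg f _ _ _ _
      (hE.2.2 c hc hj) (hE.2.1 (c.1, c.2 - 1) (HilbD.mem_left hc) hi)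
    have n1 : n (c.1 - 1, c.2 - 1) ≤ n (c.1 - 1, c.2) :=
      hn (HilbD.mem_left (HilbD.mem_up hc)) (HilbD.mem_up hc) ⟨le_rfl, Nat.sub_le _ _⟩
    have n2 : n (c.1 - 1, c.2 - 1) ≤ n (c.1, c.2 - 1) :=
      hn (HilbD.mem_left (HilbD.mem_up hc)) (HilbD.mem_left hc) ⟨Nat.sub_le _ _, le_rfl⟩
    have n3 : n (c.1 - 1, c.2) ≤ n c := hn (HilbD.mem_up hc) hc ⟨Nat.sub_le _ _, le_rfl⟩
    have n4 : n (c.1, c.2 - 1) ≤ n c := hn (HilbD.mem_left hc) hc ⟨le_rfl, Nat.sub_le _ _⟩
    obtain ⟨D, hD, he⟩ := Groth.Agent.Lib.RelDiv.Diff.exists_difference f _ _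
      (hcomm c hc hi hj) _ _ d2 d1
    have hDtop : D = ⊤ := by
      rw [← D.ker_subschemeι, Scheme.Hom.ker_eq_top_iff_isEmpty]
      refine ⟨fun z => ?_⟩
      haveI := hD.1.1
      haveI := hD.1.2.1
      have h1 := Scheme.Hom.one_le_finrank_map (D.subschemeι ≫ f) z
      rw [hD.2] at h1
      dsimp only at h1 n1 n2 n3 n4
      omega
    change E.gammaOne c hc hi hj = E.gammaTwo c hc hi hj * D at he
    rw [he, hDtop, Scheme.IdealSheafData.mul_top]
  have hdr : ∀ {i j : ℕ}, (i, j + 1) ∈ μ → (i, j) ∈ μ := fun {i j} h =>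
    μ.isLowerSet (show (i, j) ≤ (i, j + 1) from ⟨le_rfl, Nat.le_succ j⟩) h
  have hdd : ∀ {i j : ℕ}, (i + 1, j) ∈ μ → (i, j) ∈ μ := fun {i j} h =>
    μ.isLowerSet (show (i, j) ≤ (i + 1, j) from ⟨Nat.le_succ i, le_rfl⟩) h
  let Z0 : ∀ j, (0, j) ∈ μ → X.IdealSheafData := fun j => Nat.rec (motive := fun j => (0, j) ∈ μ →
    X.IdealSheafData) (fun _ => E.base)
    (fun k ih hc => ih (hdr hc) * E.horiz (0, k + 1) hc
      (Nat.le_add_left 1 k)) j
  let Zf : ∀ i j, (i, j) ∈ μ → X.IdealSheafData := fun i => Nat.rec (motive := fun i => ∀ j,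
    (i, j) ∈ μ → X.IdealSheafData) Z0
    (fun k ih j hc => ih j (hdd hc) * E.vert (k + 1, j) hc
      (Nat.le_add_left 1 k)) i
  let Z : ∀ c : ℕ × ℕ, c ∈ μ → X.IdealSheafData := fun c hc => Zf c.1 c.2 hc
  have hvert : ∀ (c : ℕ × ℕ) (hc : c ∈ μ) (hi : 1 ≤ c.1),
      Z c hc = Z (c.1 - 1, c.2) (HilbD.mem_up hc) * E.vert c hc hi := by
    rintro ⟨_ | i, j⟩ hc hi
    · exact absurd hi (by simp)
    · rfl
  have hhor : ∀ (i j : ℕ) (hc : (i, j + 1) ∈ μ), Z (i, j + 1) hc =
      Z (i, j) (hdr hc) *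
        E.horiz (i, j + 1) hc (Nat.le_add_left 1 j) := by
    intro i
    induction i with
    | zero => intro j hc; rfl
    | succ i ih =>
      intro j hc
      have h := heq (i + 1, j + 1) hc (Nat.le_add_left 1 i) (Nat.le_add_left 1 j)
      simp only [HilbD.DnEdgeData.gammaOne, HilbD.DnEdgeData.gammaTwo] at h
      rw [hvert (i + 1, j + 1) hc (Nat.le_add_left 1 i),
        hvert (i + 1, j) _ (Nat.le_add_left 1 i)]
      have e : Z (i + 1 - 1, j + 1) (HilbD.mem_up hc) = _ := ih j (HilbD.mem_up hc)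
      rw [e, mul_assoc, mul_assoc]
      refine congrArg₂ (· * ·) rfl ?_
      exact (mul_comm _ _).trans (h.trans (mul_comm _ _))
  have hhoriz : ∀ (c : ℕ × ℕ) (hc : c ∈ μ) (hj : 1 ≤ c.2),
      Z c hc = Z (c.1, c.2 - 1) (HilbD.mem_left hc) * E.horiz c hc hj := by
    rintro ⟨i, _ | j⟩ hc hj
    · exact absurd hj (by simp)
    · exact hhor i j hc
  have hdeg : ∀ (i j : ℕ) (hc : (i, j) ∈ μ), HilbD.IsDivOfDeg f (n (i, j)) (Z (i, j) hc) := by
    intro i
    induction i with
    | zero =>
      intro j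
      induction j with
      | zero => intro hc; exact hE.1
      | succ j ih =>
        intro hc
        rw [hhor 0 j hc]
        have h := Groth.Agent.Lib.RelDiv.Diff.mul_finLocFreeOfDeg f _ _ _ _
          (ih (hdr hc))
          (hE.2.2 (0, j + 1) hc (Nat.le_add_left 1 j))
        have hle : n (0, j) ≤ n (0, j + 1) :=
          hn (hdr hc) hc ⟨le_rfl, Nat.le_succ j⟩
        simpa [Nat.add_sub_cancel' hle] using h
    | succ i ih =>
      intro j hc
      rw [hvert (i + 1, j) hc (Nat.le_add_left 1 i)]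
      have h := Groth.Agent.Lib.RelDiv.Diff.mul_finLocFreeOfDeg f _ _ _ _
        (ih j (hdd hc))
        (hE.2.1 (i + 1, j) hc (Nat.le_add_left 1 i))
      have hle : n (i, j) ≤ n (i + 1, j) :=
        hn (hdd hc) hc ⟨Nat.le_succ i, le_rfl⟩
      simpa [Nat.add_sub_cancel' hle] using h
  have hmono : ∀ (c c' : ℕ × ℕ) (hc : c ∈ μ) (hc' : c' ∈ μ), c ≤ c' → Z c' hc' ≤ Z c hc := by
    rintro ⟨a, b⟩ ⟨a', b'⟩ hc hc' ⟨h1, h2⟩
    simp only at h1 h2
    obtain ⟨k, rfl⟩ := Nat.exists_eq_add_of_le h1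
    obtain ⟨l, rfl⟩ := Nat.exists_eq_add_of_le h2
    clear h1 h2
    induction k with
    | zero =>
      induction l with
      | zero => exact le_rfl
      | succ l ihl =>
        exact (hhor (a + 0) (b + l) hc').le.trans
          ((Groth.Agent.Lib.RelDiv.Sum.mul_le_left _ _).trans (ihl _))
    | succ k ihk =>
      exact (hvert (a + k + 1, b + l) hc' (Nat.le_add_left 1 _)).le.trans
        ((Groth.Agent.Lib.RelDiv.Sum.mul_le_left _ _).trans (ihk _))
  refine ⟨Z, ⟨⟨fun c hc => hdeg c.1 c.2 hc, hmono⟩, rfl, hvert, hhoriz⟩, ?_⟩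
  rintro Z' ⟨-, hb, hv, hh⟩
  suffices ∀ i j (hc : (i, j) ∈ μ), Z' (i, j) hc = Z (i, j) hc from
    funext fun c => funext fun hc => this c.1 c.2 hc
  intro i
  induction i with
  | zero =>
    intro j
    induction j with
    | zero => intro hc; exact hb
    | succ j ih =>
      intro hc
      rw [hhor 0 j hc, hh (0, j + 1) hc (Nat.le_add_left 1 j)]
      exact congrArg (· * _) (ih (hdr hc))
  | succ i ih =>
    intro j hc
    rw [hvert (i + 1, j) hc (Nat.le_add_left 1 i), hv (i + 1, j) hc (Nat.le_add_left 1 i)]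
    exact congrArg (· * _) (ih j (hdd hc))

end Groth.Agent.S19105
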