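import Groth.Statements.S19106


set_option autoImplicit false
open HilbD

namespace Groth.Agent.S19106

/-- Let μ be a non-empty Young diagram, V the number of its cells, E the number of unordered pairs of
cells sharing a side (a cell together with the cell immediately below it, or immediately to its
right, both in μ) and Q the number of 2 × 2 blocks of cells of μ (cells c such that the cell
diagonally below-right of c is in μ, the other two corners being in μ automatically). Then V − E + Q
− 1 = 0, stated as V + Q = E + 1 in the naturals. (The empty diagram, for which the count reads 0 −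
0 + 0 − 1, is excluded.) -/
theorem result (μ : YoungDiagram) (hμ : μ ≠ ⊥) :
    μ.cells.card + (μ.cells.filter (fun c => (c.1 + 1, c.2 + 1) ∈ μ)).card =
      (μ.cells.filter (fun c => (c.1 + 1, c.2) ∈ μ)).card + (μ.cells.filter (fun c => (c.1, c.2 + 1) ∈ μ)).card + 1 := by
  classical
  have h00 : ((0, 0) : ℕ × ℕ) ∈ μ := by
    have hne : μ.cells.Nonempty := by
      rw [Finset.nonempty_iff_ne_empty]
      intro h
      exact hμ (YoungDiagram.ext (by simpa using h))
    obtain ⟨c, hc⟩ := hne
    exact μ.up_left_mem (Nat.zero_le _) (Nat.zero_le _) ((YoungDiagram.mem_cells _).1 hc)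
  set A := μ.cells.filter (fun c => 1 ≤ c.1) with hA
  set B := μ.cells.filter (fun c => 1 ≤ c.2) with hB
  have hAcard : (μ.cells.filter (fun c => (c.1 + 1, c.2) ∈ μ)).card = A.card := by
    refine Finset.card_bij (fun c _ => (c.1 + 1, c.2)) (fun c hc => ?_) (fun a _ b _ h => ?_)
      (fun b hb => ?_)
    · simp only [hA, Finset.mem_filter, YoungDiagram.mem_cells] at hc ⊢
      exact ⟨hc.2, by omega⟩
    · simp only [Prod.mk.injEq] at h
      exact Prod.ext (by omega) h.2
    · simp only [hA, Finset.mem_filter, YoungDiagram.mem_cells] at hb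
      have e : ((b.1 - 1 + 1, b.2) : ℕ × ℕ) = b := Prod.ext (by simp only; omega) rfl
      refine ⟨(b.1 - 1, b.2), ?_, e⟩
      simp only [Finset.mem_filter, YoungDiagram.mem_cells]
      exact ⟨μ.up_left_mem (Nat.sub_le _ _) le_rfl hb.1, e.symm ▸ hb.1⟩
  have hBcard : (μ.cells.filter (fun c => (c.1, c.2 + 1) ∈ μ)).card = B.card := by
    refine Finset.card_bij (fun c _ => (c.1, c.2 + 1)) (fun c hc => ?_) (fun a _ b _ h => ?_)
      (fun b hb => ?_)
    · simp only [hB, Finset.mem_filter, YoungDiagram.mem_cells] at hc ⊢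
      exact ⟨hc.2, by omega⟩
    · simp only [Prod.mk.injEq] at h
      exact Prod.ext h.1 (by omega)
    · simp only [hB, Finset.mem_filter, YoungDiagram.mem_cells] at hb
      have e : ((b.1, b.2 - 1 + 1) : ℕ × ℕ) = b := Prod.ext rfl (by simp only; omega)
      refine ⟨(b.1, b.2 - 1), ?_, e⟩
      simp only [Finset.mem_filter, YoungDiagram.mem_cells]
      exact ⟨μ.up_left_mem le_rfl (Nat.sub_le _ _) hb.1, e.symm ▸ hb.1⟩
  have hQcard : (μ.cells.filter (fun c => (c.1 + 1, c.2 + 1) ∈ μ)).card = (A ∩ B).card := by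
    refine Finset.card_bij (fun c _ => (c.1 + 1, c.2 + 1)) (fun c hc => ?_) (fun a _ b _ h => ?_)
      (fun b hb => ?_)
    · simp only [hA, hB, Finset.mem_inter, Finset.mem_filter, YoungDiagram.mem_cells] at hc ⊢
      exact ⟨⟨hc.2, by omega⟩, hc.2, by omega⟩
    · simp only [Prod.mk.injEq] at h
      exact Prod.ext (by omega) (by omega)
    · simp only [hA, hB, Finset.mem_inter, Finset.mem_filter, YoungDiagram.mem_cells] at hb
      have e : ((b.1 - 1 + 1, b.2 - 1 + 1) : ℕ × ℕ) = b :=
        Prod.ext (by simp only; omega) (by simp only; omega)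
      refine ⟨(b.1 - 1, b.2 - 1), ?_, e⟩
      simp only [Finset.mem_filter, YoungDiagram.mem_cells]
      exact ⟨μ.up_left_mem (Nat.sub_le _ _) (Nat.sub_le _ _) hb.1.1, e.symm ▸ hb.1.1⟩
  have hunion : μ.cells = insert (0, 0) (A ∪ B) := by
    ext c
    simp only [hA, hB, Finset.mem_insert, Finset.mem_union, Finset.mem_filter,
      YoungDiagram.mem_cells]
    constructor
    · intro h
      rcases Nat.eq_zero_or_pos c.1 with h1 | h1
      · rcases Nat.eq_zero_or_pos c.2 with h2 | h2
        · exact Or.inl (Prod.ext h1 h2)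
        · exact Or.inr (Or.inr ⟨h, h2⟩)
      · exact Or.inr (Or.inl ⟨h, h1⟩)
    · rintro (rfl | h | h)
      exacts [h00, h.1, h.1]
  have hnot : ((0, 0) : ℕ × ℕ) ∉ A ∪ B := by simp [hA, hB]
  rw [hAcard, hBcard, hQcard, hunion, Finset.card_insert_of_notMem hnot]
  have := Finset.card_union_add_card_inter A B
  omega

end Groth.Agent.S19106
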