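import Groth.Statements.S19107
import Groth.Agent.H14.UB.Closed
import Groth.Agent.H14.Chart.UnivInj
import Groth.Agent.Lib.Gerbe.Coarse

set_option autoImplicit false
universe u
open CategoryTheory AlgebraicGeometry
open StMod

namespace Groth.Agent.S19107

/-- Let `S` be a quasi-separated scheme, `𝒳` an algebraic stack over `(Sch/S)` for the fppf topology,
`M` an algebraic space over `S` that is quasi-separated over `S`, and `π : 𝒳 ⟶ M` a quasi-compact
quasi-separated good moduli space which is a tame moduli space: for every algebraically closed field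
`Ω` and every `Spec Ω ⟶ S`, `π` induces a bijection between isomorphism classes of objects of `𝒳`
over `Spec Ω` and sections of `M` over `Spec Ω`. Then `π` is a universal homeomorphism (every base
change of `π` to an algebraic stack is a homeomorphism on points). Here a good moduli space is a
quasi-compact quasi-separated morphism to an algebraic space along which pushforward takes
surjections of quasi-coherent modules to maps surjective on sections over every affine scheme etale
over the target (cohomological affineness), and for which the canonical map from the functions on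
any scheme etale over the target to the sections of the pushforward of the structure sheaf is
bijective. (Standing conventions of the source: all schemes and algebraic spaces are quasi-separated
and all stacks have quasi-compact separated diagonal; this row carries instead the
quasi-separatedness of `M` over a quasi-separated base scheme and of `π`, which is what the
arguments use.) -/
theorem result
    (S : Scheme.{u}) [QuasiSeparatedSpace S]
    (𝒳 : AlgSt.Cat S) (h𝒳 : AlgSt.IsAlgStack Scheme.fppfPrecoverage 𝒳)
    (M : AlgSp.Space S) (hM : AlgSp.IsQuasiSeparatedSp M.obj) (π : 𝒳 ⥤ᵇ AlgSt.ofSp M.obj)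
    (hqc : AlgSt.IsQuasiCompactMor Scheme.fppfPrecoverage π) (hqs : AlgSt.IsQuasiSeparatedMor π)
    (h : StMod.IsGoodModuli π)
    (ht : AlgSt.GeomPtBij π) :
    AlgSt.IsUnivHomeo Scheme.fppfPrecoverage π := by
  have hM' := Groth.Agent.H14.CohBC.compactPullbacks_of_isQuasiSeparatedSp hM
  have hMs := Groth.Agent.Lib.AlgStack.IsAlg.isAlgStack_ofSp M
  have hinj : AlgSt.IsUnivInjective Scheme.fppfPrecoverage π := by
    refine (Groth.Agent.H14.Chart.UnivInj.surjective_diag_iff h𝒳 hMs π).2
      ((Groth.Agent.H14.Chart.UnivInj.geomPts_iff h𝒳 hMs π).2 fun k _ _ s a₁ a₂ h₁ h₂ β hβ => ?_)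
    obtain ⟨e⟩ := (ht k s).2 ⟨a₁, h₁⟩ ⟨a₂, h₂⟩ (Groth.Agent.Lib.Gerbe.Coarse.fibSec_eq ⟨a₁, h₁⟩ ⟨a₂, h₂⟩ β hβ)
    have he : 𝒳.p.IsHomLift (𝟙 (Over.mk s)) e.hom.1 := e.hom.2
    have := BasedFunctor.preserves_isHomLift π (𝟙 (Over.mk s)) e.hom.1
    exact ⟨e.hom.1, he, Groth.Agent.H14.UB.sp_eq_of_lift (𝟙 (Over.mk s)) _ _⟩
  intro 𝒵 h𝒵 g
  refine isHomeomorph_iff_continuous_isClosedMap_bijective.2
    ⟨Groth.Agent.H14.Chart.Basic.continuous_map h𝒵 _,
      Groth.Agent.H14.UB.isUnivClosed_goodModuli h𝒳 hM' hqc hqs h 𝒵 h𝒵 g, hinj 𝒵 h𝒵 g, ?_⟩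
  exact Groth.Agent.H14.Chart.Basic.surjective_fpFst h𝒳.isStack.1 hMs.isStack.1 h𝒵.isStack.1 g
    (Groth.Agent.H14.UB.isSurjective_goodModuli h𝒳 hM' hqc hqs h)

end Groth.Agent.S19107
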