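import Groth.Statements.S1911
import Groth.Agent.Lib.Cyc.Sp.Fibre

set_option autoImplicit false
universe u
open CategoryTheory AlgebraicGeometry
open CategoryTheory.Limits
open Cyc

namespace Groth.Agent.S1911

/-- Let F be a coherent O_X-module flat over R with dim Supp(F_η) ≤ r. Then dim Supp(F_s) ≤ r and
sp([F_η]_r) = [F_s]_r, where F_η, F_s are the pullbacks of F to the two fibres. Here R is a discrete
valuation ring, a : X → Spec R is locally of finite type, X_η and X_s are the fibres over the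
generic and closed points (Mathlib's Scheme.Hom.fiber) with their dimension functions δη, δs
(transcendence degree of residue fields), r-cycles on X_η are cycles supported at points with δη =
r, and sp is the specialization map Z_r(X_η) → Z_r(X_s) on coefficient functions (Cyc.spFun). -/
theorem result (R : Type u) [CommRing R] [IsDomain R] [IsDiscreteValuationRing R] (X : Scheme.{u}) (a : X ⟶ Spec (CommRingCat.of R)) [LocallyOfFiniteType a] (δη : ↥(a.fiber (genericPoint ↥(Spec (CommRingCat.of R)))) → ℤ) (δs : ↥(a.fiber (IsLocalRing.closedPoint R)) → ℤ) (hδη : Cyc.DeltaCompat (a.fiberToSpecResidueField (genericPoint ↥(Spec (CommRingCat.of R)))) δη (fun _ => 0)) (hδs : Cyc.DeltaCompat (a.fiberToSpecResidueField (IsLocalRing.closedPoint R)) δs (fun _ => 0)) [IsLocallyNoetherian X] (r : ℤ) (F : X.Modules) (hF : Coh.IsCoh F) (hflat : FlatMod.IsFlatOver a F) (hdim : ∀ ζ : ↥(a.fiber (genericPoint ↥(Spec (CommRingCat.of R)))), Nontrivial (((Scheme.Modules.pullback (a.fiberι (genericPoint ↥(Spec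 (CommRingCat.of R))))).obj F).presheaf.stalk ζ) → δη ζ ≤ r) : (∀ x : ↥(a.fiber (IsLocalRing.closedPoint R)), Nontrivial (((Scheme.Modules.pullback (a.fiberι (IsLocalRing.closedPoint R))).obj F).presheaf.stalk x) → δs x ≤ r) ∧ Cyc.spFun a (genericPoint ↥(Spec (CommRingCat.of R))) (IsLocalRing.closedPoint R) δη δs r (Cyc.sheafFun δη r ((Scheme.Modules.pullback (a.fiberι (genericPoint ↥(Spec (CommRingCat.of R))))).obj F)) = Cyc.sheafFun δs r ((Scheme.Modules.pullback (a.fiberι (IsLocalRing.closedPoint R))).obj F) := by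
  obtain ⟨D, hd⟩ := Lib.Cyc.Sp.exists_data a hδη hδs
  haveI := hd.setup.1
  have hinj : ∀ y : X, a y = Lib.Cyc.Sp.s₀ R → Function.Injective
      fun v : F.presheaf.stalk y => Lib.Cyc.Sp.t a y • v := fun y _ => Lib.Cyc.Sp.t_injective a hflat y
  have hdim' : ∀ q, a q = Lib.Cyc.Sp.η R → Nontrivial (F.presheaf.stalk q) → D q ≤ r + 1 := by
    intro q hq hnt
    obtain ⟨ζ, rfl⟩ := Lib.Cyc.Sp.exists_fiber a hq
    rw [hd.gen]
    refine add_le_add_left (hdim ζ ?_) 1
    by_contra hc
    rw [not_nontrivial_iff_subsingleton, ← Module.length_eq_zero_iff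
      (R := (a.fiber (Lib.Cyc.Sp.η R)).presheaf.stalk ζ), Lib.Cyc.Sp.length_generic a,
      Module.length_eq_zero_iff] at hc
    exact not_subsingleton_iff_nontrivial.2 hnt hc
  refine ⟨fun x hnt => ?_, funext fun x => ?_⟩
  · rw [← hd.spec]
    refine Lib.Cyc.Sp.le_of_nontrivial hd hF hdim' (Lib.Cyc.Sp.a_fiberι a _ x)
      (hinj _ (Lib.Cyc.Sp.a_fiberι a _ x)) ?_
    by_contra hc
    rw [not_nontrivial_iff_subsingleton] at hc
    refine not_subsingleton_iff_nontrivial.2 hnt ?_
    rw [← Module.length_eq_zero_iff (R := (a.fiber (Lib.Cyc.Sp.s₀ R)).presheaf.stalk x),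
      Lib.Cyc.Sp.length_special a, Module.length_eq_zero_iff]
    exact Submodule.Quotient.mk_surjective _ |>.subsingleton
  · by_cases hx : δs x = r
    · rw [Cyc.sheafFun, if_pos hx, Lib.Cyc.Sp.length_special a]
      exact Lib.Cyc.Sp.spFun_sheaf hd hF hinj hdim' _ (fun ζ hζ => by
        rw [Cyc.sheafFun, if_pos hζ, Lib.Cyc.Sp.length_generic a]) x hx
    · rw [Cyc.sheafFun, if_neg hx]
      exact Lib.Cyc.Sp.spFun_eq_zero r _ x hx

end Groth.Agent.S1911
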