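import Groth.Statements.S19110
import Groth.Agent.H14.UB.Separate

set_option autoImplicit false
universe u
open CategoryTheory AlgebraicGeometry
open StMod

namespace Groth.Agent.S19110

/-- Let `S` be a quasi-separated scheme, `𝒳` an algebraic stack over `(Sch/S)` for the fppf topology,
`M` an algebraic space over `S` that is quasi-separated over `S`, and `π : 𝒳 ⟶ M` a quasi-compact
quasi-separated good moduli space. Then the fibres of `π` are geometrically connected; precisely,
for every field `K` and every `K`-point `y` of `M` over `S`, the space of points of the 2-fibre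
product `(Sch/Spec K) ×_M 𝒳` is connected and non-empty. (The printed item says geometrically
connected fibres, i.e. the case of algebraically closed `K`; the argument applies to every field, so
`K` is an arbitrary field here.) Here a good moduli space is a quasi-compact quasi-separated
morphism to an algebraic space along which pushforward takes surjections of quasi-coherent modules
to maps surjective on sections over every affine scheme etale over the target (cohomological
affineness), and for which the canonical map from the functions on any scheme etale over the target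
to the sections of the pushforward of the structure sheaf is bijective. (Standing conventions of the
source: all schemes and algebraic spaces are quasi-separated and all stacks have quasi-compact
separated diagonal; this row carries instead the quasi-separatedness of `M` over a quasi-separated
base scheme and of `π`, which is what the arguments use.) -/
theorem result
    (S : Scheme.{u}) [QuasiSeparatedSpace S]
    (𝒳 : AlgSt.Cat S) (h𝒳 : AlgSt.IsAlgStack Scheme.fppfPrecoverage 𝒳)
    (M : AlgSp.Space S) (hM : AlgSp.IsQuasiSeparatedSp M.obj) (π : 𝒳 ⥤ᵇ AlgSt.ofSp M.obj)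
    (hqc : AlgSt.IsQuasiCompactMor Scheme.fppfPrecoverage π) (hqs : AlgSt.IsQuasiSeparatedMor π)
    (h : StMod.IsGoodModuli π)
    (K : Type u) [Field K] (t : Spec (CommRingCat.of K) ⟶ S)
    (y : (AlgSp.yon S).obj (Over.mk t) ⟶ M.obj) :
    ConnectedSpace (AlgSt.Points (FibCat.fp (AlgSt.ofSpMap y) π)) := by
  classical
  have hM' := Groth.Agent.H14.CohBC.compactPullbacks_of_isQuasiSeparatedSp hM
  have hMs := Groth.Agent.Lib.AlgStack.IsAlg.isAlgStack_ofSp M
  let V : Over S := Over.mk t
  have hZ : AlgSt.IsAlgStack Scheme.fppfPrecoverage (AlgSt.ofSp ((AlgSp.yon S).obj V)) :=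
    Groth.Agent.Lib.AlgStack.IsAlg.isAlgStack_ofSp ((AlgSp.ofScheme S).obj V)
  have : IsAffine V.left := inferInstanceAs (IsAffine (Spec (CommRingCat.of K)))
  have hzV : ∀ p : AlgSt.Points (AlgSt.ofSp ((AlgSp.yon S).obj V)),
      ∃ v : V.left, AlgSt.Points.ofChart (AlgSt.ofOverCat V) v = p := fun p => by
    obtain ⟨q, rfl⟩ := Groth.Agent.H14.Chart.Basic.surjective_map_of_isEquivOver
      (Groth.Agent.Lib.AlgStack.Rep.isEquivOver_ofOverCat V) p
    obtain ⟨W, z, w, rfl⟩ := Groth.Agent.H14.Chart.Points.exists_ofChart_eq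
      (Groth.Agent.Lib.AlgStack.Yoneda.isFibGrpd_overCat V) q
    obtain ⟨v, ⟨ε⟩⟩ := Groth.Agent.H14.Chart.Points.exists_iso_overMap z
    refine ⟨v.left w, ?_⟩
    rw [Groth.Agent.H14.Chart.Points.map_ofChart, ← Groth.Agent.H14.Chart.Points.ofChart_overMap]
    exact (Groth.Agent.H14.Chart.Points.ofChart_iso
      (Groth.Agent.Lib.AlgStack.BasedBasic.isoWhiskerRight ε (AlgSt.ofOverCat V)) w).symm
  have hne : Nonempty (AlgSt.Points (FibCat.fp (AlgSt.ofSpMap y) π)) := by
    obtain ⟨r, -⟩ := Groth.Agent.H14.Chart.Basic.surjective_fpFst h𝒳.isStack.1 hMs.isStack.1 hZ.isStack.1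
      (AlgSt.ofSpMap y) (Groth.Agent.H14.UB.isSurjective_goodModuli h𝒳 hM' hqc hqs h)
      (AlgSt.Points.ofChart (AlgSt.ofOverCat V) (show V.left from IsLocalRing.closedPoint K))
    exact ⟨r⟩
  refine connectedSpace_iff_clopen.2 ⟨hne, fun C hC => ?_⟩
  by_contra hcon
  rw [not_or] at hcon
  obtain ⟨c₁, hc₁⟩ := Set.nonempty_iff_ne_empty.2 hcon.1
  obtain ⟨c₂, hc₂⟩ := (Set.ne_univ_iff_exists_notMem _).1 hcon.2
  obtain ⟨f, hf₁, hf₂⟩ := Groth.Agent.H14.UB.exists_sep (g := AlgSt.ofSpMap y) (AlgSt.ofOverCat V) h𝒳 hM' hqc hqs h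
    hZ hC.isClosed hC.compl.isClosed fun c hc hc' => hc' hc
  obtain ⟨v₁, hv₁⟩ := hzV (AlgSt.Points.map (FibCat.fpFst (AlgSt.ofSpMap y) π) c₁)
  obtain ⟨v₂, hv₂⟩ := hzV (AlgSt.Points.map (FibCat.fpFst (AlgSt.ofSpMap y) π) c₂)
  have hv : v₁ = v₂ := Subsingleton.elim (α := Spec (CommRingCat.of K)) v₁ v₂
  exact hf₂ c₂ v₂ hv₂ hc₂ (hv ▸ hf₁ c₁ v₁ hv₁ hc₁)

end Groth.Agent.S19110
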