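import Groth.Statements.S19112
import Groth.Agent.H14.UB.AffCompQC
import Groth.Agent.H14.Sep.Rep
import Groth.Agent.H14.Sep.SpProps2
import Groth.Agent.S17522

set_option autoImplicit false
universe u
open CategoryTheory AlgebraicGeometry
open StMod

namespace Groth.Agent.S19112

/-- In the case where the targets are algebraic spaces, let `S` be a quasi-separated scheme, `𝒳` an
algebraic stack over `(Sch/S)` for the fppf topology, `M` and `N` algebraic spaces over `S` that are
quasi-separated over `S`, with the diagonal of `N` over `S` quasi-affine, `f : 𝒳 ⟶ M` a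
quasi-separated morphism and `g : M ⟶ N` a morphism of algebraic spaces with affine diagonal. If the
composite `𝒳 ⟶ N` is quasi-compact, quasi-separated and cohomologically affine, then `f` is
cohomologically affine and quasi-compact. Here a quasi-compact quasi-separated morphism to an
algebraic space is cohomologically affine when pushforward along it takes surjections of
quasi-coherent modules to maps surjective on sections over every affine scheme etale over the
target. (The printed statement allows arbitrary algebraic stacks as targets, with either `g`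
quasi-affine or the final target with quasi-affine diagonal; here both targets are algebraic spaces
and the second alternative is assumed. Standing conventions of the source: all algebraic spaces and
morphisms are quasi-separated.) -/
theorem result
    (S : Scheme.{u}) [QuasiSeparatedSpace S]
    (𝒳 : AlgSt.Cat S) (h𝒳 : AlgSt.IsAlgStack Scheme.fppfPrecoverage 𝒳)
    (M N : AlgSp.Space S) (hM : AlgSp.IsQuasiSeparatedSp M.obj) (hN : AlgSp.IsQuasiSeparatedSp N.obj)
    (hNd : AlgSp.IsQuasiAffineMor (Limits.diag N.obj))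
    (f : 𝒳 ⥤ᵇ AlgSt.ofSp M.obj) (hfqs : AlgSt.IsQuasiSeparatedMor f)
    (g : M.obj ⟶ N.obj) (hg : AlgSp.IsAffineMor (Limits.pullback.diagonal g))
    (hqc : AlgSt.IsQuasiCompactMor Scheme.fppfPrecoverage (BasedFunctor.comp f (AlgSt.ofSpMap g)))
    (hqs : AlgSt.IsQuasiSeparatedMor (BasedFunctor.comp f (AlgSt.ofSpMap g)))
    (h : StMod.IsCohAffine (BasedFunctor.comp f (AlgSt.ofSpMap g))) :
    StMod.IsCohAffine f ∧ AlgSt.IsQuasiCompactMor Scheme.fppfPrecoverage f := by
  let q := AlgSt.ofSpMap g
  let p := BasedFunctor.comp f q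
  have hd : AlgSt.RepByAlgSpWith AlgSp.IsAffineMor (FibCat.diag q) :=
    Groth.Agent.H14.Sep.Rep.diag_ofSpMap Groth.Agent.H14.Sep.SpProps2.stableBC_affineShape M.property N.property g hg
  let γ := FibCat.fpLift (BasedFunctor.id 𝒳) f (show BasedFunctor.comp (BasedFunctor.id 𝒳) p ≅ BasedFunctor.comp f q from Iso.refl _)
  have hγ := Groth.Agent.H14.Sep.Rep.graph_of_diag f
    (show BasedFunctor.comp (BasedFunctor.id 𝒳) p ≅ BasedFunctor.comp f q from Iso.refl _) hd
  let γ' := BasedFunctor.comp γ (Groth.Agent.Lib.AlgStack.FibProd.swap p q)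
  have hγ' : AlgSt.RepByAlgSpWith AlgSp.IsAffineMor γ' :=
    (Groth.Agent.Lib.AlgStack.Rep.repByAlgSpWith_iff_of_isEquivOver (f := γ') (f' := γ)
      Groth.Agent.Lib.AlgStack.BasedBasic.isEquivOver_id
      (Groth.Agent.Lib.AlgStack.FibProd.isEquivOver_swap p q) (Iso.refl _)).2 hγ
  have hMs := Groth.Agent.Lib.AlgStack.IsAlg.isAlgStack_ofSp M
  have hNs := Groth.Agent.Lib.AlgStack.IsAlg.isAlgStack_ofSp N
  have hfp := Groth.Agent.H14.Chart.Basic.isAlgStack_fp hNs hMs h𝒳 q p
  have h1 : StMod.IsCohAffine (FibCat.fpFst q p) :=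
    Groth.Agent.S17522.result S 𝒳 h𝒳 N M hN hM g p hqc hqs hfp h
  exact ⟨Groth.Agent.H14.UB.AffComp.isCohAffine_comp h𝒳.isStack.1 hfp.isStack.1 hγ' h1,
    Groth.Agent.H14.Chart.QC.isQuasiCompactMor_comp h𝒳 hfp hMs
      (Groth.Agent.H14.UB.AffComp.isQuasiCompactMor_of_affine h𝒳 hfp hγ')
      (Groth.Agent.H14.Chart.QC.isQuasiCompactMor_fpFst h𝒳 hNs hMs q hqc)⟩

end Groth.Agent.S19112
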