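import Groth.Statements.S1912
import Groth.Agent.H19.Spec.Div
import Groth.Agent.Lib.Cyc.PP.Norm
import Groth.Agent.Lib.Cyc.PP.Div

set_option autoImplicit false
universe u
open CategoryTheory AlgebraicGeometry
open CategoryTheory.Limits
open Cyc

namespace Groth.Agent.S1912

open Groth.Agent.Lib Groth.Agent.Lib.Cyc Groth.Agent.H19.Spec

theorem finite_gens {A B : Scheme.{u}} (g : A ⟶ B) [QuasiCompact g] (α : AlgebraicCycle A ℤ) (y : B) :
    {ξ : A | α ξ ≠ 0 ∧ g ξ ⤳ y}.Finite := by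
  obtain ⟨_, ⟨V, hV, rfl⟩, hyV, -⟩ :=
    B.isBasis_affineOpens.exists_subset_of_mem_open (Set.mem_univ y) isOpen_univ
  exact (α.locallyFiniteSupport.finite_inter_support_of_isCompact
    (QuasiCompact.isCompact_preimage (f := g) (V : Set B) V.2 hV.isCompact)).subset
    fun ξ hξ => ⟨hξ.2.mem_open V.2 hyV, hξ.1⟩

theorem quasiCompact_fromSpecResidueField {R : Type u} [CommRing R] (y : Spec (CommRingCat.of R)) :
    QuasiCompact ((Spec (CommRingCat.of R)).fromSpecResidueField y) := inferInstance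



/-- Over a discrete valuation ring R, let f : X → Y be proper with Y (hence X) locally of finite type
over R, and let f_η : X_η → Y_η, f_s : X_s → Y_s be the induced morphisms of generic and closed
fibres. Then for every r-cycle α on X_η, sp_Y(f_{η,*} α) = f_{s,*}(sp_X α) coefficientwise (for any
cycle on X_s with the coefficients of sp_X α). Here sp is Cyc.spFun for X → Spec R and for Y → Spec
R, fibres are Mathlib's Scheme.Hom.fiber with dimension functions given by transcendence degree, and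
the maps of fibres are the base changes of f. -/
theorem result (R : Type u) [CommRing R] [IsDomain R] [IsDiscreteValuationRing R] (X Y : Scheme.{u}) (b : Y ⟶ Spec (CommRingCat.of R)) [LocallyOfFiniteType b] (f : X ⟶ Y) [IsProper f] (δXη : ↥((f ≫ b).fiber (genericPoint ↥(Spec (CommRingCat.of R)))) → ℤ) (δXs : ↥((f ≫ b).fiber (IsLocalRing.closedPoint R)) → ℤ) (δYη : ↥(b.fiber (genericPoint ↥(Spec (CommRingCat.of R)))) → ℤ) (δYs : ↥(b.fiber (IsLocalRing.closedPoint R)) → ℤ) (hXη : Cyc.DeltaCompat ((f ≫ b).fiberToSpecResidueField (genericPoint ↥(Spec (CommRingCat.of R)))) δXη (fun _ => 0)) (hXs : Cyc.DeltaCompat ((f ≫ b).fiberToSpecResidueField (IsLocalRing.closedPoint R)) δXs (fun _ => 0)) (hYη : Cyc.DeltaCompat (b.fiberToSpecResidueField (genericPoint ↥(Spec (CommRingCat.of R)))) δYη (fun _ => 0)) (hYs : Cyc.DeltaCompat (b.fiberToSpecResidueField (IsLocalRing.closedPoint R)) δYs (fun _ => 0)) [QuasiCompact (pullback.map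 (f ≫ b) ((Spec (CommRingCat.of R)).fromSpecResidueField (genericPoint ↥(Spec (CommRingCat.of R)))) b ((Spec (CommRingCat.of R)).fromSpecResidueField (genericPoint ↥(Spec (CommRingCat.of R)))) f (𝟙 _) (𝟙 _) (Category.comp_id _) ((Category.comp_id _).trans (Category.id_comp _).symm))] [QuasiCompact (pullback.map (f ≫ b) ((Spec (CommRingCat.of R)).fromSpecResidueField (IsLocalRing.closedPoint R)) b ((Spec (CommRingCat.of R)).fromSpecResidueField (IsLocalRing.closedPoint R)) f (𝟙 _) (𝟙 _) (Category.comp_id _) ((Category.comp_id _).trans (Category.id_comp _).symm))] (r : ℤ) (α : AlgebraicCycle ((f ≫ b).fiber (genericPoint ↥(Spec (CommRingCat.of R)))) ℤ) (hα : α ∈ Cyc.Zk ((f ≫ b).fiber (genericPoint ↥(Spec (CommRingCat.of R)))) δXη r) (β : AlgebraicCycle ((f ≫ b).fiber (IsLocalRing.closedPoint R)) ℤ) (hβ : ⇑β = Cyc.spFun (f ≫ b) (genericPoint ↥(Spec (CommRingCat.of R))) (IsLocalRing.closedPoint R) δXη δXs r ⇑α) : Cyc.spFun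 b (genericPoint ↥(Spec (CommRingCat.of R))) (IsLocalRing.closedPoint R) δYη δYs r ⇑(AlgebraicCycle.map (pullback.map (f ≫ b) ((Spec (CommRingCat.of R)).fromSpecResidueField (genericPoint ↥(Spec (CommRingCat.of R)))) b ((Spec (CommRingCat.of R)).fromSpecResidueField (genericPoint ↥(Spec (CommRingCat.of R)))) f (𝟙 _) (𝟙 _) (Category.comp_id _) ((Category.comp_id _).trans (Category.id_comp _).symm)) δXη δYη α) = ⇑(AlgebraicCycle.map (pullback.map (f ≫ b) ((Spec (CommRingCat.of R)).fromSpecResidueField (IsLocalRing.closedPoint R)) b ((Spec (CommRingCat.of R)).fromSpecResidueField (IsLocalRing.closedPoint R)) f (𝟙 _) (𝟙 _) (Category.comp_id _) ((Category.comp_id _).trans (Category.id_comp _).symm)) δXs δYs β) := by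
  classical
  haveI : IsLocallyNoetherian Y := LocallyOfFiniteType.isLocallyNoetherian b
  haveI : IsLocallyNoetherian X := LocallyOfFiniteType.isLocallyNoetherian f
  obtain ⟨ϖ, hϖ⟩ := IsDiscreteValuationRing.exists_irreducible R
  have hdX := deltaCompat (a := f ≫ b) hXη hXs
  have hdY := deltaCompat (a := b) hYη hYs
  have hX := InducedDimFun.isDimFun (f ≫ b) isDimFun_δS isUniversallyCatenary_stalk hdX
  have hY := InducedDimFun.isDimFun b isDimFun_δS isUniversallyCatenary_stalk hdY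
  have hdf := Pull.deltaCompat_of_base f b hdY hdX
  obtain ⟨hxs, hxη⟩ := Div.δX_eq hXη hXs
  obtain ⟨hys, hyη⟩ := Div.δX_eq hYη hYs
  let fη := Pull.fibMap f b (genericPoint ↥(Spec (CommRingCat.of R)))
  let fs := Pull.fibMap f b (IsLocalRing.closedPoint R)
  haveI : QuasiCompact fη := by assumption
  haveI : QuasiCompact fs := by assumption
  haveI : QuasiCompact ((f ≫ b).fiberι (genericPoint ↥(Spec (CommRingCat.of R)))) :=
    MorphismProperty.pullback_fst _ _ (quasiCompact_fromSpecResidueField _)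
  funext y
  show Cyc.spFun b _ _ δYη δYs r ⇑(AlgebraicCycle.map fη δXη δYη α) y = AlgebraicCycle.map fs δXs δYs β y
  rw [Push.map_apply fs]
  by_cases hy : δYs y = r
  swap
  · rw [show Cyc.spFun b _ _ δYη δYs r ⇑(AlgebraicCycle.map fη δXη δYη α) y = 0 from if_neg hy]
    refine (finsum_mem_eq_zero_of_forall_eq_zero fun x hx => ?_).symm
    have hxy : fs x = y := hx
    by_contra hne
    have h1 : δXs x = r := by_contra fun h => left_ne_zero_of_mul hne (by rw [hβ]; exact if_neg h)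
    have h2 : δXs x = δYs (fs x) := by_contra fun h => right_ne_zero_of_mul hne (by
      simp [AlgebraicCycle.mapCoeff, h])
    rw [hxy] at h2
    exact hy (h2.symm.trans h1)
  let y' := b.fiberι (IsLocalRing.closedPoint R) y
  have hy' : δX b y' = r := (hys y).trans hy
  have hfin := finite_gens ((f ≫ b).fiberι (genericPoint ↥(Spec (CommRingCat.of R))) ≫ f) α y'
  let A := hfin.toFinset
  have hAmem : ∀ ξ, ξ ∈ A ↔ α ξ ≠ 0 ∧ f ((f ≫ b).fiberι _ ξ) ⤳ y' := fun ξ => hfin.mem_toFinset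
  have hAr : ∀ ξ ∈ A, δXη ξ = r := fun ξ hξ => by_contra fun h => ((hAmem ξ).1 hξ).1 (hα ξ h)
  let D := fun ξ : ↥((f ≫ b).fiber (genericPoint ↥(Spec (CommRingCat.of R)))) =>
    Cyc.divFun (δX (f ≫ b)) ((f ≫ b).fiberι _ ξ) (Div.φ (f ≫ b) ϖ ((f ≫ b).fiberι _ ξ))
  have hcoeff : ∀ ξ, δXη ξ = r → δYη (fη ξ) = r →
      (AlgebraicCycle.mapCoeff fη δXη δYη ξ : ℤ) = f.residueDegree ((f ≫ b).fiberι _ ξ) := fun ξ h1 h2 => by
    simp only [AlgebraicCycle.mapCoeff]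
    rw [if_pos (h1.trans h2.symm), Div.residueDegree_fibMap]
  -- the pushforward of each prime cycle
  have hkey : ∀ ξ ∈ A, ∑ᶠ x ∈ ⇑f ⁻¹' {y'}, D ξ x * (AlgebraicCycle.mapCoeff f (δX (f ≫ b)) (δX b) x : ℤ) =
      if δYη (fη ξ) = r then (f.residueDegree ((f ≫ b).fiberι _ ξ) : ℤ) *
        Cyc.divFun (δX b) (b.fiberι _ (fη ξ)) (Div.φ b ϖ (b.fiberι _ (fη ξ))) y' else 0 := fun ξ hξ => by
    have h1 : δX (f ≫ b) ((f ≫ b).fiberι _ ξ) = r + 1 := by rw [hxη, hAr ξ hξ]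
    have hne : Div.φ (f ≫ b) ϖ ((f ≫ b).fiberι _ ξ) ≠ 0 :=
      Div.φ_ne_zero _ ϖ (FieldDim.apply_fiberι (f ≫ b) _ ξ) hϖ.ne_zero
    have h2 := hyη (fη ξ)
    rw [Pull.fiberι_apply] at h2
    split_ifs with h3
    · rw [PP.Norm.map_divFun f hX hY hdf h1 (by rw [h2, h3]) _ hne y', Div.norm_φ, Pull.fiberι_apply]
      exact Div.divFun_pow hY _ _ (Div.φ_ne_zero b ϖ (FieldDim.apply_fiberι (f ≫ b) _ ξ) hϖ.ne_zero) _ _
    · refine PP.Div.finsum_divFun_eq_zero f hX hY hdf h1 ?_ _ hne y'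
      have := Residue.deltaY_le hdf ((f ≫ b).fiberι _ ξ)
      omega
  -- the special fibre
  have himg : ⇑f ⁻¹' {y'} = (f ≫ b).fiberι (IsLocalRing.closedPoint R) '' (⇑fs ⁻¹' {y}) := by
    ext x'
    constructor
    · intro (h : f x' = y')
      obtain ⟨x, rfl⟩ := FieldDim.exists_fiberι_eq (f ≫ b) x' (IsLocalRing.closedPoint R)
        ((congrArg b h).trans (FieldDim.apply_fiberι b _ y))
      exact ⟨x, (b.fiberι _).isEmbedding.injective ((Pull.fiberι_apply f b _ x).trans h), rfl⟩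
    · rintro ⟨x, hx, rfl⟩
      show f _ = y'
      rw [← Pull.fiberι_apply, show Pull.fibMap f b _ x = y from hx]
  have hβx : ∀ x ∈ ⇑fs ⁻¹' {y}, β x * (AlgebraicCycle.mapCoeff fs δXs δYs x : ℤ) =
      ∑ ξ ∈ A, α ξ * (D ξ ((f ≫ b).fiberι _ x) *
        (AlgebraicCycle.mapCoeff f (δX (f ≫ b)) (δX b) ((f ≫ b).fiberι _ x) : ℤ)) := fun x hx => by
    have hxy : fs x = y := hx
    have e1 : (AlgebraicCycle.mapCoeff fs δXs δYs x : ℤ) =
        AlgebraicCycle.mapCoeff f (δX (f ≫ b)) (δX b) ((f ≫ b).fiberι _ x) := by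
      simp only [AlgebraicCycle.mapCoeff]
      rw [Div.residueDegree_fibMap, hxs, ← Pull.fiberι_apply, hys]
    by_cases hxr : δXs x = r
    · rw [hβ, Div.spFun_eq hXη hXs r ⇑α hϖ x hxr A (fun ξ h1 _ h3 => (hAmem ξ).2 ⟨h1, by
          have := h3.map f.continuous
          rwa [← Pull.fiberι_apply f b (IsLocalRing.closedPoint R) x, hxy] at this⟩) hAr, e1, Finset.sum_mul]
      exact Finset.sum_congr rfl fun ξ _ => mul_assoc _ _ _
    · have h0 : (AlgebraicCycle.mapCoeff fs δXs δYs x : ℤ) = 0 := by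
        simp [AlgebraicCycle.mapCoeff, hxy, hy, hxr]
      rw [h0, mul_zero]
      exact (Finset.sum_eq_zero fun ξ _ => by rw [← e1, h0, mul_zero, mul_zero]).symm
  rw [finsum_mem_congr rfl hβx, ← finsum_mem_image
    (f := fun x' => ∑ ξ ∈ A, α ξ * (D ξ x' * (AlgebraicCycle.mapCoeff f (δX (f ≫ b)) (δX b) x' : ℤ)))
    ((f ≫ b).fiberι (IsLocalRing.closedPoint R)).isEmbedding.injective.injOn, ← himg]
  -- swap the sums
  have hfinD : ∀ ξ, (⇑f ⁻¹' {y'} ∩ Function.support (D ξ)).Finite := fun ξ =>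
    Push.finite_fiber_support f (Div.divCycle hX ((f ≫ b).fiberι _ ξ) (Div.φ (f ≫ b) ϖ _)) y'
  rw [show (∑ᶠ x' ∈ ⇑f ⁻¹' {y'}, ∑ ξ ∈ A, α ξ * (D ξ x' * (AlgebraicCycle.mapCoeff f (δX (f ≫ b)) (δX b) x' : ℤ))) =
      ∑ ξ ∈ A, α ξ * ∑ᶠ x' ∈ ⇑f ⁻¹' {y'}, D ξ x' * (AlgebraicCycle.mapCoeff f (δX (f ≫ b)) (δX b) x' : ℤ) from by
    let T := A.biUnion fun ξ => (hfinD ξ).toFinset
    have hT : ∀ ξ ∈ A, ∀ x', f x' = y' → D ξ x' ≠ 0 → x' ∈ T := fun ξ hξ x' h1 h2 =>
      Finset.mem_biUnion.2 ⟨ξ, hξ, (hfinD ξ).mem_toFinset.2 ⟨h1, h2⟩⟩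
    have hT' : ∀ x' ∈ T, f x' = y' := fun x' hx' => by
      obtain ⟨ξ, -, h⟩ := Finset.mem_biUnion.1 hx'
      exact ((hfinD ξ).mem_toFinset.1 h).1
    rw [finsum_mem_eq_sum_of_subset (s := ⇑f ⁻¹' {y'}) _ (t := T) ?_ (fun x' hx' => hT' x' (Finset.mem_coe.1 hx')), Finset.sum_comm]
    · refine Finset.sum_congr rfl fun ξ hξ => ?_
      rw [finsum_mem_eq_sum_of_subset (s := ⇑f ⁻¹' {y'}) _ (t := T) ?_ (fun x' hx' => hT' x' (Finset.mem_coe.1 hx')), Finset.mul_sum]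
      rintro x' ⟨h1, h2⟩
      exact hT ξ hξ x' h1 (left_ne_zero_of_mul h2)
    · rintro x' ⟨h1, h2⟩
      obtain ⟨ξ, hξ, h3⟩ := Finset.exists_ne_zero_of_sum_ne_zero h2
      exact hT ξ hξ x' h1 (left_ne_zero_of_mul (right_ne_zero_of_mul h3))]
  rw [Finset.sum_congr rfl fun ξ hξ => by rw [hkey ξ hξ, mul_ite, mul_zero], ← Finset.sum_filter]
  -- the generic fibre
  let A' := A.filter fun ξ => δYη (fη ξ) = r
  have hB : ∀ η', AlgebraicCycle.map fη δXη δYη α η' ≠ 0 → δYη η' = r → b.fiberι _ η' ⤳ y' → η' ∈ A'.image fη :=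
    fun η' h1 h2 h3 => by
      rw [Push.map_apply] at h1
      obtain ⟨ξ, hξ, hne⟩ := exists_ne_zero_of_finsum_mem_ne_zero h1
      have hξ' : fη ξ = η' := hξ
      refine Finset.mem_image.2 ⟨ξ, Finset.mem_filter.2 ⟨(hAmem ξ).2 ⟨left_ne_zero_of_mul hne, ?_⟩, hξ'.symm ▸ h2⟩, hξ'⟩
      rw [← Pull.fiberι_apply, show Pull.fibMap f b _ ξ = η' from hξ']
      exact h3
  rw [Div.spFun_eq hYη hYs r _ hϖ y hy (A'.image fη) hB (fun η' h => by
      obtain ⟨ξ, hξ, rfl⟩ := Finset.mem_image.1 h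
      exact (Finset.mem_filter.1 hξ).2)]
  refine Eq.trans (Finset.sum_congr rfl fun η' hη' => ?_) (Finset.sum_fiberwise_of_maps_to (s := A')
    (fun ξ hξ => Finset.mem_image_of_mem fη hξ)
    (fun ξ => α ξ * ((f.residueDegree ((f ≫ b).fiberι _ ξ) : ℤ) *
      Cyc.divFun (δX b) (b.fiberι _ (fη ξ)) (Div.φ b ϖ (b.fiberι _ (fη ξ))) y')))
  obtain ⟨ξ₀, hξ₀, rfl⟩ := Finset.mem_image.1 hη'
  by_cases hsp : b.fiberι _ (fη ξ₀) ⤳ y'
  · rw [Push.map_apply, finsum_mem_eq_sum_of_subset (s := ⇑fη ⁻¹' {fη ξ₀}) _ (t := A'.filter fun ξ => fη ξ = fη ξ₀)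
      (fun ξ hξ => ?_) (fun ξ hξ => (Finset.mem_filter.1 (Finset.mem_coe.1 hξ)).2), Finset.sum_mul]
    · refine Finset.sum_congr rfl fun ξ hξ => ?_
      obtain ⟨h1, h2⟩ := Finset.mem_filter.1 hξ
      obtain ⟨h3, h4⟩ := Finset.mem_filter.1 h1
      rw [hcoeff ξ (hAr ξ h3) h4, h2]
      ring
    · have h1 : fη ξ = fη ξ₀ := hξ.1
      refine Finset.mem_filter.2 ⟨Finset.mem_filter.2 ⟨(hAmem ξ).2 ⟨left_ne_zero_of_mul hξ.2, ?_⟩, ?_⟩, h1⟩
      · rw [← Pull.fiberι_apply, show Pull.fibMap f b _ ξ = fη ξ₀ from h1]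
        exact hsp
      · rw [h1]; exact (Finset.mem_filter.1 hξ₀).2
  · exact absurd ((Pull.fiberι_apply f b _ ξ₀).symm ▸ ((hAmem ξ₀).1 (Finset.mem_filter.1 hξ₀).1).2) hsp

end Groth.Agent.S1912
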