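import Groth.Statements.S19120
import Groth.Agent.H14.UB.Tame
import Groth.Agent.Lib.Gerbe.Coarse

set_option autoImplicit false
universe u
open CategoryTheory AlgebraicGeometry
open StMod

namespace Groth.Agent.S19120

/-- Let `S` be a quasi-separated scheme, `𝒳` an algebraic stack over `(Sch/S)` for the fppf topology,
`M` an algebraic space over `S` that is quasi-separated and locally separated over `S` (diagonal an
immersion), and `π : 𝒳 ⟶ M` a quasi-compact quasi-separated tame moduli space: a good moduli space
such that for every algebraically closed field `Ω` and every `Spec Ω ⟶ S`, `π` induces a bijection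
between isomorphism classes of objects of `𝒳` over `Spec Ω` and sections of `M` over `Spec Ω`. Then
`M` is separated over `S` if and only if the image of the diagonal `|𝒳| → |𝒳 ×_S 𝒳|` (on spaces of
points, the 2-fibre product taken over `(Sch/S)`) is closed. Here a good moduli space is a
quasi-compact quasi-separated morphism to an algebraic space along which pushforward takes
surjections of quasi-coherent modules to maps surjective on sections over every affine scheme etale
over the target (cohomological affineness), and for which the canonical map from the functions on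
any scheme etale over the target to the sections of the pushforward of the structure sheaf is
bijective. (Standing conventions of the source: all schemes and algebraic spaces are quasi-separated
and all stacks have quasi-compact separated diagonal; this row carries instead the
quasi-separatedness of `M` over a quasi-separated base scheme and of `π`, which is what the
arguments use.) -/
theorem result
    (S : Scheme.{u}) [QuasiSeparatedSpace S]
    (𝒳 : AlgSt.Cat S) (h𝒳 : AlgSt.IsAlgStack Scheme.fppfPrecoverage 𝒳)
    (M : AlgSp.Space S) (hM : AlgSp.IsQuasiSeparatedSp M.obj) (π : 𝒳 ⥤ᵇ AlgSt.ofSp M.obj)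
    (hqc : AlgSt.IsQuasiCompactMor Scheme.fppfPrecoverage π) (hqs : AlgSt.IsQuasiSeparatedMor π)
    (h : StMod.IsGoodModuli π)
    (ht : AlgSt.GeomPtBij π) (hls : AlgSp.IsLocallySeparatedSp M.obj) :
    AlgSp.IsSeparatedSp M.obj ↔
      IsClosed (Set.range (AlgSt.Points.map (FibCat.diag (FibCat.toSelf 𝒳)))) := by
  have hM' := Groth.Agent.H14.CohBC.compactPullbacks_of_isQuasiSeparatedSp hM
  have hMs := Groth.Agent.Lib.AlgStack.IsAlg.isAlgStack_ofSp M
  have hd : AlgSt.IsSurjective (FibCat.diag π) := by
    refine (Groth.Agent.H14.Chart.UnivInj.geomPts_iff h𝒳 hMs π).2 fun k _ _ s a₁ a₂ h₁ h₂ β hβ => ?_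
    obtain ⟨e⟩ := (ht k s).2 ⟨a₁, h₁⟩ ⟨a₂, h₂⟩ (Groth.Agent.Lib.Gerbe.Coarse.fibSec_eq ⟨a₁, h₁⟩ ⟨a₂, h₂⟩ β hβ)
    have he : 𝒳.p.IsHomLift (𝟙 (Over.mk s)) e.hom.1 := e.hom.2
    have := BasedFunctor.preserves_isHomLift π (𝟙 (Over.mk s)) e.hom.1
    exact ⟨e.hom.1, he, Groth.Agent.H14.UB.sp_eq_of_lift (𝟙 (Over.mk s)) _ _⟩
  have hP := Groth.Agent.H14.UB.prodMap_closed_surjective h𝒳
    (Groth.Agent.H14.UB.isUnivClosed_goodModuli h𝒳 hM' hqc hqs h)
    (Groth.Agent.H14.UB.isSurjective_goodModuli h𝒳 hM' hqc hqs h)
  have hc : Continuous (AlgSt.Points.map (Groth.Agent.Lib.AlgStack.Prod.prodMap π π)) :=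
    Groth.Agent.H14.Chart.Basic.continuous_map (Groth.Agent.H14.UB.isAlgStack_prod hMs) _
  rw [Groth.Agent.H14.UB.isSeparatedSp_iff_isClosed_range hls,
    ← Groth.Agent.H14.UB.preimage_range_diag h𝒳 hd]
  refine ⟨fun hcl => hcl.preimage hc, fun hcl => ?_⟩
  have h' := hP.1 _ hcl
  rwa [Set.image_preimage_eq _ hP.2] at h'

end Groth.Agent.S19120
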