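import Groth.Statements.S19121
import Groth.Agent.H14.BGRes.Up
import Groth.Agent.H14.BGRes.QC
-- import your own Groth.Agent.* helpers here

set_option autoImplicit false
universe u
open CategoryTheory AlgebraicGeometry MonoidalCategory
open StMod

namespace Groth.Agent.S19121

/-- In the case of an affine group scheme, let `f : S' ⟶ S` be a morphism of quasi-separated schemes and
`G` an affine, flat, locally finitely presented group scheme over `S` that is linearly reductive,
i.e. the structure functor `σ` of its classifying stack `BG` (fppf `G`-torsors in schemes) to
`(Sch/S)` is quasi-compact, quasi-separated and cohomologically affine. Then `G ×_S S'` is linearly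
reductive over `S'`: every structure functor of `B(G ×_S S')` to `(Sch/S')` is cohomologically
affine and quasi-compact. Here an affine flat finitely presented group scheme G over a base is
called linearly reductive when the structure functor of its classifying stack BG (fppf G-torsors in
schemes) to the base is cohomologically affine: quasi-compact, quasi-separated, and pushforward
along it takes surjections of quasi-coherent modules to maps surjective on sections over every
affine scheme etale over the base. (The printed statement allows any faithfully flat, finitely
presented, separated group scheme; the group is taken affine here, the case in which scheme torsors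
form the whole classifying stack.) -/
theorem result
    (S S' : Scheme.{u}) [QuasiSeparatedSpace S] [QuasiSeparatedSpace S'] (f : S' ⟶ S)
    (G : Over S) [GrpObj G] [IsAffineHom G.hom] [Flat G.hom] [LocallyOfFinitePresentation G.hom]
    (σ : AlgSt.BG Scheme.fppfPrecoverage G ⥤ᵇ AlgSt.ofSch (Over.mk (𝟙 S)))
    (hqc : AlgSt.IsQuasiCompactMor Scheme.fppfPrecoverage σ) (hqs : AlgSt.IsQuasiSeparatedMor σ)
    (h : StMod.IsCohAffine σ)
    (σ' : AlgSt.BG Scheme.fppfPrecoverage (Red.bc f G) ⥤ᵇ AlgSt.ofSch (Over.mk (𝟙 S'))) :
    StMod.IsCohAffine σ' ∧ AlgSt.IsQuasiCompactMor Scheme.fppfPrecoverage σ' := by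
  haveI : IsAffineHom (Red.bc f G).hom := MorphismProperty.pullback_snd (P := @IsAffineHom) G.hom f inferInstance
  haveI : Flat (Red.bc f G).hom := MorphismProperty.pullback_snd (P := @Flat) G.hom f inferInstance
  haveI : LocallyOfFinitePresentation (Red.bc f G).hom :=
    MorphismProperty.pullback_snd (P := @LocallyOfFinitePresentation) G.hom f inferInstance
  exact ⟨Groth.Agent.H14.BGRes.isCohAffine_bc_of σ hqc hqs h σ',
    Groth.Agent.H14.BGRes.isQuasiCompactMor_structure σ'⟩

end Groth.Agent.S19121
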