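import Groth.Statements.S19122
import Groth.Agent.H14.BGRes.Descent
-- import your own Groth.Agent.* helpers here

set_option autoImplicit false
universe u
open CategoryTheory AlgebraicGeometry MonoidalCategory
open StMod

namespace Groth.Agent.S19122

/-- In the case of an affine group scheme, let `f : S' ⟶ S` be a faithfully flat morphism (flat and
surjective) of quasi-separated schemes and `G` an affine, flat, locally finitely presented group
scheme over `S`. If `G ×_S S'` is linearly reductive over `S'` — the structure functor `σ'` of `B(G
×_S S')` to `(Sch/S')` is quasi-compact, quasi-separated and cohomologically affine — and the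
structure functor `σ` of `BG` to `(Sch/S)` is quasi-compact and quasi-separated, then `G` is
linearly reductive: `σ` is cohomologically affine. Here an affine flat finitely presented group
scheme G over a base is called linearly reductive when the structure functor of its classifying
stack BG (fppf G-torsors in schemes) to the base is cohomologically affine: quasi-compact,
quasi-separated, and pushforward along it takes surjections of quasi-coherent modules to maps
surjective on sections over every affine scheme etale over the base. (The printed statement allows
any faithfully flat, finitely presented, separated group scheme; the group is taken affine here, and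
quasi-compactness and quasi-separatedness of `σ` are assumed rather than concluded.) -/
theorem result
    (S S' : Scheme.{u}) [QuasiSeparatedSpace S] [QuasiSeparatedSpace S'] (f : S' ⟶ S)
    [Flat f] [Surjective f]
    (G : Over S) [GrpObj G] [IsAffineHom G.hom] [Flat G.hom] [LocallyOfFinitePresentation G.hom]
    (σ' : AlgSt.BG Scheme.fppfPrecoverage (Red.bc f G) ⥤ᵇ AlgSt.ofSch (Over.mk (𝟙 S')))
    (hqc' : AlgSt.IsQuasiCompactMor Scheme.fppfPrecoverage σ') (hqs' : AlgSt.IsQuasiSeparatedMor σ')
    (h' : StMod.IsCohAffine σ')
    (σ : AlgSt.BG Scheme.fppfPrecoverage G ⥤ᵇ AlgSt.ofSch (Over.mk (𝟙 S)))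
    (hqc : AlgSt.IsQuasiCompactMor Scheme.fppfPrecoverage σ) (hqs : AlgSt.IsQuasiSeparatedMor σ) :
    StMod.IsCohAffine σ := by
  exact Groth.Agent.H14.BGRes.isCohAffine_of_bc σ σ' h'

end Groth.Agent.S19122
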