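import Groth.Statements.S19127
import Groth.Agent.H24.FrobNilp.Reduce

set_option autoImplicit false
universe u v
open FrobAlg

namespace Groth.Agent.S19127

/-- Let p be a prime, A a Noetherian local ring of characteristic p with maximal ideal m, and M an
A-module which is cofinite, meaning that every element of M is annihilated by some power of m and
that the socle of M (the elements annihilated by m) is a finitely generated A-module. Let φ : M → M
be an additive map that is semilinear for the Frobenius of A, φ(a x) = a^p φ(x). If φ is locally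
nilpotent, i.e. every element of M is annihilated by some iterate of φ, then φ is nilpotent: one
iterate of φ is zero on all of M. -/
theorem result
    (p : ℕ) [Fact p.Prime] (A : Type u) [CommRing A] [IsNoetherianRing A] [IsLocalRing A] [CharP A p]
    (M : Type v) [AddCommGroup M] [Module A M]
    (htors : LocCoh.IsPowerTorsion (IsLocalRing.maximalIdeal A) M)
    (hsoc : Module.Finite A ↥(LocCoh.torsionBy (IsLocalRing.maximalIdeal A) M))
    (φ : M →ₛₗ[frobenius A p] M)
    (hloc : ∀ x : M, ∃ n : ℕ, (⇑φ)^[n] x = 0) :
    ∃ n : ℕ, ∀ x : M, (⇑φ)^[n] x = 0 := by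
  classical
  have hp : 2 ≤ p := (Fact.out : p.Prime).two_le
  haveI : IsArtinian A M := H24.FrobNilp.of_cofinite htors hsoc
  -- move to a common universe
  let A' : Type max u v := ULift.{v} A
  haveI : IsNoetherianRing A' := isNoetherianRing_of_ringEquiv A ULift.ringEquiv.symm
  haveI : IsLocalRing A' := RingEquiv.isLocalRing (A := A) ULift.ringEquiv.symm
  haveI : IsArtinian A' (ULift.{u} M) := by
    haveI : IsArtinian A (ULift.{u} M) := (LinearEquiv.isArtinian_iff ULift.moduleEquiv).2 inferInstance
    exact isArtinian_of_tower A (inferInstance : IsArtinian A (ULift.{u} M))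
  let ψ : ULift.{u} M →+ ULift.{u} M :=
    AddEquiv.ulift.symm.toAddMonoidHom.comp (φ.toAddMonoidHom.comp AddEquiv.ulift.toAddMonoidHom)
  have hit : ∀ (n : ℕ) (x : ULift.{u} M), ((⇑ψ)^[n] x).down = (⇑φ)^[n] x.down := fun n => by
    induction n with
    | zero => exact fun x => rfl
    | succ n ih =>
      intro x
      rw [Function.iterate_succ_apply', Function.iterate_succ_apply', ← ih]
      rfl
  have hsm : ∀ (a : A') (x : ULift.{u} M), ψ (a • x) = a ^ p • ψ x := fun a x => by
    refine ULift.ext _ _ ?_
    show φ (a.down • x.down) = (a ^ p).down • φ x.down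
    rw [LinearMap.map_smulₛₗ φ, frobenius_def]
    rfl
  obtain ⟨n, hn⟩ := H24.FrobNilp.of_isArtinian (A := A') p hp ψ hsm
    (fun x => by
      obtain ⟨n, hn⟩ := hloc x.down
      exact ⟨n, ULift.ext _ _ ((hit n x).trans hn)⟩)
  exact ⟨n, fun x => by rw [← hit n ⟨x⟩, hn ⟨x⟩]; rfl⟩

end Groth.Agent.S19127
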