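import Groth.Statements.S19128
import Groth.Agent.H91.EtASDepth.Main
-- import your own Groth.Agent.* helpers here

set_option autoImplicit false
universe u
open CategoryTheory CategoryTheory.Limits AlgebraicGeometry Opposite
open EtDual

namespace Groth.Agent.S19128

/-- Let p be a prime and R a Noetherian local ring of characteristic p which is strictly henselian
(henselian with separably closed residue field) and Cohen–Macaulay, of Krull dimension d; let Y =
Spec R with closed point y and punctured spectrum U = Y - {y}. Then the local cohomology groups
H^i_y(Y_et, Z/p) of the constant étale sheaf Z/p with support in the closed point (right derived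
functors of sections vanishing on U) are zero for every i < d. -/
theorem result
    (p : ℕ) [Fact p.Prime] (R : Type u) [CommRing R] [LocCoh.IsCohenMacaulayLocalRing R]
    [HenselianLocalRing R] [IsSepClosed (IsLocalRing.ResidueField R)] [CharP R p]
    (i : ℕ) (hi : (i : WithBot ℕ∞) < ringKrullDim R) :
    IsZero ((EtDual.HY (FEt.puncturedSpec R).ι i).obj (EtCoh.const (Spec (CommRingCat.of R)) (ZMod p))) := by
  have hd : ((i + 1 : ℕ) : ℕ∞) ≤ LocCoh.depth R R := by
    rw [← Module.supportDim_self_eq_ringKrullDim, LocCoh.IsCohenMacaulayLocalRing.supportDim_eq_depth] at hi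
    have h : (i : ℕ∞) < LocCoh.depth R R := WithBot.coe_lt_coe.1 hi
    exact Order.add_one_le_of_lt h
  exact Groth.Agent.H91.EtASDepth.isZero_HY_punctured p R i hd

end Groth.Agent.S19128
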