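import Groth.Statements.S1913
import Groth.Agent.H19.IntMult.DiagChi

set_option autoImplicit false
universe u
open CategoryTheory AlgebraicGeometry
attribute [local instance] HasDerivedCategory.standard
open CategoryTheory.Limits
open IntMult

namespace Groth.Agent.S1913

open Groth.Agent.Lib

theorem chi_ideal_congr {A : Type u} [CommRing A] {P P' Q Q' : Ideal A} (hP : P = P') (hQ : Q = Q') :
    IntMult.chi A (A ⧸ Q) (A ⧸ P) = IntMult.chi A (A ⧸ Q') (A ⧸ P') := by
  subst hP; subst hQ; rfl

theorem retraction {X P : Scheme.{u}} (d : X ⟶ P) (p : P ⟶ X) (h : d ≫ p = 𝟙 X) (ξ : X) (h' : p (d ξ) = ξ) :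
    (d.stalkMap ξ).hom.comp ((p.stalkMap (d ξ)).hom.comp (X.presheaf.stalkCongr (.of_eq h'.symm)).hom.hom) =
      RingHom.id _ := by
  have e := Scheme.Hom.stalkMap_congr_hom (d ≫ p) (𝟙 X) h ξ
  rw [Scheme.Hom.stalkMap_comp, Scheme.Hom.stalkMap_id] at e
  rw [← CommRingCat.hom_comp, ← CommRingCat.hom_comp, Category.assoc, e, ← CommRingCat.hom_id]
  congr 1
  simp

theorem stalkIdeal_comap_eq {X P : Scheme.{u}} (p : P ⟶ X) (I : X.IdealSheafData) (z : P) {ξ : X} (h : p z = ξ) :
    IntMult.stalkIdeal (I.comap p) z = (IntMult.stalkIdeal I ξ).map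
      ((p.stalkMap z).hom.comp (X.presheaf.stalkCongr (.of_eq h.symm)).hom.hom) := by
  refine (CartierDescent.stalkIdeal_comap p I z).trans ?_
  rw [← Ideal.map_map]
  congr 1
  exact (ModelFibre.StalkIdeal.map_stalkSpecializes I (specializes_of_eq h)).symm

theorem flat_quot {X P C : Scheme.{u}} (j : C ⟶ P) [IsClosedImmersion j] (p : P ⟶ X) [Flat (j ≫ p)] (z : P)
    (hz : z ∈ Set.range j) :
    ((Ideal.Quotient.mk (IntMult.stalkIdeal j.ker z)).comp (p.stalkMap z).hom).Flat := by
  obtain ⟨c, rfl⟩ := hz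
  rw [Groth.Agent.H19.IntMult.DiagChi.stalkIdeal_ker_closed]
  let e := RingHom.quotientKerEquivOfSurjective (f := (j.stalkMap c).hom) (j.stalkMap_surjective c)
  have h : ((j.stalkMap c).hom.comp (p.stalkMap (j c)).hom).Flat := by
    have h' := Flat.stalkMap (j ≫ p) c
    rw [Scheme.Hom.stalkMap_comp] at h'
    exact h'
  have he : (Ideal.Quotient.mk (RingHom.ker (j.stalkMap c).hom)).comp (p.stalkMap (j c)).hom =
      e.symm.toRingHom.comp ((j.stalkMap c).hom.comp (p.stalkMap (j c)).hom) :=
    RingHom.ext fun x => (e.symm_apply_eq.mpr rfl).symm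
  rw [he]
  exact h.comp (RingHom.Flat.of_bijective e.symm.bijective)


/-- Reduction to the diagonal for intersection multiplicities, coefficientwise: e(X, V·W, Z) = e(X × X,
Δ·(V × W), Δ(Z)), where X × X is the product over K, Δ its diagonal (a closed immersion, X being
separated) and V × W ⊆ X × X the product closed subscheme. Here X is a nonsingular variety over an
algebraically closed field K (smooth, separated, of finite type, integral), V and W are closed
subvarieties given by quasi-coherent ideal sheaves with integral subschemes, of dimensions r and s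
with dim X = n, intersecting properly, and ξ is the generic point of an irreducible component Z of V
∩ W; e(X, V·W, Z) is the alternating sum of lengths of Tor over 𝒪_{X,ξ}. -/
theorem result (K : Type u) [Field K] [IsAlgClosed K] (X : Scheme.{u}) (f : X ⟶ Spec (CommRingCat.of K)) [Smooth f] [IsSeparated f] [QuasiCompact f] [IsIntegral X] (IV IW : X.IdealSheafData) [IsIntegral IV.subscheme] [IsIntegral IW.subscheme] (n r s : ℕ) (hn : topologicalKrullDim X = n) (hr : topologicalKrullDim IV.support = r) (hs : topologicalKrullDim IW.support = s) (hprop : IntMult.ProperInt (IV.support : Set X) (IW.support : Set X) n r s) (ξ : X) (hξV : ξ ∈ IV.support) (hξW : ξ ∈ IW.support) (hmax : ∀ ξ' : X, ξ' ∈ IV.support → ξ' ∈ IW.support → ξ' ⤳ ξ → ξ' = ξ) : IntMult.mult IV IW ξ = IntMult.mult (pullback.map (IV.subschemeι ≫ f) (IW.subschemeι ≫ f) f f IV.subschemeι IW.subschemeι (𝟙 _) (Category.comp_id _) (Category.comp_id _)).ker (pullback.diagonal f).ker (pullback.diagonal f ξ) := by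
  let z := pullback.diagonal f ξ
  let D := (pullback f f).presheaf.stalk z
  have h₁ : pullback.fst f f z = ξ := by
    show (pullback.diagonal f ≫ pullback.fst f f) ξ = ξ
    rw [pullback.diagonal_fst]
    rfl
  have h₂ : pullback.snd f f z = ξ := by
    show (pullback.diagonal f ≫ pullback.snd f f) ξ = ξ
    rw [pullback.diagonal_snd]
    rfl
  let e₁ := (X.presheaf.stalkCongr (.of_eq h₁.symm)).hom
  let e₂ := (X.presheaf.stalkCongr (.of_eq h₂.symm)).hom
  let φ : X.presheaf.stalk ξ →+* D := ((pullback.fst f f).stalkMap z).hom.comp e₁.hom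
  let φ₂ : X.presheaf.stalk ξ →+* D := ((pullback.snd f f).stalkMap z).hom.comp e₂.hom
  let ν : D →+* X.presheaf.stalk ξ := ((pullback.diagonal f).stalkMap ξ).hom
  have hν₁ : ν.comp φ = RingHom.id _ := retraction (pullback.diagonal f) (pullback.fst f f) (pullback.diagonal_fst f) ξ h₁
  have hν₂ : ν.comp φ₂ = RingHom.id _ := retraction (pullback.diagonal f) (pullback.snd f f) (pullback.diagonal_snd f) ξ h₂
  have hQ : IntMult.stalkIdeal (IW.comap (pullback.snd f f)) z = (IntMult.stalkIdeal IW ξ).map φ₂ :=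
    stalkIdeal_comap_eq (pullback.snd f f) IW z h₂
  have hflat₂ : φ₂.Flat := (RingHom.Flat.of_bijective (ConcreteCategory.bijective_of_isIso e₂)).comp
    (Flat.stalkMap (pullback.snd f f) z)
  haveI : Flat ((IW.comap (pullback.snd f f)).subschemeι ≫ pullback.fst f f) := by
    rw [← Scheme.IdealSheafData.comapIso_hom_fst, Category.assoc, ← pullbackLeftPullbackSndIso_hom_fst]
    infer_instance
  have hz : z ∈ Set.range (IW.comap (pullback.snd f f)).subschemeι := by
    rw [Scheme.IdealSheafData.range_subschemeι, Scheme.IdealSheafData.support_comap]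
    show pullback.snd f f z ∈ IW.support
    rw [h₂]
    exact hξW
  have hflat : ((Ideal.Quotient.mk ((IntMult.stalkIdeal IW ξ).map φ₂)).comp φ).Flat := by
    rw [← hQ]
    have h := flat_quot (IW.comap (pullback.snd f f)).subschemeι (pullback.fst f f) z hz
    rw [Scheme.IdealSheafData.ker_subschemeι] at h
    exact (RingHom.Flat.of_bijective (ConcreteCategory.bijective_of_isIso e₁)).comp h
  refine (Groth.Agent.H19.IntMult.DiagChi.chi_diag φ φ₂ ν hν₁ hν₂ hflat₂ (IntMult.stalkIdeal IV ξ)
    (IntMult.stalkIdeal IW ξ) hflat).symm.trans (chi_ideal_congr ?_ ?_)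
  · rw [Groth.Agent.H19.IntMult.DiagChi.ker_map_eq, ← hQ, ← stalkIdeal_comap_eq (pullback.fst f f) IV z h₁]
    exact (Groth.Agent.Lib.SurfInt.Stalk.stalkIdeal_sup _ _ z).symm
  · exact (Groth.Agent.H19.IntMult.DiagChi.stalkIdeal_ker_closed (pullback.diagonal f) ξ).symm


end Groth.Agent.S1913
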