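import Groth.Statements.S19130
import Groth.Agent.H61.GenPt.ConstClosedField
import Groth.Agent.Lib.FEt.NormalCover

set_option autoImplicit false
universe u
open CategoryTheory CategoryTheory.Limits AlgebraicGeometry Opposite
open EtCoh

namespace Groth.Agent.S19130

/-- Let p be a prime and Y an integral scheme which is normal (every local ring is integrally closed in
its fraction field) and whose function field is algebraically closed. Then the étale cohomology of
the constant sheaf Z/p on Y is Z/p in degree 0 and vanishes in positive degrees: H^0(Y_et, Z/p) has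
exactly p elements and H^i(Y_et, Z/p) = 0 for i > 0. Moreover, for every nonempty open subscheme j :
U → Y, the unit morphism from the constant sheaf Z/p on Y_et to j_* of its restriction to U is an
isomorphism. -/
theorem result
    (p : ℕ) [Fact p.Prime] (Y : Scheme.{u}) [IsIntegral Y]
    (hnorm : ∀ y : Y, IsIntegrallyClosed (Y.presheaf.stalk y)) [IsAlgClosed Y.functionField] :
    Nat.card (EtCoh.H Y (EtCoh.const Y (ZMod p)) 0) = p ∧
      (∀ i : ℕ, 0 < i → Subsingleton (EtCoh.H Y (EtCoh.const Y (ZMod p)) i)) ∧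
      ∀ U : Y.Opens, (U : Set Y).Nonempty →
        IsIso ((EtCoh.pullPushAdj U.ι).unit.app (EtCoh.const Y (ZMod p))) := by
  let K : Type u := Y.presheaf.stalk (genericPoint Y)
  letI : Field K := inferInstanceAs (Field Y.functionField)
  haveI : IsAlgClosed K := inferInstanceAs (IsAlgClosed Y.functionField)
  let η : Spec (CommRingCat.of K) ⟶ Y := Y.fromSpecStalk (genericPoint Y)
  haveI : IsPreimmersion η := inferInstanceAs (IsPreimmersion (Y.fromSpecStalk _))
  have hη : ∀ t, η.base t = genericPoint Y := fun t => by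
    rw [Subsingleton.elim t (IsLocalRing.closedPoint K)]
    exact Scheme.fromSpecStalk_closedPoint
  have hY : Pi1.IsNormalScheme Y := fun y => ⟨inferInstance, hnorm y⟩
  haveI hu : IsIso ((EtCoh.pullPushAdj η).unit.app (EtCoh.const Y (ZMod p))) :=
    H61.GenPt.isIso_unit_const η (ZMod p) hY fun y hy =>
      ⟨IsLocalRing.closedPoint K, (hη _).trans (hy _ (genericPoint_specializes y))⟩
  let ι : EtCoh.const Y (ZMod p) ≅ (EtCoh.push η).obj (EtCoh.const _ (ZMod p)) :=
    @asIso _ _ _ _ ((EtCoh.pullPushAdj η).unit.app (EtCoh.const Y (ZMod p))) hu ≪≫ (EtCoh.push η).mapIso (EtCore.pullConst η (ZMod p))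
  refine ⟨?_, fun i hi => ?_, fun U hU => ?_⟩
  · exact ((Nat.card_congr (Sheaf.H.equiv₀ (EtCoh.const Y (ZMod p)) (EtCore.topIsTerminal Y)).toEquiv).trans
      (Nat.card_congr (((EtCore.gsec Y).mapIso ι ≪≫
        (EtCore.pushGsecIso η).app _).addCommGroupIsoToAddEquiv.toEquiv))).trans
      ((H61.GenPt.card_gsec_const (K := K) (ZMod p)).trans (Nat.card_zmod p))
  · obtain ⟨n, rfl⟩ := Nat.exists_eq_succ_of_ne_zero hi.ne'
    haveI := H61.GenPt.H_push_subsingleton η n (EtCoh.const _ (ZMod p))
    refine subsingleton_of_forall_eq 0 fun x => ?_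
    rw [← Sheaf.H.map_id_apply x, ← ι.hom_inv_id, Sheaf.H.map_comp_apply,
      Subsingleton.elim (α := EtCoh.H Y ((EtCoh.push η).obj (EtCoh.const _ (ZMod p))) (n + 1))
        (Sheaf.H.map ι.hom (n + 1) x) 0]
    exact map_zero _
  · have hg : genericPoint Y ∈ U := (genericPoint_spec Y).mem_open_set_iff U.isOpen |>.mpr (by simpa using hU)
    let ηU : Spec (CommRingCat.of K) ⟶ U.toScheme := IsOpenImmersion.lift U.ι η (by
      rintro _ ⟨t, rfl⟩
      rw [hη, Scheme.Opens.range_ι]
      exact hg)
    have hfac : ηU ≫ U.ι = η := IsOpenImmersion.lift_fac _ _ _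
    haveI : IsPreimmersion (ηU ≫ U.ι) := hfac ▸ inferInstanceAs (IsPreimmersion η)
    haveI : IsPreimmersion ηU := IsPreimmersion.of_comp ηU U.ι
    haveI : IsIso ((EtCoh.pullPushAdj ηU).unit.app (EtCoh.const U.toScheme (ZMod p))) :=
      H61.GenPt.isIso_unit_const ηU (ZMod p) (Groth.Agent.Lib.FEt.NormalCover.isNormalScheme_of_etale hY U.ι)
        fun y hy => by
          refine ⟨IsLocalRing.closedPoint K, ?_⟩
          refine hy _ (Topology.IsInducing.specializes_iff U.ι.isOpenEmbedding.isInducing |>.1 ?_)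
          rw [← Scheme.Hom.comp_apply, hfac]
          exact (hη _).symm ▸ genericPoint_specializes _
    exact H61.GenPt.isIso_unit_of_factor η (ZMod p) U.ι ηU hfac

end Groth.Agent.S19130
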