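import Groth.Statements.S19134
import Groth.Agent.Lib.DerComp.GMEquiv

set_option autoImplicit false
universe u
open CategoryTheory
attribute [local instance] HasDerivedCategory.standard
open Dual

set_option backward.isDefEq.respectTransparency false

namespace Groth.Agent.S19134

open Groth.Agent.Lib Groth.Agent.Lib.RGamma Groth.Agent.Lib.DR.DComp Groth.Agent.Lib.DerComp.GMEquiv

section

variable {A : Type u} [CommRing A] [IsLocalRing A] [IsNoetherianRing A]

/-- The dual of a finite module into the hull is Artinian, in any universe. -/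
theorem isArtinian_dual' {E : Type u} [AddCommGroup E] [Module A E]
    {f : IsLocalRing.ResidueField A →ₗ[A] E} (hf : InjHull.IsInjectiveHull f)
    (N : Type (u + 1)) [AddCommGroup N] [Module A N] [Module.Finite A N] :
    IsArtinian A (N →ₗ[A] E) := by
  obtain ⟨n, π, hπ⟩ := Module.Finite.exists_fin' A N
  have := InjHull.Matlis.isArtinian_dual hf.toIsEssentialInj ((Fin n → A) ⧸ LinearMap.ker π)
  exact isArtinian_of_linearEquiv
    (LinearEquiv.congrLeft E A (π.quotKerEquivOfSurjective hπ))

variable [IsAdicComplete (IsLocalRing.maximalIdeal A) A] [DRing.HasRgammaI (IsLocalRing.maximalIdeal A)]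
  [DRing.HasDerivedCompletion (IsLocalRing.maximalIdeal A)] {ω : Dual.D A} (hω : Dual.IsDualizing A ω)
  (hn : Dual.IsNormalized A ω)

include hω hn

theorem finite_part (M : Dual.D A) (hfin : ∀ i : ℤ, Module.Finite A (Dual.HD A M i))
    (a b : ℤ) (hab : ∀ i : ℤ, (i < a ∨ b < i) → Subsingleton (Dual.HD A M i)) :
    (∃ c d : ℤ, ∀ i : ℤ, (i < c ∨ d < i) →
      Subsingleton (Dual.HD A ((DRing.RgammaI (IsLocalRing.maximalIdeal A)).obj M) i)) ∧
    ∀ i : ℤ, IsArtinian A (Dual.HD A ((DRing.RgammaI (IsLocalRing.maximalIdeal A)).obj M) i) := by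
  obtain ⟨E, _, _, f, hf⟩ :=
    Groth.Agent.Lib.InjHull.Basic.exists_hull (R := A) (IsLocalRing.ResidueField A)
  obtain ⟨c, d, hcd⟩ := exists_dual_range hω M a b hab
  have hHD : ∀ i, Nonempty (Dual.HD A ((DRing.RgammaI (IsLocalRing.maximalIdeal A)).obj M) i ≃ₗ[A]
      ((M ⟶ ω⟦(-i)⟧) →ₗ[A] E)) := fun i => by
    obtain ⟨e₁⟩ := nonempty_HD_RgammaI_equiv (IsLocalRing.maximalIdeal A) M i
    obtain ⟨e₂⟩ := DMod.LocalDuality.nonempty_hdi_equiv hω hn hf M hfin a b hab i
    exact ⟨e₁.trans e₂⟩
  refine ⟨⟨-d, -c, fun i hi => ?_⟩, fun i => ?_⟩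
  · obtain ⟨e⟩ := hHD i
    have := hcd (-i) (by omega)
    exact e.toEquiv.subsingleton
  · obtain ⟨e⟩ := hHD i
    have := finite_hom_dualizing hω M a b hab hfin (-i)
    have := isArtinian_dual' hf (M ⟶ ω⟦(-i)⟧)
    exact isArtinian_of_linearEquiv e.symm

theorem finite_completion (K : Dual.D A) (a b : ℤ)
    (hab : ∀ i : ℤ, (i < a ∨ b < i) → Subsingleton (Dual.HD A K i))
    (hK : ∀ i : ℤ, IsArtinian A (Dual.HD A K i)) : FinCompl (IsLocalRing.maximalIdeal A) K := by
  obtain ⟨E, _, _, f, hf⟩ :=
    Groth.Agent.Lib.InjHull.Basic.exists_hull (R := A) (IsLocalRing.ResidueField A)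
  exact DMod.Devissage.bounded_induction (fun M _ _ => IsArtinian A M)
    (fun M N _ _ _ _ e h => by exact isArtinian_of_linearEquiv e)
    (fun M _ _ h => by exact inferInstance)
    (FinCompl _) (fun _ _ e h => finCompl_of_iso _ e h)
    (fun T hT h₁ h₃ => finCompl_obj₂ _ T hT h₁ h₃)
    (fun N _ _ n h => by
      have : IsArtinian A N := h
      exact finCompl_shift _ (finCompl_of_isArtinian hω hn hf N) n)
    K a b hab hK

theorem hom_completion (N : Type u) [AddCommGroup N] [Module A N]
    (hNt : LocCoh.IsPowerTorsion (IsLocalRing.maximalIdeal A) N) (i : ℤ) (hi : i ≠ 0) :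
    Subsingleton (Dual.inD A N ⟶ ω⟦i⟧) := by
  obtain ⟨E, _, _, f, hf⟩ :=
    Groth.Agent.Lib.InjHull.Basic.exists_hull (R := A) (IsLocalRing.ResidueField A)
  obtain ⟨eω⟩ := DR.LocalDualityCompletion.nonempty_RgammaI_dualizing hω hn E f hf
  have hT : ∀ j, LocCoh.IsPowerTorsion (IsLocalRing.maximalIdeal A)
      (Dual.HD A ((Dual.inD A N)⟦-i⟧) j) := fun j x => by
    by_cases hj : -i + j = 0
    · let e' := (DMod.Basic.HDShift (Dual.inD A N) (-i) j 0 hj).trans (DMod.Basic.HDinD (A := A) N)
      obtain ⟨n, hn⟩ := hNt (e' x)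
      exact ⟨n, fun r hr => e'.injective (by rw [map_smul, map_zero]; exact hn r hr)⟩
    · let e := DMod.Basic.HDShift (Dual.inD A N) (-i) j (-i + j) rfl
      have := DMod.Basic.subsingleton_HD_inD (A := A) N hj
      exact ⟨0, fun r _ => e.injective (Subsingleton.elim _ _)⟩
  have hExt : Subsingleton (Dual.inD A N ⟶ (Dual.inD A E)⟦i⟧) := by
    rcases lt_or_gt_of_ne hi with h | h
    · exact DMod.Basic.subsingleton_hom_inD_neg N E h
    · obtain ⟨n, rfl⟩ : ∃ n : ℕ, ((n + 1 : ℕ) : ℤ) = i := ⟨(i - 1).toNat, by omega⟩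
      have := hf.isInjective
      have : CategoryTheory.Injective (ModuleCat.of A E) :=
        Module.injective_object_of_injective_module A E
      have : Subsingleton (Abelian.Ext.{u} (ModuleCat.of A N) (ModuleCat.of A E) (n + 1)) :=
        subsingleton_of_forall_eq 0 Abelian.Ext.eq_zero_of_injective
      exact (DMod.Basic.extEquiv (A := A) N E (n + 1)).symm.toEquiv.subsingleton
  let e₀ (Y : Dual.D A) : ((Dual.inD A N)⟦-i⟧ ⟶ Y) ≃ₗ[A] (Dual.inD A N ⟶ Y⟦i⟧) :=
    (Linear.homCongr A (Iso.refl _) ((shiftFunctorZero (Dual.D A) ℤ).app Y).symm).trans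
      (DMod.Basic.homShiftAdj _ _ (-i) 0 i (by omega))
  have : Subsingleton ((Dual.inD A N)⟦-i⟧ ⟶ Dual.inD A E) := (e₀ _).toEquiv.subsingleton
  have : Subsingleton ((Dual.inD A N)⟦-i⟧ ⟶ (DRing.RgammaI (IsLocalRing.maximalIdeal A)).obj ω) :=
    (Linear.homCongr A (Iso.refl _) eω).toEquiv.subsingleton
  have : Subsingleton ((Dual.inD A N)⟦-i⟧ ⟶ ω) :=
    (Equiv.ofBijective _ (bijective_comp_ε (IsLocalRing.maximalIdeal A) ω hT)).symm.subsingleton
  exact (e₀ _).symm.toEquiv.subsingleton

end

/-- Let A be a Noetherian local ring with maximal ideal m which is m-adically complete, and ω a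
normalized dualizing complex over A (Hom(k, ω[i]) = 0 in D(A) for i ≠ 0); assume the total right
derived functor RΓ_m of the m-power-torsion functor and the derived m-adic completion functor (left
adjoint to the inclusion of derived complete objects, with unit K → K^) exist on D(A). Call an
A-module N cofinite when every element of N is killed by a power of m and the socle of N (the
elements killed by m) is finitely generated. Then RΓ_m and derived completion are mutually inverse
equivalences between the bounded complexes with finitely generated cohomology modules and the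
bounded complexes with cofinite cohomology modules, the comparison maps being the canonical ones:
(a) for M bounded with finitely generated cohomology, RΓ_m M is bounded, every H^i(RΓ_m M) is
cofinite, the derived completion of the canonical map RΓ_m M → M is an isomorphism, and the unit M →
M^ is an isomorphism; (b) for K bounded with cofinite cohomology modules, the derived completion K^
is bounded with finitely generated cohomology, RΓ_m applied to the unit K → K^ is an isomorphism,
and the canonical map RΓ_m K → K is an isomorphism; (c) for a cofinite module N, the derived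
completion of N placed in degree 0 is perverse coherent: Hom(N[0]^, ω[i]) = 0 for every i ≠ 0. (The
published proposition also asserts that these equivalences exchange the perverse t-structure,
defined by RHom(−, ω), with the standard one; that exactness is not part of this statement.) -/
theorem result
    (A : Type u) [CommRing A] [IsLocalRing A] [IsNoetherianRing A]
    [IsAdicComplete (IsLocalRing.maximalIdeal A) A]
    (ω : Dual.D A) (hω : Dual.IsDualizing A ω) (hn : Dual.IsNormalized A ω)
    [DRing.HasRgammaI (IsLocalRing.maximalIdeal A)] [DRing.HasDerivedCompletion (IsLocalRing.maximalIdeal A)] :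
    (∀ M : Dual.D A, (∀ i : ℤ, Module.Finite A (Dual.HD A M i)) →
      (∃ a b : ℤ, ∀ i : ℤ, (i < a ∨ b < i) → Subsingleton (Dual.HD A M i)) →
        (∃ a b : ℤ, ∀ i : ℤ, (i < a ∨ b < i) →
          Subsingleton (Dual.HD A ((DRing.RgammaI (IsLocalRing.maximalIdeal A)).obj M) i)) ∧
        (∀ i : ℤ, LocCoh.IsPowerTorsion (IsLocalRing.maximalIdeal A)
            (Dual.HD A ((DRing.RgammaI (IsLocalRing.maximalIdeal A)).obj M) i) ∧
          Module.Finite A ↥(LocCoh.torsionBy (IsLocalRing.maximalIdeal A)
            (Dual.HD A ((DRing.RgammaI (IsLocalRing.maximalIdeal A)).obj M) i))) ∧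
        IsIso ((DRing.derivedCompletion (IsLocalRing.maximalIdeal A)).map
          ((DRing.RgammaIε (IsLocalRing.maximalIdeal A)).app M)) ∧
        IsIso (DRing.toDerivedCompletion (IsLocalRing.maximalIdeal A) M)) ∧
    (∀ K : Dual.D A, (∃ a b : ℤ, ∀ i : ℤ, (i < a ∨ b < i) → Subsingleton (Dual.HD A K i)) →
      (∀ i : ℤ, LocCoh.IsPowerTorsion (IsLocalRing.maximalIdeal A) (Dual.HD A K i) ∧
        Module.Finite A ↥(LocCoh.torsionBy (IsLocalRing.maximalIdeal A) (Dual.HD A K i))) →
        (∀ i : ℤ, Module.Finite A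
          (Dual.HD A ((DRing.derivedCompletion (IsLocalRing.maximalIdeal A)).obj K).obj i)) ∧
        (∃ a b : ℤ, ∀ i : ℤ, (i < a ∨ b < i) → Subsingleton
          (Dual.HD A ((DRing.derivedCompletion (IsLocalRing.maximalIdeal A)).obj K).obj i)) ∧
        IsIso ((DRing.RgammaI (IsLocalRing.maximalIdeal A)).map
          (DRing.toDerivedCompletion (IsLocalRing.maximalIdeal A) K)) ∧
        IsIso ((DRing.RgammaIε (IsLocalRing.maximalIdeal A)).app K)) ∧
    (∀ (N : Type u) [AddCommGroup N] [Module A N],
      LocCoh.IsPowerTorsion (IsLocalRing.maximalIdeal A) N →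
      Module.Finite A ↥(LocCoh.torsionBy (IsLocalRing.maximalIdeal A) N) →
        ∀ i : ℤ, i ≠ 0 → Subsingleton
          (((DRing.derivedCompletion (IsLocalRing.maximalIdeal A)).obj (Dual.inD A N)).obj ⟶ ω⟦i⟧)) := by
  obtain ⟨s, hs⟩ := IsNoetherian.noetherian (IsLocalRing.maximalIdeal A)
  refine ⟨fun M hfin hb => ?_, fun K hb hcof => ?_, fun N _ _ hNt _ i hi => ?_⟩
  · obtain ⟨a, b, hab⟩ := hb
    obtain ⟨h₁, h₂⟩ := finite_part hω hn M hfin a b hab
    exact ⟨h₁, fun i => haveI := h₂ i; cofinite_of_isArtinian _,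
      isIso_completion_map_ε (I := (IsLocalRing.maximalIdeal A)) M,
      isIso_unit_of_complete _ M (isDerivedComplete_of_finite M hfin)⟩
  · obtain ⟨a, b, hab⟩ := hb
    exact ⟨finite_completion hω hn K a b hab fun i => isArtinian_of_cofinite _ (hcof i).1 (hcof i).2,
      ⟨a - s.card, b, fun i hi => subsingleton_HD_completion _ hs K i
        fun j h₁ h₂ => hab j (by omega)⟩,
      isIso_RgammaI_map_unit _ K, isIso_ε_of_torsion _ fun i => (hcof i).1⟩
  · have := hom_completion hω hn N hNt i hi
    exact (Equiv.ofBijective _ (pBij_toDerivedCompletion' (I := (IsLocalRing.maximalIdeal A))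
      (Dual.inD A N) (ω⟦i⟧) (isDerivedComplete_shift
        (isDerivedComplete_of_finite ω hω.finite_cohomology) i))).subsingleton

end Groth.Agent.S19134
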