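import Groth.Statements.S19135
import Groth.Agent.Lib.DMod.LocalDuality
import Groth.Agent.Lib.DMod.FlatDualizing
import Groth.Agent.Lib.RGamma.Derived
import Groth.Agent.Lib.InjHull.Matlis
import Groth.Agent.Lib.InjHull.Basic
import Mathlib.RingTheory.Finiteness.Small

set_option autoImplicit false
universe u
open CategoryTheory
attribute [local instance] HasDerivedCategory.standard
open Dual

namespace Groth.Agent.S19135
open Groth.Agent.Lib.DMod
open Groth.Agent.Lib
/-- In the case of the spectrum of the base local ring and its closed point, let A be a Noetherian local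
ring with maximal ideal m and ω a normalized dualizing complex over A (Hom(k, ω[i]) = 0 in D(A) for
i ≠ 0), assume the total right derived functor RΓ_m of the m-power-torsion functor exists on D(A),
and let M be an object of D(A) which is bounded with finitely generated cohomology modules. Then
RHom(M, ω) is concentrated in degrees ≥ 0 (Hom(M, ω[i]) = 0 for all i < 0) if and only if RΓ_m M is
concentrated in degrees ≤ 0 (H^i(RΓ_m M) = 0 for all i > 0); and RHom(M, ω) is concentrated in
degrees ≤ 0 if and only if RΓ_m M is concentrated in degrees ≥ 0. In particular M is perverse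
coherent (RHom(M, ω) concentrated in degree 0) exactly when its local cohomology at m is
concentrated in degree 0. (The published statement of the two halves, read in cohomological
indexing, has the inequalities on the local cohomology side exchanged: over a field k with ω = k,
the complex k[1] has RHom(k[1], ω) = k[−1] concentrated in degrees ≥ 0 while its local cohomology
k[1] is concentrated in degree −1, not in degrees ≥ 0. This statement gives the form that local
duality yields, which is the one compatible with the description of the perverse t-structure by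
support conditions.) -/
theorem result
    (A : Type u) [CommRing A] [IsLocalRing A] [IsNoetherianRing A]
    (ω : Dual.D A) (hω : Dual.IsDualizing A ω) (hn : Dual.IsNormalized A ω)
    [DRing.HasRgammaI (IsLocalRing.maximalIdeal A)] (M : Dual.D A)
    (hfin : ∀ i : ℤ, Module.Finite A (Dual.HD A M i))
    (hbd : ∃ a b : ℤ, ∀ i : ℤ, (i < a ∨ b < i) → Subsingleton (Dual.HD A M i)) :
    ((∀ i : ℤ, i < 0 → Subsingleton (M ⟶ ω⟦i⟧)) ↔
      (∀ i : ℤ, 0 < i → Subsingleton (Dual.HD A ((DRing.RgammaI (IsLocalRing.maximalIdeal A)).obj M) i))) ∧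
    ((∀ i : ℤ, 0 < i → Subsingleton (M ⟶ ω⟦i⟧)) ↔
      (∀ i : ℤ, i < 0 → Subsingleton (Dual.HD A ((DRing.RgammaI (IsLocalRing.maximalIdeal A)).obj M) i))) := by
  let m := IsLocalRing.maximalIdeal A
  obtain ⟨a, b, hab⟩ := hbd
  obtain ⟨E, iE, jE, f, hf⟩ := InjHull.Basic.exists_hull (R := A) (IsLocalRing.ResidueField A)
  have key : ∀ j : ℤ, Subsingleton (Dual.HD A ((DRing.RgammaI m).obj M) j) ↔ Subsingleton (M ⟶ ω⟦(-j)⟧) := fun j => by
    obtain ⟨e₁⟩ := RGamma.nonempty_HD_RgammaI_equiv m M j
    obtain ⟨e₂⟩ := LocalDuality.nonempty_hdi_equiv hω hn hf M hfin a b hab j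
    rw [(e₁.trans e₂).toEquiv.subsingleton_congr]
    let X := M ⟶ ω⟦(-j)⟧
    haveI : Module.Finite A X := Conservative.finite_hom ⟨hfin, a, b, hab⟩ (Conservative.bddFin_shift (FlatDualizing.bddFin_of_dualizing hω) _)
    haveI : Small.{u} X := Module.Finite.small.{u} A X
    let sh : Shrink.{u} X ≃ₗ[A] X := Shrink.linearEquiv A X
    refine ⟨fun h => ?_, fun h => ⟨fun φ ψ => LinearMap.ext fun x => by rw [Subsingleton.elim x 0, map_zero, map_zero]⟩⟩
    refine subsingleton_of_forall_eq 0 fun x => ?_
    have := InjHull.Matlis.eq_zero_of_forall_dual hf (g := sh.symm x) fun φ =>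
      LinearMap.congr_fun (h.elim (φ ∘ₗ sh.symm.toLinearMap) 0) x
    simpa using congrArg sh this
  refine ⟨⟨fun h i hi => (key i).2 (h _ (by lia)), fun h i hi => ?_⟩,
    ⟨fun h i hi => (key i).2 (h _ (by lia)), fun h i hi => ?_⟩⟩ <;>
  · have := (key (-i)).1 (h _ (by lia))
    rwa [neg_neg] at this

end Groth.Agent.S19135
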