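import Groth.Statements.S19136
import Mathlib.Tactic.FieldSimp

set_option autoImplicit false
universe u
open Instab

namespace Groth.Agent.S19136

/-- Let p be a seminorm and ℓ a linear form on a real vector space, let y₀ and y₁ be vectors at which p
is positive and ℓ is non-negative, and let y = t y₀ + (1 - t) y₁ with 0 < t < 1 be a point of the
open segment at which p is positive. Then ℓ(y)/p(y) is at least the smaller of ℓ(y₀)/p(y₀) and
ℓ(y₁)/p(y₁), and if it equals that smaller value then ℓ(y₀)/p(y₀) = ℓ(y₁)/p(y₁). (The published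
lemma concerns the numerical invariant attached to a degree-two cohomology class and a semi-norm on
graded points of a stack; restricted to one rational simplex that invariant is the quotient of a
linear form by a semi-norm on the non-negative orthant of a real coordinate space, and local
quasi-concavity there amounts to this inequality with its equality clause, the set where the linear
form is non-negative being automatically convex; the lemma's further assertion, that the invariant
is positive at no pair of antipodal points, is not stated here. The vector space is arbitrary here.) -/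
theorem result {E : Type u} [AddCommGroup E] [Module ℝ E]
    (p : Seminorm ℝ E) (ℓ : E →ₗ[ℝ] ℝ) (y₀ y₁ : E) (h₀ : 0 < p y₀) (h₁ : 0 < p y₁)
    (hℓ₀ : 0 ≤ ℓ y₀) (hℓ₁ : 0 ≤ ℓ y₁) (t : ℝ) (ht₀ : 0 < t) (ht₁ : t < 1)
    (hy : 0 < p (t • y₀ + (1 - t) • y₁)) :
    min (ℓ y₀ / p y₀) (ℓ y₁ / p y₁) ≤ ℓ (t • y₀ + (1 - t) • y₁) / p (t • y₀ + (1 - t) • y₁) ∧
      (ℓ (t • y₀ + (1 - t) • y₁) / p (t • y₀ + (1 - t) • y₁) = min (ℓ y₀ / p y₀) (ℓ y₁ / p y₁) →
        ℓ y₀ / p y₀ = ℓ y₁ / p y₁) := by
  set a := ℓ y₀ / p y₀ with ha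
  set b := ℓ y₁ / p y₁ with hb
  set m := min a b with hm
  have hm0 : 0 ≤ m := le_min (div_nonneg hℓ₀ h₀.le) (div_nonneg hℓ₁ h₁.le)
  have ea : ℓ y₀ = a * p y₀ := by rw [ha, div_mul_cancel₀ _ h₀.ne']
  have eb : ℓ y₁ = b * p y₁ := by rw [hb, div_mul_cancel₀ _ h₁.ne']
  have hP : p (t • y₀ + (1 - t) • y₁) ≤ t * p y₀ + (1 - t) * p y₁ := by
    refine (map_add_le_add p _ _).trans (le_of_eq ?_)
    rw [map_smul_eq_mul, map_smul_eq_mul, Real.norm_eq_abs, Real.norm_eq_abs, abs_of_pos ht₀,
      abs_of_pos (sub_pos.2 ht₁)]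
  have hL : ℓ (t • y₀ + (1 - t) • y₁) = t * ℓ y₀ + (1 - t) * ℓ y₁ := by simp
  have h1 : 0 ≤ t * ((a - m) * p y₀) :=
    mul_nonneg ht₀.le (mul_nonneg (sub_nonneg.2 (min_le_left _ _)) h₀.le)
  have h2 : 0 ≤ (1 - t) * ((b - m) * p y₁) :=
    mul_nonneg (sub_nonneg.2 ht₁.le) (mul_nonneg (sub_nonneg.2 (min_le_right _ _)) h₁.le)
  have h3 := mul_le_mul_of_nonneg_left hP hm0
  rw [hL, ea, eb]
  refine ⟨by rw [le_div_iff₀ hy]; linarith, fun he => ?_⟩
  rw [div_eq_iff hy.ne'] at he
  have e1 : t * ((a - m) * p y₀) = 0 := by linarith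
  have e2 : (1 - t) * ((b - m) * p y₁) = 0 := by linarith
  simp [ht₀.ne', h₀.ne', sub_eq_zero] at e1
  simp [(sub_pos.2 ht₁).ne', h₁.ne', sub_eq_zero] at e2
  rw [e1, e2]

end Groth.Agent.S19136
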