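import Groth.Statements.S19138
import Groth.Agent.Lib.Fans.Lin
import Mathlib.Analysis.Normed.Field.Lemmas

set_option autoImplicit false
open Instab

namespace Groth.Agent.S19138

open Matrix in
/-- Let ℓ ∈ ℚⁿ and let B be a rational n × n matrix whose real quadratic form q(y) = y · (B y) is
non-negative on ℝⁿ and positive at every non-zero point of the non-negative orthant. If ℓ · y > 0 at
some point of the orthant, then the function ℓ · y / √q(y) on the non-zero points of the orthant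
attains its maximum at a point with rational coordinates. (The published lemma says that the
numerical invariant attached to a rational degree-two class and such a norm on graded points attains
its maximum on each rational simplex at a rational point whenever it is positive somewhere on that
simplex; on one rational simplex that invariant is this function, so this is what is asked there.
The case of a piecewise rational linear norm is not stated here.) -/
theorem result (n : ℕ) (ℓ : Fin n → ℚ)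
    (B : Matrix (Fin n) (Fin n) ℚ)
    (hnn : ∀ y : Fin n → ℝ, 0 ≤ y ⬝ᵥ (B.map (fun r : ℚ => (r : ℝ))) *ᵥ y)
    (hpos : ∀ y : Fin n → ℝ, (∀ i, 0 ≤ y i) → y ≠ 0 → 0 < y ⬝ᵥ (B.map (fun r : ℚ => (r : ℝ))) *ᵥ y)
    (hℓ : ∃ y : Fin n → ℝ, (∀ i, 0 ≤ y i) ∧ 0 < (fun i => (ℓ i : ℝ)) ⬝ᵥ y) :
    ∃ x : Fin n → ℚ, (∀ i, 0 ≤ x i) ∧ x ≠ 0 ∧
      ∀ y : Fin n → ℝ, (∀ i, 0 ≤ y i) → y ≠ 0 →
        (fun i => (ℓ i : ℝ)) ⬝ᵥ y / Real.sqrt (y ⬝ᵥ (B.map (fun r : ℚ => (r : ℝ))) *ᵥ y) ≤
          (fun i => (ℓ i : ℝ)) ⬝ᵥ (fun i => (x i : ℝ)) /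
            Real.sqrt ((fun i => (x i : ℝ)) ⬝ᵥ (B.map (fun r : ℚ => (r : ℝ))) *ᵥ (fun i => (x i : ℝ))) := by
  classical
  set Br : Matrix (Fin n) (Fin n) ℝ := B.map (fun r : ℚ => (r : ℝ)) with hBr
  set L : (Fin n → ℝ) → ℝ := fun y => (fun i => (ℓ i : ℝ)) ⬝ᵥ y with hL
  set q : (Fin n → ℝ) → ℝ := fun y => y ⬝ᵥ Br *ᵥ y with hq
  have hqc : Continuous q := by
    simp only [hq, dotProduct, Matrix.mulVec]
    fun_prop
  have hLc : Continuous L := by
    simp only [hL, dotProduct]
    fun_prop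
  set f : (Fin n → ℝ) → ℝ := fun y => L y / Real.sqrt (q y) with hf
  have hscale : ∀ (y : Fin n → ℝ) (s : ℝ), 0 < s → f (s • y) = f y := by
    intro y s hs
    have e1 : L (s • y) = s * L y := by simp [hL, dotProduct_smul]
    have e2 : q (s • y) = s ^ 2 * q y := by
      simp [hq, Matrix.mulVec_smul, smul_dotProduct, dotProduct_smul]
      ring
    simp only [hf, e1, e2, Real.sqrt_mul (sq_nonneg s), Real.sqrt_sq hs.le]
    rw [mul_div_mul_left _ _ hs.ne']
  obtain ⟨y₁, hy₁, hℓy₁⟩ := hℓ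
  have hy₁0 : y₁ ≠ 0 := by rintro rfl; simp at hℓy₁
  have hsum : ∀ y : Fin n → ℝ, (∀ i, 0 ≤ y i) → y ≠ 0 → 0 < ∑ i, y i := by
    intro y hy hy0
    obtain ⟨i, hi⟩ := Function.ne_iff.1 hy0
    exact Finset.sum_pos' (fun i _ => hy i) ⟨i, Finset.mem_univ i, lt_of_le_of_ne (hy i) (Ne.symm hi)⟩
  set D : Set (Fin n → ℝ) := {y | ∀ i, y i ∈ Set.Icc (0 : ℝ) 1} ∩ {y | ∑ i, y i = 1} with hD
  have hDc : IsCompact D := IsCompact.inter_right (isCompact_pi_infinite fun _ => isCompact_Icc)
    (isClosed_eq (continuous_finsetSum _ fun i _ => continuous_apply i) continuous_const)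
  have hDne : ∀ y ∈ D, y ≠ 0 := fun y hy h => by simp [h, hD] at hy
  have hnrm : ∀ y : Fin n → ℝ, (∀ i, 0 ≤ y i) → y ≠ 0 → (∑ i, y i)⁻¹ • y ∈ D := by
    intro y hy hy0
    have hs := hsum y hy hy0
    refine ⟨fun i => ⟨mul_nonneg (inv_pos.2 hs).le (hy i), ?_⟩, ?_⟩
    · rw [Pi.smul_apply, smul_eq_mul, inv_mul_le_one₀ hs]
      exact Finset.single_le_sum (fun j _ => hy j) (Finset.mem_univ i)
    · simp [← Finset.mul_sum, hs.ne']
  have hfc : ContinuousOn f D := hLc.continuousOn.div (hqc.sqrt.continuousOn) fun y hy =>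
    (Real.sqrt_pos.2 (hpos y (fun i => (hy.1 i).1) (hDne y hy))).ne'
  obtain ⟨x, hxD, hxmax⟩ := hDc.exists_isMaxOn ⟨_, hnrm y₁ hy₁ hy₁0⟩ hfc
  have hmax : ∀ y : Fin n → ℝ, (∀ i, 0 ≤ y i) → y ≠ 0 → f y ≤ f x := fun y hy hy0 =>
    (hscale y _ (inv_pos.2 (hsum y hy hy0))).symm.trans_le (hxmax (hnrm y hy hy0))
  have hx0 : ∀ i, 0 ≤ x i := fun i => (hxD.1 i).1
  have hqx : 0 < q x := hpos x hx0 (hDne x hxD)
  set c := f x with hc
  have hcpos : 0 < c := lt_of_lt_of_le (div_pos hℓy₁ (Real.sqrt_pos.2 (hpos y₁ hy₁ hy₁0)))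
    (hmax y₁ hy₁ hy₁0)
  have hLx : L x = c * Real.sqrt (q x) := by
    rw [hc, hf, div_mul_cancel₀ _ (Real.sqrt_pos.2 hqx).ne']
  have hLxpos : 0 < L x := hLx ▸ mul_pos hcpos (Real.sqrt_pos.2 hqx)
  have hLx2 : L x ^ 2 = c ^ 2 * q x := by rw [hLx, mul_pow, Real.sq_sqrt hqx.le]
  -- first order condition on the support of `x`
  set S : Fin n → ℝ := fun i => (Br *ᵥ x) i + (Matrix.vecMul x Br) i with hS
  have hcrit : ∀ i, x i ≠ 0 → c ^ 2 * S i = 2 * L x * (ℓ i : ℝ) := by
    intro i hi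
    have hxi : 0 < x i := lt_of_le_of_ne (hx0 i) (Ne.symm hi)
    set z : ℝ → (Fin n → ℝ) := fun s => x + s • Pi.single i 1 with hz
    have hzc : Continuous z := continuous_const.add (continuous_id.smul continuous_const)
    have hLz : ∀ s, L (z s) = L x + s * (ℓ i : ℝ) := fun s => by
      simp [hz, hL, dotProduct_add, dotProduct_smul]
    have hqz : ∀ s, q (z s) = q x + s * S i + s ^ 2 * (Br i i) := fun s => by
      simp [hz, hq, hS, Matrix.mulVec_add, Matrix.mulVec_smul, dotProduct_add, add_dotProduct,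
        smul_dotProduct, dotProduct_smul, Matrix.dotProduct_mulVec, Matrix.add_vecMul, Matrix.smul_vecMul]
      rw [show Br.row i ⬝ᵥ x = (Br *ᵥ x) i from rfl]
      ring
    have hev : ∀ᶠ s in nhds (0 : ℝ), 0 ≤ (c ^ 2 * S i - 2 * L x * (ℓ i : ℝ)) * s +
        (c ^ 2 * Br i i - (ℓ i : ℝ) ^ 2) * s ^ 2 := by
      have h1 : ∀ᶠ s in nhds (0 : ℝ), 0 < x i + s :=
        (continuous_const.add continuous_id).continuousAt.eventually_mem (Ioi_mem_nhds (by simpa))
      have h2 : ∀ᶠ s in nhds (0 : ℝ), 0 < L (z s) :=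
        (hLc.comp hzc).continuousAt.eventually_mem (Ioi_mem_nhds (by simpa [hz] using hLxpos))
      filter_upwards [h1, h2] with s hs1 hs2
      have hz0 : ∀ j, 0 ≤ z s j := fun j => by
        by_cases hj : j = i
        · subst hj; simpa [hz] using hs1.le
        · simpa [hz, hj] using hx0 j
      have hzne : z s ≠ 0 := fun h => by simp [h, hL] at hs2
      have hqpos : 0 < q (z s) := hpos _ hz0 hzne
      have hle := hmax _ hz0 hzne
      simp only [hf] at hle
      rw [div_le_iff₀ (Real.sqrt_pos.2 hqpos)] at hle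
      have hsq : L (z s) ^ 2 ≤ c ^ 2 * q (z s) := by
        have := pow_le_pow_left₀ hs2.le hle 2
        rwa [mul_pow, Real.sq_sqrt hqpos.le] at this
      rw [hLz, hqz] at hsq
      nlinarith [hsq, hLx2]
    obtain ⟨ε, hε, hball⟩ := Metric.eventually_nhds_iff.1 hev
    set A := c ^ 2 * S i - 2 * L x * (ℓ i : ℝ) with hA
    set C := c ^ 2 * Br i i - (ℓ i : ℝ) ^ 2
    by_contra hne
    have hA0 : A ≠ 0 := fun h => hne (by rw [hA] at h; linarith)
    set δ : ℝ := min (ε / 2) (|A| / (2 * (|C| + 1))) with hδ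
    have hδ0 : 0 < δ := lt_min (by positivity) (by positivity)
    have hCδ : |C| * δ ≤ |A| / 2 := by
      have : δ * (2 * (|C| + 1)) ≤ |A| := (le_div_iff₀ (by positivity)).1 (min_le_right _ _)
      nlinarith [abs_nonneg C]
    have hC := abs_le.1 (le_refl |C|)
    have hδε : δ < ε := (min_le_left _ _).trans_lt (half_lt_self hε)
    rcases lt_or_gt_of_ne hA0 with h | h
    · have := @hball δ (by simpa [abs_of_pos hδ0] using hδε)
      rw [abs_of_neg h] at hCδ
      nlinarith
    · have := @hball (-δ) (by simpa [abs_of_pos hδ0] using hδε)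
      rw [abs_of_pos h] at hCδ
      nlinarith
  -- a rational solution of the linear system
  let row : Fin n → Option (Fin n) → ℚ := fun i o =>
    if x i = 0 then o.elim 0 (fun j => if j = i then 1 else 0)
    else o.elim (-(2 * ℓ i)) (fun j => B i j + B j i)
  choose M A hM hA using fun i => Groth.Agent.Lib.Fans.exists_int_mul (row i)
  have hA' : ∀ i o, (A i o : ℝ) = (M i : ℝ) * (row i o : ℝ) := fun i o => by exact_mod_cast hA i o
  set μ := L x / c ^ 2 with hμ
  have hμpos : 0 < μ := div_pos hLxpos (by positivity)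
  let X : Option (Fin n) → ℝ := fun o => o.elim μ x
  have hrowR : ∀ (i : Fin n) (Y : Option (Fin n) → ℝ), ∑ o, (row i o : ℝ) * Y o =
      if x i = 0 then Y (some i) else (Br *ᵥ fun j => Y (some j)) i +
        (Matrix.vecMul (fun j => Y (some j)) Br) i - 2 * (ℓ i : ℝ) * Y none := by
    intro i Y
    rw [Fintype.sum_option]
    by_cases hi : x i = 0
    · simp [row, hi, apply_ite (Rat.cast : ℚ → ℝ)]
    · simp [row, hi, hBr, Matrix.mulVec, Matrix.vecMul, dotProduct, add_mul, Finset.sum_add_distrib,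
        mul_comm]
      have e : ∑ o, Y (some o) * ((B i o : ℝ) + (B o i : ℝ)) =
          ∑ o, Y (some o) * (B i o : ℝ) + ∑ o, Y (some o) * (B o i : ℝ) :=
        (Finset.sum_congr rfl fun o _ => mul_add _ _ _).trans Finset.sum_add_distrib
      linarith [e]
  have hsys : ∀ i, ∑ o, (A i o : ℝ) * X o = 0 := fun i => by
    simp only [hA', mul_assoc, ← Finset.mul_sum, hrowR]
    by_cases hi : x i = 0
    · simp [hi, X]
    · have h := hcrit i hi
      rw [if_neg hi, show (fun j => X (some j)) = x from rfl, show X none = μ from rfl,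
        show (Br *ᵥ x) i + (Matrix.vecMul x Br) i = S i from rfl, hμ]
      field_simp
      rw [mul_zero, show S i * c ^ 2 - 2 * (ℓ i : ℝ) * L x = 0 by linarith, mul_zero]
  obtain ⟨N, d, w, hd, hw0, hwA, hXsum⟩ := Groth.Agent.Lib.Fans.exists_pos_combination A X
    (fun o => by cases o with | none => exact hμpos.le | some j => exact hx0 j) hsys
  obtain ⟨t, ht⟩ : ∃ t, 0 < w t none := by
    by_contra hcon
    push Not at hcon
    have := congrFun hXsum none
    simp [X, Groth.Agent.Lib.Fans.rv, fun t => le_antisymm (hcon t) (hw0 t none)] at this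
    exact hμpos.ne' this
  set ρ : ℝ := (w t none : ℝ) with hρ
  have hρpos : 0 < ρ := by rw [hρ]; exact_mod_cast ht
  set v : Fin n → ℝ := fun j => (w t (some j) : ℝ) with hv
  have hvsys : ∀ i, if x i = 0 then v i = 0 else (Br *ᵥ v) i + (Matrix.vecMul v Br) i = 2 * (ℓ i : ℝ) * ρ := by
    intro i
    have h : ∑ o, (A i o : ℝ) * (w t o : ℝ) = 0 := by exact_mod_cast hwA t i
    simp only [hA', mul_assoc, ← Finset.mul_sum, hrowR, mul_eq_zero, Nat.cast_eq_zero, (hM i).ne', false_or] at h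
    by_cases hi : x i = 0
    · rw [if_pos hi] at h ⊢; exact h
    · rw [if_neg hi] at h ⊢
      linarith [h]
  have hpair : ∀ u : Fin n → ℝ, (∀ i, x i = 0 → u i = 0) →
      u ⬝ᵥ Br *ᵥ v + v ⬝ᵥ Br *ᵥ u = 2 * ρ * L u ∧ c ^ 2 * (u ⬝ᵥ Br *ᵥ x + x ⬝ᵥ Br *ᵥ u) = 2 * L x * L u := by
    intro u hu
    rw [Matrix.dotProduct_mulVec v, Matrix.dotProduct_mulVec x, dotProduct_comm _ u, dotProduct_comm _ u,
      ← dotProduct_add, ← dotProduct_add]
    rw [show L u = ∑ i, (ℓ i : ℝ) * u i from rfl]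
    simp only [dotProduct, Finset.mul_sum]
    refine ⟨Finset.sum_congr rfl fun i _ => ?_, Finset.sum_congr rfl fun i _ => ?_⟩
    · by_cases hi : x i = 0
      · simp [hu i hi]
      · have := hvsys i
        rw [if_neg hi] at this
        rw [Pi.add_apply, this]; ring
    · by_cases hi : x i = 0
      · simp [hu i hi]
      · rw [Pi.add_apply, mul_left_comm, show c ^ 2 * ((Br *ᵥ x) i + (Matrix.vecMul x Br) i) = _ from hcrit i hi]
        ring
  obtain ⟨p1, -⟩ := hpair x fun _ h => h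
  have hvsupp : ∀ i, x i = 0 → v i = 0 := fun i hi => by simpa [hi] using hvsys i
  obtain ⟨p3, p2⟩ := hpair v hvsupp
  have hqv : q v = ρ * L v := by simp only [hq]; linarith
  have hLv : L v = c ^ 2 * ρ := by
    have : c ^ 2 * (2 * ρ * L x) = 2 * L x * L v := by rw [← p1, ← p2]; ring
    exact (mul_left_cancel₀ (mul_ne_zero two_ne_zero hLxpos.ne') (by linarith)).symm
  refine ⟨fun j => (w t (some j) : ℚ), fun j => Int.cast_nonneg (hw0 t (some j)), fun h0 => ?_, fun y hy hy0 => ?_⟩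
  · have hv0 : v = 0 := by
      funext j
      have := congrFun h0 j
      simp at this
      simp [hv, this]
    rw [hv0] at hLv
    simp [hL, hcpos.ne', hρpos.ne'] at hLv
  · have e : (fun i => (((fun j => (w t (some j) : ℚ)) i : ℚ) : ℝ)) = v := by
      funext i; simp [hv]
    rw [e]
    refine le_of_le_of_eq (hmax y hy hy0) ?_
    change c = L v / Real.sqrt (q v)
    rw [hqv, hLv, show ρ * (c ^ 2 * ρ) = (c * ρ) ^ 2 by ring, Real.sqrt_sq (by positivity)]
    field_simp

end Groth.Agent.S19138
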