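import Groth.Statements.S1914
import Groth.Agent.H19.Koszul.TorChi


set_option autoImplicit false
universe u
open CategoryTheory
attribute [local instance] HasDerivedCategory.standard
open IntMult

namespace Groth.Agent.S1914

/-- Let A be a Noetherian local ring, I = (g₁, …, g_c) an ideal generated by a regular sequence and M a
finite A-module with Supp(M/IM) of dimension ≤ 0. Then c! · length_A(M/I^t M)/t^c tends, as t → ∞,
to Σ_i (−1)^i length_A Tor_i^A(A/I, M); that is, e_I(M, c) equals this alternating sum. -/
theorem result (A : Type u) [CommRing A] [IsNoetherianRing A] [IsLocalRing A] (c : ℕ) (g : Fin c → A) (hreg : RingTheory.Sequence.IsRegular A (List.ofFn g)) (M : Type u) [AddCommGroup M] [Module A M] [Module.Finite A M] (h0 : Module.supportDim A (M ⧸ (Ideal.span (Set.range g) • (⊤ : Submodule A M))) ≤ 0) : Filter.Tendsto (fun t : ℕ => (c.factorial : ℝ) * ((Module.length A (M ⧸ (Ideal.span (Set.range g) ^ t • (⊤ : Submodule A M)))).toNat : ℝ) / (t : ℝ) ^ c) Filter.atTop (nhds (IntMult.chi A (A ⧸ Ideal.span (Set.range g))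 M : ℝ)) := by
  have hI : Ideal.ofList (List.ofFn g) = Ideal.span (Set.range g) := by
    rw [Ideal.ofList]; congr 1; ext a; exact List.mem_ofFn
  have hfl : IsFiniteLength A (M ⧸ (Ideal.span (Set.range g) • (⊤ : Submodule A M))) :=
    Module.length_ne_top_iff.1
      (Groth.Agent.Lib.CycAlg.Smul.length_lt_top_of_supportDim_le_zero _ h0).ne
  have h := Groth.Agent.Lib.Lech.tendsto_samuel_chi c g M hfl
  rw [← hI, Groth.Agent.H19.Koszul.TorChi.chi_eq (List.ofFn g) hreg.toIsWeaklyRegular M]
  rw [← hI] at h
  exact h


end Groth.Agent.S1914
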