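import Groth.Statements.S19140
import Groth.Agent.H87.LocalForm
-- import your own Groth.Agent.* helpers here

set_option autoImplicit false
open CategoryTheory MonoidalCategory CartesianMonoidalCategory MonObj GrpObj AlgebraicGeometry
universe u
open SGA3x

open CategoryTheory.Limits Groth.Agent.H87 Groth.Agent.Lib.Tori Groth.Agent.Lib.RedPts
namespace Groth.Agent.S19140

/-- Let f : H ⟶ Q be a homomorphism of S-group schemes, with H of multiplicative type (of arbitrary
type: fpqc-locally on S, Zariski-locally isomorphic as a group to some diagonalisable group D(M))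
and Q of multiplicative type and of finite type. Then the set U of points s ∈ S such that the fibre
homomorphism f_s : H_s ⟶ Q_s is faithfully flat (flat and surjective) is open and closed in S, and
the homomorphism H|_U ⟶ Q|_U induced above U is faithfully flat. (No finite-type hypothesis on H.) -/
theorem result {S : Scheme.{u}} (H Q : Over S) [GrpObj H] [GrpObj Q]
    (hH : TwC.Locally S TwC.Topology.fpqc (fun S' g => ∃ (M : Type) (_ : AddCommGroup M), Nonempty (Grp.mk (Red.bc g H) ≅ Grp.mk (Red.DS S' M))))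
    (hQ : SGA3x.IsMultTypeFT Q) (f : H ⟶ Q) [IsMonHom f] :
    ∃ U : S.Opens, IsClosed (U : Set S) ∧
      (∀ s : S, s ∈ U ↔ (Flat ((Over.pullback (S.fromSpecResidueField s)).map f).left ∧ Surjective ((Over.pullback (S.fromSpecResidueField s)).map f).left)) ∧
      (Flat ((Over.pullback U.ι).map f).left ∧ Surjective ((Over.pullback U.ι).map f).left) := by
  obtain ⟨S₁, f₁, hf₁, hs₁, hc₁, hl₁⟩ := hH
  obtain ⟨S₂, f₂, hf₂, hs₂, hc₂, hl₂⟩ := hQ
  let a := pullback.fst f₁ f₂
  let b := pullback.snd f₁ f₂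
  refine LocalForm.exists_clopen_locus_charts ((@Flat ⊓ @Surjective : MorphismProperty Scheme))
    (fun M N _ _ _ φ X x h T => ?_) (a ≫ f₁)
    (Charts.isQCCover_comp (Basic.isQCCover_pullback_snd hc₂ f₁) hc₁) (fun s' => ?_) f
  · have := h.1
    have := h.2
    have : Epi (Red.DSmap (Spec (X.residueField x)) φ).left := Flat.epi_of_flat_of_surjective _
    exact Loci.ff_DSmap T (Loci.injective_of_epi (Over.epi_of_epi_left (Red.DSmap (Spec (X.residueField x)) φ)))
  · obtain ⟨U₁, hU₁, M, iM, ⟨e₁⟩⟩ := hl₁ (a s')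
    obtain ⟨U₂, hU₂, N, iN, hN, ⟨e₂⟩⟩ := hl₂ (b s')
    let U := a ⁻¹ᵁ U₁ ⊓ b ⁻¹ᵁ U₂
    let r₁ : (U : Scheme.{u}) ⟶ U₁ := (pullback f₁ f₂).homOfLE inf_le_left ≫ a ∣_ U₁
    let r₂ : (U : Scheme.{u}) ⟶ U₂ := (pullback f₁ f₂).homOfLE inf_le_right ≫ b ∣_ U₂
    refine ⟨U, ⟨hU₁, hU₂⟩, M, N, iM, iN, hN,
      ⟨BaseChange.bcCongr ?_ H ≪≫ Charts.resChart e₁ r₁⟩, ⟨BaseChange.bcCongr ?_ Q ≪≫ Charts.resChart e₂ r₂⟩⟩
    · simp [r₁, a, U]
    · simp [r₂, b, a, U, pullback.condition]

end Groth.Agent.S19140
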