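import Groth.Statements.S19145
import Groth.Agent.H63.TwConstUnibranch
-- import your own Groth.Agent.* helpers here

set_option autoImplicit false
open CategoryTheory MonoidalCategory CartesianMonoidalCategory MonObj GrpObj AlgebraicGeometry
universe u
open TwC

namespace Groth.Agent.S19145
open Groth.Agent.H63.TwConstUnibranch

/-- Let S be an irreducible scheme whose local rings are all geometrically unibranch, η its generic
point, and X a quasi-isotrivial twisted constant S-scheme (etale-locally on S isomorphic to a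
constant scheme). Then X is the disjoint union, over the points λ of the generic fibre X_η, of the
closures X(λ) of λ: every point of X lies in the closure of exactly one such λ, each X(λ) is open
and closed in X and, as an open subscheme, is a finite etale cover of S (finite, etale and
surjective); and restricting a section of X ⟶ S to the generic point is a bijection from the
sections of X over S onto the sections of X_η over η. -/
theorem result {S : Scheme.{u}} [IrreducibleSpace S]
    (hS : ∀ s : S, CAlg2.IsGeomUnibranch (S.presheaf.stalk s))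
    (X : Over S) (hX : TwC.IsTwConst TwC.Topology.etale X) :
    (∀ x : X.left, ∃! l : X.left, X.hom.base l = genericPoint S ∧ x ∈ closure ({l} : Set X.left)) ∧
    (∀ l : X.left, X.hom.base l = genericPoint S →
      ∃ U : X.left.Opens, (U : Set X.left) = closure ({l} : Set X.left) ∧ IsClosed (U : Set X.left) ∧
        IsFinite (U.ι ≫ X.hom) ∧ Etale (U.ι ≫ X.hom) ∧ Surjective (U.ι ≫ X.hom)) ∧
    (∀ σ₁ σ₂ : S ⟶ X.left, σ₁ ≫ X.hom = 𝟙 S → σ₂ ≫ X.hom = 𝟙 S →
      S.fromSpecResidueField (genericPoint S) ≫ σ₁ = S.fromSpecResidueField (genericPoint S) ≫ σ₂ → σ₁ = σ₂) ∧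
    (∀ τ : Spec (S.residueField (genericPoint S)) ⟶ X.left, τ ≫ X.hom = S.fromSpecResidueField (genericPoint S) →
      ∃ σ : S ⟶ X.left, σ ≫ X.hom = 𝟙 S ∧ S.fromSpecResidueField (genericPoint S) ≫ σ = τ) := by
  open Groth.Agent.H63 Groth.Agent.Lib.Unram in
  have hE := (TwConstBasic.etale_and_isSeparated X hX).1
  obtain ⟨huniq, hcomp⟩ := Groth.Agent.Lib.Unram.UnibranchEtale.components X.hom hS
  -- a point over the generic point is the generic point of its component
  have hgen : ∀ l : X.left, X.hom.base l = genericPoint S →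
      closure ({l} : Set X.left) = irreducibleComponent l := by
    intro l hl
    have hZ : irreducibleComponent l ∈ irreducibleComponents ↥X.left :=
      irreducibleComponent_mem_irreducibleComponents l
    obtain ⟨ζ, hζ⟩ := QuasiSober.sober hZ.1 (isClosed_of_mem_irreducibleComponents _ hZ)
    have h1 : ζ ⤳ l := hζ.specializes mem_irreducibleComponent
    have := Groth.Agent.Lib.Unram.UnibranchEtale.eq_of_specializes_generic X.hom
      (FormallyUnramified.stalkMap X.hom l) hl h1
    exact this ▸ hζ.def
  refine ⟨fun x => ?_, fun l hl => ?_, fun σ₁ σ₂ h₁ h₂ h =>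
    Groth.Agent.H63.TwConstUnibranch.sect_eq_of_generic hS X hX σ₁ σ₂ h₁ h₂ h,
    fun τ hτ => Groth.Agent.H63.TwConstUnibranch.exists_sect hS X hX τ hτ⟩
  · obtain ⟨Z, ⟨hZ, hxZ⟩, hZu⟩ := huniq x
    obtain ⟨-, l, ⟨hlZ, hl⟩, hlu⟩ := hcomp Z hZ
    have hl' : irreducibleComponent l = Z :=
      ((huniq l).unique ⟨irreducibleComponent_mem_irreducibleComponents l, mem_irreducibleComponent⟩ ⟨hZ, hlZ⟩)
    refine ⟨l, ⟨hl, by rw [hgen l hl, hl']; exact hxZ⟩, fun l₂ ⟨hl₂, hx₂⟩ => ?_⟩
    rw [hgen l₂ hl₂] at hx₂
    have := hZu _ ⟨irreducibleComponent_mem_irreducibleComponents l₂, hx₂⟩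
    exact hlu l₂ ⟨this ▸ mem_irreducibleComponent, hl₂⟩
  · have hZ : irreducibleComponent l ∈ irreducibleComponents ↥X.left :=
      irreducibleComponent_mem_irreducibleComponents l
    let U : X.left.Opens := ⟨irreducibleComponent l, (hcomp _ hZ).1⟩
    have hfin : IsFinite (U.ι ≫ X.hom) :=
      Groth.Agent.H63.TwConstUnibranch.isFinite_component hS X hX U hZ
    refine ⟨U, (hgen l hl).symm, isClosed_irreducibleComponent, hfin, inferInstance, ⟨fun s => ?_⟩⟩
    refine ((U.ι ≫ X.hom).isClosedMap.isClosed_range.closure_subset) ?_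
    have h1 : ({genericPoint S} : Set S) ⊆ Set.range (U.ι ≫ X.hom) :=
      Set.singleton_subset_iff.2 ⟨⟨l, mem_irreducibleComponent⟩, hl⟩
    refine closure_mono h1 ?_
    rw [genericPoint_closure]
    trivial

end Groth.Agent.S19145
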