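import Groth.Statements.S19148
import Mathlib.LinearAlgebra.PiTensorProduct
import Mathlib.LinearAlgebra.Dual.Lemmas
import Mathlib.LinearAlgebra.Projection
import Mathlib.Algebra.Module.Projective
import Mathlib.RingTheory.Finiteness.Projective
import Mathlib.Algebra.BigOperators.Fin

set_option autoImplicit false
open scoped TensorProduct
universe u v
open FiltMod

namespace Groth.Agent.S19148

/-- In affine form, let R be a commutative ring, M a finitely generated projective R-module (a finite
locally free sheaf on Spec R), F₁ and F₂ direct summands of M and k ≥ 1. Then the images of F₁^{⊗k}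
and F₂^{⊗k} in the k-th tensor power M^{⊗k} are equal if and only if F₁ = F₂. (The source states
this for local direct factors of a finite locally free sheaf on a scheme; equality of subsheaves
being local, this is the affine case with global direct summands, to which it reduces.) -/
theorem result {R : Type u} [CommRing R] {M : Type v} [AddCommGroup M] [Module R M]
    [Module.Finite R M] [Module.Projective R M] (F₁ F₂ : Submodule R M)
    (h₁ : ∃ C : Submodule R M, IsCompl F₁ C) (h₂ : ∃ C : Submodule R M, IsCompl F₂ C) (k : ℕ) (hk : 1 ≤ k) :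
    LinearMap.range (PiTensorProduct.map (R := R) (fun _ : Fin k => F₁.subtype)) =
      LinearMap.range (PiTensorProduct.map (R := R) (fun _ : Fin k => F₂.subtype)) ↔ F₁ = F₂ := by
  refine ⟨fun h => ?_, fun h => by rw [h]⟩
  obtain ⟨m, rfl⟩ : ∃ m, k = m + 1 := ⟨k - 1, by omega⟩
  suffices key : ∀ G₁ G₂ : Submodule R M, (∃ C, IsCompl G₁ C) → (∃ C, IsCompl G₂ C) →
      LinearMap.range (PiTensorProduct.map (R := R) (fun _ : Fin (m + 1) => G₁.subtype)) ≤
        LinearMap.range (PiTensorProduct.map (R := R) (fun _ : Fin (m + 1) => G₂.subtype)) → G₁ ≤ G₂ from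
    le_antisymm (key F₁ F₂ h₁ h₂ h.le) (key F₂ F₁ h₂ h₁ h.ge)
  rintro G₁ G₂ ⟨C₁, hC₁⟩ ⟨C₂, hC₂⟩ hle
  let π₁ : M →ₗ[R] G₁ := Submodule.projectionOnto G₁ C₁ hC₁
  let q : M →ₗ[R] M := C₂.subtype ∘ₗ Submodule.projectionOnto C₂ G₂ hC₂.symm
  obtain ⟨n, f, g, -, -, hfg⟩ := Module.Finite.exists_comp_eq_id_of_projective R M
  have zero_top : ∀ (ψ : Module.Dual R M) (φ : Fin m → Module.Dual R M) (y : Fin m → G₁) (z : G₁),
      ψ (q z) * ∏ j, φ j (y j) = 0 := by
    intro ψ φ y z
    let fs : Fin (m + 1) → (M →ₗ[R] R) := Fin.cons (ψ ∘ₗ q) φ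
    let L := PiTensorProduct.lift ((MultilinearMap.mkPiAlgebra R (Fin (m + 1)) R).compLinearMap fs)
    have hker : LinearMap.range (PiTensorProduct.map (R := R) (fun _ : Fin (m + 1) => G₂.subtype)) ≤
        LinearMap.ker L := by
      rintro _ ⟨t, rfl⟩
      induction t using PiTensorProduct.induction_on with
      | smul_tprod r v =>
        simp only [map_smul, LinearMap.mem_ker, PiTensorProduct.map_tprod, L, PiTensorProduct.lift.tprod,
          MultilinearMap.compLinearMap_apply, MultilinearMap.mkPiAlgebra_apply, Fin.prod_univ_succ]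
        simp [fs, q]
      | add a b ha hb => rw [map_add]; exact add_mem ha hb
    have hL := LinearMap.mem_ker.1 (hker (hle ⟨PiTensorProduct.tprod R (Fin.cons z y), rfl⟩))
    simp only [PiTensorProduct.map_tprod, L, PiTensorProduct.lift.tprod,
      MultilinearMap.compLinearMap_apply, MultilinearMap.mkPiAlgebra_apply, Fin.prod_univ_succ] at hL
    simpa [fs] using hL
  have descend : ∀ j, j ≤ m → ∀ (ψ : Module.Dual R M) (φ : Fin (m - j) → Module.Dual R M)
      (y : Fin (m - j) → G₁) (z : G₁), ψ (q z) * ∏ l, φ l (y l) = 0 := by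
    intro j
    induction j with
    | zero => intro _ ψ φ y z; exact zero_top ψ φ y z
    | succ j ih =>
      intro hj ψ φ y z
      have hz : (z : M) = ∑ i, g (z : M) i • ((π₁ (f (Pi.single i 1)) : G₁) : M) := by
        have h1 : (z : M) = ∑ i, g (z : M) i • f (Pi.single i 1) := by
          conv_lhs => rw [show (z : M) = f (g z) from (LinearMap.congr_fun hfg (z : M)).symm,
            pi_eq_sum_univ' (g (z : M)), map_sum]
          simp [map_smul]
        have h2 := congrArg (fun x => ((π₁ x : G₁) : M)) h1
        simpa [π₁, map_sum, map_smul] using h2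
      rw [hz, map_sum, map_sum, Finset.sum_mul]
      refine Finset.sum_eq_zero fun i _ => ?_
      rw [map_smul, map_smul, smul_eq_mul]
      have e : m - j = (m - (j + 1)) + 1 := by omega
      have h3 := ih (by omega) ψ (fun l => Fin.cons (α := fun _ => Module.Dual R M) (LinearMap.proj i ∘ₗ g) φ (Fin.cast e l))
        (fun l => Fin.cons (α := fun _ => G₁) z y (Fin.cast e l)) (π₁ (f (Pi.single i 1)))
      rw [← Fintype.prod_equiv (finCongr e.symm) (fun l => Fin.cons (α := fun _ => Module.Dual R M) (LinearMap.proj i ∘ₗ g) φ l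
        ((Fin.cons (α := fun _ => G₁) z y l : G₁) : M)) _ (fun l => by simp)] at h3
      rw [Fin.prod_univ_succ] at h3
      simp only [Fin.cons_zero, Fin.cons_succ, LinearMap.comp_apply, LinearMap.proj_apply] at h3
      rw [← h3]; ring
  intro x hx
  have hq : q x = 0 := by
    rw [← Module.forall_dual_apply_eq_zero_iff R]
    intro ψ
    have := descend m le_rfl ψ (fun l => 0) (fun l => 0) ⟨x, hx⟩
    have h0 : IsEmpty (Fin (m - m)) := by rw [Nat.sub_self]; infer_instance
    simpa using this
  simpa [q] using hq

end Groth.Agent.S19148
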