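import Groth.Statements.S19149
import Mathlib.RingTheory.Smooth.Local
import Mathlib.RingTheory.Etale.Kaehler
import Mathlib.RingTheory.LocalRing.Module

set_option autoImplicit false
universe u
open GrpSch

namespace Groth.Agent.S19149

open KaehlerDifferential TensorProduct

/-- In affine form, let R be a commutative ring, A a smooth R-algebra with an augmentation ε : A → R
(the unit section of G = Spec A over S = Spec R), I = ker ε its augmentation ideal, and J ⊆ I an
ideal (defining a closed subscheme H of G through the unit section) such that (1) J is finitely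
generated, (2) J ∩ I² = I·J in A, and (3) I/(J + I²) is a finitely generated projective R-module
(finite locally free on S). Then H = Spec (A/J) is smooth over S at every point of the unit section:
for every prime P of A/J containing the image of I, the localization (A/J)_P is formally smooth over
R. (The source states this for G an affine smooth group scheme over a scheme S and H a closed
subgroup, concluding that the neutral component H° is a smooth open subgroup scheme; that conclusion
is smoothness of H along the unit section, which is the statement here in affine form; the group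
structure is not used.) -/
theorem result (R A : Type u) [CommRing R] [CommRing A] [Algebra R A]
    [Algebra.Smooth R A] (ε : A →ₐ[R] R) (J : Ideal A) (hJI : J ≤ RingHom.ker ε)
    (h1 : J.FG)
    (h2 : J ⊓ RingHom.ker ε ^ 2 = RingHom.ker ε * J)
    (h3 : Module.Finite R (↥(RingHom.ker ε) ⧸ Submodule.comap (RingHom.ker ε).subtype (J ⊔ RingHom.ker ε ^ 2)) ∧
      Module.Projective R (↥(RingHom.ker ε) ⧸ Submodule.comap (RingHom.ker ε).subtype (J ⊔ RingHom.ker ε ^ 2)))
    (P : Ideal (A ⧸ J)) [P.IsPrime] (hP : (RingHom.ker ε).map (Ideal.Quotient.mk J) ≤ P) :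
    Algebra.IsSmoothAt R P := by
  classical
  let q : Ideal A := P.comap (Ideal.Quotient.mk J)
  let Aq := Localization.AtPrime q
  let S := Localization.AtPrime P
  let k := q.ResidueField
  let φ : Aq →+* S := Localization.localRingHom q P (Ideal.Quotient.mk J) rfl
  letI : Algebra Aq S := φ.toAlgebra
  haveI : IsLocalHom φ := Localization.isLocalHom_localRingHom q P (Ideal.Quotient.mk J) rfl
  haveI hlh : IsLocalHom (algebraMap Aq S) := ‹IsLocalHom φ›
  have hcomp : ∀ a, φ (algebraMap A Aq a) = algebraMap (A ⧸ J) S (Ideal.Quotient.mk J a) :=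
    fun a ↦ Localization.localRingHom_to_map _ _ _ _ _
  haveI : IsScalarTower R Aq S := IsScalarTower.of_algebraMap_eq fun r ↦ by
    rw [IsScalarTower.algebraMap_apply R A Aq, RingHom.algebraMap_toAlgebra, hcomp,
      Ideal.Quotient.mk_algebraMap, ← IsScalarTower.algebraMap_apply]
  have hsurj : Function.Surjective (algebraMap Aq S) := fun z ↦ by
    obtain ⟨⟨x, s⟩, hz⟩ := IsLocalization.surj P.primeCompl z
    obtain ⟨a, rfl⟩ := Ideal.Quotient.mk_surjective x
    obtain ⟨t, ht⟩ := Ideal.Quotient.mk_surjective (s : A ⧸ J)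
    have htq : t ∈ q.primeCompl := fun h ↦ s.2 (ht ▸ h)
    refine ⟨IsLocalization.mk' Aq a ⟨t, htq⟩, ?_⟩
    have h1 : φ (IsLocalization.mk' Aq a ⟨t, htq⟩) * φ (algebraMap A Aq t) =
        φ (algebraMap A Aq a) := by
      rw [← map_mul]
      exact congrArg φ (IsLocalization.mk'_spec Aq a ⟨t, htq⟩)
    rw [hcomp, hcomp, ht] at h1
    exact (IsLocalization.map_units S s).mul_right_cancel (h1.trans hz.symm)
  have hker : RingHom.ker (algebraMap Aq S) = J.map (algebraMap A Aq) := by
    refine le_antisymm (fun z hz ↦ ?_) ?_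
    · obtain ⟨⟨a, t⟩, hz'⟩ := IsLocalization.surj q.primeCompl z
      have h0 : algebraMap (A ⧸ J) S (Ideal.Quotient.mk J a) = 0 := by
        rw [← hcomp, ← hz', map_mul]
        exact mul_eq_zero_of_left hz _
      obtain ⟨⟨u, hu⟩, hua⟩ := (IsLocalization.map_eq_zero_iff P.primeCompl S _).mp h0
      obtain ⟨u, rfl⟩ := Ideal.Quotient.mk_surjective u
      have hmem : u * a ∈ J := by
        rw [← Ideal.Quotient.eq_zero_iff_mem, map_mul]; exact hua
      have : z * algebraMap A Aq (t * u) ∈ J.map (algebraMap A Aq) := by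
        rw [map_mul, ← mul_assoc, hz', ← map_mul, mul_comm]
        exact Ideal.mem_map_of_mem _ hmem
      exact (Ideal.unit_mul_mem_iff_mem _ (IsLocalization.map_units Aq
        (⟨(t : A) * u, q.primeCompl.mul_mem t.2 hu⟩ : q.primeCompl))).mp (mul_comm z _ ▸ this)
    · rw [Ideal.map_le_iff_le_comap]
      intro a ha
      rw [Ideal.mem_comap, RingHom.mem_ker, RingHom.algebraMap_toAlgebra, hcomp,
        Ideal.Quotient.eq_zero_iff_mem.mpr ha, map_zero]
  haveI : Algebra.FormallySmooth R Aq := Algebra.FormallySmooth.comp R A Aq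
  haveI : Algebra.EssFiniteType R Aq := Algebra.EssFiniteType.comp R A Aq
  haveI : Module.Free Aq Ω[Aq⁄R] := Module.free_of_flat_of_isLocalRing
  have hfg : (RingHom.ker (algebraMap Aq S)).FG := hker ▸ h1.map (algebraMap A Aq)
  -- the residue field as an algebra over the quotient
  have hle : RingHom.ker (algebraMap Aq S) ≤ RingHom.ker (algebraMap Aq k) := fun z hz ↦ by
    refine (IsLocalRing.residue_eq_zero_iff z).mpr fun hu ↦ ?_
    exact not_isUnit_zero ((RingHom.mem_ker.mp hz) ▸ hu.map (algebraMap Aq S))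
  let ψ : S →+* k := RingHom.liftOfSurjective (algebraMap Aq S) hsurj ⟨algebraMap Aq k, hle⟩
  have hψ : ∀ z, ψ (algebraMap Aq S z) = algebraMap Aq k z :=
    RingHom.liftOfRightInverse_comp_apply (algebraMap Aq S) _ _ _
  letI : Algebra S k := ψ.toAlgebra
  haveI : IsScalarTower Aq S k := IsScalarTower.of_algebraMap_eq fun z ↦ (hψ z).symm
  have h3' : IsLocalRing.maximalIdeal S ≤ RingHom.ker (algebraMap S k) := fun z hz ↦ by
    obtain ⟨w, rfl⟩ := hsurj z
    rw [RingHom.mem_ker, RingHom.algebraMap_toAlgebra, hψ]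
    exact (IsLocalRing.residue_eq_zero_iff w).mpr fun hu ↦ hz (hu.map (algebraMap Aq S))
  show Algebra.FormallySmooth R S
  rw [Algebra.FormallySmooth.iff_injective_cotangentComplexBaseChange Aq k hsurj hfg h3']
  haveI : Algebra.FormallyEtale A Aq := Algebra.FormallyEtale.of_isLocalization q.primeCompl
  let E : k ⊗[Aq] Ω[Aq⁄R] ≃ₗ[k] k ⊗[A] Ω[A⁄R] :=
    (TensorProduct.AlgebraTensorModule.congr (LinearEquiv.refl k k)
      (KaehlerDifferential.tensorKaehlerEquivOfFormallyEtale R A Aq).symm).trans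
      (TensorProduct.AlgebraTensorModule.cancelBaseChange A Aq k k Ω[A⁄R])
  let f : k ⊗[Aq] RingHom.ker (algebraMap Aq S) →ₗ[k] k ⊗[A] Ω[A⁄R] :=
    E.toLinearMap ∘ₗ KaehlerDifferential.cotangentComplexBaseChange R S Aq k
  suffices hf : Function.Injective f from (E.injective.of_comp_iff _).mp hf
  let x : J → RingHom.ker (algebraMap Aq S) := fun g ↦
    ⟨algebraMap A Aq g, hker.ge (Ideal.mem_map_of_mem _ g.2)⟩
  let v : J → k ⊗[Aq] RingHom.ker (algebraMap Aq S) := fun g ↦ (1 : k) ⊗ₜ x g
  have hfv : ∀ g : J, f (v g) = (1 : k) ⊗ₜ[A] KaehlerDifferential.D R A g := fun g ↦ by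
    simp only [f, v, x, E, LinearMap.comp_apply, LinearEquiv.coe_coe, LinearEquiv.trans_apply,
      KaehlerDifferential.cotangentComplexBaseChange_tmul, one_smul,
      KaehlerDifferential.kerToTensor]
    change (TensorProduct.AlgebraTensorModule.cancelBaseChange A Aq k k Ω[A⁄R])
      (TensorProduct.AlgebraTensorModule.congr (LinearEquiv.refl k k)
        (KaehlerDifferential.tensorKaehlerEquivOfFormallyEtale R A Aq).symm
        ((1 : k) ⊗ₜ[Aq] KaehlerDifferential.D R Aq (algebraMap A Aq (g : A)))) = _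
    rw [TensorProduct.AlgebraTensorModule.congr_tmul, LinearEquiv.refl_apply,
      KaehlerDifferential.tensorKaehlerEquivOfFormallyEtale_symm_D_algebraMap,
      TensorProduct.AlgebraTensorModule.cancelBaseChange_tmul, one_smul]
  have hres : Function.Surjective (algebraMap Aq k) := IsLocalRing.residue_surjective

  let N := k ⊗[Aq] RingHom.ker (algebraMap Aq S)
  let I : Ideal A := RingHom.ker ε
  have hIq : ∀ i ∈ I, algebraMap A k i = 0 := fun i hi => by
    rw [Ideal.algebraMap_residueField_eq_zero]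
    show Ideal.Quotient.mk J i ∈ P
    exact hP (Ideal.mem_map_of_mem _ hi)
  let Φ : J.restrictScalars R →ₗ[R] N :=
    { toFun := fun j => (1 : k) ⊗ₜ[Aq] x ⟨j.1, j.2⟩
      map_add' := fun a b => by
        rw [← TensorProduct.tmul_add]
        exact congrArg _ (Subtype.ext (map_add (algebraMap A Aq) _ _))
      map_smul' := fun c a => by
        rw [RingHom.id_apply, ← TensorProduct.tmul_smul]
        exact congrArg _ (Subtype.ext (by
          show algebraMap A Aq (c • (a : A)) = c • algebraMap A Aq (a : A)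
          rw [Algebra.smul_def c (a : A), map_mul, ← IsScalarTower.algebraMap_apply, Algebra.smul_def])) }
  have hΦ : ∀ (y : A) (hy : y ∈ J) (_ : y ∈ I * J), Φ ⟨y, hy⟩ = 0 := by
    intro y hy h
    induction h using Submodule.mul_induction_on' with
    | mem_mul_mem i hi j hj =>
      show (1 : k) ⊗ₜ[Aq] x ⟨i * j, _⟩ = 0
      have : x ⟨i * j, hy⟩ = algebraMap A Aq i • x ⟨j, hj⟩ := Subtype.ext (map_mul (algebraMap A Aq) i j)
      rw [this, ← TensorProduct.smul_tmul, Algebra.smul_def, ← IsScalarTower.algebraMap_apply, hIq i hi, zero_mul,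
        TensorProduct.zero_tmul]
    | add a ha b hb iha ihb =>
      have hha : a ∈ J := Ideal.mul_le_right ha
      have hhb : b ∈ J := Ideal.mul_le_right hb
      rw [show (⟨a + b, hy⟩ : J.restrictScalars R) = ⟨a, hha⟩ + ⟨b, hhb⟩ from rfl, map_add, iha hha, ihb hhb, add_zero]
  let Abar := A ⧸ (I ^ 2).restrictScalars R
  let m₂ : A →ₗ[R] Abar := ((I ^ 2).restrictScalars R).mkQ
  let jm : J.restrictScalars R →ₗ[R] Abar := m₂ ∘ₗ (J.restrictScalars R).subtype
  have hjm : LinearMap.ker jm ≤ LinearMap.ker Φ := fun y hy => by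
    have hy2 : (y : A) ∈ I ^ 2 := (Submodule.Quotient.mk_eq_zero _).mp hy
    exact hΦ y.1 y.2 (h2.le ⟨y.2, hy2⟩)
  let Φr : LinearMap.range jm →ₗ[R] N :=
    ((LinearMap.ker jm).liftQ Φ hjm) ∘ₗ jm.quotKerEquivRange.symm.toLinearMap
  have hΦr : ∀ (y : J.restrictScalars R), Φr ⟨jm y, y, rfl⟩ = Φ y := fun y => by
    show (LinearMap.ker jm).liftQ Φ hjm (jm.quotKerEquivRange.symm ⟨jm y, y, rfl⟩) = _
    rw [LinearMap.quotKerEquivRange_symm_apply_image jm y (by exact ⟨y, rfl⟩)]
    rfl
  -- a section of the conormal projection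
  let T := Submodule.comap (RingHom.ker ε).subtype (J ⊔ RingHom.ker ε ^ 2)
  haveI := h3.2
  obtain ⟨σ, hσ⟩ := Module.projective_lifting_property (T.mkQ.restrictScalars R) LinearMap.id
    (Submodule.mkQ_surjective _)
  let pr : ↥(RingHom.ker ε) →ₗ[R] Abar :=
    m₂ ∘ₗ ((RingHom.ker ε).subtype.restrictScalars R) ∘ₗ (LinearMap.id - σ ∘ₗ T.mkQ.restrictScalars R)
  have hpr : ∀ a, pr a ∈ LinearMap.range jm := fun a => by
    have h : a - σ (T.mkQ a) ∈ T := by
      rw [← Submodule.Quotient.mk_eq_zero, Submodule.Quotient.mk_sub, sub_eq_zero]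
      exact (LinearMap.congr_fun hσ (T.mkQ a)).symm
    obtain ⟨j, hj, i, hi, hji⟩ := Submodule.mem_sup.mp h
    refine ⟨⟨j, hj⟩, ?_⟩
    show m₂ j = m₂ ((a - σ (T.mkQ a) : ↥(RingHom.ker ε)) : A)
    rw [show ((a - σ (T.mkQ a) : ↥(RingHom.ker ε)) : A) = j + i from hji.symm, map_add,
      show m₂ i = 0 from (Submodule.Quotient.mk_eq_zero _).mpr hi, add_zero]
  let red : A →ₗ[R] ↥(RingHom.ker ε) :=
    LinearMap.codRestrict ((RingHom.ker ε).restrictScalars R) (LinearMap.id - (Algebra.linearMap R A) ∘ₗ ε.toLinearMap)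
      (fun a => by
        show ε (a - algebraMap R A (ε a)) = 0
        rw [map_sub, AlgHom.commutes]
        exact sub_self _)
  have hred : ∀ a, ((red a : ↥(RingHom.ker ε)) : A) = a - algebraMap R A (ε a) := fun a => rfl
  let Ψ₀ : A →ₗ[R] N := Φr ∘ₗ (pr.codRestrict _ hpr) ∘ₗ red
  have hΨJ : ∀ (j : A) (hj : j ∈ J), Ψ₀ j = Φ ⟨j, hj⟩ := fun j hj => by
    have h0 : red j = ⟨j, hJI hj⟩ := Subtype.ext (by rw [hred, show ε j = 0 from hJI hj, map_zero, sub_zero])
    have h1' : T.mkQ (⟨j, hJI hj⟩ : ↥(RingHom.ker ε)) = 0 :=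
      (Submodule.Quotient.mk_eq_zero _).mpr (Submodule.mem_sup_left hj)
    rw [← hΦr]
    refine congrArg Φr (Subtype.ext ?_)
    show pr (red j) = jm ⟨j, hj⟩
    rw [h0]
    show m₂ ((⟨j, hJI hj⟩ - σ (T.mkQ ⟨j, hJI hj⟩) : ↥(RingHom.ker ε)) : A) = m₂ j
    rw [h1', map_zero, sub_zero]
  have hsmulN : ∀ (a : A) (n : N), a • n = ε a • n := fun a n => by
    have h : algebraMap A k (a - algebraMap R A (ε a)) = 0 := hIq _ (red a).2
    rw [map_sub, sub_eq_zero, ← IsScalarTower.algebraMap_apply] at h
    rw [← algebraMap_smul k a n, h, algebraMap_smul]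
  have hΨ2 : ∀ a b : A, Ψ₀ (a * b) = a • Ψ₀ b + b • Ψ₀ a := fun a b => by
    rw [hsmulN, hsmulN, ← map_smul, ← map_smul, ← map_add, ← sub_eq_zero, ← map_sub]
    show Φr ((pr.codRestrict _ hpr) (red _)) = 0
    set w := a * b - (ε a • b + ε b • a) with hw
    have hmem : red w ∈ T ∧ ((red w : ↥(RingHom.ker ε)) : A) ∈ I ^ 2 := by
      have e : ((red w : ↥(RingHom.ker ε)) : A) = (red a : A) * (red b : A) := by
        simp only [hred, hw, map_sub, map_add, map_mul, map_smul, smul_eq_mul, Algebra.smul_def, Algebra.algebraMap_self_apply,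
          AlgHom.commutes, RingHom.id_apply, Submodule.coe_sub, Submodule.coe_add, Submodule.coe_mk]
        ring
      have h' : ((red w : ↥(RingHom.ker ε)) : A) ∈ I ^ 2 := by
        rw [e, pow_two]; exact Ideal.mul_mem_mul (red a).2 (red b).2
      exact ⟨Submodule.mem_sup_right h', h'⟩
    have : (pr.codRestrict _ hpr) (red w) = 0 := Subtype.ext (by
      show m₂ ((red w - σ (T.mkQ (red w)) : ↥(RingHom.ker ε)) : A) = 0
      rw [show T.mkQ (red w) = 0 from (Submodule.Quotient.mk_eq_zero _).mpr hmem.1, map_zero, sub_zero]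
      exact (Submodule.Quotient.mk_eq_zero _).mpr hmem.2)
    rw [this, map_zero]
  let D' : Derivation R A N := Derivation.mk' Ψ₀ hΨ2
  let g : k ⊗[A] Ω[A⁄R] →ₗ[k] N := D'.liftKaehlerDifferential.liftBaseChange k
  have hgen : ∀ z : N, g (f z) = z := by
    intro z
    induction z using TensorProduct.induction_on with
    | zero => rw [map_zero, map_zero]
    | add y z hy hz => rw [map_add, map_add, hy, hz]
    | tmul c w =>
      have key : ∀ w : RingHom.ker (algebraMap Aq S), g (f ((1 : k) ⊗ₜ[Aq] w)) = (1 : k) ⊗ₜ[Aq] w := by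
        intro w
        obtain ⟨⟨j, t⟩, hjt⟩ := (IsLocalization.mem_map_algebraMap_iff q.primeCompl Aq).mp (hker.le w.2)
        have ht : algebraMap Aq k (algebraMap A Aq t) ≠ 0 := ((IsLocalization.map_units Aq t).map (algebraMap Aq k)).ne_zero
        have e : algebraMap A Aq t • w = x j := Subtype.ext ((mul_comm _ _).trans hjt)
        have h' : g (f ((1 : k) ⊗ₜ[Aq] x j)) = (1 : k) ⊗ₜ[Aq] x j := by
          show g (f (v j)) = _
          rw [hfv]
          show D'.liftKaehlerDifferential.liftBaseChange k ((1 : k) ⊗ₜ[A] KaehlerDifferential.D R A (j : A)) = _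
          rw [LinearMap.liftBaseChange_tmul, one_smul, Derivation.liftKaehlerDifferential_comp_D]
          exact hΨJ j j.2
        rw [← e, ← TensorProduct.smul_tmul, Algebra.smul_def, mul_one] at h'
        have hc : algebraMap Aq k (algebraMap A Aq t) ⊗ₜ[Aq] w =
            algebraMap Aq k (algebraMap A Aq t) • ((1 : k) ⊗ₜ[Aq] w) := by
          rw [TensorProduct.smul_tmul', smul_eq_mul, mul_one]
        rw [hc, map_smul, map_smul] at h'
        exact smul_right_injective N ht h'
      rw [show c ⊗ₜ[Aq] w = c • ((1 : k) ⊗ₜ[Aq] w) by rw [TensorProduct.smul_tmul', smul_eq_mul, mul_one],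
        map_smul, map_smul, key]
  exact Function.LeftInverse.injective hgen

end Groth.Agent.S19149
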