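import Groth.Statements.S1915
import Groth.Agent.H19.Spec.Pull
import Groth.Agent.H19.IntMult.ExtProd
import Groth.Agent.Lib.Devissage.Closure

set_option autoImplicit false
universe u
open CategoryTheory AlgebraicGeometry
open CategoryTheory.Limits
open Cyc

namespace Groth.Agent.S1915

open Groth.Agent.Lib Groth.Agent.Lib.Cyc Groth.Agent.H19.Spec

theorem finite_gens {A B : Scheme.{u}} (g : A ⟶ B) [QuasiCompact g] (α : AlgebraicCycle A ℤ) (y : B) :
    {ξ : A | α ξ ≠ 0 ∧ g ξ ⤳ y}.Finite := by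
  obtain ⟨_, ⟨V, hV, rfl⟩, hyV, -⟩ :=
    B.isBasis_affineOpens.exists_subset_of_mem_open (Set.mem_univ y) isOpen_univ
  exact (α.locallyFiniteSupport.finite_inter_support_of_isCompact
    (QuasiCompact.isCompact_preimage (f := g) (V : Set B) V.2 hV.isCompact)).subset
    fun ξ hξ => ⟨hξ.2.mem_open V.2 hyV, hξ.1⟩

theorem quasiCompact_fromSpecResidueField {R : Type u} [CommRing R] (y : Spec (CommRingCat.of R)) :
    QuasiCompact ((Spec (CommRingCat.of R)).fromSpecResidueField y) := inferInstance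



/-- Let f : X' → X be flat, locally of finite type, of relative dimension e, between schemes locally of
finite type over a discrete valuation ring R, with induced morphisms f_η, f_s of fibres. Then for
every r-cycle α on X_η, sp_{X'}(f_η^* α) = f_s^*(sp_X α) coefficientwise. Here sp is Cyc.spFun,
fibres are Mathlib's Scheme.Hom.fiber with dimension functions given by transcendence degree, flat
pullback is Cyc.pullFun, and the maps of fibres are the base changes of f. -/
theorem result (R : Type u) [CommRing R] [IsDomain R] [IsDiscreteValuationRing R] (X' X : Scheme.{u}) (b : X ⟶ Spec (CommRingCat.of R)) [LocallyOfFiniteType b] (f : X' ⟶ X) [Flat f] [LocallyOfFiniteType f] (e : ℕ) (he : Cyc.HasRelDim f e) (δX'η : ↥((f ≫ b).fiber (genericPoint ↥(Spec (CommRingCat.of R)))) → ℤ) (δX's : ↥((f ≫ b).fiber (IsLocalRing.closedPoint R)) → ℤ) (δXη : ↥(b.fiber (genericPoint ↥(Spec (CommRingCat.of R)))) → ℤ) (δXs : ↥(b.fiber (IsLocalRing.closedPoint R)) → ℤ) (h1 : Cyc.DeltaCompat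 ((f ≫ b).fiberToSpecResidueField (genericPoint ↥(Spec (CommRingCat.of R)))) δX'η (fun _ => 0)) (h2 : Cyc.DeltaCompat ((f ≫ b).fiberToSpecResidueField (IsLocalRing.closedPoint R)) δX's (fun _ => 0)) (h3 : Cyc.DeltaCompat (b.fiberToSpecResidueField (genericPoint ↥(Spec (CommRingCat.of R)))) δXη (fun _ => 0)) (h4 : Cyc.DeltaCompat (b.fiberToSpecResidueField (IsLocalRing.closedPoint R)) δXs (fun _ => 0)) (r : ℤ) (α : AlgebraicCycle (b.fiber (genericPoint ↥(Spec (CommRingCat.of R)))) ℤ) (hα : α ∈ Cyc.Zk (b.fiber (genericPoint ↥(Spec (CommRingCat.of R)))) δXη r) : Cyc.spFun (f ≫ b) (genericPoint ↥(Spec (CommRingCat.of R))) (IsLocalRing.closedPoint R) δX'η δX's (r + e) (Cyc.pullFun (pullback.map (f ≫ b) ((Spec (CommRingCat.of R)).fromSpecResidueField (genericPoint ↥(Spec (CommRingCat.of R)))) b ((Spec (CommRingCat.of R)).fromSpecResidueField (genericPoint ↥(Spec (CommRingCat.of R)))) f (𝟙 _) (𝟙 _) (Category.comp_id _) ((Category.comp_id _).trans (Category.id_comp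 _).symm)) δX'η δXη e ⇑α) = Cyc.pullFun (pullback.map (f ≫ b) ((Spec (CommRingCat.of R)).fromSpecResidueField (IsLocalRing.closedPoint R)) b ((Spec (CommRingCat.of R)).fromSpecResidueField (IsLocalRing.closedPoint R)) f (𝟙 _) (𝟙 _) (Category.comp_id _) ((Category.comp_id _).trans (Category.id_comp _).symm)) δX's δXs e (Cyc.spFun b (genericPoint ↥(Spec (CommRingCat.of R))) (IsLocalRing.closedPoint R) δXη δXs r ⇑α) := by
  classical
  haveI : IsLocallyNoetherian X := LocallyOfFiniteType.isLocallyNoetherian b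
  haveI : IsLocallyNoetherian X' := LocallyOfFiniteType.isLocallyNoetherian f
  have hd := deltaCompat (a := b) h3 h4
  have hd' := deltaCompat (a := f ≫ b) h1 h2
  have hX := InducedDimFun.isDimFun b isDimFun_δS isUniversallyCatenary_stalk hd
  have hdf := Pull.deltaCompat_of_base f b hd hd'
  have hsh : FP.Main.Shift f (δX (f ≫ b)) (δX b) (e : ℤ) := FP.Main.shift_of_hasRelDim f he hdf
  haveI := Pull.flat_fibMap f b (genericPoint ↥(Spec (CommRingCat.of R)))
  haveI := Pull.flat_fibMap f b (IsLocalRing.closedPoint R)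
  have hshη := Pull.shift_fibMap f b hsh (genericPoint ↥(Spec (CommRingCat.of R))) (t := δS (genericPoint ↥(Spec (CommRingCat.of R))))
    (fun z => (δX_fiber h1 z).1) (fun z => (δX_fiber h3 z).1)
  have hshs := Pull.shift_fibMap f b hsh (IsLocalRing.closedPoint R) (t := δS (IsLocalRing.closedPoint R))
    (fun z => (δX_fiber h2 z).1) (fun z => (δX_fiber h4 z).1)
  have lft1 : LocallyOfFiniteType (b.fiberToSpecResidueField (genericPoint ↥(Spec (CommRingCat.of R)))) :=
    MorphismProperty.pullback_snd _ _ ‹_›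
  have lft2 : LocallyOfFiniteType ((f ≫ b).fiberToSpecResidueField (genericPoint ↥(Spec (CommRingCat.of R)))) :=
    MorphismProperty.pullback_snd _ _ inferInstance
  have lft3 : LocallyOfFiniteType ((f ≫ b).fiberToSpecResidueField (IsLocalRing.closedPoint R)) :=
    MorphismProperty.pullback_snd _ _ inferInstance
  haveI := LocallyOfFiniteType.isLocallyNoetherian (b.fiberToSpecResidueField (genericPoint ↥(Spec (CommRingCat.of R))))
  haveI := LocallyOfFiniteType.isLocallyNoetherian ((f ≫ b).fiberToSpecResidueField (genericPoint ↥(Spec (CommRingCat.of R))))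
  have dη := (@Groth.Agent.H19.IntMult.ExtProd.isSetup_of_deltaCompat _ _ _ _ lft1 _ h3).2.2
  have dη' := (@Groth.Agent.H19.IntMult.ExtProd.isSetup_of_deltaCompat _ _ _ _ lft2 _ h1).2.2
  have ds' := (@Groth.Agent.H19.IntMult.ExtProd.isSetup_of_deltaCompat _ _ _ _ lft3 _ h2).2.2
  haveI : QuasiCompact (b.fiberι (genericPoint ↥(Spec (CommRingCat.of R)))) :=
    MorphismProperty.pullback_fst _ _ (quasiCompact_fromSpecResidueField _)
  haveI : QuasiCompact ((f ≫ b).fiberι (genericPoint ↥(Spec (CommRingCat.of R)))) :=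
    MorphismProperty.pullback_fst _ _ (quasiCompact_fromSpecResidueField _)
  let fη := Pull.fibMap f b (genericPoint ↥(Spec (CommRingCat.of R)))
  let fs := Pull.fibMap f b (IsLocalRing.closedPoint R)
  funext x
  show Cyc.spFun (f ≫ b) _ _ δX'η δX's (r + e) (Cyc.pullFun fη δX'η δXη e ⇑α) x =
    Cyc.pullFun fs δX's δXs e (Cyc.spFun b _ _ δXη δXs r ⇑α) x
  have hfin := finite_gens (b.fiberι (genericPoint ↥(Spec (CommRingCat.of R)))) α (b.fiberι _ (fs x))
  let A := hfin.toFinset
  have hA : ∀ ξ ∈ A, δXη ξ = r := fun ξ hξ =>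
    by_contra fun h => (hfin.mem_toFinset.1 hξ).1 (hα ξ h)
  let g : ↥(b.fiber (genericPoint ↥(Spec (CommRingCat.of R)))) → ℤ := fun ζ =>
    ∑ ξ ∈ A, α ξ * Set.indicator {ξ} 1 ζ
  have hg : ∀ ζ, b.fiberι _ ζ ⤳ b.fiberι _ (fs x) → α ζ = g ζ := fun ζ hζ => by
    show α ζ = ∑ ξ ∈ A, _
    rw [Finset.sum_eq_single ζ (fun ξ _ hne => by
        rw [Set.indicator_of_notMem (fun h => hne (Set.mem_singleton_iff.1 h).symm), mul_zero])
      (fun hn => by
        rw [show α ζ = 0 from by_contra fun h => hn (hfin.mem_toFinset.2 ⟨h, hζ⟩), zero_mul]),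
      Set.indicator_of_mem (Set.mem_singleton _), Pi.one_apply, mul_one]
  let F := fun ξ : ↥(b.fiber (genericPoint ↥(Spec (CommRingCat.of R)))) =>
    Cyc.closureStructureSheaf (b.fiberι (genericPoint ↥(Spec (CommRingCat.of R))) ξ)
  have hcoh : ∀ ξ, Coh.IsCoh (F ξ) := fun ξ => Devissage.Closure.isCoh_closureStructureSheaf _
  -- one prime cycle
  have hle : ∀ ξ ∈ A, ∀ ζ, Nontrivial (((Scheme.Modules.pullback ((f ≫ b).fiberι (genericPoint ↥(Spec (CommRingCat.of R))))).obj
      ((Scheme.Modules.pullback f).obj (F ξ))).presheaf.stalk ζ) → δX'η ζ ≤ r + e := fun ξ hξ ζ hζ => by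
    have h' : Nontrivial (((Scheme.Modules.pullback fη).obj ((Scheme.Modules.pullback
        (b.fiberι (genericPoint ↥(Spec (CommRingCat.of R))))).obj (F ξ))).presheaf.stalk ζ) :=
      @Equiv.nontrivial _ _ (((Modules.StalkModule.stalkModFunctor _ ζ).mapIso (Pull.pullIso f b _ (F ξ))).toLinearEquiv.symm.toEquiv) hζ
    exact FP.Main.delta_le_of_supp fη dη' hshη _ (fun y hy => Lin.prime_dim b dη (hA ξ hξ) y hy) ζ h'
  have hone : ∀ ξ ∈ A, Cyc.spFun (f ≫ b) (genericPoint ↥(Spec (CommRingCat.of R))) (IsLocalRing.closedPoint R) δX'η δX's (r + e)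
      (Cyc.pullFun fη δX'η δXη e (Set.indicator {ξ} 1)) x =
      Cyc.pullFun fs δX's δXs e (Cyc.spFun b (genericPoint ↥(Spec (CommRingCat.of R))) (IsLocalRing.closedPoint R) δXη δXs r
        (Set.indicator {ξ} 1)) x := fun ξ hξ => by
    obtain ⟨hdims, hsp⟩ := main h3 h4 r (F ξ) (hcoh ξ)
      (Lin.isRegularOver_closure b _ (FieldDim.apply_fiberι b _ ξ)) (fun ζ hζ => Lin.prime_dim b dη (hA ξ hξ) ζ hζ)
    obtain ⟨-, hsp'⟩ := main h1 h2 (r + e) ((Scheme.Modules.pullback f).obj (F ξ))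
      (FP.Stalk.isCoh_pullback f (hcoh ξ))
      (Pull.isRegularOver_pullback f b (Lin.isRegularOver_closure b _ (FieldDim.apply_fiberι b _ ξ))) (hle ξ hξ)
    rw [← Lin.prime_sheafFun b dη (hA ξ hξ), hsp,
      FP.Main.pullFun_sheafFun fη dη' hshη r _ (fun y hy => Lin.prime_dim b dη (hA ξ hξ) y hy),
      FP.Main.pullFun_sheafFun fs ds' hshs r _ hdims,
      ← Lin.sheafFun_iso δX'η (r + e) (Pull.pullIso f b (genericPoint ↥(Spec (CommRingCat.of R))) (F ξ)),
      ← Lin.sheafFun_iso δX's (r + e) (Pull.pullIso f b (IsLocalRing.closedPoint R) (F ξ)), hsp']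
  -- linearity
  have hL : Cyc.spFun (f ≫ b) (genericPoint ↥(Spec (CommRingCat.of R))) (IsLocalRing.closedPoint R) δX'η δX's (r + e)
      (Cyc.pullFun fη δX'η δXη e ⇑α) x =
      ∑ ξ ∈ A, α ξ * Cyc.spFun (f ≫ b) (genericPoint ↥(Spec (CommRingCat.of R))) (IsLocalRing.closedPoint R) δX'η δX's (r + e)
        (Cyc.pullFun fη δX'η δXη e (Set.indicator {ξ} 1)) x := by
    rw [← Lin.spFun_sum]
    · refine Lin.spFun_congr _ _ _ _ _ _ _ fun ζ _ hζ => ?_
      simp only [FibLen.pullFun_apply]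
      split_ifs
      · rw [hg (fη ζ) (by rw [Pull.fiberι_apply, Pull.fiberι_apply]; exact hζ.map f.continuous)]
        show (∑ ξ ∈ A, _) * _ = _
        rw [Finset.sum_mul]
        exact Finset.sum_congr rfl fun ξ _ => by ring
      · simp
    · intro ξ hξ
      have hC : Cyc.CohLe δX'η (r + e) ((Scheme.Modules.pullback ((f ≫ b).fiberι (genericPoint ↥(Spec (CommRingCat.of R))))).obj
          ((Scheme.Modules.pullback f).obj (F ξ))) :=
        ⟨FP.Stalk.isCoh_pullback _ (FP.Stalk.isCoh_pullback f (hcoh ξ)), hle ξ hξ⟩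
      refine (finite_gens ((f ≫ b).fiberι (genericPoint ↥(Spec (CommRingCat.of R)))) (FP.Rat.cycleOf (r + e) dη' hC)
        ((f ≫ b).fiberι (IsLocalRing.closedPoint R) x)).subset fun ζ hζ => ⟨fun h0 => hζ.2.2 ?_, hζ.2.1⟩
      rw [← Lin.prime_sheafFun b dη (hA ξ hξ),
        FP.Main.pullFun_sheafFun fη dη' hshη r _ (fun y hy => Lin.prime_dim b dη (hA ξ hξ) y hy),
        ← Lin.sheafFun_iso δX'η (r + e) (Pull.pullIso f b (genericPoint ↥(Spec (CommRingCat.of R))) (F ξ))]
      exact h0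
  rw [hL, Finset.sum_congr rfl fun ξ hξ => by rw [hone ξ hξ]]
  simp only [FibLen.pullFun_apply]
  split_ifs
  swap
  · simp
  rw [Lin.spFun_congr b _ _ δXη δXs r (fs x) (fun ζ _ hζ => hg ζ hζ),
    Lin.spFun_sum b _ _ δXη δXs r A (fun ξ => α ξ) (fun ξ => Set.indicator {ξ} 1) (fs x)
      (fun ξ _ => (Set.finite_singleton ξ).subset fun ζ hζ => Set.mem_of_indicator_ne_zero hζ.2.2),
    Finset.sum_mul]
  exact Finset.sum_congr rfl fun ξ _ => by ring

end Groth.Agent.S1915
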