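import Groth.Statements.S19154
import Mathlib.RingTheory.Finiteness.Basic
import Mathlib.RingTheory.TensorProduct.Finite
import Mathlib.RingTheory.Spectrum.Prime.Module
import Mathlib.RingTheory.LocalRing.Module
import Mathlib.LinearAlgebra.TensorProduct.RightExactness
import Mathlib.LinearAlgebra.Dimension.Finite
import Mathlib.LinearAlgebra.FiniteDimensional.Lemmas
-- import your own Groth.Agent.* helpers here

set_option autoImplicit false
open scoped TensorProduct
universe u v w
open FiltMod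

namespace Groth.Agent.S19154

open scoped TensorProduct

theorem of_biSup {R : Type u} [CommRing R] {V : Type*} [AddCommGroup V] [Module R V] {ι : Type*}
    {s : ι → Prop} {G : ι → Submodule R V} {N : Submodule R V} {x : V}
    (hx : x ∈ ⨆ i, ⨆ (_ : s i), G i) (h : ∀ i, s i → G i ≤ N) : x ∈ N := (iSup₂_le h) hx

theorem exists_proj {Γ : Type w} [LinearOrder Γ] {R : Type u} [CommRing R] {M : Type v}
    [AddCommGroup M] [Module R M] [Module.Finite R M] (G : Γ → Submodule R M)
    (hG : DirectSum.IsInternal G) :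
    ∃ (p : Γ → M →ₗ[R] M) (S : Finset Γ), (∀ γ x, p γ x ∈ G γ) ∧
      (∀ γ x, x ∈ G γ → p γ x = x) ∧ (∀ γ η x, x ∈ G η → γ ≠ η → p γ x = 0) ∧
      (∀ x, ∑ γ ∈ S, p γ x = x) := by
  classical
  let e := LinearEquiv.ofBijective (DirectSum.coeLinearMap G) hG
  let p : Γ → M →ₗ[R] M := fun γ =>
    (G γ).subtype ∘ₗ DirectSum.component R Γ (fun i => G i) γ ∘ₗ e.symm.toLinearMap
  have hp_self : ∀ γ x, x ∈ G γ → p γ x = x := by
    intro γ x hx
    have : e.symm x = DirectSum.of (fun i => G i) γ ⟨x, hx⟩ := by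
      apply e.injective; rw [e.apply_symm_apply]; exact (DirectSum.coeLinearMap_of G γ ⟨x, hx⟩).symm
    show (((e.symm x) γ : G γ) : M) = x
    rw [this, DirectSum.of_eq_same]
  have hp_ne : ∀ γ η x, x ∈ G η → γ ≠ η → p γ x = 0 := by
    intro γ η x hx hne
    have : e.symm x = DirectSum.of (fun i => G i) η ⟨x, hx⟩ := by
      apply e.injective; rw [e.apply_symm_apply]; exact (DirectSum.coeLinearMap_of G η ⟨x, hx⟩).symm
    show (((e.symm x) γ : G γ) : M) = 0
    rw [this, DirectSum.of_eq_of_ne _ _ _ hne]; rfl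
  obtain ⟨S, hS⟩ : ∃ S : Finset Γ, ∀ x, x ∈ ⨆ η ∈ S, G η := by
    have hc : IsCompactElement (⊤ : Submodule R M) :=
      (Submodule.fg_iff_compact _).1 Module.Finite.fg_top
    obtain ⟨S, hS⟩ := CompleteLattice.IsCompactElement.exists_finset_of_le_iSup _ hc G
      (by rw [hG.submodule_iSup_eq_top])
    exact ⟨S, fun x => hS Submodule.mem_top⟩
  refine ⟨p, S, fun γ x => Subtype.coe_prop _, hp_self, hp_ne, fun x => ?_⟩
  have : x ∈ LinearMap.eqLocus (∑ γ ∈ S, p γ) LinearMap.id := by
    refine of_biSup (hS x) fun η hη y hy => ?_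
    rw [LinearMap.mem_eqLocus, LinearMap.sum_apply, Finset.sum_eq_single η
      (fun b _ hb => hp_ne b η y hy hb) (fun h => absurd hη h), hp_self η y hy]
    rfl
  simpa using this
theorem bc_le_iff {R : Type u} [CommRing R] {M : Type v} [AddCommGroup M] [Module R M]
    (K : Type u) [Field K] [Algebra R K] (N : Submodule R M) (W : Submodule K (K ⊗[R] M)) :
    LinearMap.range (N.subtype.baseChange K) ≤ W ↔ ∀ x ∈ N, (1 : K) ⊗ₜ[R] x ∈ W := by
  constructor
  · intro h x hx; exact h ⟨(1 : K) ⊗ₜ[R] (⟨x, hx⟩ : N), by simp⟩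
  · rintro h _ ⟨y, rfl⟩
    induction y with
    | zero => simp
    | tmul a x =>
      rw [LinearMap.baseChange_tmul, show a ⊗ₜ[R] N.subtype x = a • ((1 : K) ⊗ₜ[R] (x : M)) by
        rw [TensorProduct.smul_tmul', smul_eq_mul, mul_one]; rfl]
      exact W.smul_mem a (h x x.2)
    | add x y hx hy => rw [map_add]; exact W.add_mem hx hy

theorem sum_jump_le {Γ : Type w} [LinearOrder Γ] (d d' : Γ → ℕ) (hd : ∀ γ η, γ < η → d η ≤ d' γ)
    (hd' : ∀ γ, d' γ ≤ d γ) (n : ℕ) (hn : ∀ γ, d γ ≤ n) (T : Finset Γ) :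
    ∑ γ ∈ T, (d γ - d' γ) ≤ n := by
  classical
  suffices ∀ B, (∀ γ ∈ T, d γ ≤ B) → ∑ γ ∈ T, (d γ - d' γ) ≤ B from this n (fun γ _ => hn γ)
  refine Finset.induction_on_min T (by simp) ?_
  intro a s has ih B hB
  rw [Finset.sum_insert (fun h => lt_irrefl a (has a h))]
  have h1 := ih (d' a) (fun γ hγ => hd a γ (has γ hγ))
  have h2 := hB a (Finset.mem_insert_self a s)
  have h3 := hd' a
  omega

theorem eq_top_of_jumps {Γ : Type w} [LinearOrder Γ] {K : Type*} [Field K] {V : Type*}
    [AddCommGroup V] [Module K V] [FiniteDimensional K V] (Fx : Γ → Submodule K V)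
    (hanti : Antitone Fx) (W : Submodule K V)
    (hW : ∀ γ, Fx γ ≤ W ⊔ ⨆ η ∈ Set.Ioi γ, Fx η)
    (hdim : Module.finrank K V = ∑ᶠ γ, (Module.finrank K ↥(Fx γ) -
      Module.finrank K ↥(⨆ η ∈ Set.Ioi γ, Fx η))) : W = ⊤ := by
  classical
  apply Submodule.eq_top_of_finrank_eq
  refine le_antisymm (Submodule.finrank_le W) ?_
  rw [hdim]
  set P : Γ → Submodule K V := fun γ => ⨆ η ∈ Set.Ioi γ, Fx η with hP
  have hPle : ∀ γ, P γ ≤ Fx γ := fun γ => iSup₂_le fun η hη => hanti (le_of_lt hη)
  by_cases hfin : (Function.support fun γ => Module.finrank K ↥(Fx γ) -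
      Module.finrank K ↥(P γ)).Finite
  · rw [finsum_eq_sum _ hfin]
    refine le_trans (Finset.sum_le_sum (g := fun γ => Module.finrank K ↥(W ⊓ Fx γ) -
      Module.finrank K ↥(W ⊓ P γ)) fun γ _ => ?_) ?_
    · have hsup : (W ⊓ Fx γ) ⊔ P γ = Fx γ := by
        rw [sup_comm, ← sup_inf_assoc_of_le W (hPle γ), sup_comm, inf_eq_right.2 (hW γ)]
      have := Submodule.finrank_sup_add_finrank_inf_eq (W ⊓ Fx γ) (P γ)
      rw [hsup, inf_assoc, inf_eq_right.2 (hPle γ)] at this
      omega
    · refine sum_jump_le _ _ (fun γ η h => ?_) (fun γ => ?_) _ (fun γ => ?_) _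
      · exact Submodule.finrank_mono (inf_le_inf_left W (le_iSup₂_of_le η h le_rfl))
      · exact Submodule.finrank_mono (inf_le_inf_left W (hPle γ))
      · exact Submodule.finrank_mono inf_le_left
  · rw [finsum_of_infinite_support]
    · exact Nat.zero_le _
    · exact hfin

theorem finrank_sum {Γ : Type w} {K : Type*} [Field K] {V : Type*} [AddCommGroup V] [Module K V]
    [FiniteDimensional K V] (Gx : Γ → Submodule K V) (q : Γ → V →ₗ[K] V)
    (hq : ∀ γ, ∀ x ∈ Gx γ, q γ x = x) (hq' : ∀ γ η, γ ≠ η → ∀ x ∈ Gx η, q γ x = 0) (T : Finset Γ) :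
    Module.finrank K ↥(⨆ η ∈ T, Gx η) = ∑ η ∈ T, Module.finrank K ↥(Gx η) := by
  classical
  induction T using Finset.induction_on with
  | empty => simp
  | insert a s has ih =>
    rw [Finset.iSup_insert, Finset.sum_insert has, ← ih]
    have h0 : Gx a ⊓ (⨆ η ∈ s, Gx η) = ⊥ := by
      rw [eq_bot_iff]; intro x hx
      have : q a x = 0 := LinearMap.mem_ker.1 (of_biSup hx.2 (fun η hη y hy =>
        hq' a η (fun h => has (h ▸ hη)) y hy))
      rw [hq a x hx.1] at this; simp [this]
    have := Submodule.finrank_sup_add_finrank_inf_eq (Gx a) (⨆ η ∈ s, Gx η)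
    rw [h0, finrank_bot] at this
    omega

/-- (1) ⇔ (4): in affine form, let Γ be a non-trivial totally ordered commutative group, R a commutative
ring, M a finitely generated projective R-module (a finite locally free sheaf on X = Spec R) and F a
non-increasing Γ-indexed family of submodules of M; write F^γ_+ for the sum of the F^η with η > γ
and Gr^γ = F^γ/F^γ_+. Then the following are equivalent: (1) there is a Γ-grading M = ⊕_γ G_γ by
submodules (internal direct sum) with F^γ = Σ_{η ≥ γ} G_η for every γ; (4) every Gr^γ is finitely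
generated projective over R and, for every prime p of R, dim_{κ(p)} (κ(p) ⊗ M) = Σ_γ dim_{κ(p)} Gr^γ
of the image filtration on κ(p) ⊗ M (whose γ-th term F_x^γ is the image of κ(p) ⊗ F^γ; dim Gr^γ is
written as dim F_x^γ − dim F_x^γ_+, and the sum has finitely many non-zero terms). (The source's
conditions (2), (3) are the Zariski- and fpqc-local forms of (1) on a general scheme; its further
assertions on F^γ ⊗ κ(x) are not stated.) -/
theorem result
    {Γ : Type w} [AddCommGroup Γ] [LinearOrder Γ] [IsOrderedAddMonoid Γ] [Nontrivial Γ]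
    {R : Type u} [CommRing R] {M : Type v} [AddCommGroup M] [Module R M] [Module.Finite R M] [Module.Projective R M]
    (F : Γ → Submodule R M) (hF : Antitone F)
    (Fp : Γ → Submodule R M) (hFp : ∀ γ, Fp γ = ⨆ η ∈ Set.Ioi γ, F η) :
    (∃ G : Γ → Submodule R M, DirectSum.IsInternal G ∧ ∀ γ, F γ = ⨆ η ∈ Set.Ici γ, G η) ↔
    ((∀ γ, Module.Finite R (↥(F γ) ⧸ Submodule.comap (F γ).subtype (Fp γ)) ∧
        Module.Projective R (↥(F γ) ⧸ Submodule.comap (F γ).subtype (Fp γ))) ∧
      ∀ (p : PrimeSpectrum R) (Fx : Γ → Submodule p.asIdeal.ResidueField (p.asIdeal.ResidueField ⊗[R] M)),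
        (∀ γ, Fx γ = LinearMap.range ((F γ).subtype.baseChange p.asIdeal.ResidueField)) →
        Module.finrank p.asIdeal.ResidueField (p.asIdeal.ResidueField ⊗[R] M) =
          ∑ᶠ γ, (Module.finrank p.asIdeal.ResidueField ↥(Fx γ) -
            Module.finrank p.asIdeal.ResidueField ↥(⨆ η ∈ Set.Ioi γ, Fx η))) := by
  classical
  constructor
  · rintro ⟨G, hG, hFG⟩
    obtain ⟨p, S, hpm, hps, hpn, hpsum⟩ := exists_proj G hG
    have hFp_eq : ∀ γ, Fp γ = ⨆ η ∈ Set.Ioi γ, G η := by
      intro γ; rw [hFp]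
      refine le_antisymm (iSup₂_le fun η hη => ?_) (iSup₂_le fun η hη => ?_)
      · rw [hFG]; exact iSup₂_le fun ζ hζ => le_iSup₂_of_le ζ (lt_of_lt_of_le hη hζ) le_rfl
      · exact le_iSup₂_of_le η hη (by rw [hFG]; exact le_iSup₂_of_le η (Set.mem_Ici.2 le_rfl) le_rfl)
    have hker : ∀ γ, ∀ x ∈ Fp γ, p γ x = 0 := by
      intro γ x hx; rw [hFp_eq] at hx
      exact LinearMap.mem_ker.1 (of_biSup hx fun η hη y hy => hpn γ η y hy (ne_of_lt hη))
    refine ⟨fun γ => ?_, fun P Fx hFx => ?_⟩
    · have hGF : G γ ≤ F γ := by rw [hFG]; exact le_iSup₂_of_le γ (Set.mem_Ici.2 le_rfl) le_rfl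
      let f : G γ →ₗ[R] (↥(F γ) ⧸ Submodule.comap (F γ).subtype (Fp γ)) :=
        Submodule.mkQ _ ∘ₗ Submodule.inclusion hGF
      have hf : Function.Bijective f := by
        constructor
        · rw [← LinearMap.ker_eq_bot, eq_bot_iff]; intro x hx
          have hx' : (x : M) ∈ Fp γ := by
            simpa [f, Submodule.Quotient.mk_eq_zero] using hx
          have := hker γ x hx'; rw [hps γ x x.2] at this
          exact (Submodule.mem_bot R).2 (Subtype.ext this)
        · intro y; obtain ⟨⟨y, hy⟩, rfl⟩ := Submodule.Quotient.mk_surjective _ y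
          refine ⟨⟨p γ y, hpm γ y⟩, ?_⟩
          apply (Submodule.Quotient.eq _).2
          show p γ y - y ∈ Fp γ
          have hy' := hy; rw [hFG] at hy'
          have hle : (⨆ η ∈ Set.Ici γ, G η) ≤ Submodule.comap (p γ - LinearMap.id) (Fp γ) := by
            refine iSup₂_le fun η hη z hz => ?_
            show p γ z - z ∈ Fp γ
            rcases (Set.mem_Ici.1 hη).eq_or_lt with rfl | h
            · rw [hps γ z hz, sub_self]; exact zero_mem _
            · rw [hpn γ η z hz (ne_of_lt h), zero_sub, hFp_eq]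
              exact neg_mem (Submodule.mem_iSup_of_mem η (Submodule.mem_iSup_of_mem h hz))
          exact hle hy'
      let e := LinearEquiv.ofBijective f hf
      have : Module.Finite R (G γ) :=
        Module.Finite.of_surjective ((p γ).codRestrict (G γ) (hpm γ))
          (fun x => ⟨x, Subtype.ext (hps γ x x.2)⟩)
      have : Module.Projective R (G γ) :=
        Module.Projective.of_split (G γ).subtype ((p γ).codRestrict (G γ) (hpm γ))
          (LinearMap.ext fun x => Subtype.ext (hps γ x x.2))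
      exact ⟨Module.Finite.equiv e, Module.Projective.of_equiv e⟩
    · set K := P.asIdeal.ResidueField
      have : FiniteDimensional K (K ⊗[R] M) := inferInstance
      let Gx : Γ → Submodule K (K ⊗[R] M) := fun γ => LinearMap.range ((G γ).subtype.baseChange K)
      have hq : ∀ γ, ∀ x ∈ Gx γ, (p γ).baseChange K x = x := by
        intro γ x hx
        exact LinearMap.mem_eqLocus.1 ((bc_le_iff K (G γ)
          (LinearMap.eqLocus ((p γ).baseChange K) LinearMap.id)).2
          (fun z hz => by simp [hps γ z hz]) hx)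
      have hq' : ∀ γ η, γ ≠ η → ∀ x ∈ Gx η, (p γ).baseChange K x = 0 := by
        intro γ η hne x hx
        exact LinearMap.mem_ker.1 ((bc_le_iff K (G η) (LinearMap.ker ((p γ).baseChange K))).2
          (fun z hz => by simp [hpn γ η z hz hne]) hx)
      have h1 : ∀ γ, ∀ z ∈ G γ, (1 : K) ⊗ₜ[R] z ∈ Gx γ := fun γ z hz =>
        (bc_le_iff K (G γ) (Gx γ)).1 le_rfl z hz
      have hGS : ∀ γ, γ ∉ S → Gx γ = ⊥ := by
        intro γ hγ; rw [eq_bot_iff]; refine (bc_le_iff K _ _).2 fun z hz => ?_
        have : z = 0 := by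
          rw [← hps γ z hz, ← hpsum z, map_sum]
          exact Finset.sum_eq_zero fun η hη => hpn γ η _ (hpm η z) (fun h => hγ (h ▸ hη))
        simp [this]
      have hFx' : ∀ γ, Fx γ = ⨆ η ∈ Set.Ici γ, Gx η := by
        intro γ; rw [hFx]
        refine le_antisymm ((bc_le_iff K _ _).2 fun x hx => ?_) (iSup₂_le fun η hη => ?_)
        · rw [hFG] at hx
          have hle : (⨆ η ∈ Set.Ici γ, G η) ≤ Submodule.comap (TensorProduct.mk R K M 1)
              ((⨆ η ∈ Set.Ici γ, Gx η).restrictScalars R) :=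
            iSup₂_le fun η hη z hz =>
              Submodule.mem_iSup_of_mem η (Submodule.mem_iSup_of_mem hη (h1 η z hz))
          exact hle hx
        · refine (bc_le_iff K _ _).2 fun z hz => ?_
          refine (bc_le_iff K (F γ) _).1 le_rfl z ?_
          rw [hFG]; exact Submodule.mem_iSup_of_mem η (Submodule.mem_iSup_of_mem hη hz)
      have hjump : ∀ γ, Module.finrank K ↥(Fx γ) - Module.finrank K ↥(⨆ η ∈ Set.Ioi γ, Fx η) =
          Module.finrank K ↥(Gx γ) := by
        intro γ
        have hB : (⨆ η ∈ Set.Ioi γ, Fx η) = ⨆ η ∈ Set.Ioi γ, Gx η := by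
          refine le_antisymm (iSup₂_le fun η hη => ?_) (iSup₂_le fun η hη => ?_)
          · rw [hFx']; exact iSup₂_le fun ζ hζ => le_iSup₂_of_le ζ (lt_of_lt_of_le hη hζ) le_rfl
          · exact le_iSup₂_of_le η hη (by rw [hFx']; exact le_iSup₂_of_le η (Set.mem_Ici.2 le_rfl) le_rfl)
        have hA : Fx γ = Gx γ ⊔ ⨆ η ∈ Set.Ioi γ, Gx η := by
          rw [hFx']
          refine le_antisymm (iSup₂_le fun η hη => ?_)
            (sup_le (le_iSup₂_of_le γ (Set.mem_Ici.2 le_rfl) le_rfl)
              (iSup₂_le fun η hη => le_iSup₂_of_le η (Set.mem_Ici.2 (le_of_lt hη)) le_rfl))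
          rcases (Set.mem_Ici.1 hη).eq_or_lt with rfl | h
          · exact le_sup_left
          · exact le_sup_of_le_right (le_iSup₂_of_le η h le_rfl)
        have h0 : Gx γ ⊓ (⨆ η ∈ Set.Ioi γ, Gx η) = ⊥ := by
          rw [eq_bot_iff]; intro x hx
          have : (p γ).baseChange K x = 0 := LinearMap.mem_ker.1 (of_biSup hx.2
            (fun η hη y hy => hq' γ η (ne_of_lt hη) y hy))
          rw [hq γ x hx.1] at this; simp [this]
        have := Submodule.finrank_sup_add_finrank_inf_eq (Gx γ) (⨆ η ∈ Set.Ioi γ, Gx η)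
        rw [h0, finrank_bot] at this
        rw [hB, hA]
        exact Nat.sub_eq_of_eq_add ((add_zero _).symm.trans this)
      rw [finsum_congr hjump]
      rw [finsum_eq_sum_of_support_subset _ (s := S) (fun γ hγ => by
        by_contra h; exact hγ (by simp [hGS γ h]))]
      rw [← finrank_sum Gx (fun γ => (p γ).baseChange K) hq hq' S]
      have : (⨆ η ∈ S, Gx η) = ⊤ := by
        rw [eq_top_iff]; intro x hx0; clear hx0
        induction x with
        | zero => exact zero_mem _
        | tmul a m =>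
          rw [← hpsum m, TensorProduct.tmul_sum]
          refine Submodule.sum_mem _ fun η hη => Submodule.mem_iSup_of_mem η (Submodule.mem_iSup_of_mem hη ?_)
          rw [show a ⊗ₜ[R] p η m = a • ((1 : K) ⊗ₜ[R] p η m) by
            rw [TensorProduct.smul_tmul', smul_eq_mul, mul_one]]
          exact Submodule.smul_mem _ a (h1 η _ (hpm η m))
        | add x y hx hy => exact add_mem hx hy
      rw [this, finrank_top]
  · rintro ⟨hgr, hdim⟩
    have hsec : ∀ γ, ∃ s : (↥(F γ) ⧸ Submodule.comap (F γ).subtype (Fp γ)) →ₗ[R] F γ,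
        (Submodule.comap (F γ).subtype (Fp γ)).mkQ ∘ₗ s = LinearMap.id := by
      intro γ; have := (hgr γ).2
      exact Module.projective_lifting_property _ LinearMap.id (Submodule.mkQ_surjective _)
    choose s hs using hsec
    let G : Γ → Submodule R M := fun γ => LinearMap.range ((F γ).subtype ∘ₗ s γ)
    have hGle : ∀ γ, G γ ≤ F γ := by rintro γ _ ⟨y, rfl⟩; exact (s γ y).2
    have hG0 : ∀ γ, ∀ x ∈ G γ, x ∈ Fp γ → x = 0 := by
      rintro γ _ ⟨y, rfl⟩ hy
      have hy0 : y = 0 := by
        rw [← show _ = y from LinearMap.congr_fun (hs γ) y]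
        exact (Submodule.Quotient.mk_eq_zero _).2 hy
      simp [hy0]
    have hdecomp : ∀ γ, F γ ≤ G γ ⊔ Fp γ := by
      intro γ x hx
      have : (s γ (Submodule.Quotient.mk ⟨x, hx⟩) : M) - x ∈ Fp γ :=
        (Submodule.Quotient.eq (Submodule.comap (F γ).subtype (Fp γ))).1 (LinearMap.congr_fun (hs γ) (Submodule.Quotient.mk ⟨x, hx⟩))
      rw [Submodule.mem_sup]
      exact ⟨_, ⟨Submodule.Quotient.mk ⟨x, hx⟩, rfl⟩, _, neg_mem this, by simp⟩
    have htop : (⨆ γ, G γ) = ⊤ := by
      rw [← Submodule.Quotient.subsingleton_iff, ← Module.support_eq_empty_iff (R := R),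
        Set.eq_empty_iff_forall_notMem]
      intro P hP
      rw [Module.mem_support_iff_nontrivial_residueField_tensorProduct] at hP
      set K := P.asIdeal.ResidueField
      let Fx : Γ → Submodule K (K ⊗[R] M) := fun γ => LinearMap.range ((F γ).subtype.baseChange K)
      have hW := eq_top_of_jumps Fx
        (fun a b hab => (bc_le_iff K _ _).2 fun z hz => (bc_le_iff K (F a) _).1 le_rfl z (hF hab hz))
        (LinearMap.range ((⨆ γ, G γ).subtype.baseChange K)) (fun γ => ?_) (hdim P Fx fun _ => rfl)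
      · obtain ⟨x, hx⟩ := exists_ne (0 : K ⊗[R] (M ⧸ ⨆ γ, G γ))
        apply hx
        obtain ⟨y, rfl⟩ := LinearMap.lTensor_surjective K (Submodule.mkQ_surjective (⨆ γ, G γ)) x
        obtain ⟨z, rfl⟩ : y ∈ LinearMap.range ((⨆ γ, G γ).subtype.baseChange K) := by
          rw [hW]; exact Submodule.mem_top
        rw [show LinearMap.baseChange K (⨆ γ, G γ).subtype z =
          LinearMap.lTensor K (⨆ γ, G γ).subtype z from rfl, ← LinearMap.lTensor_comp_apply]
        rw [show (⨆ γ, G γ).mkQ ∘ₗ (⨆ γ, G γ).subtype = 0 by ext; simp [Submodule.Quotient.mk_eq_zero]]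
        simp
      · refine (bc_le_iff K _ _).2 fun x hx => ?_
        obtain ⟨g, hg, r, hr, rfl⟩ := Submodule.mem_sup.1 (hdecomp γ hx)
        rw [TensorProduct.tmul_add]
        refine Submodule.add_mem_sup
          ((bc_le_iff K _ _).1 le_rfl g (Submodule.mem_iSup_of_mem γ hg)) ?_
        rw [hFp] at hr
        have hle : (⨆ η ∈ Set.Ioi γ, F η) ≤ Submodule.comap (TensorProduct.mk R K M 1)
            ((⨆ η ∈ Set.Ioi γ, Fx η).restrictScalars R) :=
          iSup₂_le fun η hη z hz => Submodule.mem_iSup_of_mem η (Submodule.mem_iSup_of_mem hη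
            ((bc_le_iff K (F η) (Fx η)).1 le_rfl z hz))
        exact hle hr
    have hlt : ∀ a η, a < η → G η ≤ Fp a := fun a η h => by
      rw [hFp]; exact le_iSup₂_of_le η h (hGle η)
    have hind : iSupIndep G := by
      rw [iSupIndep_iff_finsetSum_eq_zero_imp_eq_zero]
      intro T
      refine Finset.induction_on_min T (by simp) ?_
      intro a t hat ih v hv hsum
      rw [Finset.sum_insert (fun h => lt_irrefl a (hat a h))] at hsum
      have hva : v a = 0 := by
        refine hG0 a _ (hv a (Finset.mem_insert_self a t)) ?_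
        rw [eq_neg_of_add_eq_zero_left hsum]
        exact neg_mem (Submodule.sum_mem _ fun η hη =>
          hlt a η (hat η hη) (hv η (Finset.mem_insert_of_mem hη)))
      intro i hi
      rcases Finset.mem_insert.1 hi with rfl | hi
      · exact hva
      · exact ih v (fun j hj => hv j (Finset.mem_insert_of_mem hj)) (by simpa [hva] using hsum) i hi
    have hint : DirectSum.IsInternal G := by
      rw [DirectSum.isInternal_submodule_iff_iSupIndep_and_iSup_eq_top]; exact ⟨hind, htop⟩
    refine ⟨G, hint, fun γ => le_antisymm (fun x hx => ?_)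
      (iSup₂_le fun η hη => (hGle η).trans (hF hη))⟩
    obtain ⟨p, S, hpm, hps, hpn, hpsum⟩ := exists_proj G hint
    suffices ∀ η, η < γ → p η x = 0 by
      rw [← hpsum x]; refine Submodule.sum_mem _ fun η _ => ?_
      rcases lt_or_ge η γ with h | h
      · rw [this η h]; exact zero_mem _
      · exact Submodule.mem_iSup_of_mem η (Submodule.mem_iSup_of_mem h (hpm η x))
    by_contra hne
    push Not at hne
    obtain ⟨η, hη, hne⟩ := hne
    have hηS : η ∈ S := by
      by_contra h; apply hne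
      rw [← hpsum x, map_sum]
      exact Finset.sum_eq_zero fun ζ hζ => hpn η ζ _ (hpm ζ x) (fun e => h (e ▸ hζ))
    set T := S.filter (fun i => i < γ ∧ p i x ≠ 0) with hT
    have hTne : T.Nonempty := ⟨η, Finset.mem_filter.2 ⟨hηS, hη, hne⟩⟩
    obtain ⟨ha, haγ, hane⟩ := Finset.mem_filter.1 (T.min'_mem hTne)
    set a := T.min' hTne with haT
    refine hane (hG0 a _ (hpm a x) ?_)
    have hxa : x ∈ Fp a := by rw [hFp]; exact Submodule.mem_iSup_of_mem γ (Submodule.mem_iSup_of_mem haγ hx)
    have hsum := hpsum x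
    rw [← Finset.add_sum_erase S _ ha] at hsum
    rw [eq_sub_of_add_eq hsum]
    refine sub_mem hxa (Submodule.sum_mem _ fun i hi => ?_)
    obtain ⟨hia, hiS⟩ := Finset.mem_erase.1 hi
    rcases lt_or_gt_of_ne hia with h | h
    · by_cases h0 : p i x = 0
      · rw [h0]; exact zero_mem _
      · exact absurd h (not_lt.2 (T.min'_le i (Finset.mem_filter.2 ⟨hiS, h.trans haγ, h0⟩)))
    · exact hlt a i h (hpm i x)

end Groth.Agent.S19154
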