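import Groth.Statements.S19156
import Groth.Agent.H84.DomHom

set_option autoImplicit false
open RootPairing
open RootD Groth.Agent.Lib.RootDatum Groth.Agent.Lib.RootDatum.Basic Groth.Agent.Lib.RootDatum.PosSys

namespace Groth.Agent.S19156

/-- Let P be a root datum (root pairing over ℤ with finitely many roots indexed by ι), S a system of
positive roots, Γ a non-trivial totally ordered commutative group and f : M → Γ additive. Then f is
dominant (non-negative on the positive roots) if and only if, for every w in the Weyl group, f − f ∘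
w is a combination m ↦ Σ_{α ∈ S} ⟨m, α∨⟩ c_α of the positive coroots with coefficients c_α ≥ 0 in Γ
(f ∘ w is strongly dominated by f); and f is dominant if and only if f(w m) ≤ f(m) for every w ∈ W
and every dominant weight m (weak dominance). -/
theorem result {ι M N : Type*} [AddCommGroup M] [AddCommGroup N]
    (P : RootPairing ι ℤ M N) [Fintype ι] (S : Set ι) (hS : RootD.IsPosSys P S)
    {Γ : Type*} [AddCommGroup Γ] [LinearOrder Γ] [IsOrderedAddMonoid Γ] [Nontrivial Γ] (f : M →+ Γ) :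
    ((∀ i ∈ S, 0 ≤ f (P.root i)) ↔
      ∀ g : P.Aut, g ∈ P.weylGroup → ∃ c : ι → Γ, (∀ i, 0 ≤ c i) ∧ (∀ i, i ∉ S → c i = 0) ∧
        ∀ m : M, f m - f (RootPairing.Equiv.weightHom P g m) = ∑ i, (P.coroot' i m) • c i) ∧
    ((∀ i ∈ S, 0 ≤ f (P.root i)) ↔
      ∀ g : P.Aut, g ∈ P.weylGroup → ∀ m : M, (∀ i ∈ S, 0 ≤ P.coroot' i m) →
        f (RootPairing.Equiv.weightHom P g m) ≤ f m) := by
  have hrho := fun {k : ι} (hk : k ∈ S) => Groth.Agent.H84.DomHom.coroot'_rho_pos P hS hk
  have hrefl : ∀ i : ι, f (Groth.Agent.H84.DomHom.rho P S) -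
      f (RootPairing.Equiv.weightHom P (RootPairing.Equiv.reflection P i)
        (Groth.Agent.H84.DomHom.rho P S)) =
      P.coroot' i (Groth.Agent.H84.DomHom.rho P S) • f (P.root i) := by
    intro i
    rw [weightHom_eq_smul, reflection_smul_weight, ← map_sub, sub_sub_cancel, map_zsmul]
  refine ⟨⟨fun h g hg => Groth.Agent.H84.DomHom.sub_smul_eq P hS h hg, fun h i hi => ?_⟩,
    ⟨fun h g hg m hm => ?_, fun h i hi => ?_⟩⟩
  · obtain ⟨c, hc0, hcS, hc⟩ := h _ (P.reflection_mem_weylGroup i)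
    refine Groth.Agent.H84.DomHom.nonneg_of_zsmul_nonneg (hrho hi) ?_
    rw [← hrefl i, hc]
    refine Finset.sum_nonneg fun j _ => ?_
    by_cases hj : j ∈ S
    · exact zsmul_nonneg (hc0 j) (hrho hj).le
    · rw [hcS j hj, smul_zero]
  · obtain ⟨c, hc0, hcS, hc⟩ := Groth.Agent.H84.DomHom.sub_smul_eq P hS h hg
    rw [weightHom_eq_smul, ← sub_nonneg, hc]
    refine Finset.sum_nonneg fun j _ => ?_
    by_cases hj : j ∈ S
    · exact zsmul_nonneg (hc0 j) (hm j hj)
    · rw [hcS j hj, smul_zero]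
  · refine Groth.Agent.H84.DomHom.nonneg_of_zsmul_nonneg (hrho hi) ?_
    rw [← hrefl i, sub_nonneg]
    exact h _ (P.reflection_mem_weylGroup i) _ fun j hj => (hrho hj).le

end Groth.Agent.S19156
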