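import Groth.Statements.S19157
import Mathlib.RingTheory.Finiteness.Cardinality
import Mathlib.RingTheory.Finiteness.Basic
import Mathlib.RingTheory.Nakayama
import Mathlib.RingTheory.Nilpotent.Lemmas
import Mathlib.LinearAlgebra.PiTensorProduct.Basic
-- import your own Groth.Agent.* helpers here

set_option autoImplicit false
open scoped TensorProduct
universe u v w
open FiltMod

namespace Groth.Agent.S19157

open scoped TensorProduct

theorem of_biSup {R : Type u} [CommRing R] {V : Type*} [AddCommGroup V] [Module R V] {ι : Type*}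
    {s : ι → Prop} {G : ι → Submodule R V} {N : Submodule R V} {x : V}
    (hx : x ∈ ⨆ i, ⨆ (_ : s i), G i) (h : ∀ i, s i → G i ≤ N) : x ∈ N := (iSup₂_le h) hx

theorem exists_proj {Γ : Type w} [LinearOrder Γ] {R : Type u} [CommRing R] {M : Type v}
    [AddCommGroup M] [Module R M] [Module.Finite R M] (G : Γ → Submodule R M)
    (hG : DirectSum.IsInternal G) :
    ∃ (p : Γ → M →ₗ[R] M) (S : Finset Γ), (∀ γ x, p γ x ∈ G γ) ∧
      (∀ γ x, x ∈ G γ → p γ x = x) ∧ (∀ γ η x, x ∈ G η → γ ≠ η → p γ x = 0) ∧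
      (∀ x, ∑ γ ∈ S, p γ x = x) := by
  classical
  let e := LinearEquiv.ofBijective (DirectSum.coeLinearMap G) hG
  let p : Γ → M →ₗ[R] M := fun γ =>
    (G γ).subtype ∘ₗ DirectSum.component R Γ (fun i => G i) γ ∘ₗ e.symm.toLinearMap
  have hp_self : ∀ γ x, x ∈ G γ → p γ x = x := by
    intro γ x hx
    have : e.symm x = DirectSum.of (fun i => G i) γ ⟨x, hx⟩ := by
      apply e.injective; rw [e.apply_symm_apply]; exact (DirectSum.coeLinearMap_of G γ ⟨x, hx⟩).symm
    show (((e.symm x) γ : G γ) : M) = x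
    rw [this, DirectSum.of_eq_same]
  have hp_ne : ∀ γ η x, x ∈ G η → γ ≠ η → p γ x = 0 := by
    intro γ η x hx hne
    have : e.symm x = DirectSum.of (fun i => G i) η ⟨x, hx⟩ := by
      apply e.injective; rw [e.apply_symm_apply]; exact (DirectSum.coeLinearMap_of G η ⟨x, hx⟩).symm
    show (((e.symm x) γ : G γ) : M) = 0
    rw [this, DirectSum.of_eq_of_ne _ _ _ hne]; rfl
  obtain ⟨S, hS⟩ : ∃ S : Finset Γ, ∀ x, x ∈ ⨆ η ∈ S, G η := by
    have hc : IsCompactElement (⊤ : Submodule R M) :=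
      (Submodule.fg_iff_compact _).1 Module.Finite.fg_top
    obtain ⟨S, hS⟩ := CompleteLattice.IsCompactElement.exists_finset_of_le_iSup _ hc G
      (by rw [hG.submodule_iSup_eq_top])
    exact ⟨S, fun x => hS Submodule.mem_top⟩
  refine ⟨p, S, fun γ x => Subtype.coe_prop _, hp_self, hp_ne, fun x => ?_⟩
  have : x ∈ LinearMap.eqLocus (∑ γ ∈ S, p γ) LinearMap.id := by
    refine of_biSup (hS x) fun η hη y hy => ?_
    rw [LinearMap.mem_eqLocus, LinearMap.sum_apply, Finset.sum_eq_single η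
      (fun b _ hb => hp_ne b η y hy hb) (fun h => absurd hη h), hp_self η y hy]
    rfl
  simpa using this

theorem main {Γ : Type w} [AddCommGroup Γ] [LinearOrder Γ] [IsOrderedAddMonoid Γ]
    {R : Type u} [CommRing R] {M : Type v} [AddCommGroup M] [Module R M]
    [Module.Finite R M] [Module.Projective R M]
    (F₁ F₂ : Γ → Submodule R M) (G₁ G₂ : Γ → Submodule R M)
    (hG₁ : DirectSum.IsInternal G₁) (hG₂ : DirectSum.IsInternal G₂)
    (hF₁ : ∀ γ, F₁ γ = ⨆ η ∈ Set.Ici γ, G₁ η) (hF₂ : ∀ γ, F₂ γ = ⨆ η ∈ Set.Ici γ, G₂ η) (m : ℕ)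
    (h : ∀ γ : Γ,
      (⨆ c : {c : Fin (m+1) → Γ // ∑ i, c i = γ}, LinearMap.range
        (PiTensorProduct.map (R := R) (fun i => (F₁ (c.1 i)).subtype))) =
      (⨆ c : {c : Fin (m+1) → Γ // ∑ i, c i = γ}, LinearMap.range
        (PiTensorProduct.map (R := R) (fun i => (F₂ (c.1 i)).subtype)))) :
    ∀ γ, F₁ γ ≤ F₂ γ := by
  classical
  obtain ⟨p₁, S₁, hp₁m, hp₁s, hp₁n, hp₁sum⟩ := exists_proj G₁ hG₁
  obtain ⟨p₂, S₂, hp₂m, hp₂s, hp₂n, hp₂sum⟩ := exists_proj G₂ hG₂
  obtain ⟨n, π, hπ⟩ := Module.Finite.exists_fin' R M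
  obtain ⟨s, hs⟩ := Module.projective_lifting_property π LinearMap.id hπ
  let b : Fin n → M := fun i => π (Pi.single i 1)
  let fs : Fin n → M →ₗ[R] R := fun i => LinearMap.proj i ∘ₗ s
  have hdual : ∀ y, y = ∑ i, fs i y • b i := by
    intro y
    conv_lhs => rw [show y = π (s y) from (LinearMap.congr_fun hs y).symm]
    conv_lhs => rw [pi_eq_sum_univ (s y)]
    rw [map_sum]; refine Finset.sum_congr rfl fun i _ => ?_
    rw [map_smul]; congr 2; funext j; simp [Pi.single_apply, eq_comm]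
  have hker : ∀ (G F : Γ → Submodule R M) (p : Γ → M →ₗ[R] M),
      (∀ γ, F γ = ⨆ η ∈ Set.Ici γ, G η) →
      (∀ γ η x, x ∈ G η → γ ≠ η → p γ x = 0) → ∀ γ c, γ < c → ∀ x ∈ F c, p γ x = 0 := by
    intro G F p hF hpn γ c hlt x hx
    rw [hF] at hx
    refine LinearMap.mem_ker.1 (of_biSup hx fun η hη y hy => ?_)
    exact hpn γ η y hy (ne_of_lt (hlt.trans_le hη))
  have key : ∀ (G G' F F' : Γ → Submodule R M) (p' : Γ → M →ₗ[R] M),
      (∀ γ, F γ = ⨆ η ∈ Set.Ici γ, G η) → (∀ γ, F' γ = ⨆ η ∈ Set.Ici γ, G' η) →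
      (∀ γ η x, x ∈ G' η → γ ≠ η → p' γ x = 0) →
      (∀ γ : Γ, (⨆ c : {c : Fin (m+1) → Γ // ∑ i, c i = γ}, LinearMap.range
        (PiTensorProduct.map (R := R) (fun i => (F (c.1 i)).subtype))) =
      (⨆ c : {c : Fin (m+1) → Γ // ∑ i, c i = γ}, LinearMap.range
        (PiTensorProduct.map (R := R) (fun i => (F' (c.1 i)).subtype)))) →
      ∀ (γs ηs : Fin (m+1) → Γ), ∑ i, ηs i < ∑ i, γs i →
        ∀ (xs : Fin (m+1) → M), (∀ i, xs i ∈ G (γs i)) →
        ∀ g : Fin (m+1) → M →ₗ[R] R, ∏ i, g i (p' (ηs i) (xs i)) = 0 := by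
    intro G G' F F' p' hF hF' hp' hh γs ηs hlt xs hxs g
    let L : (⨂[R] _ : Fin (m+1), M) →ₗ[R] R :=
      PiTensorProduct.lift ((MultilinearMap.mkPiAlgebra R (Fin (m+1)) R).compLinearMap
        (fun i => g i ∘ₗ p' (ηs i)))
    have hL : ∀ xs, L (PiTensorProduct.tprod R xs) = ∏ i, g i (p' (ηs i) (xs i)) := by
      intro xs
      simp [L]
    have hx : PiTensorProduct.tprod R xs ∈ LinearMap.ker L := by
      have : PiTensorProduct.tprod R xs ∈ (⨆ c : {c : Fin (m+1) → Γ // ∑ i, c i = ∑ i, γs i},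
          LinearMap.range (PiTensorProduct.map (R := R) (fun i => (F' (c.1 i)).subtype))) := by
        rw [← hh]
        refine Submodule.mem_iSup_of_mem ⟨γs, rfl⟩ ⟨PiTensorProduct.tprod R (fun i => ⟨xs i, ?_⟩), ?_⟩
        · rw [hF]; exact Submodule.mem_iSup_of_mem (γs i)
            (Submodule.mem_iSup_of_mem (Set.mem_Ici.2 le_rfl) (hxs i))
        · rw [PiTensorProduct.map_tprod]; rfl
      refine (show (⨆ c : {c : Fin (m+1) → Γ // ∑ i, c i = ∑ i, γs i}, LinearMap.range (PiTensorProduct.map (R := R) (fun i => (F' (c.1 i)).subtype))) ≤ LinearMap.ker L from iSup_le fun c => ?_) this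
      rw [LinearMap.range_le_ker_iff]
      refine PiTensorProduct.ext (MultilinearMap.ext fun v => ?_)
      simp only [LinearMap.compMultilinearMap_apply, LinearMap.comp_apply, LinearMap.zero_apply]
      rw [PiTensorProduct.map_tprod, hL]
      obtain ⟨i, hi⟩ : ∃ i, ηs i < c.1 i := by
        by_contra hne; push Not at hne
        have := Finset.sum_le_sum (s := Finset.univ) (fun i _ => hne i)
        rw [c.2] at this
        exact absurd this (not_le.2 hlt)
      refine Finset.prod_eq_zero (Finset.mem_univ i) ?_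
      show g i (p' (ηs i) (v i).1) = 0
      rw [hker G' F' p' hF' hp' (ηs i) (c.1 i) hi _ (v i).2, map_zero]
    rw [LinearMap.mem_ker, hL] at hx; exact hx
  -- lower components are nilpotent
  have hnil : ∀ (G G' F F' : Γ → Submodule R M) (p' : Γ → M →ₗ[R] M),
      (∀ γ, F γ = ⨆ η ∈ Set.Ici γ, G η) → (∀ γ, F' γ = ⨆ η ∈ Set.Ici γ, G' η) →
      (∀ γ η x, x ∈ G' η → γ ≠ η → p' γ x = 0) →
      (∀ γ : Γ, (⨆ c : {c : Fin (m+1) → Γ // ∑ i, c i = γ}, LinearMap.range
        (PiTensorProduct.map (R := R) (fun i => (F (c.1 i)).subtype))) =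
      (⨆ c : {c : Fin (m+1) → Γ // ∑ i, c i = γ}, LinearMap.range
        (PiTensorProduct.map (R := R) (fun i => (F' (c.1 i)).subtype)))) →
      ∀ γ η, η < γ → ∀ x ∈ G γ, p' η x ∈ nilradical R • (⊤ : Submodule R M) := by
    intro G G' F F' p' hF hF' hp' hh γ η hlt x hx
    rw [hdual (p' η x)]
    refine Submodule.sum_mem _ fun i _ => Submodule.smul_mem_smul ?_ Submodule.mem_top
    refine mem_nilradical.2 ⟨m + 1, ?_⟩
    have := key G G' F F' p' hF hF' hp' hh (fun _ => γ) (fun _ => η)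
      (Finset.sum_lt_sum_of_nonempty Finset.univ_nonempty (fun _ _ => hlt)) (fun _ => x)
      (fun _ => hx) (fun _ => fs i)
    simpa [Finset.prod_const] using this
  -- diagonal components are onto
  have hsurj : ∀ θ, G₂ θ ≤ (G₁ θ).map (p₂ θ) := by
    intro θ
    have hrange : G₂ θ = (⊤ : Submodule R M).map (p₂ θ) := by
      refine le_antisymm (fun x hx => ⟨x, trivial, hp₂s θ x hx⟩) ?_
      rintro x ⟨y, -, rfl⟩; exact hp₂m θ y
    refine Submodule.le_of_le_smul_of_le_jacobson_bot (I := nilradical R) ?_ ?_ ?_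
    · rw [hrange]; exact Module.Finite.fg_top.map _
    · exact (Ideal.radical_le_jacobson : (⊥ : Ideal R).radical ≤ (⊥ : Ideal R).jacobson)
    · intro z hz
      rw [hrange, ← Submodule.map_smul'']
      rw [← hp₂s θ z hz]
      rw [show p₂ θ z = p₂ θ (∑ γ ∈ S₁, p₁ γ z) from (congrArg _ (hp₁sum z)).symm, map_sum]
      refine Submodule.sum_mem _ fun γ _ => ?_
      rcases lt_trichotomy γ θ with hγ | hγ | hγ
      · exact Submodule.mem_sup_right ⟨p₁ γ z,
          hnil G₂ G₁ F₂ F₁ p₁ hF₂ hF₁ hp₁n (fun γ => (h γ).symm) θ γ hγ z hz, rfl⟩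
      · subst hγ; exact Submodule.mem_sup_left ⟨_, hp₁m γ z, rfl⟩
      · refine Submodule.mem_sup_right ?_
        have := hnil G₁ G₂ F₁ F₂ p₂ hF₁ hF₂ hp₂n h γ θ hγ (p₁ γ z) (hp₁m γ z)
        refine ⟨p₂ θ (p₁ γ z), this, ?_⟩
        exact hp₂s θ _ (hp₂m θ _)
  -- homogeneous values
  let J : Ideal R := Ideal.span {a | ∃ (g : M →ₗ[R] R) (θ : Γ) (z : M), z ∈ G₂ θ ∧ g z = a}
  have hJ : ∀ (g : M →ₗ[R] R) x, g x ∈ J := by
    intro g x; rw [← hp₂sum x, map_sum]
    exact Submodule.sum_mem _ fun θ _ => Ideal.subset_span ⟨g, θ, _, hp₂m θ x, rfl⟩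
  have hzero : ∀ γ η, η < γ → ∀ x ∈ G₁ γ, p₂ η x = 0 := by
    intro γ η hlt x hx
    let Iy : Ideal R := Ideal.span {a | ∃ g : M →ₗ[R] R, g (p₂ η x) = a}
    have hself : Iy ≤ Iy * J := by
      refine Ideal.span_le.2 ?_
      rintro _ ⟨g, rfl⟩
      rw [hdual (p₂ η x), map_sum]
      refine Submodule.sum_mem _ fun i _ => ?_
      rw [map_smul]; exact Ideal.mul_mem_mul (Ideal.subset_span ⟨fs i, rfl⟩) (hJ g _)
    have hpow : ∀ j, Iy ≤ Iy * J ^ j := by
      intro j; induction j with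
      | zero => simp
      | succ j ih =>
        calc Iy ≤ Iy * J ^ j := ih
          _ ≤ (Iy * J) * J ^ j := Ideal.mul_mono_left hself
          _ = Iy * J ^ (j + 1) := by rw [pow_succ', mul_assoc]
    have hbot : Iy * J ^ m = ⊥ := by
      have hJm : J ^ m = ∏ _i : Fin m, J := by simp
      rw [hJm]; simp only [J, Iy]; rw [Ideal.prod_span, Ideal.span_mul_span']
      rw [Ideal.span_eq_bot]
      intro a ha
      obtain ⟨u, ⟨g, rfl⟩, w, hw, rfl⟩ := Set.mem_mul.1 ha
      obtain ⟨c, hc, rfl⟩ := (Set.mem_fintype_prod _ _).1 hw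
      choose gi θ z hz hgz using hc
      choose x' hx' hxz using fun i => hsurj (θ i) (hz i)
      have := key G₁ G₂ F₁ F₂ p₂ hF₁ hF₂ hp₂n h (Fin.cons γ θ) (Fin.cons η θ)
        (by rw [Fin.sum_univ_succ, Fin.sum_univ_succ]; simpa using hlt) (Fin.cons x x')
        (fun i => by induction i using Fin.cases with
          | zero => simpa using hx
          | succ i => simpa using hx' i) (Fin.cons g gi)
      rw [Fin.prod_univ_succ] at this
      simpa [hxz, hgz] using this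
    have hIy : Iy = ⊥ := le_bot_iff.1 (hbot ▸ hpow m)
    rw [hdual (p₂ η x)]
    refine Finset.sum_eq_zero fun i _ => ?_
    have : fs i (p₂ η x) ∈ Iy := Ideal.subset_span ⟨fs i, rfl⟩
    rw [hIy, Submodule.mem_bot] at this
    rw [this, zero_smul]
  intro γ x hx
  rw [hF₁] at hx
  refine of_biSup hx fun θ hθ y hy => ?_
  rw [← hp₂sum y]
  refine Submodule.sum_mem _ fun η _ => ?_
  rcases lt_or_ge η γ with hη | hη
  · rw [hzero θ η (hη.trans_le hθ) y hy]; exact zero_mem _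
  · rw [hF₂]; exact Submodule.mem_iSup_of_mem η (Submodule.mem_iSup_of_mem hη (hp₂m η y))

/-- In affine form, let Γ be a non-trivial totally ordered commutative group, R a commutative ring, M a
finitely generated projective R-module, k ≥ 1, and F₁, F₂ two Γ-filtrations of M each admitting a
splitting (a grading M = ⊕_γ G_γ by submodules with F^γ = Σ_{η ≥ γ} G_η). If the filtrations they
induce on the k-th tensor power M^{⊗k} coincide, i.e. for every γ the sum over γ₁ + ⋯ + γ_k = γ of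
the images of F₁^{γ₁} ⊗ ⋯ ⊗ F₁^{γ_k} in M^{⊗k} equals the corresponding sum for F₂, then F₁ = F₂.
(The source states this for Γ-filtrations of a finite locally free sheaf on a scheme, which split
Zariski-locally; this is the affine split case to which it reduces.) -/
theorem result
    {Γ : Type w} [AddCommGroup Γ] [LinearOrder Γ] [IsOrderedAddMonoid Γ] [Nontrivial Γ]
    {R : Type u} [CommRing R] {M : Type v} [AddCommGroup M] [Module R M] [Module.Finite R M] [Module.Projective R M]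
    (F₁ F₂ : Γ → Submodule R M)
    (h₁ : ∃ G : Γ → Submodule R M, DirectSum.IsInternal G ∧ ∀ γ, F₁ γ = ⨆ η ∈ Set.Ici γ, G η)
    (h₂ : ∃ G : Γ → Submodule R M, DirectSum.IsInternal G ∧ ∀ γ, F₂ γ = ⨆ η ∈ Set.Ici γ, G η)
    (k : ℕ) (hk : 1 ≤ k)
    (h : ∀ γ : Γ,
      (⨆ c : {c : Fin k → Γ // ∑ i, c i = γ}, LinearMap.range (PiTensorProduct.map (R := R) (fun i => (F₁ (c.1 i)).subtype))) =
      (⨆ c : {c : Fin k → Γ // ∑ i, c i = γ}, LinearMap.range (PiTensorProduct.map (R := R) (fun i => (F₂ (c.1 i)).subtype)))) :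
    F₁ = F₂ := by
  obtain ⟨m, rfl⟩ : ∃ m, k = m + 1 := ⟨k - 1, by omega⟩
  obtain ⟨G₁, hG₁, hF₁⟩ := h₁
  obtain ⟨G₂, hG₂, hF₂⟩ := h₂
  funext γ
  exact le_antisymm (main F₁ F₂ G₁ G₂ hG₁ hG₂ hF₁ hF₂ m h γ)
    (main F₂ F₁ G₂ G₁ hG₂ hG₁ hF₂ hF₁ m (fun γ => (h γ).symm) γ)

end Groth.Agent.S19157
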