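import Groth.Statements.S19158
import Mathlib.RingTheory.Finiteness.Basic
-- import your own Groth.Agent.* helpers here

set_option autoImplicit false
universe u v w
open FiltMod

namespace Groth.Agent.S19158

theorem mem_pi_univ_iff {R : Type u} [CommRing R] {A : Type v} {M : A → Type v}
    [∀ a, AddCommGroup (M a)] [∀ a, Module R (M a)] (p : ∀ a, Submodule R (M a)) (x : ∀ a, M a) :
    x ∈ Submodule.pi Set.univ p ↔ ∀ a, x a ∈ p a := by simp [Submodule.mem_pi]

theorem of_biSup {R : Type u} [CommRing R] {V : Type*} [AddCommGroup V] [Module R V] {ι : Type*}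
    {s : ι → Prop} {G : ι → Submodule R V} {N : Submodule R V} {x : V}
    (hx : x ∈ ⨆ i, ⨆ (_ : s i), G i) (h : ∀ i, s i → G i ≤ N) : x ∈ N := (iSup₂_le h) hx

/-- Splitting of a component filtration. -/
theorem component {Γ : Type w} [LinearOrder Γ] {R : Type u} [CommRing R] {A : Type v} [Fintype A]
    (M : A → Type v) [∀ a, AddCommGroup (M a)] [∀ a, Module R (M a)] [∀ a, Module.Finite R (M a)]
    (F : ∀ a, Γ → Submodule R (M a)) (G : Γ → Submodule R (∀ a, M a))
    (hG : DirectSum.IsInternal G)
    (hFG : ∀ γ, Submodule.pi Set.univ (fun a => F a γ) = ⨆ η ∈ Set.Ici γ, G η) (b : A) :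
    ∃ H : Γ → Submodule R (M b), DirectSum.IsInternal H ∧ ∀ γ, F b γ = ⨆ η ∈ Set.Ici γ, H η := by
  classical
  let e := LinearEquiv.ofBijective (DirectSum.coeLinearMap G) hG
  -- projection to the γ-th piece
  let p : Γ → (∀ a, M a) →ₗ[R] (∀ a, M a) := fun γ =>
    (G γ).subtype ∘ₗ DirectSum.component R Γ (fun i => G i) γ ∘ₗ e.symm.toLinearMap
  have hp_mem : ∀ γ x, p γ x ∈ G γ := fun γ x => Subtype.coe_prop _
  have hp_self : ∀ γ x, x ∈ G γ → p γ x = x := by
    intro γ x hx
    have : e.symm x = DirectSum.of (fun i => G i) γ ⟨x, hx⟩ := by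
      apply e.injective; rw [e.apply_symm_apply]; exact (DirectSum.coeLinearMap_of G γ ⟨x, hx⟩).symm
    show (((e.symm x) γ : G γ) : ∀ a, M a) = x
    rw [this, DirectSum.of_eq_same]
  have hp_ne : ∀ γ η x, x ∈ G η → γ ≠ η → p γ x = 0 := by
    intro γ η x hx hne
    have : e.symm x = DirectSum.of (fun i => G i) η ⟨x, hx⟩ := by
      apply e.injective; rw [e.apply_symm_apply]; exact (DirectSum.coeLinearMap_of G η ⟨x, hx⟩).symm
    show (((e.symm x) γ : G γ) : ∀ a, M a) = 0
    rw [this, DirectSum.of_eq_of_ne _ _ _ hne]; rfl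
  have hp_sup : ∀ γ (s : Set Γ), γ ∉ s → (⨆ η ∈ s, G η) ≤ LinearMap.ker (p γ) := by
    intro γ s hγ; refine iSup₂_le fun η hη x hx => ?_
    exact hp_ne γ η x hx (fun h => hγ (h ▸ hη))
  -- finite support
  obtain ⟨S, hS⟩ : ∃ S : Finset Γ, ∀ x, x ∈ ⨆ η ∈ S, G η := by
    have hc : IsCompactElement (⊤ : Submodule R (∀ a, M a)) :=
      (Submodule.fg_iff_compact (R := R) _).1 Module.Finite.fg_top
    obtain ⟨S, hS⟩ := CompleteLattice.IsCompactElement.exists_finset_of_le_iSup _ hc G (by rw [hG.submodule_iSup_eq_top])
    exact ⟨S, fun x => hS Submodule.mem_top⟩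
  have hS0 : ∀ γ, γ ∉ S → G γ = ⊥ := by
    intro γ hγ; rw [eq_bot_iff]; intro x hx
    have := hp_sup γ S (by simpa using hγ) (hS x)
    rw [LinearMap.mem_ker, hp_self γ x hx] at this; simp [this]
  have hG_le : ∀ γ η, γ ≤ η → ∀ x ∈ G η, x b ∈ F b γ := by
    intro γ η hle x hx
    have : x ∈ Submodule.pi Set.univ (fun a => F a γ) := by
      rw [hFG]; exact Submodule.mem_iSup_of_mem η (Submodule.mem_iSup_of_mem hle hx)
    exact (mem_pi_univ_iff _ _).1 this b
  have hι : ∀ γ x, x ∈ F b γ → LinearMap.single R M b x ∈ ⨆ η ∈ Set.Ici γ, G η := by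
    intro γ x hx; rw [← hFG, mem_pi_univ_iff]; intro a
    by_cases h : a = b
    · subst h; simpa using hx
    · simp [LinearMap.single_apply, Pi.single_eq_of_ne h]
  let q : Γ → M b →ₗ[R] M b := fun γ => LinearMap.proj b ∘ₗ p γ ∘ₗ LinearMap.single R M b
  let H : Γ → Submodule R (M b) := fun γ => (F b γ).map (q γ)
  have hqF : ∀ γ x, q γ x ∈ F b γ := fun γ x => hG_le γ γ le_rfl _ (hp_mem γ _)
  have hH_le : ∀ γ η, γ ≤ η → H η ≤ F b γ := by
    rintro γ η hle x ⟨y, -, rfl⟩; exact hG_le γ η hle _ (hp_mem η _)
  -- the projection kills later pieces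
  have hq_gt : ∀ γ η, γ < η → ∀ x ∈ F b η, q γ x = 0 := by
    intro γ η hlt x hx
    have := hp_sup γ (Set.Ici η) (by simpa using hlt) (hι η x hx)
    rw [LinearMap.mem_ker] at this
    show (p γ (LinearMap.single R M b x)) b = 0
    rw [this]; rfl
  -- main spanning step
  have hspan : ∀ T : Finset Γ, T ⊆ S → (∀ i ∈ T, ∀ j ∈ S, i ≤ j → j ∈ T) →
      ∀ x : M b, LinearMap.single R M b x ∈ (⨆ η ∈ T, G η) → x ∈ ⨆ η ∈ T, H η := by
    intro T
    refine Finset.induction_on_min T ?_ ?_
    · intro _ _ x hx
      simp only [Finset.notMem_empty, iSup_false, iSup_bot, Submodule.mem_bot] at hx ⊢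
      simpa using congrFun hx b
    intro a s has ih hsub hup x hx
    have hxF : x ∈ F b a := by
      have : LinearMap.single R M b x ∈ Submodule.pi Set.univ (fun c => F c a) := by
        rw [hFG]; refine of_biSup hx (fun η hη => ?_)
        rcases Finset.mem_insert.1 hη with rfl | hη
        · exact le_iSup₂_of_le η (Set.mem_Ici.2 le_rfl) le_rfl
        · exact le_iSup₂_of_le η (Set.mem_Ici.2 (has η hη).le) le_rfl
      simpa using (mem_pi_univ_iff _ _).1 this b
    rw [Finset.iSup_insert] at hx ⊢
    obtain ⟨g, hg, r, hr, hgr⟩ := Submodule.mem_sup.1 hx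
    have hq : q a x = g b := by
      show (p a (LinearMap.single R M b x)) b = g b
      have hr0 : p a r = 0 := LinearMap.mem_ker.1 (hp_sup a s
        (fun h => lt_irrefl a (has a h)) hr)
      rw [← hgr, map_add, hp_self a g hg, hr0, add_zero]
    have hrx : x = q a x + r b := by
      rw [hq]; have := congrFun hgr b; simpa using this.symm
    rw [Submodule.mem_sup]
    refine ⟨q a x, ⟨x, hxF, rfl⟩, r b, ?_, hrx.symm⟩
    refine ih (fun i hi => hsub (Finset.mem_insert_of_mem hi)) (fun i hi j hj hij => ?_) _ ?_
    · rcases Finset.mem_insert.1 (hup i (Finset.mem_insert_of_mem hi) j hj hij) with rfl | h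
      · exact absurd hij (not_le.2 (has i hi))
      · exact h
    · have : (⨆ η ∈ s, G η) ≤ Submodule.comap (LinearMap.single R M b ∘ₗ LinearMap.proj b)
          (⨆ η ∈ s, G η) := by
        refine iSup₂_le fun η hη y hy => ?_
        have hy' := hι η (y b) (hG_le η η le_rfl y hy)
        show LinearMap.single R M b (y b) ∈ (⨆ η ∈ s, G η)
        refine of_biSup hy' (fun ζ hζ => ?_)
        by_cases hζS : ζ ∈ S
        · refine le_iSup₂_of_le ζ ?_ le_rfl
          rcases Finset.mem_insert.1 (hup η (Finset.mem_insert_of_mem hη) ζ hζS hζ) with rfl | h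
          · exact absurd hζ (not_le.2 (has η hη))
          · exact h
        · simp [hS0 ζ hζS]
      exact this hr
  refine ⟨H, ?_, fun γ => le_antisymm (fun x hx => ?_) (iSup₂_le fun η hη => hH_le γ η hη)⟩
  · rw [DirectSum.isInternal_submodule_iff_iSupIndep_and_iSup_eq_top]
    constructor
    · rw [iSupIndep_iff_finsetSum_eq_zero_imp_eq_zero]
      intro s
      refine Finset.induction_on_min s (by simp) ?_
      intro a s has ih v hv hsum
      rw [Finset.sum_insert (fun h => lt_irrefl a (has a h))] at hsum
      have hz : q a (∑ η ∈ s, v η) = 0 := by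
        rw [map_sum]; refine Finset.sum_eq_zero fun η hη => ?_
        exact hq_gt a η (has η hη) _ (hH_le η η le_rfl (hv η (Finset.mem_insert_of_mem hη)))
      obtain ⟨y, hy, hya⟩ := hv a (Finset.mem_insert_self a s)
      have hqq : q a (v a) = v a := by
        rw [← hya]
        have hw : y - q a y ∈ ⨆ η ∈ S.filter (a < ·), H η := by
          refine hspan _ (Finset.filter_subset _ _) (fun i hi j hj hij => ?_) _ ?_
          · exact Finset.mem_filter.2 ⟨hj, (Finset.mem_filter.1 hi).2.trans_le hij⟩
          · have h1 := hι a y hy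
            have h2 : (⨆ η ∈ Set.Ici a, G η) ≤ G a ⊔ ⨆ η ∈ S.filter (a < ·), G η := by
              refine iSup₂_le fun η hη => ?_
              rcases (Set.mem_Ici.1 hη).eq_or_lt with rfl | h
              · exact le_sup_left
              · by_cases hηS : η ∈ S
                · exact le_sup_of_le_right (le_iSup₂_of_le η (Finset.mem_filter.2 ⟨hηS, h⟩) le_rfl)
                · simp [hS0 η hηS]
            obtain ⟨g, hg, r, hr, hgr⟩ := Submodule.mem_sup.1 (h2 h1)
            have hr0 : p a r = 0 := LinearMap.mem_ker.1 (hp_sup a (S.filter (a < ·) : Finset Γ) (fun h => lt_irrefl a (Finset.mem_filter.1 h).2) hr)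
            have hq : q a y = g b := by
              show (p a (LinearMap.single R M b y)) b = g b
              rw [← hgr, map_add, hp_self a g hg, hr0, add_zero]
            have : y - q a y = r b := by
              rw [hq]; have := congrFun hgr b; simp at this; rw [← this]; abel
            rw [this]
            have : (⨆ η ∈ S.filter (a < ·), G η) ≤ Submodule.comap
                (LinearMap.single R M b ∘ₗ LinearMap.proj b) (⨆ η ∈ S.filter (a < ·), G η) := by
              refine iSup₂_le fun η hη x hx => ?_
              have hx' := hι η (x b) (hG_le η η le_rfl x hx)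
              show LinearMap.single R M b (x b) ∈ (⨆ η ∈ S.filter (a < ·), G η)
              refine of_biSup hx' (fun ζ hζ => ?_)
              by_cases hζS : ζ ∈ S
              · exact le_iSup₂_of_le ζ (Finset.mem_filter.2
                  ⟨hζS, (Finset.mem_filter.1 hη).2.trans_le hζ⟩) le_rfl
              · simp [hS0 ζ hζS]
            exact this hr
        have : q a (y - q a y) = 0 := by
          refine LinearMap.mem_ker.1 (of_biSup hw (fun η hη x hx => ?_))
          exact hq_gt a η (Finset.mem_filter.1 hη).2 x (hH_le η η le_rfl hx)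
        rw [map_sub, sub_eq_zero] at this; exact this.symm
      have hva : v a = 0 := by
        have := congrArg (q a) hsum
        rwa [map_add, hz, add_zero, hqq, map_zero] at this
      intro i hi
      rcases Finset.mem_insert.1 hi with rfl | hi
      · exact hva
      · exact ih v (fun j hj => hv j (Finset.mem_insert_of_mem hj)) (by simpa [hva] using hsum) i hi
    · rw [eq_top_iff]; intro x _
      have := hspan S subset_rfl (fun i _ j hj _ => hj) x (hS _)
      exact of_biSup this (fun η _ => le_iSup H η)
  · have h1 : LinearMap.single R M b x ∈ ⨆ η ∈ S.filter (γ ≤ ·), G η := by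
      refine of_biSup (hι γ x hx) (fun η hη => ?_)
      by_cases hηS : η ∈ S
      · exact le_iSup₂_of_le η (Finset.mem_filter.2 ⟨hηS, hη⟩) le_rfl
      · simp [hS0 η hηS]
    have h2 := hspan _ (Finset.filter_subset _ _) (fun i hi j hj hij =>
      Finset.mem_filter.2 ⟨hj, (Finset.mem_filter.1 hi).2.trans hij⟩) x h1
    exact of_biSup h2 (fun η hη => le_iSup₂_of_le η (Finset.mem_filter.1 hη).2 le_rfl)

/-- In affine form, let Γ be a non-trivial totally ordered commutative group, R a commutative ring and
(M_a) a finite family of finitely generated projective R-modules, each carrying a non-increasing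
Γ-indexed family of submodules F_a; give M = Π_a M_a the family F^γ = Π_a F_a^γ. Then F is split by
a Γ-grading of M (an internal direct sum decomposition M = ⊕_γ G_γ with F^γ = Σ_{η ≥ γ} G_η for all
γ) if and only if each F_a is split by a Γ-grading of M_a. (The published statement is for finite
locally free sheaves on a scheme, where a filtration counts as split when it is split by a grading
locally on the scheme; this row is the affine case, in which that is the same as being split by one
global grading.) -/
theorem result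
    {Γ : Type w} [AddCommGroup Γ] [LinearOrder Γ] [IsOrderedAddMonoid Γ] [Nontrivial Γ]
    {R : Type u} [CommRing R] {A : Type v} [Fintype A] (M : A → Type v) [∀ a, AddCommGroup (M a)] [∀ a, Module R (M a)]
    [∀ a, Module.Finite R (M a)] [∀ a, Module.Projective R (M a)]
    (F : ∀ a, Γ → Submodule R (M a)) (hF : ∀ a, Antitone (F a)) :
    (∃ G : Γ → Submodule R (∀ a, M a), DirectSum.IsInternal G ∧
        ∀ γ, Submodule.pi Set.univ (fun a => F a γ) = ⨆ η ∈ Set.Ici γ, G η) ↔
    ∀ a, ∃ G : Γ → Submodule R (M a), DirectSum.IsInternal G ∧ ∀ γ, F a γ = ⨆ η ∈ Set.Ici γ, G η := by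
  classical
  constructor
  · rintro ⟨G, hG, hFG⟩ a; exact component M F G hG hFG a
  · intro h; choose H hH hFH using h
    refine ⟨fun γ => Submodule.pi Set.univ (fun a => H a γ), ?_, fun γ => le_antisymm ?_ ?_⟩
    · rw [DirectSum.isInternal_submodule_iff_iSupIndep_and_iSup_eq_top]
      constructor
      · rw [iSupIndep_iff_finsetSum_eq_zero_imp_eq_zero]
        intro s v hv hsum i hi
        funext a
        have hind := (iSupIndep_iff_finsetSum_eq_zero_imp_eq_zero _).1 (hH a).submodule_iSupIndep
        exact hind s (fun γ => v γ a) (fun γ hγ => (mem_pi_univ_iff _ _).1 (hv γ hγ) a)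
          (by simpa [Finset.sum_apply] using congrFun hsum a) i hi
      · rw [eq_top_iff]; intro x _
        rw [← Finset.univ_sum_single x]
        refine Submodule.sum_mem _ fun a _ => ?_
        have : x a ∈ ⨆ γ, H a γ := by rw [(hH a).submodule_iSup_eq_top]; exact Submodule.mem_top
        have hmap : (⨆ γ, H a γ) ≤ Submodule.comap (LinearMap.single R M a)
            (⨆ γ, Submodule.pi Set.univ (fun c => H c γ)) := by
          refine iSup_le fun γ y hy => Submodule.mem_iSup_of_mem γ ((mem_pi_univ_iff _ _).2 fun c => ?_)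
          by_cases hc : c = a
          · subst hc; simpa using hy
          · simp [LinearMap.single_apply, Pi.single_eq_of_ne hc]
        exact hmap this
    · intro x hx
      rw [mem_pi_univ_iff] at hx
      rw [← Finset.univ_sum_single x]
      refine Submodule.sum_mem _ fun a _ => ?_
      have h1 := hx a; rw [hFH a γ] at h1
      have hmap : (⨆ η ∈ Set.Ici γ, H a η) ≤ Submodule.comap (LinearMap.single R M a)
          (⨆ η ∈ Set.Ici γ, Submodule.pi Set.univ (fun c => H c η)) := by
        refine iSup₂_le fun η hη y hy => Submodule.mem_iSup_of_mem η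
          (Submodule.mem_iSup_of_mem hη ((mem_pi_univ_iff _ _).2 fun c => ?_))
        by_cases hc : c = a
        · subst hc; simpa using hy
        · simp [LinearMap.single_apply, Pi.single_eq_of_ne hc]
      exact hmap h1
    · refine iSup₂_le fun η hη x hx => ?_
      rw [mem_pi_univ_iff] at hx ⊢
      intro a; rw [hFH a γ]
      exact Submodule.mem_iSup_of_mem η (Submodule.mem_iSup_of_mem hη (hx a))

end Groth.Agent.S19158
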