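import Groth.Statements.S19159
import Groth.Agent.Lib.ImgMT.Compat

set_option autoImplicit false
open CategoryTheory MonoidalCategory CartesianMonoidalCategory MonObj GrpObj AlgebraicGeometry
universe u
open SGA3x

open Groth.Agent.Lib Groth.Agent.Lib.Tori Groth.Agent.Lib.ImgMT

namespace Groth.Agent.S19159

/-- Let Γ be a commutative group, G an S-group separated and of finite presentation over S, and f :
D_S(Γ) ⟶ G a homomorphism. Then S is covered by open and closed subsets U on each of which there is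
a finitely generated subgroup Λ ⊆ Γ (Λ is then the group of those γ ∈ Γ which, as characters of
D(Γ), are trivial on the kernel of the fibre homomorphism f_{s'}, one and the same group for every
point s' of U) such that f|_U factors as the canonical map D_U(Γ) ⟶ D_U(Λ) (restriction of
characters, faithfully flat with kernel D_U(Γ/Λ)) followed by a homomorphism D_U(Λ) ⟶ G_U which is a
closed immersion: over U, ker f = D(Γ/Λ) and im f ≅ D(Λ). -/
theorem result {S : Scheme.{u}} (Γ : Type) [AddCommGroup Γ]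
    (G : Over S) [GrpObj G] [IsSeparated G.hom] [QuasiCompact G.hom] [LocallyOfFinitePresentation G.hom]
    (f : Red.DS S Γ ⟶ G) [IsMonHom f] (s : S) :
    ∃ U : S.Opens, s ∈ U ∧ IsClosed (U : Set S) ∧ ∃ Λ : AddSubgroup Γ, Λ.FG ∧
      ∃ j : Red.bc U.ι (Red.DS S Λ) ⟶ Red.bc U.ι G, IsMonHom j ∧ IsClosedImmersion j.left ∧
        (Over.pullback U.ι).map f = (Over.pullback U.ι).map (Red.DSmap S Λ.subtype) ≫ j := by
  obtain ⟨W, hW, hWc, hK⟩ := exists_decomp f
  obtain ⟨Λ, hs, -⟩ := hW s
  have hΛ : Λ.FG := (hK Λ).1 s hs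
  obtain ⟨j, hjm, -, hjc, hj⟩ := exists_fac_closed hΛ f (W Λ).ι (hK Λ).2
  haveI := hjm
  refine ⟨W Λ, hs, hWc Λ, Λ, hΛ, (BaseChange.overIso (DS.dsBC Λ (W Λ).ι)).hom ≫ j, inferInstance, ?_, ?_⟩
  · haveI := hjc
    haveI : IsIso (BaseChange.overIso (DS.dsBC Λ (W Λ).ι)).hom.left :=
      inferInstanceAs (IsIso ((Over.forget _).map (BaseChange.overIso (DS.dsBC Λ (W Λ).ι)).hom))
    exact inferInstanceAs (IsClosedImmersion (_ ≫ j.left))
  · rw [← Category.assoc, map_DSmap, Category.assoc, hj, map_eq_fT]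

end Groth.Agent.S19159
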