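import Groth.Statements.S1916
import Groth.Agent.Lib.Cyc.SheafLen

set_option autoImplicit false
universe u
open CategoryTheory AlgebraicGeometry
open Cyc

namespace Groth.Agent.S1916

/-- Let F be a coherent O_X-module on a locally Noetherian scheme X. The irreducible components of Supp
F form a locally finite family of subsets of X, and at every point ξ of Supp F admitting no proper
generalization inside Supp F the stalk F_ξ has finite length over O_{X,ξ}. -/
theorem result (X : Scheme.{u}) [IsLocallyNoetherian X] (F : X.Modules) (hF : Coh.IsCoh F) : LocallyFinite (fun Z : irreducibleComponents {x : X | Nontrivial (F.presheaf.stalk x)} => ((↑) '' (Z : Set {x : X | Nontrivial (F.presheaf.stalk x)}) : Set X)) ∧ ∀ ξ : X, Nontrivial (F.presheaf.stalk ξ) → (∀ x : X, Nontrivial (F.presheaf.stalk x) → x ⤳ ξ → x = ξ) → Module.length (X.presheaf.stalk ξ) (F.presheaf.stalk ξ) < ⊤ := by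
  refine ⟨?_, fun ξ _ h => (Groth.Agent.Lib.Cyc.SheafLen.length_ne_top hF ξ
    fun y hy hn => h y hn hy).lt_top⟩
  have := hF.2
  have hsupp : {x : X | Nontrivial (F.presheaf.stalk x)} = CohB1.support F :=
    Set.ext fun x => not_subsingleton_iff_nontrivial.symm
  have hcl : IsClosed {x : X | Nontrivial (F.presheaf.stalk x)} :=
    hsupp ▸ Groth.Agent.Lib.Modules.Support.isClosed_support F
  have : QuasiSober {x : X | Nontrivial (F.presheaf.stalk x)} :=
    hcl.isClosedEmbedding_subtypeVal.quasiSober
  have hg : ∀ Z : irreducibleComponents {x : X | Nontrivial (F.presheaf.stalk x)},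
      IsGenericPoint Z.2.1.genericPoint Z.1 := fun Z =>
    Z.2.1.isGenericPoint_genericPoint (isClosed_of_mem_irreducibleComponents _ Z.2)
  intro x
  obtain ⟨V, hV, hxV, hfin⟩ := Groth.Agent.Lib.Cyc.DimFun.exists_open_finite_maxPts hcl x
  refine ⟨V, hV.mem_nhds hxV, (hfin.preimage (f := fun Z : irreducibleComponents
    {x : X | Nontrivial (F.presheaf.stalk x)} => Z.2.1.genericPoint.1) ?_).subset ?_⟩
  · intro Z _ Z' _ h
    exact Subtype.ext ((hg Z).def.symm.trans ((congrArg (fun t => closure {t}) (Subtype.ext h)).trans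
      (hg Z').def))
  · rintro Z ⟨_, ⟨a, ha, rfl⟩, haV⟩
    refine ⟨((hg Z).specializes ha).map continuous_subtype_val |>.mem_open hV haV,
      Z.2.1.genericPoint.2, fun y hy hyz => ?_⟩
    have hyZ : (⟨y, hy⟩ : {x : X | Nontrivial (F.presheaf.stalk x)}) ∈ Z.1 :=
      Z.2.2 isIrreducible_singleton.closure (fun b hb => specializes_iff_mem_closure.mp
        ((Topology.IsInducing.subtypeVal.specializes_iff.mp hyz).trans ((hg Z).specializes hb)))
        (subset_closure rfl)
    exact (hyz.antisymm (((hg Z).specializes hyZ).map continuous_subtype_val)).eq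

end Groth.Agent.S1916
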