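import Groth.Statements.S19162
import Groth.Agent.Lib.ImgMT.SplitHens
import Groth.Agent.Lib.MultSmooth.Centralizer
import Groth.Agent.H87.GmFibre
-- import your own Groth.Agent.* helpers here

set_option autoImplicit false
open CategoryTheory MonoidalCategory CartesianMonoidalCategory MonObj GrpObj AlgebraicGeometry
universe u
open RedSub

open CategoryTheory.Limits Groth.Agent.Lib.RedPts Groth.Agent.Lib.Tori Groth.Agent.H87 Groth.Agent.Lib.ImgMT

namespace Groth.Agent.S19162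

set_option linter.style.haveILetI false

theorem DSmap_fst_inl {S : Scheme.{u}} (M M' : Type) [AddCommGroup M] [AddCommGroup M'] :
    Red.DSmap S (AddMonoidHom.fst M M') ≫ Red.DSmap S (AddMonoidHom.inl M M') = 𝟙 _ :=
  Gm.dsFn_ext fun m => by rw [Gm.dsFn_DSmap, DS.dsFn_DSmap_self]; rfl

theorem DSmap_fst_inr {S : Scheme.{u}} (M M' : Type) [AddCommGroup M] [AddCommGroup M'] :
    Red.DSmap S (AddMonoidHom.fst M M') ≫ Red.DSmap S (AddMonoidHom.inr M M') = 1 :=
  Gm.dsFn_ext fun m => by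
    rw [Gm.dsFn_DSmap, DS.dsFn_DSmap_self, Gm.dsFn_one]
    exact Gm.dsFn_zero _

theorem DSmap_snd_inr {S : Scheme.{u}} (M M' : Type) [AddCommGroup M] [AddCommGroup M'] :
    Red.DSmap S (AddMonoidHom.snd M M') ≫ Red.DSmap S (AddMonoidHom.inr M M') = 𝟙 _ :=
  Gm.dsFn_ext fun m => by rw [Gm.dsFn_DSmap, DS.dsFn_DSmap_self]; rfl

theorem DSmap_snd_inl {S : Scheme.{u}} (M M' : Type) [AddCommGroup M] [AddCommGroup M'] :
    Red.DSmap S (AddMonoidHom.snd M M') ≫ Red.DSmap S (AddMonoidHom.inl M M') = 1 :=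
  Gm.dsFn_ext fun m => by
    rw [Gm.dsFn_DSmap, DS.dsFn_DSmap_self, Gm.dsFn_one]
    exact Gm.dsFn_zero _

/-- The closed-fibre chart of a split torus. -/
theorem exists_chart {S T : Scheme.{u}} (c : T ⟶ S) {r : ℕ} {T₀ : Over T} [GrpObj T₀]
    (h : Red.IsSplitTorusWith (Fin r → ℤ) T₀) :
    ∃ C : Red.bc c (Red.DS S (Fin r → ℤ)) ≅ T₀, IsMonHom C.hom := by
  obtain ⟨e⟩ := h
  exact ⟨BaseChange.overIso (DS.dsBC (Fin r → ℤ) c ≪≫ e.symm), BaseChange.isMonHom_overIso _⟩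

theorem isCov_map {S T : Scheme.{u}} (c : T ⟶ S) {X Y : Over S} (f : X ⟶ Y) (h : IsCov f) :
    IsCov ((Over.pullback c).map f) :=
  ⟨MorphismProperty.of_isPullback (P := @Flat) (Charts.isPullback_map c f) h.1,
   MorphismProperty.of_isPullback (P := @Surjective) (Charts.isPullback_map c f) h.2.1,
   MorphismProperty.of_isPullback (P := @QuasiCompact) (Charts.isPullback_map c f) h.2.2⟩

/-- The image of two commuting homomorphisms of split tori is a split torus containing both. -/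
theorem exists_ge {S : Scheme.{u}} (s₀ : S) (hs₀ : ∀ x : S, x ⤳ s₀) {G : Over S} [GrpObj G]
    [Smooth G.hom] [IsAffineHom G.hom] {r r' : ℕ} (a : Red.DS S (Fin r → ℤ) ⟶ G) [IsMonHom a]
    (b : Red.DS S (Fin r' → ℤ) ⟶ G) [IsMonHom b]
    (hc : ∀ (X : Over S) (x : X ⟶ Red.DS S (Fin r → ℤ)) (y : X ⟶ Red.DS S (Fin r' → ℤ)),
      (x ≫ a) * (y ≫ b) = (y ≫ b) * (x ≫ a)) :
    ∃ (n : ℕ) (j : Red.DS S (Fin n → ℤ) ⟶ G) (g₁ : Red.DS S (Fin r → ℤ) ⟶ Red.DS S (Fin n → ℤ))
      (g₂ : Red.DS S (Fin r' → ℤ) ⟶ Red.DS S (Fin n → ℤ)),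
      IsMonHom j ∧ Mono j ∧ g₁ ≫ j = a ∧ g₂ ≫ j = b := by
  let A := Fin r → ℤ
  let A' := Fin r' → ℤ
  let p := Red.DSmap S (AddMonoidHom.inl A A')
  let q := Red.DSmap S (AddMonoidHom.inr A A')
  haveI : IsMonHom p := Gm.isMonHom_DSmap _
  haveI : IsMonHom q := Gm.isMonHom_DSmap _
  let F : Red.DS S (A × A') ⟶ G := (p ≫ a) * (q ≫ b)
  haveI : IsMonHom F := HomDS.isMonHom_of_points F fun X x y => by
    simp only [F, comp_mul]
    rw [MonObj.mul_comp x y (p ≫ a), MonObj.mul_comp x y (q ≫ b)]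
    have h4 := hc X (y ≫ p) (x ≫ q)
    simp only [Category.assoc] at h4
    rw [_root_.mul_assoc, ← _root_.mul_assoc (y ≫ p ≫ a), h4]
    simp only [_root_.mul_assoc]
  obtain ⟨n, j, f', hj, hjm, -, -, hf⟩ := SplitHens.exists_image_split s₀ hs₀ F
  refine ⟨n, j, Red.DSmap S (AddMonoidHom.fst A A') ≫ f', Red.DSmap S (AddMonoidHom.snd A A') ≫ f', hj, hjm, ?_, ?_⟩
  · rw [Category.assoc, hf]
    simp only [F, p, q, comp_mul]
    rw [← Category.assoc, DSmap_fst_inl, ← Category.assoc, DSmap_fst_inr, Category.id_comp, MonObj.one_comp,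
      _root_.mul_one]
  · rw [Category.assoc, hf]
    simp only [F, p, q, comp_mul]
    rw [← Category.assoc, DSmap_snd_inl, ← Category.assoc, DSmap_snd_inr, Category.id_comp, MonObj.one_comp,
      _root_.one_mul]

/-- Let O be a henselian local ring with residue field k, i : Spec k ⟶ Spec O the closed point, and G a
reductive group over Spec O. A maximal split torus of G is a subgroup scheme which is a torus
isomorphic to some D(ℤ^r) and which equals every split subtorus of G containing it. Then (i) if T is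
a maximal split torus of G, its closed fibre T_k ⟶ G_k is a maximal split torus of G_k; (ii) every
maximal split torus T₀ of G_k is, up to isomorphism over G_k, the closed fibre of a maximal split
torus of G. -/
theorem result (O : Type u) [CommRing O] [HenselianLocalRing O]
    (G : Over (Spec (CommRingCat.of O))) [GrpObj G] (hG : Red.IsReductive G) :
    (∀ (T : Over (Spec (CommRingCat.of O))) [GrpObj T] (σ : T ⟶ G) [IsMonHom σ] [Mono σ],
      (Red.IsTorus (T) ∧ (∃ r : ℕ, Red.IsSplitTorusWith (Fin r → ℤ) (T)) ∧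
      (∀ (T' : Over (Spec (CommRingCat.of O))) [GrpObj T'] (σ' : T' ⟶ G) [IsMonHom σ'] [Mono σ'] (f : T ⟶ T'),
        Red.IsTorus T' → (∃ r : ℕ, Red.IsSplitTorusWith (Fin r → ℤ) T') → f ≫ σ' = σ → IsIso f)) →
      IsMonHom ((Over.pullback (Spec.map (CommRingCat.ofHom (IsLocalRing.residue O)))).map σ) ∧ Mono ((Over.pullback (Spec.map (CommRingCat.ofHom (IsLocalRing.residue O)))).map σ) ∧
      (Red.IsTorus (Red.bc (Spec.map (CommRingCat.ofHom (IsLocalRing.residue O))) T) ∧ (∃ r : ℕ, Red.IsSplitTorusWith (Fin r → ℤ) (Red.bc (Spec.map (CommRingCat.ofHom (IsLocalRing.residue O))) T)) ∧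
      (∀ (T' : Over (Spec (CommRingCat.of (IsLocalRing.ResidueField O)))) [GrpObj T'] (σ' : T' ⟶ Red.bc (Spec.map (CommRingCat.ofHom (IsLocalRing.residue O))) G) [IsMonHom σ'] [Mono σ'] (f : Red.bc (Spec.map (CommRingCat.ofHom (IsLocalRing.residue O))) T ⟶ T'),
        Red.IsTorus T' → (∃ r : ℕ, Red.IsSplitTorusWith (Fin r → ℤ) T') → f ≫ σ' = (Over.pullback (Spec.map (CommRingCat.ofHom (IsLocalRing.residue O)))).map σ → IsIso f))) ∧
    (∀ (T₀ : Over (Spec (CommRingCat.of (IsLocalRing.ResidueField O)))) [GrpObj T₀] (σ₀ : T₀ ⟶ Red.bc (Spec.map (CommRingCat.ofHom (IsLocalRing.residue O))) G) [IsMonHom σ₀] [Mono σ₀],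
      (Red.IsTorus (T₀) ∧ (∃ r : ℕ, Red.IsSplitTorusWith (Fin r → ℤ) (T₀)) ∧
      (∀ (T' : Over (Spec (CommRingCat.of (IsLocalRing.ResidueField O)))) [GrpObj T'] (σ' : T' ⟶ Red.bc (Spec.map (CommRingCat.ofHom (IsLocalRing.residue O))) G) [IsMonHom σ'] [Mono σ'] (f : T₀ ⟶ T'),
        Red.IsTorus T' → (∃ r : ℕ, Red.IsSplitTorusWith (Fin r → ℤ) T') → f ≫ σ' = σ₀ → IsIso f)) →
      ∃ (T : Over (Spec (CommRingCat.of O))) (_ : GrpObj T) (σ : T ⟶ G) (_ : IsMonHom σ) (_ : Mono σ),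
        (Red.IsTorus (T) ∧ (∃ r : ℕ, Red.IsSplitTorusWith (Fin r → ℤ) (T)) ∧
      (∀ (T' : Over (Spec (CommRingCat.of O))) [GrpObj T'] (σ' : T' ⟶ G) [IsMonHom σ'] [Mono σ'] (f : T ⟶ T'),
        Red.IsTorus T' → (∃ r : ℕ, Red.IsSplitTorusWith (Fin r → ℤ) T') → f ≫ σ' = σ → IsIso f)) ∧
        ∃ e : Red.bc (Spec.map (CommRingCat.ofHom (IsLocalRing.residue O))) T ≅ T₀, e.hom ≫ σ₀ = (Over.pullback (Spec.map (CommRingCat.ofHom (IsLocalRing.residue O)))).map σ) := by
  haveI : IsAffineHom G.hom := hG.1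
  haveI : Smooth G.hom := hG.2.1
  let c := SplitHens.cl O
  let k₀ : Spec (CommRingCat.of (IsLocalRing.ResidueField O)) := IsLocalRing.closedPoint (IsLocalRing.ResidueField O)
  let s₀ : Spec (CommRingCat.of O) := IsLocalRing.closedPoint O
  have hs₀ : ∀ x : Spec (CommRingCat.of O), x ⤳ s₀ := fun x => IsLocalRing.specializes_closedPoint x
  refine ⟨?_, ?_⟩
  · intro T _ σ _ _ ⟨hT, ⟨r, hr⟩, hmax⟩
    refine ⟨inferInstance, inferInstance, Basic.isTorus_of_isSplit (Basic.isSplit_bc hr c),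
      ⟨r, Basic.isSplit_bc hr c⟩, ?_⟩
    intro T' _ σ' _ _ f hT' ⟨r', hr'⟩ hf
    have hMT : SGA3x.IsMultTypeFT T := Groth.Agent.H87.GmFibre.isMultTypeFT_of_isTorus hT
    obtain ⟨Z, gZ, jZ, ⟨hjm, hjmono, hjc⟩, hjcl, hZs⟩ := Groth.Agent.Lib.MultSmooth.exists_centralizer_smooth hMT σ
    letI := gZ
    haveI := hjm
    haveI := hjmono
    haveI := hjcl
    haveI : IsAffineHom Z.hom := by rw [← Over.w jZ]; infer_instance
    haveI : IsMonHom f := SplitMax.isMonHom_of_comp f ((Over.pullback c).map σ) σ' hf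
    have hcomm' := fun {X : Over _} (a b : X ⟶ T') => Normal.comm (Groth.Agent.H87.GmFibre.isMultTypeFT_of_isTorus hT') a b
    have hz : ∃ z, z ≫ jZ = BC.down c σ' := by
      rw [hjc]
      intro X' x h
      let Y : Over (Spec (CommRingCat.of (IsLocalRing.ResidueField O))) := Over.mk (x.left ≫ T'.hom)
      let x' : Y ⟶ T' := Over.homMk x.left
      let ε : (Over.map c).obj Y ≅ X' := Over.isoMk (Iso.refl _) (by
        show 𝟙 _ ≫ X'.hom = (x.left ≫ T'.hom) ≫ c
        rw [Category.id_comp, Category.assoc]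
        exact (Over.w x).symm)
      have h1 : ε.hom ≫ x = (Over.map c).map x' := Over.OverMorphism.ext (Category.id_comp _)
      let h' : Y ⟶ Red.bc c T := BC.up c (ε.hom ≫ h)
      have h2 : (x' ≫ σ') * (h' ≫ (Over.pullback c).map σ) = (h' ≫ (Over.pullback c).map σ) * (x' ≫ σ') := by
        rw [← hf, ← Category.assoc, ← MonObj.mul_comp, hcomm', MonObj.mul_comp]
      have h3 := congrArg (BC.down c) h2
      rw [BC.down_mul, BC.down_mul, BC.down_map, BC.down_up, BC.down_comp, ← h1] at h3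
      rw [← cancel_epi ε.hom, comp_mul, comp_mul]
      simpa only [Category.assoc] using h3
    obtain ⟨z, hz⟩ := hz
    let z' : T' ⟶ Red.bc c Z := BC.up c z
    have hz' : z' ≫ (Over.pullback c).map jZ = σ' := BC.down_injective (by rw [BC.down_map, BC.down_up, hz])
    haveI : IsMonHom z' := SplitMax.isMonHom_of_comp z' σ' ((Over.pullback c).map jZ) hz'
    obtain ⟨C, hC⟩ := exists_chart c hr'
    haveI := hC
    haveI := hZs
    obtain ⟨w₀, hw₀m, hw₀⟩ := SplitHens.exists_hom_lift (Basic.isTorus_DS _ (Fin r' → ℤ)) (C.hom ≫ z')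
    haveI := hw₀m
    obtain ⟨e⟩ := hr
    let E := BaseChange.overIso e
    haveI : IsMonHom E.inv := inferInstanceAs (IsMonHom (BaseChange.overIso e.symm).hom)
    obtain ⟨n, j, g₁, g₂, hj, hjmn, hg₁, hg₂⟩ := exists_ge s₀ hs₀ (E.inv ≫ σ) (w₀ ≫ jZ) (fun X x y => by
      have h := (hjc X (y ≫ w₀ ≫ jZ)).1 ⟨y ≫ w₀, Category.assoc _ _ _⟩ X (𝟙 X) (x ≫ E.inv)
      rw [Category.id_comp, Category.assoc] at h
      exact h.symm)
    haveI := hj
    haveI := hjmn
    have hge : (E.hom ≫ g₁) ≫ j = σ := by rw [Category.assoc, hg₁, Iso.hom_inv_id_assoc]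
    haveI : IsIso (E.hom ≫ g₁) :=
      hmax _ j _ (Basic.isTorus_DS _ _) ⟨n, Basic.isSplit_DS _ _⟩ hge
    let w := g₂ ≫ inv (E.hom ≫ g₁)
    have hw : w ≫ σ = w₀ ≫ jZ := by
      rw [Category.assoc, ← hge, IsIso.inv_hom_id_assoc, hg₂]
    have hwk : (Over.pullback c).map w ≫ f ≫ σ' = C.hom ≫ σ' := by
      rw [hf, ← Functor.map_comp, hw, Functor.map_comp, hw₀, Category.assoc, hz']
    have h5 : (C.inv ≫ (Over.pullback c).map w) ≫ f = 𝟙 T' := by
      rw [← cancel_mono σ', Category.assoc, Category.assoc, hwk, Iso.inv_hom_id_assoc, Category.id_comp]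
    haveI : Mono (f ≫ σ') := by rw [hf]; infer_instance
    haveI : Mono f := mono_of_mono f σ'
    exact ⟨⟨_, (cancel_mono f).1 (by rw [Category.assoc, h5, Category.comp_id, Category.id_comp]), h5⟩⟩
  · intro T₀ _ σ₀ _ _ ⟨hT₀, ⟨r, hr⟩, hmax⟩
    obtain ⟨C, hC⟩ := exists_chart c hr
    haveI := hC
    obtain ⟨w₀, hw₀m, hw₀⟩ := SplitHens.exists_hom_lift (Basic.isTorus_DS _ (Fin r → ℤ)) (C.hom ≫ σ₀)
    haveI := hw₀m
    obtain ⟨n, j, f', hj, hjm, -, hcov, hf⟩ := SplitHens.exists_image_split s₀ hs₀ w₀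
    haveI := hj
    haveI := hjm
    have hcov₀ := isCov_map c f' hcov
    obtain ⟨h, hh, hfh⟩ := exists_desc hcov₀ σ₀ C.hom ((Over.pullback c).map j)
      (by rw [← hw₀, ← Functor.map_comp, hf])
    haveI := hcov₀.epi
    let e : Red.bc c (Red.DS _ (Fin n → ℤ)) ≅ T₀ :=
      { hom := h
        inv := C.inv ≫ (Over.pullback c).map f'
        hom_inv_id := by
          rw [← cancel_epi ((Over.pullback c).map f'), ← Category.assoc, hfh, Iso.hom_inv_id_assoc, Category.comp_id]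
        inv_hom_id := by rw [Category.assoc, hfh, Iso.inv_hom_id] }
    refine ⟨_, inferInstance, j, hj, hjm, ⟨Basic.isTorus_DS _ _, ⟨n, Basic.isSplit_DS _ _⟩, ?_⟩, e, hh⟩
    intro T' _ σ' _ _ f hT' ⟨n', hn'⟩ hfe
    haveI : IsMonHom f := SplitMax.isMonHom_of_comp f j σ' hfe
    haveI : Mono (f ≫ σ') := by rw [hfe]; infer_instance
    haveI : Mono f := mono_of_mono f σ'
    have hk : IsIso (e.inv ≫ (Over.pullback c).map f) :=
      hmax _ ((Over.pullback c).map σ') _ (Basic.isTorus_of_isSplit (Basic.isSplit_bc hn' c))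
        ⟨n', Basic.isSplit_bc hn' c⟩
        (by rw [Category.assoc, ← Functor.map_comp, hfe, ← hh, Iso.inv_hom_id_assoc])
    haveI : IsIso ((Over.pullback c).map f) :=
      @IsIso.of_isIso_comp_left _ _ _ _ _ e.inv _ (Iso.isIso_inv e) hk
    obtain ⟨e'⟩ := hn'
    let E := BaseChange.overIso e'
    haveI : IsMonHom E.hom := BaseChange.isMonHom_overIso _
    haveI : Mono E.hom := @IsIso.mono_of_iso _ _ _ _ _ (Iso.isIso_hom _)
    haveI : Mono (f ≫ E.hom) := mono_comp _ _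
    haveI : IsIso (f ≫ E.hom) := SplitHens.isIso_of_closed c k₀ (f ≫ E.hom) (by
      rw [Functor.map_comp]; infer_instance)
    exact IsIso.of_isIso_comp_right f E.hom

end Groth.Agent.S19162
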