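import Groth.Statements.S19163
import Groth.Agent.Lib.FreeRes.MultType
import Groth.Agent.Lib.FreeRes.Transporter
import Groth.Agent.Lib.AlgSpMor.Cancel
import Groth.Agent.Lib.Tori.DS

set_option autoImplicit false
open CategoryTheory MonoidalCategory CartesianMonoidalCategory MonObj GrpObj AlgebraicGeometry
universe u
open SGA3x

namespace Groth.Agent.S19163
open Groth.Agent.Lib in
/-- `D_S(M)` is essentially free over `S`. -/
theorem isEssentiallyFree_DS (S : Scheme.{u}) (M : Type) [AddCommGroup M] :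
    SGA3x.IsEssentiallyFree (Red.DS S M).hom := by
  refine FreeRes.isEssentiallyFree_baseChange ?_
    (IsPullback.of_hasPullback (Red.diag (ULift.{u} ℤ) M).hom (Limits.IsTerminal.from specULiftZIsTerminal S))
  haveI : IsAffine ((⊤ : (Spec (CommRingCat.of (ULift.{u} ℤ))).Opens) : Scheme.{u}) := isAffineOpen_top _
  refine FreeRes.isEssentiallyFree_of_local fun s => ⟨⊤, trivial, isAffineOpen_top _, _, 𝟙 _,
    (Red.diag (ULift.{u} ℤ) M).hom ≫ (Scheme.topIso _).inv, ?_, ?_⟩
  · haveI : IsIso ((⊤ : (Spec (CommRingCat.of (ULift.{u} ℤ))).Opens)).ι := by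
      rw [← Scheme.topIso_hom]; infer_instance
    exact IsPullback.of_horiz_isIso ⟨by rw [Category.assoc, ← Scheme.topIso_hom, Iso.inv_hom_id,
      Category.comp_id, Category.id_comp]⟩
  · exact FreeRes.projCovered_baseChange (FreeRes.projCovered_diag _ _)
      (IsPullback.of_horiz_isIso (fst := 𝟙 _) (g := (Scheme.topIso _).hom) ⟨by
        rw [Category.assoc, Iso.inv_hom_id, Category.comp_id, Category.id_comp]⟩)

/-- Let Γ be a non-trivial totally ordered commutative group and H ⟶ G a closed immersion of reductive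
S-groups (a homomorphism which is a closed immersion). Let A_H with υ_H, resp. A_G with υ_G,
represent the functor of group homomorphisms D_S(Γ) ⟶ H, resp. D_S(Γ) ⟶ G, and let φ : A_H ⟶ A_G be
the S-morphism induced by composing with H ⟶ G (the universal family over A_H followed by H ⟶ G is
the pull-back of υ_G along φ). Then φ is a closed immersion, locally of finite presentation. -/
theorem result {S : Scheme.{u}}
    (Γ : Type) [AddCommGroup Γ] [LinearOrder Γ] [IsOrderedAddMonoid Γ] [Nontrivial Γ]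
    (H G : Over S) [GrpObj H] [GrpObj G] (hH : Red.IsReductive H) (hG : Red.IsReductive G)
    (k : H ⟶ G) [IsMonHom k] (hk : IsClosedImmersion k.left)
    (AH : Over S) (υH : Red.DS S Γ ⊗ AH ⟶ H) (hAH : AutFam.RepresentsHom (Red.DS S Γ) H AH υH)
    (AG : Over S) (υG : Red.DS S Γ ⊗ AG ⟶ G) (hAG : AutFam.RepresentsHom (Red.DS S Γ) G AG υG)
    (φ : AH ⟶ AG) (hφ : (Red.DS S Γ ◁ φ) ≫ υG = υH ≫ k) :
    IsClosedImmersion φ.left ∧ LocallyOfFinitePresentation φ.left := by
  obtain ⟨hHa, hHs, -⟩ := hH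
  obtain ⟨hGa, hGs, -⟩ := hG
  haveI := hk
  haveI : Mono k := (Over.forget S).mono_of_mono_map (show Mono k.left from inferInstance)
  haveI := Groth.Agent.Lib.Tori.DS.isAffineHom S Γ
  haveI : LocallyOfFinitePresentation k.left :=
    Groth.Agent.Lib.AlgSpMor.Cancel.locallyOfFinitePresentation_of_comp (g := G.hom)
      (by rw [Over.w k]; infer_instance) inferInstance
  obtain ⟨C, c, hc, hC, hfp⟩ := Groth.Agent.Lib.FreeRes.exists_closed_factor
    (isEssentiallyFree_DS S Γ) ((β_ AG (Red.DS S Γ)).hom ≫ υG) k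
  haveI := hc
  haveI := hfp inferInstance inferInstance
  haveI : Mono c := (Over.forget S).mono_of_mono_map (show Mono c.left from inferInstance)
  -- `φ` factors through `c`
  obtain ⟨z, hz⟩ := (hC φ).2 ⟨(β_ AH (Red.DS S Γ)).hom ≫ υH, by
    rw [Category.assoc, ← hφ, ← Category.assoc, ← Category.assoc (φ ▷ Red.DS S Γ),
      BraidedCategory.braiding_naturality_left]⟩
  -- the universal family over `C`
  obtain ⟨l, hl⟩ := (hC c).1 ⟨𝟙 _, Category.id_comp _⟩
  have hl' : (β_ (Red.DS S Γ) C).hom ≫ l ≫ k = (Red.DS S Γ ◁ c) ≫ υG := by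
    rw [hl, BraidedCategory.braiding_naturality_left_assoc, SymmetricCategory.symmetry_assoc]
  have hfam : AutFam.IsHomFamily (Red.DS S Γ) H ((β_ (Red.DS S Γ) C).hom ≫ l) := fun X g₁ g₂ t => by
    have e : ∀ g : X ⟶ Red.DS S Γ, (lift g t ≫ (β_ (Red.DS S Γ) C).hom ≫ l) ≫ k =
        lift g (t ≫ c) ≫ υG := fun g => by
      rw [Category.assoc, Category.assoc, hl', ← Category.assoc, lift_whiskerLeft]
    rw [← cancel_mono k, e, MonObj.mul_comp _ _ k, e, e]
    exact hAG.1 X g₁ g₂ _
  obtain ⟨a, ha, -⟩ := hAH.2 C _ hfam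
  have hac : a ≫ φ = c := by
    have h1 : AutFam.IsHomFamily (Red.DS S Γ) G ((Red.DS S Γ ◁ c) ≫ υG) := fun X g₁ g₂ t => by
      simp only [← Category.assoc, lift_whiskerLeft]
      exact hAG.1 X g₁ g₂ _
    obtain ⟨b, -, hb⟩ := hAG.2 C _ h1
    refine (hb _ ?_).trans (hb c rfl).symm
    show (Red.DS S Γ ◁ (a ≫ φ)) ≫ υG = _
    rw [MonoidalCategory.whiskerLeft_comp, Category.assoc, hφ, ← Category.assoc, ha, Category.assoc, hl']
  have h2 : a ≫ z = 𝟙 C := by
    rw [← cancel_mono c, Category.assoc, hz, hac, Category.id_comp]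
  have h3 : z ≫ a = 𝟙 AH := by
    obtain ⟨b, -, hb⟩ := hAH.2 AH υH hAH.1
    refine (hb _ ?_).trans (hb (𝟙 AH) (by simp)).symm
    show (Red.DS S Γ ◁ (z ≫ a)) ≫ υH = υH
    rw [← cancel_mono k, MonoidalCategory.whiskerLeft_comp, Category.assoc, Category.assoc,
      ← Category.assoc (Red.DS S Γ ◁ a), ha, Category.assoc, hl', ← Category.assoc,
      ← MonoidalCategory.whiskerLeft_comp, hz, hφ]
  haveI : IsIso z := ⟨a, h3, h2⟩
  haveI : IsIso z.left := inferInstanceAs (IsIso ((Over.forget S).map z))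
  rw [← hz, Over.comp_left]
  exact ⟨inferInstance, inferInstance⟩

end Groth.Agent.S19163
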