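import Groth.Statements.S19169
import Groth.Agent.Lib.ProCompl.Characters

set_option autoImplicit false
universe u
open ProCompl

namespace Groth.Agent.S19169

/-- Let B be a Hausdorff, locally compact, totally disconnected topological abelian group which is
compactly generated, i.e. generated as a group by a compact subset. Then the open subgroups of
finite index of B have trivial intersection: every nonzero b lies outside some open subgroup of
finite index. Equivalently, the natural map from B to its completion with respect to open subgroups
of finite index is injective. -/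
theorem result
    {B : Type u} [AddCommGroup B] [TopologicalSpace B] [IsTopologicalAddGroup B]
    [T2Space B] [LocallyCompactSpace B] [TotallyDisconnectedSpace B]
    (hcg : ∃ K : Set B, IsCompact K ∧ AddSubgroup.closure K = ⊤) (b : B) (hb : b ≠ 0) :
    ∃ B' : AddSubgroup B, IsOpen (B' : Set B) ∧ B'.FiniteIndex ∧ b ∉ B' := by
  open Groth.Agent.Lib.ProCompl.Characters in
  obtain ⟨H, hH, -, hHsub⟩ := exists_compactOpen_subgroup (A := B) (U := {b}ᶜ)
    isOpen_compl_singleton (fun h ↦ hb h.symm)
  obtain ⟨χ, hχ⟩ := exists_apply_ne_zero (a := QuotientAddGroup.mk' H b)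
    (fun h ↦ hHsub ((QuotientAddGroup.eq_zero_iff b).mp h) rfl)
  have hopen : IsOpen ((χ.comp (QuotientAddGroup.mk' H)).ker : Set B) :=
    AddSubgroup.isOpen_mono (fun x hx ↦ by
      rw [AddMonoidHom.mem_ker, AddMonoidHom.comp_apply,
        show QuotientAddGroup.mk' H x = 0 from (QuotientAddGroup.eq_zero_iff x).mpr hx, map_zero]) hH
  exact ⟨_, hopen, finiteIndex_ker_of_compactlyGenerated hcg _ hopen, hχ⟩

end Groth.Agent.S19169
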