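import Groth.Statements.S1917
import Groth.Agent.H19.IntMult.BCClosed
import Groth.Agent.H19.IntMult.ExtProd
import Groth.Agent.H19.IntMult.SectDiv
import Groth.Agent.Lib.ClProd85.Main
import Groth.Agent.Lib.Cyc.FP.Rat
import Groth.Agent.Lib.Cyc.DegK.Dim
import Groth.Agent.Lib.Cyc.PP.Main

set_option autoImplicit false
universe u
open CategoryTheory CategoryTheory.Limits AlgebraicGeometry
open IntMult

namespace Groth.Agent.S1917

open Groth.Agent.Lib Groth.Agent.Lib.Cyc Groth.Agent.H19.IntMult IsLocalRing MonoidalCategory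

theorem lenComp {T R S : Type u} [CommRing T] [CommRing R] [CommRing S] (φ : R →+* S) (ψ : T →+* R)
    (χ : T →+* S) (m : Ideal T) (b : Ideal R) (hχ : χ = φ.comp ψ) (hφ : Function.Surjective φ)
    (hb : RingHom.ker φ = b) :
    Module.length S (S ⧸ m.map χ) = Module.length R (R ⧸ (m.map ψ ⊔ b)) := by
  subst hχ hb
  rw [← Ideal.map_map]
  refine Eq.trans ?_ (SectDiv.length_of_surj ((Ideal.Quotient.mk ((m.map ψ).map φ)).comp φ)
    (Ideal.Quotient.mk_surjective.comp hφ) _ ?_).symm
  · exact Module.length_eq_of_surjective Ideal.Quotient.mk_surjective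
  · rw [← RingHom.comap_ker, Ideal.mk_ker, Ideal.comap_map_of_surjective _ hφ]
    rfl

open Classical in
/-- The exterior product with a prime cycle is rationally equivalent to zero. -/
theorem side {K : Type u} [Field K] [IsAlgClosed K] {X Y P : Scheme.{u}} (f : X ⟶ Spec (CommRingCat.of K))
    (g : Y ⟶ Spec (CommRingCat.of K)) [IsIntegral X] [LocallyOfFiniteType f] [QuasiCompact f]
    [LocallyOfFiniteType g] [QuasiCompact g] (p : P ⟶ X) (q : P ⟶ Y) (hP : IsPullback p q f g)
    {δX : X → ℤ} {δY : Y → ℤ} {δ : P → ℤ} (hX : Cyc.DeltaCompat f δX (fun _ => 0))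
    (hY : Cyc.DeltaCompat g δY (fun _ => 0)) (hδ : Cyc.DeltaCompat (p ≫ f) δ (fun _ => 0)) {r s : ℤ}
    (α : AlgebraicCycle X ℤ) (h0 : Cyc.RatEquivZero δX r α) (η : Y) (hη : δY η = s) :
    ∃ c : AlgebraicCycle P ℤ, Cyc.RatEquivZero δ (r + s) c ∧ (∀ z, q z ≠ η → δ z = δX (p z) + δY (q z) → α (p z) = 0 ∨ c z = 0) ∧
      ∀ z, c z = if q z = η ∧ δ z = δX (p z) + δY (q z) then α (p z) *
        ((Module.length (P.presheaf.stalk z) (↑(P.presheaf.stalk z) ⧸
          ((maximalIdeal (X.presheaf.stalk (p z))).map (p.stalkMap z).hom ⊔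
            (maximalIdeal (Y.presheaf.stalk (q z))).map (q.stalkMap z).hom))).toNat : ℤ) else 0 := by
  classical
  obtain ⟨V, hV, i, hi, hgen⟩ := ExtProd.exists_subvariety η
  haveI := hV; haveI := hi
  let j := pullback.fst q i
  let v := pullback.snd q i
  have HQ : IsPullback j v q i := IsPullback.of_hasPullback q i
  have Hbig : IsPullback (j ≫ p) v f (i ≫ g) := (HQ.flip.paste_vert hP.flip).flip
  haveI : LocallyOfFiniteType (p ≫ f) := by
    haveI : LocallyOfFiniteType p := MorphismProperty.of_isPullback hP.flip ‹LocallyOfFiniteType g›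
    infer_instance
  haveI : QuasiCompact (i ≫ g) := inferInstance
  let Zv : ClProd85.Var K := Over.mk f
  let Wv : ClProd85.Var K := Over.mk (i ≫ g)
  let Qv : ClProd85.Var K := Over.mk ((j ≫ p) ≫ f)
  haveI : IsIntegral Zv.left := ‹IsIntegral X›
  haveI : IsIntegral Wv.left := hV
  haveI : LocallyOfFiniteType Zv.hom := inferInstanceAs (LocallyOfFiniteType f)
  haveI : LocallyOfFiniteType Wv.hom := inferInstanceAs (LocallyOfFiniteType (i ≫ g))
  haveI : QuasiCompact Wv.hom := inferInstanceAs (QuasiCompact (i ≫ g))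
  haveI : IsIntegral (pullback f (i ≫ g)) := ClProd85.isIntegral_prod Zv Wv
  haveI : Nonempty ↥(pullback q i) := ⟨Hbig.isoPullback.inv (genericPoint ↥(pullback f (i ≫ g)))⟩
  haveI hQint : IsIntegral (pullback q i) := isIntegral_of_isOpenImmersion Hbig.isoPullback.hom
  haveI : LocallyOfFiniteType ((j ≫ p) ≫ f) := by rw [Category.assoc]; infer_instance
  let pQ : Qv ⟶ Zv := Over.homMk (j ≫ p) rfl
  let qQ : Qv ⟶ Wv := Over.homMk v Hbig.w.symm
  let sq : ClProd85.Sq Qv Zv Wv :=
    { p := pQ, q := qQ, H := Hbig, intP := hQint, intZ := ‹IsIntegral X›, intW := hV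
      lftP := ‹LocallyOfFiniteType ((j ≫ p) ≫ f)›, lftZ := ‹LocallyOfFiniteType f›
      lftW := inferInstanceAs (LocallyOfFiniteType (i ≫ g))
      geoZ := ClProd85.geomIntegral Zv, geoW := ClProd85.geomIntegral Wv }
  have eX : δX = FieldDim.fdelta f := funext (DegK.Dim.delta_eq hX)
  have eY : δY = FieldDim.fdelta g := funext (DegK.Dim.delta_eq hY)
  have eP : δ = FieldDim.fdelta (p ≫ f) := funext (DegK.Dim.delta_eq hδ)
  let δQ : ↥(pullback q i) → ℤ := FieldDim.fdelta ((j ≫ p) ≫ f)
  have hjδ : ∀ w, δQ w = δ (j w) := fun w => by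
    rw [eP, ← ExtProd.fdelta_preimmersion j (p ≫ f) w]
    simp only [δQ, Category.assoc]
  have hrd : sq.rd = s := by
    show FieldDim.fdelta (i ≫ g) (genericPoint V) = s
    rw [ExtProd.fdelta_preimmersion i g, hgen, ← eY, hη]
  have dX := (ExtProd.isSetup_of_deltaCompat f hX).2.2
  haveI := LocallyOfFiniteType.isLocallyNoetherian f
  haveI := LocallyOfFiniteType.isLocallyNoetherian ((j ≫ p) ≫ f)
  haveI := LocallyOfFiniteType.isLocallyNoetherian (p ≫ f)
  haveI : Flat (j ≫ p) := sq.flat_p
  have hsh : FP.Main.Shift (j ≫ p) δQ δX s := by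
    have := sq.shift
    rw [hrd] at this
    rw [eX]
    exact this
  haveI : CompactSpace X := (quasiCompact_iff_compactSpace f).1 inferInstance
  have hfinα : (Function.support ⇑α).Finite :=
    (α.locallyFiniteSupport.finite_inter_support_of_isCompact isCompact_univ).subset fun x hx => ⟨trivial, hx⟩
  let A : AlgebraicCycle (pullback q i) ℤ :=
    { toFun := Cyc.pullFun (j ≫ p) δQ δX s ⇑α
      supportWithinDomain' := Set.subset_univ _
      supportLocallyFiniteWithinDomain' := fun z _ => ⟨Set.univ, Filter.univ_mem,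
        (hfinα.image sq.gen).subset fun w hw => by
          have h1 : Cyc.pullFun (j ≫ p) δQ δX s ⇑α w ≠ 0 := hw.2
          rw [FibLen.pullFun_apply] at h1
          split_ifs at h1 with h2
          · refine ⟨(j ≫ p) w, left_ne_zero_of_mul h1, (sq.eq_gen_of_dk w ?_).symm⟩
            rw [hrd]
            exact le_of_eq (by rw [eX] at h2; exact h2.symm)
          · exact absurd rfl h1⟩ }
  have dQ : Cyc.IsDimFun _ δQ := FieldDim.isDimFun_fdelta ((j ≫ p) ≫ f)
  have hA : Cyc.RatEquivZero δQ (r + s) A := by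
    have h1 : Cyc.RatEquiv δX r α 0 := by
      show Cyc.RatEquivZero δX r (α - 0)
      rwa [sub_zero]
    have h2 := FP.Rat.ratEquiv_pull (j ≫ p) dQ dX hsh h1 A 0 rfl (funext fun w => by
      simp [FibLen.pullFun_apply])
    have h3 : Cyc.RatEquivZero δQ (r + s) (A - 0) := h2
    rwa [sub_zero] at h3
  have hjc : Cyc.DeltaCompat j δQ δ := fun w => ⟨0, by
    rw [Nat.cast_zero]
    exact FieldDim.trdegAt_eq_zero_of_surjective j w (FieldDim.residueFieldMap_surjective j w), by
    rw [hjδ]; simp⟩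
  haveI : IsClosedImmersion j := MorphismProperty.pullback_fst q i hi
  have hc := PP.Main.ratEquivZero_map j dQ (ExtProd.isSetup_of_deltaCompat _ hδ).2.2 hjc hA
  -- the coefficients
  have hval : ∀ z, AlgebraicCycle.map j δQ δ A z = if q z = η ∧ δ z = δX (p z) + δY (q z) then α (p z) *
      ((Module.length (P.presheaf.stalk z) (↑(P.presheaf.stalk z) ⧸
        ((maximalIdeal (X.presheaf.stalk (p z))).map (p.stalkMap z).hom ⊔
          (maximalIdeal (Y.presheaf.stalk (q z))).map (q.stalkMap z).hom))).toNat : ℤ) else 0 := fun z => by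
    rw [Push.map_apply]
    by_cases hz : ∃ w, j w = z
    swap
    · rw [finsum_mem_eq_zero_of_forall_eq_zero (s := ⇑j ⁻¹' {z}) fun w hw => absurd ⟨w, hw⟩ hz, if_neg]
      rintro ⟨h1, -⟩
      obtain ⟨w, hw, -⟩ := Scheme.Pullback.exists_preimage_pullback (f := q) (g := i) z (genericPoint V) (h1.trans hgen.symm)
      exact hz ⟨w, hw⟩
    obtain ⟨w, rfl⟩ := hz
    rw [show ⇑j ⁻¹' {j w} = {w} from Set.ext fun w' =>
      ⟨fun h => j.isClosedEmbedding.injective h, fun h => congrArg j h⟩, finsum_mem_singleton]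
    have hco : (AlgebraicCycle.mapCoeff j δQ δ w : ℤ) = 1 := by
      simp only [AlgebraicCycle.mapCoeff]
      rw [if_pos (hjδ w), Residue.residueDegree_eq_one_of_surjective w (FieldDim.residueFieldMap_surjective j w)]
      rfl
    rw [hco, mul_one]
    show Cyc.pullFun (j ≫ p) δQ δX s ⇑α w = _
    have hqv : q (j w) = i (v w) := by rw [← Scheme.Hom.comp_apply, HQ.w, Scheme.Hom.comp_apply]
    rw [FibLen.pullFun_apply, hjδ, Scheme.Hom.comp_apply]
    by_cases hd : δ (j w) = δX (p (j w)) + s
    swap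
    · rw [if_neg hd, if_neg]
      rintro ⟨h1, h2⟩
      rw [h1, hη] at h2
      exact hd h2
    have hg : w = sq.gen ((j ≫ p) w) := sq.eq_gen_of_dk w (le_of_eq (by
      rw [hrd]
      show FieldDim.fdelta f (p (j w)) + s = δQ w
      rw [hjδ, hd, eX]))
    have hvw : v w = genericPoint V := by
      rw [hg]
      exact sq.q_gen _
    have hq1 : q (j w) = η := by rw [hqv, hvw, hgen]
    rw [if_pos hd, if_pos ⟨hq1, by rw [hd, hq1, hη]⟩]
    refine congrArg (fun t : ℕ∞ => α (p (j w)) * (t.toNat : ℤ)) ?_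
    exact lenComp (j.stalkMap w).hom (p.stalkMap (j w)).hom _ _ _
      (by rw [Scheme.Hom.stalkMap_comp]; rfl) (j.stalkMap_surjective w) (BCClosed.ker_stalkMap HQ w hvw)
  refine ⟨_, hc, fun z hz _ => Or.inr ?_, hval⟩
  rw [hval z, if_neg (fun h : _ ∧ _ => hz h.1)]



/-- Let X, Y be varieties over an algebraically closed field K (integral, separated, of finite type), α
an r-cycle on X and β an s-cycle on Y. If α or β is rationally equivalent to zero then so is the
exterior product α × β, an (r + s)-cycle on X ×_K Y (any cycle with the exterior-product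
coefficients). Dimension functions are transcendence degrees of residue fields over K. -/
theorem result (K : Type u) [Field K] [IsAlgClosed K] (X Y : Scheme.{u}) (f : X ⟶ Spec (CommRingCat.of K)) (g : Y ⟶ Spec (CommRingCat.of K)) [IsIntegral X] [IsIntegral Y] [IsSeparated f] [IsSeparated g] [LocallyOfFiniteType f] [LocallyOfFiniteType g] [QuasiCompact f] [QuasiCompact g] (δX : X → ℤ) (δY : Y → ℤ) (δ : ↥(pullback f g) → ℤ) (hX : Cyc.DeltaCompat f δX (fun _ => 0)) (hY : Cyc.DeltaCompat g δY (fun _ => 0)) (hXY : Cyc.DeltaCompat (pullback.fst f g ≫ f) δ (fun _ => 0)) (r s : ℤ) (α : AlgebraicCycle X ℤ) (β : AlgebraicCycle Y ℤ) (hα : α ∈ Cyc.Zk X δX r) (hβ : β ∈ Cyc.Zk Y δY s) (h0 : Cyc.RatEquivZero δX r α ∨ Cyc.RatEquivZero δY s β) (γ : AlgebraicCycle (pullback f g) ℤ) (hγ : ⇑γ = IntMult.extProd f g δX δY δ ⇑α ⇑β) : Cyc.RatEquivZero δ (r + s) γ := by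
  classical
  haveI := LocallyOfFiniteType.isLocallyNoetherian (pullback.fst f g ≫ f)
  have dP := (ExtProd.isSetup_of_deltaCompat _ hXY).2.2
  have hα' : ∀ x, α x ≠ 0 → δX x = r := fun x h => by_contra fun h' => h (hα x h')
  have hβ' : ∀ y, β y ≠ 0 → δY y = s := fun y h => by_contra fun h' => h (hβ y h')
  let T : AddSubgroup (AlgebraicCycle (pullback f g) ℤ) :=
    { carrier := {a | Cyc.RatEquivZero δ (r + s) a}
      zero_mem' := Ord.ratEquivZero_zero δ _
      add_mem' := Ord.ratEquivZero_add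
      neg_mem' := Ord.ratEquivZero_neg dP }
  rcases h0 with h0 | h0
  · haveI : CompactSpace Y := (quasiCompact_iff_compactSpace g).1 inferInstance
    have hfin : (Function.support ⇑β).Finite :=
      (β.locallyFiniteSupport.finite_inter_support_of_isCompact isCompact_univ).subset fun x hx => ⟨trivial, hx⟩
    let B := hfin.toFinset
    have hB : ∀ y, y ∈ B ↔ β y ≠ 0 := fun y => hfin.mem_toFinset
    choose c hc1 _ hc3 using fun η : B => side f g (pullback.fst f g) (pullback.snd f g)
      (IsPullback.of_hasPullback f g) hX hY hXY α h0 η.1 (hβ' _ ((hB _).1 η.2))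
    have hsum : γ = ∑ η : B, β η.1 • c η := Function.locallyFinsuppWithin.ext fun z => by
      rw [hγ, Function.locallyFinsuppWithin.coe_sum, Finset.sum_apply]
      simp only [Function.locallyFinsuppWithin.coe_zsmul, Pi.smul_apply, smul_eq_mul, hc3, IntMult.extProd]
      by_cases hd : δ z = δX (pullback.fst f g z) + δY (pullback.snd f g z)
      swap
      · rw [if_neg hd, Finset.sum_eq_zero fun η _ => by rw [if_neg (fun h : _ ∧ _ => hd h.2), mul_zero]]
      rw [if_pos hd]
      by_cases hy : pullback.snd f g z ∈ B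
      · rw [Finset.sum_eq_single (⟨_, hy⟩ : B) (fun η _ hne => by
          rw [if_neg (fun h : _ ∧ _ => hne (Subtype.ext h.1.symm)), mul_zero]) (fun h => absurd (Finset.mem_univ _) h),
          if_pos ⟨rfl, hd⟩]
        ring
      · rw [show β (pullback.snd f g z) = 0 from by_contra fun h => hy ((hB _).2 h), Finset.sum_eq_zero]
        · ring
        intro η _
        rw [if_neg, mul_zero]
        rintro ⟨h1, -⟩
        exact hy (h1 ▸ η.2)
    rw [hsum]
    exact T.sum_mem fun η _ => T.zsmul_mem (hc1 η) _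
  · haveI : CompactSpace X := (quasiCompact_iff_compactSpace f).1 inferInstance
    have hfin : (Function.support ⇑α).Finite :=
      (α.locallyFiniteSupport.finite_inter_support_of_isCompact isCompact_univ).subset fun x hx => ⟨trivial, hx⟩
    let B := hfin.toFinset
    have hB : ∀ x, x ∈ B ↔ α x ≠ 0 := fun x => hfin.mem_toFinset
    have hXY' : Cyc.DeltaCompat (pullback.snd f g ≫ g) δ (fun _ => 0) := pullback.condition (f := f) (g := g) ▸ hXY
    choose c hc1 _ hc3 using fun ξ : B => side g f (pullback.snd f g) (pullback.fst f g)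
      (IsPullback.of_hasPullback f g).flip hY hX hXY' β h0 ξ.1 (hα' _ ((hB _).1 ξ.2))
    have hsum : γ = ∑ ξ : B, α ξ.1 • c ξ := Function.locallyFinsuppWithin.ext fun z => by
      rw [hγ, Function.locallyFinsuppWithin.coe_sum, Finset.sum_apply]
      simp only [Function.locallyFinsuppWithin.coe_zsmul, Pi.smul_apply, smul_eq_mul, hc3, IntMult.extProd]
      by_cases hd : δ z = δX (pullback.fst f g z) + δY (pullback.snd f g z)
      swap
      · rw [if_neg hd, Finset.sum_eq_zero fun ξ _ => by
          rw [if_neg (fun h : _ ∧ _ => hd (h.2.trans (add_comm _ _))), mul_zero]]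
      rw [if_pos hd]
      by_cases hx : pullback.fst f g z ∈ B
      · rw [Finset.sum_eq_single (⟨_, hx⟩ : B) (fun ξ _ hne => by
          rw [if_neg (fun h : _ ∧ _ => hne (Subtype.ext h.1.symm)), mul_zero]) (fun h => absurd (Finset.mem_univ _) h),
          if_pos ⟨rfl, hd.trans (add_comm _ _)⟩, sup_comm]
        ring
      · rw [show α (pullback.fst f g z) = 0 from by_contra fun h => hx ((hB _).2 h), Finset.sum_eq_zero]
        · ring
        intro ξ _
        rw [if_neg, mul_zero]
        rintro ⟨h1, -⟩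
        exact hx (h1 ▸ ξ.2)
    rw [hsum]
    have : ∀ ξ : B, Cyc.RatEquivZero δ (r + s) (c ξ) := fun ξ => add_comm s r ▸ hc1 ξ
    exact T.sum_mem fun ξ _ => T.zsmul_mem (this ξ) _

end Groth.Agent.S1917
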