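import Groth.Statements.S19172
import Groth.Agent.Lib.ProCompl.FICompl

set_option autoImplicit false
universe u v w
open ProCompl

namespace Groth.Agent.S19172

open W4c61motalbduality in
/-- Let i : A → B and p : B → C be continuous homomorphisms of topological abelian groups with p
surjective and open and with the kernel of p equal to the image of i. Then the induced sequence of
completions with respect to open subgroups of finite index, A^∧ → B^∧ → C^∧ → 0, is exact: the map
B^∧ → C^∧ is surjective and its kernel is the image of A^∧. The completion is the group of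
compatible families of residues modulo all open subgroups of finite index. (The published statement
takes i injective, as the first map of an exact sequence 0 → A → B → C → 0 of topological abelian
groups; here it is only assumed that the image of i is the kernel of p, which is all the proof
uses.) -/
theorem result
    {A : Type u} {B : Type v} {C : Type w}
    [AddCommGroup A] [TopologicalSpace A] [IsTopologicalAddGroup A]
    [AddCommGroup B] [TopologicalSpace B] [IsTopologicalAddGroup B]
    [AddCommGroup C] [TopologicalSpace C] [IsTopologicalAddGroup C]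
    (i : A →+ B) (hi : Continuous i) (p : B →+ C) (hp : Continuous p)
    (hpo : IsOpenMap p) (hps : Function.Surjective p) (hex : p.ker = i.range) :
    Function.Surjective (FICompl.map p hp) ∧ (FICompl.map p hp).ker = (FICompl.map i hi).range := by
  open Groth.Agent.Lib.ProCompl.FICompl in
  refine ⟨fun y ↦ ?_, ?_⟩
  · obtain ⟨x, hx⟩ := mem_range_map p hp y fun V ↦ by
      obtain ⟨c, hc⟩ := QuotientAddGroup.mk_surjective (y.1 V)
      obtain ⟨b, rfl⟩ := hps c
      exact ⟨b, hc⟩
    exact ⟨x, hx⟩
  · refine le_antisymm (fun y hy ↦ mem_range_map i hi y fun V ↦ ?_) ?_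
    · obtain ⟨b, hb⟩ := QuotientAddGroup.mk_surjective (y.1 V)
      let W : OpenFI C :=
        { toAddSubgroup := V.toAddSubgroup.map p
          isOpen' := hpo _ V.isOpen'
          finiteIndex' := ⟨fun h0 ↦ V.finiteIndex'.index_ne_zero (Nat.eq_zero_of_zero_dvd
            (h0 ▸ AddSubgroup.index_map_dvd _ hps))⟩ }
      have hcompat := y.2 V (W.comap p hp) (AddSubgroup.le_comap_map p _)
      have hW : (FICompl.map p hp y).1 W = 0 := by
        rw [AddMonoidHom.mem_ker.mp hy]
        rfl
      rw [map_apply, ← hcompat, ← hb] at hW
      obtain ⟨v, hv, hpv⟩ := (QuotientAddGroup.eq_zero_iff (p b)).mp hW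
      have hker : b - v ∈ i.range := by
        rw [← hex, AddMonoidHom.mem_ker, map_sub, hpv, sub_self]
      obtain ⟨a, ha⟩ := hker
      refine ⟨a, ?_⟩
      rw [← hb, QuotientAddGroup.eq, ha]
      simpa [neg_sub] using hv
    · rintro _ ⟨x, rfl⟩
      refine AddMonoidHom.mem_ker.mpr (Subtype.ext (funext fun W ↦ ?_))
      obtain ⟨a, ha⟩ := QuotientAddGroup.mk_surjective (x.1 ((W.comap p hp).comap i hi))
      rw [map_apply, map_apply, ← ha]
      have hpi : p (i a) = 0 := by
        have : i a ∈ p.ker := hex ▸ ⟨a, rfl⟩
        exact this
      show (QuotientAddGroup.mk (p (i a)) : C ⧸ W.toAddSubgroup) = 0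
      rw [hpi]
      rfl

end Groth.Agent.S19172
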