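import Groth.Statements.S19173
import Groth.Agent.Lib.ProCompl.FICompl
import Groth.Agent.S19171
import Groth.Agent.Lib.ProCompl.Characters

set_option autoImplicit false
universe u v
open ProCompl

namespace Groth.Agent.S19173

open W4c61motalbduality Topology in
/-- Let B be a Hausdorff, locally compact, totally disconnected topological abelian group generated as a
group by a compact subset, and let i : A → B be an injective continuous homomorphism inducing the
topology of A from that of B (a strict injection) with closed image. Then the map induced by i on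
completions with respect to open subgroups of finite index is injective; together with right
exactness for open surjections this makes 0 → A^∧ → B^∧ → C^∧ → 0 exact for a topological exact
sequence 0 → A → B → C → 0 with such B, strict closed i and open p. -/
theorem result
    {A : Type u} {B : Type v} [AddCommGroup A] [TopologicalSpace A] [IsTopologicalAddGroup A]
    [AddCommGroup B] [TopologicalSpace B] [IsTopologicalAddGroup B]
    [T2Space B] [LocallyCompactSpace B] [TotallyDisconnectedSpace B]
    (hcg : ∃ K : Set B, IsCompact K ∧ AddSubgroup.closure K = ⊤)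
    (i : A →+ B) (hi : Continuous i) (hinj : Function.Injective i) (hind : IsInducing i)
    (hcl : IsClosed (Set.range i)) :
    Function.Injective (FICompl.map i hi) := by
  open Groth.Agent.Lib.ProCompl.FICompl Groth.Agent.Lib.ProCompl.Characters in
  rw [injective_iff_map_eq_zero]
  intro x hx
  refine Subtype.ext (funext fun W ↦ ?_)
  have := W.finiteIndex'
  have hfin : Finite (A ⧸ W.toAddSubgroup) := AddSubgroup.finite_quotient_of_finiteIndex
  have hext : ∀ q : A ⧸ W.toAddSubgroup, ∃ V : OpenFI B,
      q ≠ 0 → ∀ a : A, QuotientAddGroup.mk a = q → i a ∉ V.toAddSubgroup := fun q ↦ by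
    by_cases hq : q = 0
    · exact ⟨top B, fun h ↦ absurd hq h⟩
    obtain ⟨χ, hχ⟩ := exists_apply_ne_zero hq
    have hopen : IsOpen ((χ.comp (QuotientAddGroup.mk' W.toAddSubgroup)).ker : Set A) :=
      AddSubgroup.isOpen_mono (fun a ha ↦ by
        rw [AddMonoidHom.mem_ker, AddMonoidHom.comp_apply,
          show QuotientAddGroup.mk' W.toAddSubgroup a = 0 from
            (QuotientAddGroup.eq_zero_iff a).mpr ha, map_zero]) W.isOpen'
    obtain ⟨ψ, hψo, hψ⟩ := Groth.Agent.S19171.result hcg i hi hinj hind hcl _ hopen
    refine ⟨⟨ψ.ker, hψo, finiteIndex_ker_of_compactlyGenerated hcg ψ hψo⟩, fun _ a ha hV ↦ hχ ?_⟩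
    rw [← ha]
    exact (DFunLike.congr_fun hψ a).symm.trans hV
  choose V hV using hext
  obtain ⟨V₀, hV₀⟩ := exists_lower (Set.finite_range V).toFinset
  have hle : (V₀.comap i hi).toAddSubgroup ≤ W.toAddSubgroup := fun a ha ↦ by
    by_contra haW
    exact hV (QuotientAddGroup.mk a) (fun h ↦ haW ((QuotientAddGroup.eq_zero_iff a).mp h)) a rfl
      (hV₀ _ ((Set.finite_range V).mem_toFinset.mpr ⟨_, rfl⟩) ha)
  obtain ⟨a, ha⟩ := QuotientAddGroup.mk_surjective (x.1 (V₀.comap i hi))
  have h0 : (FICompl.map i hi x).1 V₀ = 0 := by rw [hx]; rfl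
  rw [map_apply, ← ha] at h0
  have ha0 : a ∈ (V₀.comap i hi).toAddSubgroup := (QuotientAddGroup.eq_zero_iff (i a)).mp h0
  rw [← x.2 (V₀.comap i hi) W hle, ← ha]
  exact (QuotientAddGroup.eq_zero_iff a).mpr (hle ha0)

end Groth.Agent.S19173
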