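import Groth.Statements.S19176
import Mathlib

set_option autoImplicit false
universe u
open PlaneCurve

namespace Groth.Agent.S19176

/-- The monomial quotient `k[x,y]/(x^a, y^b)` has dimension `a*b`. -/
theorem finrank_monomialQuot (k : Type u) [Field k] (a b : ℕ) :
    Module.finrank k (MvPolynomial (Fin 2) k ⧸ Ideal.span
      ({MvPolynomial.X 0 ^ a, MvPolynomial.X 1 ^ b} : Set (MvPolynomial (Fin 2) k))) = a * b := by
  classical
  set I := Ideal.span ({MvPolynomial.X 0 ^ a, MvPolynomial.X 1 ^ b} : Set (MvPolynomial (Fin 2) k))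
  let e : Fin a × Fin b → (Fin 2 →₀ ℕ) := fun x =>
    Finsupp.single 0 (x.1 : ℕ) + Finsupp.single 1 (x.2 : ℕ)
  have he0 : ∀ x, e x 0 = x.1 := fun x => by simp [e]
  have he1 : ∀ x, e x 1 = x.2 := fun x => by simp [e]
  let φ : MvPolynomial (Fin 2) k →ₗ[k] (Fin a × Fin b → k) :=
    LinearMap.pi fun x => MvPolynomial.lcoeff k (e x)
  have hinj : Function.Injective e := fun x y h =>
    Prod.ext (Fin.ext (by rw [← he0, h, he0])) (Fin.ext (by rw [← he1, h, he1]))
  have hsurj : Function.Surjective φ := by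
    intro v
    refine ⟨∑ x, MvPolynomial.monomial (e x) (v x), funext fun y => ?_⟩
    simp only [φ, LinearMap.pi_apply, MvPolynomial.lcoeff_apply, MvPolynomial.coeff_sum,
      MvPolynomial.coeff_monomial, hinj.eq_iff]
    simp
  have hI : I = Ideal.span ((fun s => MvPolynomial.monomial s (1 : k)) ''
      ({Finsupp.single 0 a, Finsupp.single 1 b} : Set (Fin 2 →₀ ℕ))) := by
    simp only [I, Set.image_insert_eq, Set.image_singleton, MvPolynomial.X_pow_eq_monomial]
  have hker : LinearMap.ker φ = I.restrictScalars k := by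
    ext f
    rw [Submodule.restrictScalars_mem, hI, MvPolynomial.mem_ideal_span_monomial_image,
      LinearMap.mem_ker]
    constructor
    · intro hf xi hxi
      by_contra h
      simp only [Set.mem_insert_iff, Set.mem_singleton_iff, exists_eq_or_imp, exists_eq_left,
        Finsupp.single_le_iff, not_or, not_le] at h
      refine MvPolynomial.mem_support_iff.1 hxi ?_
      have hxe : e (⟨xi 0, h.1⟩, ⟨xi 1, h.2⟩) = xi := by
        ext i
        fin_cases i
        · simpa using he0 (⟨xi 0, h.1⟩, ⟨xi 1, h.2⟩)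
        · simpa using he1 (⟨xi 0, h.1⟩, ⟨xi 1, h.2⟩)
      have := congrFun hf (⟨xi 0, h.1⟩, ⟨xi 1, h.2⟩)
      simpa [φ, hxe] using this
    · intro hf
      funext x
      simp only [φ, LinearMap.pi_apply, MvPolynomial.lcoeff_apply, Pi.zero_apply]
      by_contra hne
      obtain ⟨si, hsi, hle⟩ := hf (e x) (MvPolynomial.mem_support_iff.2 hne)
      have h1 := x.1.isLt
      have h2 := x.2.isLt
      rcases hsi with rfl | rfl
      · rw [Finsupp.single_le_iff, he0] at hle; omega
      · rw [Finsupp.single_le_iff, he1] at hle; omega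
  have eq1 := (φ.quotKerEquivOfSurjective hsurj).finrank_eq
  rw [Module.finrank_fintype_fun_eq_card, Fintype.card_prod, Fintype.card_fin, Fintype.card_fin] at eq1
  rw [← eq1, ← (Submodule.Quotient.restrictScalarsEquiv k I).finrank_eq]
  exact LinearEquiv.finrank_eq (Submodule.quotEquivOfEq _ _ hker.symm)

open MvPolynomial in
/-- Let k be a field of characteristic p (p = 0 allowed) and F = y² − x³ in k[x, y] (x the variable of
index 0, y of index 1). The singular subscheme of the plane curve F = 0, cut out by F and its two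
partial derivatives, is finite over k of degree 4 when p = 2, of degree 3 when p = 3, and of degree
2 otherwise: the k-dimension of k[x, y]/(F, ∂F/∂x, ∂F/∂y) is that number. (The source phrases this
through the complete local ring of a cusp; the row is the computation for the standard cusp y² =
x³.) -/
theorem result (k : Type u) [Field k] (p : ℕ) [CharP k p] :
    Module.finrank k (MvPolynomial (Fin 2) k ⧸ Ideal.span
      ({X 1 ^ 2 - X 0 ^ 3, pderiv 0 (X 1 ^ 2 - X 0 ^ 3), pderiv 1 (X 1 ^ 2 - X 0 ^ 3)} :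
        Set (MvPolynomial (Fin 2) k))) = (if p = 2 then 4 else if p = 3 then 3 else 2) := by
  classical
  have hd0 : pderiv 0 (X 1 ^ 2 - X 0 ^ 3 : MvPolynomial (Fin 2) k) = C (-3) * X 0 ^ 2 := by
    simp [map_ofNat]
  have hd1 : pderiv 1 (X 1 ^ 2 - X 0 ^ 3 : MvPolynomial (Fin 2) k) = C 2 * X 1 := by
    simp [map_ofNat]
  rw [hd0, hd1]
  have h32 : p = 2 → (-3 : k) = 1 := by
    intro hp
    subst hp
    have h2 : (2 : k) = 0 := CharP.cast_eq_zero k 2
    linear_combination (-2 : k) * h2
  have hcast : ∀ q : ℕ, q.Prime → p ≠ q → (q : k) ≠ 0 := by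
    intro q hq hne h
    rw [CharP.cast_eq_zero_iff k p q] at h
    rcases (Nat.dvd_prime hq).1 h with h1 | h1
    · exact CharP.char_ne_one k p h1
    · exact hne h1
  by_cases hp2 : p = 2
  · have h2 : (2 : k) = 0 := by subst hp2; exact CharP.cast_eq_zero k 2
    rw [if_pos hp2, h32 hp2, h2, C_1, one_mul, C_0, zero_mul]
    have : Ideal.span ({X 1 ^ 2 - X 0 ^ 3, X 0 ^ 2, 0} : Set (MvPolynomial (Fin 2) k)) =
        Ideal.span {X 0 ^ 2, X 1 ^ 2} := by
      refine le_antisymm (Ideal.span_le.2 ?_) (Ideal.span_le.2 ?_)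
      · rintro x (rfl | rfl | rfl)
        · exact Ideal.mem_span_pair.2 ⟨-X 0, 1, by ring⟩
        · exact Ideal.subset_span (by simp)
        · exact Ideal.zero_mem _
      · rintro x (rfl | rfl)
        · exact Ideal.subset_span (by simp)
        · set S : Ideal (MvPolynomial (Fin 2) k) := Ideal.span {X 1 ^ 2 - X 0 ^ 3, X 0 ^ 2, 0}
          have key : (X 1 ^ 2 - X 0 ^ 3) + X 0 * X 0 ^ 2 ∈ S :=
            S.add_mem (Ideal.subset_span (by simp)) (S.mul_mem_left _ (Ideal.subset_span (by simp)))
          ring_nf at key ⊢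
          exact key
    rw [this, finrank_monomialQuot]
  have hu2 : IsUnit (C (2 : k) : MvPolynomial (Fin 2) k) :=
    (isUnit_iff_ne_zero.2 (by exact_mod_cast hcast 2 Nat.prime_two hp2)).map C
  rw [if_neg hp2]
  by_cases hp3 : p = 3
  · have h3 : (3 : k) = 0 := by subst hp3; exact CharP.cast_eq_zero k 3
    rw [if_pos hp3, h3, neg_zero, C_0, zero_mul]
    have : Ideal.span ({X 1 ^ 2 - X 0 ^ 3, 0, C 2 * X 1} : Set (MvPolynomial (Fin 2) k)) =
        Ideal.span {X 0 ^ 3, X 1 ^ 1} := by
      rw [pow_one]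
      refine le_antisymm (Ideal.span_le.2 ?_) (Ideal.span_le.2 ?_)
      · rintro x (rfl | rfl | rfl)
        · exact Ideal.mem_span_pair.2 ⟨-1, X 1, by ring⟩
        · exact Ideal.zero_mem _
        · exact Ideal.mul_mem_left _ _ (Ideal.subset_span (by simp))
      · set S : Ideal (MvPolynomial (Fin 2) k) :=
          Ideal.span {X 1 ^ 2 - X 0 ^ 3, 0, C 2 * X 1}
        have hy : X 1 ∈ S := (S.unit_mul_mem_iff_mem hu2).1 (Ideal.subset_span (by simp))
        rintro x (rfl | rfl)
        · rw [show (X 0 ^ 3 : MvPolynomial (Fin 2) k) = X 1 * X 1 - (X 1 ^ 2 - X 0 ^ 3) by ring]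
          exact S.sub_mem (S.mul_mem_left _ hy) (Ideal.subset_span (by simp))
        · exact hy
    rw [this, finrank_monomialQuot]
  · have hu3 : IsUnit (C (-3 : k) : MvPolynomial (Fin 2) k) :=
      (isUnit_iff_ne_zero.2 (neg_ne_zero.2 (by exact_mod_cast hcast 3 Nat.prime_three hp3))).map C
    rw [if_neg hp3]
    have : Ideal.span ({X 1 ^ 2 - X 0 ^ 3, C (-3) * X 0 ^ 2, C 2 * X 1} : Set (MvPolynomial (Fin 2) k)) =
        Ideal.span {X 0 ^ 2, X 1 ^ 1} := by
      rw [pow_one]
      refine le_antisymm (Ideal.span_le.2 ?_) (Ideal.span_le.2 ?_)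
      · rintro x (rfl | rfl | rfl)
        · exact Ideal.mem_span_pair.2 ⟨-X 0, X 1, by ring⟩
        · exact Ideal.mul_mem_left _ _ (Ideal.subset_span (by simp))
        · exact Ideal.mul_mem_left _ _ (Ideal.subset_span (by simp))
      · set S : Ideal (MvPolynomial (Fin 2) k) :=
          Ideal.span {X 1 ^ 2 - X 0 ^ 3, C (-3) * X 0 ^ 2, C 2 * X 1}
        rintro x (rfl | rfl)
        · exact (S.unit_mul_mem_iff_mem hu3).1 (Ideal.subset_span (by simp))
        · exact (S.unit_mul_mem_iff_mem hu2).1 (Ideal.subset_span (by simp))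
    rw [this, finrank_monomialQuot]

end Groth.Agent.S19176
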