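import Groth.Statements.S19177
import Mathlib.RingTheory.Spectrum.Prime.FreeLocus
import Mathlib.RingTheory.Support
import Mathlib.RingTheory.Finiteness.Nakayama

set_option autoImplicit false
universe u
open CAlg

namespace Groth.Agent.S19177

/-- Let S → R be a homomorphism of commutative rings making R a finitely generated projective S-module
of rank 2 at every prime of S (the affine form of a finite locally free morphism of degree 2). Then
the cokernel of the (injective) structure map S → R, the S-module R/S, is a projective S-module of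
rank 1 at every prime of S (locally free of rank 1). -/
theorem result
    (S R : Type u) [CommRing S] [CommRing R] [Algebra S R] [Module.Finite S R] [Module.Projective S R]
    (h2 : ∀ p : PrimeSpectrum S, Module.rankAtStalk (R := S) R p = 2) :
    Module.Projective S (R ⧸ LinearMap.range (Algebra.linearMap S R)) ∧
      ∀ p : PrimeSpectrum S,
        Module.rankAtStalk (R := S) (R ⧸ LinearMap.range (Algebra.linearMap S R)) p = 1 := by
  classical
  obtain ⟨s, hs⟩ := Module.projective_def'.mp (inferInstance : Module.Projective S R)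
  let I : Ideal S := LinearMap.range (LinearMap.applyₗ (R := S) (M₂ := S) (1 : R))
  have hI : I = ⊤ := by
    by_contra hne
    obtain ⟨m, hm, hIm⟩ := Ideal.exists_le_maximal I hne
    have h1 : (1 : R) ∈ I • (⊤ : Submodule S R) := by
      have h := DFunLike.congr_fun hs (1 : R)
      rw [LinearMap.comp_apply, Finsupp.linearCombination_apply, LinearMap.id_apply] at h
      rw [← h]
      exact Submodule.sum_mem _ fun r _ =>
        Submodule.smul_mem_smul ⟨(Finsupp.lapply r).comp s, rfl⟩ trivial
    have htop : (⊤ : Submodule S R) ≤ m • ⊤ := by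
      rintro x -
      rw [Ideal.smul_top_eq_map, Submodule.restrictScalars_mem] at h1 ⊢
      rw [← one_mul x]
      exact Ideal.mul_mem_right _ _ (Ideal.map_mono hIm h1)
    obtain ⟨r, hr, hr0⟩ := Submodule.exists_sub_one_mem_and_smul_eq_zero_of_fg_of_le_smul m ⊤
      Module.Finite.fg_top htop
    have hsup : (⟨m, hm.isPrime⟩ : PrimeSpectrum S) ∈ Module.support S R :=
      (Module.rankAtStalk_pos_iff_mem_support _).mp (by rw [h2]; norm_num)
    rw [Module.mem_support_iff'] at hsup
    obtain ⟨x, hx⟩ := hsup
    refine hx r (fun hrm => hm.ne_top ((Ideal.eq_top_iff_one m).mpr ?_)) (hr0 x trivial)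
    simpa using sub_mem hrm hr
  obtain ⟨l, hl⟩ := (hI ▸ Submodule.mem_top : (1 : S) ∈ I)
  have hl' : ∀ x : S, l (algebraMap S R x) = x := fun x => by
    rw [Algebra.algebraMap_eq_smul_one, map_smul, show l 1 = 1 from hl, smul_eq_mul, mul_one]
  let M := LinearMap.range (Algebra.linearMap S R)
  let π : R →ₗ[S] R := LinearMap.id - (Algebra.linearMap S R).comp l
  have hπM : M ≤ LinearMap.ker π := by
    rintro _ ⟨x, rfl⟩
    simp [π, hl']
  let t : (R ⧸ M) →ₗ[S] R := M.liftQ π hπM
  have ht : M.mkQ.comp t = LinearMap.id := by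
    refine Submodule.linearMap_qext _ (LinearMap.ext fun x => ?_)
    simp only [LinearMap.comp_apply, t, Submodule.mkQ_apply, Submodule.liftQ_apply, LinearMap.id_apply]
    refine (Submodule.Quotient.eq _).mpr ?_
    exact ⟨-(l x), by simp [π]⟩
  have : Module.Projective S (R ⧸ M) := Module.Projective.of_split t M.mkQ ht
  let e : R ≃ₗ[S] S × (R ⧸ M) :=
    LinearEquiv.ofLinear (l.prod M.mkQ) ((Algebra.linearMap S R).coprod t)
      (LinearMap.ext fun ⟨a, b⟩ => by
        obtain ⟨x, rfl⟩ := Submodule.Quotient.mk_surjective _ b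
        have h0 : ∀ y, (Submodule.Quotient.mk (algebraMap S R y) : R ⧸ M) = 0 := fun y =>
          (Submodule.Quotient.mk_eq_zero _).mpr ⟨y, rfl⟩
        refine Prod.ext ?_ ?_ <;> simp [t, π, hl', h0])
      (LinearMap.ext fun x => by simp [t, π])
  refine ⟨this, fun p => ?_⟩
  haveI : Nontrivial S := p.nontrivial
  have h := h2 p
  rw [congrFun (Module.rankAtStalk_eq_of_equiv e) p, Module.rankAtStalk_prod, Pi.add_apply,
    Module.rankAtStalk_self] at h
  simp only [Pi.one_apply] at h
  change Module.rankAtStalk (R := S) (R ⧸ M) p = 1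
  omega

end Groth.Agent.S19177
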