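import Groth.Statements.S19178
import Mathlib.AlgebraicGeometry.EllipticCurve.Affine.Basic
import Mathlib.RingTheory.MvPolynomial.Basic
import Mathlib.RingTheory.MvPolynomial.Homogeneous
import Mathlib.Algebra.MvPolynomial.NoZeroDivisors

set_option autoImplicit false
universe u
open Curves

namespace Groth.Agent.S19178

/-- For every field k and every choice of coefficients a₁, a₂, a₃, a₄, a₆ in k, the homogeneous
Weierstrass cubic Y²Z + a₁XYZ + a₃YZ² − (X³ + a₂X²Z + a₄XZ² + a₆Z³) is an irreducible polynomial in
k[X, Y, Z]. Applied to all fields, this says every fibre of the Weierstrass family over the affine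
space of coefficients is geometrically integral. -/
theorem result (k : Type u) [Field k]
    (W : WeierstrassCurve k) :
    Irreducible (WeierstrassCurve.Projective.polynomial W) := by
  open Polynomial in
  set φ : MvPolynomial (Fin 3) k →+* k[X][X] :=
    MvPolynomial.eval₂Hom ((Polynomial.C).comp Polynomial.C) ![Polynomial.C Polynomial.X, Polynomial.X, 1]
  set ev : MvPolynomial (Fin 3) k →ₐ[k] Polynomial k := MvPolynomial.aeval ![Polynomial.X, 0, 1]
  set F := WeierstrassCurve.Projective.polynomial W
  have hφ : φ F = WeierstrassCurve.Affine.polynomial W.toAffine := by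
    simp [φ, F, WeierstrassCurve.Projective.polynomial, WeierstrassCurve.Affine.polynomial]
    ring
  have hev : (ev F).natDegree = 3 := by
    have : ev F = -(Polynomial.X ^ 3 + Polynomial.C W.a₂ * Polynomial.X ^ 2 +
        Polynomial.C W.a₄ * Polynomial.X + Polynomial.C W.a₆) := by
      simp [ev, F, WeierstrassCurve.Projective.polynomial]
    rw [this, Polynomial.natDegree_neg]
    compute_degree!
  have hdegF : F.totalDegree ≤ 3 := by
    refine MvPolynomial.IsHomogeneous.totalDegree_le ?_
    simp only [F, WeierstrassCurve.Projective.polynomial]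
    refine .sub (.add (.add ?_ ?_) ?_) (.add (.add (.add ?_ ?_) ?_) ?_)
    · exact ((MvPolynomial.isHomogeneous_X k 1).pow 2).mul (MvPolynomial.isHomogeneous_X k 2)
    · exact (((MvPolynomial.isHomogeneous_C _ _).mul (MvPolynomial.isHomogeneous_X k 0)).mul
        (MvPolynomial.isHomogeneous_X k 1)).mul (MvPolynomial.isHomogeneous_X k 2)
    · exact ((MvPolynomial.isHomogeneous_C _ _).mul (MvPolynomial.isHomogeneous_X k 1)).mul
        ((MvPolynomial.isHomogeneous_X k 2).pow 2)
    · exact (MvPolynomial.isHomogeneous_X k 0).pow 3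
    · exact ((MvPolynomial.isHomogeneous_C _ _).mul ((MvPolynomial.isHomogeneous_X k 0).pow 2)).mul
        (MvPolynomial.isHomogeneous_X k 2)
    · exact ((MvPolynomial.isHomogeneous_C _ _).mul (MvPolynomial.isHomogeneous_X k 0)).mul
        ((MvPolynomial.isHomogeneous_X k 2).pow 2)
    · exact (MvPolynomial.isHomogeneous_C _ _).mul ((MvPolynomial.isHomogeneous_X k 2).pow 3)
  have hev_le : ∀ Q : MvPolynomial (Fin 3) k, (ev Q).natDegree ≤ Q.totalDegree := fun Q => by
    rw [show ev Q = MvPolynomial.aeval ![Polynomial.X, 0, 1] Q from rfl, MvPolynomial.aeval_def,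
      MvPolynomial.eval₂_eq]
    refine Polynomial.natDegree_sum_le_of_forall_le _ _ fun d hd => ?_
    refine (Polynomial.natDegree_C_mul_le _ _).trans ((Polynomial.natDegree_prod_le _ _).trans
      (le_trans ?_ (MvPolynomial.le_totalDegree hd)))
    refine Finset.sum_le_sum fun i _ => Polynomial.natDegree_pow_le.trans ?_
    refine Nat.mul_le_mul_left _ ?_ |>.trans (Nat.mul_one _).le
    fin_cases i <;> simp
  have hF0 : F ≠ 0 := fun h => by simp [h] at hev
  have main : ∀ P Q : MvPolynomial (Fin 3) k, F = P * Q → IsUnit (φ P) → IsUnit P := by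
    intro P Q hPQ hu
    obtain ⟨c, hc, hc'⟩ : ∃ c : k, c ≠ 0 ∧ φ P = Polynomial.C (Polynomial.C c) := by
      obtain ⟨a, ha, ha'⟩ := Polynomial.isUnit_iff.mp hu
      obtain ⟨c, hc, hc'⟩ := Polynomial.isUnit_iff.mp ha
      exact ⟨c, hc.ne_zero, by rw [← ha', ← hc']⟩
    have hevP : ev P = Polynomial.C c := by
      have : (ev : MvPolynomial (Fin 3) k →+* Polynomial k) = (Polynomial.evalRingHom 0).comp φ := by
        refine MvPolynomial.ringHom_ext (fun r => ?_) fun i => ?_
        · simp [ev, φ]
        · fin_cases i <;> simp [ev, φ]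
      have := congr($this P)
      simpa [hc'] using this
    have hP0 : P ≠ 0 := fun h => by simp [h] at hPQ; exact hF0 hPQ
    have hQ0 : Q ≠ 0 := fun h => by simp [h] at hPQ; exact hF0 hPQ
    have hQ3 : 3 ≤ Q.totalDegree := by
      refine le_trans ?_ (hev_le Q)
      have h3 := hev
      rw [hPQ, map_mul, hevP] at h3
      exact h3.ge.trans (Polynomial.natDegree_C_mul_le _ _)
    have hmul : (P * Q).totalDegree = P.totalDegree + Q.totalDegree :=
      MvPolynomial.totalDegree_mul_of_isDomain hP0 hQ0
    rw [← hPQ] at hmul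
    have hP : P.totalDegree = 0 := by omega
    rw [MvPolynomial.totalDegree_eq_zero_iff_eq_C] at hP
    rw [hP] at hP0 ⊢
    exact (IsUnit.mk0 _ fun h => hP0 (by rw [h, map_zero])).map MvPolynomial.C
  refine ⟨fun hu => ?_, fun P Q hPQ => ?_⟩
  · have := hu.map φ
    rw [hφ] at this
    exact WeierstrassCurve.Affine.irreducible_polynomial.not_isUnit this
  · have h := congr_arg φ hPQ
    rw [hφ, map_mul] at h
    rcases WeierstrassCurve.Affine.irreducible_polynomial.isUnit_or_isUnit h with h' | h'
    · exact Or.inl (main P Q hPQ h')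
    · exact Or.inr (main Q P (hPQ.trans (mul_comm P Q)) h')

end Groth.Agent.S19178
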