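import Groth.Statements.S19179
import Groth.Agent.H97.JetDeg

set_option autoImplicit false
universe u
open CategoryTheory CategoryTheory.Limits AlgebraicGeometry
open PrinPart

namespace Groth.Agent.S19179

/-- Degree of the jet module: this is the computation carried out in the proof. Let k be a field and X a
smooth proper integral scheme of dimension 1 over k whose space of global functions is
one-dimensional, of genus g (the k-dimension of H¹(X, O_X)); let L be an invertible O_X-module of
degree d and m ≥ 0. The module of principal parts of order m of L relative to X → Spec k
(pushforward to the first factor of the pullback of L to the m-th infinitesimal neighbourhood of the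
diagonal) is locally free of rank m + 1, and its degree, computed as for a locally free module of
rank m + 1, equals (m + 1) d + (2g − 2) · m (m + 1)/2. (The source uses this to count the inflection
points of a non-degenerate map to projective (m+1)−1-space given by m + 1 sections of L: when
finite, the inflection subscheme has this degree.) -/
theorem result (k : Type u) [Field k] (X : Scheme.{u})
    [X.Over (Spec (CommRingCat.of k))] [IsIntegral X]
    [IsProper (X ↘ (Spec (CommRingCat.of k)))] [Smooth (X ↘ (Spec (CommRingCat.of k)))]
    (hdim : topologicalKrullDim X = 1)
    (h0 : Module.finrank k (Coh.HH X (Coh.structureModule X) 0) = 1)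
    (L : X.Modules) (hL : PicF.IsInvertible L) (m : ℕ) :
    Curv2.deg k X (PrinPart.PMod (X ↘ (Spec (CommRingCat.of k))) m L) (m + 1) =
      (m + 1 : ℤ) * Curv2.deg k X L 1 +
        (2 * (Curv2.genus k X : ℤ) - 2) * ((m * (m + 1) / 2 : ℕ) : ℤ) := by
  exact H97.JetDeg.main k X hdim h0 L hL m

end Groth.Agent.S19179
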