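import Groth.Statements.S19180
import Groth.Agent.S0844
import Groth.Agent.Lib.Curves.GlobalSections
import Groth.Agent.Lib.Modules.Free

set_option autoImplicit false
universe u
open Coherent

namespace Groth.Agent.S19180

open CategoryTheory AlgebraicGeometry in
/-- Let R be a local ring and m ≥ 1, and consider the projective line P¹_R with its structure sheaf O
and twisting sheaf O(m). For every O-module F and every short exact sequence 0 → O(m) → F → O → 0 of
O-modules, the surjection F → O admits a section; consequently F is isomorphic to O(m) ⊕ O. -/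
theorem result (R : Type u) [CommRing R] [IsLocalRing R]
    (m : ℕ) (hm : 1 ≤ m) (F : (CohB1.ProjSpace 1 R).Modules)
    (i : Twist.twistProjSpace 1 R (m : ℤ) ⟶ F) (p : F ⟶ Coh.structureModule (CohB1.ProjSpace 1 R))
    (w : i ≫ p = 0) (hex : (ShortComplex.mk i p w).ShortExact) :
    ∃ s : Coh.structureModule (CohB1.ProjSpace 1 R) ⟶ F, s ≫ p = 𝟙 _ := by
  open Groth.Agent.Lib CategoryTheory.Limits in
  haveI : Subsingleton (Coh.HH (CohB1.ProjSpace 1 R) (Twist.twistProjSpace 1 R (m : ℤ)) 1) :=
    Groth.Agent.S0844.result R 1 (m : ℤ) 1 (fun h => by omega) (fun h => by omega)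
  obtain ⟨z, hz⟩ := (Curves.LES.exactK₃ (A := R) hex 0 1 rfl
    ((Curves.GlobalSections.h0Equiv (Coh.structureModule (CohB1.ProjSpace 1 R))).symm (1 : Γ(CohB1.ProjSpace 1 R, ⊤)))).1
      (Subsingleton.elim _ _)
  refine ⟨Modules.Free.unitHom F (Curves.GlobalSections.h0Equiv F z), Modules.Free.unitHom_ext ?_⟩
  show p.app ⊤ ((Modules.Free.unitHom F (Curves.GlobalSections.h0Equiv F z)).app ⊤ (1 : Γ(CohB1.ProjSpace 1 R, ⊤))) = _
  erw [Modules.Free.unitHom_app_one]
  have h := Sheaf.H.equiv₀_naturality (f := Curves.LES.toAbMap p) (z)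
    (hT := isTerminalTop (α := TopologicalSpace.Opens (CohB1.ProjSpace 1 R)))
  have hz' := congrArg (Curves.GlobalSections.h0Equiv (Coh.structureModule (CohB1.ProjSpace 1 R))) hz
  exact h.trans (hz'.trans (AddEquiv.apply_symm_apply _ _))

end Groth.Agent.S19180
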