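import Groth.Statements.S19181
import Mathlib.RingTheory.Polynomial.Basic
import Mathlib.Algebra.MvPolynomial.CommRing
import Mathlib.Tactic.FinCases
import Mathlib.RingTheory.Ideal.Quotient.Operations
import Mathlib.Tactic.Ring

set_option autoImplicit false
universe u
open CAlg

namespace Groth.Agent.S19181

open MvPolynomial in
/-- Let R be a commutative ring, a₁, a₂ ∈ R, and C ⊂ A²_R the curve y² + a₁xy = x³ + a₂x², blown up at
the section x = y = 0. In the chart where x = yα (variables y = X 0, α = X 1) the equation of C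
becomes y²·g₁ with g₁ = 1 + a₁α − yα³ − a₂α², and the y-saturation of the ideal (y²g₁) is (g₁): for
s ∈ R[y, α], some yⁿs lies in (y²g₁) if and only if s ∈ (g₁). In the chart where y = xβ (variables x
= X 0, β = X 1) the equation becomes x²·g₂ with g₂ = β² + a₁β − x − a₂, and some xⁿs lies in (x²g₂)
if and only if s ∈ (g₂). In other words the strict transform of C is cut out by g₁, resp. g₂, in the
two charts. -/
theorem result (R : Type u) [CommRing R] (a₁ a₂ : R) :
    (∀ s : MvPolynomial (Fin 2) R,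
      (∃ n : ℕ, X 0 ^ n * s ∈ Ideal.span ({X 0 ^ 2 * (1 + C a₁ * X 1 - X 0 * X 1 ^ 3 - C a₂ * X 1 ^ 2)} :
        Set (MvPolynomial (Fin 2) R))) ↔
      s ∈ Ideal.span ({1 + C a₁ * X 1 - X 0 * X 1 ^ 3 - C a₂ * X 1 ^ 2} : Set (MvPolynomial (Fin 2) R))) ∧
    (∀ s : MvPolynomial (Fin 2) R,
      (∃ n : ℕ, X 0 ^ n * s ∈ Ideal.span ({X 0 ^ 2 * (X 1 ^ 2 + C a₁ * X 1 - X 0 - C a₂)} :
        Set (MvPolynomial (Fin 2) R))) ↔
      s ∈ Ideal.span ({X 1 ^ 2 + C a₁ * X 1 - X 0 - C a₂} : Set (MvPolynomial (Fin 2) R))) := by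
  let ev : MvPolynomial (Fin 2) R →ₐ[R] Polynomial R := MvPolynomial.aeval ![0, Polynomial.X]
  let sec : Polynomial R →ₐ[R] MvPolynomial (Fin 2) R := Polynomial.aeval (X 1)
  have hdiv : ∀ p : MvPolynomial (Fin 2) R, ev p = 0 → (X 0 : MvPolynomial (Fin 2) R) ∣ p := by
    intro p hp
    have h : p - sec (ev p) ∈ Ideal.span ({X 0} : Set (MvPolynomial (Fin 2) R)) := by
      rw [← Ideal.Quotient.eq]
      have : (Ideal.Quotient.mkₐ R (Ideal.span ({X 0} : Set (MvPolynomial (Fin 2) R)))) =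
          ((Ideal.Quotient.mkₐ R (Ideal.span ({X 0} : Set (MvPolynomial (Fin 2) R)))).comp
            (sec.comp ev)) := by
        refine MvPolynomial.algHom_ext fun i => ?_
        fin_cases i <;> simp [ev, sec, Ideal.Quotient.eq_zero_iff_mem, Ideal.mem_span_singleton_self]
      exact AlgHom.congr_fun this p
    rw [hp, map_zero, sub_zero, Ideal.mem_span_singleton] at h
    exact h
  have hX0 : (X 0 : MvPolynomial (Fin 2) R) ∈ nonZeroDivisors (MvPolynomial (Fin 2) R) := by
    rw [mem_nonZeroDivisors_iff_right]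
    intro p hp
    ext m
    have := congrArg (MvPolynomial.coeff (m + Finsupp.single 0 1)) hp
    simpa [coeff_mul_X] using this
  have main : ∀ g : MvPolynomial (Fin 2) R, ev g ∈ nonZeroDivisors (Polynomial R) →
      ∀ s : MvPolynomial (Fin 2) R,
      (∃ n : ℕ, X 0 ^ n * s ∈ Ideal.span ({X 0 ^ 2 * g} : Set (MvPolynomial (Fin 2) R))) ↔
        s ∈ Ideal.span ({g} : Set (MvPolynomial (Fin 2) R)) := by
    intro g hg s
    constructor
    · rintro ⟨n, hn⟩
      have hn' : X 0 ^ n * s ∈ Ideal.span ({g} : Set (MvPolynomial (Fin 2) R)) :=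
        Ideal.span_singleton_le_span_singleton.mpr (dvd_mul_left g _) hn
      clear hn
      induction n generalizing s with
      | zero => simpa using hn'
      | succ n ih =>
        rw [pow_succ, mul_assoc] at hn'
        obtain ⟨q, hq⟩ := Ideal.mem_span_singleton'.mp (ih _ hn')
        have he : ev q * ev g = 0 := by rw [← map_mul, hq, map_mul]; simp [ev]
        obtain ⟨q', rfl⟩ := hdiv q ((mul_right_mem_nonZeroDivisors_eq_zero_iff hg).mp he)
        refine Ideal.mem_span_singleton'.mpr ⟨q', ?_⟩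
        apply (mul_cancel_left_mem_nonZeroDivisors hX0).mp
        rw [← mul_assoc, hq]
    · intro h
      obtain ⟨q, rfl⟩ := Ideal.mem_span_singleton'.mp h
      exact ⟨2, Ideal.mem_span_singleton'.mpr ⟨q, by ring⟩⟩
  refine ⟨main _ ?_, main _ ?_⟩
  · refine Polynomial.mem_nonzeroDivisors_of_coeff_mem 0 ?_
    have e : (ev (1 + C a₁ * X 1 - X 0 * X 1 ^ 3 - C a₂ * X 1 ^ 2)).coeff 0 = 1 := by
      simp [ev, Polynomial.coeff_X_pow]
    rw [e]; exact one_mem _
  · refine Polynomial.mem_nonzeroDivisors_of_coeff_mem 2 ?_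
    have e : (ev (X 1 ^ 2 + C a₁ * X 1 - X 0 - C a₂)).coeff 2 = 1 := by
      simp [ev, Polynomial.coeff_X, Polynomial.coeff_C]
    rw [e]; exact one_mem _

end Groth.Agent.S19181
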