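import Groth.Statements.S19182
import Mathlib.RingTheory.Smooth.Basic
import Mathlib.RingTheory.FinitePresentation
import Mathlib.Tactic.LinearCombination
import Mathlib
-- import your own Groth.Agent.* helpers here

set_option autoImplicit false
universe u
open CAlg

namespace Groth.Agent.S19182

open MvPolynomial in
/-- Let R be a commutative ring and a₁, a₂ ∈ R. The two affine charts of the blow-up of the plane curve
y² + a₁xy = x³ + a₂x² at the section x = y = 0, with coordinate rings R[y, α]/(1 + a₁α − yα³ − a₂α²)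
and R[x, β]/(β² + a₁β − x − a₂) (variables indexed 0 and 1 in this order), are smooth R-algebras
(formally smooth of finite presentation). This is the local computation behind the statement that
the blow-up of a Weierstrass curve along a section through its singular locus is a smooth proper
curve of genus 0. -/
theorem result (R : Type u) [CommRing R] (a₁ a₂ : R) :
    Algebra.Smooth R (MvPolynomial (Fin 2) R ⧸
      Ideal.span ({1 + C a₁ * X 1 - X 0 * X 1 ^ 3 - C a₂ * X 1 ^ 2} : Set (MvPolynomial (Fin 2) R))) ∧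
    Algebra.Smooth R (MvPolynomial (Fin 2) R ⧸
      Ideal.span ({X 1 ^ 2 + C a₁ * X 1 - X 0 - C a₂} : Set (MvPolynomial (Fin 2) R))) := by
  have fp : ∀ F : MvPolynomial (Fin 2) R, Algebra.FinitePresentation R (MvPolynomial (Fin 2) R ⧸ Ideal.span {F}) :=
    fun F => Algebra.FinitePresentation.quotient ⟨{F}, by simp⟩
  refine ⟨{ formallySmooth := Algebra.FormallySmooth.of_comp_surjective ?_, finitePresentation := fp _ },
    { formallySmooth := Algebra.FormallySmooth.of_comp_surjective ?_, finitePresentation := fp _ }⟩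
  · intro B _ _ I hI f
    obtain ⟨α, hα⟩ := Ideal.Quotient.mk_surjective (f (Ideal.Quotient.mk _ (X 1)))
    let y₀ := f (Ideal.Quotient.mk _ (X 0))
    have hrel : (1 : B ⧸ I) + algebraMap R _ a₁ * f (Ideal.Quotient.mk _ (X 1)) - y₀ * f (Ideal.Quotient.mk _ (X 1)) ^ 3
        - algebraMap R _ a₂ * f (Ideal.Quotient.mk _ (X 1)) ^ 2 = 0 := by
      have h0 : f.comp (Ideal.Quotient.mkₐ R _) (1 + C a₁ * X 1 - X 0 * X 1 ^ 3 - C a₂ * X 1 ^ 2) = 0 := by
        rw [AlgHom.comp_apply, Ideal.Quotient.mkₐ_eq_mk, Ideal.Quotient.eq_zero_iff_mem.2 (Ideal.mem_span_singleton_self _), map_zero]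
      simp only [map_sub, map_add, map_mul, map_pow, map_one, ← MvPolynomial.algebraMap_eq, AlgHom.commutes] at h0
      exact h0
    have hu : IsUnit (Ideal.Quotient.mk I α) := by
      rw [hα]
      exact IsUnit.of_mul_eq_one (y₀ * f (Ideal.Quotient.mk _ (X 1)) ^ 2 + algebraMap R _ a₂ * f (Ideal.Quotient.mk _ (X 1)) - algebraMap R _ a₁)
        (by linear_combination (-1 : B ⧸ I) * hrel)
    have hu' : IsUnit α := by
      obtain ⟨c, hc⟩ := hu.exists_right_inv
      obtain ⟨c, rfl⟩ := Ideal.Quotient.mk_surjective c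
      have hnil : IsNilpotent (α * c - 1) := ⟨2, by
        have : α * c - 1 ∈ I := by rw [← Ideal.Quotient.eq_zero_iff_mem, map_sub, map_mul, hc, map_one, sub_self]
        have := Ideal.pow_mem_pow this 2
        rwa [hI, Ideal.mem_bot] at this⟩
      have := IsNilpotent.isUnit_one_add hnil
      rw [add_sub_cancel] at this
      exact isUnit_of_mul_isUnit_left this
    obtain ⟨u, hu'⟩ := (hu'.pow 3).exists_right_inv
    let y : B := (1 + algebraMap R B a₁ * α - algebraMap R B a₂ * α ^ 2) * u
    refine ⟨Ideal.Quotient.liftₐ _ (MvPolynomial.aeval ![y, α]) ?_, ?_⟩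
    · intro z hz
      obtain ⟨c, rfl⟩ := Ideal.mem_span_singleton'.1 hz
      have hF : MvPolynomial.aeval ![y, α] (1 + C a₁ * X 1 - X 0 * X 1 ^ 3 - C a₂ * X 1 ^ 2) = 0 := by
        simp [y]
        linear_combination -(1 + algebraMap R B a₁ * α - algebraMap R B a₂ * α ^ 2) * hu'
      rw [map_mul, hF, mul_zero]
    · refine Ideal.Quotient.algHom_ext R (MvPolynomial.algHom_ext fun i => ?_)
      have hy : Ideal.Quotient.mk I y = y₀ := by
        have h1 : Ideal.Quotient.mk I α ^ 3 * Ideal.Quotient.mk I u = 1 := by rw [← map_pow, ← map_mul, hu', map_one]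
        simp only [y, map_mul, map_sub, map_add, map_one, map_pow, Ideal.Quotient.mk_algebraMap]
        rw [hα] at h1 ⊢
        linear_combination Ideal.Quotient.mk I u * hrel + y₀ * h1
      fin_cases i
      · show Ideal.Quotient.mk I (MvPolynomial.aeval ![y, α] (X 0)) = _
        rw [MvPolynomial.aeval_X]
        exact hy
      · show Ideal.Quotient.mk I (MvPolynomial.aeval ![y, α] (X 1)) = _
        rw [MvPolynomial.aeval_X]
        exact hα
  · intro B _ _ I hI f
    obtain ⟨β, hβ⟩ := Ideal.Quotient.mk_surjective (f (Ideal.Quotient.mk _ (X 1)))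
    have hrel : f (Ideal.Quotient.mk _ (X 1)) ^ 2 + algebraMap R _ a₁ * f (Ideal.Quotient.mk _ (X 1))
        - f (Ideal.Quotient.mk _ (X 0)) - algebraMap R (B ⧸ I) a₂ = 0 := by
      have h0 : f.comp (Ideal.Quotient.mkₐ R _) (X 1 ^ 2 + C a₁ * X 1 - X 0 - C a₂) = 0 := by
        rw [AlgHom.comp_apply, Ideal.Quotient.mkₐ_eq_mk, Ideal.Quotient.eq_zero_iff_mem.2 (Ideal.mem_span_singleton_self _), map_zero]
      simp only [map_sub, map_add, map_mul, map_pow, ← MvPolynomial.algebraMap_eq, AlgHom.commutes] at h0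
      exact h0
    let x : B := β ^ 2 + algebraMap R B a₁ * β - algebraMap R B a₂
    refine ⟨Ideal.Quotient.liftₐ _ (MvPolynomial.aeval ![x, β]) ?_, ?_⟩
    · intro z hz
      obtain ⟨c, rfl⟩ := Ideal.mem_span_singleton'.1 hz
      have hF : MvPolynomial.aeval ![x, β] (X 1 ^ 2 + C a₁ * X 1 - X 0 - C a₂) = 0 := by
        simp [x]
      rw [map_mul, hF, mul_zero]
    · refine Ideal.Quotient.algHom_ext R (MvPolynomial.algHom_ext fun i => ?_)
      have hy : Ideal.Quotient.mk I x = f (Ideal.Quotient.mk _ (X 0)) := by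
        simp only [x, map_mul, map_sub, map_add, map_pow, Ideal.Quotient.mk_algebraMap, hβ]
        linear_combination hrel
      fin_cases i
      · show Ideal.Quotient.mk I (MvPolynomial.aeval ![x, β] (X 0)) = _
        rw [MvPolynomial.aeval_X]
        exact hy
      · show Ideal.Quotient.mk I (MvPolynomial.aeval ![x, β] (X 1)) = _
        rw [MvPolynomial.aeval_X]
        exact hβ

end Groth.Agent.S19182
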