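import Groth.Statements.S19183
import Mathlib.LinearAlgebra.Dimension.Constructions
import Mathlib.RingTheory.Ideal.Span
import Mathlib.LinearAlgebra.FreeModule.StrongRankCondition
import Mathlib.Tactic.Ring

set_option autoImplicit false
universe u
open CAlg

namespace Groth.Agent.S19183

/-- Let A be a non-zero commutative ring and f ∈ A a non-zero-divisor. The fibre product A ×_{A/(f)} A
of two copies of A over A/(f) — the A-submodule of A × A of pairs (x, y) with x − y ∈ (f), which is
the coordinate ring of two copies of Spec A glued along the Cartier divisor f = 0 — is a free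
A-module of rank 2. (This is what makes the gluing of two copies of a curve along an effective
Cartier divisor finite locally free of degree 2 over the curve.) -/
theorem result (A : Type u) [CommRing A] [Nontrivial A]
    (f : A) (hf : f ∈ nonZeroDivisors A) :
    Module.Free A (Submodule.comap (LinearMap.fst A A A - LinearMap.snd A A A) (Ideal.span ({f} : Set A))) ∧
      Module.finrank A (Submodule.comap (LinearMap.fst A A A - LinearMap.snd A A A) (Ideal.span ({f} : Set A))) = 2 := by
  let L : A × A →ₗ[A] Submodule.comap (LinearMap.fst A A A - LinearMap.snd A A A) (Ideal.span ({f} : Set A)) :=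
    { toFun := fun p => ⟨(p.1 + p.2 * f, p.1), by
        simp [Ideal.mem_span_singleton]⟩
      map_add' := fun p q => by ext <;> simp; ring
      map_smul' := fun c p => by ext <;> simp; ring }
  have hb : Function.Bijective L := by
    constructor
    · intro p q h
      have h1 := congrArg (fun z => (z.1 : A × A).2) h
      have h2 := congrArg (fun z => (z.1 : A × A).1) h
      simp only [L, LinearMap.coe_mk, AddHom.coe_mk] at h1 h2
      rw [h1, add_right_inj] at h2
      exact Prod.ext h1 ((mul_cancel_right_mem_nonZeroDivisors hf).mp h2)
    · rintro ⟨⟨x, y⟩, h⟩
      simp only [Submodule.mem_comap, LinearMap.sub_apply, LinearMap.fst_apply, LinearMap.snd_apply,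
        Ideal.mem_span_singleton'] at h
      obtain ⟨t, ht⟩ := h
      exact ⟨(y, t), by ext <;> simp [L, ht]⟩
  let e := LinearEquiv.ofBijective L hb
  exact ⟨Module.Free.of_equiv e, by rw [← e.finrank_eq, Module.finrank_prod, Module.finrank_self]⟩

end Groth.Agent.S19183
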