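import Groth.Statements.S19184
import Mathlib.Tactic.ComputeDegree
import Mathlib.Tactic.LinearCombination
import Mathlib.LinearAlgebra.Finsupp.VectorSpace
import Mathlib.LinearAlgebra.Basis.Prod

set_option autoImplicit false
universe u
open CAlg

namespace Groth.Agent.S19184

open Polynomial in
/-- Let S be a commutative ring, a, b ∈ S, f = x² + ax + b ∈ S[x] and R = S[x]/(f), a free S-algebra of
rank 2. Let A ⊂ S[x] be the S-subalgebra of polynomials whose class in R lies in the image of S → R;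
it is the fibre product S[x] ×_R S, the coordinate ring of the affine line over S with the degree-2
subscheme Spec R collapsed onto Spec S. Then A is a free S-module and S[x] is a finitely generated
A-module. -/
theorem result (S : Type u) [CommRing S] (a b : S) :
    Module.Free S ((⊥ : Subalgebra S (S[X] ⧸ Ideal.span ({X ^ 2 + C a * X + C b} : Set S[X]))).comap
        (Ideal.Quotient.mkₐ S (Ideal.span ({X ^ 2 + C a * X + C b} : Set S[X])))) ∧
      Module.Finite ((⊥ : Subalgebra S (S[X] ⧸ Ideal.span ({X ^ 2 + C a * X + C b} : Set S[X]))).comap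
        (Ideal.Quotient.mkₐ S (Ideal.span ({X ^ 2 + C a * X + C b} : Set S[X])))) S[X] := by
  classical
  set f : S[X] := X ^ 2 + C a * X + C b with hf
  set I := Ideal.span ({f} : Set S[X])
  have hmon : f.Monic := by
    rw [hf, add_assoc]
    refine monic_X_pow_add (lt_of_le_of_lt (degree_add_le _ _) (max_lt ?_ ?_))
    · exact lt_of_le_of_lt (degree_C_mul_X_le a) (by decide)
    · exact lt_of_le_of_lt degree_C_le (by decide)
  have hmemA : ∀ p : S[X], p ∈ (⊥ : Subalgebra S (S[X] ⧸ I)).comap (Ideal.Quotient.mkₐ S I) ↔ ∃ s q, p = C s + f * q := by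
    intro p
    rw [Subalgebra.mem_comap, Algebra.mem_bot]
    constructor
    · rintro ⟨s, hs⟩
      have h2 : Ideal.Quotient.mk I p = Ideal.Quotient.mk I (C s) := by
        exact hs.symm
      rw [Ideal.Quotient.eq, Ideal.mem_span_singleton] at h2
      obtain ⟨q, hq⟩ := h2
      exact ⟨s, q, by rw [← hq]; ring⟩
    · rintro ⟨s, q, rfl⟩
      refine ⟨s, ?_⟩
      rw [map_add, Ideal.Quotient.mkₐ_eq_mk, (Ideal.Quotient.eq_zero_iff_mem (I := I)).2 (Ideal.mem_span_singleton.2 (dvd_mul_right f q)), add_zero]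
      rfl
  let φ : (S × S[X]) →ₗ[S] ((⊥ : Subalgebra S (S[X] ⧸ I)).comap (Ideal.Quotient.mkₐ S I)) :=
    LinearMap.codRestrict (Subalgebra.toSubmodule ((⊥ : Subalgebra S (S[X] ⧸ I)).comap (Ideal.Quotient.mkₐ S I)))
      ((Algebra.linearMap S S[X]).coprod (LinearMap.mulLeft S f)) (fun x => (hmemA _).2 ⟨x.1, x.2, rfl⟩)
  have hφ : Function.Bijective φ := by
    constructor
    · rintro ⟨s, q⟩ ⟨s', q'⟩ h
      have h' : C s + f * q = C s' + f * q' := congrArg Subtype.val h
      rcases subsingleton_or_nontrivial S with hS | hS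
      · exact Subsingleton.elim _ _
      have hd : f * (q - q') = C (s' - s) := by rw [map_sub]; linear_combination h'
      have hdeg : f.natDegree = 2 := by rw [hf]; compute_degree!
      have hq : q - q' = 0 := by
        by_contra hne
        have := congrArg Polynomial.natDegree hd
        rw [hmon.natDegree_mul' hne, hdeg, natDegree_C] at this
        omega
      rw [hq, mul_zero, eq_comm, C_eq_zero] at hd
      exact Prod.ext (sub_eq_zero.1 hd).symm (sub_eq_zero.1 hq)
    · rintro ⟨p, hp⟩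
      obtain ⟨s, q, rfl⟩ := (hmemA p).1 hp
      exact ⟨(s, q), Subtype.ext rfl⟩
  refine ⟨Module.Free.of_equiv (LinearEquiv.ofBijective φ hφ), ⟨⟨{1, X}, eq_top_iff.2 fun p _ => ?_⟩⟩⟩
  set A' := (⊥ : Subalgebra S (S[X] ⧸ I)).comap (Ideal.Quotient.mkₐ S I)
  rw [← modByMonic_add_div p f]
  rcases subsingleton_or_nontrivial S with hS | hS
  · rw [Subsingleton.elim (p %ₘ f + f * (p /ₘ f)) 0]; exact Submodule.zero_mem _
  have hlin : (p %ₘ f).natDegree ≤ 1 := by
    have hdeg : f.natDegree = 2 := by rw [hf]; compute_degree!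
    have := natDegree_modByMonic_lt p hmon (fun h => by simp [h] at hdeg)
    omega
  rw [eq_X_add_C_of_natDegree_le_one hlin]
  refine Submodule.add_mem _ (Submodule.add_mem _ ?_ ?_) ?_
  · exact Submodule.smul_mem _ (⟨C _, (hmemA _).2 ⟨(p %ₘ f).coeff 1, 0, by rw [mul_zero, add_zero]⟩⟩ : A') (Submodule.subset_span (by simp : (X : S[X]) ∈ _))
  · simpa [Subalgebra.smul_def] using Submodule.smul_mem _ (⟨C ((p %ₘ f).coeff 0), (hmemA _).2 ⟨(p %ₘ f).coeff 0, 0, by rw [mul_zero, add_zero]⟩⟩ : A') (Submodule.subset_span (by simp : (1 : S[X]) ∈ (({1, X} : Finset S[X]) : Set S[X])))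
  · simpa [Subalgebra.smul_def] using Submodule.smul_mem _ (⟨f * (p /ₘ f), (hmemA _).2 ⟨0, p /ₘ f, by rw [map_zero, zero_add]⟩⟩ : A') (Submodule.subset_span (by simp : (1 : S[X]) ∈ (({1, X} : Finset S[X]) : Set S[X])))

end Groth.Agent.S19184
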