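import Groth.Statements.S19185
import Mathlib

set_option autoImplicit false
universe u
open Curves

namespace Groth.Agent.S19185

open MvPolynomial

variable {k : Type u} [Field k]

theorem aeval_add_sq_zero {S : Type u} [CommRing S] [Algebra k S] {σ : Type*} [Fintype σ]
    (x δ : σ → S) (hδ : ∀ i j, δ i * δ j = 0) (G : MvPolynomial σ k) :
    aeval (x + δ) G = aeval x G + ∑ i, δ i * aeval x (pderiv i G) := by
  classical
  induction G using MvPolynomial.induction_on with
  | C a => simp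
  | add p q hp hq =>
    simp only [map_add, hp, hq, mul_add, Finset.sum_add_distrib]
    ring
  | mul_X p j hp =>
    have h0 : (∑ i, δ i * aeval x (pderiv i p)) * δ j = 0 := by
      rw [Finset.sum_mul]
      exact Finset.sum_eq_zero fun i _ ↦ by rw [mul_right_comm, hδ, zero_mul]
    have h1 : ∑ i, δ i * aeval x (pderiv i (p * X j)) =
        (∑ i, δ i * aeval x (pderiv i p)) * x j + aeval x p * δ j := by
      simp only [Derivation.leibniz, smul_eq_mul, map_add, map_mul, aeval_X, mul_add,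
        Finset.sum_add_distrib, pderiv_X]
      rw [add_comm, Finset.sum_mul]
      congr 1
      · exact Finset.sum_congr rfl fun i _ ↦ by ring
      · rw [Finset.sum_eq_single j]
        · simp [mul_comm]
        · intro i _ hij; simp [Ne.symm hij]
        · simp
    rw [h1, map_mul, map_mul, aeval_X, aeval_X, hp, Pi.add_apply]
    linear_combination h0

theorem smooth_hypersurface_iff (F : MvPolynomial (Fin 2) k) (hF : F ≠ 0) :
    Algebra.Smooth k (MvPolynomial (Fin 2) k ⧸ Ideal.span ({F} : Set (MvPolynomial (Fin 2) k))) ↔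
      ∃ a : Fin 2 → MvPolynomial (Fin 2) k, F ∣ 1 + ∑ i, a i * pderiv i F := by
  classical
  let P := MvPolynomial (Fin 2) k
  let I : Ideal P := Ideal.span {F}
  let f : P →ₐ[k] P ⧸ I := Ideal.Quotient.mkₐ k I
  have hker : RingHom.ker f.toRingHom = I := Ideal.mk_ker
  have hfsurj : Function.Surjective f := Ideal.Quotient.mk_surjective
  let J : Ideal P := RingHom.ker f.toRingHom ^ 2
  let π : P →ₐ[k] P ⧸ J := Ideal.Quotient.mkₐ k J
  have hπX : ⇑π ∘ MvPolynomial.X = fun i ↦ π (MvPolynomial.X i) := rfl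
  have hπ : aeval (fun i ↦ π (MvPolynomial.X i)) = π := (MvPolynomial.aeval_unique π).symm
  have hmem : ∀ z, π z = 0 ↔ F * F ∣ z := fun z ↦ by
    show Ideal.Quotient.mk J z = 0 ↔ _
    rw [Ideal.Quotient.eq_zero_iff_mem]
    simp only [J, hker, I, sq, Ideal.span_singleton_mul_span_singleton]
    exact Ideal.mem_span_singleton
  have hsq : ∀ a b : P, π (F * a) * π (F * b) = 0 := fun a b ↦ by
    rw [← map_mul, hmem]
    exact ⟨a * b, by ring⟩
  have key : ∀ a : Fin 2 → P, aeval (fun i ↦ π (MvPolynomial.X i + F * a i)) F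
      = π (F * (1 + ∑ i, a i * pderiv i F)) := fun a ↦ by
    have := aeval_add_sq_zero (k := k) (fun i ↦ π (MvPolynomial.X i))
      (fun i ↦ π (F * a i)) (fun i j ↦ hsq _ _) F
    rw [hπ] at this
    rw [show (fun i ↦ π (MvPolynomial.X i + F * a i)) =
      (fun i ↦ π (MvPolynomial.X i)) + fun i ↦ π (F * a i) from funext fun i ↦ map_add _ _ _, this]
    simp only [← map_mul, ← map_sum, ← map_add, mul_add, mul_one, Finset.mul_sum]
    congr 2
    exact Finset.sum_congr rfl fun i _ ↦ by ring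
  constructor
  · intro hs
    obtain ⟨g, hg⟩ := (Algebra.FormallySmooth.iff_split_surjection f hfsurj).mp hs.formallySmooth
    have hlift : ∀ i, ∃ a : P, g (f (MvPolynomial.X i)) = π (MvPolynomial.X i + F * a) := by
      intro i
      obtain ⟨y, hy⟩ := Ideal.Quotient.mk_surjective (g (f (MvPolynomial.X i)))
      have h1 : f y = f (MvPolynomial.X i) := by
        have h2 := congrArg f.kerSquareLift hy
        rw [AlgHom.kerSquareLift_mk] at h2
        exact h2.trans (AlgHom.congr_fun hg _)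
      obtain ⟨a, ha⟩ := Ideal.mem_span_singleton.mp (Ideal.Quotient.eq.mp h1)
      refine ⟨a, ?_⟩
      rw [← hy, ← ha, add_sub_cancel]
      rfl
    choose a ha using hlift
    refine ⟨a, ?_⟩
    have hgf : g.comp f = aeval fun i ↦ π (MvPolynomial.X i + F * a i) :=
      MvPolynomial.algHom_ext fun i ↦ by rw [aeval_X]; exact ha i
    have h := AlgHom.congr_fun hgf F
    rw [key] at h
    have hfF : f F = 0 := Ideal.Quotient.eq_zero_iff_mem.mpr (Ideal.mem_span_singleton_self F)
    rw [AlgHom.comp_apply, hfF, map_zero] at h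
    exact (mul_dvd_mul_iff_left hF).mp ((hmem _).mp h.symm)
  · rintro ⟨a, ha⟩
    let φ : P →ₐ[k] P ⧸ J := aeval fun i ↦ π (MvPolynomial.X i + F * a i)
    have hφ : ∀ z ∈ I, φ z = 0 := by
      intro z hz
      obtain ⟨c, rfl⟩ := Ideal.mem_span_singleton.mp hz
      rw [map_mul, show φ F = 0 from (key a).trans ((hmem _).mpr (mul_dvd_mul_left F ha)), zero_mul]
    have : Algebra.FormallySmooth k (P ⧸ I) := by
      refine Algebra.FormallySmooth.of_split f (Ideal.Quotient.liftₐ I φ hφ) ?_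
      refine Ideal.Quotient.algHom_ext k (MvPolynomial.algHom_ext fun i ↦ ?_)
      show f.kerSquareLift (φ (MvPolynomial.X i)) = f (MvPolynomial.X i)
      rw [show φ (MvPolynomial.X i) = π (MvPolynomial.X i + F * a i) from aeval_X _ _]
      refine (AlgHom.kerSquareLift_mk f _).trans ?_
      rw [map_add, map_mul, show f F = 0 from
        Ideal.Quotient.eq_zero_iff_mem.mpr (Ideal.mem_span_singleton_self F), zero_mul, add_zero]
    exact ⟨this, .quotient (Submodule.fg_span_singleton F)⟩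

theorem pderiv_aeval_X (p : Polynomial k) (i : Fin 2) :
    pderiv i (Polynomial.aeval (X 0 : MvPolynomial (Fin 2) k) p) =
      Polynomial.aeval (X 0 : MvPolynomial (Fin 2) k) p.derivative * pderiv i (X 0) := by
  rw [Derivation.comp_aeval_eq, smul_eq_mul]

theorem toMv_add_mul_ne_zero (f g : Polynomial k) (h : f ≠ 0 ∨ g ≠ 0) :
    Polynomial.aeval (X 0 : MvPolynomial (Fin 2) k) f +
      Polynomial.aeval (X 0 : MvPolynomial (Fin 2) k) g * X 1 ≠ 0 := by
  intro h0
  have hev : ∀ w : Polynomial k, f + g * w = 0 := fun w ↦ by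
    have := congrArg (aeval ![Polynomial.X, w]) h0
    simpa [← Polynomial.aeval_algHom_apply] using this
  have hf : f = 0 := by simpa using hev 0
  have hg : g = 0 := by simpa [hf] using hev 1
  exact h.elim (· hf) (· hg)

theorem smooth_of_isCoprime (f g : Polynomial k) (h : IsCoprime f g) :
    Algebra.Smooth k (MvPolynomial (Fin 2) k ⧸ Ideal.span
      ({Polynomial.aeval (X 0 : MvPolynomial (Fin 2) k) f +
        Polynomial.aeval (X 0 : MvPolynomial (Fin 2) k) g * X 1} : Set (MvPolynomial (Fin 2) k))) := by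
  have hne : f ≠ 0 ∨ g ≠ 0 := by
    by_contra! h0
    rw [h0.1, h0.2] at h
    exact not_isUnit_zero (isCoprime_zero_left.mp h)
  rw [smooth_hypersurface_iff _ (toMv_add_mul_ne_zero f g hne)]
  obtain ⟨u, v, huv⟩ := h
  have huv' := congrArg (Polynomial.aeval (X 0 : MvPolynomial (Fin 2) k)) huv
  simp only [map_add, map_mul, map_one] at huv'
  let U := Polynomial.aeval (X 0 : MvPolynomial (Fin 2) k) u
  let V := Polynomial.aeval (X 0 : MvPolynomial (Fin 2) k) v
  refine ⟨![0, U * X 1 - V], U, ?_⟩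
  simp only [Fin.sum_univ_two, Matrix.cons_val_zero, Matrix.cons_val_one, map_add, Derivation.leibniz,
    pderiv_aeval_X, pderiv_X, smul_eq_mul, zero_mul, zero_add]
  simp [U, V]
  linear_combination -huv'

theorem isCoprime_of_smooth (f g : Polynomial k) (h : f ≠ 0 ∨ g ≠ 0)
    (h1 : Algebra.Smooth k (MvPolynomial (Fin 2) k ⧸ Ideal.span
      ({Polynomial.aeval (X 0 : MvPolynomial (Fin 2) k) f +
        Polynomial.aeval (X 0 : MvPolynomial (Fin 2) k) g * X 1} : Set (MvPolynomial (Fin 2) k))))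
    (h2 : Algebra.Smooth k (MvPolynomial (Fin 2) k ⧸ Ideal.span
      ({Polynomial.aeval (X 0 : MvPolynomial (Fin 2) k) f * X 1 +
        Polynomial.aeval (X 0 : MvPolynomial (Fin 2) k) g} : Set (MvPolynomial (Fin 2) k)))) :
    IsCoprime f g := by
  rw [smooth_hypersurface_iff _ (toMv_add_mul_ne_zero f g h)] at h1
  rw [smooth_hypersurface_iff _ (by rw [add_comm]; exact toMv_add_mul_ne_zero g f h.symm)] at h2
  rw [Polynomial.isCoprime_iff_aeval_ne_zero_of_isAlgClosed k (AlgebraicClosure k)]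
  intro r
  by_contra! hr
  have key : ∀ {p q : Polynomial k}, Polynomial.aeval r p = 0 → Polynomial.aeval r q = 0 →
      (∃ a : Fin 2 → MvPolynomial (Fin 2) k,
        (Polynomial.aeval (X 0 : MvPolynomial (Fin 2) k) p +
          Polynomial.aeval (X 0 : MvPolynomial (Fin 2) k) q * X 1) ∣
        1 + ∑ i, a i * pderiv i (Polynomial.aeval (X 0 : MvPolynomial (Fin 2) k) p +
          Polynomial.aeval (X 0 : MvPolynomial (Fin 2) k) q * X 1)) →
      ∀ w : AlgebraicClosure k,
        Polynomial.aeval r p.derivative + w * Polynomial.aeval r q.derivative ≠ 0 := by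
    rintro p q hp hq ⟨a, c, hc⟩ w hw
    have := congrArg (aeval ![r, w]) hc
    simp [Fin.sum_univ_two, pderiv_aeval_X, ← Polynomial.aeval_algHom_apply, hp, hq] at this
    rw [show Polynomial.aeval r p.derivative + w * Polynomial.aeval r q.derivative = 0 from hw] at this
    simp at this
  have k1 := key hr.1 hr.2 h1
  have k2 := key hr.2 hr.1 (by rwa [add_comm (Polynomial.aeval _ g)])
  by_cases hg' : Polynomial.aeval r g.derivative = 0
  · refine k2 0 ?_
    rw [hg', zero_mul, add_zero]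
  · refine k1 (-(Polynomial.aeval r f.derivative / Polynomial.aeval r g.derivative)) ?_
    field_simp
    ring

theorem pair_iff (f g : Polynomial k) (h : f ≠ 0 ∨ g ≠ 0) :
    (Algebra.Smooth k (MvPolynomial (Fin 2) k ⧸ Ideal.span
      ({Polynomial.aeval (X 0 : MvPolynomial (Fin 2) k) f +
        Polynomial.aeval (X 0 : MvPolynomial (Fin 2) k) g * X 1} : Set (MvPolynomial (Fin 2) k))) ∧
    Algebra.Smooth k (MvPolynomial (Fin 2) k ⧸ Ideal.span
      ({Polynomial.aeval (X 0 : MvPolynomial (Fin 2) k) f * X 1 +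
        Polynomial.aeval (X 0 : MvPolynomial (Fin 2) k) g} : Set (MvPolynomial (Fin 2) k)))) ↔
    IsCoprime f g := by
  refine ⟨fun ⟨h1, h2⟩ ↦ isCoprime_of_smooth f g h h1 h2, fun hc ↦ ⟨smooth_of_isCoprime f g hc, ?_⟩⟩
  rw [add_comm]
  exact smooth_of_isCoprime g f hc.symm

/-- The polynomial `∑ c i X^i`. -/
noncomputable def lo (m : ℕ) (c : Fin (m + 1) → k) : Polynomial k :=
  ∑ i : Fin (m + 1), Polynomial.C (c i) * Polynomial.X ^ (i : ℕ)

/-- The reversed polynomial `∑ c i X^(m - i)`. -/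
noncomputable def hi (m : ℕ) (c : Fin (m + 1) → k) : Polynomial k :=
  ∑ i : Fin (m + 1), Polynomial.C (c i) * Polynomial.X ^ (m - (i : ℕ))

theorem lo_natDegree (m : ℕ) (c : Fin (m + 1) → k) : (lo m c).natDegree ≤ m :=
  Polynomial.natDegree_sum_le_of_forall_le _ _ fun i _ ↦
    (Polynomial.natDegree_C_mul_X_pow_le _ _).trans (Nat.le_of_lt_succ i.2)

theorem lo_coeff (m : ℕ) (c : Fin (m + 1) → k) (i : Fin (m + 1)) : (lo m c).coeff i = c i := by
  simp [lo, Polynomial.coeff_X_pow, Fin.val_inj]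

theorem lo_ne_zero (m : ℕ) (c : Fin (m + 1) → k) (hc : c ≠ 0) : lo m c ≠ 0 := fun h ↦
  hc (funext fun i ↦ by rw [← lo_coeff m c i, h, Polynomial.coeff_zero]; rfl)

theorem hi_eq_lo (m : ℕ) (c : Fin (m + 1) → k) : hi m c = lo m (c ∘ Fin.rev) := by
  refine Fintype.sum_equiv Fin.revPerm _ _ fun i ↦ ?_
  simp [Fin.val_rev]

theorem hi_ne_zero (m : ℕ) (c : Fin (m + 1) → k) (hc : c ≠ 0) : hi m c ≠ 0 := by
  rw [hi_eq_lo]
  exact lo_ne_zero m _ fun h ↦ hc (funext fun i ↦ by simpa using congrFun h (Fin.rev i))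

theorem hi_aeval_zero {L : Type u} [Field L] [Algebra k L] (m : ℕ) (c : Fin (m + 1) → k) :
    Polynomial.aeval (0 : L) (hi m c) = algebraMap k L (c (Fin.last m)) := by
  rw [hi, map_sum, Finset.sum_eq_single (Fin.last m)]
  · simp
  · intro i _ hi
    have : m - (i : ℕ) ≠ 0 := Nat.sub_ne_zero_of_lt (Fin.val_lt_last hi)
    simp [zero_pow this]
  · simp

theorem hi_aeval {L : Type u} [Field L] [Algebra k L] (m : ℕ) (c : Fin (m + 1) → k) {s : L}
    (hs : s ≠ 0) : Polynomial.aeval s (hi m c) = s ^ m * Polynomial.aeval s⁻¹ (lo m c) := by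
  simp only [hi, lo, map_sum, map_mul, Polynomial.aeval_C, map_pow, Polynomial.aeval_X,
    Finset.mul_sum]
  refine Finset.sum_congr rfl fun i _ ↦ ?_
  rw [pow_sub₀ s hs (Nat.le_of_lt_succ i.2), inv_pow]
  ring

theorem resultant_iff (n : ℕ) (hn : 1 ≤ n) (q : Fin 3 → k) (ξ : Fin (n + 1) → k)
    (hne : q ≠ 0 ∨ ξ ≠ 0) :
    (IsCoprime (lo 2 q) (lo n ξ) ∧ IsCoprime (hi 2 q) (hi n ξ)) ↔
      Polynomial.resultant (lo 2 q) (lo n ξ) 2 n ≠ 0 := by
  have hrev : IsCoprime (lo 2 q) (lo n ξ) →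
      (IsCoprime (hi 2 q) (hi n ξ) ↔ (q 2 ≠ 0 ∨ ξ (Fin.last n) ≠ 0)) := by
    intro h
    rw [Polynomial.isCoprime_iff_aeval_ne_zero_of_isAlgClosed k (AlgebraicClosure k)] at h ⊢
    constructor
    · intro h'
      have := h' 0
      rw [hi_aeval_zero, hi_aeval_zero] at this
      simpa using this
    · intro h' s
      by_cases hs : s = 0
      · subst hs
        rw [hi_aeval_zero, hi_aeval_zero]
        simpa using h'
      · rw [hi_aeval _ _ hs, hi_aeval _ _ hs]
        simpa [hs] using h s⁻¹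
  have hc2 : (lo 2 q).coeff 2 = q 2 := lo_coeff 2 q 2
  have hcn : (lo n ξ).coeff n = ξ (Fin.last n) := lo_coeff n ξ (Fin.last n)
  have hd := lo_natDegree 2 q
  have he := lo_natDegree n ξ
  have hres : ∀ (f g : Polynomial k), (f ≠ 0 ∨ g ≠ 0) →
      (Polynomial.resultant f g ≠ 0 ↔ IsCoprime f g) := fun f g hfg ↦ by
    rw [ne_eq, Polynomial.resultant_eq_zero_iff]
    simp [hfg]
  have hfg : lo 2 q ≠ 0 ∨ lo n ξ ≠ 0 := hne.imp (lo_ne_zero 2 q) (lo_ne_zero n ξ)
  by_cases h2 : q 2 = 0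
  · by_cases hξ : ξ (Fin.last n) = 0
    · have hd' : (lo 2 q).natDegree < 2 := lt_of_le_of_ne hd fun h ↦ by
        have : lo 2 q ≠ 0 := fun h0 ↦ by simp [h0] at h
        exact this (Polynomial.leadingCoeff_eq_zero.mp (by rw [Polynomial.leadingCoeff, h, hc2, h2]))
      have he' : (lo n ξ).natDegree < n := lt_of_le_of_ne he fun h ↦ by
        have : lo n ξ ≠ 0 := fun h0 ↦ by simp [h0] at h; omega
        exact this (Polynomial.leadingCoeff_eq_zero.mp (by rw [Polynomial.leadingCoeff, h, hcn, hξ]))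
      rw [Polynomial.resultant_eq_zero_of_lt_lt _ _ _ _ hd' he']
      refine iff_of_false (fun ⟨h1, h3⟩ ↦ ?_) (by simp)
      simpa [h2, hξ] using (hrev h1).mp h3
    · have hdeg : (lo n ξ).natDegree = n := le_antisymm he
        (Polynomial.le_natDegree_of_ne_zero (by rw [hcn]; exact hξ))
      obtain ⟨d, hd2⟩ := Nat.exists_eq_add_of_le hd
      have hk := Polynomial.resultant_add_left_deg (lo 2 q) (lo n ξ) (lo 2 q).natDegree n d le_rfl
      rw [← hd2, hcn] at hk
      rw [hk]
      have := hres _ _ hfg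
      rw [hdeg] at this
      simp only [ne_eq, mul_eq_zero, pow_eq_zero_iff', hξ, false_and, neg_eq_zero, one_ne_zero,
        false_or] at this ⊢
      rw [this]
      exact ⟨fun h ↦ h.1, fun h ↦ ⟨h, (hrev h).mpr (Or.inr hξ)⟩⟩
  · have hdeg : (lo 2 q).natDegree = 2 := le_antisymm hd
      (Polynomial.le_natDegree_of_ne_zero (by rw [hc2]; exact h2))
    obtain ⟨d, hd2⟩ := Nat.exists_eq_add_of_le he
    have hk := Polynomial.resultant_add_right_deg (lo 2 q) (lo n ξ) 2 (lo n ξ).natDegree d le_rfl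
    rw [← hd2] at hk
    rw [hk]
    have := hres _ _ hfg
    rw [hdeg] at this
    rw [ne_eq, mul_eq_zero, hc2, pow_eq_zero_iff']
    simp only [h2, false_and, false_or]
    rw [← ne_eq, this]
    exact ⟨fun h ↦ h.1, fun h ↦ ⟨h, (hrev h).mpr (Or.inl h2)⟩⟩


/-- Let k be a field, n ≥ 3, q a binary quadratic form and ξ a binary form of degree n over k, given by
coefficient vectors (q_i the coefficient of x^i y^(2−i), ξ_j that of x^j y^(n−j)), not both zero.
The pair (q, ξ) is a global section of O(2) ⊕ O(n) on P¹_k, i.e. of the line bundle of class e + nf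
on the Hirzebruch surface F_{n−2} = P(O ⊕ O(n−2)) → P¹_k, and cuts out the curve W : q·u + ξ·v = 0
there ([u : v] the fibre coordinates). Over the two standard opens of P¹ (t = x/y, s = y/x) and the
two opens u ≠ 0, v ≠ 0 of the fibres, W is covered by four affine charts with coordinate rings k[t,
w]/(q(t,1) + ξ(t,1)·w), k[t, w]/(q(t,1)·w + ξ(t,1)), k[s, w]/(q(1,s) + ξ(1,s)·w) and k[s,
w]/(q(1,s)·w + ξ(1,s)) (variables indexed 0 for t or s and 1 for w). Then W is smooth over k — all
four chart algebras are smooth k-algebras — if and only if the resultant of q and ξ (the Sylvester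
determinant of the two coefficient vectors with size parameters 2 and n) is nonzero. (The published
statement is over a general base scheme B, for a section (q, ξ) vanishing on no fibre, with 'the
resultant is a unit on B' in place of 'nonzero'; its proof reduces at once to the statement over a
field given here, which is the case B = Spec k.) -/
theorem result (k : Type u) [Field k] (n : ℕ) (hn : 3 ≤ n)
    (q : Fin 3 → k) (ξ : Fin (n + 1) → k) (hqξ : q ≠ 0 ∨ ξ ≠ 0) :
    (Algebra.Smooth k (MvPolynomial (Fin 2) k ⧸ Ideal.span ({(∑ i : Fin 3, MvPolynomial.C (q i) * MvPolynomial.X 0 ^ (i : ℕ)) + (∑ j : Fin (n + 1), MvPolynomial.C (ξ j) * MvPolynomial.X 0 ^ (j : ℕ)) * MvPolynomial.X 1} : Set (MvPolynomial (Fin 2) k))) ∧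
      Algebra.Smooth k (MvPolynomial (Fin 2) k ⧸ Ideal.span ({(∑ i : Fin 3, MvPolynomial.C (q i) * MvPolynomial.X 0 ^ (i : ℕ)) * MvPolynomial.X 1 + (∑ j : Fin (n + 1), MvPolynomial.C (ξ j) * MvPolynomial.X 0 ^ (j : ℕ))} : Set (MvPolynomial (Fin 2) k))) ∧
      Algebra.Smooth k (MvPolynomial (Fin 2) k ⧸ Ideal.span ({(∑ i : Fin 3, MvPolynomial.C (q i) * MvPolynomial.X 0 ^ (2 - (i : ℕ))) + (∑ j : Fin (n + 1), MvPolynomial.C (ξ j) * MvPolynomial.X 0 ^ (n - (j : ℕ))) * MvPolynomial.X 1} : Set (MvPolynomial (Fin 2) k))) ∧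
      Algebra.Smooth k (MvPolynomial (Fin 2) k ⧸ Ideal.span ({(∑ i : Fin 3, MvPolynomial.C (q i) * MvPolynomial.X 0 ^ (2 - (i : ℕ))) * MvPolynomial.X 1 + (∑ j : Fin (n + 1), MvPolynomial.C (ξ j) * MvPolynomial.X 0 ^ (n - (j : ℕ)))} : Set (MvPolynomial (Fin 2) k)))) ↔
    Polynomial.resultant (∑ i : Fin 3, Polynomial.C (q i) * Polynomial.X ^ (i : ℕ))
      (∑ j : Fin (n + 1), Polynomial.C (ξ j) * Polynomial.X ^ (j : ℕ)) 2 n ≠ 0 := by
  have e : ∀ (m : ℕ) (c : Fin (m + 1) → k),
      (∑ i : Fin (m + 1), MvPolynomial.C (c i) * (MvPolynomial.X 0 : MvPolynomial (Fin 2) k) ^ (i : ℕ)) =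
        Polynomial.aeval (MvPolynomial.X 0) (lo m c) ∧
      (∑ i : Fin (m + 1), MvPolynomial.C (c i) * (MvPolynomial.X 0 : MvPolynomial (Fin 2) k) ^ (m - (i : ℕ))) =
        Polynomial.aeval (MvPolynomial.X 0) (hi m c) := fun m c => by
    simp [lo, hi, MvPolynomial.algebraMap_eq]
  rw [(e 2 q).1, (e 2 q).2, (e n ξ).1, (e n ξ).2, ← and_assoc,
    pair_iff _ _ (hqξ.imp (lo_ne_zero 2 q) (lo_ne_zero n ξ)),
    pair_iff _ _ (hqξ.imp (hi_ne_zero 2 q) (hi_ne_zero n ξ))]
  exact resultant_iff n (by omega) q ξ hqξ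

end Groth.Agent.S19185
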