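import Groth.Statements.S19186
import Mathlib.RingTheory.Coprime.Lemmas
-- import your own Groth.Agent.* helpers here

set_option autoImplicit false
universe u
open OneMot

namespace Groth.Agent.S19186

/-- Let p and ℓ be distinct prime numbers, r and n natural numbers, and f : A → B a homomorphism of
abelian groups whose kernel and cokernel are annihilated by p^r (f a = 0 implies p^r • a = 0, and
every p^r • b lies in the image of f). Then f induces a bijection between the ℓ^n-torsion subgroups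
of A and B and a bijection A/ℓ^n A → B/ℓ^n B. Spelled out without quotients: every ℓ^n-torsion
element of B has exactly one ℓ^n-torsion preimage; an element of A whose image is an ℓ^n-multiple is
itself an ℓ^n-multiple; and every element of B is the sum of an image and an ℓ^n-multiple. -/
theorem result {A B : Type u} [AddCommGroup A] [AddCommGroup B] (f : A →+ B) (p ℓ r n : ℕ) (hp : p.Prime) (hl : ℓ.Prime) (hne : ℓ ≠ p) (hker : ∀ a : A, f a = 0 → p ^ r • a = 0) (hcoker : ∀ b : B, ∃ a : A, f a = p ^ r • b) : (∀ b : B, ℓ ^ n • b = 0 → ∃! a : A, ℓ ^ n • a = 0 ∧ f a = b) ∧ (∀ a : A, (∃ b' : B, f a = ℓ ^ n • b') → ∃ a' : A, a = ℓ ^ n • a') ∧ (∀ b : B, ∃ (a : A) (b' : B), b = f a + ℓ ^ n • b') := by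
  have key : ∀ e : ℕ, ∃ u v : ℤ, u * ((p ^ e : ℕ) : ℤ) + v * ((ℓ ^ n : ℕ) : ℤ) = 1 := by
    intro e
    have hc : Nat.Coprime (p ^ e) (ℓ ^ n) :=
      Nat.Coprime.pow _ _ ((Nat.coprime_primes hp hl).2 (Ne.symm hne))
    exact Nat.isCoprime_iff_coprime.2 hc
  obtain ⟨u, v, huv⟩ := key r
  have comb : ∀ {M : Type u} [AddCommGroup M] (x : M),
      u • (p ^ r) • x + v • (ℓ ^ n) • x = x := by
    intro M _ x
    rw [← natCast_zsmul x (p ^ r), ← natCast_zsmul x (ℓ ^ n), ← mul_smul, ← mul_smul,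
      ← add_smul, huv, one_smul]
  refine ⟨?_, ?_, ?_⟩
  · intro b hb
    obtain ⟨a0, ha0⟩ := hcoker b
    have h0 : f (ℓ ^ n • (u • a0)) = 0 := by
      rw [map_nsmul, map_zsmul, ha0, smul_comm (ℓ ^ n) u, smul_comm (ℓ ^ n) (p ^ r), hb, smul_zero,
        smul_zero]
    have h1 : u • (p ^ r) • b = b := by
      have := comb b
      rwa [hb, smul_zero, add_zero] at this
    have h2 : ℓ ^ n • (u • (p ^ r) • (u • a0)) = 0 := by
      rw [smul_comm (ℓ ^ n) u, smul_comm (ℓ ^ n) (p ^ r), hker _ h0, smul_zero]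
    have h3 : f (u • (p ^ r) • (u • a0)) = b := by
      rw [map_zsmul, map_nsmul, map_zsmul, ha0, h1, h1]
    refine ⟨_, ⟨h2, h3⟩, ?_⟩
    rintro y ⟨hy, hfy⟩
    have h4 : p ^ r • (y - u • (p ^ r) • (u • a0)) = 0 := hker _ (by rw [map_sub, hfy, h3, sub_self])
    have h5 : ℓ ^ n • (y - u • (p ^ r) • (u • a0)) = 0 := by rw [smul_sub, hy, h2, sub_self]
    have h6 := comb (y - u • (p ^ r) • (u • a0))
    rw [h4, h5, smul_zero, smul_zero, add_zero] at h6
    exact sub_eq_zero.1 h6.symm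
  · rintro a ⟨b', hb'⟩
    obtain ⟨a0, ha0⟩ := hcoker b'
    obtain ⟨u', v', huv'⟩ := key (r + r)
    have h0 : p ^ r • (p ^ r • a - ℓ ^ n • a0) = 0 :=
      hker _ (by rw [map_sub, map_nsmul, map_nsmul, hb', ha0, smul_comm, sub_self])
    rw [smul_sub, sub_eq_zero] at h0
    refine ⟨u' • (p ^ r • a0) + v' • a, ?_⟩
    calc a = (u' * ((p ^ (r + r) : ℕ) : ℤ) + v' * ((ℓ ^ n : ℕ) : ℤ)) • a := by rw [huv', one_smul]
      _ = u' • (p ^ r • (p ^ r • a)) + v' • (ℓ ^ n • a) := by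
        rw [add_smul, mul_smul, mul_smul, natCast_zsmul, natCast_zsmul, pow_add, mul_smul]
      _ = _ := by
        rw [h0, smul_add, smul_comm (ℓ ^ n) u', smul_comm (ℓ ^ n) v', smul_comm (p ^ r) (ℓ ^ n)]
  · intro b
    obtain ⟨a0, ha0⟩ := hcoker b
    refine ⟨u • a0, v • b, ?_⟩
    rw [map_zsmul, ha0, smul_comm (ℓ ^ n) v, comb]

end Groth.Agent.S19186
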