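import Groth.Statements.S19187
-- import your own Groth.Agent.* helpers here

set_option autoImplicit false
universe u
open Cpct

namespace Groth.Agent.S19187
set_option backward.isDefEq.respectTransparency false

open CategoryTheory AlgebraicGeometry in
/-- Let k be a field, X̄ and Ȳ schemes proper over Spec k, j : X → X̄ an open immersion with dense image
and v : Y → Ȳ an open immersion (compactifications of X and Y), f : X → Y a proper morphism and f̄ :
X̄ → Ȳ a morphism over Spec k with f̄ ∘ j = v ∘ f. Then the preimage under f̄ of the open v(Y) is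
the open j(X); equivalently, the complement of X in X̄ is the preimage of the complement of Y in Ȳ.
(The base field k is arbitrary: no perfectness assumption is needed.) -/
theorem result {k : Type u} [Field k] {X Y Xb Yb : Scheme.{u}} (a : Xb ⟶ Spec (CommRingCat.of k)) (b : Yb ⟶ Spec (CommRingCat.of k)) [IsProper a] [IsProper b] (j : X ⟶ Xb) [IsOpenImmersion j] (hj : Dense (Set.range j.base)) (v : Y ⟶ Yb) [IsOpenImmersion v] (f : X ⟶ Y) [IsProper f] (fb : Xb ⟶ Yb) (hfb : fb ≫ b = a) (hsq : j ≫ fb = f ≫ v) : fb ⁻¹ᵁ v.opensRange = j.opensRange := by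
  haveI : IsSeparated (v ≫ b) := inferInstance
  let W : Xb.Opens := fb ⁻¹ᵁ v.opensRange
  have hle : j.opensRange ≤ W := by
    rintro _ ⟨x, rfl⟩
    exact ⟨f x, (congrArg (fun φ : X ⟶ Yb => φ x) hsq).symm⟩
  let g : (W : Scheme.{u}) ⟶ Y := IsOpenImmersion.lift v (W.ι ≫ fb) (by
    rintro _ ⟨w, rfl⟩
    exact w.2)
  have hg : g ≫ v = W.ι ≫ fb := IsOpenImmersion.lift_fac _ _ _
  let l : X ⟶ (W : Scheme.{u}) := IsOpenImmersion.lift W.ι j (by
    rw [Scheme.Opens.range_ι]
    exact hle)
  have hl : l ≫ W.ι = j := IsOpenImmersion.lift_fac _ _ _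
  have hlg : l ≫ g = f := by
    rw [← cancel_mono v, Category.assoc, hg, ← Category.assoc, hl, hsq]
  haveI : IsSeparated g := by
    haveI : IsSeparated (g ≫ v ≫ b) := by
      rw [← Category.assoc, hg, Category.assoc, hfb]
      infer_instance
    exact IsSeparated.of_comp g (v ≫ b)
  haveI : IsProper (l ≫ g) := hlg ▸ ‹IsProper f›
  haveI : IsProper l := IsProper.of_comp l g
  refine le_antisymm ?_ hle
  intro w hw
  have hwc : (⟨w, hw⟩ : W) ∈ closure (Set.range l) := by
    rw [W.ι.isEmbedding.isInducing.closure_eq_preimage_closure_image]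
    show W.ι ⟨w, hw⟩ ∈ closure (W.ι '' Set.range l)
    have : W.ι '' Set.range l = Set.range j := by
      rw [← Set.range_comp, ← TopCat.coe_comp, ← Scheme.Hom.comp_base, hl]
    rw [this]
    exact hj _
  rw [(l.isClosedMap.isClosed_range).closure_eq] at hwc
  obtain ⟨x, hx⟩ := hwc
  exact ⟨x, (congrArg (fun φ : X ⟶ Xb => φ x) hl).symm.trans (congrArg W.ι hx)⟩

end Groth.Agent.S19187
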