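import Groth.Statements.S1919
import Groth.Agent.Lib.Cyc.PurInsepFibre
import Mathlib.FieldTheory.IsPerfectClosure

set_option autoImplicit false
universe u
open CategoryTheory AlgebraicGeometry
open CategoryTheory.Limits
open RelCyc

namespace Groth.Agent.S1919

/-- For a scheme X of finite type over a field k of characteristic p > 0, with base change X' = X ×_k k'
to the perfect closure k', the base change map Z_r(X) → Z_r(X') (flat pullback along the projection)
has p-power torsion cokernel: for every r-cycle β on X' some p^n β is the base change of an r-cycle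
on X. Dimension functions are transcendence degrees of residue fields over the ground fields. -/
theorem result (k : Type u) [Field k] (p : ℕ) [Fact p.Prime] [CharP k p] (X : Scheme.{u}) (f : X ⟶ Spec (CommRingCat.of k)) [LocallyOfFiniteType f] [QuasiCompact f] (δ : X → ℤ) (hδ : Cyc.DeltaCompat f δ (fun _ => 0)) (δ' : ↥(pullback f (Spec.map (CommRingCat.ofHom (PerfectClosure.of k p)))) → ℤ) (hδ' : Cyc.DeltaCompat (pullback.snd f (Spec.map (CommRingCat.ofHom (PerfectClosure.of k p)))) δ' (fun _ => 0)) (r : ℤ) (β : AlgebraicCycle (pullback f (Spec.map (CommRingCat.ofHom (PerfectClosure.of k p)))) ℤ) (hβ : β ∈ Cyc.Zk _ δ' r) : ∃ (n : ℕ) (α : AlgebraicCycle X ℤ), α ∈ Cyc.Zk X δ r ∧ (p : ℤ) ^ n • ⇑β = Cyc.pullFun (pullback.fst f (Spec.map (CommRingCat.ofHom (PerfectClosure.of k p)))) δ' δ 0 ⇑α := by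
  classical
  let := (PerfectClosure.of k p).toAlgebra
  have : IsPRadical (algebraMap k (PerfectClosure k p)) p := PerfectClosure.isPRadical k p
  have : IsPurelyInseparable k (PerfectClosure k p) := IsPRadical.isPurelyInseparable k (PerfectClosure k p) p
  let π := Lib.Cyc.PurInsepFibre.proj k (PerfectClosure k p) f
  have : ExpChar k p := ExpChar.prime Fact.out
  have hLN : IsLocallyNoetherian (pullback f (Spec.map (CommRingCat.ofHom (PerfectClosure.of k p)))) :=
    LocallyOfFiniteType.isLocallyNoetherian (pullback.snd f (Spec.map (CommRingCat.ofHom (PerfectClosure.of k p))))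
  have : CompactSpace ↥(pullback f (Spec.map (CommRingCat.ofHom (PerfectClosure.of k p)))) :=
    QuasiCompact.compactSpace_of_compactSpace (pullback.snd f (Spec.map (CommRingCat.ofHom (PerfectClosure.of k p))))
  have hfin : (Function.support ⇑β).Finite := by
    simpa using (β.locallyFiniteSupport).finite_inter_support_of_isCompact isCompact_univ
  have hm : ∀ a, ∃ m : ℕ, Lib.Cyc.FibLen.fibLen π a = ((p ^ m : ℕ) : ℕ∞) :=
    @Lib.Cyc.PurInsepFibre.exists_fibLen_eq_pow k (PerfectClosure k p) _ _ _ _ X f p _ hLN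
  choose m hm using hm
  have hd : ∀ a, δ' a = δ (π a) := by
    intro a
    obtain ⟨n₁, h₁, h₁'⟩ := Lib.Cyc.Residue.exists_trdegAt hδ (π a)
    obtain ⟨n₂, h₂, h₂'⟩ := Lib.Cyc.Residue.exists_trdegAt hδ' a
    have e : Lib.Cyc.Residue.trdegAt (π ≫ f) a =
        Lib.Cyc.Residue.trdegAt (pullback.snd f (Spec.map (CommRingCat.ofHom (algebraMap k (PerfectClosure k p)))) ≫
          Spec.map (CommRingCat.ofHom (algebraMap k (PerfectClosure k p)))) a :=
      Lib.Cyc.FieldDim.trdegAt_congr pullback.condition a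
    rw [Lib.Cyc.Residue.trdegAt_comp, Lib.Cyc.Residue.trdegAt_comp,
      Lib.Cyc.PurInsepFibre.trdegAt_proj, Lib.Cyc.PurInsepFibre.trdegAt_specMap_algebraMap,
      add_zero, zero_add] at e
    have hnn : n₁ = n₂ := by
      have h := h₁.symm.trans (e.trans h₂)
      exact_mod_cast h
    simp only [h₁', h₂', hnn]
  let n := ∑ a ∈ hfin.toFinset, m a
  have hmn : ∀ a, β a ≠ 0 → m a ≤ n := fun a ha =>
    Finset.single_le_sum (f := m) (fun _ _ => Nat.zero_le _) (hfin.mem_toFinset.mpr ha)
  let α : X → ℤ := fun x => if h : ∃ a, π a = x then β h.choose * (p : ℤ) ^ (n - m h.choose) else 0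
  have hα : ∀ a, α (π a) = β a * (p : ℤ) ^ (n - m a) := by
    intro a
    have h : ∃ b, π b = π a := ⟨a, rfl⟩
    have e : h.choose = a := Lib.Cyc.PurInsepFibre.proj_injective k _ f h.choose_spec
    show (if h : ∃ b, π b = π a then β h.choose * (p : ℤ) ^ (n - m h.choose) else 0) = _
    rw [dif_pos h, e]
  have hsupp : (Function.support α).Finite := by
    refine (hfin.image π).subset fun x hx => ?_
    obtain ⟨a, rfl⟩ : ∃ a, π a = x := by
      by_contra h
      exact hx (dif_neg h)
    exact ⟨a, fun h0 => hx (by rw [hα, h0, zero_mul]), rfl⟩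
  refine ⟨n, ⟨α, by simp, fun z _ => ⟨Set.univ, Filter.univ_mem,
    by rw [Set.univ_inter]; exact hsupp⟩⟩, fun x hx => ?_, ?_⟩
  · by_contra hne
    obtain ⟨a, rfl⟩ : ∃ a, π a = x := by
      by_contra h
      exact hne (dif_neg h)
    have h0 : β a = 0 := hβ a (by rw [hd a]; exact hx)
    exact hne (show α (π a) = 0 by rw [hα, h0, zero_mul])
  · funext a
    rw [Pi.smul_apply, Lib.Cyc.FibLen.pullFun_apply, if_pos (by rw [add_zero]; exact hd a)]
    show _ = α (π a) * ((Lib.Cyc.FibLen.fibLen π a).toNat : ℤ)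
    rw [hα, hm, ENat.toNat_coe, smul_eq_mul, Nat.cast_pow]
    by_cases h0 : β a = 0
    · simp [h0]
    · rw [mul_assoc, ← pow_add, Nat.sub_add_cancel (hmn a h0), mul_comm]

end Groth.Agent.S1919
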