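import Groth.Statements.S19194
import Mathlib.Order.CompleteLattice.Basic
import Mathlib.Algebra.BigOperators.Pi

set_option autoImplicit false
universe u
open CategoryTheory Opposite TopologicalSpace
open CohTop

namespace Groth.Agent.S19194

open W4c6blochformula0cyc in
/-- Let `X` be a topological space, `U` a family of opens of `X` indexed by a finite type, `A y` an
abelian group for every point `y` of `X`, and `F` the presheaf `V ↦ ∏_{y ∈ V} A y` with the
projections as restriction maps. Let `S α ⊆ U_α` be subsets such that every point of `X` lies in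
exactly one `S α`. For an open `V` and an index `β` let `E V β : F(V ∩ U_β) → F(V)` keep the
components at the points of `S β` and put `0` at all other points. Then: (i) `∑_α E V α (f|_{V ∩
U_α}) = f` for every open `V` and every `f ∈ F(V)`; and (ii) `(E V α g)|_{V ∩ U_β} = E (V ∩ U_β) α
(g|_{V ∩ U_β ∩ U_α})` for every open `V`, all indices `α, β` and every `g ∈ F(V ∩ U_α)`. (These are
exactly the hypotheses (i) and (ii) of the algebraic partition-of-unity statement, here for every
open `V` rather than only for finite intersections of members of the family. The published statement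
takes the presheaf of direct sums `⊕_{y ∈ V} A y`; the product presheaf used here contains it, these
maps and the restrictions preserve it, and both identities restrict to it.) -/
theorem result {X : Type u} [TopologicalSpace X]
    {ι : Type u} [Fintype ι] (A : X → AddCommGrpCat.{u}) (U : ι → Opens X) (S : ι → Set X)
    (hSU : ∀ α, S α ⊆ (U α : Set X)) (hS : ∀ x : X, ∃! α, x ∈ S α) :
    (∀ (V : Opens X) (f : (prodPresheaf A).obj (op V)),
        ∑ α, switchExt A U S V α (res (prodPresheaf A) inf_le_left f) = f) ∧
      ∀ (V : Opens X) (α β : ι) (g : (prodPresheaf A).obj (op (V ⊓ U α))),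
        res (prodPresheaf A) inf_le_left (switchExt A U S V α g) =
          switchExt A U S (V ⊓ U β) α (res (prodPresheaf A) (inf_le_inf_right (U α) inf_le_left) g) := by
  classical
  have kdef : ∀ (V : Opens X) (β : ι) (g : (prodPresheaf A).obj (op (V ⊓ U β))) (y : V),
      switchExt A U S V β g y = ((if h : y.1 ∈ U β ∧ y.1 ∈ S β then
        (Pi.evalAddMonoidHom (fun z : (V ⊓ U β : Opens X) => (A z.1 : Type u)) ⟨y.1, ⟨y.2, h.1⟩⟩ :
          (prodPresheaf A).obj (op (V ⊓ U β)) →+ A y.1) else 0) :
        (prodPresheaf A).obj (op (V ⊓ U β)) →+ A y.1) g := fun _ _ _ _ => by rfl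
  have kpos : ∀ (V : Opens X) (β : ι) (g : (prodPresheaf A).obj (op (V ⊓ U β))) (y : V)
      (h : y.1 ∈ U β ∧ y.1 ∈ S β),
      switchExt A U S V β g y = g ⟨y.1, ⟨y.2, h.1⟩⟩ := fun V β g y h =>
    (kdef V β g y).trans ((DFunLike.congr_fun (dif_pos h) g).trans rfl)
  have kneg : ∀ (V : Opens X) (β : ι) (g : (prodPresheaf A).obj (op (V ⊓ U β))) (y : V),
      ¬ (y.1 ∈ U β ∧ y.1 ∈ S β) → switchExt A U S V β g y = 0 := fun V β g y h =>
    (kdef V β g y).trans ((DFunLike.congr_fun (dif_neg h) g).trans rfl)
  constructor
  · intro V f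
    funext y
    obtain ⟨α₀, hα₀, huniq⟩ := hS y.1
    let ev : (prodPresheaf A).obj (op V) →+ A y.1 :=
      Pi.evalAddMonoidHom (fun z : V => (A z.1 : Type u)) y
    suffices h : ev (∑ α, switchExt A U S V α (res (prodPresheaf A) inf_le_left f)) = ev f from h
    rw [map_sum, Finset.sum_eq_single α₀]
    · refine (kdef V α₀ _ y).trans ?_
      exact (DFunLike.congr_fun (dif_pos ⟨hSU α₀ hα₀, hα₀⟩) _).trans rfl
    · intro β _ hβ
      refine (kdef V β _ y).trans ?_
      exact (DFunLike.congr_fun (dif_neg (fun h => hβ (huniq β h.2))) _).trans rfl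
    · exact fun h => absurd (Finset.mem_univ _) h
  · intro V α β g
    funext y
    by_cases h : y.1 ∈ U α ∧ y.1 ∈ S α
    · refine (kpos V α g ⟨y.1, y.2.1⟩ h).trans (Eq.trans ?_
        (kpos (V ⊓ U β) α (res (prodPresheaf A) (inf_le_inf_right (U α) inf_le_left) g) y h).symm)
      rfl
    · exact (kneg V α g ⟨y.1, y.2.1⟩ h).trans
        (kneg (V ⊓ U β) α (res (prodPresheaf A) (inf_le_inf_right (U α) inf_le_left) g) y h).symm

end Groth.Agent.S19194
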