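import Groth.Statements.S19196


set_option autoImplicit false
universe u
open RelS1

namespace Groth.Agent.S19196

/-- Let R be a Noetherian commutative ring and N a finitely generated R-module which fails Serre's
condition (S_1), in the sense that some associated prime of N is not a minimal prime of the
annihilator of N. Then there exist an element a of R lying in no minimal prime of the annihilator of
N and a nonzero element b of N with a • b = 0; thus the basic open set D(a) meets the support of N
densely while restriction to it is not injective on N. -/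
theorem result (R N : Type u) [CommRing R] [IsNoetherianRing R]
    [AddCommGroup N] [Module R N] [Module.Finite R N]
    (h : ¬ associatedPrimes R N ⊆ (Module.annihilator R N).minimalPrimes) :
    ∃ (a : R) (b : N), (∀ P ∈ (Module.annihilator R N).minimalPrimes, a ∉ P) ∧ b ≠ 0 ∧ a • b = 0 := by
  obtain ⟨q, hq, hqm⟩ := Set.not_subset.1 h
  have hfin : (Module.annihilator R N).minimalPrimes.Finite :=
    Ideal.finite_minimalPrimes_of_isNoetherianRing R _
  have hqp : q.IsPrime := hq.isPrime
  have hann : Module.annihilator R N ≤ q := Submodule.annihilator_top (R := R) (M := N) ▸ hq.annihilator_le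
  have hnot : ¬ (q : Set R) ⊆ ⋃ P ∈ hfin.toFinset, ((fun P => P) P : Ideal R) := by
    intro hsub
    obtain ⟨P, hP, hle⟩ := (Ideal.subset_union_prime (⊥ : Ideal R) ⊥
      (fun P hP _ _ => (hfin.mem_toFinset.1 hP).1.1) ).1 hsub
    have hP' := hfin.mem_toFinset.1 hP
    exact hqm (le_antisymm hle (hP'.2 ⟨hqp, hann⟩ hle) ▸ hP')
  obtain ⟨a, haq, ha⟩ := Set.not_subset.1 hnot
  obtain ⟨y, hy⟩ := ((isAssociatedPrime_iff_exists_injective_linearMap ..).1 hq).2
  refine ⟨a, y (Ideal.Quotient.mk q 1), fun P hP haP => ha ?_, ?_, ?_⟩
  · exact Set.mem_iUnion₂.2 ⟨P, hfin.mem_toFinset.2 hP, haP⟩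
  · intro h0
    have := hy (h0.trans (map_zero y).symm)
    exact hqp.ne_top ((Ideal.eq_top_iff_one _).2 (Ideal.Quotient.eq_zero_iff_mem.1 this))
  · rw [← map_smul, Algebra.smul_def, Ideal.Quotient.algebraMap_eq, ← map_mul, mul_one,
      Ideal.Quotient.eq_zero_iff_mem.2 haq, map_zero]

end Groth.Agent.S19196
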