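import Groth.Statements.S19202
import Mathlib.AlgebraicGeometry.Morphisms.Flat
import Mathlib.AlgebraicGeometry.IdealSheaf.Subscheme
import Mathlib.RingTheory.Flat.TorsionFree
set_option autoImplicit false
universe u
open CategoryTheory AlgebraicGeometry
open FlatMor

namespace Groth.Agent.S19202

theorem exists_colon {Y : Scheme.{u}} (I : Y.IdealSheafData) (c : ∀ U : Y.affineOpens, Γ(Y, U))
    (hc : ∀ (U : Y.affineOpens) (g : Γ(Y, U)),
      Y.presheaf.map (homOfLE <| Y.basicOpen_le g).op (c U) = c (Y.affineBasicOpen g)) :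
    ∃ J : Y.IdealSheafData, ∀ (U : Y.affineOpens) (a : Γ(Y, U)), a ∈ J.ideal U ↔ c U * a ∈ I.ideal U := by
  let J : ∀ U : Y.affineOpens, Ideal Γ(Y, U) := fun U ↦
    Submodule.comap (LinearMap.mulLeft Γ(Y, U) (c U)) (I.ideal U)
  have hmem : ∀ (U : Y.affineOpens) (a : Γ(Y, U)), a ∈ J U ↔ c U * a ∈ I.ideal U := fun _ _ ↦ Iff.rfl
  refine ⟨{ ideal := J, map_ideal_basicOpen := fun U g ↦ ?_ }, hmem⟩
  have := U.2.isLocalization_basicOpen g
  let φ := (Y.presheaf.map (homOfLE <| Y.basicOpen_le g).op).hom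
  have hI : (I.ideal U).map φ = I.ideal (Y.affineBasicOpen g) := I.map_ideal_basicOpen U g
  have hI' : ∀ z : Γ(Y, Y.basicOpen g), z ∈ J (Y.affineBasicOpen g) ↔
      φ (c U) * z ∈ (I.ideal U).map φ := fun z ↦ by
    rw [show φ (c U) = c (Y.affineBasicOpen g) from hc U g, hI]; exact Iff.rfl
  apply le_antisymm
  · rw [Ideal.map_le_iff_le_comap]
    intro a ha
    refine (hI' (φ a)).2 ?_
    rw [← map_mul]
    exact Ideal.mem_map_of_mem φ ((hmem _ _).1 ha)
  · intro b hb
    replace hb := (hI' b).1 hb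
    obtain ⟨⟨a, m⟩, ham⟩ := IsLocalization.surj (Submonoid.powers g) b
    simp only [RingHom.algebraMap_toAlgebra] at ham
    have hin : φ (c U * a) ∈ (I.ideal U).map φ := by
      rw [map_mul, show φ a = _ from ham.symm, ← mul_assoc]
      exact Ideal.mul_mem_right _ _ hb
    replace hin : algebraMap Γ(Y, U) Γ(Y, Y.basicOpen g) (c U * a) ∈
        (I.ideal U).map (algebraMap Γ(Y, U) Γ(Y, Y.basicOpen g)) := hin
    rw [IsLocalization.algebraMap_mem_map_algebraMap_iff (Submonoid.powers g)] at hin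
    obtain ⟨n, hn, hna⟩ := hin
    have hu : IsUnit (φ (n * m.1)) := by
      have := IsLocalization.map_units (M := Submonoid.powers g) Γ(Y, Y.basicOpen g) (⟨n, hn⟩ * m)
      simpa [RingHom.algebraMap_toAlgebra, φ] using this
    refine (Ideal.mul_unit_mem_iff_mem _ hu).1 ?_
    have : φ (n * a) ∈ (J U).map φ := Ideal.mem_map_of_mem φ (by rw [hmem, mul_left_comm]; exact hna)
    have he : b * φ (n * m.1) = φ (n * a) := by
      rw [map_mul, map_mul, mul_left_comm, ← ham]
    rw [he]
    exact this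

/-- Let R be a Dedekind domain, X and Y schemes over Spec R with X flat over Spec R, and f : X → Y a
morphism over Spec R. Then the scheme-theoretic image of f, i.e. the closed subscheme of Y cut out
by the kernel ideal sheaf of f, is flat over Spec R. (The published statement takes the base to be a
non-singular curve and f proper; this row takes the spectrum of any Dedekind domain and any morphism
f over it.) -/
theorem result (R : Type u) [CommRing R] [IsDedekindDomain R]
    {X Y : Scheme.{u}} (p : X ⟶ Spec (CommRingCat.of R)) (q : Y ⟶ Spec (CommRingCat.of R))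
    (f : X ⟶ Y) (w : f ≫ q = p) [Flat p] : Flat (f.imageι ≫ q) := by
  have hcov : ∀ U : Y.affineOpens,
      Flat (Spec.map (CommRingCat.ofHom (Ideal.Quotient.mk (f.ker.ideal U))) ≫ U.2.fromSpec ≫ q) := by
    intro U
    obtain ⟨φ, hφ⟩ := Spec.map_surjective (U.2.fromSpec ≫ q)
    rw [← hφ, ← Spec.map_comp, Flat.SpecMap_iff]
    algebraize [(φ ≫ CommRingCat.ofHom (Ideal.Quotient.mk (f.ker.ideal U))).hom]
    change Module.Flat R (Γ(Y, U) ⧸ f.ker.ideal U)
    rw [IsDedekindDomain.flat_iff_torsion_eq_bot, eq_bot_iff]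
    rintro a ⟨⟨r, hr⟩, hra⟩
    have hr0 : r ≠ 0 := nonZeroDivisors.ne_zero hr
    let e := (Scheme.ΓSpecIso (CommRingCat.of R)).inv r
    have hφe : φ r = q.appLE ⊤ U.1 le_top e := by
      have h1 : (Spec.map φ).appTop e = (Scheme.ΓSpecIso Γ(Y, U)).inv (φ r) :=
        congr($(Scheme.ΓSpecIso_inv_naturality φ).hom r).symm
      rw [hφ, Scheme.Hom.comp_appTop] at h1
      simp only [Scheme.Hom.appTop] at h1
      erw [IsAffineOpen.fromSpec_app_of_le _ _ le_top] at h1
      apply (Scheme.ΓSpecIso Γ(Y, U)).commRingCatIsoToRingEquiv.symm.injective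
      replace h1 : (q.app ⊤ ≫ Y.presheaf.map (homOfLE le_top).op ≫ (Scheme.ΓSpecIso Γ(Y, U)).inv ≫
          (Spec Γ(Y, U)).presheaf.map (𝟙 (Opposite.op ⊤))) e =
            (Scheme.ΓSpecIso Γ(Y, U)).inv (φ r) := h1
      rw [CategoryTheory.Functor.map_id, Category.comp_id] at h1
      exact h1.symm
    obtain ⟨J, hJ⟩ := exists_colon f.ker (fun U ↦ q.appLE ⊤ U.1 le_top e) (fun U g ↦ by
      rw [← CommRingCat.comp_apply, Scheme.Hom.appLE_map]
      rfl)
    have hJle : J ≤ f.ker := by
      refine Scheme.IdealSheafData.le_ofIdeals_iff.2 fun V b hb ↦ ?_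
      rw [RingHom.mem_ker]
      have h1 : f.app V.1 (q.appLE ⊤ V.1 le_top e) * f.app V.1 b = 0 := by
        rw [← map_mul]; exact f.ideal_ker_le V ((hJ V b).1 hb)
      apply TopCat.Sheaf.eq_of_locally_eq' X.sheaf
        (fun W : {W : X.affineOpens // W.1 ≤ f ⁻¹ᵁ V.1} ↦ W.1.1) (f ⁻¹ᵁ V.1) (fun W ↦ homOfLE W.2)
      · intro z hz
        obtain ⟨W, hW, hzW, hle⟩ := exists_isAffineOpen_mem_and_subset hz
        exact TopologicalSpace.Opens.mem_iSup.2 ⟨⟨⟨W, hW⟩, hle⟩, hzW⟩
      · rintro ⟨⟨W, hW⟩, hle⟩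
        refine Eq.trans ?_ (map_zero _).symm
        have h2 := congrArg (X.presheaf.map (homOfLE hle).op) h1
        rw [map_mul, map_zero] at h2
        have h3 : X.presheaf.map (homOfLE hle).op (f.app V.1 (q.appLE ⊤ V.1 le_top e)) =
            p.appLE ⊤ W le_top e := by
          subst w
          rw [← Scheme.Hom.appLE_comp_appLE f q ⊤ V.1 W le_top hle]
          rfl
        rw [h3] at h2
        have hfl := Flat.flat_appLE p (isAffineOpen_top (Spec (CommRingCat.of R))) hW le_top
        algebraize [(p.appLE ⊤ W le_top).hom]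
        have he : IsRegular e := by
          refine IsRegular.of_ne_zero fun h ↦ hr0 ?_
          exact (Scheme.ΓSpecIso (CommRingCat.of R)).commRingCatIsoToRingEquiv.symm.injective
            (h.trans (map_zero _).symm)
        exact Module.Flat.isSMulRegular_of_isRegular (M := Γ(X, W)) he
          (h2.trans (smul_zero e).symm)
    obtain ⟨b, rfl⟩ := Ideal.Quotient.mk_surjective a
    rw [Submodule.mem_bot, Ideal.Quotient.eq_zero_iff_mem]
    apply hJle U
    rw [hJ, ← Ideal.Quotient.eq_zero_iff_mem, map_mul, ← hφe]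
    exact hra
  rw [IsZariskiLocalAtSource.iff_of_openCover (P := @Flat) f.ker.subschemeCover.openCover]
  intro U
  have := hcov U
  change Flat (f.ker.subschemeCover.f U ≫ f.ker.subschemeι ≫ q)
  have h2 : f.ker.subschemeCover.f U ≫ f.ker.subschemeι =
      Spec.map (CommRingCat.ofHom (Ideal.Quotient.mk (f.ker.ideal U))) ≫ U.2.fromSpec := by
    refine (Scheme.IdealSheafData.subschemeCover_map_subschemeι f.ker U).trans ?_
    simp only [Scheme.IdealSheafData.glueDataObjι, Category.assoc, IsAffineOpen.isoSpec_inv_ι]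
    rfl
  have h3 : f.ker.subschemeCover.f U ≫ f.ker.subschemeι ≫ q =
      Spec.map (CommRingCat.ofHom (Ideal.Quotient.mk (f.ker.ideal U))) ≫ U.2.fromSpec ≫ q :=
    (Category.assoc _ _ _).symm.trans ((congrArg (· ≫ q) h2).trans (Category.assoc _ _ _))
  exact h3.symm ▸ this

end Groth.Agent.S19202
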