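import Groth.Statements.S19206
import Groth.Agent.Lib.Lech.Ineq

set_option autoImplicit false
universe u
open Filter
open LocAlg

namespace Groth.Agent.S19206

/-- Let O be a Noetherian local ring of Krull dimension r which contains a field, with maximal ideal m,
and let I be an m-primary ideal (I ⊆ m and m^N ⊆ I for some N). Write e(I) for the Samuel
multiplicity of I, the limit of r!·length(O/I^n)/n^r, and e(O) for that of m. Then e(I) ≤
r!·e(O)·length(O/I); consequently the supremum of e(I)/(r!·length(O/I)) over such I is at most e(O).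
(Stated for real numbers e(I), e(O) equal to those limits; the hypothesis that O contains a field is
the standing equicharacteristic convention of the section and is not needed for the inequality.) -/
theorem result (O : Type u) [CommRing O] [IsNoetherianRing O] [IsLocalRing O]
    (K : Type u) [Field K] [Algebra K O] (r : ℕ) (hr : ringKrullDim O = r)
    (I : Ideal O) (hI : I ≤ IsLocalRing.maximalIdeal O) (hIN : ∃ N : ℕ, IsLocalRing.maximalIdeal O ^ N ≤ I)
    (eI eO : ℝ)
    (heI : Tendsto (fun n : ℕ => (r.factorial : ℝ) * ((Module.length O (O ⧸ I ^ n)).toNat : ℝ) / (n : ℝ) ^ r)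
      atTop (nhds eI))
    (heO : Tendsto (fun n : ℕ => (r.factorial : ℝ) *
        ((Module.length O (O ⧸ IsLocalRing.maximalIdeal O ^ n)).toNat : ℝ) / (n : ℝ) ^ r) atTop (nhds eO)) :
    eI ≤ (r.factorial : ℝ) * eO * ((Module.length O (O ⧸ I)).toNat : ℝ) := by
  obtain ⟨s, x, hx⟩ := Submodule.fg_iff_exists_fin_generating_family.1
    (IsNoetherian.noetherian (IsLocalRing.maximalIdeal O))
  replace hx : Ideal.span (Set.range x) = IsLocalRing.maximalIdeal O := hx
  obtain ⟨N, hN⟩ := hIN
  rw [← hx] at hN heO
  refine Groth.Agent.Lib.Lech.lech_inequality x ?_ I hN heO heI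
  have : IsSimpleModule O (O ⧸ Ideal.span (Set.range x)) := by
    rw [hx, isSimpleModule_iff_isCoatom, ← Ideal.isMaximal_def]
    infer_instance
  rw [Module.length_eq_one O (O ⧸ Ideal.span (Set.range x))]
  exact ENat.one_ne_top

end Groth.Agent.S19206
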