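import Groth.Statements.S19207
import Groth.Agent.Lib.DoublePt.Ideals
-- import your own Groth.Agent.* helpers here

set_option autoImplicit false
universe u
open Filter
open LocAlg

namespace Groth.Agent.S19207

open Groth.Agent.DoublePt in
lemma length_map_quotient {k : Type u} [Field k] (F J : Ideal (MvPowerSeries (Fin 3) k)) :
    Module.length (MvPowerSeries (Fin 3) k ⧸ F)
        ((MvPowerSeries (Fin 3) k ⧸ F) ⧸ J.map (Ideal.Quotient.mk F)) = len k (F ⊔ J) := by
  rw [← Module.length_eq_of_surjective (S := MvPowerSeries (Fin 3) k)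
    (R := MvPowerSeries (Fin 3) k ⧸ F) Ideal.Quotient.mk_surjective]
  exact LinearEquiv.length_eq
    (DoubleQuot.quotQuotEquivQuotSupₐ (MvPowerSeries (Fin 3) k) F J).toLinearEquiv

/-- Let k be a field and n ≥ 3, and let A = k[[x, y, t]]/(x^2 − y^n), the power-series ring in t over
the higher double point O = k[[x, y]]/(x^2 − y^n), a two-dimensional local ring. The ideal I = (x^2,
xy, y^2, xt, yt^2, t^4) of A has length(A/I) = 7 and Samuel multiplicity e(I) = 16, in the sense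
that 2·length(A/I^m)/m^2 tends to 16. Hence e(I)/(2!·length(A/I)) = 8/7, which gives the bound
e_1(O) ≥ 8/7 for the first flat multiplicity of a higher double point (the supremum of
e(I)/(2!·length(A/I)) over ideals of finite colength of A = O[[t]]). Here x, y, t are the
power-series variables indexed 0, 1, 2. -/
theorem result (k : Type u) [Field k] (n : ℕ) (hn : 3 ≤ n)
    (I : Ideal (MvPowerSeries (Fin 3) k ⧸ Ideal.span {(MvPowerSeries.X 0 ^ 2 - MvPowerSeries.X 1 ^ n : MvPowerSeries (Fin 3) k)}))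
    (hI : I = Ideal.map (Ideal.Quotient.mk (Ideal.span {(MvPowerSeries.X 0 ^ 2 - MvPowerSeries.X 1 ^ n : MvPowerSeries (Fin 3) k)}))
      (Ideal.span {(MvPowerSeries.X 0 ^ 2 : MvPowerSeries (Fin 3) k), MvPowerSeries.X 0 * MvPowerSeries.X 1,
        MvPowerSeries.X 1 ^ 2, MvPowerSeries.X 0 * MvPowerSeries.X 2,
        MvPowerSeries.X 1 * MvPowerSeries.X 2 ^ 2, MvPowerSeries.X 2 ^ 4})) :
    Module.length (MvPowerSeries (Fin 3) k ⧸ Ideal.span {(MvPowerSeries.X 0 ^ 2 - MvPowerSeries.X 1 ^ n : MvPowerSeries (Fin 3) k)}) ((MvPowerSeries (Fin 3) k ⧸ Ideal.span {(MvPowerSeries.X 0 ^ 2 - MvPowerSeries.X 1 ^ n : MvPowerSeries (Fin 3) k)}) ⧸ I) = 7 ∧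
      Tendsto (fun m : ℕ => (2 : ℝ) * ((Module.length (MvPowerSeries (Fin 3) k ⧸ Ideal.span {(MvPowerSeries.X 0 ^ 2 - MvPowerSeries.X 1 ^ n : MvPowerSeries (Fin 3) k)}) ((MvPowerSeries (Fin 3) k ⧸ Ideal.span {(MvPowerSeries.X 0 ^ 2 - MvPowerSeries.X 1 ^ n : MvPowerSeries (Fin 3) k)}) ⧸ I ^ m)).toNat : ℝ) / (m : ℝ) ^ 2)
        atTop (nhds 16) := by
  subst hI
  have hf : (MvPowerSeries.X 0 ^ 2 - MvPowerSeries.X 1 ^ n : MvPowerSeries (Fin 3) k) =
      DoublePt.eqn k n := by simp [DoublePt.eqn, DoublePt.mon_eq]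
  have hII : Ideal.span {(MvPowerSeries.X 0 ^ 2 : MvPowerSeries (Fin 3) k),
      MvPowerSeries.X 0 * MvPowerSeries.X 1, MvPowerSeries.X 1 ^ 2,
      MvPowerSeries.X 0 * MvPowerSeries.X 2, MvPowerSeries.X 1 * MvPowerSeries.X 2 ^ 2,
      MvPowerSeries.X 2 ^ 4} = DoublePt.II k := by
    rw [DoublePt.II, DoublePt.mi_eq_span]
    simp [Set.image_insert_eq, DoublePt.mon_eq]
  constructor
  · rw [length_map_quotient, hII, hf]
    rw [show Ideal.span {DoublePt.eqn k n} ⊔ DoublePt.II k = DoublePt.II k from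
      sup_eq_right.2 (DoublePt.eqn_mem k n
        (DoublePt.mon_mem k (2, 0, 0) (by simp) ⟨le_rfl, le_rfl, le_rfl⟩)
        (DoublePt.mon_mem k (0, 2, 0) (by simp) ⟨le_rfl, le_trans (by norm_num) hn, le_rfl⟩))]
    exact DoublePt.len_seven k
  · have key : ∀ j : ℕ, ∃ L : ℕ,
        Module.length (MvPowerSeries (Fin 3) k ⧸ Ideal.span {(MvPowerSeries.X 0 ^ 2 -
          MvPowerSeries.X 1 ^ n : MvPowerSeries (Fin 3) k)})
          ((MvPowerSeries (Fin 3) k ⧸ Ideal.span {(MvPowerSeries.X 0 ^ 2 -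
          MvPowerSeries.X 1 ^ n : MvPowerSeries (Fin 3) k)}) ⧸
          (Ideal.map (Ideal.Quotient.mk _) (DoublePt.II k)) ^ (j + 1)) = L ∧
        2 * (2 * j) * (2 * j + 1) ≤ L ∧ L ≤ 2 * (2 * (j + 1)) * (2 * (j + 1) + 1) := by
      intro j
      rw [← Ideal.map_pow, length_map_quotient, hf]
      have hlo : DoublePt.len k (DoublePt.FI k n ⊔ DoublePt.AI k ^ (2 * j)) ≤
          DoublePt.len k (Ideal.span {DoublePt.eqn k n} ⊔ DoublePt.II k ^ (j + 1)) := by
        refine DoublePt.length_quotient_antitone (sup_le le_sup_left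
          ((DoublePt.II_pow_le k hn j).trans (sup_le (sup_le ?_ ?_) le_sup_left)))
        · exact (Ideal.pow_le_pow_right (by omega)).trans le_sup_right
        · exact (Ideal.mul_le_right (J := DoublePt.AI k ^ (2 * j))).trans le_sup_right
      have hhi : DoublePt.len k (Ideal.span {DoublePt.eqn k n} ⊔ DoublePt.II k ^ (j + 1)) ≤
          DoublePt.len k (DoublePt.FI k n ⊔ DoublePt.AI k ^ (2 * (j + 1))) :=
        DoublePt.length_quotient_antitone
          (sup_le_sup_left (DoublePt.AI_pow_le k (j + 1)) _)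
      rw [DoublePt.len_AI_pow k (by omega)] at hlo hhi
      obtain ⟨L, hL⟩ := ENat.ne_top_iff_exists.1 (ne_top_of_le_ne_top (ENat.natCast_ne_top _) hhi)
      rw [← hL] at hlo hhi
      exact ⟨L, hL.symm, ENat.natCast_le_natCast.1 hlo, ENat.natCast_le_natCast.1 hhi⟩
    rw [hII]
    have hlim : ∀ c d : ℝ, Tendsto (fun m : ℕ => 16 + c / (m : ℝ) + d / (m : ℝ) ^ 2)
        atTop (nhds 16) := by
      intro c d
      have h1 : Tendsto (fun m : ℕ => c / (m : ℝ)) atTop (nhds 0) :=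
        tendsto_const_div_atTop_nhds_zero_nat c
      have h2 : Tendsto (fun m : ℕ => d / (m : ℝ) ^ 2) atTop (nhds 0) :=
        (tendsto_natCast_atTop_atTop.comp (tendsto_id (α := ℕ) (x := atTop))
          |> fun h => ((tendsto_pow_atTop two_ne_zero).comp h).const_div_atTop d)
      simpa using ((tendsto_const_nhds (x := (16 : ℝ))).add h1).add h2
    refine tendsto_of_tendsto_of_tendsto_of_le_of_le' (hlim (-24) 8) (hlim 8 0) ?_ ?_
    all_goals
      refine eventually_atTop.2 ⟨1, fun m hm => ?_⟩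
      obtain ⟨j, rfl⟩ : ∃ j, m = j + 1 := ⟨m - 1, by omega⟩
      obtain ⟨L, hL, h1, h2⟩ := key j
      simp only [hL, ENat.toNat_natCast]
      have h1' : (2 * (2 * (j : ℝ)) * (2 * j + 1)) ≤ L := by exact_mod_cast h1
      have h2' : (L : ℝ) ≤ 2 * (2 * ((j : ℝ) + 1)) * (2 * (j + 1) + 1) := by exact_mod_cast h2
      push_cast
    · rw [le_div_iff₀ (by positivity), add_mul, add_mul, div_mul_cancel₀ _ (by positivity),
        show (-24 : ℝ) / ((j : ℝ) + 1) * ((j : ℝ) + 1) ^ 2 = -24 * ((j : ℝ) + 1) by field_simp]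
      nlinarith
    · rw [div_le_iff₀ (by positivity), add_mul, add_mul, div_mul_cancel₀ _ (by positivity),
        show (8 : ℝ) / ((j : ℝ) + 1) * ((j : ℝ) + 1) ^ 2 = 8 * ((j : ℝ) + 1) by field_simp]
      nlinarith

end Groth.Agent.S19207
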