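import Groth.Statements.S19208
import Groth.Agent.Lib.HilbertSamuel.Mult

set_option autoImplicit false
universe u
open Filter
open LocAlg

namespace Groth.Agent.S19208

/-- Let O be a Noetherian local ring of Krull dimension r containing a field, with maximal ideal m. The
zeroth flat multiplicity e_0(O), the supremum over m-primary ideals I of e(I)/(r!·length(O/I)) with
e(I) the Samuel multiplicity, is at least 1: for every ε > 0 there is an m-primary ideal I (I ⊆ m,
m^N ⊆ I for some N) whose multiplicity e(I), the limit of r!·length(O/I^n)/n^r, satisfies e(I) ≥ (1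
− ε)·r!·length(O/I). (The same statement for the power-series rings O[[t_1, …, t_k]] is the bound
e_k(O) ≥ 1 for the k-th flat multiplicity.) -/
theorem result (O : Type u) [CommRing O] [IsNoetherianRing O]
    [IsLocalRing O] (K : Type u) [Field K] [Algebra K O] (r : ℕ) (hr : ringKrullDim O = r)
    (ε : ℝ) (hε : 0 < ε) :
    ∃ (I : Ideal O) (e : ℝ), I ≤ IsLocalRing.maximalIdeal O ∧
      (∃ N : ℕ, IsLocalRing.maximalIdeal O ^ N ≤ I) ∧
      Tendsto (fun n : ℕ => (r.factorial : ℝ) * ((Module.length O (O ⧸ I ^ n)).toNat : ℝ) / (n : ℝ) ^ r)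
        atTop (nhds e) ∧
      (1 - ε) * ((r.factorial : ℝ) * ((Module.length O (O ⧸ I)).toNat : ℝ)) ≤ e := by
  have hM := Groth.Agent.Lib.HilbertSamuel.Mult.hyp_of_pow_le (I := IsLocalRing.maximalIdeal O)
    (n := 1) (by rw [pow_one]) O
  obtain ⟨L, hL, hlim⟩ := Groth.Agent.Lib.HilbertSamuel.Limit.exists_tendsto_chi_pos
    (Groth.Agent.Lib.HilbertSamuel.Mult.le_jacobson (le_refl (IsLocalRing.maximalIdeal O))) hM
    (d := r) (by rw [Module.supportDim_self_eq_ringKrullDim, hr])
  have hchi : ∀ t, (Module.length O (O ⧸ IsLocalRing.maximalIdeal O ^ t)).toNat =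
      Groth.Agent.Lib.HilbertSamuel.Basic.chi (IsLocalRing.maximalIdeal O) O t := fun t => by
    rw [Groth.Agent.Lib.HilbertSamuel.Basic.chi, Groth.Agent.Lib.HilbertSamuel.Basic.len,
      (Submodule.quotEquivOfEq _ _ (show (IsLocalRing.maximalIdeal O ^ t • ⊤ : Submodule O O) =
        IsLocalRing.maximalIdeal O ^ t from Ideal.mul_top _)).length_eq]
  have hev := (hlim.const_mul (1 - ε)).eventually
    (Iio_mem_nhds (show (1 - ε) * L < L by nlinarith))
  obtain ⟨k, hk, hk1⟩ := (hev.and (eventually_ge_atTop 1)).exists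
  refine ⟨IsLocalRing.maximalIdeal O ^ k, (r.factorial : ℝ) * ((k : ℝ) ^ r * L),
    Ideal.pow_le_self (by omega), ⟨k, le_rfl⟩, ?_, ?_⟩
  · have h := ((hlim.comp (tendsto_id.const_mul_atTop' hk1)).const_mul ((k : ℝ) ^ r)).const_mul
      (r.factorial : ℝ)
    refine h.congr' ?_
    filter_upwards [eventually_ne_atTop 0] with n hn
    have hk0 : (k : ℝ) ≠ 0 := Nat.cast_ne_zero.2 (by omega)
    have hn0 : (n : ℝ) ≠ 0 := Nat.cast_ne_zero.2 hn
    simp only [Function.comp_apply, id_eq, Nat.cast_mul, mul_pow]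
    field_simp
    rw [← pow_mul, hchi]
  · rw [hchi]
    have hkp : (0 : ℝ) < (k : ℝ) ^ r := by positivity
    replace hk := hk.le
    rw [← mul_div_assoc, div_le_iff₀ hkp] at hk
    nlinarith [mul_le_mul_of_nonneg_left hk (Nat.cast_nonneg (α := ℝ) r.factorial)]

end Groth.Agent.S19208
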