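import Groth.Statements.S19212
import Groth.Agent.H19.KerD

set_option autoImplicit false
universe u v
open TensorProduct
open DiagIdeal

namespace Groth.Agent.S19212

section
variable (k : Type u) [CommRing k] (A : Type v) [CommRing A] [Algebra k A]

/-- Sum over the six permutations of three tensor factors. -/
noncomputable def symm3 : A ⊗[k] (A ⊗[k] A) →ₗ[k] A ⊗[k] (A ⊗[k] A) :=
  LinearMap.id + (TensorProduct.leftComm k A A A).toLinearMap +
    LinearMap.lTensor A (TensorProduct.comm k A A).toLinearMap +
    (TensorProduct.leftComm k A A A).toLinearMap ∘ₗ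
      LinearMap.lTensor A (TensorProduct.comm k A A).toLinearMap +
    LinearMap.lTensor A (TensorProduct.comm k A A).toLinearMap ∘ₗ
      (TensorProduct.leftComm k A A A).toLinearMap +
    (TensorProduct.leftComm k A A A).toLinearMap ∘ₗ
      LinearMap.lTensor A (TensorProduct.comm k A A).toLinearMap ∘ₗ
        (TensorProduct.leftComm k A A A).toLinearMap

lemma symm3_tmul (a b c : A) : symm3 k A (a ⊗ₜ (b ⊗ₜ c)) =
    a ⊗ₜ (b ⊗ₜ c) + b ⊗ₜ (a ⊗ₜ c) + a ⊗ₜ (c ⊗ₜ b) + c ⊗ₜ (a ⊗ₜ b) + b ⊗ₜ (c ⊗ₜ a)
      + c ⊗ₜ (b ⊗ₜ a) := by
  simp [symm3]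

lemma leftComm_symm3 (z : A ⊗[k] (A ⊗[k] A)) :
    TensorProduct.leftComm k A A A (symm3 k A z) = symm3 k A z := by
  induction z with
  | zero => simp
  | add x y hx hy => simp only [map_add, hx, hy]
  | tmul a t =>
    induction t with
    | zero => simp
    | add x y hx hy => simp only [tmul_add, map_add, hx, hy]
    | tmul b c => simp only [symm3_tmul, map_add, TensorProduct.leftComm_tmul]; abel

lemma lTensor_comm_symm3 (z : A ⊗[k] (A ⊗[k] A)) :
    LinearMap.lTensor A (TensorProduct.comm k A A).toLinearMap (symm3 k A z) = symm3 k A z := by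
  induction z with
  | zero => simp
  | add x y hx hy => simp only [map_add, hx, hy]
  | tmul a t =>
    induction t with
    | zero => simp
    | add x y hx hy => simp only [tmul_add, map_add, hx, hy]
    | tmul b c =>
      simp only [symm3_tmul, map_add, LinearMap.lTensor_tmul, LinearEquiv.coe_coe,
        TensorProduct.comm_tmul]
      abel

lemma symm3_of_fixed (x : A ⊗[k] (A ⊗[k] A)) (h1 : TensorProduct.leftComm k A A A x = x)
    (h2 : LinearMap.lTensor A (TensorProduct.comm k A A).toLinearMap x = x) :
    symm3 k A x = (6 : ℕ) • x := by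
  simp only [symm3, LinearMap.add_apply, LinearMap.comp_apply, LinearMap.id_apply,
    LinearEquiv.coe_coe, h1, h2]
  abel

end


/-- Let k be an algebraically closed field of characteristic zero and A a smooth k-algebra which is a
domain. Let the symmetric group on three letters permute the factors of A ⊗ A ⊗ A (it is generated
by the swap of the first two factors and the swap of the last two), let r : A ⊗ (A ⊗ A) → A ⊗ A be
the k-linear map a ⊗ b ⊗ c ↦ ab ⊗ c, and let D : A ⊗ A → Ω_{A/k} be the k-linear map a ⊗ b ↦ 2a·db −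
b·da. Then an element y of A ⊗ A satisfies D y = 0 if and only if y = r x for some x fixed by both
swaps, and D is surjective. (This is exactness at the last two places of the four-term right
resolution of the invariants of the ideal of the big diagonal on the symmetric cube of X = Spec A,
namely invariant functions on X³, then functions on X × X through restriction to a diagonal, then
one-forms on X; exactness at the first two places is immediate. The published statement is the sheaf
version on the symmetric cube of a smooth complex variety of any dimension; an algebraically closed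
field of characteristic zero is used here.) -/
theorem result (k : Type u) [Field k] [IsAlgClosed k] [CharZero k]
    (A : Type v) [CommRing A] [Algebra k A] [Algebra.Smooth k A] [IsDomain A]
    (r : A ⊗[k] (A ⊗[k] A) →ₗ[k] A ⊗[k] A)
    (hr : ∀ a b c : A, r (a ⊗ₜ[k] (b ⊗ₜ[k] c)) = (a * b) ⊗ₜ[k] c)
    (D : A ⊗[k] A →ₗ[k] Ω[A⁄k])
    (hD : ∀ a b : A, D (a ⊗ₜ[k] b) = (2 : A) • (a • KaehlerDifferential.D k A b) - b • KaehlerDifferential.D k A a) :
    (∀ y : A ⊗[k] A, D y = 0 ↔ ∃ x : A ⊗[k] (A ⊗[k] A),
        TensorProduct.leftComm k A A A x = x ∧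
        LinearMap.lTensor A (TensorProduct.comm k A A).toLinearMap x = x ∧ r x = y) ∧
    Function.Surjective D := by
  set θ : A ⊗[k] A →ₗ[k] Ω[A⁄k] :=
    (KaehlerDifferential.D k A).tensorProductTo.restrictScalars k with hθ
  set τ : A ⊗[k] A →ₗ[k] A ⊗[k] A := (TensorProduct.comm k A A).toLinearMap with hτ
  have hD' : ∀ y, D y = θ ((2 : k) • y - τ y) := by
    intro y
    induction y with
    | zero => simp
    | add x y hx hy =>
      rw [map_add, hx, hy, ← map_add]
      congr 1
      rw [smul_add, map_add]; abel
    | tmul a b =>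
      simp [hθ, hτ, hD, Derivation.tensorProductTo_tmul, two_smul]
  let R : Submodule k (A ⊗[k] A) := LinearMap.range (r ∘ₗ symm3 k A)
  have hrho : ∀ a b c : A, (a * b) ⊗ₜ[k] c + (a * c) ⊗ₜ[k] b + (b * c) ⊗ₜ[k] a ∈ R := by
    intro a b c
    have h : (r ∘ₗ symm3 k A) (a ⊗ₜ (b ⊗ₜ c)) = (2 : k) •
        ((a * b) ⊗ₜ[k] c + (a * c) ⊗ₜ[k] b + (b * c) ⊗ₜ[k] a) := by
      simp only [LinearMap.comp_apply, symm3_tmul, map_add, hr, two_smul]
      rw [mul_comm b a, mul_comm c a, mul_comm c b]; abel
    exact (Submodule.smul_mem_iff R (two_ne_zero : (2 : k) ≠ 0)).mp (h ▸ LinearMap.mem_range_self _ _)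
  let F : A ⊗[k] A →ₗ[k] (A ⊗[k] A) ⧸ R := R.mkQ ∘ₗ ((2 : k) • LinearMap.id + τ)
  have hF : ∀ a b c : A, F (a ⊗ₜ[k] (b * c)) = F ((a * b) ⊗ₜ[k] c) + F ((a * c) ⊗ₜ[k] b) := by
    intro a b c
    rw [← map_add]
    simp only [F, LinearMap.comp_apply, LinearMap.add_apply, LinearMap.smul_apply,
      LinearMap.id_apply, map_add (τ), hτ, LinearEquiv.coe_coe, TensorProduct.comm_tmul,
      Submodule.mkQ_apply, Submodule.Quotient.eq]
    have h1 := hrho a (b * c) 1
    have h2 := hrho (a * b) c 1
    have h3 := hrho (a * c) b 1
    have h4 := hrho a b c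
    simp only [mul_one] at h1 h2 h3
    rw [show a * c * b = a * b * c by ring] at h3
    rw [show a * (b * c) = a * b * c by ring] at h1
    convert R.sub_mem (R.sub_mem (R.sub_mem (R.add_mem h1 h1) h2) h3) h4 using 1
    simp only [two_smul]
    abel
  refine ⟨fun y => ⟨fun hy => ?_, ?_⟩, ?_⟩
  · have hy' : θ ((2 : k) • y - τ y) = 0 := by rw [← hD']; exact hy
    have h3 := Groth.Agent.H19.KerD.eq_zero_of_tensorProductTo_eq_zero F hF _ hy'
    have h4 : (3 : k) • y ∈ R := by
      have hττ : ∀ z, τ (τ z) = z := fun z => by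
        induction z with
        | zero => simp
        | add x y hx hy => rw [map_add, map_add, hx, hy]
        | tmul a b => simp [hτ]
      have h5 := (Submodule.Quotient.mk_eq_zero R).mp h3
      simp only [LinearMap.add_apply, LinearMap.smul_apply, LinearMap.id_apply, map_sub, map_smul,
        hττ] at h5
      convert h5 using 1
      module
    obtain ⟨z, hz⟩ := (Submodule.smul_mem_iff R (by norm_num : (3 : k) ≠ 0)).mp h4
    exact ⟨symm3 k A z, leftComm_symm3 k A z, lTensor_comm_symm3 k A z, hz⟩
  · rintro ⟨x, h1, h2, rfl⟩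
    have hall : ∀ z, D (r (symm3 k A z)) = 0 := by
      intro z
      induction z with
      | zero => simp
      | add x y hx hy => simp [hx, hy]
      | tmul a t =>
        induction t with
        | zero => simp
        | add x y hx hy => simp [tmul_add, hx, hy]
        | tmul b c =>
          simp only [symm3_tmul, map_add, hr, hD, Derivation.leibniz, smul_sub, smul_add, smul_smul]
          simp only [mul_comm b a, mul_comm c a, mul_comm c b, two_mul, add_smul, mul_assoc,
            two_smul]
          match_scalars <;> ring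
    have := hall x
    rw [symm3_of_fixed k A x h1 h2, map_nsmul, map_nsmul] at this
    rw [← Nat.cast_smul_eq_nsmul k] at this
    exact (smul_eq_zero.mp this).resolve_left (by norm_num)
  · intro ω
    obtain ⟨y, rfl⟩ : ∃ y, θ y = ω := by
      have h := KaehlerDifferential.tensorProductTo_surjective k A ω
      exact h
    refine ⟨(3 : k)⁻¹ • ((2 : k) • y + τ y), ?_⟩
    have hττ : τ (τ y) = y := by
      induction y with
      | zero => simp
      | add x y hx hy => rw [map_add, map_add, hx, hy]
      | tmul a b => simp [hτ]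
    rw [map_smul, hD']
    rw [← map_smul]
    congr 1
    simp only [map_add, map_smul, hττ]
    match_scalars <;> field_simp <;> ring


end Groth.Agent.S19212
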