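import Groth.Statements.S19213
import Groth.Agent.H19.KerD

set_option autoImplicit false
universe u v
open TensorProduct
open DiagIdeal

namespace Groth.Agent.S19213

section
variable (k : Type u) [CommRing k] (A : Type v) [CommRing A] [Algebra k A]

/-- Symmetrisation in the last two tensor factors. -/
noncomputable def symm2 : A ⊗[k] (A ⊗[k] A) →ₗ[k] A ⊗[k] (A ⊗[k] A) :=
  LinearMap.id + LinearMap.lTensor A (TensorProduct.comm k A A).toLinearMap

lemma symm2_tmul (a u v : A) :
    symm2 k A (a ⊗ₜ (u ⊗ₜ v)) = a ⊗ₜ (u ⊗ₜ v) + a ⊗ₜ (v ⊗ₜ u) := by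
  simp [symm2]

lemma lTensor_comm_symm2 (z : A ⊗[k] (A ⊗[k] A)) :
    LinearMap.lTensor A (TensorProduct.comm k A A).toLinearMap (symm2 k A z) = symm2 k A z := by
  induction z with
  | zero => simp
  | add x y hx hy => simp only [map_add, hx, hy]
  | tmul a t =>
    induction t with
    | zero => simp
    | add x y hx hy => simp only [tmul_add, map_add, hx, hy]
    | tmul b c =>
      simp only [symm2_tmul, map_add, LinearMap.lTensor_tmul, LinearEquiv.coe_coe,
        TensorProduct.comm_tmul]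
      abel

end


/-- Let k be an algebraically closed field of characteristic zero and A a smooth k-algebra which is a
domain. Let r₁₂, r₂₃ : A ⊗ (A ⊗ A) → A ⊗ A be the k-linear maps a ⊗ u ⊗ v ↦ au ⊗ v and a ⊗ u ⊗ v ↦
uv ⊗ a (restriction to the diagonal of factors 1, 2, resp. 2, 3, the repeated coordinate written
first), let m : A ⊗ A → A be multiplication, and let ψ : (A ⊗ A) × (A ⊗ A) → Ω_{A/k} be the k-linear
map with ψ(a ⊗ u, b ⊗ v) = 2a·du − v·db. Then for p, q in A ⊗ A with m p = m q one has ψ(p, q) = 0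
if and only if (p, q) = (r₁₂ x, r₂₃ x) for some x fixed by the swap of the last two tensor factors;
and every element of Ω_{A/k} is ψ(p, q) for some pair with m p = m q. (This is exactness at the last
two places of the right resolution, on the symmetric cube of X = Spec A, of the invariants of the
ideal of the big diagonal under the transposition of the last two factors; exactness at the first
two places is immediate. The published statement is the sheaf version for a smooth complex variety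
of any dimension; an algebraically closed field of characteristic zero is used here.) -/
theorem result (k : Type u) [Field k] [IsAlgClosed k] [CharZero k]
    (A : Type v) [CommRing A] [Algebra k A] [Algebra.Smooth k A] [IsDomain A]
    (r₁₂ r₂₃ : A ⊗[k] (A ⊗[k] A) →ₗ[k] A ⊗[k] A)
    (h₁₂ : ∀ a u v : A, r₁₂ (a ⊗ₜ[k] (u ⊗ₜ[k] v)) = (a * u) ⊗ₜ[k] v)
    (h₂₃ : ∀ a u v : A, r₂₃ (a ⊗ₜ[k] (u ⊗ₜ[k] v)) = (u * v) ⊗ₜ[k] a)
    (ψ : (A ⊗[k] A) × (A ⊗[k] A) →ₗ[k] Ω[A⁄k])
    (hψ : ∀ a u b v : A, ψ (a ⊗ₜ[k] u, b ⊗ₜ[k] v) =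
      (2 : A) • (a • KaehlerDifferential.D k A u) - v • KaehlerDifferential.D k A b) :
    (∀ p q : A ⊗[k] A, LinearMap.mul' k A p = LinearMap.mul' k A q →
      (ψ (p, q) = 0 ↔ ∃ x : A ⊗[k] (A ⊗[k] A),
        LinearMap.lTensor A (TensorProduct.comm k A A).toLinearMap x = x ∧ r₁₂ x = p ∧ r₂₃ x = q)) ∧
    (∀ ω : Ω[A⁄k], ∃ p q : A ⊗[k] A, LinearMap.mul' k A p = LinearMap.mul' k A q ∧ ψ (p, q) = ω) := by
  set θ : A ⊗[k] A →ₗ[k] Ω[A⁄k] :=
    (KaehlerDifferential.D k A).tensorProductTo.restrictScalars k with hθ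
  set m : A ⊗[k] A →ₗ[k] A := LinearMap.mul' k A with hm
  let ι : A →ₗ[k] A ⊗[k] A := (TensorProduct.mk k A A).flip 1
  let Φ : A ⊗[k] (A ⊗[k] A) →ₗ[k] (A ⊗[k] A) × (A ⊗[k] A) := (r₁₂.prod r₂₃) ∘ₗ symm2 k A
  let R := LinearMap.range Φ
  have hΦ : ∀ a u v : A, Φ (a ⊗ₜ (u ⊗ₜ v)) =
      ((a * u) ⊗ₜ[k] v + (a * v) ⊗ₜ[k] u, (u * v) ⊗ₜ[k] a + (u * v) ⊗ₜ[k] a) := by
    intro a u v
    simp [Φ, symm2_tmul, h₁₂, h₂₃, mul_comm v u]
  have hψ0 : ∀ p, ψ (p, 0) = (2 : k) • θ p := by
    intro p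
    induction p with
    | zero => rw [← Prod.zero_eq_mk, map_zero, map_zero, smul_zero]
    | add x y hx hy =>
      rw [show ((x + y, 0) : (A ⊗[k] A) × (A ⊗[k] A)) = (x, 0) + (y, 0) by simp, map_add, hx, hy,
        map_add, smul_add]
    | tmul a u =>
      have h := hψ a u 0 0
      rw [TensorProduct.zero_tmul] at h
      rw [h, hθ]
      simp [Derivation.tensorProductTo_tmul, two_smul]
  have hψ1 : ∀ p q, ψ (p, q) = ψ (p, 0) + ψ (0, q) := by
    intro p q; rw [← map_add]; simp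
  have hθ1 : ∀ a, θ (ι a) = 0 := by
    intro a; simp [ι, hθ, Derivation.tensorProductTo_tmul]
  have hm1 : ∀ a, m (ι a) = a := by
    intro a; simp [ι, hm]
  have hψΦ : ∀ z, ψ (Φ z) = 0 := by
    intro z
    induction z with
    | zero => simp
    | add x y hx hy => simp [hx, hy]
    | tmul a t =>
      induction t with
      | zero => simp
      | add x y hx hy => simp [tmul_add, hx, hy]
      | tmul u v =>
        have e2 : ψ (0, (u * v) ⊗ₜ[k] a) = - (a • KaehlerDifferential.D k A (u * v)) := by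
          have h := hψ 0 0 (u * v) a
          rw [TensorProduct.zero_tmul] at h
          rw [h]; simp
        rw [hΦ, hψ1, hψ0,
          show ((0 : A ⊗[k] A), (u * v) ⊗ₜ[k] a + (u * v) ⊗ₜ[k] a) =
            ((0 : A ⊗[k] A), (u * v) ⊗ₜ[k] a) + ((0 : A ⊗[k] A), (u * v) ⊗ₜ[k] a) by simp,
          map_add ψ, e2]
        simp only [hθ, map_add, LinearMap.restrictScalars_apply, Derivation.tensorProductTo_tmul,
          Derivation.leibniz, two_smul, smul_add, smul_smul]
        abel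
  have key : ∀ p, m p = 0 → θ p = 0 → ((p, 0) : (A ⊗[k] A) × (A ⊗[k] A)) ∈ R := by
    intro p hp0 hp1
    let F : A ⊗[k] A →ₗ[k] ((A ⊗[k] A) × (A ⊗[k] A)) ⧸ R :=
      R.mkQ ∘ₗ (LinearMap.inl k _ _ ∘ₗ (LinearMap.id - ι ∘ₗ m))
    have hF : ∀ a b c : A,
        F (a ⊗ₜ[k] (b * c)) = F ((a * b) ⊗ₜ[k] c) + F ((a * c) ⊗ₜ[k] b) := by
      intro a b c
      rw [← map_add]
      simp only [F, LinearMap.comp_apply, Submodule.mkQ_apply, Submodule.Quotient.eq]
      convert R.sub_mem (LinearMap.mem_range_self Φ (a ⊗ₜ ((b * c) ⊗ₜ 1)))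
        (LinearMap.mem_range_self Φ (a ⊗ₜ (b ⊗ₜ c))) using 1
      rw [hΦ, hΦ]
      simp only [LinearMap.inl_apply, LinearMap.sub_apply, LinearMap.id_apply,
        LinearMap.comp_apply, map_add, ι, hm, LinearMap.mul'_apply, LinearMap.flip_apply,
        TensorProduct.mk_apply, mul_one, Prod.mk_sub_mk, sub_self]
      rw [show a * b * c = a * (b * c) by ring, show a * c * b = a * (b * c) by ring]
      simp only [Prod.mk_add_mk, Prod.mk_sub_mk, Prod.smul_mk, sub_self, add_zero, smul_zero, sub_zero]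
      congr 1
      abel
    have h := Groth.Agent.H19.KerD.eq_zero_of_tensorProductTo_eq_zero F hF p hp1
    have h2 := (Submodule.Quotient.mk_eq_zero R).mp h
    simpa [hp0] using h2
  refine ⟨fun p q hpq => ⟨fun h => ?_, ?_⟩, fun ω => ?_⟩
  · let τ : A ⊗[k] A →ₗ[k] A ⊗[k] A := (TensorProduct.comm k A A).toLinearMap
    have hG : ∀ q, ((ι (m q) + τ q, q + q) : (A ⊗[k] A) × (A ⊗[k] A)) ∈ R := by
      intro q
      induction q with
      | zero => simp only [map_zero, add_zero]; exact R.zero_mem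
      | add x y hx hy =>
        convert R.add_mem hx hy using 1
        simp only [map_add, Prod.mk_add_mk, Prod.mk.injEq]
        constructor <;> abel
      | tmul b v =>
        convert LinearMap.mem_range_self Φ (v ⊗ₜ (b ⊗ₜ 1)) using 1
        simp [hΦ, ι, τ, hm, mul_comm b v]
    have hmτ : ∀ q, m (τ q) = m q := by
      intro q
      induction q with
      | zero => simp
      | add x y hx hy => simp [hx, hy]
      | tmul b v => simp [hm, τ, mul_comm]
    have hg := R.smul_mem (2⁻¹ : k) (hG q)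
    have hψg : ψ ((2⁻¹ : k) • ((ι (m q) + τ q, q + q) : (A ⊗[k] A) × (A ⊗[k] A))) = 0 := by
      obtain ⟨z, hz⟩ := hg
      rw [← hz]; exact hψΦ z
    have hsplit : ((p, q) : (A ⊗[k] A) × (A ⊗[k] A)) - (2⁻¹ : k) • (ι (m q) + τ q, q + q) =
        (p - (2⁻¹ : k) • (ι (m q) + τ q), 0) := by
      ext <;> simp only [Prod.fst_sub, Prod.snd_sub, Prod.smul_fst, Prod.smul_snd]
      rw [← two_smul k q, smul_smul, inv_mul_cancel₀ (two_ne_zero : (2 : k) ≠ 0), one_smul,
        sub_self]
    have h0 : θ (p - (2⁻¹ : k) • (ι (m q) + τ q)) = 0 := by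
      have := hψ0 (p - (2⁻¹ : k) • (ι (m q) + τ q))
      rw [← hsplit, map_sub, h, hψg, sub_zero] at this
      exact (smul_eq_zero.mp this.symm).resolve_left two_ne_zero
    have hm0 : m (p - (2⁻¹ : k) • (ι (m q) + τ q)) = 0 := by
      rw [map_sub, map_smul, map_add, hm1, hmτ, hpq, ← two_smul k (m q), smul_smul,
        inv_mul_cancel₀ (two_ne_zero : (2 : k) ≠ 0), one_smul, sub_self]
    have hmem := R.add_mem (key _ hm0 h0) hg
    rw [← hsplit, sub_add_cancel] at hmem
    obtain ⟨z, hz⟩ := hmem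
    exact ⟨symm2 k A z, lTensor_comm_symm2 k A z, congrArg Prod.fst hz, congrArg Prod.snd hz⟩
  · rintro ⟨x, hx, rfl, rfl⟩
    have := hψΦ x
    have e : Φ x = (2 : k) • (r₁₂ x, r₂₃ x) := by
      simp [Φ, symm2, hx, two_smul]
    rw [e, map_smul] at this
    exact (smul_eq_zero.mp this).resolve_left two_ne_zero
  · obtain ⟨y, rfl⟩ : ∃ y, θ y = ω := by
      have h := KaehlerDifferential.tensorProductTo_surjective k A ω
      exact h
    refine ⟨(2⁻¹ : k) • (y - ι (m y)), 0, ?_, ?_⟩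
    · rw [map_smul, map_sub, hm1, sub_self, smul_zero, map_zero]
    · rw [hψ0, map_smul, map_sub, hθ1, sub_zero, smul_smul,
        mul_inv_cancel₀ (two_ne_zero : (2 : k) ≠ 0), one_smul]


end Groth.Agent.S19213
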