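import Groth.Statements.S19214
import Groth.Agent.H19.DiagSym
import Groth.Agent.H19.PiTensor

set_option autoImplicit false
universe u v
open TensorProduct
open DiagIdeal

namespace Groth.Agent.S19214

open scoped TensorProduct
open Groth.Agent.H19.PiTensor Groth.Agent.H19.DiagSym

lemma aux (k : Type u) [Field k] [CharZero k]
    (A : Type v) [CommRing A] [Algebra k A] [Algebra.Smooth k A]
    (I : Fin 3 → Fin 3 → Ideal (⨂[k] _ : Fin 3, A))
    (hI : ∀ i j, I i j = Ideal.span (Set.range fun a : A =>
        PiTensorProduct.singleAlgHom (R := k) (A := fun _ : Fin 3 => A) i a -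
        PiTensorProduct.singleAlgHom (R := k) (A := fun _ : Fin 3 => A) j a))
    (x : ⨂[k] _ : Fin 3, A)
    (hx : perm (k := k) (A := A) (Equiv.swap (1 : Fin 3) 2) x = x)
    (h01 : x ∈ I 0 1) (h02 : x ∈ I 0 2) (h12 : x ∈ I 1 2) :
    x ∈ I 0 1 * (I 0 2 * I 1 2) := by
  let e : Fin 3 → (A →ₐ[k] ⨂[k] _ : Fin 3, A) := fun i =>
    PiTensorProduct.singleAlgHom (R := k) (A := fun _ : Fin 3 => A) i
  let j : A ⊗[k] A →ₐ[k] ⨂[k] _ : Fin 3, A :=
    Algebra.TensorProduct.lift (e 0) (e 1) fun _ _ => Commute.all _ _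
  let j' : A ⊗[k] A →ₐ[k] ⨂[k] _ : Fin 3, A :=
    Algebra.TensorProduct.lift (e 0) (e 2) fun _ _ => Commute.all _ _
  let L : A →ₐ[k] A ⊗[k] A := Algebra.TensorProduct.includeLeft
  let R : A →ₐ[k] A ⊗[k] A := Algebra.TensorProduct.includeRight
  let π : (⨂[k] _ : Fin 3, A) →ₐ[k] A ⊗[k] A := piLift ![L, R, R]
  let π' : (⨂[k] _ : Fin 3, A) →ₐ[k] A ⊗[k] A := piLift ![L, R, L]
  let σ : (⨂[k] _ : Fin 3, A) →ₐ[k] (⨂[k] _ : Fin 3, A) := perm (Equiv.swap (1 : Fin 3) 2)
  set Q : Ideal (⨂[k] _ : Fin 3, A) := I 0 1 * (I 0 2 * I 1 2) with hQ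
  have hj : ∀ a b, j (a ⊗ₜ b) = e 0 a * e 1 b := fun a b => Algebra.TensorProduct.lift_tmul _ _ _ a b
  have hj' : ∀ a b, j' (a ⊗ₜ b) = e 0 a * e 2 b := fun a b => Algebra.TensorProduct.lift_tmul _ _ _ a b
  have hπe : ∀ i a, π (e i a) = ![L, R, R] i a := fun i a => piLift_single _ i a
  have hπ'e : ∀ i a, π' (e i a) = ![L, R, L] i a := fun i a => piLift_single _ i a
  have hσe : ∀ i a, σ (e i a) = e (Equiv.swap (1 : Fin 3) 2 i) a := fun i a => perm_single _ i a
  have hπj : ∀ z, π (j z) = z := by
    intro z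
    induction z with
    | zero => simp
    | add p q hp hq => simp [hp, hq]
    | tmul a b => simp [hj, hπe, L, R]
  have hπj' : ∀ z, π (j' z) = z := by
    intro z
    induction z with
    | zero => simp
    | add p q hp hq => simp [hp, hq]
    | tmul a b => simp [hj', hπe, L, R]
  have hπ'j : ∀ z, π' (j z) = z := by
    intro z
    induction z with
    | zero => simp
    | add p q hp hq => simp [hp, hq]
    | tmul a b => simp [hj, hπ'e, L, R]
  have hσj : ∀ z, σ (j z) = j' z := by
    intro z
    induction z with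
    | zero => simp
    | add p q hp hq => simp [hp, hq]
    | tmul a b => simp [hj, hj', hσe]; rfl
  have hσj' : ∀ z, σ (j' z) = j z := by
    intro z
    induction z with
    | zero => simp
    | add p q hp hq => simp [hp, hq]
    | tmul a b => simp [hj, hj', hσe]; rfl
  have hmem0 : ∀ z ∈ KaehlerDifferential.ideal k A, j z ∈ I 0 1 := by
    intro z hz
    have hle : KaehlerDifferential.ideal k A ≤ Ideal.comap j (I 0 1) := by
      rw [← KaehlerDifferential.span_range_eq_ideal, Ideal.span_le]
      rintro _ ⟨a, rfl⟩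
      rw [SetLike.mem_coe, Ideal.mem_comap, map_sub, hj, hj, map_one, map_one, one_mul, mul_one, hI,
        ← neg_sub]
      exact neg_mem (Ideal.subset_span ⟨a, rfl⟩)
    exact hle hz
  have hmem1 : ∀ z ∈ KaehlerDifferential.ideal k A, j' z ∈ I 0 2 := by
    intro z hz
    have hle : KaehlerDifferential.ideal k A ≤ Ideal.comap j' (I 0 2) := by
      rw [← KaehlerDifferential.span_range_eq_ideal, Ideal.span_le]
      rintro _ ⟨a, rfl⟩
      rw [SetLike.mem_coe, Ideal.mem_comap, map_sub, hj', hj', map_one, map_one, one_mul, mul_one, hI,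
        ← neg_sub]
      exact neg_mem (Ideal.subset_span ⟨a, rfl⟩)
    exact hle hz
  have hjW : ∀ z, j z - j' z ∈ I 1 2 := by
    intro z
    induction z with
    | zero => simp
    | add p q hp hq =>
      rw [map_add, map_add, add_sub_add_comm]; exact add_mem hp hq
    | tmul a b =>
      rw [hj, hj', ← mul_sub]
      exact Ideal.mul_mem_left _ _ (by rw [hI]; exact Ideal.subset_span ⟨b, rfl⟩)
  let βfun : KaehlerDifferential.ideal k A →+ KaehlerDifferential.ideal k A →+
      ((⨂[k] _ : Fin 3, A) ⧸ Q) :=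
    AddMonoidHom.mk' (fun g => AddMonoidHom.mk' (fun h => Ideal.Quotient.mk Q (j g * j' h))
      (fun a b => by simp [mul_add])) (fun a b => by ext c; simp [add_mul])
  let β : KaehlerDifferential.ideal k A ⊗[A ⊗[k] A] KaehlerDifferential.ideal k A →+
      ((⨂[k] _ : Fin 3, A) ⧸ Q) :=
    TensorProduct.liftAddHom βfun (by
      intro r g h
      simp only [βfun, AddMonoidHom.mk'_apply, Submodule.coe_smul, smul_eq_mul]
      rw [Ideal.Quotient.eq, map_mul, map_mul]
      have hm : (j g) * (j' h) * (j r - j' r) ∈ Q := by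
        rw [hQ, mul_assoc]
        exact Ideal.mul_mem_mul (hmem0 _ g.2) (Ideal.mul_mem_mul (hmem1 _ h.2) (hjW r))
      convert hm using 1
      ring)
  have hβ : ∀ g h : KaehlerDifferential.ideal k A,
      β (g ⊗ₜ h) = Ideal.Quotient.mk Q (j g * j' h) := fun g h => rfl
  let P : (⨂[k] _ : Fin 3, A) → Prop := fun y => ∃ t, Ideal.Quotient.mk Q y = β t ∧
    Ideal.Quotient.mk Q (σ y) = β (TensorProduct.comm _ _ _ t) ∧
    π y = (mulI k A t : A ⊗[k] A)
  have hP : ∀ y ∈ I 0 1, P (y - j (π' y)) := by
    rw [hI]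
    intro y hy
    have hadd : ∀ a b, P a → P b → P (a + b) := by
      rintro a b ⟨t, h1, h2, h3⟩ ⟨s, g1, g2, g3⟩
      exact ⟨t + s, by simp [h1, g1], by simp [h2, g2], by simp [h3, g3]⟩
    refine Submodule.span_induction (p := fun y _ => ∀ r, P (r * y - j (π' (r * y))))
      ?_ ?_ ?_ ?_ hy |> fun h => by simpa using h 1
    · rintro _ ⟨a, rfl⟩ r
      induction r using PiTensorProduct.induction_on with
      | smul_tprod c v =>
        let g : KaehlerDifferential.ideal k A :=
          ⟨(c • (v 0 ⊗ₜ v 1)) * (a ⊗ₜ 1 - 1 ⊗ₜ a),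
            Ideal.mul_mem_left _ _ (by simp [RingHom.mem_ker])⟩
        let h : KaehlerDifferential.ideal k A :=
          ⟨(1 : A) ⊗ₜ[k] v 2 - v 2 ⊗ₜ[k] (1 : A),
            KaehlerDifferential.one_smul_sub_smul_one_mem_ideal k (v 2)⟩
        have hy : (c • PiTensorProduct.tprod k v) * (e 0 a - e 1 a) = j g * e 2 (v 2) := by
          rw [tprod_eq_prod_single, Fin.prod_univ_three]
          simp only [g, map_mul, map_smul, map_sub, hj, map_one, mul_one, one_mul]
          simp only [Algebra.smul_mul_assoc, e]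
          congr 1
          ring
        have hz : (c • PiTensorProduct.tprod k v) * (e 0 a - e 1 a) -
            j (π' ((c • PiTensorProduct.tprod k v) * (e 0 a - e 1 a))) = j g * j' h := by
          rw [hy, map_mul π' (j g), hπ'j, map_mul j (g : A ⊗[k] A), hπ'e, ← mul_sub]
          congr 1
          simp [h, L, hj, hj']
        refine ⟨g ⊗ₜ h, ?_, ?_, ?_⟩
        · exact (congrArg _ hz).trans (hβ g h).symm
        · rw [TensorProduct.comm_tmul, hβ]
          exact congrArg _ (by rw [hz, map_mul, hσj, hσj', mul_comm])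
        · rw [hz, map_mul, hπj, hπj', mulI_tmul]; rfl
      | add p q hp hq =>
        rw [add_mul, map_add, map_add, add_sub_add_comm]
        exact hadd _ _ hp hq
    · intro r; exact ⟨0, by simp, by simp, by simp⟩
    · intro a b _ _ ha hb r
      rw [mul_add, map_add, map_add, add_sub_add_comm]
      exact hadd _ _ (ha r) (hb r)
    · intro c a _ ha r
      rw [smul_eq_mul, ← mul_assoc]
      exact ha _
  have hker : ∀ i i' : Fin 3, ∀ f : (⨂[k] _ : Fin 3, A) →ₐ[k] A ⊗[k] A,
      (∀ a, f (e i a) = f (e i' a)) → ∀ z ∈ I i i', f z = 0 := by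
    intro i i' f hf z hz
    have hle : I i i' ≤ RingHom.ker f := by
      rw [hI, Ideal.span_le]
      rintro _ ⟨a, rfl⟩
      simp only [SetLike.mem_coe, RingHom.mem_ker, map_sub, sub_eq_zero]
      exact hf a
    exact hle hz
  have hπ'x : π' x = 0 := hker 0 2 π' (fun a => by simp [hπ'e]) x h02
  have hπx : π x = 0 := hker 1 2 π (fun a => by simp [hπe]) x h12
  obtain ⟨t, h1, h2, h3⟩ := hP x h01
  rw [hπ'x, map_zero, sub_zero] at h1 h2 h3
  rw [show σ x = x from hx] at h2
  have ht : mulI k A t = 0 := Subtype.ext (by rw [← h3, hπx]; rfl)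
  have hsum := congrArg β (add_comm_eq_zero_of_mulI_eq_zero k A t ht)
  rw [map_add, map_zero, ← h1, ← h2, ← map_add, Ideal.Quotient.eq_zero_iff_mem] at hsum
  have h2x : (2 : k) • x ∈ Q := by rwa [two_smul]
  have := Submodule.smul_of_tower_mem Q (2⁻¹ : k) h2x
  rwa [smul_smul, inv_mul_cancel₀ (two_ne_zero : (2 : k) ≠ 0), one_smul] at this


/-- n = 3, affine form: let k be an algebraically closed field of characteristic zero and A a smooth
k-algebra which is a domain. In the triple tensor power of A over k, indexed by Fin 3, let I_{ij} be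
the ideal generated by the elements a_i − a_j (a ∈ A put in factor i, resp. j, and 1 elsewhere), the
ideal of the diagonal of factors i and j. Then every element fixed by all permutations of the three
factors and lying in I₁₂ ∩ I₁₃ ∩ I₂₃ lies in the product I₁₂ I₁₃ I₂₃: on the symmetric cube of Spec
A the invariants of the product of the three diagonal ideals and of their intersection coincide.
(The published statement is the sheaf version for a smooth complex variety; an algebraically closed
field of characteristic zero is used here.) -/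
theorem result (k : Type u) [Field k] [IsAlgClosed k] [CharZero k]
    (A : Type v) [CommRing A] [Algebra k A] [Algebra.Smooth k A] [IsDomain A]
    (x : ⨂[k] _ : Fin 3, A)
    (hx : ∀ σ : Equiv.Perm (Fin 3), PiTensorProduct.reindex k (fun _ : Fin 3 => A) σ x = x)
    (hmem : ∀ p : Fin 3 × Fin 3, p.1 < p.2 → x ∈ Ideal.span (Set.range fun a : A =>
        PiTensorProduct.singleAlgHom (R := k) (A := fun _ : Fin 3 => A) p.1 a -
        PiTensorProduct.singleAlgHom (R := k) (A := fun _ : Fin 3 => A) p.2 a)) :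
    x ∈ ∏ p ∈ Finset.univ.filter (fun p : Fin 3 × Fin 3 => p.1 < p.2), Ideal.span (Set.range fun a : A =>
        PiTensorProduct.singleAlgHom (R := k) (A := fun _ : Fin 3 => A) p.1 a -
        PiTensorProduct.singleAlgHom (R := k) (A := fun _ : Fin 3 => A) p.2 a) := by
  have hset : (Finset.univ.filter (fun p : Fin 3 × Fin 3 => p.1 < p.2)) =
      {((0 : Fin 3), (1 : Fin 3)), (0, 2), (1, 2)} := by decide
  rw [hset, Finset.prod_insert (by decide), Finset.prod_insert (by decide), Finset.prod_singleton]
  refine aux k A (fun i j => Ideal.span (Set.range fun a : A =>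
        PiTensorProduct.singleAlgHom (R := k) (A := fun _ : Fin 3 => A) i a -
        PiTensorProduct.singleAlgHom (R := k) (A := fun _ : Fin 3 => A) j a))
    (fun i j => rfl) x ?_ (hmem (0, 1) (by decide)) (hmem (0, 2) (by decide))
    (hmem (1, 2) (by decide))
  rw [← reindex_eq_perm]
  exact hx _


end Groth.Agent.S19214
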