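import Groth.Statements.S19216
import Mathlib.Data.Fintype.BigOperators
import Mathlib.Tactic.LinearCombination

set_option autoImplicit false
universe u
open SymRep

namespace Groth.Agent.S19216

/-- Let k be a field of characteristic zero and r, s ≥ 1. Realise the standard representation of the
symmetric group on a finite set T as the hyperplane of functions T → k with sum zero, the group
acting by precomposition with the inverse. Then the standard representation of the symmetric group
of Fin r ⊕ Fin s, restricted to the subgroup S_r × S_s, is isomorphic to the direct sum of the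
standard representations of S_r and of S_s and of a one-dimensional trivial representation: there is
a k-linear map E from functions on Fin r ⊕ Fin s to triples (function on Fin r, function on Fin s,
scalar), compatible with the actions of S_r × S_s (trivial on the scalar), which maps the sum-zero
hyperplane bijectively onto the product of the two sum-zero hyperplanes and k. (The published
statement is over the complex numbers; a field of characteristic zero is used here. The published
statement also gives the analogous decomposition for any number of blocks, which follows by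
induction; only the two-block case is stated here.) -/
theorem result (k : Type u) [Field k] [CharZero k]
    (r s : ℕ) (hr : 1 ≤ r) (hs : 1 ≤ s) :
    ∃ E : (Fin r ⊕ Fin s → k) →ₗ[k] (Fin r → k) × (Fin s → k) × k,
      (∀ (σ : Equiv.Perm (Fin r)) (τ : Equiv.Perm (Fin s)) (f : Fin r ⊕ Fin s → k),
        E (f ∘ ⇑(Equiv.sumCongr σ τ).symm) = ((E f).1 ∘ ⇑σ.symm, (E f).2.1 ∘ ⇑τ.symm, (E f).2.2)) ∧
      Set.BijOn E {f | ∑ i, f i = 0}
        ({g : Fin r → k | ∑ i, g i = 0} ×ˢ ({h : Fin s → k | ∑ i, h i = 0} ×ˢ Set.univ)) := by
  have hr0 : (r : k) ≠ 0 := by exact_mod_cast (by omega : r ≠ 0)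
  have hs0 : (s : k) ≠ 0 := by exact_mod_cast (by omega : s ≠ 0)
  let E : (Fin r ⊕ Fin s → k) →ₗ[k] (Fin r → k) × (Fin s → k) × k :=
    { toFun := fun f => (fun i => f (Sum.inl i) - (r : k)⁻¹ * ∑ j, f (Sum.inl j),
        fun i => f (Sum.inr i) - (s : k)⁻¹ * ∑ j, f (Sum.inr j), ∑ j, f (Sum.inl j))
      map_add' := fun f g => by
        refine Prod.ext (funext fun i => ?_) (Prod.ext (funext fun i => ?_) ?_) <;>
          simp [Finset.sum_add_distrib] <;> ring
      map_smul' := fun c f => by
        refine Prod.ext (funext fun i => ?_) (Prod.ext (funext fun i => ?_) ?_) <;>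
          simp [← Finset.mul_sum] <;> ring }
  refine ⟨E, fun σ τ f => ?_, ?_, ?_, ?_⟩
  · have h1 : ∑ j, f (Sum.inl (σ.symm j)) = ∑ j, f (Sum.inl j) :=
      Equiv.sum_comp σ.symm (fun j => f (Sum.inl j))
    have h2 : ∑ j, f (Sum.inr (τ.symm j)) = ∑ j, f (Sum.inr j) :=
      Equiv.sum_comp τ.symm (fun j => f (Sum.inr j))
    refine Prod.ext (funext fun i => ?_) (Prod.ext (funext fun i => ?_) ?_) <;>
      simp [E, h1, h2]
  · intro f _
    refine ⟨?_, ?_, trivial⟩ <;>
      simp [E, Finset.sum_sub_distrib, mul_inv_cancel₀, hr0, hs0, ← mul_assoc]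
  · intro f hf g hg h
    simp only [Set.mem_setOf_eq, Fintype.sum_sum_type] at hf hg
    have hc : ∑ j, f (Sum.inl j) = ∑ j, g (Sum.inl j) := congrArg (fun z => z.2.2) h
    have hd : ∑ j, f (Sum.inr j) = ∑ j, g (Sum.inr j) := by linear_combination hf - hg - hc
    funext i
    rcases i with i | i
    · have := congrArg (fun z => z.1 i) h
      simpa [E, hc] using this
    · have := congrArg (fun z => z.2.1 i) h
      simpa [E, hd] using this
  · rintro ⟨g, h, c⟩ ⟨hg, hh, -⟩
    simp only [Set.mem_setOf_eq] at hg hh
    refine ⟨Sum.elim (fun i => g i + (r : k)⁻¹ * c) (fun i => h i - (s : k)⁻¹ * c), ?_, ?_⟩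
    · simp [Fintype.sum_sum_type, Finset.sum_add_distrib, Finset.sum_sub_distrib, hg, hh, hr0, hs0,
        ← mul_assoc]
    · refine Prod.ext (funext fun i => ?_) (Prod.ext (funext fun i => ?_) ?_) <;>
        simp [E, Finset.sum_add_distrib, Finset.sum_sub_distrib, hg, hh, hr0, hs0, ← mul_assoc]

end Groth.Agent.S19216
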