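import Groth.Statements.S19217
import Groth.Agent.Lib.DiagPow.Powers
import Groth.Agent.Lib.Depth.LocalCoh
import Mathlib.RingTheory.Jacobson.Ring

set_option autoImplicit false
universe u
open TensorProduct CategoryTheory CategoryTheory.Limits
open DiagIdeal

namespace Groth.Agent.S19217

open Groth.Agent.Lib.DiagPow Groth.Agent.Lib.DiagPow.Tensor Groth.Agent.Lib.DiagPow.Powers Groth.Agent.Lib.Depth

/-- Let k be an algebraically closed field of characteristic zero and A a smooth k-algebra which is a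
domain of Krull dimension 2 (an affine piece of a smooth surface). In the n-fold tensor power R of A
over k, indexed by Fin n, let I_p (p = (i, j), i < j) be the ideal generated by the a_i − a_j, a ∈
A, the ideal of the diagonal of factors i and j; let M be the intersection of the powers I_p ^ ℓ(p)
over all p with i < j, for arbitrary exponents ℓ; and let 𝔞 be the intersection, over all pairs of
distinct index pairs p ≠ q, of I_p + I_q (an ideal cutting out the locus W where two distinct
pairwise diagonals meet, of codimension 4). Then the local cohomology modules of M with support in 𝔞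
vanish in degrees 0 and 1; equivalently M, as a sheaf on Spec R, coincides with the direct image of
its restriction to the complement of W. (The source states this for the product of copies of a
smooth quasi-projective complex surface, as the equality of the direct image from the complement of
W of the restricted product of the powers of the diagonal ideals with the intersection of those
powers; the two sheaves agree away from W, where the diagonals are pairwise disjoint.) -/
theorem result (k : Type u) [Field k] [IsAlgClosed k] [CharZero k]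
    (A : Type u) [CommRing A] [Algebra k A] [Algebra.Smooth k A] [IsDomain A]
    (hdim : ringKrullDim A = 2) (n : ℕ) (ℓ : Fin n × Fin n → ℕ)
    (I : Fin n × Fin n → Ideal (⨂[k] _ : Fin n, A))
    (hI : ∀ p, I p = Ideal.span (Set.range fun a : A =>
        PiTensorProduct.singleAlgHom (R := k) (A := fun _ : Fin n => A) p.1 a -
        PiTensorProduct.singleAlgHom (R := k) (A := fun _ : Fin n => A) p.2 a))
    (𝔞 : Ideal (⨂[k] _ : Fin n, A))
    (h𝔞 : 𝔞 = ⨅ pq ∈ Finset.univ.filter (fun pq : (Fin n × Fin n) × (Fin n × Fin n) =>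
        pq.1.1 < pq.1.2 ∧ pq.2.1 < pq.2.2 ∧ pq.1 ≠ pq.2), I pq.1 ⊔ I pq.2)
    (M : Submodule (⨂[k] _ : Fin n, A) (⨂[k] _ : Fin n, A))
    (hM : M = ⨅ p ∈ Finset.univ.filter (fun p : Fin n × Fin n => p.1 < p.2), (I p) ^ (ℓ p)) :
    IsZero ((localCohomology 𝔞 0).obj (ModuleCat.of (⨂[k] _ : Fin n, A) M)) ∧
    IsZero ((localCohomology 𝔞 1).obj (ModuleCat.of (⨂[k] _ : Fin n, A) M)) := by
  classical
  haveI : IsDomain (⨂[k] _ : Fin n, A) := Tensor.isDomain (k := k) (A := A) n
  haveI : Algebra.Smooth k (⨂[k] _ : Fin n, A) := Tensor.smooth (k := k) (A := A) n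
  haveI : IsIntegrallyClosed (⨂[k] _ : Fin n, A) := Tensor.isIntegrallyClosed (k := k) (A := A) n
  haveI : IsNoetherianRing (⨂[k] _ : Fin n, A) := Algebra.FiniteType.isNoetherianRing k _
  obtain ⟨mA, hmA⟩ := Ideal.exists_maximal A
  letI := Ideal.Quotient.field mA
  haveI : Module.Finite k (A ⧸ mA) := finite_of_finite_type_of_isJacobsonRing k (A ⧸ mA)
  let χ : A →ₐ[k] k := (AlgEquiv.ofBijective (Algebra.ofId k (A ⧸ mA))
    (IsAlgClosed.algebraMap_bijective_of_isIntegral)).symm.toAlgHom.comp (Ideal.Quotient.mkₐ k mA)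
  obtain ⟨a₀, ha₀⟩ : ∃ a : A, a ∉ Set.range (algebraMap k A) := by
    by_contra! hall
    have hb : Function.Bijective (algebraMap k A) :=
      ⟨(algebraMap k A).injective, fun a => hall a⟩
    have := ringKrullDim_eq_of_ringEquiv (RingEquiv.ofBijective _ hb)
    rw [hdim, ringKrullDim_eq_zero_of_field k] at this
    exact absurd this (by decide)
  have hne : ∀ {c d : Fin n}, c ≠ d → single (k := k) c a₀ - single d a₀ ≠ 0 := by
    intro c d hcd e
    have := congrArg (liftFam (S := A) fun t => if t = c then AlgHom.id k A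
      else (Algebra.ofId k A).comp χ) e
    rw [map_sub, liftFam_single, liftFam_single, if_pos rfl, if_neg hcd.symm, map_zero,
      sub_eq_zero] at this
    exact ha₀ ⟨χ a₀, this.symm⟩
  have hIeq : ∀ p, I p = diag k A p.1 p.2 := fun p => hI p
  have hnle : ∀ {i j c d : Fin n}, i < j → c < d → (c, d) ≠ (i, j) →
      ¬ diag k A c d ≤ diag k A i j := by
    intro i j c d hij hcd hne' hle
    have h := hle (δ_mem c d a₀)
    rw [diag_eq_ker hij.ne, RingHom.mem_ker] at h
    have hc : ∀ t, retract (k := k) (A := A) i j (single t a₀) = single (if t = j then i else t) a₀ := by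
      intro t
      by_cases ht : t = j <;> simp [retract, ht]
    rw [δ, map_sub, hc, hc] at h
    refine hne ?_ h
    by_cases h1 : c = j
    · subst h1
      rw [if_pos rfl, if_neg hcd.ne']
      exact (hij.trans hcd).ne
    · rw [if_neg h1]
      by_cases h2 : d = j
      · subst h2
        rw [if_pos rfl]
        exact fun e => hne' (by rw [e])
      · rw [if_neg h2]
        exact hcd.ne
  set F := Finset.univ.filter (fun pq : (Fin n × Fin n) × (Fin n × Fin n) =>
    pq.1.1 < pq.1.2 ∧ pq.2.1 < pq.2.2 ∧ pq.1 ≠ pq.2) with hF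
  have hprod : ∏ pq ∈ F, (I pq.1 ⊔ I pq.2) ≤ 𝔞 := by
    rw [h𝔞]
    exact le_iInf₂ fun pq hpq => Ideal.le_of_dvd (Finset.dvd_prod_of_mem _ hpq)
  have h𝔞0 : ¬ 𝔞 ≤ ⊥ := by
    intro hle
    have h0 := hprod.trans hle
    rw [le_bot_iff, ← Ideal.zero_eq_bot, Finset.prod_eq_zero_iff] at h0
    obtain ⟨pq, hpq, h0⟩ := h0
    have hlt := (Finset.mem_filter.1 hpq).2.1
    have hmem : δ (k := k) pq.1.1 pq.1.2 a₀ ∈ I pq.1 ⊔ I pq.2 :=
      Submodule.mem_sup_left (hIeq pq.1 ▸ δ_mem _ _ _)
    rw [h0, Ideal.zero_eq_bot, Ideal.mem_bot] at hmem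
    exact hne hlt.ne hmem
  obtain ⟨x, hx, hx0⟩ := SetLike.not_le_iff_exists.1 h𝔞0
  rw [Ideal.mem_bot] at hx0
  have hout : ∀ p : Fin n × Fin n, p.1 < p.2 → ∃ s ∈ 𝔞, s ∉ I p := by
    intro p hp
    haveI := diag_isPrime (k := k) (A := A) hp.ne
    by_contra! hcon
    have hle : ∏ pq ∈ F, (I pq.1 ⊔ I pq.2) ≤ diag k A p.1 p.2 :=
      hprod.trans fun s hs => hIeq p ▸ hcon s hs
    obtain ⟨pq, hpq, hle⟩ := (Ideal.IsPrime.prod_le inferInstance).1 hle
    obtain ⟨hl1, hl2, hl3⟩ := (Finset.mem_filter.1 hpq).2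
    rw [hIeq, hIeq, sup_le_iff] at hle
    by_cases h : pq.1 = p
    · exact hnle hp hl2 (fun e => hl3 (h.trans e.symm)) hle.2
    · exact hnle hp hl1 h hle.1
  obtain ⟨T, D, hD⟩ := exists_coords k A
  have hmemM : ∀ (N : ℕ) (r : ⨂[k] _ : Fin n, A), (∀ a ∈ 𝔞 ^ N, a * r ∈ M) → r ∈ M := by
    intro N r hr
    rw [hM, Submodule.mem_iInf]
    intro p
    rw [Submodule.mem_iInf]
    intro hp
    have hp' := (Finset.mem_filter.1 hp).2
    haveI := diag_isPrime (k := k) (A := A) hp'.ne
    obtain ⟨s, hs, hs'⟩ := hout p hp'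
    rw [hIeq] at hs' ⊢
    refine primary hD hp'.ne (ℓ p) (s := s ^ N)
      (fun h => hs' (Ideal.IsPrime.mem_of_pow_mem inferInstance N h)) ?_
    have h1 := hr _ (Ideal.pow_mem_pow hs N)
    rw [hM, Submodule.mem_iInf] at h1
    have h2 := h1 p
    rw [Submodule.mem_iInf] at h2
    exact hIeq p ▸ h2 hp
  let P : Ideal (⨂[k] _ : Fin n, A) → Prop := fun J =>
    ∀ m, (∀ a ∈ J, a * m ∈ Ideal.span {x}) → m ∈ Ideal.span {x}
  have Pmul : ∀ J₁ J₂, P J₁ → P J₂ → P (J₁ * J₂) := fun J₁ J₂ h1 h2 m hm =>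
    h2 m fun b hb => h1 _ fun a ha => by
      rw [← mul_assoc]; exact hm _ (Ideal.mul_mem_mul ha hb)
  have Pone : P 1 := fun m hm => by simpa using hm 1 (by simp)
  have Pmono : ∀ {J₁ J₂}, J₁ ≤ J₂ → P J₁ → P J₂ := fun hle h1 m hm => h1 m fun a ha => hm a (hle ha)
  have P𝔞 : P 𝔞 := Pmono hprod (Finset.prod_induction _ P Pmul Pone fun pq hpq => by
    refine Pmono le_sup_left ?_
    rw [hIeq]
    exact fun m hm => mem_span_of_mul_diag hdim χ (Finset.mem_filter.1 hpq).2.1.ne hx0 hm)
  have Ppow : ∀ N, P (𝔞 ^ N) := by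
    intro N
    induction N with
    | zero => simpa using Pone
    | succ N ih => rw [pow_succ]; exact Pmul _ _ ih P𝔞
  have hreg : IsSMulRegular (ModuleCat.of (⨂[k] _ : Fin n, A) M) x := by
    intro m m' h
    exact Subtype.ext (mul_left_cancel₀ hx0 (congrArg Subtype.val h))
  have H0 : Subsingleton ((localCohomology 𝔞 0).obj (ModuleCat.of (⨂[k] _ : Fin n, A) M)) := by
    refine (LocalCoh.subsingleton_H_zero_iff 𝔞 _).2 fun m ⟨N, hN⟩ => ?_
    exact (hreg.pow N).right_eq_zero_of_smul (hN _ (Ideal.pow_mem_pow hx N))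
  have H1 : Subsingleton ((localCohomology 𝔞 1).obj (ModuleCat.of (⨂[k] _ : Fin n, A) M)) := by
    refine LocalCoh.subsingleton_H_succ 𝔞 hx hreg ?_
    refine (LocalCoh.subsingleton_H_zero_iff 𝔞 _).2 fun q ⟨N, hN⟩ => ?_
    obtain ⟨m, rfl⟩ := Submodule.Quotient.mk_surjective _ q
    have hm' : ∀ a ∈ 𝔞 ^ N, ∃ m' : M, x • m' = a • m := by
      intro a ha
      have h := hN a ha
      rw [← Submodule.Quotient.mk_smul, Submodule.Quotient.mk_eq_zero,
        Submodule.mem_smul_pointwise_iff_exists] at h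
      obtain ⟨m', -, hm'⟩ := h
      exact ⟨m', hm'⟩
    obtain ⟨r, hr⟩ := Ideal.mem_span_singleton'.1 (Ppow N (m : ⨂[k] _ : Fin n, A) fun a ha => by
      obtain ⟨m', hm'⟩ := hm' a ha
      exact Ideal.mem_span_singleton'.2 ⟨m', by
        rw [mul_comm]; exact congrArg Subtype.val hm'⟩)
    have hrM : r ∈ M := hmemM N r fun a ha => by
      obtain ⟨m', hm'⟩ := hm' a ha
      have e : x * (m' : ⨂[k] _ : Fin n, A) = a * m := congrArg Subtype.val hm'
      rw [← hr] at e
      have e' : (m' : ⨂[k] _ : Fin n, A) = a * r := mul_left_cancel₀ hx0 (e.trans (by ring))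
      exact e' ▸ m'.2
    rw [Submodule.Quotient.mk_eq_zero, Submodule.mem_smul_pointwise_iff_exists]
    exact ⟨⟨r, hrM⟩, trivial, Subtype.ext ((mul_comm _ _).trans hr)⟩
  exact ⟨@ModuleCat.isZero_of_subsingleton _ _ _ H0, @ModuleCat.isZero_of_subsingleton _ _ _ H1⟩

end Groth.Agent.S19217
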