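import Groth.Statements.S19218
import Groth.Agent.H19.PiTensor

set_option autoImplicit false
universe u v
open TensorProduct
open DiagIdeal

namespace Groth.Agent.S19218

open scoped TensorProduct
open Groth.Agent.H19.PiTensor

lemma aux (k : Type u) [Field k] [CharZero k] (A : Type v) [CommRing A] [Algebra k A]
    (n : ℕ) (p q : Fin n) (I : Ideal (⨂[k] _ : Fin n, A))
    (hI : I = Ideal.span (Set.range fun a : A =>
        PiTensorProduct.singleAlgHom (R := k) (A := fun _ : Fin n => A) p a -
        PiTensorProduct.singleAlgHom (R := k) (A := fun _ : Fin n => A) q a))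
    (x : ⨂[k] _ : Fin n, A) (hx : perm (k := k) (A := A) (Equiv.swap p q) x = x)
    (s : ℕ) (hs : Odd s) (hmem : x ∈ I ^ s) : x ∈ I ^ (s + 1) := by
  set σ := perm (k := k) (A := A) (Equiv.swap p q) with hσ
  let e : Fin n → (A →ₐ[k] ⨂[k] _ : Fin n, A) := fun i =>
    PiTensorProduct.singleAlgHom (R := k) (A := fun _ : Fin n => A) i
  have hσe : ∀ i a, σ (e i a) = e (Equiv.swap p q i) a := fun i a => perm_single _ i a
  have h0 : ∀ z, σ z - z ∈ I := by
    intro z
    rw [← Ideal.Quotient.eq]
    have : (Ideal.Quotient.mkₐ k I).comp σ = Ideal.Quotient.mkₐ k I := by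
      refine PiTensorProduct.algHom_ext fun i => AlgHom.ext fun a => ?_
      show Ideal.Quotient.mk I (σ (e i a)) = Ideal.Quotient.mk I (e i a)
      rw [hσe, Ideal.Quotient.eq, Equiv.swap_apply_def, hI]
      split_ifs with h1 h2
      · subst h1
        rw [← neg_sub]
        exact neg_mem (Ideal.subset_span ⟨a, rfl⟩)
      · subst h2
        exact Ideal.subset_span ⟨a, rfl⟩
      · simp
    exact congr($this z)
  have h1 : ∀ z ∈ I, σ z + z ∈ I ^ 2 := by
    intro z hz
    have hz' := hz
    rw [hI] at hz'
    refine (Submodule.span_induction (p := fun y _ => ∀ r, σ (r * y) + r * y ∈ I ^ 2)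
      ?_ ?_ ?_ ?_ hz' |> fun h => by simpa using h 1)
    · rintro _ ⟨a, rfl⟩ r
      have hg : e p a - e q a ∈ I := by rw [hI]; exact Ideal.subset_span ⟨a, rfl⟩
      have hσg : σ (e p a - e q a) = - (e p a - e q a) := by
        rw [map_sub, hσe, hσe, Equiv.swap_apply_left, Equiv.swap_apply_right, neg_sub]
      have : σ (r * (e p a - e q a)) + r * (e p a - e q a) =
          (r - σ r) * (e p a - e q a) := by rw [map_mul, hσg]; ring
      rw [this, pow_two]
      refine Ideal.mul_mem_mul ?_ hg
      rw [← neg_sub]; exact neg_mem (h0 r)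
    · intro r; simp
    · intro a b _ _ ha hb r
      rw [mul_add, map_add, add_add_add_comm]
      exact add_mem (ha r) (hb r)
    · intro c a _ ha r
      rw [smul_eq_mul, ← mul_assoc]
      exact ha _
  have hgen : ∀ t : ℕ, ∀ z ∈ I ^ t, σ z - (-1) ^ t * z ∈ I ^ (t + 1) := by
    intro t
    induction t with
    | zero => intro z _; simpa using h0 z
    | succ t ih =>
      intro z hz
      rw [pow_succ] at hz
      refine Submodule.mul_induction_on hz ?_ ?_
      · intro a ha b hb
        have e1 : σ (a * b) - (-1) ^ (t + 1) * (a * b) =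
            (σ a - (-1) ^ t * a) * σ b + (-1) ^ t * (a * (σ b + b)) := by
          rw [map_mul]; ring
        rw [e1]
        refine add_mem ?_ (Ideal.mul_mem_left _ _ ?_)
        · rw [pow_succ _ (t + 1)]
          refine Ideal.mul_mem_mul (ih a ha) ?_
          have := add_mem (h0 b) hb
          simpa using this
        · rw [pow_add _ t 2]
          exact Ideal.mul_mem_mul ha (h1 b hb)
      · intro a b ha hb
        rw [map_add, mul_add, add_sub_add_comm]
        exact add_mem ha hb
  have h := hgen s x hmem
  rw [hx, hs.neg_one_pow, neg_one_mul, sub_neg_eq_add, ← two_smul k] at h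
  have h2 := Submodule.smul_of_tower_mem (I ^ (s + 1)) (2⁻¹ : k) h
  rwa [smul_smul, inv_mul_cancel₀ (two_ne_zero : (2 : k) ≠ 0), one_smul] at h2


/-- Let k be an algebraically closed field of characteristic zero and A a smooth k-algebra which is a
domain of Krull dimension 2. In the n-fold tensor power R of A over k, indexed by Fin n, let I_p (p
= (i, j), i < j) be the ideal generated by the a_i − a_j, a ∈ A, and let I be the intersection of
the I_p, the ideal of the big diagonal. Assume that for every s ≥ 0 the power I ^ s is the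
intersection of the powers I_p ^ s (a property of the big diagonal of a smooth surface that the
source takes from the literature). Then for m ≥ 1 every element of R fixed by all permutations of
the n factors and lying in I ^ (2m − 1) lies in I ^ (2m): on the symmetric product the invariants of
the odd power and of the next even power of the ideal of the big diagonal coincide. (The source
states the sheaf version for a smooth quasi-projective complex surface, using the displayed property
of the powers without restating it as a hypothesis.) -/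
theorem result (k : Type u) [Field k] [IsAlgClosed k] [CharZero k]
    (A : Type v) [CommRing A] [Algebra k A] [Algebra.Smooth k A] [IsDomain A]
    (hdim : ringKrullDim A = 2) (n : ℕ)
    (I : Fin n × Fin n → Ideal (⨂[k] _ : Fin n, A))
    (hI : ∀ p, I p = Ideal.span (Set.range fun a : A =>
        PiTensorProduct.singleAlgHom (R := k) (A := fun _ : Fin n => A) p.1 a -
        PiTensorProduct.singleAlgHom (R := k) (A := fun _ : Fin n => A) p.2 a))
    (IΔ : Ideal (⨂[k] _ : Fin n, A))
    (hIΔ : IΔ = ⨅ p ∈ Finset.univ.filter (fun p : Fin n × Fin n => p.1 < p.2), I p)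
    (hpow : ∀ s : ℕ, IΔ ^ s = ⨅ p ∈ Finset.univ.filter (fun p : Fin n × Fin n => p.1 < p.2), (I p) ^ s)
    (m : ℕ) (hm : 1 ≤ m) (x : ⨂[k] _ : Fin n, A)
    (hx : ∀ σ : Equiv.Perm (Fin n), PiTensorProduct.reindex k (fun _ : Fin n => A) σ x = x)
    (hmem : x ∈ IΔ ^ (2 * m - 1)) :
    x ∈ IΔ ^ (2 * m) := by
  rw [hpow] at hmem ⊢
  simp only [Submodule.mem_iInf] at hmem ⊢
  intro p hp
  have hodd : Odd (2 * m - 1) := ⟨m - 1, by omega⟩
  have hs : 2 * m - 1 + 1 = 2 * m := by omega
  have h := aux k A n p.1 p.2 (I p) (hI p) x (by rw [← reindex_eq_perm]; exact hx _) _ hodd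
    (hmem p hp)
  rwa [hs] at h


end Groth.Agent.S19218
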