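import Groth.Statements.S19219
import Groth.Agent.Lib.DR.TorTriple
import Groth.Agent.Lib.Synt92.KoszulFlat
import Groth.Agent.Lib.EGA75.CMLocus

set_option autoImplicit false
set_option linter.style.haveILetI false
set_option maxSynthPendingDepth 3
set_option backward.isDefEq.respectTransparency false
universe u
open CategoryTheory CategoryTheory.Limits MonoidalCategory TensorProduct
attribute [local instance] HasDerivedCategory.standard
open DTen

open Groth.Agent.Lib.DR

namespace Groth.Agent.S19219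

variable {A : Type u} [CommRing A]

/-- The combination of a family of elements, with coefficients in `B`. -/
noncomputable def famMap (B : Type u) [CommRing B] [Algebra A B] {V : Type u} [AddCommGroup V] [Module A V]
    {n : ℕ} (x : Fin n → V) : (Fin n → B) →ₗ[A] B ⊗[A] V :=
  LinearMap.lsum A (fun _ : Fin n => B) A fun i => (TensorProduct.mk A B V).flip (x i)

theorem famMap_apply (B : Type u) [CommRing B] [Algebra A B] {V : Type u} [AddCommGroup V] [Module A V]
    {n : ℕ} (x : Fin n → V) (y : Fin n → B) : famMap B x y = ∑ i, y i ⊗ₜ[A] x i := by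
  simp [famMap]

/-- Splitting a tuple. -/
noncomputable def splitEquiv (B : Type u) [CommRing B] [Algebra A B] (m n : ℕ) :
    (Fin (m + n) → B) ≃ₗ[A] (Fin m → B) × (Fin n → B) :=
  LinearEquiv.funCongrLeft A B finSumFinEquiv ≪≫ₗ LinearEquiv.sumArrowLequivProdArrow (Fin m) (Fin n) A B

/-- `famMap` of a concatenation. -/
theorem famMap_append (B : Type u) [CommRing B] [Algebra A B] {V W : Type u} [AddCommGroup V] [Module A V]
    [AddCommGroup W] [Module A W] {m n : ℕ} (x : Fin m → V) (y : Fin n → W) :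
    famMap B (Fin.append (fun i => ((x i, 0) : V × W)) (fun i => ((0, y i) : V × W))) =
      (TensorProduct.prodRight A A B V W).symm.toLinearMap ∘ₗ
        (famMap B x).prodMap (famMap B y) ∘ₗ (splitEquiv B m n).toLinearMap := by
  refine LinearMap.ext fun z => ?_
  apply (TensorProduct.prodRight A A B V W).injective
  simp only [LinearMap.comp_apply, LinearEquiv.coe_coe, LinearEquiv.apply_symm_apply, famMap_apply,
    LinearMap.prodMap_apply, map_sum, TensorProduct.prodRight_tmul, Fin.sum_univ_add,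
    Fin.append_left, Fin.append_right]
  refine Prod.ext ?_ ?_
  · simp [Prod.fst_sum, splitEquiv]
  · simp [Prod.snd_sum, splitEquiv]

/-- Localisation commutes with finite powers. -/
noncomputable def locPiEquiv (p : Ideal A) [p.IsPrime] (X : Type u) [AddCommGroup X] [Module A X] (N : ℕ) :
    LocalizedModule p.primeCompl (Fin N → X) ≃ₗ[A] (Fin N → LocalizedModule p.primeCompl X) :=
  (TorTriple.tensorLocEquiv p (Fin N → X)).symm ≪≫ₗ
    TensorProduct.piRight A A (Localization.AtPrime p) (fun _ : Fin N => X) ≪≫ₗ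
    LinearEquiv.piCongrRight (fun _ => TorTriple.tensorLocEquiv p X)

theorem exists_scalar (p : Ideal A) [p.IsPrime] {I : Ideal A} {n : ℕ} (f : Fin n → A)
    (h : (Ideal.ofList (List.ofFn f)).map (algebraMap A (Localization.AtPrime p)) =
      I.map (algebraMap A (Localization.AtPrime p))) :
    ∀ x ∈ I, ∃ s ∈ p.primeCompl, s * x ∈ Ideal.span (Set.range f) := by
  intro x hx
  have h2 := Ideal.mem_map_of_mem (algebraMap A (Localization.AtPrime p)) hx
  rw [← h, IsLocalization.algebraMap_mem_map_algebraMap_iff p.primeCompl] at h2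
  obtain ⟨s, hs, h3⟩ := h2
  refine ⟨s, hs, ?_⟩
  have : Ideal.ofList (List.ofFn f) = Ideal.span (Set.range f) := by
    rw [Ideal.ofList]; congr 1; ext a; simp
  rwa [this] at h3

theorem ofList_ofFn {R : Type u} [CommRing R] {n : ℕ} (f : Fin n → R) :
    Ideal.ofList (List.ofFn f) = Ideal.span (Set.range f) := by
  rw [Ideal.ofList]; congr 1; ext a; simp

theorem map_ofList_ofFn {R : Type u} [CommRing R] [Algebra A R] {n : ℕ} (f : Fin n → A) :
    (Ideal.ofList (List.ofFn f)).map (algebraMap A R) = Ideal.span (Set.range (algebraMap A R ∘ f)) := by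
  rw [ofList_ofFn, Ideal.map_span, Set.range_comp]

theorem regular_quotient {k : Type u} [Field k] [Algebra k A] (I : Ideal A) [Algebra.Smooth k (A ⧸ I)]
    (p : Ideal A) [p.IsPrime] (h : I.map (algebraMap A (Localization.AtPrime p)) ≠ ⊤) :
    IsRegularLocalRing (Localization.AtPrime p ⧸ I.map (algebraMap A (Localization.AtPrime p))) := by
  have hIp : I ≤ p := by
    intro x hx
    by_contra hxp
    exact h (Ideal.eq_top_of_isUnit_mem _ (Ideal.mem_map_of_mem _ hx)
      (IsLocalization.map_units (Localization.AtPrime p) (⟨x, hxp⟩ : p.primeCompl)))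
  let Q := p.map (Ideal.Quotient.mk I)
  haveI : Q.IsPrime := Ideal.map_isPrime_of_surjective Ideal.Quotient.mk_surjective (by rwa [Ideal.mk_ker])
  have hQ : Q.comap (Ideal.Quotient.mk I) = p := by
    rw [Ideal.comap_map_of_surjective _ Ideal.Quotient.mk_surjective, ← RingHom.ker_eq_comap_bot,
      Ideal.mk_ker, sup_eq_left.2 hIp]
  obtain ⟨e⟩ := Groth.Agent.Lib.EGA75.CMLocus.nonempty_quotientEquiv A I Q p hQ
  haveI := Groth.Agent.Lib.Synt92.KoszulFlat.isRegularLocalRing_of_smooth k (A ⧸ I) Q
  exact IsRegularLocalRing.of_ringEquiv e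

theorem exists_local_gens {k : Type u} [Field k] [Algebra k A] [Algebra.Smooth k A] [IsNoetherianRing A]
    (I : Ideal A) [Algebra.Smooth k (A ⧸ I)] (p : Ideal A) [p.IsPrime] :
    ∃ (n : ℕ) (f : Fin n → A), (∀ i, f i ∈ I) ∧
      RingTheory.Sequence.IsWeaklyRegular (Localization.AtPrime p)
        (List.ofFn fun i => algebraMap A (Localization.AtPrime p) (f i)) ∧
      RingTheory.Sequence.IsWeaklyRegular (Localization.AtPrime p) (List.ofFn f) ∧
      (Ideal.ofList (List.ofFn f)).map (algebraMap A (Localization.AtPrime p)) =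
        I.map (algebraMap A (Localization.AtPrime p)) := by
  obtain ⟨m, G, hG⟩ := Submodule.fg_iff_exists_fin_generating_family.1 (IsNoetherian.noetherian I)
  haveI := Groth.Agent.Lib.Synt92.KoszulFlat.isRegularLocalRing_of_smooth k A p
  have hmap : I.map (algebraMap A (Localization.AtPrime p)) =
      Ideal.span (Set.range (algebraMap A (Localization.AtPrime p) ∘ G)) := by
    rw [← hG, Ideal.submodule_span_eq, Ideal.map_span, Set.range_comp]
  obtain ⟨c, a, -, hreg, hspan⟩ := RegSub.exists_subfamily (algebraMap A (Localization.AtPrime p) ∘ G)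
    (fun hne => by rw [← hmap] at hne ⊢; exact regular_quotient (k := k) I p hne)
  refine ⟨c, G ∘ a, fun i => hG ▸ Submodule.subset_span ⟨a i, rfl⟩, hreg, ?_, ?_⟩
  · rw [← RingTheory.Sequence.isWeaklyRegular_map_algebraMap_iff (Localization.AtPrime p), List.map_ofFn]
    exact hreg
  · rw [map_ofList_ofFn, hmap, ← hspan]
    rfl

/-- Let k be an algebraically closed field of characteristic zero, A a smooth k-algebra which is a
domain, and J₁, J₂, J₃ ideals of A such that each A/Jᵢ is smooth over k and A/J is smooth over k,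
where J = J₁ + J₂ + J₃ (three smooth closed subschemes of Spec A whose scheme-theoretic intersection
Z is smooth). Let S : J₁ × J₂ × J₃ → J be the sum map and K the kernel of its base change to A/J,
i.e. of (A/J) ⊗_A (J₁ ⊕ J₂ ⊕ J₃) → (A/J) ⊗_A J = J/J², the dual of the quotient of the sum of the
restricted normal bundles by the normal bundle of Z. Assume the jointly derived triple tensor
product on D(A) exists (binder). Then for every q ≥ 0 and every prime ideal 𝔭 of A, the localization
at 𝔭 of the cohomology module in degree −q of A/J₁ ⊗^L A/J₂ ⊗^L A/J₃ (the triple Tor_q of the three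
quotients) is carried by a bijective A-linear map onto the localization at 𝔭 of the q-th exterior
power of K over A/J, regarded as an A-module (existence of such a bijection only, prime by prime).
(The published statement is the sheaf isomorphism, for any finite number of smooth subvarieties of a
smooth complex variety; the published proof constructs the isomorphism on a sufficiently small
affine neighbourhood of each point and leaves the gluing of these local isomorphisms to the reader,
so this row states the local form, isomorphic localizations at every prime, in the case of three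
subvarieties on an affine piece, over an algebraically closed field of characteristic zero.) -/
theorem result (k : Type u) [Field k] [IsAlgClosed k] [CharZero k]
    (A : Type u) [CommRing A] [Algebra k A] [Algebra.Smooth k A] [IsDomain A] [DTen.HasLTen₃ A]
    (J₁ J₂ J₃ J : Ideal A) (hJ : J = J₁ ⊔ J₂ ⊔ J₃)
    [Algebra.Smooth k (A ⧸ J₁)] [Algebra.Smooth k (A ⧸ J₂)] [Algebra.Smooth k (A ⧸ J₃)] [Algebra.Smooth k (A ⧸ J)]
    (S : (↥J₁ × (↥J₂ × ↥J₃)) →ₗ[A] ↥J) (hS : ∀ x, (S x : A) = (x.1 : A) + (x.2.1 : A) + (x.2.2 : A))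
    (q : ℕ) (p : Ideal A) [p.IsPrime] :
    ∃ f : LocalizedModule p.primeCompl
          (Dual.HD A ((DTen.LTen₃ A).obj (Dual.inD A (A ⧸ J₁), (Dual.inD A (A ⧸ J₂), Dual.inD A (A ⧸ J₃)))) (-(q : ℤ)))
        →ₗ[A] LocalizedModule p.primeCompl
          (RestrictScalars A (A ⧸ J)
            ↥(ExteriorAlgebra.exteriorPower (A ⧸ J) q ↥(LinearMap.ker (S.baseChange (A ⧸ J))))),
      Function.Bijective f := by
  classical
  haveI : IsNoetherianRing A := Algebra.FiniteType.isNoetherianRing k A
  haveI := Groth.Agent.Lib.Synt92.KoszulFlat.isRegularLocalRing_of_smooth k A p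
  let Sp := Localization.AtPrime p
  have hgen₁ := exists_local_gens (k := k) J₁ p
  obtain ⟨n₁, f₁, hh₁⟩ := hgen₁
  have hf₁ := hh₁.1
  have hr₁ := hh₁.2.1
  have hA₁ := hh₁.2.2.1
  have hg₁ := hh₁.2.2.2
  have hgen₂ := exists_local_gens (k := k) J₂ p
  obtain ⟨n₂, f₂, hh₂⟩ := hgen₂
  have hf₂ := hh₂.1
  have hr₂ := hh₂.2.1
  have hA₂ := hh₂.2.2.1
  have hg₂ := hh₂.2.2.2
  have hgen₃ := exists_local_gens (k := k) J₃ p
  obtain ⟨n₃, f₃, hh₃⟩ := hgen₃
  have hf₃ := hh₃.1
  have hr₃ := hh₃.2.1
  have hA₃ := hh₃.2.2.1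
  have hg₃ := hh₃.2.2.2
  have h1J : J₁ ≤ J := hJ ▸ le_sup_left.trans le_sup_left
  have h2J : J₂ ≤ J := hJ ▸ le_sup_right.trans le_sup_left
  have h3J : J₃ ≤ J := hJ ▸ le_sup_right
  let g : Fin (n₁ + (n₂ + n₃)) → A := Fin.append f₁ (Fin.append f₂ f₃)
  let x₁ : Fin n₁ → J₁ := fun i => ⟨f₁ i, hf₁ i⟩
  let x₂ : Fin n₂ → J₂ := fun i => ⟨f₂ i, hf₂ i⟩
  let x₃ : Fin n₃ → J₃ := fun i => ⟨f₃ i, hf₃ i⟩
  let x₂₃ : Fin (n₂ + n₃) → ↥J₂ × ↥J₃ := Fin.append (fun i => (x₂ i, 0)) (fun i => (0, x₃ i))
  let x : Fin (n₁ + (n₂ + n₃)) → ↥J₁ × (↥J₂ × ↥J₃) :=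
    Fin.append (fun i => (x₁ i, 0)) (fun i => (0, x₂₃ i))
  have hgJ : ∀ i, g i ∈ J := by
    intro i
    induction i using Fin.addCases with
    | left i => simpa [g] using h1J (hf₁ i)
    | right i =>
      induction i using Fin.addCases with
      | left i => simpa [g] using h2J (hf₂ i)
      | right i => simpa [g] using h3J (hf₃ i)
  have hSx : ∀ i, S (x i) = ⟨g i, hgJ i⟩ := by
    intro i
    apply Subtype.ext
    rw [hS]
    induction i using Fin.addCases with
    | left i => simp [g, x, x₁]
    | right i =>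
      induction i using Fin.addCases with
      | left i => simp [g, x, x₂₃, x₂]
      | right i => simp [g, x, x₂₃, x₃]
  have hlist : List.ofFn g = List.ofFn f₁ ++ (List.ofFn f₂ ++ List.ofFn f₃) := by
    simp only [g, List.ofFn_fin_append]
  have hspanJ : Ideal.span (Set.range (algebraMap A Sp ∘ g)) = J.map (algebraMap A Sp) := by
    rw [← map_ofList_ofFn, hlist, Ideal.ofList_append, Ideal.ofList_append, Ideal.map_sup, Ideal.map_sup,
      hg₁, hg₂, hg₃, hJ, Ideal.map_sup, Ideal.map_sup, sup_assoc]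
  have hJreg : Ideal.span (Set.range (algebraMap A Sp ∘ g)) ≠ ⊤ →
      IsRegularLocalRing (Sp ⧸ Ideal.span (Set.range (algebraMap A Sp ∘ g))) := fun hne => by
    rw [hspanJ] at hne ⊢
    exact regular_quotient (k := k) J p hne
  have hsub := RegSub.exists_subfamily (algebraMap A Sp ∘ g) hJreg
  obtain ⟨c, a, hh⟩ := hsub
  have ha := hh.1
  have hreg := hh.2.1
  have hspan := hh.2.2
  -- the complementary indices
  let s : Finset (Fin (n₁ + (n₂ + n₃))) := Finset.univ \ Finset.univ.image a
  let b : Fin s.card → Fin (n₁ + (n₂ + n₃)) := fun i => s.equivFin.symm i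
  have hbinj : Function.Injective b := Subtype.val_injective.comp s.equivFin.symm.injective
  have hb : ∀ j, (∃ i, b i = j) ↔ ∀ i, a i ≠ j := by
    intro j
    constructor
    · rintro ⟨i, rfl⟩ i' h'
      have := (s.equivFin.symm i).2
      exact (Finset.mem_sdiff.1 this).2 (Finset.mem_image.2 ⟨i', Finset.mem_univ _, h'⟩)
    · intro h
      have hj : j ∈ s := Finset.mem_sdiff.2 ⟨Finset.mem_univ _, by simpa using h⟩
      exact ⟨s.equivFin ⟨j, hj⟩, by simp [b]⟩
  have hbij : Function.Bijective (Sum.elim b a) := by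
    constructor
    · exact hbinj.sumElim ha fun i i' h => (hb _).1 ⟨i, rfl⟩ i' h.symm
    · intro j
      by_cases h : ∃ i, a i = j
      · obtain ⟨i, rfl⟩ := h; exact ⟨Sum.inr i, rfl⟩
      · obtain ⟨i, hi⟩ := (hb j).2 (fun i hi => h ⟨i, hi⟩)
        exact ⟨Sum.inl i, hi⟩
  let ε := Equiv.ofBijective _ hbij
  have hperm : (List.ofFn (g ∘ b) ++ List.ofFn (g ∘ a)).Perm
      (List.ofFn f₁ ++ (List.ofFn f₂ ++ List.ofFn f₃)) := by
    rw [← hlist, ← List.map_ofFn, ← List.map_ofFn, ← List.map_append, List.ofFn_eq_map (f := g)]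
    refine List.Perm.map g ((List.perm_ext_iff_of_nodup ?_ (List.nodup_finRange _)).2 fun j => ?_)
    · rw [List.nodup_append]
      refine ⟨List.nodup_ofFn.2 hbinj, List.nodup_ofFn.2 ha, fun y hy z hz => ?_⟩
      obtain ⟨i, rfl⟩ := List.mem_ofFn.1 hy
      obtain ⟨i', rfl⟩ := List.mem_ofFn.1 hz
      exact fun h => (hb _).1 ⟨i, rfl⟩ i' h.symm
    · simp only [List.mem_append, List.mem_ofFn, List.mem_finRange, iff_true]
      obtain ⟨i | i, hi⟩ := hbij.2 j
      · exact Or.inl ⟨i, hi⟩
      · exact Or.inr ⟨i, hi⟩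
  have hregA : RingTheory.Sequence.IsWeaklyRegular Sp (List.ofFn (g ∘ a)) := by
    rw [← RingTheory.Sequence.isWeaklyRegular_map_algebraMap_iff Sp, List.map_ofFn]
    exact hreg
  have hgenJ : (Ideal.ofList (List.ofFn (g ∘ a))).map (algebraMap A Sp) = J.map (algebraMap A Sp) := by
    rw [map_ofList_ofFn, ← hspanJ, ← hspan]
    rfl
  have hzs : ∀ z ∈ List.ofFn (g ∘ b), z ∈ J := by
    intro z hz
    obtain ⟨i, rfl⟩ := List.mem_ofFn.1 hz
    exact hgJ _
  -- the left-hand side
  have eT := (TorTriple.nonempty_tor_equiv p J₁ J₂ J₃ (List.ofFn f₁) (List.ofFn f₂) (List.ofFn f₃)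
    hA₁ hA₂ hA₃ hg₁ hg₂ hg₃ (-(q : ℤ))).some
  have eK := (TorTriple.nonempty_koszul_homology p _ _ _ hperm hregA J hzs hgenJ q).some
  -- the right-hand side
  let B := A ⧸ J
  have hE : LocBij.IsLocBij p.primeCompl (famMap B x) := by
    rw [famMap_append, famMap_append]
    refine LocBij.comp (LocBij.of_equiv _) (LocBij.comp (LocBij.prodMap ?_ ?_) (LocBij.of_equiv _))
    · exact LocBij.isLocBij_conMap p J J₁ h1J f₁ hf₁ (exists_scalar p f₁ hg₁) hr₁
    refine LocBij.comp (LocBij.of_equiv _) (LocBij.comp (LocBij.prodMap ?_ ?_) (LocBij.of_equiv _))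
    · exact LocBij.isLocBij_conMap p J J₂ h2J f₂ hf₂ (exists_scalar p f₂ hg₂) hr₂
    · exact LocBij.isLocBij_conMap p J J₃ h3J f₃ hf₃ (exists_scalar p f₃ hg₃) hr₃
  have he : LocBij.IsLocBij p.primeCompl ((famMap B (x ∘ b)).coprod (famMap B (x ∘ a))) := by
    have : (famMap B (x ∘ b)).coprod (famMap B (x ∘ a)) = famMap B x ∘ₗ
        ((LinearEquiv.sumArrowLequivProdArrow (Fin s.card) (Fin c) A B).symm ≪≫ₗ
          LinearEquiv.funCongrLeft A B ε.symm).toLinearMap := by
      refine LinearMap.ext fun yz => ?_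
      simp only [LinearMap.coprod_apply, LinearMap.comp_apply, LinearEquiv.coe_coe, LinearEquiv.trans_apply,
        famMap_apply]
      rw [← Equiv.sum_comp ε (fun j => _ ⊗ₜ[A] x j), Fintype.sum_sum_type]
      have hεl : ∀ i, ε.symm (b i) = Sum.inl i := fun i => ε.symm_apply_eq.2 rfl
      have hεr : ∀ i, ε.symm (a i) = Sum.inr i := fun i => ε.symm_apply_eq.2 rfl
      have hl : ∀ i, ε (Sum.inl i) = b i := fun i => rfl
      have hr : ∀ i, ε (Sum.inr i) = a i := fun i => rfl
      simp [hl, hr, hεl, hεr, LinearEquiv.funCongrLeft_apply]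
      rfl
    rw [this]
    exact LocBij.comp hE (LocBij.of_equiv _)
  have hh : LocBij.IsLocBij p.primeCompl ((S.baseChange B).restrictScalars A ∘ₗ famMap B (x ∘ a)) := by
    have : (S.baseChange B).restrictScalars A ∘ₗ famMap B (x ∘ a) =
        LocBij.conMap J J (g ∘ a) (fun i => hgJ _) := by
      refine LinearMap.ext fun y => ?_
      simp only [LinearMap.comp_apply, LinearMap.restrictScalars_apply, famMap_apply, map_sum,
        LinearMap.baseChange_tmul, Function.comp_apply, hSx]
      exact (LocBij.conMap_apply J J (g ∘ a) (fun i => hgJ _) y).symm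
    rw [this]
    exact LocBij.isLocBij_conMap p J J le_rfl (g ∘ a) (fun i => hgJ _) (exists_scalar p _ hgenJ) hreg
  haveI : Module.FinitePresentation A (B ⊗[A] ↥J) := Module.finitePresentation_of_finite A _
  have hker := LocBij.exists_ker (S.baseChange B) _ _ he hh
  let φ₀ := hker.choose
  have hφ₀ := hker.choose_spec
  let φ : (Fin s.card → B) →ₗ[B] LinearMap.ker (S.baseChange B) :=
    LinearMap.extendScalarsOfSurjective Ideal.Quotient.mk_surjective φ₀
  haveI : Module.Finite A (LinearMap.ker (S.baseChange B)) :=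
    Module.Finite.of_injective ((LinearMap.ker (S.baseChange B)).subtype.restrictScalars A)
      Subtype.val_injective
  haveI : Module.FinitePresentation A (LinearMap.ker (S.baseChange B)) :=
    Module.finitePresentation_of_finite A _
  have e1 := (LocBij.nonempty_equiv
    (LocBij.isLocBij_exteriorPower (S := p.primeCompl) B Ideal.Quotient.mk_surjective φ hφ₀ q)).some
  have e2 := (LocBij.nonempty_exteriorPower_equiv (A := A) B s.card q).some
  have e3 := (LocBij.nonempty_equiv (LocBij.of_equiv (S := p.primeCompl) e2)).some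
  have hlen : (List.ofFn (g ∘ b)).length = s.card := List.length_ofFn
  let e := eT ≪≫ₗ eK ≪≫ₗ LinearEquiv.funCongrLeft A _ (finCongr (by rw [hlen])) ≪≫ₗ
    (locPiEquiv p B _).symm ≪≫ₗ e3.symm ≪≫ₗ e1
  exact ⟨e.toLinearMap, e.bijective⟩

end Groth.Agent.S19219
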