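import Groth.Statements.S19221
import Mathlib.LinearAlgebra.Matrix.Determinant.Basic
import Mathlib.LinearAlgebra.ExteriorAlgebra.OfAlternating

set_option autoImplicit false
universe u
open SymRep

namespace Groth.Agent.S19221

/-- The coordinates of a cycle vector. -/
def zZ (i j l a b : Fin 4) : ℤ :=
  (if a = i ∧ b = j then 1 else 0) + (if a = j ∧ b = l then 1 else 0) + (if a = l ∧ b = i then 1 else 0)
    - (if a = j ∧ b = i then 1 else 0) - (if a = l ∧ b = j then 1 else 0) - (if a = i ∧ b = l then 1 else 0)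

/-- The minor of two cycles at two edges. -/
def minorZ (σ : Equiv.Perm (Fin 4)) : ℤ :=
  zZ (σ 0) (σ 1) (σ 2) 0 1 * zZ (σ 0) (σ 2) (σ 3) 2 3 - zZ (σ 0) (σ 1) (σ 2) 2 3 * zZ (σ 0) (σ 2) (σ 3) 0 1

set_option maxHeartbeats 1000000 in
lemma det_block {R : Type*} [CommRing R] (a b c d : R) :
    Matrix.det !![a, 0, b, 0; 0, a, 0, b; c, 0, d, 0; 0, c, 0, d] = (a * d - b * c) ^ 2 := by
  simp [Matrix.det_succ_row_zero, Fin.sum_univ_succ, Fin.succAbove]
  ring

/-- The determinant form on four vectors, as a family. -/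
noncomputable def fam {R M : Type*} [CommRing R] [AddCommGroup M] [Module R M] (L : M →ₗ[R] (Fin 4 → R)) :
    ∀ n : ℕ, M [⋀^Fin n]→ₗ[R] R
  | 4 => (Matrix.detRowAlternating : (Fin 4 → R) [⋀^Fin 4]→ₗ[R] R).compLinearMap L
  | _ => 0

/-- Let k be a field of characteristic zero and F the k-space of functions Fin 2 → Fin 4 → Fin 4 → k,
with the symmetric group of Fin 4 acting through P σ f c a b = f c (σ⁻¹ a) (σ⁻¹ b). The signed edge
vectors of the complete graph on four vertices live in F as the functions antisymmetric in the two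
vertex arguments, and for a colour c and an oriented 3-cycle i → j → l → i the cycle vector z c i j
l is the function equal, in colour c, to +1 at (i,j), (j,l), (l,i), to −1 at (j,i), (l,j), (i,l) and
to 0 elsewhere (and 0 in the other colour); these cycle vectors span k² ⊗ (cycle space), the
representation written C² ⊗ q in the published text. Let Γ be the graph with edges 01, 02, 03, 12,
23 (a 4-cycle with one chord), whose cycle space is spanned by the cycles (0,1,2) and (0,2,3), and
let ω be the product in the exterior algebra of F of the four vectors z 0 0 1 2, z 1 0 1 2, z 0 0 2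
3, z 1 0 2 3 (a generator of the top exterior power of k² ⊗ q_Γ). Then ω is fixed by the stabiliser
of Γ in the symmetric group (generated by the transpositions (0 2) and (1 3)), and the sum over all
24 permutations σ of the images of ω under the maps induced by P σ is nonzero: the projection of ω
to the invariants of the fourth exterior power of k² ⊗ q_{K₄} does not vanish. (The published
statement is over the complex numbers; a field of characteristic zero is used here. The published
statement also asserts that this map is an isomorphism onto the one-dimensional space of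
S₄-invariants of the fourth exterior power of k² ⊗ q_{K₄}; only its non-vanishing is stated here.) -/
theorem result (k : Type u) [Field k] [CharZero k]
    (P : Equiv.Perm (Fin 4) → ((Fin 2 → Fin 4 → Fin 4 → k) →ₗ[k] (Fin 2 → Fin 4 → Fin 4 → k)))
    (hP : ∀ (σ : Equiv.Perm (Fin 4)) (f : Fin 2 → Fin 4 → Fin 4 → k) (c : Fin 2) (a b : Fin 4),
      P σ f c a b = f c (σ.symm a) (σ.symm b))
    (z : Fin 2 → Fin 4 → Fin 4 → Fin 4 → (Fin 2 → Fin 4 → Fin 4 → k))
    (hz : ∀ (c : Fin 2) (i j l : Fin 4) (c' : Fin 2) (a b : Fin 4), z c i j l c' a b =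
      if c' = c then
        ((if a = i ∧ b = j then 1 else 0) + (if a = j ∧ b = l then 1 else 0) + (if a = l ∧ b = i then 1 else 0)
          - (if a = j ∧ b = i then 1 else 0) - (if a = l ∧ b = j then 1 else 0) - (if a = i ∧ b = l then 1 else 0))
      else 0)
    (ω : ExteriorAlgebra k (Fin 2 → Fin 4 → Fin 4 → k))
    (hω : ω = ExteriorAlgebra.ι k (z 0 0 1 2) * ExteriorAlgebra.ι k (z 1 0 1 2) *
      ExteriorAlgebra.ι k (z 0 0 2 3) * ExteriorAlgebra.ι k (z 1 0 2 3)) :
    ExteriorAlgebra.map (P (Equiv.swap 0 2)) ω = ω ∧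
    ExteriorAlgebra.map (P (Equiv.swap 1 3)) ω = ω ∧
    (∑ σ : Equiv.Perm (Fin 4), ExteriorAlgebra.map (P σ) ω) ≠ 0 := by
  have hz' : ∀ c i j l c' a b, z c i j l c' a b = if c' = c then (zZ i j l a b : k) else 0 := by
    intro c i j l c' a b
    rw [hz]
    simp only [zZ]
    push_cast
    rfl
  have hPz : ∀ σ c i j l, P σ (z c i j l) = z c (σ i) (σ j) (σ l) := by
    intro σ c i j l
    funext c' a b
    rw [hP, hz, hz]
    simp only [Equiv.symm_apply_eq]
  have hmap : ∀ σ : Equiv.Perm (Fin 4), ExteriorAlgebra.map (P σ) ω =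
      ExteriorAlgebra.ι k (z 0 (σ 0) (σ 1) (σ 2)) * ExteriorAlgebra.ι k (z 1 (σ 0) (σ 1) (σ 2)) *
        ExteriorAlgebra.ι k (z 0 (σ 0) (σ 2) (σ 3)) * ExteriorAlgebra.ι k (z 1 (σ 0) (σ 2) (σ 3)) := by
    intro σ
    simp [hω, hPz]
  have hneg : ∀ c i j l, z c l j i = -z c i j l := by
    intro c i j l
    funext c' a b
    simp only [Pi.neg_apply, hz]
    split <;> ring
  have hrot : ∀ c i j l, z c j l i = z c i j l := by
    intro c i j l
    funext c' a b
    simp only [hz]
    split <;> ring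
  refine ⟨?_, ?_, fun h0 => ?_⟩
  · rw [hmap, hω]
    simp only [Equiv.swap_apply_left, Equiv.swap_apply_right,
      Equiv.swap_apply_of_ne_of_ne (show (1 : Fin 4) ≠ 0 by decide) (show (1 : Fin 4) ≠ 2 by decide),
      Equiv.swap_apply_of_ne_of_ne (show (3 : Fin 4) ≠ 0 by decide) (show (3 : Fin 4) ≠ 2 by decide)]
    simp only [show ∀ c, z c 2 1 0 = -z c 0 1 2 from fun c => hneg c 0 1 2,
      show ∀ c, z c 2 0 3 = -z c 0 2 3 from fun c => by rw [hneg c 3 0 2, ← hrot c 3 0 2]]
    simp only [map_neg, neg_mul, mul_neg, neg_neg]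
  · rw [hmap, hω]
    simp only [Equiv.swap_apply_left, Equiv.swap_apply_right,
      Equiv.swap_apply_of_ne_of_ne (show (0 : Fin 4) ≠ 1 by decide) (show (0 : Fin 4) ≠ 3 by decide),
      Equiv.swap_apply_of_ne_of_ne (show (2 : Fin 4) ≠ 1 by decide) (show (2 : Fin 4) ≠ 3 by decide)]
    simp only [show ∀ c, z c 0 3 2 = -z c 0 2 3 from fun c => by rw [hneg c 2 3 0, hrot c 0 2 3],
      show ∀ c, z c 0 2 1 = -z c 0 1 2 from fun c => by rw [hneg c 1 2 0, hrot c 0 1 2]]
    simp only [map_neg, neg_mul, mul_neg, neg_neg]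
    have anti : ∀ a b : Fin 2 → Fin 4 → Fin 4 → k,
        ExteriorAlgebra.ι k a * ExteriorAlgebra.ι k b = -(ExteriorAlgebra.ι k b * ExteriorAlgebra.ι k a) :=
      fun a b => eq_neg_of_add_eq_zero_left (ExteriorAlgebra.ι_add_mul_swap a b)
    set A := ExteriorAlgebra.ι k (z 0 0 1 2)
    set B := ExteriorAlgebra.ι k (z 1 0 1 2)
    set C := ExteriorAlgebra.ι k (z 0 0 2 3)
    set D := ExteriorAlgebra.ι k (z 1 0 2 3)
    have h1 : C * A = -(A * C) := anti _ _
    have h2 : D * A = -(A * D) := anti _ _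
    have h3 : C * B = -(B * C) := anti _ _
    have h4 : D * B = -(B * D) := anti _ _
    calc C * D * A * B = C * (D * A) * B := by simp only [mul_assoc]
      _ = -(C * A * (D * B)) := by rw [h2]; simp only [mul_neg, neg_mul, mul_assoc]
      _ = -(A * (C * B) * D) := by rw [h1, h4]; simp only [mul_neg, neg_mul, neg_neg, mul_assoc]
      _ = A * B * C * D := by rw [h3]; simp only [mul_neg, neg_mul, neg_neg, mul_assoc]
  · let L : (Fin 2 → Fin 4 → Fin 4 → k) →ₗ[k] (Fin 4 → k) :=
      { toFun := fun f => ![f 0 0 1, f 1 0 1, f 0 2 3, f 1 2 3]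
        map_add' := fun f g => by ext i; fin_cases i <;> simp
        map_smul' := fun c f => by ext i; fin_cases i <;> simp }
    let D := ExteriorAlgebra.liftAlternating (fam L)
    have hD : ∀ a b c d, D (ExteriorAlgebra.ι k a * ExteriorAlgebra.ι k b * ExteriorAlgebra.ι k c *
        ExteriorAlgebra.ι k d) = Matrix.det (Matrix.of ![L a, L b, L c, L d]) := by
      intro a b c d
      have e : ExteriorAlgebra.ι k a * ExteriorAlgebra.ι k b * ExteriorAlgebra.ι k c * ExteriorAlgebra.ι k d =
          ExteriorAlgebra.ιMulti k 4 ![a, b, c, d] := by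
        simp [ExteriorAlgebra.ιMulti_apply, List.ofFn_succ, mul_assoc]
      rw [e]
      refine (ExteriorAlgebra.liftAlternating_apply_ιMulti _ _).trans ?_
      change Matrix.det (fun i => L (![a, b, c, d] i)) = _
      congr 1
      ext i j
      fin_cases i <;> rfl
    have key : ∀ σ : Equiv.Perm (Fin 4), D (ExteriorAlgebra.map (P σ) ω) = (((minorZ σ) ^ 2 : ℤ) : k) := by
      intro σ
      rw [hmap, hD]
      have e : Matrix.of ![L (z 0 (σ 0) (σ 1) (σ 2)), L (z 1 (σ 0) (σ 1) (σ 2)),
          L (z 0 (σ 0) (σ 2) (σ 3)), L (z 1 (σ 0) (σ 2) (σ 3))] =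
          !![(zZ (σ 0) (σ 1) (σ 2) 0 1 : k), 0, (zZ (σ 0) (σ 1) (σ 2) 2 3 : k), 0;
             0, (zZ (σ 0) (σ 1) (σ 2) 0 1 : k), 0, (zZ (σ 0) (σ 1) (σ 2) 2 3 : k);
             (zZ (σ 0) (σ 2) (σ 3) 0 1 : k), 0, (zZ (σ 0) (σ 2) (σ 3) 2 3 : k), 0;
             0, (zZ (σ 0) (σ 2) (σ 3) 0 1 : k), 0, (zZ (σ 0) (σ 2) (σ 3) 2 3 : k)] := by
        ext i j
        fin_cases i <;> fin_cases j <;> simp [L, hz']
      rw [e, det_block]
      simp [minorZ]
    have h1 := congrArg D h0
    rw [map_sum, map_zero, Finset.sum_congr rfl fun σ _ => key σ, 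
      ← Int.cast_sum, Int.cast_eq_zero] at h1
    have h2 : (minorZ 1) ^ 2 ≤ ∑ σ : Equiv.Perm (Fin 4), (minorZ σ) ^ 2 :=
      Finset.single_le_sum (fun σ _ => sq_nonneg (minorZ σ)) (Finset.mem_univ 1)
    rw [h1] at h2
    exact absurd h2 (by decide)

end Groth.Agent.S19221
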