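import Groth.Statements.S19222
import Groth.Agent.Lib.EtSite.Sections
import Mathlib.AlgebraicGeometry.Morphisms.Integral
import Mathlib.AlgebraicGeometry.Morphisms.Finite

set_option autoImplicit false
universe u
open CategoryTheory AlgebraicGeometry
open EtBase

namespace Groth.Agent.S19222

/-- Let R be a strictly henselian local ring (henselian, with separably closed residue field), let X be
a scheme finite over Spec R and let F be an abelian étale sheaf on X. Then H^j(X_et, F) = 0 for
every j ≥ 1. (The source states this vanishing for the schemes X ×_R Y ×_R ⋯ ×_R Y with Y a further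
finite R-scheme; these are again finite over R, so the present form is the whole content.) -/
theorem result (R : Type u) [CommRing R] [HenselianLocalRing R]
    [IsSepClosed (IsLocalRing.ResidueField R)] (X : Scheme.{u}) (f : X ⟶ Spec (CommRingCat.of R)) [IsFinite f]
    (F : EtCoh.Ab X) (j : ℕ) (hj : 1 ≤ j) : Subsingleton (EtCoh.H X F j) := by
  have : IsAffine X := isAffine_of_isAffineHom f
  obtain ⟨κ, hκ⟩ := Spec.map_surjective (X.isoSpec.inv ≫ f)
  have hint : κ.hom.IsIntegral := IsIntegralHom.SpecMap_iff.1 (hκ ▸ inferInstance)
  algebraize [κ.hom]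
  exact Groth.Agent.Lib.EtSite.Sections.H_subsingleton_of_gsec
    (Groth.Agent.Lib.EtSite.Sections.gsec_preservesEpimorphisms
      (Groth.Agent.Lib.EtSite.Sections.hasSections_of_isIntegral R Γ(X, ⊤))) F j hj

end Groth.Agent.S19222
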