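import Groth.Statements.S19223
import Groth.Agent.S7725
import Mathlib.RepresentationTheory.Homological.GroupCohomology.LongExactSequence

set_option autoImplicit false
attribute [local instance] Units.mulDistribMulActionRight
open GalCoh

namespace Groth.Agent.S19223

lemma exists_of_exact {k G : Type} [CommRing k] [Group G] {S : CategoryTheory.ShortComplex (Rep.{0} k G)}
    (hS : S.Exact) (x : S.X₂) (hx : S.g.hom x = 0) : ∃ b, S.f.hom b = x := by
  have he := hS.map (CategoryTheory.forget₂ (Rep.{0} k G) (ModuleCat.{0} k))
  rw [CategoryTheory.ShortComplex.moduleCat_exact_iff] at he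
  exact he x hx

/-- For a strictly henselian local ring R whose residue field k has characteristic p ≥ 0, and a finite
group G of order prime to p acting on R by ring automorphisms (hence on the unit groups R^× and
k^×), consider the homomorphism H^n(G, R^×) → H^n(G, k^×) induced by the reduction map. It is
bijective for every n ≥ 2; it is also bijective for n = 1 provided that p = 0 or the only p-power
root of unity in R is 1. (The reduction map on cohomology is pinned by its values on units; groups,
rings and modules are taken in the lowest universe, as integral coefficients in the group-cohomology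
library require.) -/
theorem result (R : Type) [CommRing R]
    [HenselianLocalRing R] [IsSepClosed (IsLocalRing.ResidueField R)] (p : ℕ) [CharP (IsLocalRing.ResidueField R) p]
    (G : Type) [Group G] [Finite G] [MulSemiringAction G R] (hp : ¬ p ∣ Nat.card G)
    (φ : Rep.ofMulDistribMulAction G Rˣ ⟶ Rep.ofMulDistribMulAction G (IsLocalRing.ResidueField R)ˣ)
    (hφ : ∀ x : Rˣ, Additive.toMul (φ.hom (Additive.ofMul x)) = Units.map (IsLocalRing.residue R).toMonoidHom x)
    (n : ℕ) (hn : 1 ≤ n) (h1 : n = 1 → p ≠ 0 → ∀ (ζ : Rˣ) (m : ℕ), ζ ^ p ^ m = 1 → ζ = 1) :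
    Function.Bijective ((groupCohomology.functor ℤ G n).map φ).hom := by
  have hN : ((Nat.card G : ℕ) : IsLocalRing.ResidueField R) ≠ 0 := fun h =>
    hp ((CharP.cast_eq_zero_iff _ p _).1 h)
  have hN0 : Nat.card G ≠ 0 := Nat.card_pos.ne'
  have hepi : CategoryTheory.Epi φ := by
    rw [Rep.epi_iff_surjective]
    intro y
    obtain ⟨a, ha⟩ := IsLocalRing.residue_surjective ((Additive.toMul y : (IsLocalRing.ResidueField R)ˣ) : IsLocalRing.ResidueField R)
    have hu : IsUnit a := by
      rw [← IsLocalRing.residue_ne_zero_iff_isUnit, ha]
      exact (Additive.toMul y).ne_zero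
    exact ⟨Additive.ofMul hu.unit, Additive.toMul.injective (Units.ext (by rw [hφ]; exact ha))⟩
  let S := CategoryTheory.ShortComplex.mk (CategoryTheory.Limits.kernel.ι φ) φ
    (CategoryTheory.Limits.kernel.condition φ)
  have hS : S.ShortExact :=
    { exact := S.exact_of_f_is_kernel (CategoryTheory.Limits.kernelIsKernel φ)
      mono_f := inferInstanceAs (CategoryTheory.Mono (CategoryTheory.Limits.kernel.ι φ))
      epi_g := hepi }
  have hι : Function.Injective S.f.hom := (Rep.mono_iff_injective S.f).1 hS.mono_f
  have hker : ∀ c, φ.hom (S.f.hom c) = 0 := fun c => by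
    exact DFunLike.congr_fun (congrArg Rep.Hom.hom S.zero) c
  have hlift : ∀ x, φ.hom x = 0 → ∃ b, S.f.hom b = x := fun x hx => exists_of_exact hS.exact x hx
  have hdiv : Function.Bijective fun a : S.X₁ => Nat.card G • a := by
    constructor
    · intro a b hab
      apply hι
      let e : S.X₁ → Rˣ := fun c => Additive.toMul (S.f.hom c)
      suffices e a = e b from Additive.toMul.injective this
      have hab' : e a ^ Nat.card G = e b ^ Nat.card G := by
        have h := congrArg (fun c => Additive.toMul (S.f.hom c)) hab
        simp only [map_nsmul] at h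
        exact h
      have hres : ∀ c, IsLocalRing.residue R (e c : R) = 1 := by
        intro c
        have h2 : Additive.toMul (φ.hom (S.f.hom c)) = _ := hφ (e c)
        rw [hker c] at h2
        exact (congrArg Units.val h2).symm
      set z : Rˣ := e a * (e b)⁻¹ with hz
      have hzN : (z : R) ^ Nat.card G = 1 := by
        rw [← Units.val_pow_eq_pow_val, hz, mul_pow, hab', inv_pow, mul_inv_cancel, Units.val_one]
      have hz1 : IsLocalRing.residue R (z : R) = 1 := by
        have h3 : IsLocalRing.residue R ((e b : R)) * IsLocalRing.residue R (((e b)⁻¹ : Rˣ) : R) = 1 := by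
          rw [← map_mul, Units.mul_inv, map_one]
        rw [hres, one_mul] at h3
        rw [hz, Units.val_mul, map_mul, hres, one_mul, h3]
      have h4 := geom_sum_mul (z : R) (Nat.card G)
      rw [hzN, sub_self] at h4
      have hu : IsUnit (∑ i ∈ Finset.range (Nat.card G), (z : R) ^ i) := by
        rw [← IsLocalRing.residue_ne_zero_iff_isUnit, map_sum]
        simpa [hz1] using hN
      have hzeq : (z : R) = 1 := sub_eq_zero.1 (hu.mul_right_eq_zero.1 h4)
      exact mul_inv_eq_one.1 (Units.ext hzeq : z = 1)
    · intro a
      set u : Rˣ := Additive.toMul (S.f.hom a) with hu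
      have hu1 : IsLocalRing.residue R (u : R) = 1 := by
        have h2 : Additive.toMul (φ.hom (S.f.hom a)) = _ := hφ u
        rw [hker a] at h2
        exact (congrArg Units.val h2).symm
      obtain ⟨v, hv, hv1⟩ := HenselianLocalRing.is_henselian
        (Polynomial.X ^ Nat.card G - Polynomial.C (u : R)) (Polynomial.monic_X_pow_sub_C _ hN0) 1
        (by rw [← IsLocalRing.residue_eq_zero_iff]; simp [hu1])
        (by
          rw [← IsLocalRing.residue_ne_zero_iff_isUnit]
          simpa [Polynomial.derivative_X_pow] using hN)
      have hvu : v ^ Nat.card G = (u : R) := by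
        simpa [Polynomial.IsRoot.def, sub_eq_zero] using hv
      have hvunit : IsUnit v := (isUnit_pow_iff hN0).1 (hvu ▸ u.isUnit)
      have hvres : IsLocalRing.residue R v = 1 := by
        rw [← sub_eq_zero, ← map_one (IsLocalRing.residue R), ← map_sub, IsLocalRing.residue_eq_zero_iff]
        exact hv1
      obtain ⟨b, hb⟩ : ∃ b, S.f.hom b = Additive.ofMul hvunit.unit := by
        refine hlift _ ?_
        apply Additive.toMul.injective
        exact (hφ hvunit.unit).trans (Units.ext hvres)
      refine ⟨b, hι ?_⟩
      rw [map_nsmul, hb]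
      exact Additive.toMul.injective (Units.ext hvu)
  have hzero : ∀ m, 0 < m → CategoryTheory.Limits.IsZero (groupCohomology S.X₁ m) := fun m hm =>
    haveI := Groth.Agent.S7725.result ℤ G S.X₁ hdiv m hm
    ModuleCat.isZero_of_subsingleton _
  have hmono : CategoryTheory.Mono ((groupCohomology.functor ℤ G n).map φ) :=
    (groupCohomology.mapShortComplex₂_exact hS n).mono_g ((hzero n hn).eq_of_src _ _)
  have hepi' : CategoryTheory.Epi ((groupCohomology.functor ℤ G n).map φ) :=
    (groupCohomology.mapShortComplex₃_exact hS (i := n) (j := n + 1) rfl).epi_f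
      ((hzero (n + 1) n.succ_pos).eq_of_tgt _ _)
  exact ⟨(ModuleCat.mono_iff_injective _).1 hmono, (ModuleCat.epi_iff_surjective _).1 hepi'⟩

end Groth.Agent.S19223
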