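import Groth.Statements.S19227
import Groth.Agent.H58NM.Norm
import Groth.Agent.Lib.EtSite.LowLeray
import Groth.Agent.Lib.EtSite.Push
import Groth.Prelude.Def_EtLim
import Mathlib.AlgebraicGeometry.Morphisms.FlatRank

/-!
# The norm of the multiplicative group along a finite locally free morphism, on small étale sites
-/

set_option autoImplicit false
set_option maxHeartbeats 800000
set_option backward.isDefEq.respectTransparency.types false

universe u

open CategoryTheory CategoryTheory.Limits AlgebraicGeometry Opposite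
open CategoryTheory.Abelian

noncomputable section

namespace Groth.Agent.S19227

open Groth.Agent.H58NM

variable {X Y : Scheme.{u}} (f : X ⟶ Y) [IsFinite f] [Flat f] [LocallyOfFinitePresentation f]

/-- An étale scheme over `Y` as a test object. -/
abbrev T (V : Y.Etale) : Over Y := Over.mk V.hom

/-- A map of étale schemes as a map of test objects. -/
abbrev Tmap {V W : Y.Etale} (g : V ⟶ W) : T V ⟶ T W :=
  Over.homMk g.left (MorphismProperty.Over.w g)

/-- The norm of functions, as a monoid homomorphism. -/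
def nrmHom (U : Over Y) : Norm.Top f U →* Γ(U.left, ⊤) where
  toFun := Norm.nrm f U
  map_one' := Norm.nrm_one f U
  map_mul' := Norm.nrm_mul f U

omit [IsFinite f] [Flat f] [LocallyOfFinitePresentation f] in
theorem bc_map_left {V W : Y.Etale} (g : V ⟶ W) :
    ((Over.pullback f).map (Tmap g)).left = ((EtCoh.bc f).map g).left := by
  apply pullback.hom_ext <;> simp [EtCoh.bc]

/-- The components of the norm. -/
def comp (V : Y.Etale) :
    ((EtCoh.push f).obj (EtCoh.Gm X)).obj.obj (op V) ⟶ (EtCoh.Gm Y).obj.obj (op V) :=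
  AddCommGrpCat.ofHom
    (X := ULift.{u + 1} (Additive (Norm.Top f (T V))ˣ)) (Y := ULift.{u + 1} (Additive Γ(V.left, ⊤)ˣ))
    { toFun := fun x => ⟨Additive.ofMul (Units.map (nrmHom f (T V)) (Additive.toMul x.down))⟩
      map_zero' := ULift.ext _ _ (congrArg Additive.ofMul (map_one _))
      map_add' := fun _ _ => ULift.ext _ _ (congrArg Additive.ofMul (map_mul _ _ _)) }

/-- The norm `f_* G_m ⟶ G_m`. -/
def nm : (EtCoh.push f).obj (EtCoh.Gm X) ⟶ EtCoh.Gm Y :=
  ObjectProperty.homMk
    { app := fun V => comp f V.unop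
      naturality := fun V W g => AddCommGrpCat.ext fun x => ULift.ext _ _
        (congrArg Additive.ofMul (Units.ext (by
          refine Eq.trans ?_ (Norm.nrm_nat f (Tmap g.unop) _).symm
          refine congrArg (Norm.nrm f (T W.unop)) ?_
          show ((EtCoh.bc f).map g.unop).left.appTop _ = ((Over.pullback f).map (Tmap g.unop)).left.appTop _
          rw [bc_map_left]
          rfl))) }

theorem nrm_str (d : ℕ) (hd : ∀ y : Y, f.finrank y = d) (U : Over Y) (a : Γ(U.left, ⊤)) :
    Norm.nrm f U (Norm.str f U a) = a ^ d := by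
  refine Norm.nrm_eq f _ _ fun W h hW => ?_
  have hpush : Norm.push f h (Norm.str f U a) = Norm.str f W (h.left.appTop a) := by
    rw [← CommRingCat.comp_apply, ← CommRingCat.comp_apply]
    refine congrArg (fun φ : Γ(U.left, ⊤) ⟶ Norm.Top f W => φ.hom a) ?_
    rw [← Scheme.Hom.comp_appTop, ← Scheme.Hom.comp_appTop]
    refine congrArg Scheme.Hom.appTop ?_
    exact pullback.lift_fst _ _ _
  rw [hpush, map_pow]
  generalize h.left.appTop a = b
  obtain ⟨hWa, hfin⟩ := hW
  rcases subsingleton_or_nontrivial Γ(W.left, ⊤) with hs | hnt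
  · exact Subsingleton.elim _ _
  let := (Norm.str f W).hom.toAlgebra
  obtain ⟨hfin1, hfree⟩ := hfin
  haveI := hWa
  haveI : IsAffine (pullback W.hom f) := by
    haveI : IsAffineHom (pullback.fst W.hom f) := MorphismProperty.pullback_fst _ _ inferInstance
    exact isAffine_of_isAffineHom (pullback.fst W.hom f)
  have hrank : Module.finrank Γ(W.left, ⊤) (Norm.Top f W) = d := by
    obtain ⟨p, hp⟩ := Ideal.exists_maximal Γ(W.left, ⊤)
    let z : PrimeSpectrum Γ(W.left, ⊤) := ⟨p, hp.isPrime⟩
    obtain ⟨w, hw⟩ : ∃ w : W.left, W.left.isoSpec.hom w = z :=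
      (Scheme.homeoOfIso W.left.isoSpec).surjective z
    have h1 : (pullback.fst W.hom f).finrank w = d := by
      rw [Scheme.Hom.finrank_pullback_fst]
      exact hd _
    have hsq : IsPullback (pullback W.hom f).isoSpec.hom (pullback.fst W.hom f)
        (Spec.map (Norm.str f W)) W.left.isoSpec.hom :=
      IsPullback.of_horiz_isIso ⟨Scheme.isoSpec_hom_naturality _⟩
    have hf1 : (Norm.str f W).hom.Finite := (RingHom.finite_algebraMap).mpr hfin1
    have hf2 : (Norm.str f W).hom.Flat :=
      (RingHom.flat_algebraMap_iff).mpr (Module.Flat.of_free)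
    haveI : IsFinite (Spec.map (Norm.str f W)) := (IsFinite.SpecMap_iff _).mpr hf1
    haveI : Flat (Spec.map (Norm.str f W)) := Flat.SpecMap_iff.mpr hf2
    have h2 := Scheme.Hom.finrank_of_isPullback _ _ _ _ hsq w
    rw [h1, hw] at h2
    have h3 : (Spec.map (Norm.str f W)).finrank z = Module.rankAtStalk (Norm.Top f W) z :=
      Scheme.Hom.finrank_SpecMap_algebraMap Γ(W.left, ⊤) (Norm.Top f W) z
    rw [h3, Module.rankAtStalk_eq_finrank_of_free] at h2
    exact h2.symm
  show b ^ d = Algebra.norm Γ(W.left, ⊤) (algebraMap Γ(W.left, ⊤) (Norm.Top f W) b)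
  rw [Algebra.norm_algebraMap_of_basis (Module.Free.chooseBasis _ _), ← hrank,
    Module.finrank_eq_card_chooseBasisIndex]

theorem gmPush_nm (d : ℕ) (hd : ∀ y : Y, f.finrank y = d) :
    EtLim.GmPush f ≫ nm f = d • 𝟙 (EtCoh.Gm Y) := by
  apply ObjectProperty.hom_ext
  apply NatTrans.ext
  funext V
  apply AddCommGrpCat.ext
  intro x
  have hr : ∀ n : ℕ, (n • 𝟙 (EtCoh.Gm Y)).hom.app V x = n • x := by
    intro n
    induction n with
    | zero => simp
    | succ n ih => simp [succ_nsmul, ih]
  refine Eq.trans ?_ (hr d).symm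
  apply ULift.ext
  show Additive.ofMul (Units.map (nrmHom f (T V.unop))
    (Units.map (Norm.str f (T V.unop)).hom.toMonoidHom (Additive.toMul x.down))) = _
  refine Eq.trans (congrArg Additive.ofMul (Units.ext ?_ :
    _ = (Additive.toMul x.down : Γ((V.unop).left, ⊤)ˣ) ^ d)) rfl
  exact (nrm_str f d hd (T V.unop) _).trans (Units.val_pow_eq_pow_val _ _).symm

/-- Let f : X → Y be a finite locally free morphism of schemes of constant degree d ≥ 1, so that f is
finite, flat, of finite presentation and surjective. If H²(X_et, G_m) is a torsion group, then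
H²(Y_et, G_m) is a torsion group. (The source states this for a finite, flat, finitely presented
surjection of algebraic stacks and argues with multiplication by the degree of f; the case of
schemes with f of constant degree is what is stated here.) -/
theorem result (X Y : Scheme.{u}) (f : X ⟶ Y) (d : ℕ) (hd : 1 ≤ d)
    (hf : Mor2.IsFinLocFreeOfDeg d f) (hX : IsAddTorsion (Dix.BrCoh X)) :
    IsAddTorsion (Dix.BrCoh Y) := by
  obtain ⟨⟨h1, h2, h3⟩, hrk⟩ := hf
  intro ξ
  let a : EtCoh.H Y ((EtCoh.push f).obj (EtCoh.Gm X)) 2 :=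
    Ext.comp ξ (Ext.mk₀ (EtLim.GmPush f)) (add_zero 2)
  obtain ⟨m, hm, hma⟩ := isOfFinAddOrder_iff_nsmul_eq_zero.mp (hX (Lib.EtSite.LowLeray.lam f (EtCoh.Gm X) 2 a))
  have hinj := (Lib.EtSite.LowLeray.lam_bijective f 1 (EtCoh.Gm X)
    fun q hq _ => Lib.EtSite.Push.isZero_Rpush f (EtCoh.Gm X) q hq).2
  have ha : m • a = 0 := hinj (by rw [map_nsmul, hma, map_zero])
  refine isOfFinAddOrder_iff_nsmul_eq_zero.mpr ⟨m * d, Nat.mul_pos hm hd, ?_⟩
  have key : Ext.comp a (Ext.mk₀ (nm f)) (add_zero 2) = d • ξ := by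
    simp only [a]
    rw [Ext.comp_assoc_of_second_deg_zero, Ext.mk₀_comp_mk₀, gmPush_nm f d hrk]
    clear hd hrk
    induction d with
    | zero => simp
    | succ n ih => rw [succ_nsmul, Ext.mk₀_add, Ext.comp_add, ih, Ext.comp_mk₀_id, succ_nsmul]
  rw [mul_smul, ← key]
  let φ : EtCoh.H Y ((EtCoh.push f).obj (EtCoh.Gm X)) 2 →+ EtCoh.H Y (EtCoh.Gm Y) 2 :=
    (Ext.mk₀ (nm f)).postcomp _ (add_zero 2)
  exact (map_nsmul φ m a).symm.trans ((congrArg φ ha).trans (map_zero φ))

end Groth.Agent.S19227
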