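import Groth.Statements.S1923
import Groth.Agent.Lib.Cyc.C1

set_option autoImplicit false
universe u
open CategoryTheory AlgebraicGeometry
open Cyc

namespace Groth.Agent.S1923

/-- Let X be integral with δ(η) = n, L an invertible O_X-module and s a global section of L whose germ
at η is nonzero. Then div_L(s) = [Z(s)]_{n−1} as (n − 1)-cycles, where s is viewed as a rational
section through its image in L(η). Here L(ξ) = L_ξ/𝔪_ξ L_ξ is the space of rational sections of L on
the closure of ξ, div_{L|W}(s) and c_1(L) ∩ α are computed as coefficient functions from chosen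
nonzero rational sections (Cyc.secDivFun, Cyc.c1CapFun), and results are compared up to rational
equivalence for any cycles with those coefficients. A pair (X, δ) with Cyc.IsSetup plays the role of
a scheme locally of finite type over a fixed base with a dimension function (X locally Noetherian
with universally catenary local rings, δ a dimension function), and Cyc.DeltaCompat records that the
dimension function upstairs is the induced one. -/
theorem result (X : Scheme.{u}) [IsIntegral X] (δ : X → ℤ) (hX : Cyc.IsSetup X δ) (n : ℤ) (hn : δ (genericPoint X) = n) (L : X.Modules) (hL : PicF.IsInvertible L) (s : L.presheaf.obj (Opposite.op ⊤)) (hs : (L.presheaf.germ ⊤ (genericPoint X) trivial) s ≠ 0) : Cyc.secDivFun δ L (genericPoint X) (Submodule.Quotient.mk ((L.presheaf.germ ⊤ (genericPoint X) trivial) s)) = Cyc.zeroSectionFun δ (n - 1) L s := by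
  have := hX.1
  set η := genericPoint X with hη
  set sη := (L.presheaf.germ ⊤ η trivial) s with hsη
  funext x
  have hx : η ⤳ x := genericPoint_specializes x
  simp only [Cyc.secDivFun, Cyc.zeroSectionFun]
  by_cases hd : δ x + 1 = δ η
  · rw [dif_pos ⟨hx, hd⟩, if_pos (by omega)]
    have ht := Lib.Cyc.C1.exists_stalk_gen hL x
    rw [Cyc.secOrdAt, dif_pos ht, dif_pos ht]
    set t := Classical.choose ht with htdef
    have hf : ∃ f : X.presheaf.stalk x, (L.presheaf.germ ⊤ x trivial) s = f • t := by
      have hm : (L.presheaf.germ ⊤ x trivial) s ∈ Submodule.span (X.presheaf.stalk x) {t} := by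
        rw [Classical.choose_spec ht]; trivial
      obtain ⟨f, hf⟩ := Submodule.mem_span_singleton.mp hm
      exact ⟨f, hf.symm⟩
    rw [dif_pos hf]
    set f := Classical.choose hf with hfdef
    have hspec : sη = X.presheaf.stalkSpecializes hx f • L.presheaf.stalkSpecializes hx t := by
      rw [← Lib.Cyc.C1.stalkSpecializes_smul, ← Classical.choose_spec hf]
      exact (ConcreteCategory.congr_hom
        (TopCat.Presheaf.germ_stalkSpecializes L.presheaf (U := ⊤) (y := x) trivial hx) s).symm
    have hψ : (Submodule.Quotient.mk sη : Cyc.secFibre L η) =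
        X.presheaf.stalkSpecializes hx f •
          (Submodule.Quotient.mk (L.presheaf.stalkSpecializes hx t) : Cyc.secFibre L η) := by
      conv_lhs => rw [hspec]
      rfl
    have hne := Lib.Cyc.C1.secFibre_mk_ne_zero L hs
    have hφ : ∃ φ : X.presheaf.stalk η, (Submodule.Quotient.mk sη : Cyc.secFibre L η) =
        φ • (Submodule.Quotient.mk (L.presheaf.stalkSpecializes hx t) : Cyc.secFibre L η) := ⟨_, hψ⟩
    rw [dif_pos hφ]
    rw [Lib.Cyc.C1.residue_eq_of_smul_eq hne (Classical.choose_spec hφ) hψ]
    have hf0 : Cyc.specMap x η hx f ≠ 0 := by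
      intro h0
      refine hne ?_
      have h1 : X.presheaf.stalkSpecializes hx f = 0 := by
        refine (RingHom.injective (R := X.functionField) (X.residue η).hom) ?_
        exact h0.trans (map_zero _).symm
      rw [hψ, h1, zero_smul]
    refine Eq.trans (Lib.Cyc.Ord.ordAt_specMap hX.2.2 x η hx (by omega) f hf0) ?_
    congr 2
    let e : X.presheaf.stalk x ≃+* Cyc.LocQuot x η hx :=
      RingEquiv.ofBijective (Ideal.Quotient.mk _)
        ⟨by rw [RingHom.injective_iff_ker_eq_bot, Ideal.mk_ker]
            exact Lib.Cyc.C1.ker_specMap_genericPoint x hx, Ideal.Quotient.mk_surjective⟩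
    let E : (X.presheaf.stalk x ⧸ Ideal.span {f}) ≃+*
        (Cyc.LocQuot x η hx ⧸ Ideal.span {e f}) :=
      Ideal.quotientEquiv _ _ e (by rw [Ideal.map_span, Set.image_singleton]; rfl)
    have : RingHomSurjective (e : X.presheaf.stalk x →+* Cyc.LocQuot x η hx) := ⟨e.surjective⟩
    let el : (X.presheaf.stalk x ⧸ Ideal.span {f}) →ₛₗ[(e : X.presheaf.stalk x →+* Cyc.LocQuot x η hx)]
        (Cyc.LocQuot x η hx ⧸ Ideal.span {e f}) :=
      { toFun := E
        map_add' := map_add E
        map_smul' := fun a m => by
          obtain ⟨b, rfl⟩ := Ideal.Quotient.mk_surjective m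
          rfl }
    rw [Ring.ord, Module.length, Module.length, WithBot.unbot_inj]
    exact (Order.krullDim_eq_of_orderIso (Submodule.orderIsoMapComapOfBijective el E.bijective)).symm
  · rw [dif_neg (fun h => hd h.2), if_neg (by omega)]

end Groth.Agent.S1923
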