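import Groth.Statements.S19230
import Groth.Agent.Lib.SigmaLin99.Basic
-- import your own Groth.Agent.* helpers here

set_option autoImplicit false
universe u v
open SigmaLin

namespace Groth.Agent.S19230

open Groth.Agent.Lib.SigmaLin99

/-- Let k be a field, σ a surjective ring endomorphism of k, V a finite-dimensional k-vector space and T
: V → V additive with T (c • v) = σ c • T v. Then the set of vectors killed by some iterate of T is
a k-subspace on which a single iterate of T vanishes, it is a complement of the intersection over n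
of the k-spans of the images of the n-th iterates, and T restricts to a bijection of that
intersection onto itself. -/
theorem result
    (k : Type u) [Field k] (σ : k →+* k) (hσ : Function.Surjective σ)
    (V : Type v) [AddCommGroup V] [Module k V] [FiniteDimensional k V] (T : V →ₛₗ[σ] V) :
    (∃ W : Submodule k V, (W : Set V) = {v : V | ∃ n : ℕ, (⇑T)^[n] v = 0} ∧
      (∃ N : ℕ, ∀ v ∈ W, (⇑T)^[N] v = 0) ∧
      IsCompl W (⨅ n : ℕ, Submodule.span k (Set.range ((⇑T)^[n])))) ∧
    Set.BijOn (⇑T) (⋂ n : ℕ, (Submodule.span k (Set.range ((⇑T)^[n])) : Set V))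
      (⋂ n : ℕ, (Submodule.span k (Set.range ((⇑T)^[n])) : Set V)) := by
  obtain ⟨N, -, hN⟩ := Basic.exists_nilPart_killed T
  refine ⟨⟨Basic.nilPart T, rfl, ⟨N, hN⟩, Basic.isCompl T hσ⟩, ?_⟩
  have h : (⋂ n : ℕ, (Submodule.span k (Set.range ((⇑T)^[n])) : Set V)) = (Basic.ss T : Set V) :=
    (Submodule.coe_iInf _).symm
  rw [h]
  refine ⟨fun x hx => Basic.apply_mem_ss T hx, fun x hx y hy hxy => ?_, fun x hx => ?_⟩
  · exact congrArg Subtype.val (Basic.injective_of_span (Basic.res T) (Basic.span_range_res T) (a₁ := ⟨x, hx⟩) (a₂ := ⟨y, hy⟩) (Subtype.ext hxy))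
  · obtain ⟨y, hy⟩ := Basic.surjective_of_span (Basic.res T) hσ (Basic.span_range_res T) ⟨x, hx⟩
    exact ⟨y.1, y.2, congrArg Subtype.val hy⟩

end Groth.Agent.S19230
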