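import Groth.Statements.S19237
import Groth.Agent.Lib.SigmaLin99.Witt
-- import your own Groth.Agent.* helpers here

set_option autoImplicit false
universe u v
open SigmaLin

namespace Groth.Agent.S19237

open Groth.Agent.Lib.SigmaLin99

/-- Let k be an algebraically closed field of characteristic p > 0 and n a natural number; let M be a
finitely generated module over the ring W_n(k) of truncated Witt vectors and T : M → M an additive
map with T (c • m) = σ(c) • T m, where σ is either the Frobenius endomorphism of W_n(k) (induced by
the p-th power map of k) or its inverse (induced by the inverse of the p-th power map). Then m ↦ T m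
− m is surjective on M. (The printed statement takes k perfect and separably closed, which is the
same as algebraically closed.) -/
theorem result
    (p : ℕ) [Fact p.Prime] (k : Type u) [Field k] [CharP k p] [IsAlgClosed k] (n : ℕ)
    (σ : TruncatedWittVector p n k →+* TruncatedWittVector p n k)
    (hσ : σ = WittGrp.truncMap p n (frobenius k p) ∨
      σ = WittGrp.truncMap p n (frobeniusEquiv k p).symm.toRingHom)
    (M : Type v) [AddCommGroup M] [Module (TruncatedWittVector p n k) M] [Module.Finite (TruncatedWittVector p n k) M]
    (T : M →ₛₗ[σ] M) :
    Function.Surjective (fun m : M => T m - m) := by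
  intro m
  rcases Nat.eq_zero_or_pos n with rfl | hn
  · have : Subsingleton (TruncatedWittVector p 0 k) := ⟨fun a b => TruncatedWittVector.ext fun i => i.elim0⟩
    have : Subsingleton M := Module.subsingleton (TruncatedWittVector p 0 k) M
    exact ⟨0, Subsingleton.elim _ _⟩
  obtain ⟨x, hx⟩ : ∃ x, x - T x = -m := by
    rcases hσ with rfl | rfl
    · exact Nilp.sub_surjective T (Witt.setup p k n hn (frobenius k p)) (Witt.natCast_pow_eq_zero p k n)
        (bijective_frobenius k p).2 (Witt.cond₂_frob p k) (Witt.cond₃_frob p k) (-m)
    · exact Nilp.sub_surjective T (Witt.setup p k n hn (frobeniusEquiv k p).symm.toRingHom) (Witt.natCast_pow_eq_zero p k n)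
        (frobeniusEquiv k p).symm.surjective (Witt.cond₂_frob_symm p k) (Witt.cond₃_frob_symm p k) (-m)
  refine ⟨x, ?_⟩
  show T x - x = m
  rw [← neg_sub, hx, neg_neg]

end Groth.Agent.S19237
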