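import Groth.Statements.S19238
import Groth.Agent.Lib.SigmaLin99.Witt
-- import your own Groth.Agent.* helpers here

set_option autoImplicit false
universe u v
open SigmaLin

namespace Groth.Agent.S19238

open Groth.Agent.Lib.SigmaLin99

/-- Let k be an algebraically closed field of characteristic p > 0 and n a natural number; let M be a
finitely generated module over the ring W_n(k) of truncated Witt vectors and T : M → M an additive
map with T (c • m) = σ(c) • T m, where σ is either the Frobenius endomorphism of W_n(k) or its
inverse. Then the set of T-fixed elements of M is finite. (The printed statement says that the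
T-fixed elements form a finitely generated module over the σ-fixed subring of W_n(k), which is the
finite ring of integers modulo p^n.) -/
theorem result
    (p : ℕ) [Fact p.Prime] (k : Type u) [Field k] [CharP k p] [IsAlgClosed k] (n : ℕ)
    (σ : TruncatedWittVector p n k →+* TruncatedWittVector p n k)
    (hσ : σ = WittGrp.truncMap p n (frobenius k p) ∨
      σ = WittGrp.truncMap p n (frobeniusEquiv k p).symm.toRingHom)
    (M : Type v) [AddCommGroup M] [Module (TruncatedWittVector p n k) M] [Module.Finite (TruncatedWittVector p n k) M]
    (T : M →ₛₗ[σ] M) :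
    {m : M | T m = m}.Finite := by
  classical
  rcases Nat.eq_zero_or_pos n with rfl | hn
  · have : Subsingleton (TruncatedWittVector p 0 k) := ⟨fun a b => TruncatedWittVector.ext fun i => i.elim0⟩
    have : Subsingleton M := Module.subsingleton (TruncatedWittVector p 0 k) M
    exact Set.toFinite _
  have hroots : {x : k | frobenius k p x = x}.Finite :=
    (Set.finite_range fun m : Fin p => ((m : ℕ) : k)).subset fun x hx => by
      obtain ⟨m, rfl⟩ := Witt.exists_natCast p k hx
      exact ⟨⟨m % p, Nat.mod_lt _ (Fact.out : p.Prime).pos⟩, (CharP.cast_eq_mod k p m).symm⟩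
  have hfix : {c : TruncatedWittVector p n k | σ c = c}.Finite := by
    refine ((Set.Finite.pi fun _ : Fin n => hroots).preimage (f := fun c : TruncatedWittVector p n k => fun i => c.coeff i)
      fun a _ b _ hab => TruncatedWittVector.ext fun i => congrFun hab i).subset fun c hc i _ => ?_
    have hci := congrArg (fun z => TruncatedWittVector.coeff i z) (show σ c = c from hc)
    rcases hσ with rfl | rfl
    · simpa using hci
    · simp only [WittGrp.coeff_truncMap, RingEquiv.toRingHom_eq_coe, RingHom.coe_coe] at hci
      rw [RingEquiv.symm_apply_eq, frobeniusEquiv_apply] at hci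
      exact hci.symm
  obtain ⟨s, -, hgen⟩ : ∃ s : Finset M, (∀ m ∈ s, T m = m) ∧
      ∀ m : M, T m = m → ∃ c : M → TruncatedWittVector p n k, (∀ x ∈ s, σ (c x) = c x) ∧ m = ∑ x ∈ s, c x • x := by
    rcases hσ with rfl | rfl
    · refine Nilp.fixed_fg T (Witt.setup p k n hn (frobenius k p)) (Witt.natCast_pow_eq_zero p k n) fun x hx => ?_
      obtain ⟨m, rfl⟩ := Witt.exists_natCast p k hx
      exact ⟨m, map_natCast _ _, map_natCast _ _⟩
    · refine Nilp.fixed_fg T (Witt.setup p k n hn (frobeniusEquiv k p).symm.toRingHom) (Witt.natCast_pow_eq_zero p k n) fun x hx => ?_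
      obtain ⟨m, rfl⟩ := Witt.exists_natCast p k (x := x) (by
        simp only [RingEquiv.toRingHom_eq_coe, RingHom.coe_coe] at hx
        rw [RingEquiv.symm_apply_eq, frobeniusEquiv_apply] at hx
        exact hx.symm)
      exact ⟨m, map_natCast _ _, map_natCast _ _⟩
  refine ((Set.Finite.pi fun _ : s => hfix).image fun c => ∑ x : s, c x • (x : M)).subset fun m hm => ?_
  obtain ⟨c, hc, rfl⟩ := hgen m hm
  exact ⟨fun x => c x, fun x _ => hc x x.2, Finset.sum_coe_sort s fun x => c x • x⟩

end Groth.Agent.S19238
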