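import Groth.Statements.S1925
import Groth.Agent.Lib.Cyc.PP.StalkSum
import Groth.Agent.Lib.Cyc.C1Indep
import Groth.Agent.Lib.Snapper.Twist

set_option autoImplicit false
universe u
open CategoryTheory AlgebraicGeometry
open Cyc

namespace Groth.Agent.S1925

/-- Let L be an invertible O_Y-module and s a global section of L; assume δ ≤ k + 1 on Y, δ ≤ k on the
zero locus of s, and multiplication by the germ of s injective on O_{Y,ξ} at the points ξ of
δ-dimension k. Writing [Y]_{k+1} = Σ n_i[Y_i] over the irreducible components of δ-dimension k + 1,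
one has [Z(s)]_k = Σ n_i [Z(s|_{Y_i})]_k as k-cycles on Y; here the right side is computed as c_1(L)
∩ [Y]_{k+1} with the rational sections induced by s. Here L(ξ) = L_ξ/𝔪_ξ L_ξ is the space of
rational sections of L on the closure of ξ, div_{L|W}(s) and c_1(L) ∩ α are computed as coefficient
functions from chosen nonzero rational sections (Cyc.secDivFun, Cyc.c1CapFun), and results are
compared up to rational equivalence for any cycles with those coefficients. A pair (X, δ) with
Cyc.IsSetup plays the role of a scheme locally of finite type over a fixed base with a dimension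
function (X locally Noetherian with universally catenary local rings, δ a dimension function), and
Cyc.DeltaCompat records that the dimension function upstairs is the induced one. -/
theorem result (Y : Scheme.{u}) (δ : Y → ℤ) (hY : Cyc.IsSetup Y δ) (L : Y.Modules) (hL : PicF.IsInvertible L) (k : ℤ) (hdim : ∀ y : Y, δ y ≤ k + 1) (s : L.presheaf.obj (Opposite.op ⊤)) (hZ : ∀ y : Y, (L.presheaf.germ ⊤ y trivial) s ∈ IsLocalRing.maximalIdeal (Y.presheaf.stalk y) • (⊤ : Submodule (Y.presheaf.stalk y) (L.presheaf.stalk y)) → δ y ≤ k) (hreg : ∀ y : Y, δ y = k → Function.Injective (fun a : Y.presheaf.stalk y => a • (L.presheaf.germ ⊤ y trivial) s)) : Cyc.zeroSectionFun δ k L s = Cyc.c1CapFun δ L (Cyc.subschemeFun δ (k + 1) (𝟙 Y)) (fun ξ => Submodule.Quotient.mk ((L.presheaf.germ ⊤ ξ trivial) s)) := by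
  classical
  haveI := hY.1
  funext y
  by_cases hy : δ y = k
  swap
  · rw [Cyc.zeroSectionFun, if_neg hy, Cyc.c1CapFun]
    refine (finsum_eq_zero_of_forall_eq_zero fun ξ => ?_).symm
    by_cases hξ : δ ξ = k + 1
    · rw [Cyc.secDivFun, dif_neg fun h => hy (by have := h.2; omega), mul_zero]
    · rw [Cyc.subschemeFun, if_neg hξ, zero_mul]
  have ht : ∃ t : L.presheaf.stalk y, Submodule.span (Y.presheaf.stalk y) {t} = ⊤ :=
    Groth.Agent.Lib.Cyc.C1.exists_stalk_gen hL y
  set t := Classical.choose ht with htdef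
  have ht' : Submodule.span (Y.presheaf.stalk y) {t} = ⊤ := Classical.choose_spec ht
  have hf : ∃ f : Y.presheaf.stalk y, (L.presheaf.germ ⊤ y trivial) s = f • t := by
    obtain ⟨f, hf⟩ := Submodule.mem_span_singleton.1
      (show (L.presheaf.germ ⊤ y trivial) s ∈ Submodule.span (Y.presheaf.stalk y) {t} by
        rw [ht']; trivial)
    exact ⟨f, hf.symm⟩
  rw [Cyc.zeroSectionFun, if_pos hy, dif_pos ht, dif_pos hf]
  set f := Classical.choose hf with hfdef
  have hfs : (L.presheaf.germ ⊤ y trivial) s = f • t := Classical.choose_spec hf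
  -- at the generalisations of dimension `k + 1`
  have hgen : ∀ ξ (h : ξ ⤳ y), δ ξ = k + 1 →
      (Submodule.Quotient.mk ((L.presheaf.germ ⊤ ξ trivial) s) : Cyc.secFibre L ξ) ≠ 0 ∧
      (Submodule.Quotient.mk ((L.presheaf.germ ⊤ ξ trivial) s) : Cyc.secFibre L ξ) =
        Y.presheaf.stalkSpecializes h f •
          (Submodule.Quotient.mk (L.presheaf.stalkSpecializes h t) : Cyc.secFibre L ξ) := by
    intro ξ h hξ
    constructor
    · intro h0
      have := hZ ξ ((Submodule.Quotient.mk_eq_zero _).1 h0)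
      omega
    · rw [← Submodule.Quotient.mk_smul, ← Groth.Agent.Lib.Cyc.C1.stalkSpecializes_smul, ← hfs]
      exact congrArg Submodule.Quotient.mk (ConcreteCategory.congr_hom
        (TopCat.Presheaf.germ_stalkSpecializes L.presheaf (U := ⊤) (y := y) trivial h) s).symm
  have hne : ∀ ξ (h : ξ ⤳ y), δ ξ = k + 1 → Cyc.specMap y ξ h f ≠ 0 := fun ξ h hξ =>
    Groth.Agent.Lib.Cyc.C1Indep.residue_ne_zero_of_smul (hgen ξ h hξ).1 (hgen ξ h hξ).2
  have hsub : ∀ ξ, δ ξ = k + 1 → Cyc.subschemeFun δ (k + 1) (𝟙 Y) ξ =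
      ((Module.length (Y.presheaf.stalk ξ) (Y.presheaf.stalk ξ)).toNat : ℤ) := fun ξ hξ => by
    rw [Cyc.subschemeFun, if_pos hξ, show {z : Y | (𝟙 Y : Y ⟶ Y) z = ξ} = {ξ} from rfl,
      finsum_mem_singleton]
  obtain ⟨e⟩ := Groth.Agent.Lib.Cyc.SheafLen.exists_unit_stalk_equiv (X := Y) y
  have hlen : ∀ ξ, Module.length (Y.presheaf.stalk ξ) ((Coh.structureModule Y).presheaf.stalk ξ) =
      Module.length (Y.presheaf.stalk ξ) (Y.presheaf.stalk ξ) := fun ξ => by
    obtain ⟨e'⟩ := Groth.Agent.Lib.Cyc.SheafLen.exists_unit_stalk_equiv (X := Y) ξ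
    exact e'.length_eq
  have hinjf : Function.Injective fun b : Y.presheaf.stalk y => f * b := fun b c hbc => by
    refine hreg y hy ?_
    show b • (L.presheaf.germ ⊤ y trivial) s = c • (L.presheaf.germ ⊤ y trivial) s
    rw [hfs, smul_smul, smul_smul, mul_comm b, mul_comm c]
    exact congrArg (· • t) hbc
  by_cases hu : IsUnit f
  · rw [Ideal.span_singleton_eq_top.2 hu, Module.length_eq_zero, Cyc.c1CapFun,
      finsum_eq_zero_of_forall_eq_zero fun ξ => ?_]
    · rfl
    · by_cases hk : ξ ⤳ y ∧ δ y + 1 = δ ξ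
      · rw [Cyc.secDivFun, dif_pos hk, Groth.Agent.Lib.Cyc.C1Indep.secOrdAt_eq hY.2.2 hL y ξ hk.1 hk.2.ge _
          (hgen ξ hk.1 (by omega)).1 t ht' _ (hgen ξ hk.1 (by omega)).2]
        exact mul_eq_zero_of_right _
          (Groth.Agent.Lib.Cyc.Ord.ordAt_specMap_of_isUnit hY.2.2 y ξ hk.1 hk.2.ge f hu)
      · rw [Cyc.secDivFun, dif_neg hk, mul_zero]
  have key := Groth.Agent.Lib.Cyc.PP.StalkSum.length_quot hY.2.2
    (Groth.Agent.Lib.Snapper.Twist.isCoh_structureModule Y) hy f hu (fun q _ _ => hdim q)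
    (fun q h hq _ => hne q h hq)
    (fun v w hvw => e.injective (hinjf (by
      show f • e v = f • e w
      rw [← map_smul, ← map_smul]
      exact congrArg e hvw)))
  have hmap : (Ideal.span {f} • (⊤ : Submodule (Y.presheaf.stalk y)
      ((Coh.structureModule Y).presheaf.stalk y))).map e.toLinearMap = Ideal.span {f} := by
    rw [Submodule.map_smul'', Submodule.map_top, LinearEquiv.range, Ideal.smul_eq_mul, Ideal.mul_top]
  rw [← (Submodule.Quotient.equiv _ _ e hmap).length_eq, key, Cyc.c1CapFun]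
  refine finsum_congr fun ξ => ?_
  unfold Groth.Agent.Lib.Cyc.PP.StalkSum.term
  by_cases hk : ξ ⤳ y ∧ δ ξ = k + 1
  · rw [dif_pos hk, hsub ξ hk.2, Cyc.secDivFun, dif_pos ⟨hk.1, by omega⟩, hlen,
      Groth.Agent.Lib.Cyc.C1Indep.secOrdAt_eq hY.2.2 hL y ξ hk.1 (by omega) _
        (hgen ξ hk.1 hk.2).1 t ht' _ (hgen ξ hk.1 hk.2).2]
    exact congrArg (((Module.length (Y.presheaf.stalk ξ) (Y.presheaf.stalk ξ)).toNat : ℤ) * ·)
      (Groth.Agent.Lib.Cyc.Ord.ordAt_specMap hY.2.2 y ξ hk.1 (by omega) f (hne ξ hk.1 hk.2)).symm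
  · rw [dif_neg hk, Cyc.secDivFun]
    by_cases hξ : δ ξ = k + 1
    · rw [dif_neg fun h => hk ⟨h.1, hξ⟩, mul_zero]
    · rw [Cyc.subschemeFun, if_neg hξ, zero_mul]

end Groth.Agent.S1925
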