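import Groth.Statements.S1924
import Groth.Agent.S1925
import Groth.Agent.Lib.Cyc.PP.SubSetup
import Groth.Agent.Lib.Cyc.PP.C1Push
import Groth.Agent.Lib.Cyc.FP.Rat
import Groth.Agent.Lib.Snapper.Twist

set_option autoImplicit false
universe u
open CategoryTheory AlgebraicGeometry
open Cyc

namespace Groth.Agent.S1924

/-- Let L be invertible on X, ι : Y → X a closed immersion with δ ≤ k + 1 on Y, and s a global section
of L|_Y = ι^*L such that the points of its zero locus have δ ≤ k and, at every such point ξ with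
δ(ξ) = k, multiplication by the germ of s is injective on O_{Y,ξ}. Then c_1(L) ∩ [Y]_{k+1} ∼_rat
ι_*[Z(s)]_k as k-cycles on X (for any nonzero rational sections used to compute the left side and
any cycle on Y with the coefficients of [Z(s)]_k). Here L(ξ) = L_ξ/𝔪_ξ L_ξ is the space of rational
sections of L on the closure of ξ, div_{L|W}(s) and c_1(L) ∩ α are computed as coefficient functions
from chosen nonzero rational sections (Cyc.secDivFun, Cyc.c1CapFun), and results are compared up to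
rational equivalence for any cycles with those coefficients. A pair (X, δ) with Cyc.IsSetup plays
the role of a scheme locally of finite type over a fixed base with a dimension function (X locally
Noetherian with universally catenary local rings, δ a dimension function), and Cyc.DeltaCompat
records that the dimension function upstairs is the induced one. -/
theorem result (X Y : Scheme.{u}) (δ : X → ℤ) (hX : Cyc.IsSetup X δ) (L : X.Modules) (hL : PicF.IsInvertible L) (ι : Y ⟶ X) [IsClosedImmersion ι] (k : ℤ) (hY : ∀ y : Y, δ (ι y) ≤ k + 1) (s : ((Scheme.Modules.pullback ι).obj L).presheaf.obj (Opposite.op ⊤)) (hZ : ∀ y : Y, (((Scheme.Modules.pullback ι).obj L).presheaf.germ ⊤ y trivial) s ∈ IsLocalRing.maximalIdeal (Y.presheaf.stalk y) • (⊤ : Submodule (Y.presheaf.stalk y) (((Scheme.Modules.pullback ι).obj L).presheaf.stalk y)) → δ (ι y) ≤ k) (hreg : ∀ y : Y, δ (ι y) = k → Function.Injective (fun a : Y.presheaf.stalk y => a • (((Scheme.Modules.pullback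 ι).obj L).presheaf.germ ⊤ y trivial) s)) (v : (ξ : X) → Cyc.secFibre L ξ) (hv : ∀ ξ, v ξ ≠ 0) (γ : AlgebraicCycle X ℤ) (hγ : ⇑γ = Cyc.c1CapFun δ L (Cyc.subschemeFun δ (k + 1) ι) v) (ζ : AlgebraicCycle Y ℤ) (hζ : ⇑ζ = Cyc.zeroSectionFun (fun y => δ (ι y)) k ((Scheme.Modules.pullback ι).obj L) s) : Cyc.RatEquiv δ k γ (AlgebraicCycle.map ι (fun y => δ (ι y)) δ ζ) := by
  classical
  haveI := hX.1
  have hYs := Groth.Agent.Lib.Cyc.PP.SubSetup.isSetup ι hX
  haveI := hYs.1
  have hc : Cyc.DeltaCompat ι (fun y => δ (ι y)) δ := Groth.Agent.Lib.Cyc.PP.SubSetup.deltaCompat ι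
  have hL' : PicF.IsInvertible ((Scheme.Modules.pullback ι).obj L) := PicLoc.isInvertible_pullback ι hL
  have hcap := Groth.Agent.S1925.result Y (fun y => δ (ι y)) hYs ((Scheme.Modules.pullback ι).obj L) hL' k hY s hZ hreg
  have hO : Cyc.CohLe (fun y => δ (ι y)) (k + 1) (Coh.structureModule Y) :=
    ⟨Groth.Agent.Lib.Snapper.Twist.isCoh_structureModule Y, fun y _ => hY y⟩
  let αY : AlgebraicCycle Y ℤ := Groth.Agent.Lib.Cyc.FP.Rat.cycleOf (k + 1) hYs.2.2 hO
  have hlen : ∀ ξ : Y, Module.length (Y.presheaf.stalk ξ) ((Coh.structureModule Y).presheaf.stalk ξ) =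
      Module.length (Y.presheaf.stalk ξ) (Y.presheaf.stalk ξ) := fun ξ => by
    obtain ⟨e'⟩ := Groth.Agent.Lib.Cyc.SheafLen.exists_unit_stalk_equiv (X := Y) ξ
    exact e'.length_eq
  have hαY : ∀ ξ, αY ξ = Cyc.subschemeFun (fun y => δ (ι y)) (k + 1) (𝟙 Y) ξ := fun ξ => by
    show Cyc.sheafFun (fun y => δ (ι y)) (k + 1) (Coh.structureModule Y) ξ = _
    simp only [Cyc.sheafFun, Cyc.subschemeFun]
    split_ifs
    · rw [show {z : Y | (𝟙 Y : Y ⟶ Y) z = ξ} = {ξ} from rfl, finsum_mem_singleton, hlen]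
    · rfl
  have hαmem : αY ∈ Cyc.Zk Y (fun y => δ (ι y)) (k + 1) := fun ξ hξ => if_neg hξ
  have hmap : ∀ x, AlgebraicCycle.map ι (fun y => δ (ι y)) δ αY x = Cyc.subschemeFun δ (k + 1) ι x := by
    intro x
    by_cases hx : x ∈ Set.range ⇑ι
    · obtain ⟨y, rfl⟩ := hx
      rw [Groth.Agent.Lib.Cyc.Gys.Closed.map_apply_image, hαY]
      simp only [Cyc.subschemeFun]
      split_ifs
      · rw [show {z : Y | (𝟙 Y : Y ⟶ Y) z = y} = {y} from rfl,
          show {z : Y | ι z = ι y} = {y} from Set.ext fun z => ι.isClosedEmbedding.injective.eq_iff]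
      · rfl
    · rw [Groth.Agent.Lib.Cyc.Gys.Closed.map_apply_of_not_mem ι αY hx, Cyc.subschemeFun]
      split_ifs
      · exact (finsum_mem_eq_zero_of_forall_eq_zero fun z hz => absurd ⟨z, hz⟩ hx).symm
      · rfl
  obtain ⟨w, hw, hw'⟩ := Groth.Agent.Lib.Cyc.PP.C1Push.exists_sections ι hL v hv
  obtain ⟨γ₀, hγ₀⟩ := Groth.Agent.Lib.Cyc.Gys.C1.exists_cap hYs.2.2 hL' hαmem
    (fun ξ => Groth.Agent.Lib.Cyc.PP.C1Push.pullSec ι ξ (w (ι ξ))) hw'
  have hζ' : ⇑ζ = Cyc.c1CapFun (fun y => δ (ι y)) ((Scheme.Modules.pullback ι).obj L) ⇑αY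
      (fun ξ => Submodule.Quotient.mk ((((Scheme.Modules.pullback ι).obj L).presheaf.germ ⊤ ξ trivial) s)) := by
    rw [hζ, hcap]
    exact congrArg (fun a => Cyc.c1CapFun (fun y => δ (ι y)) ((Scheme.Modules.pullback ι).obj L) a _) (funext fun ξ => (hαY ξ).symm)
  have h := Groth.Agent.Lib.Cyc.C1Indep.ratEquiv_c1Cap hYs.2.2 hL' hαmem _ _ (fun ξ hξ => hw' ξ)
    (fun ξ hξ h0 => ?_) hγ₀ hζ'
  swap
  · have h1 := hZ ξ ((Submodule.Quotient.mk_eq_zero _).1 h0)
    exact hξ (hαmem ξ (by show δ (ι ξ) ≠ k + 1; omega))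
  unfold Cyc.RatEquiv at h ⊢
  have e : γ - AlgebraicCycle.map ι (fun y => δ (ι y)) δ ζ =
      AlgebraicCycle.map ι (fun y => δ (ι y)) δ (γ₀ - ζ) :=
    Function.locallyFinsuppWithin.ext fun x => by
      rw [Groth.Agent.Lib.Cyc.PP.Div.map_sub_apply,
        Groth.Agent.Lib.Cyc.PP.C1Push.map_cap ι hYs.2.2 hX.2.2 hc hL hαmem v hv w hw hw' γ₀ hγ₀ x,
        funext hmap, ← hγ]
      rfl
  rw [e]
  exact Groth.Agent.Lib.Cyc.PP.Main.ratEquivZero_map ι hYs.2.2 hX.2.2 hc h

end Groth.Agent.S1924
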