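import Groth.Statements.S19240
import Groth.Agent.Lib.UHFrob98.Factor

set_option autoImplicit false
universe u
open FrobSch

namespace Groth.Agent.S19240

open Groth.Agent.Lib Groth.Agent.Lib.Curves AlgebraicGeometry CategoryTheory in
theorem iterate_frob (p : ℕ) [Fact p.Prime] (Z : Scheme.{u}) [FrobSch.IsCharP Z p] (n : ℕ) :
    (fun g : Z ⟶ Z => g ≫ FrobSch.frob Z p)^[n] (𝟙 Z) = FrobPow.frobPow Z p n := by
  induction n with
  | zero => rfl
  | succ n ih => rw [Function.iterate_succ_apply', ih]; rfl

open Groth.Agent.Lib Groth.Agent.Lib.Curves AlgebraicGeometry CategoryTheory in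
theorem isUnivHomeo_frobPow (p : ℕ) [Fact p.Prime] (Z : Scheme.{u}) [FrobSch.IsCharP Z p] (n : ℕ) :
    FlatMor.IsUnivHomeo (FrobPow.frobPow Z p n) := by
  induction n with
  | zero =>
    exact (UnivHomeo.Basic.iff_integral_universallyInjective_surjective _).2
      ⟨inferInstanceAs (IsIntegralHom (𝟙 _)), inferInstanceAs (UniversallyInjective (𝟙 _)),
        inferInstanceAs (Surjective (𝟙 _))⟩
  | succ n ih => exact UnivHomeo.Basic.comp ih (H58FrobHomeo.isUnivHomeo_frob p Z)


open CategoryTheory CategoryTheory.Limits AlgebraicGeometry in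
/-- Let k be a perfect field of characteristic p > 0 and let u : X ⟶ Y be a k-morphism between integral
k-schemes (separated, of finite type and quasi-projective over k) which is a universal
homeomorphism, and assume Y is normal. Then the degree of the function field of X over that of Y is
p ^ n for some natural number n, and for this n there is a universal homeomorphism v : Y ⟶ X^{(n)},
where X^{(n)} is the base change of X along the n-th power of the Frobenius of Spec k, such that v
is a k-morphism, u followed by v is the n-th relative Frobenius of X over k (its composite with the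
projection X^{(n)} ⟶ X is the n-th power of the absolute Frobenius of X) and v followed by the base
change of u is the n-th relative Frobenius of Y over k (the composite of v with the projection to X
and with u is the n-th power of the absolute Frobenius of Y). -/
theorem result
    (p : ℕ) [Fact p.Prime] (k : Type u) [Field k] [CharP k p] [PerfectField k]
    {X Y : Scheme.{u}} (fX : X ⟶ Spec (CommRingCat.of k)) (fY : Y ⟶ Spec (CommRingCat.of k))
    [IsIntegral X] [IsIntegral Y] [FrobSch.IsCharP X p] [FrobSch.IsCharP Y p]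
    [IsSeparated fX] [IsSeparated fY] [LocallyOfFiniteType fX] [LocallyOfFiniteType fY]
    (hqX : ∃ (N : ℕ) (i : X ⟶ CohB1.ProjSpace N k), IsImmersion i ∧ i ≫ CohB1.ProjSpace.toSpec N k = fX)
    (hqY : ∃ (N : ℕ) (i : Y ⟶ CohB1.ProjSpace N k), IsImmersion i ∧ i ≫ CohB1.ProjSpace.toSpec N k = fY)
    (hY : Pi1.IsNormalScheme Y)
    (u : X ⟶ Y) (hu : u ≫ fY = fX) (huniv : FlatMor.IsUnivHomeo u)
    (e : u (genericPoint X) = genericPoint Y) :
    ∃ n : ℕ,
      @Module.finrank Y.functionField X.functionField _ _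
          (Y.presheaf.stalkSpecializes (specializes_of_eq e) ≫ u.stalkMap (genericPoint X)).hom.toAlgebra.toModule = p ^ n ∧
      ∃ v : Y ⟶ pullback fX ((fun g : Spec (CommRingCat.of k) ⟶ Spec (CommRingCat.of k) => g ≫ FrobSch.frob (Spec (CommRingCat.of k)) p)^[n] (𝟙 (Spec (CommRingCat.of k)))),
        FlatMor.IsUnivHomeo v ∧
        v ≫ pullback.snd fX ((fun g : Spec (CommRingCat.of k) ⟶ Spec (CommRingCat.of k) => g ≫ FrobSch.frob (Spec (CommRingCat.of k)) p)^[n] (𝟙 (Spec (CommRingCat.of k)))) = fY ∧
        u ≫ v ≫ pullback.fst fX ((fun g : Spec (CommRingCat.of k) ⟶ Spec (CommRingCat.of k) => g ≫ FrobSch.frob (Spec (CommRingCat.of k)) p)^[n] (𝟙 (Spec (CommRingCat.of k)))) =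
          (fun g : X ⟶ X => g ≫ FrobSch.frob X p)^[n] (𝟙 X) ∧
        v ≫ pullback.fst fX ((fun g : Spec (CommRingCat.of k) ⟶ Spec (CommRingCat.of k) => g ≫ FrobSch.frob (Spec (CommRingCat.of k)) p)^[n] (𝟙 (Spec (CommRingCat.of k)))) ≫ u =
          (fun g : Y ⟶ Y => g ≫ FrobSch.frob Y p)^[n] (𝟙 Y) := by
  haveI := Groth.Agent.Lib.UnivHomeo.Basic.universallyInjective huniv
  haveI := Groth.Agent.Lib.UnivHomeo.Basic.surjective huniv
  haveI : LocallyOfFiniteType (u ≫ fY) := by rw [hu]; infer_instance
  haveI : LocallyOfFiniteType u := locallyOfFiniteType_of_comp u fY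
  haveI := Groth.Agent.Lib.UnivHomeo.Basic.isFinite huniv
  haveI : X.IsSeparated := ⟨by rw [← terminal.comp_from fX]; infer_instance⟩
  haveI : Y.IsSeparated := ⟨by rw [← terminal.comp_from fY]; infer_instance⟩
  obtain ⟨n, hn, hpow⟩ := Groth.Agent.Lib.UHFrob98.Factor.exists_degree (p := p) u e
  obtain ⟨g, hg⟩ := Groth.Agent.Lib.UHFrob98.Factor.exists_factor (p := p) u e hY n hpow
  refine ⟨n, hn, ?_⟩
  rw [iterate_frob p (Spec (CommRingCat.of k)), iterate_frob p X, iterate_frob p Y]
  set G := Groth.Agent.Lib.Curves.FrobPow.frobPow (Spec (CommRingCat.of k)) p n with hGdef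
  have hG : IsIso G := by
    haveI : ExpChar k p := expChar_prime k p
    haveI : PerfectRing k p := PerfectField.toPerfectRing p
    rw [hGdef, Groth.Agent.Lib.Curves.FrobPow.frobPow_spec p k n]
    haveI : IsIso (CommRingCat.ofHom (iterateFrobenius k p n)) :=
      (iterateFrobeniusEquiv k p n).toCommRingCatIso.isIso_hom
    infer_instance
  have h1 : g ≫ fX = fY ≫ G := by
    apply ext_of_isDominant u
    rw [← Category.assoc, hg, Groth.Agent.Lib.Curves.FrobPow.frobPow_comp, ← Category.assoc, hu]
  have h2 : g ≫ u = Groth.Agent.Lib.Curves.FrobPow.frobPow Y p n := by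
    apply ext_of_isDominant u
    rw [← Category.assoc, hg, Groth.Agent.Lib.Curves.FrobPow.frobPow_comp]
  have hgU : FlatMor.IsUnivHomeo g :=
    Groth.Agent.Lib.UnivHomeo.Basic.of_comp_left (hg.symm ▸ isUnivHomeo_frobPow p X n) huniv
  refine ⟨pullback.lift g fY h1, ?_, pullback.lift_snd _ _ _, ?_, ?_⟩
  · refine Groth.Agent.Lib.UnivHomeo.Basic.of_comp_right (g := pullback.fst fX G) ?_ ?_
    · rw [pullback.lift_fst]; exact hgU
    · exact MorphismProperty.pullback_fst (P := FlatMor.IsUnivHomeo) _ _
        (isUnivHomeo_frobPow p (Spec (CommRingCat.of k)) n)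
  · rw [pullback.lift_fst, hg]
  · rw [pullback.lift_fst_assoc, h2]

end Groth.Agent.S19240
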