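import Groth.Statements.S19244
import Mathlib.CategoryTheory.Abelian.SerreClass.Localization

set_option autoImplicit false
set_option linter.style.haveILetI false
universe v v' u u'
open HomAlg3

namespace Groth.Agent.S19244

open CategoryTheory.Limits

open CategoryTheory in
/-- Let A be an abelian category and let P be the class of bounded-torsion objects of A, those X with n
• 𝟙_X = 0 for some nonzero integer n; assume P is a Serre class. Let L : A ⥤ D be an additive
functor to a preadditive category exhibiting D as the localization of A at the morphisms whose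
kernel and cokernel are in P (so D is the quotient category A_ℚ = A ⧸ A_{b-tor}; the source assumes
A well-powered, which guarantees that this quotient exists). Then for all objects X, Y of A: (1) for
every nonzero integer n, multiplication by n is bijective on Hom_D(L X, L Y), so that this group is
naturally a ℚ-vector space; (2) a morphism f : X ⟶ Y satisfies L f = 0 if and only if n • f = 0 for
some nonzero integer n; (3) for every g : L X ⟶ L Y there are a nonzero integer n and f : X ⟶ Y with
n • g = L f. Equivalently, the natural map Hom_A(X, Y) ⊗_ℤ ℚ → Hom_D(L X, L Y) is an isomorphism. -/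
theorem result
    {A : Type u} [Category.{v} A] [Abelian A] {D : Type u'} [Category.{v'} D] [Preadditive D]
    (P : ObjectProperty A) (hP : ∀ X : A, P X ↔ ∃ n : ℤ, n ≠ 0 ∧ n • (𝟙 X) = 0) [P.IsSerreClass]
    (L : A ⥤ D) [L.Additive] [L.IsLocalization P.isoModSerre] (X Y : A) :
    (∀ n : ℤ, n ≠ 0 → Function.Bijective (fun g : L.obj X ⟶ L.obj Y => n • g)) ∧
    (∀ f : X ⟶ Y, L.map f = 0 ↔ ∃ n : ℤ, n ≠ 0 ∧ n • f = 0) ∧
    (∀ g : L.obj X ⟶ L.obj Y, ∃ (n : ℤ) (f : X ⟶ Y), n ≠ 0 ∧ n • g = L.map f) := by
  have hinv : ∀ {W : A} (n : ℤ), n ≠ 0 → P.isoModSerre (n • 𝟙 W) := by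
    intro W n hn
    refine ⟨(hP _).2 ⟨n, hn, ?_⟩, (hP _).2 ⟨n, hn, ?_⟩⟩
    · rw [← cancel_mono (kernel.ι (n • 𝟙 W))]
      have := kernel.condition (n • 𝟙 W)
      rw [Preadditive.comp_zsmul, Category.comp_id] at this
      rw [Preadditive.zsmul_comp, Category.id_comp, zero_comp, this]
    · rw [← cancel_epi (cokernel.π (n • 𝟙 W))]
      have := cokernel.condition (n • 𝟙 W)
      rw [Preadditive.zsmul_comp, Category.id_comp] at this
      rw [Preadditive.comp_zsmul, Category.comp_id, comp_zero, this]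
  have hbij : ∀ {W W' : A} (n : ℤ), n ≠ 0 →
      Function.Bijective (fun g : L.obj W ⟶ L.obj W' => n • g) := by
    intro W W' n hn
    haveI := Localization.inverts L P.isoModSerre _ (hinv (W := W') n hn)
    have e : (fun g : L.obj W ⟶ L.obj W' => n • g) = fun g => g ≫ L.map (n • 𝟙 W') := by
      funext g; simp [L.map_zsmul, Preadditive.comp_zsmul]
    rw [e]
    exact ⟨fun a b h => (cancel_mono _).1 h, fun b => ⟨b ≫ inv (L.map (n • 𝟙 W')), by simp⟩⟩
  refine ⟨fun n hn => hbij n hn, fun f => ⟨fun h => ?_, fun ⟨n, hn, h⟩ => ?_⟩, fun g => ?_⟩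
  · obtain ⟨n, hn, h'⟩ := (hP _).1 ((ObjectProperty.SerreClassLocalization.map_eq_zero_iff L P f).1 h)
    refine ⟨n, hn, ?_⟩
    rw [← Abelian.image.fac f, ← Category.id_comp (Abelian.image.ι f), ← Preadditive.comp_zsmul,
      ← Preadditive.zsmul_comp, h', zero_comp, comp_zero]
  · exact (hbij n hn).1 (by simp [← L.map_zsmul, h])
  · obtain ⟨φ, hφ⟩ := Localization.exists_leftFraction L P.isoModSerre g
    obtain ⟨n, hn, h₁⟩ := (hP _).1 φ.hs.1
    obtain ⟨m, hm, h₂⟩ := (hP _).1 φ.hs.2
    let s := φ.s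
    obtain ⟨Z, e, i, _, _, hei⟩ : ∃ (Z : A) (e : Y ⟶ Z) (i : Z ⟶ φ.Y'), Epi e ∧ Mono i ∧ e ≫ i = s :=
      ⟨_, Abelian.factorThruImage s, Abelian.image.ι s, inferInstance, inferInstance, Abelian.image.fac s⟩
    have w₁ : kernel.ι e ≫ (n • 𝟙 Y) = 0 := by
      have hs : kernel.ι e ≫ s = 0 := by rw [← hei, kernel.condition_assoc, zero_comp]
      rw [Preadditive.comp_zsmul, Category.comp_id, ← kernel.lift_ι s _ hs,
        ← Category.id_comp (kernel.ι s), ← Preadditive.comp_zsmul, ← Preadditive.zsmul_comp, h₁]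
      simp
    have w₂ : (m • 𝟙 φ.Y') ≫ cokernel.π i = 0 := by
      have hs : s ≫ cokernel.π i = 0 := by rw [← hei, Category.assoc, cokernel.condition, comp_zero]
      rw [Preadditive.zsmul_comp, Category.id_comp, ← cokernel.π_desc s _ hs,
        ← Category.comp_id (cokernel.π s), ← Preadditive.zsmul_comp, ← Preadditive.comp_zsmul, h₂]
      simp
    let a := Abelian.epiDesc e (n • 𝟙 Y) w₁
    let b := Abelian.monoLift i (m • 𝟙 φ.Y') w₂
    have hb : s ≫ b = m • e := by
      rw [← cancel_mono i, Category.assoc, Abelian.monoLift_comp, Preadditive.comp_zsmul,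
        Preadditive.zsmul_comp, hei, Category.comp_id]
    have hst : s ≫ b ≫ a = (m * n) • 𝟙 Y := by
      rw [← Category.assoc, hb, Preadditive.zsmul_comp, Abelian.comp_epiDesc, mul_smul]
    refine ⟨m * n, φ.f ≫ b ≫ a, mul_ne_zero hm hn, ?_⟩
    have h := φ.map_comp_map_s L (Localization.inverts L P.isoModSerre)
    rw [← hφ] at h
    rw [L.map_comp, ← h, Category.assoc, ← L.map_comp, hst, L.map_zsmul, L.map_id,
      Preadditive.comp_zsmul, Category.comp_id]

end Groth.Agent.S19244
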