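import Groth.Statements.S19246
import Groth.Agent.Lib.ZarCoh.Basic
import Mathlib.Algebra.Homology.DerivedCategory.Ext.ExactSequences

set_option autoImplicit false
universe u
open CohTop

namespace Groth.Agent.S19246

open CategoryTheory CategoryTheory.Limits TopologicalSpace Opposite CategoryTheory.Abelian
open Groth.Agent.Lib.ZarCoh.Basic

section
variable {X : TopCat.{u}} {S : ShortComplex (CohTop.Ab X)}

theorem surjective_of_flasque_kernel (hS : S.ShortExact) [TopCat.Sheaf.IsFlasque S.X₁] (U : Opens X) :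
    Function.Surjective (S.g.hom.app (op U)) := by
  intro s
  let y := (homEquiv U S.X₃).symm s
  obtain ⟨x, hx⟩ := Ext.covariant_sequence_exact₃ _ hS (Ext.mk₀ y) (zero_add 1)
    ((HU_flasque S.X₁ U 0).elim _ _)
  obtain ⟨x, rfl⟩ := (Ext.mk₀_bijective _ _).2 x
  rw [Ext.mk₀_comp_mk₀] at hx
  have := (Ext.mk₀_bijective _ _).1 hx
  refine ⟨homEquiv U S.X₂ x, ?_⟩
  have h2 := homEquiv_comp x S.g
  rw [this, Equiv.apply_symm_apply] at h2
  exact h2.symm

theorem exists_preimage (hS : S.ShortExact) (U : Opens X) (d : S.X₂.obj.obj (op U))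
    (hd : S.g.hom.app (op U) d = 0) : ∃ t, S.f.hom.app (op U) t = d := by
  let y := (homEquiv U S.X₂).symm d
  have hy : y ≫ S.g = 0 := by
    apply (homEquiv U S.X₃).injective
    rw [homEquiv_comp, Equiv.apply_symm_apply]
    refine hd.trans ?_
    rw [homEquiv_apply]
    rfl
  obtain ⟨x, hx⟩ := Ext.covariant_sequence_exact₂ _ hS (Ext.mk₀ y)
    ((Ext.mk₀_comp_mk₀ y S.g).trans ((congrArg Ext.mk₀ hy).trans (Ext.mk₀_zero _ _)))
  obtain ⟨x, rfl⟩ := (Ext.mk₀_bijective _ _).2 x
  rw [Ext.mk₀_comp_mk₀] at hx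
  have := (Ext.mk₀_bijective _ _).1 hx
  refine ⟨homEquiv U S.X₁ x, ?_⟩
  have h2 := homEquiv_comp x S.f
  rw [this, Equiv.apply_symm_apply] at h2
  exact h2.symm

end

theorem isFlasque_limit {X : TopCat.{u}} (M : ℕᵒᵖ ⥤ CohTop.Ab X)
    (h0 : TopCat.Sheaf.IsFlasque (M.obj (op 0)))
    (hE : ∀ n : ℕ, Epi (M.map (homOfLE (Nat.le_succ n)).op))
    (hK : ∀ n : ℕ, TopCat.Sheaf.IsFlasque (kernel (M.map (homOfLE (Nat.le_succ n)).op) : CohTop.Ab X)) :
    TopCat.Sheaf.IsFlasque (limit M : CohTop.Ab X) where
  epi {U V} i := by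
    rw [AddCommGrpCat.epi_iff_surjective]
    intro x
    let ev : ∀ W : (Opens X)ᵒᵖ, CohTop.Ab X ⥤ AddCommGrpCat.{u} := fun W ↦
      sheafToPresheaf _ _ ⋙ (evaluation _ _).obj W
    haveI : ∀ W, PreservesLimitsOfShape ℕᵒᵖ (ev W) := fun W ↦ by
      dsimp only [ev]; infer_instance
    let hl : ∀ W, IsLimit ((ev W ⋙ forget AddCommGrpCat.{u}).mapCone (limit.cone M)) := fun W ↦
      isLimitOfPreserves _ (limit.isLimit M)
    let pr : ∀ (W : (Opens X)ᵒᵖ) (n : ℕ), (limit M).obj.obj W → (M.obj (op n)).obj.obj W :=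
      fun W n ↦ (limit.π M (op n)).hom.app W
    let g : ∀ n, M.obj (op (n + 1)) ⟶ M.obj (op n) := fun n ↦ M.map (homOfLE (Nat.le_succ n)).op
    have hw : ∀ (W : (Opens X)ᵒᵖ) (n : ℕ) (y : (limit M).obj.obj W),
        (g n).hom.app W (pr W (n + 1) y) = pr W n y := fun W n y ↦
      congr(($(limit.w M (homOfLE (Nat.le_succ n)).op)).hom.app W y)
    have step : ∀ (n : ℕ) (t : (M.obj (op n)).obj.obj U),
        (M.obj (op n)).obj.map i t = pr V n x →
        ∃ t' : (M.obj (op (n + 1))).obj.obj U,
          (g n).hom.app U t' = t ∧ (M.obj (op (n + 1))).obj.map i t' = pr V (n + 1) x := by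
      intro n t ht
      let S : ShortComplex (CohTop.Ab X) := ShortComplex.mk _ (g n) (kernel.condition (g n))
      have hS : S.ShortExact :=
        { exact := ShortComplex.exact_of_f_is_kernel _ (kernelIsKernel _)
          mono_f := inferInstanceAs (Mono (kernel.ι (g n)))
          epi_g := hE n }
      haveI : TopCat.Sheaf.IsFlasque S.X₁ := hK n
      obtain ⟨a, ha⟩ := surjective_of_flasque_kernel hS U.unop t
      have hd : (g n).hom.app V ((M.obj (op (n + 1))).obj.map i a - pr V (n + 1) x) = 0 := by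
        rw [map_sub, hw, sub_eq_zero, ← ht]
        exact ((g n).hom.naturality_apply i a).trans (congrArg _ ha)
      obtain ⟨k, hk⟩ := exists_preimage hS V.unop _ hd
      obtain ⟨k', hk'⟩ := (AddCommGrpCat.epi_iff_surjective _).1
        ((hK n).epi i) k
      refine ⟨a - S.f.hom.app U k', ?_, ?_⟩
      · rw [map_sub]
        have h1 : (g n).hom.app U (S.f.hom.app U k') = 0 :=
          congr(($(S.zero)).hom.app U k')
        rw [h1, sub_zero]
        exact ha
      · rw [map_sub]
        have h1 : (M.obj (op (n + 1))).obj.map i (S.f.hom.app U k') = S.f.hom.app V k :=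
          (S.f.hom.naturality_apply i k').symm.trans (congrArg _ hk')
        rw [h1, show S.f.hom.app V k = _ from hk, sub_sub_cancel]
    obtain ⟨t0, ht0⟩ := (AddCommGrpCat.epi_iff_surjective _).1 (h0.epi i) (pr V 0 x)
    choose next hnext₁ hnext₂ using step
    let T : ∀ n, {t : (M.obj (op n)).obj.obj U // (M.obj (op n)).obj.map i t = pr V n x} := fun n ↦
      Nat.rec ⟨t0, ht0⟩ (fun k p ↦ ⟨next k p.1 p.2, hnext₂ k p.1 p.2⟩) n
    have hT : ∀ {m n : ℕ} (h : m ≤ n), (M.map (homOfLE h).op).hom.app U (T n).1 = (T m).1 := by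
      intro m n h
      induction n, h using Nat.le_induction with
      | base =>
        rw [show (homOfLE (le_refl m)).op = 𝟙 (op m) from Subsingleton.elim _ _,
          CategoryTheory.Functor.map_id]
        rfl
      | succ n h ih =>
        rw [show (homOfLE (h.trans (Nat.le_succ n))).op =
          (homOfLE (Nat.le_succ n)).op ≫ (homOfLE h).op from Subsingleton.elim _ _, Functor.map_comp]
        exact (congrArg ((M.map (homOfLE h).op).hom.app U) (hnext₁ n (T n).1 (T n).2)).trans ih
    let sec : ((M ⋙ ev U) ⋙ forget AddCommGrpCat.{u}).sections :=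
      ⟨fun j ↦ (T j.unop).1, fun {j k} φ ↦ by
        have : φ = (homOfLE (leOfHom φ.unop)).op := Subsingleton.elim _ _
        rw [this]
        exact hT (leOfHom φ.unop)⟩
    let y := (Types.isLimitEquivSections (hl U)).symm sec
    refine ⟨y, (Types.isLimitEquivSections (hl V)).injective (Subtype.ext (funext fun j ↦ ?_))⟩
    show (limit.π M j).hom.app V ((limit M).obj.map i y) = (limit.π M j).hom.app V x
    refine ((limit.π M j).hom.naturality_apply i y).trans ?_
    rw [show (limit.π M j).hom.app U y = (T j.unop).1 from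
      Types.isLimitEquivSections_symm_apply (hl U) sec j]
    exact (T j.unop).2

open CategoryTheory CategoryTheory.Limits TopologicalSpace Opposite in
/-- Let X be a topological space and (M_n)_{n ≥ 0} an inverse system of abelian sheaves on X indexed by
the natural numbers, such that every M_n is flasque and every transition map M_{n+1} ⟶ M_n is an
epimorphism of sheaves with flasque kernel. Then the limit sheaf lim_n M_n is flasque. (The source's
statement is about flasque de Rham–Witt systems on a scheme, whose definition is exactly this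
condition on the underlying tower of abelian sheaves; the additional structure plays no role in the
assertion or its proof, so the row is stated for towers of abelian sheaves on any space.) -/
theorem result {X : TopCat.{u}} (M : ℕᵒᵖ ⥤ CohTop.Ab X) :
    (∀ n : ℕ, TopCat.Sheaf.IsFlasque (M.obj (op n))) →
      (∀ n : ℕ, Epi (M.map (homOfLE (Nat.le_succ n)).op)) →
      (∀ n : ℕ, TopCat.Sheaf.IsFlasque (kernel (M.map (homOfLE (Nat.le_succ n)).op) : CohTop.Ab X)) →
      TopCat.Sheaf.IsFlasque (limit M : CohTop.Ab X) := by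
  exact fun h0 hE hK => isFlasque_limit M (h0 0) hE hK

end Groth.Agent.S19246
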