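import Groth.Agent.Lib.ZarCoh.Compare
import Mathlib.Topology.Sheaves.LocallySurjective
import Groth.Statements.S19247
-- import your own Groth.Agent.* helpers here

set_option autoImplicit false
universe u
open CohTop

namespace Groth.Agent.S19247

open CategoryTheory CategoryTheory.Limits TopologicalSpace Opposite in
/-- Let X be a topological space and S : 0 ⟶ M' ⟶ M ⟶ M'' ⟶ 0 a short exact sequence of ℕ-indexed
inverse systems of abelian sheaves on X (short exact in the abelian category of such systems, i.e.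
levelwise), such that each of M', M, M'' is a flasque tower: every term is flasque and every
transition map is an epimorphism of sheaves with flasque kernel. Then the induced map lim M ⟶ lim
M'' is an epimorphism of sheaves, so that, lim being left exact, the sequence 0 ⟶ lim M' ⟶ lim M ⟶
lim M'' ⟶ 0 is exact. (The source's statement is the exactness of lim on flasque de Rham–Witt
systems on a scheme; the de Rham–Witt structure plays no role, so the row is stated for towers of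
abelian sheaves on any space.) -/
theorem result {X : TopCat.{u}}
    (S : ShortComplex (ℕᵒᵖ ⥤ CohTop.Ab X)) (hS : S.ShortExact) :
    (∀ n : ℕ, TopCat.Sheaf.IsFlasque (S.X₁.obj (op n))) →
      (∀ n : ℕ, Epi (S.X₁.map (homOfLE (Nat.le_succ n)).op)) →
      (∀ n : ℕ, TopCat.Sheaf.IsFlasque (kernel (S.X₁.map (homOfLE (Nat.le_succ n)).op) : CohTop.Ab X)) →
    (∀ n : ℕ, TopCat.Sheaf.IsFlasque (S.X₂.obj (op n))) →
      (∀ n : ℕ, Epi (S.X₂.map (homOfLE (Nat.le_succ n)).op)) →
      (∀ n : ℕ, TopCat.Sheaf.IsFlasque (kernel (S.X₂.map (homOfLE (Nat.le_succ n)).op) : CohTop.Ab X)) →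
    (∀ n : ℕ, TopCat.Sheaf.IsFlasque (S.X₃.obj (op n))) →
      (∀ n : ℕ, Epi (S.X₃.map (homOfLE (Nat.le_succ n)).op)) →
      (∀ n : ℕ, TopCat.Sheaf.IsFlasque (kernel (S.X₃.map (homOfLE (Nat.le_succ n)).op) : CohTop.Ab X)) →
      Epi (limMap S.g) := by
  intro h1 e1 k1 _ _ _ _ _ _
  open Groth.Agent.Lib.ZarCoh.Basic in
  have lift : ∀ {T : ShortComplex (CohTop.Ab X)}, T.ShortExact → TopCat.Sheaf.IsFlasque T.X₁ →
      ∀ (U : Opens X) (y : Zs.obj U ⟶ T.X₃), ∃ x : Zs.obj U ⟶ T.X₂, x ≫ T.g = y := fun {T} hT hF U y => by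
    haveI := hF
    obtain ⟨x, hx⟩ := (AddCommGrpCat.epi_iff_surjective _).1
      (TopCat.Sheaf.IsFlasque.epi_of_shortExact (U := U) hT) (homEquiv U _ y)
    refine ⟨(homEquiv U _).symm x, (homEquiv U _).injective ?_⟩
    rw [homEquiv_comp, Equiv.apply_symm_apply, hx]
  have hn : ∀ n : ℕ, (S.map ((evaluation ℕᵒᵖ (CohTop.Ab X)).obj (op n))).ShortExact := fun n =>
    hS.map_of_exact _
  refine (TopCat.Sheaf.isLocallySurjective_iff_epi _).1
    ((TopCat.Presheaf.isLocallySurjective_iff _).2 fun U s x hx => ?_)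
  open Groth.Agent.Lib.ZarCoh.Basic in
  suffices h : ∃ b : Zs.obj U ⟶ limit S.X₂, b ≫ limMap S.g = (homEquiv U _).symm s by
    obtain ⟨b, hb⟩ := h
    refine ⟨U, le_rfl, ⟨homEquiv U _ b, ?_⟩, hx⟩
    refine ((homEquiv_comp b _).symm.trans ((congrArg (homEquiv U _) hb).trans (Equiv.apply_symm_apply _ _))).trans ?_
    change s = (limit S.X₃).obj.map (𝟙 (op U)) s
    rw [CategoryTheory.Functor.map_id]
    rfl
  open Groth.Agent.Lib.ZarCoh.Basic in
  generalize (homEquiv U _).symm s = c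
  let t₁ (n : ℕ) := S.X₁.map (homOfLE (Nat.le_succ n)).op
  let t₂ (n : ℕ) := S.X₂.map (homOfLE (Nat.le_succ n)).op
  have step : ∀ n (b : {b : Lib.ZarCoh.Basic.Zs.obj U ⟶ S.X₂.obj (op n) // b ≫ S.g.app (op n) = c ≫ limit.π S.X₃ (op n)}),
      ∃ b' : {b : Lib.ZarCoh.Basic.Zs.obj U ⟶ S.X₂.obj (op (n + 1)) // b ≫ S.g.app (op (n + 1)) = c ≫ limit.π S.X₃ (op (n + 1))},
        b'.1 ≫ t₂ n = b.1 := by
    rintro n ⟨b, hb⟩
    obtain ⟨b₀', hb'⟩ := lift (hn (n + 1)) (h1 (n + 1)) U (c ≫ limit.π S.X₃ (op (n + 1)))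
    let b' : Lib.ZarCoh.Basic.Zs.obj U ⟶ S.X₂.obj (op (n + 1)) := b₀'
    have hb'' : b' ≫ S.g.app (op (n + 1)) = c ≫ limit.π S.X₃ (op (n + 1)) := hb'
    have h0 : (b' ≫ t₂ n - b) ≫ S.g.app (op n) = 0 := by
      rw [Preadditive.sub_comp, Category.assoc, S.g.naturality, ← Category.assoc, hb'', hb,
        Category.assoc, limit.w, sub_self]
    haveI := (hn n).mono_f
    let a : Lib.ZarCoh.Basic.Zs.obj U ⟶ S.X₁.obj (op n) := (hn n).exact.lift _ h0
    have ha : a ≫ S.f.app (op n) = b' ≫ t₂ n - b := (hn n).exact.lift_f _ h0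
    haveI : Epi (t₁ n) := e1 n
    obtain ⟨a₀', ha'⟩ := lift (T := ShortComplex.mk (kernel.ι (t₁ n)) (t₁ n) (kernel.condition _))
      { exact := ShortComplex.exact_of_f_is_kernel _ (kernelIsKernel _) } (k1 n) U a
    let a' : Lib.ZarCoh.Basic.Zs.obj U ⟶ S.X₁.obj (op (n + 1)) := a₀'
    refine ⟨⟨b' - a' ≫ S.f.app (op (n + 1)), ?_⟩, ?_⟩
    · rw [Preadditive.sub_comp, hb'', Category.assoc, ← NatTrans.comp_app, S.zero]
      simp
    · change (b' - a' ≫ S.f.app (op (n + 1))) ≫ t₂ n = b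
      rw [Preadditive.sub_comp, Category.assoc, ← S.f.naturality, ← Category.assoc]
      rw [show a' ≫ S.X₁.map (homOfLE (Nat.le_succ n)).op = a from ha', ha, sub_sub_cancel]
  choose next hnext using step
  obtain ⟨b0, hb0⟩ := lift (hn 0) (h1 0) U (c ≫ limit.π S.X₃ (op 0))
  let bs : ∀ n, {b : Lib.ZarCoh.Basic.Zs.obj U ⟶ S.X₂.obj (op n) //
      b ≫ S.g.app (op n) = c ≫ limit.π S.X₃ (op n)} := fun n => Nat.rec ⟨b0, hb0⟩ next n
  let φ : ((Functor.const ℕᵒᵖ).obj (Lib.ZarCoh.Basic.Zs.obj U)) ⟶ S.X₂ :=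
    { app := fun n => (bs n.unop).1
      naturality := by
        suffices h : ∀ (n m : ℕ) (hnm : n ≤ m), (bs m).1 ≫ S.X₂.map (homOfLE hnm).op = (bs n).1 by
          intro i j g
          dsimp
          rw [Category.id_comp]
          exact (h j.unop i.unop g.unop.le).symm
        intro n m hnm
        induction hnm with
        | refl =>
          rw [show (homOfLE (le_refl n)).op = 𝟙 (op n) from rfl, CategoryTheory.Functor.map_id, Category.comp_id]
        | @step m hnm ih =>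
          rw [show (homOfLE (Nat.le.step hnm)).op = (homOfLE (Nat.le_succ m)).op ≫ (homOfLE hnm).op from rfl,
            Functor.map_comp, ← Category.assoc]
          exact (congrArg (· ≫ _) (hnext m (bs m))).trans ih }
  refine ⟨limit.lift S.X₂ ⟨_, φ⟩, limit.hom_ext fun n => ?_⟩
  rw [Category.assoc, limMap_π, limit.lift_π_assoc]
  exact (bs n.unop).2

end Groth.Agent.S19247
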