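import Groth.Statements.S19258
import Mathlib.Tactic.LinearCombination
import Mathlib.Tactic.FieldSimp

set_option autoImplicit false
universe u
open PontDual

namespace Groth.Agent.S19258

/-- Let G and G' be abelian groups such that every element of G' has finite order, and let β : G' →
Hom(G, ℚ/ℤ) be an injective homomorphism (equivalently a pairing G' × G → ℚ/ℤ with no left kernel).
Endow G with the weak topology defined by G': the coarsest topology for which every character β(f),
f ∈ G', is continuous when ℚ/ℤ carries the discrete topology. Then every homomorphism χ : G → ℚ/ℤ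
that is continuous for this topology on G and the discrete topology on ℚ/ℤ equals β(f) for some f ∈
G', so that β is a bijection from G' onto the group of continuous characters of G. -/
theorem result
    (G : Type u) (G' : Type u) [AddCommGroup G] [AddCommGroup G'] (hG' : IsAddTorsion G')
    (β : G' →+ (G →+ AddCircle (1 : ℚ))) (hβ : Function.Injective β)
    (χ : G →+ AddCircle (1 : ℚ))
    (hχ : @Continuous G (AddCircle (1 : ℚ)) (⨅ f' : G', TopologicalSpace.induced (fun x : G => β f' x) ⊥) ⊥ χ) :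
    ∃ f' : G', β f' = χ := by
  classical
  have key : ∀ (χ₁ ψ : G →+ AddCircle (1 : ℚ)) (K : AddSubgroup G), IsOfFinAddOrder ψ →
      (∀ x ∈ K, ψ x = 0 → χ₁ x = 0) → ∃ m : ℤ, ∀ x ∈ K, (χ₁ - m • ψ) x = 0 := by
    intro χ₁ ψ K hψ hK
    set d := addOrderOf ψ with hd
    have hd0 : 0 < d := hψ.addOrderOf_pos
    have hx0 : ∀ x, d • ψ x = 0 := by
      intro x
      have := DFunLike.congr_fun (addOrderOf_nsmul_eq_zero ψ) x
      rwa [AddMonoidHom.nsmul_apply, AddMonoidHom.zero_apply] at this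
    -- the image of `K` is generated by one element
    let C : AddSubgroup (AddCircle (1 : ℚ)) := K.map ψ
    let Z : AddSubgroup (AddCircle (1 : ℚ)) :=
      AddSubgroup.zmultiples ((((1 : ℕ) : ℚ) / (d : ℚ) * 1 : ℚ) : AddCircle (1 : ℚ))
    have hC : C ≤ Z := by
      rintro _ ⟨x, -, rfl⟩
      obtain ⟨m, -, hm⟩ := (AddCircle.nsmul_eq_zero_iff hd0).1 (hx0 x)
      refine ⟨m, ?_⟩
      rw [← hm]
      simp only [natCast_zsmul]
      rw [← AddCircle.coe_nsmul]
      congr 1
      rw [nsmul_eq_mul]; push_cast; ring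
    haveI : IsAddCyclic Z := inferInstance
    haveI : IsAddCyclic C := isAddCyclic_of_injective (AddSubgroup.inclusion hC) (AddSubgroup.inclusion_injective hC)
    obtain ⟨⟨c, hc⟩, hgen⟩ := IsAddCyclic.exists_generator (α := C)
    obtain ⟨x₀, hx₀, rfl⟩ := hc
    set e := addOrderOf (ψ x₀) with he
    have he0 : 0 < e := (isOfFinAddOrder_iff_nsmul_eq_zero.2 ⟨d, hd0, hx0 x₀⟩).addOrderOf_pos
    have hχe : e • χ₁ x₀ = 0 := by
      rw [← map_nsmul]
      exact hK _ (K.nsmul_mem hx₀ e) (by rw [map_nsmul, he, addOrderOf_nsmul_eq_zero])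
    obtain ⟨a, -, ha, hau⟩ := (AddCircle.addOrderOf_eq_pos_iff he0).1 he.symm
    obtain ⟨b, -, hb⟩ := (AddCircle.nsmul_eq_zero_iff he0).1 hχe
    have hbez := Nat.gcd_eq_gcd_ab a e
    rw [ha] at hbez
    refine ⟨(b : ℤ) * Nat.gcdA a e, fun x hx => ?_⟩
    have hm0 : χ₁ x₀ = ((b : ℤ) * Nat.gcdA a e) • ψ x₀ := by
      rw [← hb, ← hau, ← AddCircle.coe_zsmul, ← sub_eq_zero, ← AddCircle.coe_sub, AddCircle.coe_eq_zero_iff]
      refine ⟨(b : ℤ) * Nat.gcdB a e, ?_⟩
      have hbq : (1 : ℚ) = (a : ℚ) * Nat.gcdA a e + (e : ℚ) * Nat.gcdB a e := by exact_mod_cast hbez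
      have he' : (e : ℚ) ≠ 0 := by exact_mod_cast he0.ne'
      simp only [zsmul_eq_mul]; push_cast; field_simp
      linear_combination (-(b : ℚ)) * hbq
    obtain ⟨t, ht⟩ := hgen ⟨ψ x, x, hx, rfl⟩
    have ht' : t • ψ x₀ = ψ x := congrArg Subtype.val ht
    have h1 : χ₁ (x - t • x₀) = 0 :=
      hK _ (K.sub_mem hx (K.zsmul_mem hx₀ t)) (by rw [map_sub, map_zsmul, ht', sub_self])
    rw [map_sub, sub_eq_zero, map_zsmul] at h1
    rw [AddMonoidHom.sub_apply, AddMonoidHom.zsmul_apply, h1, ← ht', hm0, smul_comm, sub_self]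
  -- finitely many characters suffice
  letI τ : TopologicalSpace G := ⨅ f' : G', TopologicalSpace.induced (fun x : G => β f' x) ⊥
  letI : TopologicalSpace (AddCircle (1 : ℚ)) := ⊥
  haveI : DiscreteTopology (AddCircle (1 : ℚ)) := ⟨rfl⟩
  have h0 : χ ⁻¹' {0} ∈ @nhds G τ 0 :=
    (hχ.isOpen_preimage _ trivial).mem_nhds (by simp)
  have hn : @nhds G τ 0 = ⨅ f' : G', Filter.principal ((β f') ⁻¹' {0}) := by
    rw [nhds_iInf]
    refine iInf_congr fun f' => ?_
    rw [nhds_induced, nhds_discrete, ← Filter.principal_singleton, Filter.comap_principal, map_zero]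
  rw [hn, Filter.mem_iInf_finite] at h0
  obtain ⟨t, ht⟩ := h0
  rw [Filter.iInf_principal_finset, Filter.mem_principal] at ht
  clear hn hχ
  induction t using Finset.induction generalizing χ with
  | empty =>
    exact ⟨0, by ext x; simpa using (ht (by simp : x ∈ _)).symm⟩
  | @insert f t hft ih =>
    let K : AddSubgroup G := ⨅ g ∈ t, (β g).ker
    have hKm : ∀ x, x ∈ K ↔ ∀ g ∈ t, β g x = 0 := fun x => by simp [K, AddSubgroup.mem_iInf]
    obtain ⟨m, hm⟩ := key χ (β f) K (β.isOfFinAddOrder (hG' f)) fun x hxK hxf => ht (by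
      simp only [Set.mem_iInter, Finset.mem_insert, Set.mem_preimage, Set.mem_singleton_iff]
      rintro g (rfl | hg)
      exacts [hxf, (hKm x).1 hxK g hg])
    obtain ⟨g, hg⟩ := ih (χ - m • β f) fun x hx => hm x ((hKm x).2 fun g hg => by
      simp only [Set.mem_iInter, Set.mem_preimage, Set.mem_singleton_iff] at hx
      exact hx g hg)
    exact ⟨g + m • f, by rw [map_add, map_zsmul, hg, sub_add_cancel]⟩

end Groth.Agent.S19258
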