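import Groth.Statements.S19262
import Groth.Agent.H95.KodairaAbs
import Groth.Agent.H2.Omega.Frob

set_option autoImplicit false
universe u
open CategoryTheory CategoryTheory.Limits AlgebraicGeometry
open Coh

namespace Groth.Agent.S19262

/-- Let k be a field of characteristic p > 0 whose Frobenius endomorphism is finite, X a scheme smooth
over k of relative dimension N with an ample invertible module L and a tensor-inverse M of L, and
assume (X, L) is a Kodaira pair: for every q ≥ 0 and every O_X-module Ω which is a q-th exterior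
power of the module of relative differentials Ω_{X/k}, H^i(X, Ω ⊗ M^{⊗ n}) = 0 for all n ≥ 1 and all
i with i + q ≤ N - 1. Then for every q ≥ 0, every O_X-module Ω' which is a q-th exterior power of
the module of absolute differentials Ω_{X/Z}, every n ≥ 1 and every i with i + q ≤ N - 1, one has
H^i(X, Ω' ⊗ M^{⊗ n}) = 0. -/
theorem result
    (k : Type u) [Field k] (p : ℕ) [Fact p.Prime] [CharP k p] (hF : (frobenius k p).Finite)
    (X : Scheme.{u}) (f : X ⟶ Spec (CommRingCat.of k)) (N : ℕ) [SmoothOfRelativeDimension N f]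
    (L M : X.Modules) (hamp : CohB1.IsAmple L) (hM : ClSub.IsInverseOf M L)
    (hkod : ∀ (q : ℕ) (Ω : X.Modules), ExtPow.IsExtPow q (Omega.sheaf f) Ω → ∀ n i : ℕ, 1 ≤ n → i + q + 1 ≤ N → Subsingleton (Coh.HH X (CohB1.tensorMod Ω (CohB1.tensorPow M n)) i))
    (q : ℕ) (Ω' : X.Modules) (hΩ' : ExtPow.IsExtPow q (Omega.sheaf (specULiftZIsTerminal.from X)) Ω')
    (n i : ℕ) (hn : 1 ≤ n) (hi : i + q + 1 ≤ N) :
    Subsingleton (Coh.HH X (CohB1.tensorMod Ω' (CohB1.tensorPow M n)) i) := by
  letI : X.Over (Spec (CommRingCat.of k)) := ⟨f⟩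
  haveI : Smooth f := SmoothOfRelativeDimension.smooth N f
  haveI : IsLocallyNoetherian X := LocallyOfFiniteType.isLocallyNoetherian f
  haveI : QuasiSeparated f := inferInstance
  let T : Scheme.{u} := Spec (CommRingCat.of (ULift.{u} ℤ))
  let S : Scheme.{u} := Spec (CommRingCat.of k)
  let b : S ⟶ T := specULiftZIsTerminal.{u}.from S
  have hX' : specULiftZIsTerminal.{u}.from X = f ≫ b := specULiftZIsTerminal.hom_ext _ _
  rw [hX'] at hΩ'
  haveI : QuasiSeparated (f ≫ b) := inferInstance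
  have hfin : letI := ((b.appTop ≫ (Scheme.ΓSpecIso (CommRingCat.of k)).hom).hom).toAlgebra
      Module.Finite k Ω[k⁄Γ(T, ⊤)] := by
    letI := ((b.appTop ≫ (Scheme.ΓSpecIso (CommRingCat.of k)).hom).hom).toAlgebra
    haveI := H2.Omega.Frob.finite_kaehler_int p hF
    haveI : IsScalarTower ℤ Γ(T, ⊤) k := .of_algebraMap_eq' (RingHom.ext_int _ _)
    exact Module.Finite.of_surjective (KaehlerDifferential.map ℤ Γ(T, ⊤) k k)
      (KaehlerDifferential.map_surjective ℤ Γ(T, ⊤) k)
  haveI : QuasiSeparated b := inferInstance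
  have hΩk : FlatMod.IsFinLocFree (Omega.sheaf b) := by
    haveI : Smooth (𝟙 S) := inferInstance
    haveI : QuasiSeparated (𝟙 S ≫ b) := by rw [Category.id_comp]; infer_instance
    letI : S.Over (Spec (CommRingCat.of k)) := ⟨𝟙 S⟩
    have h := H95.AbsOmega.isFinLocFree (X := S) (𝟙 S) b (isAffineOpen_top _) hfin
    simpa only [Category.id_comp] using h
  -- the pullback of the differentials of the field is free
  obtain ⟨r, ⟨ef⟩⟩ : ∃ r, Nonempty ((Scheme.Modules.pullback f).obj (Omega.sheaf b) ≅ FlatMod.freeMod X r) := by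
    obtain ⟨U, r, hU, ⟨e⟩⟩ := hΩk (default : PrimeSpectrum k)
    obtain rfl : U = ⊤ := top_le_iff.1 fun z _ => by
      rw [show z = (default : PrimeSpectrum k) from Subsingleton.elim (α := PrimeSpectrum k) _ _]
      exact hU
    let g : X ⟶ ((⊤ : S.Opens) : Scheme.{u}) := f ≫ (Scheme.topIso S).inv
    have hg : g ≫ (⊤ : S.Opens).ι = f := by
      show (f ≫ (Scheme.topIso S).inv) ≫ (Scheme.topIso S).hom = f
      rw [Category.assoc, Iso.inv_hom_id, Category.comp_id]
    exact ⟨r, ⟨eqToIso (by rw [hg]) ≪≫ ((Scheme.Modules.pullbackComp g (⊤ : S.Opens).ι).app _).symm ≪≫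
      (Scheme.Modules.pullback g).mapIso (((Scheme.Modules.restrictFunctorIsoPullback (⊤ : S.Opens).ι).app _).symm ≪≫ e) ≪≫
      Lib.TensorMod.LocFree.pullbackFreeModIso g r⟩⟩
  -- the sequence of differentials
  have hY := Lib.Kaehler.DOmega.isUniversal_dOmega b
  have hX := Lib.Kaehler.DOmega.isUniversal_dOmega (f ≫ b)
  have hXY := Lib.Kaehler.DOmega.isUniversal_dOmega f
  obtain ⟨c₁, hc₁, -⟩ := Lib.Kaehler.Basic.existsUnique_diffCompat (h := f) (b := 𝟙 T)
    (hsq := Category.comp_id _) hY (OmegaSh.dOmega (f ≫ b))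
  obtain ⟨c₂, hc₂, -⟩ := Lib.Kaehler.Basic.existsUnique_diffCompat (h := 𝟙 X) (b := b)
    (hsq := (Category.id_comp _).symm) hX (OmegaSh.dOmega f)
  haveI : Mono c₁ := Lib.Kaehler.SmoothMono.mono_diffCompat f rfl
    (Lib.SmoothLift.Formal.isFormallySmoothHom_of_smooth f) hY hX c₁ hc₁
  haveI : Epi (Lib.Kaehler.Seq.bar c₂) := Lib.Kaehler.Seq.epi_bar hY hX hXY hc₁ hc₂
  have hS : (ShortComplex.mk c₁ (Lib.Kaehler.Seq.bar c₂) (Lib.Kaehler.Seq.zero hY hc₁ hc₂)).ShortExact :=
    { exact := Lib.Kaehler.Seq.exact hY hX hXY hc₁ hc₂ }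
  have hMi : PicF.IsInvertible M := by
    obtain ⟨eM⟩ := hM
    exact Lib.TensorMod.TensorInv.isInvertible_of_tensor_iso eM
  have hv := H95.KodairaAbs.van_free k hMi (n := N - 1) r hS ef
    (Lib.Kaehler.LocFree.isFinLocFree_of_smooth hXY)
    (fun a c j hj hac E hE => hkod a E hE j c hj (by omega))
  exact hv q i n hn (by omega) Ω' hΩ'

end Groth.Agent.S19262
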