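import Groth.Statements.S19264
import Groth.Agent.Lib.WittFilLocal
-- import your own Groth.Agent.* helpers here

set_option autoImplicit false
universe u
open WittFil

namespace Groth.Agent.S19264

/-- Let A be a unique factorisation domain of characteristic p, x_1, …, x_r pairwise non-associate prime
elements of A, B = A[1/(x_1⋯x_r)] with u_i the unit of B defined by x_i, n ∈ ℤ^r and m ≥ 0. The
restriction map from truncated p-typical Witt vectors of length m+1 to those of length m over B
(forgetting the last coordinate) maps the filtered piece cut out by ∏ u_i ^ n_i onto the filtered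
piece cut out by ∏ u_i ^ ⌊n_i / p⌋; that is, the image is exactly that piece. (The other parts of
the exact sequence, injectivity of the (m-fold) Verschiebung from the fractional ideal generated by
(∏ u_i ^ n_i)⁻¹ and exactness in the middle, are immediate from the definition and are not restated.
The published setting is a regular local ring; only unique factorisation is used.) -/
theorem result (p : ℕ) [Fact p.Prime] {A B : Type u} [CommRing A] [IsDomain A]
    [UniqueFactorizationMonoid A] [CharP A p] [CommRing B] [Algebra A B] {r : ℕ} (x : Fin r → A)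
    (hx : ∀ i, Prime (x i)) (hxa : ∀ i j, Associated (x i) (x j) → i = j)
    [IsLocalization.Away (∏ i, x i) B] (u : Fin r → Bˣ)
    (hu : ∀ i, (u i : B) = algebraMap A B (x i)) (n : Fin r → ℤ) (m : ℕ) :
    (TruncatedWittVector.truncate (Nat.le_succ m)) '' WittFil.fil p (m + 1) (A := A) (WittFil.zmon u n) =
      WittFil.fil p m (A := A) (WittFil.zmon u (fun i => n i / (p : ℤ))) := by
  have hp := (Fact.out : p.Prime)
  have key : ∀ (z : B) (j : ℕ), j < m → (z ^ p ^ (m + 1 - 1 - j) * WittFil.zmon u n ∈ (algebraMap A B).range ↔
      z ^ p ^ (m - 1 - j) * WittFil.zmon u (fun i => n i / (p : ℤ)) ∈ (algebraMap A B).range) := fun z j hj => by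
    rw [show m + 1 - 1 - j = (m - 1 - j) + 1 by omega, pow_succ, pow_mul]
    exact Groth.Agent.Lib.WittFilLocal.pow_mul_zmon_mem_iff x hx hxa u hu _ n p hp.pos
  apply Set.Subset.antisymm
  · rintro _ ⟨a, ha, rfl⟩ j
    obtain ⟨α, rfl⟩ := WittVector.truncate_surjective p (m + 1) B a
    rw [TruncatedWittVector.truncate_wittVector_truncate, WittVector.coeff_truncate]
    have h := ha ⟨j, Nat.lt_succ_of_lt j.2⟩
    rw [WittVector.coeff_truncate] at h
    exact (key _ _ j.2).1 h
  · intro b hb
    obtain ⟨β, rfl⟩ := WittVector.truncate_surjective p m B b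
    refine ⟨WittVector.truncate (m + 1) (WittVector.mk p fun j => if j < m then β.coeff j else 0), fun j => ?_, ?_⟩
    · rw [WittVector.coeff_truncate, WittVector.coeff_mk]
      split_ifs with hj
      · have h := hb ⟨j, hj⟩
        rw [WittVector.coeff_truncate] at h
        exact (key _ _ hj).2 h
      · rw [zero_pow (pow_pos hp.pos _).ne', zero_mul]
        exact zero_mem _
    · rw [TruncatedWittVector.truncate_wittVector_truncate]
      ext j
      rw [WittVector.coeff_truncate, WittVector.coeff_truncate, WittVector.coeff_mk, if_pos j.2]

end Groth.Agent.S19264
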