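import Groth.Statements.S19267
import Groth.Agent.Lib.WittFilLocal
-- import your own Groth.Agent.* helpers here

set_option autoImplicit false
universe u
open WittFil

namespace Groth.Agent.S19267

/-- Let A → B be a homomorphism of commutative rings, u a unit of B, m ≥ 0 and n, l integers. For an
element c of B call the filtered piece cut out by c the set of truncated p-typical Witt vectors of
length m over B whose j-th coordinate y_j satisfies: y_j ^ (p ^ (m-1-j)) · c lies in the image of A,
for every j < m. Then the piece cut out by u ^ (n − p^(m−1)·l) is exactly the image of the piece cut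
out by u ^ n under multiplication by the truncated Teichmüller representative [u ^ l]. (The
published case is B = S[[π]][1/π] over A = S[[π]] with u = π; the computation is the same in
general.) -/
theorem result (p : ℕ) [Fact p.Prime] {A B : Type u}
    [CommRing A] [CommRing B] [Algebra A B] (m : ℕ) (u : Bˣ) (n l : ℤ) :
    WittFil.fil p m (A := A) ((u ^ (n - (p : ℤ) ^ (m - 1) * l) : Bˣ) : B) =
      (fun a => WittVector.truncate m (WittVector.teichmuller p ((u ^ l : Bˣ) : B)) * a) ''
        WittFil.fil p m (A := A) ((u ^ n : Bˣ) : B) := by
  have hp := (Fact.out : p.Prime)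
  have key : ∀ α : WittVector p B, WittVector.truncate m α ∈ WittFil.fil p m (A := A) ((u ^ n : Bˣ) : B) ↔
      WittVector.truncate m (WittVector.teichmuller p ((u ^ l : Bˣ) : B)) * WittVector.truncate m α ∈
        WittFil.fil p m (A := A) ((u ^ (n - (p : ℤ) ^ (m - 1) * l) : Bˣ) : B) := by
    intro α
    refine forall_congr' fun j => ?_
    rw [← map_mul, WittVector.coeff_truncate, WittVector.coeff_truncate, mul_comm (WittVector.teichmuller p _),
      H83.WittFilLib.coeff_mul_teichmuller, mul_pow, ← pow_mul, ← pow_add, Nat.add_sub_cancel' (by omega),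
      mul_assoc, ← Units.val_pow_eq_pow_val, ← Units.val_mul, ← zpow_natCast, ← zpow_mul, ← zpow_add]
    have e : l * ((p ^ (m - 1) : ℕ) : ℤ) + (n - (p : ℤ) ^ (m - 1) * l) = n := by push_cast; ring
    rw [e]
  ext a
  constructor
  · intro ha
    refine ⟨WittVector.truncate m (WittVector.teichmuller p ((u ^ (-l) : Bˣ) : B)) * a, ?_, ?_⟩
    · obtain ⟨α, rfl⟩ := WittVector.truncate_surjective p m B a
      rw [← map_mul, key, ← map_mul, ← mul_assoc, ← map_mul, ← Units.val_mul, ← zpow_add, add_neg_cancel,
        zpow_zero, Units.val_one, map_one, one_mul]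
      exact ha
    · show _ * (_ * a) = a
      rw [← mul_assoc, ← map_mul, ← map_mul, ← Units.val_mul, ← zpow_add, add_neg_cancel,
        zpow_zero, Units.val_one, map_one, map_one, one_mul]
  · rintro ⟨b, hb, rfl⟩
    obtain ⟨β, rfl⟩ := WittVector.truncate_surjective p m B b
    exact (key β).1 hb

end Groth.Agent.S19267
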