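import Groth.Statements.S19268
import Groth.Agent.Lib.WittFilLocal
-- import your own Groth.Agent.* helpers here

set_option autoImplicit false
universe u
open WittFil

namespace Groth.Agent.S19268

/-- Let S be an integral domain of characteristic p, A = S[[π]] the power series ring, B = A[1/π] with u
the unit of B given by π, and let m > s ≥ 0 and i be an integer with s = 0 or p ∤ i; put n = p ^
(m−1−s) · i. For e in B write fil(e) for the set of truncated p-typical Witt vectors of length m
over B whose j-th coordinate y_j satisfies y_j ^ (p ^ (m−1−j)) · e ∈ A for all j, and for a Witt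
vector c over S let Φ(c) ∈ W_m(B) be the length-m truncation of V^s(c · [u ^ i]) (V the
Verschiebung, [ ] the Teichmüller map, c mapped to B). Then Φ induces a bijection from the
length-(m−s) truncated Witt vectors of S onto the graded piece fil(u^(−n)) / fil(u^(−n−1)): (1) Φ(c)
lies in fil(u^(−n)) for every c; (2) Φ(c) lies in fil(u^(−n−1)) exactly when the length-(m−s)
truncation of c is zero; (3) every element of fil(u^(−n)) is congruent to some Φ(c) modulo
fil(u^(−n−1)). (Published for S a regular local Noetherian F-finite F_p-algebra; the argument uses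
only that S is a domain.) -/
theorem result (p : ℕ) [Fact p.Prime] {S B : Type u} [CommRing S]
    [IsDomain S] [CharP S p] [CommRing B] [Algebra (PowerSeries S) B] [Algebra S B]
    [IsScalarTower S (PowerSeries S) B] [IsLocalization.Away (PowerSeries.X : PowerSeries S) B]
    (u : Bˣ) (hu : (u : B) = algebraMap (PowerSeries S) B PowerSeries.X) (m s : ℕ) (hs : s < m)
    (i : ℤ) (hsi : s = 0 ∨ ¬ ((p : ℤ) ∣ i)) :
    (∀ c : WittVector p S,
        WittFil.vShiftTeich p m s ((u ^ i : Bˣ) : B) c ∈
          WittFil.fil p m (A := PowerSeries S) ((u ^ (-((p : ℤ) ^ (m - 1 - s) * i)) : Bˣ) : B)) ∧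
      (∀ c : WittVector p S,
        WittFil.vShiftTeich p m s ((u ^ i : Bˣ) : B) c ∈
            WittFil.fil p m (A := PowerSeries S) ((u ^ (-((p : ℤ) ^ (m - 1 - s) * i) - 1) : Bˣ) : B) ↔
          WittVector.truncate (m - s) c = 0) ∧
      (∀ y ∈ WittFil.fil p m (A := PowerSeries S) ((u ^ (-((p : ℤ) ^ (m - 1 - s) * i)) : Bˣ) : B),
        ∃ c : WittVector p S,
          y - WittFil.vShiftTeich p m s ((u ^ i : Bˣ) : B) c ∈
            WittFil.fil p m (A := PowerSeries S)
              ((u ^ (-((p : ℤ) ^ (m - 1 - s) * i) - 1) : Bˣ) : B)) := by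
  have hp := (Fact.out : p.Prime)
  set A := PowerSeries S
  have hX : Prime (PowerSeries.X : A) := PowerSeries.X_prime
  have hinj : Function.Injective (algebraMap A B) := IsLocalization.injective B
    (powers_le_nonZeroDivisors_of_noZeroDivisors hX.ne_zero)
  have hSB : ∀ c : S, algebraMap S B c = algebraMap A B (PowerSeries.C c) :=
    fun c => IsScalarTower.algebraMap_apply S A B c
  set N := (p : ℤ) ^ (m - 1 - s) * i with hN
  have hexp : ∀ j, s ≤ j → j < m → ∀ z : B,
      (z * ((u ^ i : Bˣ) : B) ^ p ^ (j - s)) ^ p ^ (m - 1 - j) = z ^ p ^ (m - 1 - j) * ((u ^ N : Bˣ) : B) := by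
    intro j h1 h2 z
    rw [mul_pow, ← pow_mul, ← pow_add, show j - s + (m - 1 - j) = m - 1 - s by omega,
      ← Units.val_pow_eq_pow_val, ← zpow_natCast, ← zpow_mul, hN]
    push_cast
    rw [mul_comm ((p : ℤ) ^ (m - 1 - s))]
  have hPhi : ∀ (c : WittVector p S) (j : Fin m),
      TruncatedWittVector.coeff j (WittFil.vShiftTeich p m s ((u ^ i : Bˣ) : B) c) =
        if (j : ℕ) < s then 0 else algebraMap S B (c.coeff (j - s)) * ((u ^ i : Bˣ) : B) ^ p ^ ((j : ℕ) - s) :=
    fun c j => by rw [WittFil.vShiftTeich, WittVector.coeff_truncate, Groth.Agent.Lib.WittFilLocal.coeff_iterate_verschiebung_teich]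
  refine ⟨fun c j => ?_, fun c => ?_, fun y hy => ?_⟩
  · rw [hPhi]
    split_ifs with h
    · rw [zero_pow (pow_pos hp.pos _).ne', zero_mul]; exact zero_mem _
    · rw [hexp j (Nat.le_of_not_lt h) j.2, mul_assoc, ← Units.val_mul, ← zpow_add, add_neg_cancel,
        zpow_zero, Units.val_one, mul_one, hSB, ← map_pow]
      exact ⟨_, rfl⟩
  · constructor
    · intro h
      ext k
      rw [WittVector.coeff_truncate, TruncatedWittVector.coeff_zero]
      have h' := h ⟨k + s, by have := k.2; omega⟩
      rw [hPhi, if_neg (by simp)] at h'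
      simp only [Nat.add_sub_cancel] at h'
      have h2 := hexp (k + s) (Nat.le_add_left _ _) (by have := k.2; omega) (algebraMap S B (c.coeff k))
      rw [Nat.add_sub_cancel] at h2
      rw [h2, mul_assoc, ← Units.val_mul, ← zpow_add, show N + (-N - 1) = -1 by ring] at h'
      obtain ⟨f, hf⟩ := h'
      have h3 : PowerSeries.X * f = PowerSeries.C (c.coeff k) ^ p ^ (m - 1 - ((k : ℕ) + s)) := hinj (by
        rw [map_mul, hf, ← hu, map_pow, ← hSB, mul_left_comm, ← Units.val_mul, zpow_neg_one, mul_inv_cancel, Units.val_one,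
          mul_one])
      have := congrArg PowerSeries.constantCoeff h3
      simp only [map_mul, PowerSeries.constantCoeff_X, zero_mul, map_pow, PowerSeries.constantCoeff_C] at this
      exact eq_zero_of_pow_eq_zero this.symm
    · intro h j
      rw [hPhi]
      split_ifs with hj
      · rw [zero_pow (pow_pos hp.pos _).ne', zero_mul]; exact zero_mem _
      · have := congrArg (TruncatedWittVector.coeff (⟨(j : ℕ) - s, by omega⟩ : Fin (m - s))) h
        rw [WittVector.coeff_truncate, TruncatedWittVector.coeff_zero] at this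
        rw [this, map_zero, zero_mul, zero_pow (pow_pos hp.pos _).ne', zero_mul]; exact zero_mem _
  · obtain ⟨α, rfl⟩ := WittVector.truncate_surjective p m B y
    have hα : ∀ j, j < m → α.coeff j ^ p ^ (m - 1 - j) * ((u ^ (-N) : Bˣ) : B) ∈ (algebraMap A B).range :=
      fun j hj => by
        have h := hy ⟨j, hj⟩
        rwa [WittVector.coeff_truncate] at h
    have hfk : ∀ k, ∃ f : A, k < m - s → algebraMap A B f * ((u ^ i : Bˣ) : B) ^ p ^ k = α.coeff (k + s) := by
      intro k
      by_cases hk : k < m - s
      · set w := ((u ^ i : Bˣ)⁻¹ : Bˣ) ^ p ^ k with hw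
        have hmem : α.coeff (k + s) * (w : B) ∈ (algebraMap A B).range := by
          have h1 := hα (k + s) (by omega)
          have h2 : (α.coeff (k + s) * (w : B)) ^ p ^ (m - 1 - (k + s)) * ((u ^ (0 : ℤ) : Bˣ) : B) ∈
              (algebraMap A B).range := by
            rw [zpow_zero, Units.val_one, mul_one, mul_pow, ← Units.val_pow_eq_pow_val, hw, ← pow_mul,
              ← pow_add, inv_pow, ← zpow_natCast, ← zpow_mul, ← zpow_neg,
              show -(i * ((p ^ (k + (m - 1 - (k + s))) : ℕ) : ℤ)) = -N by
                rw [hN, show k + (m - 1 - (k + s)) = m - 1 - s by omega]; push_cast; ring]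
            exact h1
          have := (Groth.Agent.Lib.WittFilLocal.pow_mul_zpow_mem_iff PowerSeries.X hX u hu _ _ _ (pow_pos hp.pos _)).1 h2
          rwa [Int.zero_ediv, zpow_zero, Units.val_one, mul_one] at this
        obtain ⟨f, hf⟩ := hmem
        exact ⟨f, fun _ => by rw [hf, mul_assoc, hw, ← Units.val_pow_eq_pow_val, ← Units.val_mul, ← mul_pow,
          inv_mul_cancel, one_pow, Units.val_one, mul_one]⟩
      · exact ⟨0, fun h => absurd h hk⟩
    choose f hf using hfk
    let Z : WittVector p A := WittVector.mk p f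
    let c : WittVector p S := WittVector.map PowerSeries.constantCoeff Z
    let W : WittVector p A := Z - WittVector.map PowerSeries.C c
    let low : WittVector p B := WittVector.mk p fun j => if j < s then α.coeff j else 0
    let T := WittVector.teichmuller p ((u ^ i : Bˣ) : B)
    refine ⟨c, ?_⟩
    have hdis : ∀ (X : WittVector p A) (k : ℕ), low.coeff k = 0 ∨
        ((WittVector.verschiebung)^[s] (WittVector.map (algebraMap A B) X * T)).coeff k = 0 := fun X k => by
      by_cases hk : k < s
      · right; rw [Groth.Agent.Lib.WittFilLocal.coeff_iterate_verschiebung_teich, if_pos hk]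
      · left; simp [low, hk]
    have hy' : WittVector.truncate m α = WittVector.truncate m
        (low + (WittVector.verschiebung)^[s] (WittVector.map (algebraMap A B) Z * T)) := by
      ext j
      rw [WittVector.coeff_truncate, WittVector.coeff_truncate, WittVector.coeff_add_of_disjoint _ _ _ (hdis Z),
        Groth.Agent.Lib.WittFilLocal.coeff_iterate_verschiebung_teich]
      by_cases hj : (j : ℕ) < s
      · simp [low, hj]
      · simp only [low, WittVector.coeff_mk, if_neg hj, zero_add, Z]
        rw [hf _ (by omega), Nat.sub_add_cancel (Nat.le_of_not_lt hj)]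
    have hc' : WittVector.map (algebraMap S B) c = WittVector.map (algebraMap A B) (WittVector.map PowerSeries.C c) := by
      ext k; simp only [WittVector.map_coeff, hSB]
    rw [hy', WittFil.vShiftTeich, ← map_sub, hc', add_sub_assoc, ← iterate_map_sub, ← sub_mul, ← map_sub]
    intro j
    rw [WittVector.coeff_truncate, WittVector.coeff_add_of_disjoint _ _ _ (hdis W), Groth.Agent.Lib.WittFilLocal.coeff_iterate_verschiebung_teich]
    by_cases hj : (j : ℕ) < s
    · simp only [low, WittVector.coeff_mk, if_pos hj, add_zero]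
      refine Groth.Agent.Lib.WittFilLocal.pow_mul_zpow_pred_mem PowerSeries.X hX u hu _ _ _ (pow_pos hp.pos _) (fun hd => ?_) (hα j j.2)
      rcases hsi with rfl | hpi
      · omega
      · apply hpi
        rw [Int.dvd_neg, hN, show m - 1 - (j : ℕ) = m - 1 - s + (s - j) by omega, pow_add, Nat.cast_mul,
          Nat.cast_pow, Nat.cast_pow] at hd
        exact (dvd_pow_self _ (by omega)).trans
          (Int.dvd_of_mul_dvd_mul_left (pow_ne_zero _ (by exact_mod_cast hp.ne_zero)) hd)
    · simp only [low, WittVector.coeff_mk, if_neg hj, zero_add]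
      have hW : PowerSeries.constantCoeff (W.coeff (j - s)) = 0 := by
        have : WittVector.map PowerSeries.constantCoeff W = 0 := by
          rw [map_sub, sub_eq_zero]
          ext k; simp only [c, WittVector.map_coeff]; exact (PowerSeries.constantCoeff_C _).symm
        simpa using congrArg (fun w => WittVector.coeff w (j - s)) this
      obtain ⟨g, hg⟩ := PowerSeries.X_dvd_iff.2 hW
      rw [hexp j (Nat.le_of_not_lt hj) j.2, mul_assoc, ← Units.val_mul, ← zpow_add,
        show N + (-N - 1) = -1 by ring, ← map_pow, hg, mul_pow,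
        show p ^ (m - 1 - (j : ℕ)) = p ^ (m - 1 - (j : ℕ)) - 1 + 1 from
          (Nat.sub_add_cancel (pow_pos hp.pos _)).symm, pow_succ PowerSeries.X, map_mul, map_mul, ← hu]
      refine ⟨PowerSeries.X ^ (p ^ (m - 1 - (j : ℕ)) - 1) * g ^ (p ^ (m - 1 - (j : ℕ)) - 1 + 1), ?_⟩
      rw [map_mul, zpow_neg_one, mul_right_comm (algebraMap A B (PowerSeries.X ^ _)) (u : B), mul_assoc _ (u : B),
        ← Units.val_mul, mul_inv_cancel, Units.val_one, mul_one]

end Groth.Agent.S19268
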