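import Groth.Statements.S19269
import Mathlib.RingTheory.AdicCompletion.AsTensorProduct
import Mathlib.RingTheory.AdicCompletion.Exactness
import Mathlib.RingTheory.AdicCompletion.Noetherian
-- import your own Groth.Agent.* helpers here

set_option autoImplicit false
universe u
open CAlg

namespace Groth.Agent.S19269

open IsLocalRing in
/-- Let R be a Noetherian local ring with maximal ideal 𝔪, M a finitely generated R-module and M^ its
𝔪-adic completion, a module over the 𝔪-adic completion R^ of R. Let N' be an R^-submodule of M^ and
N an R-submodule of M whose image in M^ is contained in N' and is dense in N' for the 𝔪-adic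
topology, in the sense that for every y in N' and every k there is x in N with y ≡ x modulo the
kernel of M^ → M/𝔪^k M. Then N' equals the image of the completion of N under the map induced by the
inclusion N → M (so N' is the completion of N), and N is the set of elements of M whose image in M^
lies in N'. -/
theorem result {R : Type u} [CommRing R]
    [IsNoetherianRing R] [IsLocalRing R] {M : Type u} [AddCommGroup M] [Module R M]
    [Module.Finite R M] (N : Submodule R M)
    (N' : Submodule (AdicCompletion (maximalIdeal R) R) (AdicCompletion (maximalIdeal R) M))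
    (hle : ∀ x ∈ N, AdicCompletion.of (maximalIdeal R) M x ∈ N')
    (hdense : ∀ y ∈ N', ∀ k : ℕ, ∃ x ∈ N,
      AdicCompletion.eval (maximalIdeal R) M k y = Submodule.Quotient.mk x) :
    (N'.restrictScalars R =
        (LinearMap.range (AdicCompletion.map (maximalIdeal R) N.subtype)).restrictScalars R) ∧
      (∀ x : M, x ∈ N ↔ AdicCompletion.of (maximalIdeal R) M x ∈ N') := by
  have hex := AdicCompletion.map_exact (I := maximalIdeal R) N.injective_subtype (LinearMap.exact_subtype_mkQ N) N.mkQ_surjective
  have hzero : ∀ y ∈ N', AdicCompletion.map (maximalIdeal R) N.mkQ y = 0 := fun y hy => by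
    refine AdicCompletion.ext fun k => ?_
    obtain ⟨x, hx, hxy⟩ := hdense y hy k
    rw [AdicCompletion.map_val_apply]
    have hxy' : y.val k = Submodule.Quotient.mk x := hxy
    rw [hxy', LinearMap.reduceModIdeal_apply, show N.mkQ x = 0 from (Submodule.Quotient.mk_eq_zero N).mpr hx]
    rfl
  refine ⟨le_antisymm (fun y hy => (hex y).mp (hzero y hy)) ?_, fun x => ⟨hle x, fun hx => ?_⟩⟩
  · rintro _ ⟨z, rfl⟩
    obtain ⟨t, rfl⟩ := AdicCompletion.ofTensorProduct_surjective_of_finite (maximalIdeal R) N z
    rw [Submodule.restrictScalars_mem]
    induction t using TensorProduct.induction_on with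
    | zero => rw [map_zero, map_zero]; exact zero_mem _
    | tmul r x =>
      rw [AdicCompletion.ofTensorProduct_tmul, map_smul, AdicCompletion.map_of]
      exact N'.smul_mem r (hle _ x.2)
    | add a b ha hb => rw [map_add, map_add]; exact add_mem ha hb
  · have h := hzero _ hx
    rw [AdicCompletion.map_of] at h
    exact (Submodule.Quotient.mk_eq_zero N).mp (AdicCompletion.of_injective (I := maximalIdeal R) (M := M ⧸ N) (h.trans (map_zero _).symm))

end Groth.Agent.S19269
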