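import Groth.Statements.S19270
import Groth.Agent.Lib.PBasis.Separable
import Mathlib.RingTheory.LocalRing.Module
import Mathlib.RingTheory.RegularLocalRing.Defs
import Mathlib.RingTheory.Kaehler.Basic
import Mathlib.RingTheory.TensorProduct.Maps
import Mathlib.Algebra.CharP.Quotient
import Mathlib.Algebra.Field.ULift
import Mathlib.RingTheory.Smooth.Basic
import Mathlib.LinearAlgebra.Basis.VectorSpace

set_option autoImplicit false
universe u
open CAlg

namespace Groth.Agent.S19270

set_option maxHeartbeats 1000000
open scoped TensorProduct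

open IsLocalRing in
/-- Let A be a regular local ring of prime characteristic p, of Krull dimension N, with maximal ideal
generated by x_1, …, x_N, and assume that the module Ω_A of absolute Kähler differentials of A
(differentials relative to ℤ, equivalently relative to the prime field) is a free A-module of finite
rank. Then dx_1, …, dx_N are part of a basis of Ω_A: there exist a basis b of Ω_A and an injection e
of the indices 1, …, N into the index type of b with b (e i) = d(x_i) for all i. (In the published
statement A is a regular local F-finite algebra over the prime field and the freeness and finiteness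
of Ω_A form the first assertion, taken there from the literature; here they are hypotheses.) -/
theorem result (p : ℕ) [Fact p.Prime]
    {A : Type u} [CommRing A] [IsRegularLocalRing A] [CharP A p]
    [Module.Free A (KaehlerDifferential ℤ A)] [Module.Finite A (KaehlerDifferential ℤ A)]
    {N : ℕ} (x : Fin N → A) (hx : Ideal.span (Set.range x) = maximalIdeal A)
    (hN : ringKrullDim A = (N : WithBot ℕ∞)) :
    ∃ (ι : Type u) (b : Module.Basis ι A (KaehlerDifferential ℤ A)) (e : Fin N ↪ ι),
      ∀ i : Fin N, b (e i) = KaehlerDifferential.D ℤ A (x i) := by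
  classical
  let K := ResidueField A
  let m := maximalIdeal A
  haveI : CharP K p := (CharP.charP_iff_prime_eq_zero (Fact.out : p.Prime)).2
    (by rw [← map_natCast (residue A), CharP.cast_eq_zero, map_zero])
  let P := ULift.{u} (ZMod p)
  let gA : P →+* A := (ZMod.castHom (dvd_refl p) A).comp (ULift.ringEquiv : P ≃+* ZMod p).toRingHom
  letI : Algebra P A := gA.toAlgebra
  haveI : CharP P p := charP_of_injective_ringHom
    (f := (ULift.ringEquiv : P ≃+* ZMod p).symm.toRingHom) (RingEquiv.injective _) p
  haveI : Finite P := Finite.of_equiv (ZMod p) Equiv.ulift.symm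
  haveI : PerfectRing P p := PerfectRing.ofFiniteOfIsReduced p P
  haveI : Algebra.FormallySmooth P K := Groth.Agent.Lib.PBasis.Separable.formallySmooth_of_perfect_charP K p P
  let S := A ⧸ m ^ 2
  let q : S →ₐ[P] K := Ideal.Quotient.factorₐ P (show m ^ 2 ≤ maximalIdeal A from Ideal.pow_le_self two_ne_zero)
  have hq : Function.Surjective q := fun z => by
    obtain ⟨r, rfl⟩ := Ideal.Quotient.mk_surjective z
    exact ⟨Ideal.Quotient.mk _ r, rfl⟩
  have hker : RingHom.ker (q : S →+* K) ≤ m.map (Ideal.Quotient.mk (m ^ 2)) := by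
    intro z hz
    obtain ⟨r, rfl⟩ := Ideal.Quotient.mk_surjective z
    exact Ideal.mem_map_of_mem _ (Ideal.Quotient.eq_zero_iff_mem.1 hz)
  have hsq : RingHom.ker (q : S →+* K) ^ 2 = ⊥ := le_bot_iff.1 ((Ideal.pow_right_mono hker 2).trans
    (le_of_eq ((Ideal.map_pow _ m 2).symm.trans (Ideal.map_quotient_self _))))
  let s : K →ₐ[P] S := Algebra.FormallySmooth.liftOfSurjective (AlgHom.id P K) q hq ⟨2, hsq⟩
  have hs : ∀ z, q (s z) = z := Algebra.FormallySmooth.liftOfSurjective_apply _ q hq ⟨2, hsq⟩
  letI : Module K S := Module.compHom S s.toRingHom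
  have hsmul : ∀ (c : K) (z : S), c • z = s c * z := fun c z => rfl
  let res : A →+* K := residue A
  have hres : ∀ a, q (Ideal.Quotient.mk (m ^ 2) a) = res a := fun a => rfl
  let δ : A → S := fun a => Ideal.Quotient.mk (m ^ 2) a - s (res a)
  have hδk : ∀ a, δ a ∈ RingHom.ker (q : S →+* K) := fun a => by
    rw [RingHom.mem_ker]
    show q (_ - _) = 0
    rw [map_sub, hs, hres, sub_self]
  have hsxs : ∀ a, ∀ z ∈ m, s (res a) * Ideal.Quotient.mk (m ^ 2) z = Ideal.Quotient.mk (m ^ 2) (a * z) := by
    intro a z hz
    have h1 : Ideal.Quotient.mk (m ^ 2) z ∈ RingHom.ker (q : S →+* K) := Ideal.Quotient.eq_zero_iff_mem.2 hz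
    have h0 := Ideal.mul_mem_mul (hδk a) h1
    rw [← pow_two, hsq, Ideal.mem_bot] at h0
    simp only [δ, sub_mul, sub_eq_zero] at h0
    rw [map_mul]; exact h0.symm
  have hxm : ∀ i, x i ∈ m := fun i => by
    show x i ∈ maximalIdeal A
    rw [← hx]; exact Ideal.subset_span ⟨i, rfl⟩
  let xb : Fin N → S := fun i => Ideal.Quotient.mk (m ^ 2) (x i)
  have hmin : LinearIndependent K xb := by
    rw [Fintype.linearIndependent_iff]
    intro c hc i
    obtain ⟨a, ha⟩ : ∃ a : Fin N → A, ∀ j, res (a j) = c j :=
      ⟨fun j => (residue_surjective (c j)).choose, fun j => (residue_surjective (c j)).choose_spec⟩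
    have hsum : ∑ j, a j * x j ∈ m ^ 2 := by
      rw [← Ideal.Quotient.eq_zero_iff_mem, map_sum, ← hc]
      exact Finset.sum_congr rfl fun j _ => by rw [hsmul, ← ha j, hsxs _ _ (hxm j)]
    by_contra hne
    have hu : IsUnit (a i) := by
      by_contra hnu
      exact hne (by rw [← ha i]; exact (residue_eq_zero_iff _).2 hnu)
    let T : Finset A := (Finset.univ.erase i).image x
    have hle : m ≤ Ideal.span (T : Set A) := by
      refine Submodule.le_of_le_smul_of_le_jacobson_bot (I := m) (IsNoetherian.noetherian _) ?_ ?_
      · rw [IsLocalRing.jacobson_eq_maximalIdeal ⊥ bot_ne_top]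
      intro z hz
      have hz' : z ∈ Ideal.span (Set.range x) := hx.symm ▸ hz
      refine (Ideal.span_le.2 ?_ : Ideal.span (Set.range x) ≤ Ideal.span (T : Set A) ⊔ m • m) hz'
      rintro _ ⟨j, rfl⟩
      by_cases hj : j = i
      · subst hj
        have e : x j = (hu.unit⁻¹ : Aˣ) * (∑ l, a l * x l) - (hu.unit⁻¹ : Aˣ) * ∑ l ∈ Finset.univ.erase j, a l * x l := by
          rw [← Finset.add_sum_erase _ _ (Finset.mem_univ j), mul_add, add_sub_cancel_right, ← mul_assoc,
            hu.val_inv_mul, one_mul]
        rw [SetLike.mem_coe, e]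
        refine sub_mem (Submodule.mem_sup_right ?_) (Submodule.mem_sup_left (Ideal.mul_mem_left _ _ (sum_mem fun l hl => ?_)))
        · rw [smul_eq_mul, ← pow_two]; exact Ideal.mul_mem_left _ _ hsum
        · exact Ideal.mul_mem_left _ _ (Ideal.subset_span (Finset.mem_image_of_mem _ hl))
      · exact Submodule.mem_sup_left (Ideal.subset_span (Finset.mem_image_of_mem _ (Finset.mem_erase.2 ⟨hj, Finset.mem_univ _⟩)))
    have heq : m = Ideal.span (T : Set A) := le_antisymm hle (Ideal.span_le.2 fun z hz => by
      obtain ⟨j, -, rfl⟩ := Finset.mem_image.1 hz; exact hxm j)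
    have h2 := IsRegularLocalRing.spanFinrank_maximalIdeal (R := A)
    rw [hN] at h2
    have h3 : (maximalIdeal A).spanFinrank ≤ N - 1 := by
      rw [show maximalIdeal A = Ideal.span (T : Set A) from heq]
      refine (Submodule.spanFinrank_span_le_ncard_of_finite T.finite_toSet).trans ?_
      rw [Set.ncard_coe_finset]
      exact Finset.card_image_le.trans (by simp)
    have h4 : (maximalIdeal A).spanFinrank = N := by exact_mod_cast h2
    have := i.isLt
    omega
  obtain ⟨φ, hφ⟩ := LinearMap.exists_leftInverse_of_injective (Fintype.linearCombination K xb)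
    (LinearMap.ker_eq_bot.2 hmin.fintypeLinearCombination_injective)
  have hφx : ∀ i, φ (xb i) = Pi.single i 1 := fun i => by
    have := LinearMap.congr_fun hφ (Pi.single i 1)
    rw [LinearMap.comp_apply, Fintype.linearCombination_apply_single, one_smul] at this
    exact this
  let L : Fin N → A → K := fun i a => φ (δ a) i
  have hLadd : ∀ i a b, L i (a + b) = L i a + L i b := by
    intro i a b
    simp only [L, δ, map_add]
    rw [add_sub_add_comm, map_add, Pi.add_apply]
  have hLmul : ∀ i a b, L i (a * b) = res a * L i b + res b * L i a := by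
    intro i a b
    have h0 := Ideal.mul_mem_mul (hδk a) (hδk b)
    rw [← pow_two, hsq, Ideal.mem_bot] at h0
    have hd : δ (a * b) = res a • δ b + res b • δ a := by
      simp only [hsmul, δ, map_mul] at h0 ⊢
      linear_combination h0
    simp only [L, hd, map_add, map_smul, Pi.add_apply, Pi.smul_apply, smul_eq_mul]
  have hKsmul : ∀ (a : A) (z : K), a • z = res a * z := fun a z => Algebra.smul_def a z
  let D : Fin N → Derivation ℤ A K := fun i => Derivation.mk' (AddMonoidHom.toIntLinearMap (AddMonoidHom.mk' (L i) (hLadd i)))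
    fun a b => by
      show L i (a * b) = a • L i b + b • L i a
      rw [hLmul, hKsmul, hKsmul]
  let Ψ : Fin N → (K ⊗[A] KaehlerDifferential ℤ A →ₗ[K] K) := fun i => LinearMap.liftBaseChange K (D i).liftKaehlerDifferential
  let dx : Fin N → K ⊗[A] KaehlerDifferential ℤ A := fun i => (1 : K) ⊗ₜ[A] KaehlerDifferential.D ℤ A (x i)
  have hΨ : ∀ i j, Ψ i (dx j) = if j = i then 1 else 0 := by
    intro i j
    show LinearMap.liftBaseChange K _ _ = _
    rw [LinearMap.liftBaseChange_tmul, one_smul, Derivation.liftKaehlerDifferential_comp_D]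
    show L i (x j) = _
    have : res (x j) = 0 := (residue_eq_zero_iff _).2 (hxm j)
    simp only [L, δ, this, map_zero, sub_zero]
    rw [show φ (Ideal.Quotient.mk (m ^ 2) (x j)) = Pi.single j 1 from hφx j, Pi.single_apply]
    simp [eq_comm]
  have hli : LinearIndependent K dx := by
    rw [Fintype.linearIndependent_iff]
    intro c hc i
    have := congrArg (Ψ i) hc
    simpa [map_sum, map_smul, hΨ] using this
  let B := Module.Basis.sumExtend hli
  let ι := ULift.{u} (Fin N) ⊕ Module.Basis.sumExtendIndex hli
  have hsurjT : Function.Surjective (TensorProduct.mk A K (KaehlerDifferential ℤ A) 1) :=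
    TensorProduct.mk_surjective A (KaehlerDifferential ℤ A) K residue_surjective
  choose w hw using fun z : Module.Basis.sumExtendIndex hli => hsurjT (z : K ⊗[A] KaehlerDifferential ℤ A)
  let v : ULift.{u} (Fin N) ⊕ Module.Basis.sumExtendIndex hli → KaehlerDifferential ℤ A := Sum.elim (fun i => KaehlerDifferential.D ℤ A (x i.down)) fun z => w z
  let B' : Module.Basis (ULift.{u} (Fin N) ⊕ Module.Basis.sumExtendIndex hli) K (K ⊗[A] KaehlerDifferential ℤ A) :=
    B.reindex (Equiv.sumCongr Equiv.ulift.symm (Equiv.refl _))
  have hv : ∀ i, (1 : K) ⊗ₜ[A] v i = B' i := by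
    rintro (⟨i⟩ | z)
    · simp [v, B', B, Module.Basis.sumExtend, dx]
      rfl
    · simp [v, B', B, Module.Basis.sumExtend]
      exact hw z
  have hindep : LinearIndependent A v := Module.IsLocalRing.linearIndependent_of_flat v (by
    convert B'.linearIndependent using 1
    funext i; exact hv i)
  have hspan : Submodule.span A (Set.range v) = ⊤ := IsLocalRing.span_eq_top_of_tmul_eq_basis v B' hv
  exact ⟨_, Module.Basis.mk hindep hspan.ge, ⟨fun i => Sum.inl ⟨i⟩, fun i j h => by simpa using h⟩,
    fun i => Module.Basis.mk_apply _ _ _⟩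

end Groth.Agent.S19270
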