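import Groth.Statements.S19272
import Groth.Agent.Lib.WittFilLocal
-- import your own Groth.Agent.* helpers here

set_option autoImplicit false
universe u
open WittFil

namespace Groth.Agent.S19272

/-- Let A be a unique factorisation domain of characteristic p, x_1, …, x_r pairwise non-associate prime
elements of A, B = A[1/(x_1⋯x_r)] with u_i the unit of B defined by x_i, m ≥ 0, and n ∈ ℤ^r with n_i
< 0 for every i. Then every truncated p-typical Witt vector of length m over B lying in the filtered
piece cut out by ∏ u_i ^ n_i (every coordinate y_j has y_j ^ (p ^ (m−1−j)) · ∏ u_i ^ n_i in the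
image of A) has all its coordinates in the image of the ideal (x_1⋯x_r)·A. (The published item,
stated for the filtered de Rham–Witt pieces in all degrees over a regular local ring, says only that
such vectors have all coordinates in A; this row states the divisibility of every coordinate by
x_1⋯x_r that its proof establishes, in degree zero, for a unique factorisation domain in place of a
regular local ring.) -/
theorem result (p : ℕ) [Fact p.Prime] {A B : Type u} [CommRing A] [IsDomain A]
    [UniqueFactorizationMonoid A] [CharP A p] [CommRing B] [Algebra A B] {r : ℕ} (x : Fin r → A)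
    (hx : ∀ i, Prime (x i)) (hxa : ∀ i j, Associated (x i) (x j) → i = j)
    [IsLocalization.Away (∏ i, x i) B] (u : Fin r → Bˣ)
    (hu : ∀ i, (u i : B) = algebraMap A B (x i)) (m : ℕ) (n : Fin r → ℤ) (hn : ∀ i, n i < 0)
    (a : TruncatedWittVector p m B) (ha : a ∈ WittFil.fil p m (A := A) (WittFil.zmon u n))
    (j : Fin m) :
    ∃ b : A, TruncatedWittVector.coeff j a = algebraMap A B ((∏ i, x i) * b) := by
  have hp := (Fact.out : p.Prime)
  obtain ⟨a', ha'⟩ := ha j
  set y := TruncatedWittVector.coeff j a
  set q := p ^ (m - 1 - (j : ℕ))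
  have hy : y ^ q = algebraMap A B (a' * ∏ i, x i ^ (-n i).toNat) := by
    rw [map_mul, ha', ← Groth.Agent.Lib.WittFilLocal.zmon_natCast x u hu, mul_assoc, ← Groth.Agent.Lib.WittFilLocal.zmon_add]
    rw [show (n + fun i => (((-n i).toNat : ℕ) : ℤ)) = 0 from funext fun i => by
      simp only [Pi.add_apply, Pi.zero_apply]; have := hn i; omega]
    simp [WittFil.zmon]
  obtain ⟨b, hb⟩ := Groth.Agent.Lib.WittFilLocal.mem_range_of_pow_mul x hx hxa y q (pow_pos hp.pos _) (fun _ => 0)
    (fun _ => pow_pos hp.pos _) (by simp only [pow_zero, Finset.prod_const_one, map_one, mul_one, hy]; exact ⟨_, rfl⟩)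
  have hinj : Function.Injective (algebraMap A B) := IsLocalization.injective B (M := Submonoid.powers (∏ i, x i))
    (powers_le_nonZeroDivisors_of_noZeroDivisors (Finset.prod_ne_zero_iff.2 fun i _ => (hx i).ne_zero))
  rw [← hb, ← map_pow] at hy
  obtain ⟨c, hc⟩ := Groth.Agent.Lib.WittFilLocal.prod_dvd x hx hxa b fun i => (hx i).dvd_of_dvd_pow (n := q) ((hinj hy).symm ▸
    (dvd_mul_of_dvd_right ((dvd_pow_self (x i) (by have := hn i; omega)).trans
      (Finset.dvd_prod_of_mem (fun k => x k ^ (-n k).toNat) (Finset.mem_univ i))) a'))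
  exact ⟨c, by show y = _; rw [← hc, hb]⟩

end Groth.Agent.S19272
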