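import Groth.Statements.S19273
import Mathlib.RingTheory.Etale.Kaehler
import Mathlib.RingTheory.Localization.Module

set_option autoImplicit false
universe u
open CAlg

namespace Groth.Agent.S19273

open KaehlerDifferential in
/-- Let A be an integral domain of prime characteristic p, x_1, …, x_N elements of A, r ≤ N, B =
A[1/(x_1⋯x_r)] with u_i the unit of B defined by x_i for i ≤ r, and suppose that the module Ω_A of
absolute Kähler differentials of A is free with a basis b indexed by {1, …, N} ⊔ ι whose i-th vector
is d(x_i) for i ≤ N. Then the module of logarithmic 1-forms — the A-submodule of Ω_B spanned by the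
image of Ω_A and the forms u_i⁻¹ · d(x_i), i ≤ r — is a free A-module: it has a basis indexed by {1,
…, N} ⊔ ι whose vector at i ≤ r is u_i⁻¹ · d(x_i), at r < i ≤ N is d(x_i), and at k ∈ ι is the image
of b_k. (In the published statement A is a regular local F-finite algebra over the prime field with
maximal ideal (x_1, …, x_N), the basis of Ω_A comes from the preceding lemma, and the assertion
covers the logarithmic q-forms for all q together with their identification with the log de Rham
complex of the log ring; only the degree-one freeness is stated here, from the properties of A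
actually used.) -/
theorem result (p : ℕ) [Fact p.Prime]
    {A B : Type u} [CommRing A] [IsDomain A] [CharP A p] [CommRing B] [Algebra A B] {r N : ℕ}
    (hr : r ≤ N) (x : Fin N → A) [IsLocalization.Away (∏ i : Fin r, x (Fin.castLE hr i)) B]
    (u : Fin r → Bˣ) (hu : ∀ i, (u i : B) = algebraMap A B (x (Fin.castLE hr i)))
    {ι : Type u} (b : Module.Basis (Fin N ⊕ ι) A (Ω[A⁄ℤ])) (hb : ∀ i, b (Sum.inl i) = D ℤ A (x i)) :
    ∃ e : Module.Basis (Fin N ⊕ ι) A
        (W4c6katofilta.logForms1 (fun i : Fin r => x (Fin.castLE hr i)) u),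
      (∀ i : Fin r, (e (Sum.inl (Fin.castLE hr i)) : Ω[B⁄ℤ]) =
          ((u i)⁻¹ : Bˣ) • KaehlerDifferential.map ℤ ℤ A B (D ℤ A (x (Fin.castLE hr i)))) ∧
      (∀ i : Fin N, r ≤ (i : ℕ) →
          (e (Sum.inl i) : Ω[B⁄ℤ]) = KaehlerDifferential.map ℤ ℤ A B (D ℤ A (x i))) ∧
      (∀ k : ι, (e (Sum.inr k) : Ω[B⁄ℤ]) = KaehlerDifferential.map ℤ ℤ A B (b (Sum.inr k))) := by
  classical
  let M : Submonoid A := Submonoid.powers (∏ i : Fin r, x (Fin.castLE hr i))
  let f := KaehlerDifferential.map ℤ ℤ A B
  let b' : Module.Basis (Fin N ⊕ ι) B (Ω[B⁄ℤ]) := b.ofIsLocalizedModule B M f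
  have hb' : ∀ k, b' k = f (b k) := fun k => b.ofIsLocalizedModule_apply B M f k
  have hx : ∀ i, x i ≠ 0 := fun i h => b.ne_zero (Sum.inl i) (by rw [hb, h, map_zero])
  have hMle : M ≤ nonZeroDivisors A :=
    Submonoid.powers_le.2 (mem_nonZeroDivisors_of_ne_zero (Finset.prod_ne_zero_iff.2 fun i _ => hx _))
  have hinj : Function.Injective (algebraMap A B) := IsLocalization.injective B hMle
  let w : Fin N ⊕ ι → Bˣ := Sum.elim (fun i => if h : (i : ℕ) < r then (u ⟨i, h⟩)⁻¹ else 1) fun _ => 1
  let bw : Module.Basis (Fin N ⊕ ι) B (Ω[B⁄ℤ]) := b'.unitsSMul w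
  have hbw : ∀ k, bw k = w k • f (b k) := fun k => by rw [Module.Basis.unitsSMul_apply, hb']
  have hli : LinearIndependent A bw :=
    bw.linearIndependent.restrict_scalars (by
      intro a a' h; apply hinj; simpa [Algebra.smul_def] using h)
  have hlog : Submodule.span A (Set.range bw) =
      W4c6katofilta.logForms1 (fun i : Fin r => x (Fin.castLE hr i)) u := by
    apply le_antisymm
    · refine Submodule.span_le.2 ?_
      rintro _ ⟨(i | k), rfl⟩
      · rw [hbw]
        by_cases h : (i : ℕ) < r
        · refine Submodule.subset_span (Or.inr ⟨⟨i, h⟩, ?_⟩)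
          simp [w, h, hb, f]
        · refine Submodule.subset_span (Or.inl ⟨b (Sum.inl i), ?_⟩)
          simp [w, h, f]
      · rw [hbw]
        exact Submodule.subset_span (Or.inl ⟨b (Sum.inr k), by simp [w, f]⟩)
    · have hfb : ∀ k, f (b k) ∈ Submodule.span A (Set.range bw) := by
        rintro (i | k)
        · by_cases h : (i : ℕ) < r
          · have e : f (b (Sum.inl i)) = x i • bw (Sum.inl i) := by
              rw [hbw, ← algebraMap_smul B (x i)]
              have hw : w (Sum.inl i) = (u ⟨i, h⟩)⁻¹ := by simp [w, h]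
              rw [hw, show algebraMap A B (x i) = (u ⟨i, h⟩ : B) from (hu ⟨i, h⟩).symm,
                Units.smul_def, smul_smul, Units.mul_inv, one_smul]
            rw [e]
            exact Submodule.smul_mem _ _ (Submodule.subset_span ⟨_, rfl⟩)
          · exact Submodule.subset_span ⟨Sum.inl i, by rw [hbw]; simp [w, h]⟩
        · exact Submodule.subset_span ⟨Sum.inr k, by rw [hbw]; simp [w]⟩
      refine Submodule.span_le.2 ?_
      rintro _ (⟨ω, rfl⟩ | ⟨i, rfl⟩)
      · have hω : ω ∈ Submodule.span A (Set.range b) := by rw [b.span_eq]; trivial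
        induction hω using Submodule.span_induction with
        | mem y hy => obtain ⟨k, rfl⟩ := hy; exact hfb k
        | zero => rw [map_zero]; exact zero_mem _
        | add y z _ _ hy hz => rw [map_add]; exact add_mem hy hz
        | smul a y _ hy => rw [map_smul]; exact Submodule.smul_mem _ _ hy
      · refine Submodule.subset_span ⟨Sum.inl (Fin.castLE hr i), ?_⟩
        rw [hbw]
        simp [w, hb, f]
  let e := (Module.Basis.span hli).map (LinearEquiv.ofEq _ _ hlog)
  have he : ∀ k, (e k : Ω[B⁄ℤ]) = w k • f (b k) := fun k => by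
    rw [← hbw]
    simp [e, Module.Basis.span_apply]
  refine ⟨e, fun i => ?_, fun i hi => ?_, fun k => ?_⟩
  · rw [he, hb]; simp [w, f]
  · rw [he, hb]; simp [w, f, not_lt.2 hi]
  · rw [he]; simp [w, f]

end Groth.Agent.S19273
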