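import Groth.Statements.S19274
import Groth.Agent.Lib.WittFilLocal
-- import your own Groth.Agent.* helpers here

set_option autoImplicit false
universe u
open WittFil

namespace Groth.Agent.S19274

/-- Let A be a unique factorisation domain of characteristic p, x a prime element of A, B = A[1/x] with
u the unit of B defined by x, m ≥ 1, and n an integer NOT divisible by p^m. For e in B and k ≥ 0
write fil_k(e) for the set of truncated p-typical Witt vectors of length k over B whose j-th
coordinate y_j satisfies y_j ^ (p ^ (k−1−j)) · e ∈ A for all j < k (the filtered piece; fil_k(u^n)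
is the piece of index n). Then fil_{m+1}(u^n) is contained in fil_{m+1}(u^(n−1)) + V(fil_m(u^n))
(the reverse inclusion is immediate): every a in fil_{m+1}(u^n) can be written a = b + V(y) with b
in fil_{m+1}(u^(n−1)) and y a Witt vector over B whose length-m truncation lies in fil_m(u^n), V(y)
being truncated to length m+1. (In the source A is a henselian discrete valuation ring, n = p^r·l >
1 with p not dividing l, and the condition reads m ≥ r + 1.) -/
theorem result (p : ℕ) [Fact p.Prime]
    {A B : Type u} [CommRing A] [IsDomain A] [UniqueFactorizationMonoid A] [CharP A p]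
    [CommRing B] [Algebra A B] (x : A) (hx : Prime x) [IsLocalization.Away x B] (u : Bˣ)
    (hu : (u : B) = algebraMap A B x) (m : ℕ) (hm : 0 < m) (n : ℤ) (hn : ¬ ((p : ℤ) ^ m ∣ n)) :
    ∀ a ∈ WittFil.fil p (m + 1) (A := A) ((u ^ n : Bˣ) : B),
      ∃ b ∈ WittFil.fil p (m + 1) (A := A) ((u ^ (n - 1) : Bˣ) : B),
        ∃ y : WittVector p B,
          WittVector.truncate m y ∈ WittFil.fil p m (A := A) ((u ^ n : Bˣ) : B) ∧
            a = b + WittVector.truncate (m + 1) (WittVector.verschiebung y) := by
  have hp := (Fact.out : p.Prime)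
  intro a ha
  obtain ⟨α, rfl⟩ := WittVector.truncate_surjective p (m + 1) B a
  have h0 := ha ⟨0, Nat.succ_pos m⟩
  rw [WittVector.coeff_truncate] at h0
  simp only [Nat.add_sub_cancel, Nat.sub_zero] at h0
  have hq : ((p ^ m : ℕ) : ℤ) = (p : ℤ) ^ m := by push_cast; rfl
  have h1 : α.coeff 0 ^ p ^ m * ((u ^ (n - 1) : Bˣ) : B) ∈ (algebraMap A B).range :=
    Groth.Agent.Lib.WittFilLocal.pow_mul_zpow_pred_mem x hx u hu _ _ _ (pow_pos hp.pos _) (by rwa [hq]) h0
  refine ⟨WittVector.truncate (m + 1) (WittVector.teichmuller p (α.coeff 0)), fun j => ?_,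
    WittVector.mk p (fun j => α.coeff (j + 1)), fun j => ?_, ?_⟩
  · rw [WittVector.coeff_truncate]
    obtain ⟨j, hj⟩ := j
    cases j with
    | zero => rw [WittVector.teichmuller_coeff_zero]; simpa using h1
    | succ j =>
      rw [WittVector.teichmuller_coeff_pos p _ _ j.succ_pos, zero_pow (pow_pos hp.pos _).ne', zero_mul]
      exact zero_mem _
  · have h := ha ⟨j + 1, Nat.succ_lt_succ j.2⟩
    rw [WittVector.coeff_truncate] at h ⊢
    rw [WittVector.coeff_mk]
    simp only at h
    rwa [show m + 1 - 1 - ((j : ℕ) + 1) = m - 1 - j by omega] at h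
  · rw [← map_add]
    congr 1
    ext j
    rw [WittVector.coeff_add_of_disjoint]
    · cases j with
      | zero => rw [WittVector.teichmuller_coeff_zero, WittVector.verschiebung_coeff_zero, add_zero]
      | succ j => rw [WittVector.teichmuller_coeff_pos p _ _ j.succ_pos, WittVector.verschiebung_coeff_succ,
          WittVector.coeff_mk, zero_add]
    · intro k
      cases k with
      | zero => exact Or.inr (WittVector.verschiebung_coeff_zero _)
      | succ k => exact Or.inl (WittVector.teichmuller_coeff_pos p _ _ k.succ_pos)

end Groth.Agent.S19274
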