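import Groth.Statements.S19275
import Groth.Agent.H66.HochBC
import Mathlib.RingTheory.Flat.Basic
import Mathlib.LinearAlgebra.Basis.VectorSpace
import Mathlib.RingTheory.Flat.Stability
-- import your own Groth.Agent.* helpers here

set_option autoImplicit false
universe u v w
open Hoch

namespace Groth.Agent.S19275

open TensorProduct in
/-- In the case of an affine group scheme over a field (a K-groupoid acting on Spec K itself),
cohomology commutes with arbitrary base change. Precisely: let K be a field, A a commutative Hopf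
algebra over K (the coordinate ring of an affine K-group scheme G), V a right A-comodule (a linear
representation of G) and R any commutative K-algebra. Give R ⊗ V the base-changed comodule structure
over the R-bialgebra R ⊗ A, whose coaction sends r ⊗ v to the image of r ⊗ ρ(v) under the canonical
identification of R ⊗ (V ⊗ A) with (R ⊗ V) ⊗_R (R ⊗ A), and let φ_n : R ⊗ C^n(A, V) → C^n(R ⊗ A, R ⊗
V) be the canonical R-linear maps between the Hochschild cochain modules, determined by φ_0 = id and
φ_{n+1}(r ⊗ (c ⊗ a)) = φ_n(r ⊗ c) ⊗ (1 ⊗ a). Then every φ_n is bijective, the φ_n commute with the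
Hochschild differentials, and for every n there is an R-linear isomorphism R ⊗ H^n(A, V) ≅ H^n(R ⊗
A, R ⊗ V) sending r ⊗ [z] to [φ_n(r ⊗ z)] for every n-cocycle z. (The published statement is for an
affine K-groupoid acting on the spectrum of a finite extension L of K and its coherent
representations, with K of characteristic 0; this is its case L = K, in which the cochain complex of
a representation is the Hochschild complex of the comodule; V is not assumed finite-dimensional and
K may be any field.) -/
theorem result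
    (K : Type u) [Field K] (A : Type v) [CommRing A] [HopfAlgebra K A]
    (V : Type v) [AddCommGroup V] [Module K V] [HopfRep.Comod K A V]
    (R : Type w) [CommRing R] [Algebra K R]
    (φ : ∀ n : ℕ, R ⊗[K] (Hoch.cochain K A V n) →ₗ[R] (Hoch.cochain R (R ⊗[K] A) (R ⊗[K] V) n))
    (hφ0 : ∀ x : R ⊗[K] V, φ 0 x = x)
    (hφs : ∀ (n : ℕ) (r : R) (c : Hoch.cochain K A V n) (a : A),
      φ (n + 1) (r ⊗ₜ[K] (c ⊗ₜ[K] a)) = (φ n (r ⊗ₜ[K] c)) ⊗ₜ[R] ((1 : R) ⊗ₜ[K] a)) :
    letI := CoactBr.Comod.baseChange K R A V
    (∀ n : ℕ, Function.Bijective (φ n)) ∧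
    (∀ (n : ℕ) (x : R ⊗[K] (Hoch.cochain K A V n)),
        φ (n + 1) ((Hoch.d K A V n).baseChange R x) = Hoch.d R (R ⊗[K] A) (R ⊗[K] V) n (φ n x)) ∧
      ∀ n : ℕ, ∃ e : R ⊗[K] Hoch.H K A V n ≃ₗ[R] Hoch.H R (R ⊗[K] A) (R ⊗[K] V) n,
        ∀ (r : R) (z : Hoch.cocycles K A V n)
          (hz : φ n (r ⊗ₜ[K] (z : Hoch.cochain K A V n)) ∈ Hoch.cocycles R (R ⊗[K] A) (R ⊗[K] V) n),
          e (r ⊗ₜ[K] Hoch.H.mk K A V n z) = Hoch.H.mk R (R ⊗[K] A) (R ⊗[K] V) n ⟨φ n (r ⊗ₜ[K] (z : Hoch.cochain K A V n)), hz⟩ := by
  letI := CoactBr.Comod.baseChange K R A V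
  have hbij : ∀ n, Function.Bijective (φ n) := by
    intro n
    induction n with
    | zero =>
      have h : ∀ x, φ 0 x = id x := hφ0
      exact (funext h : (φ 0 : _ → _) = id) ▸ Function.bijective_id
    | succ n ih =>
      let e := (TensorProduct.AlgebraTensorModule.distribBaseChange K R (Hoch.cochain K A V n) A).trans
        (TensorProduct.congr (LinearEquiv.ofBijective (φ n) ih) (LinearEquiv.refl R (R ⊗[K] A)))
      have h : φ (n + 1) = e.toLinearMap := by
        refine LinearMap.ext fun t => ?_
        induction t using TensorProduct.induction_on with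
        | zero => simp
        | add x y hx hy => simp only [map_add, hx, hy]
        | tmul r p =>
          induction p using TensorProduct.induction_on with
          | zero => simp
          | add x y hx hy => simp only [TensorProduct.tmul_add, map_add, hx, hy]
          | tmul c a =>
            rw [hφs]
            rfl
      rw [h]
      exact e.bijective
  have hcomm : ∀ (n : ℕ) (x : R ⊗[K] (Hoch.cochain K A V n)),
      φ (n + 1) ((Hoch.d K A V n).baseChange R x) = Hoch.d R (R ⊗[K] A) (R ⊗[K] V) n (φ n x) := by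
    intro n
    induction n with
    | zero =>
      intro x
      induction x using TensorProduct.induction_on with
      | zero => simp
      | add a b ha hb => simp only [map_add, ha, hb]
      | tmul r v =>
        have hz : ∀ z : V ⊗[K] A, φ (0 + 1) (r ⊗ₜ[K] z) =
            TensorProduct.AlgebraTensorModule.distribBaseChange K R V A (r ⊗ₜ[K] z) := by
          intro z
          induction z using TensorProduct.induction_on with
          | zero => simp
          | add a b ha hb => simp only [TensorProduct.tmul_add, map_add, ha, hb]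
          | tmul b a => exact (hφs 0 r b a).trans (congrArg (· ⊗ₜ[R] _) (hφ0 _))
        rw [LinearMap.baseChange_tmul]
        refine (hz _).trans ?_
        rw [hφ0]
        erw [Hoch.d_zero_apply, Hoch.d_zero_apply]
        rw [TensorProduct.tmul_sub, map_sub]
        congr 1
        exact (H66.Tame.baseChange_coact (R := K) (S := R) (A := A) (B := V) (r ⊗ₜ[K] v)).symm
    | succ n ih =>
      intro x
      induction x using TensorProduct.induction_on with
      | zero => simp
      | add a b ha hb => simp only [map_add, ha, hb]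
      | tmul r z =>
        rw [LinearMap.baseChange_tmul, Hoch.d_succ, Hoch.d_succ, LinearMap.add_apply,
          LinearMap.add_apply, LinearMap.smul_apply, LinearMap.smul_apply, TensorProduct.tmul_add,
          map_add, TensorProduct.tmul_smul]
        congr 1
        · induction z using TensorProduct.induction_on with
          | zero => simp
          | add a b ha hb => simp only [map_add, TensorProduct.tmul_add, ha, hb]
          | tmul c a =>
            rw [hφs, LinearMap.rTensor_tmul, LinearMap.rTensor_tmul, hφs, ← ih,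
              LinearMap.baseChange_tmul]
        · rw [← algebraMap_smul R ((-1 : K) ^ (n + 1)), map_smul, map_pow, map_neg, map_one]
          congr 1
          exact H66.HochBC.tail_natural (φ n) (φ (n + 1)) (φ (n + 2)) (hφs n) (hφs (n + 1)) r z
  refine ⟨hbij, hcomm, fun n => ?_⟩
  let Z := Hoch.cocycles K A V n
  let Z' := Hoch.cocycles R (R ⊗[K] A) (R ⊗[K] V) n
  let q := Hoch.H.mk K A V n
  let q' := Hoch.H.mk R (R ⊗[K] A) (R ⊗[K] V) n
  have hι : Function.Injective (Z.subtype.baseChange R) :=
    Module.Flat.lTensor_preserves_injective_linearMap (M := R) Z.subtype Z.injective_subtype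
  have hex : Function.Exact (Z.subtype.baseChange R) ((Hoch.d K A V n).baseChange R) :=
    Module.Flat.lTensor_exact R (LinearMap.exact_subtype_ker_map (Hoch.d K A V n))
  have hmem : ∀ y : R ⊗[K] Z, (φ n ∘ₗ Z.subtype.baseChange R) y ∈ Z' := by
    intro y
    show Hoch.d R (R ⊗[K] A) (R ⊗[K] V) n (φ n (Z.subtype.baseChange R y)) = 0
    rw [← hcomm, hex.apply_apply_eq_zero, map_zero]
  let ψ : R ⊗[K] Z →ₗ[R] Z' := (φ n ∘ₗ Z.subtype.baseChange R).codRestrict Z' hmem
  letI : Module K (Hoch.H R (R ⊗[K] A) (R ⊗[K] V) n) := Module.compHom _ (algebraMap K R)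
  haveI : IsScalarTower K R (Hoch.H R (R ⊗[K] A) (R ⊗[K] V) n) :=
    IsScalarTower.of_algebraMap_smul fun _ _ => rfl
  let Ψ : Z →ₗ[K] Hoch.H R (R ⊗[K] A) (R ⊗[K] V) n :=
    ((q' ∘ₗ ψ).restrictScalars K) ∘ₗ (TensorProduct.mk K R Z 1)
  have hΨ : (Hoch.coboundaries K A V n).comap Z.subtype ≤ LinearMap.ker Ψ := by
    intro z hz
    show q' (ψ ((1 : R) ⊗ₜ[K] z)) = 0
    apply (Submodule.Quotient.mk_eq_zero _).2
    show φ n ((1 : R) ⊗ₜ[K] (z : Hoch.cochain K A V n)) ∈ Hoch.coboundaries R (R ⊗[K] A) (R ⊗[K] V) n
    cases n with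
    | zero =>
      have h0 : (z : Hoch.cochain K A V 0) = 0 := hz
      rw [h0, TensorProduct.tmul_zero, map_zero]
      exact zero_mem _
    | succ m =>
      obtain ⟨b, hb⟩ := hz
      refine ⟨φ m ((1 : R) ⊗ₜ[K] b), ?_⟩
      rw [← hcomm, LinearMap.baseChange_tmul, hb]
      rfl
  let F : R ⊗[K] Hoch.H K A V n →ₗ[R] Hoch.H R (R ⊗[K] A) (R ⊗[K] V) n :=
    (Submodule.liftQ _ Ψ hΨ).liftBaseChange R
  have hF : ∀ y : R ⊗[K] Z, F (q.baseChange R y) = q' (ψ y) := by
    intro y
    induction y using TensorProduct.induction_on with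
    | zero => simp
    | add a b ha hb => simp only [map_add, ha, hb]
    | tmul r z =>
      show r • q' (ψ ((1 : R) ⊗ₜ[K] z)) = _
      rw [← map_smul, ← map_smul, TensorProduct.smul_tmul', smul_eq_mul, mul_one]
  have hqsurj : Function.Surjective (q.baseChange R) :=
    LinearMap.lTensor_surjective R (Submodule.mkQ_surjective _)
  have hsurj : Function.Surjective F := by
    intro t
    obtain ⟨⟨c', hc'⟩, rfl⟩ := Submodule.mkQ_surjective _ t
    obtain ⟨x, rfl⟩ := (hbij n).2 c'
    have hx : (Hoch.d K A V n).baseChange R x = 0 := (hbij (n + 1)).1 (by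
      rw [hcomm, map_zero]; exact hc')
    obtain ⟨y, rfl⟩ := (hex x).1 hx
    exact ⟨q.baseChange R y, hF y⟩
  have hinj : Function.Injective F := by
    rw [injective_iff_map_eq_zero]
    intro x hx
    obtain ⟨y, rfl⟩ := hqsurj x
    rw [hF] at hx
    have hb : φ n (Z.subtype.baseChange R y) ∈ Hoch.coboundaries R (R ⊗[K] A) (R ⊗[K] V) n :=
      (Submodule.Quotient.mk_eq_zero
        ((Hoch.coboundaries R (R ⊗[K] A) (R ⊗[K] V) n).comap Z'.subtype)).1 hx
    cases n with
    | zero =>
      have h0 : φ 0 (Z.subtype.baseChange R y) = 0 := hb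
      have h1 : Z.subtype.baseChange R y = 0 := (hbij 0).1 (h0.trans (map_zero _).symm)
      have h2 : y = 0 := hι (h1.trans (map_zero _).symm)
      rw [h2, map_zero]
    | succ m =>
      obtain ⟨b', hb'⟩ := hb
      obtain ⟨b, rfl⟩ := (hbij m).2 b'
      rw [← hcomm] at hb'
      have hy := (hbij (m + 1)).1 hb'
      let dd := Hoch.d K A V (m + 1) ∘ₗ Hoch.d K A V m
      have hdd : dd.baseChange R b = 0 := by
        rw [LinearMap.baseChange_comp, LinearMap.comp_apply, hy, hex.apply_apply_eq_zero]
      obtain ⟨u, hu⟩ :=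
        ((Module.Flat.lTensor_exact R (LinearMap.exact_subtype_ker_map dd)) b).1 hdd
      let dc : LinearMap.ker dd →ₗ[K] Z :=
        (Hoch.d K A V m ∘ₗ (LinearMap.ker dd).subtype).codRestrict Z (fun p => p.2)
      have h3 : dc.baseChange R u = y := by
        apply hι
        rw [← hy, ← hu, ← LinearMap.comp_apply, ← LinearMap.baseChange_comp]
        show ((Hoch.d K A V m) ∘ₗ (LinearMap.ker dd).subtype).baseChange R u = _
        rw [LinearMap.baseChange_comp]
        rfl
      have h4 : q ∘ₗ dc = 0 := LinearMap.ext fun p =>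
        (Submodule.Quotient.mk_eq_zero _).2 ⟨(p : Hoch.cochain K A V m), rfl⟩
      rw [← h3, ← LinearMap.comp_apply, ← LinearMap.baseChange_comp, h4, LinearMap.baseChange_zero,
        LinearMap.zero_apply]
  refine ⟨LinearEquiv.ofBijective F ⟨hinj, hsurj⟩, fun r z hz => ?_⟩
  show F (q.baseChange R (r ⊗ₜ[K] z)) = _
  rw [hF]
  rfl

end Groth.Agent.S19275
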