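import Groth.Statements.S19276

import Groth.Agent.Lib.GrpAlgCyc

set_option autoImplicit false
universe u v
open GrpAlg

namespace Groth.Agent.S19276

open Groth.Agent.Lib.GrpAlgCyc in
theorem quotMap_bot_injective (Λ : Type u) [CommRing Λ] (A : Type v) [AddCommGroup A] :
    Function.Injective (W4c6equivkfinstab.quotMap Λ A ⊥) :=
  AddMonoidAlgebra.mapDomain_injective fun a b h ↦ by
    have := (QuotientAddGroup.eq).1 h
    rwa [AddSubgroup.mem_bot, neg_add_eq_zero] at this

/-- Let `A` be a finite commutative group and `Λ` a commutative ring in which the order of `A` is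
invertible. Then the ring homomorphism from the group ring `Λ[A]` to the product, over the subgroups
`B` of `A` with cyclic quotient, of the cyclotomic quotients `Λ[A ⧸ B]/(Φ_{|A/B|})`, each component
induced by `A → A/B`, is bijective. (In terms of group schemes: `Λ[A]` is the representation ring
with coefficients in `Λ` of the finite diagonalizable group with character group `A`, the factors
are indexed by its dual cyclic subgroups, i.e. those isomorphic to some `μ_n`, and the components
are restriction followed by the cyclotomic quotient. The published statement takes `Λ = ℤ[1/|A|]`;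
here `Λ` is any commutative ring in which `|A|` is invertible.) -/
theorem result (Λ : Type u) [CommRing Λ] (A : Type v)
    [AddCommGroup A] [Finite A] (hA : IsUnit ((Nat.card A : ℕ) : Λ)) :
    Function.Bijective (RingHom.pi fun B : {B : AddSubgroup A // IsAddCyclic (A ⧸ B)} =>
      W4c6equivkfinstab.cycQuotMap Λ A B.1) := by
  open Groth.Agent.Lib.GrpAlgCyc in
  have hu : IsUnit (((⊥ : AddSubgroup A).index : ℕ) : Λ) := by rwa [AddSubgroup.index_bot]
  have : Finite (AddSubgroup A) := inferInstance
  refine ⟨(injective_iff_map_eq_zero _).2 fun x hx ↦ ?_, fun f ↦ ?_⟩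
  · refine quotMap_bot_injective Λ A ?_
    rw [map_zero]
    exact Lib.GrpAlgCyc.mem_J₀_of_forall_mem_J (B₀ := ⊥) hu
      fun B _ hB ↦ congrFun hx ⟨B, hB⟩
  · choose x hx using fun B : {B : AddSubgroup A // IsAddCyclic (A ⧸ B)} ↦
      Lib.GrpAlgCyc.cycQuotMap_surjective (Λ := Λ) B.1 (f B)
    have hcop : Pairwise (Function.onFun IsCoprime
        fun B : {B : AddSubgroup A // IsAddCyclic (A ⧸ B)} ↦ Lib.GrpAlgCyc.J Λ B.1) :=
      fun B C hne ↦ Lib.GrpAlgCyc.pairwise_isCoprime_J (B₀ := ⊥) hu
        (i := ⟨B.1, bot_le, B.2⟩) (j := ⟨C.1, bot_le, C.2⟩)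
        (fun h ↦ hne (Subtype.ext (congrArg (·.1) h)))
    obtain ⟨r, hr⟩ := Ideal.exists_forall_sub_mem_ideal hcop x
    refine ⟨r, funext fun B ↦ ?_⟩
    have := RingHom.mem_ker.1 (hr B)
    rw [map_sub, sub_eq_zero] at this
    exact this.trans (hx B)


end Groth.Agent.S19276
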