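import Groth.Statements.S19279

import Groth.Agent.Lib.GrpAlgCyc

set_option autoImplicit false
universe u v
open GrpAlg

namespace Groth.Agent.S19279

/-- Let `M` be a commutative group, `B₀` a subgroup of finite index and `Λ` a commutative ring in which
the index of `B₀` is invertible. Then the `Λ[M]`-linear map from `Λ[M ⧸ B₀]` to the product, over
the subgroups `B ⊇ B₀` with `M ⧸ B` cyclic, of the localizations of `Λ[M ⧸ B₀]` at the
multiplicative subsets of `Λ[M]` of elements with image `1` in `Λ[M ⧸ B]/(Φ_{|M/B|})`, with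
components the localization maps, is bijective. (In terms of group schemes: for a finite closed
subgroup T' = D(M/B₀) of the diagonalizable group with character group `M`, the representation ring
of T' with coefficients in `Λ` is the product of its localizations at the dual cyclic subgroups of
T'. The published statement has a split torus and `Λ = ℤ[1/|T'|]`; here `M` is any commutative group
and `Λ` any commutative ring in which the order of T' is invertible.) -/
theorem result (Λ : Type u) [CommRing Λ]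
    (M : Type v) [AddCommGroup M] (B₀ : AddSubgroup M) [B₀.FiniteIndex]
    (hu : IsUnit ((B₀.index : ℕ) : Λ)) :
    Function.Bijective (LinearMap.pi (R := AddMonoidAlgebra Λ M)
      fun B : {B : AddSubgroup M // B₀ ≤ B ∧ IsAddCyclic (M ⧸ B)} =>
        LocalizedModule.mkLinearMap (W4c6equivkfinstab.locSubmonoid Λ M B.1)
          (AddMonoidAlgebra Λ (M ⧸ B₀))) := by
  classical
  have := Lib.GrpAlgCyc.finite_index_set B₀
  have hsurj := Lib.GrpAlgCyc.quotMap_surjective (Λ := Λ) B₀
  have hsmul : ∀ (u x : AddMonoidAlgebra Λ M), u • W4c6equivkfinstab.quotMap Λ M B₀ x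
      = W4c6equivkfinstab.quotMap Λ M B₀ (u * x) := fun u x ↦ by
    rw [map_mul]; rfl
  have hcop := Lib.GrpAlgCyc.pairwise_isCoprime_J (B₀ := B₀) hu
  refine ⟨(injective_iff_map_eq_zero _).2 fun n hn ↦ ?_, fun f ↦ ?_⟩
  · obtain ⟨x, rfl⟩ := hsurj n
    refine RingHom.mem_ker.1 (Lib.GrpAlgCyc.mem_J₀_of_forall_mem_J hu fun B h₀ hc ↦ ?_)
    have h := congrFun hn ⟨B, h₀, hc⟩
    rw [LinearMap.pi_apply, Pi.zero_apply, ← LinearMap.mem_ker,
      LocalizedModule.mem_ker_mkLinearMap_iff] at h
    obtain ⟨u, hu1, hux⟩ := h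
    rw [hsmul] at hux
    have h2 : u * x ∈ Lib.GrpAlgCyc.J Λ B :=
      Lib.GrpAlgCyc.J₀_le_J B (Lib.GrpAlgCyc.J₀_mono h₀ hux)
    rw [Lib.GrpAlgCyc.J, RingHom.mem_ker, map_mul,
      show W4c6equivkfinstab.cycQuotMap Λ M B u = 1 from hu1, one_mul] at h2
    exact h2
  · -- separating elements
    have htex : ∀ B : {B : AddSubgroup M // B₀ ≤ B ∧ IsAddCyclic (M ⧸ B)},
        ∃ t ∈ W4c6equivkfinstab.locSubmonoid Λ M B.1,
          ∀ y ∈ Lib.GrpAlgCyc.J Λ B.1, W4c6equivkfinstab.quotMap Λ M B₀ (t * y) = 0 := by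
      intro B
      obtain ⟨t, ht⟩ := Ideal.exists_forall_sub_mem_ideal hcop (fun C ↦ if C = B then 1 else 0)
      refine ⟨t, ?_, fun y hy ↦ ?_⟩
      · have := RingHom.mem_ker.1 (ht B)
        rwa [if_pos rfl, map_sub, map_one, sub_eq_zero] at this
      · refine RingHom.mem_ker.1 (Lib.GrpAlgCyc.mem_J₀_of_forall_mem_J hu fun C h₀ hc ↦ ?_)
        by_cases hCB : C = B.1
        · exact hCB ▸ Ideal.mul_mem_left _ _ hy
        · refine Ideal.mul_mem_right _ _ ?_
          have := ht ⟨C, h₀, hc⟩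
          rwa [if_neg (fun h ↦ hCB (congrArg Subtype.val h)), sub_zero] at this
    have hrep : ∀ B, ∃ x s, f B = LocalizedModule.mk (W4c6equivkfinstab.quotMap Λ M B₀ x) s := by
      intro B
      induction f B using LocalizedModule.induction_on with
      | h n s =>
        obtain ⟨x, rfl⟩ := hsurj n
        exact ⟨x, s, rfl⟩
    choose x s hxs using hrep
    obtain ⟨r, hr⟩ := Ideal.exists_forall_sub_mem_ideal hcop x
    refine ⟨W4c6equivkfinstab.quotMap Λ M B₀ r, funext fun B ↦ ?_⟩
    rw [LinearMap.pi_apply, LocalizedModule.mkLinearMap_apply, hxs B, LocalizedModule.mk_eq]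
    obtain ⟨t, ht, hty⟩ := htex B
    refine ⟨⟨t, ht⟩, ?_⟩
    rw [one_smul, Submonoid.smul_def, Submonoid.smul_def, hsmul, hsmul, Submonoid.smul_def, hsmul,
      ← sub_eq_zero, ← map_sub]
    have hs1 : (s B : AddMonoidAlgebra Λ M) - 1 ∈ Lib.GrpAlgCyc.J Λ B.1 := by
      rw [Lib.GrpAlgCyc.J, RingHom.mem_ker, map_sub, map_one]
      exact sub_eq_zero.2 (s B).2
    have : t * ((s B : AddMonoidAlgebra Λ M) * r) - t * x B
        = t * (((s B : AddMonoidAlgebra Λ M) - 1) * r + (r - x B)) := by ring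
    rw [this]
    exact hty _ (add_mem (Ideal.mul_mem_right _ _ hs1) (hr B))


end Groth.Agent.S19279
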