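import Groth.Statements.S19285
import Groth.Agent.H24.SplitValues.Core

set_option autoImplicit false
universe u
open scoped TensorProduct
open NumberField

namespace Groth.Agent.S19285

open NumberField IsDedekindDomain Polynomial Topology
open scoped NumberField TensorProduct Valued
open Groth.Agent.Lib.NFApprox Groth.Agent.H24.SplitValues

universe u₀

lemma finite_dvd {k : Type*} [Field k] [NumberField k] (N : 𝓞 k) (hN : N ≠ 0) :
    {v : HeightOneSpectrum (𝓞 k) | N ∈ v.asIdeal}.Finite := by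
  refine (Ideal.finite_factors (I := Ideal.span {N}) (by simpa using hN)).subset fun v hv => ?_
  exact Ideal.dvd_iff_le.2 ((Ideal.span_singleton_le_iff_mem _).2 hv)

lemma exists_bad {k : Type u₀} [Field k] [NumberField k] {A : Type u₀} [Field A] [Algebra k A]
    [FiniteDimensional k A] (z : A) :
    ∃ N : 𝓞 k, N ≠ 0 ∧ ∀ v : HeightOneSpectrum (𝓞 k), N ∉ v.asIdeal →
      IsIntegral (v.valuation k).valuationSubring z := by
  obtain ⟨N, hN, hz⟩ := exists_integral_multiples (𝓞 k) k ({z} : Finset A)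
  refine ⟨N, hN, fun v hv => ?_⟩
  have h1 : v.valuation k (algebraMap (𝓞 k) k N)⁻¹ ≤ 1 := by
    rw [map_inv₀, v.valuation_eq_one_iff_notMem.2 hv, inv_one]
  have h2 : IsIntegral (v.valuation k).valuationSubring (N • z) := by
    refine isIntegral_valuationSubring v ?_
    obtain ⟨p, hp, hp'⟩ := hz z (Finset.mem_singleton_self z)
    exact ⟨p, hp, by rwa [RingHom.algebraMap_toAlgebra, ← IsScalarTower.algebraMap_eq]⟩
  have h3 := (isIntegral_algebraMap (R := (v.valuation k).valuationSubring) (A := A)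
    (x := ⟨_, h1⟩)).mul h2
  have heq : algebraMap (v.valuation k).valuationSubring A ⟨_, h1⟩ * (N • z) = z := by
    rw [Algebra.smul_def, IsScalarTower.algebraMap_apply (𝓞 k) k A, ← mul_assoc]
    have hN' : algebraMap (𝓞 k) k N ≠ 0 := fun h0 => hN (FaithfulSMul.algebraMap_injective (𝓞 k) k (h0.trans (map_zero _).symm))
    show algebraMap k A ((algebraMap (𝓞 k) k N)⁻¹) * algebraMap k A (algebraMap (𝓞 k) k N) * z = z
    rw [← map_mul, inv_mul_cancel₀ hN', map_one, one_mul]
  rwa [heq] at h3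

lemma trace_repr {k K : Type u₀} [Field k] [Field K] [Algebra k K] [FiniteDimensional k K]
    [Algebra.IsSeparable k K] (f : K →ₗ[k] k) : ∃ c : K, ∀ z, f z = Algebra.trace k K (c * z) := by
  refine ⟨((Algebra.traceForm k K).toDual (traceForm_nondegenerate k K)).symm f, fun z => ?_⟩
  rw [← Algebra.traceForm_apply, LinearMap.BilinForm.apply_toDual_symm_apply]

/-- A functional on `K`, extended to `C ⊗ K`. -/
noncomputable def ext {k K : Type u₀} [Field k] [Field K] [Algebra k K] (C : Type u₀) [Field C] [Algebra k C]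
    (f : K →ₗ[k] k) : C ⊗[k] K →ₗ[C] C :=
  (TensorProduct.AlgebraTensorModule.rid k C C).toLinearMap.comp (f.baseChange C)

lemma ext_tmul {k K : Type u₀} [Field k] [Field K] [Algebra k K] (C : Type u₀) [Field C] [Algebra k C]
    (f : K →ₗ[k] k) (c : C) (z : K) : ext C f (c ⊗ₜ[k] z) = c * algebraMap k C (f z) := by
  simp [ext, Algebra.smul_def, mul_comm]

lemma sum_single {k : Type u₀} [Field k] {n : ℕ} {K : Fin n → Type u₀} [∀ i, AddCommGroup (K i)]
    [∀ i, Module k (K i)] (l : (∀ i, K i) →ₗ[k] k) (Z : ∀ i, K i) :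
    l Z = ∑ i, (l.comp (LinearMap.single k K i)) (Z i) := by
  conv_lhs => rw [← Finset.univ_sum_single Z, map_sum]
  rfl

theorem exists_coords (k : Type u₀) [Field k] (n : ℕ) (hn : 1 ≤ n)
    (K : Fin n → Type u₀) [∀ i, Field (K i)] [∀ i, Algebra k (K i)] [∀ i, FiniteDimensional k (K i)]
    (a : (i : Fin n) → K i) (ha : ∀ i, IntermediateField.adjoin k {a i} = ⊤)
    (hdist : ∀ i j, i ≠ j → minpoly k (a i) ≠ minpoly k (a j))
    (hdeg : ∑ i, Module.finrank k (K i) ≤ 2) :
    ∃ (lx ly : (∀ i, K i) →ₗ[k] k) (cx cy : k), lx 1 = 1 ∧ ly 1 = 0 ∧ cx - lx a = 0 ∧ cy - ly a = 1 ∧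
      ∀ (Z : ∀ i, K i) i, Z i = algebraMap k (K i) (lx Z + cx) - algebraMap k (K i) (ly Z + cy) * a i := by
  let i₀ : Fin n := ⟨0, hn⟩
  have h1 : ∀ i, 1 ≤ Module.finrank k (K i) := fun i => Module.finrank_pos
  have hsum : Module.finrank k (∀ i, K i) = ∑ i, Module.finrank k (K i) := Module.finrank_pi_fintype k
  rcases Nat.lt_or_ge (∑ i, Module.finrank k (K i)) 2 with h | h
  · let f : k →ₗ[k] (∀ i, K i) := LinearMap.pi fun i => Algebra.linearMap k (K i)
    have hf : Function.Injective f := fun x y hxy => (algebraMap k (K i₀)).injective (congrFun hxy i₀)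
    have hfr : Module.finrank k k = Module.finrank k (∀ i, K i) := by
      have : 1 ≤ ∑ i, Module.finrank k (K i) :=
        (h1 i₀).trans (Finset.single_le_sum (f := fun i => Module.finrank k (K i)) (fun i _ => Nat.zero_le _) (Finset.mem_univ i₀))
      rw [Module.finrank_self, hsum]; omega
    let e := LinearEquiv.ofBijective f ⟨hf, (LinearMap.injective_iff_surjective_of_finrank_eq_finrank hfr).1 hf⟩
    refine ⟨e.symm.toLinearMap, 0, e.symm a, 1, ?_, rfl, sub_self _, sub_zero 1, fun Z i => ?_⟩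
    · exact e.injective ((e.apply_symm_apply 1).trans (funext fun i => (map_one (algebraMap k (K i))).symm))
    · have hZ : algebraMap k (K i) (e.symm Z) = Z i := congrFun (e.apply_symm_apply Z) i
      have hA : algebraMap k (K i) (e.symm a) = a i := congrFun (e.apply_symm_apply a) i
      simp only [LinearEquiv.coe_coe, LinearMap.zero_apply, zero_add, map_add, map_one, one_mul, hZ, hA]
      ring
  · let f : k × k →ₗ[k] (∀ i, K i) := LinearMap.pi fun i =>
      (Algebra.linearMap k (K i)).comp (LinearMap.fst k k k) -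
        ((LinearMap.mul k (K i)).flip (a i)).comp ((Algebra.linearMap k (K i)).comp (LinearMap.snd k k k))
    have hfi : ∀ p i, f p i = algebraMap k (K i) p.1 - algebraMap k (K i) p.2 * a i := fun p i => by
      simp [f, mul_comm]
    have hf : Function.Injective f := by
      refine (injective_iff_map_eq_zero f).2 fun p hp => ?_
      have hp' : ∀ i, algebraMap k (K i) p.1 = algebraMap k (K i) p.2 * a i := fun i => by
        rw [← sub_eq_zero, ← hfi, hp]; rfl
      by_cases hy : p.2 = 0
      · have := hp' i₀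
        rw [hy, map_zero, zero_mul, map_eq_zero] at this
        exact Prod.ext this hy
      exfalso
      have hai : ∀ i, a i = algebraMap k (K i) (p.1 / p.2) := fun i => by
        rw [map_div₀, eq_div_iff (by simpa using hy), mul_comm, hp' i]
      have hn1 : ∀ i, i = i₀ := fun i => by
        by_contra hne
        exact hdist i i₀ hne (by rw [hai, hai, minpoly.eq_X_sub_C, minpoly.eq_X_sub_C])
      have hr : ∀ i, Module.finrank k (K i) = 1 := fun i => by
        have htop : (⊤ : IntermediateField k (K i)) = ⊥ := by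
          rw [← ha i, IntermediateField.adjoin_simple_eq_bot_iff, hai i]
          exact IntermediateField.algebraMap_mem _ _
        rw [← IntermediateField.finrank_top', htop, IntermediateField.finrank_bot]
      have : ∑ i, Module.finrank k (K i) = 1 := by
        rw [Finset.sum_eq_single i₀ (fun b _ hb => absurd (hn1 b) hb) (fun h => absurd (Finset.mem_univ _) h), hr]
      omega
    have hfr : Module.finrank k (k × k) = Module.finrank k (∀ i, K i) := by
      rw [Module.finrank_prod, Module.finrank_self, hsum]; omega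
    let e := LinearEquiv.ofBijective f ⟨hf, (LinearMap.injective_iff_surjective_of_finrank_eq_finrank hfr).1 hf⟩
    have e1 : e.symm 1 = (1, 0) := e.injective ((e.apply_symm_apply 1).trans (funext fun i => by
      show _ = f (1, 0) i
      simp [hfi]))
    have ea : e.symm a = (0, -1) := e.injective ((e.apply_symm_apply a).trans (funext fun i => by
      show _ = f (0, -1) i
      simp [hfi]))
    refine ⟨(LinearMap.fst k k k).comp e.symm.toLinearMap, (LinearMap.snd k k k).comp e.symm.toLinearMap,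
      0, 0, by simp [e1], by simp [e1], by simp [ea], by simp [ea], fun Z i => ?_⟩
    simp only [LinearMap.comp_apply, LinearEquiv.coe_coe, LinearMap.fst_apply, LinearMap.snd_apply, add_zero]
    rw [← hfi]
    exact (congrFun (e.apply_symm_apply Z) i).symm

section Local

variable {k : Type u₀} [Field k] [NumberField k] {n : ℕ} {K L : Fin n → Type u₀}
  [∀ i, Field (K i)] [∀ i, NumberField (K i)] [∀ i, Algebra k (K i)]
  [∀ i, Field (L i)] [∀ i, NumberField (L i)] [∀ i, Algebra (K i) (L i)] [∀ i, Algebra k (L i)]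
  [∀ i, IsScalarTower k (K i) (L i)] [∀ i, FiniteDimensional k (K i)] [∀ i, FiniteDimensional (K i) (L i)]

/-- Boxes of coordinates whose norms give a value near `t`. -/
lemma exists_boxes {C : Type u₀} [Field C] [Algebra k C] [TopologicalSpace C] [IsTopologicalDivisionRing C]
    [T1Space C] {N : Fin n → ℕ} (ω : ∀ i, Module.Basis (Fin (N i)) k (L i))
    (a b : (i : Fin n) → K i) (hb : ∀ i, b i ≠ 0)
    (lx ly : (∀ i, K i) →ₗ[k] k) (cx cy : k) (hx1 : lx 1 = 1) (hy1 : ly 1 = 0)
    (hxa : cx - lx a = 0) (hya : cy - ly a = 1)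
    (t : C) (U : Set C) (hU : IsOpen U) (htU : t ∈ U)
    (hnorm : ∀ i, letI := (Algebra.TensorProduct.map (AlgHom.id k C)
        (IsScalarTower.toAlgHom k (K i) (L i))).toRingHom.toAlgebra
      ∃ x : C ⊗[k] L i, Algebra.norm (C ⊗[k] K i) x =
        (1 : C) ⊗ₜ[k] b i * (t ⊗ₜ[k] (1 : K i) - (1 : C) ⊗ₜ[k] a i)) :
    ∃ O : ∀ i, Set (Fin (N i) → C), (∀ i, IsOpen (O i) ∧ (O i).Nonempty) ∧
      ∀ x : ∀ i, L i, (∀ i, (fun j => algebraMap k C ((ω i).repr (x i) j)) ∈ O i) →
        ly (fun i => Algebra.norm (K i) (x i) / b i) + cy ≠ 0 ∧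
        algebraMap k C ((lx (fun i => Algebra.norm (K i) (x i) / b i) + cx) /
          (ly (fun i => Algebra.norm (K i) (x i) / b i) + cy)) ∈ U := by
  classical
  let ω' := fun i => Module.finBasis (K i) (L i)
  let G : ((∀ i, K i) →ₗ[k] k) → k → (∀ i, Fin (N i) → C) → C := fun l c z =>
    (∑ i, ext C (l.comp (LinearMap.single k K i)) ((1 : C) ⊗ₜ[k] (b i)⁻¹ * relNorm C (ω' i) (ω i) (z i))) +
      algebraMap k C c
  have hGc : ∀ l c, Continuous (G l c) := fun l c => by
    refine (continuous_finsetSum _ fun i _ => ?_).add continuous_const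
    exact (continuous_relNorm (ω' i) (ω i) (ext C (l.comp (LinearMap.single k K i)))
      ((1 : C) ⊗ₜ[k] (b i)⁻¹)).comp (continuous_apply i)
  choose X hX using hnorm
  let z₀ : ∀ i, Fin (N i) → C := fun i j => (Algebra.TensorProduct.basis C (ω i)).repr (X i) j
  have hz₀ : ∀ l c, G l c z₀ = t * algebraMap k C (l 1) + algebraMap k C (c - l a) := fun l c => by
    have : ∀ i, ext C (l.comp (LinearMap.single k K i))
        ((1 : C) ⊗ₜ[k] (b i)⁻¹ * relNorm C (ω' i) (ω i) (z₀ i)) =
        t * algebraMap k C (l.comp (LinearMap.single k K i) 1) -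
          algebraMap k C (l.comp (LinearMap.single k K i) (a i)) := fun i => by
      rw [← norm_eq_relNorm (ω' i) (ω i) (X i), hX i, ← mul_assoc, Algebra.TensorProduct.tmul_mul_tmul,
        one_mul, inv_mul_cancel₀ (hb i), ← Algebra.TensorProduct.one_def, one_mul, map_sub, ext_tmul,
        ext_tmul, one_mul]
    simp only [G, this]
    rw [Finset.sum_sub_distrib, ← Finset.mul_sum, ← map_sum, ← map_sum, map_sub,
      sum_single l 1, sum_single l a]
    simp only [Pi.one_apply]
    ring
  have hy0 : G ly cy z₀ = 1 := by rw [hz₀, hy1, hya, map_zero, map_one, mul_zero, zero_add]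
  have hx0 : G lx cx z₀ = t := by rw [hz₀, hx1, hxa, map_zero, map_one, mul_one, add_zero]
  have hnhds : {z | G ly cy z ≠ 0 ∧ G lx cx z / G ly cy z ∈ U} ∈ 𝓝 z₀ := by
    refine Filter.inter_mem ((isOpen_ne.preimage (hGc ly cy)).mem_nhds (by simp [hy0])) ?_
    exact ((hGc lx cx).continuousAt.div₀ (hGc ly cy).continuousAt (by simp [hy0])).preimage_mem_nhds
      (hU.mem_nhds (by simp [hy0, hx0, htU]))
  obtain ⟨V, hVsub, hVo, hV⟩ := mem_nhds_iff.1 hnhds
  obtain ⟨O, hO, hsub⟩ := isOpen_pi_iff'.1 hVo z₀ hV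
  refine ⟨O, fun i => ⟨(hO i).1, _, (hO i).2⟩, fun x hx => ?_⟩
  have hG : ∀ l c, G l c (fun i j => algebraMap k C ((ω i).repr (x i) j)) =
      algebraMap k C (l (fun i => Algebra.norm (K i) (x i) / b i) + c) := fun l c => by
    simp only [G, relNorm_algebraMap, Algebra.TensorProduct.tmul_mul_tmul, one_mul, ext_tmul, map_add]
    rw [← map_sum, sum_single l (fun i => Algebra.norm (K i) (x i) / b i)]
    simp only [div_eq_inv_mul]
  obtain ⟨h1, h2⟩ := hVsub (hsub fun i _ => hx i)
  rw [hG] at h1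
  rw [hG, hG, ← map_div₀] at h2
  exact ⟨fun h => h1 (by rw [h, map_zero]), h2⟩

end Local

lemma splits_over {k K L M : Type u₀} [Field k] [NumberField k] [Field K] [NumberField K] [Field L]
    [NumberField L] [Algebra k K] [Algebra K L] [Algebra k L] [IsScalarTower k K L] [Field M] [Algebra k M]
    [Normal k M] [FiniteDimensional k M] (ι : L →ₐ[k] M) (a : K) (ha : IntermediateField.adjoin k {a} = ⊤)
    (θ : M) (hθtop : IntermediateField.adjoin k {θ} = ⊤) (v : HeightOneSpectrum (𝓞 k)) (s : k)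
    (hs : v.valuation k s ≤ 1) (hc : ∀ i, v.valuation k ((minpoly k θ).coeff i) ≤ 1)
    (h0 : v.valuation k ((minpoly k θ).eval s) < 1) (h1 : v.valuation k ((minpoly k θ).derivative.eval s) = 1)
    (W : HeightOneSpectrum (𝓞 K)) (hW : W.asIdeal.LiesOver v.asIdeal) :
    Nonempty (L →ₐ[K] W.adicCompletion K) := by
  let KW := W.adicCompletion K
  let : Algebra k KW := ((algebraMap K KW).comp (algebraMap k K)).toAlgebra
  have : IsScalarTower k K KW := IsScalarTower.of_algebraMap_eq' rfl
  obtain ⟨r, hr⟩ := exists_root_adic W ((minpoly k θ).map (algebraMap k K))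
    (fun i => by rw [coeff_map]; exact valuation_map_le_one v W hW _ (hc i)) (algebraMap k K s)
    (valuation_map_le_one v W hW s hs)
    (by rw [eval_map_apply]; exact valuation_map_lt_one v W hW _ h0)
    (by
      rw [derivative_map, eval_map_apply]
      refine le_antisymm (valuation_map_le_one v W hW _ h1.le) (not_lt.1 fun h => ?_)
      have h' := valuation_map_le_one v W hW ((minpoly k θ).derivative.eval s)⁻¹ (by rw [map_inv₀, h1, inv_one])
      have hne : W.valuation K (algebraMap k K ((minpoly k θ).derivative.eval s)) ≠ 0 := by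
        rw [Valuation.ne_zero_iff, ne_eq, map_eq_zero]
        intro h0'
        rw [h0', map_zero] at h1
        exact zero_ne_one h1
      rw [map_inv₀, map_inv₀] at h'
      exact absurd h' (not_le.2 ((one_lt_inv₀ (zero_lt_iff.2 hne)).2 h)))
  rw [aeval_map_algebraMap] at hr
  obtain ⟨ψ⟩ := nonempty_algHom_of_root (k := k) θ (IsIntegral.of_finite k θ) hθtop r hr
  let e : K →ₐ[k] M := ι.comp (IsScalarTower.toAlgHom k K L)
  let can : K →ₐ[k] KW := IsScalarTower.toAlgHom k K KW
  have hmin : minpoly k (e a) = minpoly k a := minpoly.algHom_eq e e.injective a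
  have hspl := Normal.splits (inferInstance : Normal k M) (e a)
  rw [hmin] at hspl
  have hne : minpoly k a ≠ 0 := minpoly.ne_zero (IsIntegral.of_finite k a)
  have hroot : can a ∈ ((minpoly k a).map (algebraMap k KW)).roots := by
    rw [mem_roots_map hne, ← aeval_def, aeval_algHom_apply, minpoly.aeval, map_zero]
  rw [show algebraMap k KW = (ψ : M →+* KW).comp (algebraMap k M) from ψ.comp_algebraMap.symm,
    ← Polynomial.map_map, Polynomial.Splits.roots_map hspl, Multiset.mem_map] at hroot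
  obtain ⟨m, hm, hm'⟩ := hroot
  rw [mem_roots_map hne, ← aeval_def] at hm
  have hmm : minpoly k m = minpoly k (e a) := by
    rw [hmin]
    exact (minpoly.eq_of_irreducible_of_monic (minpoly.irreducible (IsIntegral.of_finite k a)) hm
      (minpoly.monic (IsIntegral.of_finite k a))).symm
  obtain ⟨g, hg⟩ := (Normal.minpoly_eq_iff_mem_orbit (E := M)).1 hmm
  let τ : L →ₐ[k] KW := ψ.comp ((g : M →ₐ[k] M).comp ι)
  have hτa : τ (algebraMap K L a) = can a := by
    rw [← hm', ← hg]
    rfl
  have hτ : τ.comp (IsScalarTower.toAlgHom k K L) = can := by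
    have h := IntermediateField.adjoin_algHom_ext k (s := ({a} : Set K))
      (φ₁ := (τ.comp (IsScalarTower.toAlgHom k K L)).comp (IntermediateField.adjoin k {a}).val)
      (φ₂ := can.comp (IntermediateField.adjoin k {a}).val) (fun y hy => by
        obtain rfl := Set.mem_singleton_iff.1 hy
        exact hτa)
    refine AlgHom.ext fun y => ?_
    exact AlgHom.congr_fun h ⟨y, ha ▸ IntermediateField.mem_top⟩
  exact ⟨{ toRingHom := τ.toRingHom, commutes' := fun x => AlgHom.congr_fun hτ x }⟩

/-- A conjectured statement on locally split values of the polynomials t − a_i holds unconditionally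
when the degrees [k_i : k] sum to at most 2. Precisely: let k be a number field, n ≥ 1, and for each
i let k_i = k(a_i) be a finite extension generated by a_i, the minimal polynomials of the a_i over k
being pairwise distinct and the degrees [k_i : k] summing to at most 2; let L_i/k_i be finite
extensions and b_i ∈ k_i nonzero. Let S_f, S_∞ be finite sets of finite and infinite places of k
such that S_∞ contains every real place and S_f contains every finite place of k below a finite
place of some k_i at which b_i is not a unit or below a prime of some L_i ramified over k_i. For v ∈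
S_f ∪ S_∞ let t_v ∈ k_v, with an open neighbourhood U_v, be such that for every i the element b_i
(t_v − a_i) of k_v ⊗_k k_i is the norm of a unit of the (k_v ⊗_k k_i)-algebra k_v ⊗_k L_i. Then
there is t_0 ∈ k whose image lies in U_v for all v ∈ S_f ∪ S_∞ and such that for every i and every
finite place w of k_i at which t_0 − a_i has positive valuation, either w lies above a place of S_f
or L_i admits a k_i-algebra embedding into the completion (k_i)_w (a place of L_i of degree 1 over
w). -/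
theorem result (k : Type u) [Field k] [NumberField k]
    (n : ℕ) (hn : 1 ≤ n)
    (kf : Fin n → Type u) [∀ i, Field (kf i)] [∀ i, NumberField (kf i)] [∀ i, Algebra k (kf i)]
    (Lf : Fin n → Type u) [∀ i, Field (Lf i)] [∀ i, NumberField (Lf i)] [∀ i, Algebra (kf i) (Lf i)]
    [∀ i, Algebra k (Lf i)] [∀ i, IsScalarTower k (kf i) (Lf i)]
    (a : (i : Fin n) → kf i) (ha : ∀ i, IntermediateField.adjoin k {a i} = ⊤)
    (hdist : ∀ i j, i ≠ j → minpoly k (a i) ≠ minpoly k (a j))
    (hdeg : ∑ i, Module.finrank k (kf i) ≤ 2)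
    (b : (i : Fin n) → kf i) (hb : ∀ i, b i ≠ 0)
    (Sf : Finset (IsDedekindDomain.HeightOneSpectrum (NumberField.RingOfIntegers k)))
    (Si : Finset (NumberField.InfinitePlace k))
    (hSreal : ∀ w : NumberField.InfinitePlace k, w.IsReal → w ∈ Si)
    (hSb : ∀ i, ∀ W : IsDedekindDomain.HeightOneSpectrum (NumberField.RingOfIntegers (kf i)),
      W.valuation (kf i) (b i) ≠ 1 → ∃ v ∈ Sf, W.asIdeal.LiesOver v.asIdeal)
    (hSram : ∀ i, ∀ Q : Ideal (NumberField.RingOfIntegers (Lf i)), Q.IsPrime → Q ≠ ⊥ →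
      Q.ramificationIdx (NumberField.RingOfIntegers (kf i)) ≠ 1 → ∃ v ∈ Sf, Q.LiesOver v.asIdeal)
    (tf : (v : IsDedekindDomain.HeightOneSpectrum (NumberField.RingOfIntegers k)) → v.adicCompletion k)
    (ti : (w : NumberField.InfinitePlace k) → w.Completion)
    (htf : ∀ i, ∀ v ∈ Sf,
      letI := (Algebra.TensorProduct.map (AlgHom.id k (v.adicCompletion k))
        (IsScalarTower.toAlgHom k (kf i) (Lf i))).toRingHom.toAlgebra
      ∃ x : (v.adicCompletion k) ⊗[k] Lf i, IsUnit x ∧
        Algebra.norm ((v.adicCompletion k) ⊗[k] kf i) x =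
          (1 : v.adicCompletion k) ⊗ₜ[k] b i * (tf v ⊗ₜ[k] (1 : kf i) - (1 : v.adicCompletion k) ⊗ₜ[k] a i))
    (hti : ∀ i, ∀ w ∈ Si,
      letI := (Algebra.TensorProduct.map (AlgHom.id k w.Completion)
        (IsScalarTower.toAlgHom k (kf i) (Lf i))).toRingHom.toAlgebra
      ∃ x : w.Completion ⊗[k] Lf i, IsUnit x ∧
        Algebra.norm (w.Completion ⊗[k] kf i) x =
          (1 : w.Completion) ⊗ₜ[k] b i * (ti w ⊗ₜ[k] (1 : kf i) - (1 : w.Completion) ⊗ₜ[k] a i))
    (Uf : (v : IsDedekindDomain.HeightOneSpectrum (NumberField.RingOfIntegers k)) → Set (v.adicCompletion k))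
    (hUf : ∀ v ∈ Sf, IsOpen (Uf v) ∧ tf v ∈ Uf v)
    (Ui : (w : NumberField.InfinitePlace k) → Set w.Completion)
    (hUi : ∀ w ∈ Si, IsOpen (Ui w) ∧ ti w ∈ Ui w) :
    ∃ t₀ : k, (∀ v ∈ Sf, algebraMap k (v.adicCompletion k) t₀ ∈ Uf v) ∧
      (∀ w ∈ Si, algebraMap k w.Completion t₀ ∈ Ui w) ∧
      ∀ i, ∀ W : IsDedekindDomain.HeightOneSpectrum (NumberField.RingOfIntegers (kf i)),
        W.valuation (kf i) (algebraMap k (kf i) t₀ - a i) < 1 →
          (∃ v ∈ Sf, W.asIdeal.LiesOver v.asIdeal) ∨ Nonempty (Lf i →ₐ[kf i] W.adicCompletion (kf i)) := by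
  classical
  have : ∀ i, FiniteDimensional k (kf i) := fun i => Module.Finite.of_restrictScalars_finite ℚ k (kf i)
  have : ∀ i, FiniteDimensional k (Lf i) := fun i => Module.Finite.of_restrictScalars_finite ℚ k (Lf i)
  have : ∀ i, FiniteDimensional (kf i) (Lf i) := fun i => Module.Finite.of_restrictScalars_finite k (kf i) (Lf i)
  obtain ⟨lx, ly, cx, cy, hx1, hy1, hxa, hya, hP⟩ := exists_coords k n hn kf a ha hdist hdeg
  choose cl hcl using fun i => trace_repr (ly.comp (LinearMap.single k kf i))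
  choose Na hNa hNa' using fun i => exists_bad (k := k) (a i)
  choose Nb hNb hNb' using fun i => exists_bad (k := k) (b i)⁻¹
  choose Nc hNc hNc' using fun i => exists_bad (k := k) (cl i)
  obtain ⟨Ny, hNy, hNy'⟩ := exists_bad (k := k) cy
  choose ya hya0 hyaint using fun i => exists_integral_multiples (𝓞 k) k ({a i} : Finset (kf i))
  let Ntot : 𝓞 k := Ny * ∏ i, Na i * Nb i * Nc i
  have hNtot : Ntot ≠ 0 := mul_ne_zero hNy (Finset.prod_ne_zero_iff.2 fun i _ =>
    mul_ne_zero (mul_ne_zero (hNa i) (hNb i)) (hNc i))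
  let D₀ := ∑ i, Module.finrank k (Lf i)
  have hsmall : {v : HeightOneSpectrum (𝓞 k) | Ideal.absNorm v.asIdeal ≤ D₀}.Finite :=
    (Ideal.finite_setOfPred_absNorm_le D₀).preimage
      (Function.Injective.injOn fun x y h => HeightOneSpectrum.ext h)
  obtain ⟨v₁, -, -⟩ := exists_split_place k (∅ : Finset (HeightOneSpectrum (𝓞 k)))
  let S : Finset (HeightOneSpectrum (𝓞 k)) :=
    insert v₁ (Sf ∪ (finite_dvd Ntot hNtot).toFinset ∪ hsmall.toFinset)
  -- the Galois closure and a completely split place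
  let Ω := AlgebraicClosure k
  let M : IntermediateField k Ω := ⨆ i, IntermediateField.normalClosure k (Lf i) Ω
  have : FiniteDimensional k M := IntermediateField.finiteDimensional_iSup_of_finite
  have : Normal k M := IntermediateField.normal_iSup k Ω _
  have : NumberField M := NumberField.of_module_finite k M
  obtain ⟨θ, hθ0, hθ, hθtop⟩ := exists_integral_primitive (k := k) M
  obtain ⟨B₁, hB₁⟩ := exists_finset_simple (minpoly k θ) (Algebra.IsSeparable.isSeparable k θ)
  obtain ⟨v₀, hv₀, ⟨φ⟩⟩ := exists_split_place M (S ∪ B₁)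
  rw [Finset.mem_union, not_or] at hv₀
  have hθc : ∀ i, v₀.valuation k ((minpoly k θ).coeff i) ≤ 1 := fun i => by
    rw [minpoly.isIntegrallyClosed_eq_field_fractions' k hθ, coeff_map]
    exact v₀.valuation_le_one _
  have : IsScalarTower ℤ (𝓞 k) M := IsScalarTower.of_algebraMap_eq fun x => by simp
  have hr : ‖φ θ‖ ≤ 1 := Groth.Agent.H24.UnitNorm.norm_le_one_of_isIntegral _
    (map_isIntegral_int φ.toRingHom (isIntegral_trans (R := ℤ) (A := 𝓞 k) θ hθ))
  let gθ : v₀.adicCompletion k → v₀.adicCompletion k := fun y =>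
    ((minpoly k θ).map (algebraMap k (v₀.adicCompletion k))).eval y
  obtain ⟨v₂, hv₂, -⟩ := exists_split_place k ({v₀} : Finset (HeightOneSpectrum (𝓞 k)))
  obtain ⟨s, -, -, hs, -⟩ := exists_approx_avoid v₂ {v₀} hv₂
    (fun v => if h : v = v₀ then h ▸ (Metric.closedBall 0 1 ∩ gθ ⁻¹' Metric.ball 0 1) else Set.univ)
    (fun v hv => by
      obtain rfl := Finset.mem_singleton.1 hv
      simp only [dif_pos]
      refine ⟨(IsUltrametricDist.isOpen_closedBall _ one_ne_zero).inter
        (Metric.isOpen_ball.preimage (Polynomial.continuous _)), φ θ, ?_, ?_⟩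
      · rwa [mem_closedBall_zero_iff]
      · rw [Set.mem_preimage, mem_ball_zero_iff]
        simp only [gθ]
        rw [eval_map, ← aeval_def, aeval_algHom_apply, minpoly.aeval, map_zero, norm_zero]
        exact one_pos)
    (fun w => Set.univ) (fun w => ⟨isOpen_univ, Set.univ_nonempty⟩) ∅
  have hs' := hs v₀ (Finset.mem_singleton_self _)
  simp only [dif_pos, Set.mem_inter_iff, mem_closedBall_zero_iff, Set.mem_preimage, mem_ball_zero_iff, gθ,
    eval_map_apply, norm_algebraMap_le_one_iff, norm_algebraMap_lt_one_iff] at hs'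
  have hs1 := hB₁ v₀ hv₀.2 hθc s hs'.1 hs'.2
  have hsplit : ∀ i, ∀ W : HeightOneSpectrum (𝓞 (kf i)), W.asIdeal.LiesOver v₀.asIdeal →
      Nonempty (Lf i →ₐ[kf i] W.adicCompletion (kf i)) := fun i W hW => by
    let ι : Lf i →ₐ[k] Ω := IsAlgClosed.lift
    have hle : ι.fieldRange ≤ M :=
      (AlgHom.fieldRange_le_normalClosure ι).trans (le_iSup (fun j => IntermediateField.normalClosure k (Lf j) Ω) i)
    exact splits_over ((IntermediateField.inclusion hle).comp ι.rangeRestrict) (a i) (ha i) θ hθtop v₀ s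
      hs'.1 hθc hs'.2 hs1 W hW
  -- the auxiliary elements
  choose π hπ hπ0 using fun v : HeightOneSpectrum (𝓞 k) => Submodule.exists_mem_ne_zero_of_ne_bot v.ne_bot
  let p : HeightOneSpectrum (𝓞 k) → k := fun v => algebraMap (𝓞 k) k (π v * ∏ i, ya i)
  have hp0 : ∀ v, p v ≠ 0 := fun v => by
    simp only [p, ne_eq, FaithfulSMul.algebraMap_eq_zero_iff]
    exact mul_ne_zero (hπ0 v) (Finset.prod_ne_zero_iff.2 fun i _ => hya0 i)
  have hp1 : ∀ v : HeightOneSpectrum (𝓞 k), v.valuation k (p v) < 1 := fun v =>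
    (v.valuation_lt_one_iff_mem _).2 (v.asIdeal.mul_mem_right _ (hπ v))
  have hpa : ∀ v : HeightOneSpectrum (𝓞 k), ∀ i, ∀ W : HeightOneSpectrum (𝓞 (kf i)),
      W.valuation (kf i) (algebraMap k (kf i) (p v) * a i) ≤ 1 := fun v i W => by
    have hint : IsIntegral (𝓞 k) (algebraMap k (kf i) (p v) * a i) := by
      rw [show algebraMap k (kf i) (p v) * a i =
          algebraMap (𝓞 k) (kf i) (π v * ∏ j ∈ Finset.univ.erase i, ya j) * (ya i • a i) by
        simp only [p]
        rw [← IsScalarTower.algebraMap_apply (𝓞 k) k (kf i), ← Finset.mul_prod_erase _ _ (Finset.mem_univ i),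
          Algebra.smul_def, map_mul, map_mul, map_mul]
        ring]
      exact isIntegral_algebraMap.mul (hyaint i (a i) (Finset.mem_singleton_self _))
    obtain ⟨z, hz⟩ : ∃ z : 𝓞 (kf i), algebraMap _ (kf i) z = algebraMap k (kf i) (p v) * a i :=
      ⟨⟨_, isIntegral_trans (R := ℤ) (A := 𝓞 k) _ hint⟩, rfl⟩
    rw [← hz]
    exact W.valuation_le_one z
  let d : ℕ := ∏ i, Module.finrank (kf i) (Lf i)
  have hd : 0 < d := Finset.prod_pos fun i _ => Module.finrank_pos
  let t : (v : HeightOneSpectrum (𝓞 k)) → v.adicCompletion k := fun v =>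
    if v ∈ Sf then tf v else algebraMap k _ ((p v)⁻¹ ^ (2 * d))
  let U : (v : HeightOneSpectrum (𝓞 k)) → Set (v.adicCompletion k) := fun v =>
    if v ∈ Sf then Uf v else {x | 1 < ‖x * algebraMap k (v.adicCompletion k) (p v)‖}
  have hUo : ∀ v, IsOpen (U v) ∧ t v ∈ U v := fun v => by
    by_cases hv : v ∈ Sf
    · simp only [U, t, if_pos hv]; exact hUf v hv
    · simp only [U, t, if_neg hv]
      refine ⟨isOpen_lt continuous_const (continuous_norm.comp (continuous_id.mul continuous_const)), ?_⟩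
      show 1 < ‖_‖
      have hlt : ‖algebraMap k (v.adicCompletion k) (p v)‖ < 1 := (norm_algebraMap_lt_one_iff v _).2 (hp1 v)
      have hpos : 0 < ‖algebraMap k (v.adicCompletion k) (p v)‖ := norm_pos_iff.2 ((_root_.map_ne_zero _).2 (hp0 v))
      obtain ⟨m, hm⟩ : ∃ m, 2 * d = m + 1 := ⟨2 * d - 1, by omega⟩
      rw [map_pow, map_inv₀, hm, pow_succ, mul_assoc, inv_mul_cancel₀ ((_root_.map_ne_zero _).2 (hp0 v)), mul_one,
        norm_pow, norm_inv]
      exact one_lt_pow₀ ((one_lt_inv₀ hpos).2 hlt) (by omega)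
  have htn : ∀ v, ∀ i, letI := (Algebra.TensorProduct.map (AlgHom.id k (v.adicCompletion k))
        (IsScalarTower.toAlgHom k (kf i) (Lf i))).toRingHom.toAlgebra
      ∃ x : (v.adicCompletion k) ⊗[k] Lf i, Algebra.norm ((v.adicCompletion k) ⊗[k] kf i) x =
          (1 : v.adicCompletion k) ⊗ₜ[k] b i * (t v ⊗ₜ[k] (1 : kf i) - (1 : v.adicCompletion k) ⊗ₜ[k] a i) := by
    intro v i
    by_cases hv : v ∈ Sf
    · simp only [t, if_pos hv]
      obtain ⟨x, -, hx⟩ := htf i v hv
      exact ⟨x, hx⟩
    let C := v.adicCompletion k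
    let : Algebra (C ⊗[k] kf i) (C ⊗[k] Lf i) := (Algebra.TensorProduct.map (AlgHom.id k C)
        (IsScalarTower.toAlgHom k (kf i) (Lf i))).toRingHom.toAlgebra
    have hover : ∀ {B : Type u} [Field B] [NumberField B] [Algebra k B] (Q : Ideal (𝓞 B)),
        Q.LiesOver v.asIdeal → ¬ ∃ v' ∈ Sf, Q.LiesOver v'.asIdeal := fun Q hQ ⟨v', hv', hQ'⟩ =>
      hv (HeightOneSpectrum.ext (hQ'.over.trans hQ.over.symm) ▸ hv')
    set c : kf i := b i * (1 - algebraMap k (kf i) (p v) ^ (2 * d) * a i) with hc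
    have hval : ∀ W : HeightOneSpectrum (𝓞 (kf i)), W.asIdeal.LiesOver v.asIdeal →
        W.valuation (kf i) c = 1 := fun W hW => by
      rw [hc, map_mul, not_not.1 fun h => hover W.asIdeal hW (hSb i W h), one_mul]
      refine ((W.valuation (kf i)).map_sub_eq_of_lt_left ?_).trans (map_one _)
      obtain ⟨m, hm⟩ : ∃ m, 2 * d = m + 1 := ⟨2 * d - 1, by omega⟩
      rw [map_one, hm, pow_succ, mul_assoc, map_mul, map_pow]
      exact lt_of_le_of_lt (mul_le_of_le_one_right' (hpa v i W))
        (pow_lt_one₀ zero_le (valuation_map_lt_one v W hW _ (hp1 v)) (by omega))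
    have hc0 : c ≠ 0 := by
      obtain ⟨Q, hQ, hQv⟩ := Ideal.exists_maximal_ideal_liesOver_of_isIntegral (S := 𝓞 (kf i)) v.asIdeal
      intro h0
      have := hval ⟨Q, hQ.isPrime, Ideal.ne_bot_of_liesOver_of_ne_bot v.ne_bot Q⟩ hQv
      rw [h0, map_zero] at this
      exact zero_ne_one this
    have hram : ∀ Q : Ideal (𝓞 (Lf i)), Q.IsPrime → Q.LiesOver v.asIdeal →
        Q.ramificationIdx (𝓞 (kf i)) = 1 := fun Q hQ hQv => not_not.1 fun h =>
      hover Q hQv (hSram i Q hQ (Ideal.ne_bot_of_liesOver_of_ne_bot v.ne_bot Q) h)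
    obtain ⟨X, -, hX⟩ := Groth.Agent.H24.UnitNorm.exists_unit_norm (L := Lf i) v c hc0 hval hram
    obtain ⟨e, he⟩ : Module.finrank (kf i) (Lf i) ∣ 2 * d :=
      dvd_mul_of_dvd_right (Finset.dvd_prod_of_mem _ (Finset.mem_univ i)) 2
    obtain ⟨bB, -, -⟩ := exists_tensor_basis C (k := k) (Module.finBasis (kf i) (Lf i))
    let z : C ⊗[k] kf i := algebraMap C (C ⊗[k] kf i) (algebraMap k C ((p v)⁻¹ ^ e))
    refine ⟨algebraMap (C ⊗[k] kf i) (C ⊗[k] Lf i) z * X, ?_⟩
    rw [map_mul, hX, Algebra.norm_algebraMap_of_basis bB, Fintype.card_fin]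
    simp only [z, t, if_neg hv]
    rw [← map_pow, ← map_pow, ← pow_mul, mul_comm e, ← he, Algebra.TensorProduct.algebraMap_apply,
      Algebra.TensorProduct.tmul_mul_tmul, mul_sub, Algebra.TensorProduct.tmul_mul_tmul,
      Algebra.TensorProduct.tmul_mul_tmul, one_mul, one_mul, mul_one, mul_one, one_mul, hc, mul_sub, mul_one,
      TensorProduct.tmul_sub]
    congr 1
    show algebraMap C C _ ⊗ₜ[k] _ = _
    rw [Algebra.algebraMap_self, RingHom.id_apply, Algebra.algebraMap_eq_smul_one, TensorProduct.smul_tmul,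
      Algebra.smul_def]
    have hh : algebraMap k (kf i) ((p v)⁻¹ ^ (2 * d)) * algebraMap k (kf i) (p v) ^ (2 * d) = 1 := by
      rw [← map_pow, ← map_mul, ← mul_pow, inv_mul_cancel₀ (hp0 v), one_pow, map_one]
    congr 1
    linear_combination (b i * a i) * hh
  -- boxes
  choose N ω hω using fun i => exists_integral_basis (k := k) (L := Lf i)
  choose O hO hO' using fun v => exists_boxes (C := v.adicCompletion k) ω a b hb lx ly cx cy hx1 hy1 hxa hya
    (t v) (U v) (hUo v).1 (hUo v).2 (htn v)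
  have hboxi : ∀ w : InfinitePlace k, ∃ O : ∀ i, Set (Fin (N i) → w.Completion),
      (∀ i, IsOpen (O i) ∧ (O i).Nonempty) ∧ (w ∈ Si → ∀ x : ∀ i, Lf i,
        (∀ i, (fun j => algebraMap k w.Completion ((ω i).repr (x i) j)) ∈ O i) →
          algebraMap k w.Completion ((lx (fun i => Algebra.norm (kf i) (x i) / b i) + cx) /
            (ly (fun i => Algebra.norm (kf i) (x i) / b i) + cy)) ∈ Ui w) := by
    intro w
    by_cases hw : w ∈ Si
    · obtain ⟨O, h1, h2⟩ := exists_boxes (C := w.Completion) ω a b hb lx ly cx cy hx1 hy1 hxa hya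
        (ti w) (Ui w) (hUi w hw).1 (hUi w hw).2 (fun i => by
          obtain ⟨x, -, hx⟩ := hti i w hw
          exact ⟨x, hx⟩)
      exact ⟨O, h1, fun _ x hx => (h2 x hx).2⟩
    · exact ⟨fun i => Set.univ, fun i => ⟨isOpen_univ, Set.univ_nonempty⟩, fun h => absurd h hw⟩
  choose Oi hOi hOi' using hboxi
  have hSbig : ∀ i, ∀ v, v ≠ v₀ → v ∉ S → Module.finrank k (Lf i) < Ideal.absNorm v.asIdeal := by
    intro i v _ hv
    by_contra h
    refine hv (Finset.mem_insert_of_mem (Finset.mem_union_right _ (hsmall.mem_toFinset.2 ?_)))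
    exact (not_lt.1 h).trans (Finset.single_le_sum (fun j _ => Nat.zero_le (Module.finrank k (Lf j))) (Finset.mem_univ i))
  choose x hx hxi hxout using fun i => exists_norm_near (K := kf i) (ω i) (hω i) v₀ S hv₀.1 (hSbig i)
    (fun v => O v i) (fun v _ => hO v i) (fun w => Oi w i) (fun w => hOi w i)
  set Z : ∀ i, kf i := fun i => Algebra.norm (kf i) (x i) / b i with hZ
  have hloc : ∀ v ∈ S, _ := fun v hv => hO' v x fun i => hx i v hv
  have hy0 : ly Z + cy ≠ 0 := (hloc v₁ (Finset.mem_insert_self _ _)).1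
  refine ⟨(lx Z + cx) / (ly Z + cy), fun v hv => ?_, fun w hw => hOi' w hw x fun i => hxi i w, fun i W hW => ?_⟩
  · have := (hloc v (Finset.mem_insert_of_mem (Finset.mem_union_left _ (Finset.mem_union_left _ hv)))).2
    simpa only [U, if_pos hv] using this
  let v : HeightOneSpectrum (𝓞 k) :=
    ⟨W.asIdeal.under (𝓞 k), W.isPrime.under (𝓞 k), Ideal.under_ne_bot (𝓞 k) W.ne_bot⟩
  have hWv : W.asIdeal.LiesOver v.asIdeal := ⟨rfl⟩
  by_cases hvf : v ∈ Sf
  · exact Or.inl ⟨v, hvf, hWv⟩
  right
  by_cases hv0 : v = v₀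
  · exact hsplit i W (hv0 ▸ hWv)
  set t₀ := (lx Z + cx) / (ly Z + cy) with ht₀
  by_cases hvS : v ∈ S
  · exfalso
    have h : 1 < ‖algebraMap k (v.adicCompletion k) t₀ * algebraMap k (v.adicCompletion k) (p v)‖ := by
      have := (hloc v hvS).2
      simp only [U, if_neg hvf, Set.mem_ofPred_eq] at this
      exact this
    have ht0 : t₀ ≠ 0 := by
      intro h0
      rw [h0, map_zero, zero_mul, norm_zero] at h
      exact absurd h (not_lt.2 zero_le_one)
    set q := (t₀ * p v)⁻¹ with hqdef
    have hq : v.valuation k q < 1 := by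
      rw [← norm_algebraMap_lt_one_iff, map_inv₀, norm_inv, map_mul]
      exact inv_lt_one_of_one_lt₀ h
    set T := algebraMap k (kf i) t₀ with hTdef
    have hT0 : W.valuation (kf i) T ≠ 0 := (Valuation.ne_zero_iff _).2 ((_root_.map_ne_zero _).2 ht0)
    have hqW := valuation_map_lt_one v W hWv q hq
    have hlt : W.valuation (kf i) (a i) < W.valuation (kf i) T := by
      have : a i = T * (algebraMap k (kf i) q * (algebraMap k (kf i) (p v) * a i)) := by
        have hq1 : t₀ * q * p v = 1 := by simp only [hqdef]; field_simp [hp0 v]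
        rw [hTdef, ← mul_assoc, ← mul_assoc, ← map_mul, ← map_mul, hq1, map_one, one_mul]
      rw [this, map_mul, map_mul]
      exact mul_lt_of_lt_one_right (zero_lt_iff.2 hT0) (lt_of_le_of_lt (mul_le_of_le_one_right' (hpa v i W)) hqW)
    rw [(W.valuation (kf i)).map_sub_eq_of_lt_left hlt] at hW
    have h1 : W.valuation (kf i) T * W.valuation (kf i) (algebraMap k (kf i) q * algebraMap k (kf i) (p v)) = 1 := by
      have hq1 : t₀ * (q * p v) = 1 := by simp only [hqdef]; field_simp [hp0 v]
      rw [← map_mul, hTdef, ← map_mul, ← map_mul, hq1, map_one, map_one]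
    have h2 : W.valuation (kf i) (algebraMap k (kf i) q * algebraMap k (kf i) (p v)) < 1 := by
      rw [map_mul]
      exact lt_of_le_of_lt (mul_le_of_le_one_right' (valuation_map_le_one v W hWv _ (hp1 v).le)) hqW
    exact (lt_irrefl _) (h1 ▸ lt_of_le_of_lt (mul_le_of_le_one_left' hW.le) h2)
  have hN : Ntot ∉ v.asIdeal := fun h => hvS (Finset.mem_insert_of_mem
    (Finset.mem_union_left _ (Finset.mem_union_right _ ((finite_dvd Ntot hNtot).mem_toFinset.2 h))))
  have hmem : ∀ j, Nb j ∉ v.asIdeal ∧ Nc j ∉ v.asIdeal := fun j => by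
    have hj : ∀ z, z ∣ Na j * Nb j * Nc j → z ∉ v.asIdeal := fun z hz h =>
      hN (Ideal.mem_of_dvd _ ((hz.trans (Finset.dvd_prod_of_mem (fun i => Na i * Nb i * Nc i) (Finset.mem_univ j))).trans (dvd_mul_left _ _)) h)
    exact ⟨hj _ ((dvd_mul_left _ _).trans (dvd_mul_right _ _)), hj _ (dvd_mul_left _ _)⟩
  have hcy : IsIntegral (v.valuation k).valuationSubring cy :=
    hNy' v fun h => hN (v.asIdeal.mul_mem_right _ h)
  have hyint : IsIntegral (v.valuation k).valuationSubring (ly Z + cy) := by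
    refine IsIntegral.add ?_ hcy
    rw [sum_single ly Z]
    refine IsIntegral.sum _ fun j _ => ?_
    rw [hcl j]
    refine Algebra.isIntegral_trace ((hNc' j v (hmem j).2).mul ?_)
    simp only [hZ]
    rw [div_eq_mul_inv]
    exact (hxout j v hv0 hvS).1.mul (hNb' j v (hmem j).1)
  have hyv : v.valuation k (ly Z + cy) ≤ 1 := by
    obtain ⟨z, hz⟩ := IsIntegrallyClosed.isIntegral_iff.1 hyint
    rw [← hz]; exact z.2
  have hb1 : W.valuation (kf i) (b i) = 1 := not_not.1 fun h => by
    obtain ⟨v', hv', hW'⟩ := hSb i W h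
    exact hvf (HeightOneSpectrum.ext (hW'.over.trans hWv.over.symm) ▸ hv')
  refine (hxout i v hv0 hvS).2 W hWv ?_
  have hu : Algebra.norm (kf i) (x i) = b i * algebraMap k (kf i) (ly Z + cy) * (algebraMap k (kf i) t₀ - a i) := by
    have hZi : Algebra.norm (kf i) (x i) = b i * Z i := by rw [hZ, mul_div_cancel₀ _ (hb i)]
    rw [hZi, hP Z i, mul_assoc, mul_sub (algebraMap k (kf i) (ly Z + cy)), ← map_mul, ht₀, mul_div_cancel₀ _ hy0]
  rw [hu, map_mul, map_mul, hb1, one_mul]
  exact lt_of_le_of_lt (mul_le_of_le_one_left' (valuation_map_le_one v W hWv _ hyv)) hW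

end Groth.Agent.S19285
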