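import Groth.Statements.S19286
import Groth.Agent.H24.UnitNorm

set_option autoImplicit false
universe u
open scoped TensorProduct
open NumberField

namespace Groth.Agent.S19286

open NumberField IsDedekindDomain
open scoped NumberField TensorProduct Valued

lemma ring_identity {B : Type*} [CommRing B] (T A b α β γ δ di ai : B) (hdi : di * (γ * T + δ) = 1)
    (hai : ai * (γ * A + δ) = 1) :
    b * (T - A) * ((α * δ - β * γ) * di) =
      b * (γ * A + δ) * ((α * T + β) * di - (α * A + β) * ai) := by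
  linear_combination (-(b * (α * A + β))) * hdi + (b * (α * A + β)) * hai

lemma tensor_identity {k C K : Type*} [Field k] [Field C] [Field K] [Algebra k C] [Algebra k K]
    (α β γ δ : k) (t : C) (a b : K) (hd : algebraMap k C γ * t + algebraMap k C δ ≠ 0)
    (hg : algebraMap k K γ * a + algebraMap k K δ ≠ 0) :
    (1 : C) ⊗ₜ[k] b * (t ⊗ₜ[k] (1 : K) - (1 : C) ⊗ₜ[k] a) *
      ((algebraMap k C (α * δ - β * γ) / (algebraMap k C γ * t + algebraMap k C δ)) ⊗ₜ[k] (1 : K)) =
    (1 : C) ⊗ₜ[k] (b * (algebraMap k K γ * a + algebraMap k K δ)) *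
      (((algebraMap k C α * t + algebraMap k C β) / (algebraMap k C γ * t + algebraMap k C δ)) ⊗ₜ[k] (1 : K) -
        (1 : C) ⊗ₜ[k] ((algebraMap k K α * a + algebraMap k K β) / (algebraMap k K γ * a + algebraMap k K δ))) := by
  let f : C →+* C ⊗[k] K := Algebra.TensorProduct.includeLeftRingHom
  let g : K →+* C ⊗[k] K := (Algebra.TensorProduct.includeRight : K →ₐ[k] C ⊗[k] K).toRingHom
  have hf : ∀ x : k, f (algebraMap k C x) = algebraMap k (C ⊗[k] K) x := fun x => rfl
  have hg' : ∀ x : k, g (algebraMap k K x) = algebraMap k (C ⊗[k] K) x := fun x =>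
    (Algebra.TensorProduct.includeRight : K →ₐ[k] C ⊗[k] K).commutes x
  change g b * (f t - g a) * f _ = g _ * (f _ - g _)
  simp only [div_eq_mul_inv, map_mul, map_add, map_sub, hf, hg']
  refine ring_identity _ _ _ _ _ _ _ _ _ ?_ ?_
  · rw [← hf, ← hf, ← map_mul, ← map_add, ← map_mul, inv_mul_cancel₀ hd, map_one]
  · rw [← hg', ← hg', ← map_mul, ← map_add, ← map_mul, inv_mul_cancel₀ hg, map_one]

lemma norm_change {k C K L : Type*} [Field k] [Field C] [Field K] [Field L] [Algebra k C] [Algebra k K]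
    [Algebra K L] [Algebra k L] [IsScalarTower k K L] (α β γ δ : k) (t t' : C) (a a' b b' : K)
    (hd : algebraMap k C γ * t + algebraMap k C δ ≠ 0)
    (hg : algebraMap k K γ * a + algebraMap k K δ ≠ 0)
    (ht' : t' = (algebraMap k C α * t + algebraMap k C β) / (algebraMap k C γ * t + algebraMap k C δ))
    (ha' : a' = (algebraMap k K α * a + algebraMap k K β) / (algebraMap k K γ * a + algebraMap k K δ))
    (hb' : b' = b * (algebraMap k K γ * a + algebraMap k K δ))
    (h1 : letI := (Algebra.TensorProduct.map (AlgHom.id k C)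
        (IsScalarTower.toAlgHom k K L)).toRingHom.toAlgebra
      ∃ x : C ⊗[k] L, IsUnit x ∧ Algebra.norm (C ⊗[k] K) x =
          (1 : C) ⊗ₜ[k] b * (t ⊗ₜ[k] (1 : K) - (1 : C) ⊗ₜ[k] a))
    (h2 : letI := (Algebra.TensorProduct.map (AlgHom.id k C)
        (IsScalarTower.toAlgHom k K L)).toRingHom.toAlgebra
      ∃ y : C ⊗[k] L, IsUnit y ∧ Algebra.norm (C ⊗[k] K) y =
          (algebraMap k C (α * δ - β * γ) / (algebraMap k C γ * t + algebraMap k C δ)) ⊗ₜ[k] (1 : K)) :
    letI := (Algebra.TensorProduct.map (AlgHom.id k C)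
        (IsScalarTower.toAlgHom k K L)).toRingHom.toAlgebra
      ∃ x : C ⊗[k] L, IsUnit x ∧ Algebra.norm (C ⊗[k] K) x =
          (1 : C) ⊗ₜ[k] b' * (t' ⊗ₜ[k] (1 : K) - (1 : C) ⊗ₜ[k] a') := by
  let := (Algebra.TensorProduct.map (AlgHom.id k C) (IsScalarTower.toAlgHom k K L)).toRingHom.toAlgebra
  obtain ⟨x, hx, hx'⟩ := h1
  obtain ⟨y, hy, hy'⟩ := h2
  refine ⟨x * y, hx.mul hy, ?_⟩
  rw [map_mul, hx', hy', ht', ha', hb', tensor_identity α β γ δ t a b hd hg]

lemma exists_preimage_nhd {k C : Type*} [Field k] [Field C] [Algebra k C] [TopologicalSpace C]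
    [IsTopologicalDivisionRing C] (α β γ δ : k) (hdet : α * δ - β * γ ≠ 0) (t t' : C)
    (hd : algebraMap k C γ * t + algebraMap k C δ ≠ 0)
    (ht' : t' = (algebraMap k C α * t + algebraMap k C β) / (algebraMap k C γ * t + algebraMap k C δ))
    (U : Set C) (hU : IsOpen U) (ht : t ∈ U) :
    ∃ U' : Set C, IsOpen U' ∧ t' ∈ U' ∧ ∀ t₀ : k, α ≠ γ * t₀ → algebraMap k C t₀ ∈ U' →
      algebraMap k C ((δ * t₀ - β) / (α - γ * t₀)) ∈ U := by
  set d := algebraMap k C γ * t + algebraMap k C δ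
  have hD : algebraMap k C (α * δ - β * γ) ≠ 0 := (map_ne_zero _).2 hdet
  have h2 : algebraMap k C α - algebraMap k C γ * t' = algebraMap k C (α * δ - β * γ) / d := by
    rw [eq_div_iff hd, sub_mul, ht', mul_assoc, div_mul_cancel₀ _ hd, map_sub, map_mul, map_mul]
    simp only [d]; ring
  have h1 : algebraMap k C δ * t' - algebraMap k C β = algebraMap k C (α * δ - β * γ) / d * t := by
    rw [div_mul_eq_mul_div, eq_div_iff hd, sub_mul, ht', mul_assoc, div_mul_cancel₀ _ hd, map_sub,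
      map_mul, map_mul]
    simp only [d]; ring
  let g : C → C := fun s => (algebraMap k C δ * s - algebraMap k C β) / (algebraMap k C α - algebraMap k C γ * s)
  have hne : algebraMap k C α - algebraMap k C γ * t' ≠ 0 := h2 ▸ div_ne_zero hD hd
  have hg : ContinuousAt g t' := ContinuousAt.div₀ (by fun_prop) (by fun_prop) hne
  have hgt : g t' = t := by
    show _ / _ = _
    rw [h1, h2, mul_comm, mul_div_assoc, div_self (div_ne_zero hD hd), mul_one]
  obtain ⟨U', hU'U, hU'o, hU't⟩ := mem_nhds_iff.1 (hg.preimage_mem_nhds (hU.mem_nhds (hgt.symm ▸ ht)))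
  refine ⟨U', hU'o, hU't, fun t₀ _ h => ?_⟩
  have := hU'U h
  simp only [Set.mem_preimage, g] at this
  simpa [map_div₀] using this

lemma valuation_algebraMap_le_one {k K : Type*} [Field k] [NumberField k] [Field K] [NumberField K]
    [Algebra k K] (v : HeightOneSpectrum (𝓞 k)) (W : HeightOneSpectrum (𝓞 K))
    [hW : W.asIdeal.LiesOver v.asIdeal] (x : k) (hx : v.valuation k x ≤ 1) :
    W.valuation K (algebraMap k K x) ≤ 1 := by
  obtain ⟨n, ⟨d, hd⟩, hnd⟩ := HeightOneSpectrum.exists_primeCompl_mul_eq_of_integer v x hx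
  have h := congrArg (algebraMap k K) hnd
  rw [map_mul, ← IsScalarTower.algebraMap_apply (𝓞 k) k K, ← IsScalarTower.algebraMap_apply (𝓞 k) k K,
    IsScalarTower.algebraMap_apply (𝓞 k) (𝓞 K) K, IsScalarTower.algebraMap_apply (𝓞 k) (𝓞 K) K] at h
  have h' := congrArg (W.valuation K) h
  rw [map_mul, W.valuation_eq_one_iff_notMem.2 (fun hm => hd ((Ideal.mem_of_liesOver W.asIdeal v.asIdeal _).2 hm)),
    mul_one] at h'
  exact h' ▸ W.valuation_le_one _

lemma valuation_algebraMap_eq_one {k K : Type*} [Field k] [NumberField k] [Field K] [NumberField K]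
    [Algebra k K] (v : HeightOneSpectrum (𝓞 k)) (W : HeightOneSpectrum (𝓞 K))
    [hW : W.asIdeal.LiesOver v.asIdeal] (x : k) (hx : v.valuation k x = 1) :
    W.valuation K (algebraMap k K x) = 1 := by
  refine le_antisymm (valuation_algebraMap_le_one v W x hx.le) ?_
  have h := valuation_algebraMap_le_one v W x⁻¹ (by rw [map_inv₀, hx, inv_one])
  have hx0 : x ≠ 0 := by rintro rfl; simp at hx
  have h1 : W.valuation K (algebraMap k K x) * W.valuation K (algebraMap k K x⁻¹) = 1 := by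
    rw [← map_mul, ← map_mul, mul_inv_cancel₀ hx0, map_one, map_one]
  calc (1 : _) = W.valuation K (algebraMap k K x) * W.valuation K (algebraMap k K x⁻¹) := h1.symm
    _ ≤ W.valuation K (algebraMap k K x) := mul_le_of_le_one_right' h

/-- Invariance, under a linear change of coordinate on the projective line, of the hypotheses (the data
listed next) of a conjecture on locally split values. Data: k a number field, n ≥ 1, k_i = k(a_i)
with pairwise distinct minimal polynomials, L_i/k_i finite, b_i ∈ k_i nonzero, finite sets S_f ⊇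
(finite places below a non-unit place of some b_i or a ramified prime of some L_i/k_i), S_∞ ⊇ real
places, t_v ∈ k_v for v ∈ S_f ∪ S_∞ with b_i(t_v − a_i) the norm of a unit of k_v ⊗_k L_i over k_v
⊗_k k_i. Let α, β, γ, δ ∈ k with αδ − βγ ≠ 0 satisfy: (i) γa_i + δ ≠ 0 for all i and γt_v + δ ≠ 0
for v ∈ S_f ∪ S_∞; (ii) α is a unit at every finite place outside S_f and αa_i + β is a unit at
every finite place of k_i not above S_f; (iii) for every i and v ∈ S_f ∪ S_∞, (αδ − βγ)/(γt_v + δ)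
is the norm of a unit of k_v ⊗_k L_i. Put a'_i = (αa_i + β)/(γa_i + δ), b'_i = b_i(γa_i + δ); let
S'_f ⊇ S_f be a finite set of finite places containing those where α or γ is not integral and those
below a place of some k_i where a'_i is not integral or b'_i is not a unit; put t'_v = (αt_v +
β)/(γt_v + δ) for v ∈ S_f ∪ S_∞ and t'_v = 0 for v ∈ S'_f ∖ S_f; for t'_0 ∈ k with α ≠ γt'_0 write
t_0 = (δt'_0 − β)/(α − γt'_0). Then: (1) for every i and v ∈ S'_f ∪ S_∞, b'_i(t'_v − a'_i) is the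
norm of a unit of k_v ⊗_k L_i over k_v ⊗_k k_i; (2) for v ∈ S_f ∪ S_∞ and every neighbourhood U of
t_v there is a neighbourhood U' of t'_v such that t'_0 ∈ U' forces t_0 ∈ U; (4) there are
neighbourhoods U'_v of 0 in k_v for v ∈ S'_f ∖ S_f such that whenever t'_0 ∈ U'_v for all such v,
every finite place w of some k_i with w(t_0 − a_i) > 0 either lies above S_f, or does not lie above
S'_f and satisfies w(t'_0 − a'_i) > 0. (The published statement's S' may also contain further
infinite places, and it has a further conclusion on signs at real places; both are omitted here.) -/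
theorem result (k : Type u) [Field k] [NumberField k]
    (n : ℕ) (hn : 1 ≤ n)
    (kf : Fin n → Type u) [∀ i, Field (kf i)] [∀ i, NumberField (kf i)] [∀ i, Algebra k (kf i)]
    (Lf : Fin n → Type u) [∀ i, Field (Lf i)] [∀ i, NumberField (Lf i)] [∀ i, Algebra (kf i) (Lf i)]
    [∀ i, Algebra k (Lf i)] [∀ i, IsScalarTower k (kf i) (Lf i)]
    (a : (i : Fin n) → kf i) (ha : ∀ i, IntermediateField.adjoin k {a i} = ⊤)
    (hdist : ∀ i j, i ≠ j → minpoly k (a i) ≠ minpoly k (a j))
    (b : (i : Fin n) → kf i) (hb : ∀ i, b i ≠ 0)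
    (Sf : Finset (IsDedekindDomain.HeightOneSpectrum (NumberField.RingOfIntegers k)))
    (Si : Finset (NumberField.InfinitePlace k))
    (hSreal : ∀ w : NumberField.InfinitePlace k, w.IsReal → w ∈ Si)
    (hSb : ∀ i, ∀ W : IsDedekindDomain.HeightOneSpectrum (NumberField.RingOfIntegers (kf i)),
      W.valuation (kf i) (b i) ≠ 1 → ∃ v ∈ Sf, W.asIdeal.LiesOver v.asIdeal)
    (hSram : ∀ i, ∀ Q : Ideal (NumberField.RingOfIntegers (Lf i)), Q.IsPrime → Q ≠ ⊥ →
      Q.ramificationIdx (NumberField.RingOfIntegers (kf i)) ≠ 1 → ∃ v ∈ Sf, Q.LiesOver v.asIdeal)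
    (tf : (v : IsDedekindDomain.HeightOneSpectrum (NumberField.RingOfIntegers k)) → v.adicCompletion k)
    (ti : (w : NumberField.InfinitePlace k) → w.Completion)
    (htf : ∀ i, ∀ v ∈ Sf,
      letI := (Algebra.TensorProduct.map (AlgHom.id k (v.adicCompletion k))
        (IsScalarTower.toAlgHom k (kf i) (Lf i))).toRingHom.toAlgebra
      ∃ x : (v.adicCompletion k) ⊗[k] Lf i, IsUnit x ∧
        Algebra.norm ((v.adicCompletion k) ⊗[k] kf i) x =
          (1 : v.adicCompletion k) ⊗ₜ[k] b i * (tf v ⊗ₜ[k] (1 : kf i) - (1 : v.adicCompletion k) ⊗ₜ[k] a i))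
    (hti : ∀ i, ∀ w ∈ Si,
      letI := (Algebra.TensorProduct.map (AlgHom.id k w.Completion)
        (IsScalarTower.toAlgHom k (kf i) (Lf i))).toRingHom.toAlgebra
      ∃ x : w.Completion ⊗[k] Lf i, IsUnit x ∧
        Algebra.norm (w.Completion ⊗[k] kf i) x =
          (1 : w.Completion) ⊗ₜ[k] b i * (ti w ⊗ₜ[k] (1 : kf i) - (1 : w.Completion) ⊗ₜ[k] a i))
    (α β γ δ : k) (hdet : α * δ - β * γ ≠ 0)
    (hia : ∀ i, algebraMap k (kf i) γ * a i + algebraMap k (kf i) δ ≠ 0)
    (hitf : ∀ v ∈ Sf, algebraMap k (v.adicCompletion k) γ * tf v + algebraMap k (v.adicCompletion k) δ ≠ 0)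
    (hiti : ∀ w ∈ Si, algebraMap k w.Completion γ * ti w + algebraMap k w.Completion δ ≠ 0)
    (hiiα : ∀ v : IsDedekindDomain.HeightOneSpectrum (NumberField.RingOfIntegers k), v ∉ Sf → v.valuation k α = 1)
    (hiia : ∀ i, ∀ W : IsDedekindDomain.HeightOneSpectrum (NumberField.RingOfIntegers (kf i)),
      (¬ ∃ v ∈ Sf, W.asIdeal.LiesOver v.asIdeal) →
        W.valuation (kf i) (algebraMap k (kf i) α * a i + algebraMap k (kf i) β) = 1)
    (hiiif : ∀ i, ∀ v ∈ Sf,
      letI := (Algebra.TensorProduct.map (AlgHom.id k (v.adicCompletion k))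
        (IsScalarTower.toAlgHom k (kf i) (Lf i))).toRingHom.toAlgebra
      ∃ y : (v.adicCompletion k) ⊗[k] Lf i, IsUnit y ∧
        Algebra.norm ((v.adicCompletion k) ⊗[k] kf i) y =
          (algebraMap k (v.adicCompletion k) (α * δ - β * γ) /
            (algebraMap k (v.adicCompletion k) γ * tf v + algebraMap k (v.adicCompletion k) δ)) ⊗ₜ[k] (1 : kf i))
    (hiiii : ∀ i, ∀ w ∈ Si,
      letI := (Algebra.TensorProduct.map (AlgHom.id k w.Completion)
        (IsScalarTower.toAlgHom k (kf i) (Lf i))).toRingHom.toAlgebra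
      ∃ y : w.Completion ⊗[k] Lf i, IsUnit y ∧
        Algebra.norm (w.Completion ⊗[k] kf i) y =
          (algebraMap k w.Completion (α * δ - β * γ) /
            (algebraMap k w.Completion γ * ti w + algebraMap k w.Completion δ)) ⊗ₜ[k] (1 : kf i))
    (a' b' : (i : Fin n) → kf i)
    (ha' : ∀ i, a' i = (algebraMap k (kf i) α * a i + algebraMap k (kf i) β) /
      (algebraMap k (kf i) γ * a i + algebraMap k (kf i) δ))
    (hb' : ∀ i, b' i = b i * (algebraMap k (kf i) γ * a i + algebraMap k (kf i) δ))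
    (Sf' : Finset (IsDedekindDomain.HeightOneSpectrum (NumberField.RingOfIntegers k))) (hSS' : Sf ⊆ Sf')
    (hS'αγ : ∀ v : IsDedekindDomain.HeightOneSpectrum (NumberField.RingOfIntegers k), v ∉ Sf' →
      v.valuation k α ≤ 1 ∧ v.valuation k γ ≤ 1)
    (hS'ab : ∀ i, ∀ W : IsDedekindDomain.HeightOneSpectrum (NumberField.RingOfIntegers (kf i)),
      (¬ ∃ v ∈ Sf', W.asIdeal.LiesOver v.asIdeal) → W.valuation (kf i) (a' i) ≤ 1 ∧ W.valuation (kf i) (b' i) = 1)
    (tf' : (v : IsDedekindDomain.HeightOneSpectrum (NumberField.RingOfIntegers k)) → v.adicCompletion k)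
    (htf'S : ∀ v ∈ Sf, tf' v = (algebraMap k (v.adicCompletion k) α * tf v + algebraMap k (v.adicCompletion k) β) /
      (algebraMap k (v.adicCompletion k) γ * tf v + algebraMap k (v.adicCompletion k) δ))
    (htf'S' : ∀ v ∈ Sf', v ∉ Sf → tf' v = 0)
    (ti' : (w : NumberField.InfinitePlace k) → w.Completion)
    (hti' : ∀ w ∈ Si, ti' w = (algebraMap k w.Completion α * ti w + algebraMap k w.Completion β) /
      (algebraMap k w.Completion γ * ti w + algebraMap k w.Completion δ)) :
    (∀ i, ∀ v ∈ Sf',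
      letI := (Algebra.TensorProduct.map (AlgHom.id k (v.adicCompletion k))
        (IsScalarTower.toAlgHom k (kf i) (Lf i))).toRingHom.toAlgebra
      ∃ x : (v.adicCompletion k) ⊗[k] Lf i, IsUnit x ∧
        Algebra.norm ((v.adicCompletion k) ⊗[k] kf i) x =
          (1 : v.adicCompletion k) ⊗ₜ[k] b' i * (tf' v ⊗ₜ[k] (1 : kf i) - (1 : v.adicCompletion k) ⊗ₜ[k] a' i)) ∧
    (∀ i, ∀ w ∈ Si,
      letI := (Algebra.TensorProduct.map (AlgHom.id k w.Completion)
        (IsScalarTower.toAlgHom k (kf i) (Lf i))).toRingHom.toAlgebra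
      ∃ x : w.Completion ⊗[k] Lf i, IsUnit x ∧
        Algebra.norm (w.Completion ⊗[k] kf i) x =
          (1 : w.Completion) ⊗ₜ[k] b' i * (ti' w ⊗ₜ[k] (1 : kf i) - (1 : w.Completion) ⊗ₜ[k] a' i)) ∧
    (∀ v ∈ Sf, ∀ U : Set (v.adicCompletion k), IsOpen U → tf v ∈ U →
      ∃ U' : Set (v.adicCompletion k), IsOpen U' ∧ tf' v ∈ U' ∧
        ∀ t₀' : k, α ≠ γ * t₀' → algebraMap k (v.adicCompletion k) t₀' ∈ U' →
          algebraMap k (v.adicCompletion k) ((δ * t₀' - β) / (α - γ * t₀')) ∈ U) ∧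
    (∀ w ∈ Si, ∀ U : Set w.Completion, IsOpen U → ti w ∈ U →
      ∃ U' : Set w.Completion, IsOpen U' ∧ ti' w ∈ U' ∧
        ∀ t₀' : k, α ≠ γ * t₀' → algebraMap k w.Completion t₀' ∈ U' →
          algebraMap k w.Completion ((δ * t₀' - β) / (α - γ * t₀')) ∈ U) ∧
    (∃ U' : (v : IsDedekindDomain.HeightOneSpectrum (NumberField.RingOfIntegers k)) → Set (v.adicCompletion k),
      (∀ v ∈ Sf', v ∉ Sf → IsOpen (U' v) ∧ (0 : v.adicCompletion k) ∈ U' v) ∧
      ∀ t₀' : k, α ≠ γ * t₀' → (∀ v ∈ Sf', v ∉ Sf → algebraMap k (v.adicCompletion k) t₀' ∈ U' v) →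
        ∀ i, ∀ W : IsDedekindDomain.HeightOneSpectrum (NumberField.RingOfIntegers (kf i)),
          W.valuation (kf i) (algebraMap k (kf i) ((δ * t₀' - β) / (α - γ * t₀')) - a i) < 1 →
            (∃ v ∈ Sf, W.asIdeal.LiesOver v.asIdeal) ∨
            ((¬ ∃ v ∈ Sf', W.asIdeal.LiesOver v.asIdeal) ∧
              W.valuation (kf i) (algebraMap k (kf i) t₀' - a' i) < 1)) := by
  classical
  have over_eq : ∀ i, ∀ W : Ideal (𝓞 (kf i)), ∀ v v₁ : HeightOneSpectrum (𝓞 k),
      W.LiesOver v.asIdeal → W.LiesOver v₁.asIdeal → v₁ = v := fun i W v v₁ h h₁ =>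
    HeightOneSpectrum.ext (h₁.over.trans h.over.symm)
  have hnotSf : ∀ i, ∀ W : HeightOneSpectrum (𝓞 (kf i)), ∀ v, v ∉ Sf → W.asIdeal.LiesOver v.asIdeal →
      ¬ ∃ v₁ ∈ Sf, W.asIdeal.LiesOver v₁.asIdeal := by
    rintro i W v hv hW ⟨v₁, hv₁, hW₁⟩
    exact hv (over_eq i _ v v₁ hW hW₁ ▸ hv₁)
  refine ⟨fun i v hv => ?_, fun i w hw => ?_, fun v hv U hU ht => ?_, fun w hw U hU ht => ?_, ?_⟩
  · by_cases hvS : v ∈ Sf
    · exact norm_change α β γ δ _ _ _ _ _ _ (hitf v hvS) (hia i) (htf'S v hvS) (ha' i) (hb' i)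
        (htf i v hvS) (hiiif i v hvS)
    · have hc : ∀ W : HeightOneSpectrum (𝓞 (kf i)), W.asIdeal.LiesOver v.asIdeal →
          W.valuation (kf i) (-(b i * (algebraMap k (kf i) α * a i + algebraMap k (kf i) β))) = 1 := by
        intro W hW
        rw [Valuation.map_neg, map_mul, hiia i W (hnotSf i W v hvS hW), mul_one]
        exact not_not.1 fun h => hnotSf i W v hvS hW (hSb i W h)
      have hne : algebraMap k (kf i) α * a i + algebraMap k (kf i) β ≠ 0 := by
        obtain ⟨Q, hQ, hQv⟩ := Ideal.exists_maximal_ideal_liesOver_of_isIntegral (S := 𝓞 (kf i)) v.asIdeal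
        let W : HeightOneSpectrum (𝓞 (kf i)) := ⟨Q, hQ.isPrime, Ideal.ne_bot_of_liesOver_of_ne_bot v.ne_bot Q⟩
        intro h0
        have h1 := hiia i W (hnotSf i W v hvS hQv)
        rw [h0, map_zero] at h1
        exact zero_ne_one h1
      have hram : ∀ Q : Ideal (𝓞 (Lf i)), Q.IsPrime → Q.LiesOver v.asIdeal →
          Q.ramificationIdx (𝓞 (kf i)) = 1 := fun Q hQ hQv => not_not.1 fun h => by
        obtain ⟨v₁, hv₁, h₁⟩ := hSram i Q hQ (Ideal.ne_bot_of_liesOver_of_ne_bot v.ne_bot Q) h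
        exact hvS (HeightOneSpectrum.ext (h₁.over.trans hQv.over.symm) ▸ hv₁)
      have := Groth.Agent.H24.UnitNorm.exists_unit_norm (L := Lf i) v _ (neg_ne_zero.2 (mul_ne_zero (hb i) hne)) hc hram
      have heq : (1 : v.adicCompletion k) ⊗ₜ[k] b' i *
          (tf' v ⊗ₜ[k] (1 : kf i) - (1 : v.adicCompletion k) ⊗ₜ[k] a' i) =
          (1 : v.adicCompletion k) ⊗ₜ[k] (-(b i * (algebraMap k (kf i) α * a i + algebraMap k (kf i) β))) := by
        rw [htf'S' v hv hvS, TensorProduct.zero_tmul, zero_sub, mul_neg, Algebra.TensorProduct.tmul_mul_tmul,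
          one_mul, ← TensorProduct.tmul_neg, hb' i, ha' i, mul_assoc, mul_div_cancel₀ _ (hia i)]
      rw [heq]
      exact this
  · exact norm_change α β γ δ _ _ _ _ _ _ (hiti w hw) (hia i) (hti' w hw) (ha' i) (hb' i)
      (hti i w hw) (hiiii i w hw)
  · exact exists_preimage_nhd α β γ δ hdet _ _ (hitf v hv) (htf'S v hv) U hU ht
  · exact exists_preimage_nhd α β γ δ hdet _ _ (hiti w hw) (hti' w hw) U hU ht
  · choose y hy0 hy using fun i => exists_integral_multiples (𝓞 k) k
      ({algebraMap k (kf i) γ * a i + algebraMap k (kf i) δ} : Finset (kf i))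
    obtain ⟨yγ, hyγ0, hyγ⟩ := exists_integral_multiples (𝓞 k) k ({γ} : Finset k)
    choose π hπ hπ0 using fun v : HeightOneSpectrum (𝓞 k) => Submodule.exists_mem_ne_zero_of_ne_bot v.ne_bot
    let r : HeightOneSpectrum (𝓞 k) → 𝓞 k := fun v => π v * yγ * ∏ i, y i
    have hr0 : ∀ v, algebraMap (𝓞 k) k (r v) ≠ 0 := fun v => by
      simp only [ne_eq, FaithfulSMul.algebraMap_eq_zero_iff, r]
      exact mul_ne_zero (mul_ne_zero (hπ0 v) hyγ0) (Finset.prod_ne_zero_iff.2 fun i _ => hy0 i)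
    refine ⟨fun v => {x | ‖x‖ < ‖algebraMap k (v.adicCompletion k) (algebraMap (𝓞 k) k (r v))‖},
      fun v _ _ => ⟨isOpen_lt continuous_norm continuous_const, ?_⟩, ?_⟩
    · show ‖(0 : v.adicCompletion k)‖ < _
      rw [norm_zero]
      exact norm_pos_iff.2 ((map_ne_zero _).2 (hr0 v))
    intro t₀ hαγ hU i W hW
    by_cases hS : ∃ v ∈ Sf, W.asIdeal.LiesOver v.asIdeal
    · exact Or.inl hS
    right
    set g := algebraMap k (kf i) γ * a i + algebraMap k (kf i) δ with hg
    set e := algebraMap k (kf i) α * a i + algebraMap k (kf i) β with he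
    set T := algebraMap k (kf i) t₀
    set den := algebraMap k (kf i) α - algebraMap k (kf i) γ * T with hden
    have hden0 : den ≠ 0 := by
      rw [hden, ← map_mul, ← map_sub]
      exact (map_ne_zero _).2 (sub_ne_zero.2 hαγ)
    have hsub : algebraMap k (kf i) ((δ * t₀ - β) / (α - γ * t₀)) - a i = (g * T - e) / den := by
      rw [map_div₀, map_sub, map_sub, map_mul, map_mul, eq_div_iff hden0, sub_mul, hden,
        div_mul_cancel₀ _ hden0, hg, he]
      ring
    rw [hsub, map_div₀] at hW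
    let v : HeightOneSpectrum (𝓞 k) :=
      ⟨W.asIdeal.under (𝓞 k), W.isPrime.under (𝓞 k), Ideal.under_ne_bot (𝓞 k) W.ne_bot⟩
    have hWv : W.asIdeal.LiesOver v.asIdeal := ⟨rfl⟩
    have hvS : v ∉ Sf := fun h => hS ⟨v, h, hWv⟩
    have hα1 := valuation_algebraMap_eq_one v W α (hiiα v hvS)
    have he1 : W.valuation (kf i) e = 1 := hiia i W hS
    have hvS' : v ∉ Sf' := by
      intro hv'
      have hlt : ‖algebraMap k (v.adicCompletion k) t₀‖ <
          ‖algebraMap k (v.adicCompletion k) (algebraMap (𝓞 k) k (r v))‖ := hU v hv' hvS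
      set q := t₀ / algebraMap (𝓞 k) k (r v)
      have hq : v.valuation k q ≤ 1 := by
        refine ((Lib.NFApprox.norm_algebraMap_lt_one_iff v q).1 ?_).le
        rw [map_div₀, norm_div, div_lt_one (norm_pos_iff.2 (by simpa using hr0 v))]
        exact hlt
      have hTq : T = algebraMap k (kf i) q * algebraMap (𝓞 k) (kf i) (r v) := by
        rw [IsScalarTower.algebraMap_apply (𝓞 k) k (kf i), ← map_mul, div_mul_cancel₀ _ (hr0 v)]
      have hπW : W.valuation (kf i) (algebraMap (𝓞 k) (kf i) (π v)) < 1 := by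
        rw [IsScalarTower.algebraMap_apply (𝓞 k) (𝓞 (kf i)) (kf i), W.valuation_lt_one_iff_mem]
        exact (Ideal.mem_of_liesOver W.asIdeal v.asIdeal _).1 (hπ v)
      have hint : ∀ x : kf i, IsIntegral (𝓞 k) x → W.valuation (kf i) x ≤ 1 := fun x hx => by
        obtain ⟨z, rfl⟩ : ∃ z : 𝓞 (kf i), algebraMap _ (kf i) z = x :=
          ⟨⟨x, isIntegral_trans (R := ℤ) (A := 𝓞 k) x hx⟩, rfl⟩
        exact W.valuation_le_one z
      have small : ∀ x : kf i, W.valuation (kf i)
          (x * (algebraMap (𝓞 k) (kf i) yγ * algebraMap (𝓞 k) (kf i) (∏ j, y j))) ≤ 1 →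
          W.valuation (kf i) (x * T) < 1 := fun x hx => by
        rw [hTq, show r v = π v * (yγ * ∏ j, y j) from mul_assoc _ _ _,
          map_mul (algebraMap (𝓞 k) (kf i)), map_mul (algebraMap (𝓞 k) (kf i)),
          show x * (algebraMap k (kf i) q * (algebraMap (𝓞 k) (kf i) (π v) *
            (algebraMap (𝓞 k) (kf i) yγ * algebraMap (𝓞 k) (kf i) (∏ j, y j)))) =
            algebraMap k (kf i) q * algebraMap (𝓞 k) (kf i) (π v) *
              (x * (algebraMap (𝓞 k) (kf i) yγ * algebraMap (𝓞 k) (kf i) (∏ j, y j))) by ring,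
          map_mul, map_mul]
        exact (mul_le_of_le_one_right' hx).trans_lt
          ((mul_le_of_le_one_left' (valuation_algebraMap_le_one v W q hq)).trans_lt hπW)
      have hgT : W.valuation (kf i) (g * T) < 1 := small g <| by
        rw [← Finset.mul_prod_erase _ _ (Finset.mem_univ i), map_mul (algebraMap (𝓞 k) (kf i)),
          show g * (algebraMap (𝓞 k) (kf i) yγ * (algebraMap (𝓞 k) (kf i) (y i) *
            algebraMap (𝓞 k) (kf i) (∏ j ∈ Finset.univ.erase i, y j))) =
            (y i • g) * algebraMap (𝓞 k) (kf i) (yγ * ∏ j ∈ Finset.univ.erase i, y j) by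
              rw [Algebra.smul_def, map_mul]; ring]
        exact hint _ ((hy i g (Finset.mem_singleton_self g)).mul isIntegral_algebraMap)
      have hγT : W.valuation (kf i) (algebraMap k (kf i) γ * T) < 1 := small _ <| by
        rw [show algebraMap k (kf i) γ * (algebraMap (𝓞 k) (kf i) yγ * algebraMap (𝓞 k) (kf i) (∏ j, y j)) =
            algebraMap k (kf i) (yγ • γ) * algebraMap (𝓞 k) (kf i) (∏ j, y j) by
              rw [Algebra.smul_def, map_mul, ← IsScalarTower.algebraMap_apply (𝓞 k) k (kf i)]; ring]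
        exact hint _ (((hyγ γ (Finset.mem_singleton_self γ)).algebraMap).mul isIntegral_algebraMap)
      rw [hden, Valuation.map_sub_swap, (W.valuation (kf i)).map_sub_eq_of_lt_left (he1.symm ▸ hgT), he1,
        (W.valuation (kf i)).map_sub_eq_of_lt_left (hα1.symm ▸ hγT), hα1, div_one] at hW
      exact lt_irrefl _ hW
    have hnS' : ¬ ∃ v₁ ∈ Sf', W.asIdeal.LiesOver v₁.asIdeal := fun ⟨v₁, h₁, hW₁⟩ =>
      hvS' (over_eq i _ v v₁ hWv hW₁ ▸ h₁)
    refine ⟨hnS', ?_⟩
    obtain ⟨ha1, hb1'⟩ := hS'ab i W hnS'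
    have hb1 : W.valuation (kf i) (b i) = 1 := not_not.1 fun h => hS (hSb i W h)
    have hg1 : W.valuation (kf i) g = 1 := by
      rw [hb' i, map_mul, hb1, one_mul] at hb1'
      exact hb1'
    have hnum : g * T - e = g * (T - a' i) := by
      rw [ha' i, mul_sub, mul_div_cancel₀ _ (hia i)]
    rw [hnum, map_mul, hg1, one_mul] at hW
    by_contra hge
    rw [not_lt] at hge
    have hT : W.valuation (kf i) T ≤ W.valuation (kf i) (T - a' i) := by
      calc W.valuation (kf i) T = W.valuation (kf i) ((T - a' i) + a' i) := by rw [sub_add_cancel]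
        _ ≤ _ := (W.valuation (kf i)).map_add_le le_rfl (ha1.trans hge)
    have hle : W.valuation (kf i) den ≤ W.valuation (kf i) (T - a' i) := by
      refine (W.valuation (kf i)).map_sub_le (hα1.le.trans hge) ?_
      rw [map_mul]
      exact (mul_le_of_le_one_left' (valuation_algebraMap_le_one v W γ (hS'αγ v hvS').2)).trans hT
    exact absurd hW (not_lt.2 ((one_le_div₀ (zero_lt_iff.2 ((Valuation.ne_zero_iff _).2 hden0))).2 hle))

end Groth.Agent.S19286
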