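import Groth.Statements.S19288
import Groth.Agent.Lib.FEt.Basic

set_option autoImplicit false
universe u
open CategoryTheory CategoryTheory.Limits MonoidalCategory CartesianMonoidalCategory MonObj AlgebraicGeometry
open AbSch

namespace Groth.Agent.S19288

/-- Let S be a scheme, X a commutative S-group scheme which is etale and separated over S (hence locally
of finite presentation), and P a commutative S-group scheme of finite presentation over S all of
whose fibres are connected. Then every homomorphism of S-group schemes from P to X is trivial (it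
factors through the unit section). -/
theorem result {S : Scheme.{u}} (P X : Over S)
    [GrpObj P] [IsCommMonObj P] [GrpObj X] [IsCommMonObj X]
    [Etale X.hom] [IsSeparated X.hom]
    [QuasiCompact P.hom] [QuasiSeparated P.hom] [LocallyOfFinitePresentation P.hom]
    (hP : ∀ s : S, ConnectedSpace ↥(P.hom.fiber s))
    (f : P ⟶ X) [IsMonHom f] : f = 1 := by
  have h : f.left ≫ X.hom = (1 : P ⟶ X).left ≫ X.hom := by simp
  have e : η[P] ≫ f = η[P] ≫ (1 : P ⟶ X) := by
    rw [IsMonHom.one_hom, MonObj.comp_one, MonObj.one_eq_one]
  apply Over.OverMorphism.ext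
  haveI : FormallyUnramified X.hom := inferInstance
  refine Lib.FEt.Basic.eq_of_eqSet_eq_univ X.hom _ _ h (Set.eq_univ_of_forall fun z => ?_)
  have hcl := Lib.FEt.Basic.isClopen_eqSet X.hom _ _ h
  have hF : _root_.IsPreconnected (P.hom ⁻¹' {P.hom z}) := by
    haveI := hP (P.hom z)
    rw [← P.hom.range_fiberι]
    exact isPreconnected_range (P.hom.fiberι (P.hom z)).continuous
  have e' : η[P].left ≫ f.left = η[P].left ≫ (1 : P ⟶ X).left := by
    rw [← Over.comp_left, e, Over.comp_left]
  refine hF.subset_isClopen hcl ⟨η[P].left (P.hom z), ?_,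
    Lib.FEt.Basic.mem_eqSet_of_agree X.hom _ _ h _ e' (P.hom z)⟩ rfl
  have hw : η[P].left ≫ P.hom = 𝟙 S := Over.w η[P]
  exact congr($hw (P.hom z))

end Groth.Agent.S19288
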