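import Groth.Statements.S19290
import Groth.Agent.H2.TorusHom.Main
import Groth.Agent.H87.HomDS

set_option autoImplicit false
universe u
open CategoryTheory CategoryTheory.Limits MonoidalCategory CartesianMonoidalCategory MonObj AlgebraicGeometry
open AbSch

namespace Groth.Agent.S19290

/-- Let S be a scheme, T an S-torus and A an abelian S-scheme (smooth, proper, with connected fibres).
Then the S-sheaf of homomorphisms from T to A is trivial: the internal Hom sheaf, on the big fppf
site of S, from the abelian sheaf of points of T to that of A is the zero sheaf. -/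
theorem result {S : Scheme.{u}} (T A : Over S)
    [GrpObj T] [IsCommMonObj T] (hT : Red.IsTorus T)
    [GrpObj A] [IsCommMonObj A] [Smooth A.hom] [IsProper A.hom]
    (hA : ∀ s : S, ConnectedSpace ↥(A.hom.fiber s)) :
    IsZero (HomSh.homSh (QuotSh.J Scheme.fppfPrecoverage S) (CGrpSh.pts Scheme.fppfPrecoverage T) (CGrpSh.pts Scheme.fppfPrecoverage A)) := by
  refine (IsZero.iff_id_eq_zero _).2 (Sheaf.hom_ext (NatTrans.ext (funext fun U => AddCommGrpCat.ext fun ψ => ?_)))
  obtain ⟨U⟩ := U
  change (CGrpSh.pts Scheme.fppfPrecoverage T).over U ⟶ (CGrpSh.pts Scheme.fppfPrecoverage A).over U at ψ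
  change ψ = 0
  -- the components of `ψ` as maps on points
  let E : ∀ (V : Over U), (V.left ⟶ T) → (V.left ⟶ A) := fun V y =>
    (ψ.hom.app (Opposite.op V) (ULift.up (Additive.ofMul y))).down.toMul
  have hnat : ∀ (V V' : Over U) (g : V' ⟶ V) (y : V.left ⟶ T), g.left ≫ E V y = E V' (g.left ≫ y) :=
    fun V V' g y => (congrArg (fun z => Additive.toMul z.down)
      (ConcreteCategory.congr_hom (ψ.hom.naturality g.op) (ULift.up (Additive.ofMul y)))).symm
  have hmul : ∀ (V : Over U) (y y' : V.left ⟶ T), E V (y * y') = E V y * E V y' := fun V y y' =>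
    congrArg (fun z => Additive.toMul z.down)
      (map_add (ψ.hom.app (Opposite.op V)).hom (ULift.up (Additive.ofMul y)) (ULift.up (Additive.ofMul y')))
  let pi : ∀ X : Over U.left, Over U := fun X =>
    Over.mk (Over.homMk X.hom rfl : (Over.map U.hom).obj X ⟶ U)
  let F : Red.bc U.hom T ⟶ Red.bc U.hom A :=
    Lib.RedPts.BC.up U.hom (E (pi _) (Lib.RedPts.BC.down U.hom (𝟙 _)))
  have hF : ∀ (X : Over U.left) (x : X ⟶ Red.bc U.hom T),
      Lib.RedPts.BC.down U.hom (x ≫ F) = E (pi X) (Lib.RedPts.BC.down U.hom x) := by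
    intro X x
    rw [Lib.RedPts.BC.down_comp, Lib.RedPts.BC.down_up]
    refine (hnat (pi _) (pi X) (Over.homMk ((Over.map U.hom).map x)
      (Over.OverMorphism.ext (Over.w x))) _).trans ?_
    refine congrArg (E (pi X)) ?_
    exact (Lib.RedPts.BC.down_comp x (𝟙 (Red.bc U.hom T))).symm.trans (by rw [Category.comp_id])
  haveI : IsMonHom F := H87.HomDS.isMonHom_of_points F fun X a b => Lib.RedPts.BC.down_injective <| by
    rw [Lib.RedPts.BC.down_mul, hF, hF, hF, Lib.RedPts.BC.down_mul, hmul]
  haveI : IsCommMonObj (Red.bc U.hom A) := Functor.isCommMonObj_obj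
  haveI : Smooth (Red.bc U.hom A).hom := inferInstanceAs (Smooth (pullback.snd A.hom U.hom))
  haveI : IsProper (Red.bc U.hom A).hom := inferInstanceAs (IsProper (pullback.snd A.hom U.hom))
  have hF1 : F = 1 :=
    H2.TorusHom.torus_hom_eq_one _ _ (Lib.Tori.Basic.isTorus_bc hT U.hom) F
  refine Sheaf.hom_ext (NatTrans.ext (funext fun V => AddCommGrpCat.ext fun y => ?_))
  obtain ⟨V⟩ := V
  refine ULift.ext _ _ (congrArg Additive.ofMul (?_ : E V y.down.toMul = 1))
  let X : Over U.left := Over.mk V.hom.left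
  let g : V ⟶ pi X := Over.homMk (Over.homMk (𝟙 V.left.left)
    (by change 𝟙 _ ≫ V.hom.left ≫ U.hom = _; rw [Category.id_comp, Over.w]))
    (Over.OverMorphism.ext (Category.id_comp _))
  let y' : (Over.map U.hom).obj X ⟶ T := Over.homMk y.down.toMul.left
    ((Over.w y.down.toMul).trans (Over.w V.hom).symm)
  have hy : g.left ≫ y' = y.down.toMul := Over.OverMorphism.ext (Category.id_comp _)
  rw [← hy, ← hnat (pi X) V g y', ← Lib.RedPts.BC.down_up y', ← hF X,
    hF1, MonObj.comp_one, Lib.RedPts.BC.down_one, MonObj.comp_one]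

end Groth.Agent.S19290
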