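import Groth.Statements.S19291
import Groth.Agent.H2.Rigid.Conn

set_option autoImplicit false
universe u
open CategoryTheory CategoryTheory.Limits MonoidalCategory CartesianMonoidalCategory MonObj AlgebraicGeometry
open AbSch

namespace Groth.Agent.S19291

/-- Let S be a scheme and A, B, C three abelian S-schemes (smooth proper S-group schemes with connected
fibres). Then the group of homomorphisms from A to the S-sheaf of homomorphisms from B to C is
trivial: on the big fppf site of S, every morphism of abelian sheaves from the sheaf of points of A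
to the internal Hom sheaf of the sheaves of points of B and C is zero (equivalently, there is no
non-zero biadditive morphism from A × B to C). -/
theorem result {S : Scheme.{u}} (A B C : Over S)
    [GrpObj A] [IsCommMonObj A] [Smooth A.hom] [IsProper A.hom]
    (hA : ∀ s : S, ConnectedSpace ↥(A.hom.fiber s))
    [GrpObj B] [IsCommMonObj B] [Smooth B.hom] [IsProper B.hom]
    (hB : ∀ s : S, ConnectedSpace ↥(B.hom.fiber s))
    [GrpObj C] [IsCommMonObj C] [Smooth C.hom] [IsProper C.hom]
    (hC : ∀ s : S, ConnectedSpace ↥(C.hom.fiber s))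
    (φ : (CGrpSh.pts Scheme.fppfPrecoverage A) ⟶ HomSh.homSh (QuotSh.J Scheme.fppfPrecoverage S) (CGrpSh.pts Scheme.fppfPrecoverage B) (CGrpSh.pts Scheme.fppfPrecoverage C)) : φ = 0 := by
  classical
  let E : ∀ T : Over S, (T ⟶ A) → (T ⟶ B) → (T ⟶ C) := fun T x y =>
    (HomSh.ev (QuotSh.J Scheme.fppfPrecoverage S) (φ.hom.app (Opposite.op T) (ULift.up (Additive.ofMul x)))
      (ULift.up (Additive.ofMul y))).down.toMul
  let val : ∀ U : Over S, (CGrpSh.pts Scheme.fppfPrecoverage C).obj.obj (Opposite.op U) → (U ⟶ C) :=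
    fun U a => a.down.toMul
  -- the component over `g : T' ⟶ T`
  have hloc : ∀ (T T' : Over S) (g : T' ⟶ T) (x : T ⟶ A) (y : T' ⟶ B),
      ((φ.hom.app (Opposite.op T) (ULift.up (Additive.ofMul x))).hom.app (Opposite.op (Over.mk g))
        (ULift.up (Additive.ofMul y))).down.toMul = E T' (g ≫ x) y := by
    intro T T' g x y
    have hn := ConcreteCategory.congr_hom (φ.hom.naturality g.op) (ULift.up (Additive.ofMul x))
    refine Eq.trans ?_ (congrArg (fun ψ : (CGrpSh.pts Scheme.fppfPrecoverage B).over T' ⟶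
        (CGrpSh.pts Scheme.fppfPrecoverage C).over T' => ((HomSh.ev (QuotSh.J Scheme.fppfPrecoverage S) ψ)
      (ULift.up (Additive.ofMul y))).down.toMul) hn).symm
    exact congrArg (val T')
      (HomSh.app_over_mk_congr (QuotSh.J Scheme.fppfPrecoverage S) _ (Category.id_comp g).symm _)
  have hnat : ∀ (T T' : Over S) (g : T' ⟶ T) (x : T ⟶ A) (y : T ⟶ B),
      g ≫ E T x y = E T' (g ≫ x) (g ≫ y) := by
    intro T T' g x y
    rw [← hloc T T' g x (g ≫ y)]
    have hn := ConcreteCategory.congr_hom
      ((φ.hom.app (Opposite.op T) (ULift.up (Additive.ofMul x))).hom.naturality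
        (Over.homMk g (by simp) : Over.mk g ⟶ Over.mk (𝟙 T)).op) (ULift.up (Additive.ofMul y))
    exact (congrArg (val T') hn).symm
  have h0x : ∀ (T : Over S) (y : T ⟶ B), E T 1 y = 1 := by
    intro T y
    show (HomSh.ev (QuotSh.J Scheme.fppfPrecoverage S) (φ.hom.app (Opposite.op T) 0) _).down.toMul = 1
    rw [map_zero]
    rfl
  have h0y : ∀ (T : Over S) (x : T ⟶ A), E T x 1 = 1 := by
    intro T x
    show (HomSh.ev (QuotSh.J Scheme.fppfPrecoverage S) (φ.hom.app (Opposite.op T) _) 0).down.toMul = 1
    rw [map_zero]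
    rfl
  have hF : E (A ⊗ B) (fst A B) (snd A B) = 1 := by
    refine Groth.Agent.H2.Rigid.eq_one_of_axes' A B C hA hB _ ?_ ?_
    · rw [hnat, lift_fst, lift_snd, h0y]
    · rw [hnat, lift_fst, lift_snd, h0x]
  have hE : ∀ (T : Over S) (x : T ⟶ A) (y : T ⟶ B), E T x y = 1 := by
    intro T x y
    have := hnat _ _ (lift x y) (fst A B) (snd A B)
    rw [hF, MonObj.comp_one, lift_fst, lift_snd] at this
    exact this.symm
  refine Sheaf.hom_ext (NatTrans.ext (funext fun T => AddCommGrpCat.ext fun x =>
    Sheaf.hom_ext (NatTrans.ext (funext fun V => AddCommGrpCat.ext fun y => ULift.ext _ _ ?_))))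
  exact congrArg Additive.ofMul
    ((hloc T.unop V.unop.left V.unop.hom x.down.toMul y.down.toMul).trans (hE _ _ _))

end Groth.Agent.S19291
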