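import Groth.Statements.S19292
import Groth.Agent.Lib.LocFreeExt.Basic
-- import your own Groth.Agent.* helpers here

set_option autoImplicit false
universe u
open CategoryTheory CategoryTheory.Limits MonoidalCategory CartesianMonoidalCategory MonObj AlgebraicGeometry
open AbSch

namespace Groth.Agent.S19292

open Groth.Agent.Lib.LocFreeExt Opposite

variable {S : Scheme.{u}}

/-- The `S'`-point of the base change defined by a point over `T''`. -/
noncomputable def toBc {S' : Scheme.{u}} (f : S' ⟶ S) (X : Over S) {T'' : Over S}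
    (g : T'' ⟶ Over.mk f) (x : T'' ⟶ X) : Over.mk g.left ⟶ Red.bc f X :=
  (Over.homMk (pullback.lift (𝟙 _) g.left (by simpa using (Over.w g).symm))
      (pullback.lift_snd _ _ _) : Over.mk g.left ⟶ Red.bc f T'') ≫
    (Over.pullback f).map x

theorem toBc_fst {S' : Scheme.{u}} (f : S' ⟶ S) (X : Over S) {T'' : Over S}
    (g : T'' ⟶ Over.mk f) (x : T'' ⟶ X) : (toBc f X g x).left ≫ pullback.fst X.hom f = x.left := by
  change (pullback.lift (𝟙 T''.left) g.left _ ≫
    pullback.lift (pullback.fst T''.hom f ≫ x.left) (pullback.snd T''.hom f) _) ≫ _ = _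
  rw [Category.assoc, pullback.lift_fst, pullback.lift_fst_assoc, Category.id_comp]

theorem toBc_snd {S' : Scheme.{u}} (f : S' ⟶ S) (X : Over S) {T'' : Over S}
    (g : T'' ⟶ Over.mk f) (x : T'' ⟶ X) : (toBc f X g x).left ≫ pullback.snd X.hom f = g.left :=
  Over.w (toBc f X g x)

theorem toBc_injective {S' : Scheme.{u}} (f : S' ⟶ S) (X : Over S) {T'' : Over S}
    (g : T'' ⟶ Over.mk f) {x y : T'' ⟶ X} (h : toBc f X g x = toBc f X g y) : x = y := by
  ext
  rw [← toBc_fst f X g x, h, toBc_fst]

/-- `toBc` as a homomorphism. -/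
noncomputable def toBcHom {S' : Scheme.{u}} (f : S' ⟶ S) (X : Over S) [GrpObj X] {T'' : Over S}
    (g : T'' ⟶ Over.mk f) : (T'' ⟶ X) →* (Over.mk g.left ⟶ Red.bc f X) where
  toFun := toBc f X g
  map_one' := by
    rw [toBc, CategoryTheory.Functor.map_one, MonObj.comp_one]
  map_mul' x y := by
    rw [toBc, toBc, toBc, CategoryTheory.Functor.map_mul, MonObj.comp_mul]

/-- The `k`-th basis vector. -/
def ebasis (r : ℕ) (k : Fin r) : Multiplicative (Fin r → ℤ) := Multiplicative.ofAdd (Pi.single k 1)

theorem prod_ebasis (r : ℕ) (n : Fin r → ℤ) : ∏ k, ebasis r k ^ n k = Multiplicative.ofAdd n := by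
  refine Multiplicative.toAdd.injective ?_
  change ∑ k, n k • (Pi.single k (1 : ℤ) : Fin r → ℤ) = n
  conv_rhs => rw [← Finset.univ_sum_single n]
  exact Finset.sum_congr rfl fun k _ => by rw [← Pi.single_smul, smul_eq_mul, _root_.mul_one]

theorem bot_mem {T : Over S} [IsEmpty T.left] : ⊥ ∈ QuotSh.J Scheme.fppfPrecoverage S T := by
  rw [GrothendieckTopology.mem_over_iff]
  refine GrothendieckTopology.superset_covering _ bot_le
    (Scheme.bot_mem_grothendieckTopology (P := @Flat ⊓ @LocallyOfFinitePresentation) T.left :)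

theorem isBasis_const {S' : Scheme.{u}} (f : S' ⟶ S) (X : Over S) [GrpObj X] [IsCommMonObj X]
    (r : ℕ) (e : Red.bc f X ≅ TwC.const S' (Multiplicative (Fin r → ℤ)))
    (he : TwC.IsConstGrp (Multiplicative (Fin r → ℤ)) (Red.bc f X) e) :
    ∃ s : Fin r → (CGrpSh.pts Scheme.fppfPrecoverage X).obj.obj (op (Over.mk f)),
      IsBasis (QuotSh.J Scheme.fppfPrecoverage S) (CGrpSh.pts Scheme.fppfPrecoverage X) s := by
  classical
  let M := Multiplicative (Fin r → ℤ)
  let χ : M →* (𝟙_ (Over S') ⟶ Red.bc f X) :=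
    MonoidHom.mk' (fun m => TwC.pt S' M m ≫ e.inv) fun m n => (he m n).symm
  let y : M → (Over.mk f ⟶ X) := fun m =>
    Over.homMk ((χ m).left ≫ pullback.fst X.hom f) (by
      have h1 : (χ m).left ≫ pullback.snd X.hom f = 𝟙 S' := Over.w (χ m)
      simp only [Category.assoc, pullback.condition]
      rw [reassoc_of% h1]
      rfl)
  let s : Fin r → (CGrpSh.pts Scheme.fppfPrecoverage X).obj.obj (op (Over.mk f)) :=
    fun k => ULift.up (Additive.ofMul (y (ebasis r k)))
  have hy : ∀ {T'' : Over S} (g : T'' ⟶ Over.mk f) (m : M),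
      toBc f X g (g ≫ y m) = toUnit (Over.mk g.left) ≫ χ m := by
    intro T'' g m
    ext
    refine pullback.hom_ext ?_ ?_
    · rw [toBc_fst]
      exact (Category.assoc _ _ _).symm
    · rw [toBc_snd]
      exact (Over.w (toUnit (Over.mk g.left) ≫ χ m)).symm
  have key : ∀ {T'' : Over S} (g : T'' ⟶ Over.mk f) (n : Fin r → ℤ),
      toBc f X g ((∑ k, n k • (CGrpSh.pts Scheme.fppfPrecoverage X).obj.map g.op (s k)).down.toMul) =
        toUnit (Over.mk g.left) ≫ TwC.pt S' M (Multiplicative.ofAdd n) ≫ e.inv := by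
    intro T'' g n
    have h1 : (∑ k, n k • (CGrpSh.pts Scheme.fppfPrecoverage X).obj.map g.op (s k)).down.toMul =
        ∏ k, (g ≫ y (ebasis r k)) ^ n k := by
      refine (congrArg Additive.toMul
        (map_sum (CGrpSh.sectEquiv Scheme.fppfPrecoverage X T'') _ _)).trans ?_
      simp only [map_zsmul, toMul_sum, toMul_zsmul]
      rfl
    rw [h1]
    change toBcHom f X g _ = toUnit (Over.mk g.left) ≫ χ (Multiplicative.ofAdd n)
    rw [map_prod, ← prod_ebasis r n]
    let c : (𝟙_ (Over S') ⟶ Red.bc f X) →* (Over.mk g.left ⟶ Red.bc f X) :=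
      MonoidHom.mk' (fun z => toUnit _ ≫ z) fun a b => MonObj.comp_mul _ _ _
    change _ = c (χ _)
    rw [map_prod, map_prod]
    refine Finset.prod_congr rfl fun k _ => ?_
    rw [map_zpow, map_zpow, map_zpow]
    exact congrArg (· ^ n k) (hy g (ebasis r k))
  refine ⟨s, fun T'' g q => ?_, fun T'' g n hn hne => ?_⟩
  · let x : T'' ⟶ X := q.down.toMul
    let w : Over.mk g.left ⟶ TwC.const S' M := toBc f X g x ≫ e.hom
    let U : M → T''.left.Opens := fun m => w.left ⁻¹ᵁ (Sigma.ι (fun _ : M => S') m).opensRange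
    have hU : ∀ t : T''.left, ∃ m, t ∈ U m := fun t =>
      ⟨_, (sigmaOpenCover fun _ : M => S').covers (w.left t)⟩
    choose m hm using hU
    let R : Sieve T''.left := Sieve.generate (Presieve.ofArrows (fun t => (U (m t) : Scheme.{u}))
      (fun t => (U (m t)).ι))
    refine ⟨(Sieve.overEquiv T'').symm R, ?_, fun T₁ h hh => ?_⟩
    · refine GrothendieckTopology.overEquiv_symm_mem_over _ _ _ ?_
      refine Precoverage.generate_mem_toGrothendieck ?_
      rw [Scheme.fppfPrecoverage, Scheme.ofArrows_mem_precoverage_iff]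
      exact ⟨fun t => ⟨t, ⟨t, hm t⟩, rfl⟩, fun t => ⟨inferInstance, inferInstance⟩⟩
    · rw [Sieve.overEquiv_symm_iff] at hh
      obtain ⟨_, l, _, ⟨t⟩, hl⟩ := hh
      refine ⟨(m t).toAdd, ?_⟩
      refine ULift.ext _ _ (Additive.toMul.injective (toBc_injective f X (h ≫ g) ?_))
      rw [key (h ≫ g), ← cancel_mono e.hom]
      simp only [Category.assoc, Iso.inv_hom_id, Category.comp_id]
      change toBc f X (h ≫ g) (h ≫ x) ≫ e.hom =
        toUnit (Over.mk (h ≫ g).left) ≫ TwC.pt S' M (m t)
      have hz : (toBc f X (h ≫ g) (h ≫ x)).left = h.left ≫ (toBc f X g x).left := by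
        refine pullback.hom_ext ?_ ?_
        · rw [toBc_fst]
          exact (Eq.trans (Category.assoc _ _ _) (congrArg (h.left ≫ ·) (toBc_fst f X g x))).symm
        · rw [toBc_snd]
          exact (Eq.trans (Category.assoc _ _ _) (congrArg (h.left ≫ ·) (toBc_snd f X g x))).symm
      ext : 1
      refine Eq.trans ?_ (?_ : (h ≫ g).left ≫ Sigma.ι (fun _ : M => S') (m t) = _)
      · change (toBc f X (h ≫ g) (h ≫ x)).left ≫ e.hom.left = _
        rw [hz, Category.assoc]
        change h.left ≫ w.left = _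
        have hr : Set.range (h.left ≫ w.left) ⊆ Set.range (Sigma.ι (fun _ : M => S') (m t)) := by
          rintro _ ⟨z, rfl⟩
          rw [← hl]
          exact (l z).2
        rw [← IsOpenImmersion.lift_fac _ _ hr]
        congr 1
        have h3 := congrArg (· ≫ (TwC.const S' M).hom) (IsOpenImmersion.lift_fac _ _ hr)
        simp only [Category.assoc, Over.w w] at h3
        simpa using h3
      · rfl
  · have : IsEmpty T''.left := ⟨fun t => hne ?_⟩
    · exact bot_mem
    · have h0 := key g n
      rw [hn] at h0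
      change toBc f X g 1 = _ at h0
      rw [show toBc f X g 1 = 1 from (toBcHom f X g).map_one, ← Category.assoc,
        show (1 : Over.mk g.left ⟶ Red.bc f X) = toUnit (Over.mk g.left) ≫ χ 1 by
          rw [map_one, MonObj.comp_one]] at h0
      change toUnit _ ≫ TwC.pt S' M 1 ≫ e.inv = _ at h0
      rw [← Category.assoc, cancel_mono] at h0
      have h2 : Sigma.ι (fun _ : M => S') 1 (g.left t) =
          Sigma.ι (fun _ : M => S') (Multiplicative.ofAdd n) (g.left t) :=
        congrArg (fun m : Over.mk g.left ⟶ TwC.const S' M => m.left t) h0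
      exact congrArg Multiplicative.toAdd
        (congrArg Sigma.fst ((sigmaι_eq_iff _ _ _ _ _).1 h2)).symm

theorem locFree (X : Over S) [GrpObj X] [IsCommMonObj X]
    (hX : TwC.Locally S TwC.Topology.etale (fun S' f =>
      ∃ (r : ℕ) (e : Red.bc f X ≅ TwC.const S' (Multiplicative (Fin r → ℤ))),
        TwC.IsConstGrp (Multiplicative (Fin r → ℤ)) (Red.bc f X) e)) :
    LocFree (QuotSh.J Scheme.fppfPrecoverage S) (CGrpSh.pts Scheme.fppfPrecoverage X) := by
  intro T
  choose S' f hf hs r e he using hX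
  let R : Sieve T.left :=
    Sieve.pullback T.hom (Sieve.generate (Presieve.ofArrows S' f))
  refine ⟨(Sieve.overEquiv T).symm R, ?_, fun T' g hg => ?_⟩
  · refine GrothendieckTopology.overEquiv_symm_mem_over _ _ _ ?_
    refine GrothendieckTopology.pullback_stable _ _ (Precoverage.generate_mem_toGrothendieck ?_)
    rw [Scheme.fppfPrecoverage, Scheme.ofArrows_mem_precoverage_iff]
    exact ⟨fun s => ⟨s, hs s⟩, fun s => have := hf s; ⟨inferInstance, inferInstance⟩⟩
  · rw [Sieve.overEquiv_symm_iff] at hg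
    obtain ⟨_, l, _, ⟨s⟩, hl⟩ := hg
    obtain ⟨σ, hσ⟩ := isBasis_const (f s) X (r s) (e s) (he s)
    let g₀ : T' ⟶ Over.mk (f s) := Over.homMk l (by
      change l ≫ f s = T'.hom
      rw [hl]; exact Over.w g)
    exact ⟨r s, _, hσ.restr g₀⟩

/-- Let S be a scheme, X an S-group scheme which locally for the etale topology on S is the constant
group scheme of a finitely generated free abelian group (the rank may vary), and P any commutative
S-group scheme. Then the S-sheaf of extensions of X by P is trivial: on the big fppf site of S the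
first Ext sheaf from the sheaf of points of X, with values in the sheaf of points of P, is zero. -/
theorem result {S : Scheme.{u}} (X P : Over S)
    [GrpObj X] [IsCommMonObj X]
    (hX : TwC.Locally S TwC.Topology.etale (fun S' f =>
      ∃ (r : ℕ) (e : Red.bc f X ≅ TwC.const S' (Multiplicative (Fin r → ℤ))),
        TwC.IsConstGrp (Multiplicative (Fin r → ℤ)) (Red.bc f X) e))
    [GrpObj P] [IsCommMonObj P] :
    IsZero ((HomSh.extSh (QuotSh.J Scheme.fppfPrecoverage S) (CGrpSh.pts Scheme.fppfPrecoverage X) 1).obj (CGrpSh.pts Scheme.fppfPrecoverage P)) := by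
  exact isZero_extSh_one (locFree X hX) _

end Groth.Agent.S19292
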