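import Groth.Statements.S1930
import Groth.Agent.Lib.Cyc.Gys.Divisor

set_option autoImplicit false
universe u
open CategoryTheory AlgebraicGeometry
open Cyc

namespace Groth.Agent.S1930

/-- Let X be integral with generic point η and δ(η) = n, i : D → X an effective Cartier divisor given as
the zero scheme of a global section s of an invertible module L which is a nonzerodivisor at every
point, N an invertible O_X-module and t ∈ N(η) a nonzero rational section. Then i^*(div_N t) ∼_rat
c_1(N|_D) ∩ [D]_{n−1} as (n − 2)-cycles on D, the right side computed with any nonzero rational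
sections of i^*N on D. Here i : D → X is the zero scheme of a global section s of the invertible
module L (Cyc.IsZeroSchemeOf), the Gysin map i^* : Z_{k+1}(X) → CH_k(D) is computed on coefficient
functions as c_1(L) ∩ − with the rational sections taken to be s where it is nonzero
(Cyc.gysinChoice) and restricted to the points of D, and classes on D are compared up to rational
equivalence on D for the restricted dimension function. Here a pair (X, δ) satisfying Cyc.IsSetup (X
locally Noetherian with universally catenary local rings, δ a dimension function) plays the role of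
a scheme locally of finite type over a fixed base equipped with a dimension function. -/
theorem result (X D : Scheme.{u}) [IsIntegral X] (δ : X → ℤ) (hX : Cyc.IsSetup X δ) (n : ℤ) (hn : δ (genericPoint X) = n) (L : X.Modules) (hL : PicF.IsInvertible L) (s : L.presheaf.obj (Opposite.op ⊤)) (hreg : ∀ x : X, Function.Injective (fun a : X.presheaf.stalk x => a • (L.presheaf.germ ⊤ x trivial) s)) (i : D ⟶ X) [IsClosedImmersion i] (hD : Cyc.IsZeroSchemeOf i L s) (N : X.Modules) (hN : PicF.IsInvertible N) (t : Cyc.secFibre N (genericPoint X)) (ht : t ≠ 0) (w : (ξ : X) → Cyc.secFibre L ξ) (hw : ∀ ξ, w ξ ≠ 0) (u : (d : D) → Cyc.secFibre ((Scheme.Modules.pullback i).obj N) d) (hu : ∀ d, u d ≠ 0) (γ₁ γ₂ : AlgebraicCycle D ℤ) (h₁ : ∀ d : D, γ₁ d = Cyc.c1CapFun δ L (Cyc.secDivFun δ N (genericPoint X) t) (Cyc.gysinChoice L s w) (i d)) (h₂ : ⇑γ₂ = Cyc.c1CapFun (fun d => δ (i d)) ((Scheme.Modules.pullback i).obj N) (Cyc.subschemeFun (fun d => δ (i d)) (n - 1) (𝟙 D)) u) : Cyc.RatEquiv (fun d => δ (i d)) (n - 2) γ₁ γ₂ := by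
  haveI := hX.1
  haveI : IsLocallyNoetherian D := LocallyOfFiniteType.isLocallyNoetherian i
  have hδ := hX.2.2
  let ξ : PUnit.{u + 1} → X := fun _ => (genericPoint X)
  have hlf : Lib.Cyc.C1K.Family.LF ξ := fun x =>
    ⟨Set.univ, isOpen_univ, trivial, Set.toFinite _⟩
  have hξ : ∀ m, δ (ξ m) = n - 2 + 1 + 1 := fun _ => hn.trans (by ring)
  have hfield : IsField (X.presheaf.stalk (genericPoint X)) := Field.toIsField X.functionField
  have hne : (L.presheaf.germ ⊤ (genericPoint X) trivial) s ≠ 0 := fun h0 => one_ne_zero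
    (hreg (genericPoint X) (show (1 : X.presheaf.stalk (genericPoint X)) • (L.presheaf.germ ⊤ (genericPoint X) trivial) s =
      (0 : X.presheaf.stalk (genericPoint X)) • (L.presheaf.germ ⊤ (genericPoint X) trivial) s by rw [h0, smul_zero, smul_zero]))
  have hout : ∀ m, ξ m ∉ Set.range ⇑i := fun _ h =>
    Lib.Cyc.C1.secFibre_mk_ne_zero L hne ((Lib.Cyc.Gys.Cycle.mem_range_iff i hD _).1 h)
  refine Lib.Cyc.Gys.Divisor.ratEquiv_gysin_div i (k := n - 2) hδ hL hN hD hlf hξ hout
    (fun _ => t) (fun _ => ht) (Cyc.secDivFun δ N (genericPoint X) t) (fun x => by rw [finsum_unique])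
    (fun d => Cyc.secDivFun δ L (genericPoint X) (Cyc.gysinChoice L s w (genericPoint X)) (i d)) w hw
    (fun d => by rw [finsum_unique]) u hu γ₁ γ₂ h₁ (h₂.trans ?_)
  congr 1
  funext d
  obtain ⟨hmono, -, hin, hdivs⟩ := Lib.Cyc.Gys.Proper.family_spec i hL hD hδ hlf hξ hout
  have e1 := hdivs (i d)
  rw [finsum_unique] at e1
  have hg : Cyc.gysinChoice L s w (genericPoint X) = Submodule.Quotient.mk ((L.presheaf.germ ⊤ (genericPoint X) trivial) s) :=
    if_pos (Lib.Cyc.C1.secFibre_mk_ne_zero L hne)
  rw [hg, ← e1, ← Lib.Cyc.Gys.Killed.sheafFun_pull i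
    (Lib.Cyc.Gys.MulMap.killed_cokernel L s hL hD _)]
  obtain ⟨φ, hφ⟩ := Lib.Cyc.C1K.Twist.exists_proj (genericPoint X)
  haveI := Lib.Cyc.C1K.Twist.epi_proj hφ
  haveI : Mono φ := by
    rw [Lib.Modules.StalkModule.mono_iff_stalkMapₗ_injective]
    intro x
    rw [injective_iff_map_eq_zero]
    intro m hm
    obtain ⟨a, rfl⟩ := Submodule.mem_span_singleton.1
      (show m ∈ Submodule.span (X.presheaf.stalk x) {Lib.Cyc.C1.one x} by
        rw [Lib.Cyc.C1.span_one]; trivial)
    have hsp : (genericPoint X) ⤳ x := genericPoint_specializes x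
    rw [map_smul, hφ] at hm
    have h1 := congrArg ((Cyc.closureStructureSheaf (genericPoint X)).presheaf.stalkSpecializes hsp) hm
    rw [Lib.Cyc.C1.stalkSpecializes_smul, Lib.Cyc.Retr.Witness.specializes_oneAt, map_zero] at h1
    have h2 : X.presheaf.stalkSpecializes hsp a = 0 := by
      by_contra hne0
      obtain ⟨b, hb⟩ := hfield.mul_inv_cancel hne0
      exact Lib.Cyc.Retr.Witness.oneAt_ne_zero (genericPoint X) ((IsUnit.of_mul_eq_one b hb).smul_eq_zero.1 h1)
    have h3 : a ∈ RingHom.ker (Cyc.specMap x (genericPoint X) hsp) := by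
      rw [RingHom.mem_ker]
      show X.residue (genericPoint X) (X.presheaf.stalkSpecializes hsp a) = 0
      rw [h2, map_zero]
    rw [Lib.Cyc.C1.ker_specMap_genericPoint x hsp] at h3
    rw [(show a = 0 from h3), zero_smul]
  haveI : IsIso φ := isIso_of_mono_of_epi φ
  let pb := Scheme.Modules.pullback i
  let e : pb.obj (Limits.cokernel (Lib.Cyc.Gys.MulMap.mulS L s
      (Limits.sigmaObj fun m => Cyc.closureStructureSheaf (ξ m)))) ≅
      CohB1.tensorMod (Coh.structureModule D) (pb.obj L) :=
    Lib.Cyc.Gys.Proper.pullCokerIso i hL hD _ ≪≫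
      Lib.TensorMod.Pullback.pullbackTensorIso i _ L ≪≫
      Lib.TensorMod.Basic.tensorIso (pb.mapIso (Limits.coproductUniqueIso _ ≪≫ (asIso φ).symm) ≪≫
        PicLoc.pullbackStructureIso i) (Iso.refl _)
  have hO : Module.length (D.presheaf.stalk d) ((Coh.structureModule D).presheaf.stalk d) =
      Module.length (D.presheaf.stalk d) (D.presheaf.stalk d) := by
    have hb : Function.Bijective (LinearMap.toSpanSingleton (D.presheaf.stalk d)
        ((Coh.structureModule D).presheaf.stalk d) (Lib.Cyc.C1.one d)) :=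
      ⟨(injective_iff_map_eq_zero _).2 fun a ha => Lib.Cyc.C1.eq_zero_of_smul_one_eq_zero ha,
        fun v => Submodule.mem_span_singleton.1
          (show v ∈ Submodule.span (D.presheaf.stalk d) {Lib.Cyc.C1.one d} by
            rw [Lib.Cyc.C1.span_one]; trivial)⟩
    exact (LinearEquiv.ofBijective _ hb).length_eq.symm
  simp only [Cyc.sheafFun, Cyc.subschemeFun, show n - 2 + 1 = n - 1 by ring]
  split_ifs
  · have hl := congrArg ENat.toNat (((Lib.Modules.StalkModule.stalkLinearEquiv e d).length_eq.trans
      (Lib.Cyc.C1K.Main.length_twist (PicLoc.isInvertible_pullback i hL) _ d)).trans hO)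
    simp
    exact hl.symm
  · rfl

end Groth.Agent.S1930
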