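import Groth.Statements.S19302
import Groth.Agent.S19290
import Groth.Agent.H4.HomShSA.OverExact
import Groth.Agent.H4.HomShSA.HomTorus
-- import your own Groth.Agent.* helpers here

set_option autoImplicit false
universe u
open CategoryTheory CategoryTheory.Limits MonoidalCategory CartesianMonoidalCategory MonObj AlgebraicGeometry
open AbSch
set_option linter.style.haveILetI false

namespace Groth.Agent.S19302

/-- Let S be a scheme and, for i = 1, 2, let G_i be a commutative S-group scheme given as an extension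
of an abelian S-scheme A_i (smooth, proper, connected fibres) by an S-torus T_i: homomorphisms T_i →
G_i → A_i composing to the trivial map whose sequence of sheaves of points on the big fppf site of S
is short exact. Then, for the internal Hom sheaves of the sheaves of points on that site: the map
Hom(A₁, A₂) → Hom(G₁, A₂) induced by G₁ → A₁ is an isomorphism; the map Hom(T₁, T₂) → Hom(T₁, G₂)
induced by T₂ → G₂ is an isomorphism; the map Hom(G₁, T₂) → Hom(T₁, T₂) induced by T₁ → G₁ is a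
monomorphism; and the map Hom(A₁, G₂) → Hom(A₁, A₂) induced by G₂ → A₂ is a monomorphism. -/
theorem result {S : Scheme.{u}} (T₁ G₁ A₁ T₂ G₂ A₂ : Over S)
    [GrpObj T₁] [IsCommMonObj T₁] (hT₁ : Red.IsTorus T₁) [GrpObj G₁] [IsCommMonObj G₁]
    [GrpObj A₁] [IsCommMonObj A₁] [Smooth A₁.hom] [IsProper A₁.hom]
    (hA₁ : ∀ s : S, ConnectedSpace ↥(A₁.hom.fiber s))
    [GrpObj T₂] [IsCommMonObj T₂] (hT₂ : Red.IsTorus T₂) [GrpObj G₂] [IsCommMonObj G₂]
    [GrpObj A₂] [IsCommMonObj A₂] [Smooth A₂.hom] [IsProper A₂.hom]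
    (hA₂ : ∀ s : S, ConnectedSpace ↥(A₂.hom.fiber s))
    (ι₁ : T₁ ⟶ G₁) (π₁ : G₁ ⟶ A₁) [IsMonHom ι₁] [IsMonHom π₁] (w₁ : ι₁ ≫ π₁ = 1)
    (hex₁ : (CGrpSh.seq Scheme.fppfPrecoverage ι₁ π₁ w₁).ShortExact)
    (ι₂ : T₂ ⟶ G₂) (π₂ : G₂ ⟶ A₂) [IsMonHom ι₂] [IsMonHom π₂] (w₂ : ι₂ ≫ π₂ = 1)
    (hex₂ : (CGrpSh.seq Scheme.fppfPrecoverage ι₂ π₂ w₂).ShortExact) :
    IsIso (HomSh.homShMap (QuotSh.J Scheme.fppfPrecoverage S) (CGrpSh.ptsMap Scheme.fppfPrecoverage π₁) (𝟙 (CGrpSh.pts Scheme.fppfPrecoverage A₂))) ∧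
    IsIso (HomSh.homShMap (QuotSh.J Scheme.fppfPrecoverage S) (𝟙 (CGrpSh.pts Scheme.fppfPrecoverage T₁)) (CGrpSh.ptsMap Scheme.fppfPrecoverage ι₂)) ∧
    Mono (HomSh.homShMap (QuotSh.J Scheme.fppfPrecoverage S) (CGrpSh.ptsMap Scheme.fppfPrecoverage ι₁) (𝟙 (CGrpSh.pts Scheme.fppfPrecoverage T₂))) ∧
    Mono (HomSh.homShMap (QuotSh.J Scheme.fppfPrecoverage S) (𝟙 (CGrpSh.pts Scheme.fppfPrecoverage A₁)) (CGrpSh.ptsMap Scheme.fppfPrecoverage π₂)) := by
  let J := QuotSh.J Scheme.fppfPrecoverage S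
  let P := fun (X : Over S) [GrpObj X] [IsCommMonObj X] => CGrpSh.pts Scheme.fppfPrecoverage X
  have zeroOf : ∀ {F G : Sheaf J AddCommGrpCat.{u + 1}}, IsZero (HomSh.homSh J F G) →
      ∀ (U : Over S) (φ : F.over U ⟶ G.over U), φ = 0 := by
    intro F G h U φ
    exact congrArg (fun t : HomSh.homSh J F G ⟶ HomSh.homSh J F G =>
      (ConcreteCategory.hom (t.hom.app (Opposite.op U))) φ) ((IsZero.iff_id_eq_zero _).1 h)
  have hTA := zeroOf (Groth.Agent.S19290.result T₁ A₂ hT₁ hA₂)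
  have hAT := zeroOf (H4.HomShSA.homSh_abScheme_torus_isZero A₁ T₂ hT₂ hA₁)
  have hs₁ := fun U => H4.HomShSA.shortExact_over J hex₁ U
  have hs₂ := fun U => H4.HomShSA.shortExact_over J hex₂ U
  have isoOf : ∀ {F F' G G' : Sheaf J AddCommGrpCat.{u + 1}} (α : F' ⟶ F) (β : G ⟶ G'),
      (∀ U, Function.Bijective fun φ : F.over U ⟶ G.over U =>
        (J.overPullback _ U).map α ≫ φ ≫ (J.overPullback _ U).map β) →
      IsIso (HomSh.homShMap J α β) := by
    intro F F' G G' α β h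
    haveI : ∀ X, IsIso ((HomSh.homShMap J α β).hom.app X) := fun X =>
      (ConcreteCategory.isIso_iff_bijective _).2 (h X.unop)
    haveI : IsIso ((sheafToPresheaf J AddCommGrpCat.{u + 1}).map (HomSh.homShMap J α β)) :=
      (NatIso.isIso_of_isIso_app (HomSh.homShMap J α β).hom :)
    exact isIso_of_fully_faithful (sheafToPresheaf J AddCommGrpCat.{u + 1}) _
  have monoOf : ∀ {F F' G G' : Sheaf J AddCommGrpCat.{u + 1}} (α : F' ⟶ F) (β : G ⟶ G'),
      (∀ U, ∀ φ : F.over U ⟶ G.over U,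
        (J.overPullback _ U).map α ≫ φ ≫ (J.overPullback _ U).map β = 0 → φ = 0) →
      Mono (HomSh.homShMap J α β) := by
    intro F F' G G' α β h
    haveI : ∀ X, Mono ((HomSh.homShMap J α β).hom.app X) := fun X =>
      (AddCommGrpCat.mono_iff_injective _).2 ((injective_iff_map_eq_zero _).2 (h X.unop))
    haveI : Mono (HomSh.homShMap J α β).hom := NatTrans.mono_of_mono_app _
    exact (sheafToPresheaf J AddCommGrpCat.{u + 1}).mono_of_mono_map ‹_›
  refine ⟨isoOf _ _ fun U => ⟨?_, ?_⟩, isoOf _ _ fun U => ⟨?_, ?_⟩, monoOf _ _ fun U φ h => ?_,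
    monoOf _ _ fun U φ h => ?_⟩
  · intro φ ψ h
    haveI := (hs₁ U).epi_g
    simp only [CategoryTheory.Functor.map_id, Category.comp_id] at h
    exact (cancel_epi (((CGrpSh.seq Scheme.fppfPrecoverage ι₁ π₁ w₁).map
      (J.overPullback _ U)).g)).1 h
  · intro ψ
    haveI := (hs₁ U).epi_g
    refine ⟨(hs₁ U).exact.desc ψ (hTA U _), ?_⟩
    simp only [CategoryTheory.Functor.map_id, Category.comp_id]
    exact (hs₁ U).exact.g_desc ψ _
  · intro φ ψ h
    haveI := (hs₂ U).mono_f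
    simp only [CategoryTheory.Functor.map_id, Category.id_comp] at h
    exact (cancel_mono ((CGrpSh.seq Scheme.fppfPrecoverage ι₂ π₂ w₂).map
      (J.overPullback _ U)).f).1 h
  · intro ψ
    haveI := (hs₂ U).mono_f
    refine ⟨(hs₂ U).exact.lift ψ (hTA U _), ?_⟩
    simp only [CategoryTheory.Functor.map_id, Category.id_comp]
    exact (hs₂ U).exact.lift_f ψ _
  · haveI := (hs₁ U).epi_g
    simp only [CategoryTheory.Functor.map_id, Category.comp_id] at h
    have e := (hs₁ U).exact.g_desc φ h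
    rw [hAT U ((hs₁ U).exact.desc φ h)] at e
    exact e.symm.trans Limits.comp_zero
  · haveI := (hs₂ U).mono_f
    simp only [CategoryTheory.Functor.map_id, Category.id_comp] at h
    have e := (hs₂ U).exact.lift_f φ h
    rw [hAT U ((hs₂ U).exact.lift φ h)] at e
    exact e.symm.trans Limits.zero_comp

end Groth.Agent.S19302
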