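import Groth.Statements.S19305
import Groth.Agent.Lib.ExtTorus6.Sections
import Groth.Agent.Lib.TorsorNorm.QuasiCompl
import Groth.Agent.Lib.SemiAbIsog.Image
import Groth.Agent.Lib.IsogLaw.TorusIff
import Groth.Agent.Lib.SmWeil.FieldTori
import Groth.Agent.Lib.ImgMT.MaxTorus
import Groth.Agent.H52.SemiAbelian
import Groth.Agent.Lib.GrpQ.MonoClosed
import Groth.Agent.Lib.DescAlg.Descends
import Groth.Agent.S5342

set_option autoImplicit false
set_option linter.style.haveILetI false
universe u
open CategoryTheory CategoryTheory.Limits MonoidalCategory CartesianMonoidalCategory MonObj AlgebraicGeometry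
open AbSch

namespace Groth.Agent.S19305

/-- Let k be an algebraically closed field, T a k-torus, A an abelian variety over k (smooth proper
k-group scheme with connected fibres over Spec k) and E a commutative k-group scheme which is an
extension of T by A: homomorphisms A → E → T composing to the trivial map whose sequence of sheaves
of points on the big fppf site of Spec k is short exact. Then E is a connected smooth k-group
scheme, and every maximal torus T₀ of E maps onto T by an isogeny: the composite T₀ → E → T is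
finite, flat and surjective (so T₀ and T have the same dimension). (The source lets E be a sheaf
extension and first shows it is a scheme; here E is taken to be a scheme.) -/
theorem result (k : Type u) [Field k] [IsAlgClosed k] (T A E : Over (Spec (CommRingCat.of k)))
    [GrpObj T] [IsCommMonObj T] (hT : Red.IsTorus T)
    [GrpObj A] [IsCommMonObj A] [Smooth A.hom] [IsProper A.hom]
    (hA : ∀ s : Spec (CommRingCat.of k), ConnectedSpace ↥(A.hom.fiber s))
    [GrpObj E] [IsCommMonObj E]
    (u : A ⟶ E) (v : E ⟶ T) [IsMonHom u] [IsMonHom v] (w : u ≫ v = 1)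
    (hex : (CGrpSh.seq Scheme.fppfPrecoverage u v w).ShortExact) :
    Smooth E.hom ∧ ConnectedSpace ↥E.left ∧
      ∀ (T₀ : Over (Spec (CommRingCat.of k))) [GrpObj T₀] (i : T₀ ⟶ E), Red.IsMaximalTorus i →
        IsFinite (i ≫ v).left ∧ Flat (i ≫ v).left ∧ Surjective (i ≫ v).left := by
  classical
  let s₀ : Spec (CommRingCat.of k) := IsLocalRing.closedPoint k
  haveI := Groth.Agent.Lib.Tori.Basic.smooth_of_isTorus hT
  haveI : IsAffineHom T.hom := Groth.Agent.Lib.Tori.Basic.isAffineHom_of_isTorus hT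
  haveI : IsAffine T.left := isAffine_of_isAffineHom T.hom
  haveI := Groth.Agent.H52.SemiAbelian.geometricallyIntegral_of_isTorus T hT
  haveI : IsIntegral T.left := GeometricallyIntegral.isIntegral_of_subsingleton T.hom
  haveI : ConnectedSpace A.left := by
    haveI := hA s₀
    have h1 : Function.Surjective (A.hom.fiberι s₀) := Set.range_eq_univ.1 (by
      rw [Scheme.Hom.range_fiberι]; exact Set.eq_univ_of_forall fun x => Subsingleton.elim (α := PrimeSpectrum k) _ _)
    exact h1.connectedSpace (A.hom.fiberι s₀).continuous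
  -- `u` is the kernel of `v`
  haveI : Mono u := ⟨fun a b h => Groth.Agent.Lib.OneMot6.injective_points u v w hex a b h⟩
  have hker : AlgGrp.IsKernel u v :=
    Groth.Agent.Lib.GrpQ.isKernel_of u w fun X x hx => Groth.Agent.Lib.OneMot6.exists_fac u v w hex x hx
  -- `v` is smooth, surjective and quasi-compact
  haveI : Epi (CGrpSh.ptsMap Scheme.fppfPrecoverage v) := hex.epi_g
  obtain ⟨V, hV, hsec⟩ := Groth.Agent.Lib.ExtTorus6.exists_sections v inferInstance
  haveI : Surjective A.hom := ⟨fun x => ⟨η[A].left x, Subsingleton.elim (α := PrimeSpectrum k) _ _⟩⟩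
  haveI : Smooth v.left := Groth.Agent.Lib.ExtTorus6.prop_of_sections @Smooth hker ‹Smooth A.hom› V hV hsec
  haveI : Surjective v.left := Groth.Agent.Lib.ExtTorus6.prop_of_sections @Surjective hker ‹Surjective A.hom› V hV hsec
  haveI : QuasiCompact v.left := Groth.Agent.Lib.ExtTorus6.prop_of_sections @QuasiCompact hker inferInstance V hV hsec
  haveI : Smooth E.hom := by rw [← Over.w v]; infer_instance
  haveI : QuasiCompact E.hom := by rw [← Over.w v]; infer_instance
  haveI : IsSeparated E.hom := Groth.Agent.Lib.GrpSch.isSeparated_of_field E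
  haveI : QuasiCompact u.left := Groth.Agent.Lib.GrpQ.quasiCompact_left u
  haveI : IsClosedImmersion u.left := Groth.Agent.Lib.GrpQ.MonoClosed.isClosedImmersion_of_mono u
  -- connectedness
  haveI hEconn : ConnectedSpace E.left := by
    obtain ⟨C, _, c, hc, hco, hcc, hconn, -⟩ := Groth.Agent.Lib.IsogLaw.exists_component E
    haveI := hc; haveI := hco; haveI := hcc; haveI := hconn
    haveI : Smooth C.hom := by rw [← Over.w c]; infer_instance
    haveI : QuasiCompact C.hom := by rw [← Over.w c]; infer_instance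
    haveI : Surjective (c ≫ v).left := by
      haveI : Smooth (c ≫ v).left := by rw [Over.comp_left]; infer_instance
      haveI : QuasiCompact (c ≫ v).left := Groth.Agent.Lib.GrpQ.quasiCompact_left (c ≫ v)
      have h1 := Groth.Agent.Lib.GrpQ.MonoClosed.isClosed_range (c ≫ v)
      have h2 := (c ≫ v).left.isOpenMap.isOpen_range
      refine ⟨fun x => ?_⟩
      have h3 : Set.range (c ≫ v).left = Set.univ :=
        IsClopen.eq_univ ⟨h1, h2⟩ ⟨_, ⟨η[C].left s₀, rfl⟩⟩
      exact Set.range_eq_univ.1 h3 x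
    haveI : Flat (c ≫ v).left := by rw [Over.comp_left]; infer_instance
    obtain ⟨Y, p, y, ⟨hp1, hp2, hp3⟩, hy⟩ :=
      Groth.Agent.Lib.GrpQ.exists_lift (Groth.Agent.Lib.GrpQ.isCover_hom (c ≫ v)) v
    haveI := hp2
    obtain ⟨a, ha⟩ := (Groth.Agent.Lib.GrpQ.mem_kernel hker (p / (y ≫ c))).2 (by
      rw [GrpObj.div_comp, Category.assoc, hy, div_self'])
    have hσ : lift a y ≫ (u ⊗ₘ c) ≫ μ[E] = p := by
      rw [lift_map_assoc, ← Hom.mul_def, ha, div_mul_cancel]
    haveI : Surjective ((u ⊗ₘ c) ≫ μ[E]).left := by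
      haveI : Surjective ((lift a y).left ≫ ((u ⊗ₘ c) ≫ μ[E]).left) := by rw [← Over.comp_left, hσ]; infer_instance
      exact Surjective.of_comp (lift a y).left _
    haveI : ConnectedSpace (A ⊗ C).left := Groth.Agent.S5342.result k A.left C.left A.hom C.hom η[A].left (Over.w η[A])
    exact ((u ⊗ₘ c) ≫ μ[E]).left.surjective.connectedSpace ((u ⊗ₘ c) ≫ μ[E]).left.continuous
  refine ⟨inferInstance, inferInstance, ?_⟩
  intro T₀ _ i hi
  haveI := hi.1; haveI := hi.2.1
  -- a quasi-complement of `A`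
  obtain ⟨H, _, h, hh, hhc, hHs, hHconn, -, hsurj, hfin⟩ :=
    Groth.Agent.Lib.TorsorNorm.exists_quasiComplement u
  haveI := hh; haveI := hhc; haveI := hHs; haveI := hHconn
  haveI : Mono h := Over.mono_of_mono_left h
  haveI : QuasiCompact H.hom := by rw [← Over.w h]; infer_instance
  let ψ : A ⊗ H ⟶ E := (u ⊗ₘ h) ≫ μ[E]
  have hψ : ∀ {X : Over (Spec (CommRingCat.of k))} (x : X ⟶ A ⊗ H),
      x ≫ ψ = (x ≫ fst A H ≫ u) * (x ≫ snd A H ≫ h) := fun x => by
    conv_lhs => rw [← lift_comp_fst_snd x]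
    rw [Hom.mul_def, lift_map_assoc, Category.assoc, Category.assoc]
  haveI : IsMonHom ψ := inferInstance
  haveI : Surjective ψ.left := hsurj
  haveI : LocallyOfFiniteType (A ⊗ H).hom := Groth.Agent.Lib.GrpQ.locallyOfFiniteType_tensor
  haveI : QuasiCompact (A ⊗ H).hom := inferInstanceAs (QuasiCompact (pullback.fst A.hom H.hom ≫ A.hom))
  haveI : Flat ψ.left := Groth.Agent.Lib.GrpQ.flat_of_surjective_of_smooth ψ
  haveI : LocallyOfFinitePresentation ψ.left :=
    Groth.Agent.Lib.Flat55.FibreTransfer.locallyOfFinitePresentation_of_comp (g := E.hom)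
      (by
        haveI : Smooth (A ⊗ H).hom := Groth.Agent.Lib.GrpQ.smooth_tensor
        rw [Over.w ψ]; infer_instance) inferInstance
  let g : H ⟶ T := h ≫ v
  haveI : Surjective g.left := by
    have e : ψ ≫ v = snd A H ≫ g := by
      rw [← Category.id_comp ψ, hψ, MonObj.mul_comp, Category.assoc, Category.assoc, w, MonObj.comp_one,
        MonObj.comp_one, _root_.one_mul, Category.id_comp, Category.assoc]
    haveI : Surjective (ψ.left ≫ v.left) := inferInstance
    haveI : Surjective ((snd A H).left ≫ g.left) := by rw [← Over.comp_left, ← e, Over.comp_left]; infer_instance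
    exact Surjective.of_comp (snd A H).left g.left
  haveI : Flat g.left := Groth.Agent.Lib.GrpQ.flat_of_surjective_of_smooth g
  haveI : QuasiCompact g.left := Groth.Agent.Lib.GrpQ.quasiCompact_left g
  obtain ⟨K, gK, κ, hκ, hκc, hκk, -⟩ := Groth.Agent.Lib.GrpQ.exists_kernel g
  haveI := hκ; haveI := hκc
  haveI : IsFinite K.hom := by
    obtain ⟨b, hb⟩ := (Groth.Agent.Lib.GrpQ.mem_kernel hker (κ ≫ h)).2 (by
      rw [Category.assoc]; exact Groth.Agent.Lib.GrpQ.kernel_comp hκk)
    have hb' : b.left ≫ u.left = κ.left ≫ h.left := congr($(hb).left)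
    let m : K.left ⟶ pullback u.left h.left := pullback.lift b.left κ.left hb'
    haveI : IsClosedImmersion (m ≫ pullback.snd u.left h.left) := by rw [pullback.lift_snd]; infer_instance
    haveI : IsClosedImmersion m := IsClosedImmersion.of_comp m (pullback.snd u.left h.left)
    have : K.hom = m ≫ pullback.fst u.left h.left ≫ A.hom := by rw [pullback.lift_fst_assoc, Over.w b]
    rw [this]
    infer_instance
  haveI hgfin : IsFinite g.left := Groth.Agent.Lib.IsogLaw.isFinite_of_kernel g hκk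
  haveI : IsAffine H.left := isAffine_of_isAffineHom g.left
  haveI hHT : Red.IsTorus H := by
    obtain ⟨T', _, e, he, hT'⟩ := (Groth.Agent.Lib.IsogLaw.exists_mono_torus_iff g).2 hT
    haveI := he
    exact Groth.Agent.Lib.Tori.Basic.isTorus_congr (Grp.mkIso' e) hT'
  -- a power map of `A` descends to `E`
  obtain ⟨n, hn, hKn⟩ := Groth.Agent.Lib.SemiAbIsog.Basic.exists_killed K
  let pA : A ⟶ A := Groth.Agent.Lib.ImgMT.powN A n
  haveI : IsMonHom pA := Groth.Agent.Lib.ImgMT.isMonHom_powN (fun X a b => mul_comm a b) n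
  haveI : QuasiCompact ψ.left := by
    haveI : QuasiCompact (A ⊗ H).hom := inferInstanceAs (QuasiCompact (pullback.fst A.hom H.hom ≫ A.hom))
    exact Groth.Agent.Lib.GrpQ.quasiCompact_left ψ
  obtain ⟨ρ, hρ⟩ := Groth.Agent.Lib.GrpQ.exists_desc (Groth.Agent.Lib.GrpQ.IsCover.mk' ψ) (fst A H ≫ pA) fun Z x y hxy => by
    rw [hψ, hψ] at hxy
    have h1 : ((x ≫ fst A H) / (y ≫ fst A H)) ≫ u = ((y ≫ snd A H) / (x ≫ snd A H)) ≫ h := by
      simp only [GrpObj.div_comp, Category.assoc]
      rw [div_eq_div_iff_mul_eq_mul, hxy, mul_comm]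
    obtain ⟨d, hd⟩ := (Groth.Agent.Lib.GrpQ.mem_kernel hκk ((y ≫ snd A H) / (x ≫ snd A H))).2 (by
      show _ ≫ h ≫ v = 1
      rw [← Category.assoc, ← h1, Category.assoc, w, MonObj.comp_one])
    have hd1 : d ^ n = 1 := by rw [← Category.comp_id d, ← MonObj.comp_pow, hKn, MonObj.comp_one]
    have h2 : ((x ≫ fst A H) / (y ≫ fst A H)) ^ n = 1 := by
      rw [← cancel_mono u, MonObj.pow_comp, h1, ← MonObj.pow_comp, ← hd, ← MonObj.pow_comp, hd1,
        MonObj.one_comp, MonObj.one_comp, MonObj.one_comp]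
    rw [← Category.assoc, ← Category.assoc, Groth.Agent.Lib.ImgMT.comp_powN, Groth.Agent.Lib.ImgMT.comp_powN]
    rwa [div_pow, div_eq_one] at h2
  haveI : IsMonHom ρ := Groth.Agent.Lib.SemiAbIsog.Image.isMonHom_desc ψ (fst A H ≫ pA) ρ hρ
  -- every torus lies in the quasi-complement
  have hT₀ := hi.2.2.1
  haveI := Groth.Agent.Lib.Tori.Basic.smooth_of_isTorus hT₀
  haveI : IsAffineHom T₀.hom := Groth.Agent.Lib.Tori.Basic.isAffineHom_of_isTorus hT₀
  haveI : IsAffine T₀.left := isAffine_of_isAffineHom T₀.hom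
  haveI := Groth.Agent.H52.SemiAbelian.geometricallyIntegral_of_isTorus T₀ hT₀
  haveI : IsIntegral T₀.left := GeometricallyIntegral.isIntegral_of_subsingleton T₀.hom
  haveI : IsMonHom (i ≫ ρ) := inferInstance
  have hiρ : i ≫ ρ = 1 := Groth.Agent.Lib.SemiAbIsog.Image.eq_one_of_affine_proper (i ≫ ρ)
  haveI : IsCommMonObj T₀ := (isCommMonObj_iff_isMulCommutative (M := T₀)).mpr fun X => ⟨⟨fun x y => (cancel_mono i).1 (by
    rw [MonObj.mul_comp, MonObj.mul_comp, mul_comm])⟩⟩
  obtain ⟨Y, c, y, hc, hy⟩ := Groth.Agent.Lib.GrpQ.exists_lift (Groth.Agent.Lib.GrpQ.IsCover.mk' ψ) i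
  obtain ⟨hp1, hp2, hp3⟩ := Groth.Agent.Lib.ImgMT.isCov_powN_torus hT₀ hn
  haveI := hp1; haveI := hp2; haveI := hp3
  have hyA : (y ≫ fst A H) ^ n = 1 := by
    rw [← Groth.Agent.Lib.ImgMT.comp_powN, Category.assoc, ← hρ, ← Category.assoc, hy, Category.assoc, hiρ,
      MonObj.comp_one]
  have hpow : (c ^ n) ≫ i = ((y ≫ snd A H) ^ n) ≫ h := by
    rw [MonObj.pow_comp, ← hy, hψ, mul_pow, ← Category.assoc y (fst A H), ← MonObj.pow_comp, hyA, MonObj.one_comp,
      _root_.one_mul, ← Category.assoc y (snd A H), MonObj.pow_comp]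
  obtain ⟨Z, p, z, hp, hz⟩ := Groth.Agent.Lib.GrpQ.exists_lift
    (Groth.Agent.Lib.GrpQ.IsCover.mk' (Groth.Agent.Lib.ImgMT.powN T₀ n)) (𝟙 T₀)
  obtain ⟨Z', p', z', hp', hz'⟩ := Groth.Agent.Lib.GrpQ.exists_lift hc z
  obtain ⟨f, hf⟩ := Groth.Agent.Lib.GrpQ.exists_factor h i (hp'.comp hp) (z' ≫ (y ≫ snd A H) ^ n) (by
    have hz0 : z ^ n = p := by rw [← Groth.Agent.Lib.ImgMT.comp_powN, hz, Category.comp_id]
    rw [Category.assoc, ← hpow, ← Category.assoc, MonObj.comp_pow, hz', ← MonObj.comp_pow, hz0])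
  haveI : IsIso f := Groth.Agent.Lib.SmWeil.maximal_of_isMaximalTorus hi h f hHT hf
  haveI : IsIso f.left := ((Over.forget _).mapIso (asIso f)).isIso_hom
  rw [show i ≫ v = f ≫ g by rw [← hf, Category.assoc], Over.comp_left]
  exact ⟨inferInstance, inferInstance, inferInstance⟩

end Groth.Agent.S19305
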