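import Groth.Statements.S19306
import Mathlib.RingTheory.PowerSeries.Trunc
import Mathlib.RingTheory.Finiteness.Prod
import Mathlib.RingTheory.Flat.Basic
import Mathlib.RingTheory.Flat.EquationalCriterion
import Mathlib.Algebra.Module.FinitePresentation
import Mathlib.LinearAlgebra.TensorProduct.RightExactness
import Mathlib.Algebra.Module.Projective
import Mathlib.LinearAlgebra.Matrix.ToLin
-- import your own Groth.Agent.* helpers here

set_option autoImplicit false
universe u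
open PowerSeries
open CAlg

namespace Groth.Agent.S19306

open scoped TensorProduct PowerSeries

theorem decomp {R : Type u} [CommRing R] (M : ℕ) (g : R⟦X⟧) :
    ∃ h : R⟦X⟧, g = (∑ i ∈ Finset.range M, PowerSeries.C (PowerSeries.coeff i g) * PowerSeries.X ^ i)
      + PowerSeries.X ^ M * h := by
  refine ⟨PowerSeries.mk fun i => PowerSeries.coeff (i + M) g, ?_⟩
  ext m
  rw [map_add, map_sum]
  simp only [PowerSeries.coeff_C_mul, PowerSeries.coeff_X_pow, PowerSeries.coeff_X_pow_mul',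
    PowerSeries.coeff_mk, mul_ite, mul_one, mul_zero]
  rcases lt_or_ge m M with h | h
  · rw [Finset.sum_eq_single m (fun b _ hb => by simp [Ne.symm hb]) (fun h' => by simp at h'; omega),
      if_pos rfl, if_neg (by omega), add_zero]
  · rw [if_pos h, Nat.sub_add_cancel h, Finset.sum_eq_zero (fun b hb => ?_), zero_add]
    rw [if_neg]; simp at hb; omega

theorem smul_decomp {R : Type u} [CommRing R] {Q : Type u} [AddCommGroup Q] [Module R Q]
    [Module R⟦X⟧ Q] [IsScalarTower R R⟦X⟧ Q] (M : ℕ)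
    (hQ : ∀ v : Q, (PowerSeries.X : R⟦X⟧) ^ M • v = 0) (g : R⟦X⟧) (v : Q) :
    g • v = ∑ i ∈ Finset.range M, PowerSeries.coeff i g • ((PowerSeries.X : R⟦X⟧) ^ i • v) := by
  obtain ⟨h, hh⟩ := decomp M g
  conv_lhs => rw [hh]
  rw [add_smul, mul_comm _ h, mul_smul, hQ, smul_zero, add_zero, Finset.sum_smul]
  refine Finset.sum_congr rfl fun i _ => ?_
  rw [← PowerSeries.smul_eq_C_mul, smul_assoc]

theorem linear_of_comm {R : Type u} [CommRing R] {Q Q' : Type u} [AddCommGroup Q] [Module R Q]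
    [Module R⟦X⟧ Q] [IsScalarTower R R⟦X⟧ Q] [AddCommGroup Q'] [Module R Q']
    [Module R⟦X⟧ Q'] [IsScalarTower R R⟦X⟧ Q'] (M : ℕ)
    (hQ : ∀ v : Q, (PowerSeries.X : R⟦X⟧) ^ M • v = 0) (hQ' : ∀ v : Q', (PowerSeries.X : R⟦X⟧) ^ M • v = 0)
    (σ : Q →ₗ[R] Q') (hσ : ∀ v, σ ((PowerSeries.X : R⟦X⟧) • v) = (PowerSeries.X : R⟦X⟧) • σ v)
    (g : R⟦X⟧) (v : Q) : σ (g • v) = g • σ v := by
  rw [smul_decomp M hQ, smul_decomp M hQ', map_sum]
  refine Finset.sum_congr rfl fun i hi0 => ?_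
  rw [map_smul]; congr 1
  clear hi0
  induction i with
  | zero => simp
  | succ i ih => rw [pow_succ', mul_smul, mul_smul, hσ, ih]

theorem mem_map_C {R : Type u} [CommRing R] {I : Ideal R} (hI : I.FG) {g : R⟦X⟧}
    (hg : ∀ i, PowerSeries.coeff i g ∈ I) : g ∈ I.map (PowerSeries.C : R →+* R⟦X⟧) := by
  classical
  obtain ⟨s, hs⟩ := hI
  have : ∀ i, ∃ c : R → R, ∑ a ∈ s, c a • a = PowerSeries.coeff i g := by
    intro i
    obtain ⟨c, -, hc⟩ := Submodule.mem_span_finset.1 (show PowerSeries.coeff i g ∈ Submodule.span R (s : Set R) by rw [show Submodule.span R (s : Set R) = I from hs]; exact hg i)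
    exact ⟨c, hc⟩
  choose c hc using this
  have : g = ∑ a ∈ s, PowerSeries.C a * PowerSeries.mk (fun i => c i a) := by
    ext i; rw [map_sum, ← hc i]
    refine Finset.sum_congr rfl fun a _ => ?_
    rw [PowerSeries.coeff_C_mul, PowerSeries.coeff_mk, smul_eq_mul, mul_comm]
  rw [this]
  exact Submodule.sum_mem _ fun a ha => Ideal.mul_mem_right _ _
    (Ideal.mem_map_of_mem _ (hs ▸ Submodule.subset_span ha))

theorem coeff_mem_of_mem_map {R : Type u} [CommRing R] {I : Ideal R} {g : R⟦X⟧}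
    (hg : g ∈ I.map (PowerSeries.C : R →+* R⟦X⟧)) : ∀ i, PowerSeries.coeff i g ∈ I := by
  induction hg using Submodule.span_induction with
  | mem x hx =>
    obtain ⟨a, ha, rfl⟩ := hx; intro i
    rw [PowerSeries.coeff_C]; split_ifs
    · exact ha
    · exact zero_mem _
  | zero => simp
  | add x y _ _ hx hy => intro i; rw [map_add]; exact add_mem (hx i) (hy i)
  | smul a x _ hx =>
    intro i; rw [smul_eq_mul, PowerSeries.coeff_mul]
    exact Submodule.sum_mem _ fun p _ => Ideal.mul_mem_left _ _ (hx p.2)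

theorem forward {R : Type u} [CommRing R] (n M : ℕ) (Λ : Submodule R⟦X⟧ (Fin n → R⟦X⟧))
    (hΛ : ∀ v : Fin n → R⟦X⟧, ((PowerSeries.X : R⟦X⟧) ^ M) • v ∈ Λ)
    [Module.Finite R⟦X⟧ Λ] [Module.Projective R⟦X⟧ Λ] :
    Module.Projective R ((Fin n → R⟦X⟧) ⧸ Λ) := by
  classical
  let E : (Fin n → Fin M → R) →ₗ[R] (Fin n → R⟦X⟧) :=
    { toFun := fun c j => ∑ i : Fin M, PowerSeries.C (c j i) * PowerSeries.X ^ (i : ℕ)
      map_add' := fun a b => by funext j; simp [add_mul, Finset.sum_add_distrib]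
      map_smul' := fun a b => by
        funext j; simp [Finset.smul_sum, PowerSeries.smul_eq_C_mul, mul_assoc] }
  let D : (Fin n → R⟦X⟧) →ₗ[R] (Fin n → Fin M → R) :=
    { toFun := fun v j i => PowerSeries.coeff (i : ℕ) (v j)
      map_add' := fun a b => by funext j i; simp
      map_smul' := fun a b => by funext j i; simp }
  have hDE : ∀ c, D (E c) = c := by
    intro c; funext j i
    show PowerSeries.coeff (i : ℕ) (∑ l : Fin M, PowerSeries.C (c j l) * PowerSeries.X ^ (l : ℕ)) = c j i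
    rw [map_sum, Finset.sum_eq_single i (fun l _ hl => ?_) (by simp)]
    · simp
    · rw [PowerSeries.coeff_C_mul, PowerSeries.coeff_X_pow, if_neg (fun h => hl (Fin.ext h.symm)), mul_zero]
  have hED : ∀ v, v - E (D v) ∈ Λ := by
    intro v
    choose h hh using fun j => decomp M (v j)
    have : v - E (D v) = (PowerSeries.X : R⟦X⟧) ^ M • h := by
      funext j
      show v j - ∑ i : Fin M, PowerSeries.C (PowerSeries.coeff (i : ℕ) (v j)) * PowerSeries.X ^ (i : ℕ)
        = PowerSeries.X ^ M * h j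
      rw [Fin.sum_univ_eq_sum_range (fun i => PowerSeries.C (PowerSeries.coeff i (v j)) * PowerSeries.X ^ i) M]
      exact sub_eq_iff_eq_add'.2 (hh j)
    rw [this]; exact hΛ h
  let f : (Fin n → Fin M → R) →ₗ[R] (Fin n → R⟦X⟧) ⧸ Λ := (Λ.mkQ.restrictScalars R) ∘ₗ E
  have hf : Function.Surjective f := fun q => by
    obtain ⟨v, rfl⟩ := Submodule.Quotient.mk_surjective _ q
    exact ⟨D v, ((Submodule.Quotient.eq Λ).2 (hED v)).symm⟩
  have hker : ∀ c, c ∈ LinearMap.ker f ↔ ∃ x ∈ Λ, D x = c := by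
    intro c
    refine ⟨fun h => ⟨E c, (Submodule.Quotient.mk_eq_zero Λ).1 h, hDE c⟩, ?_⟩
    rintro ⟨x, hx, rfl⟩
    refine (Submodule.Quotient.mk_eq_zero Λ).2 ?_
    have := sub_mem hx (hED x)
    rwa [sub_sub_cancel] at this
  have hD0 : ∀ v, D ((PowerSeries.X : R⟦X⟧) ^ M • v) = 0 := by
    intro v; funext j i
    show PowerSeries.coeff (i : ℕ) (PowerSeries.X ^ M * v j) = 0
    rw [PowerSeries.coeff_X_pow_mul', if_neg (by omega)]
  have hDsmul : ∀ (g : R⟦X⟧) v, D (g • v) =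
      ∑ i ∈ Finset.range M, PowerSeries.coeff i g • D ((PowerSeries.X : R⟦X⟧) ^ i • v) := by
    intro g v
    obtain ⟨h, hh⟩ := decomp M g
    conv_lhs => rw [hh]
    rw [add_smul, mul_smul, map_add, hD0, add_zero, Finset.sum_smul, map_sum]
    refine Finset.sum_congr rfl fun i _ => ?_
    rw [← PowerSeries.smul_eq_C_mul, smul_assoc, map_smul]
  obtain ⟨S, hS⟩ : Λ.FG := (Module.Finite.iff_fg).1 inferInstance
  have hfg : (LinearMap.ker f).FG := by
    refine ⟨(S ×ˢ Finset.range M).image (fun p => D ((PowerSeries.X : R⟦X⟧) ^ p.2 • p.1)), ?_⟩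
    refine le_antisymm (Submodule.span_le.2 ?_) ?_
    · intro c hc
      simp only [Finset.coe_image, Set.mem_image, Finset.mem_coe, Finset.mem_product] at hc
      obtain ⟨p, ⟨hp, -⟩, rfl⟩ := hc
      exact (hker _).2 ⟨_, Λ.smul_mem _ (hS ▸ Submodule.subset_span hp), rfl⟩
    · intro c hc
      obtain ⟨x, hx, rfl⟩ := (hker c).1 hc
      rw [← hS] at hx
      suffices ∀ g : R⟦X⟧, D (g • x) ∈ Submodule.span R
          (((S ×ˢ Finset.range M).image (fun p => D ((PowerSeries.X : R⟦X⟧) ^ p.2 • p.1)) : Finset (Fin n → Fin M → R)) : Set (Fin n → Fin M → R)) by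
        simpa using this 1
      clear hc
      induction hx using Submodule.span_induction with
      | mem y hy =>
        intro g; rw [hDsmul]
        refine Submodule.sum_mem _ fun i hi => Submodule.smul_mem _ _ (Submodule.subset_span ?_)
        exact Finset.mem_image.2 ⟨(y, i), Finset.mem_product.2 ⟨hy, hi⟩, rfl⟩
      | zero => intro g; simp
      | add a b _ _ ha hb => intro g; rw [smul_add, map_add]; exact add_mem (ha g) (hb g)
      | smul a b _ hb => intro g; rw [smul_smul]; exact hb (g * a)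
  have : Module.FinitePresentation R ((Fin n → R⟦X⟧) ⧸ Λ) :=
    Module.finitePresentation_of_surjective f hf hfg
  obtain ⟨N, π', hπ'⟩ := Module.Finite.exists_fin' R⟦X⟧ Λ
  obtain ⟨s', hs'⟩ := Module.projective_lifting_property π' LinearMap.id hπ'
  let ψ : (Fin n → R⟦X⟧) →ₗ[R⟦X⟧] Λ :=
    ((PowerSeries.X : R⟦X⟧) ^ M • (LinearMap.id : (Fin n → R⟦X⟧) →ₗ[R⟦X⟧] _)).codRestrict Λ (fun v => hΛ v)
  have : Module.Flat R ((Fin n → R⟦X⟧) ⧸ Λ) := by
    rw [Module.Flat.iff_rTensor_injective]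
    intro I hI
    rw [← LinearMap.ker_eq_bot, eq_bot_iff]
    intro t ht
    obtain ⟨t', rfl⟩ := LinearMap.lTensor_surjective I hf t
    let μ : I ⊗[R] (Fin n → Fin M → R) →ₗ[R] (Fin n → Fin M → R) :=
      (TensorProduct.lid R (Fin n → Fin M → R)).toLinearMap ∘ₗ I.subtype.rTensor (Fin n → Fin M → R)
    have hμi : Function.Injective μ :=
      (TensorProduct.lid R (Fin n → Fin M → R)).injective.comp
        (Module.Flat.rTensor_preserves_injective_linearMap _ I.injective_subtype)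
    have hμker : μ t' ∈ LinearMap.ker f := by
      have hcomm : f ∘ₗ μ = (TensorProduct.lid R _).toLinearMap ∘ₗ
          I.subtype.rTensor _ ∘ₗ f.lTensor I := by
        refine TensorProduct.ext' fun a c => ?_
        simp [μ]
      rw [LinearMap.mem_ker, ← LinearMap.comp_apply, hcomm]
      simp only [LinearMap.comp_apply]
      rw [LinearMap.mem_ker.1 ht, map_zero]
    have hμI : ∀ u j i, μ u j i ∈ I := by
      intro u
      induction u with
      | zero => intro j i; simp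
      | tmul a c => intro j i; simp [μ]; exact Ideal.mul_mem_right _ _ a.2
      | add u v hu hv => intro j i; rw [map_add]; exact add_mem (hu j i) (hv j i)
    set J := I.map (PowerSeries.C : R →+* R⟦X⟧) with hJ
    have hEJ : E (μ t') ∈ J • (⊤ : Submodule R⟦X⟧ (Fin n → R⟦X⟧)) := by
      rw [pi_eq_sum_univ (E (μ t'))]
      refine Submodule.sum_mem _ fun j _ => Submodule.smul_mem_smul ?_ Submodule.mem_top
      show (∑ i : Fin M, PowerSeries.C (μ t' j i) * PowerSeries.X ^ (i : ℕ)) ∈ Ideal.map (PowerSeries.C : R →+* R⟦X⟧) I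
      exact Submodule.sum_mem _ fun i _ => Ideal.mul_mem_right _ _ (Ideal.mem_map_of_mem (PowerSeries.C : R →+* R⟦X⟧) (hμI t' j i))
    have hEΛ : E (μ t') ∈ Λ := (Submodule.Quotient.mk_eq_zero Λ).1 hμker
    have hx : (⟨_, hEΛ⟩ : Λ) ∈ J • (⊤ : Submodule R⟦X⟧ Λ) := by
      have h1 : (PowerSeries.X : R⟦X⟧) ^ M • (⟨_, hEΛ⟩ : Λ) ∈ J • (⊤ : Submodule R⟦X⟧ Λ) := by
        have := Submodule.mem_map_of_mem (f := ψ) hEJ
        rw [Submodule.map_smul''] at this
        have h2 : ψ (E (μ t')) = (PowerSeries.X : R⟦X⟧) ^ M • (⟨_, hEΛ⟩ : Λ) := rfl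
        rw [h2] at this
        exact (Submodule.smul_mono le_rfl le_top) this
      have h3 : ∀ j, s' ⟨_, hEΛ⟩ j ∈ J := by
        intro j
        refine mem_map_C hI fun i => ?_
        have h4 : ∀ y ∈ J • (⊤ : Submodule R⟦X⟧ Λ), s' y j ∈ J := by
          intro y hy
          refine Submodule.smul_induction_on hy (fun a ha z _ => ?_) (fun a b ha hb => ?_)
          · rw [map_smul]; exact Ideal.mul_mem_right _ _ ha
          · rw [map_add]; exact add_mem ha hb
        have := coeff_mem_of_mem_map (h4 _ h1) (i + M)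
        rw [map_smul, Pi.smul_apply, smul_eq_mul, PowerSeries.coeff_X_pow_mul] at this
        exact this
      rw [show (⟨_, hEΛ⟩ : Λ) = π' (s' ⟨_, hEΛ⟩) from (LinearMap.congr_fun hs' _).symm,
        pi_eq_sum_univ (s' ⟨_, hEΛ⟩), map_sum]
      refine Submodule.sum_mem _ fun j _ => ?_
      rw [map_smul]; exact Submodule.smul_mem_smul (h3 j) Submodule.mem_top
    have hμIK : ∀ y : Λ, y ∈ J • (⊤ : Submodule R⟦X⟧ Λ) →
        D (y : Fin n → R⟦X⟧) ∈ (LinearMap.ker (f.lTensor I)).map μ := by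
      intro y hy
      refine Submodule.smul_induction_on hy (fun a ha z hz => ?_) (fun a b ha hb => ?_)
      · clear hz
        induction ha using Submodule.span_induction generalizing z with
        | mem x hx =>
          obtain ⟨b, hb, rfl⟩ := hx
          have : D (((PowerSeries.C b • z : Λ)) : Fin n → R⟦X⟧) = b • D (z : Fin n → R⟦X⟧) := by
            rw [← map_smul]; congr 1; funext j
            exact (PowerSeries.smul_eq_C_mul _ _).symm
          rw [this]
          refine ⟨(⟨b, hb⟩ : I) ⊗ₜ D (z : Fin n → R⟦X⟧), ?_, by simp [μ]⟩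
          show f.lTensor I _ = 0
          rw [LinearMap.lTensor_tmul, LinearMap.mem_ker.1 ((hker _).2 ⟨_, z.2, rfl⟩),
            TensorProduct.tmul_zero]
        | zero => simp
        | add x y _ _ hx hy =>
          rw [add_smul, Submodule.coe_add, map_add]; exact add_mem (hx z) (hy z)
        | smul r x _ hx =>
          rw [smul_eq_mul, mul_comm, mul_smul]; exact hx (r • z)
      · rw [Submodule.coe_add, map_add]; exact add_mem ha hb
    obtain ⟨u, hu, hu'⟩ := hμIK ⟨_, hEΛ⟩ hx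
    have : u = t' := hμi (hu'.trans (hDE _))
    rw [← this]
    exact (Submodule.mem_bot R).2 hu
  exact Module.Flat.projective_of_finitePresentation

theorem backward {R : Type u} [CommRing R] (n M : ℕ) (Λ : Submodule R⟦X⟧ (Fin n → R⟦X⟧))
    (hΛ : ∀ v : Fin n → R⟦X⟧, ((PowerSeries.X : R⟦X⟧) ^ M) • v ∈ Λ)
    [Module.Projective R ((Fin n → R⟦X⟧) ⧸ Λ)] :
    Module.Finite R⟦X⟧ Λ ∧ Module.Projective R⟦X⟧ Λ := by
  classical
  let Q := (Fin n → R⟦X⟧) ⧸ Λ
  have hQ : ∀ v : Q, (PowerSeries.X : R⟦X⟧) ^ (M + 1) • v = 0 := by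
    intro v; obtain ⟨w, rfl⟩ := Submodule.Quotient.mk_surjective _ v
    rw [← Submodule.Quotient.mk_smul, Submodule.Quotient.mk_eq_zero, pow_succ', mul_smul]
    exact Λ.smul_mem _ (hΛ w)
  let π := Λ.mkQ
  have : Module.Finite R Q := by
    refine ⟨⟨(Finset.univ ×ˢ Finset.range (M + 1)).image
      (fun p : Fin n × ℕ => (PowerSeries.X : R⟦X⟧) ^ p.2 • π (Pi.single p.1 1)), ?_⟩⟩
    rw [eq_top_iff]; intro v _
    obtain ⟨w, rfl⟩ := Submodule.Quotient.mk_surjective _ v
    rw [show Submodule.Quotient.mk w = π w from rfl, pi_eq_sum_univ w, map_sum]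
    refine Submodule.sum_mem _ fun j _ => ?_
    rw [map_smul, smul_decomp (M + 1) hQ]
    refine Submodule.sum_mem _ fun i hi => Submodule.smul_mem _ _ (Submodule.subset_span ?_)
    refine Finset.mem_image.2 ⟨(j, i), Finset.mem_product.2 ⟨Finset.mem_univ _, hi⟩, ?_⟩
    congr 2; funext l; simp [Pi.single_apply, eq_comm]
  obtain ⟨k, r, hr⟩ := Module.Finite.exists_fin' R Q
  obtain ⟨s, hs⟩ := Module.projective_lifting_property r LinearMap.id hr
  have hrs : ∀ v, r (s v) = v := fun v => LinearMap.congr_fun hs v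
  let x : Q →ₗ[R] Q := ((PowerSeries.X : R⟦X⟧) • (LinearMap.id : Q →ₗ[R⟦X⟧] Q)).restrictScalars R
  let N : Matrix (Fin k) (Fin k) R := LinearMap.toMatrix' (s ∘ₗ x ∘ₗ r)
  have hN : N ^ (M + 1) = 0 := by
    have hp : ∀ j, (s ∘ₗ x ∘ₗ r) ^ (j + 1) = s ∘ₗ (x ^ (j + 1)) ∘ₗ r := by
      intro j; induction j with
      | zero => simp
      | succ j ih =>
        rw [pow_succ', ih, pow_succ' x (j + 1)]
        refine LinearMap.ext fun v => ?_
        show s (x (r (s ((x ^ (j + 1)) (r v))))) = s (x ((x ^ (j + 1)) (r v)))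
        rw [hrs]
    have hx : ∀ j v, (x ^ j) v = (PowerSeries.X : R⟦X⟧) ^ j • v := by
      intro j; induction j with
      | zero => intro v; simp
      | succ j ih =>
        intro v; rw [pow_succ', pow_succ', mul_smul]
        show x ((x ^ j) v) = _
        rw [ih]; rfl
    show LinearMap.toMatrixAlgEquiv' (s ∘ₗ x ∘ₗ r) ^ (M + 1) = 0
    rw [← map_pow, hp, show x ^ (M + 1) = 0 from LinearMap.ext fun v => (hx _ v).trans (hQ v)]
    simp
  let N' : (Fin k → R⟦X⟧) →ₗ[R⟦X⟧] (Fin k → R⟦X⟧) := Matrix.toLinAlgEquiv' (N.map (PowerSeries.C : R →+* R⟦X⟧))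
  have hN' : N' ^ (M + 1) = 0 := by
    show Matrix.toLinAlgEquiv' ((PowerSeries.C : R →+* R⟦X⟧).mapMatrix N) ^ (M + 1) = 0
    rw [← map_pow, ← map_pow, hN, map_zero, map_zero]
  let Xe : Module.End R⟦X⟧ (Fin k → R⟦X⟧) := (PowerSeries.X : R⟦X⟧) • (1 : Module.End R⟦X⟧ (Fin k → R⟦X⟧))
  let T : Module.End R⟦X⟧ (Fin k → R⟦X⟧) := Xe - N'
  have hcomm : Commute Xe N' := Commute.smul_left (Commute.one_left _) _
  let W : Module.End R⟦X⟧ (Fin k → R⟦X⟧) := ∑ i ∈ Finset.range (M + 1), Xe ^ i * N' ^ (M + 1 - 1 - i)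
  have hTW : T * W = (PowerSeries.X : R⟦X⟧) ^ (M + 1) • (1 : Module.End R⟦X⟧ (Fin k → R⟦X⟧)) := by
    rw [hcomm.mul_geom_sum₂, hN', sub_zero, smul_pow, one_pow]
  have hWT : W * T = (PowerSeries.X : R⟦X⟧) ^ (M + 1) • (1 : Module.End R⟦X⟧ (Fin k → R⟦X⟧)) := by
    rw [hcomm.geom_sum₂_mul, hN', sub_zero, smul_pow, one_pow]
  have hTinj : Function.Injective T := by
    intro a b hab
    have := congrArg W hab
    rw [← Module.End.mul_apply, ← Module.End.mul_apply, hWT] at this
    funext j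
    refine PowerSeries.ext fun i => ?_
    have := congrArg (PowerSeries.coeff (i + (M + 1))) (congrFun this j)
    simpa [PowerSeries.coeff_X_pow_mul] using this
  let K := LinearMap.range T
  have : Module.Finite R⟦X⟧ K := Module.Finite.range T
  have : Module.Projective R⟦X⟧ K := Module.Projective.of_equiv (LinearEquiv.ofInjective T hTinj)
  have hQ' : ∀ v : (Fin k → R⟦X⟧) ⧸ K, (PowerSeries.X : R⟦X⟧) ^ (M + 1) • v = 0 := by
    intro v; obtain ⟨w, rfl⟩ := Submodule.Quotient.mk_surjective _ v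
    rw [← Submodule.Quotient.mk_smul, Submodule.Quotient.mk_eq_zero]
    exact ⟨W w, by rw [← Module.End.mul_apply, hTW]; rfl⟩
  let Cv : (Fin k → R) →ₗ[R] (Fin k → R⟦X⟧) :=
    { toFun := fun v j => PowerSeries.C (v j)
      map_add' := fun a b => by funext j; simp
      map_smul' := fun a b => by funext j; simp [PowerSeries.smul_eq_C_mul] }
  have hCv : ∀ v, N' (Cv v) = Cv (N.mulVec v) := by
    intro v; funext j
    show ((N.map (PowerSeries.C : R →+* R⟦X⟧)).mulVec (fun l => PowerSeries.C (v l))) j = PowerSeries.C (N.mulVec v j)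
    rw [RingHom.map_mulVec]; rfl
  let σ : Q →ₗ[R] (Fin k → R⟦X⟧) ⧸ K := (K.mkQ.restrictScalars R) ∘ₗ Cv ∘ₗ s
  have hσ : ∀ v, σ ((PowerSeries.X : R⟦X⟧) • v) = (PowerSeries.X : R⟦X⟧) • σ v := by
    intro v
    show Submodule.Quotient.mk (Cv (s _)) = (PowerSeries.X : R⟦X⟧) • Submodule.Quotient.mk (Cv (s v))
    rw [← Submodule.Quotient.mk_smul]
    symm
    rw [Submodule.Quotient.eq]
    refine ⟨Cv (s v), ?_⟩
    have : N.mulVec (s v) = s ((PowerSeries.X : R⟦X⟧) • v) := by
      rw [show N.mulVec (s v) = Matrix.toLin' N (s v) from rfl, Matrix.toLin'_toMatrix']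
      show s (x (r (s v))) = _
      rw [hrs]; rfl
    show (PowerSeries.X : R⟦X⟧) • Cv (s v) - N' (Cv (s v)) = _
    rw [hCv, this]
  let α : (Fin n → R⟦X⟧) →ₗ[R⟦X⟧] (Fin k → R⟦X⟧) :=
    (Pi.basisFun R⟦X⟧ (Fin n)).constr R⟦X⟧ (fun i => Cv (s (π (Pi.single i 1))))
  have hαe : ∀ i, α (Pi.single i 1) = Cv (s (π (Pi.single i 1))) := by
    intro i; rw [← Pi.basisFun_apply]; simp [α]
  have hα : ∀ v, Submodule.Quotient.mk (α v) = σ (π v) := by
    intro v
    rw [pi_eq_sum_univ v]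
    simp only [map_sum, map_smul]
    rw [show (Submodule.Quotient.mk (∑ i, v i • α (fun j => if i = j then (1 : R⟦X⟧) else 0)) : (Fin k → R⟦X⟧) ⧸ K) =
      ∑ i, v i • Submodule.Quotient.mk (α (fun j => if i = j then (1 : R⟦X⟧) else 0)) by
      rw [← Submodule.mkQ_apply, map_sum]; simp]
    refine Finset.sum_congr rfl fun i _ => ?_
    rw [linear_of_comm (M + 1) hQ hQ' σ hσ]
    congr 1
    rw [show (fun j => if i = j then (1 : R⟦X⟧) else 0) = Pi.single i 1 by
      funext j; simp [Pi.single_apply, eq_comm], hαe]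
    rfl
  let q : (Fin k → R⟦X⟧) →ₗ[R⟦X⟧] Q :=
    (Pi.basisFun R⟦X⟧ (Fin k)).constr R⟦X⟧ (fun i => r (Pi.single i 1))
  have hqC : ∀ v, q (Cv v) = r v := by
    intro v
    have : q.restrictScalars R ∘ₗ Cv = r := by
      refine (Pi.basisFun R (Fin k)).ext fun i => ?_
      rw [Pi.basisFun_apply]
      show q (Cv (Pi.single i 1)) = _
      rw [show Cv (Pi.single i 1) = Pi.basisFun R⟦X⟧ (Fin k) i by
        rw [Pi.basisFun_apply]; funext j
        show PowerSeries.C ((Pi.single i 1 : Fin k → R) j) = _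
        by_cases h : j = i <;> simp [h]]
      simp [q]
    exact LinearMap.congr_fun this v
  have hqT : q ∘ₗ T = 0 := by
    refine (Pi.basisFun R⟦X⟧ (Fin k)).ext fun i => ?_
    have he : Pi.basisFun R⟦X⟧ (Fin k) i = Cv (Pi.single i 1) := by
      rw [Pi.basisFun_apply]; funext j
      show _ = PowerSeries.C ((Pi.single i 1 : Fin k → R) j)
      by_cases h : j = i <;> simp [h]
    rw [he, LinearMap.comp_apply, LinearMap.zero_apply]
    show q ((PowerSeries.X : R⟦X⟧) • Cv _ - N' (Cv _)) = 0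
    rw [map_sub, map_smul, hCv, hqC, hqC, sub_eq_zero]
    rw [show ∀ u, N.mulVec u = Matrix.toLin' N u from fun u => rfl, Matrix.toLin'_toMatrix']
    show _ = r (s (x (r _)))
    rw [hrs]; rfl
  obtain ⟨β, hβ⟩ := Module.projective_lifting_property π q (Submodule.mkQ_surjective Λ)
  have hqα : ∀ v, q (α v) = π v := by
    intro v
    have : q ∘ₗ α = π := by
      refine (Pi.basisFun R⟦X⟧ (Fin n)).ext fun i => ?_
      rw [Pi.basisFun_apply, LinearMap.comp_apply, hαe, hqC, hrs]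
    exact LinearMap.congr_fun this v
  have hαK : ∀ l : Λ, α (l : Fin n → R⟦X⟧) ∈ K := fun l => by
    rw [← Submodule.Quotient.mk_eq_zero, hα, show π (l : Fin n → R⟦X⟧) = 0 from
      (Submodule.Quotient.mk_eq_zero Λ).2 l.2, map_zero]
  let i₁ : Λ →ₗ[R⟦X⟧] K × (Fin n → R⟦X⟧) :=
    ((α ∘ₗ Λ.subtype).codRestrict K hαK).prod Λ.subtype
  let i₂ : K × (Fin n → R⟦X⟧) →ₗ[R⟦X⟧] Λ :=
    ((β ∘ₗ K.subtype ∘ₗ LinearMap.fst R⟦X⟧ K (Fin n → R⟦X⟧)) +
      ((LinearMap.id - β ∘ₗ α) ∘ₗ LinearMap.snd R⟦X⟧ K (Fin n → R⟦X⟧))).codRestrict Λ (by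
      rintro ⟨⟨_, w, rfl⟩, v⟩
      refine (Submodule.Quotient.mk_eq_zero Λ).1 ?_
      show π (β (T w) + (v - β (α v))) = 0
      have hb : ∀ u, π (β u) = q u := fun u => LinearMap.congr_fun hβ u
      rw [map_add, map_sub, hb, hb, hqα, sub_self, add_zero]
      exact LinearMap.congr_fun hqT w)
  have hi : i₂ ∘ₗ i₁ = LinearMap.id := LinearMap.ext fun l => Subtype.ext (by simp [i₁, i₂])
  exact ⟨Module.Finite.of_surjective i₂ (fun l => ⟨i₁ l, LinearMap.congr_fun hi l⟩),
    Module.Projective.of_split i₁ i₂ hi⟩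

/-- Let k be a field, R a commutative k-algebra, n, M natural numbers and Λ an R⟦X⟧-submodule of the
free module R⟦X⟧^n with X^M · R⟦X⟧^n ⊆ Λ. Then Λ is a finitely generated projective R⟦X⟧-module if
and only if the quotient R⟦X⟧^n / Λ is projective as an R-module. (The published statement
identifies, functorially in R, the families of lattices between t^N Λ₀ and t^{-N} Λ₀ in R((t))^n, Λ₀
the standard lattice, with the R⟦t⟧-submodules in that range whose quotient t^{-N} Λ₀ / Λ is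
R-projective; after multiplying by t^N this is the pointwise statement here, with 2N replaced by any
exponent M; a submodule containing X^M · R⟦X⟧^n automatically spans R((X))^n.) -/
theorem result
    (k : Type u) [Field k] (R : Type u) [CommRing R] [Algebra k R] (n M : ℕ)
    (Λ : Submodule R⟦X⟧ (Fin n → R⟦X⟧))
    (hΛ : ∀ v : Fin n → R⟦X⟧, ((PowerSeries.X : R⟦X⟧) ^ M) • v ∈ Λ) :
    (Module.Finite R⟦X⟧ Λ ∧ Module.Projective R⟦X⟧ Λ) ↔
      Module.Projective R ((Fin n → R⟦X⟧) ⧸ Λ) := by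
  exact ⟨fun ⟨_, _⟩ => forward n M Λ hΛ, fun _ => backward n M Λ hΛ⟩

end Groth.Agent.S19306
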