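import Groth.Statements.S19307
import Groth.Agent.Lib.TorsorSch.Basic
import Groth.Agent.Lib.EtaleSection.Sections
import Groth.Agent.Lib.Tori.AffineDescent
import Mathlib.AlgebraicGeometry.Morphisms.LocalFlatDescent
import Mathlib.AlgebraicGeometry.Morphisms.UniversallyOpen
import Mathlib.AlgebraicGeometry.Morphisms.Affine
import Mathlib.RingTheory.Smooth.AdicCompletion
import Mathlib.RingTheory.AdicCompletion.Completeness
import Mathlib.RingTheory.PowerSeries.Ideal
import Mathlib.RingTheory.Flat.FaithfullyFlat.Algebra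

set_option autoImplicit false
universe u
open CategoryTheory MonoidalCategory CartesianMonoidalCategory MonObj GrpObj AlgebraicGeometry PowerSeries
open NonAbH1

namespace Groth.Agent.S19307

/-- Let R be a commutative ring, G an affine smooth group scheme over the power series ring R⟦X⟧ and P a
G-torsor over Spec R⟦X⟧ for the fpqc topology. Then there is an étale and faithfully flat R-algebra
R' such that P has a section over Spec R'⟦X⟧. (The published statement takes R an algebra over a
field and G the base change to R⟦X⟧ of a smooth affine group scheme over the power series ring of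
that field; the statement here allows any affine smooth group scheme over R⟦X⟧, to which the
published proof applies unchanged.) -/
theorem result
    (R : Type u) [CommRing R]
    (G : Over (Spec (CommRingCat.of R⟦X⟧))) [GrpObj G] [IsAffine G.left] [Smooth G.hom]
    (P : Over (Spec (CommRingCat.of R⟦X⟧))) (a : AlgGrp.Action G P)
    (hP : NonAbH1.IsTorsorFor Scheme.fpqcPrecoverage a) :
    ∃ (R' : Type u) (_ : CommRing R') (_ : Algebra R R'),
      Algebra.Etale R R' ∧ Module.FaithfullyFlat R R' ∧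
      NonAbH1.HasSectionOver P (Spec.map (CommRingCat.ofHom (PowerSeries.map (algebraMap R R')))) := by
  classical
  have : Smooth P.hom := Groth.Agent.Lib.TorsorSch.Basic.of_hom (P := @Smooth) hP inferInstance
  have : Surjective P.hom := Groth.Agent.Lib.TorsorSch.Basic.of_hom (P := @Surjective) hP
    ⟨fun x ↦ ⟨(MonObj.one : MonoidalCategory.tensorUnit (Over _) ⟶ G).left x,
      congr($(Over.w (MonObj.one : MonoidalCategory.tensorUnit (Over _) ⟶ G)) x)⟩⟩
  have := Groth.Agent.Lib.Tori.AffineDescent.descendsAlong_isAffineHom.{u}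
  have : IsZariskiLocalAtTarget (@IsAffineHom : MorphismProperty Scheme.{u}) :=
    @HasAffineProperty.instIsZariskiLocalAtTarget _ _ instHasAffinePropertyIsAffineHomIsAffine
  have : IsAffineHom G.hom := isAffineHom_of_isAffine G.hom
  have : IsAffineHom P.hom := Groth.Agent.Lib.TorsorSch.Basic.of_hom (P := @IsAffineHom.{u}) hP ‹_›
  have : IsAffine P.left := isAffine_of_isAffineHom P.hom
  -- reduce modulo `X` and find an étale surjective section
  let c : Spec (CommRingCat.of R) ⟶ Spec (CommRingCat.of R⟦X⟧) :=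
    Spec.map (CommRingCat.ofHom PowerSeries.constantCoeff)
  obtain ⟨S', g, h, hg, hgs, hh⟩ :=
    Groth.Agent.Lib.EtaleSection.Sections.exists_etale_surjective_section (Limits.pullback.snd P.hom c)
  -- shrink to a finite union of affines
  obtain ⟨σi, hι, W, j, hje, hjsurj⟩ : ∃ (σi : Type u) (_ : Finite σi) (W : σi → S'.affineOpens) (_ : True)
      (_ : True), ∀ x, ∃ i, ∃ y : S', y ∈ (W i).1 ∧ g y = x := by
    have hcov : (Set.univ : Set (Spec (CommRingCat.of R))) ⊆ ⋃ U : S'.affineOpens, g '' (U.1 : Set S') := by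
      rintro x -
      obtain ⟨y, rfl⟩ := g.surjective x
      obtain ⟨_, ⟨U, hU, rfl⟩, hy, -⟩ :=
        S'.isBasis_affineOpens.exists_subset_of_mem_open (Set.mem_univ y) isOpen_univ
      exact Set.mem_iUnion.mpr ⟨⟨U, hU⟩, y, hy, rfl⟩
    haveI : UniversallyOpen g := inferInstance
    obtain ⟨s, hs⟩ := isCompact_univ.elim_finite_subcover (fun U : S'.affineOpens => g '' (U.1 : Set S'))
      (fun U => g.isOpenMap _ U.1.isOpen) hcov
    refine ⟨↥s, inferInstance, fun i => i.1, trivial, trivial, fun x => ?_⟩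
    obtain ⟨U, hU, y, hy, hyx⟩ := Set.mem_iUnion₂.mp (hs (Set.mem_univ x))
    exact ⟨⟨U, hU⟩, y, hy, hyx⟩
  haveI : ∀ i : σi, IsAffine (W i).1.toScheme := fun i => (W i).2
  let p : (∐ fun i => (W i).1.toScheme) ⟶ S' := Limits.Sigma.desc fun i => (W i).1.ι
  haveI : IsZariskiLocalAtSource @Etale.{u} :=
    HasRingHomProperty.instIsZariskiLocalAtSource (P := @Etale) (Q := RingHom.Etale)
  have hpe : Etale (p ≫ g) := by
    have : p ≫ g = Limits.Sigma.desc fun i => (W i).1.ι ≫ g :=
      Limits.Sigma.hom_ext _ _ fun i => by simp [p]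
    rw [this]
    exact IsZariskiLocalAtSource.sigmaDesc fun i => inferInstance
  have hps : Function.Surjective (p ≫ g) := by
    intro x
    obtain ⟨i, y, hy, rfl⟩ := hjsurj x
    refine ⟨Limits.Sigma.ι (fun i => (W i).1.toScheme) i ⟨y, hy⟩, ?_⟩
    rw [← Scheme.Hom.comp_apply, Limits.Sigma.ι_desc_assoc]
    rfl
  let S'' := ∐ fun i => (W i).1.toScheme
  obtain ⟨φ, hφ⟩ := Spec.map_surjective (S''.isoSpec.inv ≫ p ≫ g)
  haveI hφe : Etale (Spec.map φ) := by rw [hφ]; infer_instance
  let R' : Type u := Γ(S'', ⊤)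
  letI : CommRing R' := inferInstanceAs (CommRing Γ(S'', ⊤))
  letI : Algebra R R' := φ.hom.toAlgebra
  haveI het : Algebra.Etale R R' := RingHom.etale_algebraMap.1 ((HasRingHomProperty.Spec_iff (P := @Etale)).1 hφe)
  haveI : Module.FaithfullyFlat R R' := by
    refine Module.FaithfullyFlat.of_comap_surjective fun x => ?_
    obtain ⟨y, hy⟩ := hps x
    refine ⟨S''.isoSpec.hom y, ?_⟩
    show Spec.map φ _ = x
    rw [hφ, ← hy, ← Scheme.Hom.comp_apply, Iso.hom_inv_id_assoc]
  refine ⟨R', inferInstance, inferInstance, het, inferInstance, ?_⟩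
  -- lift the section to `R'⟦X⟧`
  obtain ⟨θ, hθ⟩ := Spec.map_surjective (P.left.isoSpec.inv ≫ P.hom)
  obtain ⟨σ, hσ⟩ := Spec.map_surjective (S''.isoSpec.inv ≫ p ≫ h ≫ Limits.pullback.fst P.hom c ≫ P.left.isoSpec.hom)
  have hθs : RingHom.Smooth θ.hom := by
    have : Smooth (Spec.map θ) := by rw [hθ]; infer_instance
    exact (HasRingHomProperty.Spec_iff (P := @Smooth)).mp this
  have hσθ : θ ≫ σ = CommRingCat.ofHom (PowerSeries.constantCoeff (R := R)) ≫ φ := by
    refine Spec.map_injective ?_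
    rw [Spec.map_comp, Spec.map_comp, hσ, hθ, hφ]
    show _ = _ ≫ c
    simp only [Category.assoc, Iso.hom_inv_id_assoc]
    rw [Limits.pullback.condition, reassoc_of% hh]
  letI : Algebra R⟦X⟧ Γ(P.left, ⊤) := θ.hom.toAlgebra
  haveI : Algebra.Smooth R⟦X⟧ Γ(P.left, ⊤) := hθs
  let m : R⟦X⟧ →+* R'⟦X⟧ := PowerSeries.map φ.hom
  letI : Algebra R⟦X⟧ R'⟦X⟧ := m.toAlgebra
  let e : R' →+* R'⟦X⟧ ⧸ Ideal.span {(PowerSeries.X : R'⟦X⟧)} := (Ideal.Quotient.mk _).comp PowerSeries.C
  have he : ∀ f : R'⟦X⟧, e (PowerSeries.constantCoeff f) = Ideal.Quotient.mk _ f := fun f => by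
    refine Ideal.Quotient.eq.mpr (Ideal.mem_span_singleton.mpr (PowerSeries.X_dvd_iff.mpr ?_))
    simp
  let f : Γ(P.left, ⊤) →ₐ[R⟦X⟧] R'⟦X⟧ ⧸ Ideal.span {(PowerSeries.X : R'⟦X⟧)} :=
    { e.comp σ.hom with
      commutes' := fun r => by
        show e (σ.hom (θ.hom r)) = Ideal.Quotient.mk _ (m r)
        rw [← he, show σ.hom (θ.hom r) = φ.hom (PowerSeries.constantCoeff r) from
          congrArg (fun q => q.hom r) hσθ]
        refine congrArg e ?_
        rw [← PowerSeries.coeff_zero_eq_constantCoeff_apply, ← PowerSeries.coeff_zero_eq_constantCoeff_apply,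
          PowerSeries.coeff_map] }
  obtain ⟨l, -⟩ := Algebra.FormallySmooth.exists_mkₐ_comp_eq_of_isAdicComplete f
  refine ⟨Spec.map (CommRingCat.ofHom l.toRingHom) ≫ P.left.isoSpec.inv, ?_⟩
  rw [Category.assoc, ← hθ, ← Spec.map_comp]
  refine congrArg Spec.map (CommRingCat.hom_ext (RingHom.ext fun r => ?_))
  exact l.commutes r

end Groth.Agent.S19307
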