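import Groth.Statements.S19308
import Groth.Agent.H52.FBase.GeomPt
import Mathlib.RingTheory.Flat.Tensor
import Mathlib.LinearAlgebra.Matrix.NonsingularInverse

set_option autoImplicit false
universe u
open TensorProduct
open CAlg

namespace Groth.Agent.S19308

section
variable {k A : Type u} [Field k] [CommRing A] [Algebra k A] {ι : Type u} (e : Module.Basis ι k A)

theorem repr_map {T T' : Type u} [CommRing T] [Algebra k T] [CommRing T'] [Algebra k T'] (φ : T →ₐ[k] T')
    (z : TensorProduct k T A) (i : ι) :
    (Algebra.TensorProduct.basis T' e).repr (Algebra.TensorProduct.map φ (AlgHom.id k A) z) i =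
      φ ((Algebra.TensorProduct.basis T e).repr z i) := by
  induction z using TensorProduct.induction_on with
  | zero => simp
  | tmul a b => simp [Algebra.TensorProduct.basis_repr_tmul, Finsupp.mapRange_apply]
  | add a b ha hb => simp [ha, hb]

theorem nat_point {T T' : Type u} [CommRing T] [Algebra k T] [CommRing T'] [Algebra k T'] (χ : T →ₐ[k] T')
    (z : A →ₐ[k] k) (x : TensorProduct k T A) :
    Algebra.TensorProduct.lift (AlgHom.id k T') ((Algebra.ofId k T').comp z) (fun _ _ => Commute.all _ _)
      (Algebra.TensorProduct.map χ (AlgHom.id k A) x) =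
    χ (Algebra.TensorProduct.lift (AlgHom.id k T) ((Algebra.ofId k T).comp z) (fun _ _ => Commute.all _ _) x) := by
  induction x using TensorProduct.induction_on with
  | zero => simp
  | tmul a c => simp [Algebra.ofId_apply, mul_comm]
  | add a c ha hc => simp only [map_add, ha, hc]

theorem eq_zero_of_mul [IsAlgClosed k] [IsDomain A] {T : Type u} [CommRing T] [Algebra k T]
    (g x : TensorProduct k T A) (j : ι) (hj : IsUnit ((Algebra.TensorProduct.basis T e).repr g j))
    (hx : g * x = 0) : x = 0 := by
  classical
  set b := Algebra.TensorProduct.basis T e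
  let s := (b.repr x).support
  let u := s.biUnion fun i => (b.repr (g * b i)).support
  let M : Matrix u s T := Matrix.of fun w i => b.repr (g * b i.1) w.1
  have hMx : M.mulVec (fun i => b.repr x i.1) = 0 := by
    funext w
    have h : b.repr (g * ∑ i ∈ s, b.repr x i • b i) w.1 = 0 := by
      have : ∑ i ∈ s, b.repr x i • b i = x := b.linearCombination_repr x
      rw [this, hx]
      simp
    rw [Finset.mul_sum, map_sum, Finsupp.finsetSum_apply] at h
    simp only [mul_smul_comm, map_smul, Finsupp.smul_apply, smul_eq_mul] at h
    simp only [Matrix.mulVec, dotProduct, M, Matrix.of_apply, Pi.zero_apply]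
    rw [← h, ← Finset.sum_coe_sort s]
    exact Finset.sum_congr rfl fun i _ => mul_comm _ _
  have hkey : ∀ (m : Ideal T), m.IsMaximal → ∃ d ∉ m, ∀ i : s, d * b.repr x i.1 = 0 := by
    intro m hm
    let φ : T →ₐ[k] T ⧸ m := Ideal.Quotient.mkₐ k m
    letI := Ideal.Quotient.field m
    haveI : IsDomain (TensorProduct k (T ⧸ m) A) := Groth.Agent.H52.FBase.GeomPt.isDomain_tensor_of_isAlgClosed
    set bK := Algebra.TensorProduct.basis (T ⧸ m) e
    let gK := Algebra.TensorProduct.map φ (AlgHom.id k A) g
    have hg : gK ≠ 0 := fun h => by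
      have := repr_map e φ g j
      rw [show Algebra.TensorProduct.map φ (AlgHom.id k A) g = 0 from h, map_zero, Finsupp.zero_apply] at this
      exact (hj.map φ).ne_zero this.symm
    let MK : Matrix u s (T ⧸ m) := M.map φ
    have hinj : Function.Injective MK.mulVec := by
      have hker : ∀ c, MK.mulVec c = 0 → c = 0 := by
        intro c hc
        have hzero : gK * ∑ i : s, c i • bK i.1 = 0 := by
          apply bK.repr.injective
          ext w
          have hbi : ∀ i, gK * bK i = Algebra.TensorProduct.map φ (AlgHom.id k A) (g * b i) := fun i => by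
            rw [map_mul, Algebra.TensorProduct.basis_apply, Algebra.TensorProduct.basis_apply,
              Algebra.TensorProduct.map_tmul]
            simp [gK]
          rw [Finset.mul_sum, map_sum, Finsupp.finsetSum_apply, map_zero, Finsupp.zero_apply]
          simp only [mul_smul_comm, map_smul, Finsupp.smul_apply, smul_eq_mul, hbi]
          simp only [show ∀ z i, bK.repr (Algebra.TensorProduct.map φ (AlgHom.id k A) z) i = φ (b.repr z i) from repr_map e φ]
          by_cases hw : w ∈ u
          · have := congrFun hc ⟨w, hw⟩
            simp only [Matrix.mulVec, dotProduct, MK, M, Matrix.map_apply, Matrix.of_apply, Pi.zero_apply] at this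
            rw [← this]
            exact Finset.sum_congr rfl fun i _ => mul_comm _ _
          · refine Finset.sum_eq_zero fun i _ => ?_
            have : b.repr (g * b i.1) w = 0 := by
              by_contra hne
              exact hw (Finset.mem_biUnion.2 ⟨i.1, i.2, Finsupp.mem_support_iff.2 hne⟩)
            rw [this, map_zero, mul_zero]
        have := (mul_eq_zero.1 hzero).resolve_left hg
        funext i
        exact Fintype.linearIndependent_iff.1 (bK.linearIndependent.comp (fun i : s => i.1) Subtype.val_injective) c this i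
      exact (injective_iff_map_eq_zero (Matrix.mulVecLin MK)).2 hker
    obtain ⟨l, hl⟩ := (Matrix.toLin' MK).exists_leftInverse_of_injective (LinearMap.ker_eq_bot.2 (by
      intro a c hac
      exact hinj (by simpa [Matrix.toLin'_apply] using hac)))
    obtain ⟨L, hL⟩ : ∃ L : Matrix s u (T ⧸ m), L * MK = 1 := ⟨LinearMap.toMatrix' l, by
      rw [← LinearMap.toMatrix'_id, ← hl, LinearMap.toMatrix'_comp, LinearMap.toMatrix'_toLin']⟩
    obtain ⟨L', hL'⟩ : ∃ L' : Matrix s u T, L'.map φ = L := by
      choose f hf using fun a => Ideal.Quotient.mk_surjective (I := m) a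
      exact ⟨L.map f, by ext i j; exact hf _⟩
    refine ⟨(L' * M).det, fun hd => ?_, fun i => ?_⟩
    · have h1 : φ (L' * M).det = 1 := by
        rw [AlgHom.map_det, AlgHom.mapMatrix_apply, Matrix.map_mul, hL', hL, Matrix.det_one]
      exact one_ne_zero (h1.symm.trans (Ideal.Quotient.eq_zero_iff_mem.2 hd))
    · have h1 : ((L' * M).adjugate * (L' * M)).mulVec (fun i : s => b.repr x i.1) = 0 := by
        rw [← Matrix.mul_assoc, ← Matrix.mulVec_mulVec, hMx, Matrix.mulVec_zero]
      rw [Matrix.adjugate_mul, Matrix.smul_mulVec, Matrix.one_mulVec] at h1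
      simpa using congrFun h1 i
  apply b.repr.injective
  ext i
  rw [map_zero, Finsupp.zero_apply]
  by_contra hi
  have htop : Submodule.colon (⊥ : Submodule T T) {b.repr x i} ≠ ⊤ := fun h => hi (by
    have := h ▸ (Submodule.mem_top : (1 : T) ∈ (⊤ : Ideal T))
    simpa [Submodule.mem_colon_singleton] using this)
  obtain ⟨m, hm, hle⟩ := Ideal.exists_le_maximal _ htop
  obtain ⟨d, hd, hd'⟩ := hkey m hm
  exact hd (hle (by simpa [Submodule.mem_colon_singleton] using hd' ⟨i, Finsupp.mem_support_iff.2 hi⟩))

theorem flat_quot [IsAlgClosed k] [IsDomain A] {T : Type u} [CommRing T] [Algebra k T]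
    (g : TensorProduct k T A) (j : ι) (hj : IsUnit ((Algebra.TensorProduct.basis T e).repr g j)) :
    Module.Flat T (TensorProduct k T A ⧸ Ideal.span {g}) := by
  let f : TensorProduct k T A →ₗ[T] TensorProduct k T A := LinearMap.mul T _ g
  have hrange : LinearMap.range f = (Ideal.span {g}).restrictScalars T := by
    ext z
    simp [f, Ideal.mem_span_singleton, dvd_def, eq_comm]
  have huniv : ∀ J : Ideal T, Function.Injective (LinearMap.lTensor (T ⧸ J) f) := by
    intro J
    let φ : T →ₐ[k] T ⧸ J := Ideal.Quotient.mkₐ k J
    let c := TensorProduct.AlgebraTensorModule.cancelBaseChange k T T (T ⧸ J) A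
    let g' := Algebra.TensorProduct.map φ (AlgHom.id k A) g
    have hcomm : ∀ z, c (LinearMap.lTensor (T ⧸ J) f z) = g' * c z := by
      intro z
      induction z using TensorProduct.induction_on with
      | zero => simp
      | add a b ha hb => simp [mul_add, ha, hb]
      | tmul t w =>
        simp only [LinearMap.lTensor_tmul, f, LinearMap.mul_apply', g']
        clear hrange
        induction w using TensorProduct.induction_on with
        | zero => simp
        | add a b ha hb => simp only [mul_add, TensorProduct.tmul_add, map_add, ha, hb]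
        | tmul a b =>
          clear hj
          induction g using TensorProduct.induction_on with
          | zero => simp
          | add x y hx hy => simp only [add_mul, TensorProduct.tmul_add, map_add, hx, hy]
          | tmul a0 b0 =>
            simp only [Algebra.TensorProduct.tmul_mul_tmul, c, TensorProduct.AlgebraTensorModule.cancelBaseChange_tmul,
              Algebra.TensorProduct.map_tmul, AlgHom.id_apply]
            rw [mul_smul, Algebra.smul_def a0, Ideal.Quotient.algebraMap_eq]
            rfl
    refine (injective_iff_map_eq_zero _).2 fun z hz => c.injective ?_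
    have h := hcomm z
    rw [hz, map_zero] at h
    rw [map_zero]
    refine eq_zero_of_mul e g' _ j ?_ h.symm
    rw [repr_map]
    exact hj.map φ
  have hfl : Module.Flat T (TensorProduct k T A ⧸ LinearMap.range f) := by
    let q := (LinearMap.range f).mkQ
    have hex : Function.Exact f q := LinearMap.exact_map_mkQ_range f
    have hq : Function.Surjective q := Submodule.mkQ_surjective _
    rw [Module.Flat.iff_rTensor_injective']
    intro J
    refine (injective_iff_map_eq_zero _).2 fun z hz => ?_
    obtain ⟨w, rfl⟩ := LinearMap.lTensor_surjective J hq z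
    rw [← LinearMap.comp_apply, LinearMap.rTensor_comp_lTensor, ← LinearMap.lTensor_comp_rTensor,
      LinearMap.comp_apply] at hz
    obtain ⟨v, hv⟩ := (lTensor_exact T hex hq _).1 hz
    have h1 : LinearMap.lTensor (T ⧸ J) f (LinearMap.rTensor _ J.mkQ v) = 0 := by
      rw [← LinearMap.comp_apply, LinearMap.lTensor_comp_rTensor, ← LinearMap.rTensor_comp_lTensor, LinearMap.comp_apply,
        hv, ← LinearMap.comp_apply, ← LinearMap.rTensor_comp,
        show J.mkQ ∘ₗ J.subtype = 0 from (LinearMap.exact_subtype_mkQ J).linearMap_comp_eq_zero,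
        LinearMap.rTensor_zero, LinearMap.zero_apply]
    obtain ⟨u, rfl⟩ := (rTensor_exact _ (LinearMap.exact_subtype_mkQ J) (Submodule.mkQ_surjective J) v).1
      (huniv J (h1.trans (map_zero _).symm))
    have hinj : Function.Injective (LinearMap.rTensor (TensorProduct k T A) J.subtype) :=
      Module.Flat.rTensor_preserves_injective_linearMap _ J.injective_subtype
    have : LinearMap.lTensor J f u = w := hinj (by
      rw [← LinearMap.comp_apply, LinearMap.rTensor_comp_lTensor, ← LinearMap.lTensor_comp_rTensor,
        LinearMap.comp_apply, hv])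
    rw [← this, ← LinearMap.comp_apply, ← LinearMap.lTensor_comp, hex.linearMap_comp_eq_zero,
      LinearMap.lTensor_zero, LinearMap.zero_apply]
  rw [hrange] at hfl
  exact Module.Flat.of_linearEquiv (Submodule.Quotient.restrictScalarsEquiv T (Ideal.span {g})).symm

end

/-- Let k be an algebraically closed field, A a finitely generated k-algebra which is an integral domain
(an affine variety X = Spec A), Z a finite (possibly empty) set of k-points of A, R a commutative
k-algebra and U an open dense subset of Spec (R ⊗_k A) = X_R containing every point of Z_R and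
meeting every fibre of X_R → Spec R. Then locally on Spec R there is a principal relative effective
Cartier divisor missing Z_R whose complement lies in U: for every prime p of R there are r ∉ p and f
∈ R[1/r] ⊗_k A such that f is a non-zero-divisor, (R[1/r] ⊗_k A)/(f) is flat over R[1/r], f maps to
a unit under every point of Z, and the basic open set D(f) of X_{R[1/r]} maps into U. (The published
statement is for a quasi-projective variety X and asks for relative Cartier divisors D_i over an
open cover of Spec R; this row is the affine case, to which the published proof reduces, where the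
divisors produced are principal.) -/
theorem result
    (k : Type u) [Field k] [IsAlgClosed k]
    (A : Type u) [CommRing A] [Algebra k A] [IsDomain A] [Algebra.FiniteType k A]
    (Z : Finset (A →ₐ[k] k))
    (R : Type u) [CommRing R] [Algebra k R]
    (U : TopologicalSpace.Opens (PrimeSpectrum (TensorProduct k R A)))
    (hU : Dense (U : Set (PrimeSpectrum (TensorProduct k R A))))
    (hZ : ∀ z ∈ Z, ∀ q : PrimeSpectrum R,
      PrimeSpectrum.comap (Algebra.TensorProduct.lift (AlgHom.id k R) ((Algebra.ofId k R).comp z)
        (fun _ _ => Commute.all _ _)).toRingHom q ∈ U)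
    (hsurj : ∀ q : PrimeSpectrum R, ∃ P ∈ U,
      PrimeSpectrum.comap (Algebra.TensorProduct.includeLeftRingHom : R →+* TensorProduct k R A) P = q)
    (p : PrimeSpectrum R) :
    ∃ r : R, r ∉ p.asIdeal ∧
      ∃ f : TensorProduct k (Localization.Away r) A,
        f ∈ nonZeroDivisors (TensorProduct k (Localization.Away r) A) ∧
        Module.Flat (Localization.Away r)
          (TensorProduct k (Localization.Away r) A ⧸ Ideal.span {f}) ∧
        (∀ z ∈ Z, IsUnit (Algebra.TensorProduct.lift (AlgHom.id k (Localization.Away r))
          ((Algebra.ofId k (Localization.Away r)).comp z) (fun _ _ => Commute.all _ _) f)) ∧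
        (∀ P : PrimeSpectrum (TensorProduct k (Localization.Away r) A), f ∉ P.asIdeal →
          PrimeSpectrum.comap (Algebra.TensorProduct.map
            (IsScalarTower.toAlgHom k R (Localization.Away r)) (AlgHom.id k A)).toRingHom P ∈ U) := by
  classical
  set B := TensorProduct k R A
  let e := Module.Free.chooseBasis k A
  set b := Algebra.TensorProduct.basis R e
  obtain ⟨I, hI⟩ := (PrimeSpectrum.isClosed_iff_zeroLocus_ideal _).1 (isClosed_compl_iff.2 U.2)
  have hU' : ∀ P : PrimeSpectrum B, P ∈ U ↔ ¬ I ≤ P.asIdeal := fun P => by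
    have := Set.ext_iff.1 hI P
    simp only [Set.mem_compl_iff, PrimeSpectrum.mem_zeroLocus, SetLike.coe_subset_coe, TopologicalSpace.Opens.carrier_eq_coe, SetLike.mem_coe] at this
    tauto
  let zR : (A →ₐ[k] k) → B →ₐ[k] R := fun z =>
    Algebra.TensorProduct.lift (AlgHom.id k R) ((Algebra.ofId k R).comp z) (fun _ _ => Commute.all _ _)
  let φp : R →ₐ[k] R ⧸ p.asIdeal := Ideal.Quotient.mkₐ k p.asIdeal
  let ψ : B →ₐ[k] TensorProduct k (R ⧸ p.asIdeal) A := Algebra.TensorProduct.map φp (AlgHom.id k A)
  haveI : IsDomain (TensorProduct k (R ⧸ p.asIdeal) A) := Groth.Agent.H52.FBase.GeomPt.isDomain_tensor_of_isAlgClosed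
  let P0 : Ideal B := RingHom.ker ψ
  obtain ⟨f0, hf0, hf0P, hf0z⟩ : ∃ f0 ∈ I, f0 ∉ P0 ∧ ∀ z ∈ Z, zR z f0 ∉ p.asIdeal := by
    by_contra hcon
    push Not at hcon
    have hcov : (I : Set B) ⊆ ⋃ J ∈ ((insert P0 (Z.image fun z => p.asIdeal.comap (zR z)) : Finset (Ideal B)) : Set (Ideal B)), ((id J : Ideal B) : Set B) := by
      intro x hx
      by_cases h : x ∈ P0
      · exact Set.mem_biUnion (x := P0) (by simp) h
      obtain ⟨z, hz, hxz⟩ := hcon x hx h
      exact Set.mem_biUnion (x := p.asIdeal.comap (zR z)) (by simp only [Finset.coe_insert, Finset.coe_image, Set.mem_insert_iff, Set.mem_image, Finset.mem_coe]; exact Or.inr ⟨z, hz, rfl⟩) hxz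
    obtain ⟨J, hJ, hle⟩ := (Ideal.subset_union_prime (f := id) P0 P0 (fun J hJ hne _ => by
      simp only [Finset.mem_insert, hne, false_or, Finset.mem_image] at hJ
      obtain ⟨z, -, rfl⟩ := hJ
      exact inferInstanceAs (p.asIdeal.comap (zR z)).IsPrime)).1 hcov
    simp only [Finset.mem_insert, Finset.mem_image] at hJ
    rcases hJ with rfl | ⟨z, hz, rfl⟩
    · obtain ⟨P, hP, hPp⟩ := hsurj p
      refine (hU' P).1 hP (hle.trans ?_)
      intro x hx
      rw [id, RingHom.mem_ker] at hx
      rw [← b.linearCombination_repr x, Finsupp.linearCombination_apply, Finsupp.sum]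
      refine sum_mem fun i _ => ?_
      rw [Algebra.smul_def]
      refine Ideal.mul_mem_right _ _ ?_
      have h1 := repr_map e φp x i
      rw [show Algebra.TensorProduct.map φp (AlgHom.id k A) x = 0 from hx, map_zero, Finsupp.zero_apply] at h1
      have h2 : b.repr x i ∈ p.asIdeal := Ideal.Quotient.eq_zero_iff_mem.1 h1.symm
      rw [← hPp, PrimeSpectrum.comap_asIdeal, Ideal.mem_comap] at h2
      exact h2
    · exact (hU' _).1 (hZ z hz p) hle
  obtain ⟨j, hj⟩ : ∃ j, b.repr f0 j ∉ p.asIdeal := by
    by_contra hcon
    push Not at hcon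
    refine hf0P ((RingHom.mem_ker).2 ((Algebra.TensorProduct.basis (R ⧸ p.asIdeal) e).repr.injective ?_))
    ext i
    rw [map_zero, Finsupp.zero_apply, repr_map e φp f0 i]
    exact Ideal.Quotient.eq_zero_iff_mem.2 (hcon i)
  let r := b.repr f0 j * ∏ z ∈ Z, zR z f0
  have hr : r ∉ p.asIdeal := fun h => by
    rcases p.2.mem_or_mem h with h | h
    · exact hj h
    · obtain ⟨z, hz, h⟩ := (Ideal.IsPrime.prod_mem_iff (p := p.asIdeal)).1 h
      exact hf0z z hz h
  refine ⟨r, hr, ?_⟩
  let χ : R →ₐ[k] Localization.Away r := IsScalarTower.toAlgHom k R (Localization.Away r)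
  let f := Algebra.TensorProduct.map χ (AlgHom.id k A) f0
  have hru : IsUnit (χ r) := IsLocalization.Away.algebraMap_isUnit r
  have hfj : IsUnit ((Algebra.TensorProduct.basis (Localization.Away r) e).repr f j) := by
    rw [repr_map e χ f0 j]
    rw [map_mul] at hru
    exact isUnit_of_mul_isUnit_left hru
  refine ⟨f, mem_nonZeroDivisors_iff_right.2 fun x hx => eq_zero_of_mul e f x j hfj (mul_comm x f ▸ hx),
    flat_quot e f j hfj, fun z hz => ?_, fun P hP => ?_⟩
  · have h1 : Algebra.TensorProduct.lift (AlgHom.id k (Localization.Away r))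
          ((Algebra.ofId k (Localization.Away r)).comp z) (fun _ _ => Commute.all _ _) f = χ (zR z f0) := by
      exact nat_point χ z f0
    rw [h1]
    rw [map_mul, map_prod] at hru
    exact (IsUnit.prod_iff.1 (isUnit_of_mul_isUnit_right hru)) z hz
  · refine (hU' _).2 fun hle => hP (hle hf0)

end Groth.Agent.S19308
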