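import Groth.Statements.S19309
import Mathlib.RingTheory.LaurentSeries

set_option autoImplicit false
universe u
open PowerSeries LaurentSeries
open CAlg

namespace Groth.Agent.S19309

theorem coeff_theta {R R' : Type u} [CommRing R] [CommRing R'] (φ : R →+* R') (θ : R⸨X⸩ →+* R'⸨X⸩)
    (h : θ.comp (algebraMap R⟦X⟧ R⸨X⸩) = (algebraMap R'⟦X⟧ R'⸨X⸩).comp (PowerSeries.map φ))
    (x : R⸨X⸩) (i : ℤ) : (θ x).coeff i = φ (x.coeff i) := by
  obtain ⟨⟨p, _, n, rfl⟩, hp⟩ := IsLocalization.surj (Submonoid.powers (PowerSeries.X : R⟦X⟧)) x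
  have h2 := congrArg θ hp
  rw [map_mul, show θ (algebraMap _ _ (PowerSeries.X ^ n)) = _ from RingHom.congr_fun h _,
    show θ (algebraMap _ _ p) = _ from RingHom.congr_fun h _] at h2
  simp only [RingHom.comp_apply, map_pow, PowerSeries.map_X, LaurentSeries.coe_algebraMap,
    HahnSeries.ofPowerSeries_X, HahnSeries.single_pow, one_pow, nsmul_one] at h2
  simp only [map_pow, LaurentSeries.coe_algebraMap, HahnSeries.ofPowerSeries_X,
    HahnSeries.single_pow, one_pow, nsmul_one] at hp
  have e1 := congrArg (fun z => HahnSeries.coeff z (i + (n : ℤ))) hp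
  have e2 := congrArg (fun z => HahnSeries.coeff z (i + (n : ℤ))) h2
  simp only [HahnSeries.coeff_mul_single_add, mul_one, PowerSeries.coeff_coe] at e1 e2
  rw [e1, e2]
  split <;> simp

/-- Let k be a field, R a commutative k-algebra, B a finitely presented R⟦X⟧-algebra (an affine scheme V
= Spec B of finite presentation over the disc D_R = Spec R⟦X⟧) and s : B → R((X)) an R⟦X⟧-algebra
map (a section of V over the punctured disc). Then there is an ideal I of R such that for every ring
map φ : R → R', writing θ : R((X)) → R'((X)) for the ring map compatible with R⟦X⟧ → R'⟦X⟧, the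
section s extends to a section over D_{R'} — an R⟦X⟧-algebra map s' : B → R'⟦X⟧ whose composite with
R'⟦X⟧ → R'((X)) is θ ∘ s — if and only if φ kills I. In other words the sub-presheaf of Spec R where
s extends over the disc is the closed subscheme defined by I. -/
theorem result
    (k : Type u) [Field k] (R : Type u) [CommRing R] [Algebra k R]
    (B : Type u) [CommRing B] [Algebra R⟦X⟧ B] [Algebra.FinitePresentation R⟦X⟧ B]
    (s : B →ₐ[R⟦X⟧] R⸨X⸩) :
    ∃ I : Ideal R, ∀ (R' : Type u) [CommRing R'] (φ : R →+* R') (θ : R⸨X⸩ →+* R'⸨X⸩),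
      θ.comp (algebraMap R⟦X⟧ R⸨X⸩) = (algebraMap R'⟦X⟧ R'⸨X⸩).comp (PowerSeries.map φ) →
      ((∃ s' : B →+* R'⟦X⟧, s'.comp (algebraMap R⟦X⟧ B) = PowerSeries.map φ ∧
          (algebraMap R'⟦X⟧ R'⸨X⸩).comp s' = θ.comp s.toRingHom) ↔ I ≤ RingHom.ker φ) := by
  classical
  refine ⟨Ideal.span {r | ∃ b : B, ∃ i : ℤ, i < 0 ∧ (s b).coeff i = r}, fun R' _ φ θ h => ?_⟩
  constructor
  · rintro ⟨s', -, hs'⟩
    rw [Ideal.span_le]
    rintro _ ⟨b, i, hi, rfl⟩
    have h1 := congrArg (fun z => HahnSeries.coeff z i) (RingHom.congr_fun hs' b)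
    simp only [RingHom.comp_apply, LaurentSeries.coe_algebraMap, PowerSeries.coeff_coe, if_pos hi,
      coeff_theta φ θ h] at h1
    exact RingHom.mem_ker.mpr h1.symm
  · intro hI
    have key : ∀ b : B, θ (s b) =
        algebraMap R'⟦X⟧ R'⸨X⸩ (PowerSeries.mk fun n => φ ((s b).coeff n)) := by
      intro b
      ext i
      rw [coeff_theta φ θ h, LaurentSeries.coe_algebraMap, PowerSeries.coeff_coe]
      split
      · next hi => exact RingHom.mem_ker.mp (hI (Ideal.subset_span ⟨b, i, hi, rfl⟩))
      · next hi => rw [PowerSeries.coeff_mk, Int.natAbs_of_nonneg (not_lt.mp hi)]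
    have inj : Function.Injective (algebraMap R'⟦X⟧ R'⸨X⸩) := HahnSeries.ofPowerSeries_injective
    refine ⟨{ toFun := fun b => PowerSeries.mk fun n => φ ((s b).coeff n)
              map_one' := inj (by rw [← key, map_one, map_one, map_one])
              map_mul' := fun a b => inj (by rw [← key, map_mul, map_mul, map_mul, key, key])
              map_zero' := inj (by rw [← key, map_zero, map_zero, map_zero])
              map_add' := fun a b => inj (by rw [← key, map_add, map_add, map_add, key, key]) },
      ?_, ?_⟩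
    · refine RingHom.ext fun p => inj ?_
      refine (key _).symm.trans ?_
      rw [AlgHom.commutes]
      exact RingHom.congr_fun h p
    · exact RingHom.ext fun b => (key b).symm

end Groth.Agent.S19309
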