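import Groth.Statements.S1931
import Groth.Agent.Lib.Cyc.Gys.Commute

set_option autoImplicit false
universe u
open CategoryTheory AlgebraicGeometry
open CategoryTheory.Limits
open Cyc

namespace Groth.Agent.S1931

/-- Let (L, s, i : D → X) and (L', s', i' : D' → X) be two invertible modules with global sections and
their zero schemes, and D ∩ D' = D ×_X D' with projections j to D and j' to D' (the zero schemes of
the restricted sections). For a k-cycle α on X, (j')^*(i^*α) ∼_rat j^*((i')^*α) as (k − 2)-cycles on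
D ∩ D'. The Gysin maps on D and D' are computed from any global sections σ' of L'|_D and σ of
L|_{D'} whose zero schemes are j and j'. Here i : D → X is the zero scheme of a global section s of
the invertible module L (Cyc.IsZeroSchemeOf), the Gysin map i^* : Z_{k+1}(X) → CH_k(D) is computed
on coefficient functions as c_1(L) ∩ − with the rational sections taken to be s where it is nonzero
(Cyc.gysinChoice) and restricted to the points of D, and classes on D are compared up to rational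
equivalence on D for the restricted dimension function. A pair (X, δ) with Cyc.IsSetup plays the
role of a scheme locally of finite type over a base with a dimension function (X locally Noetherian
with universally catenary local rings, δ a dimension function), and Cyc.DeltaCompat records that the
dimension function upstairs is the induced one. -/
theorem result (X D D' : Scheme.{u}) (δ : X → ℤ) (hX : Cyc.IsSetup X δ) (L L' : X.Modules) (hL : PicF.IsInvertible L) (hL' : PicF.IsInvertible L') (s : L.presheaf.obj (Opposite.op ⊤)) (s' : L'.presheaf.obj (Opposite.op ⊤)) (i : D ⟶ X) (i' : D' ⟶ X) [IsClosedImmersion i] [IsClosedImmersion i'] (hD : Cyc.IsZeroSchemeOf i L s) (hD' : Cyc.IsZeroSchemeOf i' L' s') (σ' : ((Scheme.Modules.pullback i).obj L').presheaf.obj (Opposite.op ⊤)) (hσ' : Cyc.IsZeroSchemeOf (pullback.fst i i') ((Scheme.Modules.pullback i).obj L') σ') (σ : ((Scheme.Modules.pullback i').obj L).presheaf.obj (Opposite.op ⊤)) (hσ : Cyc.IsZeroSchemeOf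 (pullback.snd i i') ((Scheme.Modules.pullback i').obj L) σ) (k : ℤ) (α : AlgebraicCycle X ℤ) (hα : α ∈ Cyc.Zk X δ k) (w : (ξ : X) → Cyc.secFibre L ξ) (hw : ∀ ξ, w ξ ≠ 0) (w' : (ξ : X) → Cyc.secFibre L' ξ) (hw' : ∀ ξ, w' ξ ≠ 0) (w₁ : (d : D) → Cyc.secFibre ((Scheme.Modules.pullback i).obj L') d) (hw₁ : ∀ d, w₁ d ≠ 0) (w₂ : (d : D') → Cyc.secFibre ((Scheme.Modules.pullback i').obj L) d) (hw₂ : ∀ d, w₂ d ≠ 0) (γ : D → ℤ) (hγ : γ = fun d => Cyc.c1CapFun δ L ⇑α (Cyc.gysinChoice L s w) (i d)) (γ' : D' → ℤ) (hγ' : γ' = fun d => Cyc.c1CapFun δ L' ⇑α (Cyc.gysinChoice L' s' w') (i' d)) (ζ₁ ζ₂ : AlgebraicCycle (pullback i i') ℤ) (h₁ : ∀ z, ζ₁ z = Cyc.c1CapFun (fun d => δ (i d)) ((Scheme.Modules.pullback i).obj L') γ (Cyc.gysinChoice ((Scheme.Modules.pullback i).obj L') σ' w₁) (pullback.fst i i' z)) (h₂ : ∀ z, ζ₂ z = Cyc.c1CapFun (fun d => δ (i' d)) ((Scheme.Modules.pullback i').obj L) γ' (Cyc.gysinChoice ((Scheme.Modules.pullback i').obj L) σ w₂) (pullback.snd i i'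 z)) : Cyc.RatEquiv (fun z => δ (i (pullback.fst i i' z))) (k - 2) ζ₁ ζ₂ := by
  haveI := hX.1
  haveI : IsLocallyNoetherian D := LocallyOfFiniteType.isLocallyNoetherian i
  haveI : IsLocallyNoetherian D' := LocallyOfFiniteType.isLocallyNoetherian i'
  haveI : IsLocallyNoetherian (pullback i i' : Scheme.{u}) :=
    LocallyOfFiniteType.isLocallyNoetherian (pullback.fst i i')
  have hδ := hX.2.2
  have hδD := Lib.Cyc.Gys.Closed.isDimFun i hδ
  have hδD' := Lib.Cyc.Gys.Closed.isDimFun i' hδ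
  have hδE := Lib.Cyc.Gys.Closed.isDimFun (pullback.fst i i') hδD
  have hLD := PicLoc.isInvertible_pullback i hL'
  have hLD' := PicLoc.isInvertible_pullback i' hL
  have hfun := Lib.Cyc.Gys.Commute.fun_eq i i' (pullback.fst i i') (pullback.snd i i')
    (IsPullback.of_hasPullback i i') (δ := δ)
  obtain ⟨g, hg, eg⟩ := Lib.Cyc.CH.exists_gys_cycle i hδ hL (s := s) hw hα
  obtain ⟨g', hg', eg'⟩ := Lib.Cyc.CH.exists_gys_cycle i' hδ hL' (s := s') hw' hα
  obtain ⟨z₁, hz₁, e₁⟩ := Lib.Cyc.CH.exists_gys_cycle (pullback.fst i i') hδD hLD (s := σ') hw₁ hg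
  obtain ⟨z₂, hz₂, e₂⟩ := Lib.Cyc.CH.exists_gys_cycle (pullback.snd i i') hδD' hLD' (s := σ) hw₂ hg'
  have hz₂' : z₂ ∈ Cyc.Zk (pullback i i' : Scheme.{u}) (fun z => δ (i (pullback.fst i i' z))) (k - 1 - 1) :=
    hfun ▸ hz₂
  have key := Lib.Cyc.Gys.Commute.gys_comm i i' (pullback.fst i i') (pullback.snd i i')
    (IsPullback.of_hasPullback i i') hδ hL hL' hD hD' hσ' hσ hw hw' hw₁ hw₂ (Lib.Cyc.CH.cls δ k α hα)
  rw [Lib.Cyc.CH.gys_cls i hδ hL hD hw hα rfl hg eg, Lib.Cyc.CH.gys_cls i' hδ hL' hD' hw' hα rfl hg' eg',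
    Lib.Cyc.CH.gys_cls (pullback.fst i i') hδD hLD hσ' hw₁ hg rfl hz₁ e₁,
    Lib.Cyc.CH.gys_cls (pullback.snd i i') hδD' hLD' hσ hw₂ hg' rfl hz₂ e₂,
    Lib.Cyc.Gys.Commute.cast_cls hfun hz₂ hz₂', Lib.Cyc.CH.cls_eq_iff hδE] at key
  rw [show k - 1 - 1 = k - 2 by ring] at key
  subst hγ hγ'
  have q₁ : ζ₁ = z₁ := Function.locallyFinsuppWithin.ext fun z => by
    rw [h₁, e₁, show ⇑g = _ from funext eg]
  have q₂ : ζ₂ = z₂ := Function.locallyFinsuppWithin.ext fun z => by
    rw [h₂, e₂, show ⇑g' = _ from funext eg']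
  rw [q₁, q₂]
  exact key

end Groth.Agent.S1931
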