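import Groth.Statements.S19310
import Groth.Agent.H52.FBase.GeomPt
import Mathlib.RingTheory.HopkinsLevitzki
import Mathlib.RingTheory.Filtration

set_option autoImplicit false
universe u
open TensorProduct
open CAlg

namespace Groth.Agent.S19310

open IsLocalRing TensorProduct

variable {k A : Type u} [Field k] [CommRing A] [Algebra k A]

theorem repr_map {ι : Type u} (b : Module.Basis ι k A) {R S : Type u} [CommRing R] [CommRing S]
    [Algebra k R] [Algebra k S] (φ : R →ₐ[k] S) (z : R ⊗[k] A) (i : ι) :
    (Algebra.TensorProduct.basis S b).repr (Algebra.TensorProduct.map φ (AlgHom.id k A) z) i =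
      φ ((Algebra.TensorProduct.basis R b).repr z i) := by
  induction z using TensorProduct.induction_on with
  | zero => simp
  | tmul r a =>
    simp [Algebra.TensorProduct.basis_repr_tmul]
  | add x y hx hy => simp [map_add, hx, hy]

theorem eq_zero_of_mul_eq_zero [IsAlgClosed k] [IsDomain A] {L : Type u} [CommRing L] [IsLocalRing L]
    [IsNoetherianRing L] [Algebra k L] (h f : L ⊗[k] A)
    (hh : Algebra.TensorProduct.map (IsScalarTower.toAlgHom k L (ResidueField L)) (AlgHom.id k A) h ≠ 0)
    (hhf : h * f = 0) : f = 0 := by
  haveI : IsDomain (ResidueField L ⊗[k] A) :=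
    Groth.Agent.H52.FBase.GeomPt.isDomain_tensor_of_isAlgClosed
  let π := Algebra.TensorProduct.map (IsScalarTower.toAlgHom k L (ResidueField L)) (AlgHom.id k A)
  let e : L ⊗[k] A →ₗ[L] L ⊗[k] A := LinearMap.mulLeft L h
  let Ψ : ResidueField L ⊗[L] (L ⊗[k] A) ≃ₗ[L] ResidueField L ⊗[k] A :=
    AlgebraTensorModule.cancelBaseChange k L L (ResidueField L) A
  have hΨ : ∀ (c : ResidueField L) (z : L ⊗[k] A), Ψ (c ⊗ₜ z) = (c ⊗ₜ[k] (1 : A)) * π z := by
    intro c z
    induction z using TensorProduct.induction_on with
    | zero => simp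
    | tmul r a =>
      show AlgebraTensorModule.cancelBaseChange k L L (ResidueField L) A (c ⊗ₜ (r ⊗ₜ a)) = _
      rw [AlgebraTensorModule.cancelBaseChange_tmul]
      simp [π, Algebra.smul_def, mul_comm]
    | add x y hx hy => rw [TensorProduct.tmul_add, map_add, hx, hy, map_add, mul_add]
  have hκ : Function.Injective (e.lTensor (ResidueField L)) := by
    have hcomm : ∀ z, Ψ (e.lTensor (ResidueField L) z) = π h * Ψ z := by
      intro z
      induction z using TensorProduct.induction_on with
      | zero => simp
      | tmul c z =>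
        rw [LinearMap.lTensor_tmul, hΨ, hΨ, show e z = h * z from rfl, map_mul, mul_left_comm]
      | add x y hx hy => rw [map_add, map_add, map_add, hx, hy, mul_add]
    refine (injective_iff_map_eq_zero _).mpr fun z hz => ?_
    have h2 := hcomm z
    rw [hz, map_zero, eq_comm, mul_eq_zero] at h2
    exact Ψ.map_eq_zero_iff.mp (h2.resolve_left hh)
  have hall : ∀ (M : Type u) [AddCommGroup M] [Module L M], IsFiniteLength L M →
      Function.Injective (e.lTensor M) := by
    intro M _ _ hM
    induction hM with
    | of_subsingleton =>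
      intro x y _
      exact Subsingleton.elim x y
    | @of_simple_quotient M _ _ N hsimple hN ih =>
      obtain ⟨I, hI, ⟨eI⟩⟩ := (isSimpleModule_iff_quot_maximal (R := L) (M := M ⧸ N)).mp hsimple
      obtain rfl := IsLocalRing.eq_maximalIdeal hI
      let eκ : (M ⧸ N) ≃ₗ[L] ResidueField L := eI
      have hq : Function.Injective (e.lTensor (M ⧸ N)) := by
        refine (injective_iff_map_eq_zero _).mpr fun z hz => ?_
        have h1 : e.lTensor (ResidueField L) (eκ.toLinearMap.rTensor _ z) = 0 := by
          rw [← LinearMap.comp_apply, LinearMap.lTensor_comp_rTensor, ← LinearMap.rTensor_comp_lTensor,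
            LinearMap.comp_apply, hz, map_zero]
        have h2 := hκ (h1.trans (map_zero _).symm)
        exact (eκ.rTensor _).map_eq_zero_iff.mp h2
      refine (injective_iff_map_eq_zero _).mpr fun z hz => ?_
      have h1 : e.lTensor (M ⧸ N) (N.mkQ.rTensor _ z) = 0 := by
        rw [← LinearMap.comp_apply, LinearMap.lTensor_comp_rTensor, ← LinearMap.rTensor_comp_lTensor,
          LinearMap.comp_apply, hz, map_zero]
      have h2 := hq (h1.trans (map_zero _).symm)
      obtain ⟨w, rfl⟩ := (rTensor_exact (L ⊗[k] A) (LinearMap.exact_subtype_mkQ N)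
        (Submodule.mkQ_surjective N) z).mp h2
      have h3 : N.subtype.rTensor _ (e.lTensor N w) = 0 := by
        rw [← LinearMap.comp_apply, LinearMap.rTensor_comp_lTensor, ← LinearMap.lTensor_comp_rTensor,
          LinearMap.comp_apply]
        exact hz
      have h4 := Module.Flat.rTensor_preserves_injective_linearMap (M := L ⊗[k] A) N.subtype
        N.injective_subtype (h3.trans (map_zero _).symm)
      rw [ih (h4.trans (map_zero _).symm), map_zero]
  let b := Module.Free.chooseBasis k A
  apply (Algebra.TensorProduct.basis L b).repr.injective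
  ext i
  rw [map_zero, Finsupp.zero_apply]
  have key : ∀ n : ℕ, (Algebra.TensorProduct.basis L b).repr f i ∈ maximalIdeal L ^ n := by
    intro n
    rcases n with _ | n
    · simp
    set I := maximalIdeal L ^ (n + 1)
    haveI : Nontrivial (L ⧸ I) := Ideal.Quotient.nontrivial_iff.mpr fun ht =>
      (maximalIdeal.isMaximal L).ne_top (top_le_iff.mp (ht ▸ Ideal.pow_le_self (by omega)))
    haveI : Ring.KrullDimLE 0 (L ⧸ I) := Ring.krullDimLE_zero_iff.mpr fun J hJ => by
      have hle : maximalIdeal L ≤ J.comap (Ideal.Quotient.mk I) := fun r hr =>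
        (inferInstance : (J.comap (Ideal.Quotient.mk I)).IsPrime).mem_of_pow_mem (n + 1) (by
          rw [Ideal.mem_comap, Ideal.Quotient.eq_zero_iff_mem.mpr (Ideal.pow_mem_pow hr _)]
          exact J.zero_mem)
      have hmax : (J.comap (Ideal.Quotient.mk I)).IsMaximal :=
        (maximalIdeal.isMaximal L).eq_of_le (Ideal.IsPrime.ne_top inferInstance) hle ▸
          maximalIdeal.isMaximal L
      rw [← Ideal.map_comap_of_surjective (Ideal.Quotient.mk I) Ideal.Quotient.mk_surjective J]
      exact Ideal.IsMaximal.map_of_surjective_of_ker_le Ideal.Quotient.mk_surjective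
        (Ideal.mk_ker.le.trans fun r hr => by
          rw [Ideal.mem_comap, Ideal.Quotient.eq_zero_iff_mem.mpr hr]; exact J.zero_mem)
    haveI : IsArtinianRing (L ⧸ I) := IsNoetherianRing.isArtinianRing_of_krullDimLE_zero
    haveI : IsArtinian L (L ⧸ I) :=
      isArtinian_of_surjective_algebraMap (S := L) (R := L ⧸ I) Ideal.Quotient.mk_surjective
    have h0 : ((Ideal.Quotient.mk I 1 : L ⧸ I) ⊗ₜ[L] f : (L ⧸ I) ⊗[L] (L ⊗[k] A)) = 0 := by
      apply hall (L ⧸ I) (isFiniteLength_iff_isNoetherian_isArtinian.mpr ⟨inferInstance, inferInstance⟩)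
      rw [LinearMap.lTensor_tmul, show e f = h * f from rfl, hhf, tmul_zero, map_zero]
    have h1 := congrArg (TensorProduct.rid L (L ⧸ I))
      (congrArg (((Algebra.TensorProduct.basis L b).coord i).lTensor (L ⧸ I)) h0)
    rw [LinearMap.lTensor_tmul, map_zero, map_zero, TensorProduct.rid_tmul, Algebra.smul_def,
      map_one, mul_one, Ideal.Quotient.algebraMap_eq, Ideal.Quotient.eq_zero_iff_mem] at h1
    exact h1
  have := (Submodule.mem_iInf _).mpr key
  rw [Ideal.iInf_pow_eq_bot_of_isLocalRing _ (maximalIdeal.isMaximal L).ne_top, Ideal.mem_bot] at this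
  exact this

end Groth.Agent.S19310

namespace Groth.Agent.S19310

/-- Let k be an algebraically closed field, A a finitely generated k-algebra which is an integral domain
(X = Spec A an affine variety), R a commutative k-algebra, possibly non-reduced, and U an open
subset of X_R = Spec (R ⊗_k A) meeting every fibre of X_R → Spec R (a very dense open subset). Then
a regular function on X_R whose restriction to U vanishes is zero: if f ∈ R ⊗_k A maps to 0 in the
localisation (R ⊗_k A)[1/g] for every g with D(g) ⊆ U, then f = 0. (The published statement is that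
automorphisms of a torsor under a smooth affine group scheme over X_R which are the identity over a
very dense open subset are the identity, for X a smooth projective curve; its proof reduces this to
the present assertion about functions, for quasi-projective X; this row is the affine case.) -/
theorem result
    (k : Type u) [Field k] [IsAlgClosed k]
    (A : Type u) [CommRing A] [Algebra k A] [IsDomain A] [Algebra.FiniteType k A]
    (R : Type u) [CommRing R] [Algebra k R]
    (U : TopologicalSpace.Opens (PrimeSpectrum (TensorProduct k R A)))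
    (hsurj : ∀ q : PrimeSpectrum R, ∃ P ∈ U,
      PrimeSpectrum.comap (Algebra.TensorProduct.includeLeftRingHom : R →+* TensorProduct k R A) P = q)
    (f : TensorProduct k R A)
    (hf : ∀ g : TensorProduct k R A, (PrimeSpectrum.basicOpen g : Set (PrimeSpectrum (TensorProduct k R A))) ⊆ U →
      algebraMap (TensorProduct k R A) (Localization.Away g) f = 0) :
    f = 0 := by
    classical
    let b := Module.Free.chooseBasis k A
    let B := Algebra.TensorProduct.basis R b
    apply B.repr.injective
    ext i
    rw [map_zero, Finsupp.zero_apply]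
    by_contra hne
    obtain ⟨q, hq, hle⟩ := Ideal.exists_le_maximal (LinearMap.ker (LinearMap.toSpanSingleton R R (B.repr f i))) (by
      intro htop
      apply hne
      have h1 : (1 : R) ∈ LinearMap.ker (LinearMap.toSpanSingleton R R (B.repr f i)) := htop ▸ trivial
      simpa using h1)
    haveI := hq
    obtain ⟨P, hPU, hPq⟩ := hsurj ⟨q, hq.isPrime⟩
    obtain ⟨_, ⟨g, rfl⟩, hPg, hgU⟩ :=
      PrimeSpectrum.isTopologicalBasis_basic_opens.exists_subset_of_mem_open hPU U.2
    obtain ⟨⟨_, n, rfl⟩, hn⟩ := (IsLocalization.map_eq_zero_iff (Submonoid.powers g) _ f).mp (hf g hgU)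
    simp only at hn
    set h := g ^ n with hdef
    let s : Finset R := (B.repr f).support.image (B.repr f) ∪ (B.repr h).support.image (B.repr h)
    let R₀ := Algebra.adjoin k (s : Set R)
    haveI : Algebra.FiniteType k R₀ := (Subalgebra.fg_iff_finiteType _).mp (Subalgebra.fg_adjoin_finset s)
    haveI : IsNoetherianRing R₀ := Algebra.FiniteType.isNoetherianRing k R₀
    let B₀ := Algebra.TensorProduct.basis R₀ b
    let j := Algebra.TensorProduct.map R₀.val (AlgHom.id k A)
    have hj : Function.Injective j :=
      Module.Flat.rTensor_preserves_injective_linearMap R₀.val.toLinearMap Subtype.val_injective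
    have lift : ∀ z : TensorProduct k R A, (∀ l, B.repr z l ∈ R₀) → ∃ z₀, j z₀ = z := by
      intro z hz
      refine ⟨B₀.repr.symm (Finsupp.ofSupportFinite (fun l => (⟨B.repr z l, hz l⟩ : R₀))
        ((B.repr z).finite_support.subset fun l hl => ?_)), ?_⟩
      · intro h0
        exact hl (Subtype.ext h0)
      · apply B.repr.injective
        ext l
        rw [Groth.Agent.S19310.repr_map b R₀.val, LinearEquiv.apply_symm_apply]
        rfl
    have hmem : ∀ z : TensorProduct k R A, (B.repr z).support.image (B.repr z) ⊆ s →
        ∀ l, B.repr z l ∈ R₀ := by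
      intro z hz l
      by_cases hl : B.repr z l = 0
      · rw [hl]; exact R₀.zero_mem
      · exact Algebra.subset_adjoin (hz (Finset.mem_image_of_mem _ (Finsupp.mem_support_iff.mpr hl)))
    obtain ⟨f₀, hf₀⟩ := lift f (hmem f Finset.subset_union_left)
    obtain ⟨h₀, hh₀⟩ := lift h (hmem h Finset.subset_union_right)
    have hhf : h₀ * f₀ = 0 := hj (by rw [map_mul, hh₀, hf₀, map_zero, hn])
    let q₀ : Ideal R₀ := q.comap R₀.val.toRingHom
    haveI : q₀.IsPrime := Ideal.IsPrime.comap _
    let L := Localization.AtPrime q₀
    let l := Algebra.TensorProduct.map (IsScalarTower.toAlgHom k R₀ L) (AlgHom.id k A)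
    have hl : l h₀ * l f₀ = 0 := by rw [← map_mul, hhf, map_zero]
    have hπ : Algebra.TensorProduct.map (IsScalarTower.toAlgHom k L (IsLocalRing.ResidueField L))
        (AlgHom.id k A) (l h₀) ≠ 0 := by
      intro h0
      have hcoord : ∀ m, B.repr h m ∈ q := by
        intro m
        have h1 := congrArg (fun z => (Algebra.TensorProduct.basis (IsLocalRing.ResidueField L) b).repr z m) h0
        simp only [map_zero, Finsupp.zero_apply, l] at h1
        rw [Groth.Agent.S19310.repr_map, Groth.Agent.S19310.repr_map] at h1
        have h2 : algebraMap R₀ L (B₀.repr h₀ m) ∈ IsLocalRing.maximalIdeal L :=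
          Ideal.Quotient.eq_zero_iff_mem.mp h1
        rw [IsLocalization.AtPrime.to_map_mem_maximal_iff L q₀] at h2
        rw [← hh₀, Groth.Agent.S19310.repr_map b R₀.val]
        exact h2
      refine (PrimeSpectrum.mem_basicOpen g P).mp hPg (P.2.mem_of_pow_mem n ?_)
      rw [← hdef, ← B.linearCombination_repr h]
      rw [Finsupp.linearCombination_apply]
      refine P.asIdeal.sum_mem fun m _ => ?_
      show B.repr h m • B m ∈ P.asIdeal
      rw [Algebra.smul_def]
      refine Ideal.mul_mem_right _ _ ?_
      have h3 := congrArg PrimeSpectrum.asIdeal hPq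
      exact h3.ge (hcoord m)
    have hf0 := Groth.Agent.S19310.eq_zero_of_mul_eq_zero (l h₀) (l f₀) hπ hl
    have h4 := congrArg (fun z => (Algebra.TensorProduct.basis L b).repr z i) hf0
    simp only [map_zero, Finsupp.zero_apply, l] at h4
    rw [Groth.Agent.S19310.repr_map] at h4
    obtain ⟨⟨t, ht⟩, htr⟩ := (IsLocalization.map_eq_zero_iff q₀.primeCompl L _).mp h4
    apply ht
    show (t : R) ∈ q
    apply hle
    rw [LinearMap.mem_ker, LinearMap.toSpanSingleton_apply, smul_eq_mul, ← hf₀,
      Groth.Agent.S19310.repr_map b R₀.val]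
    exact congrArg R₀.val htr

end Groth.Agent.S19310
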