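import Groth.Statements.S19323
import Groth.Agent.Lib.SSAbs.Basic
import Mathlib.Algebra.Homology.Refinements


set_option autoImplicit false
universe v u
open CategoryTheory CategoryTheory.Limits
open SpSeq

namespace Groth.Agent.S19323

/-- In an abelian category let E and E' be first-quadrant E₂ cohomological spectral sequences and φ : E
⟶ E' a morphism of spectral sequences such that (i) every differential of E' leaving a position
whose first coordinate is nonzero vanishes, (ii) on every page the map φ at each position followed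
by the outgoing differential of E' is zero, and (iii) φ is a monomorphism at every position of page
2. Then E degenerates at page 2. -/
theorem result
    {C : Type u} [Category.{v} C] [Abelian C]
    (E E' : E₂CohomologicalSpectralSequence C) (φ : E ⟶ E')
    (hE : ∀ pq : ℤ × ℤ, pq.1 < 0 ∨ pq.2 < 0 → IsZero ((E.page 2 le_rfl).X pq))
    (hE' : ∀ pq : ℤ × ℤ, pq.1 < 0 ∨ pq.2 < 0 → IsZero ((E'.page 2 le_rfl).X pq))
    (hd' : ∀ (r : ℤ) (hr : 2 ≤ r) (pq : ℤ × ℤ), pq.1 ≠ 0 →
      (E'.page r hr).d pq (pq + (r, 1 - r)) = 0)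
    (hφd : ∀ (r : ℤ) (hr : 2 ≤ r) (pq : ℤ × ℤ),
      (φ.hom r hr).f pq ≫ (E'.page r hr).d pq (pq + (r, 1 - r)) = 0)
    (hmono : ∀ pq : ℤ × ℤ, Mono ((φ.hom 2 le_rfl).f pq)) :
    SpSeq.Degenerates E 2 := by
  have hzero : ∀ (r : ℤ) (hr : 2 ≤ r), (∀ pq : ℤ × ℤ, r ≤ pq.1 → Mono ((φ.hom r hr).f pq)) →
      ∀ pq pq' : ℤ × ℤ, (E.page r hr).d pq pq' = 0 := by
    intro r hr hm pq pq'
    by_cases hrel : (ComplexShape.up' ((r, 1 - r) : ℤ × ℤ)).Rel pq pq'
    · by_cases hp : pq.1 < 0
      · exact (Groth.Agent.Lib.SSAbs.Basic.isZero_page E le_rfl (hE pq (Or.inl hp)) r hr).eq_of_src _ _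
      · have he := Groth.Agent.Lib.SSAbs.Basic.eq_add_of_rel hrel
        subst he
        have := hm (pq + (r, 1 - r)) (by simp only [Prod.fst_add]; omega)
        rw [← cancel_mono ((φ.hom r hr).f (pq + (r, 1 - r))), zero_comp, ← HomologicalComplex.Hom.comm, hφd]
    · exact HomologicalComplex.shape _ _ _ hrel
  have hmono' : ∀ (r : ℤ) (hr : 2 ≤ r), ∀ pq : ℤ × ℤ, r ≤ pq.1 → Mono ((φ.hom r hr).f pq) := by
    refine Groth.Agent.Lib.SSAbs.Basic.induction_from
      (motive := fun r hr => ∀ pq : ℤ × ℤ, r ≤ pq.1 → Mono ((φ.hom r hr).f pq)) le_rfl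
      (fun pq _ => hmono pq) fun k hk _ ih pq hpq => ?_
    have hm : Mono (HomologicalComplex.homologyMap (φ.hom k hk) pq) := by
      rw [HomologicalComplex.mono_homologyMap_iff_up_to_refinements (φ.hom k hk) (pq - (k, 1 - k)) pq
        (pq + (k, 1 - k))
        ((ComplexShape.up' ((k, 1 - k) : ℤ × ℤ)).prev_eq' (Groth.Agent.Lib.SSAbs.Basic.rel_prev k pq))
        ((ComplexShape.up' ((k, 1 - k) : ℤ × ℤ)).next_eq' (Groth.Agent.Lib.SSAbs.Basic.rel_next k pq))]
      intro A x hx y hy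
      have := ih pq (by omega)
      have hd := hd' k hk (pq - (k, 1 - k)) (by simp only [Prod.fst_sub]; omega)
      rw [sub_add_cancel] at hd
      rw [hd, comp_zero] at hy
      have hx0 : x = 0 := by rw [← cancel_mono ((φ.hom k hk).f pq), zero_comp]; exact hy
      exact ⟨A, 𝟙 A, inferInstance, 0, by rw [hx0]; simp⟩
    rw [Groth.Agent.Lib.SSAbs.Basic.f_succ φ k hk pq]
    infer_instance
  exact ⟨le_rfl, fun r' h₀ hr' pq pq' => hzero r' h₀ (hmono' r' hr') pq pq'⟩

end Groth.Agent.S19323
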