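import Groth.Statements.S19325
import Groth.Agent.H66.CST.Fixer

set_option autoImplicit false
universe u
open GLin

namespace Groth.Agent.S19325

/-- Let k be a field and G = Spec A a finite linearly reductive group scheme over k acting on the
polynomial ring in finitely many variables through a multiplicative, linear coaction that is
faithful on linear forms. Let H be the closed subgroup scheme generated by the pseudo-reflections of
G, i.e. the one whose ideal is the supremum of all Hopf ideals contained in every pseudo-reflection
ideal (a pseudo-reflection ideal being a Hopf ideal whose subgroup scheme fixes a subspace of linear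
forms of codimension exactly one). Then a polynomial is invariant under H exactly when it is
invariant under every pseudo-reflection: the invariants for the ideal of H are the intersection,
over the pseudo-reflection ideals I, of the invariants for I. -/
theorem result
    {k : Type u} [Field k] {A : Type u} [CommRing A] [HopfAlgebra k A] [Module.Finite k A]
    (hG : HopfRep.IsLinearlyReductive k A)
    {ι : Type u} [Fintype ι] [HopfRep.Comod k A (MvPolynomial ι k)]
    [GLin.IsCoactAlg k A (MvPolynomial ι k)]
    (hlin : GLin.IsLinear k A ι) (hf : GLin.IsFaithfulLin k A ι) :
    GLin.quotInvariants k A (MvPolynomial ι k) (GLin.genIdeal k A ι) =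
      ⨅ (I : Ideal A) (_ : GLin.IsPseudoRefl k A ι I), GLin.quotInvariants k A (MvPolynomial ι k) I := by
  refine le_antisymm (le_iInf fun I => le_iInf fun hI => ?_) fun f hf => ?_
  · intro f hf
    have hle : GLin.genIdeal k A ι ≤ I := sSup_le fun J hJ => hJ.2 I hI
    rw [H66.CST.mem_quotInvariants_iff] at hf ⊢
    intro φ
    exact hf (φ.comp (Ideal.Quotient.factorₐ k hle).toLinearMap)
  · rw [H66.CST.mem_quotInvariants_iff]
    have hle := H66.CST.fixer_le_genIdeal (ι := ι) f (⊥ : Submodule k (MvPolynomial ι k))
      Groth.Agent.Lib.Comod.Basic.isSubcomod_bot fun I hI φ => by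
        have h := (H66.CST.mem_quotInvariants_iff I f).1 ((Submodule.mem_iInf _).1 ((Submodule.mem_iInf _).1 hf I) hI) φ
        rw [h, sub_self]
        exact zero_mem _
    intro φ
    exact eq_of_sub_eq_zero ((Submodule.mem_bot k).1
      (H66.CST.dact_sub_mem f ⊥ (φ.comp (Ideal.Quotient.factorₐ k hle).toLinearMap)))

end Groth.Agent.S19325
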