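import Groth.Statements.S19326
import Groth.Agent.Lib.Comod.Diag
import Groth.Agent.Lib.Comod.Alg
-- import your own Groth.Agent.* helpers here

set_option autoImplicit false
universe u
open TensorProduct
open GLin

namespace Groth.Agent.S19326

/-- Let k be a field, M a finite abelian group and D = Spec k[M] the finite diagonalizable group scheme
it defines, acting on an affine k-scheme U = Spec R through a multiplicative coaction R → R ⊗ k[M];
write R_a for the weight space of a ∈ M (elements with coaction f ⊗ a). For an ideal J of R the
induced action of D on the closed subscheme V(J) is trivial, meaning that the coaction followed by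
reduction modulo J equals f ↦ (f mod J) ⊗ 1, exactly when J contains the ideal generated by the
weight spaces R_a for a ≠ 0; in other words that ideal defines the largest closed subscheme of U on
which D acts trivially. (The printed setting has U smooth, which plays no role here and is not
assumed; the further assertion that the construction commutes with flat base change on U/D is not
part of this statement.) -/
theorem result
    {k : Type u} [Field k] {M : Type u} [AddCommGroup M] [Finite M]
    {R : Type u} [CommRing R] [Algebra k R] [HopfRep.Comod k (AddMonoidAlgebra k M) R]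
    [GLin.IsCoactAlg k (AddMonoidAlgebra k M) R] (J : Ideal R) :
    (∀ f : R, LinearMap.rTensor (AddMonoidAlgebra k M) (Ideal.Quotient.mkₐ k J).toLinearMap
        (HopfRep.Comod.coact (k := k) (A := AddMonoidAlgebra k M) f) =
        (Ideal.Quotient.mk J f) ⊗ₜ[k] (1 : AddMonoidAlgebra k M)) ↔
      Ideal.span (⋃ (a : M) (_ : a ≠ 0),
        (HopfRep.eigenspace k (AddMonoidAlgebra k M) R (AddMonoidAlgebra.single a 1) : Set R)) ≤ J := by
  classical
  have hb := Groth.Agent.Lib.Comod.Diag.monoBasis_groupLike k M
  set b := Groth.Agent.Lib.Comod.Diag.monoBasis k M with hbdef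
  have hba : ∀ a : M, b a = AddMonoidAlgebra.single a 1 := Groth.Agent.Lib.Comod.Diag.monoBasis_apply k M
  constructor
  · intro h
    rw [Ideal.span_le]
    intro f hf
    simp only [Set.mem_iUnion] at hf
    obtain ⟨a, ha, hfa⟩ := hf
    have h1 := congrArg (Groth.Agent.Lib.Comod.Basic.contract (R ⧸ J) (b.coord a)) (h f)
    rw [Groth.Agent.Lib.Comod.Basic.contract_rTensor, Groth.Agent.Lib.Comod.Basic.contract_tmul] at h1
    have h2 : Groth.Agent.Lib.Comod.Basic.dact R (b.coord a) f = f := by
      rw [Groth.Agent.Lib.Comod.Reynolds.mem_eigenspace_iff.1 hfa, ← hba]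
      simp
    rw [← Groth.Agent.Lib.Comod.Basic.dact_apply, h2] at h1
    have h3 : b.coord a (1 : AddMonoidAlgebra k M) = 0 := by
      rw [AddMonoidAlgebra.one_def, ← hba]
      simp [ha]
    rw [h3, zero_smul] at h1
    exact Ideal.Quotient.eq_zero_iff_mem.1 h1
  · intro hJ f
    obtain ⟨s, -, hs⟩ := Groth.Agent.Lib.Comod.Diag.exists_finset_sum_proj (V := R) b hb f
    rw [hs]
    simp only [map_sum, TensorProduct.sum_tmul]
    refine Finset.sum_congr rfl fun a _ => ?_
    have hmem := Groth.Agent.Lib.Comod.Diag.proj_mem_eigenspace (V := R) b hb a f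
    rw [show HopfRep.Comod.coact (k := k) (A := AddMonoidAlgebra k M)
      (Groth.Agent.Lib.Comod.Diag.proj b R a f) = Groth.Agent.Lib.Comod.Diag.proj b R a f ⊗ₜ b a from hmem,
      LinearMap.rTensor_tmul]
    by_cases ha : a = 0
    · subst ha; rw [hba]; rfl
    · have h0 : Groth.Agent.Lib.Comod.Diag.proj b R a f ∈ J := hJ (Ideal.subset_span (by
        simp only [Set.mem_iUnion]
        exact ⟨a, ha, hba a ▸ hmem⟩))
      simp [Ideal.Quotient.eq_zero_iff_mem.2 h0]

end Groth.Agent.S19326
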