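import Groth.Statements.S19328
import Mathlib.AlgebraicGeometry.Morphisms.Flat
import Mathlib.AlgebraicGeometry.Morphisms.FinitePresentation
import Mathlib.AlgebraicGeometry.Sites.MorphismProperty
import Mathlib.RingTheory.AdjoinRoot
import Mathlib.RingTheory.LocalRing.ResidueField.Ideal
import Mathlib.RingTheory.Polynomial.ScaleRoots
import Mathlib.FieldTheory.IsAlgClosed.Basic

set_option autoImplicit false
universe u
open CategoryTheory CategoryTheory.Limits AlgebraicGeometry
open ModPair

namespace Groth.Agent.S19328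

/-- Let A be a commutative ring such that Spec A is local for fppf coverings, in the sense that for
every scheme X, every jointly surjective family of morphisms to X each of which is flat and of
finite presentation (locally of finite presentation, quasi-compact and quasi-separated), and every
morphism Spec A ⟶ X, the morphism factors through a member of the family. Then the residue field of
A at every prime ideal is algebraically closed. -/
theorem result (A : Type u) [CommRing A]
    (hloc : ∀ (X : Scheme.{u}) (R : Presieve X),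
      R ∈ Scheme.precoverage (@Flat ⊓ @LocallyOfFinitePresentation ⊓ @QuasiCompact ⊓ @QuasiSeparated) X →
      ∀ g : Spec (CommRingCat.of A) ⟶ X,
        ∃ (Y : Scheme.{u}) (v : Y ⟶ X) (h : Spec (CommRingCat.of A) ⟶ Y), R v ∧ h ≫ v = g)
    (p : Ideal A) [p.IsPrime] : IsAlgClosed p.ResidueField := by
  open Polynomial in
  classical
  refine IsAlgClosed.of_exists_root _ fun q hq hirr => ?_
  set κ := p.ResidueField
  set φ : A →+* κ := algebraMap A κ with hφ
  obtain ⟨⟨s, hs⟩, hint⟩ := IsLocalization.exist_integer_multiples (nonZeroDivisors (A ⧸ p))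
    (Finset.range q.natDegree) q.coeff
  have hs0 : algebraMap (A ⧸ p) κ s ≠ 0 :=
    (map_ne_zero_iff _ (IsFractionRing.injective (A ⧸ p) κ)).2 (nonZeroDivisors.ne_zero hs)
  set σ := algebraMap (A ⧸ p) κ s
  have hrange : ∀ z : A ⧸ p, algebraMap (A ⧸ p) κ z ∈ Set.range φ := fun z => by
    obtain ⟨a, rfl⟩ := Ideal.Quotient.mk_surjective z
    exact ⟨a, IsScalarTower.algebraMap_apply A (A ⧸ p) κ a⟩
  obtain ⟨g, hg, hgd, hgm⟩ := lifts_and_degree_eq_and_monic
    (show q.scaleRoots σ ∈ lifts φ from (lifts_iff_coeff_lifts _).2 fun i => by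
      rw [coeff_scaleRoots]
      rcases lt_trichotomy i q.natDegree with hi | hi | hi
      · obtain ⟨z, hz⟩ := hint i (Finset.mem_range.2 hi)
        obtain ⟨k, hk⟩ : ∃ k, q.natDegree - i = k + 1 := ⟨q.natDegree - i - 1, by omega⟩
        have : q.coeff i * σ ^ (q.natDegree - i) = algebraMap (A ⧸ p) κ (z * s ^ k) := by
          have hz' : algebraMap (A ⧸ p) κ z = σ * q.coeff i := hz.trans (Algebra.smul_def _ _)
          rw [map_mul, map_pow, hz', hk, pow_succ]
          ring
        rw [this]; exact hrange _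
      · rw [hi, Nat.sub_self, pow_zero, mul_one, hq.coeff_natDegree]
        exact ⟨1, map_one _⟩
      · rw [coeff_eq_zero_of_natDegree_lt hi, zero_mul]
        exact ⟨0, map_zero _⟩) ((monic_scaleRoots_iff σ).2 hq)
  have hg0 : g.degree ≠ 0 := by
    rw [hgd, degree_scaleRoots]
    exact (degree_pos_of_irreducible hirr).ne'
  have : Module.Free A (AdjoinRoot g) := hgm.free_adjoinRoot
  have : Module.Finite A (AdjoinRoot g) := hgm.finite_adjoinRoot
  have : Algebra.FinitePresentation A (AdjoinRoot g) := by infer_instance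
  have : Nontrivial A := ⟨⟨0, 1, fun h => ‹p.IsPrime›.ne_top
    ((Ideal.eq_top_iff_one p).2 (h ▸ p.zero_mem))⟩⟩
  have hn : 0 < g.natDegree := Nat.pos_of_ne_zero fun h => hg0
    ((degree_eq_natDegree hgm.ne_zero).trans (by rw [h]; rfl))
  have : Nontrivial (AdjoinRoot g) :=
    ⟨⟨(AdjoinRoot.powerBasisAux' hgm) ⟨0, hn⟩, 0, (AdjoinRoot.powerBasisAux' hgm).ne_zero _⟩⟩
  let v : Spec (CommRingCat.of (AdjoinRoot g)) ⟶ Spec (CommRingCat.of A) :=
    Spec.map (CommRingCat.ofHom (algebraMap A (AdjoinRoot g)))
  have hsurj : Surjective v := by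
    refine ⟨?_⟩
    exact PrimeSpectrum.comap_surjective_of_faithfullyFlat
  have hmem : Presieve.singleton v ∈ Scheme.precoverage
      (@Flat ⊓ @LocallyOfFinitePresentation ⊓ @QuasiCompact ⊓ @QuasiSeparated) _ := by
    rw [Scheme.singleton_mem_precoverage_iff]
    refine ⟨hsurj.1, ⟨⟨⟨?_, ?_⟩, inferInstance⟩, inferInstance⟩⟩
    · rw [Flat.SpecMap_iff]
      exact RingHom.flat_algebraMap_iff.2 inferInstance
    · rw [HasRingHomProperty.Spec_iff (P := @LocallyOfFinitePresentation)]
      exact RingHom.finitePresentation_algebraMap.2 inferInstance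
  obtain ⟨Y, w, h, hw, hh⟩ := hloc _ _ hmem (𝟙 _)
  cases hw
  obtain ⟨r, rfl⟩ := Spec.map_surjective h
  rw [← Spec.map_comp, ← Spec.map_id] at hh
  have hr := congrArg CommRingCat.Hom.hom (Spec.map_injective hh)
  set x := r.hom (AdjoinRoot.root g)
  have hx : g.eval x = 0 := by
    have h1 := congrArg r.hom (AdjoinRoot.eval₂_root g)
    rw [hom_eval₂, map_zero] at h1
    have h2 : r.hom.comp (AdjoinRoot.of g) = RingHom.id A := hr
    rw [h2] at h1
    exact h1
  refine ⟨φ x / σ, ?_⟩
  have hx' := congrArg φ hx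
  rw [map_zero, ← eval_map_apply, hg] at hx'
  have := scaleRoots_eval_mul q (φ x / σ) σ
  rw [mul_div_cancel₀ _ hs0, hx'] at this
  exact (mul_eq_zero.1 this.symm).resolve_left (pow_ne_zero _ hs0)

end Groth.Agent.S19328
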