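import Groth.Statements.S19329
import Groth.Agent.Lib.ModPair.Basic
import Groth.Agent.Lib.RelDiv.Diff

set_option autoImplicit false
universe u
open CategoryTheory CategoryTheory.Limits AlgebraicGeometry TopologicalSpace
open ModPair

namespace Groth.Agent.S19329

/-- Let (X, I), (Y, J), (Z, K) be modulus pairs, i.e. schemes with quasi-coherent ideal sheaves of
effective Cartier divisors, and let f : X ⟶ Y and g : Y ⟶ Z satisfy the modulus conditions I ≤
J.comap f and J ≤ K.comap g. Suppose the composite X ⟶ Z is minimal, I = K.comap (f ≫ g). Then f is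
minimal, and there is an open subset U of Y whose inclusion is quasi-compact, which contains the
image of f, and such that U ⟶ Z is minimal for the modulus of Y restricted to U. -/
theorem result {X Y Z : Scheme.{u}}
    (I : X.IdealSheafData) (J : Y.IdealSheafData) (K : Z.IdealSheafData)
    (hI : BlowUp.IsEffCartierIdeal I) (hJ : BlowUp.IsEffCartierIdeal J)
    (hK : BlowUp.IsEffCartierIdeal K) (f : X ⟶ Y) (g : Y ⟶ Z)
    (hf : ModPair.IsAmbient I J f) (hg : ModPair.IsAmbient J K g)
    (hfg : ModPair.IsMinimal I K (f ≫ g)) :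
    ModPair.IsMinimal I J f ∧
      ∃ U : Y.Opens, QuasiCompact U.ι ∧ Set.range f.base ⊆ (U : Set Y) ∧
        ModPair.IsMinimal (J.comap U.ι) K (U.ι ≫ g) := by
  have hfg' : I = (K.comap g).comap f := by rw [← Scheme.IdealSheafData.comap_comp]; exact hfg
  refine ⟨le_antisymm hf ((Scheme.IdealSheafData.comap_mono f hg).trans_eq hfg'.symm), ?_⟩
  have hKg := Lib.ModPair.effCartier_comap_of_isAmbient hJ (Lib.ModPair.isLP_of_effCartier hK) hg
  obtain ⟨L, eL⟩ : ∃ L, K.comap g * L = J := ⟨_, Lib.RelDiv.Diff.mul_colon hKg hg⟩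
  have hL : BlowUp.IsEffCartierIdeal L :=
    Lib.Ideal.EffCartier.isEffCartier_factor_right (eL.symm ▸ hJ)
  have hLf : L.comap f = ⊤ := by
    refine Lib.RelDiv.Diff.mul_left_cancel hI ?_
    rw [Scheme.IdealSheafData.mul_top]
    conv_lhs => rw [hfg', ← Lib.Ideal.Comap.comap_mul, eL]
    exact (le_antisymm hf ((Scheme.IdealSheafData.comap_mono f hg).trans_eq hfg'.symm)).symm
  have := Lib.ModPair.quasiCompact_interior (Lib.ModPair.isLP_of_effCartier hL)
  refine ⟨ModPair.interior L, this, ?_, ?_⟩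
  · rintro _ ⟨x, rfl⟩
    have h' := Lib.ModPair.interior_comap f L
    rw [hLf, Lib.ModPair.interior_top] at h'
    exact (h' ▸ (trivial : x ∈ (⊤ : X.Opens)) : x ∈ f ⁻¹ᵁ ModPair.interior L)
  · show _ = _
    rw [Scheme.IdealSheafData.comap_comp, ← eL, Lib.Ideal.Comap.comap_mul]
    rw [Lib.Ideal.EffCartier.comap_eq_top_of_disjoint (ModPair.interior L).ι (fun x => x.2),
      Scheme.IdealSheafData.mul_top]

end Groth.Agent.S19329
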