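import Groth.Statements.S19330
import Groth.Agent.Lib.ModPair.Basic
import Groth.Agent.Lib.Ideal.Prime

set_option autoImplicit false
universe u
open CategoryTheory CategoryTheory.Limits AlgebraicGeometry TopologicalSpace
open ModPair

namespace Groth.Agent.S19330

/-- Let (S, I) be a modulus pair, i.e. a scheme with the quasi-coherent ideal sheaf of an effective
Cartier divisor, with interior U, and let g_i : V_i ⟶ U be a jointly surjective family of closed
immersions into the interior. Let V̄_i be the scheme-theoretic image of V_i ⟶ U ⟶ S. Then the closed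
immersions V̄_i ⟶ S are jointly surjective, the modulus restricted to each V̄_i is again the ideal
sheaf of an effective Cartier divisor (so that V̄_i ⟶ S is a minimal morphism of modulus pairs), and
the interior of V̄_i is V_i: the canonical morphism V_i ⟶ V̄_i is an open immersion whose image is
the preimage of U. -/
theorem result {S : Scheme.{u}} (I : S.IdealSheafData)
    (hI : BlowUp.IsEffCartierIdeal I) {ι : Type u} (V : ι → Scheme.{u})
    (g : ∀ i, V i ⟶ (ModPair.interior I : Scheme.{u})) [∀ i, IsClosedImmersion (g i)]
    (hsurj : ∀ u : (ModPair.interior I : Scheme.{u}), ∃ (i : ι) (v : V i), (g i).base v = u) :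
    (∀ s : S, ∃ (i : ι) (v : (g i ≫ (ModPair.interior I).ι).image),
        (g i ≫ (ModPair.interior I).ι).imageι.base v = s) ∧
      (∀ i, BlowUp.IsEffCartierIdeal (I.comap (g i ≫ (ModPair.interior I).ι).imageι)) ∧
      ∀ i, IsOpenImmersion (g i ≫ (ModPair.interior I).ι).toImage ∧
        Set.range (g i ≫ (ModPair.interior I).ι).toImage.base =
          (g i ≫ (ModPair.interior I).ι).imageι.base ⁻¹' (ModPair.interior I : Set S) := by
  have hlp := Lib.ModPair.isLP_of_effCartier hI
  have := Lib.ModPair.quasiCompact_interior hlp
  have hrange : ∀ i, Set.range (g i ≫ (ModPair.interior I).ι).imageι =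
      closure (Set.range (g i ≫ (ModPair.interior I).ι)) := fun i => by
    rw [Scheme.IdealSheafData.range_subschemeι, Scheme.Hom.support_ker]
  refine ⟨fun s => ?_, fun i => Lib.ModPair.effCartier_comap_imageι _ hlp fun v => (g i v).2,
    fun i => ⟨inferInstance, ?_⟩⟩
  · obtain ⟨z, -, hz, hmax⟩ :=
      Lib.Ideal.Prime.exists_maximal_generization isClosed_univ (Set.mem_univ s)
    have hzU : z ∈ ModPair.interior I := fun hzs =>
      Lib.Ideal.Prime.not_maximalPoint_of_mem_support hI hzs fun y hy => hmax y trivial hy
    obtain ⟨i, v, hv⟩ := hsurj ⟨z, hzU⟩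
    refine ⟨i, ?_⟩
    suffices s ∈ Set.range (g i ≫ (ModPair.interior I).ι).imageι from this
    rw [hrange]
    refine hz.mem_closed isClosed_closure (subset_closure ⟨v, ?_⟩)
    rw [Scheme.Hom.comp_apply, hv]
    rfl
  · ext y
    constructor
    · rintro ⟨v, rfl⟩
      show (g i ≫ (ModPair.interior I).ι).imageι ((g i ≫ (ModPair.interior I).ι).toImage v) ∈
        ModPair.interior I
      rw [Lib.ModPair.imageι_toImage_apply]
      exact (g i v).2
    · intro hy
      have hcl : (g i ≫ (ModPair.interior I).ι).imageι y ∈
          closure (Set.range (g i ≫ (ModPair.interior I).ι)) := hrange i ▸ ⟨y, rfl⟩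
      have h' : (⟨_, hy⟩ : (ModPair.interior I : Scheme.{u})) ∈
          closure (Set.range (g i)) := by
        rw [(ModPair.interior I).ι.isOpenEmbedding.isInducing.closure_eq_preimage_closure_image]
        show _ ∈ closure _
        rw [← Set.range_comp]
        exact hcl
      rw [(g i).isClosedEmbedding.isClosed_range.closure_eq] at h'
      obtain ⟨v, hv⟩ := h'
      refine ⟨v, (g i ≫ (ModPair.interior I).ι).imageι.isEmbedding.injective ?_⟩
      rw [Lib.ModPair.imageι_toImage_apply, Scheme.Hom.comp_apply, hv]
      rfl

end Groth.Agent.S19330
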