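import Groth.Statements.S19331
import Groth.Agent.Lib.Lim.Approx.Integral
import Groth.Agent.Lib.ModPair.Basic
import Mathlib.AlgebraicGeometry.Morphisms.Finite
import Mathlib.AlgebraicGeometry.Normalization
import Mathlib.AlgebraicGeometry.AffineTransitionLimit

set_option autoImplicit false
universe u
open CategoryTheory CategoryTheory.Limits AlgebraicGeometry TopologicalSpace
open ModPair

namespace Groth.Agent.S19331
theorem toImage_range {X Z : Scheme.{u}} (W : Z.Opens) (a : X ⟶ (W : Scheme.{u})) [IsClosedImmersion a]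
    [QuasiCompact (a ≫ W.ι)] :
    Set.range (a ≫ W.ι).toImage = (a ≫ W.ι).imageι ⁻¹' (W : Set Z) := by
  set e := a ≫ W.ι
  apply subset_antisymm
  · rintro _ ⟨x, rfl⟩
    show e.imageι (e.toImage x) ∈ W
    rw [Lib.ModPair.imageι_toImage_apply]
    exact (a x).2
  · intro y hy
    have hcl : e.imageι y ∈ closure (Set.range e) := by
      have h : e.imageι y ∈ Set.range e.imageι := ⟨y, rfl⟩
      rw [Scheme.IdealSheafData.range_subschemeι, Scheme.Hom.support_ker] at h
      exact h
    obtain ⟨C, hC, hCe⟩ := isClosed_induced_iff.1 a.isClosedEmbedding.isClosed_range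
    have hsub : Set.range e ⊆ C := by
      rintro _ ⟨x, rfl⟩
      have : a x ∈ Subtype.val ⁻¹' C := hCe.symm ▸ ⟨x, rfl⟩
      exact this
    have hyC : (⟨e.imageι y, hy⟩ : W) ∈ Set.range a := hCe ▸ hC.closure_subset_iff.2 hsub hcl
    obtain ⟨x, hx⟩ := hyC
    refine ⟨x, e.imageι.isClosedEmbedding.injective ?_⟩
    rw [Lib.ModPair.imageι_toImage_apply]
    exact congrArg Subtype.val hx

theorem resLE_chain {T N Z S : Scheme.{u}} {V : N.Opens} (g : T ⟶ (V : Scheme.{u})) {n : T ⟶ N}
    (hg : g ≫ V.ι = n) (p : N ⟶ Z) (W : Z.Opens) (e : V ≤ p ⁻¹ᵁ W) (s : Z ⟶ S) :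
    (g ≫ p.resLE W V e) ≫ (W.ι ≫ s) = n ≫ p ≫ s := by
  rw [Category.assoc, Scheme.Hom.resLE_comp_ι_assoc, ← Category.assoc, hg]

theorem toNormalization_open {S T₀ : Scheme.{u}} (U : S.Opens) (f : T₀ ⟶ S) [QuasiCompact f]
    [QuasiSeparated f] (hf : Set.range f ⊆ U) (hi : IsIntegralHom (pullback.snd f U.ι)) :
    IsOpenImmersion f.toNormalization ∧
      Set.range f.toNormalization = f.fromNormalization ⁻¹' (U : Set S) := by
  have : IsIso (pullback.fst f U.ι) := by
    refine isIso_of_isOpenImmersion_of_opensRange_eq_top _ (eq_top_iff.2 fun x _ => ?_)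
    rw [Scheme.Hom.opensRange_pullbackFst]
    show f x ∈ U.ι.opensRange
    rw [Scheme.Opens.opensRange_ι]
    exact hf ⟨x, rfl⟩
  set φ := (pullback.snd f U.ι).toNormalization ≫ f.normalizationPullback U.ι
  have h : f.toNormalization = (inv (pullback.fst f U.ι) ≫ φ) ≫ pullback.fst _ _ := by
    rw [Category.assoc, IsIso.eq_inv_comp, Category.assoc,
      Scheme.Hom.toNormalization_normalizationPullback_fst]
  refine ⟨h ▸ inferInstance, ?_⟩
  have hs : Function.Surjective (inv (pullback.fst f U.ι) ≫ φ) := fun z =>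
    ⟨(asIso (inv (pullback.fst f U.ι) ≫ φ)).inv z, by
      rw [← Scheme.Hom.comp_apply]; exact congr($((asIso (inv (pullback.fst f U.ι) ≫ φ)).inv_hom_id) z)⟩
  rw [h]
  show Set.range ((pullback.fst f.fromNormalization U.ι) ∘ (inv (pullback.fst f U.ι) ≫ φ)) = _
  rw [hs.range_comp, IsOpenImmersion.range_pullbackFst, Scheme.Opens.opensRange_ι]
  rfl


/-- Let (S, I) be a modulus pair, i.e. a scheme with the quasi-coherent ideal sheaf of an effective
Cartier divisor, with S quasi-compact and quasi-separated and with interior U, and let t₀ : T₀ ⟶ U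
be a finite surjective morphism. Then there are a finite surjective morphism t : T ⟶ S such that the
pulled-back modulus I.comap t is again the ideal sheaf of an effective Cartier divisor, making T ⟶ S
a minimal morphism of modulus pairs, and an open immersion j : T₀ ⟶ T with image t⁻¹(U) and j ≫ t =
t₀ ≫ (U ⟶ S), so that t₀ is the interior of t. -/
theorem result {S : Scheme.{u}}
    [CompactSpace S] [QuasiSeparatedSpace S] (I : S.IdealSheafData)
    (hI : BlowUp.IsEffCartierIdeal I) {T₀ : Scheme.{u}}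
    (t₀ : T₀ ⟶ (ModPair.interior I : Scheme.{u})) [IsFinite t₀] [Surjective t₀] :
    ∃ (T : Scheme.{u}) (t : T ⟶ S) (j : T₀ ⟶ T), IsFinite t ∧ Surjective t ∧
      BlowUp.IsEffCartierIdeal (I.comap t) ∧ IsOpenImmersion j ∧
      Set.range j.base = t.base ⁻¹' (ModPair.interior I : Set S) ∧
      j ≫ t = t₀ ≫ (ModPair.interior I).ι := by
  let U : S.Opens := ModPair.interior I
  have hlp := Lib.ModPair.isLP_of_effCartier hI
  have hqU := Lib.ModPair.quasiCompact_interior hlp
  let f := t₀ ≫ U.ι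
  have : LocallyOfFiniteType f := inferInstanceAs (LocallyOfFiniteType (t₀ ≫ U.ι))
  have : QuasiCompact f := inferInstanceAs (QuasiCompact (t₀ ≫ U.ι))
  have : QuasiSeparated f := inferInstanceAs (QuasiSeparated (t₀ ≫ U.ι))
  have hfU : Set.range f ⊆ U := by rintro _ ⟨x, rfl⟩; exact (t₀ x).2
  have hint : IsIntegralHom (pullback.snd f U.ι) := by
    have hp : IsPullback (𝟙 T₀) t₀ f U.ι := IsPullback.of_horiz_isIso_mono ⟨by simp [f]⟩
    rw [← hp.isoPullback_inv_snd]
    infer_instance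
  obtain ⟨hopen, hrange⟩ := toNormalization_open U f hfU hint
  obtain ⟨R, hfin⟩ := Lib.Lim.Approx.Integral.exists_finiteApprox f.fromNormalization
  let i₀ : R.Kᵒᵖ := Opposite.op R.ne.some
  let U' : (R.D.obj i₀).Opens := R.t.app i₀ ⁻¹ᵁ U
  have hπ : R.π.app i₀ ⁻¹ᵁ U' = f.fromNormalization ⁻¹ᵁ U := by
    show R.π.app i₀ ⁻¹ᵁ (R.t.app i₀ ⁻¹ᵁ U) = _
    rw [← Scheme.Hom.comp_preimage, R.w]
  have hj : ∀ j : Over i₀, R.D.map j.hom ⁻¹ᵁ U' = R.t.app j.left ⁻¹ᵁ U := fun j => by
    show R.D.map j.hom ⁻¹ᵁ (R.t.app i₀ ⁻¹ᵁ U) = _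
    rw [← Scheme.Hom.comp_preimage, Lib.Lim.Eventual.t_w R.t j.hom]
  have hUc : IsCompact (U : Set S) := by
    have : CompactSpace (U : Scheme.{u}) := QuasiCompact.compactSpace_of_compactSpace U.ι
    exact isCompact_iff_compactSpace.2 this
  let V : f.normalization.Opens := R.π.app i₀ ⁻¹ᵁ U'
  let g : T₀ ≅ (V : Scheme.{u}) :=
    IsOpenImmersion.isoOfRangeEq f.toNormalization V.ι (by
      rw [hrange, Scheme.Opens.range_ι, show V = _ from hπ]; rfl)
  have hg : g.hom ≫ V.ι = f.toNormalization :=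
    IsOpenImmersion.isoOfRangeEq_hom_fac _ _ _
  let t' : opensDiagram R.D i₀ U' ⟶ (Functor.const (Over i₀)).obj S :=
    opensDiagramι R.D i₀ U' ≫ Functor.whiskerLeft (Over.forget i₀) R.t ≫
      { app := fun _ => 𝟙 S, naturality := fun _ _ _ => by simp }
  have ht' : ∀ j, t'.app j = (R.D.map j.hom ⁻¹ᵁ U').ι ≫ R.t.app j.left := fun j => by
    show (opensDiagramι R.D i₀ U').app j ≫ R.t.app j.left ≫ 𝟙 S = _
    exact congrArg (fun m => (opensDiagramι R.D i₀ U').app j ≫ m) (Category.comp_id (R.t.app j.left))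
  let g₁ : T₀ ⟶ (opensCone R.D R.cone i₀ U').pt := g.hom
  have : IsClosedImmersion g₁ := (inferInstance : IsClosedImmersion g.hom)
  have : ∀ j, CompactSpace ((opensDiagram R.D i₀ U').obj j) := fun j => by
    refine isCompact_iff_compactSpace.1 ?_
    rw [hj j]
    exact (R.t.app j.left).isCompact_preimage hUc
  have hw : ∀ j, (g₁ ≫ (opensCone R.D R.cone i₀ U').π.app j) ≫ t'.app j = f := fun j => by
    refine (congrArg (fun m => (g₁ ≫ (opensCone R.D R.cone i₀ U').π.app j) ≫ m) (ht' j)).trans ?_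
    refine (resLE_chain g.hom hg (R.π.app j.left) (R.D.map j.hom ⁻¹ᵁ U') (by
      rw [hj j, ← Scheme.Hom.comp_preimage, R.w, ← hπ]) (R.t.app j.left)).trans ?_
    exact (congrArg (fun m => f.toNormalization ≫ m) (R.w j.left)).trans
      (Scheme.Hom.toNormalization_fromNormalization f)
  have : LocallyOfFiniteType (g₁ ≫ (opensCone R.D R.cone i₀ U').π.app (Over.mk (𝟙 i₀)) ≫
      t'.app (Over.mk (𝟙 i₀))) := by
    rw [← Category.assoc, hw]; infer_instance
  obtain ⟨j, hcl⟩ := Lib.Lim.Eventual.exists_isClosedImmersion_comp t'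
    (isLimitOpensCone R.D R.cone R.isLimit i₀ U') g₁ (Over.mk (𝟙 i₀))
  let W : (R.D.obj j.left).Opens := R.D.map j.hom ⁻¹ᵁ U'
  let a : T₀ ⟶ (W : Scheme.{u}) := g₁ ≫ (opensCone R.D R.cone i₀ U').π.app j
  have : IsClosedImmersion a := hcl
  have : QuasiCompact W.ι := by
    have : IsAffineHom U.ι := Lib.ModPair.isAffineHom_interior hlp
    have hW : IsCompact (W : Set (R.D.obj j.left)) := by
      show IsCompact ((R.D.map j.hom ⁻¹ᵁ U' : (R.D.obj j.left).Opens) : Set (R.D.obj j.left))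
      rw [hj j]
      exact (R.t.app j.left).isCompact_preimage hUc
    refine ⟨fun O hO hOc => ?_⟩
    have := QuasiSeparatedSpace.inter_isCompact (W : Set (R.D.obj j.left)) O W.2 hW hO hOc
    refine (W.ι.isOpenEmbedding.isInducing.isCompact_iff).2 ?_
    rwa [Set.image_preimage_eq_inter_range, Scheme.Opens.range_ι, Set.inter_comm]
  let e := a ≫ W.ι
  have he : e ≫ R.t.app j.left = f := by
    exact (Category.assoc _ _ _).trans ((congrArg (fun m => a ≫ m) (ht' j)).symm.trans (hw j))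
  have : IsFinite (R.t.app j.left) := hfin _
  refine ⟨e.image, e.imageι ≫ R.t.app j.left, e.toImage, inferInstance, ?_, ?_, inferInstance, ?_, ?_⟩
  · have hrange' : (U : Set S) ⊆ Set.range (e.imageι ≫ R.t.app j.left) := by
      intro x hx
      obtain ⟨z, hz⟩ := t₀.surjective ⟨x, hx⟩
      refine ⟨e.toImage z, ?_⟩
      rw [← Scheme.Hom.comp_apply, Scheme.Hom.toImage_imageι_assoc, he]
      exact congrArg Subtype.val hz
    have hd : Dense (U : Set S) := by
      have := Lib.ModPair.std_interior hI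
      have h1 : DenseRange U.ι := IsDominant.denseRange (f := U.ι)
      rwa [DenseRange, Scheme.Opens.range_ι] at h1
    refine ⟨fun x => ?_⟩
    have hc := (e.imageι ≫ R.t.app j.left).isClosedMap.isClosed_range
    exact hc.closure_subset_iff.2 hrange' (hd x)
  · rw [Scheme.IdealSheafData.comap_comp]
    refine Lib.ModPair.effCartier_comap_imageι e (hlp.comap _) fun z => ?_
    rw [Lib.ModPair.interior_comap]
    show (e ≫ R.t.app j.left) z ∈ U
    rw [he]
    exact hfU ⟨z, rfl⟩
  · show Set.range (a ≫ W.ι).toImage = _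
    rw [toImage_range W a]
    show (a ≫ W.ι).imageι ⁻¹' ((R.D.map j.hom ⁻¹ᵁ U' : (R.D.obj j.left).Opens) : Set _) = _
    rw [hj j]
    rfl
  · rw [Scheme.Hom.toImage_imageι_assoc, he]

end Groth.Agent.S19331
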