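import Groth.Statements.S19333
import Mathlib.RingTheory.Valuation.LocalSubring
import Mathlib.RingTheory.LocalRing.ResidueField.Ideal

set_option autoImplicit false
universe u
open ModPair

namespace Groth.Agent.S19333

/-- Let A → B be any homomorphism of commutative rings. An element x of B is integral over A if and only
if for every field K, every valuation subring R of K and every ring homomorphism φ : B → K which
sends the image of A into R, the element φ(x) lies in R. In other words the integral closure of A in
B is the intersection of the subrings R ×_K B taken over all commutative squares A → R ⊆ K ← B with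
R a valuation ring of the field K. -/
theorem result {A B : Type u} [CommRing A]
    [CommRing B] [Algebra A B] (x : B) :
    x ∈ integralClosure A B ↔
      ∀ (K : Type u) [Field K] (R : ValuationSubring K) (φ : B →+* K),
        (∀ a : A, φ (algebraMap A B a) ∈ R) → φ x ∈ R := by
  open Polynomial in
  constructor
  · intro hx K _ R φ h
    obtain ⟨p, hp, he⟩ := hx
    let f : A →+* R := (φ.comp (algebraMap A B)).codRestrict R.toSubring h
    have hi : IsIntegral R (φ x) := by
      refine ⟨p.map f, hp.map f, ?_⟩
      have h2 : (algebraMap R K).comp f = φ.comp (algebraMap A B) := RingHom.ext fun _ => rfl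
      rw [eval₂_map, h2, ← hom_eval₂, he, map_zero]
    obtain ⟨y, hy⟩ := (IsIntegrallyClosedIn.isIntegral_iff (R := R) (A := K)).1 hi
    exact hy ▸ y.2
  · intro h
    by_contra hx
    let M : Submonoid B :=
      { carrier := {b | ∃ p : A[X], p.Monic ∧ aeval x p = b}
        one_mem' := ⟨1, monic_one, map_one _⟩
        mul_mem' := by rintro _ _ ⟨p, hp, rfl⟩ ⟨q, hq, rfl⟩; exact ⟨p * q, hp.mul hq, map_mul _ _ _⟩ }
    have h0 : (0 : B) ∉ M := fun ⟨p, hp, e⟩ => hx ⟨p, hp, e⟩
    obtain ⟨q, hq, -, hdisj⟩ := Ideal.exists_le_prime_disjoint (⊥ : Ideal B) M (by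
      rw [Set.disjoint_left]; rintro b (rfl : b = 0); exact h0)
    let K := q.ResidueField
    let φ : B →+* K := algebraMap B K
    have key : ∀ V : ValuationSubring K, Set.range (φ.comp (algebraMap A B)) ⊆ V.toSubring →
        φ x ∈ V := fun V hV => h K V φ fun a => hV ⟨a, rfl⟩
    have hmem : φ x ∈ (integralClosure
        (Subring.closure (Set.range (φ.comp (algebraMap A B)))) K).toSubring := by
      rw [← iInf_valuationSubring_superset]
      exact Subring.mem_iInf.2 fun V => key V.1 V.2
    have hcl : Subring.closure (Set.range (φ.comp (algebraMap A B))) =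
        (φ.comp (algebraMap A B)).range := by
      rw [← RingHom.coe_range, Subring.closure_eq]
    obtain ⟨p, hp, he⟩ := hmem
    have hl : p.map (Subring.subtype _) ∈ lifts (φ.comp (algebraMap A B)) := by
      rw [lifts_iff_coeff_lifts]
      intro n
      rw [coeff_map]
      have := (p.coeff n).2
      exact hcl.le this
    obtain ⟨r, hr, -, hrm⟩ := lifts_and_degree_eq_and_monic hl (hp.map _)
    have : φ (aeval x r) = 0 := by
      rw [aeval_def, hom_eval₂, ← eval_map, hr, eval_map]
      exact he
    have hqm : aeval x r ∈ q := by
      rwa [← Ideal.algebraMap_residueField_eq_zero]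
    exact Set.disjoint_left.1 hdisj hqm ⟨r, hrm, rfl⟩

end Groth.Agent.S19333
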