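import Groth.Statements.S19334
import Groth.Agent.Lib.ModPair.ValTest

set_option autoImplicit false
universe u
open CategoryTheory CategoryTheory.Limits AlgebraicGeometry TopologicalSpace
open ModPair

namespace Groth.Agent.S19334

/-- Let (X, I) be a modulus pair, i.e. a scheme X with the quasi-coherent ideal sheaf I of an effective
Cartier divisor. Suppose that for every valuation ring R and every morphism p : Spec R ⟶ X along
which the divisor of I pulls back to an effective Cartier divisor on Spec R (so that p is a minimal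
morphism of modulus pairs for the pulled-back modulus), the pulled-back divisor is empty, I.comap p
= ⊤. Then the divisor of I is empty: I = ⊤. -/
theorem result {X : Scheme.{u}}
    (I : X.IdealSheafData) (hI : BlowUp.IsEffCartierIdeal I)
    (h : ∀ (R : Type u) [CommRing R] [IsDomain R] [ValuationRing R]
      (p : Spec (CommRingCat.of R) ⟶ X), BlowUp.IsEffCartierIdeal (I.comap p) → I.comap p = ⊤) :
    I = ⊤ := by
  rw [← Scheme.IdealSheafData.support_eq_bot_iff]
  by_contra hne
  obtain ⟨x, hx⟩ : ∃ x, x ∈ I.support := by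
    by_contra hno
    refine hne (TopologicalSpace.Closeds.ext (Set.eq_empty_iff_forall_notMem.2 fun x hx => hno ⟨x, hx⟩))
  obtain ⟨U, hxU, f, hf, hIf⟩ := hI x
  let p := (U.2.primeIdealOf ⟨x, hxU⟩).asIdeal
  have hfp : f ∈ p := by
    by_contra hfp
    have hb := (Lib.Ideal.EffCartier.mem_basicOpen_iff_notMem_prime U.2 hxU f).2 hfp
    rw [Scheme.IdealSheafData.mem_support_iff_of_mem hxU, hIf, Scheme.zeroLocus_span,
      Scheme.zeroLocus_singleton] at hx
    exact hx hb
  obtain ⟨R, _, _, _, φ, hφf, hφp, -⟩ := Lib.ModPair.exists_valuation_test p hf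
  let q := Spec.map (CommRingCat.ofHom φ : Γ(X, U.1) ⟶ CommRingCat.of R) ≫ U.2.fromSpec
  have hq : (I.comap q).ideal ⟨⊤, isAffineOpen_top _⟩ =
      Ideal.span {(Scheme.ΓSpecIso (CommRingCat.of R)).inv.hom (φ f)} := by
    rw [Lib.ModPair.comap_spec_ideal, hIf, Ideal.map_span, Set.image_singleton]; rfl
  have htop := h R q (Lib.ModPair.effCartier_of_span hφf hq)
  rw [htop, Scheme.IdealSheafData.ideal_top] at hq
  have hu : IsUnit ((Scheme.ΓSpecIso (CommRingCat.of R)).inv.hom (φ f)) :=
    Ideal.span_singleton_eq_top.1 hq.symm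
  have hu' := hu.map (Scheme.ΓSpecIso (CommRingCat.of R)).hom.hom
  rw [← CommRingCat.comp_apply, Iso.inv_hom_id] at hu'
  exact hφp f hfp hu'

end Groth.Agent.S19334
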