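import Groth.Statements.S19335
import Groth.Agent.Lib.ModPair.ValTest

set_option autoImplicit false
universe u
open CategoryTheory CategoryTheory.Limits AlgebraicGeometry TopologicalSpace
open ModPair

namespace Groth.Agent.S19335

/-- Let X be a scheme and I, J quasi-coherent ideal sheaves of effective Cartier divisors D_I ≤ D_J on
X, i.e. J ≤ I. Suppose that for every valuation ring R and every morphism p : Spec R ⟶ X such that
I.comap p is the ideal sheaf of an effective Cartier divisor on Spec R (so p is a minimal morphism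
of modulus pairs for (X, I)) whose open complement consists of the generic point of Spec R only, the
two divisors agree after pull-back, I.comap p = J.comap p. Then I = J. -/
theorem result {X : Scheme.{u}} (I J : X.IdealSheafData)
    (hI : BlowUp.IsEffCartierIdeal I) (hJ : BlowUp.IsEffCartierIdeal J) (hJI : J ≤ I)
    (h : ∀ (R : Type u) [CommRing R] [IsDomain R] [ValuationRing R]
      (p : Spec (CommRingCat.of R) ⟶ X), BlowUp.IsEffCartierIdeal (I.comap p) →
        (∀ x : Spec (CommRingCat.of R),
          x ∈ (ModPair.interior (I.comap p) : Set (Spec (CommRingCat.of R))) ↔ x.asIdeal = ⊥) →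
        I.comap p = J.comap p) :
    I = J := by
  have key : ∀ x : X, ∃ W : X.affineOpens, x ∈ W.1 ∧ I.ideal W = J.ideal W := by
    intro x
    obtain ⟨U₁, hxU₁, f₁, hf₁, hIf₁⟩ := hI x
    obtain ⟨U, hxU, hle, g, hJg⟩ := (Lib.ModPair.isLP_of_effCartier hJ).exists_gen x hxU₁
    have hIf := Lib.Ideal.EffCartier.ideal_eq_span_of_le (I := I) hle hIf₁
    set f := (X.presheaf.map (homOfLE hle).op).hom f₁ with hfdef
    have hf : f ∈ nonZeroDivisors Γ(X, U.1) :=
      Lib.Ideal.EffCartier.res_mem_nonZeroDivisors U₁.2 hle hf₁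
    have hg : g ∈ Ideal.span {f} := by
      rw [← hIf]; exact hJI U (hJg ▸ Ideal.mem_span_singleton_self g)
    obtain ⟨c, hc⟩ := Ideal.mem_span_singleton.1 hg
    let p := (U.2.primeIdealOf ⟨x, hxU⟩).asIdeal
    by_cases hcp : c ∈ p
    · obtain ⟨R, _, _, _, φ, hφf, hφp, hφP⟩ := Lib.ModPair.exists_valuation_test p hf
      let q := Spec.map (CommRingCat.ofHom φ : Γ(X, U.1) ⟶ CommRingCat.of R) ≫ U.2.fromSpec
      have hqI : (I.comap q).ideal ⟨⊤, isAffineOpen_top _⟩ =
          Ideal.span {(Scheme.ΓSpecIso (CommRingCat.of R)).inv.hom (φ f)} := by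
        rw [Lib.ModPair.comap_spec_ideal, hIf, Ideal.map_span, Set.image_singleton]; rfl
      have hqJ : (J.comap q).ideal ⟨⊤, isAffineOpen_top _⟩ =
          Ideal.span {(Scheme.ΓSpecIso (CommRingCat.of R)).inv.hom (φ g)} := by
        rw [Lib.ModPair.comap_spec_ideal, hJg, Ideal.map_span, Set.image_singleton]; rfl
      have he := h R q (Lib.ModPair.effCartier_of_span hφf hqI) fun y => by
        refine (Lib.ModPair.mem_interior_spec hqI y).trans ⟨fun hy => ?_, fun hy => ?_⟩
        · by_contra hy0; exact hy (hφP _ y.2 hy0)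
        · rw [hy]; exact fun h0 => hφf (Ideal.mem_bot.1 h0)
      rw [← he, hqI] at hqJ
      obtain ⟨d, hd⟩ := Ideal.mem_span_singleton.1
        (hqJ ▸ Ideal.mem_span_singleton_self
          ((Scheme.ΓSpecIso (CommRingCat.of R)).inv.hom (φ f)))
      have hd' := congrArg (Scheme.ΓSpecIso (CommRingCat.of R)).hom.hom hd
      rw [map_mul, ← CommRingCat.comp_apply, ← CommRingCat.comp_apply, Iso.inv_hom_id] at hd'
      simp only [CommRingCat.id_apply] at hd'
      change φ f = φ g * (_ : R) at hd'
      rw [hc, map_mul, mul_assoc] at hd'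
      exact absurd (IsUnit.of_mul_eq_one _ (mul_left_cancel₀ hφf (hd'.symm.trans (mul_one (φ f)).symm)))
        (hφp c hcp)
    · have hb : x ∈ X.basicOpen c :=
        (Lib.Ideal.EffCartier.mem_basicOpen_iff_notMem_prime U.2 hxU c).2 hcp
      have hu : IsUnit ((X.presheaf.map (homOfLE (X.basicOpen_le c)).op).hom c) :=
        RingedSpace.isUnit_res_basicOpen _ _
      refine ⟨⟨X.basicOpen c, U.2.basicOpen c⟩, hb, ?_⟩
      rw [Lib.Ideal.EffCartier.ideal_eq_span_of_le (I := I) (U := U) (X.basicOpen_le c) hIf,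
        Lib.Ideal.EffCartier.ideal_eq_span_of_le (I := J) (U := U) (X.basicOpen_le c) hJg, hc,
        map_mul, Ideal.span_singleton_mul_right_unit hu]
  choose W hW hWe using key
  exact Scheme.IdealSheafData.ext_of_iSup_eq_top W
    (eq_top_iff.2 fun x _ => TopologicalSpace.Opens.mem_iSup.2 ⟨x, hW x⟩) hWe

end Groth.Agent.S19335
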