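import Groth.Statements.S19336
import Groth.Agent.Lib.Lim.IdealExt
import Groth.Agent.Lib.BlowUpExists.Proper
import Groth.Agent.Lib.Ideal.BlowUp
import Groth.Agent.Lib.ModPair.Basic
-- import your own Groth.Agent.* helpers here

set_option autoImplicit false
universe u
open CategoryTheory CategoryTheory.Limits AlgebraicGeometry TopologicalSpace
open ModPair

namespace Groth.Agent.S19336

/-- Let (S, I) be a modulus pair, i.e. a scheme S with the quasi-coherent ideal sheaf I of an effective
Cartier divisor, with S quasi-compact and quasi-separated and with interior U, and let (V_i) be a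
covering of U by quasi-compact open subsets. Then there are a quasi-coherent ideal sheaf F of finite
type on S whose support is disjoint from U, a blow-up b : Y ⟶ S of S in F (an admissible blow-up)
such that I.comap b is again the ideal sheaf of an effective Cartier divisor, and a covering of Y by
quasi-compact open subsets W_j such that each W_j ∩ b⁻¹(U) is contained in b⁻¹(V_i) for some i: the
Zariski covering of the interior extends, after an admissible blow-up, to a Zariski covering of the
total space. -/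
theorem result {S : Scheme.{u}}
    [CompactSpace S] [QuasiSeparatedSpace S] (I : S.IdealSheafData)
    (hI : BlowUp.IsEffCartierIdeal I) {ι : Type u} (V : ι → S.Opens)
    (hVU : ∀ i, V i ≤ ModPair.interior I) (hVqc : ∀ i, IsCompact (V i : Set S))
    (hcov : ModPair.interior I ≤ ⨆ i, V i) :
    ∃ (F : S.IdealSheafData) (Y : Scheme.{u}) (b : Y ⟶ S) (κ : Type u) (W : κ → Y.Opens),
      BlowUp.IsAdmissibleFor (ModPair.interior I) F ∧ BlowUp.IsBlowUp b F ∧
        BlowUp.IsEffCartierIdeal (I.comap b) ∧ (∀ k, IsCompact (W k : Set Y)) ∧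
        (⨆ k, W k) = ⊤ ∧ ∀ k, ∃ i, W k ⊓ b ⁻¹ᵁ ModPair.interior I ≤ b ⁻¹ᵁ V i := by
  classical
  have hqcU : IsCompact (ModPair.interior I : Set S) := by
    have := Groth.Agent.Lib.ModPair.quasiCompact_interior
      (Groth.Agent.Lib.ModPair.isLP_of_effCartier hI)
    have : CompactSpace (ModPair.interior I : Scheme.{u}) :=
      QuasiCompact.compactSpace_of_compactSpace (ModPair.interior I).ι
    exact isCompact_iff_compactSpace.mpr this
  let K : ι → S.IdealSheafData := fun i =>
    Scheme.IdealSheafData.vanishingIdeal ⟨(V i : Set S)ᶜ, (V i).2.isClosed_compl⟩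
  have hloc : ∀ x : (ModPair.interior I : Set S),
      ∃ p : Σ i, Groth.Agent.Lib.Lim.IdealExt.FGSub (K i),
        x.1 ∉ p.2.1.support ∧ ∀ z, z ∉ p.2.1.support → z ∈ V p.1 := by
    intro x
    obtain ⟨i, hi⟩ := Opens.mem_iSup.mp (hcov x.2)
    obtain ⟨J, hJ⟩ : ∃ J : Groth.Agent.Lib.Lim.IdealExt.FGSub (K i), x.1 ∉ J.1.support := by
      by_contra! hall
      have h : (⨆ J : Groth.Agent.Lib.Lim.IdealExt.FGSub (K i), J.1).support =
          ⨅ J : Groth.Agent.Lib.Lim.IdealExt.FGSub (K i), J.1.support :=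
        Scheme.IdealSheafData.gc.l_iSup
      have h' : x.1 ∈ ((K i).support : Set S) := by
        rw [Groth.Agent.Lib.Lim.IdealExt.eq_iSup_fgSub (K i), h, Closeds.coe_iInf]
        exact Set.mem_iInter.2 hall
      rw [Scheme.IdealSheafData.coe_support_vanishingIdeal] at h'
      exact h' hi
    refine ⟨⟨i, J⟩, hJ, fun z hz => ?_⟩
    by_contra hzV
    refine hz (Scheme.IdealSheafData.support_antitone J.2.1 ?_)
    show z ∈ ((K i).support : Set S)
    rw [Scheme.IdealSheafData.coe_support_vanishingIdeal]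
    exact hzV
  choose p hp hpV using hloc
  obtain ⟨s, hs⟩ := hqcU.elim_finite_subcover (fun x => ((p x).2.1.support : Set S)ᶜ)
    (fun x => (p x).2.1.support.isClosed.isOpen_compl)
    (fun x hx => Set.mem_iUnion.2 ⟨⟨x, hx⟩, hp ⟨x, hx⟩⟩)
  let F : S.IdealSheafData := s.sup fun x => (p x).2.1
  have hFfg : Groth.Agent.Lib.Lim.IdealExt.IsFG F :=
    Finset.sup_induction Groth.Agent.Lib.Lim.IdealExt.isFG_bot
      (fun _ h _ h' => Groth.Agent.Lib.Lim.IdealExt.isFG_sup h h') fun x _ => (p x).2.2.2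
  have hFsupp : ∀ z, z ∈ ModPair.interior I → z ∉ F.support := by
    intro z hz hzF
    obtain ⟨x, hx, hxz⟩ := Set.mem_iUnion₂.1 (hs hz)
    exact hxz (Scheme.IdealSheafData.support_antitone
      (Finset.le_sup (f := fun x => (p x).2.1) hx) hzF)
  have hFideal : ∀ U : S.affineOpens,
      F.ideal U = Ideal.span (⋃ x ∈ s, ((p x).2.1.ideal U : Set Γ(S, U.1))) := by
    intro U
    rw [show F.ideal U = s.sup fun x => (p x).2.1.ideal U from
      Finset.comp_sup_eq_sup_comp (fun J : S.IdealSheafData => J.ideal U)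
        (fun J J' => by simp [Scheme.IdealSheafData.ideal_sup])
        (by simp), Finset.sup_eq_iSup]
    simp only [Ideal.span, Submodule.span_iUnion₂, Submodule.span_eq]
  obtain ⟨Y, b, hb⟩ := Groth.Agent.Lib.BlowUpExists.exists_isBlowUp S F
  have key : ∀ y : Y, ∃ W : Y.affineOpens, y ∈ W.1 ∧
      ∃ i, W.1 ⊓ b ⁻¹ᵁ ModPair.interior I ≤ b ⁻¹ᵁ V i := by
    intro y
    obtain ⟨U, hU, hyU, -⟩ := exists_isAffineOpen_mem_and_subset
      (show b y ∈ (⊤ : S.Opens) from trivial)
    obtain ⟨a, ha, W, e, hyW, hW⟩ := Groth.Agent.Lib.BlowUpExists.exists_genAt_of_span b hb.1 y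
      (U := ⟨U, hU⟩) hyU (hFideal ⟨U, hU⟩).symm
    obtain ⟨x, -, hax⟩ := Set.mem_iUnion₂.1 ha
    refine ⟨W, hyW, (p x).1, fun z hz => hpV x (b z) ?_⟩
    have hzs : z ∉ (F.comap b).support := by
      rw [Scheme.IdealSheafData.support_comap]
      exact hFsupp _ hz.2
    have hu := Groth.Agent.Lib.ModPair.isUnit_germ_gen hW hz.1 hzs
    rw [← Y.mem_basicOpen _ z hz.1, Scheme.basicOpen_appLE] at hu
    intro hsupp
    have h0 := (Scheme.IdealSheafData.mem_support_iff_of_mem (I := (p x).2.1) (U := ⟨U, hU⟩)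
      (e hz.1)).mp hsupp
    rw [Scheme.mem_zeroLocus_iff] at h0
    exact h0 a hax hu.2
  choose W hyW hW using key
  refine ⟨F, Y, b, Y, fun y => (W y).1, ⟨hFfg, Set.disjoint_left.mpr fun z hz hzU => hFsupp z hzU hz⟩,
    hb, Groth.Agent.Lib.Ideal.BlowUp.isEffCartier_comap_blowUp hb hI, fun y => (W y).2.isCompact,
    top_le_iff.mp fun y _ => Opens.mem_iSup.mpr ⟨y, hyW y⟩, hW⟩


end Groth.Agent.S19336
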