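import Groth.Statements.S19338

set_option autoImplicit false
universe w v u
open CategoryTheory
open ModPair

namespace Groth.Agent.S19338

/-- Let C be a category and S a class of morphisms which contains the identities, is closed under
composition, admits a right calculus of fractions, and consists of monomorphisms. Then the sieves
containing a morphism of S are the covering sieves of a Grothendieck topology on C, and for every
such topology J a presheaf of types F on C is a J-sheaf if and only if it is S-local, i.e. F sends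
every morphism of S to a bijection. -/
theorem result {C : Type u} [Category.{v} C]
    (S : MorphismProperty C) [S.HasRightCalculusOfFractions]
    (hmono : ∀ ⦃X Y : C⦄ (s : X ⟶ Y), S s → Mono s) :
    (∃ J : GrothendieckTopology C, ∀ (X : C) (T : Sieve X),
        T ∈ J X ↔ ∃ (Y : C) (s : Y ⟶ X), S s ∧ T s) ∧
      ∀ J : GrothendieckTopology C, (∀ (X : C) (T : Sieve X),
          T ∈ J X ↔ ∃ (Y : C) (s : Y ⟶ X), S s ∧ T s) →
        ∀ F : Cᵒᵖ ⥤ Type w,
          Presheaf.IsSheaf J F ↔ ∀ ⦃X Y : C⦄ (s : X ⟶ Y), S s → IsIso (F.map s.op) := by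
  refine ⟨⟨⟨fun X => {T | ∃ (Y : C) (s : Y ⟶ X), S s ∧ T s}, fun X => ⟨X, 𝟙 X, S.id_mem X, trivial⟩,
    ?_, ?_⟩, fun X T => Iff.rfl⟩, fun J hJ F => ?_⟩
  · rintro X Y T f ⟨X', s, hs, hT⟩
    obtain ⟨ψ, hψ⟩ := (MorphismProperty.LeftFraction.mk f s hs).exists_rightFraction
    refine ⟨ψ.X', ψ.s, ψ.hs, ?_⟩
    show T (ψ.s ≫ f)
    exact hψ ▸ T.downward_closed hT ψ.f
  · rintro X T ⟨X', s, hs, hT⟩ R h
    obtain ⟨Y, t, ht, hR⟩ := h hT
    exact ⟨Y, t ≫ s, S.comp_mem _ _ ht hs, hR⟩
  rw [isSheaf_iff_isSheaf_of_type]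
  constructor
  · intro hF X Y s hs
    have := hmono s hs
    have hsh := hF _ ((hJ Y (Sieve.generate (Presieve.singleton s))).2
      ⟨X, s, hs, Sieve.le_generate _ _ _ (Presieve.singleton.mk)⟩)
    rw [← Presieve.isSheafFor_iff_generate, Presieve.isSheafFor_singleton] at hsh
    rw [isIso_iff_bijective, Function.bijective_iff_existsUnique]
    exact fun x => hsh x (fun p₁ p₂ h => by rw [(cancel_mono s).1 h])
  · intro h X T hT
    obtain ⟨X', s, hs, hTs⟩ := (hJ X T).1 hT
    intro x hx
    have hb := (isIso_iff_bijective _).1 (h s hs)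
    obtain ⟨a, ha⟩ := hb.2 (x s hTs)
    refine ⟨a, fun Y f hf => ?_, fun b hbx => hb.1 ((hbx s hTs).trans ha.symm)⟩
    obtain ⟨ψ, hψ⟩ := (MorphismProperty.LeftFraction.mk f s hs).exists_rightFraction
    refine ((isIso_iff_bijective _).1 (h ψ.s ψ.hs)).1 ?_
    calc F.map ψ.s.op (F.map f.op a) = F.map ψ.f.op (F.map s.op a) := by
            simp only [← Functor.map_comp_apply, ← op_comp]
            exact congrArg (fun m => F.map (Quiver.Hom.op m) a) hψ
      _ = F.map ψ.f.op (x s hTs) := by rw [ha]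
      _ = F.map ψ.s.op (x f hf) := (hx ψ.s ψ.f hf hTs hψ).symm

end Groth.Agent.S19338
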