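import Groth.Statements.S19340

set_option autoImplicit false
universe v v' u u'
open CategoryTheory
open ModPair

namespace Groth.Agent.S19340

/-- Let C be a category, S a class of morphisms of C containing the identities, closed under composition
and admitting a right calculus of fractions, and L : C ⥤ D a localization functor for S. Then for
every object X of C the comma category of L under X, whose objects are pairs (Y, L(X) ⟶ L(Y)) and
whose morphisms are morphisms Y ⟶ Y' of C compatible with the structure maps, is cofiltered. The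
published statement calls this category filtered; its proof verifies, and this row states,
cofilteredness. -/
theorem result {C : Type u}
    [Category.{v} C] {D : Type u'} [Category.{v'} D] (S : MorphismProperty C)
    [S.HasRightCalculusOfFractions] (L : C ⥤ D) [L.IsLocalization S] (X : C) :
    IsCofiltered (StructuredArrow (L.obj X) L) := by
  have key : ∀ {Y : C} (φ : L.obj X ⟶ L.obj Y),
      ∃ (X' : C) (s : X' ⟶ X) (_ : S s) (a : X' ⟶ Y), L.map s ≫ φ = L.map a := by
    intro Y φ
    obtain ⟨ψ, rfl⟩ := Localization.exists_rightFraction L S φ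
    exact ⟨_, ψ.s, ψ.hs, ψ.f, ψ.map_s_comp_map L (Localization.inverts L S)⟩
  have : Nonempty (StructuredArrow (L.obj X) L) := ⟨StructuredArrow.mk (Y := X) (𝟙 _)⟩
  refine @IsCofiltered.mk _ _ ⟨fun A B => ?_, fun A B u v => ?_⟩ this
  · obtain ⟨X₁, s₁, hs₁, a, ha⟩ := key A.hom
    have := Localization.inverts L S s₁ hs₁
    obtain ⟨X₂, s₂, hs₂, b', hb'⟩ := key B.hom
    obtain ⟨ψ, hψ⟩ := (MorphismProperty.LeftFraction.mk s₁ s₂ hs₂).exists_rightFraction
    have hW : S (ψ.s ≫ s₁) := S.comp_mem _ _ ψ.hs hs₁
    have := Localization.inverts L S _ hW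
    refine ⟨StructuredArrow.mk (Y := ψ.X') (inv (L.map (ψ.s ≫ s₁))),
      StructuredArrow.homMk (ψ.s ≫ a) ?_, StructuredArrow.homMk (ψ.f ≫ b') ?_, trivial⟩
    · change inv (L.map (ψ.s ≫ s₁)) ≫ L.map (ψ.s ≫ a) = A.hom
      rw [IsIso.inv_comp_eq, L.map_comp, L.map_comp, Category.assoc, ha]
    · change inv (L.map (ψ.s ≫ s₁)) ≫ L.map (ψ.f ≫ b') = B.hom
      rw [IsIso.inv_comp_eq, L.map_comp _ b', ← hb', ← L.map_comp_assoc]
      exact congrArg (fun m => L.map m ≫ B.hom) hψ.symm
  · obtain ⟨X₁, s₁, hs₁, a, ha⟩ := key A.hom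
    have heq : L.map (a ≫ u.right) = L.map (a ≫ v.right) := by
      rw [L.map_comp, L.map_comp, ← ha, Category.assoc, Category.assoc, StructuredArrow.w u,
        StructuredArrow.w v]
    obtain ⟨X₂, t, ht, e⟩ := (MorphismProperty.map_eq_iff_precomp L S _ _).1 heq
    have hW : S (t ≫ s₁) := S.comp_mem _ _ ht hs₁
    have := Localization.inverts L S _ hW
    refine ⟨StructuredArrow.mk (Y := X₂) (inv (L.map (t ≫ s₁))),
      StructuredArrow.homMk (t ≫ a) ?_, ?_⟩
    · change inv (L.map (t ≫ s₁)) ≫ L.map (t ≫ a) = A.hom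
      rw [IsIso.inv_comp_eq, L.map_comp, L.map_comp, Category.assoc, ha]
    · apply StructuredArrow.hom_ext
      simpa using e

end Groth.Agent.S19340
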