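import Groth.Statements.S19344
import Groth.Agent.H69.ValPushout.Fppf
-- import your own Groth.Agent.* helpers here

set_option autoImplicit false
universe u
open CategoryTheory CategoryTheory.Limits AlgebraicGeometry TopologicalSpace
open ModPair

namespace Groth.Agent.S19344
set_option backward.isDefEq.respectTransparency false

/-- Let P be a modulus pair (a scheme P̄ with the quasi-coherent ideal sheaf of an effective Cartier
divisor) whose total space P̄ is quasi-compact and quasi-separated. Call a scheme T fppf-local when
for every scheme X, every jointly surjective family of morphisms to X that are flat and of finite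
presentation (locally of finite presentation, quasi-compact, quasi-separated) and every T ⟶ X, the
latter factors through a member of the family. Then P is local both for fppf coverings of modulus
pairs (families of minimal morphisms U_i ⟶ X whose underlying morphisms form such a family, with the
same factorisation property for morphisms of pairs P ⟶ X) and for abstract admissible blow-ups
(every P ⟶ X lifts along every abstract admissible blow-up Q ⟶ X) if and only if (1) P̄ is
fppf-local, (2) the interior P° is fppf-local, (3) P° is affine with local ring of global sections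
and, writing p for its closed point and 𝔮 ⊂ A = Γ(P̄) for the prime ideal of p, the ring A/𝔮 is a
valuation ring with algebraically closed fraction field, and (4) the localisation map sends 𝔮
bijectively onto the maximal ideal of A_𝔮, i.e. A = A/𝔮 ×_{k(𝔮)} A_𝔮 and P̄ is the gluing of the
closure of p to P° along p. (The affine-local clause in (3) is a consequence of (2) and only serves
to name p.) The published statement allows any modulus pair P; this row assumes the total space P̄
quasi-compact and quasi-separated. -/
theorem result (P : ModPair.Pair.{u})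
    [CompactSpace P.total] [QuasiSeparatedSpace P.total] :
    ((∀ (X : ModPair.Pair.{u}) (ι : Type u) (U : ι → ModPair.Pair.{u}) (v : ∀ i, U i ⟶ X),
        (∀ i, ModPair.IsMinimal (U i).mod X.mod (v i).hom ∧ Flat (v i).hom ∧
          LocallyOfFinitePresentation (v i).hom ∧ QuasiCompact (v i).hom ∧
          QuasiSeparated (v i).hom) →
        (∀ x : X.total, ∃ (i : ι) (y : (U i).total), (v i).hom.base y = x) →
        ∀ g : P ⟶ X, ∃ (i : ι) (h : P ⟶ U i), h ≫ v i = g) ∧
      (∀ (Q X : ModPair.Pair.{u}) (q : Q ⟶ X), ModPair.Pair.admBlowup q →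
        ∀ g : P ⟶ X, ∃ h : P ⟶ Q, h ≫ q = g)) ↔
    ((∀ (X : Scheme.{u}) (R : Presieve X), R ∈ Scheme.precoverage (@Flat ⊓ @LocallyOfFinitePresentation ⊓ @QuasiCompact ⊓ @QuasiSeparated) X →
        ∀ g : P.total ⟶ X, ∃ (Y : Scheme.{u}) (w : Y ⟶ X) (h : P.total ⟶ Y), R w ∧ h ≫ w = g) ∧
      (∀ (X : Scheme.{u}) (R : Presieve X), R ∈ Scheme.precoverage (@Flat ⊓ @LocallyOfFinitePresentation ⊓ @QuasiCompact ⊓ @QuasiSeparated) X →
        ∀ g : (ModPair.interior P.mod : Scheme.{u}) ⟶ X, ∃ (Y : Scheme.{u}) (w : Y ⟶ X) (h : (ModPair.interior P.mod : Scheme.{u}) ⟶ Y), R w ∧ h ≫ w = g) ∧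
      IsAffine (ModPair.interior P.mod : Scheme.{u}) ∧
      IsLocalRing Γ((ModPair.interior P.mod : Scheme.{u}), ⊤) ∧
      ∀ p : (ModPair.interior P.mod : Scheme.{u}),
        IsClosed ({p} : Set (ModPair.interior P.mod : Scheme.{u})) →
          ValuationRing (Γ(P.total, ⊤) ⧸ (P.total.toSpecΓ.base ((ModPair.interior P.mod).ι.base p)).asIdeal) ∧
          IsAlgClosed (FractionRing (Γ(P.total, ⊤) ⧸ (P.total.toSpecΓ.base ((ModPair.interior P.mod).ι.base p)).asIdeal)) ∧
          Set.BijOn (algebraMap Γ(P.total, ⊤) (Localization.AtPrime (P.total.toSpecΓ.base ((ModPair.interior P.mod).ι.base p)).asIdeal))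
            ((P.total.toSpecΓ.base ((ModPair.interior P.mod).ι.base p)).asIdeal : Set Γ(P.total, ⊤))
            (IsLocalRing.maximalIdeal (Localization.AtPrime (P.total.toSpecΓ.base ((ModPair.interior P.mod).ι.base p)).asIdeal) :
              Set (Localization.AtPrime (P.total.toSpecΓ.base ((ModPair.interior P.mod).ι.base p)).asIdeal))) := by
  open Groth.Agent.H69.ValPushout in
  constructor
  · rintro ⟨hf, hb⟩
    have he : EtLocal P := FppfLocal.etLocal hf
    have hc : Core P := core_of_local (EtLocal.zarLocal he) hb
    have := hc.affine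
    have := hc.isLocal
    obtain ⟨hh, -⟩ := EtLocal.isStrictlyHenselian he
    obtain ⟨h1, -, h3, h4, h5⟩ := (core_iff P).mp hc
    obtain ⟨t, ht, hg⟩ := exists_gen P
    have hloc := isLocalization_ι_appTop (ModPair.interior P.mod) t (interior_eq_basicOpen hg)
    algebraize [(ModPair.interior P.mod).ι.appTop.hom]
    have hRh := henselian_away ht (hc.dich t ht hg) Γ((ModPair.interior P.mod : Scheme.{u}), ⊤)
    have hA : FreePts Γ(P.total, ⊤) := freePts_of_fppfLocal hf
    have haicR := exists_root_away (t := t) Γ((ModPair.interior P.mod : Scheme.{u}), ⊤)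
      (isAIC_of_freePts hA)
    have : IsAlgClosed (IsLocalRing.ResidueField Γ((ModPair.interior P.mod : Scheme.{u}), ⊤)) :=
      isAlgClosed_of_surjective haicR _ IsLocalRing.residue_surjective
    refine ⟨schFppfLocal_total hf, schFppfLocal_of_freePts
      (freePts_away (t := t) _ ht hA), h3, h4, fun p hp => ?_⟩
    obtain ⟨ρ, hρ⟩ := exists_surjective_to_fractionRing (t := t)
      Γ((ModPair.interior P.mod : Scheme.{u}), ⊤)
      (P.total.toSpecΓ.base ((ModPair.interior P.mod).ι.base p)).asIdeal
      (asIdeal_closedPoint (ModPair.interior P.mod) p hp)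
    exact ⟨(h5 p hp).1, isAlgClosed_of_surjective haicR ρ hρ, (h5 p hp).2⟩
  · rintro ⟨hT, -, h3, h4, h5⟩
    have hf : FppfLocal P := fppfLocal_of_schFppfLocal hT
    obtain ⟨h1, h2⟩ := isAffine_and_isLocalRing (EtLocal.zarLocal (FppfLocal.etLocal hf))
    have hc : Core P := (core_iff P).mpr
      ⟨h1, h2, h3, h4, fun p hp => ⟨(h5 p hp).1, (h5 p hp).2.2⟩⟩
    exact ⟨hf, hc.blowLocal⟩


end Groth.Agent.S19344
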