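import Groth.Statements.S19345
import Mathlib.AlgebraicGeometry.Sites.MorphismProperty
import Mathlib.RingTheory.AdjoinRoot
import Mathlib.AlgebraicGeometry.Morphisms.Finite
-- import your own Groth.Agent.* helpers here

set_option autoImplicit false
universe u
open CategoryTheory CategoryTheory.Limits AlgebraicGeometry TopologicalSpace
open ModPair

namespace Groth.Agent.S19345
set_option backward.isDefEq.respectTransparency false

/-- Let P be a quasi-separated scheme. Then P is local for Zariski coverings (for every scheme X, every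
jointly surjective family of quasi-compact open immersions into X and every morphism P ⟶ X, the
morphism factors through a member) and for finite coverings (the same for jointly surjective
families of finite morphisms) — which together is locality for the rqfh coverings, the finite
composites of coverings of these two kinds — if and only if P is affine and Γ(P) is a local integral
domain in which every monic polynomial of positive degree has a root, i.e. the spectrum of an
absolutely integrally closed local domain. The published statement allows any scheme P; this row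
assumes P quasi-separated. -/
theorem result (P : Scheme.{u}) [QuasiSeparatedSpace P] :
    ((∀ (X : Scheme.{u}) (R : Presieve X), R ∈ Scheme.precoverage (@IsOpenImmersion ⊓ @QuasiCompact) X →
        ∀ g : P ⟶ X, ∃ (Y : Scheme.{u}) (w : Y ⟶ X) (h : P ⟶ Y), R w ∧ h ≫ w = g) ∧
      (∀ (X : Scheme.{u}) (R : Presieve X), R ∈ Scheme.precoverage @IsFinite X →
        ∀ g : P ⟶ X, ∃ (Y : Scheme.{u}) (w : Y ⟶ X) (h : P ⟶ Y), R w ∧ h ≫ w = g)) ↔
    (IsAffine P ∧ IsLocalRing Γ(P, ⊤) ∧ IsDomain Γ(P, ⊤) ∧ Curves.IsAIC Γ(P, ⊤)) := by
  constructor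
  · rintro ⟨hzar, hfin⟩
    have hne : Nonempty P := by
      by_contra hne
      rw [not_nonempty_iff] at hne
      obtain ⟨Y, w, h, hR, -⟩ := hzar P (Presieve.ofArrows (fun i : PEmpty.{u + 1} => P)
        (fun i => i.elim)) ((Scheme.ofArrows_mem_precoverage_iff _).mpr
          ⟨fun x => (hne.false x).elim, fun i => i.elim⟩) (𝟙 P)
      cases hR with
      | mk i => exact i.elim
    have key : ∀ {ι : Type u} (U : ι → P.Opens), iSup U = ⊤ →
        (∀ i, QuasiCompact (U i).ι) → ∃ i, U i = ⊤ := by
      intro ι U hU hq
      obtain ⟨Y, w, h, hR, hw⟩ := hzar P (Presieve.ofArrows _ fun i => (U i).ι)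
        ((Scheme.ofArrows_mem_precoverage_iff _).mpr ⟨fun x => by
          obtain ⟨i, hi⟩ := Opens.mem_iSup.mp (hU.ge (Set.mem_univ x))
          exact ⟨i, by rw [Scheme.Opens.range_ι]; exact hi⟩, fun i => ⟨inferInstance, hq i⟩⟩) (𝟙 P)
      cases hR with
      | mk i =>
        refine ⟨i, top_le_iff.mp fun x _ => ?_⟩
        rw [← show (h ≫ (U i).ι) x = x by rw [hw]; rfl]
        exact (h x).2
    have hqcι : ∀ U : P.Opens, IsAffineOpen U → QuasiCompact U.ι := fun U hU => by
      refine ⟨fun V hVo hV => ?_⟩
      have hc := QuasiSeparatedSpace.inter_isCompact V (U : Set P) hVo hV U.2 hU.isCompact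
      rw [U.ι.isEmbedding.isInducing.isCompact_iff, Set.image_preimage_eq_inter_range,
        Scheme.Opens.range_ι]
      exact hc
    obtain ⟨U₀, hU₀⟩ := key (fun U : P.affineOpens => U.1) (iSup_affineOpens_eq_top P)
      fun U => hqcι U.1 U.2
    have : IsAffine P := by
      have h := U₀.2
      rw [hU₀] at h
      exact IsAffine.of_isIso P.topIso.inv (h := h)
    have : Nontrivial Γ(P, ⊤) := by
      have : Nonempty (⊤ : P.Opens) := ⟨⟨hne.some, trivial⟩⟩
      infer_instance
    refine ⟨‹_›, IsLocalRing.of_isUnit_or_isUnit_one_sub_self fun f => ?_, ?_, fun f hf hdeg => ?_⟩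
    · have hcov : iSup (fun b : ULift.{u} Bool =>
          if b.down then P.basicOpen f else P.basicOpen (1 - f)) = ⊤ := by
        refine top_le_iff.mp fun x _ => Opens.mem_iSup.mpr ?_
        by_cases hx : x ∈ P.basicOpen f
        · exact ⟨⟨true⟩, by simpa using hx⟩
        · refine ⟨⟨false⟩, ?_⟩
          simp only [Bool.false_eq_true, if_false]
          rw [Scheme.mem_basicOpen P _ x (show x ∈ (⊤ : P.Opens) from trivial)] at hx ⊢
          rw [map_sub, map_one]
          exact (IsLocalRing.isUnit_or_isUnit_one_sub_self _).resolve_left hx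
      obtain ⟨i, hi⟩ := key (ι := ULift Bool)
        (fun b => if b.down then P.basicOpen f else P.basicOpen (1 - f)) hcov (fun b => by
          apply hqcι
          split_ifs with h
          · exact (isAffineOpen_top P).basicOpen f
          · exact (isAffineOpen_top P).basicOpen (1 - f))
      have hu : ∀ g : Γ(P, ⊤), P.basicOpen g = ⊤ → IsUnit g := fun g hg =>
        P.toRingedSpace.isUnit_of_isUnit_germ ⊤ g fun x hx =>
          (Scheme.mem_basicOpen P g x hx).mp (hg.ge hx)
      by_cases hb : i.down
      · exact Or.inl (hu _ (by simpa [hb] using hi))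
      · exact Or.inr (hu _ (by simpa [hb] using hi))
    · have : IsLocalRing Γ(P, ⊤) → True := fun _ => trivial
      refine @NoZeroDivisors.to_isDomain _ _ ‹_› ⟨fun {a b} hab => ?_⟩
      let J : Bool → CommRingCat.{u} := fun i =>
        CommRingCat.of (Γ(P, ⊤) ⧸ Ideal.span {if i then a else b})
      let w : ∀ i : ULift.{u} Bool, Spec (J i.down) ⟶ P := fun i =>
        Spec.map (CommRingCat.ofHom (Ideal.Quotient.mk _)) ≫ P.isoSpec.inv
      have hmem : Presieve.ofArrows _ w ∈ Scheme.precoverage @IsFinite P := by
        refine (Scheme.ofArrows_mem_precoverage_iff _).mpr ⟨fun x => ?_, fun i => ?_⟩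
        · let p := P.isoSpec.hom x
          have hp : a * b ∈ p.asIdeal := by rw [hab]; exact zero_mem _
          obtain ⟨i, hi⟩ : ∃ i : ULift.{u} Bool, (if i.down then a else b) ∈ p.asIdeal := by
            rcases p.2.mem_or_mem hp with hh | hh
            · exact ⟨⟨true⟩, hh⟩
            · exact ⟨⟨false⟩, hh⟩
          refine ⟨i, ?_⟩
          have hp' : p ∈ Set.range (PrimeSpectrum.comap
              (Ideal.Quotient.mk (Ideal.span {if i.down then a else b}))) := by
            rw [range_comap_of_surjective _ _ Ideal.Quotient.mk_surjective, Ideal.mk_ker,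
              PrimeSpectrum.mem_zeroLocus, SetLike.coe_subset_coe,
              Ideal.span_singleton_le_iff_mem]
            exact hi
          obtain ⟨q, hq⟩ := hp'
          refine ⟨q, ?_⟩
          show P.isoSpec.inv (PrimeSpectrum.comap (Ideal.Quotient.mk _) q) = x
          rw [hq, ← Scheme.Hom.comp_apply, Iso.hom_inv_id]
          rfl
        · have : IsFinite (Spec.map (CommRingCat.ofHom
              (Ideal.Quotient.mk (Ideal.span {if i.down then a else b})))) := inferInstance
          infer_instance
      obtain ⟨Y, v, h, hR, hv⟩ := hfin P (Presieve.ofArrows _ w) hmem (𝟙 P)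
      cases hR with
        | mk i =>
          have h1 : Spec.map (CommRingCat.ofHom (Ideal.Quotient.mk
              (Ideal.span {if i.down then a else b}))) ≫ P.isoSpec.inv = w i := rfl
          have h2 : (P.isoSpec.inv ≫ h) ≫
              Spec.map (CommRingCat.ofHom (Ideal.Quotient.mk _)) = 𝟙 _ := by
            rw [← cancel_mono P.isoSpec.inv, Category.assoc, h1, Category.assoc, hv,
              Category.comp_id, Category.id_comp]
          obtain ⟨ψ, hψ⟩ := Spec.map_surjective (P.isoSpec.inv ≫ h)
          rw [← hψ, ← Spec.map_comp, ← Spec.map_id] at h2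
          have h3 := ConcreteCategory.congr_hom (Spec.map_injective h2) (if i.down then a else b)
          have h4 : (if i.down then a else b) = 0 := by
            refine h3.symm.trans ?_
            show ψ (Ideal.Quotient.mk _ _) = 0
            rw [Ideal.Quotient.eq_zero_iff_mem.mpr (Ideal.mem_span_singleton_self _), map_zero]
          by_cases hi : i.down
          · exact Or.inl (by simpa [hi] using h4)
          · exact Or.inr (by simpa [hi] using h4)
    · let B := CommRingCat.of (AdjoinRoot f)
      let φ : Γ(P, ⊤) ⟶ B := CommRingCat.ofHom (AdjoinRoot.of f)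
      have hfinite : φ.hom.Finite :=
        RingHom.finite_algebraMap.mpr hf.finite_adjoinRoot
      have hinj : Function.Injective φ.hom := by
        rw [injective_iff_map_eq_zero]
        intro r hr
        obtain ⟨g, hg⟩ := AdjoinRoot.mk_eq_zero.mp (show AdjoinRoot.mk f (Polynomial.C r) = 0 from hr)
        by_contra hr0
        have hg0 : g ≠ 0 := by
          rintro rfl
          exact hr0 (by simpa using hg)
        have := congrArg Polynomial.natDegree hg
        rw [Polynomial.natDegree_C, hf.natDegree_mul' hg0] at this
        omega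
      have : IsFinite (Spec.map φ) := by rwa [IsFinite.SpecMap_iff]
      have hmem : Presieve.ofArrows (fun _ : PUnit.{u + 1} => Spec B)
          (fun _ => Spec.map φ ≫ P.isoSpec.inv) ∈ Scheme.precoverage @IsFinite P := by
        refine (Scheme.ofArrows_mem_precoverage_iff _).mpr
          ⟨fun x => ?_, fun _ => inferInstanceAs (IsFinite (Spec.map φ ≫ P.isoSpec.inv))⟩
        · obtain ⟨q, hq⟩ := RingHom.IsIntegral.comap_surjective hfinite.to_isIntegral hinj
            (P.isoSpec.hom x)
          refine ⟨PUnit.unit, q, ?_⟩
          show P.isoSpec.inv (PrimeSpectrum.comap φ.hom q) = x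
          rw [hq, ← Scheme.Hom.comp_apply, Iso.hom_inv_id]
          rfl
      obtain ⟨Y, v, h, hR, hv⟩ := hfin P _ hmem (𝟙 P)
      cases hR with
        | mk i =>
          have h2 : (P.isoSpec.inv ≫ h) ≫ Spec.map φ = 𝟙 _ := by
            rw [← cancel_mono P.isoSpec.inv, Category.assoc, Category.assoc, hv,
              Category.comp_id, Category.id_comp]
          obtain ⟨ψ, hψ⟩ := Spec.map_surjective (P.isoSpec.inv ≫ h)
          rw [← hψ, ← Spec.map_comp, ← Spec.map_id] at h2
          have h3 := Spec.map_injective h2
          refine ⟨ψ (AdjoinRoot.root f), ?_⟩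
          have h4 := congrArg ψ.hom (AdjoinRoot.eval₂_root f)
          rw [Polynomial.hom_eval₂, map_zero] at h4
          have h5 : ψ.hom.comp (AdjoinRoot.of f) = RingHom.id Γ(P, ⊤) :=
            congrArg CommRingCat.Hom.hom h3
          rw [h5] at h4
          exact h4
  · rintro ⟨_, hloc, hdom, haic⟩
    refine ⟨fun X R hR g => ?_, fun X R hR g => ?_⟩
    · let p₀ : P := P.isoSpec.inv (IsLocalRing.closedPoint Γ(P, ⊤))
      obtain ⟨Y, w, hw, hp⟩ := Scheme.JointlySurjective.exists_eq R hR (g p₀)
      have : IsOpenImmersion w := (hR.2 hw).1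
      refine ⟨Y, w, IsOpenImmersion.lift w g ?_, hw, IsOpenImmersion.lift_fac _ _ _⟩
      rintro _ ⟨x, rfl⟩
      have hx : x ⤳ p₀ := by
        have h1 := (IsLocalRing.specializes_closedPoint (P.isoSpec.hom x)).map
          P.isoSpec.inv.continuous
        rwa [← Scheme.Hom.comp_apply, Iso.hom_inv_id] at h1
      exact (hx.map g.continuous).mem_open w.isOpenEmbedding.isOpen_range hp
    · let η : P := P.isoSpec.inv (⟨⊥, Ideal.isPrime_bot⟩ : PrimeSpectrum Γ(P, ⊤))
      obtain ⟨Y, w, hw, y, hy⟩ := Scheme.JointlySurjective.exists_eq R hR (g η)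
      have : IsFinite w := hR.2 hw
      let T := pullback g w
      have : IsFinite (pullback.fst g w) := MorphismProperty.pullback_fst _ _ ‹IsFinite w›
      have : IsAffine T := isAffine_of_isAffineHom (pullback.fst g w)
      let v : T ⟶ P := pullback.fst g w
      let φ : Γ(P, ⊤) ⟶ Γ(T, ⊤) := v.appTop
      have hfinite : φ.hom.Finite := IsFinite.finite_app (f := v) ⊤ (isAffineOpen_top P)
      obtain ⟨z, hz, -⟩ := Scheme.Pullback.exists_preimage_pullback (f := g) (g := w) η y hy.symm
      let q : PrimeSpectrum Γ(T, ⊤) := T.isoSpec.hom z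
      let ψ : Γ(P, ⊤) →+* Γ(T, ⊤) ⧸ q.asIdeal := (Ideal.Quotient.mk _).comp φ.hom
      have hψinj : Function.Injective ψ := by
        rw [injective_iff_map_eq_zero]
        intro r hr
        have hr' : r ∈ (PrimeSpectrum.comap φ.hom q).asIdeal := by
          show φ.hom r ∈ q.asIdeal
          exact Ideal.Quotient.eq_zero_iff_mem.mp hr
        have hc : PrimeSpectrum.comap φ.hom q = P.isoSpec.hom (v z) := by
          show (T.isoSpec.hom ≫ Spec.map φ) z = (v ≫ P.isoSpec.hom) z
          rw [Scheme.isoSpec_hom_naturality]
        rw [hc, show v z = η from hz, show P.isoSpec.hom η = (⟨⊥, Ideal.isPrime_bot⟩ :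
          PrimeSpectrum Γ(P, ⊤)) by
            rw [← Scheme.Hom.comp_apply, Iso.inv_hom_id]; rfl] at hr'
        exact (Submodule.mem_bot _).mp hr'
      have hψint : ψ.IsIntegral := (hfinite.to_isIntegral).trans _ _
        (RingHom.isIntegral_of_surjective _ Ideal.Quotient.mk_surjective)
      have key : ∀ (n : ℕ) (f : Polynomial Γ(P, ⊤)), f.Monic → f.natDegree = n →
          ∀ c, f.eval₂ ψ c = 0 → c ∈ Set.range ψ := by
        intro n
        induction n with
        | zero =>
          intro f hf hd c hc
          rw [hf.natDegree_eq_zero.mp hd, Polynomial.eval₂_one] at hc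
          exact absurd hc one_ne_zero
        | succ n ih =>
          intro f hf hd c hc
          obtain ⟨r, hr⟩ := haic f hf (by omega)
          obtain ⟨f', rfl⟩ := Polynomial.dvd_iff_isRoot.mpr (show f.IsRoot r from hr)
          have hf' : f'.Monic := (Polynomial.monic_X_sub_C r).of_mul_monic_left hf
          rw [(Polynomial.monic_X_sub_C r).natDegree_mul hf', Polynomial.natDegree_X_sub_C] at hd
          rw [Polynomial.eval₂_mul, mul_eq_zero] at hc
          rcases hc with hc | hc
          · rw [Polynomial.eval₂_sub, Polynomial.eval₂_X, Polynomial.eval₂_C, sub_eq_zero] at hc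
            exact ⟨r, hc.symm⟩
          · exact ih f' hf' (by omega) c hc
      have hψsurj : Function.Surjective ψ := fun c => by
        obtain ⟨f, hf, hc⟩ := hψint c
        exact key _ f hf rfl c hc
      let e := RingEquiv.ofBijective ψ ⟨hψinj, hψsurj⟩
      let σ : Γ(T, ⊤) ⟶ Γ(P, ⊤) :=
        CommRingCat.ofHom (e.symm.toRingHom.comp (Ideal.Quotient.mk _))
      have hσ : φ ≫ σ = 𝟙 _ := by
        ext r
        exact e.symm_apply_apply r
      let l : P ⟶ T := P.isoSpec.hom ≫ Spec.map σ ≫ T.isoSpec.inv
      have hl : l ≫ v = 𝟙 P := by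
        rw [← cancel_mono P.isoSpec.hom, Category.id_comp]
        simp only [l, Category.assoc, ← Scheme.isoSpec_hom_naturality, Iso.inv_hom_id_assoc]
        rw [← Spec.map_comp, show v.appTop = φ from rfl, hσ, Spec.map_id, Category.comp_id]
      refine ⟨Y, w, l ≫ pullback.snd g w, hw, ?_⟩
      rw [Category.assoc, ← pullback.condition, ← Category.assoc, hl, Category.id_comp]

end Groth.Agent.S19345
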