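import Groth.Statements.S19346
import Groth.Agent.H69.ValPushout.Covers
import Groth.Agent.S19345
import Mathlib.AlgebraicGeometry.Sites.MorphismProperty
import Mathlib.AlgebraicGeometry.Morphisms.Finite
import Mathlib.RingTheory.Localization.Ideal
-- import your own Groth.Agent.* helpers here

set_option autoImplicit false
universe u
open CategoryTheory CategoryTheory.Limits AlgebraicGeometry TopologicalSpace
open ModPair

namespace Groth.Agent.S19346
set_option backward.isDefEq.respectTransparency false

/-- Let P be a modulus pair (a scheme P̄ with the quasi-coherent ideal sheaf of an effective Cartier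
divisor) whose total space P̄ is quasi-compact and quasi-separated. Then P is local for Zariski
coverings of modulus pairs (jointly surjective families of minimal morphisms U_i ⟶ X whose
underlying morphisms are quasi-compact open immersions: every morphism of pairs P ⟶ X factors
through some U_i), for finite coverings of modulus pairs (the same with finite underlying morphisms)
— locality for both kinds being locality for the rqfh coverings, their finite composites — and for
abstract admissible blow-ups (every P ⟶ X lifts along every abstract admissible blow-up Q ⟶ X) if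
and only if (1) P̄ is affine and A = Γ(P̄) is a local integral domain in which every monic
polynomial of positive degree has a root, (2) the interior P° is affine and Γ(P°) is likewise a
local integral domain in which every monic polynomial of positive degree has a root, and, writing p
for the closed point of P° and 𝔮 ⊂ A for its prime ideal, (3) A/𝔮 is a valuation ring with
algebraically closed fraction field and (4) the localisation map sends 𝔮 bijectively onto the
maximal ideal of A_𝔮, i.e. A = A/𝔮 ×_{k(𝔮)} A_𝔮 and P̄ is the gluing of the closure of p to P° along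
p. The published statement allows any modulus pair P; this row assumes the total space P̄
quasi-compact and quasi-separated. -/
theorem result (P : ModPair.Pair.{u})
    [CompactSpace P.total] [QuasiSeparatedSpace P.total] :
    ((∀ (X : ModPair.Pair.{u}) (ι : Type u) (U : ι → ModPair.Pair.{u}) (v : ∀ i, U i ⟶ X),
        (∀ i, ModPair.IsMinimal (U i).mod X.mod (v i).hom ∧ IsOpenImmersion (v i).hom ∧ QuasiCompact (v i).hom) →
        (∀ x : X.total, ∃ (i : ι) (y : (U i).total), (v i).hom.base y = x) →
        ∀ g : P ⟶ X, ∃ (i : ι) (h : P ⟶ U i), h ≫ v i = g) ∧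
      (∀ (X : ModPair.Pair.{u}) (ι : Type u) (U : ι → ModPair.Pair.{u}) (v : ∀ i, U i ⟶ X),
        (∀ i, ModPair.IsMinimal (U i).mod X.mod (v i).hom ∧ IsFinite (v i).hom) →
        (∀ x : X.total, ∃ (i : ι) (y : (U i).total), (v i).hom.base y = x) →
        ∀ g : P ⟶ X, ∃ (i : ι) (h : P ⟶ U i), h ≫ v i = g) ∧
      (∀ (Q : ModPair.Pair.{u}) (X : ModPair.Pair.{u}) (q : Q ⟶ X), ModPair.Pair.admBlowup q →
        ∀ g : P ⟶ X, ∃ h : P ⟶ Q, h ≫ q = g)) ↔
    (IsAffine P.total ∧ IsLocalRing Γ(P.total, ⊤) ∧ IsDomain Γ(P.total, ⊤) ∧
      Curves.IsAIC Γ(P.total, ⊤) ∧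
      IsAffine (ModPair.interior P.mod : Scheme.{u}) ∧
      IsLocalRing Γ((ModPair.interior P.mod : Scheme.{u}), ⊤) ∧
      IsDomain Γ((ModPair.interior P.mod : Scheme.{u}), ⊤) ∧
      Curves.IsAIC Γ((ModPair.interior P.mod : Scheme.{u}), ⊤) ∧
      ∀ p : (ModPair.interior P.mod : Scheme.{u}),
        IsClosed ({p} : Set (ModPair.interior P.mod : Scheme.{u})) →
          ValuationRing (Γ(P.total, ⊤) ⧸ (P.total.toSpecΓ.base ((ModPair.interior P.mod).ι.base p)).asIdeal) ∧
          IsAlgClosed (FractionRing (Γ(P.total, ⊤) ⧸ (P.total.toSpecΓ.base ((ModPair.interior P.mod).ι.base p)).asIdeal)) ∧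
          Set.BijOn (algebraMap Γ(P.total, ⊤) (Localization.AtPrime (P.total.toSpecΓ.base ((ModPair.interior P.mod).ι.base p)).asIdeal))
            ((P.total.toSpecΓ.base ((ModPair.interior P.mod).ι.base p)).asIdeal : Set Γ(P.total, ⊤))
            (IsLocalRing.maximalIdeal (Localization.AtPrime (P.total.toSpecΓ.base ((ModPair.interior P.mod).ι.base p)).asIdeal) :
              Set (Localization.AtPrime (P.total.toSpecΓ.base ((ModPair.interior P.mod).ι.base p)).asIdeal))) := by
  open Groth.Agent.H69.ValPushout Polynomial in
  constructor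
  · rintro ⟨hz, hfin, hb⟩
    have hc : Core P := core_of_local hz hb
    have := hc.affine
    have := hc.isLocal
    obtain ⟨h1, h2, h3, h4, h5⟩ := (core_iff P).mp hc
    obtain ⟨t, ht, hg⟩ := exists_gen P
    have hloc := isLocalization_ι_appTop (ModPair.interior P.mod) t (interior_eq_basicOpen hg)
    algebraize [(ModPair.interior P.mod).ι.appTop.hom]
    have hdom : IsDomain Γ(P.total, ⊤) := by
      refine @NoZeroDivisors.to_isDomain _ _ inferInstance ⟨fun {a b} hab => ?_⟩
      let I : Bool → Ideal Γ(P.total, ⊤) := fun i =>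
        { carrier := {x | ∃ n : ℕ, t ^ n * x ∈ Ideal.span {if i then a else b}}
          zero_mem' := ⟨0, by simp⟩
          add_mem' := by
            rintro x y ⟨n, hn⟩ ⟨m, hm⟩
            refine ⟨n + m, ?_⟩
            rw [mul_add, pow_add]
            refine add_mem ?_ ?_
            · rw [mul_comm (t ^ n), mul_assoc]
              exact Ideal.mul_mem_left _ _ hn
            · rw [mul_assoc]
              exact Ideal.mul_mem_left _ _ hm
          smul_mem' := by
            rintro c x ⟨n, hn⟩
            refine ⟨n, ?_⟩
            rw [smul_eq_mul, mul_left_comm]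
            exact Ideal.mul_mem_left _ _ hn }
      have hreg : ∀ i, Ideal.Quotient.mk (I i) t ∈ nonZeroDivisors (Γ(P.total, ⊤) ⧸ I i) := by
        intro i
        refine mem_nonZeroDivisors_iff_right.mpr fun z hz => ?_
        obtain ⟨x, rfl⟩ := Ideal.Quotient.mk_surjective z
        rw [← map_mul, Ideal.Quotient.eq_zero_iff_mem] at hz
        obtain ⟨n, hn⟩ := hz
        refine Ideal.Quotient.eq_zero_iff_mem.mpr ⟨n + 1, ?_⟩
        rw [pow_succ, mul_assoc, mul_comm t]
        exact hn
      let φ : ∀ i : ULift.{u} Bool, Γ(P.total, ⊤) ⟶ CommRingCat.of (Γ(P.total, ⊤) ⧸ I i.down) :=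
        fun i => CommRingCat.ofHom (Ideal.Quotient.mk (I i.down))
      obtain ⟨i, h, hh⟩ := hfin P (ULift.{u} Bool) (fun i => algPair hg (φ i) (hreg i.down))
        (fun i => algPairHom hg (φ i) (hreg i.down)) (fun i => ⟨rfl, by
          show IsFinite (Spec.map (φ i) ≫ P.total.isoSpec.inv)
          infer_instance⟩)
        (fun x => by
          let p := P.total.isoSpec.hom x
          obtain ⟨i, hi⟩ : ∃ i : ULift.{u} Bool, I i.down ≤ p.asIdeal := by
            by_contra hcon
            push Not at hcon
            obtain ⟨x, hx, hxp⟩ := Set.not_subset.mp (hcon ⟨true⟩)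
            obtain ⟨y, hy, hyp⟩ := Set.not_subset.mp (hcon ⟨false⟩)
            obtain ⟨n, hn⟩ := hx
            obtain ⟨m, hm⟩ := hy
            obtain ⟨c, hc⟩ := Ideal.mem_span_singleton'.mp hn
            obtain ⟨d, hd⟩ := Ideal.mem_span_singleton'.mp hm
            have h0 : t ^ (n + m) * (x * y) = 0 := by
              simp only [if_true, Bool.false_eq_true, if_false] at hc hd
              rw [pow_add, mul_mul_mul_comm, ← hc, ← hd, mul_mul_mul_comm, hab, mul_zero]
            have h1 : x * y ∈ p.asIdeal := by
              rw [((pow_mem ht (n + m))).1 _ h0]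
              exact zero_mem _
            exact (p.2.mem_or_mem h1).elim hxp hyp
          refine ⟨i, range_algHom (φ i) x ?_⟩
          show _ ∈ Set.range (PrimeSpectrum.comap (Ideal.Quotient.mk (I i.down)))
          rw [range_comap_of_surjective _ _ Ideal.Quotient.mk_surjective, Ideal.mk_ker,
            PrimeSpectrum.mem_zeroLocus, SetLike.coe_subset_coe]
          exact hi)
        (𝟙 P)
      obtain ⟨ψ, hψ⟩ := exists_retraction_of_section h hh
      have h0 : (if i.down then a else b) = 0 := by
        rw [← hψ (if i.down then a else b)]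
        show ψ (Ideal.Quotient.mk (I i.down) _) = 0
        have hm : (if i.down then a else b) ∈ I i.down :=
          ⟨0, by rw [pow_zero, one_mul]; exact Ideal.mem_span_singleton_self _⟩
        rw [Ideal.Quotient.eq_zero_iff_mem.mpr hm, map_zero]
      by_cases hi : i.down
      · exact Or.inl (by simpa [hi] using h0)
      · exact Or.inr (by simpa [hi] using h0)
    have haic : Curves.IsAIC Γ(P.total, ⊤) := by
      intro f hf hdeg
      let φ : Γ(P.total, ⊤) ⟶ CommRingCat.of (AdjoinRoot f) := CommRingCat.ofHom (AdjoinRoot.of f)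
      have hfinite : φ.hom.Finite := RingHom.finite_algebraMap.mpr hf.finite_adjoinRoot
      have : Module.Free Γ(P.total, ⊤) (AdjoinRoot f) := hf.free_adjoinRoot
      have hflat : φ.hom.Flat := RingHom.flat_algebraMap_iff.mpr inferInstance
      have : IsFinite (Spec.map φ) := by rwa [IsFinite.SpecMap_iff]
      have hinj : Function.Injective φ.hom := by
        rw [injective_iff_map_eq_zero]
        intro r hr
        obtain ⟨g, hg⟩ := AdjoinRoot.mk_eq_zero.mp
          (show AdjoinRoot.mk f (Polynomial.C r) = 0 from hr)
        by_contra hr0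
        have hg0 : g ≠ 0 := by
          rintro rfl
          exact hr0 (by simpa using hg)
        have := congrArg Polynomial.natDegree hg
        rw [Polynomial.natDegree_C, hf.natDegree_mul' hg0] at this
        omega
      have hreg := Groth.Agent.Lib.Ideal.EffCartier.mem_nonZeroDivisors_of_flat hflat ht
      obtain ⟨i, h, hh⟩ := hfin P PUnit.{u + 1} (fun _ => algPair hg φ hreg)
        (fun _ => algPairHom hg φ hreg)
        (fun _ => ⟨rfl, inferInstanceAs (IsFinite (Spec.map φ ≫ P.total.isoSpec.inv))⟩)
        (fun x => ⟨PUnit.unit, range_algHom φ x (RingHom.IsIntegral.comap_surjective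
          hfinite.to_isIntegral hinj (P.total.isoSpec.hom x))⟩)
        (𝟙 P)
      obtain ⟨ψ, hψ⟩ := exists_retraction_of_section h hh
      refine ⟨ψ (AdjoinRoot.root f), ?_⟩
      have h4 := congrArg ψ (AdjoinRoot.eval₂_root f)
      rw [Polynomial.hom_eval₂, map_zero] at h4
      rw [show ψ.comp (AdjoinRoot.of f) = RingHom.id _ from RingHom.ext hψ] at h4
      exact h4
    have haicR := exists_root_away (t := t) Γ((ModPair.interior P.mod : Scheme.{u}), ⊤) haic
    refine ⟨h1, h2, hdom, haic, h3, h4,
      IsLocalization.isDomain_of_le_nonZeroDivisors (M := Submonoid.powers t) _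
        (Submonoid.powers_le.mpr ht), haicR, fun p hp => ?_⟩
    obtain ⟨ρ, hρ⟩ := exists_surjective_to_fractionRing (t := t)
      Γ((ModPair.interior P.mod : Scheme.{u}), ⊤)
      (P.total.toSpecΓ.base ((ModPair.interior P.mod).ι.base p)).asIdeal
      (asIdeal_closedPoint (ModPair.interior P.mod) p hp)
    exact ⟨(h5 p hp).1, isAlgClosed_of_surjective haicR ρ hρ, (h5 p hp).2⟩
  · rintro ⟨h1, h2, hdom, haic, h3, h4, -, -, h5⟩
    have hc : Core P := (core_iff P).mpr
      ⟨h1, h2, h3, h4, fun p hp => ⟨(h5 p hp).1, (h5 p hp).2.2⟩⟩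
    refine ⟨hc.zarLocal, fun X ι U v hv hcov g => ?_, hc.blowLocal⟩
    obtain ⟨Y, w, h, hR, hw⟩ :=
      ((Groth.Agent.S19345.result P.total).mpr ⟨h1, h2, hdom, haic⟩).2 X.total
        (Presieve.ofArrows (fun i => (U i).total) fun i => (v i).hom)
        ((Scheme.ofArrows_mem_precoverage_iff _).mpr ⟨hcov, fun i => (hv i).2⟩) g.hom
    cases hR with
    | mk i => exact ⟨i, exists_factor (hv i).1 g h hw⟩


end Groth.Agent.S19346
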