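import Groth.Statements.S19348
import Mathlib.RingTheory.DividedPowers.Basic
import Mathlib.RingTheory.AdicCompletion.Basic
import Mathlib.RingTheory.Nilpotent.Lemmas
import Mathlib.RingTheory.Nilpotent.Basic

set_option autoImplicit false
universe u
open RigCh

namespace Groth.Agent.S19348

/-- Let p be a prime and m a natural number, P a commutative ring complete and separated for the p-adic
topology, and I an ideal of P with a divided power structure of level m, that is a sub-ideal J of I
endowed with divided powers such that x ^ (p ^ m) and p * x lie in J for all x in I. Then an element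
of P whose class in P / I is invertible is invertible in P. (The source states this for a lift of a
unit to the p-adically completed level-m divided power envelope of a closed immersion; the statement
here keeps exactly what its argument uses: completeness for p and the level-m divided powers on the
kernel.) -/
theorem result (p : ℕ) [Fact p.Prime] (m : ℕ)
    (P : Type u) [CommRing P] [IsAdicComplete (Ideal.span {(p : P)}) P]
    (I J : Ideal P) (hJ : DividedPowers J) (hJI : J ≤ I)
    (hpow : ∀ x ∈ I, x ^ (p ^ m) ∈ J) (hmul : ∀ x ∈ I, (p : P) * x ∈ J)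
    (u : P) (hu : IsUnit (Ideal.Quotient.mk I u)) : IsUnit u := by
  have hp : p ≠ 0 := (Fact.out : p.Prime).ne_zero
  obtain ⟨v, hv⟩ := hu.exists_right_inv
  obtain ⟨v, rfl⟩ := Ideal.Quotient.mk_surjective v
  have hx : 1 - u * v ∈ I := by
    rw [← Ideal.Quotient.eq_zero_iff_mem, map_sub, map_one, map_mul, hv, sub_self]
  set x := 1 - u * v with hxdef
  have hy : (x ^ (p ^ m)) ^ p ∈ Ideal.span {(p : P)} := by
    rw [← hJ.factorial_mul_dpow_eq_pow (hpow x hx)]
    exact Ideal.mul_mem_right _ _ (Ideal.mem_span_singleton.2
      (Nat.cast_dvd_cast (Nat.dvd_factorial (Nat.pos_of_ne_zero hp) le_rfl)))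
  have hnil : IsNilpotent (Ideal.Quotient.mk (Ideal.span {(p : P)}) x) := ⟨p ^ m * p, by
    rw [← map_pow, pow_mul, Ideal.Quotient.eq_zero_iff_mem]; exact hy⟩
  have h1 : IsUnit (Ideal.Quotient.mk (Ideal.span {(p : P)}) (u * v)) := by
    have := IsNilpotent.isUnit_one_sub hnil
    rwa [← map_one (Ideal.Quotient.mk (Ideal.span {(p : P)})), ← map_sub, hxdef,
      sub_sub_cancel] at this
  obtain ⟨w, hw⟩ := h1.exists_right_inv
  obtain ⟨w, rfl⟩ := Ideal.Quotient.mk_surjective w
  rw [← map_mul, ← map_one (Ideal.Quotient.mk (Ideal.span {(p : P)})), Ideal.Quotient.eq] at hw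
  exact isUnit_of_mul_isUnit_left (isUnit_of_mul_isUnit_left
    (Ideal.isUnit_of_sub_one_mem_jacobson_bot _ (IsAdicComplete.le_jacobson_bot _ hw)))

end Groth.Agent.S19348
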