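import Groth.Statements.S19350
import Groth.Agent.H22.StrictTransform.Module
import Groth.Agent.S1696
import Groth.Agent.Lib.TensorMod.LocFree
import Groth.Agent.Lib.TensorMod.FPConv

set_option autoImplicit false
universe u
open RigCh

namespace Groth.Agent.S19350

open AlgebraicGeometry CategoryTheory in
/-- Let X be a separated scheme of finite type over a field k, I a quasi-coherent ideal sheaf on X, b :
X' → X a blowing up of X in I and F a finite locally free O_X-module. Then for any strict transform
G of F along b (an epimorphism π from the pullback of F onto G whose kernel consists,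
affine-locally, of the sections annihilated by a power of the exceptional ideal), π is an
isomorphism and G is finite locally free. (The published statement asserts only that the strict
transform is locally free. The source assumes k of positive characteristic, which plays no role
here.) -/
theorem result (k : Type u) [Field k]
    (X : Scheme.{u}) (f : X ⟶ Spec (CommRingCat.of k)) [IsSeparated f] [QuasiCompact f] [LocallyOfFiniteType f]
    (I : X.IdealSheafData) {X' : Scheme.{u}} (b : X' ⟶ X) (hb : BlowUp.IsBlowUp b I)
    (F : X.Modules) (hF : FlatMod.IsFinLocFree F) (G : X'.Modules) (π : (Scheme.Modules.pullback b).obj F ⟶ G)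
    (hG : BlowUp.IsStrictTransform b I F G π) : IsIso π ∧ FlatMod.IsFinLocFree G := by
  haveI := hG.1
  have hfl : ∀ x : X', Module.Flat (X'.presheaf.stalk x)
      (((Scheme.Modules.pullback b).obj F).presheaf.stalk x) := fun x =>
    Groth.Agent.S1696.flat_pullback_stalk b F x
      (Groth.Agent.Lib.TensorMod.FPConv.isFlat_of_isFinLocFree hF _)
  haveI : Mono π := Groth.Agent.H22.StrictTransform.mono_of_torsionFree π
    fun V m hm => Groth.Agent.S1696.killed_eq_zero b I hb.1 _ (fun x _ => hfl x) V m ((hG.2 V m).1 hm)
  haveI : IsIso π := isIso_of_mono_of_epi π
  exact ⟨inferInstance, Groth.Agent.Lib.TensorMod.LocFree.of_iso (asIso π)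
    (Groth.Agent.Lib.TensorMod.LocFree.isFinLocFree_pullback b hF)⟩

end Groth.Agent.S19350
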