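import Groth.Statements.S19351
import Groth.Agent.H22.Nagata.Boundary

set_option autoImplicit false
universe u
open RigCh

namespace Groth.Agent.S19351

open AlgebraicGeometry CategoryTheory in
/-- Let φ : X' → X be a morphism of separated schemes of finite type over a field k. Then there are open
immersions j : X → X̄ and j' : X' → X̄' over k into schemes proper over k, whose complements are
supports of effective Cartier divisors (ideal sheaves locally generated on an affine open by one
nonzerodivisor), together with a proper k-morphism X̄' → X̄ restricting to φ. (Compactifications in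
the source are taken with divisor boundary by a standing convention; the second assertion, about
extending a pseudo-divisor, is not included. The source assumes k of positive characteristic; this
plays no role here.) -/
theorem result (k : Type u) [Field k]
    {X X' : Scheme.{u}} (f : X ⟶ Spec (CommRingCat.of k)) [IsSeparated f] [QuasiCompact f] [LocallyOfFiniteType f]
    (f' : X' ⟶ Spec (CommRingCat.of k)) [IsSeparated f'] [QuasiCompact f'] [LocallyOfFiniteType f']
    (φ : X' ⟶ X) (hφ : φ ≫ f = f') :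
    ∃ (Xb Xb' : Scheme.{u}) (j : X ⟶ Xb) (j' : X' ⟶ Xb') (g : Xb ⟶ Spec (CommRingCat.of k))
      (g' : Xb' ⟶ Spec (CommRingCat.of k)) (ψ : Xb' ⟶ Xb) (E : Xb.IdealSheafData) (E' : Xb'.IdealSheafData),
      IsOpenImmersion j ∧ IsOpenImmersion j' ∧ IsProper g ∧ IsProper g' ∧ j ≫ g = f ∧ j' ≫ g' = f' ∧
      IsProper ψ ∧ ψ ≫ g = g' ∧ j' ≫ ψ = φ ≫ j ∧
      BlowUp.IsEffCartierIdeal E ∧ (E.support : Set Xb) = (Set.range j.base)ᶜ ∧
      BlowUp.IsEffCartierIdeal E' ∧ (E'.support : Set Xb') = (Set.range j'.base)ᶜ := by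
  obtain ⟨Y, j₀, p₀, hj₀, hq₀, hp₀, e₀⟩ := Groth.Agent.S0384.result f
  obtain ⟨Xb, j, c, E, hj, hc, hjc, hE, hEs⟩ :=
    Groth.Agent.H22.Nagata.exists_cartier_boundary j₀ p₀
  obtain ⟨Y', j₁, p₁, hj₁, hq₁, hp₁, e₁⟩ := Groth.Agent.S0384.result f'
  haveI := hj; haveI := hc
  let g : Xb ⟶ Spec (CommRingCat.of k) := c ≫ p₀
  let i : X' ⟶ Limits.pullback p₁ g := Limits.pullback.lift j₁ (φ ≫ j)
    (by simp only [g, Category.assoc, reassoc_of% hjc, e₀, e₁, hφ])
  have hi : i ≫ Limits.pullback.fst p₁ g = j₁ := Limits.pullback.lift_fst _ _ _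
  haveI : IsImmersion (i ≫ Limits.pullback.fst p₁ g) := by rw [hi]; infer_instance
  haveI : IsImmersion i := IsImmersion.of_comp i (Limits.pullback.fst p₁ g)
  haveI : QuasiCompact (i ≫ Limits.pullback.fst p₁ g) := by rw [hi]; infer_instance
  haveI : QuasiCompact i := QuasiCompact.of_comp i (Limits.pullback.fst p₁ g)
  obtain ⟨Xb', j', c', E', hj', hc', hjc', hE', hEs'⟩ :=
    Groth.Agent.H22.Nagata.exists_cartier_boundary i (Limits.pullback.fst p₁ g ≫ p₁)
  haveI := hc'
  refine ⟨Xb, Xb', j, j', g, c' ≫ Limits.pullback.snd p₁ g ≫ g, c' ≫ Limits.pullback.snd p₁ g, E, E', hj, hj',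
    inferInstance, inferInstance, ?_, ?_, inferInstance, by rw [Category.assoc], ?_, hE, hEs, hE',
    hEs'⟩
  · simp only [g, reassoc_of% hjc, e₀]
  · simp only [reassoc_of% hjc', i, Limits.pullback.lift_snd_assoc, g, Category.assoc, reassoc_of% hjc,
      e₀, hφ]
  · simp only [reassoc_of% hjc', i, Limits.pullback.lift_snd]

end Groth.Agent.S19351
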