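import Groth.Statements.S19356
import Groth.Agent.H4.PosInvR
-- import your own Groth.Agent.* helpers here

set_option autoImplicit false
universe u
open AbVar

namespace Groth.Agent.S19356

open scoped IsMulCommutative

/-- Let R be a finite-dimensional ℚ-algebra with a ℚ-linear involution x ↦ x† (an anti-automorphism of
order two) and a ℚ-linear functional σ with σ(x x†) > 0 for every x ≠ 0; this is the positivity of
the involution, σ being the trace of R over ℚ in the case of the endomorphism algebra of an abelian
variety with a Rosati involution, and the trace on a cohomology group in the case of an algebra of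
correspondences with the adjoint for a Weil form. Let α ∈ R with α α† = q for a rational number q.
Then α† lies in the subalgebra ℚ[α], and for every ℚ-algebra homomorphism ρ : ℚ[α] → ℂ one has ρ(α†)
= the complex conjugate of ρ(α) and |ρ(α)|² = q. (The published statement is for the endomorphism
algebra of an abelian variety with a Rosati involution, with σ its trace over ℚ and q an integer;
the form given here, for an arbitrary ℚ-linear functional σ positive on every x x† with x ≠ 0 and
rational q, is what its proof establishes.) -/
theorem result (R : Type u) [Ring R] [Algebra ℚ R]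
    [Module.Finite ℚ R] [StarRing R] [StarModule ℚ R]
    (σ : R →ₗ[ℚ] ℚ) (hpos : ∀ x : R, x ≠ 0 → 0 < σ (x * star x))
    (α : R) (q : ℚ) (hα : α * star α = algebraMap ℚ R q) :
    ∃ hmem : star α ∈ Algebra.adjoin ℚ ({α} : Set R),
      ∀ ρ : Algebra.adjoin ℚ ({α} : Set R) →ₐ[ℚ] ℂ,
        ρ ⟨star α, hmem⟩ = starRingEnd ℂ (ρ ⟨α, Algebra.self_mem_adjoin_singleton ℚ α⟩) ∧
          ‖ρ ⟨α, Algebra.self_mem_adjoin_singleton ℚ α⟩‖ ^ 2 = (q : ℝ) := by
  have hmem : star α ∈ Algebra.adjoin ℚ ({α} : Set R) := by
    rcases eq_or_ne q 0 with hq | hq
    · have : α = 0 := by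
        by_contra h
        have := hpos α h
        rw [hα, hq, map_zero, map_zero] at this
        exact lt_irrefl _ this
      rw [this, star_zero]
      exact Subalgebra.zero_mem _
    · haveI : IsArtinianRing R := IsArtinianRing.of_finite ℚ R
      have h1 : α * (q⁻¹ • star α) = 1 := by
        rw [mul_smul_comm, hα, Algebra.algebraMap_eq_smul_one, smul_smul, inv_mul_cancel₀ hq,
          one_smul]
      have h3 : (q⁻¹ • star α) * α = 1 := mul_eq_one_symm h1
      set A := Algebra.adjoin ℚ ({α} : Set R) with hA
      let f : A →ₗ[ℚ] A := LinearMap.mulLeft ℚ (⟨α, Algebra.self_mem_adjoin_singleton ℚ α⟩ : A)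
      have hf : Function.Injective f := fun a b hab => by
        have h2 : α * (a : R) = α * (b : R) := congrArg Subtype.val hab
        apply Subtype.ext
        have := congrArg (fun r => (q⁻¹ • star α) * r) h2
        simp only [← mul_assoc, h3, one_mul] at this
        exact this
      haveI : Module.Finite ℚ A := Module.Finite.of_injective A.val.toLinearMap Subtype.val_injective
      obtain ⟨y, hy⟩ := (LinearMap.injective_iff_surjective.1 hf) 1
      have hy' : α * (y : R) = 1 := congrArg Subtype.val hy
      have h4 : q⁻¹ • star α = y := by
        calc q⁻¹ • star α = (q⁻¹ • star α) * (α * y) := by rw [hy', mul_one]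
          _ = y := by rw [← mul_assoc, h3, one_mul]
      have h5 : star α = q • (y : R) := by rw [← h4, smul_smul, mul_inv_cancel₀ hq, one_smul]
      rw [h5]
      exact Subalgebra.smul_mem _ y.2 q
  refine ⟨hmem, ?_⟩
  intro ρ
  let A := Algebra.adjoin ℚ ({α} : Set R)
  have hstarmem : ∀ a : A, star (a : R) ∈ A := by
    intro a
    obtain ⟨p, hp⟩ := Groth.Agent.H4.PosInvR.aeval_self_surjective α a
    rw [← hp, Polynomial.aeval_subalgebra_coe]
    show star (Polynomial.aeval α p) ∈ A
    have h6 : ∀ p : Polynomial ℚ, star (Polynomial.aeval α p) = Polynomial.aeval (star α) p := by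
      intro p
      induction p using Polynomial.induction_on' with
      | add u w hu hw => rw [map_add, star_add, hu, hw, map_add]
      | monomial m c =>
        rw [Polynomial.aeval_monomial, Polynomial.aeval_monomial, star_mul, star_pow,
          ← algebraMap_star_comm, star_trivial c, Algebra.commutes]
    rw [h6]
    exact Algebra.adjoin_le (Set.singleton_subset_iff.2 hmem)
      (Polynomial.aeval_mem_adjoin_singleton ℚ _)
  haveI : Module.Finite ℚ A := Module.Finite.of_injective A.val.toLinearMap Subtype.val_injective
  let τ : A →ₐ[ℚ] A :=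
    { toFun := fun a => ⟨star (a : R), hstarmem a⟩
      map_one' := Subtype.ext (star_one R)
      map_mul' := fun a b => by
        have : a * b = b * a := mul_comm a b
        apply Subtype.ext
        show star ((a * b : A) : R) = star (a : R) * star (b : R)
        rw [this]
        exact star_mul _ _
      map_zero' := Subtype.ext (star_zero R)
      map_add' := fun a b => Subtype.ext (star_add _ _)
      commutes' := fun c => Subtype.ext (by
        show star (algebraMap ℚ R c) = _
        rw [← algebraMap_star_comm, star_trivial c]; rfl) }
  have h := Groth.Agent.H4.PosInv.apply_invol_eq_conj τ (fun a => Subtype.ext (star_star _))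
    (σ ∘ₗ A.val.toLinearMap) (fun a ha => hpos a (fun h => ha (Subtype.ext h))) ρ
    ⟨α, Algebra.self_mem_adjoin_singleton ℚ α⟩
  have h' : ρ ⟨star α, hmem⟩ = starRingEnd ℂ (ρ ⟨α, Algebra.self_mem_adjoin_singleton ℚ α⟩) := h
  refine ⟨h', ?_⟩
  have h7 := congrArg ρ (show (⟨α, Algebra.self_mem_adjoin_singleton ℚ α⟩ : A) * ⟨star α, hmem⟩ =
    algebraMap ℚ A q from Subtype.ext hα)
  rw [map_mul, h', AlgHom.commutes, Complex.mul_conj'] at h7
  have h8 := congrArg Complex.re h7
  simpa [← Complex.ofReal_pow] using h8

end Groth.Agent.S19356
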