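import Groth.Statements.S19358
import Groth.Agent.Lib.Fans.Basic

set_option autoImplicit false
universe u
open CategoryTheory Opposite Instab
open Instab Instab.Fan

namespace Groth.Agent.S19358

open Groth.Agent.Lib.Fans

/-- Let f : F ⟶ G be a map of formal fans. If f is injective on n-cones for every n, then the induced
continuous map of projective realizations P F → P G is injective; if f is surjective on n-cones for
every n, then P F → P G is surjective. -/
theorem result {F G : Fan.{u}} (f : F ⟶ G) :
    ((∀ n : ICone, Function.Injective (f.app (op n))) → Function.Injective (Fan.P.map f)) ∧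
    ((∀ n : ICone, Function.Surjective (f.app (op n))) → Function.Surjective (Fan.P.map f)) := by
  refine ⟨fun h x y hxy => ?_, fun h p => ?_⟩
  · obtain ⟨i, a, v, rfl⟩ := exists_rep x
    obtain ⟨j, b, w, rfl⟩ := exists_rep y
    obtain ⟨k, φ₁, φ₂, z, c₁, c₂, hσ, hc₁, hc₂, e₁, e₂⟩ := common_of_eq hxy
    refine eq_of_common ⟨k, φ₁, φ₂, z, c₁, c₂, h k ?_, hc₁, hc₂, e₁, e₂⟩
    exact (NatTrans.naturality_apply f φ₁.op a).trans
      (hσ.trans (NatTrans.naturality_apply f φ₂.op b).symm)
  · obtain ⟨n, σ, v, rfl⟩ := exists_rep p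
    obtain ⟨ξ, rfl⟩ := h n σ
    exact ⟨Fan.P.mk ξ v, rfl⟩

end Groth.Agent.S19358
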