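import Groth.Statements.S1936
import Groth.Agent.H54.CMMor
import Groth.Agent.S1341
import Groth.Agent.S1342
import Groth.Agent.H63.GrpdBasic
import Groth.Agent.Lib.GrpdQuot.Invariant

set_option autoImplicit false
universe u
open CategoryTheory CategoryTheory.Limits AlgebraicGeometry
open Grpd

namespace Groth.Agent.S1936

/-- Let (U, R, s, t, c) be a groupoid scheme over S with s, t flat and locally of finite presentation.
There is an open U' ⊆ U such that t⁻¹(U') is exactly the set of points of R at which s is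
Cohen–Macaulay, s⁻¹(U') is exactly the set of points at which t is Cohen–Macaulay, and both t
restricted to s⁻¹(U') and s restricted to t⁻¹(U') are surjective onto U. (Part (5), that the
restriction of R to U' is a groupoid with Cohen–Macaulay s', t', then follows and is not restated.)
Cohen–Macaulay at a point: flat there with Cohen–Macaulay fibre local ring (Grpd.IsCMAt). (A
groupoid scheme carries U, R, s, t, c, e, i over S with the groupoid axioms on T-points; 'finite
locally free' is finite, flat and locally of finite presentation; C ⊂ Γ(U) is the ring of functions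
a with s♯(a) = t♯(a) and M = Spec C.) -/
theorem result (S : Scheme.{u}) (G : Grpd.GroupoidScheme S) [Flat G.s] [LocallyOfFinitePresentation G.s] [Flat G.t] [LocallyOfFinitePresentation G.t] : ∃ U' : G.U.Opens, (G.t ⁻¹ᵁ U' : Set G.R) = {r | Grpd.IsCMAt G.s r} ∧ (G.s ⁻¹ᵁ U' : Set G.R) = {r | Grpd.IsCMAt G.t r} ∧ ⇑G.t '' (G.s ⁻¹ᵁ U' : Set G.R) = Set.univ ∧ ⇑G.s '' (G.t ⁻¹ᵁ U' : Set G.R) = Set.univ := by
  have key : ∀ (f : G.R ⟶ G.U) (r : G.R), Grpd.IsCMAt f r ↔ MoreMor.IsCMAt f r := fun f r =>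
    (Groth.Agent.H54.CMMor.isCMAt_iff f r).symm
  let C : Set G.R := {r | MoreMor.IsCMAt G.s r}
  have hC : IsOpen C := (Groth.Agent.S1341.result G.s).1
  have hpair : ∀ z : ↥(pullback G.s G.t), pullback.fst G.s G.t z ∈ C ↔ G.c z ∈ C := fun z => by
    have h1 := Groth.Agent.S1342.result G.s _ _ _ (IsPullback.of_hasPullback G.s G.t)
    have h2 := Groth.Agent.S1342.result G.s _ _ _ (Groth.Agent.H63.GrpdBasic.isPullback_c_snd G)
    exact iff_of_eq (congrArg (z ∈ ·) (h1.symm.trans h2))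
  have hrt : ∀ r : G.R, r ∈ C ↔ G.e (G.t r) ∈ C := fun r => by
    let l : G.R ⟶ pullback G.s G.t := pullback.lift (G.t ≫ G.e) (𝟙 _)
      (by rw [Category.assoc, G.e_s, Category.comp_id, Category.id_comp])
    have hl : l ≫ G.c = 𝟙 _ := by
      have := G.e_comp (𝟙 G.R)
      simpa [l] using this
    have hl1 : pullback.fst G.s G.t (l r) = G.e (G.t r) := by
      rw [← Scheme.Hom.comp_apply, pullback.lift_fst, Scheme.Hom.comp_apply]
    have hl2 : G.c (l r) = r := by
      rw [← Scheme.Hom.comp_apply, hl]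
      rfl
    have := hpair (l r)
    rw [hl1, hl2] at this
    exact this.symm
  have hi : IsIso G.i := ⟨G.i, by rw [Groth.Agent.H63.GrpdBasic.i_i], by rw [Groth.Agent.H63.GrpdBasic.i_i]⟩
  have hti : ∀ r : G.R, MoreMor.IsCMAt G.t r ↔ G.i r ∈ C := fun r =>
    iff_of_eq (congrArg (r ∈ ·) (Groth.Agent.S1342.result G.s G.t G.i (𝟙 _)
      (IsPullback.of_horiz_isIso ⟨by rw [Category.comp_id, G.i_s]⟩)))
  let U' : G.U.Opens := ⟨G.e ⁻¹' C, hC.preimage G.e.continuous⟩
  have hts : ∀ r : G.R, G.t r ∈ U' ↔ r ∈ C := fun r => (hrt r).symm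
  have hst : ∀ r : G.R, G.s r ∈ U' ↔ G.i r ∈ C := fun r => by
    rw [← hts, Groth.Agent.Lib.GrpdQuot.t_i_apply]
  have hfib : ∀ u : G.U, ∃ r : G.R, G.s r = u ∧ r ∈ C := fun u => by
    have hd := (Groth.Agent.S1341.result G.s).2 u
    have : Nonempty ↥(G.s.fiber u) := by
      obtain ⟨z, hz⟩ : G.e u ∈ Set.range (G.s.fiberι u) := by
        rw [Scheme.Hom.range_fiberι]
        exact Groth.Agent.Lib.GrpdQuot.s_e_apply G u
      exact ⟨z⟩
    obtain ⟨z, hz⟩ := hd.nonempty
    refine ⟨G.s.fiberι u z, ?_, hz⟩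
    have : G.s.fiberι u z ∈ Set.range (G.s.fiberι u) := ⟨z, rfl⟩
    rw [Scheme.Hom.range_fiberι] at this
    exact this
  refine ⟨U', Set.ext fun r => (hts r).trans (key _ _).symm,
    Set.ext fun r => (hst r).trans ((hti r).symm.trans (key _ _).symm),
    Set.eq_univ_of_forall fun u => ?_, Set.eq_univ_of_forall fun u => ?_⟩
  · obtain ⟨r, hr, hrC⟩ := hfib u
    refine ⟨G.i r, ?_, (Groth.Agent.Lib.GrpdQuot.t_i_apply G r).trans hr⟩
    change G.s (G.i r) ∈ U'
    rw [Groth.Agent.Lib.GrpdQuot.s_i_apply]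
    exact (hts r).2 hrC
  · obtain ⟨r, hr, hrC⟩ := hfib u
    exact ⟨r, (hts r).2 hrC, hr⟩

end Groth.Agent.S1936
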