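import Groth.Statements.S19363
import Groth.Agent.Lib.Fans.Bounded

set_option autoImplicit false
universe u
open CategoryTheory Opposite Instab
open Instab Instab.Fan

namespace Groth.Agent.S19363

open Groth.Agent.Lib.Fans

/-- Let ψ : F ⟶ G be a bounded map of formal fans. Then the induced map P F → P G is a closed map whose
fibres are finite, and its image meets each rational simplex of P G in a finite union of closed
rational sub-simplices: for every n-cone ξ of G there are finitely many cone morphisms φ into [n]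
such that a nonzero nonnegative vector v of ℝ^n gives a point of the image exactly when v is a
positive multiple of φ y for one of these φ and some nonzero nonnegative y. -/
theorem result {F G : Fan.{u}} (ψ : F ⟶ G)
    (hψ : Fan.IsBoundedMap ψ) :
    IsClosedMap (Fan.P.map ψ) ∧ (∀ y : Fan.P G, (Fan.P.map ψ ⁻¹' {y}).Finite) ∧
    ∀ (n : ICone) (ξ : G.obj (op n)), ∃ s : Finset (Σ k : ICone, k ⟶ n),
      {v : Fan.Orth n | Fan.P.mk ξ v ∈ Set.range (Fan.P.map ψ)} =
        ⋃ e ∈ s, {v : Fan.Orth n | ∃ (y : Fan.Orth e.1) (c : ℝ), 0 < c ∧ v.1 = c • e.2.realMap y.1} := by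
  classical
  refine ⟨isClosedMap_map hψ, finite_fibre hψ, fun n ξ => ?_⟩
  obtain ⟨t, ht, hcov⟩ := exists_cover hψ ξ
  refine ⟨t.image fun e => ⟨e.1, e.2.2⟩, Set.ext fun v => ?_⟩
  simp only [Set.mem_ofPred_eq, Set.mem_iUnion, exists_prop]
  constructor
  · rintro ⟨x, hx⟩
    obtain ⟨e, he, y, c, hc, -, hv⟩ := hcov x v hx
    exact ⟨_, Finset.mem_image_of_mem _ he, y, c, hc, hv⟩
  · rintro ⟨e, he, y, c, hc, hv⟩
    obtain ⟨q, hq, rfl⟩ := Finset.mem_image.1 he
    exact ⟨Fan.P.mk q.2.1 y, by
      rw [map_mk, ht q hq, mk_glue, mk_eq_of_smul (v := omap q.2.2 y) hc hv]⟩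

end Groth.Agent.S19363
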