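import Groth.Statements.S19368
import Groth.Agent.Lib.Fans.Bounded

set_option autoImplicit false
universe u
open CategoryTheory Opposite Instab
open Instab Instab.Fan

namespace Groth.Agent.S19368

open Groth.Agent.Lib.Fans

/-- Let F be a formal fan; a subset of P F is realizable when it is the image of the projective
realization of some sub-fan of F. The intersection of two realizable subsets is realizable, and the
union of an arbitrary family of realizable subsets is realizable. -/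
theorem result (F : Fan.{u}) :
    (∀ U V : Set (Fan.P F), Fan.IsRealizable U → Fan.IsRealizable V → Fan.IsRealizable (U ∩ V)) ∧
    ∀ (ι : Type u) (U : ι → Set (Fan.P F)), (∀ i, Fan.IsRealizable (U i)) →
      Fan.IsRealizable (Set.iUnion U) := by
  refine ⟨?_, fun ι U hU => ?_⟩
  · rintro _ _ ⟨S, rfl⟩ ⟨T, rfl⟩
    refine ⟨S ⊓ T, Set.ext fun p => ⟨?_, ?_⟩⟩
    · rintro ⟨⟨x, hx⟩, ⟨y, hy⟩⟩
      obtain ⟨i, a, v, rfl⟩ := exists_rep x
      obtain ⟨j, b, w, rfl⟩ := exists_rep y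
      obtain ⟨k, φ₁, φ₂, z, c₁, c₂, hσ, hc₁, hc₂, e₁, e₂⟩ := common_of_eq (hx.trans hy.symm)
      refine ⟨Fan.P.mk (F := (S ⊓ T).toFunctor) ⟨F.map φ₁.op a.1, S.map φ₁.op a.2, by
        have hσ' : F.map φ₁.op a.1 = F.map φ₂.op b.1 := hσ
        rw [hσ']; exact T.map φ₂.op b.2⟩ z, ?_⟩
      change Fan.P.mk (F.map φ₁.op a.1) z = p
      rw [← hx, mk_glue, mk_eq_of_smul (v := omap φ₁ z) hc₁ e₁]
      rfl
    · rintro ⟨x, rfl⟩
      obtain ⟨i, a, v, rfl⟩ := exists_rep x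
      exact ⟨⟨Fan.P.mk (F := S.toFunctor) ⟨a.1, a.2.1⟩ v, rfl⟩,
        ⟨Fan.P.mk (F := T.toFunctor) ⟨a.1, a.2.2⟩ v, rfl⟩⟩
  · choose S hS using hU
    refine ⟨⨆ i, S i, Set.ext fun p => ⟨?_, ?_⟩⟩
    · intro hp
      obtain ⟨i, hi⟩ := Set.mem_iUnion.1 hp
      rw [hS i] at hi
      obtain ⟨x, rfl⟩ := hi
      obtain ⟨j, a, v, rfl⟩ := exists_rep x
      exact ⟨Fan.P.mk (F := (⨆ i, S i).toFunctor) ⟨a.1, (le_iSup S i) _ a.2⟩ v, rfl⟩
    · rintro ⟨x, rfl⟩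
      obtain ⟨j, ⟨a, ha⟩, v, rfl⟩ := exists_rep x
      rw [Subfunctor.iSup_obj] at ha
      obtain ⟨i, hi⟩ := Set.mem_iUnion.1 ha
      exact Set.mem_iUnion.2 ⟨i, (hS i).symm ▸ ⟨Fan.P.mk (F := (S i).toFunctor) ⟨a, hi⟩ v, rfl⟩⟩

end Groth.Agent.S19368
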