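import Groth.Statements.S19374
import Groth.Agent.Lib.Fans.Basic

set_option autoImplicit false
universe u
open CategoryTheory Opposite Instab
open Instab Instab.Fan

namespace Groth.Agent.S19374

open Groth.Agent.Lib.Fans

/-- Let F be a formal fan and U ⊆ P F. Then U is locally convex in the simplex-wise sense — for every
rational simplex, a ray lying strictly between two rays that map into U also maps into U — if and
only if, for every n-cone ξ of F, the set of nonzero nonnegative vectors v of ℝ^n whose point of the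
rational simplex of ξ lies in U is a convex subset of ℝ^n (convexity of the preimage of U in each
punctured cone of the affine realization). -/
theorem result (F : Fan.{u}) (U : Set (Fan.P F)) :
    Fan.IsLocallyConvex U ↔
      ∀ (n : ICone) (ξ : F.obj (op n)),
        Convex ℝ {v : Fin n.dim → ℝ | ∃ h : (∀ i, 0 ≤ v i) ∧ v ≠ 0, Fan.P.mk ξ (⟨v, h⟩ : Fan.Orth n) ∈ U} := by
  constructor
  · rintro h n ξ x ⟨hx, hxU⟩ y ⟨hy, hyU⟩ a b ha hb hab
    rcases eq_or_lt_of_le ha with rfl | ha
    · obtain rfl : b = 1 := by linarith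
      simp only [zero_smul, zero_add, one_smul]
      exact ⟨hy, hyU⟩
    rcases eq_or_lt_of_le hb with rfl | hb
    · obtain rfl : a = 1 := by linarith
      simp only [zero_smul, add_zero, one_smul]
      exact ⟨hx, hxU⟩
    have h0 : (∀ i, 0 ≤ (a • x + b • y) i) ∧ a • x + b • y ≠ 0 := by
      refine ⟨fun i => add_nonneg (mul_nonneg ha.le (hx.1 i)) (mul_nonneg hb.le (hy.1 i)), fun h0 => hx.2 ?_⟩
      funext i
      have h1 := congrFun h0 i
      simp only [Pi.add_apply, Pi.smul_apply, smul_eq_mul, Pi.zero_apply] at h1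
      have : a * x i = 0 := by linarith [mul_nonneg ha.le (hx.1 i), mul_nonneg hb.le (hy.1 i)]
      simpa [ha.ne'] using this
    exact ⟨h0, h n ξ ⟨x, hx⟩ ⟨_, h0⟩ ⟨y, hy⟩ hxU hyU ⟨a, b, ha, hb, rfl⟩⟩
  · intro h n ξ v₀ v₁ v₂ h₀ h₂ ⟨a, b, ha, hb, hv⟩
    obtain ⟨hne, hU⟩ := h n ξ (x := v₀.1) ⟨v₀.2, h₀⟩ (y := v₂.1) ⟨v₂.2, h₂⟩
      (a := a / (a + b)) (b := b / (a + b)) (by positivity) (by positivity) (by field_simp)
    rw [mk_eq_of_smul (v := (⟨_, hne⟩ : Fan.Orth n)) (w := v₁) (c := a + b) (by positivity) (by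
      simp only [smul_add, smul_smul, mul_div_cancel₀ _ (by positivity : a + b ≠ 0)]
      exact hv)] at hU
    exact hU

end Groth.Agent.S19374
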