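import Groth.Statements.S19375
import Groth.Agent.Lib.Excellent.NormalFibres
import Groth.Agent.Lib.Excellent.CompletionNoetherian
import Groth.Agent.Lib.Henselian.Normal
import Groth.Agent.Lib.NormalTensor.Basic
import Mathlib.RingTheory.AdicCompletion.LocalRing
import Mathlib.RingTheory.Henselian
import Mathlib.RingTheory.Ideal.GoingDown

set_option autoImplicit false
universe u
open EGA4

namespace Groth.Agent.S19375

open Polynomial

theorem isUnit_of_sub_one_mem {C : Type u} [CommRing C] (J : Ideal C) (hJ : J ≤ (⊥ : Ideal C).jacobson)
    {x : C} (hx : x - 1 ∈ J) : IsUnit x := by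
  have h := Ideal.mem_jacobson_bot.1 (hJ hx) 1
  simpa using h


/-- Let A be a Noetherian ring, J a proper ideal of A, Â the J-adic completion of A and A_T the
localization of A at the multiplicative set T = 1 + J (the elements congruent to 1 modulo J). Assume
that the canonical map A → Â is a normal homomorphism (flat, with geometrically normal fibres), as
happens when A is excellent. Then Â is an integrally closed domain if and only if A_T is an
integrally closed domain and the spectrum of A/J is connected. (The published statement asserts the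
equivalence of the first two conditions alone; for A = ℤ and J = 6ℤ the localization A_T is an
integrally closed domain while Â ≅ ℤ_2 × ℤ_3 is not a domain, and the published proof tacitly uses
that Spec Â, whose connected components correspond to those of Spec(A/J), is connected. The case of
the henselization of the pair and of the weak completion is not stated here.) -/
theorem result
    (A : Type u) [CommRing A] [IsNoetherianRing A] (J : Ideal A) (hJ : J ≠ ⊤)
    (hf : EGA4.IsNormalHom A (AdicCompletion J A))
    (T : Submonoid A) (hT : T = MonoidHom.mker (Ideal.Quotient.mk J)) :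
    (IsDomain (AdicCompletion J A) ∧ IsIntegrallyClosed (AdicCompletion J A)) ↔
      ((IsDomain (Localization T) ∧ IsIntegrallyClosed (Localization T)) ∧
        ConnectedSpace (PrimeSpectrum (A ⧸ J))) := by
  subst hT
  let C := AdicCompletion J A
  let T := MonoidHom.mker (Ideal.Quotient.mk J)
  have fg : J.FG := IsNoetherian.noetherian J
  let J' : Ideal C := J.map (algebraMap A C)
  haveI : IsAdicComplete J' C := AdicCompletion.isAdicComplete_self J fg
  have hker : ∀ c : C, AdicCompletion.evalOneₐ J c = 0 ↔ c ∈ J' := fun c => by
    rw [← RingHom.mem_ker]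
    exact iff_of_eq (congrArg (c ∈ ·) (AdicCompletion.ker_evalOneₐ_eq_map J fg))
  haveI : Module.Flat A C := hf.1
  haveI : IsNoetherianRing C := inferInstance
  have hunit : ∀ t : T, IsUnit (algebraMap A C t) := fun t => by
    refine isUnit_of_sub_one_mem J' (IsAdicComplete.le_jacobson_bot J') ?_
    rw [← hker, map_sub, map_one, AlgHom.commutes, sub_eq_zero, Ideal.Quotient.algebraMap_eq]
    exact t.2
  let _ : Algebra (Localization T) C := (IsLocalization.lift (M := T) hunit).toAlgebra
  haveI : IsScalarTower A (Localization T) C :=
    .of_algebraMap_eq fun a => (IsLocalization.lift_eq hunit a).symm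
  haveI : Module.Flat (Localization T) C := (Module.flat_iff_of_isLocalization (Localization T) T _).2 hf.1
  have hjac : ∀ m : Ideal (Localization T), m.IsMaximal → J.map (algebraMap A (Localization T)) ≤ m := by
    intro m hm
    rw [Ideal.map_le_iff_le_comap]
    intro j hj
    by_contra hjm
    rw [Ideal.mem_comap] at hjm
    obtain ⟨y, hy⟩ := hm.exists_inv hjm
    obtain ⟨z, hz, hyz⟩ := hy
    obtain ⟨a, t, rfl⟩ := IsLocalization.exists_mk'_eq T y
    have ht : (t : A) - a * j ∈ T := by
      show Ideal.Quotient.mk J ((t : A) - a * j) = 1
      rw [map_sub, map_mul, Ideal.Quotient.eq_zero_iff_mem.2 hj, mul_zero, sub_zero]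
      exact t.2
    refine hm.ne_top (Ideal.eq_top_of_isUnit_mem m hz ?_)
    have hz' : z = IsLocalization.mk' (Localization T) ((t : A) - a * j) t := by
      rw [IsLocalization.eq_mk'_iff_mul_eq, map_sub, map_mul,
        ← IsLocalization.mk'_spec (Localization T) a t]
      linear_combination (algebraMap A (Localization T) t) * hyz
    rw [hz', IsLocalization.mk'_eq_mul_mk'_one]
    exact (IsLocalization.map_units _ ⟨_, ht⟩).mul
      (IsUnit.of_mul_eq_one _ (by rw [IsLocalization.mk'_spec, map_one]))
  haveI : Module.FaithfullyFlat (Localization T) C := by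
    refine Module.FaithfullyFlat.of_comap_surjective fun P => ?_
    obtain ⟨m, hm, hPm⟩ := P.asIdeal.exists_le_maximal P.2.ne_top
    have hJm : J ≤ m.comap (algebraMap A (Localization T)) := Ideal.map_le_iff_le_comap.1 (hjac m hm)
    let g := (Ideal.Quotient.factor hJm).comp (AdicCompletion.evalOneₐ J).toRingHom
    haveI : (RingHom.ker g).IsPrime := RingHom.ker_isPrime g
    have hg : (RingHom.ker g).comap (algebraMap (Localization T) C) = m := by
      refine (IsLocalization.map_comap T (Localization T) _).symm.trans
        (Eq.trans ?_ (IsLocalization.map_comap T (Localization T) m))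
      congr 1
      ext a
      rw [Ideal.under_def, Ideal.under_def, Ideal.mem_comap, Ideal.mem_comap, Ideal.mem_comap,
        ← IsScalarTower.algebraMap_apply, RingHom.mem_ker]
      show Ideal.Quotient.factor hJm (AdicCompletion.evalOneₐ J (algebraMap A C a)) = 0 ↔ _
      rw [AlgHom.commutes, Ideal.Quotient.algebraMap_eq, Ideal.Quotient.factor_mk,
        Ideal.Quotient.eq_zero_iff_mem, Ideal.mem_comap]
    haveI : (RingHom.ker g).LiesOver m := ⟨hg.symm⟩
    obtain ⟨Q, -, hQ, hQP⟩ := Ideal.exists_ideal_le_liesOver_of_le (q := m) (RingHom.ker g) hPm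
    exact ⟨⟨Q, hQ⟩, PrimeSpectrum.ext hQP.over.symm⟩
  constructor
  · rintro ⟨_, _⟩
    refine ⟨Lib.Henselian.Normal.isDomain_and_isIntegrallyClosed_of_faithfullyFlat (Localization T) C, ?_⟩
    haveI : Nontrivial (A ⧸ J) := Ideal.Quotient.nontrivial_iff.2 hJ
    haveI : Nonempty (PrimeSpectrum (A ⧸ J)) := inferInstance
    haveI : PreconnectedSpace (PrimeSpectrum (A ⧸ J)) := preconnectedSpace_iff_clopen.2 fun s hs => by
      obtain ⟨e, he, rfl⟩ := PrimeSpectrum.isClopen_iff.1 hs
      obtain ⟨a₀, rfl⟩ := AdicCompletion.evalOneₐ_surjective J e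
      haveI : HenselianRing C J' := inferInstance
      obtain ⟨c, hc, hca⟩ := HenselianRing.is_henselian (I := J') (X ^ 2 - X : C[X]) (by monicity!) a₀
        (by rw [← hker]; simp [sub_eq_zero, sq, he.eq]) (by
          have hsq : (2 * AdicCompletion.evalOneₐ J a₀ - 1) * (2 * AdicCompletion.evalOneₐ J a₀ - 1) = 1 := by
            linear_combination 4 * he.eq
          refine IsUnit.of_mul_eq_one (Ideal.Quotient.mk J' (2 * a₀ - 1)) ?_
          rw [← map_mul, ← map_one (Ideal.Quotient.mk J'), Ideal.Quotient.eq, ← hker]
          simpa [sub_eq_zero, map_ofNat, one_add_one_eq_two] using hsq)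
      have hc0 : c * (c - 1) = 0 := by
        simp only [IsRoot, eval_sub, eval_pow, eval_X] at hc
        linear_combination hc
      rw [← hker, map_sub, sub_eq_zero] at hca
      rcases mul_eq_zero.1 hc0 with h0 | h1
      · left
        rw [← hca, h0, map_zero, PrimeSpectrum.basicOpen_zero]
        rfl
      · right
        rw [← hca, sub_eq_zero.1 h1, map_one, PrimeSpectrum.basicOpen_one]
        rfl
    exact ⟨inferInstance⟩
  · rintro ⟨⟨_, _⟩, hconn⟩
    have hN : EGA4.IsNormalRing C := fun q _ => by
      let p := q.comap (algebraMap A C)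
      have hd : Disjoint (T : Set A) p := Set.disjoint_left.2 fun t ht htp =>
        Ideal.IsPrime.ne_top ‹q.IsPrime› (Ideal.eq_top_of_isUnit_mem q htp (hunit ⟨t, ht⟩))
      refine Lib.Excellent.NormalFibres.normal_atPrime A C q p rfl ?_ fun p' _ _ =>
        Lib.Excellent.NormalFibres.isNormalRing_of_isGeomNormal p'.ResidueField _ (hf.2 p')
      let P := q.comap (algebraMap (Localization T) C)
      haveI : IsLocalization.AtPrime (Localization.AtPrime P) p := by
        have := IsLocalization.isLocalization_isLocalization_atPrime_isLocalization T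
          (Localization.AtPrime P) P
        have e : P.comap (algebraMap A (Localization T)) = p := by
          rw [Ideal.comap_comap, ← IsScalarTower.algebraMap_eq]
        convert this using 1
        exact e.symm
      exact Lib.Excellent.NormalRing.isoInvariant_domainIntClosed (Localization.AtPrime P) _
        (IsLocalization.algEquiv p.primeCompl (Localization.AtPrime P) (Localization.AtPrime p)).toRingEquiv
        ⟨IsLocalization.isDomain_localization P.primeCompl_le_nonZeroDivisors,
          isIntegrallyClosed_of_isLocalization _ P.primeCompl P.primeCompl_le_nonZeroDivisors⟩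
    haveI : Nontrivial (A ⧸ J) := Ideal.Quotient.nontrivial_iff.2 hJ
    haveI : Nontrivial C := (AdicCompletion.evalOneₐ J).toRingHom.domain_nontrivial
    have hidem : ∀ e : C, IsIdempotentElem e → e = 0 ∨ e = 1 := by
      intro e he
      have hcl := PrimeSpectrum.isClopen_iff.2 ⟨_, he.map (AdicCompletion.evalOneₐ J), rfl⟩
      have key : ∀ f : C, IsIdempotentElem f → AdicCompletion.evalOneₐ J f = 0 → f = 0 := fun f hf' h0 => by
        have hu : IsUnit (1 - f) :=
          isUnit_of_sub_one_mem J' (IsAdicComplete.le_jacobson_bot J')
            (by simpa using neg_mem ((hker f).1 h0))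
        exact hu.mul_left_eq_zero.1 (by rw [mul_sub, mul_one, hf'.eq, sub_self])
      rcases isClopen_iff.1 hcl with h | h
      · left
        refine key e he ?_
        have hnil := PrimeSpectrum.basicOpen_eq_bot_iff (AdicCompletion.evalOneₐ J e) |>.1 (SetLike.coe_injective h)
        obtain ⟨k, hk⟩ := hnil
        rcases k with _ | k
        · exact absurd hk (by simp)
        · rwa [(he.map (AdicCompletion.evalOneₐ J)).pow_succ_eq] at hk
      · right
        have hu : IsUnit (AdicCompletion.evalOneₐ J e) :=
          by
          by_contra hu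
          obtain ⟨Q, hQ, hQe⟩ := exists_max_ideal_of_mem_nonunits hu
          exact (h.symm ▸ Set.mem_univ (⟨Q, hQ.isPrime⟩ : PrimeSpectrum (A ⧸ J))) hQe
        have h1 := hu.mul_left_cancel ((he.map (AdicCompletion.evalOneₐ J)).eq.trans (mul_one _).symm)
        have := key (1 - e) he.one_sub (by rw [map_sub, map_one, h1, sub_self])
        exact (sub_eq_zero.1 this).symm
    haveI : IsDomain C := by
      haveI : NoZeroDivisors C := ⟨fun {x y} hxy => by
        obtain ⟨e, he, hex, hy⟩ := Lib.NormalTensor.Basic.exists_idempotent hN x
        rcases hidem e he with rfl | rfl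
        · right; rw [← hy y (by rw [mul_comm, hxy]), mul_zero]
        · left; rwa [one_mul] at hex⟩
      exact NoZeroDivisors.to_isDomain C
    exact ⟨inferInstance, IsIntegrallyClosed.of_localization_maximal fun M _ => (hN M).2⟩

end Groth.Agent.S19375
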