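import Groth.Statements.S19377
import Groth.Agent.Lib.PProj.OfProper
import Groth.Agent.Lib.PProj.OOne
import Groth.Agent.Lib.ProjMor.QP
import Groth.Agent.Lib.ProjSpace.Dim
import Groth.Agent.H46.DomainStalk
import Groth.Agent.Lib.Cyc.SmoothReg
import Groth.Agent.Lib.Regular.Quotient
import Mathlib.AlgebraicGeometry.Morphisms.UniversallyOpen

set_option autoImplicit false
universe u
open CategoryTheory AlgebraicGeometry
open RelProj

namespace Groth.Agent.S19377

open Groth.Agent.Lib Limits TopologicalSpace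

variable {k : Type u} [Field k] {X S : Scheme.{u}}

theorem component_eq (g : S ⟶ Spec (CommRingCat.of k)) [Smooth g] [NoetherianSpace S] (s : S) :
    IsIrreducible (connectedComponent s) ∧ IsOpen (connectedComponent s) := by
  have huniq : ∀ x : S, ∃! Z : Set S, Z ∈ irreducibleComponents (S : Type u) ∧ x ∈ Z := fun x =>
    Groth.Agent.H46.DomainStalk.existsUnique_component fun ξ ξ' h1 h2 h3 h4 =>
      haveI := Cyc.SmoothReg.isRegularLocalRing_stalk g x
      Groth.Agent.H46.DomainStalk.eq_of_isDomain_stalk (Groth.Agent.Lib.Regular.Quotient.isDomain _) h1 h3 h2 h4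
  obtain ⟨Z, ⟨hZ, hsZ⟩, -⟩ := huniq s
  have hfin : (irreducibleComponents (S : Type u)).Finite := NoetherianSpace.finite_irreducibleComponents
  have hcompl : Zᶜ = ⋃ T ∈ irreducibleComponents (S : Type u) \ {Z}, T := by
    ext x
    simp only [Set.mem_compl_iff, Set.mem_iUnion, Set.mem_sdiff, Set.mem_singleton_iff, exists_prop]
    constructor
    · intro hx
      obtain ⟨T, ⟨hT, hxT⟩, -⟩ := huniq x
      exact ⟨T, ⟨hT, fun h => hx (h ▸ hxT)⟩, hxT⟩
    · rintro ⟨T, ⟨hT, hne⟩, hxT⟩ hxZ
      exact hne ((huniq x).unique ⟨hT, hxT⟩ ⟨hZ, hxZ⟩)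
  have hopen : IsOpen Z := isClosed_compl_iff.1 (hcompl ▸ (hfin.subset Set.sdiff_subset).isClosed_biUnion
    fun T hT => isClosed_of_mem_irreducibleComponents T hT.1)
  have heq : connectedComponent s = Z :=
    subset_antisymm (IsClopen.connectedComponent_subset ⟨isClosed_of_mem_irreducibleComponents Z hZ, hopen⟩ hsZ)
      ((hZ.1.isConnected).subset_connectedComponent hsZ)
  rw [heq]
  exact ⟨hZ.1, hopen⟩

theorem isOpen_connectedComponent_of_smooth (g : S ⟶ Spec (CommRingCat.of k)) [Smooth g] [NoetherianSpace S] (s : S) :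
    IsOpen (connectedComponent s) := (component_eq g s).2

theorem dense_of_meets (g : S ⟶ Spec (CommRingCat.of k)) [Smooth g] [NoetherianSpace S] (V : S.Opens)
    (h : ∀ s : S, ∃ s', s' ∈ connectedComponent s ∧ s' ∈ V) : Dense (V : Set S) := by
  rw [dense_iff_inter_open]
  rintro O hO ⟨s, hs⟩
  obtain ⟨hirr, hop⟩ := component_eq g s
  obtain ⟨s', hs', hs'V⟩ := h s
  obtain ⟨x, -, hxO, hxV⟩ := hirr.2 O V hO V.2 ⟨s, mem_connectedComponent, hs⟩ ⟨s', hs', hs'V⟩
  exact ⟨x, hxO, hxV⟩

theorem isProjective_restrict (f : X ⟶ S) [IsProper f] (U : X.Opens) (V : S.Opens) [CompactSpace (V : Scheme.{u})]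
    [QuasiSeparatedSpace (V : Scheme.{u})] (hVU : ∀ x, f x ∈ V → x ∈ U) (hq : RelProj.IsQuasiProjective (U.ι ≫ f)) :
    RelProj.IsProjective (f ∣_ V) := by
  let G := (U.ι ≫ f) ∣_ V
  let e : ((U.ι ≫ f) ⁻¹ᵁ V : Scheme.{u}) ⟶ (f ⁻¹ᵁ V : Scheme.{u}) := U.ι ∣_ (f ⁻¹ᵁ V)
  haveI : IsIso e := by
    haveI : Epi e.base := (TopCat.epi_iff_surjective _).2 fun z => ?_
    · haveI : IsOpenImmersion e :=
        inferInstanceAs (IsOpenImmersion (U.ι ∣_ (f ⁻¹ᵁ V)))
      exact IsOpenImmersion.isIso e
    have hz : (f ⁻¹ᵁ V).ι z ∈ U := hVU _ z.2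
    refine ⟨⟨⟨_, hz⟩, z.2⟩, (f ⁻¹ᵁ V).ι.isOpenEmbedding.injective ?_⟩
    rw [← Scheme.Hom.comp_apply]
    erw [morphismRestrict_ι]
    rfl
  have hG : G = e ≫ (f ∣_ V) := morphismRestrict_comp _ _ _
  haveI : IsProper (f ∣_ V) :=
    MorphismProperty.of_isPullback (P := @IsProper) (isPullback_morphismRestrict f V).flip inferInstance
  haveI : IsProper G := by rw [hG]; infer_instance
  have hP : RelProj.IsProjective G := PProj.isProjective_of_isProper G (ProjMor.QP.isQuasiProjective_restrict hq V)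
  exact PProj.Main.isProjective_of_commSq hP (inv e) (𝟙 _) (f ∣_ V)
    (by rw [hG, IsIso.inv_hom_id_assoc, Category.comp_id])

theorem isQuasiProjective_comp_ι [IsNoetherian S] {V : S.Opens} {W : Scheme.{u}} (h : W ⟶ (V : Scheme.{u}))
    (hq : RelProj.IsQuasiProjective h) : RelProj.IsQuasiProjective (h ≫ V.ι) := by
  obtain ⟨hft, hqc, L, hL⟩ := hq
  haveI := hft
  haveI := hqc
  haveI : IsIso (CohB1.ProjSpaceOver.toBase 0 S) :=
    MorphismProperty.of_isPullback (P := MorphismProperty.isomorphisms Scheme.{u}) (IsPullback.of_hasPullback _ _)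
      (ProjSpace.Dim.isIso_toSpec_zero (ULift.{u} ℤ))
  obtain ⟨-, -, K, hK⟩ := HProj.QuasiProj.isQuasiProjective_of_immersion V.ι 0
    (V.ι ≫ inv (CohB1.ProjSpaceOver.toBase 0 S)) (by rw [Category.assoc, IsIso.inv_hom_id, Category.comp_id])
  obtain ⟨n₀, -, hn⟩ := ProjMor.QP.eventually_isRelAmple_comp h V.ι hL hK
  exact ⟨inferInstance, inferInstance, _, hn n₀ le_rfl⟩

/-- Let k be a field, S a smooth, separated and quasi-compact k-scheme and f : X → S a proper smooth
morphism. The following two conditions are equivalent. (P): there is a dense open subscheme U of X,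
quasi-projective over S, such that every connected component of S has a point not lying in the image
f(X ∖ U). Generic projectivity: there is a dense open subscheme V of S such that the restriction
f⁻¹(V) → V of f is projective. (The source works over the residue field of a complete discrete
valuation ring of mixed characteristic and adds that the restriction over V is smooth, which is
automatic; the base field plays no role and is arbitrary here.) -/
theorem result
    {k : Type u} [Field k] {X S : Scheme.{u}} (f : X ⟶ S) (g : S ⟶ Spec (.of k))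
    [Smooth g] [IsSeparated g] [QuasiCompact g] [IsProper f] [Smooth f] :
    (∃ U : X.Opens, Dense (U : Set X) ∧ RelProj.IsQuasiProjective (U.ι ≫ f) ∧
        ∀ s : S, ∃ s' : S, s' ∈ connectedComponent s ∧ s' ∉ ⇑f.base '' (U : Set X)ᶜ) ↔
      ∃ V : S.Opens, Dense (V : Set S) ∧ RelProj.IsProjective (f ∣_ V) := by
  haveI : IsLocallyNoetherian S := LocallyOfFiniteType.isLocallyNoetherian g
  haveI : CompactSpace S := QuasiCompact.compactSpace_of_compactSpace g
  haveI : IsNoetherian S := ⟨⟩
  constructor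
  · rintro ⟨U, -, hq, hP⟩
    let V : S.Opens := ⟨(⇑f.base '' (U : Set X)ᶜ)ᶜ, (f.isClosedMap _ U.2.isClosed_compl).isOpen_compl⟩
    refine ⟨V, dense_of_meets g V fun s => hP s, ?_⟩
    haveI : CompactSpace (V : Scheme.{u}) := isCompact_iff_compactSpace.mp (TopologicalSpace.NoetherianSpace.isCompact _)
    exact isProjective_restrict f U V (fun x hx => by_contra fun h => hx ⟨x, h, rfl⟩) hq
  · rintro ⟨V, hV, hp⟩
    refine ⟨f ⁻¹ᵁ V, hV.preimage f.isOpenMap, ?_, fun s => ?_⟩
    · rw [← morphismRestrict_ι f V]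
      exact isQuasiProjective_comp_ι (f ∣_ V) (PProj.isQuasiProjective_of_isProjective hp)
    · obtain ⟨s', hs'V, hs'⟩ := hV.exists_mem_open (isOpen_connectedComponent_of_smooth g s) ⟨s, mem_connectedComponent⟩
      exact ⟨s', hs', fun ⟨x, hx, hxs⟩ => hx (show f x ∈ V from hxs ▸ hs'V)⟩

end Groth.Agent.S19377
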