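import Groth.Statements.S19378
import Groth.Agent.Lib.EGA75.Zariski
import Groth.Agent.Lib.Excellent.NormalFibres
import Groth.Agent.S2610

set_option autoImplicit false
set_option linter.style.haveILetI false
universe u
open EGA4

namespace Groth.Agent.S19378

/-- Let A be a Noetherian ring, J a proper ideal of A, Â the J-adic completion and A_T the localization
of A at T = 1 + J. If the canonical map A → Â is a normal homomorphism (flat with geometrically
normal fibres), then A_T is a normal ring (all local rings integrally closed domains) if and only if
Â is. (The case of the henselization of the pair and of the weak completion is not stated here.) -/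
theorem result
    (A : Type u) [CommRing A] [IsNoetherianRing A] (J : Ideal A) (hJ : J ≠ ⊤)
    (hf : EGA4.IsNormalHom A (AdicCompletion J A))
    (T : Submonoid A) (hT : T = MonoidHom.mker (Ideal.Quotient.mk J)) :
    EGA4.IsNormalRing (Localization T) ↔ EGA4.IsNormalRing (AdicCompletion J A) := by
  subst hT
  haveI := hf.1
  constructor
  · intro h Q _
    have hp := (Groth.Agent.Lib.Excellent.FormalFibre.forall_localization_iff
      (MonoidHom.mker (Ideal.Quotient.mk J))
      Groth.Agent.Lib.Excellent.NormalRing.isoInvariant_domainIntClosed).1 h _
      (Groth.Agent.Lib.EGA75.Zariski.disjoint_comap A J Q)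
    exact Groth.Agent.Lib.Excellent.NormalFibres.normal_atPrime A (AdicCompletion J A) Q _ rfl hp
      fun p' _ _ => Groth.Agent.Lib.Excellent.NormalFibres.isNormalRing_of_isGeomNormal _ _ (hf.2 p')
  · intro h
    refine (Groth.Agent.Lib.Excellent.FormalFibre.forall_localization_iff
      (MonoidHom.mker (Ideal.Quotient.mk J))
      Groth.Agent.Lib.Excellent.NormalRing.isoInvariant_domainIntClosed).2 fun p _ hd => ?_
    obtain ⟨Q, hQ, hQp⟩ := Groth.Agent.Lib.EGA75.Zariski.exists_comap A J p hd
    subst hQp
    haveI := (h Q).1
    haveI := (h Q).2
    exact Groth.Agent.S2610.result A (AdicCompletion J A) Q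

end Groth.Agent.S19378
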