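import Groth.Statements.S19380
import Mathlib

set_option autoImplicit false
universe u
open CAlg

namespace Groth.Agent.S19380

/-- Let L be a commutative ring, σ a ring automorphism of L of finite order dividing d (σ^d = 1), and C
an r × r matrix over L. The reverse characteristic polynomial det(1 − T·N) of the twisted product N
= C·σ(C)·σ²(C)⋯σ^(d−1)(C), with σ applied to the entries, is fixed by σ acting on coefficients. (In
the source this is phrased for the fibre at a closed point x of degree d of a convergent F-module
with Frobenius matrix C: the d-th iterate of the semilinear Frobenius of the fibre is the linear map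
with matrix N, so its characteristic polynomial has coefficients in the subfield fixed by the
Frobenius of K(x), namely K, and likewise with the valuation ring in place of K for an integral
F-module; only this linear-algebra statement, over any commutative ring, is given here.) -/
theorem result
    (L : Type u) [CommRing L] (σ : L ≃+* L) (d : ℕ) (hσ : σ ^ d = 1)
    (r : ℕ) (C : Matrix (Fin r) (Fin r) L) :
    (Matrix.charpolyRev (((List.range d).map fun i => C.map ⇑(σ ^ i)).prod)).map (σ : L →+* L) =
      Matrix.charpolyRev (((List.range d).map fun i => C.map ⇑(σ ^ i)).prod) := by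
  have hdet : ∀ N : Matrix (Fin r) (Fin r) L, (Matrix.charpolyRev N).map (σ : L →+* L) =
      Matrix.charpolyRev ((σ : L →+* L).mapMatrix N) := fun N => by
    unfold Matrix.charpolyRev
    rw [← Polynomial.coe_mapRingHom, RingHom.map_det]
    congr 1
    ext a b
    simp [Matrix.one_apply, apply_ite]
  rcases d with _ | d
  · rw [hdet]
    simp only [List.range_zero, List.map_nil, List.prod_nil, map_one]
  set M : ℕ → Matrix (Fin r) (Fin r) L := fun i => C.map ⇑(σ ^ i) with hM
  have h0 : M 0 = C := by
    ext i j; simp [hM]
  set R := ((List.range d).map fun i => M (i + 1)).prod with hR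
  have hsplit : ((List.range (d + 1)).map M).prod = C * R := by
    rw [List.range_succ_eq_map, List.map_cons, List.prod_cons, h0, List.map_map]
    rfl
  have hσM : ∀ i, (σ : L →+* L).mapMatrix (M i) = M (i + 1) := by
    intro i
    ext a b
    simp [hM, pow_succ', RingAut.mul_apply]
    exact ((Function.iterate_succ_apply' ⇑σ i (C a b)).symm.trans (Function.iterate_succ_apply ⇑σ i (C a b)))
  have hmap : (σ : L →+* L).mapMatrix ((List.range (d + 1)).map M).prod = R * C := by
    rw [map_list_prod, List.map_map, List.map_congr_left (f := (σ : L →+* L).mapMatrix ∘ M) (g := fun i => M (i + 1)) (fun i _ => hσM i),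
      List.range_succ, List.map_append, List.prod_append]
    simp only [List.map_cons, List.map_nil, List.prod_cons, List.prod_nil, mul_one]
    congr 1
    ext a b
    have hx := RingEquiv.congr_fun hσ (C a b)
    simp [hM] at hx ⊢
    exact hx
  show (Matrix.charpolyRev ((List.range (d + 1)).map M).prod).map (σ : L →+* L) = _
  rw [hdet, hmap, hsplit]
  unfold Matrix.charpolyRev
  rw [Matrix.map_mul, Matrix.map_mul, ← Matrix.smul_mul, ← Matrix.mul_smul, Matrix.det_one_sub_mul_comm]

end Groth.Agent.S19380
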