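import Groth.Statements.S19383
import Mathlib.RingTheory.AdicCompletion.AsTensorProduct
import Mathlib.RingTheory.Flat.TorsionFree
import Mathlib.RingTheory.Filtration
import Mathlib.RingTheory.DedekindDomain.Dvr
import Mathlib.RingTheory.Flat.Stability

set_option autoImplicit false
universe u
open CAlg

namespace Groth.Agent.S19383

/-- Over a discrete valuation ring, let V be a henselian discrete valuation ring with maximal ideal 𝔪
and B a Noetherian V-algebra, B̂ its 𝔪B-adic completion. Then B is flat over V if and only if B̂ is
flat over V. (The published lemma takes V an excellent normal ring with an ideal I such that (V,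
V/I) is a henselian pair and B of finite type; in that generality it fails: for V = ℤ_p[[x]], I =
(p) and B = V[y]/(x, py − 1) ≅ ℚ_p one has IB = B, so B̂ = 0 is flat while B is not flat over V.
Over a discrete valuation ring flatness is torsion-freeness and the statement holds for every
Noetherian B.) -/
theorem result
    (V : Type u) [CommRing V] [IsDomain V] [IsDiscreteValuationRing V] [HenselianLocalRing V]
    (B : Type u) [CommRing B] [Algebra V B] [IsNoetherianRing B] :
    Module.Flat V B ↔
      Module.Flat V (AdicCompletion ((IsLocalRing.maximalIdeal V).map (algebraMap V B)) B) := by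
  set I := (IsLocalRing.maximalIdeal V).map (algebraMap V B) with hI
  constructor
  · intro h
    exact Module.Flat.trans V B (AdicCompletion I B)
  · intro h
    obtain ⟨π, hπ⟩ := IsDiscreteValuationRing.exists_irreducible V
    have hIπ : I = Ideal.span {algebraMap V B π} := by
      rw [hI, hπ.maximalIdeal_eq, Ideal.map_span, Set.image_singleton]
    have htf : Module.IsTorsionFree V (AdicCompletion I B) := by
      rw [Submodule.isTorsionFree_iff_torsion_eq_bot, ← IsDedekindDomain.flat_iff_torsion_eq_bot]; exact h
    have key : ∀ x : B, algebraMap V B π * x = 0 → x = 0 := by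
      intro x hx
      have h1 : AdicCompletion.of I B x = 0 := by
        have h2 : π • AdicCompletion.of I B x = 0 := by
          rw [← map_zero (AdicCompletion.of I B), ← hx, ← Algebra.smul_def]
          exact ((AdicCompletion.of I B).map_smul_of_tower π x).symm
        exact (smul_eq_zero_iff_right hπ.ne_zero).mp h2
      have hmem : x ∈ (⨅ i : ℕ, I ^ i • ⊤ : Submodule B B) := by
        rw [Submodule.mem_iInf]
        intro i
        have h3 := congrArg (AdicCompletion.eval I B i) h1
        rw [AdicCompletion.eval_of, map_zero] at h3
        exact (Submodule.Quotient.mk_eq_zero _).mp h3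
      obtain ⟨r, hr⟩ := (Ideal.mem_iInf_smul_pow_eq_bot_iff I x).mp hmem
      obtain ⟨b, hb⟩ := Ideal.mem_span_singleton'.mp (hIπ ▸ r.2 : (r : B) ∈ Ideal.span {algebraMap V B π})
      rw [← hr, smul_eq_mul, ← hb, mul_assoc, hx, mul_zero]
    rw [IsDedekindDomain.flat_iff_torsion_eq_bot, ← Submodule.isTorsionFree_iff_torsion_eq_bot]
    refine Module.isTorsionFree_iff_smul_eq_zero.mpr fun v x hvx => ?_
    by_cases hv : v = 0
    · exact Or.inl hv
    right
    obtain ⟨j, u, rfl⟩ := IsDiscreteValuationRing.eq_unit_mul_pow_irreducible hv hπ
    rw [mul_smul, u.isUnit.smul_eq_zero] at hvx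
    clear hv
    induction j with
    | zero => simpa using hvx
    | succ j ih =>
      refine ih (key _ ?_)
      rw [pow_succ', mul_smul, Algebra.smul_def] at hvx
      exact hvx

end Groth.Agent.S19383
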