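import Groth.Statements.S19384
import Mathlib.RingTheory.Bialgebra.Convolution
import Mathlib.LinearAlgebra.FreeModule.Finite.Basic
import Mathlib.LinearAlgebra.Dimension.Free

set_option autoImplicit false
universe u
open Versch

namespace Groth.Agent.S19384

open TensorProduct WithConv

section aux
variable {k : Type u} [Field k] {A : Type u} [CommRing A] [HopfAlgebra k A]

theorem comp_pow' {B C : Type u} [CommRing B] [Algebra k B] [CommRing C] [Algebra k C] (h : B →ₐ[k] C)
    (f : WithConv (A →ₐ[k] B)) (n : ℕ) :
    h.comp (f ^ n).ofConv = ((toConv (h.comp f.ofConv)) ^ n).ofConv := by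
  induction n with
  | zero => exact AlgHom.ext fun a => h.commutes _
  | succ n ih => rw [pow_succ, pow_succ, AlgHom.comp_convMul_distrib, ih, toConv_ofConv]

theorem powConv_comp' (m n : ℕ) :
    (SGA3b.powConv k A m).comp (SGA3b.powConv k A n) = SGA3b.powConv k A (m * n) := by
  rw [SGA3b.powConv, SGA3b.powConv, comp_pow', ofConv_toConv, AlgHom.comp_id, toConv_ofConv, ← pow_mul,
    SGA3b.powConv]

theorem counit_powConv' (n : ℕ) (a : A) :
    Coalgebra.counit (R := k) (SGA3b.powConv k A n a) = Coalgebra.counit (R := k) a := by
  show Bialgebra.counitAlgHom k A _ = Bialgebra.counitAlgHom k A a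
  rw [← AlgHom.comp_apply, SGA3b.powConv, comp_pow', ofConv_toConv, AlgHom.comp_id]
  have : toConv (Bialgebra.counitAlgHom k A) = (1 : WithConv (A →ₐ[k] k)) :=
    WithConv.ofConv_injective (AlgHom.ext fun _ => rfl)
  rw [this, one_pow]
  rfl

variable (p : ℕ) [Fact p.Prime] [CharP k p]

theorem relFrob_tmul' [CharP A p] (b : A) (s : FrobAlg.Twist p k) :
    FrobAlg.relFrob p k A (b ⊗ₜ s) = b ^ p * algebraMap k A ((FrobAlg.toTwist p k).symm s) := by
  simp [FrobAlg.relFrob, FrobAlg.frobHom, FrobAlg.inclHom, Algebra.TensorProduct.lift_tmul]
  rfl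

variable [Coalgebra.IsCocomm k A] [Module.Finite k A]

/-- The `p`-th power map is the Frobenius composed with the Verschiebung. -/
theorem powConv_eq_relFrob_comp [CharP A p] (v : A →+* FrobAlg.BaseChange p k A)
    (hv : Versch.IsVerschiebung p k A v) (a : A) :
    SGA3b.powConv k A p a = FrobAlg.relFrob p k A (v a) := by
  classical
  let e := Module.finBasis k A
  let x : Fin (Module.finrank k A) → CartDual.D k A := fun j => toConv (e.coord j)
  let c : Fin (Module.finrank k A) → WithConv (A →ₗ[k] A) := fun j => toConv ((e.coord j).smulRight (e j))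
  have hid : ∑ j, c j = toConv LinearMap.id := by
    apply WithConv.ofConv_injective
    ext b
    simp only [c, WithConv.ofConv_sum, LinearMap.coe_sum, Finset.sum_apply, ofConv_toConv,
      LinearMap.smulRight_apply, Module.Basis.coord_apply, LinearMap.id_apply]
    exact e.sum_repr b
  have hmul : ∀ (f g : CartDual.D k A) (u w : A),
      toConv (f.ofConv.smulRight u) * toConv (g.ofConv.smulRight w) =
        toConv ((f * g).ofConv.smulRight (u * w)) := by
    intro f g u w
    apply WithConv.ofConv_injective
    refine LinearMap.ext fun b => ?_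
    simp only [ofConv_toConv, LinearMap.smulRight_apply]
    rw [LinearMap.convMul_apply, LinearMap.convMul_apply]
    generalize Coalgebra.comul (R := k) b = t
    induction t using TensorProduct.induction_on with
    | zero => simp
    | add t t' ht ht' => simp only [map_add, add_smul, ht, ht']
    | tmul b b' => simp [smul_smul, mul_comm]
  have hpow : ∀ (j : Fin (Module.finrank k A)) (m : ℕ),
      c j ^ m = toConv ((x j ^ m).ofConv.smulRight (e j ^ m)) := by
    intro j m
    induction m with
    | zero =>
      apply WithConv.ofConv_injective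
      refine LinearMap.ext fun b => ?_
      simp only [pow_zero, ofConv_toConv, LinearMap.smulRight_apply, LinearMap.convOne_apply]
      rw [Algebra.algebraMap_eq_smul_one]
      simp
    | succ m ih => rw [pow_succ, ih, pow_succ, pow_succ, ← hmul]
  haveI : Nontrivial A := Function.Surjective.nontrivial (f := Coalgebra.counit (R := k) (A := A))
    (fun r => ⟨algebraMap k A r, by simp⟩)
  haveI : CharP (WithConv (A →ₗ[k] A)) p :=
    charP_of_injective_algebraMap (R := k) (fun r s h => by
      have h1 := congrArg (fun f : WithConv (A →ₗ[k] A) => f.ofConv 1) h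
      have h2 : algebraMap k A r = algebraMap k A s := by
        simpa [LinearMap.convAlgebraMap_apply, Algebra.algebraMap_eq_smul_one] using h1
      exact (algebraMap k A).injective h2) p
  have hL : SGA3b.powConv k A p a = ∑ j, (x j ^ p) a • e j ^ p := by
    have h := congrArg (fun f : WithConv (A →ₗ[k] A) => f.ofConv a)
      (AlgHom.toLinearMap_convPow (toConv (AlgHom.id k A)) p)
    simp only [ofConv_toConv] at h
    rw [show SGA3b.powConv k A p a = _ from h]
    rw [show toConv (AlgHom.id k A).toLinearMap = ∑ j, c j from hid.symm, sum_pow_char]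
    simp only [hpow, WithConv.ofConv_sum, LinearMap.coe_sum, Finset.sum_apply, ofConv_toConv,
      LinearMap.smulRight_apply]
  have hva : v a = ∑ j, (e j) ⊗ₜ[k] FrobAlg.toTwist p k ((x j ^ p) a) := by
    apply Versch.evTw_injective p k A
    intro y
    rw [(Versch.isVerschiebung_iff p k A v).1 hv, map_sum]
    have hy : y = ∑ j, y (e j) • x j := by
      apply WithConv.ofConv_injective
      refine e.ext fun i => ?_
      simp [x, CartDual.coe_apply, WithConv.ofConv_sum, Finsupp.single_apply]
    conv_lhs => rw [hy, sum_pow_char]
    simp only [CartDual.coe_apply, WithConv.ofConv_sum, LinearMap.coe_sum, Finset.sum_apply, map_sum,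
      smul_pow, WithConv.ofConv_smul, LinearMap.smul_apply, smul_eq_mul, Versch.evTw_tmul', map_mul]
  rw [hL, hva, map_sum]
  refine Finset.sum_congr rfl fun j _ => ?_
  rw [relFrob_tmul', RingEquiv.symm_apply_apply, Algebra.smul_def, mul_comm]

end aux

/-- Over a field and for one finite level, let k be a field of characteristic p > 0 and G = Spec A a
finite commutative k-group scheme (A a finite-dimensional commutative cocommutative Hopf algebra)
killed by p^n, i.e. the p^n-th power map of G is the trivial homomorphism, and suppose the
Verschiebung of G is an isomorphism (the ring map v : A → A ⊗_k k^(p) characterised as the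
Verschiebung is bijective). Then G is infinitesimal, more precisely the n-th iterate of its
Frobenius is trivial: a^(p^n) = 0 for every a in the augmentation ideal. (The source states this for
the p^n-torsion levels of a p-divisible group of multiplicative type over any scheme of
characteristic p and reduces to a field fibre by fibre; it also records that the Cartier dual has
unipotent fibres, which is not stated here.) -/
theorem result
    (p : ℕ) [Fact p.Prime] (k : Type u) [Field k] [CharP k p]
    (A : Type u) [CommRing A] [HopfAlgebra k A] [Coalgebra.IsCocomm k A] [Module.Finite k A]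
    (n : ℕ)
    (hn : SGA3b.powConv k A (p ^ n) = (Algebra.ofId k A).comp (Bialgebra.counitAlgHom k A))
    (v : A →+* FrobAlg.BaseChange p k A) (hv : Versch.IsVerschiebung p k A v)
    (hbij : Function.Bijective v)
    (a : A) (ha : Coalgebra.counit (R := k) a = 0) : a ^ (p ^ n) = 0 := by
  haveI : Nontrivial A := Function.Surjective.nontrivial (f := Coalgebra.counit (R := k) (A := A))
    (fun r => ⟨algebraMap k A r, by simp⟩)
  haveI : CharP A p := charP_of_injective_algebraMap (algebraMap k A).injective p
  have h1 : ∀ b : A, ∃ a', SGA3b.powConv k A p a' = b ^ p := fun b => by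
    obtain ⟨a', ha'⟩ := hbij.2 (b ⊗ₜ 1)
    exact ⟨a', by rw [powConv_eq_relFrob_comp p v hv, ha', relFrob_tmul', map_one, map_one, mul_one]⟩
  have hm : ∀ m (b : A), ∃ a', SGA3b.powConv k A (p ^ m) a' = b ^ (p ^ m) := by
    intro m
    induction m with
    | zero =>
      intro b
      exact ⟨b, by simp [SGA3b.powConv]⟩
    | succ m ih =>
      intro b
      obtain ⟨a₁, ha₁⟩ := ih b
      obtain ⟨a', ha'⟩ := h1 a₁
      refine ⟨a', ?_⟩
      rw [pow_succ, ← powConv_comp', AlgHom.comp_apply, ha', map_pow, ha₁, ← pow_mul]
  obtain ⟨a', ha'⟩ := hm n a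
  have h := congrArg (Coalgebra.counit (R := k)) ha'
  rw [counit_powConv', Bialgebra.counit_pow, ha,
    zero_pow (pow_ne_zero _ (Fact.out (p := p.Prime)).ne_zero)] at h
  rw [← ha', hn, AlgHom.comp_apply]
  show algebraMap k A (Coalgebra.counit (R := k) a') = 0
  rw [h, map_zero]

end Groth.Agent.S19384
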