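import Groth.Statements.S19390
import Mathlib
-- import your own Groth.Agent.* helpers here

set_option autoImplicit false
universe u
open GIT

namespace Groth.Agent.S19390

/-- A listing of any finite set with equal values contiguous. -/
theorem grouped {ι : Type*} [Fintype ι] {α : Type u} [DecidableEq α] (f : ι → α) {N : ℕ} (hN : Fintype.card ι = N) :
    ∃ σ : Fin N ≃ ι, ∀ a b c : Fin N, a ≤ b → b ≤ c → f (σ a) = f (σ c) → f (σ b) = f (σ a) := by
  classical
  let g : ι → ℕ := fun i => (Fintype.equivFin (Set.range f) ⟨f i, i, rfl⟩ : ℕ)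
  have hg : ∀ i j, g i = g j → f i = f j := fun i j h => by
    have := (Fintype.equivFin (Set.range f)).injective (Fin.ext h)
    exact congrArg Subtype.val this
  let e : Fin N ≃ ι := (Fintype.equivFinOfCardEq hN).symm
  refine ⟨(Tuple.sort (g ∘ e)).trans e, fun a b c hab hbc h => hg _ _ ?_⟩
  have hm := Tuple.monotone_sort (g ∘ e)
  have h1 : g (e (Tuple.sort (g ∘ e) a)) ≤ g (e (Tuple.sort (g ∘ e) b)) := hm hab
  have h2 : g (e (Tuple.sort (g ∘ e) b)) ≤ g (e (Tuple.sort (g ∘ e) c)) := hm hbc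
  have h3 : g (e (Tuple.sort (g ∘ e) a)) = g (e (Tuple.sort (g ∘ e) c)) := by
    simp only [g]; congr 2; exact Subtype.ext h
  show g (e (Tuple.sort (g ∘ e) b)) = g (e (Tuple.sort (g ∘ e) a))
  omega

/-- The three indices of a triangle. -/
theorem triangle {α : Type u} [DecidableEq α] {e : ℕ} (he : 1 ≤ e) (x : Fin (2 * e + 1) → α)
    (hx : ∀ a : α, (Finset.univ.filter fun k => x k = a).card ≤ e) :
    ∃ a b c : Fin (2 * e + 1), x a ≠ x b ∧ x b ≠ x c ∧ x c ≠ x a ∧
      ∀ v, (Finset.univ.filter fun k => (k ≠ a ∧ k ≠ b ∧ k ≠ c) ∧ x k = v).card + 1 ≤ e := by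
  classical
  let m : α → ℕ := fun v => (Finset.univ.filter fun k => x k = v).card
  have tot : ∀ T : Finset α, ∑ v ∈ T, m v ≤ 2 * e + 1 := fun T => by
    rw [← Finset.card_biUnion (fun v _ w _ hvw => Finset.disjoint_left.2 fun k h1 h2 => hvw ((Finset.mem_filter.1 h1).2.symm.trans (Finset.mem_filter.1 h2).2))]
    exact (Finset.card_le_univ _).trans_eq (Fintype.card_fin _)
  -- a most frequent value avoiding a given set
  have pick : ∀ T : Finset α, T.card ≤ 2 → ∃ k, x k ∉ T ∧ ∀ j, x j ∉ T → m (x j) ≤ m (x k) := by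
    intro T hT
    have hne : (Finset.univ.filter fun k => x k ∉ T).Nonempty := by
      rw [← Finset.card_pos]
      have h1 := Finset.card_filter_add_card_filter_not (s := Finset.univ) (fun k => x k ∈ T)
      have h2 : (Finset.univ.filter fun k => x k ∈ T).card ≤ T.card * e := by
        refine (Finset.card_eq_sum_card_fiberwise (s := Finset.univ.filter fun k => x k ∈ T) (f := x) (t := T) (fun k hk => (Finset.mem_filter.1 hk).2)).trans_le ?_
        refine (Finset.sum_le_card_nsmul _ _ e fun v _ => le_trans (Finset.card_le_card (fun k hk => by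
          simp only [Finset.mem_filter] at hk ⊢; exact ⟨Finset.mem_univ _, hk.2⟩)) (hx v)).trans_eq (smul_eq_mul _ _)
      simp only [Finset.card_univ, Fintype.card_fin] at h1
      have h3 : T.card * e ≤ 2 * e := Nat.mul_le_mul_right e hT
      omega
    obtain ⟨k, hk, hmax⟩ := Finset.exists_max_image _ (fun k => m (x k)) hne
    exact ⟨k, (Finset.mem_filter.1 hk).2, fun j hj => hmax j (Finset.mem_filter.2 ⟨Finset.mem_univ _, hj⟩)⟩
  obtain ⟨a, -, ha⟩ := pick ∅ (by simp)
  obtain ⟨b, hb', hb⟩ := pick {x a} (by simp)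
  obtain ⟨c, hc', hc⟩ := pick {x a, x b} Finset.card_le_two
  simp only [Finset.mem_singleton, Finset.mem_insert, not_or, Finset.notMem_empty, not_false_eq_true] at hb' hc' ha hb hc
  refine ⟨a, b, c, Ne.symm hb', Ne.symm hc'.2, hc'.1, fun v => ?_⟩
  by_cases hv : v = x a ∨ v = x b ∨ v = x c
  · obtain ⟨w, hw, hwv⟩ : ∃ w, (w = a ∨ w = b ∨ w = c) ∧ x w = v := by
      rcases hv with h | h | h
      · exact ⟨a, Or.inl rfl, h.symm⟩
      · exact ⟨b, Or.inr (Or.inl rfl), h.symm⟩
      · exact ⟨c, Or.inr (Or.inr rfl), h.symm⟩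
    refine le_trans ?_ (hx v)
    rw [Nat.succ_le_iff]
    refine Finset.card_lt_card ⟨fun k hk => ?_, fun h => ?_⟩
    · simp only [Finset.mem_filter] at hk ⊢; exact ⟨hk.1, hk.2.2⟩
    · have := h (Finset.mem_filter.2 ⟨Finset.mem_univ w, hwv⟩)
      simp only [Finset.mem_filter] at this
      rcases hw with rfl | rfl | rfl <;> simp at this
  · push_neg at hv
    refine le_trans (Nat.succ_le_succ (Finset.card_le_card (t := Finset.univ.filter fun k => x k = v) (fun k hk => by
      simp only [Finset.mem_filter] at hk ⊢; exact ⟨hk.1, hk.2.2⟩))) ?_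
    by_contra hlt
    push_neg at hlt
    by_cases hj : ∃ j, x j = v
    · obtain ⟨j, rfl⟩ := hj
      have h4 := tot {x j, x a, x b, x c}
      rw [Finset.sum_insert (by simp [hv.1, hv.2.1, hv.2.2]), Finset.sum_insert (by simp [Ne.symm hb', Ne.symm hc'.1]),
        Finset.sum_pair (Ne.symm hc'.2)] at h4
      have h5 : m (x j) ≤ m (x a) := by first | exact ha j | exact ha j trivial | simpa using ha j
      have h6 := hb j hv.1
      have h7 := hc j ⟨hv.1, hv.2.1⟩
      simp only [m] at h4 h5 h6 h7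
      omega
    · rw [Finset.card_eq_zero.2 (Finset.filter_eq_empty_iff.2 fun j _ hj' => hj ⟨j, hj'⟩)] at hlt
      omega


/-- Let e ≥ 1, n = 2e + 1, and let x_1, …, x_n be points such that no point occurs more than e times
among them (the stability condition for n ordered points on a line, n odd). Then there are index
sequences i_1, …, i_n and j_1, …, j_n in which every index between 1 and n occurs exactly twice in
total, such that x_{i_k} ≠ x_{j_k} for every k and (i_1, i_2, i_3) = (j_3, j_1, j_2). Indices are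
written 0, …, n − 1 here. -/
theorem result {α : Type u} [DecidableEq α] (e : ℕ) (he : 1 ≤ e)
    (x : Fin (2 * e + 1) → α)
    (hx : ∀ a : α, (Finset.univ.filter fun k => x k = a).card ≤ e) :
    ∃ i j : Fin (2 * e + 1) → Fin (2 * e + 1),
      (∀ m : Fin (2 * e + 1),
        (Finset.univ.filter fun k => i k = m).card + (Finset.univ.filter fun k => j k = m).card = 2) ∧
      (∀ k, x (i k) ≠ x (j k)) ∧
      i 0 = j 2 ∧ i 1 = j 0 ∧ i 2 = j 1 := by
  classical
  obtain ⟨a, b, c, hab, hbc, hca, hcnt⟩ := triangle he x hx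
  obtain ⟨f, rfl⟩ : ∃ f, e = f + 1 := ⟨e - 1, by omega⟩
  let ι := {k : Fin (2 * (f + 1) + 1) // k ≠ a ∧ k ≠ b ∧ k ≠ c}
  have hab' : a ≠ b := fun h => hab (congrArg x h)
  have hbc' : b ≠ c := fun h => hbc (congrArg x h)
  have hca' : c ≠ a := fun h => hca (congrArg x h)
  have hι : Fintype.card ι = 2 * f := by
    rw [Fintype.card_subtype]
    have hs : (Finset.univ.filter fun k => k ≠ a ∧ k ≠ b ∧ k ≠ c) = ({a, b, c} : Finset (Fin (2 * (f + 1) + 1)))ᶜ := by
      ext k; simp
    rw [hs, Finset.card_compl, Fintype.card_fin, Finset.card_eq_three.2 ⟨a, b, c, hab', hca'.symm, hbc', rfl⟩]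
    omega
  obtain ⟨σ, hσ⟩ := grouped (fun k : ι => x k.1) hι
  have hdist : ∀ s t : Fin (2 * f), (t : ℕ) = s + f → x (σ s).1 ≠ x (σ t).1 := by
    intro s t hst h
    have hsub : (Finset.Icc s t).map (σ.toEmbedding.trans (Function.Embedding.subtype _)) ⊆
        Finset.univ.filter fun k => (k ≠ a ∧ k ≠ b ∧ k ≠ c) ∧ x k = x (σ s).1 := by
      intro k hk
      obtain ⟨l, hl, rfl⟩ := Finset.mem_map.1 hk
      rw [Finset.mem_Icc] at hl
      exact Finset.mem_filter.2 ⟨Finset.mem_univ _, (σ l).2, hσ s l t hl.1 hl.2 h⟩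
    have h1 := (Finset.card_le_card hsub).trans (Nat.le_of_succ_le_succ (hcnt (x (σ s).1)))
    rw [Finset.card_map, Fin.card_Icc, hst] at h1
    omega
  -- the listings
  let I : Fin (2 * (f + 1) + 1) → Fin (2 * (f + 1) + 1) := fun k =>
    if h0 : (k : ℕ) = 0 then a else if h1 : (k : ℕ) = 1 then b else if h2 : (k : ℕ) = 2 then c
    else (σ ⟨k - 3, by omega⟩).1
  have hInj : Function.Injective I := by
    intro k l h
    have hσne : ∀ q : Fin (2 * f), (σ q).1 ≠ a ∧ (σ q).1 ≠ b ∧ (σ q).1 ≠ c := fun q => (σ q).2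
    simp only [I] at h
    split_ifs at h
    all_goals first
      | exact Fin.ext (by omega)
      | exact absurd h hab'
      | exact absurd h hab'.symm
      | exact absurd h hbc'
      | exact absurd h hbc'.symm
      | exact absurd h hca'
      | exact absurd h hca'.symm
      | exact absurd h (hσne _).1
      | exact absurd h.symm (hσne _).1
      | exact absurd h (hσne _).2.1
      | exact absurd h.symm (hσne _).2.1
      | exact absurd h (hσne _).2.2
      | exact absurd h.symm (hσne _).2.2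
      | (have := congrArg Fin.val (σ.injective (Subtype.ext h)); exact Fin.ext (by simp only at this; omega))
  let τ : Fin (2 * (f + 1) + 1) → Fin (2 * (f + 1) + 1) := fun k =>
    if (k : ℕ) = 0 then ⟨1, by omega⟩ else if (k : ℕ) = 1 then ⟨2, by omega⟩ else if (k : ℕ) = 2 then ⟨0, by omega⟩
    else if h3 : (k : ℕ) < 3 + f then ⟨k + f, by omega⟩ else ⟨k - f, by omega⟩
  have τinj : Function.Injective τ := by
    intro k l h
    apply Fin.ext
    simp only [τ] at h
    split_ifs at h <;> simp only [Fin.ext_iff] at h <;> omega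
  have hcard : ∀ (F : Fin (2 * (f + 1) + 1) → Fin (2 * (f + 1) + 1)), Function.Injective F → ∀ m,
      (Finset.univ.filter fun k => F k = m).card = 1 := by
    intro F hF m
    obtain ⟨k, rfl⟩ := (Finite.injective_iff_surjective.1 hF) m
    exact Finset.card_eq_one.2 ⟨k, by ext l; simp [hF.eq_iff]⟩
  refine ⟨I, I ∘ τ, fun m => by rw [hcard I hInj m, hcard _ (hInj.comp τinj) m], fun k => ?_, ?_, ?_, ?_⟩
  · simp only [I, τ, Function.comp_apply]
    rcases (show (k : ℕ) = 0 ∨ (k : ℕ) = 1 ∨ (k : ℕ) = 2 ∨ (3 ≤ (k : ℕ) ∧ (k : ℕ) < 3 + f) ∨ 3 + f ≤ (k : ℕ) by omega)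
      with h | h | h | h | h
    · simp [h]; exact hab
    · simp [h]; exact hbc
    · simp [h]; exact hca
    · simp only [show (k : ℕ) ≠ 0 by omega, show (k : ℕ) ≠ 1 by omega, show (k : ℕ) ≠ 2 by omega, h.2, if_true, if_false, dite_true, dite_false,
        show (k : ℕ) + f ≠ 0 by omega, show (k : ℕ) + f ≠ 1 by omega, show (k : ℕ) + f ≠ 2 by omega]
      exact hdist _ _ (by simp only; omega)
    · have hk := k.2
      simp only [show (k : ℕ) ≠ 0 by omega, show (k : ℕ) ≠ 1 by omega, show (k : ℕ) ≠ 2 by omega, show ¬ (k : ℕ) < 3 + f by omega, if_false, dite_false,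
        show (k : ℕ) - f ≠ 0 by omega, show (k : ℕ) - f ≠ 1 by omega, show (k : ℕ) - f ≠ 2 by omega]
      exact (hdist _ _ (by simp only; omega)).symm
  all_goals
    have h2v : ((2 : Fin (2 * (f + 1) + 1)) : ℕ) = 2 := Nat.mod_eq_of_lt (show 2 < 2 * (f + 1) + 1 by omega)
    have h1v : ((1 : Fin (2 * (f + 1) + 1)) : ℕ) = 1 := Nat.mod_eq_of_lt (show 1 < 2 * (f + 1) + 1 by omega)
    have h0v : ((0 : Fin (2 * (f + 1) + 1)) : ℕ) = 0 := rfl
    have e0 : τ 0 = 1 := Fin.ext (by simp only [τ]; rw [if_pos h0v]; exact h1v.symm)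
    have e1 : τ 1 = 2 := Fin.ext (by simp only [τ]; rw [if_neg (by rw [h1v]; omega), if_pos h1v]; exact h2v.symm)
    have e2 : τ 2 = 0 := Fin.ext (by simp only [τ]; rw [if_neg (by rw [h2v]; omega), if_neg (by rw [h2v]; omega), if_pos h2v]; rfl)
    simp only [Function.comp_apply, e0, e1, e2]

end Groth.Agent.S19390
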