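import Groth.Statements.S19391
import Mathlib
-- import your own Groth.Agent.* helpers here

set_option autoImplicit false
universe u
open InvQ

namespace Groth.Agent.S19391

/-- For a binary quartic written as a product of four linear forms μ_i X₀ − λ_i X₁, with coefficients
a_0, …, a_4, the discriminant D = ∏_{i<j} (λ_j μ_i − λ_i μ_j)² is a constant multiple of P³ − 6Q²
for the two basic invariants P, Q. With the integral normalisation I = 6P = 12a₀a₄ − 3a₁a₃ + a₂², J
= 72Q = 72a₀a₂a₄ + 9a₁a₂a₃ − 27a₀a₃² − 27a₁²a₄ − 2a₂³ used here, the identity reads 27 D = 4 I³ − J²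
(so the constant is 32: D = 32 (P³ − 6Q²)); it is stated over an arbitrary commutative ring. -/
theorem result (R : Type u) [CommRing R] (la mu : Fin 4 → R) :
    27 * W4c6intromoduli.disc la mu =
      4 * W4c6intromoduli.invI (W4c6intromoduli.coef la mu) ^ 3
        - W4c6intromoduli.invJ (W4c6intromoduli.coef la mu) ^ 2 := by
  obtain ⟨h0, h1, h2, h3, h4⟩ :
      W4c6intromoduli.coef la mu 0 = mu 0 * mu 1 * mu 2 * mu 3 ∧
      W4c6intromoduli.coef la mu 1 = -(la 0 * mu 1 * mu 2 * mu 3 + mu 0 * la 1 * mu 2 * mu 3 + mu 0 * mu 1 * la 2 * mu 3 + mu 0 * mu 1 * mu 2 * la 3) ∧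
      W4c6intromoduli.coef la mu 2 = la 0 * la 1 * mu 2 * mu 3 + la 0 * mu 1 * la 2 * mu 3 + la 0 * mu 1 * mu 2 * la 3 + mu 0 * la 1 * la 2 * mu 3 + mu 0 * la 1 * mu 2 * la 3 + mu 0 * mu 1 * la 2 * la 3 ∧
      W4c6intromoduli.coef la mu 3 = -(mu 0 * la 1 * la 2 * la 3 + la 0 * mu 1 * la 2 * la 3 + la 0 * la 1 * mu 2 * la 3 + la 0 * la 1 * la 2 * mu 3) ∧
      W4c6intromoduli.coef la mu 4 = la 0 * la 1 * la 2 * la 3 := by
    have hp : ∀ (p : Polynomial R) (a b : R) (m : ℕ),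
        ((Polynomial.C a - Polynomial.C b * Polynomial.X) * p).coeff (m + 1) = a * p.coeff (m + 1) - b * p.coeff m := by
      intro p a b m
      simp [sub_mul, mul_assoc, Polynomial.coeff_X_mul]
    have hp0 : ∀ (p : Polynomial R) (a b : R),
        ((Polynomial.C a - Polynomial.C b * Polynomial.X) * p).coeff 0 = a * p.coeff 0 := by
      intro p a b
      simp [sub_mul, mul_assoc]
    refine ⟨?_, ?_, ?_, ?_, ?_⟩ <;>
      (simp [W4c6intromoduli.coef, W4c6intromoduli.rootPoly, Fin.prod_univ_four, mul_assoc, hp, hp0,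
        Polynomial.coeff_C, Polynomial.coeff_X]) <;> ring
  have hd : (Finset.univ.filter fun p : Fin 4 × Fin 4 => p.1 < p.2) = {(0, 1), (0, 2), (0, 3), (1, 2), (1, 3), (2, 3)} := by decide
  rw [W4c6intromoduli.disc, hd, W4c6intromoduli.invI, W4c6intromoduli.invJ, h0, h1, h2, h3, h4]
  simp only [Finset.prod_insert (by decide : ((0, 1) : Fin 4 × Fin 4) ∉ ({(0, 2), (0, 3), (1, 2), (1, 3), (2, 3)} : Finset (Fin 4 × Fin 4))),
    Finset.prod_insert (by decide : ((0, 2) : Fin 4 × Fin 4) ∉ ({(0, 3), (1, 2), (1, 3), (2, 3)} : Finset (Fin 4 × Fin 4))),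
    Finset.prod_insert (by decide : ((0, 3) : Fin 4 × Fin 4) ∉ ({(1, 2), (1, 3), (2, 3)} : Finset (Fin 4 × Fin 4))),
    Finset.prod_insert (by decide : ((1, 2) : Fin 4 × Fin 4) ∉ ({(1, 3), (2, 3)} : Finset (Fin 4 × Fin 4))),
    Finset.prod_insert (by decide : ((1, 3) : Fin 4 × Fin 4) ∉ ({(2, 3)} : Finset (Fin 4 × Fin 4))),
    Finset.prod_singleton]
  ring

end Groth.Agent.S19391
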