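import Groth.Statements.S19395
import Groth.Agent.H60.SemisimplePart
-- import your own Groth.Agent.* helpers here

set_option autoImplicit false
universe u
open InvQ

namespace Groth.Agent.S19395

/-- Over an algebraically closed field, the Zariski closures of the conjugation orbits of two square
matrices B₁, B₂ meet if and only if their semisimple parts lie in one orbit. The semisimple parts
are given as S_i with B_i = S_i + N_i, S_i semisimple, N_i nilpotent, S_i N_i = N_i S_i; a common
point of the two closures is a matrix C at which every polynomial in the matrix entries vanishing on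
the whole orbit of B₁, and every one vanishing on the whole orbit of B₂, vanishes. -/
theorem result (k : Type u) [Field k] [IsAlgClosed k]
    (n : ℕ) (B₁ S₁ N₁ B₂ S₂ N₂ : Matrix (Fin n) (Fin n) k)
    (hS₁ : Module.End.IsSemisimple (Matrix.toLin' S₁)) (hN₁ : IsNilpotent N₁) (hc₁ : Commute S₁ N₁)
    (hB₁ : B₁ = S₁ + N₁)
    (hS₂ : Module.End.IsSemisimple (Matrix.toLin' S₂)) (hN₂ : IsNilpotent N₂) (hc₂ : Commute S₂ N₂)
    (hB₂ : B₂ = S₂ + N₂) :
    (∃ C : Matrix (Fin n) (Fin n) k,
        (∀ F : MvPolynomial (Fin n × Fin n) k,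
          (∀ A : Matrix (Fin n) (Fin n) k, IsUnit A.det →
            MvPolynomial.eval (fun p => (A * B₁ * A⁻¹) p.1 p.2) F = 0) →
          MvPolynomial.eval (fun p => C p.1 p.2) F = 0) ∧
        (∀ F : MvPolynomial (Fin n × Fin n) k,
          (∀ A : Matrix (Fin n) (Fin n) k, IsUnit A.det →
            MvPolynomial.eval (fun p => (A * B₂ * A⁻¹) p.1 p.2) F = 0) →
          MvPolynomial.eval (fun p => C p.1 p.2) F = 0)) ↔
      ∃ A : Matrix (Fin n) (Fin n) k, IsUnit A.det ∧ A * S₁ * A⁻¹ = S₂ := by
  have hm₁ := fun F hF => Groth.Agent.H60.SemisimplePart.mem_closure hS₁ hN₁ hc₁ hB₁ F hF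
  have hm₂ := fun F hF => Groth.Agent.H60.SemisimplePart.mem_closure hS₂ hN₂ hc₂ hB₂ F hF
  constructor
  · rintro ⟨C, h1, h2⟩
    refine Groth.Agent.H60.SemisimplePart.exists_conj hS₁ hS₂ ?_
    rw [Groth.Agent.H60.SemisimplePart.charpoly_eq_of_closure hm₁,
      Groth.Agent.H60.SemisimplePart.charpoly_eq_of_closure hm₂,
      ← Groth.Agent.H60.SemisimplePart.charpoly_eq_of_closure h1,
      ← Groth.Agent.H60.SemisimplePart.charpoly_eq_of_closure h2]
  · rintro ⟨A, hA, hAS⟩
    refine ⟨S₂, fun F hF => ?_, hm₂⟩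
    let G : Matrix (Fin n) (Fin n) (MvPolynomial (Fin n × Fin n) k) :=
      A.map MvPolynomial.C * Matrix.mvPolynomialX (Fin n) (Fin n) k * A⁻¹.map MvPolynomial.C
    have hG : ∀ M : Matrix (Fin n) (Fin n) k,
        MvPolynomial.eval (fun p => M p.1 p.2) (MvPolynomial.aeval (fun p => G p.1 p.2) F) =
          MvPolynomial.eval (fun p => (A * M * A⁻¹) p.1 p.2) F := fun M => by
      have h := AlgHom.congr_fun (MvPolynomial.algHom_ext
        (f := (MvPolynomial.aeval fun p : Fin n × Fin n => M p.1 p.2).comp (MvPolynomial.aeval fun p : Fin n × Fin n => G p.1 p.2))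
        (g := MvPolynomial.aeval fun p : Fin n × Fin n => (A * M * A⁻¹) p.1 p.2) fun p => by
          simp [G, Matrix.mul_apply, Matrix.mvPolynomialX_apply]) F
      simpa [MvPolynomial.aeval_eq_eval] using h
    have := hm₁ (MvPolynomial.aeval (fun p => G p.1 p.2) F) fun A' hA' => by
      rw [hG]
      have := hF (A * A') (by rw [Matrix.det_mul]; exact hA.mul hA')
      rwa [Matrix.mul_inv_rev, ← Matrix.mul_assoc, Matrix.mul_assoc A A' B₁, Matrix.mul_assoc A (A' * B₁) A'⁻¹] at this
    rwa [hG, hAS] at this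

end Groth.Agent.S19395
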