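import Groth.Statements.S19397
import Groth.Agent.Lib.FunFld.Elliptic
import Groth.Agent.Lib.FunFld.Auto
import Mathlib.RingTheory.AdjoinRoot
import Mathlib.RingTheory.RootsOfUnity.AlgebraicallyClosed
import Mathlib.FieldTheory.RatFunc.AsPolynomial
import Mathlib.Algebra.Polynomial.SpecificDegree

set_option autoImplicit false
universe u v
open FunFld

namespace Groth.Agent.S19397

open Groth.Agent.Lib.FunFld in
theorem ord_aeval {k : Type*} [Field k] {K : Type*} [Field K] [Algebra k K] (P : _root_.FunFld.Place k K)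
    {x : K} (hx : P.ord x = -2) {g : Polynomial k} (hg : g ≠ 0) :
    P.ord (Polynomial.aeval x g) = -2 * (g.natDegree : ℤ) := by
  have hx0 : x ≠ 0 := Elliptic.ne_zero_of_ord P (by omega)
  have hterm : ∀ i, g.coeff i ≠ 0 → P.1 (algebraMap k K (g.coeff i) * x ^ i) = WithZero.exp ((i : ℤ) * 2) := fun i hi => by
    rw [map_mul, Place.val_algebraMap P hi, one_mul, map_pow, Place.val_eq_exp P hx0, hx, ← WithZero.exp_nsmul, nsmul_eq_mul]
    simp
  have hlead : g.coeff g.natDegree ≠ 0 := by simpa using hg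
  refine (Place.ord_eq_of_val_eq_exp P (n := (g.natDegree : ℤ) * 2) ?_).trans (by ring)
  rw [Polynomial.aeval_eq_sum_range, Finset.sum_range_succ, Algebra.smul_def, Valuation.map_add_eq_of_lt_right,
    hterm _ hlead]
  refine Valuation.map_sum_lt _ (by rw [hterm _ hlead]; exact WithZero.exp_ne_zero) fun i hi => ?_
  rw [Algebra.smul_def, hterm _ hlead]
  by_cases h0 : g.coeff i = 0
  · rw [h0, map_zero, zero_mul, map_zero]; exact WithZero.exp_pos
  · rw [hterm i h0, WithZero.exp_lt_exp]
    have := Finset.mem_range.1 hi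
    have : (i : ℤ) + 1 ≤ g.natDegree := by exact_mod_cast this
    omega

open Classical in
/-- Over an algebraically closed field of characteristic different from 2 and 3, the automorphism group
of an elliptic curve (automorphisms fixing the base point) with invariant j has order 2 if j ≠ 0,
12³, order 4 if j = 12³ and order 6 if j = 0. Stated for the function field K/k of the curve: K of
genus 1 generated by x, y with y² = x³ + a x + b and 4a³ + 27b² ≠ 0, P the place where x has its
double and y its triple pole (and no other poles), so that j = 12³ · 4a³/(4a³ + 27b²) and the three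
cases are a, b ≠ 0; b = 0; a = 0; the automorphisms are the k-algebra automorphisms of K preserving
the valuation of P. -/
theorem result (k : Type u) (K : Type v) [Field k]
    [IsAlgClosed k] [Field K] [Algebra k K] (h2 : (2 : k) ≠ 0) (h3 : (3 : k) ≠ 0)
    (hK : FunFld.IsFunctionField k K) (hgen : FunFld.genus k K = 1) (P : FunFld.Place k K)
    (a b : k) (hdisc : 4 * a ^ 3 + 27 * b ^ 2 ≠ 0) (x y : K)
    (heq : y ^ 2 = x ^ 3 + algebraMap k K a * x + algebraMap k K b)
    (hxy : IntermediateField.adjoin k ({x, y} : Set K) = ⊤)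
    (hx : x ∈ FunFld.L (Finsupp.single P 2)) (hx2 : P.ord x = -2)
    (hy : y ∈ FunFld.L (Finsupp.single P 3)) (hy3 : P.ord y = -3) :
    Nat.card {σ : K ≃ₐ[k] K // ∀ z : K, P.1 (σ z) = P.1 z} =
      if a = 0 then 6 else if b = 0 then 4 else 2 := by
  have hP : P.deg = 1 := Groth.Agent.Lib.FunFld.Rational.deg_eq_one hK P
  have hx0 : x ≠ 0 := Groth.Agent.Lib.FunFld.Elliptic.ne_zero_of_ord P (by omega)
  have hy0 : y ≠ 0 := Groth.Agent.Lib.FunFld.Elliptic.ne_zero_of_ord P (by omega)
  have hb : a = 0 → b ≠ 0 := fun ha hb => hdisc (by rw [ha, hb]; ring)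
  let cst := algebraMap k K
  -- independence of the monomials
  have hLI : ∀ c : Fin 6 → k, cst (c 0) + cst (c 1) * x + cst (c 2) * x ^ 2 + cst (c 3) * x ^ 3 + cst (c 4) * y +
      cst (c 5) * (x * y) = 0 → ∀ i, c i = 0 := by
    have h := Groth.Agent.Lib.FunFld.Elliptic.linearIndependent_of_ord P ![1, x, x ^ 2, x ^ 3, y, x * y]
      (fun i => by fin_cases i <;> simp [hx0, hy0]) (fun i j hij => by
        have hv : ∀ i, P.ord (![1, x, x ^ 2, x ^ 3, y, x * y] i) = ![0, -2, -4, -6, -3, -5] i := fun i => by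
          fin_cases i
          · simp [Groth.Agent.Lib.FunFld.Place.ord_def]
          · simpa using hx2
          · simp [Groth.Agent.Lib.FunFld.Place.ord_pow, hx2]
          · simp [Groth.Agent.Lib.FunFld.Place.ord_pow, hx2]
          · simpa using hy3
          · simp [Groth.Agent.Lib.FunFld.Place.ord_mul P hx0 hy0, hx2, hy3]
        simp only [hv] at hij
        fin_cases i <;> fin_cases j <;> first | rfl | simp at hij)
    intro c hc
    refine Fintype.linearIndependent_iff.1 h c ?_
    rw [← hc, Fin.sum_univ_six]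
    simp [Algebra.smul_def, cst]
  have hfam : ∀ n : ℕ, 2 ≤ n → Submodule.span k (Set.range (Groth.Agent.Lib.FunFld.Elliptic.fam x y n)) =
      FunFld.L (Finsupp.single P (n : ℤ)) := fun n hn =>
    (Groth.Agent.Lib.FunFld.Elliptic.fam_spec hK hgen hP hx hx2 hy hy3 hn).2
  -- an automorphism fixing `P` scales `x` and `y`
  have hshape : ∀ σ : K ≃ₐ[k] K, (∀ z, P.1 (σ z) = P.1 z) →
      ∃ u : k, u ≠ 0 ∧ a * u ^ 4 = a ∧ b * u ^ 6 = b ∧ σ x = cst (u ^ 2) * x ∧ σ y = cst (u ^ 3) * y := by
    intro σ hσ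
    have hfix : Groth.Agent.Lib.FunFld.Auto.pull P σ = P := Subtype.ext (Valuation.ext fun z => hσ z)
    have hL : ∀ n : ℤ, ∀ z ∈ FunFld.L (Finsupp.single P n), σ z ∈ FunFld.L (Finsupp.single P n) := by
      intro n z hz Q
      have h := hz (Groth.Agent.Lib.FunFld.Auto.pull Q σ)
      rw [Groth.Agent.Lib.FunFld.Auto.pull_apply] at h
      by_cases hQ : Q = P
      · subst hQ; rwa [hfix] at h
      · rw [Finsupp.single_eq_of_ne hQ]
        rwa [Finsupp.single_eq_of_ne (fun h' => hQ (Subtype.ext (Valuation.ext fun w => by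
          have := congrArg (fun R : FunFld.Place k K => R.1 (σ.symm w)) h'
          simp only [Groth.Agent.Lib.FunFld.Auto.pull_apply, AlgEquiv.apply_symm_apply] at this
          rw [this, ← hσ, AlgEquiv.apply_symm_apply])))] at h
    obtain ⟨c, hc⟩ := (Submodule.mem_span_range_iff_exists_fun k).1 ((hfam 2 le_rfl).symm ▸ hL 2 x hx)
    obtain ⟨e, he⟩ := (Submodule.mem_span_range_iff_exists_fun k).1 ((hfam 3 (by norm_num)).symm ▸ hL 3 y hy)
    rw [Fintype.sum_sum_type] at hc he
    simp only [Groth.Agent.Lib.FunFld.Elliptic.fam, Sum.elim_inl, Sum.elim_inr, Algebra.smul_def] at hc he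
    obtain ⟨β, α, hσx⟩ : ∃ β α : k, σ x = cst β + cst α * x := by
      refine ⟨c (Sum.inl 0), c (Sum.inl 1), ?_⟩
      rw [← hc]
      simp [Fin.sum_univ_succ, cst]
    obtain ⟨ε, δ, γ, hσy⟩ : ∃ ε δ γ : k, σ y = cst ε + cst δ * x + cst γ * y := by
      refine ⟨e (Sum.inl 0), e (Sum.inl 1), e (Sum.inr 0), ?_⟩
      rw [← he]
      simp [Fin.sum_univ_succ, cst]
    have hα : α ≠ 0 := fun h => by
      have h1 : P.ord (σ x) = P.ord x := by
        rw [Groth.Agent.Lib.FunFld.Place.ord_def, Groth.Agent.Lib.FunFld.Place.ord_def, hσ]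
      rw [hσx, h, map_zero, zero_mul, add_zero, Groth.Agent.Lib.FunFld.Place.ord_algebraMap] at h1
      omega
    have heq' := congrArg σ heq
    simp only [map_pow, map_add, map_mul, AlgEquiv.commutes, hσx, hσy] at heq'
    have h6 := hLI ![ε ^ 2 + γ ^ 2 * b - (β ^ 3 + a * β + b), 2 * δ * ε + γ ^ 2 * a - (3 * α * β ^ 2 + a * α),
      δ ^ 2 - 3 * α ^ 2 * β, γ ^ 2 - α ^ 3, 2 * γ * ε, 2 * γ * δ] (by
        simp only [cst, Matrix.cons_val, map_sub, map_add, map_mul, map_pow, map_ofNat]
        simp only [cst] at heq'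
        linear_combination heq' - (algebraMap k K γ) ^ 2 * heq)
    have e0 := h6 0
    have e1 := h6 1
    have e2 := h6 2
    have e3 := h6 3
    have e4 := h6 4
    have e5 := h6 5
    simp only [Matrix.cons_val] at e0 e1 e2 e3 e4 e5
    have hγ : γ ≠ 0 := fun h => hα ((pow_eq_zero_iff three_ne_zero).1 (by rw [h] at e3; linear_combination -e3))
    have hε : ε = 0 := (mul_eq_zero.1 e4).resolve_left (mul_ne_zero h2 hγ)
    have hδ : δ = 0 := (mul_eq_zero.1 e5).resolve_left (mul_ne_zero h2 hγ)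
    have hβ : β = 0 := by
      rw [hδ] at e2
      exact (mul_eq_zero.1 (show (3 * α ^ 2) * β = 0 by linear_combination -e2)).resolve_left
        (mul_ne_zero h3 (pow_ne_zero _ hα))
    subst hε hδ hβ
    have hu2 : (γ / α) ^ 2 = α := by
      field_simp
      linear_combination e3
    have hu3 : (γ / α) ^ 3 = γ := by
      rw [div_pow, div_eq_iff (pow_ne_zero _ hα)]
      linear_combination γ * e3
    refine ⟨γ / α, div_ne_zero hγ hα, ?_, ?_, ?_, ?_⟩
    · have : α * (a * (γ / α) ^ 4 - a) = 0 := by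
        rw [show (γ / α) ^ 4 = ((γ / α) ^ 2) ^ 2 by ring, hu2]
        linear_combination e1 - a * e3
      exact sub_eq_zero.1 ((mul_eq_zero.1 this).resolve_left hα)
    · rw [show (γ / α) ^ 6 = ((γ / α) ^ 3) ^ 2 by ring, hu3]
      linear_combination e0
    · rw [hσx, hu2, map_zero, zero_add]
    · rw [hσy, hu3, map_zero, zero_mul, add_zero, zero_add]
  -- every admissible scaling is realised
  let U : Set k := {u | u ≠ 0 ∧ a * u ^ 4 = a ∧ b * u ^ 6 = b}
  have hreal : ∀ u ∈ U, ∃ σ : K ≃ₐ[k] K, (∀ z, P.1 (σ z) = P.1 z) ∧ σ x = cst (u ^ 2) * x ∧ σ y = cst (u ^ 3) * y := by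
    rintro u ⟨hu0, hua, hub⟩
    let g : Polynomial k := Polynomial.X ^ 3 + Polynomial.C a * Polynomial.X + Polynomial.C b
    let G : Polynomial (RatFunc k) := Polynomial.X ^ 2 - Polynomial.C (algebraMap (Polynomial k) (RatFunc k) g)
    have htr : ∀ c : k, c ≠ 0 → Transcendental k (cst c * x) := fun c hc =>
      Groth.Agent.Lib.FunFld.Existence.transcendental_of_ord_ne_zero hK P (by
        rw [Groth.Agent.Lib.FunFld.Place.ord_mul P ((_root_.map_ne_zero cst).2 hc) hx0,
          Groth.Agent.Lib.FunFld.Place.ord_algebraMap, hx2]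
        norm_num)
    have hinj : ∀ c : k, c ≠ 0 → nonZeroDivisors (Polynomial k) ≤
        (nonZeroDivisors K).comap (Polynomial.aeval (cst c * x)) := fun c hc p hp => by
      refine mem_nonZeroDivisors_of_ne_zero fun h => nonZeroDivisors.ne_zero hp ?_
      exact (transcendental_iff_injective.1 (htr c hc)) (h.trans (map_zero _).symm)
    let hom : ∀ c : k, c ≠ 0 → RatFunc k →ₐ[k] K := fun c hc => RatFunc.liftAlgHom (Polynomial.aeval (cst c * x)) (hinj c hc)
    have hhom : ∀ (c : k) (hc : c ≠ 0) (p : Polynomial k),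
        hom c hc (algebraMap (Polynomial k) (RatFunc k) p) = Polynomial.aeval (cst c * x) p := fun c hc p => by
      have := RatFunc.liftAlgHom_apply_div' (φ := Polynomial.aeval (cst c * x)) (hinj c hc) p 1
      simpa [hom] using this
    have hirr : Irreducible G := by
      have hdeg : G.natDegree = 2 := Polynomial.natDegree_X_pow_sub_C
      refine (Polynomial.Monic.irreducible_iff_roots_eq_zero_of_degree_le_three (Polynomial.monic_X_pow_sub_C _ two_ne_zero)
        hdeg.ge (by rw [show G.natDegree = 2 from hdeg]; norm_num)).2 ?_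
      rw [Multiset.eq_zero_iff_forall_notMem]
      intro r hr
      rw [Polynomial.mem_roots', Polynomial.IsRoot, Polynomial.eval_sub, Polynomial.eval_pow, Polynomial.eval_X,
        Polynomial.eval_C, sub_eq_zero] at hr
      have h1 : hom 1 one_ne_zero r ^ 2 = y ^ 2 := by
        rw [← map_pow, hr.2, hhom 1 one_ne_zero, heq]
        simp [g, cst]
      have hev : ∃ m : ℤ, P.ord (hom 1 one_ne_zero r) = 2 * m := by
        rcases eq_or_ne r 0 with rfl | hr0
        · exact ⟨0, by rw [map_zero, Groth.Agent.Lib.FunFld.Place.ord_zero, mul_zero]⟩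
        rw [← r.num_div_denom, map_div₀, hhom 1 one_ne_zero, hhom 1 one_ne_zero]
        have hx1 : cst 1 * x = x := by rw [map_one, one_mul]
        rw [hx1]
        refine ⟨(r.denom.natDegree : ℤ) - r.num.natDegree, ?_⟩
        have hne : ∀ p : Polynomial k, p ≠ 0 → Polynomial.aeval x p ≠ 0 := fun p hp h =>
          hp ((transcendental_iff_injective.1 (hx1 ▸ htr 1 one_ne_zero)) (h.trans (map_zero _).symm))
        rw [Groth.Agent.Lib.FunFld.Place.ord_div P (hne _ (RatFunc.num_ne_zero hr0)) (hne _ r.denom_ne_zero),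
          ord_aeval P hx2 (RatFunc.num_ne_zero hr0), ord_aeval P hx2 r.denom_ne_zero]
        ring
      obtain ⟨m, hm⟩ := hev
      rcases sq_eq_sq_iff_eq_or_eq_neg.1 h1 with h | h
      · rw [h, hy3] at hm; omega
      · rw [h, Groth.Agent.Lib.FunFld.Place.ord_neg, hy3] at hm; omega
    have := Fact.mk hirr
    have hroot : ∀ (c d : k) (hc : c ≠ 0), (cst d * y) ^ 2 = Polynomial.aeval (cst c * x) g →
        G.eval₂ (hom c hc).toRingHom (cst d * y) = 0 := fun c d hc h => by
      simp only [G, Polynomial.eval₂_sub, Polynomial.eval₂_pow, Polynomial.eval₂_X, Polynomial.eval₂_C]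
      rw [show (hom c hc).toRingHom (algebraMap (Polynomial k) (RatFunc k) g) = Polynomial.aeval (cst c * x) g from hhom c hc g,
        h, sub_self]
    have h1x : cst 1 * x = x := by rw [map_one, one_mul]
    have h1y : cst 1 * y = y := by rw [map_one, one_mul]
    have r1 := hroot 1 1 one_ne_zero (by rw [h1x, h1y, heq]; simp [g])
    have r2 := hroot (u ^ 2) (u ^ 3) (pow_ne_zero _ hu0) (by
      have ea : cst a * cst u ^ 4 = cst a := by rw [← map_pow, ← map_mul, hua]
      have eb : cst b * cst u ^ 6 = cst b := by rw [← map_pow, ← map_mul, hub]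
      simp only [g, map_add, map_mul, Polynomial.aeval_C, Polynomial.aeval_X, map_pow, cst] at ea eb ⊢
      linear_combination (algebraMap k K u) ^ 6 * heq + (algebraMap k K u) ^ 2 * x * ea + eb)
    let Φ₁ : AdjoinRoot G →+* K := AdjoinRoot.lift (hom 1 one_ne_zero).toRingHom (cst 1 * y) r1
    let Φ₂ : AdjoinRoot G →+* K := AdjoinRoot.lift (hom (u ^ 2) (pow_ne_zero _ hu0)).toRingHom (cst (u ^ 3) * y) r2
    have hk : ∀ (c d : k) (hc : c ≠ 0) (r : G.eval₂ (hom c hc).toRingHom (cst d * y) = 0) (s : k),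
        AdjoinRoot.lift (hom c hc).toRingHom (cst d * y) r (AdjoinRoot.of G (algebraMap k (RatFunc k) s)) = cst s :=
      fun c d hc r s => (AdjoinRoot.lift_of r).trans ((hom c hc).commutes s)
    have hX : ∀ (c d : k) (hc : c ≠ 0) (r : G.eval₂ (hom c hc).toRingHom (cst d * y) = 0),
        AdjoinRoot.lift (hom c hc).toRingHom (cst d * y) r (AdjoinRoot.of G RatFunc.X) = cst c * x :=
      fun c d hc r => by
        rw [AdjoinRoot.lift_of r]
        show hom c hc RatFunc.X = _
        rw [← RatFunc.algebraMap_X, hhom c hc, Polynomial.aeval_X]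
    have hsurj : ∀ (c d : k) (hc : c ≠ 0) (hd : d ≠ 0) (r : G.eval₂ (hom c hc).toRingHom (cst d * y) = 0),
        Function.Surjective (AdjoinRoot.lift (hom c hc).toRingHom (cst d * y) r) := by
      intro c d hc hd r
      set Φ := AdjoinRoot.lift (hom c hc).toRingHom (cst d * y) r with hΦdef
      let S : IntermediateField k K :=
        { Φ.fieldRange with
          algebraMap_mem' := fun s => ⟨_, hk c d hc r s⟩ }
      have htop : S = ⊤ := by
        rw [eq_top_iff, ← hxy, IntermediateField.adjoin_le_iff, Set.insert_subset_iff, Set.singleton_subset_iff]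
        refine ⟨⟨AdjoinRoot.of G (algebraMap k (RatFunc k) c⁻¹) * AdjoinRoot.of G RatFunc.X, ?_⟩,
          ⟨AdjoinRoot.of G (algebraMap k (RatFunc k) d⁻¹) * AdjoinRoot.root G, ?_⟩⟩
        · rw [map_mul, hk c d hc, hX c d hc, ← mul_assoc, ← map_mul, inv_mul_cancel₀ hc, map_one, one_mul]
        · rw [map_mul, hk c d hc, AdjoinRoot.lift_root, ← mul_assoc, ← map_mul, inv_mul_cancel₀ hd, map_one, one_mul]
      intro z
      exact (show z ∈ S by rw [htop]; exact IntermediateField.mem_top)
    let e₁ := RingEquiv.ofBijective Φ₁ ⟨Φ₁.injective, hsurj 1 1 one_ne_zero one_ne_zero r1⟩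
    let e₂ := RingEquiv.ofBijective Φ₂ ⟨Φ₂.injective, hsurj _ _ (pow_ne_zero _ hu0) (pow_ne_zero _ hu0) r2⟩
    have hcomm : ∀ s : k, (e₁.symm.trans e₂) (cst s) = cst s := fun s => by
      rw [RingEquiv.trans_apply, show e₁.symm (cst s) = AdjoinRoot.of G (algebraMap k (RatFunc k) s) by
        rw [RingEquiv.symm_apply_eq]; exact (hk 1 1 one_ne_zero r1 s).symm]
      exact hk (u ^ 2) (u ^ 3) (pow_ne_zero _ hu0) r2 s
    let σ : K ≃ₐ[k] K := AlgEquiv.ofRingEquiv (f := e₁.symm.trans e₂) hcomm
    have hσx : σ x = cst (u ^ 2) * x := by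
      show (e₁.symm.trans e₂) x = _
      rw [RingEquiv.trans_apply, show e₁.symm x = AdjoinRoot.of G RatFunc.X by
        rw [RingEquiv.symm_apply_eq]; exact ((hX 1 1 one_ne_zero r1).trans h1x).symm]
      exact hX (u ^ 2) (u ^ 3) (pow_ne_zero _ hu0) r2
    have hσy : σ y = cst (u ^ 3) * y := by
      show (e₁.symm.trans e₂) y = _
      rw [RingEquiv.trans_apply, show e₁.symm y = AdjoinRoot.root G by
        rw [RingEquiv.symm_apply_eq]; exact ((AdjoinRoot.lift_root r1).trans h1y).symm]
      exact AdjoinRoot.lift_root r2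
    refine ⟨σ, ?_, hσx, hσy⟩
    -- `P` is the only pole of `x`
    have hpull : Groth.Agent.Lib.FunFld.Auto.pull P σ = P := by
      by_contra hne
      have h2 : (Groth.Agent.Lib.FunFld.Auto.pull P σ).1 x ≤ 1 := by
        have := hx (Groth.Agent.Lib.FunFld.Auto.pull P σ)
        rwa [Finsupp.single_eq_of_ne hne, WithZero.exp_zero] at this
      rw [Groth.Agent.Lib.FunFld.Auto.pull_apply, hσx, map_mul,
        Groth.Agent.Lib.FunFld.Place.val_algebraMap P (pow_ne_zero 2 hu0), one_mul,
        Groth.Agent.Lib.FunFld.Place.val_eq_exp P hx0, hx2] at h2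
      have := WithZero.exp_le_exp.1 (h2.trans WithZero.exp_zero.symm.le)
      omega
    intro z
    have h := congrArg (fun R : FunFld.Place k K => R.1 z) hpull
    simpa [Groth.Agent.Lib.FunFld.Auto.pull_apply] using h
  have hext : ∀ σ τ : K ≃ₐ[k] K, σ x = τ x → σ y = τ y → σ = τ := fun σ τ h1 h2 => by
    refine AlgEquiv.ext fun z => ?_
    have hz : z ∈ IntermediateField.adjoin k ({x, y} : Set K) := by rw [hxy]; exact IntermediateField.mem_top
    induction hz using IntermediateField.adjoin_induction with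
    | mem w hw =>
      rcases hw with rfl | rfl
      · exact h1
      · exact h2
    | algebraMap r => rw [σ.commutes, τ.commutes]
    | add p q _ _ hp hq => rw [map_add, map_add, hp, hq]
    | inv p _ hp => rw [map_inv₀, map_inv₀, hp]
    | mul p q _ _ hp hq => rw [map_mul, map_mul, hp, hq]
  choose real hreal1 hreal2 hreal3 using hreal
  have hcu : ∀ u v : k, u ≠ 0 → v ≠ 0 → cst (u ^ 2) * x = cst (v ^ 2) * x → cst (u ^ 3) * y = cst (v ^ 3) * y → u = v := by
    intro u v hu hv hh1 hh2
    have e1 := cst.injective (mul_right_cancel₀ hx0 hh1)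
    have e2 := cst.injective (mul_right_cancel₀ hy0 hh2)
    exact mul_left_cancel₀ (pow_ne_zero 2 hu) (by linear_combination e2 - v * e1)
  have hcard : Nat.card {σ : K ≃ₐ[k] K // ∀ z : K, P.1 (σ z) = P.1 z} = Nat.card U := by
    refine (Nat.card_eq_of_bijective (fun u : U => (⟨real u.1 u.2, hreal1 u.1 u.2⟩ : {σ : K ≃ₐ[k] K // ∀ z : K, P.1 (σ z) = P.1 z}))
      ⟨fun u v h => ?_, fun σ => ?_⟩).symm
    · have h' : real u.1 u.2 = real v.1 v.2 := congrArg Subtype.val h
      refine Subtype.ext (hcu _ _ u.2.1 v.2.1 ?_ ?_)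
      · rw [← hreal2 u.1 u.2, ← hreal2 v.1 v.2, h']
      · rw [← hreal3 u.1 u.2, ← hreal3 v.1 v.2, h']
    · obtain ⟨u, hu0, hua, hub, hσx, hσy⟩ := hshape σ.1 σ.2
      refine ⟨⟨u, hu0, hua, hub⟩, Subtype.ext (hext _ _ ?_ ?_)⟩
      · exact (hreal2 u ⟨hu0, hua, hub⟩).trans hσx.symm
      · exact (hreal3 u ⟨hu0, hua, hub⟩).trans hσy.symm
  have hroots : ∀ n : ℕ, 0 < n → (n : k) ≠ 0 → Nat.card {u : k | u ^ n = 1} = n := fun n hn hnk => by
    have : NeZero (n : k) := ⟨hnk⟩
    have : NeZero n := ⟨hn.ne'⟩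
    classical
    obtain ⟨ζ, hζ⟩ := HasEnoughRootsOfUnity.exists_primitiveRoot k n
    have h1 : {u : k | u ^ n = 1} = ((Polynomial.nthRootsFinset n (1 : k)) : Set k) := by
      ext u
      simp [Polynomial.mem_nthRootsFinset hn]
    rw [h1, Nat.card_eq_fintype_card]
    simp only [Finset.coe_sort_coe, Fintype.card_coe]
    exact hζ.card_nthRootsFinset
  rw [hcard]
  have h6 : ((6 : ℕ) : k) ≠ 0 := by
    rw [Nat.cast_ofNat, show (6 : k) = 2 * 3 by norm_num]; exact mul_ne_zero h2 h3
  have h4 : ((4 : ℕ) : k) ≠ 0 := by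
    rw [Nat.cast_ofNat, show (4 : k) = 2 * 2 by norm_num]; exact mul_ne_zero h2 h2
  split_ifs with ha hb'
  · refine Eq.trans ?_ (hroots 6 (by norm_num) h6)
    congr 2
    ext u
    refine ⟨fun hu => mul_left_cancel₀ (hb ha) (hu.2.2.trans (mul_one b).symm), fun (hu : u ^ 6 = 1) => ?_⟩
    refine ⟨?_, by rw [ha, zero_mul], by rw [hu, mul_one]⟩
    rintro rfl
    norm_num at hu
  · refine Eq.trans ?_ (hroots 4 (by norm_num) h4)
    congr 2
    ext u
    refine ⟨fun hu => mul_left_cancel₀ ha (hu.2.1.trans (mul_one a).symm), fun (hu : u ^ 4 = 1) => ?_⟩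
    refine ⟨?_, by rw [hu, mul_one], by rw [hb', zero_mul]⟩
    rintro rfl
    norm_num at hu
  · refine Eq.trans ?_ (hroots 2 (by norm_num) (by exact_mod_cast h2))
    congr 2
    ext u
    refine ⟨fun hu => ?_, fun (hu : u ^ 2 = 1) => ?_⟩
    · have e4 : u ^ 4 = 1 := mul_left_cancel₀ ha (hu.2.1.trans (mul_one a).symm)
      have e6 : u ^ 6 = 1 := mul_left_cancel₀ hb' (hu.2.2.trans (mul_one b).symm)
      show u ^ 2 = 1
      linear_combination e6 - u ^ 2 * e4
    · refine ⟨?_, by rw [show u ^ 4 = (u ^ 2) ^ 2 by ring, hu, one_pow, mul_one],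
        by rw [show u ^ 6 = (u ^ 2) ^ 3 by ring, hu, one_pow, mul_one]⟩
      rintro rfl
      norm_num at hu

end Groth.Agent.S19397
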