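import Groth.Statements.S19401
import Groth.Agent.H60.OrbitDim
import Mathlib.RingTheory.Spectrum.Prime.Topology
-- import your own Groth.Agent.* helpers here

set_option autoImplicit false
universe u
open TensorProduct
open GLin

namespace Groth.Agent.S19401

/-- Suppose the field k is algebraically closed and has characteristic zero. Take A to be a finitely
generated commutative Hopf algebra over k (an affine algebraic group G), and take S and R to be
finitely generated commutative k-algebras, each equipped with a multiplicative A-coaction (so G acts
on Y = Spec S and on X = Spec R). Assume S → R is a finite algebra map respecting the coactions (a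
G-morphism X → Y). Given a k-point x of X whose image in Y is y, the orbit of x is closed (meaning
its orbit morphism Spec A → Spec R has closed image) exactly when the orbit of y is closed. (This is
the affine version of the source's result about G-morphisms of varieties.) -/
theorem result (k : Type u) [Field k] [IsAlgClosed k] [CharZero k]
    (A : Type u) [CommRing A] [HopfAlgebra k A] [Algebra.FiniteType k A]
    (S : Type u) [CommRing S] [Algebra k S] [Algebra.FiniteType k S] [HopfRep.Comod k A S] [GLin.IsCoactAlg k A S]
    (R : Type u) [CommRing R] [Algebra k R] [Algebra.FiniteType k R] [HopfRep.Comod k A R] [GLin.IsCoactAlg k A R]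
    [Algebra S R] [IsScalarTower k S R] [Module.Finite S R]
    (hequiv : ∀ s : S, HopfRep.Comod.coact (k := k) (A := A) (algebraMap S R s) =
      Algebra.TensorProduct.map (IsScalarTower.toAlgHom k S R) (AlgHom.id k A) (HopfRep.Comod.coact (k := k) (A := A) s))
    (x : R →ₐ[k] k) :
    GLin.IsClosedOrbit k A x ↔ GLin.IsClosedOrbit k A (x.comp (IsScalarTower.toAlgHom k S R)) := by
  open Groth.Agent.Lib.Comod.Orbits Groth.Agent.Lib.Comod.Orbits2 Groth.Agent.H60.OrbitDim in
  have horb : ∀ z : R →ₐ[k] k, GLin.orbitHom k A (z.comp (IsScalarTower.toAlgHom k S R)) =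
      (GLin.orbitHom k A z).comp (IsScalarTower.toAlgHom k S R) := fun z => by
    refine AlgHom.ext fun s => ?_
    simp only [GLin.orbitHom, AlgHom.comp_apply, GLin.coactAlgHom_apply, IsScalarTower.toAlgHom_apply, hequiv s]
    induction HopfRep.Comod.coact (k := k) (A := A) s using TensorProduct.induction_on with
    | zero => simp
    | tmul a b => simp
    | add a b ha hb => simp only [map_add, ha, hb]
  have hint : (algebraMap S R).IsIntegral := fun r => Algebra.IsIntegral.isIntegral r
  constructor
  · intro h
    have hcl := (PrimeSpectrum.isClosedMap_comap_of_isIntegral (algebraMap S R) hint) _ h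
    unfold GLin.IsClosedOrbit
    rw [horb]
    convert hcl using 1
    rw [← Set.range_comp]
    rfl
  · intro h
    open Groth.Agent.Lib.Comod.Orbits Groth.Agent.Lib.Comod.Orbits2 Groth.Agent.H60.OrbitDim in
    rw [Groth.Agent.Lib.Comod.Orbits.isClosedOrbit_iff]
    intro z hz
    open Groth.Agent.Lib.Comod.Orbits Groth.Agent.Lib.Comod.Orbits2 Groth.Agent.H60.OrbitDim in
    have hker : ∀ w : R →ₐ[k] k, (orbitKer (A := A) (w.comp (IsScalarTower.toAlgHom k S R))) =
        (orbitKer (A := A) w).comap (algebraMap S R) := fun w => by
      ext s; rw [Ideal.mem_comap, RingHom.mem_ker, RingHom.mem_ker, horb]; rfl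
    open Groth.Agent.Lib.Comod.Orbits in
    have hdim : ∀ w : R →ₐ[k] k, ringKrullDim (R ⧸ orbitKer (A := A) w) =
        ringKrullDim (S ⧸ orbitKer (A := A) (w.comp (IsScalarTower.toAlgHom k S R))) := fun w => by
      rw [hker]
      exact Groth.Agent.Lib.Dim.Integral.ringKrullDim_quotient_eq_under _
    open Groth.Agent.Lib.Comod.Orbits in
    have horbit : InOrbit A (x.comp (IsScalarTower.toAlgHom k S R)) (z.comp (IsScalarTower.toAlgHom k S R)) :=
      inOrbit_of_isClosedOrbit h fun s hs => by
        rw [hker, Ideal.mem_comap] at hs
        exact hz hs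
    exact Groth.Agent.H60.OrbitDim.inOrbit_of_ringKrullDim_le hz (le_of_eq (by
      rw [hdim x, hdim z, horbit.orbitKer_eq]))

end Groth.Agent.S19401
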