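import Groth.Statements.S19402
import Groth.Agent.Lib.Unram.AtPrime
import Groth.Agent.Lib.Purity.Galois
import Groth.Agent.Lib.Comod.Orbits
import Mathlib.Algebra.Module.LocalizedModule.Basic
import Mathlib.FieldTheory.IsAlgClosed.Basic
-- import your own Groth.Agent.* helpers here

set_option autoImplicit false
universe u v w
open scoped Pointwise
open GLin Groth.Agent.Lib.Comod.Orbits Groth.Agent.Lib.Purity.Galois

namespace Groth.Agent.S19402

/-- Let k be an algebraically closed field of characteristic zero, R a finitely generated commutative
k-algebra which is an integrally closed domain (a normal irreducible affine variety X), and G a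
finite group acting faithfully on R by k-algebra automorphisms. Let B be a commutative k-algebra
with an injective algebra map B → R, compatible with the k-structures and G-invariant, whose image
is exactly the subring of G-invariants (so Spec R → Spec B is the quotient morphism X → X/G). Then
for a maximal ideal m of R (a closed point x of X), R is étale over B at m (the local ring R_m is
formally étale over B) if and only if the stabilizer of m in G is trivial. -/
theorem result (k : Type u) [Field k] [IsAlgClosed k] [CharZero k]
    (R : Type v) [CommRing R] [IsDomain R] [IsIntegrallyClosed R] [Algebra k R] [Algebra.FiniteType k R]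
    (G : Type w) [Group G] [Finite G] [MulSemiringAction G R] [FaithfulSMul G R] [SMulCommClass G k R]
    (B : Type v) [CommRing B] [Algebra k B] [Algebra B R] [IsScalarTower k B R] [FaithfulSMul B R]
    [SMulCommClass G B R] [Algebra.IsInvariant B R G]
    (m : Ideal R) [m.IsMaximal] :
    Algebra.IsEtaleAt B m ↔ MulAction.stabilizer G m = ⊥ := by
  classical
  haveI := Fintype.ofFinite G
  haveI : IsNoetherianRing R := Algebra.FiniteType.isNoetherianRing k R
  haveI : Algebra.IsIntegral B R := Algebra.IsInvariant.isIntegral B R G
  haveI : Algebra.FiniteType B R := Algebra.FiniteType.of_restrictScalars_finiteType k B R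
  haveI : Module.Finite B R := Algebra.IsIntegral.finite
  have hBi : Function.Injective (algebraMap B R) := FaithfulSMul.algebraMap_injective B R
  haveI : Algebra.FiniteType k B := ⟨fg_of_fg_of_fg k B R Algebra.FiniteType.out Module.Finite.fg_top hBi⟩
  haveI : IsNoetherianRing B := Algebra.FiniteType.isNoetherianRing k B
  haveI : Algebra.FinitePresentation B R := Algebra.FinitePresentation.of_finiteType.1 inferInstance
  obtain ⟨y, hy⟩ := exists_pt (k := k) (R := R) (I := m) (Ideal.IsMaximal.ne_top ‹_›)
  have hm : m = RingHom.ker y := (‹m.IsMaximal›).eq_of_le (RingHom.ker_ne_top y.toRingHom) hy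
  have hmem : ∀ r, r ∈ m ↔ y r = 0 := fun r => by rw [← RingHom.mem_ker]; exact SetLike.ext_iff.1 hm r
  have hfix : ∀ a : R, (∀ g : G, g • a = a) → a ∈ Set.range (algebraMap B R) := fun a ha =>
    Algebra.IsInvariant.isInvariant (A := B) (G := G) a ha
  let n := m.under B
  haveI : m.LiesOver n := ⟨rfl⟩
  letI := Localization.AtPrime.algebraOfLiesOver n m
  constructor
  · intro het
    rw [Subgroup.eq_bot_iff_forall]
    intro h hh
    have hh' : h • m = m := hh
    have hpt : ∀ r, y (h • r) = y r := by
      intro r
      have h1 : r - algebraMap k R (y r) ∈ m := by rw [hm, RingHom.mem_ker]; simp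
      have h2 : h • (r - algebraMap k R (y r)) ∈ m := hh' ▸ Ideal.smul_mem_pointwise_smul h _ m h1
      rw [smul_sub, smul_algebraMap, hm, RingHom.mem_ker, map_sub, AlgHom.commutes, sub_eq_zero] at h2
      exact h2
    haveI : Algebra.FormallyUnramified B (Localization.AtPrime m) :=
      ((Groth.Agent.Lib.Unram.AtPrime.isEtaleAt_iff B R m).1 het).2
    set L := Localization.AtPrime m
    set M := IsLocalRing.maximalIdeal L
    have key : ∀ (N : ℕ) (r : R), algebraMap R L r - algebraMap R L (h • r) ∈ M ^ (N + 1) := by
      intro N
      let q : L →ₐ[B] L ⧸ M ^ (N + 1) := Ideal.Quotient.mkₐ B _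
      let hR : R →ₐ[B] R := MulSemiringAction.toAlgHom B R h
      let f : R →ₐ[B] L ⧸ M ^ (N + 1) := (q.comp (IsScalarTower.toAlgHom B R L)).comp hR
      have hu : ∀ s : m.primeCompl, IsUnit (f (s : R)) := fun s => by
        refine ((IsLocalization.map_units L (⟨h • (s : R), fun hs => s.2 ?_⟩ : m.primeCompl)).map q)
        exact (hmem _).2 ((hpt (s : R)).symm.trans ((hmem _).1 hs))
      let g : L →ₐ[B] L ⧸ M ^ (N + 1) := IsLocalization.liftAlgHom (f := f) hu
      let I : Ideal (L ⧸ M ^ (N + 1)) := M.map (Ideal.Quotient.mk _)
      have hI : IsNilpotent I := ⟨N + 1, by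
        rw [← Ideal.map_pow, Ideal.map_quotient_self]; rfl⟩
      have hmk : (Ideal.Quotient.mk I).comp q.toRingHom = (Ideal.Quotient.mk I).comp g.toRingHom := by
        refine IsLocalization.ringHom_ext m.primeCompl (RingHom.ext fun r => ?_)
        change Ideal.Quotient.mk I (q (algebraMap R L r)) = Ideal.Quotient.mk I (g (algebraMap R L r))
        rw [show g (algebraMap R L r) = f r from IsLocalization.lift_eq _ r, Ideal.Quotient.eq]
        change Ideal.Quotient.mk _ (algebraMap R L r) - Ideal.Quotient.mk _ (algebraMap R L (h • r)) ∈ I
        rw [← map_sub, ← map_sub]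
        refine Ideal.mem_map_of_mem _ ((IsLocalization.AtPrime.to_map_mem_maximal_iff L m _).2 ?_)
        rw [hmem, map_sub, hpt, sub_self]
      have := Algebra.FormallyUnramified.ext (R := B) (A := L) (I := I) hI (g₁ := q) (g₂ := g) fun z => RingHom.congr_fun hmk z
      intro r
      have h2 := AlgHom.congr_fun this (algebraMap R L r)
      rw [show g (algebraMap R L r) = f r from IsLocalization.lift_eq _ r] at h2
      exact Ideal.Quotient.eq.1 h2
    have hinjL : Function.Injective (algebraMap R L) :=
      IsLocalization.injective L (Ideal.primeCompl_le_nonZeroDivisors m)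
    have heq : ∀ r : R, h • r = r := fun r => by
      refine hinjL (sub_eq_zero.1 ?_).symm
      have h3 : algebraMap R L r - algebraMap R L (h • r) ∈ ⨅ i : ℕ, M ^ i := by
        rw [Submodule.mem_iInf]
        rintro (_ | i)
        · simp
        · exact key i r
      rwa [Ideal.iInf_pow_eq_bot_of_isLocalRing M (IsLocalRing.maximalIdeal.isMaximal L).ne_top,
        Submodule.mem_bot] at h3
    exact eq_of_smul_eq_smul (α := R) fun r => by rw [heq, one_smul]
  · intro hstab
    have hne : ∀ g : G, g ≠ 1 → g • m ≠ m := fun g hg h =>
      hg (Subgroup.mem_bot.1 (hstab ▸ (show g ∈ MulAction.stabilizer G m from h)))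
    haveI hmax : ∀ g : G, (g • m).IsMaximal := fun g => by
      let z : R →+* k := y.toRingHom.comp (MulSemiringAction.toRingHom G R g⁻¹)
      have h : g • m = RingHom.ker z := by
        ext r
        rw [Ideal.mem_pointwise_smul_iff_inv_smul_mem, hmem, RingHom.mem_ker]
        rfl
      rw [h]
      exact RingHom.ker_isMaximal_of_surjective z fun a => ⟨algebraMap k R a, by simp [z]⟩
    have hcop : Pairwise fun i j : G => IsCoprime (i • m) (j • m) := fun i j hij => by
      change IsCoprime (i • m) (j • m)
      rw [Ideal.isCoprime_iff_sup_eq]
      refine Ideal.IsMaximal.coprime_of_ne (hmax i) (hmax j) fun h => hne (j⁻¹ * i) ?_ ?_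
      · exact fun h' => hij (inv_mul_eq_one.1 h').symm
      · rw [← smul_smul, h, inv_smul_smul]
    let enum : G ↪ k := (Fintype.equivFin G).toEmbedding.trans (Fin.valEmbedding.trans (Infinite.natEmbedding k))
    obtain ⟨c, hc⟩ := Ideal.exists_forall_sub_mem_ideal hcop fun g : G => algebraMap k R (enum g)
    have hyg : ∀ g : G, y (g • c) = enum g⁻¹ := by
      intro g
      have h1 := Ideal.smul_mem_pointwise_smul g _ _ (hc g⁻¹)
      rw [smul_smul, mul_inv_cancel, one_smul, smul_sub, smul_algebraMap, hm, RingHom.mem_ker, map_sub,
        AlgHom.commutes, sub_eq_zero] at h1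
      exact h1
    let e : R := ∏ h ∈ Finset.univ.filter (fun h : G => h ≠ 1), (c - h • c)
    have hrep : Rep (⊤ : Subalgebra B R) (delta (G := G) e) := by
      have hf : (delta (G := G) e) = ∏ h ∈ Finset.univ.filter (fun h : G => h ≠ 1),
          ((fun g : G => (1 : R) * g • c) + fun g : G => (-(h • c)) * g • (1 : R)) := by
        funext g
        rw [Finset.prod_apply]
        simp only [Pi.add_apply, one_mul, smul_one, mul_one, ← sub_eq_add_neg]
        by_cases hg : g = 1
        · subst hg
          simp [delta, e]
        · rw [delta, if_neg hg, eq_comm]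
          exact Finset.prod_eq_zero (i := g) (by simp [hg]) (sub_self _)
      rw [hf]
      exact Rep.prod _ _ fun h _ => (Rep.pair (C := (⊤ : Subalgebra B R)) 1 c Algebra.mem_top Algebra.mem_top).add
        (Rep.pair (-(h • c)) 1 Algebra.mem_top Algebra.mem_top)
    have he : ∀ g : G, y (g • e) ≠ 0 := by
      intro g
      rw [Finset.smul_prod', map_prod, Finset.prod_ne_zero_iff]
      intro h hh
      rw [smul_sub, smul_smul, map_sub, hyg, hyg, sub_ne_zero]
      intro h'
      have := inv_injective (enum.injective h')
      simp only [Finset.mem_filter, Finset.mem_univ, true_and] at hh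
      exact hh (mul_eq_left.1 this.symm)
    obtain ⟨D, hD⟩ := hfix (∏ g : G, g • e) fun h => by
      rw [Finset.smul_prod']
      exact Fintype.prod_equiv (Equiv.mulLeft h) _ _ fun g => smul_smul h g e
    have hDm : algebraMap B R D ∉ m := by
      rw [hD, hm, RingHom.mem_ker, map_prod, Finset.prod_eq_zero_iff]
      simpa using he
    have hrepD : Rep (⊤ : Subalgebra B R) (delta (G := G) (algebraMap B R D)) := by
      have h := Rep.smul hrep (c := ∏ g ∈ Finset.univ.erase (1 : G), g • e) trivial
      convert h using 1
      funext g
      simp only [delta, Pi.smul_apply, smul_eq_mul, hD]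
      split_ifs
      · rw [← Finset.prod_erase_mul _ _ (Finset.mem_univ (1 : G)), one_smul]
      · rw [mul_zero]
    obtain ⟨ι, _, a, b, -, hab⟩ := hrepD.trace_identity
    refine (Groth.Agent.Lib.Unram.AtPrime.isEtaleAt_iff B R m).2 ⟨?_, ?_⟩
    · -- projective after inverting `D`
      let RD := Localization.Away (algebraMap B R D)
      let BD := Localization.Away D
      letI : Algebra BD RD := (Localization.awayMap (algebraMap B R) D).toAlgebra
      haveI : IsScalarTower B BD RD := .of_algebraMap_eq fun r => by
        rw [RingHom.algebraMap_toAlgebra, Localization.awayMap, IsLocalization.Away.map, IsLocalization.map_eq,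
          ← IsScalarTower.algebraMap_apply]
      haveI : IsLocalization (Algebra.algebraMapSubmonoid R (Submonoid.powers D)) RD := by
        rw [Algebra.algebraMapSubmonoid, Submonoid.map_powers]; infer_instance
      haveI : IsLocalizedModule (Submonoid.powers D) (IsScalarTower.toAlgHom B R RD).toLinearMap :=
        isLocalizedModule_iff_isLocalization.2 inferInstance
      haveI : Module.Flat B BD := IsLocalization.flat BD (Submonoid.powers D)
      choose tr htr using fun x : R => trace_mem (G := G) hfix x
      let T : R →ₗ[B] ι → B :=
        { toFun := fun x i => tr (b i * x)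
          map_add' := fun x y => funext fun i => hBi <| by
            simp [htr, mul_add, Finset.sum_add_distrib]
          map_smul' := fun c x => funext fun i => hBi <| by
            simp [htr, Algebra.smul_def, smul_mul', Finset.mul_sum, mul_left_comm] }
      have hu : ∀ s : Submonoid.powers D, IsUnit ((algebraMap B (Module.End B (ι → BD))) s) := by
        intro s
        rw [Module.End.isUnit_iff]
        obtain ⟨u, hu⟩ := IsLocalization.map_units BD s
        refine ⟨fun f g h => funext fun i => ?_, fun f => ⟨fun i => (u⁻¹ : BDˣ) * f i, funext fun i => ?_⟩⟩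
        · have h1 := congrFun h i
          simp only [Module.algebraMap_end_apply, Pi.smul_apply, Algebra.smul_def, ← hu] at h1
          exact u.isUnit.mul_left_cancel h1
        · simp [Module.algebraMap_end_apply, Algebra.smul_def, ← hu]
      let T' : RD →ₗ[B] ι → BD := IsLocalizedModule.lift (Submonoid.powers D)
        (IsScalarTower.toAlgHom B R RD).toLinearMap ((LinearMap.compLeft (Algebra.linearMap B BD) ι) ∘ₗ T) hu
      obtain ⟨dinv, hdinv⟩ := (IsLocalization.Away.algebraMap_isUnit (S := RD) (algebraMap B R D)).exists_left_inv
      let P : (ι → BD) →ₗ[B] RD :=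
        { toFun := fun v => dinv * ∑ i, algebraMap R RD (a i) * algebraMap BD RD (v i)
          map_add' := fun v w => by simp [mul_add, Finset.sum_add_distrib]
          map_smul' := fun c v => by
            simp [Algebra.smul_def, ← IsScalarTower.algebraMap_apply B BD RD, Finset.mul_sum, mul_left_comm] }
      have hPT : P ∘ₗ T' = LinearMap.id := by
        refine IsLocalizedModule.linearMap_ext (Submonoid.powers D) (IsScalarTower.toAlgHom B R RD).toLinearMap
          (IsScalarTower.toAlgHom B R RD).toLinearMap (LinearMap.ext fun x => ?_)
        have hT : T' (algebraMap R RD x) = fun i => algebraMap B BD (tr (b i * x)) :=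
          IsLocalizedModule.lift_apply _ _ _ _ x
        simp only [LinearMap.comp_apply, AlgHom.toLinearMap_apply, IsScalarTower.toAlgHom_apply,
          LinearMap.id_apply, hT]
        change dinv * ∑ i, algebraMap R RD (a i) * algebraMap BD RD (algebraMap B BD (tr (b i * x))) = _
        simp only [← IsScalarTower.algebraMap_apply B BD RD, IsScalarTower.algebraMap_apply B R RD, htr]
        rw [← Finset.sum_congr rfl fun i _ => map_mul (algebraMap R RD) (a i) (∑ g : G, g • (b i * x)), ← map_sum,
          ← hab, map_mul, ← mul_assoc, hdinv, one_mul]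
      haveI : Module.Flat B RD := Module.Flat.of_retract (M := ι → BD) T' P hPT
      let L := Localization.AtPrime m
      letI : Algebra RD L := (IsLocalization.Away.lift (algebraMap B R D)
        (IsLocalization.map_units L (⟨_, hDm⟩ : m.primeCompl))).toAlgebra
      haveI : IsScalarTower R RD L := .of_algebraMap_eq fun x => (IsLocalization.Away.lift_eq _ _ x).symm
      haveI : IsScalarTower B RD L := .to₁₃₄ B R RD L
      haveI : IsLocalization (Algebra.algebraMapSubmonoid RD m.primeCompl) L :=
        .isLocalization_of_submonoid_le _ _ (Submonoid.powers (algebraMap B R D)) _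
          (Submonoid.powers_le.mpr hDm)
      haveI : Module.Flat RD L := IsLocalization.flat _ (Algebra.algebraMapSubmonoid RD m.primeCompl)
      exact Module.Flat.trans B RD L
    · haveI : Algebra.EssFiniteType B R := inferInstance
      refine (Algebra.isUnramifiedAt_iff_map_eq (p := n) _ _).2 ⟨?_, ?_⟩
      · refine ⟨fun z => ?_⟩
        obtain ⟨r, rfl⟩ := Ideal.algebraMap_residueField_surjective m z
        have hr : algebraMap R m.ResidueField r = algebraMap n.ResidueField m.ResidueField
            (algebraMap B n.ResidueField (algebraMap k B (y r))) := by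
          rw [← IsScalarTower.algebraMap_apply B n.ResidueField, IsScalarTower.algebraMap_apply B R,
            ← IsScalarTower.algebraMap_apply k B R, ← sub_eq_zero, ← map_sub,
            Ideal.algebraMap_residueField_eq_zero, hmem]
          simp
        rw [hr]
        exact isSeparable_algebraMap _
      · set L := Localization.AtPrime m
        refine le_antisymm ?_ ?_
        · rw [Ideal.map_le_iff_le_comap]
          intro z hz
          rw [Ideal.mem_comap, IsScalarTower.algebraMap_apply B R L]
          exact (IsLocalization.AtPrime.to_map_mem_maximal_iff L m _).2 hz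
        refine Submodule.le_of_le_smul_of_le_jacobson_bot (I := IsLocalRing.maximalIdeal L)
          (IsNoetherian.noetherian _) (IsLocalRing.maximalIdeal_le_jacobson _) ?_
        rw [← Localization.AtPrime.map_eq_maximalIdeal, Ideal.map_le_iff_le_comap]
        intro x hx
        let F : G → Ideal R := fun g => if g = 1 then m ^ 2 else g • m
        have hF : Pairwise fun i j : G => IsCoprime (F i) (F j) := by
          intro i j hij
          simp only [F]
          have h : ∀ g : G, g ≠ 1 → IsCoprime (m ^ 2) (g • m) := fun g hg => by
            have h1 := hcop (i := 1) (j := g) (Ne.symm hg)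
            simp only [one_smul] at h1
            exact h1.pow_left
          split_ifs with hi hj hj
          · exact absurd (hi.trans hj.symm) hij
          · exact h j hj
          · exact (h i hi).symm
          · exact hcop hij
        obtain ⟨x', hx'⟩ := Ideal.exists_forall_sub_mem_ideal hF fun g : G => if g = 1 then x else 1
        have h1 : x' - x ∈ m ^ 2 := by simpa [F] using hx' 1
        have hx'm : x' ∈ m := by
          have := add_mem (Ideal.pow_le_self two_ne_zero h1) hx
          rwa [sub_add_cancel] at this
        obtain ⟨N, hN⟩ := hfix (∏ g : G, g • x') fun h => by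
          rw [Finset.smul_prod']
          exact Fintype.prod_equiv (Equiv.mulLeft h) _ _ fun g => smul_smul h g x'
        have hu : ∏ g ∈ Finset.univ.erase (1 : G), g • x' ∉ m := fun hmem' => by
          obtain ⟨g, hg, hgm⟩ := (Ideal.IsMaximal.isPrime' m).prod_mem_iff.1 hmem'
          have h2 := hx' g⁻¹
          simp only [F, if_neg (inv_ne_one.2 (Finset.ne_of_mem_erase hg))] at h2
          have h3 : x' ∈ g⁻¹ • m := Ideal.mem_pointwise_smul_iff_inv_smul_mem.2 (by rwa [inv_inv])
          have h4 := sub_mem h3 h2
          rw [sub_sub_cancel] at h4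
          exact (hmax g⁻¹).ne_top ((Ideal.eq_top_iff_one _).2 h4)
        have hNm : N ∈ n := by
          change algebraMap B R N ∈ m
          rw [hN, ← Finset.prod_erase_mul _ _ (Finset.mem_univ (1 : G)), one_smul]
          exact m.mul_mem_left _ hx'm
        rw [Ideal.mem_comap, ← sub_sub_cancel x' x, map_sub]
        refine sub_mem (Ideal.mem_sup_left ?_) (Ideal.mem_sup_right ?_)
        · have h5 := Ideal.mem_map_of_mem (algebraMap B L) hNm
          rw [IsScalarTower.algebraMap_apply B R L, hN, ← Finset.prod_erase_mul _ _ (Finset.mem_univ (1 : G)),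
            one_smul, map_mul] at h5
          exact (Ideal.unit_mul_mem_iff_mem _ (IsLocalization.map_units L (⟨_, hu⟩ : m.primeCompl))).1 h5
        · rw [smul_eq_mul, Localization.AtPrime.map_eq_maximalIdeal, ← pow_two,
            ← Localization.AtPrime.map_eq_maximalIdeal, ← Ideal.map_pow]
          exact Ideal.mem_map_of_mem _ h1

end Groth.Agent.S19402
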