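import Groth.Statements.S19403
import Groth.Agent.H60.SubAlg
import Groth.Agent.Lib.Comod.Cartier
import Mathlib.AlgebraicGeometry.Morphisms.OpenImmersion
import Mathlib.RingTheory.ZariskisMainTheorem
-- import your own Groth.Agent.* helpers here

set_option autoImplicit false
universe u
open TensorProduct
open GLin Groth.Agent.Lib.Comod.Basic Groth.Agent.H60.SubAlg

namespace Groth.Agent.S19403

/-- The equivariant form of Zariski's Main Theorem. Let k be an algebraically closed field of
characteristic zero, A a finitely generated commutative Hopf algebra over k all of whose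
finite-dimensional comodules are semisimple (a reductive group G), R and S finitely generated
commutative k-algebras with multiplicative A-coactions (G acting on the affine schemes X = Spec R, Y
= Spec S), and S → R an algebra map compatible with the coactions (a G-morphism φ : X → Y) which is
quasi-finite. Then there exist a finitely generated commutative k-algebra B with a multiplicative
A-coaction (an affine G-scheme Z), an algebra map ψ : S → B compatible with the coactions and
finite, and an algebra map i : B → R compatible with the coactions such that Spec R → Spec B is an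
open immersion, with i ∘ ψ the given map S → R (φ factors as an equivariant open immersion followed
by a finite G-morphism). -/
theorem result (k : Type u) [Field k] [IsAlgClosed k] [CharZero k]
    (A : Type u) [CommRing A] [HopfAlgebra k A] [Algebra.FiniteType k A] (hG : HopfRep.IsLinearlyReductive k A)
    (S : Type u) [CommRing S] [Algebra k S] [Algebra.FiniteType k S] [HopfRep.Comod k A S] [GLin.IsCoactAlg k A S]
    (R : Type u) [CommRing R] [Algebra k R] [Algebra.FiniteType k R] [HopfRep.Comod k A R] [GLin.IsCoactAlg k A R]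
    [Algebra S R] [IsScalarTower k S R] [Algebra.QuasiFinite S R]
    (hequiv : (∀ s : S, HopfRep.Comod.coact (k := k) (A := A) (algebraMap S R s) =
      Algebra.TensorProduct.map (IsScalarTower.toAlgHom k S R) (AlgHom.id k A) (HopfRep.Comod.coact (k := k) (A := A) s))) :
    ∃ (B : Type u) (_ : CommRing B) (_ : Algebra k B) (_ : HopfRep.Comod k A B) (_ : GLin.IsCoactAlg k A B),
      Algebra.FiniteType k B ∧
      ∃ (ψ : S →ₐ[k] B) (i : B →ₐ[k] R),
        (∀ s : S, HopfRep.Comod.coact (k := k) (A := A) (ψ s) =
        Algebra.TensorProduct.map ψ (AlgHom.id k A) (HopfRep.Comod.coact (k := k) (A := A) s)) ∧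
        (∀ s : B, HopfRep.Comod.coact (k := k) (A := A) (i s) =
        Algebra.TensorProduct.map i (AlgHom.id k A) (HopfRep.Comod.coact (k := k) (A := A) s)) ∧
        i.comp ψ = IsScalarTower.toAlgHom k S R ∧ ψ.toRingHom.Finite ∧
        AlgebraicGeometry.IsOpenImmersion (AlgebraicGeometry.Spec.map (CommRingCat.ofHom i.toRingHom)) := by
  classical
  haveI : IsReduced A := Groth.Agent.Lib.Comod.Cartier.isReduced (k := k)
  have hom_of : ∀ {V W : Type u} [CommRing V] [Algebra k V] [HopfRep.Comod k A V] [CommRing W] [Algebra k W]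
      [HopfRep.Comod k A W] (q : V →ₐ[k] W),
      (∀ v, HopfRep.Comod.coact (k := k) (A := A) (q v) =
        Algebra.TensorProduct.map q (AlgHom.id k A) (HopfRep.Comod.coact (k := k) (A := A) v)) →
      Hoch.IsComodHom A q.toLinearMap := fun {V W} _ _ _ _ _ _ q hq => LinearMap.ext fun v => by
    simp only [LinearMap.comp_apply, AlgHom.toLinearMap_apply, hq]
    induction HopfRep.Comod.coact (k := k) (A := A) v using TensorProduct.induction_on with
    | zero => simp
    | tmul a b => simp
    | add a b ha hb => simp only [map_add, ha, hb]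
  have hhom := hom_of (IsScalarTower.toAlgHom k S R) hequiv
  haveI : Algebra.FiniteType S R := Algebra.FiniteType.of_restrictScalars_finiteType k S R
  choose S' hS'fg r hr hbij using fun p : PrimeSpectrum R =>
    Algebra.QuasiFiniteAt.exists_fg_and_exists_notMem_and_awayMap_bijective (R := S) p.asIdeal
  obtain ⟨t, ht⟩ := isCompact_univ.elim_finite_subcover
    (fun p : PrimeSpectrum R => (PrimeSpectrum.basicOpen ((r p : R)) : Set (PrimeSpectrum R)))
    (fun p => (PrimeSpectrum.basicOpen _).2) (fun p _ => Set.mem_iUnion.2 ⟨p, hr p⟩)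
  -- the integral closure
  have hint : ∀ p, ∀ z ∈ S' p, IsIntegral S z := fun p z hz => IsIntegral.of_mem_of_fg (S' p) (hS'fg p) z hz
  choose gens hgens using fun p => (hS'fg p : (Subalgebra.toSubmodule (S' p)).FG)
  let F : Finset R := t.biUnion gens
  obtain ⟨W, hWfg, hW, hWC, hFW⟩ := exists_subcomod_fg_le (k := k) (A := A) (V := R)
    (isSubcomod_integralClosure (A := A) hhom) (S := F) (fun z hz => by
      obtain ⟨p, -, hzp⟩ := Finset.mem_biUnion.1 hz
      exact hint p z (show z ∈ Subalgebra.toSubmodule (S' p) from hgens p ▸ Submodule.subset_span hzp))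
  let B₁ : Subalgebra S R := Algebra.adjoin S (W : Set R)
  let B : Subalgebra k R := B₁.restrictScalars k
  have hB : HopfRep.IsSubcomod (k := k) (A := A) (Subalgebra.toSubmodule B) := isSubcomod_adjoin hhom hW
  letI := algComod B hB
  haveI := isCoactAlg B hB
  have hS'B : ∀ p ∈ t, ∀ z ∈ S' p, z ∈ B := by
    intro p hp z hz
    have hz' : z ∈ Submodule.span S (gens p : Set R) := (hgens p).symm ▸ hz
    exact (Submodule.span_le (p := Subalgebra.toSubmodule B₁)).2 (fun w hw =>
      Algebra.subset_adjoin (hFW (Finset.mem_biUnion.2 ⟨p, hp, hw⟩))) hz'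
  have hfin : (Subalgebra.toSubmodule B₁).FG := by
    obtain ⟨g, hg⟩ := hWfg
    have : B₁ = Algebra.adjoin S (g : Set R) := by
      refine le_antisymm (Algebra.adjoin_le ?_) (Algebra.adjoin_mono (hg ▸ Submodule.subset_span))
      rw [← hg]
      intro w hw
      exact (Submodule.span_le (p := (Subalgebra.toSubmodule (Algebra.adjoin S (g : Set R))).restrictScalars k)).2
        (fun z hz => Algebra.subset_adjoin hz) hw
    rw [this]
    exact fg_adjoin_of_finite g.finite_toSet fun z hz => hWC (hg ▸ Submodule.subset_span hz)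
  haveI : Module.Finite S B₁ := ⟨(Submodule.fg_top _).2 hfin⟩
  haveI : Algebra.FiniteType k B₁ := Algebra.FiniteType.trans (S := S) ‹Algebra.FiniteType k S› inferInstance
  refine ⟨B, inferInstance, inferInstance, inferInstance, inferInstance,
    Algebra.FiniteType.equiv ‹Algebra.FiniteType k B₁› (AlgEquiv.refl : B₁ ≃ₐ[k] B₁), (IsScalarTower.toAlgHom k S B₁ : S →ₐ[k] B), B.val,
    fun s => ?_, fun b => coact_val B hB b, ?_, ?_, ?_⟩
  · apply (Module.Flat.rTensor_preserves_injective_linearMap (M := A) B.val.toLinearMap Subtype.val_injective :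
      Function.Injective (Algebra.TensorProduct.map B.val (AlgHom.id k A)))
    refine (coact_val B hB (IsScalarTower.toAlgHom k S B₁ s : B)).symm.trans ((hequiv s).trans ?_)
    induction HopfRep.Comod.coact (k := k) (A := A) s using TensorProduct.induction_on with
    | zero => simp
    | tmul a b => simp; rfl
    | add a b ha hb => simp only [map_add, ha, hb]
  · exact AlgHom.ext fun _ => rfl
  · exact (RingHom.finite_algebraMap.2 ‹Module.Finite S B₁› : (algebraMap S B₁).Finite)
  -- the open immersion
  letI : Algebra B R := B.val.toRingHom.toAlgebra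
  have hloc : ∀ p ∈ t, ∀ x : R, ∃ n : ℕ, (r p : R) ^ n * x ∈ B := by
    intro p hp x
    obtain ⟨y, hy⟩ := (hbij p).2 (algebraMap R _ x)
    obtain ⟨n, a, hna⟩ := IsLocalization.Away.surj (r p) y
    have h1 := congrArg (Localization.awayMap (S' p).val.toRingHom (r p)) hna
    rw [map_mul, map_pow, hy] at h1
    simp only [Localization.awayMap, IsLocalization.Away.map, IsLocalization.map_eq] at h1
    change algebraMap R _ x * algebraMap R _ ((r p : R)) ^ n = algebraMap R _ (a : R) at h1
    rw [← map_pow, ← map_mul] at h1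
    obtain ⟨m, hm⟩ := IsLocalization.Away.exists_of_eq (S := Localization.Away ((S' p).val.toRingHom (r p)))
      ((S' p).val.toRingHom (r p)) h1
    refine ⟨m + n, ?_⟩
    rw [pow_add, mul_assoc, mul_comm _ x]
    exact hm ▸ mul_mem (pow_mem (hS'B p hp _ (r p).2) m) (hS'B p hp _ a.2)
  let rr : t → R := fun p => (r p.1 : R)
  have hspan : Ideal.span (Set.range rr) = ⊤ := by
    by_contra hne
    obtain ⟨m, hm, hle⟩ := Ideal.exists_le_maximal _ hne
    obtain ⟨p, hp, hpm⟩ := Set.mem_iUnion₂.1 (ht (Set.mem_univ (⟨m, hm.isPrime⟩ : PrimeSpectrum R)))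
    exact hpm (hle (Ideal.subset_span ⟨⟨p, hp⟩, rfl⟩))
  refine AlgebraicGeometry.IsOpenImmersion.of_openCover_source _
    (AlgebraicGeometry.Scheme.affineOpenCoverOfSpanRangeEqTop rr hspan).openCover ?_ fun p => ?_
  · intro P Q hPQ
    have hPQ' : ∀ b : B, (b : R) ∈ P.asIdeal ↔ (b : R) ∈ Q.asIdeal := fun b =>
      SetLike.ext_iff.1 (congrArg PrimeSpectrum.asIdeal hPQ) b
    have key : ∀ P Q : PrimeSpectrum R, (∀ b : B, (b : R) ∈ P.asIdeal ↔ (b : R) ∈ Q.asIdeal) →
        P.asIdeal ≤ Q.asIdeal := by
      intro P Q h x hx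
      obtain ⟨p, hp, hpQ⟩ := Set.mem_iUnion₂.1 (ht (Set.mem_univ Q))
      obtain ⟨n, hn⟩ := hloc p hp x
      have h1 : (r p : R) ^ n * x ∈ Q.asIdeal := (h ⟨_, hn⟩).1 (P.asIdeal.mul_mem_left _ hx)
      exact (Q.isPrime.mem_or_mem h1).resolve_left fun h2 => hpQ (Q.isPrime.mem_of_pow_mem n h2)
    exact PrimeSpectrum.ext (le_antisymm (key P Q hPQ') (key Q P fun b => (hPQ' b).symm))
  · let rB : B := ⟨rr p, hS'B p.1 p.2 _ (r p.1).2⟩
    letI : Algebra B (Localization.Away (rr p)) :=
      ((algebraMap R (Localization.Away (rr p))).comp B.val.toRingHom).toAlgebra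
    haveI : IsLocalization.Away rB (Localization.Away (rr p)) := by
      refine IsLocalization.Away.mk _ (IsLocalization.Away.algebraMap_isUnit (rr p)) (fun z => ?_) fun a b hab => ?_
      · obtain ⟨n, x, hx⟩ := IsLocalization.Away.surj (rr p) z
        obtain ⟨m, hm⟩ := hloc p.1 p.2 x
        refine ⟨n + m, ⟨_, hm⟩, ?_⟩
        change z * algebraMap R _ (rr p) ^ (n + m) = algebraMap R _ (rr p ^ m * x)
        rw [map_mul, map_pow, ← hx, pow_add]
        ring
      · obtain ⟨n, hn⟩ := IsLocalization.Away.exists_of_eq (rr p) hab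
        exact ⟨n, Subtype.ext hn⟩
    have := AlgebraicGeometry.IsOpenImmersion.of_isLocalization (S := Localization.Away (rr p)) rB
    change AlgebraicGeometry.IsOpenImmersion (CategoryTheory.CategoryStruct.comp
      (AlgebraicGeometry.Spec.map (CommRingCat.ofHom (algebraMap R (Localization.Away (rr p)))))
      (AlgebraicGeometry.Spec.map (CommRingCat.ofHom B.val.toRingHom)))
    rw [← AlgebraicGeometry.Spec.map_comp, ← CommRingCat.ofHom_comp]
    exact this

end Groth.Agent.S19403
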