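import Groth.Statements.S19406
import Groth.Agent.H60.StabChar
-- import your own Groth.Agent.* helpers here

set_option autoImplicit false
universe u
open TensorProduct
open GLin

namespace Groth.Agent.S19406

/-- Let k be an algebraically closed field of characteristic zero, A a finitely generated commutative
Hopf algebra over k which is an integral domain and all of whose finite-dimensional comodules are
semisimple (a connected reductive group G), R a reduced finitely generated commutative k-algebra
with a multiplicative A-coaction (G acting on the affine variety X = Spec R), and χ a group-like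
element of A (a character of G). Then there is a set E of G-invariant functions on X such that, for
every k-point x of X whose orbit is closed, χ − 1 lies in the stabilizer ideal of x (χ is trivial on
the stabilizer of x) if and only if some member of E does not vanish at x: the set of points of X//G
over which the closed orbit has stabilizer on which χ is trivial is open. (The published statement
allows any reductive G; this row assumes G connected, the case the source's argument covers.) -/
theorem result (k : Type u) [Field k] [IsAlgClosed k] [CharZero k]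
    (A : Type u) [CommRing A] [IsDomain A] [HopfAlgebra k A] [Algebra.FiniteType k A] (hG : HopfRep.IsLinearlyReductive k A)
    (R : Type u) [CommRing R] [IsReduced R] [Algebra k R] [Algebra.FiniteType k R] [HopfRep.Comod k A R] [GLin.IsCoactAlg k A R]
    (χ : A) (hχ : IsGroupLikeElem k χ) :
    ∃ E : Set R, E ⊆ GLin.invariants k A R ∧
      ∀ x : R →ₐ[k] k, GLin.IsClosedOrbit k A x →
        (χ - 1 ∈ GLin.stabIdeal k A x ↔ ∃ f ∈ E, x f ≠ 0) := by
  classical
  open Groth.Agent.Lib.Comod.Basic Groth.Agent.Lib.Comod.Reynolds Groth.Agent.Lib.Comod.Orbits in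
  refine ⟨{f | f ∈ GLin.invariants k A R ∧ ∀ y : R →ₐ[k] k, GLin.IsClosedOrbit k A y → y f ≠ 0 →
    χ - 1 ∈ GLin.stabIdeal k A y}, fun f hf => hf.1, fun x hx => ⟨fun h => ?_, ?_⟩⟩
  · have hχ' := hχ.antipode (R := k)
    have hstab' : HopfAlgebraStruct.antipode k χ - 1 ∈ GLin.stabIdeal k A x := by
      have := Ideal.mul_mem_left (GLin.stabIdeal k A x) (-(HopfAlgebraStruct.antipode k χ : A)) h
      rwa [show -(HopfAlgebraStruct.antipode k χ : A) * (χ - 1) =
          HopfAlgebraStruct.antipode k χ - HopfAlgebraStruct.antipode k χ * χ by ring,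
        hχ.antipode_mul_cancel] at this
    obtain ⟨u, hu, hxu⟩ := Groth.Agent.H60.StabChar.exists_eigen hG x hx hχ h
    obtain ⟨v, hv, hxv⟩ := Groth.Agent.H60.StabChar.exists_eigen hG x hx hχ' hstab'
    refine ⟨u * v, ⟨?_, fun y hy hy0 => ?_⟩, by rw [map_mul, hxu, hxv, mul_one]; exact one_ne_zero⟩
    · change HopfRep.Comod.coact (k := k) (A := A) (u * v) = (u * v) ⊗ₜ[k] 1
      have hu' : HopfRep.Comod.coact (k := k) (A := A) u = u ⊗ₜ[k] χ := hu
      have hv' : HopfRep.Comod.coact (k := k) (A := A) v = v ⊗ₜ[k] HopfAlgebraStruct.antipode k χ := hv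
      rw [GLin.IsCoactAlg.coact_mul, hu', hv', Algebra.TensorProduct.tmul_mul_tmul, hχ.mul_antipode_cancel]
    · have hu' : HopfRep.Comod.coact (k := k) (A := A) u = u ⊗ₜ[k] χ := hu
      have hyu : y u ≠ 0 := fun h0 => hy0 (by rw [map_mul, h0, zero_mul])
      have h1 : GLin.orbitHom k A y (u - algebraMap k R (y u)) ∈ GLin.stabIdeal k A y :=
        Ideal.mem_map_of_mem _ (by rw [RingHom.mem_ker, map_sub, AlgHom.commutes]; exact sub_self _)
      have h2 : GLin.orbitHom k A y u = y u • χ := by
        simp only [GLin.orbitHom, AlgHom.comp_apply, GLin.coactAlgHom_apply, hu']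
        simp
      rw [map_sub, AlgHom.commutes, h2, Algebra.algebraMap_eq_smul_one, ← smul_sub] at h1
      have := Submodule.smul_of_tower_mem _ (y u)⁻¹ h1
      rwa [smul_smul, inv_mul_cancel₀ hyu, one_smul] at this
  · rintro ⟨f, ⟨-, hf⟩, hxf⟩
    exact hf x hx hxf

end Groth.Agent.S19406
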