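import Groth.Statements.S19408
import Groth.Agent.H60.LunaCart
import Mathlib.RingTheory.Smooth.Flat
-- import your own Groth.Agent.* helpers here

set_option autoImplicit false
universe u
open TensorProduct
open GLin Groth.Agent.Lib.Comod.Basic Groth.Agent.Lib.Comod.Reynolds Groth.Agent.H60.LunaCart

namespace Groth.Agent.S19408

/-- Let k be an algebraically closed field of characteristic zero, A a finitely generated commutative
Hopf algebra over k all of whose finite-dimensional comodules are semisimple (a reductive group G),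
S and R finitely generated commutative k-algebras with multiplicative A-coactions (G acting on
affine Y = Spec S and X = Spec R), S → R an algebra map compatible with the coactions (a G-morphism
θ : X → Y), S₀ → S and R₀ → R injective k-algebra maps whose images are the subrings of invariants,
and S₀ → R₀ an algebra map with S₀ → R₀ → R equal to S₀ → S → R (θ/G). Suppose R is étale over S, R₀
is étale over S₀, and the canonical map S ⊗_{S₀} R₀ → R is bijective (θ and θ/G étale and X ≅ Y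
×_{Y//G} X//G). Let J be an ideal of S which is a subcomodule (Y' = V(J) a closed G-invariant
subscheme), let S/J and R/JR carry A-coactions for which the quotient maps are compatible with the
coactions (the induced actions on Y' and X' = Y' ×_Y X), and let S₁ → S/J and R₁ → R/JR be injective
k-algebra maps whose images are the subrings of invariants, with S₁ → R₁ an algebra map such that S₁
→ R₁ → R/JR equals S₁ → S/J → R/JR. Then R/JR is étale over S/J, R₁ is étale over S₁, and the
canonical map (S/J) ⊗_{S₁} R₁ → R/JR is bijective (θ' : X' → Y' and θ'/G are étale and X' ≅ Y'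
×_{Y'//G} X'//G). -/
theorem result (k : Type u) [Field k] [IsAlgClosed k] [CharZero k]
    (A : Type u) [CommRing A] [HopfAlgebra k A] [Algebra.FiniteType k A] (hG : HopfRep.IsLinearlyReductive k A)
    (S : Type u) [CommRing S] [Algebra k S] [Algebra.FiniteType k S] [HopfRep.Comod k A S] [GLin.IsCoactAlg k A S]
    (R : Type u) [CommRing R] [Algebra k R] [Algebra.FiniteType k R] [HopfRep.Comod k A R] [GLin.IsCoactAlg k A R]
    [Algebra S R] [IsScalarTower k S R]
    (hequiv : (∀ s : S, HopfRep.Comod.coact (k := k) (A := A) (algebraMap S R s) =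
      Algebra.TensorProduct.map (IsScalarTower.toAlgHom k S R) (AlgHom.id k A) (HopfRep.Comod.coact (k := k) (A := A) s)))
    (S₀ : Type u) [CommRing S₀] [Algebra k S₀] [Algebra S₀ S] [IsScalarTower k S₀ S]
    (hS₀i : Function.Injective (algebraMap S₀ S)) (hS₀ : (IsScalarTower.toAlgHom k S₀ S).range = GLin.invariants k A S)
    (R₀ : Type u) [CommRing R₀] [Algebra k R₀] [Algebra R₀ R] [IsScalarTower k R₀ R]
    (hR₀i : Function.Injective (algebraMap R₀ R)) (hR₀ : (IsScalarTower.toAlgHom k R₀ R).range = GLin.invariants k A R)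
    [Algebra S₀ R₀] [Algebra S₀ R] [IsScalarTower S₀ S R] [IsScalarTower S₀ R₀ R]
    (het : Algebra.Etale S R) (het₀ : Algebra.Etale S₀ R₀)
    (hcart : Function.Bijective (Algebra.TensorProduct.productMap (IsScalarTower.toAlgHom S₀ S R) (IsScalarTower.toAlgHom S₀ R₀ R)))
    (J : Ideal S) (hJ : HopfRep.IsSubcomod (k := k) (A := A) (J.restrictScalars k))
    [HopfRep.Comod k A (S ⧸ J)] [GLin.IsCoactAlg k A (S ⧸ J)]
    (hqS : (∀ s : S, HopfRep.Comod.coact (k := k) (A := A) ((Ideal.Quotient.mkₐ k J) s) =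
        Algebra.TensorProduct.map (Ideal.Quotient.mkₐ k J) (AlgHom.id k A) (HopfRep.Comod.coact (k := k) (A := A) s)))
    [HopfRep.Comod k A (R ⧸ J.map (algebraMap S R))] [GLin.IsCoactAlg k A (R ⧸ J.map (algebraMap S R))]
    (hqR : (∀ s : R, HopfRep.Comod.coact (k := k) (A := A) ((Ideal.Quotient.mkₐ k (J.map (algebraMap S R))) s) =
        Algebra.TensorProduct.map (Ideal.Quotient.mkₐ k (J.map (algebraMap S R))) (AlgHom.id k A) (HopfRep.Comod.coact (k := k) (A := A) s)))
    (S₁ : Type u) [CommRing S₁] [Algebra k S₁] [Algebra S₁ (S ⧸ J)] [IsScalarTower k S₁ (S ⧸ J)]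
    (hS₁i : Function.Injective (algebraMap S₁ (S ⧸ J)))
    (hS₁ : (IsScalarTower.toAlgHom k S₁ (S ⧸ J)).range = GLin.invariants k A (S ⧸ J))
    (R₁ : Type u) [CommRing R₁] [Algebra k R₁] [Algebra R₁ (R ⧸ J.map (algebraMap S R))] [IsScalarTower k R₁ (R ⧸ J.map (algebraMap S R))]
    (hR₁i : Function.Injective (algebraMap R₁ (R ⧸ J.map (algebraMap S R))))
    (hR₁ : (IsScalarTower.toAlgHom k R₁ (R ⧸ J.map (algebraMap S R))).range = GLin.invariants k A (R ⧸ J.map (algebraMap S R)))
    [Algebra S₁ R₁] [Algebra S₁ (R ⧸ J.map (algebraMap S R))]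
    [IsScalarTower S₁ (S ⧸ J) (R ⧸ J.map (algebraMap S R))] [IsScalarTower S₁ R₁ (R ⧸ J.map (algebraMap S R))] :
    Algebra.Etale (S ⧸ J) (R ⧸ J.map (algebraMap S R)) ∧ Algebra.Etale S₁ R₁ ∧
      Function.Bijective (Algebra.TensorProduct.productMap
        (IsScalarTower.toAlgHom S₁ (S ⧸ J) (R ⧸ J.map (algebraMap S R)))
        (IsScalarTower.toAlgHom S₁ R₁ (R ⧸ J.map (algebraMap S R)))) := by
  haveI := het₀
  let qS : S →ₐ[k] S ⧸ J := Ideal.Quotient.mkₐ k J
  let qR : R →ₐ[k] R ⧸ (J.map (algebraMap S R)) := Ideal.Quotient.mkₐ k (J.map (algebraMap S R))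
  have hom_of : ∀ {V W : Type u} [CommRing V] [Algebra k V] [HopfRep.Comod k A V] [CommRing W] [Algebra k W]
      [HopfRep.Comod k A W] (q : V →ₐ[k] W),
      (∀ v, HopfRep.Comod.coact (k := k) (A := A) (q v) =
        Algebra.TensorProduct.map q (AlgHom.id k A) (HopfRep.Comod.coact (k := k) (A := A) v)) →
      Hoch.IsComodHom A q.toLinearMap := fun {V W} _ _ _ _ _ _ q hq => LinearMap.ext fun v => by
    simp only [LinearMap.comp_apply, AlgHom.toLinearMap_apply, hq]
    induction HopfRep.Comod.coact (k := k) (A := A) v using TensorProduct.induction_on with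
    | zero => simp
    | tmul a b => simp
    | add a b ha hb => simp only [map_add, ha, hb]
  have hqSh : Hoch.IsComodHom A qS.toLinearMap := hom_of qS hqS
  have hqRh : Hoch.IsComodHom A qR.toLinearMap := hom_of qR hqR
  -- the maps on invariant rings
  have hσ : ∀ s : S₀, ∃ t : S₁, algebraMap S₁ (S ⧸ J) t = qS (algebraMap S₀ S s) := fun s =>
    exists_of_range hS₁ (map_mem_fixedPts hqSh (fixed_of_range hS₀ s))
  have hρ : ∀ s : R₀, ∃ t : R₁, algebraMap R₁ (R ⧸ (J.map (algebraMap S R))) t = qR (algebraMap R₀ R s) := fun s =>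
    exists_of_range hR₁ (map_mem_fixedPts hqRh (fixed_of_range hR₀ s))
  choose σf hσf using hσ
  choose ρf hρf using hρ
  let σ : S₀ →+* S₁ :=
    { toFun := σf
      map_one' := hS₁i (by simp [hσf, qS])
      map_mul' := fun _ _ => hS₁i (by simp [hσf, qS])
      map_zero' := hS₁i (by simp [hσf, qS])
      map_add' := fun _ _ => hS₁i (by simp [hσf, qS]) }
  let ρ : R₀ →+* R₁ :=
    { toFun := ρf
      map_one' := hR₁i (by simp [hρf, qR])
      map_mul' := fun _ _ => hR₁i (by simp [hρf, qR])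
      map_zero' := hR₁i (by simp [hρf, qR])
      map_add' := fun _ _ => hR₁i (by simp [hρf, qR]) }
  have hσs : Function.Surjective σ := fun t => by
    obtain ⟨s, hs, hst⟩ := exists_fixedPts_lift hG hqSh (fixed_of_range hS₁ t)
      (show _ ∈ LinearMap.range qS.toLinearMap from Ideal.Quotient.mk_surjective _)
    obtain ⟨s₀, rfl⟩ := exists_of_range hS₀ hs
    exact ⟨s₀, hS₁i ((hσf s₀).trans hst)⟩
  have hρs : Function.Surjective ρ := fun t => by
    obtain ⟨s, hs, hst⟩ := exists_fixedPts_lift hG hqRh (fixed_of_range hR₁ t)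
      (show _ ∈ LinearMap.range qR.toLinearMap from Ideal.Quotient.mk_surjective _)
    obtain ⟨s₀, rfl⟩ := exists_of_range hR₀ hs
    exact ⟨s₀, hR₁i ((hρf s₀).trans hst)⟩
  have hσS : ∀ s : S₀, algebraMap S₁ (S ⧸ J) (σ s) = Ideal.Quotient.mk J (algebraMap S₀ S s) := hσf
  have hρR : ∀ b : R₀, algebraMap R₁ (R ⧸ (J.map (algebraMap S R))) (ρ b) = Ideal.Quotient.mk (J.map (algebraMap S R)) (algebraMap R₀ R b) := hρf
  letI : Algebra S₀ S₁ := σ.toAlgebra
  haveI : IsScalarTower S₀ S₁ (S ⧸ J) := .of_algebraMap_eq fun s => by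
    rw [IsScalarTower.algebraMap_apply S₀ S (S ⧸ J)]
    exact (hσS s).symm
  have hcomm : ∀ s : S₀, algebraMap S₁ R₁ (σ s) = ρ (algebraMap S₀ R₀ s) := fun s => hR₁i <| by
    rw [hρR, ← IsScalarTower.algebraMap_apply S₁ R₁ (R ⧸ (J.map (algebraMap S R))), IsScalarTower.algebraMap_apply S₁ (S ⧸ J),
      hσS, ← IsScalarTower.algebraMap_apply S₀ R₀ R, IsScalarTower.algebraMap_apply S₀ S R]
    rfl
  letI : Algebra S₀ R₁ := ((algebraMap S₁ R₁).comp σ).toAlgebra
  haveI : IsScalarTower S₀ S₁ R₁ := .of_algebraMap_eq fun s => rfl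
  let ρ' : R₀ →ₐ[S₀] R₁ := { toRingHom := ρ, commutes' := fun s => (hcomm s).symm }
  let g : S₁ ⊗[S₀] R₀ →ₐ[S₁] R₁ := Algebra.TensorProduct.lift (Algebra.ofId _ _) ρ' fun _ _ => Commute.all _ _
  have hgS : ∀ t b, g (t ⊗ₜ b) = algebraMap S₁ R₁ t * ρ b := fun t b => Algebra.TensorProduct.lift_tmul ..
  have hgs : Function.Surjective g := fun t => by
    obtain ⟨b, rfl⟩ := hρs t
    exact ⟨1 ⊗ₜ b, by rw [hgS]; simp⟩
  -- the closed subscheme
  haveI : IsScalarTower S₀ (S ⧸ J) (R ⧸ J.map (algebraMap S R)) := .of_algebraMap_eq fun s => by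
    rw [IsScalarTower.algebraMap_apply S₀ S (S ⧸ J), IsScalarTower.algebraMap_apply S₀ R (R ⧸ J.map (algebraMap S R)),
      IsScalarTower.algebraMap_apply S₀ S R]
    rfl
  let ψ : (S ⧸ J) ⊗[S₀] R₀ →ₐ[S₀] R ⧸ (J.map (algebraMap S R)) := Algebra.TensorProduct.productMap
    (IsScalarTower.toAlgHom S₀ (S ⧸ J) (R ⧸ (J.map (algebraMap S R)))) ((Ideal.Quotient.mkₐ S₀ (J.map (algebraMap S R))).comp (IsScalarTower.toAlgHom S₀ R₀ R))
  let qT : S ⊗[S₀] R₀ →ₐ[S₀] (S ⧸ J) ⊗[S₀] R₀ :=
    Algebra.TensorProduct.map (Ideal.Quotient.mkₐ S₀ J) (AlgHom.id S₀ R₀)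
  set μ := Algebra.TensorProduct.productMap (IsScalarTower.toAlgHom S₀ S R) (IsScalarTower.toAlgHom S₀ R₀ R)
  have hψq : ∀ z, ψ (qT z) = Ideal.Quotient.mk (J.map (algebraMap S R)) (μ z) := fun z => by
    induction z using TensorProduct.induction_on with
    | zero => simp
    | add y z hy hz => simp only [map_add, hy, hz]
    | tmul s b => simp [ψ, qT, μ, Ideal.Quotient.algebraMap_eq]
  have hqTs : Function.Surjective qT := fun z => by
    induction z using TensorProduct.induction_on with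
    | zero => exact ⟨0, map_zero _⟩
    | add y z hy hz => exact ⟨hy.choose + hz.choose, by rw [map_add, hy.choose_spec, hz.choose_spec]⟩
    | tmul s b =>
      obtain ⟨s, rfl⟩ := Ideal.Quotient.mk_surjective s
      exact ⟨s ⊗ₜ b, rfl⟩
  have hψi : Function.Injective ψ := by
    refine (injective_iff_map_eq_zero ψ).2 fun z hz => ?_
    obtain ⟨w, rfl⟩ := hqTs z
    rw [hψq, Ideal.Quotient.eq_zero_iff_mem] at hz
    set JT : Ideal (S ⊗[S₀] R₀) := J.map (algebraMap S (S ⊗[S₀] R₀))
    have h1 : (J.map (algebraMap S R)) = JT.map μ := by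
      change _ = (Ideal.map (algebraMap S (S ⊗[S₀] R₀)) J).map μ.toRingHom
      rw [Ideal.map_map]
      congr 1
      ext s
      simp [μ]
    rw [h1, Ideal.mem_map_iff_of_surjective _ hcart.2] at hz
    obtain ⟨v, hv, hvw⟩ := hz
    obtain rfl := hcart.1 hvw
    have h2 : JT ≤ RingHom.ker qT.toRingHom := Ideal.map_le_iff_le_comap.2 fun s hs => by
      simp [qT, Ideal.Quotient.eq_zero_iff_mem.2 hs]
    exact h2 hv
  have hψs : Function.Surjective ψ := fun r => by
    obtain ⟨r, rfl⟩ := Ideal.Quotient.mk_surjective r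
    obtain ⟨w, rfl⟩ := hcart.2 r
    exact ⟨qT w, hψq w⟩
  -- the invariant rings
  let ι : S₁ ⊗[S₀] R₀ →ₗ[S₀] (S ⧸ J) ⊗[S₀] R₀ := (IsScalarTower.toAlgHom S₀ S₁ (S ⧸ J)).toLinearMap.rTensor R₀
  have hι : Function.Injective ι := Module.Flat.rTensor_preserves_injective_linearMap _ hS₁i
  have hgι : ∀ z, algebraMap R₁ (R ⧸ (J.map (algebraMap S R))) (g z) = ψ (ι z) := fun z => by
    induction z using TensorProduct.induction_on with
    | zero => simp
    | add y z hy hz => simp only [map_add, hy, hz]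
    | tmul t b =>
      rw [hgS, map_mul, hρR, ← IsScalarTower.algebraMap_apply]
      simp [ψ, ι, ← IsScalarTower.algebraMap_apply]
  have hgi : Function.Injective g := fun y z hyz => hι (hψi (by rw [← hgι, ← hgι, hyz]))
  haveI het₁ : Algebra.Etale S₁ R₁ := Algebra.Etale.of_equiv (AlgEquiv.ofBijective g ⟨hgi, hgs⟩)
  set μ₁ := Algebra.TensorProduct.productMap (IsScalarTower.toAlgHom S₁ (S ⧸ J) (R ⧸ (J.map (algebraMap S R))))
    (IsScalarTower.toAlgHom S₁ R₁ (R ⧸ (J.map (algebraMap S R))))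
  let F : (S ⧸ J) ⊗[S₀] R₀ →ₐ[S₀] (S ⧸ J) ⊗[S₁] R₁ := Algebra.TensorProduct.lift
    ((Algebra.TensorProduct.includeLeft : (S ⧸ J) →ₐ[S₁] (S ⧸ J) ⊗[S₁] R₁).restrictScalars S₀)
    (((Algebra.TensorProduct.includeRight : R₁ →ₐ[S₁] (S ⧸ J) ⊗[S₁] R₁).restrictScalars S₀).comp ρ')
    fun _ _ => Commute.all _ _
  have hF : ∀ z, μ₁ (F z) = ψ z := fun z => by
    induction z using TensorProduct.induction_on with
    | zero => simp
    | add y z hy hz => simp only [map_add, hy, hz]
    | tmul t b =>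
      simp [F, ρ', μ₁, ψ, hρR]
  have hFs : Function.Surjective F := fun z => by
    induction z using TensorProduct.induction_on with
    | zero => exact ⟨0, map_zero _⟩
    | add y z hy hz => exact ⟨hy.choose + hz.choose, by rw [map_add, hy.choose_spec, hz.choose_spec]⟩
    | tmul t b =>
      obtain ⟨b, rfl⟩ := hρs b
      exact ⟨t ⊗ₜ b, by simp [F, ρ']⟩
  have hbij : Function.Bijective μ₁ := by
    refine ⟨fun y z h => ?_, fun r => ?_⟩
    · obtain ⟨y, rfl⟩ := hFs y
      obtain ⟨z, rfl⟩ := hFs z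
      rw [hF, hF] at h
      rw [hψi h]
    · obtain ⟨z, rfl⟩ := hψs r
      exact ⟨F z, hF z⟩
  exact ⟨Algebra.Etale.of_equiv (AlgEquiv.ofBijective
    ({ toRingHom := μ₁.toRingHom, commutes' := fun s => by simp [μ₁] } :
      (S ⧸ J) ⊗[S₁] R₁ →ₐ[S ⧸ J] R ⧸ (J.map (algebraMap S R))) hbij), het₁, hbij⟩

end Groth.Agent.S19408
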