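import Groth.Statements.S19411
import Groth.Agent.S15702
import Groth.Agent.Lib.Comod.Cartier
import Mathlib

set_option autoImplicit false
universe u
open TensorProduct
open GLin

namespace Groth.Agent.S19411

open TensorProduct Groth.Agent.Lib.UnitsProd Groth.Agent.S15702

variable {k : Type u} [Field k] [IsAlgClosed k] {A R : Type u} [CommRing A] [CommRing R]
  [HopfAlgebra k A] [Algebra k R] [HopfRep.Comod k A R] [GLin.IsCoactAlg k A R]

/-- Evaluation of the first factor. -/
noncomputable def evL (x : R →ₐ[k] k) : R ⊗[k] A →ₐ[k] A :=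
  Algebra.TensorProduct.productMap ((Algebra.ofId k A).comp x) (AlgHom.id k A)

lemma pt_evL (x : R →ₐ[k] k) (g : A →ₐ[k] k) (z : R ⊗[k] A) :
    g (evL x z) = x (evR (R := R) g z) := by
  induction z using TensorProduct.induction_on with
  | zero => simp
  | tmul r a => simp [evL, evR, Algebra.ofId_apply]
  | add p q hp hq => simp [hp, hq]

lemma idempotent_trivial [IsReduced R] [ConnectedSpace (PrimeSpectrum R)] {e : R} (he : e * e = e) :
    e = 0 ∨ e = 1 := by
  have hcl : IsClopen ((PrimeSpectrum.basicOpen e : TopologicalSpace.Opens (PrimeSpectrum R)) : Set (PrimeSpectrum R)) := by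
    refine ⟨⟨?_⟩, (PrimeSpectrum.basicOpen e).isOpen⟩
    have hc : ((PrimeSpectrum.basicOpen e : TopologicalSpace.Opens (PrimeSpectrum R)) : Set (PrimeSpectrum R))ᶜ =
        (PrimeSpectrum.basicOpen (1 - e) : TopologicalSpace.Opens (PrimeSpectrum R)) := by
      ext p
      simp only [Set.mem_compl_iff, SetLike.mem_coe, PrimeSpectrum.mem_basicOpen, not_not]
      refine ⟨fun h h' => p.2.ne_top ((Ideal.eq_top_iff_one _).2 (by simpa using add_mem h' h)), fun h => ?_⟩
      exact (p.2.mem_or_mem (show e * (1 - e) ∈ p.asIdeal by rw [mul_sub, mul_one, he, sub_self]; exact zero_mem _)).resolve_right h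
    rw [hc]
    exact (PrimeSpectrum.basicOpen (1 - e)).isOpen
  rcases isClopen_iff.1 hcl with h | h
  · left
    refine IsNilpotent.eq_zero ?_
    rw [← mem_nilradical, nilradical_eq_sInf, Submodule.mem_sInf]
    intro p hp
    have := Set.notMem_empty (⟨p, hp⟩ : PrimeSpectrum R)
    rw [← h, SetLike.mem_coe, PrimeSpectrum.mem_basicOpen, not_not] at this
    exact this
  · right
    have hu : IsUnit e := by
      by_contra hu
      obtain ⟨m, hm, hem⟩ := exists_max_ideal_of_mem_nonunits (mem_nonunits_iff.2 hu)
      have := Set.mem_univ (⟨m, hm.isPrime⟩ : PrimeSpectrum R)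
      rw [← h, SetLike.mem_coe, PrimeSpectrum.mem_basicOpen] at this
      exact this hem
    exact hu.mul_left_cancel (by rw [he, mul_one])

/-- The cocycle identity forces a unit, and a constant cocycle is group-like. -/
lemma cocycle (θ : R ⊗[k] A)
    (hassoc : (TensorProduct.assoc k R A A).toLinearMap ∘ₗ
        ((LinearMap.mulRight k θ) ∘ₗ HopfRep.Comod.coact (k := k) (A := A) (V := R)).rTensor A ∘ₗ
          ((LinearMap.mulRight k θ) ∘ₗ HopfRep.Comod.coact (k := k) (A := A) (V := R)) =
      (CoalgebraStruct.comul (R := k) (A := A)).lTensor R ∘ₗ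
        ((LinearMap.mulRight k θ) ∘ₗ HopfRep.Comod.coact (k := k) (A := A) (V := R)))
    (hcounit : (CoalgebraStruct.counit (R := k) (A := A)).lTensor R ∘ₗ
        ((LinearMap.mulRight k θ) ∘ₗ HopfRep.Comod.coact (k := k) (A := A) (V := R)) =
      (TensorProduct.mk k R k).flip 1) :
    evR (R := R) (Bialgebra.counitAlgHom k A) θ = 1 ∧ IsUnit θ ∧
      (Nontrivial R → ∀ v : A, θ = (1 : R) ⊗ₜ[k] v → IsGroupLikeElem k v) := by
  classical
  let ρ := GLin.coactAlgHom k A R
  let R₁ : R ⊗[k] A →ₐ[k] R ⊗[k] (A ⊗[k] A) :=
    (Algebra.TensorProduct.assoc k k k R A A).toAlgHom.comp (Algebra.TensorProduct.map ρ (AlgHom.id k A))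
  let R₂ : R ⊗[k] A →ₐ[k] R ⊗[k] (A ⊗[k] A) :=
    Algebra.TensorProduct.map (AlgHom.id k R) (Bialgebra.comulAlgHom k A)
  let J : R ⊗[k] A →ₐ[k] R ⊗[k] (A ⊗[k] A) :=
    Algebra.TensorProduct.map (AlgHom.id k R) Algebra.TensorProduct.includeLeft
  have hone : HopfRep.Comod.coact (k := k) (A := A) (1 : R) = 1 := GLin.IsCoactAlg.coact_one
  have hcocycle : R₂ θ = R₁ θ * J θ := by
    have := LinearMap.congr_fun hassoc 1
    simp only [LinearMap.comp_apply, LinearEquiv.coe_coe, hone, LinearMap.mulRight_apply, one_mul] at this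
    have hJ : ∀ z : R ⊗[k] A, Algebra.TensorProduct.assoc k k k R A A (z ⊗ₜ[k] (1 : A)) = J z := fun z => by
      induction z using TensorProduct.induction_on with
      | zero => simp
      | tmul q b => simp [J]
      | add p q hp hq => simp [TensorProduct.add_tmul, hp, hq]
    have e1 : ∀ z : R ⊗[k] A, TensorProduct.assoc k R A A
        (((LinearMap.mulRight k θ) ∘ₗ HopfRep.Comod.coact (k := k) (A := A) (V := R)).rTensor A z) =
        R₁ z * J θ := fun z => by
      induction z using TensorProduct.induction_on with
      | zero => simp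
      | tmul r a =>
        simp only [LinearMap.rTensor_tmul, LinearMap.comp_apply, LinearMap.mulRight_apply, R₁,
          AlgHom.comp_apply, Algebra.TensorProduct.map_tmul, AlgHom.id_apply, ρ, GLin.coactAlgHom_apply]
        show (Algebra.TensorProduct.assoc k k k R A A) ((HopfRep.Comod.coact r * θ) ⊗ₜ[k] a) = _
        rw [show (HopfRep.Comod.coact (k := k) (A := A) r * θ) ⊗ₜ[k] a =
          (HopfRep.Comod.coact (k := k) (A := A) r ⊗ₜ[k] a) * (θ ⊗ₜ[k] (1 : A)) by simp, map_mul]
        congr 1
        exact hJ θ
      | add p q hp hq => simp [hp, hq, add_mul]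
    have e2 : ∀ z : R ⊗[k] A, R₂ z = (CoalgebraStruct.comul (R := k) (A := A)).lTensor R z := fun z => by
      induction z using TensorProduct.induction_on with
      | zero => simp
      | tmul q a => simp [R₂]
      | add p q hp hq => simp [hp, hq]
    rw [e2, ← e1]; exact this.symm
  have hε : evR (R := R) (Bialgebra.counitAlgHom k A) θ = 1 := by
    have := LinearMap.congr_fun hcounit 1
    simp only [LinearMap.comp_apply, hone, LinearMap.mulRight_apply, one_mul] at this
    have e : ∀ z : R ⊗[k] A, evR (R := R) (Bialgebra.counitAlgHom k A) z =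
        TensorProduct.rid k R ((CoalgebraStruct.counit (R := k) (A := A)).lTensor R z) := fun z => by
      induction z using TensorProduct.induction_on with
      | zero => simp
      | tmul q a => simp [evR, Algebra.ofId_apply, Algebra.smul_def, mul_comm]
      | add p q hp hq => simp [hp, hq]
    rw [e, this]; simp
  refine ⟨hε, ?_, fun _ v hv => ⟨?_, ?_⟩⟩
  · let Q : R ⊗[k] (A ⊗[k] A) →ₐ[k] R ⊗[k] A := Algebra.TensorProduct.map (AlgHom.id k R)
      (Algebra.TensorProduct.productMap (AlgHom.id k A) (HopfAlgebra.antipodeAlgHom k A))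
    have h1 : ∀ z : R ⊗[k] A, Q (J z) = z := fun z => by
      induction z using TensorProduct.induction_on with
      | zero => simp
      | tmul q a => simp [Q, J]
      | add p q hp hq => simp [hp, hq]
    have h2 : ∀ z : R ⊗[k] A, Q (R₂ z) = evR (R := R) (Bialgebra.counitAlgHom k A) z ⊗ₜ[k] (1 : A) := fun z => by
      induction z using TensorProduct.induction_on with
      | zero => simp
      | tmul q a =>
        have e : Algebra.TensorProduct.productMap (AlgHom.id k A) (HopfAlgebra.antipodeAlgHom k A)
            (Bialgebra.comulAlgHom k A a) = algebraMap k A (Coalgebra.counit a) := by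
          rw [← HopfAlgebra.mul_antipode_lTensor_comul_apply, Bialgebra.comulAlgHom_apply]
          induction Coalgebra.comul (R := k) a using TensorProduct.induction_on with
          | zero => simp
          | tmul p r => simp
          | add p r hp hr => simp [hp, hr]
        simp only [Q, R₂, Algebra.TensorProduct.map_tmul, AlgHom.id_apply, e]
        simp [evR, Algebra.algebraMap_eq_smul_one, Algebra.ofId_apply, TensorProduct.smul_tmul]
      | add p q hp hq => simp [TensorProduct.add_tmul, hp, hq]
    have := congrArg Q hcocycle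
    rw [h2, hε, map_mul, h1, ← Algebra.TensorProduct.one_def, mul_comm] at this
    exact IsUnit.of_mul_eq_one _ this.symm
  · have h := hε
    rw [hv] at h
    refine (algebraMap k R).injective ?_
    simpa [evR, Algebra.ofId_apply] using h
  · refine Algebra.TensorProduct.includeRight_injective (R := k) (A := R) (B := A ⊗[k] A)
      (algebraMap k R).injective ?_
    show (1 : R) ⊗ₜ[k] Bialgebra.comulAlgHom k A v = (1 : R) ⊗ₜ[k] (v ⊗ₜ[k] v)
    rw [hv] at hcocycle
    simpa [R₁, R₂, J, ρ, Algebra.TensorProduct.one_def, hone] using hcocycle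


/-- Let k be an uncountable algebraically closed field of characteristic zero, A a finitely generated
commutative Hopf algebra over k all of whose finite-dimensional comodules are semisimple (a
reductive group G), and R a reduced finitely generated commutative k-algebra whose prime spectrum is
connected, with a multiplicative A-coaction ρ (G acting on the connected affine scheme X = Spec R).
Let θ ∈ R ⊗ A be such that the map r ↦ ρ(r)·θ from R to R ⊗ A is coassociative and counital (a
structure of G-line bundle on the trivial line bundle of X, θ being the corresponding invertible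
function on X × G). Suppose that either every unit of A is a scalar multiple of a group-like element
(every invertible function on G is a constant times a character), or every unit of R is a scalar
(every invertible function on X is constant). Then θ = 1 ⊗ χ for some group-like element χ of A: the
G-line bundle is the one attached to the character χ. (Stated for G-line bundle structures on the
trivial bundle, the case to which the hypothesis of a trivial Picard group reduces the source's
statement; uncountability of k is what the argument uses in the first case.) -/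
theorem result (k : Type u) [Field k] [IsAlgClosed k] [CharZero k] [Uncountable k]
    (A : Type u) [CommRing A] [HopfAlgebra k A] [Algebra.FiniteType k A] (hG : HopfRep.IsLinearlyReductive k A)
    (R : Type u) [CommRing R] [IsReduced R] [Algebra k R] [Algebra.FiniteType k R] [HopfRep.Comod k A R] [GLin.IsCoactAlg k A R]
    [ConnectedSpace (PrimeSpectrum R)]
    (θ : R ⊗[k] A)
    (hassoc : (TensorProduct.assoc k R A A).toLinearMap ∘ₗ
        ((LinearMap.mulRight k θ) ∘ₗ HopfRep.Comod.coact (k := k) (A := A) (V := R)).rTensor A ∘ₗ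
          ((LinearMap.mulRight k θ) ∘ₗ HopfRep.Comod.coact (k := k) (A := A) (V := R)) =
      (CoalgebraStruct.comul (R := k) (A := A)).lTensor R ∘ₗ
        ((LinearMap.mulRight k θ) ∘ₗ HopfRep.Comod.coact (k := k) (A := A) (V := R)))
    (hcounit : (CoalgebraStruct.counit (R := k) (A := A)).lTensor R ∘ₗ
        ((LinearMap.mulRight k θ) ∘ₗ HopfRep.Comod.coact (k := k) (A := A) (V := R)) =
      (TensorProduct.mk k R k).flip 1)
    (h : (∀ u : Aˣ, ∃ (c : k) (χ : A), IsGroupLikeElem k χ ∧ (u : A) = c • χ) ∨
      (∀ u : Rˣ, (u : R) ∈ Set.range (algebraMap k R))) :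
    ∃ χ : A, IsGroupLikeElem k χ ∧ θ = (1 : R) ⊗ₜ[k] χ := by
  classical
  haveI : IsReduced A := Groth.Agent.Lib.Comod.Cartier.isReduced (k := k)
  obtain ⟨hε, hunit, hgl⟩ := cocycle θ hassoc hcounit
  haveI : Nontrivial R := PrimeSpectrum.nonempty_iff_nontrivial.1 inferInstance
  obtain ⟨x₀⟩ : Nonempty (R →ₐ[k] k) := by
    obtain ⟨m, hm⟩ := Ideal.exists_maximal R
    obtain ⟨g, -⟩ := Groth.Agent.Lib.Hopf.Points.exists_point_of_isMaximal (k := k) m
    exact ⟨g⟩
  suffices hconst : θ = (1 : R) ⊗ₜ[k] evL x₀ θ from ⟨_, hgl inferInstance _ hconst, hconst⟩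
  rw [← sub_eq_zero]
  refine eq_zero_of_evR _ fun g => ?_
  rw [map_sub, sub_eq_zero, show evR (R := R) g ((1 : R) ⊗ₜ[k] evL x₀ θ) = algebraMap k R (g (evL x₀ θ)) by
    simp [evR, Algebra.ofId_apply]]
  rcases h with hA | hR
  · -- characters on `A`
    have hgx : ∀ x : R →ₐ[k] k, IsGroupLikeElem k (evL x θ) := fun x => by
      obtain ⟨c, χ, hχ, hc⟩ := hA (hunit.map (evL x)).unit
      rw [IsUnit.unit_spec] at hc
      have h1 : Bialgebra.counitAlgHom k A (evL x θ) = 1 := by rw [pt_evL, hε, map_one]
      rw [hc] at h1 ⊢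
      rw [map_smul, Bialgebra.counitAlgHom_apply, hχ.counit_eq_one, smul_eq_mul, mul_one] at h1
      rw [h1, one_smul]
      exact hχ
    obtain ⟨s, hs⟩ := TensorProduct.exists_finset θ
    let W : Submodule k A := Submodule.span k ((fun p : R × A => p.2) '' (s : Set (R × A)))
    have hW : ∀ x : R →ₐ[k] k, evL x θ ∈ W := fun x => by
      rw [hs, map_sum]
      refine sum_mem fun p hp => ?_
      rw [evL, Algebra.TensorProduct.productMap_apply_tmul, AlgHom.comp_apply, Algebra.ofId_apply,
        AlgHom.id_apply, ← Algebra.smul_def]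
      exact W.smul_mem _ (Submodule.subset_span ⟨p, hp, rfl⟩)
    let C : Set A := Set.range fun x : R →ₐ[k] k => evL x θ
    have hC : LinearIndepOn k id C := linearIndepOn_isGroupLikeElem.mono (by rintro _ ⟨x, rfl⟩; exact hgx x)
    obtain ⟨ℓ, hℓ⟩ : ∃ ℓ : A →ₗ[k] k, ∀ a ∈ C, ℓ a = if a = evL x₀ θ then 1 else 0 := by
      refine ⟨(Module.Basis.extend hC).constr k fun a => if (a : A) = evL x₀ θ then 1 else 0, fun a ha => ?_⟩
      have := (Module.Basis.extend hC).constr_basis k (fun a => if (a : A) = evL x₀ θ then (1:k) else 0)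
        ⟨a, hC.subset_extend _ ha⟩
      simpa [Module.Basis.extend_apply_self] using this
    let r : R := TensorProduct.rid k R (ℓ.lTensor R θ)
    have hr : ∀ x : R →ₐ[k] k, x r = ℓ (evL x θ) := fun x => by
      have : ∀ z : R ⊗[k] A, x (TensorProduct.rid k R (ℓ.lTensor R z)) = ℓ (evL x z) := fun z => by
        induction z using TensorProduct.induction_on with
        | zero => simp
        | tmul q a => simp [evL, Algebra.ofId_apply, Algebra.algebraMap_eq_smul_one, mul_comm]
        | add p q hp hq => simp [hp, hq]
      exact this θ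
    have hidem : r * r = r := by
      rw [← sub_eq_zero]
      refine Groth.Agent.Lib.Hopf.Points.eq_zero_of_forall_point_eq_zero (k := k) fun x => ?_
      rw [map_sub, map_mul, hr, hℓ _ ⟨x, rfl⟩]
      split_ifs <;> simp
    have h0 : x₀ r = 1 := by rw [hr, hℓ _ ⟨x₀, rfl⟩, if_pos rfl]
    have hr1 : r = 1 := (idempotent_trivial hidem).resolve_left fun h => by simp [h] at h0
    refine sub_eq_zero.1 (Groth.Agent.Lib.Hopf.Points.eq_zero_of_forall_point_eq_zero (k := k) fun x => ?_)
    have hx : evL x θ = evL x₀ θ := by
      by_contra hne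
      have := hr x
      rw [hr1, map_one, hℓ _ ⟨x, rfl⟩, if_neg hne] at this
      exact one_ne_zero this
    rw [map_sub, AlgHom.commutes, ← pt_evL, hx]
    simp
  · obtain ⟨c, hc⟩ := hR (hunit.map (evR (R := R) g)).unit
    rw [IsUnit.unit_spec] at hc
    rw [pt_evL, ← hc, AlgHom.commutes]
    simp

end Groth.Agent.S19411
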