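import Groth.Statements.S19415
import Groth.Agent.Lib.WeilCoh.Graph
import Mathlib.LinearAlgebra.Charpoly.Basic
import Mathlib.RingTheory.Coprime.Lemmas
import Mathlib.Data.Int.Interval

set_option autoImplicit false
universe u v
open CategoryTheory AlgebraicGeometry
open WeilCoh

namespace Groth.Agent.S19415

open Groth.Agent.Lib.WeilCoh.Formal Groth.Agent.Lib.WeilCoh.Geometry Groth.Agent.Lib.WeilCoh.Classes Groth.Agent.Lib.WeilCoh.Corr Groth.Agent.Lib.WeilCoh.Graph

/-- Let H be a Weil cohomology theory with coefficients in a field K of characteristic zero on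
nonsingular connected projective varieties over an algebraically closed field k, X such a variety of
dimension n, P = X × X with its projections p, q, and F : X → X an endomorphism such that the
characteristic polynomials of F^* on the cohomology groups H^i(X), i ∈ ℤ, are pairwise coprime in
K[T]. Then for every i the i-th Künneth projector of X is given by an algebraic correspondence with
coefficients in K: there is a class u in H^{2n}(P), lying in the K-linear span of the classes of
closed irreducible subsets of P, whose action β ↦ q_*(p^*(β) · u) is the identity on H^i(X) and zero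
on H^j(X) for every j ≠ i (push-forward q_* taken on the homogeneous piece of degree j + 2n). The
published statement has rational coefficients, X defined over a finite field and F its Frobenius
endomorphism, the coprimality of the characteristic polynomials being deduced there from the Riemann
hypothesis over finite fields and from the independence of these polynomials of the cohomology
theory; here that coprimality is the hypothesis and F is any endomorphism. -/
theorem result (k : Type u) [Field k]
    [IsAlgClosed k] (K : Type v) [Field K] [CharZero K] (T : WeilCoh.Theory k K)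
    (X P : WeilCoh.Var k) (p q : P ⟶ X) (hP : WeilCoh.IsProd p q) (F : X ⟶ X)
    (hF : ∀ i j : ℤ, i ≠ j → IsCoprime (T.pullDeg F i).charpoly (T.pullDeg F j).charpoly)
    (i : ℤ) :
    ∃ u : ↥(T.gr P (2 * (WeilCoh.dim X.obj.left : ℤ))),
      (u : T.H P) ∈ Submodule.span K (Set.range (T.cl P)) ∧
        ∀ (j : ℤ) (b : ↥(T.gr X j)),
          (T.push q (j + 2 * (WeilCoh.dim X.obj.left : ℤ))
              ⟨T.pull p (b : T.H X) * (u : T.H P),
                SetLike.mul_mem_graded (T.pull_mem p j b b.2) u.2⟩ : T.H X) =
            if j = i then (b : T.H X) else 0 := by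
  classical
  have hd := dim_prod T p q hP
  set m : ℤ := 2 * (WeilCoh.dim X.obj.left : ℤ) with hm
  have hmm : m = 2 * (WeilCoh.dim P.obj.left : ℤ) - 2 * (WeilCoh.dim X.obj.left : ℤ) := by omega
  -- powers of `F` and their transposed graphs
  let it : ℕ → (X ⟶ X) := Nat.rec (𝟙 X) fun _ g => g ≫ F
  have hit : ∀ n, (it (n + 1)) = it n ≫ F := fun _ => rfl
  have hj : ∀ n, ∃ j : X ⟶ P, j ≫ p = it n ∧ j ≫ q = 𝟙 X := by
    intro n
    have w : WeilCoh.sm (it n) ≫ X.obj.hom = WeilCoh.sm (𝟙 X) ≫ X.obj.hom := by
      rw [sm_comp_hom, sm_comp_hom]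
    refine ⟨ObjectProperty.homMk (Over.homMk (hP.lift _ _ w) ?_), ?_, ?_⟩
    · rw [← sm_comp_hom p]
      show hP.lift _ _ w ≫ WeilCoh.sm p ≫ X.obj.hom = X.obj.hom
      rw [← Category.assoc, hP.lift_fst, sm_comp_hom]
    · apply ObjectProperty.hom_ext
      apply Over.OverMorphism.ext
      exact hP.lift_fst _ _ w
    · apply ObjectProperty.hom_ext
      apply Over.OverMorphism.ext
      exact hP.lift_snd _ _ w
  choose j hjp hjq using hj
  -- the interpolating polynomial
  let N : Finset ℤ := Finset.Icc 0 m
  obtain ⟨a, b, hab⟩ : IsCoprime (T.pullDeg F i).charpoly (∏ l ∈ N.erase i, (T.pullDeg F l).charpoly) :=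
    IsCoprime.prod_right fun l hl => hF i l (Finset.ne_of_mem_erase hl).symm
  set Q : Polynomial K := b * ∏ l ∈ N.erase i, (T.pullDeg F l).charpoly
  have hQi : Polynomial.aeval (T.pullDeg F i) Q = 1 := by
    have := congrArg (Polynomial.aeval (T.pullDeg F i)) hab
    rw [map_add, map_mul, LinearMap.aeval_self_charpoly, mul_zero, zero_add, map_one] at this
    exact this
  have hQj : ∀ l, l ≠ i → Polynomial.aeval (T.pullDeg F l) Q = 0 := by
    intro l hl
    by_cases hN : l ∈ N
    · obtain ⟨c, hc⟩ : (T.pullDeg F l).charpoly ∣ Q :=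
        Dvd.dvd.mul_left (Finset.dvd_prod_of_mem _ (Finset.mem_erase.mpr ⟨hl, hN⟩)) b
      rw [hc, map_mul, LinearMap.aeval_self_charpoly, zero_mul]
    · refine LinearMap.ext fun x => Subtype.ext ?_
      simp only [N, Finset.mem_Icc] at hN
      rw [eq_zero_of_mem_of_gt T ((Polynomial.aeval (T.pullDeg F l) Q) x).2 (by omega)]
      rfl
  have hpow : ∀ (n : ℕ) (l : ℤ) (x : T.gr X l),
      (((T.pullDeg F l) ^ n) x : T.H X) = T.pull (it n) (x : T.H X) := by
    intro n l
    induction n with
    | zero => intro x; simp [it, T.pull_id]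
    | succ n ih =>
      intro x
      rw [pow_succ, Module.End.mul_apply, ih, hit, ← pull_comp_apply]
      rfl
  refine ⟨⟨∑ n ∈ Finset.range (Q.natDegree + 1), Q.coeff n •
      T.cl P (WeilCoh.sm (j n) (genericPoint ↥X.obj.left)), ?_⟩, ?_, fun l x => ?_⟩
  · exact Submodule.sum_mem _ fun n _ => Submodule.smul_mem _ _ (cl_section_mem T (j n) q (hjq n) hmm)
  · show (∑ n ∈ Finset.range (Q.natDegree + 1), Q.coeff n • T.cl P (WeilCoh.sm (j n) (genericPoint ↥X.obj.left))) ∈ _
    exact Submodule.sum_mem _ fun n _ => Submodule.smul_mem _ _ (Submodule.subset_span (R := K) (s := Set.range (T.cl P)) ⟨_, rfl⟩)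
  have hgoal : ∀ (z : T.H X), z ∈ T.gr X l → (z = ((Polynomial.aeval (T.pullDeg F l) Q) x : T.H X)) →
      z = if l = i then (x : T.H X) else 0 := by
    intro z _ hz
    rw [hz]
    split_ifs with h
    · subst h; rw [hQi]; rfl
    · rw [hQj l h]; rfl
  refine hgoal _ (cast_mem T (SetLike.coe_mem _) (by omega)) ?_
  have hz : ((Polynomial.aeval (T.pullDeg F l) Q) x : T.H X) =
      ∑ n ∈ Finset.range (Q.natDegree + 1), Q.coeff n • T.pull (it n) (x : T.H X) := by
    rw [Polynomial.aeval_eq_sum_range, LinearMap.sum_apply, Submodule.coe_sum]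
    refine Finset.sum_congr rfl fun n _ => ?_
    rw [LinearMap.smul_apply, Submodule.coe_smul, hpow]
  rw [hz]
  refine eq_of_forall_tr_mul T (j := 2 * (WeilCoh.dim P.obj.left : ℤ) - (l + m)) (by omega)
    (SetLike.coe_mem _) (Submodule.sum_mem _ fun n _ => Submodule.smul_mem _ _
      (cast_mem T (T.pull_mem _ l _ x.2) (by omega))) fun y hy => ?_
  refine (tr_act_mul T p q _ l x hy).trans ?_
  simp only [Finset.mul_sum, Finset.sum_mul, map_sum]
  refine Finset.sum_congr rfl fun n _ => ?_
  rw [mul_smul_comm, smul_mul_assoc, smul_mul_assoc, map_smul, map_smul]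
  congr 1
  rw [← act_cl_transpose T p q (j n) (it n) (hjp n) (hjq n) hmm l x, tr_act_mul T p q _ l x hy]

end Groth.Agent.S19415
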