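import Groth.Statements.S19418
import Groth.Agent.Lib.WeilCoh.Graph

set_option autoImplicit false
universe u v
open CategoryTheory AlgebraicGeometry
open WeilCoh

namespace Groth.Agent.S19418

open Groth.Agent.Lib.WeilCoh.Formal Groth.Agent.Lib.WeilCoh.Geometry Groth.Agent.Lib.WeilCoh.Classes Groth.Agent.Lib.WeilCoh.Corr Groth.Agent.Lib.WeilCoh.Graph

/-- Key step, cohomological form: let H be a Weil cohomology theory with coefficients in a field K of
characteristic zero on nonsingular connected projective varieties over an algebraically closed field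
k, X such a variety of dimension n, P = X × X with projections p, q and the swap automorphism σ (σ p
= q, σ q = p); the identity dim P = 2n is carried as the arithmetic hypothesis hdim. A class u ∈
H^{2n}(P) acts as a degree-0 correspondence on each H^j(X), 0 ≤ j ≤ 2n, by β ↦ q_*(p^*(β) · u); call
u algebraic when it lies in the K-linear span of the classes of closed irreducible subsets of P, and
let A be the K-subalgebra of ∏_j End_K(H^j(X)) generated by the actions of the algebraic classes in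
H^{2n}(P). If u is algebraic and ψ ∘ (action of u) is nilpotent for every ψ ∈ A — that is, the
action of u lies in the Jacobson radical of the finite-dimensional algebra A — then u is numerically
trivial against algebraic classes: Tr_P(u · v) = 0 for every algebraic v ∈ H^{2n}(P). In the
published argument this is the step showing that the algebra of degree-0 algebraic correspondences
modulo numerical equivalence has zero Jacobson radical, hence is semisimple; it is stated here on
the cohomological side, with the algebra generated by the correspondence actions in place of the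
algebra of cycle classes. -/
theorem result (k : Type u) [Field k] [IsAlgClosed k]
    (K : Type v) [Field K] [CharZero K] (T : WeilCoh.Theory k K) (X P : WeilCoh.Var k)
    (p q : P ⟶ X) (hP : WeilCoh.IsProd p q) (σ : P ⟶ P) (hσp : σ ≫ p = q) (hσq : σ ≫ q = p)
    (hdim : ∀ j : ℤ, j + 2 * (WeilCoh.dim X.obj.left : ℤ) + 2 * (WeilCoh.dim X.obj.left : ℤ) - 2 * (WeilCoh.dim P.obj.left : ℤ) = j)
    (u : ↥(T.gr P (2 * (WeilCoh.dim X.obj.left : ℤ)))) (hu : (u : T.H P) ∈ Submodule.span K (Set.range (T.cl P)))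
    (hJ : ∀ ψ ∈ Algebra.adjoin K
          (Set.range (fun w : {w : ↥(T.gr P (2 * (WeilCoh.dim X.obj.left : ℤ))) // (w : T.H P) ∈ Submodule.span K (Set.range (T.cl P))} =>
            fun j : Fin (2 * WeilCoh.dim X.obj.left + 1) =>
              ((LinearEquiv.ofEq (T.gr X (((j : ℕ) : ℤ) + 2 * (WeilCoh.dim X.obj.left : ℤ) + 2 * (WeilCoh.dim X.obj.left : ℤ) - 2 * (WeilCoh.dim P.obj.left : ℤ))) (T.gr X ((j : ℕ) : ℤ)) (congrArg (T.gr X) (hdim ((j : ℕ) : ℤ)))).toLinearMap ∘ₗ
              ((T.push q (((j : ℕ) : ℤ) + 2 * (WeilCoh.dim X.obj.left : ℤ))) ∘ₗ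
                (((LinearMap.mulRight K (w.1 : T.H P)).restrict (p := T.gr P ((j : ℕ) : ℤ))
                    (q := T.gr P (((j : ℕ) : ℤ) + 2 * (WeilCoh.dim X.obj.left : ℤ))) (fun x hx => SetLike.mul_mem_graded hx w.1.2)) ∘ₗ
                  T.pullDeg p ((j : ℕ) : ℤ)))))),
        IsNilpotent (ψ * fun j : Fin (2 * WeilCoh.dim X.obj.left + 1) =>
          ((LinearEquiv.ofEq (T.gr X (((j : ℕ) : ℤ) + 2 * (WeilCoh.dim X.obj.left : ℤ) + 2 * (WeilCoh.dim X.obj.left : ℤ) - 2 * (WeilCoh.dim P.obj.left : ℤ))) (T.gr X ((j : ℕ) : ℤ)) (congrArg (T.gr X) (hdim ((j : ℕ) : ℤ)))).toLinearMap ∘ₗ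
              ((T.push q (((j : ℕ) : ℤ) + 2 * (WeilCoh.dim X.obj.left : ℤ))) ∘ₗ
                (((LinearMap.mulRight K (u : T.H P)).restrict (p := T.gr P ((j : ℕ) : ℤ))
                    (q := T.gr P (((j : ℕ) : ℤ) + 2 * (WeilCoh.dim X.obj.left : ℤ))) (fun x hx => SetLike.mul_mem_graded hx u.2)) ∘ₗ
                  T.pullDeg p ((j : ℕ) : ℤ))))))
    (v : ↥(T.gr P (2 * (WeilCoh.dim X.obj.left : ℤ)))) (hv : (v : T.H P) ∈ Submodule.span K (Set.range (T.cl P))) :
    T.tr P ((u : T.H P) * (v : T.H P)) = 0 := by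
  classical
  have hd := dim_prod T p q hP
  have hss := swap_swap p q hP σ hσp hσq
  have htr := tr_pull_swap T p q hP p q hP σ hσp hσq
  have hvs : T.pull σ (v : T.H P) ∈ Submodule.span K (Set.range (T.cl P)) := by
    refine (Submodule.span_le (p := (Submodule.span K (Set.range (T.cl P))).comap
      (T.pull σ).toLinearMap)).mpr ?_ hv
    rintro _ ⟨ξ, rfl⟩
    show T.pull σ (T.cl P ξ) ∈ Submodule.span K (Set.range (T.cl P))
    rw [pull_cl_involution T σ hss htr]
    exact Submodule.subset_span ⟨_, rfl⟩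
  set w : T.gr P (2 * (WeilCoh.dim X.obj.left : ℤ)) := ⟨T.pull σ (v : T.H P), T.pull_mem σ _ _ v.2⟩ with hw
  let act' : T.gr P (2 * (WeilCoh.dim X.obj.left : ℤ)) → ∀ j : Fin (2 * WeilCoh.dim X.obj.left + 1), Module.End K (T.gr X ((j : ℕ) : ℤ)) :=
    fun z j => (LinearEquiv.ofEq _ _ (congrArg (T.gr X) (hdim ((j : ℕ) : ℤ)))).toLinearMap ∘ₗ
      act T p q z ((j : ℕ) : ℤ)
  have hψ := hJ (act' w) (Algebra.subset_adjoin ⟨⟨w, hvs⟩, rfl⟩)
  obtain ⟨N, hN⟩ := hψ
  let A : ∀ l : ℕ, Module.End K (T.gr X (l : ℤ)) := fun l =>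
    (LinearEquiv.ofEq _ _ (congrArg (T.gr X) (hdim (l : ℤ)))).toLinearMap ∘ₗ act T p q w (l : ℤ) ∘ₗ
      (LinearEquiv.ofEq _ _ (congrArg (T.gr X) (hdim (l : ℤ)))).toLinearMap ∘ₗ act T p q u (l : ℤ)
  have key : ∀ (i i' : ℤ) (x : T.gr X i) (x' : T.gr X i'), i = i' → (x : T.H X) = x' →
      (act T p q w i x : T.H X) = act T p q w i' x' := by
    intro i i' x x' h h'
    subst h
    rw [Subtype.ext h']
  have h := tr_mul_pull_swap T p q hP p q hP σ hσp hσq u w (by omega) A fun l x =>
    key (l : ℤ) _ ((LinearEquiv.ofEq _ _ (congrArg (T.gr X) (hdim (l : ℤ)))) (act T p q u (l : ℤ) x))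
      (act T p q u (l : ℤ) x) (by have := hdim (l : ℤ); omega) rfl
  rw [show T.pull σ (w : T.H P) = (v : T.H P) by
    show T.pull σ (T.pull σ _) = _
    rw [pull_pull_eq T σ σ hss, pull_id_apply]] at h
  rw [h]
  refine Finset.sum_eq_zero fun l hl => ?_
  have hl' : l < 2 * WeilCoh.dim X.obj.left + 1 := Finset.mem_range.mp hl
  have hnil : IsNilpotent (A l) := ⟨N, congrFun hN ⟨l, hl'⟩⟩
  rw [(LinearMap.isNilpotent_trace_of_isNilpotent hnil).eq_zero, mul_zero]

end Groth.Agent.S19418
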