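import Groth.Statements.S19419
import Groth.Agent.H19.IntMult.BCClosed
import Groth.Agent.H19.IntMult.ExtProd
import Groth.Agent.Lib.Cyc.DegK.Dim
import Groth.Agent.Lib.Cyc.FibLen


set_option autoImplicit false
universe u
open CategoryTheory CategoryTheory.Limits AlgebraicGeometry
open Cyc

namespace Groth.Agent.S19419

theorem length_one {A : Type u} [CommRing A] (I : Ideal A) [hI : I.IsMaximal] :
    Module.length A (A ⧸ I) = 1 := by
  haveI : IsSimpleModule A (A ⧸ I) := isSimpleModule_iff_isCoatom.2 hI.out
  exact Module.length_eq_one A _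

theorem exists_pre {A B C D : Scheme.{u}} {a : A ⟶ B} {b : A ⟶ C} {c : B ⟶ D} {d : C ⟶ D}
    (H : IsPullback a b c d) (x : B) (y : C) (h : c x = d y) : ∃ w, a w = x ∧ b w = y := by
  obtain ⟨w, h1, h2⟩ := Scheme.Pullback.exists_preimage_pullback (f := c) (g := d) x y h
  exact ⟨H.isoPullback.inv w, by rw [← Scheme.Hom.comp_apply, H.isoPullback_inv_fst, h1],
    by rw [← Scheme.Hom.comp_apply, H.isoPullback_inv_snd, h2]⟩



/-- Let X be a smooth proper integral curve over an algebraically closed field k, with generic point η,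
and ψ : X → X a flat endomorphism over k. Let Y = X ×_k X with its two projections, m = ψ × id : Y →
Y (first projection intertwines ψ, second projection unchanged), d : X → Y the diagonal and g = (id,
ψ) : X → Y the graph of ψ. For the dimension function δ on Y induced from weight 0 on Spec k, the
flat pull-back of cycles along m in relative dimension 0 takes the diagonal divisor [Δ], the cycle
equal to 1 at d(η) and 0 elsewhere, to the graph divisor [Γ_ψ], the cycle equal to 1 at g(η) and 0
elsewhere: (ψ × id)^*[Δ] = [Γ_ψ]. The published statement allows any endomorphism ψ and reads the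
pull-back on divisors; flatness of ψ is what the flat pull-back of cycles requires (the intended
case is the Frobenius endomorphism), and iterating gives [Γ_{ψ^n}] = ((ψ × id)^*)^n [Δ]. -/
theorem result (k : Type u) [Field k]
    [IsAlgClosed k] (X : Scheme.{u}) (f : X ⟶ Spec (CommRingCat.of k)) [Smooth f] [IsProper f]
    [IsIntegral X] (hdim : topologicalKrullDim ↥X = 1) (ψ : X ⟶ X) (hψ : ψ ≫ f = f) [Flat ψ]
    (m : pullback f f ⟶ pullback f f) (hm₁ : m ≫ pullback.fst f f = pullback.fst f f ≫ ψ)
    (hm₂ : m ≫ pullback.snd f f = pullback.snd f f) (g : X ⟶ pullback f f)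
    (hg₁ : g ≫ pullback.fst f f = 𝟙 X) (hg₂ : g ≫ pullback.snd f f = ψ)
    (δ : ↥(pullback f f) → ℤ) (hδ : Cyc.DeltaCompat (pullback.fst f f ≫ f) δ (fun _ => 0)) :
    Cyc.pullFun m δ δ 0
        (Set.indicator ({pullback.diagonal f (genericPoint ↥X)} : Set ↥(pullback f f)) (fun _ => (1 : ℤ))) =
      Set.indicator ({g (genericPoint ↥X)} : Set ↥(pullback f f)) (fun _ => (1 : ℤ)) := by
  classical
  haveI : Mono g := SplitMono.mono (f := g) ⟨pullback.fst f f, hg₁⟩
  have hfull : ∀ {T : Scheme.{u}} (a : T ⟶ pullback f f) (b : T ⟶ X), a ≫ m = b ≫ pullback.diagonal f →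
      (a ≫ pullback.fst f f) ≫ g = a ∧ (a ≫ pullback.fst f f) ≫ ψ = b := fun a b h => by
    have h1 := congrArg (fun t => t ≫ pullback.fst f f) h
    have h2 := congrArg (fun t => t ≫ pullback.snd f f) h
    simp only [Category.assoc, hm₁, hm₂, pullback.diagonal_fst, pullback.diagonal_snd, Category.comp_id] at h1 h2
    refine ⟨pullback.hom_ext ?_ ?_, by rw [Category.assoc]; exact h1⟩
    · rw [Category.assoc, hg₁, Category.comp_id]
    · rw [Category.assoc, hg₂, Category.assoc, h1, h2]
  have H : IsPullback g ψ m (pullback.diagonal f) := by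
    have w : g ≫ m = ψ ≫ pullback.diagonal f := by
      apply pullback.hom_ext
      · simp only [Category.assoc, hm₁, pullback.diagonal_fst, Category.comp_id]; rw [← Category.assoc, hg₁, Category.id_comp]
      · simp only [Category.assoc, hm₂, hg₂, pullback.diagonal_snd, Category.comp_id]
    exact ⟨⟨w⟩, ⟨PullbackCone.IsLimit.mk w (fun s => s.fst ≫ pullback.fst f f)
      (fun s => (hfull s.fst s.snd s.condition).1) (fun s => (hfull s.fst s.snd s.condition).2)
      (fun s l hl _ => by
        rw [← hl, Category.assoc, hg₁, Category.comp_id])⟩⟩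
  haveI : IsClosedImmersion g := MorphismProperty.of_isPullback H.flip (inferInstanceAs (IsClosedImmersion (pullback.diagonal f)))
  -- ψ fixes the generic point
  have hψη : ψ (genericPoint X) = genericPoint X := by
    obtain ⟨x, hx, hx'⟩ := Flat.generalizingMap ψ (genericPoint_specializes (ψ (genericPoint X)))
    rw [← hx.antisymm (genericPoint_specializes x) |>.eq] at *
    exact hx'
  have eP : δ = Groth.Agent.Lib.Cyc.FieldDim.fdelta (pullback.fst f f ≫ f) :=
    funext (Groth.Agent.Lib.Cyc.DegK.Dim.delta_eq hδ)
  have hg' : ∀ w, δ (g w) = Groth.Agent.Lib.Cyc.FieldDim.fdelta f w := fun w => by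
    rw [eP, ← Groth.Agent.H19.IntMult.ExtProd.fdelta_preimmersion g]
    rw [← Category.assoc, hg₁, Category.id_comp]
  have hd' : ∀ w, δ (pullback.diagonal f w) = Groth.Agent.Lib.Cyc.FieldDim.fdelta f w := fun w => by
    rw [eP, ← Groth.Agent.H19.IntMult.ExtProd.fdelta_preimmersion (pullback.diagonal f)]
    rw [← Category.assoc, pullback.diagonal_fst, Category.id_comp]
  have hmg : m (g (genericPoint X)) = pullback.diagonal f (genericPoint X) := by
    rw [← Scheme.Hom.comp_apply, H.w, Scheme.Hom.comp_apply, hψη]
  funext z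
  rw [Groth.Agent.Lib.Cyc.FibLen.pullFun_apply, add_zero]
  by_cases hz : z = g (genericPoint X)
  · subst hz
    rw [if_pos (by rw [hmg, hg', hd']), Set.indicator_of_mem (Set.mem_singleton_iff.2 hmg),
      Set.indicator_of_mem (Set.mem_singleton _), one_mul]
    have hker := Groth.Agent.H19.IntMult.BCClosed.ker_stalkMap H (genericPoint X) hψη
    suffices h : Groth.Agent.Lib.Cyc.FibLen.fibLen m (g (genericPoint X)) = 1 by rw [h]; rfl
    haveI : ((IsLocalRing.maximalIdeal ((pullback f f).presheaf.stalk (m (g (genericPoint X))))).map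
        (m.stalkMap (g (genericPoint X))).hom).IsMaximal := hker ▸
      (letI : Field (X.presheaf.stalk (genericPoint X)) := inferInstanceAs (Field X.functionField)
       RingHom.ker_isMaximal_of_surjective (g.stalkMap (genericPoint X)).hom (g.stalkMap_surjective _))
    exact length_one _
  · rw [Set.indicator_of_notMem (s := ({g (genericPoint X)} : Set _)) (fun h => hz h)]
    split_ifs with h1
    swap
    · rfl
    rw [Set.indicator_of_notMem, zero_mul]
    intro h2
    obtain ⟨w, hw, -⟩ := exists_pre H z (genericPoint X) h2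
    refine hz (hw ▸ congrArg g ?_)
    by_contra hne
    have := ((Groth.Agent.Lib.Cyc.FieldDim.isDimFun_fdelta f) _ w (genericPoint_specializes w) (Ne.symm hne)).1
    rw [← hg' w, hw, h1, Set.mem_singleton_iff.1 h2, hd'] at this
    exact lt_irrefl _ this


end Groth.Agent.S19419
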