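import Groth.Statements.S1942
import Groth.Agent.Lib.Cyc.Gys.Proper

set_option autoImplicit false
universe u
open CategoryTheory AlgebraicGeometry
open CategoryTheory.Limits
open Cyc

namespace Groth.Agent.S1942

/-- Let (L, s, i : D → X) be an invertible module, a global section and its zero scheme, and F a
coherent O_X-module with δ ≤ k + 1 on its support such that s : F → F ⊗ L is injective (at each
point, writing s = f·t on a generator t of L_x, multiplication by f is injective on F_x). Then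
i^*[F]_{k+1} ∼_rat [i^*F]_k as k-cycles on D. Here i : D → X is the zero scheme of a global section
s of the invertible module L (Cyc.IsZeroSchemeOf), the Gysin map i^* : Z_{k+1}(X) → CH_k(D) is
computed on coefficient functions as c_1(L) ∩ − with the rational sections taken to be s where it is
nonzero (Cyc.gysinChoice) and restricted to the points of D, and classes on D are compared up to
rational equivalence on D for the restricted dimension function. Here a pair (X, δ) satisfying
Cyc.IsSetup (X locally Noetherian with universally catenary local rings, δ a dimension function)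
plays the role of a scheme locally of finite type over a fixed base equipped with a dimension
function. -/
theorem result (X D : Scheme.{u}) (δ : X → ℤ) (hX : Cyc.IsSetup X δ) (L : X.Modules) (hL : PicF.IsInvertible L) (s : L.presheaf.obj (Opposite.op ⊤)) (i : D ⟶ X) [IsClosedImmersion i] (hD : Cyc.IsZeroSchemeOf i L s) (k : ℤ) (F : X.Modules) (hF : Coh.IsCoh F) (hdim : ∀ x : X, Nontrivial (F.presheaf.stalk x) → δ x ≤ k + 1) (hreg : ∀ (x : X) (t : L.presheaf.stalk x) (f : X.presheaf.stalk x), Submodule.span (X.presheaf.stalk x) {t} = ⊤ → (L.presheaf.germ ⊤ x trivial) s = f • t → Function.Injective (fun m : F.presheaf.stalk x => f • m)) (w : (ξ : X) → Cyc.secFibre L ξ) (hw : ∀ ξ, w ξ ≠ 0) (γ : AlgebraicCycle D ℤ) (hγ : ∀ d, γ d = Cyc.c1CapFun δ L (Cyc.sheafFun δ (k + 1) F) (Cyc.gysinChoice L s w) (i d)) (ζ : AlgebraicCycle D ℤ) (hζ : ⇑ζ = Cyc.sheafFun (fun d => δ (i d)) k ((Scheme.Modules.pullback i).obj F)) : Cyc.RatEquiv (fun d => δ (i d)) k γ ζ := by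
  haveI := hX.1
  haveI : IsLocallyNoetherian D := LocallyOfFiniteType.isLocallyNoetherian i
  have hδ := hX.2.2
  have hδD := Lib.Cyc.Gys.Closed.isDimFun i hδ
  have hF' : Cyc.CohLe δ (k + 1) F := ⟨hF, hdim⟩
  haveI hm : Mono (Lib.Cyc.Gys.MulMap.mulS L s F) := by
    rw [Lib.Modules.StalkModule.mono_iff_stalkMapₗ_injective]
    intro x m m' h
    obtain ⟨t, f, ht, hs⟩ := Lib.Cyc.Gys.MulMap.exists_coeff L s hL x
    obtain ⟨E, hE⟩ := Lib.Cyc.Gys.MulMap.exists_stalk L s hL ht hs F
    exact hreg x t f ht hs ((hE m).symm.trans ((congrArg E h).trans (hE m')))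
  have hs := Lib.Cyc.Gys.Class.small_of_cohLe (s := s) hL hF'
  have hT := Lib.Cyc.C1K.Main.cohLe_twist hL hF'
  have hC : Cyc.CohLe δ k (Limits.cokernel (Lib.Cyc.Gys.MulMap.mulS L s F)) := by
    refine ⟨hs.2.2.1, fun y hy => ?_⟩
    have h1 := hs.2.2.2 y hy
    by_contra hlt
    have hy' : δ y = k + 1 := by omega
    have hfin := Lib.Cyc.K0.Cycles.length_ne_top (k + 1) hδ hs.2.2 hy'
    have hsum := congrFun (Lib.Cyc.K0.Cycles.sheafFun_shortExact (k + 1) hδ
      (Lib.Cyc.Dev.Basic.shortExact_of_mono (Lib.Cyc.Gys.MulMap.mulS L s F)) hT) y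
    simp only [Pi.add_apply, Cyc.sheafFun, if_pos hy', Lib.Cyc.C1K.Main.length_twist hL F] at hsum
    have h0 : Module.length (X.presheaf.stalk y)
        ((Limits.cokernel (Lib.Cyc.Gys.MulMap.mulS L s F)).presheaf.stalk y) = 0 := by
      have hz : (Module.length (X.presheaf.stalk y)
        ((Limits.cokernel (Lib.Cyc.Gys.MulMap.mulS L s F)).presheaf.stalk y)).toNat = 0 := by omega
      exact (ENat.toNat_eq_zero.1 hz).resolve_right hfin
    exact not_subsingleton_iff_nontrivial.2 hy (Module.length_eq_zero_iff.1 h0)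
  obtain ⟨A, B, hA, hB, e, f⟩ := Lib.Cyc.Gys.Cycle.exists_gys i hδ hL hD hF' w hw
  have hk := Lib.Cyc.Gys.MulMap.killed_cokernel L s hL hD F
  have hC' := Lib.Cyc.Gys.Killed.cohLe_pull i hk hC
  rw [Lib.Cyc.Gys.Class.gys, Lib.Cyc.Gys.Class.clD_of_isZero i (Limits.isZero_kernel_of_mono
    (Lib.Cyc.Gys.MulMap.mulS L s F)), sub_zero] at e
  have hb := Lib.Cyc.K0.Cycles.cohLe_biprod hB hC'
  have g := Lib.Cyc.K0.Cycles.mk_rel (fun d => δ (i d)) (k + 1) (k - 1)
    (ShortComplex.Splitting.ofHasBinaryBiproduct B _).shortExact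
    (Lib.Cyc.Retr.K0Tools.cohLe_mono (by omega) hB) (Lib.Cyc.Retr.K0Tools.cohLe_mono (by omega) hb)
    (Lib.Cyc.Retr.K0Tools.cohLe_mono (by omega) hC')
  dsimp only at g
  refine Lib.Cyc.FP.Rat.ratEquivZero_sub hδD hA hb ?_ _ fun d => ?_
  · rw [g, show Cyc.toK0CohQuot (fun d => δ (i d)) (k + 1) (k - 1)
      ((Scheme.Modules.pullback i).obj (Limits.cokernel (Lib.Cyc.Gys.MulMap.mulS L s F))) = _ from e]
    abel
  · have hlen : Cyc.sheafFun (fun d => δ (i d)) k ((Scheme.Modules.pullback i).obj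
        (Limits.cokernel (Lib.Cyc.Gys.MulMap.mulS L s F))) d =
        Cyc.sheafFun (fun d => δ (i d)) k ((Scheme.Modules.pullback i).obj F) d := by
      simp only [Cyc.sheafFun, (Lib.Modules.StalkModule.stalkLinearEquiv
        (Lib.Cyc.Gys.Proper.pullCokerIso i hL hD F ≪≫
          Lib.TensorMod.Pullback.pullbackTensorIso i F L) d).length_eq,
        Lib.Cyc.C1K.Main.length_twist (PicLoc.isInvertible_pullback i hL)]
    simp only [Function.locallyFinsuppWithin.coe_sub, Pi.sub_apply]
    rw [Lib.Cyc.C1K.Chow.sheafFun_biprod hδD hB hC', hlen, hγ, hζ, ← f]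
    ring

end Groth.Agent.S1942
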