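import Groth.Statements.S19420
import Groth.Agent.H60.CubicCrit
-- import your own Groth.Agent.* helpers here

set_option autoImplicit false
universe u
open TensorProduct LaurentPolynomial
open GIT

namespace Groth.Agent.S19420

/-- Let k be an algebraically closed field of characteristic zero and let SL_3 act by substitution on
ternary cubic forms, the point a having the form F = Σ_m (3; m) a_m x^m. Then a is semistable (some
invariant homogeneous polynomial of positive degree in the coefficients is non-zero at a) if and
only if at every non-zero vector w where all first partial derivatives of F vanish, the matrix of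
second partial derivatives of F at w has rank 2: every singular point of the plane cubic F = 0 is a
double point with two distinct tangent lines. (The published statement assumes only that the
characteristic of k is neither 2 nor 3; it is stated here in characteristic zero.) -/
theorem result (k : Type u) [Field k] [IsAlgClosed k] [CharZero k]
    (a : CoordGrp.FormIdx 3 3 → k) :
    @GLin.IsSemistableVec k _ (CoordGrp.SLn 3 k) _ _ (CoordGrp.FormIdx 3 3) (GLin.comodAlong ((CoordGrp.SLn.mkHom 3 k).comp (CoordGrp.Mat.toGLn 3 k)) (CoordGrp.formsCoact k 3 3))
      (GLin.isCoactAlg_comodAlong ((CoordGrp.SLn.mkHom 3 k).comp (CoordGrp.Mat.toGLn 3 k)) (CoordGrp.formsCoact k 3 3)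
        (CoordGrp.formsCoact_isCoactAlg k 3 3))
      a ↔
      ∀ w : Fin 3 → k, w ≠ 0 →
        (∀ i : Fin 3, MvPolynomial.eval w (MvPolynomial.pderiv i (CoordGrp.formPoly a)) = 0) →
          (Matrix.of fun i j : Fin 3 =>
            MvPolynomial.eval w (MvPolynomial.pderiv i (MvPolynomial.pderiv j (CoordGrp.formPoly a)))).rank = 2 := by
  by_cases ha : a = 0
  · subst ha
    constructor
    · intro h
      refine absurd (fun F _ N hN hF => ?_) h
      rw [MvPolynomial.eval_zero, MvPolynomial.constantCoeff_eq]
      exact hF.coeff_eq_zero (by simpa using hN.ne)
    · intro h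
      have := h (Pi.single 0 1) (by simp) (fun i => by simp [CoordGrp.formPoly])
      rw [show (Matrix.of fun i j : Fin 3 => MvPolynomial.eval (Pi.single 0 1 : Fin 3 → k)
        (MvPolynomial.pderiv i (MvPolynomial.pderiv j (CoordGrp.formPoly (0 : CoordGrp.FormIdx 3 3 → k))))) = 0 from by
          ext i j; simp [CoordGrp.formPoly], Matrix.rank_zero] at this
      exact absurd this (by norm_num)
  · exact (Groth.Agent.H60.SLHM.isSemistableVec_iff ha).trans
      (Groth.Agent.H60.CubicCrit.planeCubic_semistable_iff a)

end Groth.Agent.S19420
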