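import Groth.Statements.S19436
import Mathlib.RingTheory.Nakayama
import Mathlib.RingTheory.Ideal.Quotient.Noetherian
import Mathlib.RingTheory.LocalRing.RingHom.Basic
import Mathlib.LinearAlgebra.FiniteDimensional.Lemmas
import Mathlib.LinearAlgebra.FiniteDimensional.Basic

set_option autoImplicit false
universe u
open CAlg

namespace Groth.Agent.S19436

theorem pow_le_of_finrank_le (k : Type u) [Field k] (R : Type u) [CommRing R] [Algebra k R]
    [IsNoetherianRing R] [IsLocalRing R] (I : Ideal R) [Module.Finite k (R ⧸ I)] (n : ℕ)
    (hn : Module.finrank k (R ⧸ I) ≤ n) : IsLocalRing.maximalIdeal R ^ n ≤ I := by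
  rcases eq_or_ne I ⊤ with rfl | hI
  · exact le_top
  have : Nontrivial (R ⧸ I) := Ideal.Quotient.nontrivial_iff.mpr hI
  set J := (IsLocalRing.maximalIdeal R).map (Ideal.Quotient.mk I) with hJ
  have : IsLocalRing (R ⧸ I) :=
    IsLocalRing.of_surjective' (Ideal.Quotient.mk I) Ideal.Quotient.mk_surjective
  have key : ∀ j, J ^ j = ⊥ ∨
      Module.finrank k ((J ^ j).restrictScalars k) + j ≤ n := by
    intro j
    induction j with
    | zero =>
      right
      simpa using (Submodule.finrank_le _).trans hn
    | succ j ih =>
      by_cases h0 : J ^ j = ⊥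
      · exact Or.inl (by rw [pow_succ, h0, Ideal.bot_mul])
      · right
        have hlt : J ^ (j + 1) < J ^ j := by
          refine lt_of_le_of_ne (Ideal.pow_le_pow_right j.le_succ) fun e => h0 ?_
          refine Submodule.eq_bot_of_le_smul_of_le_jacobson_bot J (J ^ j)
            (Ideal.fg_of_isNoetherianRing _) ?_ ?_
          · rw [smul_eq_mul, ← pow_succ']
            exact e.symm.le
          · refine le_trans (IsLocalRing.le_maximalIdeal ?_) (IsLocalRing.maximalIdeal_le_jacobson _)
            rw [hJ, IsLocalRing.map_maximalIdeal_of_surjective _ Ideal.Quotient.mk_surjective]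
            exact (IsLocalRing.maximalIdeal.isMaximal _).ne_top
        have h := Submodule.finrank_lt_finrank_of_lt
          (show ((J ^ (j + 1)).restrictScalars k) < (J ^ j).restrictScalars k from hlt)
        have := ih.resolve_left h0
        omega
  have hbot : J ^ n = ⊥ := by
    refine (key n).elim id fun h => ?_
    have h0 : Module.finrank k ((J ^ n).restrictScalars k) = 0 := by omega
    exact (Submodule.restrictScalars_eq_bot_iff k (R ⧸ I) (R ⧸ I)).mp (Submodule.finrank_eq_zero.mp h0)
  rwa [hJ, ← Ideal.map_pow, Ideal.map_eq_bot_iff_le_ker, Ideal.mk_ker] at hbot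


/-- For a Noetherian local commutative algebra R over a field k, with maximal ideal M, and an ideal I of
R whose quotient R/I is finite-dimensional over k of dimension n, the power M^n lies in I. -/
theorem result (k : Type u) [Field k] (R : Type u) [CommRing R]
    [Algebra k R] [IsNoetherianRing R] [IsLocalRing R] (I : Ideal R) [Module.Finite k (R ⧸ I)] (n : ℕ)
    (hn : Module.finrank k (R ⧸ I) = n) : IsLocalRing.maximalIdeal R ^ n ≤ I := by
  exact pow_le_of_finrank_le k R I n hn.le

end Groth.Agent.S19436
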