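import Groth.Statements.S19437
import Mathlib
-- import your own Groth.Agent.* helpers here

set_option autoImplicit false
universe u
open CAlg

namespace Groth.Agent.S19437

open MvPowerSeries in
/-- exponent `(i, j)` -/
noncomputable def e (i j : ℕ) : Fin 2 →₀ ℕ := Finsupp.single 0 i + Finsupp.single 1 j

open MvPowerSeries in
theorem e_eta (d : Fin 2 →₀ ℕ) : d = e (d 0) (d 1) := by ext l; fin_cases l <;> simp [e]

open MvPowerSeries in
theorem decomp {k : Type u} [Field k] (J : Ideal (MvPowerSeries (Fin 2) k)) (a b : ℕ)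
    (hxy : X 0 * X 1 ∈ J) (hx : X 0 ^ a ∈ J) (hy : X 1 ^ b ∈ J) (f : MvPowerSeries (Fin 2) k)
    (h1 : ∀ i < a, coeff (e i 0) f = 0) (h2 : ∀ j < b, coeff (e 0 j) f = 0) : f ∈ J := by
  classical
  let f1 : MvPowerSeries (Fin 2) k := fun d => if d 0 ≠ 0 ∧ d 1 ≠ 0 then f d else 0
  let f2 : MvPowerSeries (Fin 2) k := fun d => if d 1 = 0 then f d else 0
  let f3 : MvPowerSeries (Fin 2) k := fun d => if d 0 = 0 ∧ d 1 ≠ 0 then f d else 0
  have hf : f = f1 + f2 + f3 := by
    funext d
    show f d = f1 d + f2 d + f3 d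
    by_cases hd0 : d 0 = 0 <;> by_cases hd1 : d 1 = 0 <;> simp [f1, f2, f3, hd0, hd1]
  have hf2 : X 0 ^ a ∣ f2 := by
    rw [X_pow_dvd_iff]
    intro d hd
    show f2 d = 0
    simp only [f2]
    split_ifs with h
    · have := h1 (d 0) hd
      rw [← h, ← e_eta] at this; exact this
    · rfl
  have hf3 : X 1 ^ b ∣ f3 := by
    rw [X_pow_dvd_iff]
    intro d hd
    show f3 d = 0
    simp only [f3]
    split_ifs with h
    · have := h2 (d 1) hd
      rw [← h.1, ← e_eta] at this; exact this
    · rfl
  have hf1 : X 0 * X 1 ∣ f1 := by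
    obtain ⟨g, hg⟩ : (X 1 : MvPowerSeries (Fin 2) k) ∣ f1 := by
      rw [X_dvd_iff]; intro d hd; show f1 d = 0; simp [f1, hd]
    have hg0 : (X 0 : MvPowerSeries (Fin 2) k) ∣ g := by
      rw [X_dvd_iff]
      intro d hd
      have h' := congrArg (coeff (Finsupp.single 1 1 + d)) hg
      rw [X_def, coeff_add_monomial_mul, one_mul] at h'
      rw [← h']
      show f1 (Finsupp.single 1 1 + d) = 0
      simp [f1, hd]
    rw [hg, mul_comm (X 1) g]
    exact mul_dvd_mul_right hg0 _
  rw [hf]
  obtain ⟨u1, e1⟩ := hf1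
  obtain ⟨u2, e2⟩ := hf2
  obtain ⟨u3, e3⟩ := hf3
  rw [e1, e2, e3]
  exact add_mem (add_mem (J.mul_mem_right _ hxy) (J.mul_mem_right _ hx)) (J.mul_mem_right _ hy)

open MvPowerSeries in
theorem low {k : Type u} [Field k] (J : Ideal (MvPowerSeries (Fin 2) k)) (hJ : J ≠ ⊤) (s t : Fin 2) (hst : s ≠ t)
    (hxy : X s * X t ∈ J) (a : ℕ) (ha : X s ^ a ∉ J) (f : MvPowerSeries (Fin 2) k) (hf : f ∈ J) :
    ∀ i < a, coeff (Finsupp.single s i) f = 0 := by
  classical
  intro i
  induction i using Nat.strong_induction_on with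
  | _ i ih =>
    intro hi
    by_contra hne
    let f2 : MvPowerSeries (Fin 2) k := fun d => if d t = 0 then f d else 0
    obtain ⟨v, hv⟩ : (X t : MvPowerSeries (Fin 2) k) ∣ f - f2 := by
      rw [X_dvd_iff]; intro d hd; rw [map_sub, sub_eq_zero]; show f d = f2 d; simp [f2, hd]
    obtain ⟨w, hw⟩ : (X s : MvPowerSeries (Fin 2) k) ^ i ∣ f2 := by
      rw [X_pow_dvd_iff]
      intro d hd
      show f2 d = 0
      simp only [f2]
      split_ifs with h
      · have hd' : d = Finsupp.single s (d s) := by
          ext l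
          by_cases hl : l = s
          · subst hl; simp
          · have : l = t := by omega
            subst this; simp [h, hl]
        have := ih (d s) hd (hd.trans hi)
        rw [← hd'] at this; exact this
      · rfl
    have hw0 : IsUnit w := by
      rw [isUnit_iff_constantCoeff, isUnit_iff_ne_zero]
      intro h0
      apply hne
      have h1 := congrArg (coeff (Finsupp.single s i + 0)) hw
      rw [X_pow_eq, coeff_add_monomial_mul, one_mul, coeff_zero_eq_constantCoeff, h0] at h1
      rw [← h1, add_zero]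
      show f (Finsupp.single s i) = f2 (Finsupp.single s i)
      simp [f2, hst]
    rcases Nat.eq_zero_or_pos i with rfl | hi0
    · refine hJ (Ideal.eq_top_of_isUnit_mem J hf ?_)
      rw [isUnit_iff_constantCoeff, isUnit_iff_ne_zero, ← coeff_zero_eq_constantCoeff_apply]
      simpa using hne
    · have h1 : X s ^ (i + 1) * w ∈ J := by
        have h2 := J.sub_mem (J.mul_mem_left (X s) hf) (J.mul_mem_right v hxy)
        convert h2 using 1
        linear_combination (-(X s : MvPowerSeries (Fin 2) k)) * hv - (X s : MvPowerSeries (Fin 2) k) * hw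
      exact ha (J.pow_mem_of_pow_mem ((Ideal.mul_unit_mem_iff_mem J hw0).1 h1) (show i + 1 ≤ a by omega))

open MvPowerSeries in
theorem finrank_eq {k : Type u} [Field k] (J : Ideal (MvPowerSeries (Fin 2) k)) {ι : Type} [Fintype ι]
    (Φ : MvPowerSeries (Fin 2) k →ₗ[k] (ι → k)) (hsurj : Function.Surjective Φ) (hker : ∀ f, Φ f = 0 ↔ f ∈ J) :
    Module.finrank k (MvPowerSeries (Fin 2) k ⧸ J) = Fintype.card ι := by
  have hk : J.restrictScalars k = LinearMap.ker Φ := by
    ext f; rw [Submodule.restrictScalars_mem, LinearMap.mem_ker, hker]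
  rw [← (Submodule.Quotient.restrictScalarsEquiv k J).finrank_eq,
    ((Submodule.quotEquivOfEq _ _ hk).trans (Φ.quotKerEquivOfSurjective hsurj)).finrank_eq, Module.finrank_pi]


/-- Ideals of colength n of the complete local ring of a node. Let k be a field and J an ideal of the
power series ring k[[x,y]] in two variables x, y which contains xy and whose quotient is
finite-dimensional over k of dimension n ≥ 2. Then there are integers a, b ≥ 1 such that either a +
b = n + 1 and J is generated by xy, x^a, y^b, or a + b = n and J is generated by xy and x^a + α y^b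
for some nonzero scalar α. -/
theorem result (k : Type u) [Field k]
    (J : Ideal (MvPowerSeries (Fin 2) k))
    (hxy : (MvPowerSeries.X 0 * MvPowerSeries.X 1 : MvPowerSeries (Fin 2) k) ∈ J)
    [Module.Finite k (MvPowerSeries (Fin 2) k ⧸ J)] (n : ℕ) (hn : Module.finrank k (MvPowerSeries (Fin 2) k ⧸ J) = n)
    (h2 : 2 ≤ n) :
    ∃ a b : ℕ, 1 ≤ a ∧ 1 ≤ b ∧
      ((a + b = n + 1 ∧
        J = Ideal.span {MvPowerSeries.X 0 * MvPowerSeries.X 1, MvPowerSeries.X 0 ^ a, MvPowerSeries.X 1 ^ b}) ∨
       (a + b = n ∧ ∃ α : k, α ≠ 0 ∧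
        J = Ideal.span {MvPowerSeries.X 0 * MvPowerSeries.X 1,
          MvPowerSeries.X 0 ^ a + MvPowerSeries.C α * MvPowerSeries.X 1 ^ b})) := by
  classical
  open MvPowerSeries in
  have hJ : J ≠ ⊤ := by
    rintro rfl
    haveI : Subsingleton (MvPowerSeries (Fin 2) k ⧸ (⊤ : Ideal (MvPowerSeries (Fin 2) k))) := Ideal.Quotient.subsingleton_iff.2 rfl
    rw [Module.finrank_zero_of_subsingleton] at hn
    omega
  open MvPowerSeries in
  have hpow : ∀ s : Fin 2, ∃ N, (X s : MvPowerSeries (Fin 2) k) ^ N ∈ J := by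
    intro s
    haveI : IsArtinianRing (MvPowerSeries (Fin 2) k ⧸ J) := isArtinian_of_tower k inferInstance
    obtain ⟨N, g, hg⟩ := IsArtinian.exists_pow_succ_smul_dvd (Ideal.Quotient.mk J (X s)) (1 : MvPowerSeries (Fin 2) k ⧸ J)
    obtain ⟨g, rfl⟩ := Ideal.Quotient.mk_surjective g
    refine ⟨N, ?_⟩
    simp only [smul_eq_mul, mul_one, ← map_pow, ← map_mul, Ideal.Quotient.eq] at hg
    have h1 : (X s ^ N) * (X s * g - 1) ∈ J := by
      convert hg using 1
      simp only [Nat.succ_eq_add_one]
      ring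
    have hu : IsUnit (X s * g - 1 : MvPowerSeries (Fin 2) k) := isUnit_iff_constantCoeff.2 (by simp)
    exact (Ideal.mul_unit_mem_iff_mem J hu).1 h1
  open MvPowerSeries in
  have htop : ∀ s : Fin 2, ∃ a, (X s : MvPowerSeries (Fin 2) k) ^ (a + 1) ∈ J ∧ (X s : MvPowerSeries (Fin 2) k) ^ a ∉ J := by
    intro s
    have h0 : Nat.find (hpow s) ≠ 0 := fun h => hJ ((Ideal.eq_top_iff_one J).2 (by simpa [h] using Nat.find_spec (hpow s)))
    obtain ⟨a, ha⟩ := Nat.exists_eq_succ_of_ne_zero h0
    exact ⟨a, by have := Nat.find_spec (hpow s); rwa [ha] at this, Nat.find_min (hpow s) (by omega)⟩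
  obtain ⟨a, ha, ha'⟩ := htop 0
  obtain ⟨b, hb, hb'⟩ := htop 1
  open MvPowerSeries in
  have hx0 : ∀ i, e i 0 = Finsupp.single 0 i := fun i => by simp [e]
  have hy0 : ∀ j, e 0 j = Finsupp.single 1 j := fun j => by simp [e]
  open MvPowerSeries in
  have la : ∀ f ∈ J, ∀ i < a, coeff (e i 0) f = 0 := fun f hf i hi => by
    rw [hx0]; exact low J hJ 0 1 (by decide) hxy a ha' f hf i hi
  open MvPowerSeries in
  have lb : ∀ f ∈ J, ∀ j < b, coeff (e 0 j) f = 0 := fun f hf j hj => by
    rw [hy0]; exact low J hJ 1 0 (by decide) (mul_comm (X 0 : MvPowerSeries (Fin 2) k) (X 1) ▸ hxy) b hb' f hf j hj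
  open MvPowerSeries in
  have cX : ∀ (s : Fin 2) (m : ℕ) (d : Fin 2 →₀ ℕ), coeff d ((X s : MvPowerSeries (Fin 2) k) ^ m) = if d = Finsupp.single s m then 1 else 0 :=
    fun s m d => coeff_X_pow d s m
  open MvPowerSeries in
  by_cases hcase : ∀ f ∈ J, coeff (e a 0) f = 0 ∧ coeff (e 0 b) f = 0
  · -- the monomial case
    let E : Fin (a + 1) ⊕ Fin b → (Fin 2 →₀ ℕ) := Sum.elim (fun i => e i 0) (fun j => e 0 (j + 1))
    have hE : Function.Injective E := by
      rintro (i | i) (j | j) h <;>
        have h0 := congrArg (fun d => d 0) h <;> have h1 := congrArg (fun d => d 1) h <;>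
        simp [E, e] at h0 h1 <;> first | omega | exact congrArg _ (Fin.ext (by omega))
    let L : Ideal (MvPowerSeries (Fin 2) k) := Ideal.span {X 0 * X 1, X 0 ^ (a + 1), X 1 ^ (b + 1)}
    have hsub : L ≤ J := Ideal.span_le.2 (by rintro g (rfl | rfl | rfl) <;> assumption)
    let Φ : MvPowerSeries (Fin 2) k →ₗ[k] (Fin (a + 1) ⊕ Fin b → k) := LinearMap.pi fun l => coeff (E l)
    have hz : ∀ f, Φ f = 0 → (∀ i < a + 1, coeff (e i 0) f = 0) ∧ (∀ j < b + 1, coeff (e 0 j) f = 0) := by
      intro f hf
      refine ⟨fun i hi => congrFun hf (Sum.inl ⟨i, hi⟩), fun j hj => ?_⟩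
      rcases Nat.eq_zero_or_pos j with rfl | hj0
      · exact congrFun hf (Sum.inl ⟨0, by omega⟩)
      · obtain ⟨j, rfl⟩ : ∃ j', j = j' + 1 := ⟨j - 1, by omega⟩
        exact congrFun hf (Sum.inr ⟨j, by omega⟩)
    have hin : ∀ f, Φ f = 0 → f ∈ L := fun f hf => decomp L (a + 1) (b + 1) (Ideal.subset_span (by simp))
      (Ideal.subset_span (by simp)) (Ideal.subset_span (by simp)) f (hz f hf).1 (hz f hf).2
    have hJ0 : ∀ f ∈ J, Φ f = 0 := by
      intro f hf
      funext l
      rcases l with i | j
      · rcases Nat.lt_succ_iff_lt_or_eq.1 i.2 with h | h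
        · exact la f hf i h
        · show coeff (e i 0) f = 0; rw [h]; exact (hcase f hf).1
      · rcases Nat.lt_or_eq_of_le (Nat.succ_le_of_lt j.2) with h | h
        · exact lb f hf _ h
        · show coeff (e 0 (j + 1)) f = 0; rw [show (j : ℕ) + 1 = b from h]; exact (hcase f hf).2
    have hrank := finrank_eq J Φ (fun v => ⟨Function.extend E v 0, funext fun l => hE.extend_apply v 0 l⟩)
      (fun f => ⟨fun hf => hsub (hin f hf), hJ0 f⟩)
    rw [hn, Fintype.card_sum, Fintype.card_fin, Fintype.card_fin] at hrank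
    refine ⟨a + 1, b + 1, by omega, by omega, Or.inl ⟨by omega, le_antisymm (fun f hf => hin f (hJ0 f hf)) hsub⟩⟩
  · push_neg at hcase
    obtain ⟨f, hf, hfne⟩ := hcase
    have hbin : ∀ h ∈ J, C (coeff (e a 0) h) * X 0 ^ a + C (coeff (e 0 b) h) * X 1 ^ b ∈ J := by
      intro h hh
      by_cases hab : a = 0 ∧ b = 0
      · have h00 : coeff (e 0 0) h = 0 := by
          by_contra hc
          refine hJ (Ideal.eq_top_of_isUnit_mem J hh ?_)
          rw [isUnit_iff_constantCoeff, isUnit_iff_ne_zero, ← coeff_zero_eq_constantCoeff_apply]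
          simpa [e] using hc
        rw [hab.1, hab.2, h00]; simp
      have hd : h - (C (coeff (e a 0) h) * X 0 ^ a + C (coeff (e 0 b) h) * X 1 ^ b) ∈ J := by
        have h00 : coeff (e 0 0) h = 0 := by
          by_contra hc
          refine hJ (Ideal.eq_top_of_isUnit_mem J hh ?_)
          rw [isUnit_iff_constantCoeff, isUnit_iff_ne_zero, ← coeff_zero_eq_constantCoeff_apply]
          simpa [e] using hc
        refine decomp J (a + 1) (b + 1) hxy ha hb _ (fun i hi => ?_) (fun j hj => ?_)
        · rw [map_sub, map_add, coeff_C_mul, coeff_C_mul, cX, cX]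
          rcases Nat.lt_succ_iff_lt_or_eq.1 hi with hi' | rfl
          · rw [la h hh i hi', if_neg (by simp [e, Finsupp.ext_iff, Fin.forall_fin_two]; omega)]
            split_ifs with h2
            · have h3 := congrArg (fun d => d 0) h2; have h4 := congrArg (fun d => d 1) h2
              simp [e] at h3 h4
              rw [← h4, h00]; simp
            · simp
          · rw [if_pos (hx0 i)]
            split_ifs with h2
            · have h3 := congrArg (fun d => d 0) h2; have h4 := congrArg (fun d => d 1) h2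
              simp [e] at h3 h4
              exact absurd ⟨h3, h4.symm⟩ hab
            · ring
        · rw [map_sub, map_add, coeff_C_mul, coeff_C_mul, cX, cX]
          rcases Nat.lt_succ_iff_lt_or_eq.1 hj with hj' | rfl
          · rw [lb h hh j hj', if_neg (c := e 0 j = Finsupp.single 1 b) (by simp [e, Finsupp.ext_iff, Fin.forall_fin_two]; omega)]
            split_ifs with h2
            · have h3 := congrArg (fun d => d 0) h2; have h4 := congrArg (fun d => d 1) h2
              simp [e] at h3 h4
              rw [← h3, h00]; simp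
            · simp
          · rw [if_pos (c := e 0 j = Finsupp.single 1 j) (hy0 j)]
            split_ifs with h2
            · have h3 := congrArg (fun d => d 0) h2; have h4 := congrArg (fun d => d 1) h2
              simp [e] at h3 h4
              exact absurd ⟨h3.symm, h4⟩ hab
            · ring
      have := J.sub_mem hh hd
      rwa [sub_sub_cancel] at this
    have hA : ∀ h ∈ J, coeff (e a 0) h = 0 → coeff (e 0 b) h = 0 := by
      intro h hh h0
      by_contra hne
      have := hbin h hh
      rw [h0, map_zero, zero_mul, zero_add] at this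
      exact hb' ((Ideal.unit_mul_mem_iff_mem J ((isUnit_iff_ne_zero.2 hne).map C)).1 this)
    have hα0 : coeff (e a 0) f ≠ 0 := fun h0 => hfne h0 (hA f hf h0)
    have hβ0 : coeff (e 0 b) f ≠ 0 := by
      intro h0
      have := hbin f hf
      rw [h0, map_zero, zero_mul, add_zero] at this
      exact ha' ((Ideal.unit_mul_mem_iff_mem J ((isUnit_iff_ne_zero.2 hα0).map C)).1 this)
    have ha1 : 1 ≤ a := by
      rcases Nat.eq_zero_or_pos a with rfl | h
      · exfalso
        refine hJ (Ideal.eq_top_of_isUnit_mem J hf ?_)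
        rw [isUnit_iff_constantCoeff, isUnit_iff_ne_zero, ← coeff_zero_eq_constantCoeff_apply]
        simpa [e] using hα0
      · exact h
    have hb1 : 1 ≤ b := by
      rcases Nat.eq_zero_or_pos b with rfl | h
      · exfalso
        refine hJ (Ideal.eq_top_of_isUnit_mem J hf ?_)
        rw [isUnit_iff_constantCoeff, isUnit_iff_ne_zero, ← coeff_zero_eq_constantCoeff_apply]
        simpa [e] using hβ0
      · exact h
    obtain ⟨α, hαdef⟩ : ∃ α, α = (coeff (e a 0) f)⁻¹ * coeff (e 0 b) f := ⟨_, rfl⟩
    have hα : α ≠ 0 := hαdef ▸ mul_ne_zero (inv_ne_zero hα0) hβ0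
    obtain ⟨g, hg⟩ : ∃ g, g = (X 0 : MvPowerSeries (Fin 2) k) ^ a + C α * X 1 ^ b := ⟨_, rfl⟩
    have hgJ : g ∈ J := by
      have := J.mul_mem_left (C (coeff (e a 0) f)⁻¹) (hbin f hf)
      convert this using 1
      have hc : (C (coeff (e a 0) f)⁻¹ : MvPowerSeries (Fin 2) k) * C (coeff (e a 0) f) = 1 := by
        rw [← map_mul, inv_mul_cancel₀ hα0, map_one]
      rw [hg, hαdef, map_mul]
      linear_combination (-(X 0 : MvPowerSeries (Fin 2) k) ^ a) * hc
    have prop : ∀ h ∈ J, coeff (e 0 b) h = α * coeff (e a 0) h := by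
      intro h hh
      have h1 := J.sub_mem (hbin h hh) (J.mul_mem_left (C (coeff (e a 0) h)) hgJ)
      have h2 : C (coeff (e 0 b) h - α * coeff (e a 0) h) * X 1 ^ b ∈ J := by
        convert h1 using 1
        rw [hg, map_sub, map_mul]; ring
      by_contra hne
      exact hb' ((Ideal.unit_mul_mem_iff_mem J ((isUnit_iff_ne_zero.2 (sub_ne_zero.2 hne)).map C)).1 h2)
    let L : Ideal (MvPowerSeries (Fin 2) k) := Ideal.span {X 0 * X 1, g}
    have hsub : L ≤ J := Ideal.span_le.2 (by rintro z (rfl | rfl) <;> assumption)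
    have hxy' : (X 0 * X 1 : MvPowerSeries (Fin 2) k) ∈ L := Ideal.subset_span (by simp)
    have hg' : g ∈ L := Ideal.subset_span (by simp)
    have hxa : (X 0 : MvPowerSeries (Fin 2) k) ^ (a + 1) ∈ L := by
      have := L.sub_mem (L.mul_mem_left (X 0) hg') (L.mul_mem_left (C α * X 1 ^ (b - 1)) hxy')
      convert this using 1
      rw [hg, show (X 1 : MvPowerSeries (Fin 2) k) ^ b = X 1 ^ (b - 1) * X 1 by rw [← pow_succ, Nat.sub_add_cancel hb1]]
      ring
    have hyb : (X 1 : MvPowerSeries (Fin 2) k) ^ (b + 1) ∈ L := by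
      have := L.mul_mem_left (C α⁻¹) (L.sub_mem (L.mul_mem_left (X 1) hg') (L.mul_mem_left (X 0 ^ (a - 1)) hxy'))
      convert this using 1
      rw [hg, show (X 0 : MvPowerSeries (Fin 2) k) ^ a = X 0 ^ (a - 1) * X 0 by rw [← pow_succ, Nat.sub_add_cancel ha1]]
      have hc : (C α⁻¹ : MvPowerSeries (Fin 2) k) * C α = 1 := by rw [← map_mul, inv_mul_cancel₀ hα, map_one]
      linear_combination (-(X 1 : MvPowerSeries (Fin 2) k) ^ (b + 1)) * hc
    let E : Fin a ⊕ Fin b → (Fin 2 →₀ ℕ) := Sum.elim (fun i => e i 0) (fun j => e 0 (j + 1))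
    have hE : Function.Injective E := by
      rintro (i | i) (j | j) h <;>
        have h0 := congrArg (fun d => d 0) h <;> have h1 := congrArg (fun d => d 1) h <;>
        simp [E, e] at h0 h1 <;> first | omega | exact congrArg _ (Fin.ext (by omega))
    let Φ : MvPowerSeries (Fin 2) k →ₗ[k] (Fin a ⊕ Fin b → k) := LinearMap.pi fun l =>
      coeff (E l) - (if E l = e 0 b then α else 0) • coeff (e a 0)
    have hin : ∀ h, Φ h = 0 → h ∈ L := by
      intro h hh
      have h1 : h - C (coeff (e a 0) h) * g ∈ L := by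
        have hΦ : ∀ l, coeff (E l) h - (if E l = e 0 b then α else 0) * coeff (e a 0) h = 0 := fun l => congrFun hh l
        have hlow : ∀ i < a, coeff (e i 0) h = 0 := fun i hi => by
          have := hΦ (Sum.inl ⟨i, hi⟩)
          rwa [if_neg (fun h2 => by have h4 := congrArg (fun d => d 1) h2; simp [E, e] at h4; omega), zero_mul, sub_zero] at this
        refine decomp L (a + 1) (b + 1) hxy' hxa hyb _ (fun i hi => ?_) (fun j hj => ?_)
        · rw [map_sub, coeff_C_mul, hg, map_add, coeff_C_mul, cX, cX]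
          rw [if_neg (c := e i 0 = Finsupp.single 1 b) (fun h2 => by have h4 := congrArg (fun d => d 1) h2; simp [e] at h4; omega)]
          rcases Nat.lt_succ_iff_lt_or_eq.1 hi with hi' | rfl
          · rw [hlow i hi', if_neg (fun h2 => by have h4 := congrArg (fun d => d 0) h2; simp [e] at h4; omega)]; ring
          · rw [if_pos (hx0 i)]; ring
        · rw [map_sub, coeff_C_mul, hg, map_add, coeff_C_mul, cX, cX]
          rw [if_neg (c := e 0 j = Finsupp.single 0 a) (fun h2 => by have h4 := congrArg (fun d => d 0) h2; simp [e] at h4; omega)]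
          rcases Nat.eq_zero_or_pos j with rfl | hj0
          · rw [hlow 0 ha1, if_neg (fun h2 => by have h4 := congrArg (fun d => d 1) h2; simp [e] at h4; omega)]; ring
          · obtain ⟨j, rfl⟩ : ∃ j', j = j' + 1 := ⟨j - 1, by omega⟩
            have h3 := hΦ (Sum.inr ⟨j, by omega⟩)
            change coeff (e 0 (j + 1)) h - (if e 0 (j + 1) = e 0 b then α else 0) * coeff (e a 0) h = 0 at h3
            rcases eq_or_ne (j + 1) b with hjb | hjb
            · rw [hjb, if_pos rfl] at h3; rw [hjb, if_pos (hy0 b)]; linear_combination h3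
            · rw [if_neg (fun h2 => by have h4 := congrArg (fun d => d 1) h2; simp [e] at h4; omega)] at h3
              rw [if_neg (fun h2 => by have h4 := congrArg (fun d => d 1) h2; simp [e] at h4; omega)]
              linear_combination h3
      have := L.add_mem h1 (L.mul_mem_left (C (coeff (e a 0) h)) hg')
      rwa [sub_add_cancel] at this
    have hJ0 : ∀ h ∈ J, Φ h = 0 := by
      intro h hh
      funext l
      show coeff (E l) h - (if E l = e 0 b then α else 0) * coeff (e a 0) h = 0
      rcases l with i | j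
      · show coeff (e i 0) h - (if e i 0 = e 0 b then α else 0) * _ = 0
        rw [if_neg (fun h2 => by have h4 := congrArg (fun d => d 1) h2; simp [e] at h4; omega), la h hh i i.2]; ring
      · show coeff (e 0 (j + 1)) h - (if e 0 (j + 1) = e 0 b then α else 0) * _ = 0
        rcases Nat.lt_or_eq_of_le (Nat.succ_le_of_lt j.2) with hj | hj
        · rw [if_neg (fun h2 => by have h4 := congrArg (fun d => d 1) h2; simp [e] at h4; omega), lb h hh _ hj]; ring
        · rw [show (j : ℕ) + 1 = b from hj, if_pos rfl, prop h hh]; ring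
    have hrank := finrank_eq J Φ (fun v => ⟨Function.extend E v 0, funext fun l => by
        show Function.extend E v 0 (E l) - (if E l = e 0 b then α else 0) * Function.extend E v 0 (e a 0) = v l
        rw [hE.extend_apply, Function.extend_apply' v (0 : (Fin 2 →₀ ℕ) → k) (e a 0) (by
          rintro ⟨(i | j), h⟩
          · have h0 := congrArg (fun d => d 0) h; simp [E, e] at h0; omega
          · have h0 := congrArg (fun d => d 1) h; simp [E, e] at h0)]
        simp⟩)
      (fun h => ⟨fun hh => hsub (hin h hh), hJ0 h⟩)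
    rw [hn, Fintype.card_sum, Fintype.card_fin, Fintype.card_fin] at hrank
    refine ⟨a, b, ha1, hb1, Or.inr ⟨hrank.symm, α, hα, ?_⟩⟩
    rw [← hg]
    exact le_antisymm (fun h hh => hin h (hJ0 h hh)) hsub

end Groth.Agent.S19437
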