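import Groth.Statements.S19438
import Mathlib.Algebra.Polynomial.Inductions
import Mathlib.Algebra.Module.SpanRankOperations
import Mathlib.RingTheory.Nakayama
import Mathlib.RingTheory.Adjoin.Polynomial.Basic

set_option autoImplicit false
universe u
open CAlg

namespace Groth.Agent.S19438

/-- First assertion: let A be a Noetherian local commutative algebra over a field k with maximal ideal
M, residue field k (the map from k to A/M is onto) and embedding dimension dim M/M^2 at least 2, and
let I be a proper ideal with A/I finite-dimensional over k. If A/I is generated as a k-algebra by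
one element, then some element of I does not lie in M^2; that is, the finite closed subscheme
defined by I lies on a smooth hypersurface germ (it is curvilinear). (The published statement is for
the local ring of a smooth surface at a closed point; only a Noetherian local algebra with residue
field k and embedding dimension at least 2 is assumed here, which is what the published argument
uses.) -/
theorem result (k : Type u) [Field k]
    (A : Type u) [CommRing A] [Algebra k A] [IsNoetherianRing A] [IsLocalRing A]
    (hres : Function.Surjective (algebraMap k (IsLocalRing.ResidueField A)))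
    (hemb : 2 ≤ Module.finrank (IsLocalRing.ResidueField A) (IsLocalRing.CotangentSpace A))
    (I : Ideal A) (hI : I ≠ ⊤) [Module.Finite k (A ⧸ I)]
    (f : A ⧸ I) (hf : Algebra.adjoin k {f} = ⊤) :
    ∃ g ∈ I, g ∉ IsLocalRing.maximalIdeal A ^ 2 := by
  by_contra! hc
  set M := IsLocalRing.maximalIdeal A with hM
  have hc' : I ≤ M ^ 2 := hc
  obtain ⟨f', rfl⟩ := Ideal.Quotient.mk_surjective f
  obtain ⟨c, hc0⟩ := hres (IsLocalRing.residue A f')
  set t := f' - algebraMap k A c with ht
  have htM : t ∈ M := by
    rw [hM, ← IsLocalRing.residue_eq_zero_iff, ht, map_sub, ← hc0, IsScalarTower.algebraMap_apply k A (IsLocalRing.ResidueField A)]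
    exact sub_self _
  have hk : ∀ c : k, algebraMap k A c ∈ M → c = 0 := by
    intro c hc
    by_contra h0
    exact (IsLocalRing.mem_maximalIdeal _).mp hc ((isUnit_iff_ne_zero.mpr h0).map (algebraMap k A))
  have hle : M ≤ Ideal.span {t} ⊔ M ^ 2 := by
    intro a ha
    have hmem : Ideal.Quotient.mk I a ∈ Algebra.adjoin k {Ideal.Quotient.mk I f'} := hf ▸ Algebra.mem_top
    rw [Algebra.adjoin_singleton_eq_range_aeval] at hmem
    obtain ⟨p, hp⟩ := hmem
    rw [AlgHom.toRingHom_eq_coe, RingHom.coe_coe] at hp
    have hp' : a - Polynomial.aeval f' p ∈ I := by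
      rw [← Ideal.Quotient.mk_eq_mk_iff_sub_mem, ← hp]
      exact (Polynomial.aeval_algHom_apply (Ideal.Quotient.mkₐ k I) f' p)
    set q := p.comp (Polynomial.X + Polynomial.C c) with hq
    have hqp : Polynomial.aeval t q = Polynomial.aeval f' p := by
      rw [hq, Polynomial.aeval_comp]
      simp [ht]
    rw [← hqp, ← Polynomial.X_mul_divX_add q, map_add, map_mul, Polynomial.aeval_X,
      Polynomial.aeval_C] at hp'
    have h0 : algebraMap k A (q.coeff 0) ∈ M := by
      have h1 : a - (t * Polynomial.aeval t q.divX + algebraMap k A (q.coeff 0)) ∈ M :=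
        (Ideal.pow_le_self two_ne_zero) (hc' hp')
      have := sub_mem (sub_mem ha h1) (M.mul_mem_right (Polynomial.aeval t q.divX) htM)
      convert this using 1
      ring
    rw [hk _ h0, map_zero, add_zero] at hp'
    rw [show a = t * Polynomial.aeval t q.divX + (a - t * Polynomial.aeval t q.divX) by ring]
    exact Submodule.add_mem_sup (Ideal.mul_mem_right _ _ (Ideal.subset_span rfl)) (hc' hp')
  have hMt : M = Ideal.span {t} := by
    refine le_antisymm (Submodule.le_of_le_smul_of_le_jacobson_bot (Ideal.fg_of_isNoetherianRing _)
      (IsLocalRing.maximalIdeal_le_jacobson _) ?_) (by simpa [Ideal.span_le] using htM)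
    rw [smul_eq_mul, ← sq]
    exact hle
  have h1 : Submodule.spanFinrank M ≤ 1 := by
    rw [hMt]
    exact (Submodule.spanFinrank_span_le_ncard_of_finite (Set.finite_singleton t)).trans (by simp)
  rw [hM, IsLocalRing.spanFinrank_maximalIdeal_eq_finrank_cotangentSpace] at h1
  omega

end Groth.Agent.S19438
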