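import Groth.Statements.S19439
import Mathlib.RingTheory.MvPolynomial.Basic
import Mathlib.LinearAlgebra.FiniteDimensional.Basic
import Mathlib.Algebra.MvPolynomial.Degrees

set_option autoImplicit false
universe u
open CAlg

namespace Groth.Agent.S19439

/-- Affine form: for all n and N there is an integer d, that depends only on n and N, such that for
every algebraically closed field k and every ideal I of the polynomial ring in N variables over k
whose quotient has finite dimension n over k, the polynomials of total degree at most d map onto the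
quotient. -/
theorem result (n N : ℕ) :
    ∃ d : ℕ, ∀ (k : Type u) [Field k] [IsAlgClosed k] (I : Ideal (MvPolynomial (Fin N) k))
      [Module.Finite k (MvPolynomial (Fin N) k ⧸ I)],
      Module.finrank k (MvPolynomial (Fin N) k ⧸ I) = n →
      Submodule.map (Ideal.Quotient.mkₐ k I).toLinearMap (MvPolynomial.restrictTotalDegree (Fin N) k d) = ⊤ := by
  refine ⟨n, fun k _ _ I _ hn => ?_⟩
  let Q := MvPolynomial (Fin N) k ⧸ I
  let V : ℕ → Submodule k Q := fun d =>
    Submodule.map (Ideal.Quotient.mkₐ k I).toLinearMap (MvPolynomial.restrictTotalDegree (Fin N) k d)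
  have hmono : ∀ {a b : ℕ}, a ≤ b → V a ≤ V b := fun h => Submodule.map_mono fun p hp => by
    rw [MvPolynomial.mem_restrictTotalDegree] at hp ⊢; omega
  have hC : ∀ a d, Ideal.Quotient.mk I (MvPolynomial.C a) ∈ V d := fun a d =>
    ⟨MvPolynomial.C a, by simp [MvPolynomial.mem_restrictTotalDegree], rfl⟩
  have hX : ∀ d q, q ∈ V d → ∀ i, q * Ideal.Quotient.mk I (MvPolynomial.X i) ∈ V (d + 1) := by
    rintro d _ ⟨p, hp, rfl⟩ i
    refine ⟨p * MvPolynomial.X i, ?_, by simp⟩
    rw [SetLike.mem_coe, MvPolynomial.mem_restrictTotalDegree] at hp ⊢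
    refine (MvPolynomial.totalDegree_mul _ _).trans ?_
    rw [MvPolynomial.totalDegree_X]; omega
  have hstab : ∀ d, V (d + 1) ≤ V d → V d = ⊤ := by
    intro d h
    refine eq_top_iff.mpr fun q hq => ?_
    clear hq
    obtain ⟨p, rfl⟩ := Ideal.Quotient.mk_surjective q
    induction p using MvPolynomial.induction_on with
    | C a => exact hC a d
    | add p q hp hq => rw [map_add]; exact add_mem hp hq
    | mul_X p i hp => rw [map_mul]; exact h (hX d _ hp i)
  have hgrow : ∀ d, V d = ⊤ ∨ d + 1 ≤ Module.finrank k (V d) := by
    intro d
    induction d with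
    | zero =>
      rcases subsingleton_or_nontrivial Q with h | h
      · exact Or.inl (Subsingleton.elim _ _)
      · refine Or.inr (Submodule.one_le_finrank_iff.mpr fun h0 => ?_)
        have := hC 1 0
        rw [h0, Submodule.mem_bot, map_one, map_one] at this
        exact one_ne_zero (this : (1 : Q) = 0)
    | succ d ih =>
      rcases ih with ih | ih
      · exact Or.inl (top_le_iff.mp (ih ▸ hmono d.le_succ))
      by_cases h : V (d + 1) ≤ V d
      · exact Or.inl (top_le_iff.mp (hstab d h ▸ hmono d.le_succ))
      · refine Or.inr ?_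
        have h1 : Module.finrank k (V d) < Module.finrank k (V (d + 1)) :=
          Submodule.finrank_lt_finrank_of_lt (lt_of_le_not_ge (hmono d.le_succ) h)
        omega
  rcases hgrow n with h | h
  · exact h
  · have h2 := Submodule.finrank_le (V n)
    have h3 : Module.finrank k Q = n := hn
    omega

end Groth.Agent.S19439
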