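import Groth.Statements.S1944
import Groth.Agent.Lib.Cyc.AffFib.Affine

set_option autoImplicit false
universe u
open CategoryTheory AlgebraicGeometry
open Cyc

namespace Groth.Agent.S1944

/-- Let f : X → Y be flat, locally of finite type, of relative dimension r, such that every point of Y
has an open neighbourhood U over which f⁻¹(U) → U is isomorphic to affine r-space 𝔸^r_U → U. Then
f^* : CH_k(Y) → CH_{k+r}(X) is surjective: every (k + r)-cycle on X is rationally equivalent to the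
flat pullback (taken coefficientwise) of some k-cycle on Y. A pair (X, δ) with Cyc.IsSetup plays the
role of a scheme locally of finite type over a fixed base with a dimension function (X locally
Noetherian with universally catenary local rings, δ a dimension function), and Cyc.DeltaCompat
records that the dimension function upstairs is the induced one. -/
theorem result (X Y : Scheme.{u}) (δX : X → ℤ) (δY : Y → ℤ) (hX : Cyc.IsSetup X δX) (hY : Cyc.IsSetup Y δY) (f : X ⟶ Y) [Flat f] [LocallyOfFiniteType f] (r : ℕ) (hr : Cyc.HasRelDim f r) (hδ : Cyc.DeltaCompat f δX δY) (hloc : ∀ y : Y, ∃ U : Y.Opens, y ∈ U ∧ ∃ e : (↑(f ⁻¹ᵁ U) : Scheme.{u}) ≅ 𝔸(ULift.{u} (Fin r); (↑U : Scheme.{u})), e.hom ≫ (𝔸(ULift.{u} (Fin r); (↑U : Scheme.{u})) ↘ (↑U : Scheme.{u})) = f ∣_ U) (k : ℤ) (β : AlgebraicCycle X ℤ) (hβ : β ∈ Cyc.Zk X δX (k + r)) : ∃ (α : AlgebraicCycle Y ℤ) (β' : AlgebraicCycle X ℤ), α ∈ Cyc.Zk Y δY k ∧ ⇑β' = Cyc.pullFun f δX δY r ⇑α ∧ Cyc.RatEquiv δX (k + r)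 β β' := by
  have := hX.1
  have := hY.1
  have hqc : QuasiCompact f := by
    refine (IsZariskiLocalAtTarget.iff_of_iSup_eq_top (P := @QuasiCompact) (fun y : Y => (hloc y).choose)
      (eq_top_iff.2 fun y _ => TopologicalSpace.Opens.mem_iSup.2 ⟨y, (hloc y).choose_spec.1⟩)).2
      fun y => ?_
    obtain ⟨e, he⟩ := (hloc y).choose_spec.2
    rw [← he]
    infer_instance
  have hD : Lib.Cyc.AffFib.Descent.Data f δX δY r := by
    refine ⟨fun x => Lib.Cyc.Residue.deltaY_le hδ x, fun η => ?_⟩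
    obtain ⟨U, hηU, e, he⟩ := hloc η
    let y : (↑U : Scheme.{u}) := ⟨η, hηU⟩
    let L := (↑U : Scheme.{u}).residueField y
    let σ := ULift.{u} (Fin r)
    let j : Spec (CommRingCat.of (MvPolynomial (Fin r) L)) ≅ 𝔸(σ; Spec (CommRingCat.of L)) :=
      Scheme.Spec.mapIso ((MvPolynomial.renameEquiv L (Equiv.ulift : σ ≃ Fin r)).toRingEquiv.toCommRingCatIso.op) ≪≫
        (AffineSpace.SpecIso σ (CommRingCat.of L)).symm
    have hA := AffineSpace.isPullback_map (n := σ) ((↑U : Scheme.{u}).fromSpecResidueField y)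
    have hB : IsPullback e.inv (𝔸(σ; (↑U : Scheme.{u})) ↘ (↑U : Scheme.{u})) (f ∣_ U) (𝟙 _) :=
      IsPullback.of_horiz_isIso ⟨by rw [Category.comp_id, Iso.inv_comp_eq]; exact he.symm⟩
    have hC : IsPullback j.hom (j.hom ≫ 𝔸(σ; Spec (CommRingCat.of L)) ↘ Spec (CommRingCat.of L))
        (𝔸(σ; Spec (CommRingCat.of L)) ↘ Spec (CommRingCat.of L)) (𝟙 _) :=
      IsPullback.of_horiz_isIso ⟨by rw [Category.comp_id]⟩
    have H := ((hC.paste_horiz hA).paste_horiz hB).paste_horiz (isPullback_morphismRestrict f U).flip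
    simp only [Category.id_comp, Category.comp_id] at H
    haveI : IsPreimmersion ((↑U : Scheme.{u}).fromSpecResidueField y ≫ U.ι) := inferInstance
    obtain ⟨ζ, -, hfζ, hlen, -, hall⟩ := Lib.Cyc.AffFib.Fibre.exists_gen H
      (Lib.Cyc.AffFib.Affine.killsAll_mvPolynomial L r) hX.2.2 η (by
        rw [Scheme.Hom.comp_apply]
        exact congrArg U.ι (Scheme.fromSpecResidueField_apply _ _))
    refine ⟨ζ, hfζ, ?_, hlen, hall⟩
    rw [← hfζ]
    exact Lib.Cyc.FieldDim.delta_eq_of_hasRelDim f hr hδ ζ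
      ((Lib.Cyc.FibLen.fibLen_ne_top_iff f ζ).1 (by rw [hlen]; exact ENat.one_ne_top))
  exact Lib.Cyc.AffFib.Descent.exists_pullback f hX.2.2 hY.2.2 hD k hβ

end Groth.Agent.S1944
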