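import Groth.Statements.S19440
import Mathlib.LinearAlgebra.Matrix.ToLinearEquiv
-- import your own Groth.Agent.* helpers here

set_option autoImplicit false
universe u
open LinAlg

namespace Groth.Agent.S19440

/-- Let U, V be commuting n × n matrices over a field k and e a vector which is cyclic for them (the
vectors U^p V^q e span k^n). An invertible matrix T which commutes with U and V and fixes e is the
identity: the general linear group acts freely by simultaneous conjugation on commuting pairs with a
cyclic vector. -/
theorem result (k : Type u) [Field k] (n : ℕ)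
    (U V : Matrix (Fin n) (Fin n) k) (hUV : U * V = V * U) (e : Fin n → k)
    (he : Submodule.span k (Set.range fun p : ℕ × ℕ => (U ^ p.1 * V ^ p.2).mulVec e) = ⊤)
    (T : Matrix.GeneralLinearGroup (Fin n) k)
    (hTU : (T : Matrix (Fin n) (Fin n) k) * U = U * T) (hTV : (T : Matrix (Fin n) (Fin n) k) * V = V * T)
    (hTe : (T : Matrix (Fin n) (Fin n) k).mulVec e = e) : T = 1 := by
  have hU : ∀ m, (T : Matrix (Fin n) (Fin n) k) * U ^ m = U ^ m * T := fun m => (Commute.pow_right hTU m).eq
  have hV : ∀ m, (T : Matrix (Fin n) (Fin n) k) * V ^ m = V ^ m * T := fun m => (Commute.pow_right hTV m).eq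
  have h : ∀ x : Fin n → k, (T : Matrix (Fin n) (Fin n) k).mulVec x = x := by
    intro x
    have hx : x ∈ Submodule.span k (Set.range fun p : ℕ × ℕ => (U ^ p.1 * V ^ p.2).mulVec e) := he ▸ Submodule.mem_top
    induction hx using Submodule.span_induction with
    | mem y hy =>
      obtain ⟨⟨a, b⟩, rfl⟩ := hy
      show (T : Matrix (Fin n) (Fin n) k).mulVec ((U ^ a * V ^ b).mulVec e) = _
      rw [Matrix.mulVec_mulVec, ← mul_assoc, hU, mul_assoc, hV, ← mul_assoc, ← Matrix.mulVec_mulVec, hTe]
    | zero => simp
    | add a b _ _ ha hb => rw [Matrix.mulVec_add, ha, hb]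
    | smul c a _ ha => rw [Matrix.mulVec_smul, ha]
  refine Units.ext ?_
  show (T : Matrix (Fin n) (Fin n) k) = 1
  exact Matrix.ext_of_mulVec_single fun i => by rw [h, Matrix.one_mulVec]

end Groth.Agent.S19440
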