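import Groth.Statements.S19443
import Mathlib.RepresentationTheory.Invariants
-- import your own Groth.Agent.* helpers here

set_option autoImplicit false
universe u
open LinAlg

namespace Groth.Agent.S19443

/-- Algebraic form: let G be a finite group with order invertible in the field k, ρ a linear
representation of G on a k-vector space V, and ω a nondegenerate bilinear form on V invariant under
G. Then ω restricted to the fixed subspace V^G is nondegenerate (for a finite group of symplectic
automorphisms, the fixed subspace is a symplectic subspace). -/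
theorem result (k : Type u) [Field k]
    (G : Type u) [Group G] [Finite G] (hG : (Nat.card G : k) ≠ 0)
    (V : Type u) [AddCommGroup V] [Module k V] (ρ : Representation k G V)
    (ω : LinearMap.BilinForm k V) (hω : ω.Nondegenerate)
    (hinv : ∀ (g : G) (v w : V), ω (ρ g v) (ρ g w) = ω v w) :
    (ω.restrict ρ.invariants).Nondegenerate := by
  classical
  have : Fintype G := Fintype.ofFinite G
  have hinvr : ∀ (v : V), v ∈ ρ.invariants → ∀ g, ρ g v = v := fun v hv g => hv g
  have hcard : (Fintype.card G : k) ≠ 0 := by rwa [← Nat.card_eq_fintype_card]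
  have hav : ∀ w, (∑ g, ρ g w) ∈ ρ.invariants := fun w g => by
    rw [map_sum]
    refine Fintype.sum_equiv (Equiv.mulLeft g) _ _ fun h => ?_
    simp [map_mul]
  refine ⟨fun v hv => Subtype.ext (hω.1 v fun w => ?_), fun v hv => Subtype.ext (hω.2 v fun w => ?_)⟩
  · have h : ω (v : V) (∑ g, ρ g w) = 0 := hv ⟨_, hav w⟩
    have h' : ∀ g, ω (v : V) (ρ g w) = ω (v : V) w := fun g => by
      conv_lhs => rw [← hinvr v v.2 g]
      exact hinv g _ _
    rw [map_sum, Finset.sum_congr rfl (fun g _ => h' g), Finset.sum_const, nsmul_eq_mul, Finset.card_univ] at h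
    exact (mul_eq_zero.1 h).resolve_left hcard
  · have h : ω (∑ g, ρ g w) (v : V) = 0 := hv ⟨_, hav w⟩
    have h' : ∀ g, ω (ρ g w) (v : V) = ω w (v : V) := fun g => by
      conv_lhs => rw [← hinvr v v.2 g]
      exact hinv g _ _
    rw [map_sum, LinearMap.sum_apply, Finset.sum_congr rfl (fun g _ => h' g), Finset.sum_const, nsmul_eq_mul, Finset.card_univ] at h
    exact (mul_eq_zero.1 h).resolve_left hcard

end Groth.Agent.S19443
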