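import Groth.Statements.S19444
import Groth.Agent.Lib.PolLaw.GammaTS
import Mathlib.RingTheory.Norm.Basic
-- import your own Groth.Agent.* helpers here

set_option autoImplicit false
universe u
open SymTen

namespace Groth.Agent.S19444

open Groth.Agent.Lib.PolLaw
open scoped TensorProduct


/-- Linearised norm: let A be a commutative ring in which n! is invertible and R a commutative
A-algebra, free of rank n as an A-module. There is a unique A-algebra homomorphism from the
symmetric tensors TS^n_A(R) to A taking r ⊗ ⋯ ⊗ r to the norm of r for every r in R. (The published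
corollary is stated for any free algebra of rank n; the construction printed for it divides by n!,
and n! invertible is assumed here.) -/
theorem result (A : Type u) [CommRing A] (R : Type u) [CommRing R]
    [Algebra A R] [Module.Free A R] [Module.Finite A R] (n : ℕ) (hn : Module.finrank A R = n)
    (hfact : IsUnit ((Nat.factorial n : ℕ) : A)) :
    ∃! φ : SymTen.TS A R n →ₐ[A] A, ∀ r : R, φ (SymTen.tpow A R n r) = Algebra.norm A r := by
  classical
  obtain ⟨u, hu⟩ := hfact
  let e := GammaTS.equiv (A := A) (B := R) (d := n) (Or.inr ⟨u, hu⟩)
  let π : Gamma.Alg A R n →ₐ[A] A := Gamma.lift (PolLaw.normLaw A R n hn)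
  have he : ∀ r, e ((Gamma.univ A R n).law.ground r) = SymTen.tpow A R n r := fun r => Subtype.ext <| by
    show Tpow.toTensor A R n ((Gamma.univ A R n).law.ground r) = _
    rw [← AlgHom.toLinearMap_apply, ← NormLaw.ground_postcomp, Tpow.toTensor, Gamma.postcomp_lift_univ]
    show TensorProduct.lid A _ ((SymTen.tpowLaw A R n).law.toFun' A (1 ⊗ₜ[A] r)) = _
    rw [SymTen.tpowLaw_tmul, one_pow, TensorProduct.lid_tmul, one_smul]
    rfl
  refine ⟨π.comp e.symm.toAlgHom, fun r => ?_, fun ψ hψ => ?_⟩
  · rw [← he, AlgHom.comp_apply]
    show π (e.symm (e _)) = _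
    rw [AlgEquiv.symm_apply_apply]
    rw [← AlgHom.toLinearMap_apply, ← NormLaw.ground_postcomp, Gamma.postcomp_lift_univ]
    have : Algebra.norm A ((1 : A) ⊗ₜ[A] r) = Algebra.norm A r := by
      rw [Algebra.norm_eq_of_algEquiv (Algebra.TensorProduct.lid A R).symm r |>.symm]
      rfl
    show TensorProduct.lid A A ((PolLaw.normLaw A R n hn).law.toFun' A (1 ⊗ₜ[A] r)) = _
    rw [PolLaw.normLaw_apply, TensorProduct.lid_tmul, this, smul_eq_mul, mul_one]
  · -- `n!` times a symmetric tensor is a combination of the tensors `r ⊗ ⋯ ⊗ r`.
    have hspan : ∀ y : SymTen.TS A R n, y ∈ Submodule.span A (Set.range (SymTen.tpow A R n)) := by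
      have hsum : ∀ (z : ⨂[A] _ : Fin n, R), (∑ σ : Equiv.Perm (Fin n), SymTen.perm A R n σ z) ∈
          (Submodule.span A (Set.range (SymTen.tpow A R n))).map (SymTen.TS A R n).val.toLinearMap := by
        intro z
        induction z using PiTensorProduct.induction_on with
        | add x y hx hy =>
          simp only [map_add, Finset.sum_add_distrib]
          exact add_mem hx hy
        | smul_tprod a b =>
          simp only [map_smul, ← Finset.smul_sum]
          refine Submodule.smul_mem _ a ?_
          have key : (∑ S : Finset (Fin n), ((-1 : A) ^ Sᶜ.card) •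
              PiTensorProduct.tprod A (fun _ : Fin n => ∑ i ∈ S, b i)) =
              ∑ σ : Equiv.Perm (Fin n), SymTen.perm A R n σ (PiTensorProduct.tprod A b) := by
            have hexp : ∀ S : Finset (Fin n), PiTensorProduct.tprod A (fun _ : Fin n => ∑ i ∈ S, b i) =
                ∑ c : Fin n → Fin n, if (∀ k, c k ∈ S) then PiTensorProduct.tprod A (fun k => b (c k)) else 0 := by
              intro S
              rw [MultilinearMap.map_sum_finset, ← Finset.sum_filter]
              refine Finset.sum_congr (Finset.ext fun c => ?_) fun _ _ => rfl
              simp [Fintype.mem_piFinset]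
            simp only [hexp, Finset.smul_sum]
            rw [Finset.sum_comm]
            have hcoef : ∀ c : Fin n → Fin n, (∑ S : Finset (Fin n), if (∀ k, c k ∈ S) then ((-1 : A) ^ Sᶜ.card) else 0) =
                if Function.Surjective c then 1 else 0 := by
              intro c
              let U : Finset (Fin n) := (Finset.univ.image c)ᶜ
              rw [show (∑ S : Finset (Fin n), if (∀ k, c k ∈ S) then ((-1 : A) ^ Sᶜ.card) else 0) =
                  ∑ T ∈ U.powerset, (-1 : A) ^ T.card by
                rw [← Finset.sum_filter]
                refine Finset.sum_bij' (fun S _ => Sᶜ) (fun T _ => Tᶜ) ?_ ?_ (fun S _ => compl_compl S)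
                  (fun T _ => compl_compl T) (fun S _ => rfl)
                · intro S hS
                  rw [Finset.mem_powerset]
                  intro i hi
                  simp only [U, Finset.mem_compl, Finset.mem_image, Finset.mem_univ, true_and, not_exists] at hi ⊢
                  exact fun k hk => hi (hk ▸ (Finset.mem_filter.1 hS).2 k)
                · intro T hT
                  rw [Finset.mem_filter]
                  refine ⟨Finset.mem_univ _, fun k => Finset.mem_compl.2 fun hk => ?_⟩
                  have := Finset.mem_powerset.1 hT hk
                  simp [U] at this]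
              have hcast : ((∑ T ∈ U.powerset, (-1 : ℤ) ^ T.card : ℤ) : A) = ∑ T ∈ U.powerset, (-1 : A) ^ T.card := by
                push_cast
                rfl
              rw [← hcast, Finset.sum_powerset_neg_one_pow_card]
              have hU : U = ∅ ↔ Function.Surjective c := by
                simp only [U, Finset.compl_eq_empty_iff, Finset.eq_univ_iff_forall, Finset.mem_image,
                  Finset.mem_univ, true_and, Function.Surjective]
              by_cases h : Function.Surjective c
              · simp [h, hU.2 h]
              · simp [h, mt hU.1 h]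
            refine (Finset.sum_congr rfl (g := fun c : Fin n → Fin n =>
              if Function.Surjective c then PiTensorProduct.tprod A (fun k => b (c k)) else 0) fun c _ => ?_).trans ?_
            · rw [Finset.sum_congr rfl (g := fun S : Finset (Fin n) =>
                (if (∀ k, c k ∈ S) then ((-1 : A) ^ Sᶜ.card) else 0) • PiTensorProduct.tprod A (fun k => b (c k)))
                fun S _ => by split_ifs <;> simp, ← Finset.sum_smul, hcoef]
              split_ifs <;> simp
            rw [← Finset.sum_filter]
            refine Finset.sum_bij'
              (fun c hc => (Equiv.ofBijective c (Finite.surjective_iff_bijective.1 (Finset.mem_filter.1 hc).2)).symm)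
              (fun σ _ => ⇑σ.symm) (fun _ _ => Finset.mem_univ _)
              (fun σ _ => Finset.mem_filter.2 ⟨Finset.mem_univ _, σ.symm.surjective⟩) (fun c hc => by simp)
              (fun σ _ => Equiv.ext fun k => by
                rw [Equiv.symm_apply_eq]
                simp) fun c hc => ?_
            rw [SymTen.perm_tprod]
            rfl
          rw [← key]
          refine Submodule.sum_mem _ fun S _ => Submodule.smul_mem _ _ ?_
          exact ⟨SymTen.tpow A R n (∑ i ∈ S, b i), Submodule.subset_span ⟨_, rfl⟩, rfl⟩
      intro y
      obtain ⟨w, hw, hwy⟩ := hsum y.1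
      have : w = n.factorial • y := Subtype.ext <| hwy.trans <| by
        rw [Finset.sum_congr rfl (g := fun _ => y.1) fun σ _ => (SymTen.perm_apply A R n σ y.1).trans (y.2 σ),
          Finset.sum_const, Finset.card_univ, Fintype.card_perm, Fintype.card_fin]
        simp
      rw [show y = ((u⁻¹ : Aˣ) : A) • w by
        rw [this, ← Nat.cast_smul_eq_nsmul A, ← hu, smul_smul, Units.inv_mul, one_smul]]
      exact Submodule.smul_mem _ _ hw
    refine AlgHom.toLinearMap_injective (LinearMap.ext_on (eq_top_iff.2 fun y _ => hspan y) ?_)
    rintro _ ⟨r, rfl⟩
    show ψ _ = π (e.symm _)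
    rw [hψ, ← he, AlgEquiv.symm_apply_apply, ← AlgHom.toLinearMap_apply, ← NormLaw.ground_postcomp,
      Gamma.postcomp_lift_univ]
    show _ = TensorProduct.lid A A ((PolLaw.normLaw A R n hn).law.toFun' A (1 ⊗ₜ[A] r))
    rw [PolLaw.normLaw_apply, TensorProduct.lid_tmul, smul_eq_mul, mul_one,
      Algebra.norm_eq_of_algEquiv (Algebra.TensorProduct.lid A R).symm r |>.symm]
    rfl

end Groth.Agent.S19444
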