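import Groth.Statements.S19445
import Groth.Agent.Lib.Regular.Indep

set_option autoImplicit false
universe u
open CAlg

namespace Groth.Agent.S19445

/-- Local form: let k be a field and A a regular local k-algebra with maximal ideal M and residue field
k (k maps onto A/M); let a finite group G whose order is invertible in k act on A by k-algebra
automorphisms. Then A/J is a regular local ring, where J is the ideal generated by the elements g·a
− a (J defines the fixed-point subscheme, so the fixed locus of G is smooth at the point). The
accompanying identification of its tangent space with the G-invariants of the tangent space of A is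
not restated here. -/
theorem result (k : Type u) [Field k] (A : Type u) [CommRing A]
    [Algebra k A] [IsRegularLocalRing A]
    (hres : Function.Surjective (algebraMap k (IsLocalRing.ResidueField A)))
    (G : Type u) [Group G] [Finite G] [MulSemiringAction G A] [SMulCommClass G k A]
    (hG : (Nat.card G : k) ≠ 0) :
    IsRegularLocalRing (A ⧸ Ideal.span {x : A | ∃ (g : G) (a : A), x = g • a - a}) := by
  classical
  cases nonempty_fintype G
  let σ : G → A →ₐ[k] A := fun g => MulSemiringAction.toAlgHom k A g
  have hinv : ∀ j a, ∑ i, σ i (σ j a) = ∑ i, σ i a := fun j a => by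
    simp only [σ, MulSemiringAction.toAlgHom_apply, ← mul_smul]
    exact Equiv.sum_comp (Equiv.mulRight j) (fun i => i • a)
  obtain ⟨c, f, hsp, hli⟩ := Lib.Regular.Indep.exists_fixed_gens hres σ
    (by rwa [← Nat.card_eq_fintype_card]) hinv
  have heq : Ideal.span (Set.range fun i => (f i : A)) =
      Ideal.span {x : A | ∃ (g : G) (a : A), x = g • a - a} := by
    rw [hsp]
    refine le_antisymm (Ideal.span_le.mpr ?_) (Ideal.span_le.mpr ?_)
    · rintro x ⟨j, a, rfl⟩
      exact neg_sub (σ j a) a ▸ neg_mem (Ideal.subset_span ⟨j, a, rfl⟩)
    · rintro x ⟨j, a, rfl⟩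
      exact neg_sub a (j • a) ▸ neg_mem (Ideal.subset_span ⟨j, a, rfl⟩)
  exact heq ▸ (Lib.Regular.Indep.quotient_of_indep f hli).1

end Groth.Agent.S19445
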