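import Groth.Statements.S19447
import Groth.Agent.Lib.PseudoRefl.Flat
import Groth.Agent.H24.PowerSeries
import Groth.Agent.Lib.Regular.Descent
import Mathlib.RingTheory.MvPowerSeries.NoZeroDivisors

set_option autoImplicit false
universe u
open ConstAct

namespace Groth.Agent.S19447

/-- Let k be an algebraically closed field, A the power series ring in n variables over k with maximal
ideal M, and G a finite group of order invertible in k acting faithfully on A by k-algebra
automorphisms, A being finite over the ring of invariants A^G. Say g is a pseudo-reflection or acts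
trivially on the cotangent space when A modulo M^2 and the elements g·a − a has dimension at least n
over k. If G is generated by such elements, then A is flat over A^G and A^G is a regular local ring:
generation by pseudo-reflections implies the other two conditions of the published criterion (only
this sufficiency half is stated; the converse implication is not part of this statement). -/
theorem result (k : Type u) [Field k]
    [IsAlgClosed k] (n : ℕ) (G : Type u) [Group G] [Finite G] [MulSemiringAction G (MvPowerSeries (Fin n) k)]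
    [SMulCommClass G k (MvPowerSeries (Fin n) k)] [FaithfulSMul G (MvPowerSeries (Fin n) k)]
    (hG : (Nat.card G : k) ≠ 0)
    [Module.Finite (ConstAct.inv k (MvPowerSeries (Fin n) k) G) (MvPowerSeries (Fin n) k)]
    (hgen : Subgroup.closure {g : G | n ≤ Module.finrank k (MvPowerSeries (Fin n) k ⧸
        (Ideal.span {x : MvPowerSeries (Fin n) k | ∃ a, x = g • a - a} ⊔
          IsLocalRing.maximalIdeal (MvPowerSeries (Fin n) k) ^ 2))} = ⊤) :
    Module.Flat (ConstAct.inv k (MvPowerSeries (Fin n) k) G) (MvPowerSeries (Fin n) k) ∧
      IsRegularLocalRing (ConstAct.inv k (MvPowerSeries (Fin n) k) G) := by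
  let A := MvPowerSeries (Fin n) k
  let M := IsLocalRing.maximalIdeal A
  have hreg : IsRegularLocalRing A := Groth.Agent.H24.PowerSeries.isRegularLocalRing_fin k n
  have : IsDomain A := NoZeroDivisors.to_isDomain _
  have hres : ∀ a : A, ∃ c : k, a - algebraMap k A c ∈ M := by
    intro a
    obtain ⟨c, hc⟩ := Groth.Agent.H24.PowerSeries.residue_surjective k (Fin n) (IsLocalRing.residue A a)
    refine ⟨c, ?_⟩
    rw [← IsLocalRing.residue_eq_zero_iff, map_sub, ← hc]
    exact sub_self _
  let π : A →ₗ[k] A ⧸ M ^ 2 := (Ideal.Quotient.mkₐ k (M ^ 2)).toLinearMap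
  let v : Option (Fin n) → A ⧸ M ^ 2 := fun o => π (o.elim 1 MvPowerSeries.X)
  have hsp : ⊤ ≤ Submodule.span k (Set.range v) := by
    intro q _
    obtain ⟨a, rfl⟩ := Ideal.Quotient.mkₐ_surjective k (M ^ 2) q
    show π a ∈ _
    obtain ⟨c, hc⟩ := hres a
    obtain ⟨f, hf⟩ := Ideal.mem_span_range_iff_exists_fun.mp
      (show a - algebraMap k A c ∈ Ideal.span (Set.range (MvPowerSeries.X : Fin n → A)) from
        Groth.Agent.H24.PowerSeries.maximalIdeal_eq k (Fin n) ▸ hc)
    choose d hd using fun i => hres (f i)
    have key : a - (algebraMap k A c + ∑ i, d i • (MvPowerSeries.X i : A)) ∈ M ^ 2 := by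
      rw [← sub_sub, ← hf, ← Finset.sum_sub_distrib]
      refine Submodule.sum_mem _ fun i _ => ?_
      rw [Algebra.smul_def, ← sub_mul, pow_two]
      exact Ideal.mul_mem_mul (hd i) (Groth.Agent.H24.PowerSeries.X_mem k i)
    have : π a = c • v none + ∑ i, d i • v (some i) := by
      rw [show π a = π (algebraMap k A c + ∑ i, d i • (MvPowerSeries.X i : A)) from
        Ideal.Quotient.mk_eq_mk_iff_sub_mem _ _ |>.mpr key, map_add, map_sum,
        Algebra.algebraMap_eq_smul_one, map_smul]
      congr 1
    rw [this]
    exact Submodule.add_mem _ (Submodule.smul_mem _ _ (Submodule.subset_span ⟨none, rfl⟩))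
      (Submodule.sum_mem _ fun i _ => Submodule.smul_mem _ _ (Submodule.subset_span ⟨some i, rfl⟩))
  have hspan : Submodule.span k (Set.range v) = ⊤ := top_unique hsp
  have : FiniteDimensional k (A ⧸ M ^ 2) :=
    ⟨hspan ▸ Submodule.fg_span (Set.finite_range v)⟩
  have hdim : Module.finrank k (A ⧸ M ^ 2) ≤ n + 1 := by
    have := finrank_range_le_card (R := k) v
    rw [Set.finrank, hspan, finrank_top] at this
    simpa using this
  have hflat : Module.Flat (ConstAct.inv k A G) A :=
    Groth.Agent.Lib.PseudoRefl.Flat.flat_inv hG _ hgen fun s hs =>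
      Groth.Agent.Lib.PseudoRefl.Flat.exists_span hres hG s n hdim hs
  refine ⟨hflat, ?_⟩
  have := Groth.Agent.Lib.PseudoRefl.Flat.isNoetherianRing_inv (A := A) hG
  have := Groth.Agent.Lib.PseudoRefl.Flat.isLocalRing_inv (k := k) (A := A) (G := G)
  have := Groth.Agent.Lib.PseudoRefl.Flat.isLocalHom_inv (k := k) (A := A) (G := G)
  exact Groth.Agent.Lib.Regular.Descent.isRegularLocalRing_of_flat A

end Groth.Agent.S19447
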