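import Groth.Statements.S19448
import Mathlib.RingTheory.Filtration
import Mathlib.GroupTheory.OrderOfElement

set_option autoImplicit false
universe u
open CAlg

namespace Groth.Agent.S19448

/-- Let k be a field, A a Noetherian local k-algebra with maximal ideal M and residue field k, and G a
finite group with |G| ≠ 0 in k acting on A by k-algebra automorphisms. An element of G which acts
trivially on M/M^2 acts trivially on A; in other words the stabilizer acts faithfully on the
cotangent space whenever it acts faithfully on the local ring. -/
theorem result (k : Type u) [Field k] (A : Type u) [CommRing A]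
    [Algebra k A] [IsLocalRing A] [IsNoetherianRing A]
    (hres : Function.Surjective (algebraMap k (IsLocalRing.ResidueField A)))
    (G : Type u) [Group G] [Finite G] [MulSemiringAction G A] [SMulCommClass G k A]
    (hG : (Nat.card G : k) ≠ 0) (g : G)
    (hg : ∀ a ∈ IsLocalRing.maximalIdeal A, g • a - a ∈ IsLocalRing.maximalIdeal A ^ 2) (a : A) :
    g • a = a := by
  set M := IsLocalRing.maximalIdeal A with hM
  have hconst : ∀ (c : k), g • algebraMap k A c = algebraMap k A c := by
    intro c
    rw [Algebra.algebraMap_eq_smul_one, smul_comm g c (1 : A), smul_one]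
  have hgM : ∀ x ∈ M, g • x ∈ M := fun x hx => by
    simpa using M.add_mem (Ideal.pow_le_self two_ne_zero (hg x hx)) hx
  have hstep : ∀ j, ∀ x ∈ M ^ j, g • x - x ∈ M ^ (j + 1) := by
    intro j
    induction j with
    | zero =>
      intro x _
      obtain ⟨c, hc⟩ := hres (IsLocalRing.residue A x)
      have hm : x - algebraMap k A c ∈ M := by
        rw [hM, ← IsLocalRing.residue_eq_zero_iff, map_sub, ← hc,
          IsScalarTower.algebraMap_apply k A (IsLocalRing.ResidueField A)]
        exact sub_self _
      have h := Ideal.pow_le_self two_ne_zero (hg _ hm)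
      rw [smul_sub, hconst] at h
      simpa using h
    | succ j ih =>
      intro x hx
      rw [pow_succ] at hx
      refine Submodule.mul_induction_on hx (fun a ha b hb => ?_) (fun a b ha hb => ?_)
      · rw [show g • (a * b) - a * b = (g • a - a) * g • b + a * (g • b - b) by
          rw [smul_mul']; ring]
        refine Ideal.add_mem _ ?_ ?_
        · rw [pow_succ (n := j + 1)]; exact Ideal.mul_mem_mul (ih a ha) (hgM b hb)
        · rw [show j + 1 + 1 = j + 2 by ring, pow_add]; exact Ideal.mul_mem_mul ha (hg b hb)
      · convert Ideal.add_mem _ ha hb using 1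
        rw [smul_add]; ring
  have hN : IsUnit ((Nat.card G : A)) := by
    rw [show ((Nat.card G : A)) = algebraMap k A (Nat.card G : k) by simp]
    exact (isUnit_iff_ne_zero.mpr hG).map _
  have key : ∀ j, ∀ x : A, g • x - x ∈ M ^ j := by
    intro j
    induction j with
    | zero => simp
    | succ j ih =>
      intro x
      have hiter : ∀ i : ℕ, (g ^ i) • x - x - (i : A) * (g • x - x) ∈ M ^ (j + 1) := by
        intro i
        induction i with
        | zero => simp
        | succ i ihi =>
          set e := (g ^ i) • x - x - (i : A) * (g • x - x) with he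
          have h1 : g • e ∈ M ^ (j + 1) := by
            have h2 := Ideal.pow_le_pow_right (j + 1).le_succ (hstep (j + 1) e ihi)
            simpa using (M ^ (j + 1)).add_mem h2 ihi
          have h3 := hstep j _ (ih x)
          have hge : g • e = (g ^ (i + 1)) • x - g • x - (i : A) * g • (g • x - x) := by
            have hi : g • (i : A) = (i : A) := map_natCast (MulSemiringAction.toRingHom G A g) i
            rw [he, smul_sub, smul_sub, smul_mul', hi, pow_succ' g i, mul_smul]
          convert (M ^ (j + 1)).add_mem h1 ((M ^ (j + 1)).mul_mem_left (i : A) h3) using 1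
          rw [hge]
          push_cast
          ring
      have h := hiter (Nat.card G)
      rw [pow_card_eq_one', one_smul, sub_self, zero_sub, neg_mem_iff] at h
      exact (Ideal.unit_mul_mem_iff_mem _ hN).mp h
  refine sub_eq_zero.mp ?_
  have hmem : g • a - a ∈ ⨅ j : ℕ, M ^ j := Ideal.mem_iInf.mpr fun j => key j a
  rwa [Ideal.iInf_pow_eq_bot_of_isLocalRing M (IsLocalRing.maximalIdeal.isMaximal A).ne_top] at hmem

end Groth.Agent.S19448
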