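import Groth.Statements.S19449
import Mathlib

set_option autoImplicit false
set_option backward.isDefEq.respectTransparency false
universe u
open SymRep

namespace Groth.Agent.S19449

open MvPolynomial

variable {k : Type u} [Field k] {n : ℕ}

/-- The alternant. -/
noncomputable def alt (k : Type u) [Field k] {n : ℕ} (p : Fin n → ℕ × ℕ) : MvPolynomial (Fin n × Fin 2) k :=
  (Matrix.of fun i j : Fin n => (X (i, 0) : MvPolynomial (Fin n × Fin 2) k) ^ (p j).1 * X (i, 1) ^ (p j).2).det

/-- The exponent vector of a tuple of pairs. -/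
noncomputable def ev (p : Fin n → ℕ × ℕ) : (Fin n × Fin 2) →₀ ℕ :=
  Finsupp.equivFunOnFinite.symm fun v => if v.2 = 0 then (p v.1).1 else (p v.1).2

theorem ev_injective : Function.Injective (ev (n := n)) := fun p q h => funext fun i =>
  Prod.ext (by simpa [ev] using DFunLike.congr_fun h (i, 0)) (by simpa [ev] using DFunLike.congr_fun h (i, 1))

theorem monomial_ev (p : Fin n → ℕ × ℕ) :
    monomial (ev p) (1 : k) = ∏ i, (X (i, 0) : MvPolynomial (Fin n × Fin 2) k) ^ (p i).1 * X (i, 1) ^ (p i).2 := by
  rw [monomial_eq, map_one, _root_.one_mul, Finsupp.prod_fintype _ _ (fun _ => pow_zero _), Fintype.prod_prod_type]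
  refine Finset.prod_congr rfl fun i _ => ?_
  rw [Fin.prod_univ_two]
  simp [ev]

theorem alt_eq (p : Fin n → ℕ × ℕ) :
    alt k p = ∑ σ : Equiv.Perm (Fin n), (Equiv.Perm.sign σ : ℤ) • monomial (ev (p ∘ σ.symm)) (1 : k) := by
  rw [alt, Matrix.det_apply]
  refine Finset.sum_congr rfl fun σ _ => ?_
  rw [Units.smul_def, monomial_ev]
  congr 1
  exact Fintype.prod_equiv σ _ _ fun j => by simp

theorem rename_alt (p : Fin n → ℕ × ℕ) (σ : Equiv.Perm (Fin n)) :
    rename (fun v : Fin n × Fin 2 => (σ v.1, v.2)) (alt k p) = (Equiv.Perm.sign σ : ℤ) • alt k p := by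
  unfold alt
  rw [AlgHom.map_det]
  have h := Matrix.det_permute σ
    (Matrix.of fun i j : Fin n => (X (i, 0) : MvPolynomial (Fin n × Fin 2) k) ^ (p j).1 * X (i, 1) ^ (p j).2)
  rw [zsmul_eq_mul, ← h]
  congr 1
  ext i j
  simp

theorem alternant_sum (d : (Fin n × Fin 2) →₀ ℕ) :
    ∑ σ : Equiv.Perm (Fin n), (Equiv.Perm.sign σ : ℤ) •
      rename (fun v : Fin n × Fin 2 => (σ v.1, v.2)) (monomial d (1 : k)) =
      alt k fun i => (d (i, 0), d (i, 1)) := by
  have hd : d = ev fun i => (d (i, 0), d (i, 1)) := by
    ext ⟨i, j⟩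
    fin_cases j <;> simp [ev]
  conv_lhs => rw [hd]
  rw [alt, Matrix.det_apply]
  refine Finset.sum_congr rfl fun σ _ => ?_
  rw [Units.smul_def, monomial_ev, map_prod]
  congr 1
  exact Finset.prod_congr rfl fun i _ => by simp

theorem coeff_alt {p q : Fin n → ℕ ×ₗ ℕ} (hp : StrictMono p) (hq : StrictMono q) :
    coeff (ev fun i => ofLex (p i)) (alt k fun i => ofLex (q i)) = if p = q then 1 else 0 := by
  classical
  rw [alt_eq, coeff_sum]
  have key : ∀ σ : Equiv.Perm (Fin n), ev ((fun i => ofLex (q i)) ∘ σ.symm) = ev (fun i => ofLex (p i)) →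
      p = q ∧ σ = 1 := by
    intro σ h
    have h1 : ∀ i, q (σ.symm i) = p i := fun i => ofLex.injective (congrFun (ev_injective h) i)
    have hpq : p = q := by
      refine (StrictMono.range_inj hp hq).mp ?_
      ext x
      constructor
      · rintro ⟨i, rfl⟩; exact ⟨σ.symm i, h1 i⟩
      · rintro ⟨i, rfl⟩; exact ⟨σ i, by rw [← h1, Equiv.symm_apply_apply]⟩
    refine ⟨hpq, ?_⟩
    subst hpq
    ext i
    have := hp.injective (h1 (σ i))
    rw [Equiv.symm_apply_apply] at this
    rw [← this]; rfl
  by_cases hpq : p = q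
  · subst hpq
    rw [if_pos rfl, Finset.sum_eq_single 1]
    · rw [show ((fun i => ofLex (p i)) ∘ (Equiv.symm (1 : Equiv.Perm (Fin n)))) = fun i => ofLex (p i) from rfl]
      simp [coeff_monomial]
    · intro σ _ hσ
      rw [← coeffAddMonoidHom_apply, map_zsmul, coeffAddMonoidHom_apply, coeff_monomial,
        if_neg (fun h => hσ (key σ h).2), smul_zero]
    · intro h; exact absurd (Finset.mem_univ _) h
  · rw [if_neg hpq]
    refine Finset.sum_eq_zero fun σ _ => ?_
    rw [← coeffAddMonoidHom_apply, map_zsmul, coeffAddMonoidHom_apply, coeff_monomial,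
      if_neg (fun h => hpq (key σ h).1), smul_zero]

/-- Over a field k of characteristic zero, let the symmetric group S_n act on the polynomial ring in the
2n variables x_i, y_i (i < n; the variable (i, 0) is x_i and (i, 1) is y_i) by permuting the index
i, and for an n-tuple p of pairs (p_j, q_j) of exponents let Δ_p be the determinant det(x_i^{p_j}
y_i^{q_j}). A polynomial is alternating — each permutation acts on it by its sign — exactly when it
is a k-linear combination of the Δ_p; and the Δ_p for p strictly increasing in the lexicographic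
order on pairs (one for each n-element set of exponent pairs) are linearly independent. Hence these
Δ_p form a basis of the space of alternating polynomials. -/
theorem result (k : Type u) [Field k] [CharZero k] (n : ℕ) :
    (∀ f : MvPolynomial (Fin n × Fin 2) k,
      (∀ σ : Equiv.Perm (Fin n),
          MvPolynomial.rename (fun v : Fin n × Fin 2 => (σ v.1, v.2)) f = ((Equiv.Perm.sign σ : ℤˣ) : ℤ) • f) ↔
        f ∈ Submodule.span k (Set.range fun p : Fin n → ℕ × ℕ =>
          (Matrix.of fun i j : Fin n =>
            (MvPolynomial.X (i, 0) : MvPolynomial (Fin n × Fin 2) k) ^ (p j).1 * MvPolynomial.X (i, 1) ^ (p j).2).det)) ∧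
    LinearIndependent k (fun p : {p : Fin n → ℕ ×ₗ ℕ // StrictMono p} =>
      (Matrix.of fun i j : Fin n =>
        (MvPolynomial.X (i, 0) : MvPolynomial (Fin n × Fin 2) k) ^ (ofLex (p.1 j)).1 *
          MvPolynomial.X (i, 1) ^ (ofLex (p.1 j)).2).det) := by
  classical
  refine ⟨fun f => ⟨fun hf => ?_, fun hf σ => ?_⟩, ?_⟩
  · have hcard : ((n.factorial : ℕ) : k) ≠ 0 := Nat.cast_ne_zero.mpr n.factorial_ne_zero
    have hsum : ∀ g : MvPolynomial (Fin n × Fin 2) k,
        (∑ σ : Equiv.Perm (Fin n), (Equiv.Perm.sign σ : ℤ) •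
          MvPolynomial.rename (fun v : Fin n × Fin 2 => (σ v.1, v.2)) g) ∈
          Submodule.span k (Set.range fun p : Fin n → ℕ × ℕ => alt k p) := by
      intro g
      induction g using MvPolynomial.induction_on' with
      | monomial d c =>
        have : MvPolynomial.monomial d c = c • MvPolynomial.monomial d (1 : k) := by
          rw [MvPolynomial.smul_monomial, smul_eq_mul, mul_one]
        rw [this]
        simp only [map_smul, smul_comm _ c, ← Finset.smul_sum, alternant_sum]
        exact Submodule.smul_mem _ _ (Submodule.subset_span ⟨_, rfl⟩)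
      | add a b ha hb =>
        simp only [map_add, smul_add, Finset.sum_add_distrib]
        exact add_mem ha hb
    have h := hsum f
    simp only [hf, smul_smul, ← Units.val_mul, Int.units_mul_self, Units.val_one, one_smul, Finset.sum_const,
      Finset.card_univ, Fintype.card_perm, Fintype.card_fin] at h
    rw [← Nat.cast_smul_eq_nsmul k] at h
    have h' := Submodule.smul_mem _ ((n.factorial : k))⁻¹ h
    rwa [inv_smul_smul₀ hcard] at h'
  · induction hf using Submodule.span_induction with
    | mem x hx => obtain ⟨p, rfl⟩ := hx; exact rename_alt p σ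
    | zero => simp
    | add a b _ _ ha hb => rw [map_add, ha, hb, smul_add]
    | smul c a _ ha => rw [map_smul, ha, smul_comm]
  · rw [linearIndependent_iff']
    intro s c hc p hp
    have h := congrArg (MvPolynomial.coeff (ev fun i => ofLex (p.1 i))) hc
    rw [MvPolynomial.coeff_sum, MvPolynomial.coeff_zero, Finset.sum_eq_single p] at h
    · rw [MvPolynomial.coeff_smul] at h
      change c p • MvPolynomial.coeff _ (alt k fun i => ofLex (p.1 i)) = 0 at h
      rwa [coeff_alt p.2 p.2, if_pos rfl, smul_eq_mul, mul_one] at h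
    · intro q _ hq
      rw [MvPolynomial.coeff_smul]
      show c q • MvPolynomial.coeff _ (alt k fun i => ofLex (q.1 i)) = 0
      rw [coeff_alt p.2 q.2, if_neg (fun h => hq (Subtype.ext h.symm)), smul_zero]
    · intro h'; exact absurd hp h'

end Groth.Agent.S19449
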