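import Groth.Statements.S19450
import Groth.Agent.H81.SymReg.Moves
import Groth.Agent.H81.SymProd.Chart
import Groth.Agent.H81.SymProd2.Flat
import Groth.Agent.H81.SymProd2.Box
import Groth.Agent.S2500
import Groth.Agent.Lib.JacCrit.OverField
import Groth.Agent.Lib.AffineCompl.Dim

set_option autoImplicit false
universe u
open CategoryTheory CategoryTheory.Limits AlgebraicGeometry
open SymProd

namespace Groth.Agent.S19450
open scoped Pointwise

set_option linter.style.haveILetI false
open Groth.Agent.H81.SymProd.Chart (pr base perm_apply)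

section Drop
variable {C S : Scheme.{u}} (f : C ⟶ S)

/-- Forgetting the `j`-th factor. -/
noncomputable def drop {n : ℕ} (j : Fin (n + 1)) : SymProd.fibPow f (n + 1) ⟶ SymProd.fibPow f n :=
  WidePullback.lift (base f (n + 1)) (fun k => pr f (n + 1) (j.succAbove k))
    fun k => WidePullback.π_arrow _ _

theorem drop_base {n : ℕ} (j : Fin (n + 1)) : drop f j ≫ base f n = base f (n + 1) :=
  WidePullback.lift_base _ _ _ _

theorem drop_pr {n : ℕ} (j : Fin (n + 1)) (k : Fin n) :
    drop f j ≫ pr f n k = pr f (n + 1) (j.succAbove k) :=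
  WidePullback.lift_π _ _ _ _ k

theorem isPullback_drop {n : ℕ} (j : Fin (n + 1)) :
    IsPullback (pr f (n + 1) j) (drop f j) f (base f n) := by
  have hw : ∀ (s : PullbackCone f (base f n)) (k : Fin (n + 1)),
      (Fin.insertNth (α := fun _ => s.pt ⟶ C) j s.fst (fun l => s.snd ≫ pr f n l) k) ≫ f =
        s.fst ≫ f := fun s k => by
    induction k using Fin.succAboveCases j with
    | x => rw [Fin.insertNth_apply_same]
    | p l => rw [Fin.insertNth_apply_succAbove, Category.assoc, WidePullback.π_arrow, ← s.condition]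
  refine ⟨⟨by rw [drop_base]; exact WidePullback.π_arrow _ _⟩, ⟨PullbackCone.IsLimit.mk _
    (fun s => WidePullback.lift (s.fst ≫ f) _ (hw s)) (fun s => ?_) (fun s => ?_)
    (fun s m h1 h2 => ?_)⟩⟩
  · rw [WidePullback.lift_π, Fin.insertNth_apply_same]
  · apply WidePullback.hom_ext
    · intro k
      rw [Category.assoc, drop_pr, WidePullback.lift_π, Fin.insertNth_apply_succAbove]
    · rw [Category.assoc, drop_base, WidePullback.lift_base, s.condition]
  · apply WidePullback.hom_ext
    · intro k
      rw [WidePullback.lift_π]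
      induction k using Fin.succAboveCases j with
      | x => rw [Fin.insertNth_apply_same, h1]
      | p l =>
        rw [Fin.insertNth_apply_succAbove]
        show m ≫ pr f (n + 1) (j.succAbove l) = _
        rw [← drop_pr f j l, ← Category.assoc, h2]
    · rw [WidePullback.lift_base, ← h1, Category.assoc, WidePullback.π_arrow]

end Drop

theorem appLE_of_eq_id {P : Scheme.{u}} (φ : P ⟶ P) (h : φ = 𝟙 P) (W : P.Opens) (e : W ≤ φ ⁻¹ᵁ W) (r : Γ(P, W)) :
    (φ.appLE W W e).hom r = r := by
  subst h
  simp only [Scheme.Hom.appLE, Scheme.Hom.id_app, Category.id_comp]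
  show (P.presheaf.map (𝟙 (Opposite.op W))).hom r = r
  rw [CategoryTheory.Functor.map_id]
  rfl

/-- The fibre powers of a smooth irreducible variety over an algebraically closed field. -/
theorem fibPow_props {k : Type u} [Field k] [IsAlgClosed k] {X : Scheme.{u}} (f : X ⟶ Spec (CommRingCat.of k))
    [Smooth f] [IrreducibleSpace X] :
    ∀ n : ℕ, Smooth (base f n) ∧ IrreducibleSpace (fibPow f n) := by
  haveI : GeometricallyIrreducible f := Groth.Agent.S2500.result f
  intro n
  induction n with
  | zero =>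
    haveI := Groth.Agent.H81.SymProd2.Flat'.isIso_base_zero f
    haveI : Subsingleton (Spec (CommRingCat.of k) : Scheme.{u}) := inferInstanceAs (Subsingleton (PrimeSpectrum k))
    refine ⟨inferInstance, ?_⟩
    let h := Scheme.homeoOfIso (asIso (base f 0))
    haveI : Subsingleton (fibPow f 0) := h.toEquiv.subsingleton
    haveI : Nonempty (fibPow f 0) := ⟨h.symm ⟨⊥, Ideal.isPrime_bot⟩⟩
    exact { toPreirreducibleSpace := ⟨(Set.subsingleton_of_subsingleton).isPreirreducible⟩, toNonempty := ‹_› }
  | succ n ih =>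
    obtain ⟨hs, hi⟩ := ih
    haveI := hs
    haveI := hi
    have sq : IsPullback (pr f (n + 1) 0) (drop f (0 : Fin (n + 1))) f (base f n) :=
      isPullback_drop f 0
    haveI : Smooth (drop f (0 : Fin (n + 1))) :=
      MorphismProperty.of_isPullback (P := @Smooth) sq inferInstance
    refine ⟨?_, ?_⟩
    · rw [show base f (n + 1) = drop f (0 : Fin (n + 1)) ≫ base f n from
        (drop_base f 0).symm]
      infer_instance
    · haveI : IrreducibleSpace ↥(pullback f (base f n)) := inferInstance
      exact Function.Surjective.irreducibleSpace (Scheme.homeoOfIso sq.isoPullback).symm.continuous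
        (Scheme.homeoOfIso sq.isoPullback).symm.surjective

/-- Let k be an algebraically closed field, X an irreducible smooth separated k-scheme of dimension d ≥
2 in which every finite set of points lies in an affine open (as for X quasi-projective), n ≥ 2, and
q : X ×_k ⋯ ×_k X → Y (n factors) a symmetric product over k, i.e. a quotient by the symmetric group
permuting the factors. Then for a closed point z of the n-fold product, the local ring of Y at q(z)
is regular if and only if the n components of z are pairwise distinct points of X; that is, the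
singular locus of the n-th symmetric power is the image of the big diagonal. -/
theorem result (k : Type u) [Field k] [IsAlgClosed k]
    (X : Scheme.{u}) (f : X ⟶ Spec (CommRingCat.of k)) [Smooth f] [IsSeparated f]
    [IrreducibleSpace X]
    (d : ℕ) (hd : 2 ≤ d) (hdim : topologicalKrullDim X = d) (hAF : SymProd.IsAF f)
    (n : ℕ) (hn : 2 ≤ n) (Y : Scheme.{u}) (q : SymProd.fibPow f n ⟶ Y) (g : Y ⟶ Spec (CommRingCat.of k))
    (hY : SymProd.IsSymProd f n q g) (z : SymProd.fibPow f n) (hz : IsClosed ({z} : Set (SymProd.fibPow f n))) :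
    IsRegularLocalRing (Y.presheaf.stalk (q.base z)) ↔
      Function.Injective (fun i : Fin n => (WidePullback.π (fun _ : Fin n => f) i).base z) := by
  classical
  obtain ⟨hsm, hirr⟩ := fibPow_props f n
  haveI := hsm
  haveI := hirr
  have hn0 : 0 < n := by omega
  haveI : ∀ p : fibPow f n, IsRegularLocalRing ((fibPow f n).presheaf.stalk p) := fun p =>
    Groth.Agent.Lib.JacCrit.OverField.isRegularLocalRing_stalk (base f n) p (by
      rw [Scheme.Hom.smoothLocus_eq_top]; trivial)
  haveI : ∀ p : fibPow f n, IsDomain ((fibPow f n).presheaf.stalk p) := fun p =>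
    Groth.Agent.Lib.Regular.Quotient.isDomain _
  haveI : AlgebraicGeometry.IsReduced (fibPow f n) := isReduced_of_isReduced_stalk _
  haveI : IsIntegral (fibPow f n) := isIntegral_of_irreducibleSpace_of_isReduced _
  -- the chart
  haveI := hY.isQuot.affine
  obtain ⟨U, hU, hUV, hWa0, W', hyW', hW', hpre0⟩ :=
    Groth.Agent.H81.SymProd.Chart.exists_symProd_chart f n hAF hn0 q g hY (q z) (isAffineOpen_top _) trivial
  let W : (fibPow f n).Opens := q ⁻¹ᵁ W'
  have hzW : z ∈ W := hyW'
  have hpre : W = Groth.Agent.H81.SymProd2.Box.box f (fun _ : Fin n => U) :=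
    hpre0.trans rfl
  have hWa : IsAffineOpen W := hW'.preimage q
  haveI : Nonempty W := ⟨⟨z, hzW⟩⟩
  -- algebras
  let K0 := Γ(Spec (CommRingCat.of k), ⊤)
  let e0 : k ≃+* K0 := (Scheme.ΓSpecIso (CommRingCat.of k)).symm.commRingCatIsoToRingEquiv
  let C := Γ(X, U)
  let R := Γ(fibPow f n, W)
  letI aKC : Algebra K0 C := (f.appLE ⊤ U hUV).hom.toAlgebra
  letI aKR : Algebra K0 R := ((base f n).appLE ⊤ W le_top).hom.toAlgebra
  letI akC : Algebra k C := ((algebraMap K0 C).comp e0.toRingHom).toAlgebra
  letI akR : Algebra k R := ((algebraMap K0 R).comp e0.toRingHom).toAlgebra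
  haveI : LocallyOfFiniteType (base f n) := inferInstance
  haveI : Algebra.FiniteType k C := by
    refine RingHom.FiniteType.comp ?_ (RingHom.FiniteType.of_surjective _ e0.surjective)
    exact HasRingHomProperty.appLE @LocallyOfFiniteType f inferInstance ⟨⊤, isAffineOpen_top _⟩ ⟨U, hU⟩ hUV
  haveI : Algebra.FiniteType k R := by
    refine RingHom.FiniteType.comp ?_ (RingHom.FiniteType.of_surjective _ e0.surjective)
    exact HasRingHomProperty.appLE @LocallyOfFiniteType (base f n) inferInstance ⟨⊤, isAffineOpen_top _⟩ ⟨W, hWa⟩ le_top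
  have hle : ∀ l : Fin n, W ≤ pr f n l ⁻¹ᵁ U := fun l x hx => by
    rw [hpre] at hx
    exact Groth.Agent.H81.SymProd2.Box.box_le_pr f (fun _ : Fin n => U) l hx
  let p0 : Fin n → C →ₐ[K0] R := fun l =>
    { __ := ((pr f n l).appLE U W (hle l)).hom
      commutes' := fun r => by
        show ((f.appLE ⊤ U hUV) ≫ (pr f n l).appLE U W (hle l)).hom r = _
        rw [Scheme.Hom.appLE_comp_appLE]
        simp only [WidePullback.π_arrow]
        rfl }
  let p : Fin n → C →ₐ[k] R := fun l => { __ := (p0 l).toRingHom, commutes' := fun r => (p0 l).commutes (e0 r) }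
  have hbij : Function.Bijective (Groth.Agent.H81.SymProd2.Box.lift p0) := by
    have key : ∀ (W₁ : (fibPow f n).Opens) (_ : W₁ = Groth.Agent.H81.SymProd2.Box.box f (fun _ : Fin n => U))
        [Algebra K0 Γ(fibPow f n, W₁)]
        (_ : algebraMap K0 Γ(fibPow f n, W₁) = ((base f n).appLE ⊤ W₁ le_top).hom)
        (p₁ : Fin n → C →ₐ[K0] Γ(fibPow f n, W₁)) (hle₁ : ∀ l, W₁ ≤ pr f n l ⁻¹ᵁ U)
        (_ : ∀ l b, p₁ l b = (pr f n l).appLE U W₁ (hle₁ l) b),
        Function.Bijective (Groth.Agent.H81.SymProd2.Box.lift p₁) := by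
      rintro _ rfl _ halg p₁ hle₁ hp₁
      exact Groth.Agent.H81.SymProd2.Box.lift_bijective (V := ⊤) (U := fun _ : Fin n => U) f hn0
        (fun _ => hU) (isAffineOpen_top _) (fun _ => hUV) (fun _ => rfl) halg p₁ hp₁
    exact key W hpre rfl p0 hle fun _ _ => rfl
  -- the action
  have hst : ∀ σ : Equiv.Perm (Fin n), W ≤ SymProd.permHom f n σ ⁻¹ᵁ W := fun σ => by
    have := SGA1.preimage_le_of_inv _ q hY.isQuot.inv ⟨σ⟩ W'
    rwa [SymProd.permActU_hom] at this
  let act : Equiv.Perm (Fin n) → R →+* R := fun σ => ((SymProd.permHom f n σ⁻¹).appLE W W (hst _)).hom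
  have hact1 : ∀ r, act 1 r = r := fun r => by
    show ((SymProd.permHom f n (1 : Equiv.Perm (Fin n))⁻¹).appLE W W (hst _)).hom r = r
    exact appLE_of_eq_id _ (by rw [inv_one, SymProd.permHom_one]) _ _ r
  have hactm : ∀ σ τ r, act (σ * τ) r = act σ (act τ r) := fun σ τ r => by
    show _ = ((SymProd.permHom f n τ⁻¹).appLE W W (hst _) ≫ (SymProd.permHom f n σ⁻¹).appLE W W (hst _)).hom r
    rw [Scheme.Hom.appLE_comp_appLE]
    show ((SymProd.permHom f n (σ * τ)⁻¹).appLE W W (hst _)).hom r = _
    simp only [mul_inv_rev, SymProd.permHom_mul]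
  letI : MulSemiringAction (Equiv.Perm (Fin n)) R :=
    { smul := fun σ r => act σ r
      one_smul := hact1
      mul_smul := hactm
      smul_zero := fun σ => map_zero (act σ)
      smul_add := fun σ => map_add (act σ)
      smul_one := fun σ => map_one (act σ)
      smul_mul := fun σ => map_mul (act σ) }
  have hsmul : ∀ (σ : Equiv.Perm (Fin n)) (r : R), σ • r = act σ r := fun _ _ => rfl
  have hK : ∀ (σ : Equiv.Perm (Fin n)) (a : K0), act σ (algebraMap K0 R a) = algebraMap K0 R a := fun σ a => by
    show (((base f n).appLE ⊤ W le_top) ≫ (SymProd.permHom f n σ⁻¹).appLE W W (hst _)).hom a = _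
    rw [Scheme.Hom.appLE_comp_appLE]
    simp only [SymProd.permHom_base]
    rfl
  haveI : SMulCommClass (Equiv.Perm (Fin n)) k R := ⟨fun σ a r => by
    rw [Algebra.smul_def, Algebra.smul_def, hsmul, hsmul, map_mul]
    congr 1
    exact hK σ _⟩
  have hp : ∀ (σ : Equiv.Perm (Fin n)) (l : Fin n) (c : C), σ • p l c = p (σ l) c := fun σ l c => by
    show ((pr f n l).appLE U W (hle l) ≫ (SymProd.permHom f n σ⁻¹).appLE W W (hst _)).hom c = _
    rw [Scheme.Hom.appLE_comp_appLE]
    simp only [SymProd.permHom_π]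
    rfl
  -- regularity
  haveI : IsDomain R := inferInstance
  have hregR : ∀ (m : Ideal R) [m.IsMaximal], IsRegularLocalRing (Localization.AtPrime m) := fun m _ => by
    let pt : PrimeSpectrum R := ⟨m, inferInstance⟩
    letI := (fibPow f n).presheaf.algebra_section_stalk (⟨hWa.fromSpec pt, hWa.range_fromSpec.le ⟨pt, rfl⟩⟩ : W)
    haveI : IsLocalization.AtPrime ((fibPow f n).presheaf.stalk (hWa.fromSpec pt)) m :=
      hWa.isLocalization_stalk' pt (hWa.range_fromSpec.le ⟨pt, rfl⟩)
    exact IsRegularLocalRing.of_ringEquiv (IsLocalization.algEquiv m.primeCompl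
      ((fibPow f n).presheaf.stalk (hWa.fromSpec pt)) (Localization.AtPrime m)).toRingEquiv
  have hC : ∀ (n0 : Ideal C) [n0.IsMaximal], IsRegularLocalRing (Localization.AtPrime n0) ∧
      2 ≤ ringKrullDim (Localization.AtPrime n0) := fun n0 _ => by
    let pt : Spec Γ(X, U) := ⟨n0, inferInstance⟩
    letI := X.presheaf.algebra_section_stalk (⟨hU.fromSpec pt, hU.range_fromSpec.le ⟨pt, rfl⟩⟩ : U)
    haveI : IsLocalization.AtPrime (X.presheaf.stalk (hU.fromSpec pt)) n0 :=
      hU.isLocalization_stalk' pt (hU.range_fromSpec.le ⟨pt, rfl⟩)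
    haveI := Groth.Agent.Lib.JacCrit.OverField.isRegularLocalRing_stalk f (hU.fromSpec pt) (by
      rw [Scheme.Hom.smoothLocus_eq_top]; trivial)
    let e := (IsLocalization.algEquiv n0.primeCompl (X.presheaf.stalk (hU.fromSpec pt))
      (Localization.AtPrime n0)).toRingEquiv
    refine ⟨IsRegularLocalRing.of_ringEquiv e, ?_⟩
    have hclosed : IsClosed ({hU.fromSpec pt} : Set X) := by
      haveI : JacobsonSpace X := LocallyOfFiniteType.jacobsonSpace f
      refine (mem_closedPoints_iff).1 ?_
      have hcl : pt ∈ closedPoints (Spec Γ(X, U)) := by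
        rw [mem_closedPoints_iff]; exact (PrimeSpectrum.isClosed_singleton_iff_isMaximal pt).2 inferInstance
      rw [← hU.fromSpec.isOpenEmbedding.preimage_closedPoints] at hcl
      exact hcl
    rw [← ringKrullDim_eq_of_ringEquiv e,
      Groth.Agent.Lib.AffineCompl.Dim.ringKrullDim_stalk_of_isClosed f hclosed, hdim]
    exact_mod_cast hd
  have hext : ∀ φ ψ : R →ₐ[k] k, (∀ l c, φ (p l c) = ψ (p l c)) → φ = ψ := by
    intro φ ψ h
    letI : Algebra K0 k := e0.symm.toRingHom.toAlgebra
    let φ0 : R →ₐ[K0] k :=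
     { __ := φ.toRingHom
       commutes' := fun a => by
        show φ (algebraMap K0 R a) = e0.symm a
        rw [← show algebraMap k R (e0.symm a) = algebraMap K0 R a from
          congrArg (algebraMap K0 R) (e0.apply_symm_apply a)]
        exact φ.commutes (e0.symm a) }
    let ψ0 : R →ₐ[K0] k :=
     { __ := ψ.toRingHom
       commutes' := fun a => by
        show ψ (algebraMap K0 R a) = e0.symm a
        rw [← show algebraMap k R (e0.symm a) = algebraMap K0 R a from
          congrArg (algebraMap K0 R) (e0.apply_symm_apply a)]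
        exact ψ.commutes (e0.symm a) }
    refine AlgHom.ext fun r => ?_
    obtain ⟨t, rfl⟩ := hbij.2 r
    show φ0.comp (Groth.Agent.H81.SymProd2.Box.lift p0) t = ψ0.comp (Groth.Agent.H81.SymProd2.Box.lift p0) t
    congr 1
    refine PiTensorProduct.algHom_ext fun l => AlgHom.ext fun c => ?_
    simp only [AlgHom.comp_apply, Groth.Agent.H81.SymProd2.Box.lift_single]
    exact h l c
  have hmv : Groth.Agent.H81.SymReg.Ring.Moves k R (Equiv.Perm (Fin n)) := by
    refine Groth.Agent.H81.SymReg.Moves.moves p (fun σ => σ) (fun σ hσ => ?_) hp (fun F => ?_) hext hC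
    · by_contra! h
      exact hσ (Equiv.ext h)
    · letI : Algebra K0 (DualNumber k) := ((algebraMap k (DualNumber k)).comp e0.symm.toRingHom).toAlgebra
      let F0 : Fin n → C →ₐ[K0] DualNumber k := fun l =>
       { __ := (F l).toRingHom
         commutes' := fun a => by
          show F l (algebraMap K0 C a) = algebraMap k (DualNumber k) (e0.symm a)
          rw [← (F l).commutes (e0.symm a)]
          show _ = F l (algebraMap K0 C (e0 (e0.symm a)))
          rw [RingEquiv.apply_symm_apply] }
      let E := AlgEquiv.ofBijective _ hbij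
      let Φ0 : R →ₐ[K0] DualNumber k := (Groth.Agent.H81.SymProd2.Box.lift F0).comp E.symm.toAlgHom
      refine ⟨{ __ := Φ0.toRingHom, commutes' := fun a => ?_ }, fun l c => ?_⟩
      · show Φ0 (algebraMap K0 R (e0 a)) = _
        rw [Φ0.commutes]
        show algebraMap k (DualNumber k) (e0.symm (e0 a)) = _
        rw [RingEquiv.symm_apply_apply]
      · show Groth.Agent.H81.SymProd2.Box.lift F0 (E.symm (p0 l c)) = F0 l c
        rw [← Groth.Agent.H81.SymProd2.Box.lift_single p0 l c]
        show Groth.Agent.H81.SymProd2.Box.lift F0 (E.symm (E (PiTensorProduct.singleAlgHom l c))) = _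
        rw [AlgEquiv.symm_apply_apply, Groth.Agent.H81.SymProd2.Box.lift_single]
  -- the invariants
  letI aBR : Algebra Γ(Y, W') R := (q.app W').hom.toAlgebra
  have hrange : ∀ s : R, (∀ σ : Equiv.Perm (Fin n), act σ s = s) ↔ s ∈ Set.range (algebraMap Γ(Y, W') R) := fun s => by
    refine Iff.trans ?_ (hY.isQuot.range_iff W' s).symm
    constructor
    · intro h σ
      have := h σ.down⁻¹
      simp only [act, inv_inv] at this
      simpa [SymProd.permActU_hom] using this
    · intro h σ
      have := h ⟨σ⁻¹⟩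
      simpa [act, SymProd.permActU_hom] using this
  haveI : SMulCommClass (Equiv.Perm (Fin n)) Γ(Y, W') R := ⟨fun σ a r => by
    rw [Algebra.smul_def, Algebra.smul_def, hsmul, hsmul, map_mul, (hrange _).2 ⟨a, rfl⟩ σ]⟩
  haveI : Algebra.IsInvariant Γ(Y, W') R (Equiv.Perm (Fin n)) := ⟨fun b hb => (hrange b).1 hb⟩
  let m : Ideal R := (hWa.primeIdealOf ⟨z, hzW⟩).asIdeal
  haveI : m.IsMaximal := hWa.primeIdealOf_isMaximal_of_isClosed ⟨z, hzW⟩ hz
  have hmy : m.comap (algebraMap Γ(Y, W') R) = (hW'.primeIdealOf ⟨q z, hyW'⟩).asIdeal := by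
    refine Ideal.ext fun s => ?_
    rw [Ideal.mem_comap, ← not_iff_not, ← Groth.Agent.H81.SymProd2.Flat'.mem_basicOpen_iff_notMem hWa _ hzW,
      ← Groth.Agent.H81.SymProd2.Flat'.mem_basicOpen_iff_notMem hW' _ hyW', RingHom.algebraMap_toAlgebra,
      ← Scheme.preimage_basicOpen]
    rfl
  letI := Y.presheaf.algebra_section_stalk ⟨q z, hyW'⟩
  haveI : IsLocalization.AtPrime (Y.presheaf.stalk (q z)) (m.comap (algebraMap Γ(Y, W') R)) := by
    rw [IsLocalization.AtPrime, show (m.comap (algebraMap Γ(Y, W') R)).primeCompl =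
      (hW'.primeIdealOf ⟨q z, hyW'⟩).asIdeal.primeCompl from SetLike.ext fun s => by
        show s ∉ m.comap (algebraMap Γ(Y, W') R) ↔ s ∉ (hW'.primeIdealOf ⟨q z, hyW'⟩).asIdeal
        rw [hmy]]
    exact hW'.isLocalization_stalk ⟨q z, hyW'⟩
  let eY := (IsLocalization.algEquiv (m.comap (algebraMap Γ(Y, W') R)).primeCompl (Y.presheaf.stalk (q z))
    (Localization.AtPrime (m.comap (algebraMap Γ(Y, W') R)))).toRingEquiv
  have hiff := Groth.Agent.H81.SymReg.Ring.isRegular_iff (k := k) (G := Equiv.Perm (Fin n)) hregR hmv Γ(Y, W')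
    (hY.isQuot.injective W') m
  have heq : IsRegularLocalRing (Y.presheaf.stalk (q z)) ↔
      IsRegularLocalRing (Localization.AtPrime (m.comap (algebraMap Γ(Y, W') R))) :=
    ⟨fun h => by haveI := h; exact IsRegularLocalRing.of_ringEquiv eY,
      fun h => by haveI := h; exact IsRegularLocalRing.of_ringEquiv eY.symm⟩
  refine (heq.trans hiff).trans ?_
  -- points fixed by permutations
  have hmem : ∀ (x : fibPow f n) (hx : x ∈ W) (s : R), x ∈ (fibPow f n).basicOpen s ↔
      s ∉ (hWa.primeIdealOf ⟨x, hx⟩).asIdeal := fun x hx s =>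
    Groth.Agent.H81.SymProd2.Flat'.mem_basicOpen_iff_notMem hWa s hx
  have hperm : ∀ σ : Equiv.Perm (Fin n), σ • m = m ↔ SymProd.permHom f n σ z = z := by
    intro σ
    have hσz : SymProd.permHom f n σ z ∈ W := hst σ hzW
    have hiso : σ • m = (hWa.primeIdealOf ⟨_, hσz⟩).asIdeal := by
      refine Ideal.ext fun s => ?_
      rw [Ideal.mem_pointwise_smul_iff_inv_smul_mem, ← not_iff_not, ← hmem _ hzW, ← hmem _ hσz, hsmul]
      show z ∈ (fibPow f n).basicOpen (((SymProd.permHom f n σ⁻¹⁻¹).appLE W W (hst _)).hom s) ↔ _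
      simp only [inv_inv]
      rw [Scheme.basicOpen_appLE]
      exact ⟨fun h => h.2, fun h => ⟨hzW, h⟩⟩
    rw [hiso]
    constructor
    · intro h
      have e : hWa.primeIdealOf ⟨_, hσz⟩ = hWa.primeIdealOf ⟨z, hzW⟩ := PrimeSpectrum.ext h
      have := congrArg hWa.fromSpec e
      rwa [hWa.fromSpec_primeIdealOf, hWa.fromSpec_primeIdealOf] at this
    · intro h
      simp only [h]
      rfl
  constructor
  · intro h i j hij
    by_contra hne
    let σ := Equiv.swap i j
    refine h σ (fun e => hne (by simpa [σ] using congrArg (fun s : Equiv.Perm (Fin n) => s j) e)) ?_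
    have hpt : ∀ l, pr f n (σ l) z = pr f n l z := fun l => by
      rcases eq_or_ne l i with rfl | hli
      · simp only [σ, Equiv.swap_apply_left]; exact hij.symm
      rcases eq_or_ne l j with rfl | hlj
      · simp only [σ, Equiv.swap_apply_right]; exact hij
      · simp only [σ, Equiv.swap_apply_of_ne_of_ne hli hlj]
    have hmc : ∀ l (c : C), p l c ∈ m ↔ pr f n l z ∉ X.basicOpen c := fun l c => by
      rw [← not_iff_not, not_not, ← hmem z hzW]
      show z ∈ (fibPow f n).basicOpen (((pr f n l).appLE U W (hle l)).hom c) ↔ _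
      rw [Scheme.basicOpen_appLE]
      exact ⟨fun h => h.2, fun h => ⟨hzW, h⟩⟩
    letI : Field (R ⧸ m) := Ideal.Quotient.field m
    haveI : Module.Finite k (R ⧸ m) := finite_of_finite_type_of_isJacobsonRing k (R ⧸ m)
    let y : R →ₐ[k] k := ((AlgEquiv.ofBijective (Algebra.ofId k (R ⧸ m))
      IsAlgClosed.algebraMap_bijective_of_isIntegral).symm.toAlgHom).comp (Ideal.Quotient.mkₐ k m)
    have hym : ∀ r, y r = 0 ↔ r ∈ m := fun r => by simp [y, Ideal.Quotient.eq_zero_iff_mem]
    have hy : y.comp (MulSemiringAction.toAlgHom k R σ) = y := hext _ _ fun l c => by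
      show y (σ • p l c) = y (p l c)
      rw [hp]
      have h1 : p l (c - algebraMap k C (y (p l c))) ∈ m := (hym _).1 (by simp)
      rw [hmc, ← hpt l, ← hmc, ← hym, map_sub, map_sub, AlgHom.commutes, AlgHom.commutes, sub_eq_zero] at h1
      exact h1
    ext r
    rw [Ideal.mem_pointwise_smul_iff_inv_smul_mem, ← hym, ← hym]
    have := AlgHom.congr_fun hy (σ⁻¹ • r)
    simp only [AlgHom.comp_apply, MulSemiringAction.toAlgHom_apply, smul_inv_smul] at this
    rw [this]
  · intro hinj σ hσ hσm
    refine hσ (Equiv.ext fun l => ?_)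
    have hfix := (hperm σ).1 hσm
    have := congrArg (pr f n (σ l)) hfix
    rw [perm_apply, Equiv.symm_apply_apply] at this
    exact (hinj this).symm

end Groth.Agent.S19450
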