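import Groth.Statements.S19452
import Groth.Agent.H53.DualFlat

set_option autoImplicit false
universe u
attribute [local instance] W4c6puncthilbintro.dualAlgebra
open HilbD

namespace Groth.Agent.S19452

theorem fst_algMap {A R : Type u} [CommRing A] [CommRing R] [Algebra A R] (a : DualNumber A) :
    (algebraMap (DualNumber A) (DualNumber R) a).fst = algebraMap A R a.fst := by
  show (W4c6puncthilbintro.dualMap A R a).fst = _
  conv_lhs => rw [Groth.Agent.H53.DualFlat.eq_inl_add a]
  simp [TrivSqZeroExt.algebraMap_eq_inl']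

theorem eps_smul {A R : Type u} [CommRing A] [CommRing R] [Algebra A R]
    (J : Ideal (DualNumber R)) (x : DualNumber R) :
    (DualNumber.eps : DualNumber A) • (Ideal.Quotient.mk J x) =
      Ideal.Quotient.mk J (DualNumber.eps * x) := by
  show Ideal.Quotient.mk J ((DualNumber.eps : DualNumber A) • x) = _
  rw [Algebra.smul_def]
  congr 2
  exact W4c6puncthilbintro.dualMap_eps A R

theorem smul_mk {A R : Type u} [CommRing A] [CommRing R] [Algebra A R]
    (J : Ideal (DualNumber R)) (a : DualNumber A) (x : DualNumber R) :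
    a • (Ideal.Quotient.mk J x) = Ideal.Quotient.mk J (algebraMap (DualNumber A) (DualNumber R) a * x) := by
  rw [← Algebra.smul_def]
  rfl

/-- Let A be a commutative ring, R a commutative A-algebra free as an A-module, I an ideal of R with R/I
flat over A, and view the dual numbers R[ε] as an algebra over A[ε] (ε ↦ ε). For φ : I → R/I linear
over R, let J_φ be the ideal of elements a + bε of R[ε] with a ∈ I and b ≡ φ(a) modulo I. Then each
R[ε]/J_φ is flat over A[ε] and J_φ reduces to I modulo ε; the assignment φ ↦ J_φ is injective; and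
every ideal J of R[ε] with R[ε]/J flat over A[ε] which reduces to I modulo ε equals some J_φ. Thus
the first-order liftings of I correspond one-to-one to Hom_R(I, R/I) (the tangent space of the
Hilbert scheme at I). -/
theorem result (A : Type u) [CommRing A] (R : Type u) [CommRing R]
    [Algebra A R] [Module.Free A R] (I : Ideal R) [Module.Flat A (R ⧸ I)] :
    (∀ φ : I →ₗ[R] R ⧸ I,
        Module.Flat (DualNumber A) (DualNumber R ⧸ W4c6puncthilbintro.liftIdeal I φ) ∧
          Ideal.map (TrivSqZeroExt.fstHom A R R) (W4c6puncthilbintro.liftIdeal I φ) = I) ∧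
      Function.Injective (W4c6puncthilbintro.liftIdeal I) ∧
      ∀ J : Ideal (DualNumber R), Module.Flat (DualNumber A) (DualNumber R ⧸ J) →
        Ideal.map (TrivSqZeroExt.fstHom A R R) J = I →
          ∃ φ : I →ₗ[R] R ⧸ I, J = W4c6puncthilbintro.liftIdeal I φ := by
  classical
  refine ⟨fun φ => ⟨?_, ?_⟩, ?_, ?_⟩
  · have hle : ∀ x ∈ W4c6puncthilbintro.liftIdeal I φ, x.fst ∈ I := fun x hx => hx.1
    let q0 : DualNumber R →+ R ⧸ I :=
      { toFun := fun x => Ideal.Quotient.mk I x.fst
        map_zero' := map_zero _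
        map_add' := fun x y => map_add _ _ _ }
    let q : DualNumber R ⧸ W4c6puncthilbintro.liftIdeal I φ →+ R ⧸ I :=
      QuotientAddGroup.lift _ q0 fun x hx => Ideal.Quotient.eq_zero_iff_mem.2 (hle x hx)
    have hqmk : ∀ x, q (Ideal.Quotient.mk _ x) = Ideal.Quotient.mk I x.fst := fun x => rfl
    refine Groth.Agent.H53.DualFlat.flat_of_fst q (fun a m => ?_) (fun n => ?_) (fun m hm => ?_)
      fun m hm => ?_
    · obtain ⟨x, rfl⟩ := Ideal.Quotient.mk_surjective m
      rw [smul_mk, hqmk, hqmk, TrivSqZeroExt.fst_mul, fst_algMap, map_mul, Algebra.smul_def,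
        IsScalarTower.algebraMap_apply A R (R ⧸ I), Ideal.Quotient.algebraMap_eq]
    · obtain ⟨a, rfl⟩ := Ideal.Quotient.mk_surjective n
      exact ⟨Ideal.Quotient.mk _ (TrivSqZeroExt.inl a), by rw [hqmk, TrivSqZeroExt.fst_inl]⟩
    · obtain ⟨x, rfl⟩ := Ideal.Quotient.mk_surjective m
      rw [hqmk, Ideal.Quotient.eq_zero_iff_mem] at hm
      obtain ⟨b, hb⟩ := Ideal.Quotient.mk_surjective (φ ⟨x.fst, hm⟩)
      refine ⟨Ideal.Quotient.mk _ (TrivSqZeroExt.inl (x.snd - b)), ?_⟩
      rw [eps_smul, Ideal.Quotient.eq]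
      have e : x - DualNumber.eps * TrivSqZeroExt.inl (x.snd - b) =
          TrivSqZeroExt.inl x.fst + DualNumber.eps * TrivSqZeroExt.inl b := by
        ext <;> simp
      rw [e]
      refine ⟨by simpa using hm, ?_⟩
      simp [hb]
    · obtain ⟨x, rfl⟩ := Ideal.Quotient.mk_surjective m
      rw [eps_smul, Ideal.Quotient.eq_zero_iff_mem] at hm
      obtain ⟨h, h'⟩ := hm
      rw [hqmk]
      have e : (⟨(DualNumber.eps * x).fst, h⟩ : I) = 0 := Subtype.ext (by simp)
      rw [e, map_zero] at h'
      simpa using h'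
  · refine le_antisymm (Ideal.map_le_iff_le_comap.2 fun x hx => hx.1) fun a ha => ?_
    obtain ⟨b, hb⟩ := Ideal.Quotient.mk_surjective (φ ⟨a, ha⟩)
    have hmem : TrivSqZeroExt.inl a + DualNumber.eps * TrivSqZeroExt.inl b ∈
        W4c6puncthilbintro.liftIdeal I φ := ⟨by simpa using ha, by simp [hb]⟩
    have := Ideal.mem_map_of_mem (TrivSqZeroExt.fstHom A R R) hmem
    simpa using this
  · intro φ ψ h
    refine LinearMap.ext fun ⟨a, ha⟩ => ?_
    obtain ⟨b, hb⟩ := Ideal.Quotient.mk_surjective (φ ⟨a, ha⟩)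
    have hmem : TrivSqZeroExt.inl a + DualNumber.eps * TrivSqZeroExt.inl b ∈
        W4c6puncthilbintro.liftIdeal I φ := ⟨by simpa using ha, by simp [hb]⟩
    rw [h] at hmem
    obtain ⟨h1, h2⟩ := hmem
    simp [hb] at h2
    exact h2
  · intro J hJ hmap
    have hfst : ∀ x ∈ J, x.fst ∈ I := fun x hx => hmap ▸ Ideal.mem_map_of_mem _ hx
    have hsurj : ∀ a ∈ I, ∃ x ∈ J, x.fst = a := fun a ha =>
      (Ideal.mem_map_iff_of_surjective (TrivSqZeroExt.fstHom A R R)
        (fun r => ⟨TrivSqZeroExt.inl r, rfl⟩)).1 (hmap.symm ▸ ha)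
    have hzero : ∀ x ∈ J, x.fst = 0 → x.snd ∈ I := by
      intro x hx hx0
      obtain ⟨z, hz⟩ := Groth.Agent.H53.DualFlat.exists_eq_eps_smul_of_flat (A := A)
        (Ideal.Quotient.mk J (TrivSqZeroExt.inl x.snd)) (by
          refine (eps_smul (A := A) J _).trans (Ideal.Quotient.eq_zero_iff_mem.2 ?_)
          have e : DualNumber.eps * TrivSqZeroExt.inl x.snd = x := by ext <;> simp [hx0]
          rwa [e])
      obtain ⟨w, rfl⟩ := Ideal.Quotient.mk_surjective z
      replace hz := Ideal.Quotient.eq.1 (hz.trans (eps_smul (A := A) J w))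
      simpa using hfst _ hz
    have hI : ∀ b ∈ I, DualNumber.eps * TrivSqZeroExt.inl b ∈ J := by
      intro b hb
      obtain ⟨x, hx, rfl⟩ := hsurj b hb
      have e : DualNumber.eps * TrivSqZeroExt.inl x.fst = DualNumber.eps * x := by ext <;> simp
      rw [e]
      exact J.mul_mem_left _ hx
    choose x hxJ hxa using fun a : I => hsurj a.1 a.2
    have huniq : ∀ (a : I) (y : DualNumber R), y ∈ J → y.fst = (a : R) →
        Ideal.Quotient.mk I y.snd = Ideal.Quotient.mk I (x a).snd := fun a y hy hya =>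
      Ideal.Quotient.eq.2 (by
        simpa using hzero (y - x a) (J.sub_mem hy (hxJ a)) (by simp [hya, hxa]))
    let φ : I →ₗ[R] R ⧸ I :=
      { toFun := fun a => Ideal.Quotient.mk I (x a).snd
        map_add' := fun a b => by
          rw [← map_add, ← TrivSqZeroExt.snd_add]
          exact (huniq (a + b) _ (J.add_mem (hxJ a) (hxJ b)) (by simp [hxa])).symm
        map_smul' := fun c a => by
          have h1 := huniq (c • a) _ (J.mul_mem_left (TrivSqZeroExt.inl c) (hxJ a)) (by simp [hxa])
          rw [RingHom.id_apply, ← h1, Algebra.smul_def, Ideal.Quotient.algebraMap_eq, ← map_mul]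
          simp }
    refine ⟨φ, le_antisymm (fun y hy => ⟨hfst y hy, huniq ⟨y.fst, hfst y hy⟩ y hy rfl⟩) ?_⟩
    rintro y ⟨h1, h2⟩
    have e : y = x ⟨y.fst, h1⟩ + DualNumber.eps * TrivSqZeroExt.inl (y.snd - (x ⟨y.fst, h1⟩).snd) := by
      ext <;> simp [hxa]
    rw [e]
    exact J.add_mem (hxJ _) (hI _ (Ideal.Quotient.eq.1 h2))

end Groth.Agent.S19452
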