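import Groth.Statements.S19453
import Mathlib.RingTheory.AdjoinRoot
import Groth.Agent.S19436
import Groth.Agent.Lib.Regular.Quotient

set_option autoImplicit false
universe u
open CAlg

namespace Groth.Agent.S19453

/-- Converse direction: let k be a field, A a regular local k-algebra of Krull dimension 2 with maximal
ideal M and residue field k, and I an ideal with A/I of finite dimension n ≥ 1 over k. If some
element of I does not lie in M^2, then A/I is isomorphic as a k-algebra to k[x]/(x^n): a cluster
lying on a smooth curve germ of a smooth surface is curvilinear, with coordinate ring generated by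
one element. -/
theorem result (k : Type u) [Field k]
    (A : Type u) [CommRing A] [Algebra k A] [IsRegularLocalRing A] (hdim : ringKrullDim A = 2)
    (hres : Function.Surjective (algebraMap k (IsLocalRing.ResidueField A)))
    (I : Ideal A) [Module.Finite k (A ⧸ I)] (n : ℕ) (hn : Module.finrank k (A ⧸ I) = n) (h1 : 1 ≤ n)
    (g : A) (hgI : g ∈ I) (hg : g ∉ IsLocalRing.maximalIdeal A ^ 2) :
    Nonempty ((A ⧸ I) ≃ₐ[k] (Polynomial k ⧸ Ideal.span {(Polynomial.X : Polynomial k) ^ n})) := by
  classical
  set M := IsLocalRing.maximalIdeal A with hM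
  have hIM : I ≤ M := IsLocalRing.le_maximalIdeal fun e => by
    have : Subsingleton (A ⧸ I) := Ideal.Quotient.subsingleton_iff.mpr e
    rw [Module.finrank_zero_of_subsingleton] at hn
    omega
  obtain ⟨T, hT, hTc⟩ := Lib.Regular.Quotient.exists_gens_of_notMem_sq (hIM hgI) hg
  have hsp : (IsLocalRing.maximalIdeal A).spanFinrank = 2 := by
    have := IsRegularLocalRing.spanFinrank_maximalIdeal (R := A)
    rw [hdim] at this
    exact_mod_cast this
  obtain ⟨t, rfl⟩ := Finset.card_eq_one.mp (show T.card = 1 by omega)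
  have hMeq : M = Ideal.span ({g, t} : Set A) := by rw [hM, ← hT]; simp
  have htM : t ∈ M := hMeq ▸ Ideal.subset_span (by simp)
  have hpow := S19436.result k A I n hn
  let φ : Polynomial k →ₐ[k] A ⧸ I := Polynomial.aeval (Ideal.Quotient.mk I t)
  have hker : ∀ p ∈ Ideal.span {(Polynomial.X : Polynomial k) ^ n}, φ p = 0 := by
    intro p hp
    obtain ⟨q, rfl⟩ := Ideal.mem_span_singleton'.mp hp
    rw [map_mul, map_pow, show φ Polynomial.X = Ideal.Quotient.mk I t from Polynomial.aeval_X _, ← map_pow,
      Ideal.Quotient.eq_zero_iff_mem.mpr (hpow (Ideal.pow_mem_pow htM n)), mul_zero]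
  let Φ := Ideal.Quotient.liftₐ (Ideal.span {(Polynomial.X : Polynomial k) ^ n}) φ hker
  have happ : ∀ j, ∀ a : A, ∃ p : Polynomial k, a - Polynomial.aeval t p ∈ M ^ j ⊔ I := by
    intro j
    induction j with
    | zero => intro a; exact ⟨0, by simp⟩
    | succ j ih =>
      intro a
      obtain ⟨c, hc⟩ := hres (IsLocalRing.residue A a)
      have hm : a - algebraMap k A c ∈ M := by
        rw [hM, ← IsLocalRing.residue_eq_zero_iff, map_sub, ← hc,
          IsScalarTower.algebraMap_apply k A (IsLocalRing.ResidueField A)]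
        exact sub_self _
      rw [hMeq] at hm
      obtain ⟨x, y, hxy⟩ := Ideal.mem_span_pair.mp hm
      obtain ⟨p, hp⟩ := ih y
      refine ⟨Polynomial.C c + Polynomial.X * p, ?_⟩
      simp only [map_add, map_mul, Polynomial.aeval_C, Polynomial.aeval_X]
      rw [show a - (algebraMap k A c + t * Polynomial.aeval t p) =
        t * (y - Polynomial.aeval t p) + x * g by linear_combination hxy.symm]
      refine Ideal.add_mem _ ?_ (Submodule.mem_sup_right (I.mul_mem_left x hgI))
      obtain ⟨u, hu, v, hv, huv⟩ := Submodule.mem_sup.mp hp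
      rw [← huv, mul_add, pow_succ']
      exact Submodule.add_mem_sup (Ideal.mul_mem_mul htM hu) (I.mul_mem_left t hv)
  have hsurj : Function.Surjective Φ := by
    intro b
    obtain ⟨a, rfl⟩ := Ideal.Quotient.mk_surjective b
    obtain ⟨p, hp⟩ := happ n a
    rw [sup_eq_right.mpr hpow] at hp
    refine ⟨Ideal.Quotient.mk _ p, ?_⟩
    show φ p = _
    rw [eq_comm, ← sub_eq_zero]
    have := Ideal.Quotient.eq_zero_iff_mem.mpr hp
    rw [map_sub] at this
    rw [show φ p = Ideal.Quotient.mk I (Polynomial.aeval t p) from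
      Polynomial.aeval_algHom_apply (Ideal.Quotient.mkₐ k I) t p]
    exact this
  have hX : (Polynomial.X : Polynomial k) ^ n ≠ 0 := pow_ne_zero _ Polynomial.X_ne_zero
  have : FiniteDimensional k (Polynomial k ⧸ Ideal.span {(Polynomial.X : Polynomial k) ^ n}) :=
    (AdjoinRoot.powerBasis hX).finite
  have hfr : Module.finrank k (Polynomial k ⧸ Ideal.span {(Polynomial.X : Polynomial k) ^ n}) =
      Module.finrank k (A ⧸ I) := by
    rw [finrank_quotient_span_eq_natDegree, hn, Polynomial.natDegree_X_pow]
  refine ⟨(AlgEquiv.ofBijective Φ ⟨?_, hsurj⟩).symm⟩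
  exact (LinearMap.injective_iff_surjective_of_finrank_eq_finrank hfr (f := Φ.toLinearMap)).mpr hsurj

end Groth.Agent.S19453
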