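import Groth.Statements.S19454
import Groth.Agent.S16494
import Groth.Agent.S2652
import Groth.Agent.S1689
import Groth.Agent.Lib.RefHull.ExtHull

set_option autoImplicit false
universe u
open CategoryTheory CategoryTheory.Limits AlgebraicGeometry
open Resolve

namespace Groth.Agent.S19454

/-- Let (A, m) be a complete normal Noetherian local domain of dimension two with a rational singularity
(every proper birational modification X → Spec A with X integral and normal has H^1(X, O_X) = 0), f
: X' → Spec A a resolution of singularities (proper, X' integral with regular local rings, an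
isomorphism over a nonempty open subset), L a coherent reflexive module on Spec A, and M the strict
transform of L: a coherent torsion-free module on X' with an epimorphism q : f^*L → M injective on
stalks at the generic point. Then M is finite locally free and generated by global sections, and
moreover H^1(X', M) = 0 (the vanishing of the first higher direct image of M, proved alongside).
(The published statement takes the resolution to be the minimal one; its proof does not use
minimality, and any resolution is allowed here.) -/
theorem result (A : Type u) [CommRing A]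
    [IsDomain A] [IsLocalRing A] [IsNoetherianRing A] [IsIntegrallyClosed A]
    [IsAdicComplete (IsLocalRing.maximalIdeal A) A] (hdim : ringKrullDim A = 2) (hA : Curv2.IsRationalSing A)
    (X' : Scheme.{u}) (f : X' ⟶ Spec (CommRingCat.of A)) [IsProper f] [IsIntegral X']
    (hreg : ∀ x : X', IsRegularLocalRing (X'.presheaf.stalk x))
    (hbir : ∃ U : (Spec (CommRingCat.of A)).Opens, (U : Set (Spec (CommRingCat.of A))).Nonempty ∧ IsIso (f ∣_ U))
    (L : (Spec (CommRingCat.of A)).Modules) (hLc : Coh.IsCoh L) (hLr : RefHull.IsReflexive L)
    (M : X'.Modules) (hMc : Coh.IsCoh M) (hMt : TorSh.IsTorsionFree M)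
    (q : (Scheme.Modules.pullback f).obj L ⟶ M) [Epi q]
    (hq : Function.Injective (RefHull.stalkMapₗ q (genericPoint X'))) :
    FlatMod.IsFinLocFree M ∧ Curv2.IsGloballyGenerated M ∧ Subsingleton (Coh.HH X' M 1) := by
  have hexc : EGA4.IsExcellent A := Groth.Agent.S2652.result A
  have hN : CAlg.IsNagata A := Groth.Agent.S2654.result A ⟨hexc.1, hexc.2.2.1, hexc.2.2.2⟩
  haveI : IsLocallyNoetherian X' := LocallyOfFiniteType.isLocallyNoetherian f
  haveI := hLc.1
  have hXn : Pi1.IsNormalScheme X' := Groth.Agent.Lib.RefHull.ExtHull.isNormal hreg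
  have hgg : Curv2.IsGloballyGenerated M := Groth.Agent.Lib.Amp36.Modif.ReflPull.gg f q
  have hr : RefHull.IsReflexive M :=
    Groth.Agent.S16494.result A hexc hdim hA X' f hXn hbir L hLc hLr M hMc hMt q hq
  obtain ⟨U, hU, hUiso⟩ := hbir
  haveI := hUiso
  have h2 : ∀ x : X', ringKrullDim (X'.presheaf.stalk x) ≤ ((2 : ℕ) : WithBot ℕ∞) :=
    Groth.Agent.Lib.Amp36.Modif.Birat.ringKrullDim_stalk_le f _ hU 2
      ((PrimeSpectrum.topologicalKrullDim_eq_ringKrullDim A).trans hdim).le
  have hdimX : topologicalKrullDim X' ≤ 2 :=
    Groth.Agent.Lib.Flat55.DimIneqFibre.topologicalKrullDim_le_of_forall_stalk _ h2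
  exact ⟨(Groth.Agent.S1689.result X' hreg hdimX M hMc).1
      ((Groth.Agent.Lib.RefHull.Reflexive.isReflexive_iff_forall hMc).1 hr), hgg,
    Groth.Agent.S7298.result A hN hdim hA X' f hXn ⟨U, hU, hUiso⟩ M hMc.1 hgg⟩

end Groth.Agent.S19454
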