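import Groth.Statements.S19456
import Groth.Agent.Lib.MeroK.ZeroDivisor

set_option autoImplicit false
universe u
open CategoryTheory CategoryTheory.Limits AlgebraicGeometry TopologicalSpace Opposite
open Mero

namespace Groth.Agent.S19456

open Groth.Agent Groth.Agent.Lib Groth.Agent.Lib.MeroK
open Groth.Agent.Lib.TensorMod.Dual Groth.Agent.Lib.TensorMod.Gen
open Groth.Agent.H95

/-- With the preceding paragraph: let X be an integral scheme, L an invertible O_X-module and s a
nonzero global section of L, given as a nonzero morphism O_X → L. Then the zero scheme Z(s) of s is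
an effective Cartier divisor: there is a divisor D on X (a global section of the sheaf of units of
K_X modulo units of O_X) which, around every point of X, on some affine open neighbourhood, is the
class of a regular function generating the ideal of Z(s) there; and there is an isomorphism of
O_X-modules L ≅ O_X(D) which carries s to the element 1 of Γ(X, O_X(D)) ⊆ K(X). (The published
statement is for an irreducible variety over an algebraically closed field; this row states it for
an arbitrary integral scheme.) -/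
theorem result (X : Scheme.{u}) [AlgebraicGeometry.IsIntegral X]
    (L : X.Modules) (hL : PicF.IsInvertible L) (s : Coh.structureModule X ⟶ L) (hs : s ≠ 0) :
    ∃ D : Mero.Divisor X, Mero.IsDivOfIdeal D (PicF2.zeroScheme L s) ∧
      ∃ e : L ≅ Mero.divMod D,
        (Mero.divModι D).app ⊤ (e.hom.app ⊤ (SecTwist.val s ⊤)) = 1 := by
  let s' : Γ(Mero.merMod L, ⊤) := Mero.toMerFun L ⊤ (ZeroSch.sv s ⊤)
  have hform : ∀ (F : ZeroSch.Frame L) (y : F.V.1), s'.1 ⟨y.1, trivial⟩ =
      algebraMap (X.presheaf.stalk y.1) (Mero.KStalk X y.1)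
        (X.presheaf.germ F.V.1 y.1 y.2 (ZeroSch.coord F (ZeroSch.sv s F.V.1))) •
        (LocalizedModule.mk (L.presheaf.germ F.V.1 y.1 y.2 F.e) 1 : Mero.MStalk L y.1) := by
    intro F y
    rw [algebraMap_smul, LocalizedModule.smul'_mk]
    refine Mero.mk_congr ?_ rfl
    rw [← Mero.germ_smul, ZeroSch.coord_smul, ← ZeroSch.rs_sv s (le_top : F.V.1 ≤ ⊤)]
    exact (RegMero.germ_rs (le_top : F.V.1 ≤ ⊤) y.2 (ZeroSch.sv s ⊤)).symm
  have hreg : Mero.IsRegularMero L s' := by
    intro y q hq
    obtain ⟨F, hyF, -⟩ := ZeroSch.exists_frame hL (show y ∈ (⊤ : X.Opens) from trivial)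
    rw [hform F ⟨y, hyF⟩, smul_smul] at hq
    have h0 := DivSection.smul_mk_injective F.he hyF (a₁ := q * _) (a₂ := 0)
      (by simp only [zero_smul]; exact hq)
    exact (Basic.mul_algebraMap_regStalk_eq_zero_iff
      (Mero.germ_mem_regStalk ⟨y, hyF⟩ (ZeroDivisor.coord_mem_regSub hL hs F))).mp h0
  obtain ⟨D, i, hD, hi⟩ := DivSection.exists_iso_divMod_spec hL hreg
  refine ⟨D, fun x => ?_, i, ?_⟩
  · obtain ⟨F, hxF, -⟩ := ZeroSch.exists_frame hL (show x ∈ (⊤ : X.Opens) from trivial)
    have ha := ZeroDivisor.coord_mem_regSub hL hs F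
    refine ⟨F.V, hxF, _, ha, ZeroSch.zeroScheme_ideal_eq hL s hs F, fun y => ?_⟩
    refine (hD F.V.1 F.e (Affine.isUnit_toK ha).unit F.he (fun z => ?_) y).trans
      (ZeroDivisor.germOf_isUnit_toK ha y)
    rw [hform F z, IsUnit.unit_spec, Basic.toK_eq_algebraMap]
  · refine Subtype.ext (funext fun y => sub_eq_zero.mp (hreg y.1 _ ?_))
    have h1 := hi ⊤ (ZeroSch.sv s ⊤) y
    refine (sub_smul ((i.hom.app ⊤ (ZeroSch.sv s ⊤)).1 y) (1 : Mero.KStalk X y.1) _).trans ?_
    rw [one_smul, sub_eq_zero]
    exact h1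

end Groth.Agent.S19456
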