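import Groth.Statements.S19458
import Groth.Agent.Lib.MeroK.ZeroDivisor

set_option autoImplicit false
universe u
open CategoryTheory CategoryTheory.Limits AlgebraicGeometry TopologicalSpace Opposite
open Mero

namespace Groth.Agent.S19458

open Groth.Agent Groth.Agent.Lib Groth.Agent.Lib.MeroK
open Groth.Agent.Lib.TensorMod.Dual Groth.Agent.Lib.TensorMod.Gen
open Groth.Agent.H95

/-- Let X be an integral scheme, L an invertible O_X-module and D an effective Cartier divisor on X (a
global section of the sheaf of units of K_X modulo units of O_X whose germ at every point is the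
class of a germ of a regular function) such that O_X(D) is isomorphic to L. Then there is a nonzero
global section s of L, given as a nonzero morphism O_X → L, whose zero scheme Z(s) is D: around
every point of X, on some affine open neighbourhood, the ideal of Z(s) is generated by a regular
function whose classes are the germs of D there. (The published statement is for an irreducible
variety over an algebraically closed field; this row states it for an arbitrary integral scheme.) -/
theorem result (X : Scheme.{u}) [AlgebraicGeometry.IsIntegral X]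
    (L : X.Modules) (hL : PicF.IsInvertible L) (D : Mero.Divisor X) (hD : Mero.IsEffective D)
    (e : L ≅ Mero.divMod D) :
    ∃ s : Coh.structureModule X ⟶ L, s ≠ 0 ∧ Mero.IsDivOfIdeal D (PicF2.zeroScheme L s) := by
  let t : ∀ U : X.Opens, Γ(Mero.divMod D, U) := fun U =>
    ⟨fun _ => 1, Mero.kLoc_one X U, fun y g hg => by
      obtain ⟨a, ha⟩ := hD y.1
      rw [ha, QuotientGroup.eq] at hg
      obtain ⟨w, hw⟩ := hg
      have hg' : g = (IsLocalization.map_units (Mero.KStalk X y.1) a).unit *
          Units.map (algebraMap (X.presheaf.stalk y.1) (Mero.KStalk X y.1)).toMonoidHom w := by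
        rw [hw, mul_inv_cancel_left]
      refine ⟨a.1 * (w : X.presheaf.stalk y.1), ?_⟩
      rw [one_mul, map_mul, hg', Units.val_mul, IsUnit.unit_spec, Units.coe_map]
      rfl⟩
  obtain ⟨φ, hφ⟩ := exists_hom_of_family t fun V W h => Subtype.ext (funext fun _ => rfl)
  have hs : φ ≫ e.inv ≠ 0 := by
    intro h0
    have h1 : φ = 0 := by
      rw [← Category.comp_id φ, ← e.inv_hom_id, ← Category.assoc, h0, zero_comp]
    obtain ⟨x⟩ := (inferInstance : Nonempty X)
    have h2 := hφ ⊤
    rw [h1] at h2
    have h3 := congrFun (congrArg Subtype.val h2) ⟨x, trivial⟩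
    exact zero_ne_one (α := Mero.KStalk X x) h3
  refine ⟨φ ≫ e.inv, hs, fun x => ?_⟩
  obtain ⟨U, hxU, f, hf⟩ := D.2 x
  obtain ⟨W, hW, hxW, hle⟩ := exists_isAffineOpen_mem_and_subset hxU
  have hWU : W ≤ U := fun z hz => hle hz
  let f' : (Γ(Mero.kmod X, W))ˣ :=
    Units.map ((Mero.kring X).obj.map (homOfLE hWU).op).hom.toMonoidHom f
  obtain ⟨e', he', hev⟩ := DivMod.exists_gen D f' fun y => hf ⟨y.1, hWU y.2⟩
  have hgen : IsGen L W (e.inv.app W e') := fun V hV => by
    have h2 : (fun r : Γ(X, V) => r • rs L hV (e.inv.app W e')) =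
        (e.inv.app V) ∘ fun r : Γ(X, V) => r • rs (Mero.divMod D) hV e' := by
      funext r
      rw [Function.comp_apply, Scheme.Modules.Hom.app_smul]
      exact congrArg (r • ·)
        (PresheafOfModules.naturality_apply e.inv.val (homOfLE hV).op e').symm
    rw [h2]
    exact (ConcreteCategory.bijective_of_isIso (e.inv.app V)).comp (he' V hV)
  let F : ZeroSch.Frame L := ⟨⟨W, hW⟩, e.inv.app W e', hgen⟩
  obtain ⟨c, hc⟩ := (he' W le_rfl).2 (t W)
  simp only at hc
  rw [rs_self] at hc
  have hcoord : ZeroSch.coord F (ZeroSch.sv (φ ≫ e.inv) W) = c := by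
    refine (F.he W le_rfl).1 ?_
    simp only [rs_self]
    refine (ZeroSch.coord_smul F _).trans ?_
    change e.inv.app W (φ.app W (one X W)) = c • e.inv.app W e'
    rw [hφ, ← hc, Scheme.Modules.Hom.app_smul]
  have hreg : c ∈ Mero.regSub X W := by
    rw [← hcoord]
    exact ZeroDivisor.coord_mem_regSub hL hs F
  refine ⟨F.V, hxW, c, hreg, ?_, fun y => ?_⟩
  · rw [ZeroSch.zeroScheme_ideal_eq hL _ hs F]
    exact congrArg (fun a => Ideal.span {a}) hcoord
  · refine (hf ⟨y.1, hWU y.2⟩).trans ?_
    refine congrArg QuotientGroup.mk (Units.ext ?_)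
    rw [IsUnit.unit_spec, Units.coe_map]
    have h1 : (1 : Mero.KStalk X y.1) =
        X.presheaf.germ W y.1 y.2 c • (↑f'⁻¹ : Γ(Mero.kmod X, W)).1 y := by
      rw [← hev y]
      exact (congrFun (congrArg Subtype.val hc) y).symm
    have h2 := congrArg (· * (↑f' : Γ(Mero.kmod X, W)).1 y) h1
    simp only [one_mul, smul_mul_assoc] at h2
    rw [← Mero.kmod_mul_apply, Units.inv_mul, Mero.kmod_one_apply, ← Algebra.algebraMap_eq_smul_one] at h2
    exact h2

end Groth.Agent.S19458
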