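import Groth.Statements.S19459
import Groth.Agent.Lib.MeroK.ZeroDivisor

set_option autoImplicit false
universe u
open CategoryTheory CategoryTheory.Limits AlgebraicGeometry TopologicalSpace Opposite
open Mero

namespace Groth.Agent.S19459

open Groth.Agent Groth.Agent.Lib Groth.Agent.Lib.MeroK
open Groth.Agent.Lib.TensorMod.Dual Groth.Agent.Lib.TensorMod.Gen
open Groth.Agent.H95

/-- Let X be an integral scheme, L₁ and L₂ invertible O_X-modules with nonzero global sections s₁ and s₂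
(nonzero morphisms O_X → L₁ and O_X → L₂), and let D₁, D₂ be the effective Cartier divisors of the
zero schemes Z(s₁), Z(s₂): divisors on X (global sections of the sheaf of units of K_X modulo units
of O_X) which around every point, on some affine open neighbourhood, are the class of a regular
function generating the ideal of the zero scheme. Then the divisor D₁ · D₂ (multiplicative notation
for the sum D₁ + D₂) is in the same sense the effective Cartier divisor of the zero scheme of the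
global section s₁ ⊗ s₂ of the tensor product L₁ ⊗ L₂; that is, Z(s₁ ⊗ s₂) = Z(s₁) + Z(s₂). (The
published statement is for an irreducible variety over an algebraically closed field; this row
states it for an arbitrary integral scheme.) -/
theorem result (X : Scheme.{u}) [AlgebraicGeometry.IsIntegral X]
    (L₁ L₂ : X.Modules) (hL₁ : PicF.IsInvertible L₁) (hL₂ : PicF.IsInvertible L₂)
    (s₁ : Coh.structureModule X ⟶ L₁) (s₂ : Coh.structureModule X ⟶ L₂) (hs₁ : s₁ ≠ 0) (hs₂ : s₂ ≠ 0)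
    (D₁ D₂ : Mero.Divisor X) (hD₁ : Mero.IsDivOfIdeal D₁ (PicF2.zeroScheme L₁ s₁))
    (hD₂ : Mero.IsDivOfIdeal D₂ (PicF2.zeroScheme L₂ s₂)) :
    Mero.IsDivOfIdeal (D₁ * D₂) (PicF2.zeroScheme (CohB1.tensorMod L₁ L₂) (SecTwist.tmulHom s₁ s₂)) := by
  intro x
  obtain ⟨U₁, e₁, hx₁, he₁⟩ := isInvertible_iff.mp hL₁ x
  obtain ⟨U₂, e₂, hx₂, he₂⟩ := isInvertible_iff.mp hL₂ x
  obtain ⟨W, hW, hxW, hle⟩ := exists_isAffineOpen_mem_and_subset (show x ∈ U₁ ⊓ U₂ from ⟨hx₁, hx₂⟩)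
  have hW₁ : W ≤ U₁ := fun z hz => (hle hz).1
  have hW₂ : W ≤ U₂ := fun z hz => (hle hz).2
  let F₁ : ZeroSch.Frame L₁ := ⟨⟨W, hW⟩, _, he₁.res hW₁⟩
  let F₂ : ZeroSch.Frame L₂ := ⟨⟨W, hW⟩, _, he₂.res hW₂⟩
  let F : ZeroSch.Frame (CohB1.tensorMod L₁ L₂) :=
    ⟨⟨W, hW⟩, _, Ample.GenLocus.isGen_tmul (he₁.res hW₁) (he₂.res hW₂)⟩
  let a₁ : Mero.regSub X W := ⟨_, ZeroDivisor.coord_mem_regSub hL₁ hs₁ F₁⟩
  let a₂ : Mero.regSub X W := ⟨_, ZeroDivisor.coord_mem_regSub hL₂ hs₂ F₂⟩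
  have hv : ZeroSch.sv (SecTwist.tmulHom s₁ s₂) W = (a₁.1 * a₂.1) • F.e := by
    refine (SecTwist.val_tmulHom s₁ s₂ W).trans ?_
    refine Eq.trans ?_ (Ample.GenLocus.tmul_smul a₁.1 a₂.1 _ _)
    exact congrArg₂ (SecTwist.tmul L₁ L₂ W) (ZeroSch.coord_smul F₁ _).symm
      (ZeroSch.coord_smul F₂ _).symm
  have hcoord : ZeroSch.coord F (ZeroSch.sv (SecTwist.tmulHom s₁ s₂) W) = a₁.1 * a₂.1 := by
    refine (F.he W le_rfl).1 ?_
    simp only [rs_self]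
    exact (ZeroSch.coord_smul F _).trans hv
  have hne : SecTwist.tmulHom s₁ s₂ ≠ 0 := fun h0 => by
    have h1 : (a₁.1 * a₂.1) • F.e = (0 : Γ(X, W)) • F.e := by
      rw [← hv, h0, zero_smul]
      rfl
    have h2 : a₁.1 * a₂.1 = 0 := (F.he W le_rfl).1 (by simp only [rs_self]; exact h1)
    have h3 := congrArg (X.presheaf.germ W x hxW) h2
    rw [map_zero] at h3
    exact nonZeroDivisors.ne_zero (Submonoid.mul_mem _ a₁.2 a₂.2 ⟨x, hxW⟩) h3
  refine ⟨F.V, hxW, a₁.1 * a₂.1, Submonoid.mul_mem _ a₁.2 a₂.2, ?_, fun y => ?_⟩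
  · rw [ZeroSch.zeroScheme_ideal_eq
      (TensorMod.Invertible.isInvertible_tensorMod hL₁ hL₂) _ hne F]
    exact congrArg (fun a => Ideal.span {a}) hcoord
  · refine Eq.trans ?_ (ZeroDivisor.cls_mul y a₁ a₂).symm
    obtain ⟨V₁, hy₁, b₁, hb₁, hI₁, hD₁'⟩ := hD₁ y.1
    obtain ⟨V₂, hy₂, b₂, hb₂, hI₂, hD₂'⟩ := hD₂ y.1
    exact congrArg₂ (· * ·)
      ((hD₁' ⟨y.1, hy₁⟩).trans (ZeroDivisor.cls_eq_of_stalkIdeal (U' := ⟨W, hW⟩) hy₁ y.2
        ⟨b₁, hb₁⟩ a₁ hI₁ (ZeroSch.zeroScheme_ideal_eq hL₁ s₁ hs₁ F₁)))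
      ((hD₂' ⟨y.1, hy₂⟩).trans (ZeroDivisor.cls_eq_of_stalkIdeal (U' := ⟨W, hW⟩) hy₂ y.2
        ⟨b₂, hb₂⟩ a₂ hI₂ (ZeroSch.zeroScheme_ideal_eq hL₂ s₂ hs₂ F₂)))

end Groth.Agent.S19459
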