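import Groth.Statements.S19461
import Mathlib.RingTheory.AdicCompletion.LocalRing
import Mathlib.RingTheory.AdicCompletion.AsTensorProduct
import Mathlib.RingTheory.Flat.FaithfullyFlat.Algebra

set_option autoImplicit false
universe u
open CAlg

namespace Groth.Agent.S19461

/-- The implication from isomorphic completions to flat and unramified. Let A → B be a local
homomorphism of Noetherian local rings and ψ a ring map from the completion of A at its maximal
ideal to that of B whose composite with A → A^ is A → B → B^. If ψ is bijective, then A → B is flat
and the maximal ideal of A generates the maximal ideal of B. (The published statement is the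
implication, for a morphism of algebraic varieties over an algebraically closed field, from
isomorphic induced maps of completed local rings at every point to flat and unramified; its proof is
this local-ring argument, valid for any Noetherian local rings. The converse implication is a
separate result.) -/
theorem result (A B : Type u) [CommRing A]
    [CommRing B] [IsLocalRing A] [IsLocalRing B] [IsNoetherianRing A] [IsNoetherianRing B]
    [Algebra A B] [IsLocalHom (algebraMap A B)]
    (ψ : AdicCompletion (IsLocalRing.maximalIdeal A) A →+* AdicCompletion (IsLocalRing.maximalIdeal B) B)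
    (hψ : ψ.comp (algebraMap A (AdicCompletion (IsLocalRing.maximalIdeal A) A)) =
      (algebraMap B (AdicCompletion (IsLocalRing.maximalIdeal B) B)).comp (algebraMap A B))
    (hbij : Function.Bijective ψ) :
    Module.Flat A B ∧
      Ideal.map (algebraMap A B) (IsLocalRing.maximalIdeal A) = IsLocalRing.maximalIdeal B := by
  let e : AdicCompletion (IsLocalRing.maximalIdeal A) A ≃ₐ[A]
      AdicCompletion (IsLocalRing.maximalIdeal B) B :=
    { RingEquiv.ofBijective ψ hbij with
      commutes' := fun a => by
        refine (RingHom.congr_fun hψ a).trans ?_
        exact (IsScalarTower.algebraMap_apply A B (AdicCompletion (IsLocalRing.maximalIdeal B) B) a).symm }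
  have hff : Module.FaithfullyFlat B (AdicCompletion (IsLocalRing.maximalIdeal B) B) :=
    Module.FaithfullyFlat.of_flat_of_isLocalHom
  have hAB : Module.Flat A (AdicCompletion (IsLocalRing.maximalIdeal B) B) :=
    Module.Flat.of_linearEquiv e.symm.toLinearEquiv
  constructor
  · refine Module.Flat.iff_lTensor_preserves_injective_linearMap.mpr fun N P _ _ _ _ f hf => ?_
    refine (Module.FaithfullyFlat.lTensor_injective_iff_injective B
      (AdicCompletion (IsLocalRing.maximalIdeal B) B) (TensorProduct.AlgebraTensorModule.lTensor B B f)).mp ?_
    have hcomm : (TensorProduct.AlgebraTensorModule.cancelBaseChange A B B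
          (AdicCompletion (IsLocalRing.maximalIdeal B) B) P).toLinearMap ∘ₗ
        (TensorProduct.AlgebraTensorModule.lTensor B B f).lTensor _ =
      (TensorProduct.AlgebraTensorModule.lTensor B (AdicCompletion (IsLocalRing.maximalIdeal B) B) f) ∘ₗ
        (TensorProduct.AlgebraTensorModule.cancelBaseChange A B B
          (AdicCompletion (IsLocalRing.maximalIdeal B) B) N).toLinearMap := by
      ext; simp
    have h3 : Function.Injective
        (TensorProduct.AlgebraTensorModule.lTensor B (AdicCompletion (IsLocalRing.maximalIdeal B) B) f) :=
      Module.Flat.lTensor_preserves_injective_linearMap f hf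
    intro x y hxy
    apply (TensorProduct.AlgebraTensorModule.cancelBaseChange A B B
          (AdicCompletion (IsLocalRing.maximalIdeal B) B) N).injective
    apply h3
    have h4 := congrArg (TensorProduct.AlgebraTensorModule.cancelBaseChange A B B
          (AdicCompletion (IsLocalRing.maximalIdeal B) B) P) hxy
    rw [← LinearEquiv.coe_coe, ← LinearMap.comp_apply, ← LinearMap.comp_apply, hcomm] at h4
    simpa using h4
  · apply Ideal.map_injective_of_faithfullyFlat (B := AdicCompletion (IsLocalRing.maximalIdeal B) B)
    rw [Ideal.map_map, ← IsScalarTower.algebraMap_eq, ← AdicCompletion.maximalIdeal_eq_map,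
      ← IsLocalRing.map_ringEquiv_maximalIdeal e.toRingEquiv, AdicCompletion.maximalIdeal_eq_map]
    refine Eq.trans ?_ (Ideal.map_map (algebraMap A (AdicCompletion (IsLocalRing.maximalIdeal A) A)) e.toRingEquiv.toRingHom).symm
    congr 1
    exact RingHom.ext fun a => (e.commutes a).symm

end Groth.Agent.S19461
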