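import Groth.Statements.S19462
import Mathlib

set_option autoImplicit false
set_option backward.isDefEq.respectTransparency false
universe u
open GrNak

namespace Groth.Agent.S19462

open DirectSum


/-- Let k be a field and R a commutative ℤ-graded k-algebra whose pieces of negative degree vanish and
whose degree-zero piece is the image of k, and let M be a finitely generated ℤ-graded R-module,
graded compatibly with R. Then M is a projective R-module if and only if M has an R-basis consisting
of homogeneous elements, i.e. M is a free graded module. (The published statement takes R a graded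
quotient of a polynomial ring k[x_0, …, x_n] with its standard grading; stated here for any
commutative graded k-algebra concentrated in non-negative degrees with degree-zero part k, to which
the same graded-Nakayama argument applies.) -/
theorem result {k : Type u} [Field k] {R : Type u} [CommRing R] [Algebra k R]
    {σ : Type u} [SetLike σ R] [AddSubmonoidClass σ R] (𝒜 : ℤ → σ) [GradedRing 𝒜]
    (hneg : ∀ i : ℤ, i < 0 → ∀ x ∈ 𝒜 i, x = 0)
    (hk : ∀ c : k, algebraMap k R c ∈ 𝒜 0) (h0 : ∀ x ∈ 𝒜 0, ∃ c : k, algebraMap k R c = x)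
    {M : Type u} [AddCommGroup M] [Module R M] [Module.Finite R M]
    {τ : Type u} [SetLike τ M] [AddSubmonoidClass τ M] (ℳ : ℤ → τ) [DirectSum.Decomposition ℳ]
    [SetLike.GradedSMul 𝒜 ℳ] :
    Module.Projective R M ↔
      ∃ (ι : Type u) (b : Module.Basis ι R M), ∀ i : ι, SetLike.IsHomogeneousElem ℳ (b i) := by
  classical
  refine ⟨fun hP => ?_, fun ⟨ι, b, _⟩ => Module.Projective.of_basis b⟩
  rcases subsingleton_or_nontrivial R with hR | hR
  · haveI : Subsingleton M := Module.subsingleton R M
    exact ⟨PEmpty, Module.Basis.empty M, fun i => i.elim⟩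
  -- the augmentation
  have hεex : ∀ r : R, ∃ c : k, algebraMap k R c = (decompose 𝒜 r 0 : R) :=
    fun r => h0 _ (decompose 𝒜 r 0).2
  choose ε hε using hεex
  -- products have the expected components
  have hproj : ∀ (a b : R) (m : ℤ), (∀ j < m, (decompose 𝒜 b j : R) = 0) →
      (decompose 𝒜 (a * b) m : R) = (decompose 𝒜 a 0 : R) * (decompose 𝒜 b m : R) := by
    intro a b m hb
    induction a using DirectSum.Decomposition.inductionOn 𝒜 with
    | zero => simp
    | @homogeneous i a =>
      have h1 : (decompose 𝒜 ((a : R) * b) m : R) = (a : R) * (decompose 𝒜 b (m - i) : R) := by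
        have := DirectSum.coe_decompose_mul_add_of_left_mem 𝒜 (i := i) (j := m - i) (b := b) a.2
        rwa [add_sub_cancel] at this
      rcases lt_trichotomy i 0 with h | h | h
      · rw [show (a : R) = 0 from hneg i h _ a.2]; simp
      · subst h
        rw [h1, sub_zero, decompose_of_mem_same 𝒜 a.2]
      · rw [h1, hb _ (by omega), decompose_of_mem_ne 𝒜 a.2 (by omega)]; simp
    | add u v hu hv =>
      simp only [add_mul, decompose_add, DirectSum.add_apply, AddMemClass.coe_add, hu, hv]
  -- minimal homogeneous generators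
  have hgen : ∃ n : ℕ, ∃ (x : Fin n → M) (d : Fin n → ℤ), (∀ i, x i ∈ ℳ (d i)) ∧
      Submodule.span R (Set.range x) = ⊤ := by
    obtain ⟨S, hS⟩ := Module.Finite.fg_top (R := R) (M := M)
    let T : Finset (ℤ × M) := S.biUnion fun m =>
      (decompose ℳ m).support.image fun j => (j, (decompose ℳ m j : M))
    refine ⟨Fintype.card T, fun i => ((Fintype.equivFin T).symm i).1.2,
      fun i => ((Fintype.equivFin T).symm i).1.1, fun i => ?_, ?_⟩
    · obtain ⟨m, -, hm⟩ := Finset.mem_biUnion.mp ((Fintype.equivFin T).symm i).2
      obtain ⟨j, -, hj⟩ := Finset.mem_image.mp hm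
      simp only []
      rw [← hj]
      exact (decompose ℳ m j).2
    · rw [eq_top_iff, ← hS, Submodule.span_le]
      intro m hm
      rw [SetLike.mem_coe, ← DirectSum.sum_support_decompose ℳ m]
      refine sum_mem fun j hj => Submodule.subset_span ?_
      exact ⟨Fintype.equivFin T ⟨(j, (decompose ℳ m j : M)), Finset.mem_biUnion.mpr
        ⟨m, hm, Finset.mem_image.mpr ⟨j, hj, rfl⟩⟩⟩, by simp⟩
  obtain ⟨x, d, hxd, hspan⟩ := Nat.find_spec hgen
  let π : (Fin (Nat.find hgen) → R) →ₗ[R] M := Fintype.linearCombination R x
  have hπ : Function.Surjective π := by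
    rw [← LinearMap.range_eq_top, Fintype.range_linearCombination, hspan]
  have hrel : ∀ c, π c = 0 → ∀ i, (decompose 𝒜 (c i) 0 : R) = 0 := by
    intro c hc j
    by_contra hne
    have hu : IsUnit (decompose 𝒜 (c j) 0 : R) := by
      rw [← hε]
      refine (IsUnit.mk0 _ fun h => hne ?_).map (algebraMap k R)
      rw [← hε, h, map_zero]
    have hdec : ∀ (a : R) (i : Fin (Nat.find hgen)) (g : ℤ),
        (decompose ℳ (a • x i) g : M) = (decompose 𝒜 a (g - d i) : R) • x i := by
      intro a i g
      induction a using DirectSum.Decomposition.inductionOn 𝒜 with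
      | zero => simp
      | @homogeneous e a =>
        have hmem : (a : R) • x i ∈ ℳ (e + d i) := SetLike.GradedSMul.smul_mem a.2 (hxd i)
        by_cases hg : e + d i = g
        · subst hg
          rw [decompose_of_mem_same ℳ hmem, add_sub_cancel_right, decompose_of_mem_same 𝒜 a.2]
        · rw [decompose_of_mem_ne ℳ hmem hg, decompose_of_mem_ne 𝒜 a.2 (by omega), zero_smul]
      | add u v hu hv =>
        simp only [add_smul, decompose_add, DirectSum.add_apply, AddMemClass.coe_add, hu, hv]
    have h := congrArg (fun m => (decompose ℳ m (d j) : M)) hc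
    simp only [π, Fintype.linearCombination_apply, decompose_sum, decompose_zero, DirectSum.zero_apply,
      ZeroMemClass.coe_zero] at h
    erw [DFinsupp.finset_sum_apply] at h
    rw [AddSubmonoidClass.coe_finset_sum] at h
    simp only [hdec] at h
    rw [← Finset.add_sum_erase _ _ (Finset.mem_univ j), sub_self] at h
    have hmem : x j ∈ Submodule.span R (x '' {i | i ≠ j}) := by
      rw [← Submodule.smul_mem_iff_of_isUnit _ hu, eq_neg_of_add_eq_zero_left h]
      exact neg_mem (sum_mem fun i hi => Submodule.smul_mem _ _
        (Submodule.subset_span ⟨i, (Finset.mem_erase.mp hi).1, rfl⟩))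
    obtain ⟨n, hn⟩ : ∃ n, Nat.find hgen = n + 1 :=
      ⟨Nat.find hgen - 1, by have := j.pos; omega⟩
    refine Nat.find_min hgen (show n < Nat.find hgen by omega)
      ⟨fun i => x (Fin.cast hn.symm ((Fin.cast hn j).succAbove i)),
        fun i => d (Fin.cast hn.symm ((Fin.cast hn j).succAbove i)), fun i => hxd _, ?_⟩
    refine top_unique (hspan.ge.trans (Submodule.span_le.mpr ?_))
    have key : ∀ i, i ≠ j → x i ∈ Submodule.span R
        (Set.range fun i => x (Fin.cast hn.symm ((Fin.cast hn j).succAbove i))) := by
      intro i hi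
      obtain ⟨e, he⟩ := Fin.exists_succAbove_eq (x := Fin.cast hn i) (y := Fin.cast hn j)
        (fun h' => hi (Fin.cast_injective hn h'))
      exact Submodule.subset_span ⟨e, by simp only []; rw [he]; rfl⟩
    rintro _ ⟨i, rfl⟩
    by_cases hi : i = j
    · subst hi
      exact Submodule.span_le.mpr (by rintro _ ⟨l, hl, rfl⟩; exact key l hl) hmem
    · exact key i hi
  -- the kernel is a direct summand killed by an element congruent to one
  obtain ⟨σ', hσ'⟩ := Module.projective_lifting_property π LinearMap.id hπ
  let q : (Fin (Nat.find hgen) → R) →ₗ[R] (Fin (Nat.find hgen) → R) := LinearMap.id - σ'.comp π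
  have hq : LinearMap.range q = LinearMap.ker π := by
    refine le_antisymm ?_ fun v hv => ⟨v, ?_⟩
    · rintro _ ⟨v, rfl⟩
      have : π (σ' (π v)) = π v := LinearMap.congr_fun hσ' (π v)
      simp [q, LinearMap.mem_ker, this]
    · simp [q, LinearMap.mem_ker.mp hv]
  let I : Ideal R := Ideal.span {a | (decompose 𝒜 a 0 : R) = 0}
  have hI : ∀ a ∈ I, (decompose 𝒜 a 0 : R) = 0 := by
    intro a ha
    induction ha using Submodule.span_induction with
    | mem z hz => exact hz
    | zero => simp
    | add u v _ _ hu hv => simp [decompose_add, DirectSum.add_apply, hu, hv]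
    | smul r u _ hu =>
      rw [smul_eq_mul, mul_comm, hproj u r 0 (fun j hj => hneg j hj _ (decompose 𝒜 r j).2), hu, zero_mul]
  have hfg : (LinearMap.ker π).FG := by
    rw [← hq, LinearMap.range_eq_map]
    exact Module.Finite.fg_top.map _
  obtain ⟨r, hr, hrK⟩ := Submodule.exists_sub_one_mem_and_smul_eq_zero_of_fg_of_le_smul I
    (LinearMap.ker π) hfg (fun v hv => by
      have e : q v = ∑ i, v i • q (Pi.single i 1) := by
        conv_lhs => rw [pi_eq_sum_univ' v]
        simp only [map_sum, map_smul]
      have hv' : q v = v := by simp [q, LinearMap.mem_ker.mp hv]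
      rw [← hv', e]
      exact sum_mem fun i _ => Submodule.smul_mem_smul
        (Ideal.subset_span (hrel v hv i)) (hq.le ⟨_, rfl⟩))
  have hinj : Function.Injective π := by
    rw [← LinearMap.ker_eq_bot, Submodule.eq_bot_iff]
    intro v hv
    funext i
    have h1 : r * v i = 0 := congrFun (hrK v hv) i
    by_contra hne
    have hsupp : (decompose 𝒜 (v i)).support.Nonempty := by
      rw [Finset.nonempty_iff_ne_empty]
      intro he
      refine hne ?_
      rw [Pi.zero_apply, ← DirectSum.sum_support_decompose 𝒜 (v i), he, Finset.sum_empty]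
    set m := (decompose 𝒜 (v i)).support.min' hsupp
    have hm : (decompose 𝒜 (v i) m : R) ≠ 0 := fun h0' =>
      DFinsupp.mem_support_iff.mp (Finset.min'_mem _ hsupp) (Subtype.ext h0')
    have hlow : ∀ j < m, (decompose 𝒜 (v i) j : R) = 0 := fun j hj => by
      by_contra hj'
      exact absurd (Finset.min'_le _ j (DFinsupp.mem_support_iff.mpr fun e => hj' (by rw [e]; rfl)))
        (not_le.mpr hj)
    have h2 := hproj r (v i) m hlow
    rw [h1, decompose_zero, DirectSum.zero_apply, ZeroMemClass.coe_zero] at h2
    have hr0 : (decompose 𝒜 r 0 : R) = 1 := by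
      have hone : (decompose 𝒜 (1 : R) 0 : R) = 1 := decompose_of_mem_same 𝒜 SetLike.GradedOne.one_mem
      have h3 : (decompose 𝒜 ((r - 1) + 1) 0 : R) = 1 := by
        rw [decompose_add, DirectSum.add_apply, AddMemClass.coe_add, hI _ hr, zero_add, hone]
      rwa [sub_add_cancel] at h3
    rw [hr0, one_mul] at h2
    exact hm h2.symm
  let b : Module.Basis (Fin (Nat.find hgen)) R M :=
    (Pi.basisFun R (Fin (Nat.find hgen))).map (LinearEquiv.ofBijective π ⟨hinj, hπ⟩)
  refine ⟨ULift.{u} (Fin (Nat.find hgen)), b.reindex Equiv.ulift.symm, fun i => ⟨d i.down, ?_⟩⟩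
  rw [Module.Basis.reindex_apply]
  simpa [b, π, Fintype.linearCombination_apply, Pi.single_apply] using hxd i.down

end Groth.Agent.S19462
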