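import Groth.Statements.S19463
import Groth.Agent.Lib.CurveCompl53.Basic
import Groth.Agent.Lib.BiratPurity.Main

set_option autoImplicit false
universe u
open CategoryTheory CategoryTheory.Limits AlgebraicGeometry
open Curves

namespace Groth.Agent.S19463

/-- Let k be an algebraically closed field and X a smooth curve over k (integral, separated, of finite
type and smooth over k, of dimension one). Then there are a smooth projective curve Y over k
(integral, smooth over k, of dimension one, admitting a closed immersion over k into some P^n_k) and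
an open immersion X → Y over k. -/
theorem result (k : Type u) [Field k] [IsAlgClosed k]
    (X : Scheme.{u}) [X.Over (Spec (CommRingCat.of k))] [IsIntegral X] [IsSeparated (X ↘ (Spec (CommRingCat.of k)))]
    [LocallyOfFiniteType (X ↘ (Spec (CommRingCat.of k)))] [QuasiCompact (X ↘ (Spec (CommRingCat.of k)))] [Smooth (X ↘ (Spec (CommRingCat.of k)))]
    (hdimX : topologicalKrullDim X = 1) :
    ∃ (Y : Scheme.{u}) (_ : Y.Over (Spec (CommRingCat.of k))) (j : X ⟶ Y), IsOpenImmersion j ∧
      j ≫ (Y ↘ (Spec (CommRingCat.of k))) = X ↘ (Spec (CommRingCat.of k)) ∧ IsIntegral Y ∧ Smooth (Y ↘ (Spec (CommRingCat.of k))) ∧ topologicalKrullDim Y = 1 ∧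
      ∃ (n : ℕ) (i : Y ⟶ CohB1.ProjSpace n k), IsClosedImmersion i ∧ i ≫ CohB1.ProjSpace.toSpec n k = Y ↘ (Spec (CommRingCat.of k)) := by
  have hreg : ∀ x : X, IsRegularLocalRing (X.presheaf.stalk x) := Groth.Agent.S1535.result k X
  have hn : ∀ x : X, IsIntegrallyClosed (X.presheaf.stalk x) := fun x =>
    (Groth.Agent.Lib.BiratPurity.Main.normal hreg x).2
  obtain ⟨Y, g, j, hY, hg, hj, hjk, hdim, hnY⟩ :=
    Groth.Agent.Lib.CurveCompl53.Basic.exists_normal_completion k X (X ↘ _) hdimX hn
  letI : Y.Over (Spec (CommRingCat.of k)) := ⟨g⟩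
  haveI : IsProper (Y ↘ (Spec (CommRingCat.of k))) := hg
  haveI : IsLocallyNoetherian Y := LocallyOfFiniteType.isLocallyNoetherian (Y ↘ (Spec (CommRingCat.of k)))
  haveI : LocallyOfFinitePresentation (Y ↘ (Spec (CommRingCat.of k))) := inferInstance
  have hsm : Smooth (Y ↘ (Spec (CommRingCat.of k))) := by
    rw [← Scheme.Hom.smoothLocus_eq_top_iff]
    refine top_le_iff.1 fun y _ => ((Groth.Agent.S1561.result k Y).1 y).2 ?_
    haveI := (hnY y).2
    exact Groth.Agent.Lib.CurveCompl53.Basic.isRegularLocalRing_of_dim_le_one _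
      (Groth.Agent.H97.DimOneSetup.ringKrullDim_stalk_le_one hdim.le y)
  exact ⟨Y, ⟨g⟩, j, hj, hjk, hY, hsm, hdim,
    Groth.Agent.Lib.CurveCompl53.Basic.exists_closedImmersion k Y hdim⟩

end Groth.Agent.S19463
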