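import Groth.Statements.S19473

import Groth.Agent.Lib.GrpSch.Basic
import Mathlib.AlgebraicGeometry.Morphisms.FormallyUnramified

set_option autoImplicit false
universe u
open CategoryTheory CategoryTheory.Limits MonoidalCategory CartesianMonoidalCategory MonObj GrpObj AlgebraicGeometry
open AlgGrp

open Groth.Agent.Lib.GrpSch

namespace Groth.Agent.S19473

/-- Let S be a scheme and G an S-group scheme whose structure morphism G → S is locally of finite type.
Then G → S is unramified — formally unramified, since it is locally of finite type — if and only if
the identity section S → G is an open immersion. (The separated and quasi-separated clauses of the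
published item are separate results.) -/
theorem result (S : Scheme.{u})
    (G : Over S) [GrpObj G] [LocallyOfFiniteType G.hom] :
    FormallyUnramified G.hom ↔ IsOpenImmersion η[G].left := by
  constructor
  · intro _
    have : MorphismProperty.HasOfPostcompProperty @IsOpenImmersion
        ((@FormallyUnramified ⊓ @LocallyOfFiniteType : MorphismProperty Scheme.{u})) :=
      MorphismProperty.hasOfPostcompProperty_iff_le_diagonal.mpr fun _ _ g hg =>
        have := hg.1
        have := hg.2
        FormallyUnramified.isOpenImmersion_diagonal g
    refine MorphismProperty.of_postcomp (W := @IsOpenImmersion)
      (W' := (@FormallyUnramified ⊓ @LocallyOfFiniteType : MorphismProperty Scheme.{u}))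
      η[G].left G.hom ⟨inferInstance, inferInstance⟩ ?_
    rw [η_left_comp_hom]
    exact inferInstanceAs (IsOpenImmersion (𝟙 S))
  · intro h
    have : IsOpenImmersion (Limits.pullback.diagonal G.hom) := diagonal_left_of G h
    infer_instance

end Groth.Agent.S19473
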