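import Groth.Statements.S19465

import Groth.Agent.S19473
import Groth.Agent.Lib.GrpSch.UnramifiedFibre

set_option autoImplicit false
universe u
open CategoryTheory CategoryTheory.Limits MonoidalCategory CartesianMonoidalCategory MonObj GrpObj AlgebraicGeometry
open AlgGrp

namespace Groth.Agent.S19465

/-- Let S be a scheme and G an S-group scheme whose structure morphism G → S is locally of finite type.
Then G → S is an isomorphism (G is the trivial group scheme over S) if and only if every fibre G_s →
Spec κ(s), s ∈ S, is an isomorphism. -/
theorem result (S : Scheme.{u}) (G : Over S)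
    [GrpObj G] [LocallyOfFiniteType G.hom] :
    IsIso G.hom ↔ ∀ s : S, IsIso (G.hom.fiberToSpecResidueField s) := by
  constructor
  · intro _ s
    exact inferInstanceAs (IsIso (Limits.pullback.snd G.hom (S.fromSpecResidueField s)))
  · intro h
    have : FormallyUnramified G.hom :=
      Groth.Agent.Lib.GrpSch.formallyUnramified_of_fibres G.hom fun y => by
        have := h y
        infer_instance
    have : IsOpenImmersion η[G].left := (Groth.Agent.S19473.result S G).1 inferInstance
    have hη : η[G].left ≫ G.hom = 𝟙 S := Over.w η[G]
    have hs : Function.Surjective η[G].left := fun x => by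
      refine ⟨G.hom x, ?_⟩
      obtain ⟨a, ha⟩ : η[G].left (G.hom x) ∈ Set.range (G.hom.fiberι (G.hom x)) := by
        rw [Scheme.Hom.range_fiberι]
        exact (Scheme.Hom.comp_apply η[G].left G.hom (G.hom x)).symm.trans (by rw [hη]; rfl)
      obtain ⟨b, hb⟩ : x ∈ Set.range (G.hom.fiberι (G.hom x)) := by
        rw [Scheme.Hom.range_fiberι]
        rfl
      have := h (G.hom x)
      refine (ha.symm.trans (congrArg (G.hom.fiberι (G.hom x)) ?_)).trans hb
      exact (G.hom.fiberToSpecResidueField (G.hom x)).homeomorph.injective (Subsingleton.elim (α := Spec (S.residueField (G.hom x))) _ _)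
    have : IsIso η[G].left :=
      (isIso_iff_isOpenImmersion_and_epi_base η[G].left).2 ⟨inferInstance, (TopCat.epi_iff_surjective _).2 hs⟩
    have : IsIso (η[G].left ≫ G.hom) := hη ▸ (IsIso.id S : IsIso (𝟙 S))
    exact IsIso.of_isIso_comp_left η[G].left G.hom

end Groth.Agent.S19465
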