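import Groth.Statements.S19467
import Groth.Agent.Lib.QuasiCompl6.Sch
-- import your own Groth.Agent.* helpers here

set_option linter.style.haveILetI false
set_option backward.isDefEq.respectTransparency false

set_option autoImplicit false
universe u
open CategoryTheory MonoidalCategory CartesianMonoidalCategory MonObj GrpObj AlgebraicGeometry CategoryTheory.Limits
open AlgGrp
open Groth.Agent.Lib Groth.Agent.Lib.Hopf Groth.Agent.Lib.Hopf.Irred Groth.Agent.Lib.RedPts.Points Groth.Agent.Lib.MultExact6
attribute [local instance] baseAlgebra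
open WithConv (toConv)

namespace Groth.Agent.S19467

/-- Let k be a field, G a commutative affine k-group scheme of finite type, and j : M → G the largest
closed subgroup scheme of multiplicative type (M is of multiplicative type and every closed subgroup
scheme of G of multiplicative type factors through M). Then there is a closed subgroup scheme h : H
→ G such that G = M · H, in the sense that the multiplication M × H → G is surjective, and M ∩ H
(the fibre product of j and h) is finite over k. (The existence of the largest subgroup scheme of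
multiplicative type is taken here as a hypothesis on M.) -/
theorem result (k : Type u) [Field k]
    (G : Over (Spec (CommRingCat.of k))) [GrpObj G] [IsCommMonObj G] [IsAffine G.left]
    [LocallyOfFiniteType G.hom]
    (M : Over (Spec (CommRingCat.of k))) [GrpObj M] (j : M ⟶ G) [IsMonHom j] [IsClosedImmersion j.left]
    (hM : SGA3x.IsMultTypeFT M)
    (hMmax : ∀ (M' : Over (Spec (CommRingCat.of k))) [GrpObj M'] (j' : M' ⟶ G) [IsMonHom j']
      [IsClosedImmersion j'.left], SGA3x.IsMultTypeFT M' → ∃ g : M' ⟶ M, g ≫ j = j') :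
    ∃ (H : Over (Spec (CommRingCat.of k))) (_ : GrpObj H) (h : H ⟶ G), IsMonHom h ∧ IsClosedImmersion h.left ∧
      Surjective ((j ⊗ₘ h) ≫ μ[G]).left ∧
      IsFinite (pullback.fst j.left h.left ≫ M.hom) := by
  haveI := GrpQ.mono_of_left j
  haveI : IsAffine M.left := isAffine_of_isAffineHom j.left
  haveI := StrongConn6.lft_of_closed j
  haveI : IsAffineHom G.hom := isAffineHom_of_isAffine G.hom
  obtain ⟨A, _, _, e, he⟩ := H1.Hopf.exists_iso G
  haveI := he
  haveI := CharExt76.isCocomm_of_isCommMonObj G e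
  haveI : IsIso e.hom.left := inferInstanceAs (IsIso ((Over.forget _).map e.hom))
  haveI : IsIso e.inv.left := inferInstanceAs (IsIso ((Over.forget _).map e.inv))
  haveI : IsMonHom e.inv := inferInstance
  haveI : Algebra.FiniteType k A := by
    haveI h : LocallyOfFiniteType (GrpQ.AffQ.sp k A).hom := by rw [← Over.w e.inv]; infer_instance
    have h' : LocallyOfFiniteType (Spec.map (CommRingCat.ofHom (algebraMap k A))) := h
    rw [HasRingHomProperty.Spec_iff (P := @LocallyOfFiniteType), CommRingCat.hom_ofHom] at h'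
    exact RingHom.finiteType_algebraMap.1 h'
  obtain ⟨W, hWf, hgen, hW⟩ := QuasiCompl6.exists_coideal (k := k) A
  haveI := hWf
  obtain ⟨J, hJH, hJ⟩ := QuasiCompl6.exists_hopfIdeal W hW hgen
  haveI := hJH
  haveI : Algebra.FiniteType k (A ⧸ J) :=
    Algebra.FiniteType.of_surjective (Ideal.Quotient.mkₐ k J) Ideal.Quotient.mk_surjective
  let mk : A →ₐc[k] A ⧸ J := Bialgebra.Quotient.mkBialgHom (R := k) J
  let κ := GrpQ.AffQ.homOfBialgHom mk
  let h : GrpQ.AffQ.sp k (A ⧸ J) ⟶ G := κ ≫ e.inv
  haveI : IsClosedImmersion κ.left := by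
    rw [GrpQ.AffQ.homOfBialgHom_left]
    exact IsClosedImmersion.spec_of_surjective _ Ideal.Quotient.mk_surjective
  haveI hcl : IsClosedImmersion h.left := by
    simp only [h, Over.comp_left]
    infer_instance
  haveI := StrongConn6.lft_of_closed h
  haveI : QuasiCompact G.hom := inferInstance
  haveI : IsAffine (GrpQ.AffQ.sp k (A ⧸ J)).left := isAffine_of_isAffineHom h.left
  -- points of `H`
  have hHpt : ∀ {T : Over (Spec (CommRingCat.of k))} (x : T ⟶ G),
      J ≤ RingHom.ker (algHomOf (x ≫ e.hom)) → ∃ y, y ≫ h = x := fun {T} x hx => by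
    refine ⟨pointOf (Ideal.Quotient.liftₐ J (algHomOf (x ≫ e.hom)) fun a ha => hx ha), ?_⟩
    rw [← Category.assoc, Iso.comp_inv_eq]
    refine algHomOf_injective (AlgHom.ext fun a => ?_)
    rw [GrpQ.AffQ.algHomOf_comp _ κ (mk : A →ₐ[k] A ⧸ J) rfl, algHomOf_pointOf]
    rfl
  refine ⟨GrpQ.AffQ.sp k (A ⧸ J), inferInstance, h, inferInstance, hcl, ⟨fun y => ?_⟩, ?_⟩
  · -- surjectivity
    obtain ⟨T, x, t, hxt, hF, hac⟩ := QuasiCompl6.exists_point G y
    letI := hF.toField
    haveI : IsAlgClosed Γ(T.left, ⊤) := hac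
    obtain ⟨s, u, hsu, hu, hs⟩ := QuasiCompl6.exists_jordan W hW (L := Γ(T.left, ⊤)) (toConv (algHomOf (x ≫ e.hom)))
    obtain ⟨m, hm⟩ := (factor_iff G e M j hM hMmax (pointOf s.ofConv ≫ e.inv)).2 fun a ha => by
      rw [Category.assoc, Iso.inv_hom_id, Category.comp_id, algHomOf_pointOf]
      exact hs a ha
    obtain ⟨b, hb⟩ := hHpt (pointOf u.ofConv ≫ e.inv) (by
      rw [Category.assoc, Iso.inv_hom_id, Category.comp_id, algHomOf_pointOf]
      exact (hJ _ u).2 hu)
    have hz : CartesianMonoidalCategory.lift m b ≫ (j ⊗ₘ h) ≫ μ[G] = x := by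
      rw [lift_map_assoc, ← Hom.mul_def, hm, hb, ← MonObj.mul_comp, pointOf_mul]
      rw [show WithConv.ofConv (toConv s.ofConv * toConv u.ofConv) = algHomOf (x ≫ e.hom) from
        congrArg WithConv.ofConv hsu]
      rw [pointOf_algHomOf, Category.assoc, Iso.hom_inv_id, Category.comp_id]
    refine ⟨(CartesianMonoidalCategory.lift m b).left.base t, ?_⟩
    rw [← hxt, ← hz, Over.comp_left]
    rfl
  · -- finiteness of the intersection
    let P : Over (Spec (CommRingCat.of k)) := Over.mk (pullback.fst j.left h.left ≫ M.hom)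
    let a : P ⟶ M := Over.homMk (pullback.fst j.left h.left) rfl
    let c : P ⟶ GrpQ.AffQ.sp k (A ⧸ J) := Over.homMk (pullback.snd j.left h.left) (by
      show pullback.snd j.left h.left ≫ _ = pullback.fst j.left h.left ≫ M.hom
      rw [← Over.w h, ← Category.assoc, ← pullback.condition, Category.assoc, Over.w j])
    have hac : a ≫ j = c ≫ h := Over.OverMorphism.ext pullback.condition
    haveI : IsAffine P.left := isAffine_of_isAffineHom (pullback.fst j.left h.left)
    haveI : LocallyOfFiniteType P.hom :=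
      inferInstanceAs (LocallyOfFiniteType (pullback.fst j.left h.left ≫ M.hom))
    obtain ⟨R, _, _, eM, heM⟩ := H1.Hopf.exists_iso M
    haveI := heM
    haveI : IsMonHom eM.inv := inferInstance
    obtain ⟨φ, hφ⟩ := GrpQ.DomFlat.exists_bialgHom (eM.inv ≫ j ≫ e.hom)
    haveI : IsMonHom eM.symm.hom := inferInstanceAs (IsMonHom eM.inv)
    have hR : SGA3b.IsMultTypeConst k R := isMultTypeConst_of_multTypeFT hM (Grp.mkIso' eM.symm)
    have key : ∀ p : P.left, (a ≫ j).left.base p = η[G].left.base (⟨⊥, Ideal.isPrime_bot⟩ : PrimeSpectrum k) := by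
      intro p
      obtain ⟨T, x, t, hxt, hF, -⟩ := QuasiCompl6.exists_point P p
      letI := hF.toField
      have hg : (x ≫ a ≫ j) ≫ e.hom = (x ≫ a ≫ eM.hom) ≫ eM.inv ≫ j ≫ e.hom := by simp
      have hg' : algHomOf ((x ≫ a ≫ j) ≫ e.hom) = (algHomOf (x ≫ a ≫ eM.hom)).comp (φ : A →ₐ[k] R) := by
        refine AlgHom.ext fun b => ?_
        rw [hg, GrpQ.AffQ.algHomOf_comp _ _ (φ : A →ₐ[k] R) (by rw [← hφ]; rfl)]
        rfl
      have hker : J ≤ RingHom.ker (algHomOf ((x ≫ a ≫ j) ≫ e.hom)) := by
        intro b hb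
        rw [RingHom.mem_ker, hac, show (x ≫ c ≫ h) ≫ e.hom = (x ≫ c) ≫ κ by simp [h],
          GrpQ.AffQ.algHomOf_comp _ κ (mk : A →ₐ[k] A ⧸ J) rfl]
        show algHomOf (x ≫ c) (Ideal.Quotient.mk J b) = 0
        rw [Ideal.Quotient.eq_zero_iff_mem.2 hb, map_zero]
      have hu := (hJ _ (toConv (algHomOf ((x ≫ a ≫ j) ≫ e.hom)))).1 hker
      rw [hg'] at hu
      have h1 := QuasiCompl6.eq_counit_of_unip W hW hR hgen φ (algHomOf (x ≫ a ≫ eM.hom)) hu
      rw [← hg'] at h1
      have h2 : x ≫ a ≫ j = 1 := by
        rw [← cancel_mono e.hom, MonObj.one_comp]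
        refine algHomOf_injective (AlgHom.ext fun b => ?_)
        rw [h1, algHomOf_one]
        rfl
      rw [← hxt]
      show (x ≫ a ≫ j).left.base t = _
      rw [h2, Hom.one_def, Over.comp_left]
      show η[G].left.base _ = _
      exact congrArg _ (Subsingleton.elim (α := PrimeSpectrum k) _ _)
    haveI : Subsingleton P.left := ⟨fun p q => by
      have hi : Function.Injective (a ≫ j).left.base := by
        haveI : IsClosedImmersion (a ≫ j).left := by
          rw [Over.comp_left]
          show IsClosedImmersion (pullback.fst j.left h.left ≫ j.left)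
          infer_instance
        exact (a ≫ j).left.isClosedEmbedding.injective
      exact hi ((key p).trans (key q).symm)⟩
    exact QuasiCompl6.isFinite_of_subsingleton (X := P)

end Groth.Agent.S19467
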