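import Groth.Statements.S19472
import Groth.Agent.Lib.MultExact6.Core
import Groth.Agent.Lib.StrongConn6.Basic
import Groth.Agent.S19598
import Groth.Agent.Lib.CommAlgGrp.Basic
-- import your own Groth.Agent.* helpers here

set_option autoImplicit false
set_option linter.style.haveILetI false
set_option backward.isDefEq.respectTransparency false
universe u
open CategoryTheory MonoidalCategory CartesianMonoidalCategory MonObj GrpObj AlgebraicGeometry CategoryTheory.Limits
open AlgGrp

open Groth.Agent.Lib Groth.Agent.Lib.Hopf Groth.Agent.Lib.Hopf.Irred Groth.Agent.Lib.RedPts.Points Groth.Agent.Lib.MultExact6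
attribute [local instance] baseAlgebra

namespace Groth.Agent.S19472

/-- Let k be a field and 1 → G₁ → G → G₂ → 1 an exact sequence of commutative affine k-group schemes of
finite type: i : G₁ → G is a closed subgroup scheme and the kernel of a flat surjective homomorphism
q : G → G₂. Let j₁ : M₁ → G₁, j : M → G and j₂ : M₂ → G₂ be the largest closed subgroup schemes of
multiplicative type (each of multiplicative type, every closed subgroup scheme of multiplicative
type factoring through it). Then the induced sequence 1 → M₁ → M → M₂ → 1 is exact: there are u : M₁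
→ M over i and v : M → M₂ over q with u a closed immersion, v flat and surjective, and u the kernel
of v. (The companion statement for the largest unipotent subgroup schemes over a perfect field is
not included; the existence of the largest multiplicative-type subgroups is carried as hypotheses.) -/
theorem result (k : Type u) [Field k]
    (G₁ : Over (Spec (CommRingCat.of k))) [GrpObj G₁] [IsCommMonObj G₁] [IsAffine G₁.left] [LocallyOfFiniteType G₁.hom]
    (G : Over (Spec (CommRingCat.of k))) [GrpObj G] [IsCommMonObj G] [IsAffine G.left] [LocallyOfFiniteType G.hom]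
    (G₂ : Over (Spec (CommRingCat.of k))) [GrpObj G₂] [IsCommMonObj G₂] [IsAffine G₂.left] [LocallyOfFiniteType G₂.hom]
    (i : G₁ ⟶ G) [IsMonHom i] [IsClosedImmersion i.left]
    (q : G ⟶ G₂) [IsMonHom q] [Surjective q.left] [Flat q.left] (hq : AlgGrp.IsKernel i q)
    (M₁ : Over (Spec (CommRingCat.of k))) [GrpObj M₁] (j₁ : M₁ ⟶ G₁) [IsMonHom j₁] [IsClosedImmersion j₁.left]
    (hM₁ : SGA3x.IsMultTypeFT M₁)
    (hM₁max : ∀ (M' : Over (Spec (CommRingCat.of k))) [GrpObj M'] (j' : M' ⟶ G₁) [IsMonHom j']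
      [IsClosedImmersion j'.left], SGA3x.IsMultTypeFT M' → ∃ g : M' ⟶ M₁, g ≫ j₁ = j')
    (M : Over (Spec (CommRingCat.of k))) [GrpObj M] (j : M ⟶ G) [IsMonHom j] [IsClosedImmersion j.left]
    (hM : SGA3x.IsMultTypeFT M)
    (hMmax : ∀ (M' : Over (Spec (CommRingCat.of k))) [GrpObj M'] (j' : M' ⟶ G) [IsMonHom j']
      [IsClosedImmersion j'.left], SGA3x.IsMultTypeFT M' → ∃ g : M' ⟶ M, g ≫ j = j')
    (M₂ : Over (Spec (CommRingCat.of k))) [GrpObj M₂] (j₂ : M₂ ⟶ G₂) [IsMonHom j₂] [IsClosedImmersion j₂.left]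
    (hM₂ : SGA3x.IsMultTypeFT M₂)
    (hM₂max : ∀ (M' : Over (Spec (CommRingCat.of k))) [GrpObj M'] (j' : M' ⟶ G₂) [IsMonHom j']
      [IsClosedImmersion j'.left], SGA3x.IsMultTypeFT M' → ∃ g : M' ⟶ M₂, g ≫ j₂ = j') :
    ∃ (u : M₁ ⟶ M) (v : M ⟶ M₂), u ≫ j = j₁ ≫ i ∧ v ≫ j₂ = j ≫ q ∧
      IsClosedImmersion u.left ∧ Surjective v.left ∧ Flat v.left ∧ AlgGrp.IsKernel u v := by
  haveI := GrpQ.mono_of_left i
  haveI := GrpQ.mono_of_left j
  haveI := GrpQ.mono_of_left j₁
  haveI := GrpQ.mono_of_left j₂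
  haveI : IsAffine M₁.left := isAffine_of_isAffineHom j₁.left
  haveI : IsAffine M.left := isAffine_of_isAffineHom j.left
  haveI : IsAffine M₂.left := isAffine_of_isAffineHom j₂.left
  haveI := StrongConn6.lft_of_closed j₁
  haveI := StrongConn6.lft_of_closed j
  haveI := StrongConn6.lft_of_closed j₂
  haveI : QuasiCompact G.hom := inferInstance
  haveI : QuasiCompact M.hom := inferInstance
  haveI : QuasiCompact M₂.hom := inferInstance
  -- the map on the left
  haveI : IsClosedImmersion (j₁ ≫ i).left := by rw [Over.comp_left]; infer_instance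
  obtain ⟨u, hu⟩ := hMmax M₁ (j₁ ≫ i) hM₁
  -- the map on the right
  obtain ⟨A₂, _, _, e₂, he₂⟩ := H1.Hopf.exists_iso G₂
  haveI := he₂
  obtain ⟨v, hv⟩ := (factor_iff G₂ e₂ M₂ j₂ hM₂ hM₂max (j ≫ q)).2 fun a ha => by
    have h := scalar_of_mult ((j ≫ q) ≫ e₂.hom) hM (𝟙 M) ha
    rwa [Category.id_comp] at h
  haveI : IsMonHom (v ≫ j₂) := by rw [hv]; infer_instance
  haveI : IsMonHom v := StrongConn6.isMonHom_of_comp v j₂
  haveI : IsClosedImmersion u.left := by
    haveI : IsClosedImmersion (u.left ≫ j.left) := by rw [← Over.comp_left, hu]; infer_instance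
    haveI : IsSeparated G.hom := GrpSch.isSeparated_of_field G
    exact IsClosedImmersion.of_comp u.left j.left
  haveI := GrpQ.mono_of_left u
  have huv : u ≫ v = 1 := (cancel_mono j₂).1 (by
    rw [Category.assoc, hv, ← Category.assoc, hu, Category.assoc, GrpQ.kernel_comp hq, MonObj.comp_one,
      MonObj.one_comp])
  have hK : AlgGrp.IsKernel u v := by
    refine GrpQ.isKernel_of u huv fun T x hx => ?_
    obtain ⟨P, gP, jP, rP, hjP, hrP, hjPc, hPB⟩ := StrongConn6.exists_preimage j i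
    haveI := hjP; haveI := hrP; haveI := hjPc
    haveI := StrongConn6.lft_of_closed jP
    haveI : LocallyOfFinitePresentation P.hom := LocallyOfFinitePresentation.iff_locallyOfFiniteType.2 ‹_›
    have hP : SGA3x.IsMultTypeFT P := Groth.Agent.S19598.result P M hM jP inferInstance
      (GrpSch.flat_of_isField (Field.toIsField k) P.hom) inferInstance
    haveI : IsClosedImmersion rP.left := by
      haveI : IsClosedImmersion (rP.left ≫ i.left) := by
        rw [← Over.comp_left, ← hPB.w, Over.comp_left]; infer_instance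
      haveI : IsSeparated G.hom := GrpSch.isSeparated_of_field G
      exact IsClosedImmersion.of_comp rP.left i.left
    obtain ⟨g, hg⟩ := hM₁max P rP hP
    obtain ⟨n₁, hn₁⟩ := (GrpQ.mem_kernel hq (x ≫ j)).2 (by
      rw [Category.assoc, ← hv, ← Category.assoc, hx, MonObj.one_comp])
    refine ⟨hPB.lift x n₁ hn₁.symm ≫ g, (cancel_mono j).1 ?_⟩
    rw [Category.assoc, Category.assoc, hu, ← Category.assoc g, hg, ← Category.assoc, hPB.lift_snd, hn₁]
  -- the preimage of `M₂`
  obtain ⟨E, gE, jE, r, hjE, hr, hjEc, hPB⟩ := StrongConn6.exists_preimage q j₂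
  haveI := hjE; haveI := hr; haveI := hjEc
  haveI := GrpQ.mono_of_left jE
  haveI := StrongConn6.lft_of_closed jE
  haveI : IsAffine E.left := isAffine_of_isAffineHom jE.left
  haveI : QuasiCompact E.hom := inferInstance
  haveI : IsCommMonObj E := Groth.Agent.Lib.CommAlgGrp.isCommMonObj_of_mono jE
  haveI : IsCommMonObj M₂ := Groth.Agent.Lib.CommAlgGrp.isCommMonObj_of_mono j₂
  haveI : Flat r.left :=
    MorphismProperty.of_isPullback (P := @Flat) (hPB.map (Over.forget _)) ‹Flat q.left›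
  haveI : Surjective r.left :=
    MorphismProperty.of_isPullback (P := @Surjective) (hPB.map (Over.forget _)) ‹Surjective q.left›
  let n : M ⟶ E := hPB.lift j v hv.symm
  have hnj : n ≫ jE = j := hPB.lift_fst _ _ _
  have hnr : n ≫ r = v := hPB.lift_snd _ _ _
  haveI : IsMonHom (n ≫ jE) := hnj ▸ ‹IsMonHom j›
  haveI : IsMonHom n := StrongConn6.isMonHom_of_comp n jE
  haveI : IsClosedImmersion n.left := by
    haveI : IsClosedImmersion (n.left ≫ jE.left) := by rw [← Over.comp_left, hnj]; infer_instance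
    haveI : IsSeparated G.hom := GrpSch.isSeparated_of_field G
    exact IsClosedImmersion.of_comp n.left jE.left
  have hnmax : ∀ (M' : Over (Spec (CommRingCat.of k))) [GrpObj M'] (j' : M' ⟶ E) [IsMonHom j']
      [IsClosedImmersion j'.left], SGA3x.IsMultTypeFT M' → ∃ g : M' ⟶ M, g ≫ n = j' := by
    intro M' _ j' _ _ h'
    haveI : IsClosedImmersion (j' ≫ jE).left := by rw [Over.comp_left]; infer_instance
    obtain ⟨g, hg⟩ := hMmax M' (j' ≫ jE) h'
    exact ⟨g, (cancel_mono jE).1 (by rw [Category.assoc, hnj, hg])⟩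
  -- the image of `M` and the quotient by it
  obtain ⟨C₀, _, p, c, hp, hpf, hps, hcm, hcc, hpc, hC₀l, hC₀q⟩ := StrongConn6.exists_im v
  haveI := hp; haveI := hpf; haveI := hps; haveI := hcm; haveI := hcc
  haveI := GrpQ.mono_of_left c
  obtain ⟨A, _, _, eE, heE⟩ := H1.Hopf.exists_iso E
  obtain ⟨A', _, _, e', he'⟩ := H1.Hopf.exists_iso M₂
  haveI := heE; haveI := he'
  haveI : IsIso e'.hom.left := inferInstanceAs (IsIso ((Over.forget _).map e'.hom))
  haveI : IsClosedImmersion (c ≫ e'.hom).left := by rw [Over.comp_left]; infer_instance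
  haveI : Algebra.FiniteType k A' := by
    haveI : IsIso e'.inv.left := inferInstanceAs (IsIso ((Over.forget _).map e'.inv))
    haveI h : LocallyOfFiniteType (GrpQ.AffQ.sp k A').hom := by rw [← Over.w e'.inv]; infer_instance
    have h' : LocallyOfFiniteType (Spec.map (CommRingCat.ofHom (algebraMap k A'))) := h
    rw [HasRingHomProperty.Spec_iff (P := @LocallyOfFiniteType), CommRingCat.hom_ofHom] at h'
    exact RingHom.finiteType_algebraMap.1 h'
  have hnorm : AlgGrp.IsNormalHom (c ≫ e'.hom) := fun T g m => ⟨m, by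
    obtain ⟨g', rfl⟩ : ∃ g' : T ⟶ M₂, g' ≫ e'.hom = g := ⟨g ≫ e'.inv, by simp⟩
    rw [← Category.assoc m c, ← GrpObj.inv_comp _ e'.hom, ← MonObj.mul_comp _ _ e'.hom,
      ← MonObj.mul_comp _ _ e'.hom, mul_comm g', mul_inv_cancel_right]⟩
  obtain ⟨C, _, qC, hqC, hCa, hCl, hqf, hqs, hqK⟩ := GrpQ.AffQ.exists_quotient C₀ (c ≫ e'.hom) hnorm
  haveI := hqC; haveI := hCa; haveI := hCl
  obtain ⟨R, _, _, eC, heC⟩ := H1.Hopf.exists_iso C
  haveI := heC
  let π : E ⟶ GrpQ.AffQ.sp k R := r ≫ e'.hom ≫ qC ≫ eC.hom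
  have hnπ : n ≫ π = 1 := by
    simp only [π, ← Category.assoc, hnr]
    rw [← hpc, Category.assoc p c, Category.assoc p, GrpQ.kernel_comp hqK, MonObj.comp_one, MonObj.one_comp]
  haveI := CharExt76.isCocomm_of_isCommMonObj E eE
  let B := irred k A
  have hB : SGA3.IsHopfSubalgebra k A B := isHopfSubalgebra_irred
  letI : HopfAlgebra k B := SubStruct.subHopf hB
  let incl : B →ₐc[k] A := BialgHom.ofAlgHom B.val (AlgHom.ext fun _ => rfl)
    (AlgHom.ext fun b => SubStruct.map_subComul hB b)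
  obtain ⟨hif, his⟩ := GrpQ.DomFlat.flat_surjective_of_injective incl Subtype.val_injective
  haveI := hif; haveI := his
  let πU := GrpQ.AffQ.homOfBialgHom incl
  haveI : IsIso eE.hom.left := inferInstanceAs (IsIso ((Over.forget _).map eE.hom))
  haveI : Flat (eE.hom ≫ πU).left := by rw [Over.comp_left]; infer_instance
  haveI : Surjective (eE.hom ≫ πU).left := by rw [Over.comp_left]; infer_instance
  have hUcov : GrpQ.IsCover (eE.hom ≫ πU) := GrpQ.isCover_hom _
  obtain ⟨h, hh⟩ := GrpQ.exists_desc hUcov π fun Z x y hxy => by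
    obtain ⟨m, hm⟩ := (factor_iff E eE M n hM hnmax (x⁻¹ * y)).2 fun a ha => by
      have h1 : (x⁻¹ * y) ≫ eE.hom ≫ πU = 1 := by
        rw [MonObj.mul_comp _ _ (eE.hom ≫ πU), GrpObj.inv_comp _ (eE.hom ≫ πU), hxy, inv_mul_cancel]
      have h2 := congrArg (fun z => algHomOf z (⟨a, ha⟩ : B)) h1
      rw [← Category.assoc, GrpQ.AffQ.algHomOf_comp _ πU (incl : B →ₐ[k] A) rfl, algHomOf_one] at h2
      exact h2
    have h3 : (x⁻¹ * y) ≫ π = 1 := by rw [← hm, Category.assoc, hnπ, MonObj.comp_one]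
    rw [MonObj.mul_comp _ _ π, GrpObj.inv_comp _ π, inv_mul_eq_one] at h3
    exact h3
  haveI : IsMonHom ((eE.hom ≫ πU) ≫ h) := by rw [hh]; infer_instance
  haveI : IsMonHom h := GrpQ.isMonHom_of_cover hUcov h
  obtain ⟨η', hη'⟩ := GrpQ.DomFlat.exists_bialgHom h
  obtain ⟨χ, hχ⟩ := GrpQ.DomFlat.exists_bialgHom (eE.inv ≫ r ≫ e'.hom)
  obtain ⟨φC, hφC⟩ := GrpQ.DomFlat.exists_bialgHom (qC ≫ eC.hom)
  have hχi : Function.Injective χ := by
    haveI : IsIso eE.inv.left := inferInstanceAs (IsIso ((Over.forget _).map eE.inv))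
    have hf : Flat (Spec.map (CommRingCat.ofHom (χ : A' →+* A))) := by
      rw [← GrpQ.AffQ.homOfBialgHom_left, hχ, Over.comp_left, Over.comp_left]; infer_instance
    have hs : Surjective (Spec.map (CommRingCat.ofHom (χ : A' →+* A))) := by
      rw [← GrpQ.AffQ.homOfBialgHom_left, hχ, Over.comp_left, Over.comp_left]; infer_instance
    have hff : (χ : A' →+* A).FaithfullyFlat := RingHom.FaithfullyFlat.iff_flat_and_comap_surjective.2
      ⟨(HasRingHomProperty.Spec_iff (P := @Flat)).1 hf, hs.surj⟩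
    exact hff.injective
  haveI : IsMonHom e'.symm.hom := inferInstanceAs (IsMonHom e'.inv)
  have hA' : SGA3b.IsMultTypeConst k A' := isMultTypeConst_of_multTypeFT hM₂ (Grp.mkIso' e'.symm)
  have hscal : ∀ c₁ : R, φC c₁ = algebraMap k A' (CoalgebraStruct.counit (R := k) c₁) := fun c₁ => by
    have e1 : GrpQ.AffQ.homOfBialgHom χ ≫ GrpQ.AffQ.homOfBialgHom φC = πU ≫ GrpQ.AffQ.homOfBialgHom η' := by
      rw [hχ, hφC, hη', ← cancel_epi eE.hom, ← Category.assoc eE.hom πU h, hh]
      simp [π]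
    have e2 : algHomOf (GrpQ.AffQ.homOfBialgHom χ ≫ GrpQ.AffQ.homOfBialgHom φC) c₁ =
        algHomOf (πU ≫ GrpQ.AffQ.homOfBialgHom η') c₁ := by rw [e1]
    rw [← Category.id_comp (GrpQ.AffQ.homOfBialgHom χ), Category.assoc,
      ← Category.assoc (𝟙 _), GrpQ.AffQ.algHomOf_comp _ (GrpQ.AffQ.homOfBialgHom φC) (φC : R →ₐ[k] A') rfl,
      GrpQ.AffQ.algHomOf_comp _ (GrpQ.AffQ.homOfBialgHom χ) (χ : A' →ₐ[k] A) rfl,
      ← Category.id_comp πU, GrpQ.AffQ.algHomOf_comp _ (GrpQ.AffQ.homOfBialgHom η') (η' : R →ₐ[k] B) rfl,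
      GrpQ.AffQ.algHomOf_comp _ πU (incl : B →ₐ[k] A) rfl] at e2
    have e3 : χ (φC c₁) = incl (η' c₁) := by
      have hinj : Function.Injective (algHomOf (𝟙 (GrpQ.AffQ.sp k A))) :=
        (ConcreteCategory.bijective_of_isIso (Scheme.ΓSpecIso (CommRingCat.of A)).inv).1
      exact hinj e2
    have e4 : φC c₁ ∈ irred k A' := mem_irred_of_injective χ hχi (by rw [e3]; exact (η' c₁).2)
    have e5 := map_irred (BialgHom.id k A') hA' e4
    rw [CoalgHomClass.counit_comp_apply φC c₁] at e5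
    exact e5
  have hqC1 : qC ≫ eC.hom = 1 := by
    refine algHomOf_injective (AlgHom.ext fun c₁ => ?_)
    rw [← Category.id_comp (qC ≫ eC.hom), GrpQ.AffQ.algHomOf_comp _ (qC ≫ eC.hom) (φC : R →ₐ[k] A')
      (by rw [← hφC]; rfl), algHomOf_one, show (φC : R →ₐ[k] A') c₁ = φC c₁ from rfl, hscal, AlgHom.commutes]
  have hqC2 : qC = 1 := by
    rw [← Category.comp_id qC, ← eC.hom_inv_id, ← Category.assoc, hqC1, MonObj.one_comp]
  obtain ⟨s, hs⟩ := (GrpQ.mem_kernel hqK e'.hom).2 (by rw [hqC2, MonObj.comp_one])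
  have hsc : s ≫ c = 𝟙 M₂ := by rw [← cancel_mono e'.hom, Category.assoc, hs, Category.id_comp]
  haveI : IsIso c := ⟨s, by rw [← cancel_mono c, Category.assoc, hsc, Category.comp_id, Category.id_comp], hsc⟩
  haveI : IsIso c.left := inferInstanceAs (IsIso ((Over.forget _).map c))
  refine ⟨u, v, hu, hv, inferInstance, ?_, ?_, hK⟩
  · rw [← hpc, Over.comp_left]; infer_instance
  · rw [← hpc, Over.comp_left]; infer_instance

end Groth.Agent.S19472
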