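import Groth.Statements.S19475
import Mathlib.RingTheory.AdicCompletion.LocalRing
import Mathlib.RingTheory.LocalRing.ResidueField.Basic

set_option autoImplicit false
universe u
open CAlg

namespace Groth.Agent.S19475

open IsLocalRing in
/-- Let A be a Noetherian ring, B an A-algebra, q a prime ideal of B and p its preimage in A; let A_p
and B_q be the local rings at p and q and Â_p the completion of A_p at its maximal ideal pA_p. Then
the ideal generated by qB_q in B_q ⊗ Â_p is maximal. (The tensor product is formed over A; since A_p
is a localization of A it agrees with the tensor product over A_p used in the published statement.) -/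
theorem result (A B : Type u) [CommRing A] [CommRing B]
    [Algebra A B] [IsNoetherianRing A] (q : Ideal B) [q.IsPrime] :
    ((maximalIdeal (Localization.AtPrime q)).map
      (Algebra.TensorProduct.includeLeftRingHom :
        Localization.AtPrime q →+* TensorProduct A (Localization.AtPrime q)
          (AdicCompletion (maximalIdeal (Localization.AtPrime (q.under A)))
            (Localization.AtPrime (q.under A))))).IsMaximal := by
  set p := q.under A with hp
  set Bq := Localization.AtPrime q
  set Ap := Localization.AtPrime p
  set Ah := AdicCompletion (maximalIdeal Ap) Ap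
  set T := TensorProduct A Bq Ah
  set J := (maximalIdeal Bq).map (Algebra.TensorProduct.includeLeftRingHom : Bq →+* T) with hJ
  have hcomap : p = q.comap (algebraMap A B) := rfl
  let loc : Ap →ₐ[A] Bq :=
    { Localization.localRingHom p q (algebraMap A B) hcomap with
      commutes' := fun a => by
        refine (Localization.localRingHom_to_map p q (algebraMap A B) hcomap a).trans ?_
        exact (IsScalarTower.algebraMap_apply A B Bq a).symm }
  have : IsLocalHom loc.toRingHom := Localization.isLocalHom_localRingHom p q (algebraMap A B) hcomap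
  let g : Bq →+* T ⧸ J := (Ideal.Quotient.mk J).comp Algebra.TensorProduct.includeLeftRingHom
  have hgker : maximalIdeal Bq ≤ RingHom.ker g := fun x hx => by
    rw [RingHom.mem_ker]
    exact Ideal.Quotient.eq_zero_iff_mem.mpr (Ideal.mem_map_of_mem _ hx)
  let u : Ah →ₐ[A] T := Algebra.TensorProduct.includeRight
  let uq : Ah →ₐ[A] T ⧸ J := (Ideal.Quotient.mkₐ A J).comp u
  have huloc : ∀ r : Ap, uq (algebraMap Ap Ah r) = g (loc r) := by
    let f₁ : Ap →ₐ[A] T ⧸ J := uq.comp (IsScalarTower.toAlgHom A Ap Ah)
    let f₂ : Ap →ₐ[A] T ⧸ J :=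
      ((Ideal.Quotient.mkₐ A J).comp Algebra.TensorProduct.includeLeft).comp loc
    have : f₁ = f₂ := IsLocalization.algHom_ext p.primeCompl (by ext)
    exact fun r => DFunLike.congr_fun this r
  have hpz : (maximalIdeal Ah).map uq.toRingHom ≤ ⊥ := by
    rw [AdicCompletion.maximalIdeal_eq_map, Ideal.map_map, Ideal.map_le_iff_le_comap]
    intro r hr
    change uq (algebraMap Ap Ah r) ∈ (⊥ : Ideal (T ⧸ J))
    rw [huloc, Ideal.mem_bot]
    exact RingHom.mem_ker.mp (hgker (_root_.map_nonunit loc.toRingHom r hr))
  have hu : ∀ a : Ah, uq a ∈ g.range := by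
    intro a
    obtain ⟨r, hr⟩ := (AdicCompletion.residueField_map_bijective Ap).2 (residue Ah a)
    obtain ⟨r, rfl⟩ := residue_surjective r
    rw [ResidueField.map_residue] at hr
    have hm : algebraMap Ap Ah r - a ∈ maximalIdeal Ah := (Ideal.Quotient.mk_eq_mk_iff_sub_mem _ _).mp hr
    have h0 : uq (algebraMap Ap Ah r - a) = 0 := Ideal.mem_bot.mp (hpz (Ideal.mem_map_of_mem _ hm))
    rw [map_sub, sub_eq_zero, huloc] at h0
    exact ⟨loc r, h0⟩
  have hsurj : Function.Surjective g := by
    intro x
    obtain ⟨x, rfl⟩ := Ideal.Quotient.mk_surjective x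
    induction x using TensorProduct.induction_on with
    | zero => exact ⟨0, by simp⟩
    | tmul b a =>
      obtain ⟨c, hc⟩ := hu a
      refine ⟨b * c, ?_⟩
      rw [map_mul, hc]
      show Ideal.Quotient.mk J (b ⊗ₜ 1) * Ideal.Quotient.mk J (1 ⊗ₜ a) = _
      rw [← map_mul, Algebra.TensorProduct.tmul_mul_tmul, mul_one, one_mul]
    | add x y hx hy =>
      obtain ⟨c, hc⟩ := hx
      obtain ⟨d, hd⟩ := hy
      exact ⟨c + d, by rw [map_add, map_add, hc, hd]⟩
  have hne : J ≠ ⊤ := by
    let l : Ah →ₐ[A] ResidueField Bq :=
      { (ResidueField.map loc.toRingHom).comp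
          ((RingEquiv.ofBijective _ (AdicCompletion.residueField_map_bijective Ap)).symm.toRingHom.comp (residue Ah)) with
        commutes' := fun a => by
          show ResidueField.map loc.toRingHom ((RingEquiv.ofBijective _ (AdicCompletion.residueField_map_bijective Ap)).symm (residue Ah (algebraMap A Ah a))) = _
          rw [IsScalarTower.algebraMap_apply A Ap Ah, ← ResidueField.map_residue]
          change ResidueField.map loc.toRingHom ((RingEquiv.ofBijective (ResidueField.map (algebraMap Ap Ah)) (AdicCompletion.residueField_map_bijective Ap)).symm ((RingEquiv.ofBijective (ResidueField.map (algebraMap Ap Ah)) (AdicCompletion.residueField_map_bijective Ap)) (residue Ap (algebraMap A Ap a)))) = _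
          rw [RingEquiv.symm_apply_apply, ResidueField.map_residue]
          show residue Bq (loc (algebraMap A Ap a)) = _
          rw [AlgHom.commutes]
          rfl }
    let h : T →ₐ[A] ResidueField Bq :=
      Algebra.TensorProduct.lift (IsScalarTower.toAlgHom A Bq (ResidueField Bq)) l (fun _ _ => Commute.all _ _)
    intro htop
    have hle : J ≤ RingHom.ker h.toRingHom := by
      rw [hJ, Ideal.map_le_iff_le_comap]
      intro x hx
      rw [Ideal.mem_comap, RingHom.mem_ker]
      show h (x ⊗ₜ 1) = 0
      rw [Algebra.TensorProduct.lift_tmul, map_one, mul_one]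
      exact (residue_eq_zero_iff x).mpr hx
    exact RingHom.ker_ne_top h.toRingHom (top_le_iff.mp (htop ▸ hle))
  have : Nontrivial (T ⧸ J) := Ideal.Quotient.nontrivial_iff.mpr hne
  have hker : RingHom.ker g = maximalIdeal Bq :=
    ((maximalIdeal.isMaximal Bq).eq_of_le (RingHom.ker_ne_top g) hgker).symm
  have : (RingHom.ker g).IsMaximal := hker ▸ maximalIdeal.isMaximal Bq
  exact Ideal.Quotient.maximal_of_isField J ((RingHom.quotientKerEquivOfSurjective hsurj).symm.toMulEquiv.isField
    ((Ideal.Quotient.maximal_ideal_iff_isField_quotient _).mp this) )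

end Groth.Agent.S19475
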