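import Groth.Statements.S19477
import Mathlib
import Groth.Agent.S6333

set_option autoImplicit false
universe u
open Variety

namespace Groth.Agent.S19477

open scoped TensorProduct in
theorem key {K F L Ω : Type u} [Field K] [Field F] [Field L] [Field Ω] [Algebra K F] [Algebra K L] [Algebra K Ω]
    [Algebra F Ω] [IsScalarTower K F Ω] [IsGalois K L] [IsAlgClosed Ω]
    (Φ : F ⊗[K] L →ₐ[F] Ω) (σ : L →ₐ[K] Ω) (hσ : ∀ l, Φ (1 ⊗ₜ[K] l) = σ l) (τ : L ≃ₐ[K] L)
    (hτ : ∀ m : L, (∃ f : F, algebraMap F Ω f = σ m) → τ m = m)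
    (y : F ⊗[K] L) (hy : Φ y = 0) :
    Φ (Algebra.TensorProduct.map (AlgHom.id K F) (τ : L →ₐ[K] L) y) = 0 := by
  classical
  obtain ⟨S, hS⟩ := TensorProduct.exists_finset y
  let E := IntermediateField.adjoin K ((S.image Prod.snd : Finset L) : Set L)
  haveI : FiniteDimensional K E :=
    IntermediateField.finiteDimensional_adjoin fun x _ => Algebra.IsIntegral.isIntegral x
  obtain ⟨α, hα⟩ := Field.exists_primitive_element K E
  have hp : ∀ z : E, ∃ p : Polynomial K, Polynomial.aeval (α : L) p = (z : L) := by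
    intro z
    have hz : z ∈ (IntermediateField.adjoin K {α}).toSubalgebra := by rw [hα]; trivial
    rw [IntermediateField.adjoin_simple_toSubalgebra_of_isAlgebraic (Algebra.IsAlgebraic.isAlgebraic α),
      Algebra.adjoin_singleton_eq_range_aeval] at hz
    obtain ⟨p, hp⟩ := hz
    exact ⟨p, (Polynomial.aeval_algHom_apply E.val α p).trans (congrArg E.val hp)⟩
  choose p hp using hp
  have hmem : ∀ j : S, (j : F × L).2 ∈ E := fun j =>
    IntermediateField.subset_adjoin K _ (Finset.mem_coe.mpr (Finset.mem_image_of_mem _ j.2))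
  let G : Polynomial F := ∑ j : S, Polynomial.C (j : F × L).1 * (p ⟨_, hmem j⟩).map (algebraMap K F)
  have hG : ∀ ρ : L →ₐ[K] L, Φ (Algebra.TensorProduct.map (AlgHom.id K F) ρ y) = Polynomial.aeval (σ (ρ (α : L))) G := by
    intro ρ
    rw [hS, ← Finset.sum_coe_sort, map_sum, map_sum, map_sum]
    refine Finset.sum_congr rfl fun j _ => ?_
    rw [map_mul, Polynomial.aeval_C, Polynomial.aeval_map_algebraMap, Polynomial.aeval_algHom_apply,
      Polynomial.aeval_algHom_apply, hp]
    rw [Algebra.TensorProduct.map_tmul, AlgHom.id_apply, ← hσ,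
      show ((j : F × L).1 ⊗ₜ[K] ρ (j : F × L).2 : F ⊗[K] L) = algebraMap F _ (j : F × L).1 * (1 ⊗ₜ[K] ρ (j : F × L).2) by
        rw [Algebra.TensorProduct.algebraMap_apply, Algebra.algebraMap_self, RingHom.id_apply,
          Algebra.TensorProduct.tmul_mul_tmul, mul_one, one_mul],
      map_mul, AlgHom.commutes]
  have h0 : Polynomial.aeval (σ (α : L)) G = 0 := by
    have := hG (AlgHom.id K L)
    rw [Algebra.TensorProduct.map_id, AlgHom.id_apply, AlgHom.id_apply, hy] at this
    exact this.symm
  rw [hG (τ : L →ₐ[K] L)]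
  obtain ⟨G', hG'⟩ := minpoly.dvd F _ h0
  rw [hG', map_mul]
  refine mul_eq_zero_of_left ?_ _
  set Q := minpoly F (σ (α : L)) with hQ
  have hint : IsIntegral F (σ (α : L)) :=
    ((Algebra.IsIntegral.isIntegral (R := K) (α : L)).map σ).tower_top
  have hspl : (Q.map (algebraMap F Ω)).Splits := IsAlgClosed.splits _
  have hroots : ∀ r ∈ (Q.map (algebraMap F Ω)).roots, r ∈ Set.range σ := by
    intro r hr
    rw [Polynomial.mem_roots', Polynomial.IsRoot.def, Polynomial.eval_map, ← Polynomial.aeval_def] at hr
    have hdvd : Q ∣ (minpoly K (α : L)).map (algebraMap K F) := by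
      refine minpoly.dvd F _ ?_
      rw [Polynomial.aeval_map_algebraMap, Polynomial.aeval_algHom_apply, minpoly.aeval, map_zero]
    obtain ⟨c, hc⟩ := hdvd
    have h1 : Polynomial.aeval r (minpoly K (α : L)) = 0 := by
      rw [← Polynomial.aeval_map_algebraMap F, hc, map_mul, hr.2, zero_mul]
    have h2 := Normal.splits (F := K) (K := L) inferInstance (α : L)
    have h3 : r ∈ ((minpoly K (α : L)).map (algebraMap K Ω)).roots := by
      rw [Polynomial.mem_roots', Polynomial.IsRoot.def, Polynomial.eval_map, ← Polynomial.aeval_def]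
      exact ⟨Polynomial.map_ne_zero (minpoly.ne_zero (Algebra.IsIntegral.isIntegral _)), h1⟩
    rw [← σ.comp_algebraMap, ← Polynomial.map_map, Polynomial.Splits.roots_map h2] at h3
    obtain ⟨l, -, hl⟩ := Multiset.mem_map.mp h3
    exact ⟨l, hl⟩
  obtain ⟨R, hR⟩ : ∃ R : Multiset L, R.map σ = (Q.map (algebraMap F Ω)).roots := by
    generalize (Q.map (algebraMap F Ω)).roots = T at hroots
    induction T using Multiset.induction_on with
    | empty => exact ⟨0, rfl⟩
    | cons a T ih =>
      obtain ⟨l, hl⟩ := hroots a (Multiset.mem_cons_self a T)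
      obtain ⟨R, hR⟩ := ih fun r hr => hroots r (Multiset.mem_cons_of_mem hr)
      exact ⟨l ::ₘ R, by rw [Multiset.map_cons, hl, hR]⟩
  set q : Polynomial L := (R.map fun r => Polynomial.X - Polynomial.C r).prod with hq
  have hqQ : q.map (σ : L →+* Ω) = Q.map (algebraMap F Ω) := by
    conv_rhs => rw [Polynomial.Splits.eq_prod_roots_of_monic hspl ((minpoly.monic hint).map _), ← hR]
    rw [hq, Polynomial.map_multiset_prod, Multiset.map_map, Multiset.map_map]
    congr 1
    refine Multiset.map_congr rfl fun r _ => ?_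
    simp
  have hfix : q.map (τ : L →+* L) = q := by
    refine Polynomial.ext fun i => ?_
    rw [Polynomial.coeff_map]
    refine hτ _ ⟨Q.coeff i, ?_⟩
    have := congrArg (fun g => Polynomial.coeff g i) hqQ
    simp only [Polynomial.coeff_map] at this
    exact this.symm
  have hev : ∀ l : L, σ (q.eval l) = Polynomial.aeval (σ l) Q := fun l => by
    rw [Polynomial.aeval_def, ← Polynomial.eval_map, ← hqQ, Polynomial.eval_map]
    exact Polynomial.hom_eval₂ q (RingHom.id L) (σ : L →+* Ω) l
  have hqa : q.eval (α : L) = 0 := σ.toRingHom.injective (show σ (q.eval (α : L)) = σ 0 by rw [hev, minpoly.aeval, map_zero])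
  show Polynomial.aeval (σ (τ (α : L))) Q = 0
  rw [← hev, ← hfix, Polynomial.eval_map]
  show σ (Polynomial.eval₂ (τ : L →+* L) ((τ : L →+* L) (α : L)) q) = 0
  rw [Polynomial.eval₂_hom, hqa, map_zero, map_zero]

open scoped TensorProduct in
theorem main (K F L : Type u) [Field K] [Field F] [Field L] [Algebra K F] [Algebra K L] [IsGalois K L]
    [Algebra.EssFiniteType K F] :
    Finite (PrimeSpectrum (TensorProduct K F L)) ∧
      ∀ P Q : PrimeSpectrum (TensorProduct K F L), ∃ γ : L ≃ₐ[K] L,
        Q.asIdeal = P.asIdeal.comap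
          (Algebra.TensorProduct.map (AlgHom.id K F) (γ : L →ₐ[K] L)) := by
  classical
  let Ω := AlgebraicClosure F
  let R := TensorProduct K F L
  have hΦ : ∀ P : PrimeSpectrum R, ∃ Φ : R →ₐ[F] Ω, ∀ x, Φ x = 0 ↔ x ∈ P.asIdeal := by
    intro P
    haveI : Algebra.IsIntegral F (R ⧸ P.asIdeal) :=
      Algebra.IsIntegral.of_surjective (Ideal.Quotient.mkₐ F P.asIdeal) Ideal.Quotient.mk_surjective
    haveI : Algebra.IsAlgebraic F (R ⧸ P.asIdeal) := Algebra.IsIntegral.isAlgebraic
    let ψ : (R ⧸ P.asIdeal) →ₐ[F] Ω := IsAlgClosed.lift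
    have hfield : IsField (R ⧸ P.asIdeal) :=
      isField_of_isIntegral_of_isField' (Field.toIsField F)
    refine ⟨ψ.comp (Ideal.Quotient.mkₐ F P.asIdeal), fun x => ?_⟩
    letI := hfield.toField
    rw [AlgHom.comp_apply, map_eq_zero_iff ψ ψ.toRingHom.injective]
    exact Ideal.Quotient.eq_zero_iff_mem
  choose Φ hker using hΦ
  let σ : PrimeSpectrum R → L →ₐ[K] Ω := fun P => ((Φ P).restrictScalars K).comp Algebra.TensorProduct.includeRight
  have hγ : ∀ P Q : PrimeSpectrum R, ∃ γ : L ≃ₐ[K] L,
      Q.asIdeal = P.asIdeal.comap (Algebra.TensorProduct.map (AlgHom.id K F) (γ : L →ₐ[K] L)) := by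
    intro P Q
    letI : Algebra L Ω := (σ P).toRingHom.toAlgebra
    haveI : IsScalarTower K L Ω := IsScalarTower.of_algebraMap_eq fun r => ((σ P).commutes r).symm
    let γ : L →ₐ[K] L := (σ Q).restrictNormal L
    have hc : ∀ l, σ P (γ l) = σ Q l := fun l => (σ Q).restrictNormal_commutes L l
    refine ⟨AlgEquiv.ofBijective γ (Algebra.IsAlgebraic.algHom_bijective γ), ?_⟩
    have e : ∀ x, Φ P (Algebra.TensorProduct.map (AlgHom.id K F) γ x) = Φ Q x := by
      intro x
      induction x using TensorProduct.induction_on with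
      | zero => rw [map_zero, map_zero, map_zero]
      | add a b ha hb => rw [map_add, map_add, map_add, ha, hb]
      | tmul f l =>
        have e1 : ∀ (P' : PrimeSpectrum R) (l' : L), Φ P' (f ⊗ₜ[K] l') = algebraMap F Ω f * σ P' l' := fun P' l' => by
          show _ = _ * Φ P' ((1 : F) ⊗ₜ[K] l')
          rw [← AlgHom.commutes (Φ P'), ← map_mul, Algebra.TensorProduct.algebraMap_apply,
            Algebra.TensorProduct.tmul_mul_tmul, Algebra.algebraMap_self, RingHom.id_apply, mul_one, one_mul]
        rw [Algebra.TensorProduct.map_tmul, AlgHom.id_apply, e1, e1, hc]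
    ext x
    rw [Ideal.mem_comap, ← hker P, ← hker Q, ← e x]
    rfl
  refine ⟨?_, hγ⟩
  rcases isEmpty_or_nonempty (PrimeSpectrum R) with hE | ⟨⟨P₀⟩⟩
  · exact Finite.of_subsingleton
  choose γ hγ using hγ P₀
  let F' : IntermediateField K Ω := (IsScalarTower.toAlgHom K F Ω).fieldRange
  let M : IntermediateField K L := F'.comap (σ P₀)
  haveI : FiniteDimensional K (algebraicClosure K F) := Groth.Agent.S6333.result (IntermediateField.fg_top K F)
  haveI : FiniteDimensional K M := by
    let j : M →ₐ[K] F := ((AlgEquiv.ofInjectiveField (IsScalarTower.toAlgHom K F Ω)).symm : _ →ₐ[K] F).comp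
      (((σ P₀).comp M.val).codRestrict (IsScalarTower.toAlgHom K F Ω).range fun m => m.2)
    have hj : ∀ m : M, j m ∈ algebraicClosure K F := fun m =>
      mem_algebraicClosure_iff.mpr ((Algebra.IsAlgebraic.isAlgebraic (R := K) m).algHom j)
    exact FiniteDimensional.of_injective (j.codRestrict (algebraicClosure K F).toSubalgebra hj).toLinearMap
      fun a b h => j.toRingHom.injective (congrArg Subtype.val h)
  refine Finite.of_injective (fun P : PrimeSpectrum R => ((γ P).symm : L →ₐ[K] L).comp M.val) fun P Q h => ?_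
  have hsub : ∀ P Q : PrimeSpectrum R, ((γ P).symm : L →ₐ[K] L).comp M.val = ((γ Q).symm : L →ₐ[K] L).comp M.val →
      P.asIdeal ≤ Q.asIdeal := by
    intro P Q h x hx
    rw [hγ P, Ideal.mem_comap, ← hker P₀] at hx
    rw [hγ Q, Ideal.mem_comap, ← hker P₀]
    have := key (Φ P₀) (σ P₀) (fun l => rfl) ((γ P).symm.trans (γ Q)) (fun m hm => by
      obtain ⟨f, hf⟩ := hm
      have h1 := AlgHom.congr_fun h ⟨m, ⟨f, hf⟩⟩
      show (γ Q) ((γ P).symm m) = m
      simp only [AlgHom.comp_apply, IntermediateField.coe_val, AlgEquiv.coe_toAlgHom] at h1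
      rw [h1, AlgEquiv.apply_symm_apply]) _ hx
    rw [← AlgHom.comp_apply, ← Algebra.TensorProduct.map_comp, AlgHom.comp_id] at this
    convert this using 4
    refine AlgHom.ext fun l => ?_
    simp
  exact PrimeSpectrum.ext (le_antisymm (hsub P Q h) (hsub Q P h.symm))


/-- Let K be a field, B an integral K-algebra of finite type with fraction field F, and L a Galois
extension of K with group Γ = Aut_K(L). Then F ⊗_K L has only finitely many prime ideals and Γ,
acting through the second factor, permutes them transitively: for prime ideals P, Q there is γ ∈ Γ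
with Q the preimage of P under id ⊗ γ. (The published statement is the geometric one, that the
points of an algebraic K-scheme X correspond to the Γ-orbits of points of X_L and that these orbits
are finite; it reduces to this algebraic statement by passing to the fibre over a point, and the
algebraic statement is what is proved.) -/
theorem result (K B L : Type u) [Field K]
    [CommRing B] [IsDomain B] [Algebra K B] [Algebra.FiniteType K B] [Field L] [Algebra K L] [IsGalois K L] :
    Finite (PrimeSpectrum (TensorProduct K (FractionRing B) L)) ∧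
      ∀ P Q : PrimeSpectrum (TensorProduct K (FractionRing B) L), ∃ γ : L ≃ₐ[K] L,
        Q.asIdeal = P.asIdeal.comap
          (Algebra.TensorProduct.map (AlgHom.id K (FractionRing B)) (γ : L →ₐ[K] L)) := by
  haveI : Algebra.EssFiniteType B (FractionRing B) :=
    Algebra.EssFiniteType.of_isLocalization _ (nonZeroDivisors B)
  haveI : Algebra.EssFiniteType K (FractionRing B) := Algebra.EssFiniteType.comp K B _
  exact main K (FractionRing B) L

end Groth.Agent.S19477
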