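import Groth.Statements.S19478
import Groth.Agent.Lib.H15.PointDual.AV
-- import your own Groth.Agent.* helpers here

set_option autoImplicit false
universe u
open CategoryTheory CategoryTheory.Limits MonoidalCategory CartesianMonoidalCategory MonObj GrpObj AlgebraicGeometry
attribute [local instance] HasDerivedCategory.standard
open AbVar

namespace Groth.Agent.S19478

/-- Let k be an algebraically closed field of characteristic zero and A an abelian variety over k (a
proper smooth k-group scheme with geometrically connected fibres) of dimension g, with unit section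
e : Spec k → A, and let k(0) = e_*O_{Spec k} be the skyscraper sheaf at the unit point. Regard k(0)
as a complex in degree 0 and form RHom(k(0), O_A) in the derived category of O_A-modules (the
derived functors involved are assumed to exist); its cohomology sheaves are the sheaves Ext^p(k(0),
O_A). Then Ext^p(k(0), O_A) = 0 for every natural number p < g, and Ext^g(k(0), O_A) is isomorphic
to k(0) (existence of an isomorphism). -/
theorem result (k : Type u) [Field k] [IsAlgClosed k] [CharZero k]
    (A : Over (Spec (CommRingCat.of k))) [GrpObj A] [IsProper A.hom] [Smooth A.hom] [GeometricallyConnected A.hom]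
    (g : ℕ) (hg : topologicalKrullDim ↥A.left = g)
    [DCoh.HasLTensorCx ((HomologicalComplex.single A.left.Modules (ComplexShape.up ℤ) 0).obj ((Scheme.Modules.pushforward η[A].left).obj (Coh.structureModule (Spec (CommRingCat.of k)))))] [DCoh.HasRSheafHom ((HomologicalComplex.single A.left.Modules (ComplexShape.up ℤ) 0).obj ((Scheme.Modules.pushforward η[A].left).obj (Coh.structureModule (Spec (CommRingCat.of k)))))] :
    (∀ p : ℕ, p < g → IsZero (DCoh.HD ((DCoh.RSheafHom ((HomologicalComplex.single A.left.Modules (ComplexShape.up ℤ) 0).obj ((Scheme.Modules.pushforward η[A].left).obj (Coh.structureModule (Spec (CommRingCat.of k)))))).obj (DCoh.inD A.left (Coh.structureModule A.left))) (p : ℤ))) ∧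
      Nonempty ((DCoh.HD ((DCoh.RSheafHom ((HomologicalComplex.single A.left.Modules (ComplexShape.up ℤ) 0).obj ((Scheme.Modules.pushforward η[A].left).obj (Coh.structureModule (Spec (CommRingCat.of k)))))).obj (DCoh.inD A.left (Coh.structureModule A.left))) (g : ℤ)) ≅ ((Scheme.Modules.pushforward η[A].left).obj (Coh.structureModule (Spec (CommRingCat.of k))))) := by
  obtain ⟨hN, hreg, hci, hd⟩ := Lib.H15.PointDual.AV.facts A g hg
  haveI : IsNoetherian A.left := hN
  let i : Spec (CommRingCat.of k) ⟶ A.left := η[A].left
  haveI : IsClosedImmersion i := hci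
  obtain ⟨r⟩ := Groth.Agent.H83.Duality.nonempty_res (X := A.left)
  obtain ⟨hz, ⟨eg⟩⟩ := Lib.H15.PointDual.main i g hd hreg r
  let E := (HomologicalComplex.single A.left.Modules (ComplexShape.up ℤ) 0).obj
    ((Scheme.Modules.pushforward i).obj (Coh.structureModule (Spec (CommRingCat.of k))))
  obtain ⟨ε⟩ := Lib.H15.PointDual.nonempty_dual_iso r E
  let eV := ((Groth.Agent.H83.Duality.dual r).mapIso
    ((DerivedCategory.singleFunctorIsoCompQ A.left.Modules 0).app
      ((Scheme.Modules.pushforward i).obj (Coh.structureModule _))).symm.op ≪≫ ε)
  refine ⟨fun p hp => ?_, ⟨(DerivedCategory.homologyFunctor _ (g : ℤ)).mapIso eV.symm ≪≫ eg⟩⟩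
  exact (hz p (by omega)).of_iso ((DerivedCategory.homologyFunctor _ (p : ℤ)).mapIso eV.symm)

end Groth.Agent.S19478
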