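import Groth.Statements.S19479
import Groth.Agent.H66.DualMod
-- import your own Groth.Agent.* helpers here

set_option autoImplicit false
universe u v w
open HopfRep

namespace Groth.Agent.S19479
open TensorProduct Groth.Agent.Lib.Comod.Basic Groth.Agent.H66.DualMod
set_option linter.style.haveILetI false

open TensorProduct in
/-- Let K be a field, C a K-coalgebra and V a right C-comodule. The following are equivalent: (i) V is
the internal direct sum of a family of simple subcomodules, i.e. there is an independent family of
subcomodules W_i with sum V, each W_i nonzero and having no subcomodules inside it other than 0 and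
W_i; (ii) every subcomodule of V has a complementary subcomodule. A subcomodule is a subspace W
whose coaction lands in the image of W ⊗ C. (The source states this for left comodules; a left
comodule over C is a right comodule over the co-opposite coalgebra, so the statement is the same.) -/
theorem result {K : Type u} {C : Type v} [Field K]
    [AddCommGroup C] [Module K C] [Coalgebra K C] (V : Type w) [AddCommGroup V] [Module K V] [HopfRep.Comod K C V] :
    (∃ (ι : Type w) (W : ι → Submodule K V), iSupIndep W ∧ iSup W = ⊤ ∧ ∀ i,
        HopfRep.IsSubcomod (k := K) (A := C) (W i) ∧ W i ≠ ⊥ ∧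
          ∀ W' : Submodule K V, HopfRep.IsSubcomod (k := K) (A := C) W' → W' ≤ W i → W' = ⊥ ∨ W' = W i) ↔
      HopfRep.IsSemisimpleComod K C V := by
  letI := module K C V
  rw [isSemisimpleComod_iff]
  constructor
  · rintro ⟨ι, W, -, htop, hW⟩
    refine isSemisimpleModule_of_isSemisimpleModule_submodule'
      (p := fun i => toSub (W i) (hW i).1) (fun i => ?_) ?_
    · haveI : IsSimpleModule (CDual K C) (toSub (W i) (hW i).1) :=
        (isSimpleModule_iff_of_sub _).2 (hW i).2
      infer_instance
    · refine ofSub_inj ?_
      rw [ofSub_iSup]
      exact htop
  · intro h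
    obtain ⟨s, hs, htop, hsimp⟩ := IsSemisimpleModule.exists_sSupIndep_sSup_simples_eq_top (CDual K C) V
    refine ⟨s, fun N => ofSub N.1, fun i => ?_, ?_, fun N => ⟨isSubcomod_ofSub _, (isSimpleModule_iff_of_sub _).1 (hsimp _ N.2)⟩⟩
    · have h1 := ((sSupIndep_iff _).1 hs) i
      have h2 := (disjoint_ofSub _ _).2 h1
      simpa only [ofSub_iSup] using h2
    · rw [← ofSub_iSup, ← sSup_eq_iSup', htop, ofSub_top]

end Groth.Agent.S19479
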