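import Groth.Statements.S19483
import Groth.Agent.H88.EtMod.DimZero
import Groth.Agent.H75.RedSub

set_option autoImplicit false
universe u
open CategoryTheory CategoryTheory.Limits AlgebraicGeometry
open Curves

namespace Groth.Agent.S19483

/-- Let k be a separably closed field and C a curve over k, that is a scheme of finite type over k of
dimension at most one (no connectedness, smoothness, separatedness or properness assumed). Let F be
a torsion abelian sheaf on the small étale site of C such that the stalk of F vanishes at every
geometric point of C lying over a generic point of an irreducible component (a point admitting no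
proper generalization). Then H^q(C_ét, F) = 0 for all q > 0. (The published statement fixes one
geometric point over each generic point; the dimension is taken at most one here, the
zero-dimensional case being immediate.) -/
theorem result
    (k : Type u) [Field k] [IsSepClosed k] (C : Scheme.{u})
    (f : C ⟶ Spec (CommRingCat.of k)) [LocallyOfFiniteType f] [QuasiCompact f]
    (hdim : topologicalKrullDim C ≤ 1) (F : EtCoh.Ab C) (hF : EtCoh.IsTorsion F)
    (hgen : ∀ (Ω : Type u) [Field Ω] [IsSepClosed Ω] (ξ : Spec (CommRingCat.of Ω) ⟶ C),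
      (∀ x ∈ Set.range ξ.base, ∀ y : C, y ⤳ x → y = x) → IsZero ((EtCoh.stalk ξ).obj F))
    (q : ℕ) (hq : 0 < q) : Subsingleton (EtCoh.H C F q) := by
  haveI : IsLocallyNoetherian C := LocallyOfFiniteType.isLocallyNoetherian f
  haveI : CompactSpace ↥C := QuasiCompact.compactSpace_of_compactSpace f
  haveI : IsNoetherian C := {}
  refine subsingleton_of_forall_eq 0 fun y => ?_
  have hG : ∀ η : C, closure {η} ∈ irreducibleComponents ↥C → η ∉ EtPBC.supp F := fun η hη => by
    refine (Groth.Agent.H88.EtMod.GenericStalk.notMem_supp_iff F η).2 fun Ω _ _ ξ hξ => hgen Ω ξ ?_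
    intro x hx y hy
    obtain rfl : x = η := Set.eq_of_mem_singleton (hξ ▸ hx)
    exact Groth.Agent.Lib.SchTopo.Closure.eq_of_specializes_of_closure_mem hη hy
  obtain ⟨Z, g, x, rfl⟩ := Groth.Agent.H88.EtMod.DimTorsion.exists_hom F hG q y
  have hdim' : topologicalKrullDim C ≤ (((0 + 1 : ℕ)) : WithBot ℕ∞) := hdim.trans (by simp)
  have hd := Groth.Agent.H88.EtMod.DivBasic.dim_le_of_no_maximal hdim'
    (Groth.Agent.H88.EtMod.DimTorsion.subι Z).base
    (Groth.Agent.H88.EtMod.DimTorsion.subι Z).isClosedEmbedding
    fun η hη => Groth.Agent.H88.EtMod.DimTorsion.range_subι Z ▸ Z.2 η hη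
  haveI : AlgebraicGeometry.IsReduced (Groth.Agent.H88.EtMod.DimTorsion.sub Z) :=
    Groth.Agent.H75.RedSub.isReduced_vanishingIdeal _
  rw [show x = 0 from @Subsingleton.elim _ (Groth.Agent.H88.EtMod.DimZero.subsingleton_H k
    (Groth.Agent.H88.EtMod.DimTorsion.sub Z) (Groth.Agent.H88.EtMod.DimTorsion.subι Z ≫ f) hd _ q hq) x 0,
    map_zero]

end Groth.Agent.S19483
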