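import Groth.Statements.S19484
import Groth.Agent.H88.EtMod.CurveGeneric

set_option autoImplicit false
universe u
open CategoryTheory CategoryTheory.Limits AlgebraicGeometry
open Curves

namespace Groth.Agent.S19484

/-- Let k be a separably closed field and C a curve over k, that is a scheme of finite type over k of
dimension at most one (no connectedness, smoothness, separatedness or properness assumed). Let φ : F
→ G be a morphism of torsion abelian sheaves on the small étale site of C which induces an
isomorphism on stalks at every geometric point of C lying over a generic point of an irreducible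
component (a point admitting no proper generalization). Then the induced map H^q(C_ét, F) →
H^q(C_ét, G) is an isomorphism for all q > 1; if moreover φ is an epimorphism, it is an isomorphism
for q = 1 as well. (The published statement fixes one geometric point over each generic point; the
dimension is taken at most one here.) -/
theorem result
    (k : Type u) [Field k] [IsSepClosed k] (C : Scheme.{u})
    (f : C ⟶ Spec (CommRingCat.of k)) [LocallyOfFiniteType f] [QuasiCompact f]
    (hdim : topologicalKrullDim C ≤ 1) (F G : EtCoh.Ab C) (hF : EtCoh.IsTorsion F) (hG : EtCoh.IsTorsion G)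
    (φ : F ⟶ G)
    (hgen : ∀ (Ω : Type u) [Field Ω] [IsSepClosed Ω] (ξ : Spec (CommRingCat.of Ω) ⟶ C),
      (∀ x ∈ Set.range ξ.base, ∀ y : C, y ⤳ x → y = x) → IsIso ((EtCoh.stalk ξ).map φ)) :
    (∀ q : ℕ, 1 < q → IsIso ((EtCoh.HF C q).map φ)) ∧ (Epi φ → IsIso ((EtCoh.HF C 1).map φ)) := by
  have hsupp : ∀ η : C, closure {η} ∈ irreducibleComponents ↥C →
      η ∉ EtPBC.supp (kernel φ) ∧ η ∉ EtPBC.supp (cokernel φ) := fun η hη =>
    Groth.Agent.H88.EtMod.CurveGeneric.notMem_supp_of_isIso φ fun Ω _ _ ξ hξ => hgen Ω ξ (by
      intro x hx y hy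
      obtain rfl : x = η := Set.eq_of_mem_singleton (hξ ▸ hx)
      exact Groth.Agent.Lib.SchTopo.Closure.eq_of_specializes_of_closure_mem hη hy)
  have hK : ∀ n, 0 < n → Subsingleton (EtCoh.H C (kernel φ) n) := fun n hn =>
    Groth.Agent.H88.EtMod.CurveGeneric.subsingleton_H f hdim _ (fun η hη => (hsupp η hη).1) n hn
  have hC : ∀ n, 0 < n → Subsingleton (EtCoh.H C (cokernel φ) n) := fun n hn =>
    Groth.Agent.H88.EtMod.CurveGeneric.subsingleton_H f hdim _ (fun η hη => (hsupp η hη).2) n hn
  constructor
  · intro q hq
    obtain ⟨m, rfl⟩ : ∃ m, q = m + 1 := ⟨q - 1, by omega⟩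
    exact (ConcreteCategory.isIso_iff_bijective _).2 (Groth.Agent.H88.EtMod.CurveGeneric.bijective_comp φ m
      (hK _ (by omega)) (hK _ (by omega)) (hC _ (by omega)) (hC _ (by omega)))
  · intro hepi
    have hC0 : Subsingleton (EtCoh.H C (cokernel φ) 0) := subsingleton_of_forall_eq 0 fun e => by
      obtain ⟨ψ, rfl⟩ := (CategoryTheory.Abelian.Ext.mk₀_bijective _ _).2 e
      rw [(isZero_cokernel_of_epi φ).eq_of_tgt ψ 0]
      exact CategoryTheory.Abelian.Ext.mk₀_zero _ _
    exact (ConcreteCategory.isIso_iff_bijective _).2 (Groth.Agent.H88.EtMod.CurveGeneric.bijective_comp φ 0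
      (hK _ (by omega)) (hK _ (by omega)) hC0 (hC _ (by omega)))

end Groth.Agent.S19484
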