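import Groth.Statements.S19488
import Groth.Agent.Lib.Cyc.Dev.Scheme

set_option autoImplicit false
universe u
open CategoryTheory CategoryTheory.Limits AlgebraicGeometry
open W4c1frobunstiva

namespace Groth.Agent.S19488

/-- Fix a closed immersion of schemes f : S → T, an O_T-module G, an O_S-module E and an epimorphism ψ :
G → f_*E. Then the morphism ψ′ : f^*G → E that corresponds to ψ under the adjunction between
pullback and pushforward (it is the pullback f^*ψ followed by the counit f^*f_*E → E, an isomorphism
for a closed immersion) is an epimorphism, and the canonical map f^*(ker ψ) → ker(f^*ψ) is an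
epimorphism. (The published statement takes G and E locally free, which these two assertions do not
use.) -/
theorem result
    {S T : Scheme.{u}} (f : S ⟶ T) [IsClosedImmersion f] (G : T.Modules) (E : S.Modules)
    (ψ : G ⟶ (Scheme.Modules.pushforward f).obj E) [Epi ψ] :
    Epi (((Scheme.Modules.pullbackPushforwardAdjunction f).homEquiv G E).symm ψ) ∧
      Epi (kernelComparison ψ (Scheme.Modules.pullback f)) := by
  have := Groth.Agent.Lib.Cyc.Dev.SchemeCase.isIso_counit f E
  refine ⟨?_, ?_⟩
  · rw [Adjunction.homEquiv_counit]
    exact CategoryTheory.epi_comp _ _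
  · let C : ShortComplex T.Modules := ShortComplex.mk (kernel.ι ψ) ψ (kernel.condition ψ)
    have hC : C.Exact := ShortComplex.exact_kernel ψ
    have : Epi C.g := ‹Epi ψ›
    have : (C.map (Scheme.Modules.pullback f)).Exact :=
      hC.map_of_epi_of_preservesCokernel _ ‹_› (by infer_instance)
    exact this.epi_kernelLift

end Groth.Agent.S19488
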