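import Groth.Statements.S19489
import Groth.Agent.Lib.PolLaw.Kernel
import Mathlib.Algebra.MvPolynomial.PDeriv
import Mathlib.RingTheory.Localization.Integer
import Mathlib.LinearAlgebra.Dimension.Finite
-- import your own Groth.Agent.* helpers here

set_option autoImplicit false
open scoped TensorProduct
open ZeroCyc

namespace Groth.Agent.S19489

/-- Let p be a prime, k = F_p(t_0, t_1, …) the field of rational functions over F_p in countably many
variables, and K = k^{1/p} = F_p(t_0^{1/p}, t_1^{1/p}, …), modelled here as a copy of k made into a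
k-algebra through the Frobenius b ↦ b ^ p (under a ↦ a ^ p the extension k ⊆ k^{1/p} becomes this
algebra). Then a ↦ a ^ p is a multiplicative polynomial law from K to k over k, homogeneous of
degree p: there is such a law sending s ⊗ a to s ^ p ⊗ a ^ p on every test algebra S, where a ^ p is
read in k. Every such law has zero kernel, so the support of the corresponding family of zero-cycles
of degree p on Spec K over Spec k is all of Spec K; and K is not finite over k. Thus the support of
a family of zero-cycles need not be finite over the base. -/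
theorem result (p : ℕ) [Fact p.Prime] :
    (∃ F : PolLaw.MulLaw (FractionRing (MvPolynomial ℕ (ZMod p))) (FrobAlg.Twist p (FractionRing (MvPolynomial ℕ (ZMod p)))) (FractionRing (MvPolynomial ℕ (ZMod p))) p,
      ∀ (S : Type) [CommSemiring S] [Algebra (FractionRing (MvPolynomial ℕ (ZMod p))) S] (s : S) (a : FrobAlg.Twist p (FractionRing (MvPolynomial ℕ (ZMod p)))),
        F.law.toFun' S (s ⊗ₜ[FractionRing (MvPolynomial ℕ (ZMod p))] a) =
          (s ^ p) ⊗ₜ[FractionRing (MvPolynomial ℕ (ZMod p))] (FrobAlg.toTwist p (FractionRing (MvPolynomial ℕ (ZMod p)))).symm a) ∧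
    (∀ F : PolLaw.MulLaw (FractionRing (MvPolynomial ℕ (ZMod p))) (FrobAlg.Twist p (FractionRing (MvPolynomial ℕ (ZMod p)))) (FractionRing (MvPolynomial ℕ (ZMod p))) p,
      (∀ (S : Type) [CommSemiring S] [Algebra (FractionRing (MvPolynomial ℕ (ZMod p))) S] (s : S) (a : FrobAlg.Twist p (FractionRing (MvPolynomial ℕ (ZMod p)))),
        F.law.toFun' S (s ⊗ₜ[FractionRing (MvPolynomial ℕ (ZMod p))] a) =
          (s ^ p) ⊗ₜ[FractionRing (MvPolynomial ℕ (ZMod p))] (FrobAlg.toTwist p (FractionRing (MvPolynomial ℕ (ZMod p)))).symm a) →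
      PolLaw.ker F.law = ⊥) ∧
    ¬ Module.Finite (FractionRing (MvPolynomial ℕ (ZMod p))) (FrobAlg.Twist p (FractionRing (MvPolynomial ℕ (ZMod p)))) := by
  classical
  let k := FractionRing (MvPolynomial ℕ (ZMod p))
  let K := FrobAlg.Twist p k
  have hp : p.Prime := Fact.out
  let ψ : K → k := (FrobAlg.toTwist p k).symm
  have hψ : ∀ (c : k) (a : K), ψ (c • a) = c ^ p * ψ a := fun c a => by
    show (FrobAlg.toTwist p k).symm (c • a) = _
    rw [Algebra.smul_def, map_mul, FrobAlg.algebraMap_twist, RingEquiv.symm_apply_apply]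
  have hadd : ∀ (S : Type) [CommSemiring S] [Algebra k S] (x y : S ⊗[k] k), (x + y) ^ p = x ^ p + y ^ p := by
    intro S _ _ x y
    obtain ⟨r, hr⟩ := exists_add_pow_prime_eq hp x y
    rw [hr, ← map_natCast (algebraMap k (S ⊗[k] k)), CharP.cast_eq_zero, map_zero, zero_mul, zero_mul, zero_mul, add_zero]
  let T : ∀ (S : Type) [CommSemiring S] [Algebra k S], (S ⊗[k] K →+ S ⊗[k] k) := fun S _ _ =>
    TensorProduct.liftAddHom
      { toFun := fun s =>
          { toFun := fun a => (s ⊗ₜ[k] (1 : k)) ^ p * ((1 : S) ⊗ₜ[k] ψ a)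
            map_zero' := by simp [ψ]
            map_add' := fun a b => by simp [ψ, TensorProduct.tmul_add, mul_add] }
        map_zero' := AddMonoidHom.ext fun a => by simp [zero_pow hp.ne_zero]
        map_add' := fun s t => AddMonoidHom.ext fun a => by
          simp only [AddMonoidHom.coe_mk, ZeroHom.coe_mk, AddMonoidHom.add_apply, TensorProduct.add_tmul, hadd, add_mul] }
      (fun c s a => by
        simp only [AddMonoidHom.coe_mk, ZeroHom.coe_mk, hψ]
        rw [Algebra.TensorProduct.tmul_pow, Algebra.TensorProduct.tmul_pow, one_pow, Algebra.TensorProduct.tmul_mul_tmul,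
          Algebra.TensorProduct.tmul_mul_tmul, one_mul, one_mul, mul_one, mul_one, smul_pow,
          TensorProduct.smul_tmul, smul_eq_mul])
  have hT : ∀ (S : Type) [CommSemiring S] [Algebra k S] (s : S) (a : K), T S (s ⊗ₜ[k] a) = (s ^ p) ⊗ₜ[k] ψ a := by
    intro S _ _ s a
    show (s ⊗ₜ[k] (1 : k)) ^ p * ((1 : S) ⊗ₜ[k] ψ a) = _
    rw [Algebra.TensorProduct.tmul_pow, one_pow, Algebra.TensorProduct.tmul_mul_tmul, mul_one, one_mul]
  have hTmul : ∀ (S : Type) [CommSemiring S] [Algebra k S] (x y : S ⊗[k] K), T S (x * y) = T S x * T S y := by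
    intro S _ _ x y
    induction x using TensorProduct.induction_on with
    | zero => simp
    | add a b ha hb => rw [add_mul, map_add, map_add, ha, hb, add_mul]
    | tmul s a =>
      induction y using TensorProduct.induction_on with
      | zero => simp
      | add u v hu hv => rw [mul_add, map_add, map_add, hu, hv, mul_add]
      | tmul t b =>
        rw [Algebra.TensorProduct.tmul_mul_tmul, hT, hT, hT, Algebra.TensorProduct.tmul_mul_tmul, mul_pow]
        simp [ψ]
  refine ⟨⟨⟨{ toFun' := fun S _ _ x => T S x, isCompat' := ?_ }, fun S _ _ r x => ?_, fun S _ _ => ⟨?_, hTmul S⟩⟩,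
      fun S _ _ s a => hT S s a⟩, fun F hF => ?_, fun hfin => ?_⟩
  · intro S _ _ S' _ _ φ
    funext x
    simp only [Function.comp_apply]
    induction x using TensorProduct.induction_on with
    | zero => simp
    | add a b ha hb => simp only [map_add, ha, hb]
    | tmul s a => rw [LinearMap.rTensor_tmul, hT, LinearMap.rTensor_tmul, hT, AlgHom.toLinearMap_apply, AlgHom.toLinearMap_apply, map_pow]
  · show T S (r • x) = r ^ p • T S x
    induction x using TensorProduct.induction_on with
    | zero => simp only [smul_zero, map_zero]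
    | add a b ha hb => rw [smul_add, map_add, map_add, ha, hb, smul_add]
    | tmul s a => rw [TensorProduct.smul_tmul', hT, hT, TensorProduct.smul_tmul', smul_eq_mul, smul_eq_mul, mul_pow]
  · show T S 1 = 1
    rw [Algebra.TensorProduct.one_def, hT, one_pow, show ψ 1 = 1 by simp [ψ], ← Algebra.TensorProduct.one_def]
  · refine (Submodule.eq_bot_iff _).2 fun b hb => ?_
    have h1 := hb k 0 1
    have h0 : F.law.toFun' k 0 = 0 := by
      rw [← zero_smul k (0 : k ⊗[k] K), F.homog, zero_pow hp.ne_zero, zero_smul]
    rw [zero_add, one_mul, h0, hF, one_pow] at h1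
    have h2 : ψ b = 0 := by
      have h5 := congrArg (TensorProduct.lid k k) h1
      rw [TensorProduct.lid_tmul, map_zero, one_smul] at h5
      exact h5
    simpa [ψ] using h2
  · let t : ℕ → K := fun i => FrobAlg.toTwist p k (algebraMap (MvPolynomial ℕ (ZMod p)) k (MvPolynomial.X i))
    have hli : LinearIndependent k t := by
      rw [linearIndependent_iff']
      intro s c hc i hi
      obtain ⟨⟨q, hq⟩, hint⟩ := IsLocalization.exist_integer_multiples (nonZeroDivisors (MvPolynomial ℕ (ZMod p))) s c
      choose n hn using fun j : s => hint j.1 j.2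
      let m : ℕ → MvPolynomial ℕ (ZMod p) := fun j => if h : j ∈ s then n ⟨j, h⟩ else 0
      have hm : ∀ j ∈ s, algebraMap _ k (m j) = algebraMap _ k q * c j := fun j hj => by
        simp only [m, dif_pos hj]
        exact (hn ⟨j, hj⟩).trans (Algebra.smul_def _ _)
      have hsum : ∑ j ∈ s, m j ^ p * MvPolynomial.X j = 0 := by
        refine IsFractionRing.injective (MvPolynomial ℕ (ZMod p)) k ?_
        rw [map_sum, map_zero]
        have h2 := congrArg (fun z => algebraMap _ k q ^ p * ψ z) hc
        simp only [ψ, map_sum, map_zero, mul_zero, Finset.mul_sum] at h2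
        refine (Finset.sum_congr rfl fun j hj => ?_).trans h2
        rw [map_mul, map_pow, hm j hj, show (FrobAlg.toTwist p k).symm (c j • t j) = c j ^ p * ψ (t j) from hψ _ _]
        simp only [ψ, t, RingEquiv.symm_apply_apply]
        ring
      have h3 := congrArg (MvPolynomial.pderiv i) hsum
      simp only [map_sum, map_zero, Derivation.leibniz, Derivation.leibniz_pow, smul_eq_mul, MvPolynomial.pderiv_X,
        Pi.single_apply, nsmul_eq_mul, CharP.cast_eq_zero, zero_mul, mul_zero, add_zero, mul_ite, mul_one] at h3
      rw [Finset.sum_ite_eq' s i, if_pos hi] at h3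
      have h4 : algebraMap _ k q * c i = 0 := by rw [← hm i hi, pow_eq_zero_iff hp.ne_zero |>.1 h3, map_zero]
      exact (mul_eq_zero.1 h4).resolve_left fun h => nonZeroDivisors.ne_zero hq (IsFractionRing.injective _ k (h.trans (map_zero _).symm))
    exact not_finite_iff_infinite.2 inferInstance hli.finite

end Groth.Agent.S19489
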