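import Groth.Statements.S1952
import Groth.Agent.H19.IntMult.SectDiv
import Groth.Agent.H19.IntMult.ExtProd
import Groth.Agent.Lib.Cyc.PP.P1Push


set_option autoImplicit false
universe u
open CategoryTheory CategoryTheory.Limits AlgebraicGeometry
attribute [local instance] HasDerivedCategory.standard
open IntMult

namespace Groth.Agent.S1952

open Groth.Agent.Lib Groth.Agent.Lib.Cyc Groth.Agent.H19.IntMult

theorem map_add' {X Y : Scheme.{u}} (f : X ⟶ Y) [QuasiCompact f] (δX : X → ℤ) (δY : Y → ℤ)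
    (a b : AlgebraicCycle X ℤ) :
    AlgebraicCycle.map f δX δY (a + b) = AlgebraicCycle.map f δX δY a + AlgebraicCycle.map f δX δY b := by
  refine Function.locallyFinsuppWithin.ext fun y => ?_
  rw [Function.locallyFinsuppWithin.coe_add, Pi.add_apply, Push.map_apply, Push.map_apply, Push.map_apply,
    ← finsum_mem_add_distrib' ((Push.finite_fiber_support f a y).subset fun x hx => ⟨hx.1, left_ne_zero_of_mul hx.2⟩)
      ((Push.finite_fiber_support f b y).subset fun x hx => ⟨hx.1, left_ne_zero_of_mul hx.2⟩)]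
  exact finsum_mem_congr rfl fun x _ => by rw [Function.locallyFinsuppWithin.coe_add, Pi.add_apply, add_mul]

/-- Pushforward as a homomorphism. -/
noncomputable def mapHom {X Y : Scheme.{u}} (f : X ⟶ Y) [QuasiCompact f] (δX : X → ℤ) (δY : Y → ℤ) :
    AlgebraicCycle X ℤ →+ AlgebraicCycle Y ℤ :=
  AddMonoidHom.mk' (AlgebraicCycle.map f δX δY) (map_add' f δX δY)

/-- The cycles rationally equivalent to zero. -/
noncomputable def ratTriv {X : Scheme.{u}} [IsLocallyNoetherian X] (δ : X → ℤ) (hδ : Cyc.IsDimFun X δ) (k : ℤ) :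
    AddSubgroup (AlgebraicCycle X ℤ) where
  carrier := {a | Cyc.RatEquivZero δ k a}
  zero_mem' := Ord.ratEquivZero_zero δ k
  add_mem' := Ord.ratEquivZero_add
  neg_mem' := Ord.ratEquivZero_neg hδ

variable {P : Scheme.{u}} [IsIntegral P] [IsLocallyNoetherian P] [IsIntegral (CohB1.ProjSpaceOver 1 P)]
  [IsLocallyNoetherian (CohB1.ProjSpaceOver 1 P)] {δ : P → ℤ} {δQ : ↥(CohB1.ProjSpaceOver 1 P) → ℤ}
  {C : Scheme.{u}} [IsIntegral C] (ι : C ⟶ CohB1.ProjSpaceOver 1 P) [IsClosedImmersion ι]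

/-- The product of a prime cycle with a section, as a cycle, and its pushforward. -/
theorem exists_cycle {K : Type u} [Field K] (gQ : CohB1.ProjSpaceOver 1 P ⟶ Spec (CommRingCat.of K)) [Smooth gQ]
    [QuasiCompact (CohB1.ProjSpaceOver.toBase 1 P)]
    (dQ : Cyc.IsDimFun (CohB1.ProjSpaceOver 1 P) δQ)
    (hQ : Cyc.DeltaCompat (CohB1.ProjSpaceOver.toBase 1 P) δQ δ) {N r : ℤ}
    (hN : δ (genericPoint P) = N) (hr : δQ (ι (genericPoint C)) = r + 1) (i : Fin (1 + 1))
    (hle : ∀ w, δ (pullback.snd ι (P1.sect P i) w) ≤ r) :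
    ∃ A : AlgebraicCycle (CohB1.ProjSpaceOver 1 P) ℤ,
      ⇑A = IntMult.interProd δQ (N + 1) (Set.indicator {ι (genericPoint C)} 1)
        (Set.indicator {P1.sect P i (genericPoint P)} 1) ∧
      ⇑(AlgebraicCycle.map (CohB1.ProjSpaceOver.toBase 1 P) δQ δ A) =
        Cyc.subschemeFun δ r (pullback.snd ι (P1.sect P i)) := by
  classical
  let pr := CohB1.ProjSpaceOver.toBase 1 P
  have hprs : ∀ c, pr (P1.sect P i c) = c := fun c => by
    rw [← Scheme.Hom.comp_apply, P1Bundle.sect_toBase]; rfl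
  have hsect : ∀ ζ, P1.sect P i (genericPoint P) ⤳ ζ → ∃ c, P1.sect P i c = ζ := fun ζ h =>
    ((P1.sect P i).isClosedEmbedding.isClosed_range.closure_subset_iff.2
      (Set.singleton_subset_iff.2 ⟨_, rfl⟩) :
        closure {P1.sect P i (genericPoint P)} ⊆ Set.range (P1.sect P i)) h.mem_closure
  have hG := fun ζ => SectDiv.interProd_sect ι gQ hQ hN hr i hle ζ
  have hT : ∀ ζ, ι (genericPoint C) ⤳ ζ → P1.sect P i (genericPoint P) ⤳ ζ → δQ ζ ≤ r := fun ζ h1 h2 => by
    obtain ⟨c, rfl⟩ := hsect ζ h2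
    obtain ⟨v, hv⟩ := (ι.isClosedEmbedding.isClosed_range.closure_subset_iff.2
      (Set.singleton_subset_iff.2 ⟨_, rfl⟩) : closure {ι (genericPoint C)} ⊆ Set.range ι) h1.mem_closure
    obtain ⟨w, -, rfl⟩ := SectDiv.exists_point ι i v c hv
    rw [P1Bundle.delta_sect hQ]
    exact hle w
  let A : AlgebraicCycle (CohB1.ProjSpaceOver 1 P) ℤ :=
    { toFun := IntMult.interProd δQ (N + 1) (Set.indicator {ι (genericPoint C)} 1)
        (Set.indicator {P1.sect P i (genericPoint P)} 1)
      supportWithinDomain' := Set.subset_univ _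
      supportLocallyFiniteWithinDomain' := fun z _ => by
        obtain ⟨U, hU, hzU, hfin⟩ := DimFun.exists_open_finite_maxPts
          (isClosed_closure.inter isClosed_closure : IsClosed (closure {ι (genericPoint C)} ∩
            closure {P1.sect P i (genericPoint P)})) z
        refine ⟨U, hU.mem_nhds hzU, hfin.subset fun x hx => ?_⟩
        obtain ⟨h1, h2', h3'⟩ := (hG x).1 hx.2
        refine ⟨hx.1, ⟨h2'.mem_closure, h3'.mem_closure⟩, fun y hy hyx => ?_⟩
        exact DimFun.eq_of_specializes_of_le dQ hyx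
          ((hT y (specializes_iff_mem_closure.2 hy.1) (specializes_iff_mem_closure.2 hy.2)).trans h1.ge) }
  refine ⟨A, rfl, funext fun c => ?_⟩
  rw [Push.map_apply]
  have hval := (hG (P1.sect P i c)).2 c rfl
  rw [finsum_mem_eq_sum_of_inter_support_eq (t := {P1.sect P i c}), Finset.sum_singleton]
  · rw [show A (P1.sect P i c) = IntMult.interProd δQ (N + 1) (Set.indicator {ι (genericPoint C)} 1)
      (Set.indicator {P1.sect P i (genericPoint P)} 1) (P1.sect P i c) from rfl, hval]
    have hdeg : AlgebraicCycle.mapCoeff pr δQ δ (P1.sect P i c) = 1 := by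
      rw [AlgebraicCycle.mapCoeff, if_pos (show δQ (P1.sect P i c) = δ (pr (P1.sect P i c)) by
        rw [hprs, P1Bundle.delta_sect hQ])]
      have h := Residue.residueDegree_comp (P1.sect P i) pr c
      rw [show P1.sect P i ≫ pr = 𝟙 P from P1Bundle.sect_toBase P i, Scheme.Hom.residueDegree_id] at h
      first
      | exact Nat.eq_one_of_mul_eq_one_left h.symm
      | exact Nat.eq_one_of_mul_eq_one_right h.symm
    rw [hdeg, Nat.cast_one, mul_one]
  · ext x
    simp only [Set.mem_inter_iff, Set.mem_preimage, Set.mem_singleton_iff, Finset.coe_singleton]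
    constructor
    · rintro ⟨hx, h⟩
      obtain ⟨-, -, h3'⟩ := (hG x).1 (left_ne_zero_of_mul h)
      obtain ⟨c', rfl⟩ := hsect x h3'
      exact ⟨by rw [show c' = c from (hprs c').symm.trans hx], h⟩
    · rintro ⟨rfl, h⟩
      exact ⟨hprs c, h⟩


/-- Let α be a (k + 1)-cycle on P^1_X (X a nonsingular variety, P^1_X of dimension n + 1 with dimension
function δP) intersecting the divisors X × 0 and X × ∞ (the images of the two sections, as prime
cycles) properly. Then pr_{X,*}(α · [X × 0] − α · [X × ∞]) ∼_rat 0 as a k-cycle on X (the source's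
two distinct closed points a, b of P^1 are taken to be 0 and ∞), for any cycle on P^1_X with the
coefficients of α · [X × 0] − α · [X × ∞]. Here X is a nonsingular variety over the algebraically
closed field K (smooth, separated, quasi-compact, integral) with dimension function δ (transcendence
degree) and n = dim X; cycles are Mathlib AlgebraicCycles with Cyc.Zk membership, proper
intersection is IntMult.IntersectProperly and α · β is the Tor-formula intersection product on
coefficient functions (IntMult.interProd), bundled where needed as 'any cycle with these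
coefficients'. -/
theorem result (K : Type u) [Field K] [IsAlgClosed K] (X : Scheme.{u}) (f : X ⟶ Spec (CommRingCat.of K)) [Smooth f] [IsSeparated f] [QuasiCompact f] [IsIntegral X] (δ : X → ℤ) (hX : Cyc.IsSetup X δ) (hδ : Cyc.DeltaCompat f δ (fun _ => 0)) (n : ℤ) (hn : δ (genericPoint X) = n) (δP : ↥(CohB1.ProjSpaceOver 1 X) → ℤ) (hPX : Cyc.IsSetup (CohB1.ProjSpaceOver 1 X) δP) (hP : Cyc.DeltaCompat (CohB1.ProjSpaceOver.toBase 1 X) δP δ) [QuasiCompact (CohB1.ProjSpaceOver.toBase 1 X)] (k : ℤ) (α : AlgebraicCycle (CohB1.ProjSpaceOver 1 X) ℤ) (hα : α ∈ Cyc.Zk _ δP (k + 1)) (h0 : IntMult.IntersectProperly δP (n + 1) ⇑α (Set.indicator {P1.sect X 0 (genericPoint X)} 1)) (h1 : IntMult.IntersectProperly δP (n + 1) ⇑α (Set.indicator {P1.sect X 1 (genericPoint X)} 1)) (γ : AlgebraicCycle (CohB1.ProjSpaceOver 1 X) ℤ) (hγ : ⇑γ = IntMult.interProd δP (n + 1) ⇑α (Set.indicator {P1.sect X 0 (genericPoint X)} 1) - IntMult.interProd δP (n + 1) ⇑α (Set.indicator {P1.sect X 1 (genericPoint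 X)} 1)) : Cyc.RatEquivZero δ k (AlgebraicCycle.map (CohB1.ProjSpaceOver.toBase 1 X) δP δ γ) := by
  classical
  haveI := hX.1
  haveI : IsLocallyNoetherian (CohB1.ProjSpaceOver 1 X) := hPX.1
  haveI : IsIntegral (CohB1.ProjSpaceOver 1 X) := P1Bundle.isIntegral f
  let gQ := CohB1.ProjSpaceOver.toBase 1 X ≫ f
  haveI : CompactSpace ↥(CohB1.ProjSpaceOver 1 X) := QuasiCompact.compactSpace_of_compactSpace gQ
  have hfinS : (Function.support ⇑α).Finite := by
    simpa using α.locallyFiniteSupport.finite_inter_support_of_isCompact isCompact_univ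
  let S := hfinS.toFinset
  have hS : ∀ ξ, ξ ∈ S ↔ α ξ ≠ 0 := fun ξ => hfinS.mem_toFinset
  have hα' : ∀ ξ, α ξ ≠ 0 → δP ξ = k + 1 := fun ξ h => by_contra fun h' => h (hα ξ h')
  have hh : ∀ (i : Fin (1 + 1)) (ξ : ↥(CohB1.ProjSpaceOver 1 X)), α ξ ≠ 0 → ∀ c, ξ ⤳ P1.sect X i c → δ c ≤ k :=
    fun i ξ hξ c hc => by
      have hI : IntMult.IntersectProperly δP (n + 1) ⇑α (Set.indicator {P1.sect X i (genericPoint X)} 1) := by
        fin_cases i
        · exact h0
        · exact h1
      have h := hI ξ (P1.sect X i (genericPoint X)) (P1.sect X i c) hξ (by simp) hc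
        ((genericPoint_specializes c).map (P1.sect X i).continuous)
      rw [hα' ξ hξ, P1Bundle.delta_sect hP, P1Bundle.delta_sect hP, hn] at h
      omega
  have hex : ∀ ξ, ξ ∈ S → ∃ A : Fin (1 + 1) → AlgebraicCycle (CohB1.ProjSpaceOver 1 X) ℤ,
      (∀ i, ⇑(A i) = IntMult.interProd δP (n + 1) (Set.indicator {ξ} 1)
        (Set.indicator {P1.sect X i (genericPoint X)} 1)) ∧
      Cyc.RatEquiv δ k (AlgebraicCycle.map (CohB1.ProjSpaceOver.toBase 1 X) δP δ (A 0))
        (AlgebraicCycle.map (CohB1.ProjSpaceOver.toBase 1 X) δP δ (A 1)) := fun ξ hξ => by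
    have hξ0 := (hS ξ).1 hξ
    obtain ⟨C, hC, ι, hι, rfl⟩ := ExtProd.exists_subvariety ξ
    have hle : ∀ i w, δ (pullback.snd ι (P1.sect X i) w) ≤ k := fun i w => by
      refine hh i _ hξ0 _ ?_
      rw [← SectDiv.sect_snd ι i w]
      exact (genericPoint_specializes _).map ι.continuous
    choose A hA hpush using fun i => exists_cycle ι gQ hPX.2.2 hP hn (hα' _ hξ0) i (hle i)
    refine ⟨A, hA, PP.P1Push.ratEquiv_fibres ι hX hP (hα' _ hξ0) (fun i => ?_) (hpush 0) (hpush 1)⟩
    rintro ⟨c, hc⟩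
    have h := hh i _ hξ0 c (specializes_of_eq hc.symm)
    rw [← P1Bundle.delta_sect hP i c, hc, hα' _ hξ0] at h
    omega
  choose! A hA hrat using hex
  have hsum : ∀ (i : Fin (1 + 1)) ζ,
      IntMult.interProd δP (n + 1) ⇑α (Set.indicator {P1.sect X i (genericPoint X)} 1) ζ =
        ∑ ξ ∈ S, α ξ * IntMult.interProd δP (n + 1) (Set.indicator {ξ} 1)
          (Set.indicator {P1.sect X i (genericPoint X)} 1) ζ := fun i ζ => by
    set z := P1.sect X i (genericPoint X) with hz
    let cond : ↥(CohB1.ProjSpaceOver 1 X) × ↥(CohB1.ProjSpaceOver 1 X) → Prop :=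
      fun p => p.1 ⤳ ζ ∧ p.2 ⤳ ζ ∧ δP p.1 + δP p.2 - (n + 1) = δP ζ
    let tm : (↥(CohB1.ProjSpaceOver 1 X) → ℤ) → ↥(CohB1.ProjSpaceOver 1 X) × ↥(CohB1.ProjSpaceOver 1 X) → ℤ :=
      fun F p => F p.1 * (Set.indicator {z} 1 : _ → ℤ) p.2 * IntMult.mult (IntMult.ptIdeal p.1) (IntMult.ptIdeal p.2) ζ
    have heval : ∀ F : ↥(CohB1.ProjSpaceOver 1 X) → ℤ, (∀ x, F x ≠ 0 → x ∈ S) →
        IntMult.interProd δP (n + 1) F (Set.indicator {z} 1) ζ =
          ∑ x ∈ S, if cond (x, z) then F x * IntMult.mult (IntMult.ptIdeal x) (IntMult.ptIdeal z) ζ else 0 :=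
      fun F hF => by
        show (∑ᶠ p : {p : _ × _ // cond p}, tm F p.1) = _
        refine (finsum_subtype_eq_finsum_cond (f := tm F) _).trans ?_
        refine (finsum_cond_eq_sum_of_cond_iff (tm F)
          (t := (S.filter fun x => cond (x, z)).image fun x => (x, z)) ?_).trans ?_
        · rintro ⟨x, b⟩ hne
          simp only [Finset.mem_image, Finset.mem_filter, Prod.mk.injEq]
          have hb : b = z := by
            simpa using Set.mem_of_indicator_ne_zero (right_ne_zero_of_mul (left_ne_zero_of_mul hne))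
          subst hb
          exact ⟨fun h => ⟨x, ⟨hF x (left_ne_zero_of_mul (left_ne_zero_of_mul hne)), h⟩, rfl, rfl⟩,
            fun ⟨x', ⟨_, h⟩, h', _⟩ => h' ▸ h⟩
        · rw [Finset.sum_image fun a _ b _ h => congrArg Prod.fst h, Finset.sum_filter]
          refine Finset.sum_congr rfl fun x _ => if_congr Iff.rfl ?_ rfl
          simp [tm]
    rw [heval _ fun x hx => (hS x).2 hx]
    refine Finset.sum_congr rfl fun ξ hξ => ?_
    rw [heval (Set.indicator {ξ} 1) fun x hx => (show x = ξ from Set.mem_singleton_iff.1 (Set.mem_of_indicator_ne_zero hx)) ▸ hξ,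
      Finset.sum_eq_single ξ (fun x _ hx => by simp [hx]) (fun h => absurd hξ h)]
    simp only [Set.indicator_of_mem (Set.mem_singleton ξ), Pi.one_apply, one_mul, mul_ite, mul_zero]
  have hγ' : γ = ∑ ξ ∈ S, α ξ • (A ξ 0 - A ξ 1) := by
    refine Function.locallyFinsuppWithin.ext fun ζ => ?_
    rw [congrFun hγ ζ, Pi.sub_apply, hsum, hsum, ← Finset.sum_sub_distrib]
    simp only [Function.locallyFinsuppWithin.coe_sum, Finset.sum_apply, Function.locallyFinsuppWithin.coe_zsmul,
      Pi.smul_apply, Function.locallyFinsuppWithin.coe_sub, Pi.sub_apply, smul_eq_mul, mul_sub]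
    exact Finset.sum_congr rfl fun ξ hξ => by rw [hA ξ hξ 0, hA ξ hξ 1]
  show mapHom (CohB1.ProjSpaceOver.toBase 1 X) δP δ γ ∈ ratTriv δ hX.2.2 k
  rw [hγ', map_sum]
  refine sum_mem fun ξ hξ => ?_
  rw [map_zsmul, map_sub]
  exact zsmul_mem (hrat ξ hξ) _


end Groth.Agent.S1952
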