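import Groth.Statements.S6450
import Groth.Agent.S6470
import Groth.Agent.H19.IntMult.DiagReduce
import Groth.Agent.H19.IntMult.TripleTor
import Groth.Agent.H19.IntMult.TorLoc


set_option autoImplicit false
set_option linter.style.haveILetI false
universe u
open CategoryTheory CategoryTheory.Limits AlgebraicGeometry
attribute [local instance] HasDerivedCategory.standard
open IntMult

namespace Groth.Agent.S6450

open Groth.Agent.Lib Groth.Agent.S12212 Groth.Agent.H19.IntMult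
open scoped TensorProduct

theorem interProd_comm {X : Scheme.{u}} (δ : X → ℤ) (n : ℤ) (α β : X → ℤ) :
    IntMult.interProd δ n α β = IntMult.interProd δ n β α := by
  funext ζ
  let e : {p : X × X // p.1 ⤳ ζ ∧ p.2 ⤳ ζ ∧ δ p.1 + δ p.2 - n = δ ζ} ≃
      {p : X × X // p.1 ⤳ ζ ∧ p.2 ⤳ ζ ∧ δ p.1 + δ p.2 - n = δ ζ} :=
    (Equiv.prodComm X X).subtypeEquiv fun p => by
      simp only [Equiv.prodComm_apply, Prod.fst_swap, Prod.snd_swap, add_comm (δ p.2)]
      tauto
  refine finsum_eq_of_bijective e e.bijective fun p => ?_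
  show α p.1.1 * β p.1.2 * IntMult.mult (ptIdeal p.1.1) (ptIdeal p.1.2) ζ =
    β p.1.2 * α p.1.1 * IntMult.mult (ptIdeal p.1.2) (ptIdeal p.1.1) ζ
  rw [show IntMult.mult (ptIdeal p.1.2) (ptIdeal p.1.1) ζ = IntMult.mult (ptIdeal p.1.1) (ptIdeal p.1.2) ζ from
    RegSeq.chi_comm _ _, mul_comm (α _)]

open Classical in
/-- The product of two prime cycles. -/
noncomputable def prodPrime {X : Scheme.{u}} (δ : X → ℤ) (n : ℤ) (b c : X) : X → ℤ := fun η =>
  if b ⤳ η ∧ c ⤳ η ∧ δ b + δ c - n = δ η then IntMult.mult (ptIdeal b) (ptIdeal c) η else 0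

theorem interProd_prime {X : Scheme.{u}} (δ : X → ℤ) (n : ℤ) (b c : X) :
    IntMult.interProd δ n (Set.indicator {b} 1) (Set.indicator {c} 1) = prodPrime δ n b c := by
  funext η
  simp only [prodPrime]
  split_ifs with h
  · refine (finsum_eq_single _ ⟨(b, c), h⟩ fun p hp => ?_).trans ?_
    · by_contra hne
      have h1 : p.1.1 = b := by simpa using Set.mem_of_indicator_ne_zero (left_ne_zero_of_mul (left_ne_zero_of_mul hne))
      have h2 : p.1.2 = c := by simpa using Set.mem_of_indicator_ne_zero (right_ne_zero_of_mul (left_ne_zero_of_mul hne))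
      exact hp (Subtype.ext (Prod.ext h1 h2))
    · simp
  · refine finsum_eq_zero_of_forall_eq_zero fun p => ?_
    by_contra hne
    have h1 : p.1.1 = b := by simpa using Set.mem_of_indicator_ne_zero (left_ne_zero_of_mul (left_ne_zero_of_mul hne))
    have h2 : p.1.2 = c := by simpa using Set.mem_of_indicator_ne_zero (right_ne_zero_of_mul (left_ne_zero_of_mul hne))
    exact h (h1 ▸ h2 ▸ p.2)

/-- The multiplicity at a generization through localized torsion modules. -/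
theorem mult_loc {X : Scheme.{u}} [IsLocallyNoetherian X] (ζ : X) [IsRegularLocalRing (X.presheaf.stalk ζ)]
    (q : PrimeSpectrum (X.presheaf.stalk ζ)) {z : X} (hz : X.fromSpecStalk ζ q = z) (J J' : X.IdealSheafData) :
    IntMult.mult J J' z = ∑ i ∈ Finset.range ((IsLocalRing.maximalIdeal (X.presheaf.stalk ζ)).spanFinrank + 1),
      (-1 : ℤ) ^ i * ((locLen (((CategoryTheory.Tor (ModuleCat.{u} (X.presheaf.stalk ζ)) i).obj
        (ModuleCat.of (X.presheaf.stalk ζ) (↑(X.presheaf.stalk ζ) ⧸ IntMult.stalkIdeal J ζ))).obj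
        (ModuleCat.of (X.presheaf.stalk ζ) (↑(X.presheaf.stalk ζ) ⧸ IntMult.stalkIdeal J' ζ))) q).toNat : ℤ) := by
  subst hz
  have h : X.fromSpecStalk ζ q ⤳ ζ := Cyc.DimFun.fromSpecStalk_specializes_self ζ q
  have hq : CDivInt.Factorial.primeOf h = q.asIdeal := by
    rw [DiagReduce.genPrime_primeOf, ← congrArg PrimeSpectrum.asIdeal (Cyc.DimFun.eq_genPrime ζ q)]
  letI : Algebra (X.presheaf.stalk ζ) (X.presheaf.stalk (X.fromSpecStalk ζ q)) :=
    (X.presheaf.stalkSpecializes h).hom.toAlgebra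
  haveI : IsLocalization.AtPrime (X.presheaf.stalk (X.fromSpecStalk ζ q)) q.asIdeal := by
    have := CartierDescent.isLocalization_stalkSpecializes h
    show IsLocalization q.asIdeal.primeCompl _
    rw [show q.asIdeal.primeCompl = (CDivInt.Factorial.primeOf h).primeCompl from
      SetLike.ext fun r => not_congr (by rw [hq])]
    exact this
  let e : ∀ I : X.IdealSheafData,
      ((X.presheaf.stalk (X.fromSpecStalk ζ q)) ⊗[X.presheaf.stalk ζ] (↑(X.presheaf.stalk ζ) ⧸ IntMult.stalkIdeal I ζ))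
        ≃ₗ[X.presheaf.stalk (X.fromSpecStalk ζ q)]
      (↑(X.presheaf.stalk (X.fromSpecStalk ζ q)) ⧸ IntMult.stalkIdeal I (X.fromSpecStalk ζ q)) := fun I =>
    (Algebra.TensorProduct.quotIdealMapEquivTensorQuot (X.presheaf.stalk (X.fromSpecStalk ζ q))
      (IntMult.stalkIdeal I ζ)).toLinearEquiv.symm.trans
        (Submodule.quotEquivOfEq _ _ (ModelFibre.StalkIdeal.map_stalkSpecializes I h))
  refine (RegSeq.chi_comm _ _).trans ((FlatBC.chi_congr (e J) (e J')).symm.trans ?_)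
  exact TorLoc.chi_loc _ q (ModuleCat.of _ _) (ModuleCat.of _ _)
    (Additive.isZero_of_pdle _ _ _ (Additive.pdle_dim _))

variable {K : Type u} [Field K] [IsAlgClosed K] {X : Scheme.{u}} (f : X ⟶ Spec (CommRingCat.of K)) [Smooth f]
  [IsSeparated f] [QuasiCompact f] [IsIntegral X]

include f in
/-- The coefficient of a triple product of prime cycles. -/
theorem double_eq {δ : X → ℤ} (hX : Cyc.IsSetup X δ) {n : ℤ} (hn : δ (genericPoint X) = n) (a b c : X)
    (habc : ∀ ζ : X, a ⤳ ζ → b ⤳ ζ → c ⤳ ζ → δ ζ ≤ δ a + δ b + δ c - 2 * n) (ζ : X)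
    (hbc : ∀ z : X, z ⤳ ζ → b ⤳ z → c ⤳ z → δ z ≤ δ b + δ c - n) :
    (¬ (a ⤳ ζ ∧ b ⤳ ζ ∧ c ⤳ ζ ∧ δ ζ = δ a + δ b + δ c - 2 * n) →
      IntMult.interProd δ n (Set.indicator {a} 1) (prodPrime δ n b c) ζ = 0) ∧
    ∀ (ha : a ⤳ ζ) (hb : b ⤳ ζ) (hc : c ⤳ ζ), δ ζ = δ a + δ b + δ c - 2 * n →
      ∀ [IsRegularLocalRing (X.presheaf.stalk ζ)],
      IntMult.interProd δ n (Set.indicator {a} 1) (prodPrime δ n b c) ζ =
        TripleTor.phi
          (ModuleCat.of (X.presheaf.stalk ζ) (↑(X.presheaf.stalk ζ) ⧸ (Cyc.DimFun.genPrime ζ a ha).asIdeal))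
          (ModuleCat.of (X.presheaf.stalk ζ) (↑(X.presheaf.stalk ζ) ⧸ (Cyc.DimFun.genPrime ζ b hb).asIdeal))
          (ModuleCat.of (X.presheaf.stalk ζ) (↑(X.presheaf.stalk ζ) ⧸ (Cyc.DimFun.genPrime ζ c hc).asIdeal)) := by
  classical
  haveI := hX.1
  have hdf := hX.2.2
  let G := prodPrime δ n b c
  let tm : X × X → ℤ := fun p =>
    (Set.indicator ({a} : Set X) (1 : X → ℤ)) p.1 * G p.2 * IntMult.mult (ptIdeal p.1) (ptIdeal p.2) ζ
  have hG : ∀ {η : X}, G η ≠ 0 → b ⤳ η ∧ c ⤳ η ∧ δ b + δ c - n = δ η := fun {η} h => by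
    by_contra h'
    exact h (if_neg h')
  refine ⟨fun hnot => finsum_eq_zero_of_forall_eq_zero fun ⟨⟨ξ, η⟩, h1, h2, h3⟩ => ?_, ?_⟩
  · by_contra hne
    dsimp only at hne h1 h2 h3
    have e1 : ξ = a := by simpa using Set.mem_of_indicator_ne_zero (left_ne_zero_of_mul (left_ne_zero_of_mul hne))
    obtain ⟨g1, g2, g3⟩ := hG (right_ne_zero_of_mul (left_ne_zero_of_mul hne))
    subst e1
    exact hnot ⟨h1, g1.trans h2, g2.trans h2, by omega⟩
  intro ha hb hc hζ _
  obtain ⟨U, hU, V, hV, hxV, e, hstd⟩ := Smooth.exists_isStandardSmooth f ζ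
  have hUtop : U = ⊤ := by
    ext y
    simp only [TopologicalSpace.Opens.coe_top, Set.mem_univ, iff_true]
    exact Subsingleton.elim (f ζ) y ▸ e hxV
  subst hUtop
  let ι := (Scheme.ΓSpecIso (CommRingCat.of K)).inv.hom
  have hψ : ((f.appLE ⊤ V e).hom.comp ι).IsStandardSmooth :=
    RingHom.isStandardSmooth_respectsIso.2 _ (RingEquiv.ofBijective ι
      (ConcreteCategory.bijective_of_isIso (Scheme.ΓSpecIso (CommRingCat.of K)).inv)) hstd
  letI : Algebra K Γ(X, V) := ((f.appLE ⊤ V e).hom.comp ι).toAlgebra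
  haveI : Algebra.IsStandardSmooth K Γ(X, V) := hψ
  letI : Algebra Γ(X, V) (X.presheaf.stalk ζ) := X.presheaf.algebra_section_stalk ⟨ζ, hxV⟩
  letI : Algebra K (X.presheaf.stalk ζ) :=
    ((algebraMap Γ(X, V) (X.presheaf.stalk ζ)).comp (algebraMap K Γ(X, V))).toAlgebra
  haveI : IsScalarTower K Γ(X, V) (X.presheaf.stalk ζ) := IsScalarTower.of_algebraMap_eq fun x => rfl
  haveI := hV.isLocalization_stalk ⟨ζ, hxV⟩
  haveI : Algebra.EssFiniteType Γ(X, V) (X.presheaf.stalk ζ) :=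
    Algebra.EssFiniteType.of_isLocalization _ (hV.primeIdealOf ⟨ζ, hxV⟩).asIdeal.primeCompl
  haveI : Algebra.EssFiniteType K (X.presheaf.stalk ζ) := Algebra.EssFiniteType.comp K Γ(X, V) _
  haveI : Algebra.FormallyEtale Γ(X, V) (X.presheaf.stalk ζ) :=
    Algebra.FormallyEtale.of_isLocalization (hV.primeIdealOf ⟨ζ, hxV⟩).asIdeal.primeCompl
  haveI : Algebra.FormallySmooth K (X.presheaf.stalk ζ) := Algebra.FormallySmooth.comp K Γ(X, V) _
  let pt := fun p : PrimeSpectrum (X.presheaf.stalk ζ) => X.fromSpecStalk ζ p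
  have hspec : ∀ p, pt p ⤳ ζ := fun p => Cyc.DimFun.fromSpecStalk_specializes_self ζ p
  have hle : ∀ p, δ ζ ≤ δ (pt p) := fun p => Cyc.DimFun.le_of_specializes hdf (hspec p)
  have hgp : ∀ p, p = Cyc.DimFun.genPrime ζ (pt p) (hspec p) := fun p => Cyc.DimFun.eq_genPrime ζ p
  have hdim : ∀ p, ringKrullDim (X.presheaf.stalk ζ ⧸ p.asIdeal) = ((δ (pt p) - δ ζ).toNat : WithBot ℕ∞) :=
    fun p => (ringKrullDim_eq_of_ringEquiv (Ideal.quotEquivOfEq (congrArg PrimeSpectrum.asIdeal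
      (hgp p)))).trans (Cyc.DimFun.ringKrullDim_locQuot hdf ζ _ (hspec p))
  have hd : ringKrullDim (X.presheaf.stalk ζ) = ((n - δ ζ).toNat : WithBot ℕ∞) := by
    rw [Cyc.DimFun.ringKrullDim_stalk hdf ζ, hn]
  set pa := Cyc.DimFun.genPrime ζ a ha with hpa
  set pb := Cyc.DimFun.genPrime ζ b hb
  set pc := Cyc.DimFun.genPrime ζ c hc
  have hspz : ∀ (x : X) (hx : x ⤳ ζ) (q : PrimeSpectrum (X.presheaf.stalk ζ)),
      q ∈ Module.support (X.presheaf.stalk ζ) (↑(X.presheaf.stalk ζ) ⧸ (Cyc.DimFun.genPrime ζ x hx).asIdeal) ↔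
        x ⤳ pt q := fun x hx q => by
    rw [Module.support_eq_zeroLocus, Ideal.annihilator_quotient, PrimeSpectrum.mem_zeroLocus,
      SetLike.coe_subset_coe]
    refine (Cyc.DimFun.fromSpecStalk_specializes_iff ζ (Cyc.DimFun.genPrime ζ x hx) q).symm.trans ?_
    rw [Cyc.DimFun.fromSpecStalk_genPrime]
  have hmax : ∀ q, a ⤳ pt q → b ⤳ pt q → c ⤳ pt q → q.asIdeal = IsLocalRing.maximalIdeal _ := fun q h1 h2 h3 => by
    have h := habc _ h1 h2 h3
    have he := Cyc.DimFun.eq_of_specializes_of_le hdf (hspec q) (by omega)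
    exact congrArg PrimeSpectrum.asIdeal (Cyc.DimFun.fromSpecStalk_injective ζ
      (he.trans Scheme.fromSpecStalk_closedPoint.symm : _ = X.fromSpecStalk ζ (IsLocalRing.closedPoint _)))
  have hbc' : ∀ q, b ⤳ pt q → c ⤳ pt q → δ (pt q) ≤ δ b + δ c - n := fun q h1 h2 =>
    hbc (pt q) (hspec q) h1 h2
  let Vs : Set (PrimeSpectrum (X.presheaf.stalk ζ)) := {q | b ⤳ pt q ∧ c ⤳ pt q}
  have hVdim : ∀ q ∈ Vs, ringKrullDim (X.presheaf.stalk ζ ⧸ q.asIdeal) ≤
      ((δ b + δ c - n - δ ζ).toNat : WithBot ℕ∞) := fun q hq => by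
    have := hbc' q hq.1 hq.2
    rw [hdim q]
    exact_mod_cast (show (δ (pt q) - δ ζ).toNat ≤ (δ b + δ c - n - δ ζ).toNat by omega)
  have hVJ : ∀ q, q ∈ Module.support (X.presheaf.stalk ζ) (↑(X.presheaf.stalk ζ) ⧸ (pb.asIdeal ⊔ pc.asIdeal)) ↔
      q ∈ Vs := fun q => by
    show _ ↔ b ⤳ pt q ∧ c ⤳ pt q
    rw [← hspz b hb q, ← hspz c hc q]
    simp only [Module.support_eq_zeroLocus, Ideal.annihilator_quotient, PrimeSpectrum.mem_zeroLocus,
      SetLike.coe_subset_coe, sup_le_iff]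
    rfl
  obtain ⟨S, hS⟩ := S6470.exists_top_finset (A := X.presheaf.stalk ζ)
    (↑(X.presheaf.stalk ζ) ⧸ (pb.asIdeal ⊔ pc.asIdeal)) (a := (δ b + δ c - n - δ ζ).toNat)
    (fun q hq => hVdim q ((hVJ q).1 hq))
  have han : δ a ≤ n := hn ▸ Cyc.DimFun.le_of_specializes hdf (genericPoint_specializes a)
  have haz : δ ζ ≤ δ a := Cyc.DimFun.le_of_specializes hdf ha
  have hS' : ∀ q, q ∈ S ↔ b ⤳ pt q ∧ c ⤳ pt q ∧ δ b + δ c - n = δ (pt q) := fun q => by
    rw [hS q, hVJ q, hdim q]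
    constructor
    · rintro ⟨⟨h1, h2⟩, h3⟩
      have h3' : (δ (pt q) - δ ζ).toNat = (δ b + δ c - n - δ ζ).toNat := by exact_mod_cast h3
      have := hle q
      exact ⟨h1, h2, by omega⟩
    · rintro ⟨h1, h2, h3⟩
      exact ⟨⟨h1, h2⟩, by rw [h3]⟩
  -- the left hand side
  have hL : IntMult.interProd δ n (Set.indicator {a} 1) (prodPrime δ n b c) ζ =
      ∑ q ∈ S, G (pt q) * IntMult.mult (ptIdeal a) (ptIdeal (pt q)) ζ := by
    show (∑ᶠ p : {p : X × X // p.1 ⤳ ζ ∧ p.2 ⤳ ζ ∧ δ p.1 + δ p.2 - n = δ ζ}, tm p.1) = _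
    refine (finsum_subtype_eq_finsum_cond (f := tm) _).trans ?_
    refine (finsum_cond_eq_sum_of_cond_iff tm (t := (S.image fun q => (a, pt q))) ?_).trans ?_
    · rintro ⟨ξ, η⟩ hx
      simp only [Finset.mem_image, Prod.mk.injEq]
      constructor
      · rintro ⟨h1, h2, h3⟩
        have e1 : ξ = a := by simpa using Set.mem_of_indicator_ne_zero (left_ne_zero_of_mul (left_ne_zero_of_mul hx))
        refine ⟨Cyc.DimFun.genPrime ζ η h2, (hS' _).2 ?_, e1.symm, Cyc.DimFun.fromSpecStalk_genPrime ζ η h2⟩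
        rw [show pt (Cyc.DimFun.genPrime ζ η h2) = η from Cyc.DimFun.fromSpecStalk_genPrime ζ η h2]
        exact hG (right_ne_zero_of_mul (left_ne_zero_of_mul hx))
      · rintro ⟨q, hq, rfl, rfl⟩
        obtain ⟨h1, h2, h3⟩ := (hS' q).1 hq
        exact ⟨ha, hspec q, by omega⟩
    refine (Finset.sum_image (fun p _ q _ h => Cyc.DimFun.fromSpecStalk_injective ζ (congrArg Prod.snd h))).trans ?_
    exact Finset.sum_congr rfl fun q _ => by simp [tm]
  rw [hL]
  -- the right hand side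
  let Na : ModuleCat.{u} (X.presheaf.stalk ζ) :=
    ModuleCat.of (X.presheaf.stalk ζ) (↑(X.presheaf.stalk ζ) ⧸ pa.asIdeal)
  let Nb : ModuleCat.{u} (X.presheaf.stalk ζ) :=
    ModuleCat.of (X.presheaf.stalk ζ) (↑(X.presheaf.stalk ζ) ⧸ pb.asIdeal)
  let Nc : ModuleCat.{u} (X.presheaf.stalk ζ) :=
    ModuleCat.of (X.presheaf.stalk ζ) (↑(X.presheaf.stalk ζ) ⧸ pc.asIdeal)
  show _ = TripleTor.phi Na Nb Nc
  have hsup : ∀ q, q ∈ Module.support (X.presheaf.stalk ζ) Na ↔ a ⤳ pt q := fun q => hspz a ha q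
  have hfin : ∀ q ∈ Vs, q ∈ Module.support (X.presheaf.stalk ζ) Na → q.asIdeal = IsLocalRing.maximalIdeal _ :=
    fun q hq h => hmax q ((hsup q).1 h) hq.1 hq.2
  have hzero : ∀ q ∈ Vs, ringKrullDim (X.presheaf.stalk ζ ⧸ q.asIdeal) < ((δ b + δ c - n - δ ζ).toNat : WithBot ℕ∞) →
      IntMult.chi (X.presheaf.stalk ζ) Na (↑(X.presheaf.stalk ζ) ⧸ q.asIdeal) = 0 := fun q hq hlt => by
    rw [hdim q] at hlt
    have hlt' : (δ (pt q) - δ ζ).toNat < (δ b + δ c - n - δ ζ).toNat := by exact_mod_cast hlt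
    have := hle q
    refine (RegSeq.chi_comm _ _).trans ?_
    exact Positive.chi_zero (K := K) pa.asIdeal q.asIdeal pa.isPrime.ne_top q.isPrime.ne_top
      (fun r hr h1 h2 => hmax ⟨r, hr⟩ ((hsup ⟨r, hr⟩).1 (by
          show (⟨r, hr⟩ : PrimeSpectrum _) ∈ Module.support _ (↑(X.presheaf.stalk ζ) ⧸ pa.asIdeal)
          rw [Module.support_eq_zeroLocus, Ideal.annihilator_quotient]
          exact h1))
        (hq.1.trans (specializes_pt h2)) (hq.2.trans (specializes_pt h2)))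
      hd (Cyc.DimFun.ringKrullDim_locQuot hdf ζ a ha) (hdim q) (by omega)
  have hexp : ∀ j : ℕ, IntMult.chi (X.presheaf.stalk ζ) Na
      (((CategoryTheory.Tor (ModuleCat.{u} (X.presheaf.stalk ζ)) j).obj Nb).obj Nc) =
        ∑ q ∈ S, ((locLen (((CategoryTheory.Tor (ModuleCat.{u} (X.presheaf.stalk ζ)) j).obj Nb).obj Nc) q).toNat : ℤ) *
          IntMult.chi (X.presheaf.stalk ζ) Na (↑(X.presheaf.stalk ζ) ⧸ q.asIdeal) := fun j => by
    haveI := H25.TorLES.finite_tor Nb j Nc inferInstance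
    refine (Additive.chi_expand Na (δ b + δ c - n - δ ζ).toNat S Vs hfin hVdim
      (fun q => (hS q).trans (and_congr_left' (hVJ q))) hzero _ fun q hq => ?_).2
    obtain ⟨h1, h2⟩ := TripleTor.support_tor Nb Nc j hq
    exact ⟨(hspz b hb q).1 h1, (hspz c hc q).1 h2⟩
  unfold TripleTor.phi
  simp only [H25.TorLES.T] at *
  refine Eq.trans ?_ (Finset.sum_congr rfl fun j _ => by rw [hexp j, Finset.mul_sum]).symm
  rw [Finset.sum_comm]
  refine Finset.sum_congr rfl fun q hq => ?_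
  obtain ⟨h1, h2, h3⟩ := (hS' q).1 hq
  have hGq : G (pt q) = IntMult.mult (ptIdeal b) (ptIdeal c) (pt q) := if_pos ⟨h1, h2, h3⟩
  have hm : IntMult.mult (ptIdeal a) (ptIdeal (pt q)) ζ =
      IntMult.chi (X.presheaf.stalk ζ) Na (↑(X.presheaf.stalk ζ) ⧸ q.asIdeal) := by
    refine (S6470.chi_ideal_congr (MultOne.stalkIdeal_ptIdeal _ ζ ha)
      ((MultOne.stalkIdeal_ptIdeal _ ζ (hspec q)).trans (congrArg PrimeSpectrum.asIdeal (hgp q)).symm)).trans ?_
    exact RegSeq.chi_comm _ _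
  rw [hGq, hm, mult_loc ζ q rfl, Finset.sum_mul]
  refine Finset.sum_congr rfl fun j _ => ?_
  have eb : IntMult.stalkIdeal (ptIdeal b) ζ = pb.asIdeal := MultOne.stalkIdeal_ptIdeal _ ζ hb
  have ec : IntMult.stalkIdeal (ptIdeal c) ζ = pc.asIdeal := MultOne.stalkIdeal_ptIdeal _ ζ hc
  rw [eb, ec, mul_assoc]
where
  specializes_pt {X : Scheme.{u}} {ζ : X} {q r : PrimeSpectrum (X.presheaf.stalk ζ)} (h : q.asIdeal ≤ r.asIdeal) :
      X.fromSpecStalk ζ q ⤳ X.fromSpecStalk ζ r :=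
    (Cyc.DimFun.fromSpecStalk_specializes_iff ζ q r).2 h


include f in
/-- Associativity at a point. -/
theorem assoc_at {δ : X → ℤ} (hX : Cyc.IsSetup X δ) {n : ℤ} (hn : δ (genericPoint X) = n) (ξU ξV ξW : X) (ζ : X)
    (hUV : ∀ z : X, z ⤳ ζ → ξU ⤳ z → ξV ⤳ z → δ z ≤ δ ξU + δ ξV - n)
    (hVW : ∀ z : X, z ⤳ ζ → ξV ⤳ z → ξW ⤳ z → δ z ≤ δ ξV + δ ξW - n)
    (hUVW : ∀ ζ : X, ξU ⤳ ζ → ξV ⤳ ζ → ξW ⤳ ζ → δ ζ ≤ δ ξU + δ ξV + δ ξW - 2 * n) :
    IntMult.interProd δ n (Set.indicator {ξU} 1) (IntMult.interProd δ n (Set.indicator {ξV} 1) (Set.indicator {ξW} 1)) ζ =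
      IntMult.interProd δ n (IntMult.interProd δ n (Set.indicator {ξU} 1) (Set.indicator {ξV} 1)) (Set.indicator {ξW} 1) ζ := by
  haveI := hX.1
  rw [interProd_comm δ n (IntMult.interProd δ n (Set.indicator {ξU} 1) (Set.indicator {ξV} 1))]
  rw [interProd_prime, interProd_prime]
  obtain ⟨z1, v1⟩ := double_eq f hX hn ξU ξV ξW hUVW ζ hVW
  obtain ⟨z2, v2⟩ := double_eq f hX hn ξW ξU ξV
    (fun z h1 h2 h3 => by have := hUVW z h2 h3 h1; omega) ζ hUV
  by_cases h : ξU ⤳ ζ ∧ ξV ⤳ ζ ∧ ξW ⤳ ζ ∧ δ ζ = δ ξU + δ ξV + δ ξW - 2 * n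
  · obtain ⟨hu, hv, hw, he⟩ := h
    haveI : IsRegularLocalRing (X.presheaf.stalk ζ) := Cyc.SmoothReg.isRegularLocalRing_stalk f ζ
    rw [v1 hu hv hw he, v2 hw hu hv (by omega)]
    refine TripleTor.phi_rot _ _ _ fun q h1 h2 h3 => ?_
    have key : ∀ (x : X) (hx : x ⤳ ζ), q ∈ Module.support (X.presheaf.stalk ζ)
        (↑(X.presheaf.stalk ζ) ⧸ (Cyc.DimFun.genPrime ζ x hx).asIdeal) → x ⤳ X.fromSpecStalk ζ q := fun x hx h => by
      rw [Module.support_eq_zeroLocus, Ideal.annihilator_quotient, PrimeSpectrum.mem_zeroLocus,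
        SetLike.coe_subset_coe] at h
      have h' := (Cyc.DimFun.fromSpecStalk_specializes_iff ζ (Cyc.DimFun.genPrime ζ x hx) q).2 h
      rwa [Cyc.DimFun.fromSpecStalk_genPrime] at h'
    have hz := hUVW _ (key ξU hu h1) (key ξV hv h2) (key ξW hw h3)
    have he' := Cyc.DimFun.eq_of_specializes_of_le hX.2.2 (Cyc.DimFun.fromSpecStalk_specializes_self ζ q) (by omega)
    exact congrArg PrimeSpectrum.asIdeal (Cyc.DimFun.fromSpecStalk_injective ζ
      (he'.trans Scheme.fromSpecStalk_closedPoint.symm : _ = X.fromSpecStalk ζ (IsLocalRing.closedPoint _)))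
  · rw [z1 h, z2 fun ⟨hw, hu, hv, he⟩ => h ⟨hu, hv, hw, by omega⟩]

/-- Let X be a nonsingular variety of dimension n and U, V, W closed subvarieties, with generic points
ξU, ξV, ξW, which intersect properly pairwise and with dim(U ∩ V ∩ W) ≤ dim U + dim V + dim W − 2n.
Then U · (V · W) = (U · V) · W as cycles on X. The prime cycle [U] is the indicator function of the
generic point ξU. Here X is a nonsingular variety over the algebraically closed field K (smooth,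
separated, quasi-compact, integral) with dimension function δ (transcendence degree over K, recorded
by Cyc.DeltaCompat to Spec K with value 0, together with Cyc.IsSetup) and n = dim X = δ of the
generic point; cycles are coefficient functions X → ℤ, proper intersection is
IntMult.IntersectProperly and α · β is the Tor-formula intersection product on coefficient functions
(IntMult.interProd). -/
theorem result (K : Type u) [Field K] [IsAlgClosed K] (X : Scheme.{u}) (f : X ⟶ Spec (CommRingCat.of K)) [Smooth f] [IsSeparated f] [QuasiCompact f] [IsIntegral X] (δ : X → ℤ) (hX : Cyc.IsSetup X δ) (hδ : Cyc.DeltaCompat f δ (fun _ => 0)) (n : ℤ) (hn : δ (genericPoint X) = n) (ξU ξV ξW : X) (hUV : IntMult.IntersectProperly δ n (Set.indicator {ξU} 1) (Set.indicator {ξV} 1)) (hVW : IntMult.IntersectProperly δ n (Set.indicator {ξV} 1) (Set.indicator {ξW} 1)) (hUW : IntMult.IntersectProperly δ n (Set.indicator {ξU} 1) (Set.indicator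 {ξW} 1)) (hUVW : ∀ ζ : X, ξU ⤳ ζ → ξV ⤳ ζ → ξW ⤳ ζ → δ ζ ≤ δ ξU + δ ξV + δ ξW - 2 * n) : IntMult.interProd δ n (Set.indicator {ξU} 1) (IntMult.interProd δ n (Set.indicator {ξV} 1) (Set.indicator {ξW} 1)) = IntMult.interProd δ n (IntMult.interProd δ n (Set.indicator {ξU} 1) (Set.indicator {ξV} 1)) (Set.indicator {ξW} 1) := by
  funext ζ
  exact assoc_at f hX hn ξU ξV ξW ζ (fun z _ h1 h2 => hUV ξU ξV z (by simp) (by simp) h1 h2)
    (fun z _ h1 h2 => hVW ξV ξW z (by simp) (by simp) h1 h2) hUVW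


end Groth.Agent.S6450
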