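import Groth.Statements.S1949
import Groth.Agent.S6450
import Groth.Agent.S1950
import Groth.Agent.S1952
import Groth.Agent.Lib.Cyc.PP.Div


set_option autoImplicit false
universe u
open CategoryTheory CategoryTheory.Limits AlgebraicGeometry
attribute [local instance] HasDerivedCategory.standard
open IntMult

namespace Groth.Agent.S1949

open Groth.Agent.Lib Groth.Agent.Lib.Cyc Groth.Agent.H19.IntMult

/-- A function supported at maximal points of a closed set is a cycle. -/
theorem exists_cycle_of_bound {X : Scheme.{u}} [IsLocallyNoetherian X] {δ : X → ℤ} (hδ : Cyc.IsDimFun X δ)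
    {T : Set X} (hT : IsClosed T) (F : X → ℤ) (hF : ∀ x, F x ≠ 0 → x ∈ T ∧ ∀ y ∈ T, y ⤳ x → δ y ≤ δ x) :
    ∃ A : AlgebraicCycle X ℤ, ⇑A = F :=
  ⟨{ toFun := F
     supportWithinDomain' := Set.subset_univ _
     supportLocallyFiniteWithinDomain' := fun z _ => by
       obtain ⟨U, hU, hzU, hfin⟩ := DimFun.exists_open_finite_maxPts hT z
       exact ⟨U, hU.mem_nhds hzU, hfin.subset fun x hx =>
         ⟨hx.1, (hF x hx.2).1, fun y hy hyx => DimFun.eq_of_specializes_of_le hδ hyx ((hF x hx.2).2 y hy hyx)⟩⟩ }, rfl⟩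

theorem exists_cond_of_ne {X : Scheme.{u}} (δ : X → ℤ) (n : ℤ) (α : X → ℤ) (b : X) (ζ : X)
    (h : IntMult.interProd δ n α (Set.indicator {b} 1) ζ ≠ 0) :
    ∃ a, α a ≠ 0 ∧ a ⤳ ζ ∧ b ⤳ ζ ∧ δ a + δ b - n = δ ζ := by
  obtain ⟨⟨⟨a, x⟩, h1, h2, h3⟩, hne⟩ := not_forall.1 fun h' => h (finsum_eq_zero_of_forall_eq_zero h')
  have e : x = b := Set.mem_singleton_iff.1
    (Set.mem_of_indicator_ne_zero (right_ne_zero_of_mul (left_ne_zero_of_mul hne)))
  subst e
  exact ⟨a, left_ne_zero_of_mul (left_ne_zero_of_mul hne), h1, h2, h3⟩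

theorem sect_natural {X Y : Scheme.{u}} (f : X ⟶ Y) (i : Fin (1 + 1)) :
    P1.sect X i ≫ P1.toP1 f = f ≫ P1.sect Y i := by
  have a1 : ∀ (Z : Scheme.{u}), P1.sect Z i ≫ pullback.fst _ _ = specULiftZIsTerminal.from Z ≫ P1.point i :=
    fun Z => pullback.lift_fst _ _ _
  have a2 : ∀ (Z : Scheme.{u}), P1.sect Z i ≫ pullback.snd _ _ = 𝟙 Z := fun Z => pullback.lift_snd _ _ _
  have b1 : P1.toP1 f ≫ pullback.fst _ _ = pullback.fst _ _ :=
    (pullback.lift_fst _ _ _).trans (Category.comp_id _)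
  have b2 : P1.toP1 f ≫ pullback.snd _ _ = pullback.snd _ _ ≫ f := pullback.lift_snd _ _ _
  apply pullback.hom_ext
  · refine (Category.assoc _ _ _).trans (((congrArg (P1.sect X i ≫ ·) b1).trans (a1 X)).trans ?_)
    refine Eq.trans ?_ ((congrArg (f ≫ ·) (a1 Y)).symm.trans (Category.assoc _ _ _).symm)
    exact (congrArg (· ≫ P1.point i) (specULiftZIsTerminal.hom_ext _ _)).trans (Category.assoc _ _ _)
  · refine (Category.assoc _ _ _).trans (((congrArg (P1.sect X i ≫ ·) b2).trans (Category.assoc _ _ _).symm).trans ?_)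
    refine Eq.trans ?_ ((congrArg (f ≫ ·) (a2 Y)).symm.trans (Category.assoc _ _ _).symm)
    exact ((congrArg (· ≫ f) (a2 X)).trans (Category.id_comp f)).trans (Category.comp_id f).symm

/-- A section of the projective line over a field is not dominant. -/
theorem exists_not_mem_range_sect {S : Scheme.{u}} [Nonempty S] (i : Fin (1 + 1)) :
    ∃ p : ↥(CohB1.ProjSpaceOver 1 S), p ∉ Set.range (P1.sect S i) := by
  obtain ⟨c⟩ := ‹Nonempty S›
  refine ⟨P1.sect S i.rev c, fun ⟨c', hc'⟩ => ?_⟩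
  obtain ⟨z, hz, -⟩ := SectDiv.exists_point (P1.sect S i.rev) i c c' hc'.symm
  have h1 := PP.P1Fib.not_mem_V_rev (P1.sect S i.rev) i z
  rw [show PP.P1Fib.q (P1.sect S i.rev) i z = c from hz] at h1
  refine h1 ?_
  obtain ⟨z', hz', -⟩ := SectDiv.exists_point (P1.sect S i.rev) i.rev c c rfl
  have h2 := PP.P1Fib.q_mem (P1.sect S i.rev) i.rev z'
  rw [show PP.P1Fib.q (P1.sect S i.rev) i.rev z' = c from hz'] at h2
  exact h2



/-- Let W → P^1_X be a closed immersion with W integral of dimension s + 1 (for the dimension function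
δP on P^1_X induced from δ) dominating P^1_K (dense image under P^1_X → P^1_K), W_0, W_∞ → X its
pullbacks along the sections at 0 and ∞, and V ⊆ X the closure of a point v with δ(v) = r, such that
[V] intersects [W_0]_s and [W_∞]_s properly. Then [V]·[W_0]_s ∼_rat [V]·[W_∞]_s as (r + s −
n)-cycles on X. (The source allows any two closed points a, b of P^1; they are taken to be 0 and ∞,
to which any two distinct closed points are carried by an automorphism of P^1 over the algebraically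
closed K.) Here X is a nonsingular variety over the algebraically closed field K (smooth, separated,
quasi-compact, integral) with dimension function δ (transcendence degree) and n = dim X; cycles are
Mathlib AlgebraicCycles with Cyc.Zk membership, proper intersection is IntMult.IntersectProperly and
α · β is the Tor-formula intersection product on coefficient functions (IntMult.interProd), bundled
where needed as 'any cycle with these coefficients'. -/
theorem result (K : Type u) [Field K] [IsAlgClosed K] (X : Scheme.{u}) (f : X ⟶ Spec (CommRingCat.of K)) [Smooth f] [IsSeparated f] [QuasiCompact f] [IsIntegral X] (δ : X → ℤ) (hX : Cyc.IsSetup X δ) (hδ : Cyc.DeltaCompat f δ (fun _ => 0)) (n : ℤ) (hn : δ (genericPoint X) = n) (δP : ↥(CohB1.ProjSpaceOver 1 X) → ℤ) (hP : Cyc.DeltaCompat (CohB1.ProjSpaceOver.toBase 1 X) δP δ) (r s : ℤ) (W : Scheme.{u}) [IsIntegral W] (ιW : W ⟶ CohB1.ProjSpaceOver 1 X) [IsClosedImmersion ιW] (hW : δP (ιW (genericPoint W)) = s +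 1) (hdom : ∀ U : (CohB1.ProjSpaceOver 1 (Spec (CommRingCat.of K))).Opens, (U : Set ↥(CohB1.ProjSpaceOver 1 (Spec (CommRingCat.of K)))).Nonempty → ∃ w : W, (ιW ≫ P1.toP1 f) w ∈ U) (v : X) (hv : δ v = r) (h0 : IntMult.IntersectProperly δ n (Set.indicator {v} 1) (Cyc.subschemeFun δ s (pullback.snd ιW (P1.sect X 0)))) (h1 : IntMult.IntersectProperly δ n (Set.indicator {v} 1) (Cyc.subschemeFun δ s (pullback.snd ιW (P1.sect X 1)))) (γ₀ γ₁ : AlgebraicCycle X ℤ) (hγ₀ : ⇑γ₀ = IntMult.interProd δ n (Set.indicator {v} 1) (Cyc.subschemeFun δ s (pullback.snd ιW (P1.sect X 0)))) (hγ₁ : ⇑γ₁ = IntMult.interProd δ n (Set.indicator {v} 1) (Cyc.subschemeFun δ s (pullback.snd ιW (P1.sect X 1)))) : Cyc.RatEquiv δ (r + s - n) γ₀ γ₁ := by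
  classical
  haveI := hX.1
  let Q : Scheme.{u} := CohB1.ProjSpaceOver 1 X
  let pr := CohB1.ProjSpaceOver.toBase 1 X
  let gQ := CohB1.ProjSpaceOver.toBase 1 X ≫ f
  haveI : QuasiCompact (CohB1.ProjSpaceOver.toBase 1 X) := inferInstance
  haveI : IsLocallyNoetherian (CohB1.ProjSpaceOver 1 X) := LocallyOfFiniteType.isLocallyNoetherian gQ
  haveI : IsIntegral (CohB1.ProjSpaceOver 1 X) := P1Bundle.isIntegral f
  have hgQ : Cyc.DeltaCompat gQ δP (fun _ => 0) := Residue.deltaCompat_comp hP hδ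
  have hQ : Cyc.IsSetup (CohB1.ProjSpaceOver 1 X) δP := ExtProd.isSetup_of_deltaCompat gQ hgQ
  have dQ := hQ.2.2
  have dX := hX.2.2
  have hQN : δP (genericPoint ↥(CohB1.ProjSpaceOver 1 X)) = n + 1 := by
    rw [P1Bundle.delta_genericPoint hP, hn]
  set ξW := ιW (genericPoint W) with hξW
  obtain ⟨ζV, hζV, -, hζmax, -⟩ := P1Bundle.exists_gen v
  have hζV2 : δP ζV = r + 1 := by
    rw [P1Bundle.shift hP ζV hζmax, hζV, hv]; rfl
  let z : Fin (1 + 1) → ↥(CohB1.ProjSpaceOver 1 X) := fun i => P1.sect X i (genericPoint X)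
  have hz : ∀ i, δP (z i) = n := fun i => by rw [P1Bundle.delta_sect hP, hn]
  have hprs : ∀ i c, pr (P1.sect X i c) = c := fun i c => by
    rw [← Scheme.Hom.comp_apply, P1Bundle.sect_toBase]; rfl
  have hsect : ∀ i ζ, z i ⤳ ζ → ∃ c, P1.sect X i c = ζ := fun i ζ h =>
    ((P1.sect X i).isClosedEmbedding.isClosed_range.closure_subset_iff.2
      (Set.singleton_subset_iff.2 ⟨_, rfl⟩) : closure {z i} ⊆ Set.range (P1.sect X i)) h.mem_closure
  have hzs : ∀ i c, z i ⤳ P1.sect X i c := fun i c => (genericPoint_specializes c).map (P1.sect X i).continuous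
  have hnotsect : ∀ i, ξW ∉ Set.range (P1.sect X i) := fun i ⟨c, hc⟩ => by
    obtain ⟨p, hp⟩ := exists_not_mem_range_sect (S := Spec (CommRingCat.of K)) i
    obtain ⟨w, hw⟩ := hdom ⟨(Set.range (P1.sect (Spec (CommRingCat.of K)) i))ᶜ,
      (P1.sect (Spec (CommRingCat.of K)) i).isClosedEmbedding.isClosed_range.isOpen_compl⟩ ⟨p, hp⟩
    refine hw ?_
    have h1 : ξW ⤳ ιW w := (genericPoint_specializes w).map ιW.continuous
    obtain ⟨c', hc'⟩ : ιW w ∈ Set.range (P1.sect X i) :=
      (((P1.sect X i).isClosedEmbedding.isClosed_range.closure_subset_iff.2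
        (Set.singleton_subset_iff.2 ⟨c, hc⟩) : closure {ξW} ⊆ Set.range (P1.sect X i))) h1.mem_closure
    refine ⟨f c', ?_⟩
    rw [Scheme.Hom.comp_apply, ← hc', ← Scheme.Hom.comp_apply, ← Scheme.Hom.comp_apply, sect_natural]
  have hle : ∀ i w, δ (pullback.snd ιW (P1.sect X i) w) ≤ s := fun i w => by
    have h2 : ξW ⤳ P1.sect X i (pullback.snd ιW (P1.sect X i) w) := by
      rw [← SectDiv.sect_snd ιW i w]
      exact (genericPoint_specializes _).map ιW.continuous
    rw [← P1Bundle.delta_sect hP i]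
    rcases eq_or_ne ξW (P1.sect X i (pullback.snd ιW (P1.sect X i) w)) with h | h
    · exact absurd ⟨_, h.symm⟩ (hnotsect i)
    · have := DimFun.lt_of_specializes dQ h2 h
      rw [hW] at this
      omega
  have hfib : ∀ i c, ξW ⤳ P1.sect X i c → ∃ w, pullback.snd ιW (P1.sect X i) w = c := fun i c h => by
    obtain ⟨v', hv'⟩ := (ιW.isClosedEmbedding.isClosed_range.closure_subset_iff.2
      (Set.singleton_subset_iff.2 ⟨_, rfl⟩) : closure {ξW} ⊆ Set.range ιW) h.mem_closure
    obtain ⟨w, -, hw⟩ := SectDiv.exists_point ιW i v' c hv'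
    exact ⟨w, hw⟩
  have hWS : ∀ i ζ, ξW ⤳ ζ → z i ⤳ ζ → δP ζ ≤ s := fun i ζ h1 h2 => by
    obtain ⟨c, rfl⟩ := hsect i ζ h2
    obtain ⟨w, rfl⟩ := hfib i c h1
    rw [P1Bundle.delta_sect hP]
    exact hle i w
  have hI : ∀ i, IntMult.IntersectProperly δ n (Set.indicator {v} 1)
      (Cyc.subschemeFun δ s (pullback.snd ιW (P1.sect X i))) := fun i => by
    fin_cases i
    · exact h0
    · exact h1
  have htriple : ∀ i ζ, ξW ⤳ ζ → z i ⤳ ζ → ζV ⤳ ζ → δP ζ ≤ r + s - n := fun i ζ h1 h2 h4 => by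
    obtain ⟨c, rfl⟩ := hsect i ζ h2
    obtain ⟨w, rfl⟩ := hfib i c h1
    obtain ⟨w₀, hw₀, hd, hpos⟩ := SectDiv.exists_component ιW hX hP hW i (hle i) w
    rw [P1Bundle.delta_sect hP]
    have hsp := hw₀.map (pullback.snd ιW (P1.sect X i)).continuous
    have hne : Cyc.subschemeFun δ s (pullback.snd ιW (P1.sect X i)) (pullback.snd ιW (P1.sect X i) w₀) ≠ 0 := by
      rw [Cyc.subschemeFun, if_pos hd,
        show {z | pullback.snd ιW (P1.sect X i) z = pullback.snd ιW (P1.sect X i) w₀} = {w₀} from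
          Set.ext fun z => (pullback.snd ιW (P1.sect X i)).isClosedEmbedding.injective.eq_iff,
        finsum_mem_singleton]
      exact_mod_cast hpos.ne'
    have hp := h4.map pr.continuous
    rw [hprs, show pr ζV = v from hζV] at hp
    have := hI i v _ _ (by simp) hne hp hsp
    rw [hv, hd] at this
    exact this
  -- near the sections the intersection is proper
  have hnear : ∀ i c z', z' ⤳ P1.sect X i c → ξW ⤳ z' → ζV ⤳ z' → δP z' ≤ r + s - n + 1 := fun i c z' h h1 h2 => by
    by_cases hz' : z' ∈ Set.range (P1.sect X i)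
    · obtain ⟨c', rfl⟩ := hz'
      have := htriple i _ h1 (hzs i c') h2
      omega
    obtain ⟨Z, hZ, ιZ, hιZ, rfl⟩ := ExtProd.exists_subvariety z'
    have hleZ : ∀ w, δ (pullback.snd ιZ (P1.sect X i) w) ≤ δP (ιZ (genericPoint Z)) - 1 := fun w => by
      have h3 : ιZ (genericPoint Z) ⤳ P1.sect X i (pullback.snd ιZ (P1.sect X i) w) := by
        rw [← SectDiv.sect_snd ιZ i w]
        exact (genericPoint_specializes _).map ιZ.continuous
      rw [← P1Bundle.delta_sect hP i]
      have := DimFun.lt_of_specializes dQ h3 fun e => hz' ⟨_, e.symm⟩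
      omega
    obtain ⟨v', hv'⟩ := (ιZ.isClosedEmbedding.isClosed_range.closure_subset_iff.2
      (Set.singleton_subset_iff.2 ⟨_, rfl⟩) : closure {ιZ (genericPoint Z)} ⊆ Set.range ιZ) h.mem_closure
    obtain ⟨w, -, -⟩ := SectDiv.exists_point ιZ i v' c hv'
    obtain ⟨w₀, -, hd, -⟩ := SectDiv.exists_component ιZ hX hP (r := δP (ιZ (genericPoint Z)) - 1) (by omega) i hleZ w
    have h3 : ιZ (genericPoint Z) ⤳ P1.sect X i (pullback.snd ιZ (P1.sect X i) w₀) := by
      rw [← SectDiv.sect_snd ιZ i w₀]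
      exact (genericPoint_specializes _).map ιZ.continuous
    have := htriple i _ (h1.trans h3) (hzs i _) (h2.trans h3)
    rw [P1Bundle.delta_sect hP, hd] at this
    omega
  -- the family of cycles
  let F : ↥(CohB1.ProjSpaceOver 1 X) → ℤ := fun ζ =>
    if ∃ i c, ζ ⤳ P1.sect X i c then
      IntMult.interProd δP (n + 1) (Set.indicator {ξW} 1) (Set.indicator {ζV} 1) ζ else 0
  have hF : ∀ ζ, F ζ ≠ 0 → δP ζ = r + s - n + 1 ∧ ξW ⤳ ζ ∧ ζV ⤳ ζ ∧ ∃ i c, ζ ⤳ P1.sect X i c := fun ζ h => by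
    simp only [F] at h
    split_ifs at h with hc
    · obtain ⟨a, ha, h1, h2, h3⟩ := exists_cond_of_ne _ _ _ _ _ h
      have e : a = ξW := Set.mem_singleton_iff.1 (Set.mem_of_indicator_ne_zero ha)
      subst e
      rw [hζV2, hW] at h3
      exact ⟨by omega, h1, h2, hc⟩
    · exact absurd rfl h
  obtain ⟨G, hG⟩ := exists_cycle_of_bound dQ (isClosed_closure.inter isClosed_closure : IsClosed (closure {ξW} ∩ closure {ζV}))
    F fun x hx => by
      obtain ⟨e1, e2, e3, i, c, e4⟩ := hF x hx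
      refine ⟨⟨e2.mem_closure, e3.mem_closure⟩, fun y hy hyx => ?_⟩
      rw [e1]
      exact hnear i c y (hyx.trans e4) (specializes_iff_mem_closure.2 hy.1) (specializes_iff_mem_closure.2 hy.2)
  have hGk : G ∈ Cyc.Zk _ δP (r + s - n + 1) := fun x hx => by_contra fun h => hx (hF x (by rwa [hG] at h)).1
  obtain ⟨b, hb⟩ : ∃ b : AlgebraicCycle X ℤ, ⇑b = Set.indicator {v} 1 :=
    exists_cycle_of_bound dX (T := closure {v}) isClosed_closure _ fun x hx => by
      have e : x = v := Set.mem_singleton_iff.1 (Set.mem_of_indicator_ne_zero hx)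
      subst e
      exact ⟨subset_closure rfl, fun y hy _ => DimFun.le_of_specializes dX (specializes_iff_mem_closure.2 hy)⟩
  have hbk : b ∈ Cyc.Zk X δ r := fun x hx => by
    rw [congrFun hb x, Set.indicator_of_notMem]
    exact fun h => hx (by rw [show x = v from h, hv])
  have hpull : Cyc.pullFun pr δP δ ((1 : ℕ) : ℤ) (Set.indicator {v} 1) = Set.indicator {ζV} 1 :=
    P1Bundle.pullFun_indicator dQ hP v ζV hζV (by rw [hζV2, hv])
  have hGS : ∀ i, IntMult.IntersectProperly δP (n + 1) ⇑G (Set.indicator {z i} 1) := fun i a c ζ ha hc h1 h2 => by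
    rw [hG] at ha
    obtain ⟨e1, e2, e3, -⟩ := hF a ha
    have e : c = z i := Set.mem_singleton_iff.1 (Set.mem_of_indicator_ne_zero hc)
    subst e
    have := htriple i ζ (e2.trans h1) h2 (e3.trans h1)
    rw [e1, hz]
    omega
  -- the two products
  have main : ∀ i, ∃ B : AlgebraicCycle (CohB1.ProjSpaceOver 1 X) ℤ,
      ⇑B = IntMult.interProd δP (n + 1) ⇑G (Set.indicator {z i} 1) ∧
      ⇑(AlgebraicCycle.map pr δP δ B) =
        IntMult.interProd δ n (Set.indicator {v} 1) (Cyc.subschemeFun δ s (pullback.snd ιW (P1.sect X i))) := fun i => by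
    obtain ⟨A, hA, hpush⟩ := Groth.Agent.S1952.exists_cycle ιW gQ dQ hP hn hW i (hle i)
    have hAk : A ∈ Cyc.Zk _ δP s := fun x hx => by_contra fun h => by
      rw [hA] at h
      obtain ⟨a, ha, -, -, h3⟩ := exists_cond_of_ne _ _ _ _ _ h
      rw [show a = ξW from Set.mem_singleton_iff.1 (Set.mem_of_indicator_ne_zero ha), hW, hz] at h3
      exact hx (by omega)
    have hAne : ∀ a, A a ≠ 0 → δP a = s ∧ ξW ⤳ a ∧ z i ⤳ a := fun a ha => by
      rw [hA] at ha
      obtain ⟨a', ha', e2, e3, h3⟩ := exists_cond_of_ne _ _ _ _ _ ha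
      have e := Set.mem_singleton_iff.1 (Set.mem_of_indicator_ne_zero ha')
      subst e
      rw [hW, hz] at h3
      exact ⟨by omega, e2, e3⟩
    have hprop : IntMult.IntersectProperly δP (n + 1) ⇑A (Cyc.pullFun pr δP δ ((1 : ℕ) : ℤ) ⇑b) :=
      fun a c ζ ha hc h1 h2 => by
        rw [hb, hpull] at hc
        obtain ⟨e1, e2, e3⟩ := hAne a ha
        have e : c = ζV := Set.mem_singleton_iff.1 (Set.mem_of_indicator_ne_zero hc)
        subst e
        have := htriple i ζ (e2.trans h1) (e3.trans h1) h2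
        rw [e1, hζV2]
        omega
    obtain ⟨B, hB⟩ := exists_cycle_of_bound dQ
      ((isClosed_closure.inter isClosed_closure).inter isClosed_closure :
        IsClosed (closure {ξW} ∩ closure {z i} ∩ closure {ζV}))
      (IntMult.interProd δP (n + 1) ⇑A (Cyc.pullFun pr δP δ ((1 : ℕ) : ℤ) ⇑b)) fun x hx => by
        rw [hb, hpull] at hx
        obtain ⟨a, ha, h1, h2, h3⟩ := exists_cond_of_ne _ _ _ _ _ hx
        obtain ⟨e1, e2, e3⟩ := hAne a ha
        refine ⟨⟨⟨(e2.trans h1).mem_closure, (e3.trans h1).mem_closure⟩, h2.mem_closure⟩, fun y hy _ => ?_⟩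
        have := htriple i y (specializes_iff_mem_closure.2 hy.1.1) (specializes_iff_mem_closure.2 hy.1.2)
          (specializes_iff_mem_closure.2 hy.2)
        rw [e1, hζV2] at h3
        omega
    have hproj := Groth.Agent.S1950.result K (CohB1.ProjSpaceOver 1 X) X pr gQ f rfl δP δ hQ hX hgQ hδ hP
      (n + 1) n hQN hn 1 (by omega) P1Bundle.hasRelDim s r A b hAk hbk hprop B hB
    refine ⟨B, ?_, by rw [← hproj.2, hb, hpush]; exact Groth.Agent.S6450.interProd_comm _ _ _ _⟩
    funext ζ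
    rw [congrFun hB ζ, hb, hpull, hA, Groth.Agent.S6450.interProd_comm δP (n + 1) _ (Set.indicator {ζV} 1)]
    by_cases hc : z i ⤳ ζ
    · obtain ⟨c, rfl⟩ := hsect i ζ hc
      rw [Groth.Agent.S6450.assoc_at gQ hQ hQN ζV ξW (z i) _
        (fun z' h h1 h2 => by have := hnear i c z' h h2 h1; rw [hζV2, hW]; omega)
        (fun z' h h1 h2 => by have := hWS i z' h1 h2; rw [hz, hW]; omega)
        (fun z' h1 h2 h3 => by have := htriple i z' h2 h3 h1; rw [hζV2, hW, hz]; omega),
        Groth.Agent.S6450.interProd_comm δP (n + 1) (Set.indicator {ζV} 1) (Set.indicator {ξW} 1), hG]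
      refine finsum_congr fun p => ?_
      rw [show F p.1.1 = IntMult.interProd δP (n + 1) (Set.indicator {ξW} 1) (Set.indicator {ζV} 1) p.1.1 from
        if_pos ⟨i, c, p.2.1⟩]
    · have h1 : ∀ α' : _ → ℤ, IntMult.interProd δP (n + 1) α' (Set.indicator {z i} 1) ζ = 0 := fun α' => by
        by_contra h
        obtain ⟨-, -, -, h2, -⟩ := exists_cond_of_ne _ _ _ _ _ h
        exact hc h2
      rw [h1]
      refine finsum_eq_zero_of_forall_eq_zero fun p => ?_
      by_contra h
      have h2 := right_ne_zero_of_mul (left_ne_zero_of_mul h)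
      exact hc ((hAne p.1.2 (by rw [hA]; exact h2)).2.2.trans p.2.2.1)
  obtain ⟨B₀, hB₀, hp₀⟩ := main 0
  obtain ⟨B₁, hB₁, hp₁⟩ := main 1
  have hk := Groth.Agent.S1952.result K X f δ hX hδ n hn δP hQ hP (r + s - n) G hGk (hGS 0) (hGS 1) (B₀ - B₁)
    (by rw [Function.locallyFinsuppWithin.coe_sub, hB₀, hB₁])
  unfold Cyc.RatEquiv
  suffices e : γ₀ - γ₁ = AlgebraicCycle.map pr δP δ (B₀ - B₁) by rwa [e]
  refine Function.locallyFinsuppWithin.ext fun x => ?_
  rw [PP.Div.map_sub_apply, Function.locallyFinsuppWithin.coe_sub, Pi.sub_apply, congrFun hγ₀ x, congrFun hγ₁ x,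
    congrFun hp₀ x, congrFun hp₁ x]


end Groth.Agent.S1949
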