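import Groth.Statements.S9690
import Groth.Agent.H21.NormalizationUP

set_option autoImplicit false
universe u
open CategoryTheory CategoryTheory.Limits AlgebraicGeometry
open Mor

namespace Groth.Agent.S9690

/-- Part (4): for an integral scheme X: let g : Z ⟶ X be a morphism from a normal scheme Z such that
every irreducible component of Z dominates X, i.e. every generic point of an irreducible component
of Z maps to the generic point of X. Then g factors uniquely through the normalization X^ν ⟶ X. (The
published statement allows X with locally finitely many irreducible components; this row takes X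
integral.) (The quasi-compactness and quasi-separatedness binders on Spec K(X) ⟶ X always hold; they
are only needed to form the normalization.) -/
theorem result (X : Scheme.{u}) [IsIntegral X] [QuasiCompact (X.fromSpecStalk (genericPoint ↥X))] [QuasiSeparated (X.fromSpecStalk (genericPoint ↥X))]
    {Z : Scheme.{u}} (g : Z ⟶ X) (hZ : Pi1.IsNormalScheme Z)
    (hdom : ∀ z : Z, closure {z} ∈ irreducibleComponents ↥Z → g.base z = genericPoint ↥X) :
    ∃! h : Z ⟶ Curv2.normalization X, h ≫ Curv2.normalizationι X = g := by
  refine H21.NormalizationUP.existsUnique_lift g fun z => ⟨(hZ z).1, (hZ z).2, ?_⟩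
  have hirr := isIrreducible_irreducibleComponent (x := z)
  let z₀ := hirr.genericPoint
  have hcl : closure {z₀} = irreducibleComponent z := by
    rw [hirr.closure_genericPoint isClosed_irreducibleComponent]
  have hz₀ : z₀ ⤳ z := by
    rw [specializes_iff_mem_closure, hcl]; exact mem_irreducibleComponent
  have hη : g z₀ = genericPoint X := hdom z₀ (hcl ▸ irreducibleComponent_mem_irreducibleComponents z)
  have hsp : g z₀ ⤳ g z := hz₀.map g.continuous
  have hfield : IsField (X.presheaf.stalk (g z₀)) := by
    rw [hη]; exact Field.toIsField X.functionField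
  refine (injective_iff_map_eq_zero (g.stalkMap z).hom).mpr fun u hu => ?_
  obtain ⟨V, hzV, a, rfl⟩ := TopCat.Presheaf.germ_exist X.presheaf u
  have h1 : g.stalkMap z₀ (X.presheaf.stalkSpecializes hsp (X.presheaf.germ V (g z) hzV a)) = 0 := by
    rw [← CommRingCat.comp_apply, Scheme.Hom.stalkSpecializes_stalkMap g z₀ z hz₀, CommRingCat.comp_apply]
    erw [hu, map_zero]
  rw [TopCat.Presheaf.germ_stalkSpecializes_apply] at h1
  have : Nontrivial (Z.presheaf.stalk z₀) := (hZ z₀).1.toNontrivial
  let : Field (X.presheaf.stalk (g z₀)) := hfield.toField
  have h2 : X.presheaf.germ V (g z₀) (hsp.mem_open V.isOpen hzV) a = 0 :=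
    (RingHom.injective (g.stalkMap z₀).hom) (h1.trans (map_zero _).symm)
  have h3 : a = 0 := AlgebraicGeometry.germ_injective_of_isIntegral X _ _ (h2.trans (map_zero _).symm)
  rw [h3, map_zero]

end Groth.Agent.S9690
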