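import Groth.Statements.S19492
import Groth.Agent.H22.AffineCompl11382.Embed
import Groth.Agent.H26.BirationalZMT
import Groth.Agent.Lib.ProjSpace.BaseChange
import Groth.Agent.Lib.Ample.RelAmple
import Groth.Agent.S1496
import Groth.Agent.S2351
import Groth.Agent.S5949
import Groth.Agent.S9674
import Groth.Agent.S9690
import Groth.Agent.S0566
import Groth.Agent.H25.NagataStalk

set_option autoImplicit false
universe u
open CategoryTheory AlgebraicGeometry
open Variety

namespace Groth.Agent.S19492

open CategoryTheory CategoryTheory.Limits AlgebraicGeometry Groth.Agent.Lib in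
theorem exists_proj {k : Type u} [Field k] {X : Scheme.{u}} (g : X ⟶ Spec (CommRingCat.of k)) [IsProper g]
    (L : X.Modules) (hL : CohB1.IsAmple L) :
    ∃ (n : ℕ) (c : X ⟶ CohB1.ProjSpace n k), IsClosedImmersion c ∧ c ≫ CohB1.ProjSpace.toSpec n k = g := by
  obtain ⟨n, i, hi, hig⟩ := (Groth.Agent.S1496.result (S := Spec (CommRingCat.of k))
    ⟨_, Ample.RelAmple.isAmple_of_isAffine (PicLoc.isInvertible_structureModule _)⟩ g).1.2 ⟨inferInstance, L, hL⟩
  refine ⟨n, i ≫ (ProjSpace.BaseChange.overSpecIso n k).hom, inferInstance, ?_⟩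
  rw [Category.assoc, ProjSpace.BaseChange.overSpecIso_hom_toSpec]
  exact hig

open CategoryTheory CategoryTheory.Limits AlgebraicGeometry in
theorem isOpenImmersion_of_normal {X N : Scheme.{u}} [IsIntegral X] [IsIntegral N] (l : X ⟶ N) [IsImmersion l]
    [LocallyOfFiniteType l] (hN : Pi1.IsNormalScheme N) (hgen : l (genericPoint X) = genericPoint N)
    (hbir : IsIso (l.stalkMap (genericPoint X))) : IsOpenImmersion l := by
  have h : ∀ x : X, IsIso (l.stalkMap x) ∧ ∃ U : N.Opens, l x ∈ U ∧ (U : Set N) ⊆ Set.range l := by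
    intro x
    obtain ⟨U, W, e, hxW, hiso⟩ := Groth.Agent.H26.BirationalZMT.exists_isIso_resLE (f := l) hgen hbir x
      (hN _).2 (l.quasiFiniteAt x)
    haveI := hiso
    have he : W.ι ≫ l = l.resLE U W e ≫ U.ι := (Scheme.Hom.resLE_comp_ι l e).symm
    refine ⟨?_, U, e hxW, fun y hy => ?_⟩
    · haveI : IsOpenImmersion (W.ι ≫ l) := by rw [he]; infer_instance
      have h2 : IsIso ((W.ι ≫ l).stalkMap ⟨x, hxW⟩) := inferInstance
      rw [Scheme.Hom.stalkMap_comp] at h2
      exact @IsIso.of_isIso_comp_right _ _ _ _ _ (l.stalkMap (W.ι ⟨x, hxW⟩)) (W.ι.stalkMap _) inferInstance h2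
    · obtain ⟨w, hw⟩ := (l.resLE U W e).surjective ⟨y, hy⟩
      refine ⟨W.ι w, ?_⟩
      rw [← Scheme.Hom.comp_apply, he, Scheme.Hom.comp_apply, hw]
      rfl
  haveI : ∀ x, IsIso (l.stalkMap x) := fun x => (h x).1
  refine IsOpenImmersion.of_isIso_stalkMap l ⟨l.isEmbedding, isOpen_iff_forall_mem_open.2 ?_⟩
  rintro _ ⟨x, rfl⟩
  obtain ⟨-, U, hU, hUr⟩ := h x
  exact ⟨U, hUr, U.2, hU⟩


/-- Over an algebraically closed field k, let X be an irreducible affine variety (an integral affine
k-scheme of finite type). Then X is an open subvariety of an irreducible projective variety: there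
are an integral k-scheme Y admitting a closed immersion over k into a projective space Pⁿ_k and an
open immersion j : X → Y over k. If X is normal (every local ring an integrally closed domain), then
Y can be chosen normal as well. -/
theorem result (k : Type u) [Field k]
    [IsAlgClosed k] (X : Scheme.{u}) (f : X ⟶ Spec (CommRingCat.of k)) [IsAffine X]
    [AlgebraicGeometry.IsIntegral X] [LocallyOfFiniteType f] :
    ∃ (Y : Scheme.{u}) (g : Y ⟶ Spec (CommRingCat.of k)) (n : ℕ) (c : Y ⟶ CohB1.ProjSpace n k)
      (j : X ⟶ Y), AlgebraicGeometry.IsIntegral Y ∧ IsClosedImmersion c ∧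
      c ≫ CohB1.ProjSpace.toSpec n k = g ∧ IsOpenImmersion j ∧ j ≫ g = f ∧
      (Pi1.IsNormalScheme X → Pi1.IsNormalScheme Y) := by
  obtain ⟨P, gP, j, K, σ, _, _, _, _, hj, hK, -, hint⟩ :=
    Groth.Agent.H22.AffineCompl11382.exists_affine_compactification f
  haveI : IsIntegral P := hint inferInstance
  by_cases hX : Pi1.IsNormalScheme X
  swap
  · obtain ⟨n, c, hc, hcg⟩ := exists_proj gP K hK
    exact ⟨P, gP, n, c, j, inferInstance, hc, hcg, inferInstance, hj, fun h => absurd h hX⟩
  let g := P.fromSpecStalk (genericPoint P)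
  have : Subsingleton (Spec (P.presheaf.stalk (genericPoint P))) :=
    inferInstanceAs (Subsingleton (PrimeSpectrum P.functionField))
  have : AlgebraicGeometry.IsIntegral (Spec P.functionField) := inferInstance
  have : AlgebraicGeometry.IsReduced (Spec (P.presheaf.stalk (genericPoint P))) :=
    inferInstanceAs (AlgebraicGeometry.IsReduced (Spec P.functionField))
  haveI : IsLocallyNoetherian P := LocallyOfFiniteType.isLocallyNoetherian gP
  haveI : CompactSpace P := QuasiCompact.compactSpace_of_compactSpace gP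
  haveI : IsNoetherian P := ⟨⟩
  have hP : ∀ V : P.affineOpens, CAlg.IsNagata Γ(P, V.1) := by
    intro V
    have hle : V.1 ≤ gP ⁻¹ᵁ ⊤ := le_top
    let := ((Scheme.ΓSpecIso (CommRingCat.of k)).inv ≫ gP.appLE ⊤ V.1 hle).hom.toAlgebra
    have : Algebra.FiniteType k Γ(P, V.1) := by
      refine RingHom.finiteType_algebraMap.1 ?_
      exact (gP.finiteType_appLE (isAffineOpen_top _) V.2 hle).comp
        (RingHom.FiniteType.of_surjective (Scheme.ΓSpecIso (CommRingCat.of k)).inv.hom
          (ConcreteCategory.bijective_of_isIso (Scheme.ΓSpecIso (CommRingCat.of k)).inv).2)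
    exact Groth.Agent.S0566.result k (Groth.Agent.H25.NagataStalk.isNagata_field k) _
  haveI : IsFinite (Curv2.normalizationι P) := by
    refine Groth.Agent.S9674.result g hP (locallyFinite_of_finite _) fun y _ => ?_
    refine RingHom.FiniteType.essFiniteType (RingHom.FiniteType.of_surjective _ ?_)
    intro a
    obtain ⟨a, rfl⟩ := Scheme.residue_surjective _ y a
    obtain ⟨d, rfl⟩ := g.stalkMap_surjective y a
    exact ⟨P.residue (g y) d, DFunLike.congr_fun (congrArg CommRingCat.Hom.hom (Scheme.residue_residueFieldMap g y)) d⟩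
  obtain ⟨_, hn, -, -⟩ := Groth.Agent.S2351.result P
  obtain ⟨_, _, _, hfib, hst⟩ := (Groth.Agent.S5949.result P (Curv2.normalizationι P)).1
    ⟨CategoryTheory.Iso.refl _, Category.id_comp _⟩
  have hjg : j (genericPoint X) = genericPoint P := genericPoint_eq_of_isOpenImmersion j
  obtain ⟨l, hl, -⟩ := Groth.Agent.S9690.result P j hX (fun z hz => by
    have : closure ({z} : Set X) = Set.univ := by
      rw [irreducibleComponents_eq_singleton] at hz
      exact hz
    rw [show z = genericPoint X from (show IsGenericPoint z Set.univ from this).eq (genericPoint_spec X)]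
    exact hjg)
  let ν := Curv2.normalizationι P
  have hlν : l ≫ ν = j := hl
  haveI : IsImmersion (l ≫ ν) := by rw [hlν]; infer_instance
  haveI : IsImmersion l := IsImmersion.of_comp l ν
  haveI : LocallyOfFiniteType (l ≫ ν) := by rw [hlν]; infer_instance
  haveI : LocallyOfFiniteType l := locallyOfFiniteType_of_comp l ν
  have hlg : l (genericPoint X) = genericPoint (Curv2.normalization P) := by
    have : l (genericPoint X) ∈ ν.base ⁻¹' {genericPoint P} := by
      show ν (l (genericPoint X)) = genericPoint P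
      rw [← Scheme.Hom.comp_apply, hlν]
      exact hjg
    rw [hfib] at this
    exact this
  have hlst : IsIso (l.stalkMap (genericPoint X)) := by
    have h : IsIso ((l ≫ ν).stalkMap (genericPoint X)) := by rw [hlν]; infer_instance
    rw [Scheme.Hom.stalkMap_comp] at h
    haveI : IsIso (ν.stalkMap (l.base (genericPoint X))) := by rw [hlg]; exact hst
    exact @IsIso.of_isIso_comp_left _ _ _ _ _ (ν.stalkMap (l.base (genericPoint X))) _ inferInstance h
  haveI : IsOpenImmersion l := isOpenImmersion_of_normal l hn hlg hlst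
  obtain ⟨n, c, hc, hcg⟩ := exists_proj (ν ≫ gP) _ (Groth.Agent.Lib.Ample.Pullback.isAmple_pullback ν
    (Groth.Agent.Lib.Ample.Pullback.isQuasiAffine_of_isAffineHom ν) hK)
  exact ⟨_, ν ≫ gP, n, c, l, inferInstance, hc, hcg, inferInstance,
    by rw [← Category.assoc, hlν, hj], fun _ => hn⟩

end Groth.Agent.S19492
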