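import Groth.Statements.S19493
import Groth.Agent.Lib.AssPt.FlatDom
import Groth.Agent.Lib.StCurv.CohenMacaulay
-- import your own Groth.Agent.* helpers here

set_option autoImplicit false
universe u
open CategoryTheory AlgebraicGeometry
open EtHull

namespace Groth.Agent.S19493

/-- Let f : S' → S be a morphism of locally Noetherian schemes which is integral, radicial (universally
injective) and surjective, and which matches embedded points: a point s' of S' is an embedded
associated point of O_{S'} (an associated point that is a proper specialization of another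
associated point) if and only if f(s') is an embedded associated point of O_S. Let a : X → S be
faithfully flat, g : E → S étale and u : X → E a morphism with u ≫ g = a, so that X → E → S is a
factorization of a through an étale S-scheme. Let E' → S' be the base change of g along f, with
projection φ : E' → E, and u' : X' → E' the base change of u along φ (so X' = X ×_S S'). Then u is
scheme-theoretically dominant if and only if u' is. (The source allows algebraic spaces; schemes
here.) -/
theorem result {X E S S' E' X' : Scheme.{u}}
    [IsLocallyNoetherian S] [IsLocallyNoetherian S'] (f : S' ⟶ S) [IsIntegralHom f]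
    [UniversallyInjective f] [Surjective f]
    (hemb : ∀ s' : S', (s' ∈ AssSch.Ass (Coh.structureModule S') ∧ ∃ t ∈ AssSch.Ass (Coh.structureModule S'), t ⤳ s' ∧ t ≠ s') ↔
      (f.base s' ∈ AssSch.Ass (Coh.structureModule S) ∧ ∃ t ∈ AssSch.Ass (Coh.structureModule S), t ⤳ f.base s' ∧ t ≠ f.base s'))
    (a : X ⟶ S) [Flat a] [Surjective a] (g : E ⟶ S) [Etale g] (u : X ⟶ E) (hu : u ≫ g = a)
    (g' : E' ⟶ S') (φ : E' ⟶ E) (hE : IsPullback φ g' g f)
    (u' : X' ⟶ E') (ψ : X' ⟶ X) (hX : IsPullback ψ u' u φ) :
    IsSchemeTheoreticallyDominant u ↔ IsSchemeTheoreticallyDominant u' := by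
  subst hu
  haveI : Flat u := Groth.Agent.Lib.StCurv.flat_of_comp_etale u g
  haveI : Flat u' := MorphismProperty.of_isPullback (P := @Flat) hX inferInstance
  haveI : IsLocallyNoetherian E := LocallyOfFiniteType.isLocallyNoetherian g
  haveI : Etale g' := MorphismProperty.of_isPullback (P := @Etale) hE inferInstance
  haveI : IsLocallyNoetherian E' := LocallyOfFiniteType.isLocallyNoetherian g'
  haveI : IsIntegralHom φ := MorphismProperty.of_isPullback (P := @IsIntegralHom) hE.flip inferInstance
  haveI : UniversallyInjective φ :=
    MorphismProperty.of_isPullback (P := @UniversallyInjective) hE.flip inferInstance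
  haveI : Surjective φ := MorphismProperty.of_isPullback (P := @Surjective) hE.flip inferInstance
  have homeo : ∀ {A B : Scheme.{u}} (k : A ⟶ B) [IsIntegralHom k] [UniversallyInjective k]
      [Surjective k], IsHomeomorph k.base := fun k _ _ _ =>
    isHomeomorph_iff_continuous_isClosedMap_bijective.2
      ⟨k.continuous, k.isClosedMap, k.injective, k.surjective⟩
  have key : ∀ e : E', Groth.Agent.Lib.AssPt.Basic.MaxAssoc (E'.presheaf.stalk e) ↔
      Groth.Agent.Lib.AssPt.Basic.MaxAssoc (E.presheaf.stalk (φ e)) := fun e => by
    rw [Groth.Agent.Lib.AssPt.FlatDom.maxAssoc_iff_of_etale g' e,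
      Groth.Agent.Lib.AssPt.FlatDom.maxAssoc_iff_of_etale g (φ e)]
    have h1 := Groth.Agent.Lib.AssPt.FlatDom.maxAssoc_iff_of_homeo ((homeo f).homeomorph _)
      (fun s' => by
        have h0 := hemb s'
        simp only [AssSch.Ass, Set.mem_setOf_eq,
          Groth.Agent.Lib.AssPt.Basic.isAssPoint_structure_iff] at h0
        exact h0) (g' e)
    rw [h1, ← Scheme.Hom.comp_apply φ g, hE.w, Scheme.Hom.comp_apply]
    rfl
  rw [Groth.Agent.Lib.AssPt.FlatDom.isSchemeTheoreticallyDominant_iff_of_flat,
    Groth.Agent.Lib.AssPt.FlatDom.isSchemeTheoreticallyDominant_iff_of_flat]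
  constructor
  · intro h e he
    obtain ⟨x, hx⟩ := h (φ e) ((key e).1 he)
    obtain ⟨x', -, hx'⟩ := Scheme.Pullback.exists_preimage_pullback (f := u) (g := φ) x e hx
    refine ⟨hX.isoPullback.inv x', ?_⟩
    rw [← Scheme.Hom.comp_apply, hX.isoPullback_inv_snd]
    exact hx'
  · intro h e he
    obtain ⟨e', rfl⟩ := φ.surjective e
    obtain ⟨x', hx'⟩ := h e' ((key e').2 he)
    exact ⟨ψ x', by rw [← Scheme.Hom.comp_apply, hX.w, Scheme.Hom.comp_apply, hx']⟩

end Groth.Agent.S19493
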