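import Groth.Statements.S19494
import Groth.Agent.Lib.EtHull9.Finest
-- import your own Groth.Agent.* helpers here

set_option autoImplicit false
open CategoryTheory AlgebraicGeometry
universe u
open EtHull

namespace Groth.Agent.S19494

/-- Let S be a Noetherian scheme all of whose local rings are geometrically unibranch and whose
structure sheaf has no embedded associated points, and let f : X → S be flat, surjective and of
finite presentation. Call an admissible factorization a factorization X → E → S of f with E → S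
étale and affine and X → E scheme-theoretically dominant. Then any two admissible factorizations X →
E₁ → S and X → E₂ → S have an infimum: an admissible factorization X → E → S together with
compatible S-morphisms E₁ → E and E₂ → E, such that every admissible factorization X → E' → S
receiving compatible S-morphisms E₁ → E' and E₂ → E' admits a compatible morphism E → E'. (The
source allows X to be an algebraic space; X is a scheme here.) -/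
theorem result {X S : Scheme.{u}} [IsNoetherian S]
    (hS : ∀ s : S, CAlg2.IsGeomUnibranch (S.presheaf.stalk s))
    (hemb : AssSch.NoEmbedded (Coh.structureModule S))
    (f : X ⟶ S) [Flat f] [Surjective f] [LocallyOfFinitePresentation f] [QuasiCompact f]
    [QuasiSeparated f]
    (E₁ E₂ : Scheme.{u}) (g₁ : E₁ ⟶ S) (g₂ : E₂ ⟶ S) (u₁ : X ⟶ E₁) (u₂ : X ⟶ E₂)
    [Etale g₁] [Etale g₂] [IsAffineHom g₁] [IsAffineHom g₂]
    [IsSchemeTheoreticallyDominant u₁] [IsSchemeTheoreticallyDominant u₂]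
    (h₁ : u₁ ≫ g₁ = f) (h₂ : u₂ ≫ g₂ = f) :
    ∃ (E : Scheme.{u}) (g : E ⟶ S) (u : X ⟶ E) (v₁ : E₁ ⟶ E) (v₂ : E₂ ⟶ E),
      Etale g ∧ IsAffineHom g ∧ IsSchemeTheoreticallyDominant u ∧ u ≫ g = f ∧
      u₁ ≫ v₁ = u ∧ u₂ ≫ v₂ = u ∧ v₁ ≫ g = g₁ ∧ v₂ ≫ g = g₂ ∧
      ∀ (E' : Scheme.{u}) (g' : E' ⟶ S) (u' : X ⟶ E') (w₁ : E₁ ⟶ E') (w₂ : E₂ ⟶ E'),
        Etale g' → IsAffineHom g' → IsSchemeTheoreticallyDominant u' → u' ≫ g' = f →
        u₁ ≫ w₁ = u' → u₂ ≫ w₂ = u' → w₁ ≫ g' = g₁ → w₂ ≫ g' = g₂ →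
        ∃ w : E ⟶ E', u ≫ w = u' ∧ v₁ ≫ w = w₁ ∧ v₂ ≫ w = w₂ := by
  let A₁ : Groth.Agent.Lib.EtHull9.Fac f :=
    ⟨E₁, g₁, u₁, inferInstance, inferInstance, inferInstance, h₁⟩
  let A₂ : Groth.Agent.Lib.EtHull9.Fac f :=
    ⟨E₂, g₂, u₂, inferInstance, inferInstance, inferInstance, h₂⟩
  obtain ⟨T, hT⟩ := Groth.Agent.Lib.EtHull9.exists_trivial (f := f)
  obtain ⟨A, ⟨⟨a₁⟩, ⟨a₂⟩⟩, hA⟩ := Groth.Agent.Lib.EtHull9.exists_finest (f := f) hemb
    (fun A => Nonempty (Groth.Agent.Lib.EtHull9.Fac.Hom A₁ A) ∧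
      Nonempty (Groth.Agent.Lib.EtHull9.Fac.Hom A₂ A))
    ⟨T, hT A₁, hT A₂⟩ fun A B hA hB => by
      obtain ⟨C, hCA, hCB, huniv⟩ := Groth.Agent.Lib.EtHull9.exists_sup hS hemb A B
      exact ⟨C, ⟨huniv A₁ hA.1.some hB.1.some, huniv A₂ hA.2.some hB.2.some⟩, hCA, hCB⟩
  refine ⟨A.E, A.g, A.u, a₁.v, a₂.v, A.etale, A.affine, A.dom, A.fac, a₁.hu, a₂.hu, a₁.hg, a₂.hg,
    fun E' g' u' w₁ w₂ hg hg' hdom hu' hw₁ hw₂ hw₁' hw₂' => ?_⟩
  let B : Groth.Agent.Lib.EtHull9.Fac f := ⟨E', g', u', hg, hg', hdom, hu'⟩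
  let b₁ : Groth.Agent.Lib.EtHull9.Fac.Hom A₁ B := ⟨w₁, hw₁, hw₁'⟩
  let b₂ : Groth.Agent.Lib.EtHull9.Fac.Hom A₂ B := ⟨w₂, hw₂, hw₂'⟩
  obtain ⟨h⟩ := hA B ⟨⟨b₁⟩, ⟨b₂⟩⟩
  refine ⟨h.v, h.hu, ?_, ?_⟩
  · exact Groth.Agent.Lib.EtHull9.Fac.hom_ext
      (⟨a₁.v ≫ h.v, by rw [← Category.assoc, a₁.hu, h.hu], by rw [Category.assoc, h.hg, a₁.hg]⟩ :
        Groth.Agent.Lib.EtHull9.Fac.Hom A₁ B) b₁
  · exact Groth.Agent.Lib.EtHull9.Fac.hom_ext
      (⟨a₂.v ≫ h.v, by rw [← Category.assoc, a₂.hu, h.hu], by rw [Category.assoc, h.hg, a₂.hg]⟩ :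
        Groth.Agent.Lib.EtHull9.Fac.Hom A₂ B) b₂

end Groth.Agent.S19494
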