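import Groth.Statements.S19497
import Groth.Agent.Lib.PluriCan.Basic
import Groth.Agent.Lib.Cube.SeesawCons

set_option autoImplicit false
universe u
open CategoryTheory CategoryTheory.Limits AlgebraicGeometry
open Canon

namespace Groth.Agent.S19497

/-- Let S be a locally Noetherian scheme and f : X ⟶ S a locally projective morphism, smooth of relative
dimension n, whose fibres are non-empty and geometrically connected; let ω be an n-th exterior power
of the sheaf of relative differentials of f (the relative canonical sheaf K_{X/S}) and m ≥ 1 an
integer such that K^{⊗m} is trivial on fibres: for every point s of S the restriction of K^{⊗m} to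
the fibre X_s is isomorphic to O_{X_s}. Assume S is reduced. Then the evaluation map f^* f_* K^{⊗m}
⟶ K^{⊗m}, the counit of the adjunction between pullback and pushforward of modules, is an
isomorphism. (The published statement has f projective and smooth of possibly varying relative
dimension; here f is taken locally projective of constant relative dimension n.) -/
theorem result
    {X S : Scheme.{u}} [IsLocallyNoetherian S] (f : X ⟶ S)
    (hproj : RedSub.IsLocallyProjective (Over.mk f))
    (n : ℕ) [SmoothOfRelativeDimension n f] [GeometricallyConnected f]
    (ω : X.Modules) (hω : Canon.IsTopDiff f n ω) (m : ℕ) (hm : 1 ≤ m)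
    (htriv : ∀ s : ↥S, Nonempty ((Scheme.Modules.pullback (f.fiberι s)).obj (CohB1.tensorPow ω m) ≅
      Coh.structureModule (f.fiber s))) [AlgebraicGeometry.IsReduced S] :
    IsIso ((Scheme.Modules.pullbackPushforwardAdjunction f).counit.app (CohB1.tensorPow ω m)) := by
  obtain ⟨hp, hfl, hX, hsu, hH⟩ := Groth.Agent.Lib.PluriCan.smooth_setup f hproj n
  haveI := hp; haveI := hfl; haveI := hX; haveI := hsu
  have hL := Groth.Agent.Lib.PluriCan.isInvertible_pow f n hω m
  obtain ⟨M, hM, ⟨e⟩⟩ := Groth.Agent.Lib.Cube.SeesawGlobal.exists_of_fibres f hH (CohB1.tensorPow ω m) hL htriv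
  exact (Groth.Agent.Lib.Cube.SeesawCons.counit_of_pullback f
    (Groth.Agent.H2.Rigid.push_of_flat f hH) hM e).2

end Groth.Agent.S19497
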