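import Groth.Statements.S19498
import Groth.Agent.Lib.ExchangeFP29.Evaluation
import Groth.Agent.Lib.CurveFF.Consts
import Groth.Agent.Lib.Cyc.CH.DetAtlas
import Groth.Agent.Lib.FundLocal.Rank
import Groth.Agent.Lib.ProjSpace.BaseChange
import Groth.Agent.Lib.TensorMod.FPConv
import Groth.Agent.Lib.Cube.FamCx
import Groth.Agent.Lib.Curves.LES
import Groth.Agent.H2.Rigid.PushFlat

set_option autoImplicit false
universe u
open CategoryTheory CategoryTheory.Limits AlgebraicGeometry
open Canon

namespace Groth.Agent.S19498

/-- Let S be a locally Noetherian scheme and f : X ⟶ S a locally projective morphism, smooth of relative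
dimension n, whose fibres are non-empty and geometrically connected; let ω be an n-th exterior power
of the sheaf of relative differentials of f (the relative canonical sheaf K_{X/S}) and m ≥ 1 an
integer such that K^{⊗m} is trivial on fibres: for every point s of S the restriction of K^{⊗m} to
the fibre X_s is isomorphic to O_{X_s}. Assume H^1(X_s, O_{X_s}) = 0 for every point s of S. Then
the evaluation map f^* f_* K^{⊗m} ⟶ K^{⊗m}, the counit of the adjunction between pullback and
pushforward of modules, is an isomorphism. (The published statement has f projective and smooth of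
possibly varying relative dimension; here f is taken locally projective of constant relative
dimension n.) -/
theorem result
    {X S : Scheme.{u}} [IsLocallyNoetherian S] (f : X ⟶ S)
    (hproj : RedSub.IsLocallyProjective (Over.mk f))
    (n : ℕ) [SmoothOfRelativeDimension n f] [GeometricallyConnected f]
    (ω : X.Modules) (hω : Canon.IsTopDiff f n ω) (m : ℕ) (hm : 1 ≤ m)
    (htriv : ∀ s : ↥S, Nonempty ((Scheme.Modules.pullback (f.fiberι s)).obj (CohB1.tensorPow ω m) ≅
      Coh.structureModule (f.fiber s)))
    (hH1 : ∀ s : ↥S, Subsingleton (Coh.HH (f.fiber s) (Coh.structureModule (f.fiber s)) 1)) :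
    IsIso ((Scheme.Modules.pullbackPushforwardAdjunction f).counit.app (CohB1.tensorPow ω m)) := by
  open Groth.Agent.Lib in
  have hproper : IsProper f := by
    choose V hV N e he hcomp using hproj
    refine IsZariskiLocalAtTarget.of_iSup_eq_top V
      (top_unique fun s _ => TopologicalSpace.Opens.mem_iSup.2 ⟨s, hV s⟩) fun s => ?_
    have := he s
    have : IsProper (Red.bc (V s).ι (Over.mk f)).hom := by
      rw [← hcomp s]
      infer_instance
    have : IsProper (pullback.snd f (V s).ι) := this
    rw [← (isPullback_morphismRestrict f (V s)).flip.isoPullback_hom_snd]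
    infer_instance
  open Groth.Agent.Lib in
  have : Smooth f := SmoothOfRelativeDimension.smooth n f
  have : GeometricallyReduced f := ⟨fun K _ y P p q h => by
    have : Smooth q := MorphismProperty.of_isPullback h ‹Smooth f›
    exact GrpSch.isReduced_of_smooth_field q⟩
  let L := CohB1.tensorPow ω m
  obtain ⟨A⟩ := Groth.Agent.Lib.Cyc.CH.nonempty_detAtlas_of_isExtPow
    (Groth.Agent.Lib.FundLocal.Rank.isFinLocFreeOfRank_omega f n) hω
  have hL : PicF.IsInvertible L :=
    Groth.Agent.Lib.TensorMod.Invertible.isInvertible_tensorPow
      A.isInvertible m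
  have hF : CohB1.IsFP L := Groth.Agent.Lib.TensorMod.FPConv.isFP_of_isFinLocFree
    (Groth.Agent.Lib.TensorMod.LocFree.of_rank (Groth.Agent.Lib.TensorMod.LocFree.of_isInvertible hL))
  have : L.IsQuasicoherent :=
    have : SheafOfModules.IsFinitePresentation (R := X.ringCatSheaf) L := hF
    inferInstance
  have hfl : FlatMod.IsFlatOver f L := Groth.Agent.Lib.Cube.FamCx.isFlatOver_of_isInvertible f hL
  have : HasInjectiveResolutions X.Modules := inferInstance
  have h1 : ∀ s, CohIII.fiberRank f L 1 s = 0 := fun s => by
    let : (f.fiber s).Over (Spec (CommRingCat.of (S.residueField s))) :=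
      ⟨f.fiberToSpecResidueField s⟩
    obtain ⟨φ⟩ := htriv s
    have := hH1 s
    exact (Groth.Agent.Lib.ExchangeFP29.Main.fiberRank_eq_zero_iff f L hF s 1).2
      (Groth.Agent.Lib.Curves.LES.isoK (S.residueField s) φ 1).toEquiv.subsingleton
  have h0 : ∀ s, CohIII.fiberRank f L 0 s = 1 := fun s => by
    let : (f.fiber s).Over (Spec (CommRingCat.of (S.residueField s))) :=
      ⟨f.fiberToSpecResidueField s⟩
    obtain ⟨φ⟩ := htriv s
    have : IsProper (f.fiber s ↘ Spec (CommRingCat.of (S.residueField s))) :=
      inferInstanceAs (IsProper (pullback.snd f _))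
    have : Smooth (f.fiber s ↘ Spec (CommRingCat.of (S.residueField s))) :=
      inferInstanceAs (Smooth (pullback.snd f _))
    have : GeometricallyConnected (f.fiber s ↘ Spec (CommRingCat.of (S.residueField s))) :=
      inferInstanceAs (GeometricallyConnected (pullback.snd f _))
    exact (Groth.Agent.Lib.Curves.LES.isoK (S.residueField s) φ 0).finrank_eq.trans
      (Groth.Agent.Lib.CurveFF.finrank_h0_eq_one (S.residueField s) (f.fiber s))
  exact (Groth.Agent.Lib.ExchangeFP29.Evaluation.isIso_counit f
    (Groth.Agent.H2.Rigid.PushFlat.push_of_flat_fp f (Groth.Agent.H2.Rigid.H0.of_geometrically f))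
    hF hfl hL h0 h1 htriv).2

end Groth.Agent.S19498
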