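import Groth.Statements.S19499
import Groth.Agent.S8656
import Groth.Agent.S9787
import Groth.Agent.H26.RegKinds
import Groth.Agent.Lib.BlowBC85.Basic
import Groth.Agent.Lib.ProjSpace.BaseChange
import Groth.Agent.Lib.Cyc.PP.P1Fib
import Groth.Agent.Lib.AlmostBlowUp.Basic
-- import your own Groth.Agent.* helpers here

set_option autoImplicit false
universe u
open CategoryTheory CategoryTheory.Limits AlgebraicGeometry
open IntTh

namespace Groth.Agent.S19499

set_option linter.style.haveILetI false

open Groth.Agent.Lib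

/-- Formation of M commutes with base change: let f : X ⟶ S be locally projective, flat, surjective and
locally of finite presentation, with every fibre of local dimension n at each of its points, and let
i : Y ⟶ X be a closed immersion that is regular of constant codimension c ≤ n (locally cut out by a
regular sequence of length c) such that Y ⟶ S is again locally projective, flat, surjective and
locally of finite presentation with fibres of local dimension n − c everywhere. Let b : M ⟶ P¹_X be
a blowing-up of P¹_X in the closed subscheme Y × {∞} (the image of Y under the section at infinity),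
given through its universal property. Let S' ⟶ S be any morphism, X' = X ×_S S' and Y' = Y ×_S S'
the base changes with the induced closed immersion i' : Y' ⟶ X', and M' = M ×_{P¹_X} P¹_{X'} with
projection b' : M' ⟶ P¹_{X'} (so M' = M ×_S S'). Then b' is a blowing-up of P¹_{X'} in Y' × {∞}: the
formation of the deformation to the normal cone commutes with arbitrary base change on S. -/
theorem result
    {S S' X X' Y Y' M M' : Scheme.{u}} (f : X ⟶ S) (n c : ℕ) (hc : c ≤ n)
    (hfproj : RedSub.IsLocallyProjective (Over.mk f))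
    [Flat f] [Surjective f] [LocallyOfFinitePresentation f]
    (hfdim : ∀ x : ↥X, FlatMor.fibreDimAt f x = n)
    (i : Y ⟶ X) [IsClosedImmersion i]
    (hi : RegImm.IsRegularImmersionOfCodim RegImm.Kind.regular c i)
    (hgproj : RedSub.IsLocallyProjective (Over.mk (i ≫ f)))
    [Flat (i ≫ f)] [Surjective (i ≫ f)] [LocallyOfFinitePresentation (i ≫ f)]
    (hgdim : ∀ y : ↥Y, FlatMor.fibreDimAt (i ≫ f) y = ((n - c : ℕ) : WithBot ℕ∞))
    (b : M ⟶ CohB1.ProjSpaceOver 1 X)
    (hb : BlowUp.IsBlowUp b (i ≫ P1.sect X 1).ker)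
    (h : S' ⟶ S) (f' : X' ⟶ S') (g : X' ⟶ X) (hX : IsPullback g f' f h)
    (i' : Y' ⟶ X') (gY : Y' ⟶ Y) (hY : IsPullback gY i' i g)
    (b' : M' ⟶ CohB1.ProjSpaceOver 1 X') (μ : M' ⟶ M) (hM : IsPullback μ b' b (P1.toP1 g)) :
    BlowUp.IsBlowUp b' (i' ≫ P1.sect X' 1).ker := by
  haveI : Smooth (CohB1.ProjSpaceOver.toBase 1 X) := ProjSpace.BaseChange.smooth_toBase 1 X
  have hsect : ∀ Z : Scheme.{u}, P1.sect Z 1 ≫ CohB1.ProjSpaceOver.toBase 1 Z = 𝟙 Z :=
    fun Z => pullback.lift_snd _ _ _
  have hs : RegImm.IsRegularImmersion .koszul (P1.sect X 1) :=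
    S8656.result (𝟙 X) (S9787.isKoszulAt_of_smooth (𝟙 X)) (CohB1.ProjSpaceOver.toBase 1 X) _
      (hsect X)
  have hi' : RegImm.IsRegularImmersion .koszul i := ⟨hi.1, fun y => by
    obtain ⟨U, h1, h2, rs, -, h3, h4⟩ := hi.2 y
    exact ⟨U, h1, h2, rs, H26.RegKinds.koszul_of_regular rs h3, h4⟩⟩
  have hk : RegImm.IsRegularImmersion .koszul (i ≫ P1.sect X 1) :=
    (Synt92.KRImm.isRegularImmersion_iff _).2 ⟨inferInstance, fun y => by
      obtain ⟨n₁, h₁⟩ := ((Synt92.KRImm.isRegularImmersion_iff _).1 hs).2 (i y)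
      obtain ⟨n₂, h₂⟩ := ((Synt92.KRImm.isRegularImmersion_iff _).1 hi').2 y
      exact ⟨_, Synt92.KRImm.atN_comp _ i y h₁ h₂⟩⟩
  have hbase : IsPullback (P1.toP1 g) (CohB1.ProjSpaceOver.toBase 1 X')
      (CohB1.ProjSpaceOver.toBase 1 X) g := by
    have e : P1.toP1 g = ProjSpace.BaseChange.overMap 1 g := by
      refine pullback.hom_ext ?_ ?_ <;>
        simp [P1.toP1, pullback.map, ProjSpace.BaseChange.overMap, pullback.lift_fst, pullback.lift_snd]
    rw [e]
    exact ProjSpace.BaseChange.isPullback_overMap 1 g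
  have hsq : IsPullback g (P1.sect X' 1) (P1.sect X 1) (P1.toP1 g) := by
    refine IsPullback.of_bot ?_ ?_ hbase
    · rw [hsect, hsect]
      exact IsPullback.of_vert_isIso ⟨by simp⟩
    · have hs1 : ∀ Z : Scheme.{u}, P1.sect Z 1 ≫ pullback.fst _ _ =
          specULiftZIsTerminal.from Z ≫ P1.point 1 := fun Z => pullback.lift_fst _ _ _
      have ht1 : P1.toP1 g ≫ pullback.fst _ _ = pullback.fst _ _ :=
        (pullback.lift_fst _ _ _).trans (Category.comp_id _)
      have ht2 : P1.toP1 g ≫ pullback.snd _ _ = pullback.snd _ _ ≫ g := pullback.lift_snd _ _ _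
      refine pullback.hom_ext ?_ ?_
      · refine (Category.assoc _ _ _).trans ?_
        refine Eq.trans ?_ (Category.assoc _ _ _).symm
        refine (congrArg (g ≫ ·) (hs1 X)).trans ?_
        refine Eq.trans ?_ ((congrArg (P1.sect X' 1 ≫ ·) ht1).trans (hs1 X')).symm
        refine (Category.assoc _ _ _).symm.trans (congrArg (· ≫ P1.point 1) ?_)
        exact specULiftZIsTerminal.hom_ext _ _
      · refine (Category.assoc _ _ _).trans ?_
        refine Eq.trans ?_ (Category.assoc _ _ _).symm
        refine (congrArg (g ≫ ·) (hsect X)).trans ?_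
        refine Eq.trans ?_ ((congrArg (P1.sect X' 1 ≫ ·) ht2).trans
          ((Category.assoc _ _ _).symm.trans (congrArg (· ≫ g) (hsect X')))).symm
        simp
  haveI : Flat ((i ≫ P1.sect X 1) ≫ CohB1.ProjSpaceOver.toBase 1 X ≫ f) := by
    rw [Category.assoc, reassoc_of% (hsect X)]
    infer_instance
  have hker := AlmostBlowUp.Basic.ker_of_isPullback (hY.paste_vert hsq)
  rw [hker]
  exact BlowBC85.isBlowUp_of_isPullback hk (CohB1.ProjSpaceOver.toBase 1 X ≫ f)
    (hbase.paste_vert hX) hb hM

end Groth.Agent.S19499
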