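import Groth.Statements.S19500
import Groth.Agent.Lib.LefPen45.TPoints


set_option autoImplicit false
universe u
open Cubic

namespace Groth.Agent.S19500

open Groth.Agent.Lib.LefPen45

/-- Let K be an algebraically closed field of characteristic zero and S = V(F) ⊂ P^3_K a cubic surface
(F homogeneous of degree 3) which is irreducible and not a cone (no nonzero vector v has Σ_i v_i
∂F/∂x_i = 0). For a nonzero vector b with F(b) = 0 write ℓ_b = Σ_i ∂F/∂x_i(b) · x_i for the linear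
form of the tangent plane at b; call b a T-point when b is a smooth point of S (some ∂F/∂x_i(b) ≠ 0)
and F is congruent modulo ℓ_b to a product of three linear forms (the plane cubic T_b S ∩ S is
set-theoretically a union of lines). Let a be a smooth point of S which is not a T-point and H ⊂ K^4
the hyperplane ℓ_a = 0 (the tangent plane T_a S). Then T_a S contains only finitely many T-points of
S: the set of one-dimensional subspaces U ≤ H all of whose nonzero vectors are T-points is finite. -/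
theorem result (K : Type u) [Field K] [IsAlgClosed K]
    [CharZero K] (F : MvPolynomial (Fin 4) K) (hF : F.IsHomogeneous 3) (hirr : Irreducible F)
    (hcone : ¬ ∃ v : Fin 4 → K, v ≠ 0 ∧ ∑ i : Fin 4, v i • MvPolynomial.pderiv i F = 0)
    (tp : (Fin 4 → K) → Prop)
    (htp : ∀ b : Fin 4 → K, tp b ↔ (b ≠ 0 ∧ MvPolynomial.eval b F = 0 ∧
      (∃ i : Fin 4, MvPolynomial.eval b (MvPolynomial.pderiv i F) ≠ 0) ∧
      ∃ L₁ L₂ L₃ : MvPolynomial (Fin 4) K, L₁.IsHomogeneous 1 ∧ L₂.IsHomogeneous 1 ∧ L₃.IsHomogeneous 1 ∧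
        F - L₁ * L₂ * L₃ ∈ Ideal.span {∑ i : Fin 4,
          MvPolynomial.C (MvPolynomial.eval b (MvPolynomial.pderiv i F)) * MvPolynomial.X i}))
    (a : Fin 4 → K) (haF : MvPolynomial.eval a F = 0)
    (hsm : ∃ i : Fin 4, MvPolynomial.eval a (MvPolynomial.pderiv i F) ≠ 0) (ha : ¬ tp a)
    (H : Submodule K (Fin 4 → K))
    (hH : ∀ x : Fin 4 → K, x ∈ H ↔ MvPolynomial.eval x (∑ i : Fin 4,
      MvPolynomial.C (MvPolynomial.eval a (MvPolynomial.pderiv i F)) * MvPolynomial.X i) = 0) :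
    Set.Finite {U : Submodule K (Fin 4 → K) | Module.finrank K ↥U = 1 ∧ U ≤ H ∧
      ∀ b ∈ U, b ≠ 0 → tp b} := by
  have hF' : TPoints.Good F := by
    refine ⟨hF, hirr, fun v hv => ?_⟩
    by_contra hcon
    push Not at hcon
    refine hcone ⟨v, hv, MvPolynomial.funext fun x => ?_⟩
    simp only [map_sum, MvPolynomial.smul_eval, map_zero]
    rw [Trilinear.grad_eq hF, hcon x, mul_zero]
  have hsmT : ∀ b : Fin 4 → K, (∃ i : Fin 4, MvPolynomial.eval b (MvPolynomial.pderiv i F) ≠ 0) ↔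
      ∃ y, Trilinear.T F b b y ≠ 0 := fun b => by
    have := Trilinear.singular_iff hF b
    constructor
    · rintro ⟨i, hi⟩; by_contra h; push Not at h; exact hi (this.2 h i)
    · rintro ⟨y, hy⟩; by_contra h; push Not at h; exact hy (this.1 h y)
  let φ : (Fin 4 → K) → ((Fin 4 → K) →ₗ[K] K) := fun b => (3 : K) • Trilinear.lin F b b
  have hℓ : ∀ b, TPoints.lf (φ b) = ∑ i : Fin 4,
      MvPolynomial.C (MvPolynomial.eval b (MvPolynomial.pderiv i F)) * MvPolynomial.X i := fun b =>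
    Finset.sum_congr rfl fun i _ => by simp [φ, Trilinear.eval_pderiv_eq hF]
  have hmem : ∀ b x, x ∈ LinearMap.ker (φ b) ↔ Trilinear.T F b b x = 0 := fun b x => by simp [φ]
  have hfwd : ∀ b, tp b → TPoints.TP F b := fun b hb => by
    obtain ⟨hb0, hFb, hs, L₁, L₂, L₃, h₁, h₂, h₃, hm⟩ := (htp b).1 hb
    obtain ⟨f₁, hf₁⟩ := TPoints.eq_lf h₁
    obtain ⟨f₂, hf₂⟩ := TPoints.eq_lf h₂
    obtain ⟨f₃, hf₃⟩ := TPoints.eq_lf h₃
    refine ⟨hb0, by rw [← Trilinear.eval_eq hF]; exact hFb, (hsmT b).1 hs, ![f₁, f₂, f₃], fun x hx => ?_⟩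
    obtain ⟨G, hG⟩ := Ideal.mem_span_singleton.1 hm
    have := congrArg (MvPolynomial.eval x) hG
    rw [← hℓ, map_mul, TPoints.eval_lf, show φ b x = 0 by simp [φ, hx], zero_mul, map_sub,
      sub_eq_zero, Trilinear.eval_eq hF, map_mul, map_mul] at this
    simp [this, hf₁, hf₂, hf₃]
  have ha0 : a ≠ 0 := by
    rintro rfl
    obtain ⟨y, hy⟩ := (hsmT 0).1 hsm
    exact hy (Trilinear.zero1 _ _)
  have hFa : Trilinear.T F a a a = 0 := by rw [← Trilinear.eval_eq hF]; exact haF
  have haT : ¬ TPoints.TP F a := fun ⟨_, _, hs, L, hL⟩ => ha ((htp a).2 ⟨ha0, haF, hsm,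
    TPoints.lf (L 0), TPoints.lf (L 1), TPoints.lf (L 2), TPoints.lf_isHomogeneous _,
    TPoints.lf_isHomogeneous _, TPoints.lf_isHomogeneous _, by
      rw [Ideal.mem_span_singleton, ← hℓ]
      refine TPoints.dvd_of_vanish ?_ fun x hx => ?_
      · intro h0
        obtain ⟨y, hy⟩ := hs
        exact hy (by simpa [φ] using congrArg (fun f => f y) h0)
      · rw [map_sub, map_mul, map_mul, Trilinear.eval_eq hF, TPoints.eval_lf, TPoints.eval_lf,
          TPoints.eval_lf, hL x ((hmem a x).1 hx), sub_self]⟩)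
  refine (TPoints.finite_TP hF' haT ha0 hFa ((hsmT a).1 hsm)).subset ?_
  rintro U ⟨hU1, hUH, hU⟩
  refine ⟨hU1, fun x hx => ?_, fun b hb hb0 => hfwd b (hU b hb hb0)⟩
  have := (hH x).1 (hUH hx)
  rw [← hℓ, TPoints.eval_lf] at this
  simpa [φ] using this


end Groth.Agent.S19500
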