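import Groth.Statements.S19501
import Groth.Agent.Lib.ClProd85.Main
-- import your own Groth.Agent.* helpers here

set_option autoImplicit false
universe u
open CategoryTheory MonoidalCategory CartesianMonoidalCategory AlgebraicGeometry CategoryTheory.Limits
open Cyc

namespace Groth.Agent.S19501

open Groth.Agent.Lib.ClProd85

/-- Over an algebraically closed field k, let X and Y be normal irreducible varieties (integral normal
separated k-schemes of finite type) and assume X rational: some nonempty open subscheme of X is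
isomorphic over k to an open subscheme of an affine space 𝔸ⁿ_k. Fix dimension functions δX, δY, δP
on X, Y and P = X ×_k Y (each scheme locally Noetherian with universally catenary local rings), with
δP induced from δX along the first projection and from δY along the second, and generic points ηX,
ηY, ηP; write dX = δX(ηX), dY = δY(ηY), dP = δP(ηP), so that codimension-one cycles are the (d −
1)-cycles and the projections are flat of relative δ-dimensions dP − dX and dP − dY. Then the map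
(α, β) ↦ p₁^*α + p₂^*β from Cl(X) × Cl(Y) to Cl(X × Y) is bijective: (surjectivity) every (dP −
1)-cycle γ on P is rationally equivalent to a cycle with coefficient function p₁^*α + p₂^*β for some
(dX − 1)-cycle α on X and (dY − 1)-cycle β on Y; (injectivity) if such a cycle p₁^*α + p₂^*β is
rationally equivalent to zero then α and β are rationally equivalent to zero. -/
theorem result (k : Type u) [Field k] [IsAlgClosed k]
    (X Y : Over (Spec (CommRingCat.of k))) [AlgebraicGeometry.IsIntegral X.left] [IsSeparated X.hom]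
    [LocallyOfFiniteType X.hom] [QuasiCompact X.hom]
    [AlgebraicGeometry.IsIntegral Y.left] [IsSeparated Y.hom] [LocallyOfFiniteType Y.hom] [QuasiCompact Y.hom]
    (hX : Pi1.IsNormalScheme X.left) (hY : Pi1.IsNormalScheme Y.left)
    (hrat : ∃ (U : X.left.Opens) (n : ℕ) (V : (𝔸(ULift.{u} (Fin n); Spec (CommRingCat.of k))).Opens)
      (e : (U : Scheme.{u}) ≅ (V : Scheme.{u})), (U : Set ↥X.left).Nonempty ∧
        e.hom ≫ V.ι ≫ (𝔸(ULift.{u} (Fin n); Spec (CommRingCat.of k)) ↘ Spec (CommRingCat.of k)) = U.ι ≫ X.hom)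
    (δX : ↥X.left → ℤ) (δY : ↥Y.left → ℤ) (δP : ↥(X ⊗ Y).left → ℤ)
    (hsX : Cyc.IsSetup X.left δX) (hsY : Cyc.IsSetup Y.left δY) (hsP : Cyc.IsSetup (X ⊗ Y).left δP)
    (hc₁ : Cyc.DeltaCompat (fst X Y).left δP δX) (hc₂ : Cyc.DeltaCompat (snd X Y).left δP δY)
    (ηX : ↥X.left) (ηY : ↥Y.left) (ηP : ↥(X ⊗ Y).left)
    (hηX : closure ({ηX} : Set ↥X.left) = Set.univ) (hηY : closure ({ηY} : Set ↥Y.left) = Set.univ)
    (hηP : closure ({ηP} : Set ↥(X ⊗ Y).left) = Set.univ) :
    (∀ γ ∈ Cyc.Zk (X ⊗ Y).left δP (δP ηP - 1),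
      ∃ α ∈ Cyc.Zk X.left δX (δX ηX - 1), ∃ β ∈ Cyc.Zk Y.left δY (δY ηY - 1),
        ∃ γ' : AlgebraicCycle (X ⊗ Y).left ℤ,
          (∀ z, γ' z = Cyc.pullFun (fst X Y).left δP δX (δP ηP - δX ηX) α z +
            Cyc.pullFun (snd X Y).left δP δY (δP ηP - δY ηY) β z) ∧
          Cyc.RatEquiv δP (δP ηP - 1) γ γ') ∧
    (∀ α ∈ Cyc.Zk X.left δX (δX ηX - 1), ∀ β ∈ Cyc.Zk Y.left δY (δY ηY - 1),
      ∀ γ' : AlgebraicCycle (X ⊗ Y).left ℤ,
        (∀ z, γ' z = Cyc.pullFun (fst X Y).left δP δX (δP ηP - δX ηX) α z +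
            Cyc.pullFun (snd X Y).left δP δY (δP ηP - δY ηY) β z) →
        Cyc.RatEquivZero δP (δP ηP - 1) γ' →
        Cyc.RatEquivZero δX (δX ηX - 1) α ∧ Cyc.RatEquivZero δY (δY ηY - 1) β) := by
  haveI := lft_prod X Y; haveI := isIntegral_prod X Y; haveI := compact_prod X Y
  haveI : CompactSpace X.left := (quasiCompact_iff_compactSpace X.hom).mp inferInstance
  haveI : CompactSpace Y.left := (quasiCompact_iff_compactSpace Y.hom).mp inferInstance
  obtain rfl : ηX = genericPoint X.left := (show IsGenericPoint ηX Set.univ from hηX).eq (genericPoint_spec _)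
  obtain rfl : ηY = genericPoint Y.left := (show IsGenericPoint ηY Set.univ from hηY).eq (genericPoint_spec _)
  obtain rfl : ηP = genericPoint (X ⊗ Y).left := (show IsGenericPoint ηP Set.univ from hηP).eq (genericPoint_spec _)
  obtain ⟨U₀, n, V, e, hUne, he⟩ := hrat
  haveI : Nonempty (U₀ : Scheme.{u}) := hUne.to_subtype
  let U : Var k := Over.mk (U₀.ι ≫ X.hom)
  haveI : Nonempty U.left := inferInstanceAs (Nonempty (U₀ : Scheme.{u}))
  haveI : AlgebraicGeometry.IsIntegral U.left := isIntegral_of_isOpenImmersion U₀.ι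
  haveI : LocallyOfFiniteType U.hom := inferInstanceAs (LocallyOfFiniteType (U₀.ι ≫ X.hom))
  let a : U ⟶ X := Over.homMk U₀.ι rfl
  let b : U ⟶ AW k n := Over.homMk (e.hom ≫ V.ι) ((Category.assoc _ _ _).trans he)
  haveI : IsOpenImmersion a.left := inferInstanceAs (IsOpenImmersion U₀.ι)
  haveI : IsOpenImmersion b.left := inferInstanceAs (IsOpenImmersion (e.hom ≫ V.ι))
  haveI := isLocallyNoetherian (X ⊗ Y)
  let s := mkSq X Y
  have key : ∀ {Z W P : Var k} (q : Sq P Z W) (δZ : Z.left → ℤ) (δp : P.left → ℤ),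
      Cyc.IsDimFun Z.left δZ → Cyc.IsDimFun P.left δp → ∀ (A : Z.left → ℤ) (z : P.left),
      Cyc.pullFun q.p.left δp δZ (haveI := q.intP; haveI := q.intZ;
        δp (genericPoint P.left) - δZ (genericPoint Z.left)) A z = q.pb A z := by
    intro Z W P q δZ δp hZ hp A z
    haveI := q.intP; haveI := q.intZ; haveI := q.lftP; haveI := q.lftZ
    haveI := isLocallyNoetherian P; haveI := isLocallyNoetherian Z
    obtain ⟨cp, rfl⟩ := Groth.Agent.Lib.Cyc.AffFib.Kill.exists_eq_add (isDimFun P) hp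
    obtain ⟨cz, rfl⟩ := Groth.Agent.Lib.Cyc.AffFib.Kill.exists_eq_add (isDimFun Z) hZ
    rw [Sq.pb, Groth.Agent.Lib.Cyc.FibLen.pullFun_apply, Groth.Agent.Lib.Cyc.FibLen.pullFun_apply]
    have := q.dk_generic
    refine if_congr ?_ rfl rfl
    simp only
    constructor <;> intro <;> omega
  have hX' : ∀ (A : X.left → ℤ) z, Cyc.pullFun (fst X Y).left δP δX
      (δP (genericPoint (X ⊗ Y).left) - δX (genericPoint X.left)) A z = s.pb A z :=
    key s δX δP hsX.2.2 hsP.2.2
  have hY' : ∀ (A : Y.left → ℤ) z, Cyc.pullFun (snd X Y).left δP δY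
      (δP (genericPoint (X ⊗ Y).left) - δY (genericPoint Y.left)) A z = s.flip.pb A z :=
    key s.flip δY δP hsY.2.2 hsP.2.2
  have hzk : ∀ {Z : Var k} [AlgebraicGeometry.IsIntegral Z.left] [LocallyOfFiniteType Z.hom]
      (δ : Z.left → ℤ) (_ : Cyc.IsDimFun Z.left δ) (A : AlgebraicCycle Z.left ℤ),
      A ∈ Cyc.Zk Z.left δ (δ (genericPoint Z.left) - 1) ↔ ∀ z, ¬ C1 Z z → A z = 0 := by
    intro Z _ _ δ hδ A
    refine ⟨fun h z hz => h z fun e => hz ((c1_iff hδ z).2 (by omega)), fun h z hz => h z fun e => hz ?_⟩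
    have := (c1_iff hδ z).1 e
    omega
  refine ⟨fun γ hγ => ?_, fun α hα β hβ γ' hγ' h0 => ?_⟩
  · have hfin : (Function.support ⇑γ).Finite := by
      simpa using γ.locallyFiniteSupport.finite_inter_support_of_isCompact isCompact_univ
    obtain ⟨G, α, β, hG, hαf, hβf, hα, hβ, hsum⟩ :=
      exists_decomp a b (⇑γ) hfin ((hzk δP hsP.2.2 γ).1 hγ)
    refine ⟨finCycle α hαf, (hzk δX hsX.2.2 _).2 hα, finCycle β hβf, (hzk δY hsY.2.2 _).2 hβ,
      finCycle (fun z => γ z - Cyc.divFun (dk (X ⊗ Y)) (genericPoint (X ⊗ Y).left) G z)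
        ((hfin.union (finite_support_ordg G)).subset (Function.support_sub _ _)), fun z => ?_, ?_⟩
    · rw [Groth.Agent.Lib.ClProd85.finCycle_apply, hX', hY']
      exact hsum z
    · refine (ratEquivZero_iff hsP.2.2 _).2 ⟨G, hG, fun z => ?_⟩
      rw [Function.locallyFinsuppWithin.coe_sub, Pi.sub_apply, Groth.Agent.Lib.ClProd85.finCycle_apply, sub_sub_cancel]
  · obtain ⟨f, hf, hdiv⟩ := (ratEquivZero_iff hsP.2.2 γ').1 h0
    obtain ⟨⟨φ, hφ, hφ'⟩, ⟨c, hc, hc'⟩⟩ := exists_div_of_decomp a b f (⇑α) (⇑β) hf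
      ((hzk δX hsX.2.2 α).1 hα) ((hzk δY hsY.2.2 β).1 hβ)
      (fun z => by rw [← hdiv z, hγ' z, hX', hY'])
    exact ⟨(ratEquivZero_iff hsX.2.2 α).2 ⟨φ, hφ, hφ'⟩, (ratEquivZero_iff hsY.2.2 β).2 ⟨c, hc, hc'⟩⟩

end Groth.Agent.S19501
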