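import Groth.Statements.S19502
import Groth.Agent.H60.ThetaTilde
-- import your own Groth.Agent.* helpers here

set_option autoImplicit false
universe u
open W4c3ghconstell

namespace Groth.Agent.S19502

/-- Let ι index the irreducible representations, θ : ι → ℚ a weight which is negative exactly on the
finite set D₋, h h' : ι → ℕ with h' ≤ h pointwise (the isotypic dimensions of an object and of a
sub-object) and Σ_i θ_i h_i summable. For a finite set D of indices put S_D = Σ_{i ∉ D} θ_i h_i, d =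
#(D ∖ D₋) and θ̃_D = Σ_{i ∈ D} θ_i h'_i + (S_D / d) · Σ_{i ∈ D ∖ D₋} h'_i / h_i, the modified weight
attached to the parameters chosen for D (a quotient by zero is read as zero). Then for finite sets
D₋ ⊆ D ⊆ D̃ contained in the locus θ ≠ 0: (first error term) θ̃_{D̃} − θ̃_D = Σ_{τ ∈ D̃ ∖ D} (θ_τ
h_τ + S_{D̃}/d̃) · (h'_τ/h_τ − (1/d) Σ_{σ ∈ D ∖ D₋} h'_σ/h_σ); (second error term) Σ_i θ_i h'_i −
θ̃_D = Σ_{τ ∉ D} θ_τ h_τ · (h'_τ/h_τ − (1/d) Σ_{σ ∈ D ∖ D₋} h'_σ/h_σ). -/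
theorem result {ι : Type u} [DecidableEq ι]
    (θ : ι → ℚ) (h h' : ι → ℕ) (hle : ∀ i, h' i ≤ h i) (hfin : {i | θ i < 0}.Finite)
    (hsum : Summable (fun i => (θ i : ℝ) * (h i : ℝ))) (D D' : Finset ι)
    (hDm : hfin.toFinset ⊆ D) (hDD' : D ⊆ D') (hsupp : ∀ i ∈ D', θ i ≠ 0) :
    (((∑ i ∈ D', (θ i : ℝ) * (h' i : ℝ)) + ((∑' i, if i ∈ D' then (0 : ℝ) else (θ i : ℝ) * (h i : ℝ)) / ((D' \ hfin.toFinset).card : ℝ)) * (∑ σ ∈ D' \ hfin.toFinset, ((h' σ : ℝ) / (h σ : ℝ)))) - ((∑ i ∈ D, (θ i : ℝ) * (h' i : ℝ)) + ((∑' i, if i ∈ D then (0 : ℝ) else (θ i : ℝ) * (h i : ℝ)) / ((D \ hfin.toFinset).card : ℝ)) * (∑ σ ∈ D \ hfin.toFinset, ((h' σ : ℝ) / (h σ : ℝ)))) =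
      ∑ τ ∈ D' \ D, ((θ τ : ℝ) * (h τ : ℝ) + (∑' i, if i ∈ D' then (0 : ℝ) else (θ i : ℝ) * (h i : ℝ)) / ((D' \ hfin.toFinset).card : ℝ)) *
        (((h' τ : ℝ) / (h τ : ℝ)) - (1 / ((D \ hfin.toFinset).card : ℝ)) * (∑ σ ∈ D \ hfin.toFinset, ((h' σ : ℝ) / (h σ : ℝ))))) ∧
    ((∑' i, (θ i : ℝ) * (h' i : ℝ)) - ((∑ i ∈ D, (θ i : ℝ) * (h' i : ℝ)) + ((∑' i, if i ∈ D then (0 : ℝ) else (θ i : ℝ) * (h i : ℝ)) / ((D \ hfin.toFinset).card : ℝ)) * (∑ σ ∈ D \ hfin.toFinset, ((h' σ : ℝ) / (h σ : ℝ)))) =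
      ∑' τ, if τ ∈ D then (0 : ℝ) else (θ τ : ℝ) * (h τ : ℝ) *
        (((h' τ : ℝ) / (h τ : ℝ)) - (1 / ((D \ hfin.toFinset).card : ℝ)) * (∑ σ ∈ D \ hfin.toFinset, ((h' σ : ℝ) / (h σ : ℝ))))) := by
  classical
  obtain ⟨a, hA⟩ : ∃ a : ι → ℝ, ∀ i, (θ i : ℝ) * (h i : ℝ) = a i := ⟨_, fun _ => rfl⟩
  obtain ⟨ρ, hR⟩ : ∃ ρ : ι → ℝ, ∀ i, (h' i : ℝ) / (h i : ℝ) = ρ i := ⟨_, fun _ => rfl⟩
  have hb : ∀ i, (θ i : ℝ) * (h' i : ℝ) = a i * ρ i := fun i => by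
    rw [← hA, ← hR]; exact Groth.Agent.H60.ThetaTilde.mul_ratio hle i
  have hsb : Summable fun i => a i * ρ i :=
    (summable_congr hb).1 (Groth.Agent.H60.ThetaTilde.summable_sub hle hsum)
  simp only [hb, hA, hR]
  replace hsum := (summable_congr hA).1 hsum
  refine ⟨?_, ?_⟩
  · have hT : ∀ F : ι → ℝ, ∑ i ∈ D', F i = ∑ i ∈ D, F i + ∑ i ∈ D' \ D, F i := fun F => by
      rw [add_comm, Finset.sum_sdiff hDD']
    have hS := Groth.Agent.H60.ThetaTilde.tsum_eq_sum_add hsum D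
    have hS' := Groth.Agent.H60.ThetaTilde.tsum_eq_sum_add hsum D'
    rw [hT a] at hS'
    have hE : D' \ hfin.toFinset = (D \ hfin.toFinset) ∪ (D' \ D) := by
      ext i
      simp only [Finset.mem_union, Finset.mem_sdiff]
      constructor
      · rintro ⟨h1, h2⟩
        by_cases h3 : i ∈ D
        exacts [Or.inl ⟨h3, h2⟩, Or.inr ⟨h1, h3⟩]
      · rintro (⟨h1, h2⟩ | ⟨h1, h2⟩)
        exacts [⟨hDD' h1, h2⟩, ⟨h1, fun h3 => h2 (hDm h3)⟩]
    have hd : Disjoint (D \ hfin.toFinset) (D' \ D) :=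
      Finset.disjoint_left.2 fun i h1 h2 => (Finset.mem_sdiff.1 h2).2 (Finset.mem_sdiff.1 h1).1
    set S := ∑' i, if i ∈ D then (0 : ℝ) else a i
    set S' := ∑' i, if i ∈ D' then (0 : ℝ) else a i
    have hSS : S = S' + ∑ τ ∈ D' \ D, a τ := by linarith
    rw [hT (fun i => a i * ρ i), hE, Finset.sum_union hd, Finset.card_union_of_disjoint hd, hSS]
    simp only [mul_sub, add_mul, Finset.sum_sub_distrib, Finset.sum_add_distrib, ← Finset.sum_mul,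
      ← Finset.mul_sum, Finset.sum_const, nsmul_eq_mul, Nat.cast_add]
    by_cases hdz : D \ hfin.toFinset = ∅
    · simp [hdz]; ring
    · have hpos : (0 : ℝ) < ((D \ hfin.toFinset).card : ℝ) := by
        exact_mod_cast Finset.card_pos.2 (Finset.nonempty_iff_ne_empty.2 hdz)
      have hd' : ((D \ hfin.toFinset).card : ℝ) + ((D' \ D).card : ℝ) ≠ 0 := by positivity
      field_simp
      ring
  · set c := (1 / ((D \ hfin.toFinset).card : ℝ)) * ∑ σ ∈ D \ hfin.toFinset, ρ σ with hc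
    rw [Groth.Agent.H60.ThetaTilde.tsum_eq_sum_add hsb D]
    have hsa' : Summable fun i => if i ∈ D then (0 : ℝ) else a i :=
      Summable.of_norm_bounded hsum.norm fun i => by split_ifs <;> simp
    have hsb' : Summable fun i => if i ∈ D then (0 : ℝ) else a i * ρ i :=
      Summable.of_norm_bounded hsb.norm fun i => by split_ifs <;> simp <;> positivity
    have : (∑' τ, if τ ∈ D then (0 : ℝ) else a τ * (ρ τ - c)) =
        (∑' τ, if τ ∈ D then (0 : ℝ) else a τ * ρ τ) - (∑' τ, if τ ∈ D then (0 : ℝ) else a τ) * c := by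
      rw [← tsum_mul_right, ← Summable.tsum_sub hsb' (hsa'.mul_right c)]
      exact tsum_congr fun i => by split_ifs <;> ring
    rw [this, hc]
    ring

end Groth.Agent.S19502
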