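import Groth.Statements.S19503
import Groth.Agent.Lib.Curves.RelSurj

set_option autoImplicit false
universe u
open CategoryTheory CategoryTheory.Limits AlgebraicGeometry
open Curves

namespace Groth.Agent.S19503

/-- Let A be a Noetherian ring and f : X → Spec A a proper morphism such that H^1(X, O_X) = 0 and every
fibre of f has dimension at most one. If an O_X-module L is f-ample (f quasi-compact and L an ample
invertible module on the preimage of every affine open of Spec A), then L is f-very ample: for some
n there is an immersion i : X → Pⁿ over Spec A, compatible with f, such that L is isomorphic to the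
pullback of O(1) along i. -/
theorem result (A : Type u) [CommRing A]
    [IsNoetherianRing A] (X : Scheme.{u}) (f : X ⟶ Spec (CommRingCat.of A)) [IsProper f]
    (h1 : Subsingleton (Coh.HH X (Coh.structureModule X) 1))
    (hfib : ∀ y : ↥(Spec (CommRingCat.of A)), topologicalKrullDim ↥(f.fiber y) ≤ 1)
    (L : X.Modules) (hL : RelAmple.IsRelAmple f L) :
    RelAmple.IsRelVeryAmplePn f L :=  by
  letI : X.Over (Spec (CommRingCat.of A)) := ⟨f⟩
  haveI : IsProper (X ↘ Spec (CommRingCat.of A)) := ‹IsProper f›
  haveI : IsLocallyNoetherian X := LocallyOfFiniteType.isLocallyNoetherian f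
  have h2 := Groth.Agent.Lib.Curves.RelH2.subsingleton_h2 (A := A) (X := X) hfib
  have hA : CohB1.IsAmple L := (Groth.Agent.Lib.Ample.RelAmple.isRelAmple_iff_isAmple f).1 hL
  have hLi := (Groth.Agent.Lib.Ample.Pow.isAmple_iff.1 hA).1
  have hgg := Groth.Agent.Lib.Curves.RelNef.isGloballyGenerated h2 h1 hfib hLi fun K _ i J t hJ hd ht => by
    letI : J.subscheme.Over (Spec (CommRingCat.of K)) := ⟨t⟩
    haveI : IsProper (J.subscheme ↘ Spec (CommRingCat.of K)) := by
      haveI : IsProper (t ≫ Spec.map (CommRingCat.ofHom i)) := by rw [ht]; infer_instance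
      exact IsProper.of_comp t (Spec.map (CommRingCat.ofHom i))
    haveI := hJ
    exact (Groth.Agent.Lib.SurfInt.CurvePos.deg_pos_of_isAmple hd
      (Groth.Agent.Lib.Ample.Pullback.isAmple_pullback J.subschemeι
        (Groth.Agent.Lib.Ample.Pullback.isQuasiAffine_of_isAffineHom _) hA)).le
  obtain ⟨N, t, hspan, hcov⟩ := Groth.Agent.Lib.Curves.RelSurj.exists_sections A hLi hgg
  refine Groth.Agent.Lib.Curves.NormalGen.isRelVeryAmplePn f hA t hcov hspan fun n hn => ?_
  obtain ⟨m, rfl⟩ : ∃ m, n = m + 1 := ⟨n - 1, by omega⟩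
  exact Groth.Agent.Lib.Curves.RelSurj.closure_eq_top A h2 hLi hcov h1 m

end Groth.Agent.S19503
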