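import Groth.Statements.S19505
import Groth.Agent.S15075
import Groth.Agent.Lib.ArtinFun.HomFinite
import Groth.Agent.Lib.ProjSpace.Basic
import Mathlib.RingTheory.IntegralClosure.IsIntegralClosure.Basic
import Mathlib.FieldTheory.IsAlgClosed.Basic

set_option autoImplicit false
universe u
open CategoryTheory CategoryTheory.Limits AlgebraicGeometry TopologicalSpace Opposite
open OrdSurf

namespace Groth.Agent.S19505

section Helpers

open CategoryTheory AlgebraicGeometry TopologicalSpace Opposite

variable {X : Scheme.{u}} {A : Sheaf (Opens.grothendieckTopology X) RingCat.{u}}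
  (φ : X.ringCatSheaf ⟶ A)
  (hcen : ∀ (U : (Opens X)ᵒᵖ) (s : X.ringCatSheaf.obj.obj U) (a : A.obj.obj U),
      φ.hom.app U s * a = a * φ.hom.app U s)
  (M : SheafOfModules.{u} A)

include hcen in
/-- Multiplication by a global function on a module over a sheaf of `O_X`-algebras. -/
noncomputable def scalarEnd (r : Coh.Γtop X) : M ⟶ M :=
  ⟨PresheafOfModules.homMk (M₁ := M.val) (M₂ := M.val)
    (Coh.smulAb (X := X) ((SheafOfModules.restrictScalars φ).obj M) r).hom (by
      intro U a m
      show φ.hom.app U (Coh.resTop X U r) • (a • m) = a • (φ.hom.app U (Coh.resTop X U r) • m)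
      rw [← mul_smul, ← mul_smul, hcen])⟩

theorem map_scalarEnd (r : Coh.Γtop X) :
    (SheafOfModules.restrictScalars φ).map (scalarEnd φ hcen M r) =
      Formal.smulModΓ (X := X) ((SheafOfModules.restrictScalars φ).obj M) r := rfl

end Helpers

/-- Let k be an algebraically closed field of characteristic zero and X a smooth projective surface over
k (an integral k-scheme, smooth over k, of dimension two, admitting a closed immersion over k into
some projective space P^n_k), with generic point η. Let A be a sheaf of rings on X with a morphism φ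
: O_X → A of sheaves of rings with central image whose generic stalk A_η is a division ring (simple
as a left module over itself), and let M be a sheaf of A-modules whose underlying O_X-module is
coherent with torsion-free stalks and whose generic stalk M_η is a simple A_η-module. Then M is
simple in the sense that End_A(M) = k: every endomorphism ψ of the sheaf of A-modules M is
multiplication by a scalar c ∈ k, i.e. on every open U it acts on sections as multiplication by the
image of c in Γ(U, O_X) under the structure map, pushed into A by φ. (The published statement takes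
A to be an order on X and M a torsion-free A-module of rank one; only the hypotheses listed are
assumed here, the others playing no role in the argument.) -/
theorem result (k : Type u) [Field k] [IsAlgClosed k] [CharZero k]
    (X : Scheme.{u}) [X.Over (Spec (CommRingCat.of k))] [IsIntegral X]
    [Smooth (X ↘ Spec (CommRingCat.of k))] (hdim : topologicalKrullDim X = 2)
    (hproj : ∃ (n : ℕ) (ι : X ⟶ CohB1.ProjSpace n k), IsClosedImmersion ι ∧
      ι ≫ CohB1.ProjSpace.toSpec n k = X ↘ Spec (CommRingCat.of k))
    (A : Sheaf (Opens.grothendieckTopology X) RingCat.{u}) (φ : X.ringCatSheaf ⟶ A)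
    (hcen : ∀ (U : (Opens X)ᵒᵖ) (s : X.ringCatSheaf.obj.obj U) (a : A.obj.obj U),
      φ.hom.app U s * a = a * φ.hom.app U s)
    (hAη : IsSimpleModule (↑(TopCat.Presheaf.stalk (C := RingCat.{u}) (X := X.carrier) A.obj (genericPoint X))) (↑(TopCat.Presheaf.stalk (C := RingCat.{u}) (X := X.carrier) A.obj (genericPoint X))))
    (M : SheafOfModules.{u} A)
    (hMc : Coh.IsCoh (X := X) ((SheafOfModules.restrictScalars φ).obj M))
    (hMt : TorSh.IsTorsionFree (X := X) ((SheafOfModules.restrictScalars φ).obj M))
    (hMη : IsSimpleModule (↑(TopCat.Presheaf.stalk (C := RingCat.{u}) (X := X.carrier) A.obj (genericPoint X))) (↑(TopCat.Presheaf.stalk (C := Ab.{u}) (X := X.carrier) M.val.presheaf (genericPoint X))))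
    (ψ : M ⟶ M) :
    ∃ c : k, ∀ (U : (Opens X)ᵒᵖ) (m : M.val.obj U),
      (ψ.val.app U).hom m =
        φ.hom.app U ((X.presheaf.map (homOfLE (le_top (a := U.unop))).op)
          (((X ↘ Spec (CommRingCat.of k)).appTop).hom ((Scheme.ΓSpecIso (CommRingCat.of k)).inv.hom c))) • m := by
  haveI : IsProper (X ↘ Spec (CommRingCat.of k)) := by
    obtain ⟨n, ι, hι, hfac⟩ := hproj
    haveI := hι
    haveI : IsProper (CohB1.ProjSpace.toSpec n k) := Groth.Agent.Lib.ProjSpace.Basic.isProper_toSpec n k
    rw [← hfac]
    infer_instance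
  haveI : IsLocallyNoetherian X :=
    LocallyOfFiniteType.isLocallyNoetherian (X ↘ Spec (CommRingCat.of k))
  haveI := Groth.Agent.S15075.restrictScalars_faithful φ
  let M0 : X.Modules := (SheafOfModules.restrictScalars φ).obj M
  let g : End M0 := (SheafOfModules.restrictScalars φ).map ψ
  let gm : M0 ⟶ M0 := g
  haveI : Module.Finite k (End M0) := Groth.Agent.Lib.ArtinFun.HomFinite.finite_hom hMc hMc
  obtain ⟨c, hc⟩ : ∃ c : k, gm = c • 𝟙 M0 := by
    by_cases h1 : (1 : End M0) = 0
    · exact ⟨0, eq_of_zero_eq_one (M₀ := End M0) h1.symm g _⟩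
    haveI : Nontrivial (End M0) := ⟨⟨1, 0, h1⟩⟩
    have hg : IsIntegral k g := IsIntegral.of_finite k g
    obtain ⟨c, hc⟩ := IsAlgClosed.exists_root (minpoly k g) (minpoly.degree_pos hg).ne'
    obtain ⟨q, hq⟩ := Polynomial.dvd_iff_isRoot.mpr hc
    have hq0 : Polynomial.aeval g q ≠ 0 := fun h => by
      have hqne : q ≠ 0 := fun h0 => minpoly.ne_zero hg (by rw [hq, h0, mul_zero])
      have hd := Polynomial.degree_le_of_dvd (minpoly.dvd k g h) hqne
      rw [hq, Polynomial.degree_mul, Polynomial.degree_X_sub_C] at hd
      rw [Polynomial.degree_eq_natDegree hqne] at hd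
      have hd' : (1 + q.natDegree : ℕ) ≤ q.natDegree := by exact_mod_cast hd
      omega
    refine ⟨c, sub_eq_zero.mp ?_⟩
    by_contra hne
    let d : M ⟶ M := ψ - scalarEnd φ hcen M (Coh.toGlobal (X ↘ Spec (CommRingCat.of k)) c)
    have hd : (SheafOfModules.restrictScalars φ).map d = gm - c • 𝟙 M0 := by
      rw [KLin.smul_id]
      rfl
    have hd0 : d ≠ 0 := fun h => hne (hd.symm.trans (by rw [h]; rfl))
    haveI : Mono (gm - c • 𝟙 M0) :=
      hd ▸ Groth.Agent.S15075.mono_map d φ hMc hMc hMt hMt hMη hd0
    apply hq0
    have h0 : (g - c • (1 : End M0)) * Polynomial.aeval g q = 0 := by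
      have := minpoly.aeval k g
      rw [hq, map_mul, map_sub, Polynomial.aeval_X, Polynomial.aeval_C, Algebra.algebraMap_eq_smul_one] at this
      exact this
    have h1' : (Polynomial.aeval g q : M0 ⟶ M0) ≫ (gm - c • 𝟙 M0) = 0 := h0
    exact (cancel_mono (gm - c • 𝟙 M0)).mp (h1'.trans Limits.zero_comp.symm)
  refine ⟨c, fun U m => ?_⟩
  have h := congrArg (fun f : M0 ⟶ M0 => (f.app U.unop).hom m) hc
  refine h.trans ?_
  exact KLin.smul_app_apply (X := X) c (𝟙 M0) U.unop m

end Groth.Agent.S19505
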