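import Groth.Statements.S19506
import Mathlib
import Groth.Agent.H24.PowerSeries
import Groth.Agent.S11740
import Groth.Agent.S11741

set_option autoImplicit false
universe u
open CAlg

namespace Groth.Agent.S19506

open IsLocalRing in
theorem lift_surj {k A : Type u} [Field k] [CommRing A] [Algebra k A]
    (hlift : ∀ (R : Type u) [CommRing R] [Algebra k R] [IsArtinianRing R] [IsLocalRing R] (J : Ideal R),
      J ^ 2 = ⊥ → ∀ f : A →ₐ[k] R ⧸ J, IsLocalHom (f : A →+* R ⧸ J) →
        ∃ g : A →ₐ[k] R, (Ideal.Quotient.mkₐ k J).comp g = f)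
    {R S : Type u} [CommRing R] [CommRing S] [Algebra k R] [Algebra k S] [IsArtinianRing R]
    [IsLocalRing R] (q : R →ₐ[k] S) (hq : Function.Surjective q)
    (hsq : ∀ x y, q x = 0 → q y = 0 → x * y = 0)
    (f : A →ₐ[k] S) (hf : ∀ a, IsUnit (f a) → IsUnit a) : ∃ g : A →ₐ[k] R, q.comp g = f := by
  let e := Ideal.quotientKerAlgEquivOfSurjective hq
  have hJ : RingHom.ker q ^ 2 = ⊥ := by
    rw [eq_bot_iff, pow_two, Ideal.mul_le]
    exact fun x hx y hy => (Ideal.mem_bot).mpr (hsq x y hx hy)
  have hloc : IsLocalHom ((e.symm.toAlgHom.comp f : A →ₐ[k] _) : A →+* R ⧸ RingHom.ker q) := by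
    refine ⟨fun a ha => hf a ?_⟩
    have := ha.map e.toAlgHom
    have h2 : e.toAlgHom ((e.symm.toAlgHom.comp f) a) = f a := e.apply_symm_apply (f a)
    exact h2 ▸ this
  obtain ⟨g, hg⟩ := hlift R (RingHom.ker q) hJ _ hloc
  refine ⟨g, AlgHom.ext fun a => ?_⟩
  have h := congrArg e (AlgHom.congr_fun hg a)
  exact h.trans (e.apply_symm_apply (f a))

open IsLocalRing in
theorem isLocal_quot {P : Type u} [CommRing P] [IsLocalRing P] {I : Ideal P} (h : I ≠ ⊤) :
    IsLocalRing (P ⧸ I) ∧ Nontrivial (P ⧸ I) := by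
  haveI : Nontrivial (P ⧸ I) := Ideal.Quotient.nontrivial_iff.mpr h
  exact ⟨IsLocalRing.of_surjective' _ Ideal.Quotient.mk_surjective, inferInstance⟩

open IsLocalRing in
theorem pow_ne_top {P : Type u} [CommRing P] [IsLocalRing P] {n : ℕ} (hn : n ≠ 0) :
    maximalIdeal P ^ n ≠ ⊤ := fun h =>
  (maximalIdeal.isMaximal P).ne_top (top_le_iff.mp (h.symm.trans_le (Ideal.pow_le_self hn)))

open IsLocalRing in
theorem lifts_claim {k A : Type u} [Field k] [CommRing A] [Algebra k A]
    {P : Type u} [CommRing P] [Algebra k P] [IsLocalRing P] [IsNoetherianRing P]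
    (ψ : P →ₐ[k] A) (hψ : Function.Surjective ψ)
    (hK : RingHom.ker ψ.toRingHom ≤ maximalIdeal P ^ 2)
    (hlift : ∀ (R : Type u) [CommRing R] [Algebra k R] [IsArtinianRing R] [IsLocalRing R] (J : Ideal R),
      J ^ 2 = ⊥ → ∀ f : A →ₐ[k] R ⧸ J, IsLocalHom (f : A →+* R ⧸ J) →
        ∃ g : A →ₐ[k] R, (Ideal.Quotient.mkₐ k J).comp g = f) :
    ∀ n : ℕ, 2 ≤ n → ∃ g : A →ₐ[k] P ⧸ maximalIdeal P ^ n,
      ∀ p q, g (ψ p) = Ideal.Quotient.mk _ q → q - p ∈ maximalIdeal P ^ 2 := by
  intro n hn
  induction n, hn using Nat.le_induction with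
  | base =>
    refine ⟨AlgHom.liftOfSurjective ψ hψ (Ideal.Quotient.mkₐ k (maximalIdeal P ^ 2))
      (fun a ha => (Ideal.mk_ker).ge (hK ha)), fun p q h => ?_⟩
    have h' := (AlgHom.liftOfSurjective_apply (f := ψ) (hf := hψ) (g := Ideal.Quotient.mkₐ k (maximalIdeal P ^ 2)) _ p).symm.trans h
    exact (Ideal.Quotient.eq.mp h'.symm)
  | succ n hn ih =>
    obtain ⟨g, hg⟩ := ih
    obtain ⟨_, _⟩ := isLocal_quot (pow_ne_top (P := P) (n := n + 1) (by omega))
    haveI : IsArtinianRing (P ⧸ maximalIdeal P ^ (n + 1)) :=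
      (isArtinianRing_iff_isNilpotent_maximalIdeal _).mpr ⟨n + 1, by
        rw [← IsLocalRing.map_maximalIdeal_of_surjective (Ideal.Quotient.mk (maximalIdeal P ^ (n + 1)))
          Ideal.Quotient.mk_surjective, ← Ideal.map_pow, Ideal.map_quotient_self]
        rfl⟩
    have hle : maximalIdeal P ^ (n + 1) ≤ maximalIdeal P ^ n := Ideal.pow_le_pow_right (by omega)
    obtain ⟨g', hg'⟩ := lift_surj hlift (Ideal.Quotient.factorₐ k hle)
      (Ideal.Quotient.factor_surjective hle) (by
        intro x y hx hy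
        obtain ⟨x, rfl⟩ := Ideal.Quotient.mk_surjective x
        obtain ⟨y, rfl⟩ := Ideal.Quotient.mk_surjective y
        rw [← map_mul, Ideal.Quotient.eq_zero_iff_mem]
        have hx' : x ∈ maximalIdeal P ^ n := Ideal.Quotient.eq_zero_iff_mem.mp hx
        have hy' : y ∈ maximalIdeal P ^ n := Ideal.Quotient.eq_zero_iff_mem.mp hy
        refine Ideal.pow_le_pow_right (by omega : n + 1 ≤ n + n) ?_
        rw [pow_add]
        exact Ideal.mul_mem_mul hx' hy') g (by
        intro a ha
        obtain ⟨p, rfl⟩ := hψ a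
        obtain ⟨q, hq⟩ := Ideal.Quotient.mk_surjective (g (ψ p))
        refine IsUnit.map ψ (notMem_maximalIdeal.mp fun hp => ?_)
        obtain ⟨_, _⟩ := isLocal_quot (pow_ne_top (P := P) (n := n) (by omega))
        have h2 : q - p ∈ maximalIdeal P := Ideal.pow_le_self two_ne_zero (hg p q hq.symm)
        have h3 : q ∈ maximalIdeal P := by simpa using add_mem h2 hp
        rw [← hq] at ha
        haveI := IsLocalHom.of_surjective (Ideal.Quotient.mk (maximalIdeal P ^ n)) Ideal.Quotient.mk_surjective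
        exact (mem_maximalIdeal q).mp h3 (IsLocalHom.map_nonunit q ha))
    refine ⟨g', fun p q h => hg p q ?_⟩
    rw [← hg', AlgHom.comp_apply, h]
    exact Ideal.Quotient.factor_mk hle q

open IsLocalRing in
theorem lifts_step {k A : Type u} [Field k] [CommRing A] [Algebra k A]
    {P : Type u} [CommRing P] [Algebra k P] [IsLocalRing P] [IsNoetherianRing P]
    [IsAdicComplete (maximalIdeal P) P] (ψ : P →ₐ[k] A) (hψ : Function.Surjective ψ)
    (hK : RingHom.ker ψ.toRingHom ≤ maximalIdeal P ^ 2)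
    (hlift : ∀ (R : Type u) [CommRing R] [Algebra k R] [IsArtinianRing R] [IsLocalRing R] (J : Ideal R),
      J ^ 2 = ⊥ → ∀ f : A →ₐ[k] R ⧸ J, IsLocalHom (f : A →+* R ⧸ J) →
        ∃ g : A →ₐ[k] R, (Ideal.Quotient.mkₐ k J).comp g = f) :
    RingHom.ker ψ.toRingHom = ⊥ := by
  refine le_antisymm (fun p hp => ?_) bot_le
  refine (Ideal.mem_bot).mpr (IsHausdorff.haus (inferInstance : IsHausdorff (maximalIdeal P) P) p fun n => ?_)
  rw [SModEq.sub_mem, sub_zero, smul_eq_mul, Ideal.mul_top]
  obtain ⟨g, hg⟩ := lifts_claim ψ hψ hK hlift (n + 2) (by omega)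
  let h : P →+* P ⧸ maximalIdeal P ^ (n + 2) := g.toRingHom.comp ψ.toRingHom
  have hq : ∀ x, ∃ q, h x = Ideal.Quotient.mk (maximalIdeal P ^ (n + 2)) q ∧ q - x ∈ maximalIdeal P ^ 2 := by
    intro x
    obtain ⟨q, hq⟩ := Ideal.Quotient.mk_surjective (g (ψ x))
    exact ⟨q, hq.symm, hg x q hq.symm⟩
  obtain ⟨_, _⟩ := isLocal_quot (pow_ne_top (P := P) (n := n + 2) (by omega))
  have hm : maximalIdeal (P ⧸ maximalIdeal P ^ (n + 2)) = (maximalIdeal P).map (Ideal.Quotient.mk (maximalIdeal P ^ (n + 2))) :=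
    (IsLocalRing.map_maximalIdeal_of_surjective _ Ideal.Quotient.mk_surjective).symm
  have hM : (maximalIdeal P).map h ≤ maximalIdeal (P ⧸ maximalIdeal P ^ (n + 2)) := by
    rw [Ideal.map_le_iff_le_comap]
    intro x hx
    obtain ⟨q, hq, hqx⟩ := hq x
    rw [Ideal.mem_comap, hq, hm]
    refine Ideal.mem_map_of_mem _ ?_
    have := add_mem (Ideal.pow_le_self two_ne_zero hqx) hx
    simpa using this
  have hsurj : Function.Surjective h := by
    refine Groth.Agent.H24.PowerSeries.surjective_of_cotangent h ?_ hM ?_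
    · intro r
      obtain ⟨y, rfl⟩ := IsLocalRing.residue_surjective r
      obtain ⟨y, rfl⟩ := Ideal.Quotient.mk_surjective y
      obtain ⟨q, hq, hqx⟩ := hq y
      refine ⟨y, ?_⟩
      rw [RingHom.comp_apply, hq, ← sub_eq_zero, ← map_sub, residue_eq_zero_iff, ← map_sub, hm]
      exact Ideal.mem_map_of_mem _ (Ideal.pow_le_self two_ne_zero hqx)
    · intro y hy
      rw [hm, Ideal.mem_map_iff_of_surjective _ Ideal.Quotient.mk_surjective] at hy
      obtain ⟨x, hx, rfl⟩ := hy
      obtain ⟨q, hq, hqx⟩ := hq x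
      refine Submodule.mem_sup.mpr ⟨h x, Ideal.mem_map_of_mem _ hx, Ideal.Quotient.mk (maximalIdeal P ^ (n + 2)) (x - q), ?_, ?_⟩
      · rw [hm, ← Ideal.map_pow]
        exact Ideal.mem_map_of_mem _ (by simpa using neg_mem hqx)
      · rw [hq, ← map_add, add_sub_cancel]
  have hker : maximalIdeal P ^ (n + 2) ≤ RingHom.ker h := by
    intro x hx
    rw [RingHom.mem_ker]
    have : h x ∈ (maximalIdeal (P ⧸ maximalIdeal P ^ (n + 2))) ^ (n + 2) := by
      refine Ideal.pow_right_mono hM (n + 2) ?_
      rw [← Ideal.map_pow]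
      exact Ideal.mem_map_of_mem _ hx
    rw [hm, ← Ideal.map_pow, Ideal.map_quotient_self, Ideal.mem_bot] at this
    exact this
  let s := Ideal.Quotient.lift (maximalIdeal P ^ (n + 2)) h (fun x hx => hker hx)
  have hs : Function.Surjective s := Ideal.Quotient.lift_surjective_of_surjective _ _ hsurj
  have hinj := Groth.Agent.H24.PowerSeries.injective_of_surjective s hs
  have h0 : s (Ideal.Quotient.mk (maximalIdeal P ^ (n + 2)) p) = 0 := by
    show g (ψ p) = 0
    rw [show ψ p = 0 from hp, map_zero]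
  exact Ideal.pow_le_pow_right (by omega) (Ideal.Quotient.eq_zero_iff_mem.mp (hinj (h0.trans (map_zero s).symm)))


/-- (i) ⇔ (iii): let k be a field and A a complete local Noetherian k-algebra with residue field k (a
k-algebra map π : A → k with kernel the maximal ideal; A complete for the adic topology of its
maximal ideal). Then A is regular if and only if A satisfies the infinitesimal lifting criterion:
for every Artinian local k-algebra R and every ideal J of R of square zero, every local k-algebra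
homomorphism A → R/J (one carrying non-units to non-units) lifts to a k-algebra homomorphism A → R.
(The test algebras R range over one universe, that of A. The published criterion is worded for
arbitrary k-algebra homomorphisms A → R/J; it is stated here for local ones, the case the argument
establishes and the form in which the text itself restates the criterion afterwards. The published
statement lists a third equivalent condition, A ≅ k[[x_1, …, x_d]].) -/
theorem result (k A : Type u) [Field k]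
    [CommRing A] [Algebra k A] [IsLocalRing A] [IsNoetherianRing A]
    [IsAdicComplete (IsLocalRing.maximalIdeal A) A]
    (π : A →ₐ[k] k) (hπ : RingHom.ker π = IsLocalRing.maximalIdeal A) :
    IsRegularLocalRing A ↔
      ∀ (R : Type u) [CommRing R] [Algebra k R] [IsArtinianRing R] [IsLocalRing R] (J : Ideal R),
        J ^ 2 = ⊥ → ∀ f : A →ₐ[k] R ⧸ J, IsLocalHom (f : A →+* R ⧸ J) →
          ∃ g : A →ₐ[k] R, (Ideal.Quotient.mkₐ k J).comp g = f := by
  classical
  have hres : Function.Surjective ((IsLocalRing.residue A).comp (algebraMap k A)) := by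
    intro r
    obtain ⟨x, rfl⟩ := IsLocalRing.residue_surjective r
    refine ⟨π x, ?_⟩
    rw [RingHom.comp_apply, ← sub_eq_zero, ← map_sub, IsLocalRing.residue_eq_zero_iff, ← hπ,
      RingHom.mem_ker, map_sub, AlgHom.commutes, Algebra.algebraMap_self, RingHom.id_apply, sub_self]
  obtain ⟨s, hcard, hs⟩ := Submodule.FG.exists_span_finset_card_eq_spanFinrank
    (p := IsLocalRing.maximalIdeal A) (IsNoetherian.noetherian _)
  let b : Fin s.card → A := fun i => (s.equivFin.symm i : A)
  have hb : ∀ i, b i ∈ IsLocalRing.maximalIdeal A := fun i => hs ▸ Submodule.subset_span (s.equivFin.symm i).2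
  have hrange : Set.range b = (s : Set A) := by
    ext x
    exact ⟨fun ⟨i, hi⟩ => hi ▸ (s.equivFin.symm i).2, fun hx => ⟨s.equivFin ⟨x, hx⟩, by simp [b]⟩⟩
  obtain ⟨ψ, hψ⟩ := Groth.Agent.H24.PowerSeries.exists_hom (A := k) (IsLocalRing.maximalIdeal A) b hb
  have hψm : ∀ i, ψ (MvPowerSeries.X i) ∈ IsLocalRing.maximalIdeal A := fun i => (hψ i).symm ▸ hb i
  have hsp : Submodule.span (IsLocalRing.ResidueField A)
      (Set.range fun i => (IsLocalRing.maximalIdeal A).toCotangent ⟨ψ (MvPowerSeries.X i), hψm i⟩) = ⊤ := by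
    rw [show (fun i => (IsLocalRing.maximalIdeal A).toCotangent ⟨ψ (MvPowerSeries.X i), hψm i⟩) =
      (IsLocalRing.maximalIdeal A).toCotangent ∘ (fun i => (⟨b i, hb i⟩ : IsLocalRing.maximalIdeal A))
      from funext fun i => congrArg _ (Subtype.ext (hψ i)), Set.range_comp,
      IsLocalRing.CotangentSpace.span_image_eq_top_iff]
    apply Submodule.map_injective_of_injective (f := Submodule.subtype _) Subtype.val_injective
    rw [Submodule.map_span, Submodule.map_top, Submodule.range_subtype, ← Set.range_comp]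
    show Submodule.span A (Set.range b) = _
    rw [hrange, hs]
  have hli : LinearIndependent (IsLocalRing.ResidueField A)
      (fun i => (IsLocalRing.maximalIdeal A).toCotangent ⟨ψ (MvPowerSeries.X i), hψm i⟩) := by
    refine linearIndependent_of_top_le_span_of_card_eq_finrank hsp.ge ?_
    rw [Fintype.card_fin, hcard, IsLocalRing.spanFinrank_maximalIdeal_eq_finrank_cotangentSpace]
  obtain ⟨hsurj, hK⟩ := S11740.result k A hres _ ψ hψm hli hsp
  rw [S11741.result k A hres _ ψ hψm hli hsp]
  refine ⟨fun hbij R _ _ _ _ J hJ f hf => ?_, fun hlift => ⟨?_, hsurj⟩⟩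
  · haveI : IsAdicComplete (IsLocalRing.maximalIdeal R) R := by
      obtain ⟨N, hN⟩ := (isArtinianRing_iff_isNilpotent_maximalIdeal R).mp inferInstance
      exact Groth.Agent.H24.PowerSeries.isAdicComplete_of_pow_eq_bot _ N hN
    have hJne : J ≠ ⊤ := fun h => by
      rw [h, pow_two, Ideal.top_mul] at hJ
      exact top_ne_bot hJ
    haveI : Nontrivial (R ⧸ J) := Ideal.Quotient.nontrivial_iff.mpr hJne
    haveI : IsLocalRing (R ⧸ J) := IsLocalRing.of_surjective' _ Ideal.Quotient.mk_surjective
    choose r hr using fun i => Ideal.Quotient.mk_surjective (f (ψ (MvPowerSeries.X i)))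
    have hrm : ∀ i, r i ∈ IsLocalRing.maximalIdeal R := by
      intro i
      rw [IsLocalRing.mem_maximalIdeal]
      intro hu
      have h1 : IsUnit ((f : A →+* R ⧸ J) (ψ (MvPowerSeries.X i))) := by
        have := hu.map (Ideal.Quotient.mk J)
        rwa [hr i] at this
      exact (IsLocalRing.mem_maximalIdeal _).mp (hψm i) (hf.map_nonunit _ h1)
    obtain ⟨g', hg'⟩ := Groth.Agent.H24.PowerSeries.exists_hom (A := k) (IsLocalRing.maximalIdeal R) r hrm
    let e := AlgEquiv.ofBijective ψ hbij
    refine ⟨g'.comp e.symm.toAlgHom, ?_⟩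
    have h1 : (Ideal.Quotient.mkₐ k J).comp g' = f.comp ψ := by
      refine Groth.Agent.H24.PowerSeries.hom_ext (IsLocalRing.maximalIdeal (R ⧸ J)) (fun i => ?_) (fun i => ?_)
      · rw [AlgHom.comp_apply, hg', Ideal.Quotient.mkₐ_eq_mk, ← IsLocalRing.map_maximalIdeal_of_surjective
          (Ideal.Quotient.mk J) Ideal.Quotient.mk_surjective]
        exact Ideal.mem_map_of_mem _ (hrm i)
      · rw [AlgHom.comp_apply, hg', AlgHom.comp_apply, Ideal.Quotient.mkₐ_eq_mk, hr]
    ext a
    obtain ⟨p, rfl⟩ := hsurj a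
    have := AlgHom.congr_fun h1 p
    simp only [AlgHom.comp_apply] at this ⊢
    rw [show e.symm.toAlgHom (ψ p) = p from e.symm_apply_apply p]
    exact this
  · haveI := Groth.Agent.H24.PowerSeries.isAdicComplete k (Fin s.card)
    have h0 := lifts_step ψ hsurj hK hlift
    exact (RingHom.injective_iff_ker_eq_bot ψ.toRingHom).mpr h0

end Groth.Agent.S19506
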