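import Groth.Statements.S19509
import Groth.Agent.Lib.RedTorsion.Main

set_option autoImplicit false
universe u
open CategoryTheory MonoidalCategory CartesianMonoidalCategory MonObj GrpObj AlgebraicGeometry
open Neron

namespace Groth.Agent.S19509

/-- Let R be a complete discrete valuation ring whose fraction field K has characteristic zero and whose
residue field k has characteristic p > 0, and let N be a commutative R-group scheme which is a Néron
model of its generic fibre, an abelian variety over K. Then the torsion of order prime to p of N(R)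
= A(K) injects into the special fibre under reduction: a section x with x^n = 1, n ≥ 1 prime to p,
whose value at the closed point of Spec R is the identity point of the special fibre, is the unit
section. -/
theorem result (R : Type u) [CommRing R] [IsDomain R]
    [IsDiscreteValuationRing R] [IsAdicComplete (IsLocalRing.maximalIdeal R) R] (K : Type u) [Field K] [Algebra R K]
    [IsFractionRing R K] [CharZero K] (p : ℕ) [Fact p.Prime] [CharP (IsLocalRing.ResidueField R) p]
    (N : Over (Spec (CommRingCat.of R))) [GrpObj N] [IsCommMonObj N] (hN : SGA7.IsNeron R K N)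
    [IsProper ((SGA7.genFib R K).obj N).hom] [GeometricallyIntegral ((SGA7.genFib R K).obj N).hom]
    (x : 𝟙_ (Over (Spec (CommRingCat.of R))) ⟶ N) (n : ℕ) (hn : 0 < n) (hx : x ^ n = 1)
    (hred : x.left.base (IsLocalRing.closedPoint R) = (η[N]).left.base (IsLocalRing.closedPoint R))
    (hnp : Nat.Coprime n p) : x = 1 := by
  letI : CommMonoid (Groth.Agent.Lib.RedTorsion.Basic.pt R R ⟶ N) := Hom.commMonoid
  letI : CommMonoid (𝟙_ (Over (Spec (CommRingCat.of R))) ⟶ N) := Hom.commMonoid
  let j := toUnit (Groth.Agent.Lib.RedTorsion.Basic.pt R R)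
  have hj : (Groth.Agent.Lib.RedTorsion.Basic.pt R R).hom.base (IsLocalRing.closedPoint R) =
      IsLocalRing.closedPoint R := IsLocalRing.comap_closedPoint (algebraMap R R)
  have hred' : Groth.Agent.Lib.RedTorsion.Main.Red (j ≫ x) := by
    show x.left.base ((Groth.Agent.Lib.RedTorsion.Basic.pt R R).hom.base _) = _
    rw [hj, hred, Hom.one_def]
    show _ = (η[N]).left.base ((Groth.Agent.Lib.RedTorsion.Basic.pt R R).hom.base _)
    rw [hj]
  have h1 : (j ≫ x) ^ n = 1 := by
    rw [← MonObj.comp_pow, hx, MonObj.comp_one]
  have hmain := Groth.Agent.Lib.RedTorsion.Main.eq_one_coprime p n hn hnp (j ≫ x) hred' h1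
  have : IsIso j := by
    refine ⟨Over.homMk (𝟙 _) ?_, ?_, ?_⟩
    · simp [Groth.Agent.Lib.RedTorsion.Basic.pt]
    · apply Over.OverMorphism.ext
      simp [j]
    · exact toUnit_unique _ _
  rw [← cancel_epi j, hmain, MonObj.comp_one]

end Groth.Agent.S19509
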