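import Groth.Statements.S6471
import Groth.Agent.S6470
import Groth.Agent.H19.IntMult.FlatBC
import Groth.Agent.Lib.Cyc.FP.Main

set_option autoImplicit false
universe u
open CategoryTheory CategoryTheory.Limits AlgebraicGeometry
attribute [local instance] HasDerivedCategory.standard
open IntMult

namespace Groth.Agent.S6471

open Groth.Agent.Lib IsLocalRing Groth.Agent.H19.IntMult

theorem chi_pullback {X Y : Scheme.{u}} (f : X ⟶ Y) [Flat f] (F G : Y.Modules) (x : X) :
    IntMult.chi (X.presheaf.stalk x) (((Scheme.Modules.pullback f).obj F).presheaf.stalk x)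
        (((Scheme.Modules.pullback f).obj G).presheaf.stalk x) =
      IntMult.chi (Y.presheaf.stalk (f x)) (F.presheaf.stalk (f x)) (G.presheaf.stalk (f x)) *
        ((Module.length (X.presheaf.stalk x) (X.presheaf.stalk x ⧸
          Ideal.map (f.stalkMap x).hom (maximalIdeal (Y.presheaf.stalk (f x))))).toNat : ℤ) := by
  letI := (f.stalkMap x).hom.toAlgebra
  haveI : IsLocalHom (algebraMap (Y.presheaf.stalk (f x)) (X.presheaf.stalk x)) :=
    inferInstanceAs (IsLocalHom (f.stalkMap x).hom)
  haveI : Module.Flat (Y.presheaf.stalk (f x)) (X.presheaf.stalk x) := Flat.stalkMap f x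
  exact (FlatBC.chi_congr (asIso ((DerivedOX.PullbackStalk.comparison f x).app F)).toLinearEquiv
    (asIso ((DerivedOX.PullbackStalk.comparison f x).app G)).toLinearEquiv).symm.trans
    (FlatBC.chi_baseChange (Y.presheaf.stalk (f x)) (X.presheaf.stalk x) (F.presheaf.stalk (f x))
      (G.presheaf.stalk (f x)))


/-- For a flat morphism f : X → Y between nonsingular varieties, with e = dim X − dim Y (every fibre
component has dimension e), and coherent O_Y-modules F, G whose supports have dimension at most r
and s and meet in dimension at most r + s − dim Y, the cycles of the pulled-back modules,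
[f^*F]_{r+e} and [f^*G]_{s+e}, meet properly, and pulling back the product [F]_r · [G]_s along f
gives their product: f^*([F]_r · [G]_s) = [f^*F]_{r+e} · [f^*G]_{s+e}, coefficientwise (f^* on
cycles is Cyc.pullFun with relative dimension e, f^* on modules is Mathlib's
Scheme.Modules.pullback). Here X is a nonsingular variety over the algebraically closed field K
(smooth, separated, quasi-compact, integral) with dimension function δ (transcendence degree over K,
recorded by Cyc.DeltaCompat to Spec K with value 0, together with Cyc.IsSetup) and n = dim X = δ of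
the generic point; cycles are coefficient functions X → ℤ, proper intersection is
IntMult.IntersectProperly and α · β is the Tor-formula intersection product on coefficient functions
(IntMult.interProd). The same holds for Y with δY and m = dim Y. -/
theorem result (K : Type u) [Field K] [IsAlgClosed K] (X Y : Scheme.{u}) (f : X ⟶ Y) (gX : X ⟶ Spec (CommRingCat.of K)) (gY : Y ⟶ Spec (CommRingCat.of K)) (hf : f ≫ gY = gX) [Smooth gX] [IsSeparated gX] [QuasiCompact gX] [IsIntegral X] [Smooth gY] [IsSeparated gY] [QuasiCompact gY] [IsIntegral Y] [Flat f] (δX : X → ℤ) (δY : Y → ℤ) (hX : Cyc.IsSetup X δX) (hY : Cyc.IsSetup Y δY) (hδX : Cyc.DeltaCompat gX δX (fun _ => 0)) (hδY : Cyc.DeltaCompat gY δY (fun _ => 0)) (hδ : Cyc.DeltaCompat f δX δY) (n m : ℤ) (hn : δX (genericPoint X) = n) (hm : δY (genericPoint Y) = m) (e : ℕ) (he : (e : ℤ) = n - m) (hrel : Cyc.HasRelDim f e) (F G : Y.Modules) (hF : Coh.IsCoh F) (hG : Coh.IsCoh G) (r s : ℤ) (hr : ∀ y : Y, Nontrivial (F.presheaf.stalk y) → δY y ≤ r) (hs : ∀ y : Y, Nontrivial (G.presheaf.stalk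 y) → δY y ≤ s) (hrs : ∀ y : Y, Nontrivial (F.presheaf.stalk y) → Nontrivial (G.presheaf.stalk y) → δY y ≤ r + s - m) : IntMult.IntersectProperly δX n (Cyc.sheafFun δX (r + e) ((Scheme.Modules.pullback f).obj F)) (Cyc.sheafFun δX (s + e) ((Scheme.Modules.pullback f).obj G)) ∧ Cyc.pullFun f δX δY e (IntMult.interProd δY m (Cyc.sheafFun δY r F) (Cyc.sheafFun δY s G)) = IntMult.interProd δX n (Cyc.sheafFun δX (r + e) ((Scheme.Modules.pullback f).obj F)) (Cyc.sheafFun δX (s + e) ((Scheme.Modules.pullback f).obj G)) := by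
  haveI := hX.1
  haveI := hY.1
  haveI : LocallyOfFiniteType (f ≫ gY) := by rw [hf]; infer_instance
  haveI : LocallyOfFiniteType f := locallyOfFiniteType_of_comp f gY
  have hsh : Cyc.FP.Main.Shift f δX δY e := Cyc.FP.Main.shift_of_hasRelDim f hrel hδ
  let F' := (Scheme.Modules.pullback f).obj F
  let G' := (Scheme.Modules.pullback f).obj G
  have hr' : ∀ x : X, Nontrivial (F'.presheaf.stalk x) → δX x ≤ r + e :=
    Cyc.FP.Main.delta_le_of_supp f hX.2.2 hsh F hr
  have hs' : ∀ x : X, Nontrivial (G'.presheaf.stalk x) → δX x ≤ s + e :=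
    Cyc.FP.Main.delta_le_of_supp f hX.2.2 hsh G hs
  have hrs' : ∀ x : X, Nontrivial (F'.presheaf.stalk x) → Nontrivial (G'.presheaf.stalk x) →
      δX x ≤ r + e + (s + e) - n := fun x h1 h2 => by
    have := hrs _ (Cyc.FP.Stalk.nontrivial_of_pullback f F x h1) (Cyc.FP.Stalk.nontrivial_of_pullback f G x h2)
    have := Cyc.FP.Main.delta_le f hX.2.2 hsh x
    omega
  obtain ⟨hP, hXf⟩ := S6470.result K X gX δX hX hδX n hn F' G' (Cyc.FP.Stalk.isCoh_pullback f hF)
    (Cyc.FP.Stalk.isCoh_pullback f hG) (r + e) (s + e) hr' hs' hrs'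
  obtain ⟨-, hYf⟩ := S6470.result K Y gY δY hY hδY m hm F G hF hG r s hr hs hrs
  refine ⟨hP, funext fun x => ?_⟩
  rw [hXf x]
  unfold Cyc.pullFun
  have hchi := chi_pullback f F G x
  rw [hYf (f x)]
  by_cases h1 : δX x = r + e + (s + e) - n
  · rw [if_pos h1, hchi]
    by_cases h2 : δY (f x) = r + s - m
    · rw [if_pos h2, if_pos (by omega)]
    · have hz : IntMult.chi (Y.presheaf.stalk (f x)) (F.presheaf.stalk (f x)) (G.presheaf.stalk (f x)) = 0 := by
        rcases subsingleton_or_nontrivial (F.presheaf.stalk (f x)) with hs0 | hn0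
        · rw [Groth.Agent.H19.IntMult.RegSeq.chi_comm]
          exact S6470.chi_eq_zero _ _
        · rcases subsingleton_or_nontrivial (G.presheaf.stalk (f x)) with hs1 | hn1
          · exact S6470.chi_eq_zero _ _
          · have := hrs _ hn0 hn1
            have := Cyc.FP.Main.delta_le f hX.2.2 hsh x
            omega
      rw [hz, if_neg h2]
      simp
  · rw [if_neg h1]
    split_ifs with h2 h3
    · omega
    · exact zero_mul _
    · rfl


end Groth.Agent.S6471
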