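import Groth.Statements.S6451
import Groth.Agent.S6471
import Groth.Agent.Lib.Cyc.K0.Cycles

set_option autoImplicit false
universe u
open CategoryTheory CategoryTheory.Limits AlgebraicGeometry
attribute [local instance] HasDerivedCategory.standard
open IntMult

namespace Groth.Agent.S6451

open Groth.Agent.Lib

theorem exists_gen_finset {X : Scheme.{u}} (α : AlgebraicCycle X ℤ) (x : X) :
    ∃ A : Finset X, ∀ p, p ∈ A ↔ p ⤳ x ∧ α p ≠ 0 := by
  obtain ⟨t, ht, hfin⟩ := α.supportLocallyFiniteWithinDomain x trivial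
  have h : {p | p ⤳ x ∧ α p ≠ 0}.Finite := by
    refine hfin.subset fun p ⟨hp, hne⟩ => ⟨?_, hne⟩
    obtain ⟨u, hu, huo, hxu⟩ := mem_nhds_iff.mp ht
    exact hu (hp.mem_open huo hxu)
  exact ⟨h.toFinset, fun p => h.mem_toFinset⟩

theorem specializes_of_nontrivial {X : Scheme.{u}} [IsLocallyNoetherian X] {ξ y : X}
    (h : Nontrivial ((Cyc.closureStructureSheaf ξ).presheaf.stalk y)) : ξ ⤳ y := by
  by_contra hs
  haveI := Cyc.K0.Sum.subsingleton_closure_stalk hs
  exact false_of_nontrivial_of_subsingleton ((Cyc.closureStructureSheaf ξ).presheaf.stalk y)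

theorem cohLe_closure {X : Scheme.{u}} [IsLocallyNoetherian X] {δ : X → ℤ} (hδ : Cyc.IsDimFun X δ) {ξ : X} {k : ℤ}
    (h : δ ξ = k) : Cyc.CohLe δ k (Cyc.closureStructureSheaf ξ) :=
  ⟨Devissage.Closure.isCoh_closureStructureSheaf ξ, fun _ hy =>
    (Cyc.DimFun.le_of_specializes hδ (specializes_of_nontrivial hy)).trans h.le⟩

theorem sheafFun_closure_self {X : Scheme.{u}} [IsLocallyNoetherian X] {δ : X → ℤ} {ξ : X} {k : ℤ}
    (h : δ ξ = k) : Cyc.sheafFun δ k (Cyc.closureStructureSheaf ξ) ξ = 1 := by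
  simp [Cyc.sheafFun, h, Devissage.Closure.length_closureStructureSheaf ξ]

theorem sheafFun_closure_ne {X : Scheme.{u}} [IsLocallyNoetherian X] {δ : X → ℤ} (hδ : Cyc.IsDimFun X δ)
    {ξ p : X} {k : ℤ} (h : δ ξ = k) (hne : ξ ≠ p) :
    Cyc.sheafFun δ k (Cyc.closureStructureSheaf ξ) p = 0 := by
  simp only [Cyc.sheafFun]
  split_ifs with hp
  · haveI := Cyc.K0.Sum.subsingleton_closure_stalk (ζ := ξ) (y := p)
      (fun hs => hne (Cyc.DimFun.eq_of_specializes_of_le hδ hs (h.le.trans hp.ge)))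
    simp [Module.length_eq_zero]
  · rfl

theorem interProd_sum {X : Scheme.{u}} [IsLocallyNoetherian X] {δ : X → ℤ} (hδ : Cyc.IsDimFun X δ) {n k l : ℤ}
    {ι ι' : Type*} (A : Finset ι) (B : Finset ι') (c : ι → ℤ) (d : ι' → ℤ) (F : ι → X.Modules) (G : ι' → X.Modules)
    (hF : ∀ i ∈ A, Cyc.CohLe δ k (F i)) (hG : ∀ j ∈ B, Cyc.CohLe δ l (G j)) {a b : X → ℤ} {x : X}
    (ha : ∀ p, p ⤳ x → a p = ∑ i ∈ A, c i * Cyc.sheafFun δ k (F i) p)
    (hb : ∀ p, p ⤳ x → b p = ∑ j ∈ B, d j * Cyc.sheafFun δ l (G j) p) :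
    IntMult.interProd δ n a b x =
      ∑ i ∈ A, ∑ j ∈ B, c i * d j * IntMult.interProd δ n (Cyc.sheafFun δ k (F i)) (Cyc.sheafFun δ l (G j)) x := by
  classical
  have hfin : ∀ {E : X.Modules} {t : ℤ}, Cyc.CohLe δ t E →
      {p : X | p ⤳ x ∧ Cyc.sheafFun δ t E p ≠ 0}.Finite := fun {E t} hE => by
    obtain ⟨U, hx, hU⟩ := Cyc.K0.Cycles.finite_support t hδ hE x
    refine hU.subset fun p ⟨hp, hne⟩ => ⟨hp.mem_open U.2 hx, ?_⟩
    have ht : δ p = t := by
      by_contra ht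
      exact hne (by simp [Cyc.sheafFun, ht])
    refine ⟨ht, ?_⟩
    by_contra hc
    haveI := not_nontrivial_iff_subsingleton.mp hc
    exact hne (by simp [Cyc.sheafFun, ht, Module.length_eq_zero])
  let S := {p : X × X // p.1 ⤳ x ∧ p.2 ⤳ x ∧ δ p.1 + δ p.2 - n = δ x}
  let T := fun (i : ι) (j : ι') (p : S) =>
    Cyc.sheafFun δ k (F i) p.1.1 * Cyc.sheafFun δ l (G j) p.1.2 *
      IntMult.mult (IntMult.ptIdeal p.1.1) (IntMult.ptIdeal p.1.2) x
  have hT : ∀ i ∈ A, ∀ j ∈ B, (Function.support fun p => c i * d j * T i j p).Finite := fun i hi j hj => by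
    refine (((hfin (hF i hi)).prod (hfin (hG j hj))).preimage Subtype.val_injective.injOn).subset ?_
    intro p hp
    have h := right_ne_zero_of_mul hp
    exact ⟨⟨p.2.1, left_ne_zero_of_mul (left_ne_zero_of_mul h)⟩,
      ⟨p.2.2.1, right_ne_zero_of_mul (left_ne_zero_of_mul h)⟩⟩
  calc IntMult.interProd δ n a b x = ∑ᶠ p : S, ∑ ij ∈ A ×ˢ B, c ij.1 * d ij.2 * T ij.1 ij.2 p := by
        refine finsum_congr fun p => ?_
        rw [ha _ p.2.1, hb _ p.2.2.1, Finset.sum_mul_sum, Finset.sum_product, Finset.sum_mul]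
        refine Finset.sum_congr rfl fun i _ => ?_
        rw [Finset.sum_mul]
        refine Finset.sum_congr rfl fun j _ => ?_
        simp only [T]
        ring
    _ = ∑ ij ∈ A ×ˢ B, ∑ᶠ p : S, c ij.1 * d ij.2 * T ij.1 ij.2 p :=
        finsum_sum_comm _ _ fun ij hij =>
          hT _ (Finset.mem_product.mp hij).1 _ (Finset.mem_product.mp hij).2
    _ = _ := by
        rw [Finset.sum_product]
        refine Finset.sum_congr rfl fun i _ => Finset.sum_congr rfl fun j _ => ?_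
        rw [← mul_finsum]
        rfl


/-- For a flat morphism f : X → Y between nonsingular varieties, with e = dim X − dim Y (every fibre
component has dimension e), and for cycles α ∈ Z_r(Y) and β ∈ Z_s(Y) meeting properly, the flat
pullbacks f^*α and f^*β again meet properly and pulling back commutes with the product: f^*(α · β) =
f^*α · f^*β, coefficientwise (flat pullback is Cyc.pullFun with relative dimension e). Here X is a
nonsingular variety over the algebraically closed field K (smooth, separated, quasi-compact,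
integral) with dimension function δ (transcendence degree over K, recorded by Cyc.DeltaCompat to
Spec K with value 0, together with Cyc.IsSetup) and n = dim X = δ of the generic point; cycles are
Mathlib AlgebraicCycles with Cyc.Zk membership, proper intersection is IntMult.IntersectProperly and
α · β is the Tor-formula intersection product on coefficient functions (IntMult.interProd). The same
holds for Y with δY and m = dim Y. -/
theorem result (K : Type u) [Field K] [IsAlgClosed K] (X Y : Scheme.{u}) (f : X ⟶ Y) (gX : X ⟶ Spec (CommRingCat.of K)) (gY : Y ⟶ Spec (CommRingCat.of K)) (hf : f ≫ gY = gX) [Smooth gX] [IsSeparated gX] [QuasiCompact gX] [IsIntegral X] [Smooth gY] [IsSeparated gY] [QuasiCompact gY] [IsIntegral Y] [Flat f] (δX : X → ℤ) (δY : Y → ℤ) (hX : Cyc.IsSetup X δX) (hY : Cyc.IsSetup Y δY) (hδX : Cyc.DeltaCompat gX δX (fun _ => 0)) (hδY : Cyc.DeltaCompat gY δY (fun _ => 0)) (hδ : Cyc.DeltaCompat f δX δY) (n m : ℤ)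 (hn : δX (genericPoint X) = n) (hm : δY (genericPoint Y) = m) (e : ℕ) (he : (e : ℤ) = n - m) (hrel : Cyc.HasRelDim f e) (r s : ℤ) (α β : AlgebraicCycle Y ℤ) (hα : α ∈ Cyc.Zk Y δY r) (hβ : β ∈ Cyc.Zk Y δY s) (hprop : IntMult.IntersectProperly δY m ⇑α ⇑β) : IntMult.IntersectProperly δX n (Cyc.pullFun f δX δY e ⇑α) (Cyc.pullFun f δX δY e ⇑β) ∧ Cyc.pullFun f δX δY e (IntMult.interProd δY m ⇑α ⇑β) = IntMult.interProd δX n (Cyc.pullFun f δX δY e ⇑α) (Cyc.pullFun f δX δY e ⇑β) := by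
  haveI := hX.1
  haveI := hY.1
  haveI : LocallyOfFiniteType (f ≫ gY) := by rw [hf]; infer_instance
  haveI : LocallyOfFiniteType f := locallyOfFiniteType_of_comp f gY
  have hsh : Cyc.FP.Main.Shift f δX δY e := Cyc.FP.Main.shift_of_hasRelDim f hrel hδ
  have hpos : ∀ {a : Y → ℤ} {x : X}, Cyc.pullFun f δX δY e a x ≠ 0 → a (f x) ≠ 0 ∧ δX x = δY (f x) + e :=
    fun {a x} h => by
      simp only [Cyc.pullFun, ne_eq, ite_eq_right_iff, not_forall] at h
      obtain ⟨h1, h2⟩ := h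
      exact ⟨left_ne_zero_of_mul h2, h1⟩
  refine ⟨fun ξ η ζ hξ hη h1 h2 => ?_, funext fun x => ?_⟩
  · obtain ⟨a1, e1⟩ := hpos hξ
    obtain ⟨a2, e2⟩ := hpos hη
    have := hprop _ _ _ a1 a2 (h1.map f.continuous) (h2.map f.continuous)
    have := Cyc.FP.Main.delta_le f hX.2.2 hsh ζ
    omega
  obtain ⟨A, hA⟩ := exists_gen_finset α (f x)
  obtain ⟨B, hB⟩ := exists_gen_finset β (f x)
  have hrA : ∀ ξ ∈ A, δY ξ = r := fun ξ hξ => by
    by_contra h
    exact ((hA ξ).1 hξ).2 (hα ξ h)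
  have hsB : ∀ η ∈ B, δY η = s := fun η hη => by
    by_contra h
    exact ((hB η).1 hη).2 (hβ η h)
  let E := fun ξ : Y => Cyc.closureStructureSheaf ξ
  let E' := fun ξ : Y => (Scheme.Modules.pullback f).obj (Cyc.closureStructureSheaf ξ)
  have hE : ∀ {ξ : Y} {k : ℤ}, δY ξ = k → Cyc.CohLe δY k (E ξ) := fun {ξ k} h => cohLe_closure hY.2.2 h
  have hE' : ∀ {ξ : Y} {k : ℤ}, δY ξ = k → Cyc.CohLe δX (k + e) (E' ξ) := fun {ξ k} h =>
    ⟨Cyc.FP.Stalk.isCoh_pullback f (hE h).1, Cyc.FP.Main.delta_le_of_supp f hX.2.2 hsh _ (hE h).2⟩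
  have hsum : ∀ (a : Y → ℤ) (k : ℤ) (C : Finset Y), (∀ ξ, ξ ∈ C ↔ ξ ⤳ f x ∧ a ξ ≠ 0) →
      (∀ ξ ∈ C, δY ξ = k) → ∀ p : Y, p ⤳ f x → a p = ∑ ξ ∈ C, a ξ * Cyc.sheafFun δY k (E ξ) p :=
    fun a k C hC hk p hp => by
      by_cases hpC : p ∈ C
      · rw [Finset.sum_eq_single p (fun ξ hξ hne => by rw [sheafFun_closure_ne hY.2.2 (hk ξ hξ) hne, mul_zero])
          (fun h => absurd hpC h), sheafFun_closure_self (hk p hpC), mul_one]
      · rw [Finset.sum_eq_zero fun ξ hξ => by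
          rw [sheafFun_closure_ne hY.2.2 (hk ξ hξ) (fun (h : ξ = p) => hpC (h ▸ hξ)), mul_zero]]
        by_contra h
        exact hpC ((hC p).2 ⟨hp, h⟩)
  have hsum' : ∀ (a : Y → ℤ) (k : ℤ) (C : Finset Y), (∀ ξ, ξ ∈ C ↔ ξ ⤳ f x ∧ a ξ ≠ 0) →
      (∀ ξ ∈ C, δY ξ = k) → ∀ p : X, p ⤳ x →
      Cyc.pullFun f δX δY e a p = ∑ ξ ∈ C, a ξ * Cyc.sheafFun δX (k + e) (E' ξ) p :=
    fun a k C hC hk p hp => by
      rw [Finset.sum_congr rfl fun ξ hξ => by
        rw [← Cyc.FP.Main.pullFun_sheafFun f hX.2.2 hsh k (E ξ) (hE (hk ξ hξ)).2]]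
      simp only [Cyc.pullFun]
      split_ifs with h
      · rw [hsum a k C hC hk (f p) (hp.map f.continuous), Finset.sum_mul]
        exact Finset.sum_congr rfl fun ξ _ => mul_assoc _ _ _
      · simp
  rw [interProd_sum hX.2.2 A B _ _ _ _ (fun ξ hξ => hE' (hrA ξ hξ)) (fun η hη => hE' (hsB η hη))
    (hsum' α r A hA hrA) (hsum' β s B hB hsB)]
  show Cyc.pullFun f δX δY e _ x = _
  simp only [Cyc.pullFun]
  rw [interProd_sum hY.2.2 A B _ _ _ _ (fun ξ hξ => hE (hrA ξ hξ)) (fun η hη => hE (hsB η hη))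
    (hsum α r A hA hrA) (hsum β s B hB hsB)]
  have key : ∀ ξ ∈ A, ∀ η ∈ B,
      (if δX x = δY (f x) + e then IntMult.interProd δY m (Cyc.sheafFun δY r (E ξ)) (Cyc.sheafFun δY s (E η)) (f x) *
        ((Module.length (X.presheaf.stalk x) (X.presheaf.stalk x ⧸ Ideal.map (f.stalkMap x).hom
          (IsLocalRing.maximalIdeal (Y.presheaf.stalk (f x))))).toNat : ℤ) else 0) =
      IntMult.interProd δX n (Cyc.sheafFun δX (r + e) (E' ξ)) (Cyc.sheafFun δX (s + e) (E' η)) x := by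
    intro ξ hξ η hη
    have h := (S6471.result K X Y f gX gY hf δX δY hX hY hδX hδY hδ n m hn hm e he hrel (E ξ) (E η)
      (hE (hrA ξ hξ)).1 (hE (hsB η hη)).1 r s (hE (hrA ξ hξ)).2 (hE (hsB η hη)).2 (fun y h1 h2 => by
        have := hprop ξ η y ((hA ξ).1 hξ).2 ((hB η).1 hη).2 (specializes_of_nontrivial h1)
          (specializes_of_nontrivial h2)
        rw [hrA ξ hξ, hsB η hη] at this
        exact this)).2
    exact congrFun h x
  split_ifs with h
  · rw [Finset.sum_mul]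
    refine Finset.sum_congr rfl fun ξ hξ => ?_
    rw [Finset.sum_mul]
    refine Finset.sum_congr rfl fun η hη => ?_
    rw [← key ξ hξ η hη, if_pos h, mul_assoc]
  · refine (Finset.sum_eq_zero fun ξ hξ => Finset.sum_eq_zero fun η hη => ?_).symm
    rw [← key ξ hξ η hη, if_neg h, mul_zero]

end Groth.Agent.S6451
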