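import Groth.Statements.S1951
import Groth.Agent.S6451
import Groth.Agent.S1913
import Groth.Agent.H19.IntMult.ExtProd

set_option autoImplicit false
universe u
open CategoryTheory CategoryTheory.Limits AlgebraicGeometry
attribute [local instance] HasDerivedCategory.standard
open IntMult

namespace Groth.Agent.S1951

open Groth.Agent.Lib Groth.Agent.H19.IntMult CategoryTheory.Limits

theorem pull_ne {X Y : Scheme.{u}} {f : X ⟶ Y} {δX : X → ℤ} {δY : Y → ℤ} {e : ℤ} {a : Y → ℤ} {x : X}
    (h : Cyc.pullFun f δX δY e a x ≠ 0) : a (f x) ≠ 0 ∧ δX x = δY (f x) + e := by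
  simp only [Cyc.pullFun, ne_eq, ite_eq_right_iff, not_forall] at h
  obtain ⟨h1, h2⟩ := h
  exact ⟨left_ne_zero_of_mul h2, h1⟩

theorem pull_sum {X Y : Scheme.{u}} [IsLocallyNoetherian Y] (f : X ⟶ Y) [Flat f] {δX : X → ℤ} {δY : Y → ℤ}
    (hY : Cyc.IsDimFun Y δY) (hX : Cyc.IsDimFun X δX) {e : ℤ} (hsh : Cyc.FP.Main.Shift f δX δY e) (a : Y → ℤ)
    (x : X) {k : ℤ} (C : Finset Y) (hC : ∀ ξ, ξ ∈ C ↔ ξ ⤳ f x ∧ a ξ ≠ 0) (hk : ∀ ξ ∈ C, δY ξ = k) :
    ∀ p : X, p ⤳ x → Cyc.pullFun f δX δY e a p =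
      ∑ ξ ∈ C, a ξ * Cyc.sheafFun δX (k + e) ((Scheme.Modules.pullback f).obj (Cyc.closureStructureSheaf ξ)) p := by
  intro p hp
  rw [Finset.sum_congr rfl fun ξ hξ => by
    rw [← Cyc.FP.Main.pullFun_sheafFun f hX hsh k _ (S6451.cohLe_closure hY (hk ξ hξ)).2]]
  simp only [Cyc.pullFun]
  split_ifs with h
  · have hsum : a (f p) = ∑ ξ ∈ C, a ξ * Cyc.sheafFun δY k (Cyc.closureStructureSheaf ξ) (f p) := by
      by_cases hpC : f p ∈ C
      · rw [Finset.sum_eq_single (f p) (fun ξ hξ hne => by rw [S6451.sheafFun_closure_ne hY (hk ξ hξ) hne, mul_zero])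
          (fun h => absurd hpC h), S6451.sheafFun_closure_self (hk _ hpC), mul_one]
      · rw [Finset.sum_eq_zero fun ξ hξ => by
          rw [S6451.sheafFun_closure_ne hY (hk ξ hξ) (fun (h : ξ = f p) => hpC (h ▸ hξ)), mul_zero]]
        by_contra h'
        exact hpC ((hC _).2 ⟨hp.map f.continuous, h'⟩)
    rw [hsum, Finset.sum_mul]
    exact Finset.sum_congr rfl fun ξ _ => mul_assoc _ _ _
  · simp

theorem chi_point {S X Y : Scheme.{u}} (f : X ⟶ S) (g : Y ⟶ S) [Flat f] [Flat g] [Subsingleton S] [IsIntegral S]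
    [IsLocallyNoetherian X] [IsLocallyNoetherian Y] (z : ↥(pullback f g)) :
    IntMult.chi ((pullback f g).presheaf.stalk z)
      (((Scheme.Modules.pullback (pullback.fst f g)).obj (Cyc.closureStructureSheaf (pullback.fst f g z))).presheaf.stalk z)
      (((Scheme.Modules.pullback (pullback.snd f g)).obj (Cyc.closureStructureSheaf (pullback.snd f g z))).presheaf.stalk z) =
    ((Module.length ((pullback f g).presheaf.stalk z) (↑((pullback f g).presheaf.stalk z) ⧸
      (Ideal.map ((pullback.fst f g).stalkMap z).hom (IsLocalRing.maximalIdeal (X.presheaf.stalk (pullback.fst f g z))) ⊔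
        Ideal.map ((pullback.snd f g).stalkMap z).hom
          (IsLocalRing.maximalIdeal (Y.presheaf.stalk (pullback.snd f g z)))))).toNat : ℤ) := by
  obtain ⟨e1⟩ := ExtProd.stalk_pullback_closure (pullback.fst f g) z
  obtain ⟨e2⟩ := ExtProd.stalk_pullback_closure (pullback.snd f g) z
  rw [FlatBC.chi_congr e1 e2, RegSeq.chi_comm]
  refine ExtProd.chi_eq_length_of_vanish _ _ fun j => ?_
  let I := IntMult.ptIdeal (pullback.snd f g z)
  let J := I.comap (pullback.snd f g)
  haveI : Flat (J.subschemeι ≫ pullback.fst f g) := by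
    rw [← Scheme.IdealSheafData.comapIso_hom_fst, Category.assoc, ← pullbackLeftPullbackSndIso_hom_fst]
    infer_instance
  have hz : z ∈ Set.range J.subschemeι := by
    rw [Scheme.IdealSheafData.range_subschemeι, Scheme.IdealSheafData.support_comap]
    show pullback.snd f g z ∈ closure {pullback.snd f g z}
    exact subset_closure rfl
  have hfl := S1913.flat_quot J.subschemeι (pullback.fst f g) z hz
  have hJ : IntMult.stalkIdeal J.subschemeι.ker z = Ideal.map ((pullback.snd f g).stalkMap z).hom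
      (IsLocalRing.maximalIdeal (Y.presheaf.stalk (pullback.snd f g z))) := by
    rw [Scheme.IdealSheafData.ker_subschemeι]
    refine (CartierDescent.stalkIdeal_comap (pullback.snd f g) I z).trans ?_
    exact congrArg _ ((MultOne.stalkIdeal_ptIdeal _ _ specializes_rfl).trans
      (congrArg PrimeSpectrum.asIdeal (Cyc.DimFun.genPrime_self _)))
  rw [hJ] at hfl
  letI := ((pullback.fst f g).stalkMap z).hom.toAlgebra
  haveI : Module.Flat (X.presheaf.stalk (pullback.fst f g z)) ((pullback f g).presheaf.stalk z) :=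
    Flat.stalkMap (pullback.fst f g) z
  haveI : Module.Flat (X.presheaf.stalk (pullback.fst f g z)) (↑((pullback f g).presheaf.stalk z) ⧸
      Ideal.map ((pullback.snd f g).stalkMap z).hom
        (IsLocalRing.maximalIdeal (Y.presheaf.stalk (pullback.snd f g z)))) := hfl
  exact Positive.vanish_baseChange _ _ j


/-- Let X, Y be nonsingular varieties over K of dimensions n, m, α an r-cycle on X and β an s-cycle on
Y. Then pr_X^*α and pr_Y^*β (flat pullbacks to X ×_K Y, of relative dimensions m and n) intersect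
properly on X ×_K Y and pr_X^*α · pr_Y^*β = α × β as (r + s)-cycles, coefficientwise. Here X is a
nonsingular variety over the algebraically closed field K (smooth, separated, quasi-compact,
integral) with dimension function δ (transcendence degree) and n = dim X; cycles are Mathlib
AlgebraicCycles with Cyc.Zk membership, proper intersection is IntMult.IntersectProperly and α · β
is the Tor-formula intersection product on coefficient functions (IntMult.interProd), bundled where
needed as 'any cycle with these coefficients'. -/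
theorem result (K : Type u) [Field K] [IsAlgClosed K] (X Y : Scheme.{u}) (f : X ⟶ Spec (CommRingCat.of K)) (g : Y ⟶ Spec (CommRingCat.of K)) [Smooth f] [IsSeparated f] [QuasiCompact f] [IsIntegral X] [Smooth g] [IsSeparated g] [QuasiCompact g] [IsIntegral Y] (δX : X → ℤ) (δY : Y → ℤ) (δ : ↥(pullback f g) → ℤ) (hX : Cyc.DeltaCompat f δX (fun _ => 0)) (hY : Cyc.DeltaCompat g δY (fun _ => 0)) (hXY : Cyc.DeltaCompat (pullback.fst f g ≫ f) δ (fun _ => 0)) (n m : ℕ) (hn : δX (genericPoint X) = n) (hm : δY (genericPoint Y) = m) (r s : ℤ) (α : AlgebraicCycle X ℤ) (β : AlgebraicCycle Y ℤ) (hα : α ∈ Cyc.Zk X δX r) (hβ : β ∈ Cyc.Zk Y δY s) : IntMult.IntersectProperly δ (n + m) (Cyc.pullFun (pullback.fst f g) δ δX m ⇑α) (Cyc.pullFun (pullback.snd f g) δ δY n ⇑β) ∧ IntMult.interProd δ (n + m) (Cyc.pullFun (pullback.fst f g) δ δX m ⇑α) (Cyc.pullFun (pullback.snd f g) δ δY n ⇑β) = IntMult.extProd f g δX δY δ ⇑α ⇑β := by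
  have hsX : Cyc.IsSetup X δX := ExtProd.isSetup_of_deltaCompat f hX
  have hsY : Cyc.IsSetup Y δY := ExtProd.isSetup_of_deltaCompat g hY
  have hsP : Cyc.IsSetup (pullback f g) δ := ExtProd.isSetup_of_deltaCompat _ hXY
  haveI := hsX.1; haveI := hsY.1; haveI := hsP.1
  have eX : δX = Cyc.FieldDim.fdelta f := funext (Cyc.DegK.Dim.delta_eq hX)
  have eY : δY = Cyc.FieldDim.fdelta g := funext (Cyc.DegK.Dim.delta_eq hY)
  have eP : δ = Cyc.FieldDim.fdelta (pullback.fst f g ≫ f) := funext (Cyc.DegK.Dim.delta_eq hXY)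
  let Zv : ClProd85.Var K := Over.mk f
  let Wv : ClProd85.Var K := Over.mk g
  haveI : IsIntegral Zv.left := ‹IsIntegral X›
  haveI : IsIntegral Wv.left := ‹IsIntegral Y›
  haveI : LocallyOfFiniteType Zv.hom := inferInstanceAs (LocallyOfFiniteType f)
  haveI : LocallyOfFiniteType Wv.hom := inferInstanceAs (LocallyOfFiniteType g)
  haveI : QuasiCompact Zv.hom := inferInstanceAs (QuasiCompact f)
  haveI : QuasiCompact Wv.hom := inferInstanceAs (QuasiCompact g)
  let sq := ClProd85.mkSq Zv Wv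
  haveI hint : IsIntegral (pullback f g) := sq.intP
  haveI : Flat f := inferInstance
  haveI : Flat g := inferInstance
  have hadd : ∀ z : ↥(pullback f g), δ z ≤ δX (pullback.fst f g z) + δY (pullback.snd f g z) := fun z => by
    rw [eX, eY, eP]
    exact ExtProd.fdelta_le_add f g z
  have hrd : Cyc.FieldDim.fdelta g (genericPoint Y) = m := by rw [← eY]; exact hm
  have hrd' : Cyc.FieldDim.fdelta f (genericPoint X) = n := by rw [← eX]; exact hn
  have hgenP : δ (genericPoint ↥(pullback f g)) = (n : ℤ) + m := by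
    rw [eP, ← hrd, ← hrd']
    exact sq.dk_generic
  have hshX : Cyc.FP.Main.Shift (pullback.fst f g) δ δX m := by
    rw [eX, eP, ← hrd]
    exact sq.shift
  have hshY : Cyc.FP.Main.Shift (pullback.snd f g) δ δY n := by
    have e : (pullback.fst f g ≫ f) = pullback.snd f g ≫ g := pullback.condition
    rw [eY, eP, ← hrd']
    exact sq.flip.shift
  refine ⟨fun ξ η ζ hξ hη h1 h2 => ?_, funext fun z => ?_⟩
  · obtain ⟨a1, d1⟩ := pull_ne hξ
    obtain ⟨a2, d2⟩ := pull_ne hη
    have := hadd ζ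
    have := Cyc.DimFun.le_of_specializes hsX.2.2 (h1.map (pullback.fst f g).continuous)
    have := Cyc.DimFun.le_of_specializes hsY.2.2 (h2.map (pullback.snd f g).continuous)
    omega
  obtain ⟨A, hA⟩ := S6451.exists_gen_finset α (pullback.fst f g z)
  obtain ⟨B, hB⟩ := S6451.exists_gen_finset β (pullback.snd f g z)
  have hrA : ∀ ξ ∈ A, δX ξ = r := fun ξ hξ => by
    by_contra h
    exact ((hA ξ).1 hξ).2 (hα ξ h)
  have hsB : ∀ η ∈ B, δY η = s := fun η hη => by
    by_contra h
    exact ((hB η).1 hη).2 (hβ η h)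
  let F := fun x₀ : X => (Scheme.Modules.pullback (pullback.fst f g)).obj (Cyc.closureStructureSheaf x₀)
  let G := fun y₀ : Y => (Scheme.Modules.pullback (pullback.snd f g)).obj (Cyc.closureStructureSheaf y₀)
  have hF : ∀ {x₀ : X}, δX x₀ = r → Cyc.CohLe δ (r + (m : ℤ)) (F x₀) := fun {x₀} h =>
    ⟨Cyc.FP.Stalk.isCoh_pullback _ (S6451.cohLe_closure hsX.2.2 h).1,
      Cyc.FP.Main.delta_le_of_supp _ hsP.2.2 hshX _ (S6451.cohLe_closure hsX.2.2 h).2⟩
  have hG : ∀ {y₀ : Y}, δY y₀ = s → Cyc.CohLe δ (s + (n : ℤ)) (G y₀) := fun {y₀} h =>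
    ⟨Cyc.FP.Stalk.isCoh_pullback _ (S6451.cohLe_closure hsY.2.2 h).1,
      Cyc.FP.Main.delta_le_of_supp _ hsP.2.2 hshY _ (S6451.cohLe_closure hsY.2.2 h).2⟩
  rw [S6451.interProd_sum hsP.2.2 A B (⇑α) (⇑β) F G (fun _ h => hF (hrA _ h)) (fun _ h => hG (hsB _ h))
    (pull_sum (pullback.fst f g) hsX.2.2 hsP.2.2 hshX ⇑α z A hA hrA)
    (pull_sum (pullback.snd f g) hsY.2.2 hsP.2.2 hshY ⇑β z B hB hsB)]
  haveI : Smooth (pullback.fst f g ≫ f) := inferInstance
  have hv : ∀ x₀ ∈ A, ∀ y₀ ∈ B, IntMult.interProd δ ((n : ℤ) + m) (Cyc.sheafFun δ (r + (m : ℤ)) (F x₀))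
      (Cyc.sheafFun δ (s + (n : ℤ)) (G y₀)) z =
      if δ z = r + m + (s + n) - ((n : ℤ) + m) then IntMult.chi ↑((pullback f g).presheaf.stalk z)
        ↑((F x₀).presheaf.stalk z) ↑((G y₀).presheaf.stalk z) else 0 := by
    intro x₀ hx₀ y₀ hy₀
    refine (S6470.result K (pullback f g) (pullback.fst f g ≫ f) δ hsP hXY _ hgenP (F x₀) (G y₀)
      (hF (hrA _ hx₀)).1 (hG (hsB _ hy₀)).1 (r + (m : ℤ)) (s + (n : ℤ)) (hF (hrA _ hx₀)).2 (hG (hsB _ hy₀)).2
      (fun ζ h1 h2 => ?_)).2 z
    have := hadd ζ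
    have := Cyc.DimFun.le_of_specializes hsX.2.2
      (S6451.specializes_of_nontrivial (Cyc.FP.Stalk.nontrivial_of_pullback _ _ ζ h1))
    have := Cyc.DimFun.le_of_specializes hsY.2.2
      (S6451.specializes_of_nontrivial (Cyc.FP.Stalk.nontrivial_of_pullback _ _ ζ h2))
    rw [hrA _ hx₀] at *
    rw [hsB _ hy₀] at *
    omega
  rw [Finset.sum_congr rfl fun x₀ hx₀ => Finset.sum_congr rfl fun y₀ hy₀ => by rw [hv x₀ hx₀ y₀ hy₀]]
  unfold IntMult.extProd
  by_cases hz : δ z = r + m + (s + n) - ((n : ℤ) + m)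
  swap
  · rw [Finset.sum_eq_zero fun x₀ _ => Finset.sum_eq_zero fun y₀ _ => by rw [if_neg hz, mul_zero]]
    split_ifs with hc
    · by_cases ha : α (pullback.fst f g z) = 0
      · rw [ha]; simp
      by_cases hb : β (pullback.snd f g z) = 0
      · rw [hb]; simp
      exfalso
      have := hrA _ ((hA _).2 ⟨specializes_rfl, ha⟩)
      have := hsB _ ((hB _).2 ⟨specializes_rfl, hb⟩)
      omega
    · rfl
  simp only [if_pos hz]
  by_cases hab : α (pullback.fst f g z) ≠ 0 ∧ β (pullback.snd f g z) ≠ 0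
  · have hx₀ := (hA _).2 ⟨specializes_rfl, hab.1⟩
    have hy₀ := (hB _).2 ⟨specializes_rfl, hab.2⟩
    have hrx := hrA _ hx₀
    have hsy := hsB _ hy₀
    rw [if_pos (by omega), Finset.sum_eq_single_of_mem _ hx₀ fun x₀ h hne => Finset.sum_eq_zero fun y₀ _ => ?_,
      Finset.sum_eq_single_of_mem _ hy₀ fun y₀ h hne => ?_, chi_point f g z]
    · haveI : Subsingleton ((G y₀).presheaf.stalk z) := not_nontrivial_iff_subsingleton.mp fun hn' => hne
        (Cyc.DimFun.eq_of_specializes_of_le hsY.2.2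
          (S6451.specializes_of_nontrivial (Cyc.FP.Stalk.nontrivial_of_pullback _ _ z hn')) (by rw [hsB _ h, hsy]))
      rw [S6470.chi_eq_zero, mul_zero]
    · haveI : Subsingleton ((F x₀).presheaf.stalk z) := not_nontrivial_iff_subsingleton.mp fun hn' => hne
        (Cyc.DimFun.eq_of_specializes_of_le hsX.2.2
          (S6451.specializes_of_nontrivial (Cyc.FP.Stalk.nontrivial_of_pullback _ _ z hn')) (by rw [hrA _ h, hrx]))
      rw [Groth.Agent.H19.IntMult.RegSeq.chi_comm, S6470.chi_eq_zero, mul_zero]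
  · have hR : α (pullback.fst f g z) * β (pullback.snd f g z) = 0 := by
      rw [mul_eq_zero]; tauto
    rw [hR]
    simp only [zero_mul, ite_self]
    refine Finset.sum_eq_zero fun x₀ hx₀ => Finset.sum_eq_zero fun y₀ hy₀ => ?_
    rcases subsingleton_or_nontrivial ((F x₀).presheaf.stalk z) with hs1 | hn1
    · rw [Groth.Agent.H19.IntMult.RegSeq.chi_comm, S6470.chi_eq_zero, mul_zero]
    rcases subsingleton_or_nontrivial ((G y₀).presheaf.stalk z) with hs2 | hn2
    · rw [S6470.chi_eq_zero, mul_zero]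
    exfalso
    have s1 := S6451.specializes_of_nontrivial (Cyc.FP.Stalk.nontrivial_of_pullback _ _ z hn1)
    have s2 := S6451.specializes_of_nontrivial (Cyc.FP.Stalk.nontrivial_of_pullback _ _ z hn2)
    have := hadd z
    have := Cyc.DimFun.le_of_specializes hsX.2.2 s1
    have := Cyc.DimFun.le_of_specializes hsY.2.2 s2
    have := hrA _ hx₀
    have := hsB _ hy₀
    have e1 := Cyc.DimFun.eq_of_specializes_of_le hsX.2.2 s1 (by omega)
    have e2 := Cyc.DimFun.eq_of_specializes_of_le hsY.2.2 s2 (by omega)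
    exact hab ⟨e1 ▸ ((hA _).1 hx₀).2, e2 ▸ ((hB _).1 hy₀).2⟩


end Groth.Agent.S1951
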