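import Groth.Statements.S19512
-- import your own Groth.Agent.* helpers here

set_option autoImplicit false
universe u
open CategoryTheory CategoryTheory.Limits AlgebraicGeometry
open Variety

namespace Groth.Agent.S19512

/-- Let k be a field and f : X → Y a k-morphism between proper k-schemes which is a fibration, i.e. O_Y
→ f_*O_X is an isomorphism (Γ(V, O_Y) → Γ(f⁻¹V, O_X) bijective for every open V ⊆ Y). If X is
integral, then Y is integral. (The second assertion of (ii), generic flatness of f, is quoted from
the literature and not stated.) -/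
theorem result (k : Type u) [Field k] (X Y : Scheme.{u})
    [X.Over (Spec (CommRingCat.of k))] [Y.Over (Spec (CommRingCat.of k))] [IsProper (X ↘ Spec (CommRingCat.of k))] [IsProper (Y ↘ Spec (CommRingCat.of k))]
    (f : X ⟶ Y) (hf : f ≫ (Y ↘ Spec (CommRingCat.of k)) = X ↘ Spec (CommRingCat.of k)) (hfib : ∀ V : Y.Opens, IsIso (f.app V))
    [AlgebraicGeometry.IsIntegral X] : AlgebraicGeometry.IsIntegral Y := by
  have hclosed : UniversallyClosed f := by
    have : UniversallyClosed (f ≫ (Y ↘ Spec (CommRingCat.of k))) := by rw [hf]; infer_instance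
    exact UniversallyClosed.of_comp_of_isSeparated f (Y ↘ Spec (CommRingCat.of k))
  have hsurj : Surjective f := ⟨fun y => by
    by_contra hy
    let V : Y.Opens := ⟨(Set.range f)ᶜ, f.isClosedMap.isClosed_range.isOpen_compl⟩
    have hV : f ⁻¹ᵁ V = ⊥ := by
      ext x; simpa [V] using ⟨x, rfl⟩
    have h0 : Subsingleton Γ(X, f ⁻¹ᵁ V) := by
      rw [hV]; exact CommRingCat.subsingleton_of_isTerminal X.sheaf.isTerminalOfEmpty
    have h1 : Subsingleton Γ(Y, V) := by
      have := hfib V
      exact (asIso (f.app V)).commRingCatIsoToRingEquiv.injective.subsingleton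
    have hyV : y ∈ V := hy
    have : Nontrivial (Y.presheaf.stalk y) := inferInstance
    exact one_ne_zero (α := Y.presheaf.stalk y) (by
      rw [← map_one (Y.presheaf.germ V y hyV).hom, Subsingleton.elim (1 : Γ(Y, V)) 0, map_zero])⟩
  have : IsReduced Y := ⟨fun V => by
    have := hfib V
    exact isReduced_of_injective (f.app V).hom (asIso (f.app V)).commRingCatIsoToRingEquiv.injective⟩
  have : IrreducibleSpace Y := by
    have : Nonempty Y := ⟨f (genericPoint X)⟩
    have : PreirreducibleSpace Y := ⟨by
      rw [← hsurj.surj.range_eq, ← Set.image_univ]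
      exact (PreirreducibleSpace.isPreirreducible_univ (X := X)).image _ f.continuous.continuousOn⟩
    exact ⟨inferInstance⟩
  exact isIntegral_of_irreducibleSpace_of_isReduced _

end Groth.Agent.S19512
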