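import Groth.Statements.S19515
import Groth.Agent.H2.Rigid.NormalGamma

set_option autoImplicit false
universe u
open CategoryTheory CategoryTheory.Limits AlgebraicGeometry
open Variety

namespace Groth.Agent.S19515

set_option backward.isDefEq.respectTransparency.types false in
/-- Let k be a field and f : X → Y a k-morphism between proper k-schemes which is a fibration, i.e. O_Y
→ f_*O_X is an isomorphism (Γ(V, O_Y) → Γ(f⁻¹V, O_X) bijective for every open V ⊆ Y). If X is
geometrically normal, i.e. its base change to every algebraic closure of k has all local rings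
integrally closed domains, then Y is geometrically normal in the same sense. -/
theorem result (k : Type u) [Field k] (X Y : Scheme.{u})
    [X.Over (Spec (CommRingCat.of k))] [Y.Over (Spec (CommRingCat.of k))] [IsProper (X ↘ Spec (CommRingCat.of k))] [IsProper (Y ↘ Spec (CommRingCat.of k))]
    (f : X ⟶ Y) (hf : f ≫ (Y ↘ Spec (CommRingCat.of k)) = X ↘ Spec (CommRingCat.of k)) (hfib : ∀ V : Y.Opens, IsIso (f.app V))
    (hX : ∀ (K : Type u) [Field K] [Algebra k K] [IsAlgClosure k K],
      Pi1.IsNormalScheme (pullback (X ↘ Spec (CommRingCat.of k)) (Spec.map (CommRingCat.ofHom (algebraMap k K)))))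
    (K : Type u) [Field K] [Algebra k K] [IsAlgClosure k K] :
    Pi1.IsNormalScheme (pullback (Y ↘ Spec (CommRingCat.of k)) (Spec.map (CommRingCat.ofHom (algebraMap k K)))) := by
  let gY := Y ↘ Spec (CommRingCat.of k)
  let σ := Spec.map (CommRingCat.ofHom (algebraMap k K))
  have : IsProper (f ≫ gY) := hf ▸ inferInstance
  have : IsProper f := IsProper.of_comp f gY
  have : Flat σ := (HasRingHomProperty.Spec_iff (P := @Flat)).2
    (RingHom.flat_algebraMap_iff.2 (inferInstance : Module.Flat k K))
  let q : pullback gY σ ⟶ Y := pullback.fst gY σ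
  have : Flat q := inferInstanceAs (Flat (pullback.fst gY σ))
  have : IsAffineHom q := (AlgebraicGeometry.isAffineHom_isStableUnderBaseChange).of_isPullback (IsPullback.of_hasPullback gY σ).flip (inferInstance : IsAffineHom σ)
  let P := pullback f q
  let E : P ≅ pullback (X ↘ Spec (CommRingCat.of k)) σ :=
    pullbackRightPullbackFstIso gY σ f ≪≫ pullback.congrHom hf rfl
  have hP : Pi1.IsNormalScheme P := fun w => by
    have h := Groth.Agent.H2.Rigid.GeomNormal.normalAt_map E.inv (E.hom w) (hX K (E.hom w))
    rwa [Scheme.hom_inv_apply] at h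
  have : IsLocallyNoetherian (pullback (X ↘ Spec (CommRingCat.of k)) σ) :=
    LocallyOfFiniteType.isLocallyNoetherian (pullback.snd (X ↘ Spec (CommRingCat.of k)) σ)
  have : IsLocallyNoetherian P := LocallyOfFiniteType.isLocallyNoetherian E.hom
  refine Groth.Agent.H2.Rigid.NormalGamma.isNormalScheme_of_app (pullback.snd f q) hP fun y => ?_
  obtain ⟨V, hV, hy, -⟩ := exists_isAffineOpen_mem_and_subset (X := Y) (x := q y) (U := ⊤) trivial
  have := hfib V
  exact ⟨q ⁻¹ᵁ V, hV.preimage q, hy,
    Groth.Agent.H2.Rigid.NormalGamma.isIso_app_baseChange (IsPullback.of_hasPullback f q) hV (hV.preimage q)⟩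

end Groth.Agent.S19515
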