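import Groth.Statements.S19517
import Groth.Agent.Lib.SemiAbIsog.CompDim
import Groth.Agent.Lib.SemiAbIsog.NormalPts
import Groth.Agent.Lib.SemiAbIsog.Image
import Groth.Agent.Lib.GrpQ.RedSubgroup
import Groth.Agent.Lib.FreeRes.SubGrp
import Groth.Agent.H63.GrpSmooth
import Mathlib.AlgebraicGeometry.Morphisms.SmoothFiber

set_option autoImplicit false
universe u
open CategoryTheory CategoryTheory.Limits MonoidalCategory CartesianMonoidalCategory MonObj GrpObj AlgebraicGeometry
open AlgGrp

set_option backward.isDefEq.respectTransparency false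
set_option linter.style.haveILetI false
set_option maxHeartbeats 800000
open GrpObj CategoryTheory.Limits Groth.Agent.Lib Groth.Agent.Lib.SemiAbIsog Groth.Agent.Lib.SemiAbIsog.NormalPts
namespace Groth.Agent.S19517

/-- Linear part, the assertion on the kernel: over an algebraically closed field k let G be a smooth
k-group scheme of finite type, j : K → G a closed normal subgroup scheme of finite type, i : G_lin →
G the largest smooth connected affine normal closed subgroup scheme of G and i_K : K_lin → K the
largest smooth connected affine normal closed subgroup scheme of K. Then K_lin is contained in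
G_lin, and K_lin has finite index in K ∩ G_lin in the sense that K_lin and the fibre product K ×_G
G_lin have the same dimension (K_lin is the reduced identity component of K ∩ G_lin). (The published
proposition is stated for an exact sequence e → K → G → Q → e of arbitrary algebraic groups and also
for unipotent and solvable parts; G is assumed smooth here, and only the linear part is stated.) -/
theorem result (k : Type u) [Field k] [IsAlgClosed k]
    (G : Over (Spec (CommRingCat.of k))) [GrpObj G] [Smooth G.hom] [QuasiCompact G.hom]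
    (K : Over (Spec (CommRingCat.of k))) [GrpObj K] [QuasiCompact K.hom] [LocallyOfFiniteType K.hom]
    (j : K ⟶ G) [IsMonHom j] [IsClosedImmersion j.left] (hK : AlgGrp.IsNormalHom j)
    (N : Over (Spec (CommRingCat.of k))) [GrpObj N] (i : N ⟶ G) [IsMonHom i] [IsClosedImmersion i.left]
    [Smooth N.hom] [ConnectedSpace ↥N.left] [IsAffine N.left] (hN : AlgGrp.IsNormalHom i)
    (hNmax : (∀ (N' : Over (Spec (CommRingCat.of k))) [GrpObj N'] (i' : N' ⟶ G) [IsMonHom i'] [IsClosedImmersion i'.left]
      [Smooth N'.hom] [ConnectedSpace ↥N'.left] [IsAffine N'.left], AlgGrp.IsNormalHom i' → ∃ f : N' ⟶ N, f ≫ i = i'))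
    (NK : Over (Spec (CommRingCat.of k))) [GrpObj NK] (iK : NK ⟶ K) [IsMonHom iK] [IsClosedImmersion iK.left]
    [Smooth NK.hom] [ConnectedSpace ↥NK.left] [IsAffine NK.left] (hNK : AlgGrp.IsNormalHom iK)
    (hNKmax : (∀ (N' : Over (Spec (CommRingCat.of k))) [GrpObj N'] (i' : N' ⟶ K) [IsMonHom i'] [IsClosedImmersion i'.left]
      [Smooth N'.hom] [ConnectedSpace ↥N'.left] [IsAffine N'.left], AlgGrp.IsNormalHom i' → ∃ f : N' ⟶ NK, f ≫ iK = i')) :
    (∃ g : NK ⟶ N, g ≫ i = iK ≫ j) ∧
      topologicalKrullDim ↥NK.left = topologicalKrullDim ↥(pullback j.left i.left) := by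
  haveI : IsSeparated G.hom := GrpSch.isSeparated_of_field G
  haveI : Mono j := Over.mono_of_mono_left j
  haveI : Mono i := Over.mono_of_mono_left i
  haveI : Mono iK := Over.mono_of_mono_left iK
  haveI : IsClosedImmersion (iK ≫ j).left := by rw [Over.comp_left]; infer_instance
  have hnor : AlgGrp.IsNormalHom (iK ≫ j) := by
    refine isNormalHom_of_points (iK ≫ j) fun g => ?_
    let gc : K ⟶ G := toUnit K ≫ g
    obtain ⟨σ, hσ⟩ := hK K gc (𝟙 K)
    obtain ⟨σ', hσ'⟩ := hK K gc⁻¹ (𝟙 K)
    rw [Category.id_comp] at hσ hσ'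
    rw [_root_.inv_inv] at hσ'
    have hconj : ∀ {T : Over (Spec (CommRingCat.of k))} (x : T ⟶ K),
        (x ≫ σ) ≫ j = (toUnit T ≫ g) * (x ≫ j) * (toUnit T ≫ g)⁻¹ := fun x => by
      rw [Category.assoc, ← hσ]
      simp only [gc, MonObj.comp_mul, GrpObj.comp_inv, ← Category.assoc, comp_toUnit]
    have hconj' : ∀ {T : Over (Spec (CommRingCat.of k))} (x : T ⟶ K),
        (x ≫ σ') ≫ j = (toUnit T ≫ g)⁻¹ * (x ≫ j) * (toUnit T ≫ g) := fun x => by
      rw [Category.assoc, ← hσ']
      simp only [gc, MonObj.comp_mul, GrpObj.comp_inv, ← Category.assoc, comp_toUnit]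
    haveI : IsMonHom σ := Groth.Agent.H87.HomDS.isMonHom_of_points σ fun X a b => by
      rw [← cancel_mono j, hconj, MonObj.mul_comp _ _ j, MonObj.mul_comp _ _ j, hconj, hconj]
      group
    have h12 : σ ≫ σ' = 𝟙 K := by
      rw [← cancel_mono j, hconj', Category.id_comp, ← Category.id_comp σ, hconj, Category.id_comp]
      group
    have h21 : σ' ≫ σ = 𝟙 K := by
      rw [← cancel_mono j, hconj, Category.id_comp, ← Category.id_comp σ', hconj', Category.id_comp]
      group
    haveI : IsIso σ := ⟨σ', h12, h21⟩
    haveI : IsIso σ.left := ((Over.forget _).mapIso (asIso σ)).isIso_hom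
    haveI : IsClosedImmersion (iK ≫ σ).left := by rw [Over.comp_left]; infer_instance
    obtain ⟨f, hf⟩ := hNKmax NK (iK ≫ σ) (fun T x n => by
      obtain ⟨n', hn'⟩ := hNK T (x ≫ σ') n
      refine ⟨n', ?_⟩
      rw [← Category.assoc n' iK σ, ← hn', MonObj.mul_comp, MonObj.mul_comp, GrpObj.inv_comp, Category.assoc x,
        h21, Category.comp_id, Category.assoc])
    refine ⟨f, ?_⟩
    rw [← Category.assoc f, hf, hconj]
  obtain ⟨g, hg⟩ := hNmax NK (iK ≫ j) hnor
  refine ⟨⟨g, hg⟩, le_antisymm ?_ ?_⟩
  · let l := Limits.pullback.lift (f := j.left) (g := i.left) iK.left g.left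
      (by rw [← Over.comp_left, ← Over.comp_left, hg])
    haveI : IsClosedImmersion (l ≫ Limits.pullback.fst j.left i.left) := by
      rw [Limits.pullback.lift_fst]; infer_instance
    haveI : IsClosedImmersion l := IsClosedImmersion.of_comp l (Limits.pullback.fst j.left i.left)
    exact l.isClosedEmbedding.isEmbedding.isInducing.topologicalKrullDim_le
  · haveI : IsAffineHom i.left := inferInstance
    let P := Limits.pullback j i
    let π₁ : P ⟶ K := Limits.pullback.fst j i
    have sq := (IsPullback.of_hasPullback j i).map (Over.forget _)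
    haveI : IsClosedImmersion π₁.left := MorphismProperty.of_isPullback (P := @IsClosedImmersion) sq.flip ‹_›
    haveI : Mono π₁ := Over.mono_of_mono_left π₁
    have hlift : ∀ {T : Over (Spec (CommRingCat.of k))} (x : T ⟶ K) (y : T ⟶ N), x ≫ j = y ≫ i →
        ∃ l : T ⟶ P, l ≫ π₁ = x := fun x y h => ⟨Limits.pullback.lift x y h, Limits.pullback.lift_fst _ _ _⟩
    have hcond : π₁ ≫ j = Limits.pullback.snd j i ≫ i := Limits.pullback.condition
    obtain ⟨_, hπ₁⟩ := FreeRes.exists_grpObj_of_mono π₁
      (fun T => hlift 1 1 (by rw [MonObj.one_comp j, MonObj.one_comp i]))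
      (fun {T} x y => hlift _ ((x ≫ Limits.pullback.snd j i) * (y ≫ Limits.pullback.snd j i)) (by
        rw [MonObj.mul_comp _ _ j, MonObj.mul_comp _ _ i, Category.assoc, Category.assoc, hcond, Category.assoc,
          Category.assoc]))
      (fun {T} x => hlift _ (x ≫ Limits.pullback.snd j i)⁻¹ (by
        rw [GrpObj.inv_comp _ j, GrpObj.inv_comp _ i, Category.assoc, hcond, Category.assoc]))
    haveI := hπ₁
    haveI : LocallyOfFiniteType P.hom := by rw [← Over.w π₁]; infer_instance
    haveI : QuasiCompact P.hom := by rw [← Over.w π₁]; infer_instance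
    haveI : IsAffine P.left := by
      haveI : IsClosedImmersion (Limits.pullback.snd j i).left := by
        haveI : IsClosedImmersion j.left := ‹_›
        exact MorphismProperty.of_isPullback (P := @IsClosedImmersion) sq ‹_›
      exact isAffine_of_isAffineHom (Limits.pullback.snd j i).left
    have hdimP : topologicalKrullDim ↥(pullback j.left i.left) = topologicalKrullDim ↥P.left :=
      IsHomeomorph.topologicalKrullDim_eq _ (Scheme.homeoOfIso sq.isoPullback).symm.isHomeomorph
    rw [hdimP]
    obtain ⟨C, _, c, hcm, hco, hcc, hcn, hrange⟩ := Groth.Agent.Lib.IsogLaw.exists_component P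
    haveI := hcm; haveI := hco; haveI := hcc; haveI := hcn
    haveI : LocallyOfFiniteType C.hom := by rw [← Over.w c]; infer_instance
    haveI : QuasiCompact C.hom := by rw [← Over.w c]; infer_instance
    obtain ⟨R, _, r, hrm, hrc, hrs, hrr⟩ := GrpQ.RedSubgroup.exists_reduced_subgroup C
    haveI := hrm; haveI := hrc; haveI := hrs; haveI := hrr
    haveI : LocallyOfFiniteType R.hom := by rw [← Over.w r]; infer_instance
    haveI : GrpObj (Over.mk R.hom) := inferInstanceAs (GrpObj R)
    haveI : Smooth R.hom := Groth.Agent.H63.GrpSmooth.smooth_of_nonempty R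
      (R.hom.dense_smoothLocus_of_perfectField.nonempty_iff.2 ⟨η[R].left (IsLocalRing.closedPoint k)⟩)
    haveI : IsAffine R.left := by
      haveI : IsAffineHom ((r.left ≫ c.left)) := inferInstance
      exact isAffine_of_isAffineHom (r.left ≫ c.left)
    haveI : ConnectedSpace R.left := by
      let h := r.left.isClosedEmbedding.isEmbedding.toHomeomorphOfSurjective r.left.surjective
      exact h.symm.surjective.connectedSpace h.symm.continuous
    haveI : IsClosedImmersion ((r ≫ c) ≫ π₁).left := by rw [Over.comp_left, Over.comp_left]; infer_instance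
    obtain ⟨f, hf⟩ := hNKmax R ((r ≫ c) ≫ π₁) (by
      haveI : IsClosedImmersion (((r ≫ c) ≫ π₁) ≫ j).left := by rw [Over.comp_left]; infer_instance
      refine normal_restrict j _ (isNormalHom_of_points (((r ≫ c) ≫ π₁) ≫ j) fun g => ?_)
      let gc : R ⟶ G := toUnit R ≫ g
      obtain ⟨z, hz⟩ := hK R gc ((r ≫ c) ≫ π₁)
      obtain ⟨y, hy⟩ := hN R gc ((r ≫ c) ≫ Limits.pullback.snd j i)
      obtain ⟨u, hu⟩ := hlift z y (by
        rw [← hz, ← hy]; simp only [Category.assoc, hcond])
      have huj : (u ≫ π₁) ≫ j = gc * (((r ≫ c) ≫ π₁) ≫ j) * gc⁻¹ := by rw [hu]; exact hz.symm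
      let e₀ := η[R].left (IsLocalRing.closedPoint k)
      have hue : u.left e₀ ∈ connectedComponent (η[P].left (IsLocalRing.closedPoint k)) := by
        have h1 : η[R] ≫ u = η[P] := by
          have hone : ∀ {X : Over (Spec (CommRingCat.of k))} [GrpObj X], η[X] = (1 : 𝟙_ (Over (Spec (CommRingCat.of k))) ⟶ X) :=
            fun {X} _ => by rw [Hom.one_def, toUnit_unique (toUnit _) (𝟙 _), Category.id_comp]
          rw [← cancel_mono π₁, ← cancel_mono j, Category.assoc η[R], Category.assoc η[R], huj, hone, hone]
          simp only [gc, MonObj.comp_mul, GrpObj.comp_inv, MonObj.one_comp, ← Category.assoc,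
            toUnit_unique (_ ≫ toUnit R) (𝟙 _), Category.id_comp, _root_.mul_one, mul_inv_cancel]
        rw [← Scheme.Hom.comp_apply, ← Over.comp_left, h1]
        exact mem_connectedComponent
      have hrange' : Set.range u.left ⊆ Set.range c.left := by
        rw [hrange, ← Set.image_univ, connectedComponent_eq hue]
        exact (isPreconnected_univ.image _ u.left.continuous.continuousOn).subset_connectedComponent
          ⟨e₀, trivial, rfl⟩
      obtain ⟨w₁, hw₁⟩ := factor_of_range c u hrange'
      obtain ⟨w, hw⟩ := factor_of_range r w₁ (by rw [r.left.surjective.range_eq]; exact Set.subset_univ _)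
      exact ⟨w, by rw [← huj, ← hw₁, ← hw]; simp only [Category.assoc]⟩)
    haveI : IsClosedImmersion f.left := by
      haveI : IsClosedImmersion (f.left ≫ iK.left) := by rw [← Over.comp_left, hf]; infer_instance
      exact IsClosedImmersion.of_comp f.left iK.left
    calc topologicalKrullDim P.left
        ≤ topologicalKrullDim ↥(connectedComponent (η[P].left (IsLocalRing.closedPoint k))) :=
          CompDim.dim_le_component P
      _ = topologicalKrullDim C.left := by
          rw [← hrange, ← IsHomeomorph.topologicalKrullDim_eq _ c.left.isClosedEmbedding.isEmbedding.toHomeomorph.isHomeomorph]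
      _ = topologicalKrullDim R.left :=
          (IsHomeomorph.topologicalKrullDim_eq _
            (r.left.isClosedEmbedding.isEmbedding.toHomeomorphOfSurjective r.left.surjective).isHomeomorph).symm
      _ ≤ topologicalKrullDim NK.left := f.left.isClosedEmbedding.isEmbedding.isInducing.topologicalKrullDim_le

end Groth.Agent.S19517
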