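import Groth.Statements.S19518
import Groth.Agent.Lib.SolvImage.Basic
import Groth.Agent.H1.Classical.RadImageScheme

set_option autoImplicit false
universe u
open CategoryTheory CategoryTheory.Limits MonoidalCategory CartesianMonoidalCategory MonObj GrpObj AlgebraicGeometry
open AlgGrp

open Groth.Agent.H1.Classical Groth.Agent.Lib.GrpSch Groth.Agent.Lib.SolvImage
open Groth.Agent.Lib.RedPts.Points Groth.Agent.H1.Classical.Scheme'

/-- A normal subgroup which together with the commutators generates a solvable group is everything. -/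
theorem Groth.Agent.S19518.eq_top_of_sup {Δ : Type*} [Group Δ] [Group.IsSolvable Δ] (M : Subgroup Δ) [M.Normal]
    (h : _root_.commutator Δ ⊔ M = ⊤) : M = ⊤ := by
  by_contra hM
  haveI : Nontrivial (Δ ⧸ M) := by
    refine not_subsingleton_iff_nontrivial.mp fun hs => hM ((Subgroup.eq_top_iff' M).mpr fun x => ?_)
    exact (QuotientGroup.eq_one_iff x).mp (Subsingleton.elim _ _)
  haveI : Group.IsSolvable (Δ ⧸ M) := Group.isSolvable_of_surjective (f := QuotientGroup.mk' M) (QuotientGroup.mk'_surjective M)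
  refine (Group.IsSolvable.commutator_lt_top_of_nontrivial (Δ ⧸ M)).ne ?_
  have h1 := congrArg (Subgroup.map (QuotientGroup.mk' M)) h
  rw [Subgroup.map_sup, Subgroup.map_top_of_surjective _ (QuotientGroup.mk'_surjective M),
    QuotientGroup.map_mk'_self, sup_bot_eq, _root_.commutator_def, Subgroup.map_commutator,
    Subgroup.map_top_of_surjective _ (QuotientGroup.mk'_surjective M)] at h1
  exact h1

namespace Groth.Agent.S19518

/-- Over an algebraically closed field k let e → K → G → Q → e be an exact sequence of k-group schemes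
of finite type with G smooth and affine (i : K → G a closed subgroup scheme which is the kernel of
the flat surjective homomorphism π : G → Q), and let G_solv ⊆ G and Q_solv ⊆ Q be the largest smooth
connected solvable normal closed subgroup schemes. Then π maps G_solv into Q_solv and the induced
homomorphism G_solv → Q_solv is surjective. (The published proposition is stated for arbitrary
algebraic groups; G is taken smooth, as the argument requires, and affine, the setting in which the
solvable part is considered.) -/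
theorem result (k : Type u) [Field k] [IsAlgClosed k]
    (K G Q : Over (Spec (CommRingCat.of k))) [GrpObj K] [GrpObj G] [GrpObj Q]
    [QuasiCompact K.hom] [LocallyOfFiniteType K.hom] [Smooth G.hom] [QuasiCompact G.hom] [IsAffine G.left]
    [QuasiCompact Q.hom] [LocallyOfFiniteType Q.hom]
    (i : K ⟶ G) [IsMonHom i] [IsClosedImmersion i.left]
    (π : G ⟶ Q) [IsMonHom π] [Flat π.left] [Surjective π.left] (hker : AlgGrp.IsKernel i π)
    (NG : Over (Spec (CommRingCat.of k))) [GrpObj NG] (iG : NG ⟶ G) [IsMonHom iG] [IsClosedImmersion iG.left]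
    [Smooth NG.hom] [ConnectedSpace ↥NG.left] (hNGs : Red.IsSolvableGrp NG) (hNG : AlgGrp.IsNormalHom iG)
    (hNGmax : (∀ (N' : Over (Spec (CommRingCat.of k))) [GrpObj N'] (i' : N' ⟶ G) [IsMonHom i'] [IsClosedImmersion i'.left]
      [Smooth N'.hom] [ConnectedSpace ↥N'.left], Red.IsSolvableGrp N' → AlgGrp.IsNormalHom i' → ∃ f : N' ⟶ NG, f ≫ iG = i'))
    (NQ : Over (Spec (CommRingCat.of k))) [GrpObj NQ] (iQ : NQ ⟶ Q) [IsMonHom iQ] [IsClosedImmersion iQ.left]
    [Smooth NQ.hom] [ConnectedSpace ↥NQ.left] (hNQs : Red.IsSolvableGrp NQ) (hNQ : AlgGrp.IsNormalHom iQ)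
    (hNQmax : (∀ (N' : Over (Spec (CommRingCat.of k))) [GrpObj N'] (i' : N' ⟶ Q) [IsMonHom i'] [IsClosedImmersion i'.left]
      [Smooth N'.hom] [ConnectedSpace ↥N'.left], Red.IsSolvableGrp N' → AlgGrp.IsNormalHom i' → ∃ f : N' ⟶ NQ, f ≫ iQ = i')) :
    ∃ f : NG ⟶ NQ, f ≫ iQ = iG ≫ π ∧ Surjective f.left := by
  haveI : IsReduced G.left := isReduced_of_smooth_field G.hom
  haveI : IsReduced Q.left := Groth.Agent.Lib.CurvField.isReduced_of_flat_surjective π.left
  haveI : Smooth Q.hom := by
    haveI : GrpObj (Over.mk Q.hom) := inferInstanceAs (GrpObj Q)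
    exact Smooth.smooth_of_isReduced Q.hom
  haveI : IsAffine Q.left := (RadImage.isAffine_target π).1
  haveI : IsAffine NG.left := isAffine_of_isAffineHom iG.left
  haveI : IsAffine NQ.left := isAffine_of_isAffineHom iQ.left
  haveI : Mono iQ := Over.mono_of_mono_left iQ
  obtain ⟨W, _, w, w1, w2, w3, w4, w5, w6, hW⟩ := exists_image π iG hNG hNGs
  haveI := w1
  haveI := w2
  haveI := w3
  haveI := w4
  obtain ⟨fW, hfW⟩ := hNQmax W w w6 w5
  obtain ⟨f, hf⟩ := RadU.exists_factor_points iQ (iG ≫ π) fun z => by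
    obtain ⟨y, hy⟩ := hW z
    exact ⟨y ≫ fW, by rw [Category.assoc, hfW, hy]⟩
  refine ⟨f, hf, Scheme'.surjective_of_points f fun y => ?_⟩
  obtain ⟨C, _, c, c1, c2, c3, c4, c5, hdown, hup⟩ := exists_preimage π iQ hNQ
  haveI := c1
  haveI := c2
  haveI := c3
  haveI := c4
  haveI : IsAffine C.left := isAffine_of_isAffineHom c.left
  obtain ⟨R, _, r, r1, r2, r3, r4, r5, r6, hmax⟩ := RadU.exists_radical C
  haveI := r1
  haveI := r2
  haveI := r3
  haveI := r4
  haveI : IsOpenImmersion (𝟙 C : C ⟶ C).left := by rw [Over.id_left]; infer_instance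
  haveI : IsClosedImmersion (𝟙 C : C ⟶ C).left := by rw [Over.id_left]; infer_instance
  haveI : IsAffine R.left := isAffine_of_isAffineHom r.left
  have hn := RadU.normalPts_char c c5 (𝟙 C) r (RadU.isNormalPts_of_isNormalHom r6)
    fun f _ _ hf => hmax R f hf r5
  rw [Category.id_comp] at hn
  haveI : IsClosedImmersion (r ≫ c).left := by rw [Over.comp_left]; infer_instance
  obtain ⟨g, hg⟩ := hNGmax R (r ≫ c) r5 (RadU.isNormalHom_of_pts _ hn)
  let φ : (𝟙_ (Over (Spec (CommRingCat.of k))) ⟶ C) →* (𝟙_ (Over (Spec (CommRingCat.of k))) ⟶ NQ) :=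
    MonoidHom.mk' (fun z => (hdown z).choose) fun a b => by
      refine (cancel_mono iQ).mp ((hdown (a * b)).choose_spec.trans ?_)
      rw [MonObj.mul_comp (hdown a).choose, (hdown a).choose_spec, (hdown b).choose_spec]
      exact MonObj.mul_comp a b (c ≫ π)
  have hφ : ∀ z, φ z ≫ iQ = z ≫ c ≫ π := fun z => (hdown z).choose_spec
  have hφs : Function.Surjective φ := fun y => by
    obtain ⟨z, hz⟩ := hup y
    exact ⟨z, (cancel_mono iQ).mp ((hφ z).trans hz)⟩
  have htop := commutator_sup_range r r5 r6 hmax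
  have hRn : (postcomp r (𝟙_ (Over (Spec (CommRingCat.of k))))).range.Normal := ⟨fun t ht a => by
    obtain ⟨x, rfl⟩ := ht
    obtain ⟨x', hx'⟩ := r6 _ a x
    exact ⟨x', hx'.symm⟩⟩
  haveI : ((postcomp r (𝟙_ (Over (Spec (CommRingCat.of k))))).range.map φ).Normal := hRn.map φ hφs
  obtain ⟨n, hn'⟩ := hNQs
  haveI : Group.IsSolvable (𝟙_ (Over (Spec (CommRingCat.of k))) ⟶ NQ) := (Group.isSolvable_def _).mpr ⟨n, hn' _⟩
  have hM := eq_top_of_sup ((postcomp r (𝟙_ (Over (Spec (CommRingCat.of k))))).range.map φ) (by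
    have := congrArg (Subgroup.map φ) htop
    rwa [Subgroup.map_sup, _root_.commutator_def, Subgroup.map_commutator,
      Subgroup.map_top_of_surjective φ hφs] at this)
  obtain ⟨_, ⟨x, rfl⟩, hxy⟩ := (SetLike.ext_iff.mp hM y).2 (Subgroup.mem_top _)
  refine ⟨x ≫ g, ?_⟩
  rw [← cancel_mono iQ, ← hxy, hφ, Category.assoc, Category.assoc, hf, reassoc_of% hg]
  exact (Category.assoc _ _ _).symm

end Groth.Agent.S19518
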