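import Groth.Statements.S19521
import Groth.Agent.Lib.H3.PhiInj
import Groth.Agent.H2.Rigid.GeomIrred
-- import your own Groth.Agent.* helpers here

set_option autoImplicit false
universe u
open CategoryTheory CategoryTheory.Limits MonoidalCategory CartesianMonoidalCategory MonObj GrpObj AlgebraicGeometry
open AbDual

namespace Groth.Agent.S19521

/-- Let S be a locally Noetherian scheme and f : A' → A a homomorphism of abelian schemes over S. Let
A^t, A'^t be dual abelian schemes of A, A' (given through φ_A, φ_A', fppf topology, classes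
algebraically equivalent to zero on geometric fibres), A^tt, A'^tt dual abelian schemes of A^t, A'^t
(through φ_{A^t}, φ_{A'^t}), ξ and ξ' Poincaré classes on A ×_S A^t and A' ×_S A'^t whose
factor-swapped classes are algebraically equivalent to zero on the geometric fibres over A and A',
f^t : A^t → A'^t the transpose of f and f^tt : A'^tt → A^tt the transpose of f^t. With κ_A : A →
A^tt and κ_A' : A' → A'^tt the biduality morphisms defined by the swapped Poincaré classes, the
square commutes: f followed by κ_A equals κ_A' followed by f^tt. (The published statement is for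
projective abelian schemes over a Noetherian base, where the duals exist as schemes; here the duals
are given as data.) -/
theorem result {S : Scheme.{u}} [IsLocallyNoetherian S]
    (A At Att A' A't A'tt : Over S) [GrpObj A] [IsCommMonObj A] [IsProper A.hom] [Smooth A.hom] [GeometricallyConnected A.hom] [GrpObj At] [IsCommMonObj At] [IsProper At.hom] [Smooth At.hom] [GeometricallyConnected At.hom] [GrpObj Att] [IsCommMonObj Att] [IsProper Att.hom] [Smooth Att.hom] [GeometricallyConnected Att.hom]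
    [GrpObj A'] [IsCommMonObj A'] [IsProper A'.hom] [Smooth A'.hom] [GeometricallyConnected A'.hom] [GrpObj A't] [IsCommMonObj A't] [IsProper A't.hom] [Smooth A't.hom] [GeometricallyConnected A't.hom] [GrpObj A'tt] [IsCommMonObj A'tt] [IsProper A'tt.hom] [Smooth A'tt.hom] [GeometricallyConnected A'tt.hom]
    (φA : ∀ T : Over S, PicF.Cl (PicF.XT A.hom T) → (T ⟶ At))
    (φAt : ∀ T : Over S, PicF.Cl (PicF.XT At.hom T) → (T ⟶ Att))
    (φA' : ∀ T : Over S, PicF.Cl (PicF.XT A'.hom T) → (T ⟶ A't))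
    (φA't : ∀ T : Over S, PicF.Cl (PicF.XT A't.hom T) → (T ⟶ A'tt))
    (hA : AbDual.IsDualAV Scheme.fppfPrecoverage A At φA) (hAt : AbDual.IsDualAV Scheme.fppfPrecoverage At Att φAt)
    (hA' : AbDual.IsDualAV Scheme.fppfPrecoverage A' A't φA') (hA't : AbDual.IsDualAV Scheme.fppfPrecoverage A't A'tt φA't)
    (ξ : PicF.Cl (PicF.XT A.hom At)) (hξ : AbDual.IsPoincareCl A At φA ξ)
    (hξs : AbDual.IsPicZeroCl At.hom A (PicF.pullCl (pullbackSymmetry At.hom A.hom).hom ξ))
    (ξ' : PicF.Cl (PicF.XT A'.hom A't)) (hξ' : AbDual.IsPoincareCl A' A't φA' ξ')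
    (hξ's : AbDual.IsPicZeroCl A't.hom A' (PicF.pullCl (pullbackSymmetry A't.hom A'.hom).hom ξ'))
    (f : A' ⟶ A) [IsMonHom f] (ft : At ⟶ A't) (hft : AbDual.IsTranspose f φA' φA ft)
    (ftt : A'tt ⟶ Att) (hftt : AbDual.IsTranspose ft φAt φA't ftt) :
    f ≫ φAt A (PicF.pullCl (pullbackSymmetry At.hom A.hom).hom ξ) =
      φA't A' (PicF.pullCl (pullbackSymmetry A't.hom A'.hom).hom ξ') ≫ ftt := by
  letI : ∀ Y : Scheme.{u}, PicGrp.Law Y := Groth.Agent.Lib.TensorMod.Invertible.law
  haveI : GeometricallyIntegral A'.hom := Groth.Agent.H2.Rigid.GeomIrred.geometricallyIntegral_of_smooth A'.hom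
  haveI : IsLocallyNoetherian At.left := LocallyOfFiniteType.isLocallyNoetherian At.hom
  open Groth.Agent.H3 Groth.Agent.H4.PicZero Groth.Agent.Lib.H3 in
  obtain ⟨x, hx, hx0, hxr, hxφ⟩ := PhiInj.exists_poincare hA hξ
  open Groth.Agent.H3 Groth.Agent.H4.PicZero Groth.Agent.Lib.H3 in
  obtain ⟨x', hx', hx'0, hx'r, hx'φ⟩ := PhiInj.exists_poincare hA' hξ'
  open Groth.Agent.H3 Groth.Agent.H4.PicZero Groth.Agent.Lib.H3 in
  have hkey : PicCalc.ph (A' ◁ ft) x' = PicCalc.ph (f ▷ At) x := by
    refine PhiInj.eq_of_phi_eq hA' (isPicZeroCl_ph _ _ (whiskerLeft_snd _ _) hx'0)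
      (isPicZeroCl_ph (𝟙 At) _ (by rw [whiskerRight_snd, Category.comp_id]) hx0) ?_ ?_ ?_
    · rw [PhiInj.rig_ph, hx'r, map_one]
    · have e : lift (1 : At ⟶ A') (𝟙 At) ≫ f ▷ At = lift (1 : At ⟶ A) (𝟙 At) := by
        apply CartesianMonoidalCategory.hom_ext
        · rw [Category.assoc, whiskerRight_fst, lift_fst, lift_fst_assoc, MonObj.one_comp]
        · simp
      rw [PhiInj.rig, ← PicCalc.ph_comp, e]
      exact hxr
    · rw [hx'φ, PicCalc.ph_val, ← bcMap_eq, hft At x.1 hx0]
      have h1 : φA At x.1 = 𝟙 At := by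
        have := hxφ (𝟙 At)
        rwa [MonoidalCategory.whiskerLeft_id, PicCalc.ph_id] at this
      rw [h1, Category.id_comp]
  open Groth.Agent.H3 Groth.Agent.H4.PicZero Groth.Agent.Lib.H3 in
  have h := hftt A' _ hξ's
  open Groth.Agent.H3 Groth.Agent.H4.PicZero Groth.Agent.Lib.H3 in
  rw [← h, ← hAt.relPic.natural A A' f _ hξs, XTmap_eq, bcMap_eq, PhiInj.symm_eq, PhiInj.symm_eq,
    ← hx, ← hx', ← PicCalc.ph_val, ← PicCalc.ph_val, ← PicCalc.ph_val, ← PicCalc.ph_val,
    ← PicCalc.ph_comp, ← PicCalc.ph_comp, BraidedCategory.braiding_naturality_left,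
    BraidedCategory.braiding_naturality_right, PicCalc.ph_comp, PicCalc.ph_comp, hkey]

end Groth.Agent.S19521
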