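import Groth.Statements.S19522
import Groth.Agent.Lib.Comod.Alg
import Groth.Agent.Lib.Comod.Reynolds
-- import your own Groth.Agent.* helpers here

set_option autoImplicit false
universe u
open TensorProduct
open GLin

namespace Groth.Agent.S19522

/-- Let k be a field, A a commutative k-bialgebra coacting multiplicatively on a commutative k-algebra
R, and χ ∈ A a group-like element with an inverse χ' (χχ' = 1). Suppose the polynomial ring R[t]
carries a multiplicative coaction which restricts to the given one on constants and sends t to t ⊗
χ'. Then g ∈ R[t] is coinvariant if and only if, for every r, its r-th coefficient has coaction g_r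
↦ g_r ⊗ χ^r; that is, the ring of invariants of R[t] is the sum over r ≥ 0 of the weight-χ^r
semi-invariants of R times t^r. (The published statement is phrased for an affine variety with an
action of a linear algebraic group over an algebraically closed field of characteristic zero and
identifies the invariants of X × A¹ with the graded ring of invariant sections of the powers of the
linearised trivial bundle; this is its coordinate-ring content, valid over any field.) -/
theorem result (k : Type u) [Field k]
    (A : Type u) [CommRing A] [Bialgebra k A]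
    (R : Type u) [CommRing R] [Algebra k R] [HopfRep.Comod k A R] [GLin.IsCoactAlg k A R]
    [HopfRep.Comod k A (Polynomial R)] [GLin.IsCoactAlg k A (Polynomial R)]
    (χ χ' : A) (hχ : CoalgebraStruct.comul (R := k) (A := A) χ = χ ⊗ₜ[k] χ)
    (hχε : CoalgebraStruct.counit (R := k) (A := A) χ = 1) (hχχ' : χ * χ' = 1)
    (hC : ∀ r : R, HopfRep.Comod.coact (k := k) (A := A) (Polynomial.C r) =
      Algebra.TensorProduct.map (Polynomial.CAlgHom : R →ₐ[k] Polynomial R) (AlgHom.id k A)
        (HopfRep.Comod.coact (k := k) (A := A) r))
    (hX : HopfRep.Comod.coact (k := k) (A := A) (Polynomial.X : Polynomial R) = Polynomial.X ⊗ₜ[k] χ')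
    (g : Polynomial R) :
    g ∈ GLin.invariants k A (Polynomial R) ↔
      ∀ r : ℕ, g.coeff r ∈ HopfRep.eigenspace k A R (χ ^ r) := by
  open Groth.Agent.Lib.Comod.Basic Groth.Agent.Lib.Comod.Reynolds in
  have key : ∀ (φ : A →ₗ[k] k) (n : ℕ),
      (dact (Polynomial R) φ g).coeff n = dact R (φ ∘ₗ LinearMap.mulRight k (χ' ^ n)) (g.coeff n) := by
    intro φ n
    induction g using Polynomial.induction_on' with
    | add p q hp hq => simp only [map_add, Polynomial.coeff_add, hp, hq]
    | monomial j a =>
      have hXj : HopfRep.Comod.coact (k := k) (A := A) ((Polynomial.X : Polynomial R) ^ j) =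
          (Polynomial.X ^ j : Polynomial R) ⊗ₜ[k] (χ' ^ j) := by
        rw [← GLin.coactAlgHom_apply, map_pow, GLin.coactAlgHom_apply, hX, Algebra.TensorProduct.tmul_pow]
      rw [← Polynomial.C_mul_X_pow_eq_monomial, dact_apply, GLin.IsCoactAlg.coact_mul, hXj, hC, dact_apply]
      rw [Polynomial.C_mul_X_pow_eq_monomial, Polynomial.coeff_monomial]
      by_cases hjn : j = n
      · subst hjn
        rw [if_pos rfl]
        induction HopfRep.Comod.coact (k := k) (A := A) a using TensorProduct.induction_on with
        | zero => simp
        | tmul r c => simp [Polynomial.coeff_C_mul_X_pow, Algebra.TensorProduct.tmul_mul_tmul]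
        | add x y hx hy => simp only [map_add, add_mul, Polynomial.coeff_add, hx, hy]
      · rw [if_neg hjn]
        induction HopfRep.Comod.coact (k := k) (A := A) a using TensorProduct.induction_on with
        | zero => simp
        | tmul r c => simp [Polynomial.coeff_C_mul_X_pow, Algebra.TensorProduct.tmul_mul_tmul, Ne.symm hjn]
        | add x y hx hy => simp only [map_add, add_mul, Polynomial.coeff_add, hx, hy] at *; simp [hx, hy]
  constructor
  · intro hg r
    refine Groth.Agent.Lib.Comod.Reynolds.mem_eigenspace_iff.2 fun ψ => ?_
    have h := congrArg (fun p : Polynomial R => p.coeff r)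
      (Groth.Agent.Lib.Comod.Reynolds.mem_fixedPts_iff.1 hg (ψ ∘ₗ LinearMap.mulRight k (χ ^ r)))
    simp only [key, Polynomial.coeff_smul, LinearMap.comp_apply, LinearMap.mulRight_apply, one_mul] at h
    have e : (ψ ∘ₗ LinearMap.mulRight k (χ ^ r)) ∘ₗ LinearMap.mulRight k (χ' ^ r) = ψ :=
      LinearMap.ext fun c => by simp [mul_assoc, ← mul_pow, mul_comm χ', hχχ']
    rwa [e] at h
  · intro hg
    refine Groth.Agent.Lib.Comod.Reynolds.mem_fixedPts_iff.2 fun φ => Polynomial.ext fun n => ?_
    rw [key, Polynomial.coeff_smul, Groth.Agent.Lib.Comod.Reynolds.mem_eigenspace_iff.1 (hg n)]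
    simp [← mul_pow, hχχ']

end Groth.Agent.S19522
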