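import Groth.Statements.S19524
import Groth.Agent.Lib.BirMap96.DiffRank
import Groth.Agent.Lib.JacCrit.SmoothNhd
import Groth.Agent.S2535
-- import your own Groth.Agent.* helpers here

set_option autoImplicit false
set_option linter.style.haveILetI false
universe u
open CategoryTheory CategoryTheory.Limits AlgebraicGeometry
open OmegaSh

namespace Groth.Agent.S19524

/-- Let k be a field and f : X → Z a k-morphism between integral proper k-schemes, where X is
geometrically normal (its base change to an algebraic closure of k has integrally closed local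
domains) and Z is smooth over k; let Y ⊆ Z be the closure of the image of f, m its dimension, and
assume the fibre of f over the generic point of Y is geometrically reduced over the residue field
there (the function field extension K(Y) ⊆ K(X) is separable). Let d_Z : O_Z → Ω_Z and d_X : O_X →
Ω_X be universal k-derivations and c : f^*Ω_Z → Ω_X the O_X-linear map compatible with them, and let
U ⊆ X be the largest open subscheme smooth over k. If f^*Ω_Z is a free O_X-module of finite rank and
Ω^m_X is an m-th exterior power of Ω_X (affine-locally the exterior power of the sections), then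
Ω^m_X has a nonzero section over U: h⁰(U, Ω^m) ≥ 1. -/
theorem result (k : Type u) [Field k]
    (X Z : Scheme.{u}) [X.Over (Spec (CommRingCat.of k))] [Z.Over (Spec (CommRingCat.of k))]
    [IsProper (X ↘ Spec (CommRingCat.of k))] [IsProper (Z ↘ Spec (CommRingCat.of k))] [IsIntegral X] [IsIntegral Z]
    [Smooth (Z ↘ Spec (CommRingCat.of k))]
    (hgn : ∀ (K : Type u) [Field K] [Algebra k K] [IsAlgClosure k K],
      Pi1.IsNormalScheme (pullback (X ↘ Spec (CommRingCat.of k)) (Spec.map (CommRingCat.ofHom (algebraMap k K)))))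
    (f : X ⟶ Z) (hf : f ≫ (Z ↘ Spec (CommRingCat.of k)) = X ↘ Spec (CommRingCat.of k))
    (η : Z) (hη : closure {η} = closure (Set.range f.base)) (m : ℕ)
    (hm : topologicalKrullDim (closure (Set.range f.base)) = m)
    (hsep : GeometricallyReduced (pullback.snd f (Z.fromSpecResidueField η)))
    (ΩZ : Z.Modules) (dZ : OmegaSh.Der (Z ↘ Spec (CommRingCat.of k)) ΩZ) (hdZ : OmegaSh.IsUniversal dZ)
    (ΩX : X.Modules) (dX : OmegaSh.Der (X ↘ Spec (CommRingCat.of k)) ΩX) (hdX : OmegaSh.IsUniversal dX)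
    (c : (Scheme.Modules.pullback f).obj ΩZ ⟶ ΩX) (hc : OmegaSh.IsDiffCompat f dZ dX c)
    (hfree : ∃ d : ℕ, Nonempty ((Scheme.Modules.pullback f).obj ΩZ ≅ FlatMod.freeMod X d))
    (U : X.Opens) (hU : Smooth (U.ι ≫ (X ↘ Spec (CommRingCat.of k))))
    (hUmax : ∀ V : X.Opens, Smooth (V.ι ≫ (X ↘ Spec (CommRingCat.of k))) → V ≤ U)
    (Ωm : X.Modules) (hΩm : ExtPow.IsExtPow m ΩX Ωm) :
    ∃ s : Ωm.val.obj (Opposite.op U), s ≠ 0 := by
  open Groth.Agent.Lib in
  obtain ⟨s, hs⟩ := Groth.Agent.Lib.BirMap96.DiffRank.exists_sections _ _ f hf η hη m hm hsep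
    ΩZ dZ ΩX dX hdX c hc hfree
  set p := X ↘ Spec (CommRingCat.of k) with hp
  -- the generic point is a smooth point
  have hξ : genericPoint X ∈ U := by
    let K := AlgebraicClosure k
    have hn := hgn K
    haveI : ∀ z : FBase.bc p K, _root_.IsReduced ((FBase.bc p K).presheaf.stalk z) := fun z =>
      haveI : IsDomain ((FBase.bc p K).presheaf.stalk z) := (hn z).1
      inferInstance
    haveI : AlgebraicGeometry.IsReduced (FBase.bc p K) := isReduced_of_isReduced_stalk _
    haveI : GeometricallyReduced p := Groth.Agent.S2535.result (Ω := K) p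
    haveI : LocallyOfFinitePresentation p :=
      LocallyOfFinitePresentation.iff_locallyOfFiniteType.2 inferInstance
    have hsm : genericPoint X ∈ p.smoothLocus :=
      Scheme.Hom.mem_smoothLocus.mpr
        (Groth.Agent.Lib.BirMap96.SepGeneric.formallySmooth_stalkMap p (Subsingleton.elim _ _)
          inferInstance)
    obtain ⟨W, hW, hWsm⟩ := (Groth.Agent.Lib.JacCrit.SmoothNhd.exists_smooth_nhd_iff p _).mpr hsm
    exact hUmax W hWsm hW
  obtain ⟨φ, hφ⟩ := hΩm
  -- glue the wedge over the affine opens of `U`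
  let I := {V : X.affineOpens // V.1 ≤ U}
  let z : ∀ i : I, Γ(Ωm, i.1.1) := fun i =>
    (φ i.1).symm (exteriorPower.ιMulti Γ(X, i.1.1) m fun j =>
      Groth.Agent.Lib.TensorMod.Dual.rs ΩX (le_top : i.1.1 ≤ ⊤) (s j))
  have hres : ∀ (i : I) (V : X.affineOpens) (h : V.1 ≤ i.1.1),
      Groth.Agent.Lib.TensorMod.Dual.rs Ωm h (z i) =
        (φ V).symm (exteriorPower.ιMulti Γ(X, V.1) m fun j =>
          Groth.Agent.Lib.TensorMod.Dual.rs ΩX (le_top : V.1 ≤ ⊤) (s j)) := by
    intro i V h
    refine (hφ i.1 V h _).trans ?_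
    refine congrArg (fun e => (φ V).symm (exteriorPower.ιMulti Γ(X, V.1) m e)) (funext fun j => ?_)
    exact Groth.Agent.Lib.TensorMod.Dual.rs_rs ΩX (le_top : i.1.1 ≤ ⊤) h (s j)
  haveI : X.IsSeparated := by
    constructor
    rw [show Limits.terminal.from X = p ≫ Limits.terminal.from _ from Subsingleton.elim _ _]
    infer_instance
  obtain ⟨y, hy, -⟩ := TopCat.Sheaf.existsUnique_gluing' ⟨Ωm.presheaf, Ωm.isSheaf⟩
    (fun i : I => i.1.1) U (fun i => homOfLE i.2) (fun x hx => by
      obtain ⟨V, hV, hxV, hVU⟩ := exists_isAffineOpen_mem_and_subset (X := X) (U := U) hx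
      exact TopologicalSpace.Opens.mem_iSup.mpr ⟨⟨⟨V, hV⟩, hVU⟩, hxV⟩) z (fun i i' => by
      let V : X.affineOpens := ⟨i.1.1 ⊓ i'.1.1, i.1.2.inf i'.1.2⟩
      exact (hres i V inf_le_left).trans (hres i' V inf_le_right).symm)
  obtain ⟨V, hV, hξV, hVU⟩ := exists_isAffineOpen_mem_and_subset (X := X) (U := U) hξ
  refine ⟨y, fun h0 => (hs V ⟨_, hξV⟩).2 ?_⟩
  have h1 := hy ⟨⟨V, hV⟩, hVU⟩
  rw [h0] at h1
  exact (φ ⟨V, hV⟩).symm.injective
    ((h1.symm.trans (map_zero (Ωm.presheaf.map (homOfLE hVU).op).hom)).trans (map_zero _).symm)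

end Groth.Agent.S19524
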