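import Groth.Statements.S1953
import Groth.Agent.S6451
import Groth.Agent.H19.IntMult.DiagReduce
import Groth.Agent.Lib.Cyc.Push

set_option autoImplicit false
universe u
open CategoryTheory CategoryTheory.Limits AlgebraicGeometry
attribute [local instance] HasDerivedCategory.standard
open IntMult

namespace Groth.Agent.S1953

open Groth.Agent.Lib Groth.Agent.H19.IntMult CategoryTheory.Limits

theorem delta_diag {K : Type u} [Field K] {X : Scheme.{u}} (f : X ⟶ Spec (CommRingCat.of K))
    [LocallyOfFiniteType f] [IsSeparated f] {δ : X → ℤ} {δ₂ : ↥(pullback f f) → ℤ}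
    (hδ : Cyc.DeltaCompat f δ (fun _ => 0)) (h₂ : Cyc.DeltaCompat (pullback.fst f f ≫ f) δ₂ (fun _ => 0)) (v : X) :
    δ₂ (pullback.diagonal f v) = δ v := by
  have e : pullback.diagonal f ≫ pullback.fst f f ≫ f = f := by simp
  haveI : LocallyOfFiniteType (pullback.diagonal f ≫ pullback.fst f f ≫ f) := by rw [e]; infer_instance
  have h := ExtProd.fdelta_preimmersion (pullback.diagonal f) (pullback.fst f f ≫ f) v
  simp only [e] at h
  rw [Cyc.DegK.Dim.delta_eq hδ, Cyc.DegK.Dim.delta_eq h₂, h]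


/-- Let X be a proper nonsingular variety over K, α an r-cycle and β an s-cycle intersecting properly, Δ
⊆ X ×_K X the diagonal (as the prime cycle of its generic point) and α × β the exterior product,
with dimension function δ₂ on X ×_K X. Then [Δ] and α × β intersect properly and pr_{1,*}([Δ] · (α ×
β)) = α · β coefficientwise, for any cycle on X ×_K X with the coefficients of [Δ] · (α × β). Here X
is a nonsingular variety over the algebraically closed field K (smooth, separated, quasi-compact,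
integral) with dimension function δ (transcendence degree) and n = dim X; cycles are Mathlib
AlgebraicCycles with Cyc.Zk membership, proper intersection is IntMult.IntersectProperly and α · β
is the Tor-formula intersection product on coefficient functions (IntMult.interProd), bundled where
needed as 'any cycle with these coefficients'. -/
theorem result (K : Type u) [Field K] [IsAlgClosed K] (X : Scheme.{u}) (f : X ⟶ Spec (CommRingCat.of K)) [Smooth f] [IsProper f] [IsIntegral X] (δ : X → ℤ) (hX : Cyc.IsSetup X δ) (hδ : Cyc.DeltaCompat f δ (fun _ => 0)) (n : ℤ) (hn : δ (genericPoint X) = n) (δ₂ : ↥(pullback f f) → ℤ) (h₂ : Cyc.DeltaCompat (pullback.fst f f ≫ f) δ₂ (fun _ => 0)) (h₂' : Cyc.DeltaCompat (pullback.fst f f) δ₂ δ) (r s : ℤ) (α β : AlgebraicCycle X ℤ) (hα : α ∈ Cyc.Zk X δ r) (hβ : β ∈ Cyc.Zk X δ s) (hprop : IntMult.IntersectProperly δ n ⇑α ⇑β) (γ : AlgebraicCycle (pullback f f) ℤ) (hγ : ⇑γ = IntMult.interProd δ₂ (n + n) (Set.indicator {pullback.diagonal f (genericPoint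 X)} 1) (IntMult.extProd f f δ δ δ₂ ⇑α ⇑β)) : IntMult.IntersectProperly δ₂ (n + n) (Set.indicator {pullback.diagonal f (genericPoint X)} 1) (IntMult.extProd f f δ δ δ₂ ⇑α ⇑β) ∧ ⇑(AlgebraicCycle.map (pullback.fst f f) δ₂ δ γ) = IntMult.interProd δ n ⇑α ⇑β := by
  haveI := hX.1
  haveI : IsSeparated f := inferInstance
  haveI : QuasiCompact f := inferInstance
  haveI : IsClosedImmersion (pullback.diagonal f) := inferInstance
  have hdiag : ∀ v : X, δ₂ (pullback.diagonal f v) = δ v := delta_diag f hδ h₂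
  have hfst : ∀ v : X, pullback.fst f f (pullback.diagonal f v) = v := fun v => by
    show (pullback.diagonal f ≫ pullback.fst f f) v = v
    rw [pullback.diagonal_fst]; rfl
  have hsnd : ∀ v : X, pullback.snd f f (pullback.diagonal f v) = v := fun v => by
    show (pullback.diagonal f ≫ pullback.snd f f) v = v
    rw [pullback.diagonal_snd]; rfl
  have hrng : ∀ {z : ↥(pullback f f)}, pullback.diagonal f (genericPoint X) ⤳ z →
      ∃ v, pullback.diagonal f v = z := fun {z} h =>
    h.mem_closed (pullback.diagonal f).isClosedEmbedding.isClosed_range ⟨_, rfl⟩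
  have hg : δ₂ (pullback.diagonal f (genericPoint X)) = n := by rw [hdiag, hn]
  have hext : ∀ {z : ↥(pullback f f)}, IntMult.extProd f f δ δ δ₂ ⇑α ⇑β z ≠ 0 →
      α (pullback.fst f f z) ≠ 0 ∧ β (pullback.snd f f z) ≠ 0 ∧ δ (pullback.fst f f z) = r ∧
        δ (pullback.snd f f z) = s ∧ δ₂ z = r + s := fun {z} h => by
    simp only [IntMult.extProd, ne_eq, ite_eq_right_iff, not_forall] at h
    obtain ⟨h1, h2⟩ := h
    have ha := left_ne_zero_of_mul (left_ne_zero_of_mul h2)
    have hb := right_ne_zero_of_mul (left_ne_zero_of_mul h2)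
    have e1 : δ (pullback.fst f f z) = r := by
      by_contra hc; exact ha (hα _ hc)
    have e2 : δ (pullback.snd f f z) = s := by
      by_contra hc; exact hb (hβ _ hc)
    exact ⟨ha, hb, e1, e2, by omega⟩
  refine ⟨fun ξ η ζ hξ hη h1 h2 => ?_, funext fun w => ?_⟩
  · obtain rfl : ξ = pullback.diagonal f (genericPoint X) := by
      by_contra hc; exact hξ (Set.indicator_of_notMem (Set.notMem_singleton_iff.mpr hc) _)
    obtain ⟨a1, a2, e1, e2, e3⟩ := hext hη
    obtain ⟨v, rfl⟩ := hrng h1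
    have p1 := h2.map (pullback.fst f f).continuous
    have p2 := h2.map (pullback.snd f f).continuous
    rw [hfst] at p1
    rw [hsnd] at p2
    have := hprop _ _ v a1 a2 p1 p2
    rw [hg, hdiag]
    omega
  classical
  have hmap : AlgebraicCycle.map (pullback.fst f f) δ₂ δ γ w = γ (pullback.diagonal f w) := by
    rw [Cyc.Push.map_apply, finsum_mem_eq_sum_of_inter_support_eq (t := {pullback.diagonal f w}) _ (by
      ext z
      simp only [Set.mem_inter_iff, Set.mem_preimage, Set.mem_singleton_iff, Function.mem_support,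
        Finset.coe_singleton]
      constructor
      · rintro ⟨hz, h⟩
        refine ⟨?_, h⟩
        have hγz := left_ne_zero_of_mul h
        rw [hγ] at hγz
        obtain ⟨⟨⟨p, q⟩, h1, h2, h3⟩, hp⟩ : ∃ pq : {pq : ↥(pullback f f) × ↥(pullback f f) // pq.1 ⤳ z ∧ pq.2 ⤳ z ∧
            δ₂ pq.1 + δ₂ pq.2 - (n + n) = δ₂ z},
            Set.indicator {pullback.diagonal f (genericPoint X)} (1 : ↥(pullback f f) → ℤ) pq.1.1 ≠ 0 := by
          by_contra hc
          push Not at hc
          exact hγz (finsum_eq_zero_of_forall_eq_zero fun pq => by rw [hc pq, zero_mul, zero_mul])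
        obtain rfl : p = pullback.diagonal f (genericPoint X) := by
          by_contra hc; exact hp (Set.indicator_of_notMem (Set.notMem_singleton_iff.mpr hc) _)
        obtain ⟨v, rfl⟩ := hrng h1
        rw [← hz, hfst]
      · rintro ⟨hz, h⟩
        exact ⟨by rw [hz, hfst], h⟩), Finset.sum_singleton, AlgebraicCycle.mapCoeff]
    erw [if_pos (show δ₂ (pullback.diagonal f w) = δ (pullback.fst f f (pullback.diagonal f w)) by rw [hdiag, hfst])]
    rw [DiagReduce.residueDegree_fst, Nat.cast_one, mul_one]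
  rw [hmap, hγ]
  obtain ⟨A, hA⟩ := S6451.exists_gen_finset α w
  obtain ⟨B, hB⟩ := S6451.exists_gen_finset β w
  have hrA : ∀ x ∈ A, δ x = r := fun x hx => by
    by_contra h; exact ((hA x).1 hx).2 (hα x h)
  have hsB : ∀ y ∈ B, δ y = s := fun y hy => by
    by_contra h; exact ((hB y).1 hy).2 (hβ y h)
  by_cases hw : δ w = r + s - n
  swap
  · refine Eq.trans (finsum_eq_zero_of_forall_eq_zero fun ⟨⟨p, q⟩, h1, h2, h3⟩ => ?_)
      (finsum_eq_zero_of_forall_eq_zero fun ⟨⟨x, y⟩, h1, h2, h3⟩ => ?_).symm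
    · by_contra h
      dsimp only at h h1 h2 h3
      have hp := left_ne_zero_of_mul (left_ne_zero_of_mul h)
      obtain rfl : p = pullback.diagonal f (genericPoint X) := by
        by_contra hc; exact hp (Set.indicator_of_notMem (Set.notMem_singleton_iff.mpr hc) _)
      obtain ⟨-, -, -, -, e3⟩ := hext (right_ne_zero_of_mul (left_ne_zero_of_mul h))
      rw [hg, hdiag] at h3
      omega
    · by_contra h
      dsimp only at h h1 h2 h3
      have e1 := hrA x ((hA x).2 ⟨h1, left_ne_zero_of_mul (left_ne_zero_of_mul h)⟩)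
      have e2 := hsB y ((hB y).2 ⟨h2, right_ne_zero_of_mul (left_ne_zero_of_mul h)⟩)
      omega
  have hpair : ∀ xy ∈ A ×ˢ B, ∃ Z : Finset ↥(pullback f f),
      (∀ z, z ∈ Z ↔ z ⤳ pullback.diagonal f w ∧ pullback.fst f f z = xy.1 ∧ pullback.snd f f z = xy.2 ∧ δ₂ z = r + s) ∧
      ∑ z ∈ Z, DiagReduce.len f z * IntMult.mult (IntMult.ptIdeal (pullback.diagonal f (genericPoint X))) (IntMult.ptIdeal z)
        (pullback.diagonal f w) = IntMult.mult (IntMult.ptIdeal xy.1) (IntMult.ptIdeal xy.2) w := fun xy hxy => by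
    obtain ⟨hx, hy⟩ := Finset.mem_product.1 hxy
    refine DiagReduce.pair_eq f hδ h₂ hn ((hA _).1 hx).1 ((hB _).1 hy).1 (hrA _ hx) (hsB _ hy) hw fun v h1 h2 => ?_
    have := hprop _ _ v ((hA _).1 hx).2 ((hB _).1 hy).2 h1 h2
    rw [hrA _ hx, hsB _ hy] at this
    exact this
  choose! Z hZ hsum using hpair
  let tm : ↥(pullback f f) × ↥(pullback f f) → ℤ := fun p =>
    Set.indicator {pullback.diagonal f (genericPoint X)} (1 : ↥(pullback f f) → ℤ) p.1 *
      IntMult.extProd f f δ δ δ₂ ⇑α ⇑β p.2 *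
      IntMult.mult (IntMult.ptIdeal p.1) (IntMult.ptIdeal p.2) (pullback.diagonal f w)
  let tr : X × X → ℤ := fun p => α p.1 * β p.2 * IntMult.mult (IntMult.ptIdeal p.1) (IntMult.ptIdeal p.2) w
  have hL : (∑ᶠ p : {p : ↥(pullback f f) × ↥(pullback f f) // p.1 ⤳ pullback.diagonal f w ∧
      p.2 ⤳ pullback.diagonal f w ∧ δ₂ p.1 + δ₂ p.2 - (n + n) = δ₂ (pullback.diagonal f w)}, tm p.1) =
      ∑ xy ∈ A ×ˢ B, tr xy := by
    refine (finsum_subtype_eq_finsum_cond (f := tm) _).trans ?_
    refine (finsum_cond_eq_sum_of_cond_iff tm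
      (t := (((A ×ˢ B).biUnion Z).image fun z => (pullback.diagonal f (genericPoint X), z)).filter fun p => tm p ≠ 0)
      ?_).trans ?_
    · rintro ⟨p, q⟩ hx
      simp only [Finset.mem_filter, Finset.mem_image, Finset.mem_biUnion, Prod.mk.injEq]
      constructor
      · rintro ⟨h1, h2, h3⟩
        have hp := left_ne_zero_of_mul (left_ne_zero_of_mul hx)
        obtain rfl : p = pullback.diagonal f (genericPoint X) := by
          by_contra hc; exact hp (Set.indicator_of_notMem (Set.notMem_singleton_iff.mpr hc) _)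
        obtain ⟨a1, a2, e1, e2, e3⟩ := hext (right_ne_zero_of_mul (left_ne_zero_of_mul hx))
        have p1 := h2.map (pullback.fst f f).continuous
        have p2 := h2.map (pullback.snd f f).continuous
        dsimp only at p1 p2 a1 a2 e3
        rw [hfst] at p1
        rw [hsnd] at p2
        have hm : (pullback.fst f f q, pullback.snd f f q) ∈ A ×ˢ B :=
          Finset.mem_product.2 ⟨(hA _).2 ⟨p1, a1⟩, (hB _).2 ⟨p2, a2⟩⟩
        exact ⟨⟨q, ⟨_, hm, (hZ _ hm q).2 ⟨h2, rfl, rfl, e3⟩⟩, rfl, rfl⟩, hx⟩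
      · rintro ⟨⟨z, ⟨xy, hxy, hz⟩, rfl, rfl⟩, -⟩
        obtain ⟨h1, -, -, h4⟩ := (hZ _ hxy z).1 hz
        exact ⟨(genericPoint_specializes w).map (pullback.diagonal f).continuous, h1, by rw [h4, hg, hdiag]; omega⟩
    rw [Finset.sum_filter_ne_zero]
    refine (Finset.sum_image fun a _ b _ h => congrArg Prod.snd h).trans ?_
    rw [Finset.sum_biUnion]
    · refine Finset.sum_congr rfl fun xy hxy => ?_
      simp only [tr]
      rw [← hsum xy hxy, Finset.mul_sum]
      refine Finset.sum_congr rfl fun z hz => ?_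
      obtain ⟨-, h2, h3, h4⟩ := (hZ _ hxy z).1 hz
      simp only [tm, Set.indicator_of_mem (Set.mem_singleton _), Pi.one_apply, one_mul, IntMult.extProd]
      rw [if_pos (by rw [h2, h3, h4, hrA _ (Finset.mem_product.1 hxy).1, hsB _ (Finset.mem_product.1 hxy).2]),
        DiagReduce.len]
      rw [← h2, ← h3]
      ring
    · intro a ha b hb hab
      rw [Function.onFun, Finset.disjoint_left]
      intro z hza hzb
      obtain ⟨-, a1, a2, -⟩ := (hZ _ ha z).1 hza
      obtain ⟨-, b1, b2, -⟩ := (hZ _ hb z).1 hzb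
      exact hab (Prod.ext (a1.symm.trans b1) (a2.symm.trans b2))
  refine hL.trans ?_
  symm
  show (∑ᶠ p : {p : X × X // p.1 ⤳ w ∧ p.2 ⤳ w ∧ δ p.1 + δ p.2 - n = δ w}, tr p.1) = _
  refine (finsum_subtype_eq_finsum_cond (f := tr) _).trans ?_
  refine (finsum_cond_eq_sum_of_cond_iff tr (t := (A ×ˢ B).filter fun p => tr p ≠ 0) ?_).trans (Finset.sum_filter_ne_zero _)
  rintro ⟨x, y⟩ hx
  simp only [Finset.mem_filter, Finset.mem_product]
  constructor
  · rintro ⟨h1, h2, -⟩
    exact ⟨⟨(hA x).2 ⟨h1, left_ne_zero_of_mul (left_ne_zero_of_mul hx)⟩,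
      (hB y).2 ⟨h2, right_ne_zero_of_mul (left_ne_zero_of_mul hx)⟩⟩, hx⟩
  · rintro ⟨⟨h1, h2⟩, -⟩
    exact ⟨((hA x).1 h1).1, ((hB y).1 h2).1, by rw [hrA _ h1, hsB _ h2]; omega⟩


end Groth.Agent.S1953
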