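import Groth.Statements.S19533
import Groth.Agent.H3.FibreTranslation

set_option autoImplicit false
universe u
open CategoryTheory CategoryTheory.Limits MonoidalCategory CartesianMonoidalCategory MonObj GrpObj AlgebraicGeometry
open AbVar

namespace Groth.Agent.S19533

/-- Let k be an algebraically closed field, A an abelian variety over k (a k-group scheme whose
structure morphism is proper, smooth and geometrically connected) with unit point e, Y a scheme
separated over k and f : A → Y a morphism over k. Write F₀ for the connected component of e in the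
fibre f⁻¹(f(e)). Then the k-rational points of F₀ are stable under the group law: if k-points x and
y of A lie in F₀ then so do the product point x·y and the inverse point x⁻¹. (The published
statement is for Y a k-variety and concludes that F₀ with its reduced structure is an abelian
subvariety, together with the translation formula F_a = a + F₀; this row records the closure of
F₀(k) under multiplication and inversion, for Y merely separated over k.) -/
theorem result (k : Type u) [Field k] [IsAlgClosed k]
    (A : Over (Spec (CommRingCat.of k))) [GrpObj A] [IsProper A.hom] [Smooth A.hom] [GeometricallyConnected A.hom]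
    {Y : Scheme.{u}} (q : Y ⟶ Spec (CommRingCat.of k)) [IsSeparated q] (f : A.left ⟶ Y) (hf : f ≫ q = A.hom)
    (x y : 𝟙_ (Over (Spec (CommRingCat.of k))) ⟶ A)
    (hx : x.left (IsLocalRing.closedPoint k) ∈
      connectedComponentIn (f ⁻¹' {f (η[A].left (IsLocalRing.closedPoint k))}) (η[A].left (IsLocalRing.closedPoint k)))
    (hy : y.left (IsLocalRing.closedPoint k) ∈
      connectedComponentIn (f ⁻¹' {f (η[A].left (IsLocalRing.closedPoint k))}) (η[A].left (IsLocalRing.closedPoint k))) :
    (lift x y ≫ μ[A]).left (IsLocalRing.closedPoint k) ∈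
        connectedComponentIn (f ⁻¹' {f (η[A].left (IsLocalRing.closedPoint k))}) (η[A].left (IsLocalRing.closedPoint k)) ∧
      (x ≫ ι[A]).left (IsLocalRing.closedPoint k) ∈
        connectedComponentIn (f ⁻¹' {f (η[A].left (IsLocalRing.closedPoint k))}) (η[A].left (IsLocalRing.closedPoint k)) := by
  have hsub : Subsingleton (Spec (CommRingCat.of k)) := inferInstance
  have : JacobsonSpace A.left := LocallyOfFiniteType.jacobsonSpace A.hom
  have : ConnectedSpace A.left := GeometricallyConnected.connectedSpace_of_subsingleton A.hom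
  have hS : IsClosed (f ⁻¹' {f (η[A].left (IsLocalRing.closedPoint k))}) := by
    refine IsClosed.preimage f.continuous ?_
    have hsec : (η[A].left ≫ f) ≫ q = 𝟙 _ := by rw [Category.assoc, hf]; exact Over.w η[A]
    have : IsClosedImmersion (η[A].left ≫ f) :=
      isClosedImmersion_of_comp_eq_id (Y := Spec (CommRingCat.of k)) q (η[A].left ≫ f) hsec
    have hcl := (η[A].left ≫ f).isClosedEmbedding.isClosed_range
    have hrg : Set.range (η[A].left ≫ f) = {f (η[A].left (IsLocalRing.closedPoint k))} := by
      apply Set.Subset.antisymm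
      · rintro _ ⟨w, rfl⟩
        have : w = IsLocalRing.closedPoint k := Subsingleton.elim (α := Spec (CommRingCat.of k)) _ _
        subst this; rfl
      · rintro _ rfl
        exact ⟨IsLocalRing.closedPoint k, rfl⟩
    rwa [hrg] at hcl
  set e₀ := η[A].left (IsLocalRing.closedPoint k) with he₀
  set F := connectedComponentIn (f ⁻¹' {f e₀}) e₀ with hF
  have heS : e₀ ∈ f ⁻¹' {f e₀} := rfl
  have heF : e₀ ∈ F := mem_connectedComponentIn heS
  have hFc : IsClosed F := isClosed_of_closure_subset
    ((isPreconnected_connectedComponentIn.closure).subset_connectedComponentIn (subset_closure heF)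
      (closure_minimal (connectedComponentIn_subset _ _) hS))
  have hfib : ∀ z ∈ F, f z = f e₀ := fun z hz => connectedComponentIn_subset (f ⁻¹' {f e₀}) e₀ hz
  have key : ∀ x b : 𝟙_ (Over (Spec (CommRingCat.of k))) ⟶ A,
      x.left (IsLocalRing.closedPoint k) ∈ F →
      f ((x * b).left (IsLocalRing.closedPoint k)) = f (b.left (IsLocalRing.closedPoint k)) :=
    fun x b hx => Groth.Agent.H3.FibreTranslation.translate_apply_eq A q f hf F hFc
      isPreconnected_connectedComponentIn heF hfib x b hx
  -- translates of `F` inside the fibre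
  have move : ∀ c : 𝟙_ (Over (Spec (CommRingCat.of k))) ⟶ A,
      (∀ z : 𝟙_ (Over (Spec (CommRingCat.of k))) ⟶ A, z.left (IsLocalRing.closedPoint k) ∈ F →
        f ((c * z).left (IsLocalRing.closedPoint k)) = f e₀) →
      (∃ z : 𝟙_ (Over (Spec (CommRingCat.of k))) ⟶ A, z.left (IsLocalRing.closedPoint k) ∈ F ∧
        (c * z).left (IsLocalRing.closedPoint k) ∈ F) →
      ∀ z : 𝟙_ (Over (Spec (CommRingCat.of k))) ⟶ A, z.left (IsLocalRing.closedPoint k) ∈ F →
        (c * z).left (IsLocalRing.closedPoint k) ∈ F := by
    intro c hc ⟨z₀, hz₀, hz₀'⟩ z hz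
    let m : A ⟶ A := (toUnit A ≫ c) * 𝟙 A
    have hm : ∀ w : 𝟙_ (Over (Spec (CommRingCat.of k))) ⟶ A,
        m.left (w.left (IsLocalRing.closedPoint k)) = (c * w).left (IsLocalRing.closedPoint k) := by
      intro w
      have : w ≫ m = c * w := by
        simp only [m, MonObj.comp_mul, Category.comp_id, ← Category.assoc]
        rw [toUnit_unique (w ≫ toUnit A) (𝟙 _), Category.id_comp]
      rw [← this]; rfl
    have hin : m.left '' F ⊆ f ⁻¹' {f e₀} := by
      rintro _ ⟨w, hw, rfl⟩
      by_contra hne
      obtain ⟨d, hd1, hd2⟩ := nonempty_inter_closedPoints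
        (Z := F ∩ (m.left ⁻¹' (f ⁻¹' {f e₀}))ᶜ) ⟨w, hw, hne⟩
        (hFc.isLocallyClosed.inter ((hS.preimage m.left.continuous).isOpen_compl.isLocallyClosed))
      obtain ⟨⟨a', ha'⟩, ea⟩ := (pointEquivClosedPoint A.hom).surjective ⟨d, hd2⟩
      have hd : a' (IsLocalRing.closedPoint k) = d := congr(($ea).1)
      subst hd
      refine hd1.2 ?_
      show f (m.left ((Over.homMk a' ha' : 𝟙_ (Over (Spec (CommRingCat.of k))) ⟶ A).left
        (IsLocalRing.closedPoint k))) = f e₀
      rw [hm]
      exact hc _ hd1.1
    have hpre : _root_.IsPreconnected (m.left '' F) :=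
      isPreconnected_connectedComponentIn.image _ m.left.continuous.continuousOn
    have hsub' : m.left '' F ⊆ F := by
      have h := hpre.subset_connectedComponentIn (x := (c * z₀).left (IsLocalRing.closedPoint k))
        ⟨_, hz₀, hm z₀⟩ hin
      rwa [← connectedComponentIn_eq hz₀'] at h
    exact hsub' ⟨_, hz, hm z⟩
  have he1 : (1 : 𝟙_ (Over (Spec (CommRingCat.of k))) ⟶ A) = η[A] := by simp [MonObj.one_eq_one]
  constructor
  · show (x * y).left (IsLocalRing.closedPoint k) ∈ F
    refine move x (fun z hz => (key x z hx).trans (hfib _ hz))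
      ⟨η[A], heF, by rw [← he1, _root_.mul_one]; exact hx⟩ y hy
  · show (x⁻¹).left (IsLocalRing.closedPoint k) ∈ F
    have hc : ∀ z : 𝟙_ (Over (Spec (CommRingCat.of k))) ⟶ A, z.left (IsLocalRing.closedPoint k) ∈ F →
        f ((x⁻¹ * z).left (IsLocalRing.closedPoint k)) = f e₀ := by
      intro z hz
      rw [← key x (x⁻¹ * z) hx, mul_inv_cancel_left]
      exact hfib _ hz
    have h := move x⁻¹ hc ⟨x, hx, by rw [inv_mul_cancel, he1]; exact heF⟩ η[A] heF
    rwa [← he1, _root_.mul_one] at h

end Groth.Agent.S19533
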