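import Groth.Statements.S19534
import Groth.Agent.Lib.CohDelta.KBC.Simple

set_option autoImplicit false
universe u
open CategoryTheory CategoryTheory.Limits AlgebraicGeometry
open ASBun

namespace Groth.Agent.S19534

open W4c1astiltbs12 in
/-- Let X be a proper, geometrically integral scheme over a field k, K an algebraic closure of k with
projection π : X_K → X, and E a nonzero finite locally free O_X-module which is absolutely
rank-one-isotypical: π^*E ≅ L^{⊕r} for some invertible O_{X_K}-module L and some natural number r.
Then the endomorphism ring of E (multiplication = composition) is a simple ring. (The published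
statement says that this ring is a central simple algebra over k; centrality over k and
finite-dimensionality are not stated here, only simplicity as a ring. Non-vanishing of E is part of
the definition of rank-one-isotypical there, the direct sum having at least one summand.) -/
theorem result (k : Type u) [Field k]
    {X : Scheme.{u}} (p : X ⟶ Spec (CommRingCat.of k)) [IsProper p] [GeometricallyIntegral p]
    (K : Type u) [Field K] [Algebra k K] [IsAlgClosure k K]
    (E : X.Modules) (hE : FlatMod.IsFinLocFree E) (hE0 : ¬ IsZero E)
    (L : (W4bk4gw11416.baseChange p K).Modules) (hL : PicF.IsInvertible L) (r : ℕ)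
    (e : Nonempty (bcMod p K E ≅ pow L r)) :
    IsSimpleRing (CategoryTheory.End E) := by
  obtain ⟨e⟩ := e
  have hne : (𝟙 E : E ⟶ E) ≠ 0 := fun h => hE0 ((IsZero.iff_id_eq_zero E).mpr h)
  haveI : Nontrivial (CategoryTheory.End E) := ⟨⟨(1 : CategoryTheory.End E), 0, hne⟩⟩
  refine IsSimpleRing.of_eq_bot_or_eq_top fun I => ?_
  by_cases hI : ∃ x ∈ I, x ≠ 0
  · obtain ⟨x, hx, hx0⟩ := hI
    let S : AddSubmonoid (E ⟶ E) :=
      { carrier := {y | (y : CategoryTheory.End E) ∈ I}
        zero_mem' := I.zero_mem
        add_mem' := fun ha hb => I.add_mem ha hb }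
    have h1 := Lib.CohDelta.KBC.one_mem_of_ne_zero p K hE hL e S
      (fun g h y hy => by
        change ((g ≫ y ≫ h : E ⟶ E) : CategoryTheory.End E) ∈ I
        have h' := I.mul_mem_right _ (g : CategoryTheory.End E)
          (I.mul_mem_left (h : CategoryTheory.End E) _ hy)
        rwa [End.mul_def, End.mul_def] at h')
      (e := x) hx hx0
    refine Or.inr ?_
    exact (I.one_mem_iff).mp h1
  · refine Or.inl (le_antisymm (fun y hy => ?_) bot_le)
    rw [TwoSidedIdeal.mem_bot]
    by_contra hy0
    exact hI ⟨y, hy, hy0⟩

end Groth.Agent.S19534
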