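import Groth.Statements.S1954
import Groth.Agent.H19.IntMult.MultOne

set_option autoImplicit false
universe u
open CategoryTheory CategoryTheory.Limits AlgebraicGeometry
attribute [local instance] HasDerivedCategory.standard
open IntMult

namespace Groth.Agent.S1954

open CategoryTheory.Limits Groth.Agent.Lib.Cyc Groth.Agent.H19.IntMult.MultOne


/-- Let Y, Z → X be closed immersions into a nonsingular variety with δ ≤ r on Y and δ ≤ s on Z, such
that [Y]_r and [Z]_s intersect properly, and let τ be a point of δ-dimension r + s − n lying under Y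
and Z (the generic point of a component of the intersection of components of dimension r and s) at
which the scheme-theoretic intersection Y ×_X Z has multiplicity 1 (its local ring there has length
1). Then the coefficient of the closure of τ in [Y]_r · [Z]_s is 1, and the local rings of Y and Z
at the points over τ are regular. (The published statement has further parts, not restated here.)
Here X is a nonsingular variety over the algebraically closed field K (smooth, separated,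
quasi-compact, integral) with dimension function δ (transcendence degree) and n = dim X; cycles are
Mathlib AlgebraicCycles with Cyc.Zk membership, proper intersection is IntMult.IntersectProperly and
α · β is the Tor-formula intersection product on coefficient functions (IntMult.interProd), bundled
where needed as 'any cycle with these coefficients'. -/
theorem result (K : Type u) [Field K] [IsAlgClosed K] (X : Scheme.{u}) (f : X ⟶ Spec (CommRingCat.of K)) [Smooth f] [IsSeparated f] [QuasiCompact f] [IsIntegral X] (δ : X → ℤ) (hX : Cyc.IsSetup X δ) (hδ : Cyc.DeltaCompat f δ (fun _ => 0)) (n : ℤ) (hn : δ (genericPoint X) = n) (Y Z : Scheme.{u}) (ιY : Y ⟶ X) (ιZ : Z ⟶ X) [IsClosedImmersion ιY] [IsClosedImmersion ιZ] (r s : ℤ) (hY : ∀ y : Y, δ (ιY y) ≤ r) (hZ : ∀ z : Z, δ (ιZ z) ≤ s) (hprop : IntMult.IntersectProperly δ n (Cyc.subschemeFun δ r ιY) (Cyc.subschemeFun δ s ιZ)) (τ : X) (hτ : δ τ = r + s - n) (hξ : ∃ ξ η : X, Cyc.subschemeFun δ r ιY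 ξ ≠ 0 ∧ Cyc.subschemeFun δ s ιZ η ≠ 0 ∧ ξ ⤳ τ ∧ η ⤳ τ) (hmult : Cyc.subschemeFun δ (r + s - n) (pullback.fst ιY ιZ ≫ ιY) τ = 1) : IntMult.interProd δ n (Cyc.subschemeFun δ r ιY) (Cyc.subschemeFun δ s ιZ) τ = 1 ∧ (∀ y : Y, ιY y = τ → IsRegularLocalRing (Y.presheaf.stalk y)) ∧ (∀ z : Z, ιZ z = τ → IsRegularLocalRing (Z.presheaf.stalk z)) := by
  classical
  have hXd : Cyc.IsDimFun X δ := hX.2.2
  have hlen : ∀ {W : Scheme.{u}} (i : W ⟶ X) [IsClosedImmersion i] (x₀ : W) (k : ℤ),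
      δ (i x₀) = k → Cyc.subschemeFun δ k i (i x₀) =
        ((Module.length (W.presheaf.stalk x₀) (W.presheaf.stalk x₀)).toNat : ℤ) := fun {W} i _ x₀ k hk => by
    rw [Cyc.subschemeFun, if_pos hk, show {z : W | i z = i x₀} = {x₀} from
      Set.ext fun z => i.isClosedEmbedding.injective.eq_iff, finsum_mem_singleton]
  have hsupp : ∀ {W : Scheme.{u}} (i : W ⟶ X) (x : X) (k : ℤ), Cyc.subschemeFun δ k i x ≠ 0 →
      δ x = k ∧ ∃ x₀, i x₀ = x := fun {W} i x k h => by
    rw [Cyc.subschemeFun] at h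
    split_ifs at h with hk
    · refine ⟨hk, ?_⟩
      by_contra hn
      exact h (finsum_mem_eq_zero_of_forall_eq_zero fun z hz => absurd ⟨z, hz⟩ hn)
    · exact absurd rfl h
  haveI : IsClosedImmersion (pullback.fst ιY ιZ ≫ ιY) := inferInstance
  obtain ⟨-, w, hw⟩ := hsupp (pullback.fst ιY ιZ ≫ ιY) τ (r + s - n) (by rw [hmult]; exact one_ne_zero)
  subst hw
  have hwlen : Module.length ((pullback ιY ιZ).presheaf.stalk w) ((pullback ιY ιZ).presheaf.stalk w) = 1 := by
    rw [hlen _ w _ hτ] at hmult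
    have h' : (Module.length ((pullback ιY ιZ).presheaf.stalk w) ((pullback ιY ιZ).presheaf.stalk w)).toNat = 1 := by
      exact_mod_cast hmult
    exact (ENat.toNat_eq_iff one_ne_zero).mp h'
  let y := pullback.fst ιY ιZ w
  let z := pullback.snd ιY ιZ w
  have hz : ιZ z = ιY y := by
    rw [← Scheme.Hom.comp_apply, ← pullback.condition, Scheme.Hom.comp_apply]
  let A := X.presheaf.stalk (ιY y)
  let PY := RingHom.ker (ιY.stalkMap y).hom
  let PZ := (RingHom.ker (ιZ.stalkMap z).hom).map (X.presheaf.stalkSpecializes (Inseparable.of_eq hz.symm).specializes).hom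
  have hPQ : PY ⊔ PZ = IsLocalRing.maximalIdeal A := sup_ker_eq ιY ιZ w hwlen hz
  haveI : IsRegularLocalRing A := Groth.Agent.Lib.Cyc.SmoothReg.isRegularLocalRing_stalk f (ιY y)
  obtain ⟨ξ, η, hξ0, hη0, hξτ, hητ⟩ := hξ
  obtain ⟨hξr, y₀, hy₀⟩ := hsupp ιY ξ r hξ0
  obtain ⟨hηs, z₀, hz₀⟩ := hsupp ιZ η s hη0
  rw [Scheme.Hom.comp_apply] at hξτ hητ hτ
  have hτy : δ (ιY y) = r + s - n := hτ
  have hle : ∀ {W : Scheme.{u}} (i : W ⟶ X) [IsClosedImmersion i] (a b : W), i a ⤳ i b → a ⤳ b :=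
    fun {W} i _ a b h => i.isClosedEmbedding.isEmbedding.isInducing.specializes_iff.1 h
  have hYle : ∀ (y' : Y) (h : ιY y' ⤳ ιY y), PY ≤ (DimFun.genPrime (ιY y) (ιY y') h).asIdeal :=
    fun y' h => ker_stalkMap_le ιY (hle ιY _ _ h)
  have hZle : ∀ (z' : Z) (h : ιZ z' ⤳ ιY y), PZ ≤ (DimFun.genPrime (ιY y) (ιZ z') h).asIdeal := fun z' h => by
    have h' : ιZ z' ⤳ ιZ z := hz.symm ▸ h
    refine (Ideal.map_mono (ker_stalkMap_le ιZ (hle ιZ _ _ h'))).trans ?_
    have key : ∀ (x : X) (hx : ιZ z = x) (hh : ιZ z' ⤳ x),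
        ((DimFun.genPrime (ιZ z) (ιZ z') h').asIdeal).map
          (X.presheaf.stalkSpecializes (Inseparable.of_eq hx.symm).specializes).hom ≤
        (DimFun.genPrime x (ιZ z') hh).asIdeal := by
      rintro x rfl hh
      rw [TopCat.Presheaf.stalkSpecializes_refl]
      exact le_of_eq (Ideal.map_id _)
    exact key _ hz h
  have hdimA : ∀ ν : X, ∀ h : ν ⤳ ιY y,
      ringKrullDim (A ⧸ (DimFun.genPrime (ιY y) ν h).asIdeal) = ((δ ν - δ (ιY y)).toNat : WithBot ℕ∞) :=
    fun ν h => DimFun.ringKrullDim_locQuot hXd (ιY y) ν h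
  have hd : ringKrullDim A = ((n - δ (ιY y)).toNat : WithBot ℕ∞) := by
    rw [← hn]; exact DimFun.ringKrullDim_stalk hXd _
  have main : ∀ (y' : Y) (z' : Z) (h : ιY y' ⤳ ιY y) (h' : ιZ z' ⤳ ιY y), δ (ιY y') = r → δ (ιZ z') = s →
      PY = (DimFun.genPrime (ιY y) (ιY y') h).asIdeal ∧ PZ = (DimFun.genPrime (ιY y) (ιZ z') h').asIdeal :=
    fun y' z' h h' hr hs => by
      haveI := (DimFun.genPrime (ιY y) (ιY y') h).isPrime
      haveI := (DimFun.genPrime (ιY y) (ιZ z') h').isPrime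
      refine cotangent_sup (hYle y' h) (hZle z' h') hPQ hd (hdimA _ h) (hdimA _ h') ?_
      have h1 := DimFun.le_of_specializes hXd h
      have h2 := DimFun.le_of_specializes hXd h'
      omega
  subst hy₀ hz₀
  obtain ⟨hP, hQ⟩ := main y₀ z₀ hξτ hητ hξr hηs
  set P := (DimFun.genPrime (ιY y) (ιY y₀) hξτ).asIdeal with hPdef
  set Q := (DimFun.genPrime (ιY y) (ιZ z₀) hητ).asIdeal with hQdef
  haveI : P.IsPrime := (DimFun.genPrime (ιY y) (ιY y₀) hξτ).isPrime
  haveI : Q.IsPrime := (DimFun.genPrime (ιY y) (ιZ z₀) hητ).isPrime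
  rw [hP, hQ] at hPQ
  obtain ⟨hchi, hregP, hregQ⟩ := Groth.Agent.H19.IntMult.Transversal.transversal hPQ hd (hdimA _ hξτ) (hdimA _ hητ) (by
    have h1 := DimFun.le_of_specializes hXd hξτ
    have h2 := DimFun.le_of_specializes hXd hητ
    omega)
  have heY : Cyc.subschemeFun δ r ιY (ιY y₀) = 1 := by
    rw [hlen ιY y₀ r hξr, length_stalk_of_genPrime ιY (hle ιY _ _ hξτ) hP]; rfl
  have hkerZ : RingHom.ker (ιZ.stalkMap z).hom =
      (DimFun.genPrime (ιZ z) (ιZ z₀) (hz.symm ▸ hητ)).asIdeal := by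
    have key : ∀ (x : X) (hx : ιZ z = x) (hh : ιZ z₀ ⤳ x),
        (RingHom.ker (ιZ.stalkMap z).hom).map
          (X.presheaf.stalkSpecializes (Inseparable.of_eq hx.symm).specializes).hom =
            (DimFun.genPrime x (ιZ z₀) hh).asIdeal →
        RingHom.ker (ιZ.stalkMap z).hom = (DimFun.genPrime (ιZ z) (ιZ z₀) (hx.symm ▸ hh)).asIdeal := by
      rintro x rfl hh e
      rw [TopCat.Presheaf.stalkSpecializes_refl] at e
      exact (Ideal.map_id _).symm.trans e
    exact key _ hz hητ hQ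
  have heZ : Cyc.subschemeFun δ s ιZ (ιZ z₀) = 1 := by
    rw [hlen ιZ z₀ s hηs, length_stalk_of_genPrime ιZ (hle ιZ _ _ (hz.symm ▸ hητ)) hkerZ]; rfl
  have hτ' : (pullback.fst ιY ιZ ≫ ιY) w = ιY y := Scheme.Hom.comp_apply _ _ _
  refine ⟨?_, fun y' hy' => ?_, fun z' hz' => ?_⟩
  · show (∑ᶠ p : {p : X × X // p.1 ⤳ (pullback.fst ιY ιZ ≫ ιY) w ∧ p.2 ⤳ (pullback.fst ιY ιZ ≫ ιY) w ∧
      δ p.1 + δ p.2 - n = δ ((pullback.fst ιY ιZ ≫ ιY) w)}, _) = 1
    rw [finsum_eq_single _ ⟨(ιY y₀, ιZ z₀), hτ' ▸ hξτ, hτ' ▸ hητ, (by show δ (ιY y₀) + δ (ιZ z₀) - n = _; rw [hτ']; omega)⟩]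
    · simp only [heY, heZ, one_mul]
      show IntMult.mult _ _ ((pullback.fst ιY ιZ ≫ ιY) w) = 1
      rw [hτ', IntMult.mult, stalkIdeal_ptIdeal _ _ hξτ, stalkIdeal_ptIdeal _ _ hητ]
      exact hchi
    · rintro ⟨⟨a, b⟩, ha, hb, hab⟩ hne
      by_contra h0
      obtain ⟨hα, hβ⟩ : Cyc.subschemeFun δ r ιY a ≠ 0 ∧ Cyc.subschemeFun δ s ιZ b ≠ 0 := by
        constructor <;> intro e <;> apply h0 <;> simp [e]
      obtain ⟨har, a₀, rfl⟩ := hsupp ιY a r hα
      obtain ⟨hbs, b₀, rfl⟩ := hsupp ιZ b s hβ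
      rw [hτ'] at ha hb
      obtain ⟨hP', hQ'⟩ := main a₀ b₀ ha hb har hbs
      refine hne (Subtype.ext (Prod.ext ?_ ?_))
      · show ιY a₀ = ιY y₀
        exact (DimFun.fromSpecStalk_genPrime (ιY y) _ ha).symm.trans
          ((congrArg _ (PrimeSpectrum.ext (hP'.symm.trans hP))).trans
            (DimFun.fromSpecStalk_genPrime (ιY y) _ hξτ))
      · show ιZ b₀ = ιZ z₀
        exact (DimFun.fromSpecStalk_genPrime (ιY y) _ hb).symm.trans
          ((congrArg _ (PrimeSpectrum.ext (hQ'.symm.trans hQ))).trans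
            (DimFun.fromSpecStalk_genPrime (ιY y) _ hητ))
  · rw [hτ'] at hy'
    obtain rfl := ιY.isClosedEmbedding.injective hy'
    haveI := hregP
    exact IsRegularLocalRing.of_ringEquiv ((Ideal.quotEquivOfEq hP.symm).trans
      (RingHom.quotientKerEquivOfSurjective (ιY.stalkMap_surjective y)))
  · rw [hτ', ← hz] at hz'
    obtain rfl := ιZ.isClosedEmbedding.injective hz'
    haveI := hregQ
    have key : ∀ (x : X) (hx : ιZ z = x) (hh : ιZ z₀ ⤳ x),
        IsRegularLocalRing (X.presheaf.stalk x ⧸ (DimFun.genPrime x (ιZ z₀) hh).asIdeal) →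
        IsRegularLocalRing (X.presheaf.stalk (ιZ z) ⧸ (DimFun.genPrime (ιZ z) (ιZ z₀) (hx.symm ▸ hh)).asIdeal) := by
      rintro x rfl hh e; exact e
    haveI := key _ hz hητ hregQ
    exact IsRegularLocalRing.of_ringEquiv ((Ideal.quotEquivOfEq hkerZ.symm).trans
      (RingHom.quotientKerEquivOfSurjective (ιZ.stalkMap_surjective z)))


end Groth.Agent.S1954
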