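import Groth.Statements.S19540
import Mathlib.CategoryTheory.Sites.LocallySurjective
import Mathlib.Algebra.Homology.ShortComplex.Ab
import Mathlib.CategoryTheory.Sites.EpiMono


set_option autoImplicit false
open CategoryTheory CategoryTheory.Limits Opposite
universe w v u
open CohSite

namespace Groth.Agent.S19540

/-- Let (C, J) be a site and B a class of objects of C, each weakly contractible (every epimorphism of
sheaves of sets, valued in a fixed universe, is surjective on sections over it), such that every
object V of C has a covering sieve all of whose arrows factor through some object of B. Then a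
three-term complex F ⟶ G ⟶ H of abelian sheaves on (C, J) is exact if and only if for every U in B
the sequence of section groups F(U) ⟶ G(U) ⟶ H(U) is exact. (The published statement is for sheaves
of modules over a sheaf of rings O; this row is the case of the constant sheaf of rings ℤ, i.e.
abelian sheaves, to which exactness questions for O-modules reduce. The universe set-up assumes that
abelian sheafification exists and inverts exactly the locally bijective maps, as on any small site.) -/
theorem result
    {C : Type u} [Category.{v} C] (J : GrothendieckTopology C) [HasSheafify J AddCommGrpCat.{w}]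
    [J.WEqualsLocallyBijective AddCommGrpCat.{w}]
    (B : C → Prop)
    (hB : ∀ U : C, B U → ∀ (P Q : Sheaf J (Type w)) (ψ : P ⟶ Q), Epi ψ → Function.Surjective (ψ.hom.app (op U)))
    (hcov : ∀ V : C, ∃ S : Sieve V, S ∈ J V ∧ ∀ ⦃W : C⦄ (f : W ⟶ V), S.arrows f →
      ∃ (U : C) (g : W ⟶ U) (h : U ⟶ V), B U ∧ g ≫ h = f)
    (S : ShortComplex (Sheaf J AddCommGrpCat.{w})) :
    S.Exact ↔ ∀ U : C, B U →
      (S.map (sheafToPresheaf J AddCommGrpCat.{w} ⋙ (evaluation Cᵒᵖ AddCommGrpCat.{w}).obj (op U))).Exact := by
  let E : C → (Sheaf J AddCommGrpCat.{w} ⥤ AddCommGrpCat.{w}) := fun U =>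
    sheafToPresheaf J AddCommGrpCat.{w} ⋙ (evaluation Cᵒᵖ AddCommGrpCat.{w}).obj (op U)
  constructor
  · intro hS U hU
    rw [ShortComplex.ab_exact_iff]
    intro (x₂ : S.X₂.obj.obj (op U)) hx₂
    have hk : ((ShortComplex.mk (kernel.ι S.g) S.g (kernel.condition _)).map (E U)).Exact :=
      ShortComplex.exact_of_f_is_kernel _
        (KernelFork.mapIsLimit _ (kernelIsKernel S.g) (E U))
    rw [ShortComplex.ab_exact_iff] at hk
    obtain ⟨(k : (kernel S.g).obj.obj (op U)), hk⟩ := hk x₂ hx₂
    haveI : Epi (kernel.lift S.g S.f S.zero) := (ShortComplex.exact_iff_epi_kernel_lift S).1 hS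
    haveI := (Sheaf.isLocallySurjective_iff_epi' (J := J) (φ := kernel.lift S.g S.f S.zero)).2 inferInstance
    obtain ⟨x₁, hx₁⟩ := hB U hU _ _
      ((sheafCompose J (forget AddCommGrpCat.{w})).map (kernel.lift S.g S.f S.zero))
      (Sheaf.epi_of_isLocallySurjective' _) k
    refine ⟨x₁, ?_⟩
    refine Eq.trans ?_ hk
    have h := ConcreteCategory.congr_hom ((E U).congr_map (kernel.lift_ι S.g S.f S.zero)) x₁
    rw [Functor.map_comp] at h
    exact h.symm.trans (congrArg ((E U).map (kernel.ι S.g)) hx₁)
  · intro hS
    rw [ShortComplex.exact_iff_epi_kernel_lift]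
    haveI : Sheaf.IsLocallySurjective (kernel.lift S.g S.f S.zero) := by
      constructor
      intro V k
      obtain ⟨R, hR, hfac⟩ := hcov V
      refine J.superset_covering ?_ hR
      intro W f hf
      obtain ⟨U, g, h, hU, hgh⟩ := hfac f hf
      have hexU := hS U hU
      rw [ShortComplex.ab_exact_iff] at hexU
      let kU : (kernel S.g).obj.obj (op U) := (kernel S.g).obj.map h.op k
      have h0 : (E U).map S.g ((E U).map (kernel.ι S.g) kU) = 0 := by
        show ((E U).map (kernel.ι S.g) ≫ (E U).map S.g) kU = 0
        rw [← Functor.map_comp, kernel.condition, Functor.map_zero]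
        rfl
      obtain ⟨(x₁ : S.X₁.obj.obj (op U)), hx₁⟩ := hexU ((E U).map (kernel.ι S.g) kU) h0
      haveI : Mono ((E U).map (kernel.ι S.g)) := inferInstance
      have hx : (E U).map (kernel.lift S.g S.f S.zero) x₁ = kU := by
        apply (AddCommGrpCat.mono_iff_injective ((E U).map (kernel.ι S.g))).1 inferInstance
        refine Eq.trans ?_ hx₁
        exact ConcreteCategory.congr_hom (((E U).map_comp _ _).symm.trans ((E U).congr_map (kernel.lift_ι S.g S.f S.zero))) x₁
      refine ⟨S.X₁.obj.map g.op x₁, ?_⟩
      refine (NatTrans.naturality_apply (kernel.lift S.g S.f S.zero).hom g.op x₁).trans ?_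
      refine (congrArg _ hx).trans ?_
      show (kernel S.g).obj.map g.op ((kernel S.g).obj.map h.op k) = _
      rw [← ConcreteCategory.comp_apply, ← Functor.map_comp, ← op_comp, hgh]
    infer_instance

end Groth.Agent.S19540
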