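import Groth.Statements.S19541
import Groth.Agent.Lib.CurveMaps.Basic
import Groth.Agent.Lib.Unram.AtPrime
import Mathlib.RingTheory.Flat.TorsionFree
import Mathlib.RingTheory.Unramified.LocalRing

set_option autoImplicit false
universe u
open CategoryTheory CategoryTheory.Limits AlgebraicGeometry TopologicalSpace
open Curves

namespace Groth.Agent.S19541

/-- Pointwise criterion for a map of smooth curves to be étale: let k be an algebraically closed field,
X and Y integral schemes each smooth, separated and quasi-compact over Spec k and of dimension one,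
φ : X → Y a morphism over k and x a closed point of X. Then φ is étale at x (the restriction of φ to
some open neighbourhood of x is étale) if and only if the induced homomorphism of stalks O_{Y,φ(x)}
→ O_{X,x} carries the maximal ideal of the discrete valuation ring O_{Y,φ(x)} to an ideal generating
the maximal ideal of O_{X,x}; equivalently a uniformiser at φ(x) pulls back to a uniformiser at x.
(The published statement is for smooth curves, which are in addition geometrically connected;
integrality is what is used. For a constant φ both sides fail.) -/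
theorem result (k : Type u) [Field k] [IsAlgClosed k] {X Y : Scheme.{u}}
    (pX : X ⟶ Spec (CommRingCat.of k)) (pY : Y ⟶ Spec (CommRingCat.of k)) (φ : X ⟶ Y) (w : φ ≫ pY = pX)
    [IsIntegral X] [Smooth pX] [IsSeparated pX] [QuasiCompact pX] (hdX : topologicalKrullDim X = 1)
    [IsIntegral Y] [Smooth pY] [IsSeparated pY] [QuasiCompact pY] (hdY : topologicalKrullDim Y = 1)
    (x : X) (hx : IsClosed ({x} : Set X)) :
    (∃ U : X.Opens, x ∈ U ∧ Etale (U.ι ≫ φ)) ↔
      Ideal.map (φ.stalkMap x).hom (IsLocalRing.maximalIdeal (Y.presheaf.stalk (φ.base x))) =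
        IsLocalRing.maximalIdeal (X.presheaf.stalk x) := by
  have : LocallyOfFiniteType (φ ≫ pY) := w ▸ inferInstance
  have : LocallyOfFiniteType φ := locallyOfFiniteType_of_comp φ pY
  have : IsLocallyNoetherian Y := LocallyOfFiniteType.isLocallyNoetherian pY
  have := Groth.Agent.H34.EtaleAt.locallyOfFinitePresentation φ
  have hess := LocallyOfFiniteType.stalkMap φ x
  rw [Groth.Agent.Lib.Unram.AtPrime.exists_etale_nhd_iff φ x]
  algebraize [(φ.stalkMap x).hom]
  have : IsLocalHom (algebraMap (Y.presheaf.stalk (φ x)) (X.presheaf.stalk x)) :=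
    (inferInstance : IsLocalHom (φ.stalkMap x).hom)
  constructor
  · rintro ⟨-, hu⟩
    have : Algebra.FormallyUnramified (Y.presheaf.stalk (φ x)) (X.presheaf.stalk x) := hu
    exact Algebra.FormallyUnramified.map_maximalIdeal
  · intro h
    have hxg := Groth.Agent.Lib.SmoothCurve.Stalk.ne_genericPoint_of_isClosed (by rw [hdX]; exact one_ne_zero) hx
    have hy := Groth.Agent.Lib.CurveMaps.Basic.isClosed_image_singleton pX pY φ w hx
    have := Groth.Agent.Lib.SmoothCurve.Stalk.isDiscreteValuationRing_stalk pY hdY.le hy
      (Groth.Agent.Lib.SmoothCurve.Stalk.ne_genericPoint_of_isClosed (by rw [hdY]; exact one_ne_zero) hy)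
    have hinj : Function.Injective (φ.stalkMap x).hom := by
      rw [RingHom.injective_iff_ker_eq_bot]
      by_contra hne
      have hmax := Ideal.IsPrime.isMaximal (RingHom.ker_isPrime (φ.stalkMap x).hom) hne
      refine Groth.Agent.Lib.SmoothCurve.Stalk.not_isField_stalk hxg ?_
      rw [IsLocalRing.isField_iff_maximalIdeal_eq, ← h, Ideal.map_eq_bot_iff_le_ker,
        IsLocalRing.eq_maximalIdeal hmax]
    refine ⟨?_, ?_⟩
    · change Module.Flat (Y.presheaf.stalk (φ x)) (X.presheaf.stalk x)
      rw [Module.Flat.flat_iff_torsion_eq_bot_of_isBezout, eq_bot_iff]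
      intro z hz
      obtain ⟨⟨c, hc⟩, hcz⟩ := (Submodule.mem_torsion_iff z).mp hz
      rw [Submodule.mem_bot]
      have hcz' : (φ.stalkMap x).hom c * z = 0 := hcz
      exact (mul_eq_zero.mp hcz').resolve_left fun h0 => nonZeroDivisors.ne_zero hc (hinj (h0.trans (map_zero _).symm))
    · have hsurj : Function.Surjective (algebraMap (IsLocalRing.ResidueField (Y.presheaf.stalk (φ x)))
          (IsLocalRing.ResidueField (X.presheaf.stalk x))) := by
        intro b
        obtain ⟨a, ha⟩ := Groth.Agent.Lib.SmoothCurve.Curve.residue_stalkConst_surjective pX hx b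
        refine ⟨IsLocalRing.residue _ ((Groth.Agent.Lib.SmoothCurve.Curve.stalkConst pY (φ x)).hom a), ?_⟩
        rw [← ha]
        refine congr_arg (IsLocalRing.residue _) ?_
        have hc : Groth.Agent.Lib.SmoothCurve.Curve.stalkConst pY (φ x) ≫ φ.stalkMap x =
            Groth.Agent.Lib.SmoothCurve.Curve.stalkConst pX x := by
          apply Spec.map_injective
          rw [Spec.map_comp, ← Groth.Agent.Lib.SmoothCurve.Curve.fromSpecStalk_comp, ← Category.assoc,
            Scheme.SpecMap_stalkMap_fromSpecStalk, Category.assoc, w,
            Groth.Agent.Lib.SmoothCurve.Curve.fromSpecStalk_comp]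
        exact congr($hc a)
      have : Algebra.IsSeparable (IsLocalRing.ResidueField (Y.presheaf.stalk (φ x)))
          (IsLocalRing.ResidueField (X.presheaf.stalk x)) := ⟨fun b => by
        obtain ⟨a, rfl⟩ := hsurj b
        exact isSeparable_algebraMap a⟩
      exact Algebra.FormallyUnramified.of_map_maximalIdeal h

end Groth.Agent.S19541
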