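import Groth.Statements.S19546
import Groth.Agent.H93.Hopf
import Mathlib.LinearAlgebra.TensorProduct.Basis
import Mathlib.Analysis.Complex.Polynomial.Basic

set_option autoImplicit false
universe u v w
open scoped TensorProduct
open VBCurve

namespace Groth.Agent.S19546

/-- Let A, B, C be complex vector spaces, A and B finite-dimensional, and ν : A ⊗ B → C a linear map
injective on each factor separately (b ↦ ν(a ⊗ b) is injective for every a ≠ 0 and a ↦ ν(a ⊗ b) is
injective for every b ≠ 0). Then the image of ν has dimension at least dim A + dim B - 1. (For A = 0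
the separate-injectivity hypothesis is empty and the inequality fails as soon as dim B ≥ 2, so A and
B are taken nonzero here, the case the inequality is about.) -/
theorem result
    (A : Type u) (B : Type v) (C : Type w) [AddCommGroup A] [Module ℂ A] [AddCommGroup B] [Module ℂ B]
    [AddCommGroup C] [Module ℂ C] [FiniteDimensional ℂ A] [FiniteDimensional ℂ B]
    [Nontrivial A] [Nontrivial B] (ν : A ⊗[ℂ] B →ₗ[ℂ] C)
    (hA : ∀ a : A, a ≠ 0 → Function.Injective (fun b : B => ν (a ⊗ₜ[ℂ] b)))
    (hB : ∀ b : B, b ≠ 0 → Function.Injective (fun a : A => ν (a ⊗ₜ[ℂ] b))) :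
    Module.finrank ℂ A + Module.finrank ℂ B ≤ Module.finrank ℂ (LinearMap.range ν) + 1 := by
  classical
  let bA := Module.finBasis ℂ A
  let bB := Module.finBasis ℂ B
  let bR := Module.finBasis ℂ (LinearMap.range ν)
  by_contra hlt
  push Not at hlt
  obtain ⟨u, v, hu, hv, hz⟩ := Groth.Agent.H93.Hopf.exists_common_zero ℂ
    (Module.finrank ℂ A) (Module.finrank ℂ B) (ι := Fin (Module.finrank ℂ (LinearMap.range ν)))
    Module.finrank_pos Module.finrank_pos (by rw [Fintype.card_fin]; omega)
    (fun m i j => bR.repr (ν.rangeRestrict (bA i ⊗ₜ[ℂ] bB j)) m)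
  have hzero : ν.rangeRestrict (bA.equivFun.symm u ⊗ₜ[ℂ] bB.equivFun.symm v) = 0 := by
    apply bR.repr.injective
    ext m
    rw [map_zero, Finsupp.zero_apply, ← hz m, Module.Basis.equivFun_symm_apply,
      Module.Basis.equivFun_symm_apply]
    simp only [TensorProduct.sum_tmul, TensorProduct.tmul_sum, ← TensorProduct.smul_tmul', Finset.mul_sum,
      TensorProduct.tmul_smul, smul_smul, map_sum, map_smul, Finsupp.coe_finset_sum,
      Finset.sum_apply, Finsupp.smul_apply, smul_eq_mul]
    try (rw [Finset.sum_comm])
    exact Finset.sum_congr rfl fun i _ => Finset.sum_congr rfl fun j _ => by ring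
  have ha : bA.equivFun.symm u ≠ 0 := fun h => hu (bA.equivFun.symm.map_eq_zero_iff.mp h)
  have hb : bB.equivFun.symm v ≠ 0 := fun h => hv (bB.equivFun.symm.map_eq_zero_iff.mp h)
  apply hb
  apply hA _ ha
  simpa [Subtype.ext_iff] using hzero

end Groth.Agent.S19546
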