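import Groth.Statements.S19547
import Mathlib.RingTheory.Flat.Basic
import Mathlib.RingTheory.Flat.FaithfullyFlat.Basic

set_option autoImplicit false
set_option backward.isDefEq.respectTransparency false
set_option backward.isDefEq.respectTransparency.types false
universe u
open TensorProduct
open Desc

namespace Groth.Agent.S19547

/-- Let A → A' be a faithfully flat homomorphism of commutative rings, M' an A'-module and φ : M' ⊗_A A'
→ A' ⊗_A M' an isomorphism of (A' ⊗_A A')-modules for the diagonal actions (x ⊗ y)(u ⊗ z) = xu ⊗ yz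
and (x ⊗ y)(z ⊗ u) = xz ⊗ yu, satisfying the cocycle condition φ_13 = φ_23 ∘ φ_12 between the three
pullbacks to A' ⊗_A A' ⊗_A A'. Here linearity over A' ⊗_A A' is stated on the generators x ⊗ 1 and 1
⊗ y, and the cocycle condition on pure tensors u ⊗ a ⊗ b: writing φ(u ⊗ a) = Σ a_i ⊗ u_i, it says Σ
a_i ⊗ φ(u_i ⊗ b) = Σ b_j ⊗ a ⊗ u'_j where φ(u ⊗ b) = Σ b_j ⊗ u'_j. Let M = {u ∈ M' : φ(u ⊗ 1) = 1 ⊗
u}, an A-submodule of M'. Then the canonical map λ : A' ⊗_A M → M', x ⊗ u ↦ xu, is an isomorphism. -/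
theorem result (A A' : Type u) [CommRing A] [CommRing A']
    [Algebra A A'] [Module.FaithfullyFlat A A'] (M' : Type u) [AddCommGroup M'] [Module A M']
    [Module A' M'] [IsScalarTower A A' M']
    (φ : M' ⊗[A] A' →ₗ[A] A' ⊗[A] M') (hφ : Function.Bijective φ)
    (h1 : ∀ (x : A') (u : M') (z : A'),
      φ ((x • u) ⊗ₜ[A] z) = LinearMap.rTensor M' (LinearMap.mulLeft A x) (φ (u ⊗ₜ[A] z)))
    (h2 : ∀ (y : A') (u : M') (z : A'),
      φ (u ⊗ₜ[A] (y * z)) = LinearMap.lTensor A' (Algebra.lsmul A A M' y) (φ (u ⊗ₜ[A] z)))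
    (hcoc : ∀ (u : M') (a b : A'),
      LinearMap.lTensor A' φ (TensorProduct.assoc A A' M' A' (LinearMap.rTensor A' φ ((u ⊗ₜ[A] a) ⊗ₜ[A] b))) =
        LinearMap.lTensor A' (TensorProduct.mk A A' M' a) (φ (u ⊗ₜ[A] b)))
    (M : Submodule A M') (hM : ∀ u : M', u ∈ M ↔ φ (u ⊗ₜ[A] (1 : A')) = (1 : A') ⊗ₜ[A] u) :
    Function.Bijective
      ((TensorProduct.lift (Algebra.lsmul A A M').toLinearMap) ∘ₗ (LinearMap.lTensor A' M.subtype)) := by
  let μ : A' ⊗[A] M' →ₗ[A] M' := TensorProduct.lift (Algebra.lsmul A A M').toLinearMap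
  have hμ : ∀ (x : A') (u : M'), μ (x ⊗ₜ[A] u) = x • u := fun _ _ ↦ rfl
  let θ : M' →ₗ[A] A' ⊗[A] M' := φ ∘ₗ (TensorProduct.mk A M' A').flip 1
  have hθ : ∀ u, θ u = φ (u ⊗ₜ[A] (1 : A')) := fun _ ↦ rfl
  have hsemi : ∀ (x : A') (u : M'), θ (x • u) = LinearMap.rTensor M' (LinearMap.mulLeft A x) (θ u) :=
    fun x u ↦ h1 x u 1
  have hμr : ∀ (x : A') (w : A' ⊗[A] M'),
      μ (LinearMap.rTensor M' (LinearMap.mulLeft A x) w) = x • μ w := by
    intro x w
    induction w using TensorProduct.induction_on with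
    | zero => simp
    | tmul a u => simp [hμ, mul_smul]
    | add a b ha hb => simp [ha, hb, smul_add]
  have hμl : ∀ (y : A') (w : A' ⊗[A] M'),
      μ (LinearMap.lTensor A' (Algebra.lsmul A A M' y) w) = y • μ w := by
    intro y w
    induction w using TensorProduct.induction_on with
    | zero => simp
    | tmul a u => simp [hμ, smul_comm y a u]
    | add a b ha hb => simp [ha, hb, smul_add]
  let e : M' →ₗ[A] M' := μ ∘ₗ θ
  have he : ∀ (x : A') (u : M'), e (x • u) = x • e u := fun x u ↦ by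
    show μ (θ (x • u)) = x • μ (θ u)
    rw [hsemi, hμr]
  have hsurj : ∀ v, ∃ u, e u = v := by
    intro v
    obtain ⟨w, hw⟩ := hφ.2 ((1 : A') ⊗ₜ[A] v)
    have hw' : ∀ w, ∃ u, e u = μ (φ w) := by
      intro w
      induction w using TensorProduct.induction_on with
      | zero => exact ⟨0, by simp⟩
      | tmul u z =>
        refine ⟨z • u, ?_⟩
        rw [he, show u ⊗ₜ[A] z = u ⊗ₜ[A] (z * 1) by rw [mul_one], h2, hμl]
        rfl
      | add a b ha hb =>
        obtain ⟨x, hx⟩ := ha
        obtain ⟨y, hy⟩ := hb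
        exact ⟨x + y, by simp [hx, hy]⟩
    obtain ⟨u, hu⟩ := hw' w
    exact ⟨u, by rw [hu, hw, hμ, one_smul]⟩
  have key : ∀ u, LinearMap.lTensor A' θ (θ u) = LinearMap.lTensor A' (TensorProduct.mk A A' M' 1) (θ u) := by
    intro u
    refine Eq.trans ?_ (hcoc u 1 1)
    rw [LinearMap.rTensor_tmul, ← hθ]
    generalize θ u = w
    induction w using TensorProduct.induction_on with
    | zero => simp
    | tmul a v => simp [hθ]
    | add a b ha hb => simp [TensorProduct.add_tmul, ha, hb]
  have hee : ∀ u, e (e u) = e u := by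
    intro u
    have h := congrArg (fun w ↦ μ (LinearMap.lTensor A' μ w)) (key u)
    simp only [← LinearMap.lTensor_comp_apply] at h
    have a1 : ∀ w, μ (LinearMap.lTensor A' (μ ∘ₗ θ) w) = e (μ w) := by
      intro w
      induction w using TensorProduct.induction_on with
      | zero => simp
      | tmul a v => simp [hμ, he, e]
      | add a b ha hb => simp [ha, hb]
    have a2 : ∀ w, μ (LinearMap.lTensor A' (μ ∘ₗ TensorProduct.mk A A' M' 1) w) = μ w := by
      intro w
      induction w using TensorProduct.induction_on with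
      | zero => simp
      | tmul a v => simp [hμ]
      | add a b ha hb => simp [ha, hb]
    rw [a1, a2] at h
    exact h
  have hid : ∀ u, e u = u := fun v ↦ by obtain ⟨u, rfl⟩ := hsurj v; exact hee u
  let d : M' →ₗ[A] A' ⊗[A] M' := θ - TensorProduct.mk A A' M' 1
  have hd : M = LinearMap.ker d := by
    ext u
    rw [hM, LinearMap.mem_ker, LinearMap.sub_apply, sub_eq_zero]
    rfl
  have hex : Function.Exact M.subtype d := by
    rw [LinearMap.exact_iff, Submodule.range_subtype, hd]
  have hexT := Module.Flat.lTensor_exact A' hex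
  refine ⟨fun a b hab ↦ ?_, fun v ↦ ?_⟩
  · have hcomp : ∀ w, θ (μ (LinearMap.lTensor A' M.subtype w)) = LinearMap.lTensor A' M.subtype w := by
      intro w
      induction w using TensorProduct.induction_on with
      | zero => simp
      | tmul x m =>
        rw [LinearMap.lTensor_tmul, hμ, hsemi, hθ, Submodule.subtype_apply, (hM _).1 m.2]
        simp
      | add a b ha hb => simp [ha, hb]
    apply Module.Flat.lTensor_preserves_injective_linearMap (M := A') M.subtype (Submodule.injective_subtype M)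
    rw [← hcomp a, ← hcomp b]
    exact congrArg θ hab
  · obtain ⟨w, hw⟩ := (hexT (θ v)).1 (by
      rw [show LinearMap.lTensor A' d = LinearMap.lTensor A' θ - LinearMap.lTensor A' (TensorProduct.mk A A' M' 1)
        from LinearMap.lTensor_sub _ _, LinearMap.sub_apply, key, sub_self])
    exact ⟨w, (congrArg μ hw).trans (hid v)⟩

end Groth.Agent.S19547
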