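import Groth.Statements.S19548
import Groth.Agent.H83.RootBridge
-- import your own Groth.Agent.* helpers here

set_option autoImplicit false
universe u
open CategoryTheory AlgebraicGeometry
open RedSub

namespace Groth.Agent.S19548

open Set Function Groth.Agent.H83.RootBridge Groth.Agent.Lib.RootDatum Groth.Agent.Lib.RootDatum.Basic
  Groth.Agent.Lib.RootDatum.PosSys Groth.Agent.Lib.RootDatum.Weyl



/-- Let Φ be a finite reduced root system (a reduced root pairing over ℤ on a finite index set) with a
base b, let w = σ_{α_1} ⋯ σ_{α_ℓ} be a reduced decomposition of a Weyl group element into simple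
reflections (every α_j in the base, and no shorter word in the simple reflections gives the same
permutation of the roots), and let γ be a positive root with w⁻¹(γ) negative. Then for some i with 1
≤ i ≤ ℓ one has σ_γ σ_{α_1} ⋯ σ_{α_i} = σ_{α_1} ⋯ σ_{α_{i-1}}. (Indices are shifted by one below:
the word is a list and the prefixes are its first i + 1 and first i letters.) -/
theorem result {idx M N : Type}
    [AddCommGroup M] [AddCommGroup N] [Finite idx]
    (P : RootPairing idx ℤ M N) [P.IsReduced] (b : P.Base) (l : List idx)
    (hl : ∀ a ∈ l, a ∈ b.support)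
    (hred : ∀ l' : List idx, (∀ a ∈ l', a ∈ b.support) →
      RedSub.wordPerm P l' = RedSub.wordPerm P l → l.length ≤ l'.length)
    (c : idx) (hc : c ∈ RedSub.posRoots P b) (hneg : (RedSub.wordPerm P l).symm c ∈ RedSub.negRoots P b) :
    ∃ i : ℕ, i < l.length ∧
      P.reflectionPerm c * RedSub.wordPerm P (l.take (i + 1)) = RedSub.wordPerm P (l.take i) := by
  have hP := isPosSys P b
  have hΔ := isSimpleSys P b
  let u : ℕ → P.Aut := fun i => wordProd P (l.take i)
  obtain ⟨i, hi, hQ, hQ'⟩ : ∃ i < l.length, (u i)⁻¹ • c ∈ RedSub.posRoots P b ∧
      (u (i + 1))⁻¹ • c ∉ RedSub.posRoots P b := by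
    by_contra hno
    push Not at hno
    have hall : ∀ i ≤ l.length, (u i)⁻¹ • c ∈ RedSub.posRoots P b := by
      intro i
      induction i with
      | zero => intro _; simpa [u, wordProd] using hc
      | succ i ih => intro hi; exact hno i (by omega) (ih (by omega))
    have h := hall l.length le_rfl
    rw [wordPerm_symm_apply, mem_negRoots_iff_notMem] at hneg
    simp only [u, List.take_length] at h
    exact hneg h
  refine ⟨i, hi, ?_⟩
  set a := l[i] with hadef
  have ha : a ∈ b.support := hl _ (List.getElem_mem hi)
  have htake : l.take (i + 1) = l.take i ++ [a] := List.take_succ_eq_append_getElem hi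
  have hu : u (i + 1) = u i * refl P a := by
    show wordProd P (l.take (i + 1)) = wordProd P (l.take i) * refl P a
    rw [htake]
    simp only [wordProd, List.map_append, List.prod_append, List.map_cons, List.map_nil,
      List.prod_cons, List.prod_nil, _root_.mul_one]
  rw [hu, _root_.mul_inv_rev, refl_inv, mul_smul] at hQ'
  have hδ : refl P ((u i)⁻¹ • c) = refl P a := by
    rcases multiple_of_reflectionPerm_notMem hΔ (Finset.mem_coe.2 ha) hQ hQ' with h | h
    · rw [h]
    · exact refl_eq_of_double P h
  have hcr : refl P c = u i * refl P a * (u i)⁻¹ := by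
    rw [← hδ, conj_reflection, smul_inv_smul]
  ext x
  rw [Equiv.Perm.mul_apply, wordPerm_apply, wordPerm_apply]
  show refl P c • wordProd P (l.take (i + 1)) • x = u i • x
  rw [show wordProd P (l.take (i + 1)) = u i * refl P a from hu, ← mul_smul, hcr,
    show u i * refl P a * (u i)⁻¹ * (u i * refl P a) = u i * (refl P a * refl P a) by group,
    reflection_mul_self, _root_.mul_one]

end Groth.Agent.S19548
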