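import Groth.Statements.S19556
import Mathlib.AlgebraicGeometry.Morphisms.Separated
import Mathlib.AlgebraicGeometry.Morphisms.Finite
import Mathlib.AlgebraicGeometry.Morphisms.Immersion

set_option autoImplicit false
universe u
open CategoryTheory AlgebraicGeometry
open Mor

namespace Groth.Agent.S19556

open CategoryTheory CategoryTheory.Limits AlgebraicGeometry

/-- Let S be a scheme, p : X → S and q : Y → S schemes over S, and π : X → Y a finite surjective
morphism over S (π ≫ q = p). If X is separated over S then Y is separated over S. (The published
statement is about the quotient map X → X/G of a scheme by an action of a finite group scheme,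
assumed to exist and then finite and surjective; this row keeps of it only a finite surjective
S-morphism π, which is all the argument uses.) -/
theorem result {S X Y : Scheme.{u}} (p : X ⟶ S) (q : Y ⟶ S)
    (π : X ⟶ Y) (hπ : π ≫ q = p) [IsFinite π] [Surjective π] [IsSeparated p] :
    IsSeparated q := by
    subst hπ
    let m : pullback (π ≫ q) (π ≫ q) ⟶ pullback q q :=
      pullback.map (π ≫ q) (π ≫ q) q q π π (𝟙 S) (Category.comp_id _) (Category.comp_id _)
    have : IsFinite m :=
      MorphismProperty.pullback_map (P := @IsFinite) ‹IsFinite π› ‹IsFinite π› rfl rfl
    have hd : pullback.diagonal (π ≫ q) ≫ m = π ≫ pullback.diagonal q := by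
      apply pullback.hom_ext
      · simp only [m, pullback.map, Category.assoc]
        erw [pullback.lift_fst]
        rw [pullback.diagonal_fst, Category.comp_id, ← Category.assoc, pullback.diagonal_fst, Category.id_comp]
      · simp only [m, pullback.map, Category.assoc]
        erw [pullback.lift_snd]
        rw [pullback.diagonal_snd, Category.comp_id, ← Category.assoc, pullback.diagonal_snd, Category.id_comp]
    have hcl : IsClosed (Set.range (pullback.diagonal q)) := by
      have h1 : Set.range (pullback.diagonal q) = Set.range (pullback.diagonal (π ≫ q) ≫ m) := by
        rw [hd, Scheme.Hom.comp_base, TopCat.coe_comp, Set.range_comp, π.surjective.range_eq,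
          Set.image_univ]
      rw [h1]
      exact (pullback.diagonal (π ≫ q) ≫ m).isClosedMap.isClosed_range
    exact ⟨IsClosedImmersion.of_isPreimmersion _ hcl⟩

end Groth.Agent.S19556
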