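import Groth.Statements.S19559
import Groth.Agent.H25.Morse.Locus

set_option autoImplicit false
set_option linter.style.haveILetI false
universe u
open CategoryTheory CategoryTheory.Limits AlgebraicGeometry
open Curves

namespace Groth.Agent.S19559

/-- Let π : C → S be a flat morphism locally of finite presentation all of whose fibres have every
irreducible component of dimension one (every geometric fibre is a curve). Then the set of points p
of C such that either π is smooth on an open neighbourhood of p, or p is a node of its fibre
C_{π(p)} viewed as a scheme over κ(π(p)) (a closed point of the fibre at which, after base change to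
an algebraic closure, the complete local ring is that of an ordinary double point), is open in C. -/
theorem result {C S : Scheme.{u}} (π : C ⟶ S)
    [Flat π] [LocallyOfFinitePresentation π]
    (hfib : ∀ s : S, ∀ Z ∈ irreducibleComponents (↥(π.fiber s) : Type u), topologicalKrullDim Z = 1) :
    IsOpen {p : C | (∃ U : C.Opens, p ∈ U ∧ Smooth (U.ι ≫ π)) ∨
      @Curv2.IsNode (S.residueField (π.base p)) _ (π.fiber (π.base p)) ⟨π.fiberToSpecResidueField (π.base p)⟩ (π.asFiber p)} := by
  haveI hlfp : LocallyOfFinitePresentation π := inferInstance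
  suffices h : {p : C | (∃ U : C.Opens, p ∈ U ∧ Smooth (U.ι ≫ π)) ∨
      @Curv2.IsNode (S.residueField (π.base p)) _ (π.fiber (π.base p)) ⟨π.fiberToSpecResidueField (π.base p)⟩ (π.asFiber p)} =
      (Groth.Agent.H25.Morse.Locus.nodalLocus π : Set C) by
    rw [h]; exact (Groth.Agent.H25.Morse.Locus.nodalLocus π).2
  ext p
  constructor
  · rintro (⟨U, hpU, hU⟩ | hnode)
    · refine Groth.Agent.H25.Morse.Locus.of_smooth π p ?_ (hfib _)
      haveI := hU
      have h1 : (⟨p, hpU⟩ : (U : Scheme.{u})) ∈ U.ι ⁻¹ᵁ π.smoothLocus := by
        rw [Scheme.Hom.preimage_smoothLocus_eq, Scheme.Hom.smoothLocus_eq_top]; trivial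
      exact h1
    · exact Groth.Agent.H25.Morse.NodeOpen.of_node π p hnode
  · intro h
    rcases Groth.Agent.H25.Morse.Locus.smooth_or_node π p h with h1 | h1
    · refine Or.inl ⟨π.smoothLocus, h1, ?_⟩
      rw [← Scheme.Hom.smoothLocus_eq_top_iff, ← Scheme.Hom.preimage_smoothLocus_eq,
        Scheme.Opens.ι_preimage_self]
    · exact Or.inr h1

end Groth.Agent.S19559
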