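import Groth.Statements.S1956
import Groth.Agent.Lib.Cyc.Retr.Main
import Groth.Agent.Lib.Cyc.K0.Cycles
import Groth.Agent.Lib.Cyc.K0.Sum
import Groth.Agent.Lib.Cyc.C1K.Family
import Groth.Agent.Lib.Cyc.Retr.Family
import Groth.Agent.Lib.Cyc.Retr.Witness

set_option autoImplicit false
universe u
open CategoryTheory AlgebraicGeometry
open Cyc

namespace Groth.Agent.S1956

/-- For a k-cycle α = Σ n_Z [Z] on X rationally equivalent to zero, the classes of ⊕_{n_Z>0} O_Z^{n_Z}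
and ⊕_{n_Z<0} O_Z^{−n_Z} agree in K_0(Coh_{≤k+1}(X)/Coh_{≤k−1}(X)); that is, Z_k(X) →
K_0(Coh_{≤k+1}/Coh_{≤k−1}) factors through CH_k(X). Here O_Z is the structure sheaf of the reduced
closure of the generic point pushed forward to X, and K_0 of the Serre quotient is modelled as in
Cyc.K0CohQuot. Here a pair (X, δ) with Cyc.IsSetup plays the role of a scheme locally of finite type
over a fixed base with a dimension function (X locally Noetherian with universally catenary local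
rings, δ a dimension function). -/
theorem result (X : Scheme.{u}) (δ : X → ℤ) (hX : Cyc.IsSetup X δ) (k : ℤ) (α : AlgebraicCycle X ℤ) (hα : α ∈ Cyc.Zk X δ k) (h0 : Cyc.RatEquivZero δ k α) : Cyc.toK0CohQuot δ (k + 1) (k - 1) (Cyc.cycleSheafPos ⇑α) = Cyc.toK0CohQuot δ (k + 1) (k - 1) (Cyc.cycleSheafNeg ⇑α) := by
  classical
  haveI := hX.1
  obtain ⟨ι, ξ, f, hξ, hf, hlf, hαeq⟩ := h0
  have hlf' : Groth.Agent.Lib.Cyc.C1K.Family.LF ξ := hlf
  have hex : ∀ n : ι, ∃ c : X.presheaf.stalk (ξ n), X.residue (ξ n) c = f n ∧ IsUnit c := fun n => by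
    obtain ⟨c, hc⟩ := X.residue_surjective (ξ n) (f n)
    refine ⟨c, hc, ?_⟩
    by_contra hne
    exact hf n (hc ▸ (IsLocalRing.residue_eq_zero_iff _).2 ((IsLocalRing.mem_maximalIdeal c).2 hne))
  choose c hcf hc using hex
  let O := fun n : ι => Cyc.closureStructureSheaf (ξ n)
  let u := fun n : ι => Groth.Agent.Lib.Cyc.Retr.Witness.incl (ξ n) (c n)
  let v := fun n : ι => Groth.Agent.Lib.Cyc.Retr.Witness.quot (hc n)
  haveI : ∀ n, Mono (v n) := fun n => Groth.Agent.Lib.Cyc.Retr.Witness.mono_quot (hc n)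
  have hOn : Groth.Agent.Lib.Cyc.C1K.Family.OnCl ξ O := fun n y hy =>
    Groth.Agent.Lib.Cyc.Retr.Witness.stalk_trivial_of_not_specializes hy
  have hJn : Groth.Agent.Lib.Cyc.C1K.Family.OnCl ξ
      fun n => Groth.Agent.Lib.Cyc.Retr.Witness.J (ξ n) (c n) := fun n y hy =>
    haveI := hOn n y hy
    ((Groth.Agent.Lib.Modules.StalkModule.mono_iff_stalkMapₗ_injective (u n)).1 inferInstance
      y).subsingleton
  obtain ⟨mu, hu, fu⟩ := Groth.Agent.Lib.Cyc.C1K.Family.sigma_map_spec hlf' hX.2.2 u hOn fun n =>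
    Groth.Agent.Lib.Cyc.Retr.Witness.cohLe_cokernel hX.2.2 (hξ n) _
      Groth.Agent.Lib.Cyc.Retr.Witness.isCoh_cokernel_incl
      (Groth.Agent.Lib.Cyc.Retr.Witness.surjective_incl_self (hc n))
  obtain ⟨mv, hv, fv⟩ := Groth.Agent.Lib.Cyc.C1K.Family.sigma_map_spec hlf' hX.2.2 v hOn fun n =>
    Groth.Agent.Lib.Cyc.Retr.Witness.cohLe_cokernel hX.2.2 (hξ n) _
      (Groth.Agent.Lib.Cyc.Retr.Witness.isCoh_cokernel_quot (hc n))
      (Groth.Agent.Lib.Cyc.Retr.Witness.surjective_quot_self (hc n))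
  have cJ : Coh.IsCoh (Limits.sigmaObj fun n => Groth.Agent.Lib.Cyc.Retr.Witness.J (ξ n) (c n)) :=
    Groth.Agent.Lib.Cyc.C1K.Family.isCoh_sigma hlf' hJn fun n =>
      Groth.Agent.Lib.Cyc.Retr.Witness.isCoh_J _ _
  have hO : Cyc.CohLe δ (k + 1) (Limits.sigmaObj O) :=
    Groth.Agent.Lib.Cyc.C1K.Family.cohLe_sigma hlf' hOn fun n =>
      ⟨Groth.Agent.Lib.Devissage.Closure.isCoh_closureStructureSheaf _, fun y hy => by
        by_cases hs : ξ n ⤳ y
        · exact (Groth.Agent.Lib.Cyc.DimFun.le_of_specializes hX.2.2 hs).trans (hξ n).le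
        · exact absurd (hOn n y hs) (not_subsingleton_iff_nontrivial.2 hy)⟩
  haveI := mu
  haveI := mv
  have huv := Groth.Agent.Lib.Cyc.Retr.Family.cl_eq (Limits.Sigma.map u) (Limits.Sigma.map v) cJ hO
  -- the cycle is the difference of the two cokernels
  have hdiff : ∀ x, α x = Cyc.sheafFun δ k (Limits.cokernel (Limits.Sigma.map u)) x -
      Cyc.sheafFun δ k (Limits.cokernel (Limits.Sigma.map v)) x := fun x => by
    have hs : ∀ g : ∀ n, Groth.Agent.Lib.Cyc.Retr.Witness.J (ξ n) (c n) ⟶ O n,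
        (Function.support fun n => Cyc.sheafFun δ k (Limits.cokernel (g n)) x).Finite := fun g => by
      refine (Groth.Agent.Lib.Cyc.C1K.Family.finite_nontrivial hlf' hOn x).subset fun n hn => ?_
      by_contra hs
      haveI := not_nontrivial_iff_subsingleton.1 hs
      haveI : Subsingleton ((Limits.cokernel (g n)).presheaf.stalk x) :=
        ((Groth.Agent.Lib.Modules.StalkModule.epi_iff_stalkMapₗ_surjective
          (Limits.cokernel.π (g n))).1 inferInstance x).subsingleton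
      refine hn ?_
      simp only [Cyc.sheafFun, Module.length_eq_zero]
      split_ifs <;> rfl
    rw [hαeq, fu, fv, ← finsum_sub_distrib (hs u) (hs v)]
    exact finsum_congr fun n =>
      hcf n ▸ Groth.Agent.Lib.Cyc.Retr.Witness.divFun_eq (hc n) hX.2.2 (hξ n) x
  -- the canonical sheaves
  have hsp : ∀ a : X → ℤ, (∀ x, a x ≠ 0 → α x ≠ 0) →
      Cyc.CohLe δ k (Cyc.cycleSheafPos a) ∧
        ∀ x, Cyc.sheafFun δ k (Cyc.cycleSheafPos a) x = max (a x) 0 := by
    intro a ha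
    have hk : ∀ x, a x ≠ 0 → δ x = k := fun x hx => by
      by_contra hne; exact ha x hx (hα x hne)
    obtain ⟨h1, h2⟩ := Groth.Agent.Lib.Cyc.K0.Sum.cycleSheaf_spec hX.2.2 k a hk fun x => by
      obtain ⟨t, ht, hfin⟩ := α.supportLocallyFiniteWithinDomain' x (Set.mem_univ x)
      obtain ⟨V, hVt, hV, hxV⟩ := mem_nhds_iff.mp ht
      exact ⟨⟨V, hV⟩, hxV, hfin.subset fun y hy => ⟨hVt hy.1, ha y hy.2⟩⟩
    refine ⟨h1, fun x => ?_⟩
    simp only [Cyc.sheafFun]
    split_ifs with hx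
    · rw [(h2 x hx).1]; simp
    · have : a x = 0 := by
        by_contra hne; exact hx (hk x hne)
      simp [this]
  obtain ⟨hP, hPf⟩ := hsp ⇑α fun x hx => hx
  obtain ⟨hN, hNf⟩ := hsp (-⇑α) fun x hx => by simpa using hx
  -- injectivity one dimension below
  obtain ⟨ψ, hψ, hinj, -⟩ := Groth.Agent.Lib.Cyc.K0.Cycles.main k (X := X) (δ := δ) hX.2.2
  have key : Cyc.toK0CohQuot δ k (k - 1) (Limits.cokernel (Limits.Sigma.map u)) +
        Cyc.toK0CohQuot δ k (k - 1) (Cyc.cycleSheafPos (-⇑α)) =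
      Cyc.toK0CohQuot δ k (k - 1) (Limits.cokernel (Limits.Sigma.map v)) +
        Cyc.toK0CohQuot δ k (k - 1) (Cyc.cycleSheafPos ⇑α) := hinj (by
    rw [map_add, map_add, hψ _ hu, hψ _ hN, hψ _ hv, hψ _ hP]
    funext x
    have := hdiff x
    simp only [Pi.add_apply, hPf, hNf, Pi.neg_apply]
    omega)
  -- push to dimension `k + 1`
  have hle : ∀ {A : X.Modules}, Cyc.CohLe δ k A → Cyc.CohLe δ (k + 1) A := fun {A} hA =>
    Groth.Agent.Lib.Cyc.Retr.K0Tools.cohLe_mono (by omega) hA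
  let up : Cyc.K0CohQuot δ k (k - 1) →+ Cyc.K0CohQuot δ (k + 1) (k - 1) :=
    QuotientAddGroup.lift _
      (Groth.Agent.Lib.KRes.KSub.lift (fun A => Cyc.toK0CohQuot δ (k + 1) (k - 1) A)
        fun T hT h₁ h₂ h₃ =>
          Groth.Agent.Lib.Cyc.K0.Cycles.mk_rel δ (k + 1) (k - 1) hT (hle h₁) (hle h₂) (hle h₃))
      ((AddSubgroup.closure_le _).2 (by
        rintro _ ⟨F, hF, rfl⟩
        have hF' : Cyc.CohLe δ k F := Groth.Agent.Lib.Cyc.Retr.K0Tools.cohLe_mono (by omega) hF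
        rw [SetLike.mem_coe, AddMonoidHom.mem_ker, Groth.Agent.Lib.KRes.KSub.lift_cl _ _ hF']
        exact Groth.Agent.Lib.Cyc.K0.Cycles.mk_eq_zero δ (k + 1) (k - 1) hF))
  have hup : ∀ {A : X.Modules}, Cyc.CohLe δ k A →
      up (Cyc.toK0CohQuot δ k (k - 1) A) = Cyc.toK0CohQuot δ (k + 1) (k - 1) A := fun {A} hA => by
    rw [Cyc.toK0CohQuot]
    exact (QuotientAddGroup.lift_mk _ _ _).trans (Groth.Agent.Lib.KRes.KSub.lift_cl _ _ hA)
  have := congrArg up key
  rw [map_add, map_add, hup hu, hup hN, hup hv, hup hP, huv] at this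
  exact (add_left_cancel this).symm

end Groth.Agent.S1956
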