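import Groth.Statements.S19562
import Groth.Agent.Lib.LinkGr.Span
import Mathlib.LinearAlgebra.FiniteDimensional.Lemmas
-- import your own Groth.Agent.* helpers here

set_option autoImplicit false
universe u
open W4c1limliniiii

namespace Groth.Agent.S19562

open TensorProduct in
/-- Let k be a field, 0 < r < d, and f_i, g_i (i < n) linear maps forward and backward between
consecutive ones of n + 1 copies of k^d, forming a linked Grassmannian over Spec k whose scalar s is
zero: every composite f_i ∘ g_i and g_i ∘ f_i vanishes, rank f_i + rank g_i ≥ d, and for consecutive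
indices im f_i ∩ ker f_{i+1} = 0 and im g_{i+1} ∩ ker g_i = 0. Let (V_i) be a k-valued point of the
linked Grassmannian of rank-r sub-bundles (subspaces V_i of k ⊗ k^d with quotient of rank d − r,
with f_i(V_i) ⊆ V_{i+1} and g_i(V_{i+1}) ⊆ V_i). Then (V_i) is exact, meaning ker g_i ∩ V_{i+1} ⊆
f_i(V_i) and ker f_i ∩ V_i ⊆ g_i(V_{i+1}) for all i, if and only if dim f_i(V_i) + dim g_i(V_{i+1})
= r for all i. (The published assertion is for points with values in an arbitrary scheme and also
says that f_i(V_i) and g_i(V_{i+1}) are then sub-bundles; this row is the case of a field, where the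
last clause is empty.) -/
theorem result (k : Type u) [Field k]
    (d r n : ℕ) (hr : 0 < r) (hrd : r < d) (f g : Fin n → ((Fin d → k) →ₗ[k] (Fin d → k)))
    (hI : ∀ i, (f i).comp (g i) = 0 ∧ (g i).comp (f i) = 0)
    (hII : ∀ i, d ≤ Module.finrank k (LinearMap.range (f i)) + Module.finrank k (LinearMap.range (g i)))
    (hIII : ∀ i j : Fin n, i.val + 1 = j.val →
      LinearMap.range (f i) ⊓ LinearMap.ker (f j) = ⊥ ∧
        LinearMap.range (g j) ⊓ LinearMap.ker (g i) = ⊥)
    (V : Fin (n + 1) → Module.Grassmannian k (k ⊗[k] (Fin d → k)) (d - r))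
    (hV : V ∈ W4c1limliniiii.LGPoints k d r n f g k) :
    W4c1limliniiii.IsExact k d r n f g k V ↔
      ∀ i : Fin n,
        Module.finrank k ↥(Submodule.map ((f i).baseChange k) (V i.castSucc).toSubmodule) +
          Module.finrank k ↥(Submodule.map ((g i).baseChange k) (V i.succ).toSubmodule) = r := by
  have hfin : ∀ G : Module.Grassmannian k (k ⊗[k] (Fin d → k)) (d - r),
      Module.finrank k G.toSubmodule = r := fun G => by
    have h1 := G.rankAtStalk_eq ⟨⊥, Ideal.isPrime_bot⟩
    rw [Module.rankAtStalk_eq_finrank_of_free] at h1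
    have h2 := G.toSubmodule.finrank_quotient_add_finrank
    rw [Module.finrank_baseChange, Module.finrank_fin_fun] at h2
    simp at h1
    omega
  have hrk : ∀ (M : Type u) [AddCommGroup M] [Module k M] [FiniteDimensional k M] (φ : M →ₗ[k] M) (W : Submodule k M),
      Module.finrank k (Submodule.map φ W) + Module.finrank k ↥(LinearMap.ker φ ⊓ W) = Module.finrank k W := by
    intro M _ _ _ φ W
    have h := LinearMap.finrank_range_add_finrank_ker (φ.domRestrict W)
    rw [LinearMap.range_domRestrict] at h
    rw [← h]
    congr 1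
    exact LinearEquiv.finrank_eq ((Submodule.comapSubtypeEquivOfLe (inf_le_right (a := LinearMap.ker φ)
      (b := W))).symm.trans (LinearEquiv.ofEq _ _ (SetLike.ext fun z => by simp)))
  have hzero : ∀ (i : Fin n) (z : k ⊗[k] (Fin d → k)),
      (g i).baseChange k ((f i).baseChange k z) = 0 ∧ (f i).baseChange k ((g i).baseChange k z) = 0 := by
    intro i z
    constructor <;> rw [← LinearMap.comp_apply, ← LinearMap.baseChange_comp]
    · rw [(hI i).2, LinearMap.baseChange_zero, LinearMap.zero_apply]
    · rw [(hI i).1, LinearMap.baseChange_zero, LinearMap.zero_apply]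
  have hle : ∀ i : Fin n,
      Submodule.map ((f i).baseChange k) (V i.castSucc).toSubmodule ≤
          LinearMap.ker ((g i).baseChange k) ⊓ (V i.succ).toSubmodule ∧
        Submodule.map ((g i).baseChange k) (V i.succ).toSubmodule ≤
          LinearMap.ker ((f i).baseChange k) ⊓ (V i.castSucc).toSubmodule := fun i =>
    ⟨le_inf (by rintro _ ⟨z, -, rfl⟩; exact (hzero i z).1) (hV i).1,
      le_inf (by rintro _ ⟨z, -, rfl⟩; exact (hzero i z).2) (hV i).2⟩
  refine forall_congr' fun i => ?_
  have h1 := hrk _ ((f i).baseChange k) (V i.castSucc).toSubmodule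
  have h2 := hrk _ ((g i).baseChange k) (V i.succ).toSubmodule
  rw [hfin] at h1 h2
  constructor
  · rintro ⟨-, h4⟩
    rw [le_antisymm (hle i).2 h4]
    exact h1
  · intro h
    refine ⟨(Submodule.eq_of_le_of_finrank_le (hle i).1 (by omega)).ge,
      (Submodule.eq_of_le_of_finrank_le (hle i).2 (by omega)).ge⟩

end Groth.Agent.S19562
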