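import Groth.Statements.S19565
import Groth.Agent.Lib.RootDatum.Sub
import Groth.Agent.H84.BaseBridge
import Mathlib.LinearAlgebra.RootSystem.Irreducible

set_option autoImplicit false
universe u v w
open RootComb

namespace Groth.Agent.S19565

open Groth.Agent.Lib.RootDatum Groth.Agent.Lib.RootDatum.Basic Groth.Agent.Lib.RootDatum.PosSys in
lemma main {ι k M N : Type*} [Finite ι] [DecidableEq ι] [Field k] [CharZero k] [AddCommGroup M]
    [Module k M] [AddCommGroup N] [Module k N]
    (P : RootPairing ι k M N) [P.IsCrystallographic] [P.IsReduced] [P.IsIrreducible] (b : P.Base)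
    (hΔ : RootD.IsSimpleSys P (b.support : Set ι))
    (I A B : Finset ι) (hcover : I ∪ A ∪ B = b.support) (hIA : Disjoint I A) (hIB : Disjoint I B)
    (hAB : Disjoint A B) (hA : A.Nonempty) (hB : B.Nonempty) :
    ∃ l ∈ A, ∃ j : ι, P.root j ∈ AddSubmonoid.closure (P.root '' ↑(I ∪ B)) ∧
      P.root j ∉ Submodule.span k (P.root '' ↑I) ∧ P.pairingIn ℤ j l < 0 := by
  classical
  have hsupp : ∀ a, a ∈ b.support ↔ a ∈ I ∨ a ∈ A ∨ a ∈ B := fun a => by simp [← hcover, or_assoc]
  have hD : ((I ∪ B : Finset ι) : Set ι) ⊆ b.support := fun a ha => by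
    simp only [Finset.coe_union, Set.mem_union, Finset.mem_coe] at ha ⊢
    exact (hsupp a).mpr (ha.imp id Or.inr)
  let Good : ι → Prop := fun δ =>
    P.root δ ∈ RootD.natSpan P ((I ∪ B : Finset ι) : Set ι) ∧ ∃ a ∈ B, coeff hΔ δ a ≠ 0
  have hgood : ∀ δ, Good δ → P.root δ ∉ Submodule.span k (P.root '' ↑I) := by
    rintro δ ⟨-, a, haB, ha⟩ hspan
    obtain ⟨l, hl, hle⟩ := (Finsupp.mem_span_image_iff_linearCombination k).mp hspan
    let c : ι →₀ k := (coeff hΔ δ).mapRange (fun z : ℤ => (z : k)) Int.cast_zero
    have hc : Finsupp.linearCombination k P.root c = P.root δ := by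
      conv_rhs => rw [← comb_coeff hΔ δ]
      simp only [Finsupp.linearCombination_apply, c]
      rw [Finsupp.sum_mapRange_index fun x => zero_smul k (P.root x)]
      exact Finsupp.sum_congr fun x _ => Int.cast_smul_eq_zsmul k _ _
    have hIS : (I : Set ι) ⊆ b.support := fun x hx => (hsupp x).mpr (Or.inl hx)
    have hmem : c - l ∈ Finsupp.supported k k (b.support : Set ι) := by
      refine Submodule.sub_mem _ ?_ (Finsupp.supported_mono hIS hl)
      exact fun x hx => coeff_support hΔ δ (Finsupp.support_mapRange hx)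
    have h0 := linearIndepOn_iff.mp hΔ.linInd _ hmem (by rw [map_sub, hc, hle, sub_self])
    have hla : l a = 0 := Finsupp.notMem_support_iff.mp fun h =>
      Finset.disjoint_left.mp hIB (Finset.mem_coe.mp (hl h)) haB
    have := DFunLike.congr_fun h0 a
    simp only [Finsupp.sub_apply, c, Finsupp.mapRange_apply, hla, sub_zero, Finsupp.coe_zero,
      Pi.zero_apply, Int.cast_eq_zero] at this
    exact ha this
  have hAc : ∀ δ, Good δ → ∀ l ∈ A, coeff hΔ δ l = 0 := by
    intro δ hδ l hl
    obtain ⟨c, hc, -, hce⟩ := exists_comb (P := P) hδ.1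
    rw [coeff_eq hΔ (hc.trans hD) hce]
    refine Finsupp.notMem_support_iff.mp fun h => ?_
    rcases Finset.mem_union.mp (Finset.mem_coe.mp (hc h)) with h' | h'
    · exact Finset.disjoint_left.mp hIA h' hl
    · exact Finset.disjoint_left.mp hAB hl h'
  by_contra hno
  push Not at hno
  let Z : Set ι := {j | j ∈ b.support ∧ ∃ δ, Good δ ∧ coeff hΔ δ j ≠ 0}
  have horth : ∀ j ∈ Z, ∀ j' ∈ b.support, j' ∉ Z → pz P j j' = 0 := by
    rintro j ⟨hj, δ, hδ, hδj⟩ j' hj' hnot
    have h0 : coeff hΔ δ j' = 0 := by
      by_contra h; exact hnot ⟨hj', δ, hδ, h⟩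
    have hδpos : δ ∈ RootD.posOf P (b.support : Set ι) := natSpan_mono P hD hδ.1
    have hge : 0 ≤ pz P δ j' := by
      rcases (hsupp j').mp hj' with h | h | h
      swap
      · exact hno j' h δ hδ.1 (hgood δ hδ)
      all_goals
        by_contra hlt
        rw [not_le] at hlt
        have hne : P.root δ ≠ -P.root j' := by
          intro e
          have e1 : δ = negIdx P j' := P.root.injective (by rw [root_negIdx, e])
          rw [e1] at hδpos
          exact (isPosSys_posOf hΔ).disjoint (self_mem_posOf hΔ (Finset.mem_coe.mpr hj')) hδpos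
        obtain ⟨m, hm⟩ := add_mem P hlt hne
        obtain ⟨a, ha, hane⟩ := hδ.2
        have hcm := coeff_add hΔ hm
        refine hnot ⟨hj', m, ⟨?_, a, ha, ?_⟩, ?_⟩
        · rw [hm]
          exact AddSubmonoid.add_mem _ hδ.1 (root_mem_natSpan P (Finset.mem_coe.mpr (Finset.mem_union.mpr
            (by first | exact Or.inl h | exact Or.inr h))))
        · have hp : 0 ≤ coeff hΔ δ a := (mem_posOf_iff hΔ).mp hδpos a
          rw [hcm, Finsupp.add_apply, coeff_self hΔ (Finset.mem_coe.mpr hj'), Finsupp.single_apply]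
          split_ifs <;> lia
        · rw [hcm, Finsupp.add_apply, coeff_self hΔ (Finset.mem_coe.mpr hj'), Finsupp.single_eq_same, h0]
          lia
    have hexp : pz P δ j' = ∑ a ∈ b.support, coeff hΔ δ a * pz P a j' := by
      apply Int.cast_injective (α := k)
      rw [← coroot'_root P δ j', ← comb_coeff hΔ δ, Finsupp.linearCombination_apply,
        Finsupp.sum_of_support_subset _ (Finset.coe_subset.mp (coeff_support hΔ δ)) _
          (fun a _ => zero_smul ℤ (P.root a)), map_sum, Int.cast_sum]
      exact Finset.sum_congr rfl fun a _ => by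
        rw [map_zsmul, coroot'_root, zsmul_eq_mul, Int.cast_mul]
    have hnp : ∀ a ∈ b.support, coeff hΔ δ a * pz P a j' ≤ 0 := by
      intro a ha
      by_cases e : a = j'
      · rw [e, h0, zero_mul]
      · exact mul_nonpos_of_nonneg_of_nonpos ((mem_posOf_iff hΔ).mp hδpos a)
          (RootPairing.Base.pairingIn_le_zero_of_ne b e ha hj')
    rw [hexp] at hge
    have h1 := (Finset.sum_eq_zero_iff_of_nonpos hnp).mp (le_antisymm (Finset.sum_nonpos hnp) hge) j hj
    rcases mul_eq_zero.mp h1 with h | h
    · exact absurd h hδj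
    · exact h
  let q : Submodule k M := Submodule.span k (P.root '' Z)
  have hinv : ∀ i ∈ b.support, q ∈ Module.End.invtSubmodule (P.reflection i).toLinearMap := by
    intro i hi
    rw [Module.End.mem_invtSubmodule_iff_map_le, Submodule.map_span, Submodule.span_le]
    rintro _ ⟨_, ⟨j, hj, rfl⟩, rfl⟩
    change P.reflection i (P.root j) ∈ q
    rw [reflection_root_eq]
    by_cases hiZ : i ∈ Z
    · have hiq : P.root i ∈ q := Submodule.subset_span ⟨i, hiZ, rfl⟩
      exact Submodule.sub_mem _ (Submodule.subset_span ⟨j, hj, rfl⟩) (zsmul_mem hiq _)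
    · rw [horth j hj i hi hiZ, zero_smul, sub_zero]
      exact Submodule.subset_span ⟨j, hj, rfl⟩
  obtain ⟨a, ha⟩ := hB
  have haS : a ∈ b.support := (hsupp a).mpr (Or.inr (Or.inr ha))
  have haZ : a ∈ Z := ⟨haS, a, ⟨root_mem_natSpan P (Finset.mem_coe.mpr (Finset.mem_union_right _ ha)),
    a, ha, by rw [coeff_self hΔ (Finset.mem_coe.mpr haS)]; simp⟩,
    by rw [coeff_self hΔ (Finset.mem_coe.mpr haS)]; simp⟩
  have htop : q = ⊤ := by
    refine RootPairing.IsIrreducible.eq_top_of_invtSubmodule_reflection q
      ((b.forall_mem_support_invtSubmodule_iff q).mp hinv) fun h => P.ne_zero a ?_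
    have hm : P.root a ∈ q := Submodule.subset_span ⟨a, haZ, rfl⟩
    rw [h] at hm
    exact (Submodule.mem_bot k).mp hm
  obtain ⟨l, hl⟩ := hA
  have hlZ : l ∉ Z := fun ⟨_, δ, hδ, hne⟩ => hne (hAc δ hδ l hl)
  have hlS : l ∈ b.support := (hsupp l).mpr (Or.inr (Or.inl hl))
  refine (hΔ.linInd.mono (t := insert l Z) ?_).notMem_span_of_insert hlZ ?_
  · exact Set.insert_subset (Finset.mem_coe.mpr hlS) fun x hx => hx.1
  · change P.root l ∈ q
    rw [htop]; trivial

/-- Let Φ be a finite reduced crystallographic irreducible root system over a field of characteristic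
zero, Δ a base of simple roots, I ⊆ Δ, and suppose the simple roots outside I are split into two
disjoint non-empty sets A and B. Then there are a simple root β ∈ A and a root δ such that δ is a
non-negative integer combination of the simple roots of I ∪ B (a positive root whose support avoids
A), δ is not in the linear span of I (so δ is not a root of the Levi subsystem of I), and ⟨δ, β^∨⟩ <
0. (The published statement is made for the root system of a semisimple group; for a reducible
system such as A₁ × A₁ with I empty and A, B the two simple roots there is no such δ, and the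
argument measures distances in a connected Dynkin diagram, so the root system is taken irreducible
here.) -/
theorem result
    {ι : Type u} [Finite ι] [DecidableEq ι] {k : Type v} [Field k] [CharZero k]
    {M : Type w} [AddCommGroup M] [Module k M] {N : Type w} [AddCommGroup N] [Module k N]
    (P : RootPairing ι k M N) [P.IsCrystallographic] [P.IsReduced] [P.IsIrreducible] (b : P.Base)
    (I A B : Finset ι) (hcover : I ∪ A ∪ B = b.support) (hIA : Disjoint I A) (hIB : Disjoint I B)
    (hAB : Disjoint A B) (hA : A.Nonempty) (hB : B.Nonempty) :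
    ∃ l ∈ A, ∃ j : ι, P.root j ∈ AddSubmonoid.closure (P.root '' ↑(I ∪ B)) ∧
      P.root j ∉ Submodule.span k (P.root '' ↑I) ∧ P.pairingIn ℤ j l < 0 := by
  exact main P b (Groth.Agent.H84.BaseBridge.isSimpleSys b) I A B hcover hIA hIB hAB hA hB

end Groth.Agent.S19565
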