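import Groth.Statements.S19566
import Groth.Agent.Lib.QuotSt.PointCount
import Mathlib.AlgebraicGeometry.Morphisms.LocalFlatDescent

set_option autoImplicit false
universe u
open CategoryTheory CategoryTheory.Limits AlgebraicGeometry
open AlgSt

namespace Groth.Agent.S19566

/-- Let F be a finite field, X a smooth F-scheme of finite type, and G a smooth affine connected F-group
scheme acting on X. Form the quotient stack [X/G] as the category over F-schemes whose objects over
T are fppf G-torsors P → T (as schemes) with a G-equivariant map P → X, and take its fibre category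
over Spec F itself. Then the isomorphism classes of this fibre are finite in number, each of its
objects has a finite automorphism group, and the mass Σ_{[ξ]} 1/#Aut(ξ) over the isomorphism classes
equals #X(F) / #G(F), the number of F-points of X divided by the order of the finite group G(F).
(The published statement allows X to be a smooth Deligne–Mumford stack, with 1/#Aut(x) weights on
the right as well, and G any connected algebraic group; this row is the case of a scheme X and a
smooth affine G, where F-points of X have no automorphisms.) -/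
theorem result
    {F : Type u} [Field F] [Finite F]
    (X G : Over (Spec (CommRingCat.of F))) [GrpObj G] (aX : AlgGrp.Action G X)
    [Smooth X.hom] [QuasiCompact X.hom] [Smooth G.hom] [IsAffineHom G.hom] [ConnectedSpace ↥G.left] :
    Finite (Quotient (isIsomorphicSetoid ((AlgSt.QuotSt Scheme.fppfPrecoverage G aX).p.Fiber (Over.mk (𝟙 (Spec (CommRingCat.of F))))))) ∧
      (∀ ξ : ((AlgSt.QuotSt Scheme.fppfPrecoverage G aX).p.Fiber (Over.mk (𝟙 (Spec (CommRingCat.of F))))), Finite (Aut ξ)) ∧
      ∑ᶠ c : Quotient (isIsomorphicSetoid ((AlgSt.QuotSt Scheme.fppfPrecoverage G aX).p.Fiber (Over.mk (𝟙 (Spec (CommRingCat.of F)))))), ((Nat.card (Aut c.out) : ℚ))⁻¹ =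
        (Nat.card (Over.mk (𝟙 (Spec (CommRingCat.of F))) ⟶ X) : ℚ) /
          (Nat.card (Over.mk (𝟙 (Spec (CommRingCat.of F))) ⟶ G) : ℚ) := by
  have hK := Scheme.fppfPrecoverage_le_fpqcPrecoverage.{u}
  let T : Over (Spec (CommRingCat.of F)) := Over.mk (𝟙 _)
  have hF : Spec.map (CommRingCat.ofHom (algebraMap F F)) = 𝟙 (Spec (CommRingCat.of F)) := by
    rw [Algebra.algebraMap_self, CommRingCat.ofHom_id, Spec.map_id]
  have hfin : ∀ (Z : Over (Spec (CommRingCat.of F))), LocallyOfFiniteType Z.hom → QuasiCompact Z.hom →
      Finite (T ⟶ Z) := fun Z _ _ => by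
    have := Lib.Zeta.Points.finite_points (k := F) (f := Z.hom) F
    refine Finite.of_injective (β := { g : Spec (CommRingCat.of F) ⟶ Z.left //
      g ≫ Z.hom = Spec.map (CommRingCat.ofHom (algebraMap F F)) })
      (fun g => ⟨g.left, (Over.w g).trans hF.symm⟩) fun a b h => Over.OverMorphism.ext (congrArg Subtype.val h)
  have : IsAffine G.left := isAffine_of_isAffineHom G.hom
  have := hfin G inferInstance inferInstance
  have := hfin X inferInstance inferInstance
  refine Lib.QuotSt.PointCount.mass (T := T) fun A hA => ?_
  have hterm : Limits.IsTerminal T := Over.mkIdTerminal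
  have h1 : ∀ {W : Over (Spec (CommRingCat.of F))} (a b : W ⟶ A.base), a = b := fun a b =>
    (cancel_mono (eqToHom hA)).1 (hterm.hom_ext _ _)
  have hπs : Surjective A.π.left := Lib.QuotSt.surjective_π hK A
  have hπl : LocallyOfFiniteType A.π.left := Lib.QuotSt.property_π (P := @LocallyOfFiniteType) hK A inferInstance
  have hbase : IsIso A.base.hom := by rw [hA]; exact inferInstanceAs (IsIso (𝟙 _))
  have : LocallyOfFiniteType A.P.hom := by rw [← Over.w A.π]; infer_instance
  have : Nonempty ↥A.P.left := by
    obtain ⟨y, -⟩ := hπs.surj ((inv A.base.hom) (IsLocalRing.closedPoint F))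
    exact ⟨y⟩
  have hiso : IsIso (CartesianMonoidalCategory.lift A.act.act (CartesianMonoidalCategory.snd G A.P)) := by
    refine ⟨A.cart.lift (CartesianMonoidalCategory.fst A.P A.P) (CartesianMonoidalCategory.snd A.P A.P)
      (h1 _ _), ?_, ?_⟩
    · apply A.cart.hom_ext <;> simp
    · apply CartesianMonoidalCategory.hom_ext <;> simp
  obtain ⟨p⟩ := H1.LangTorsor.torsor_trivial G A.P A.act hiso
  exact ⟨hterm.from _ ≫ eqToHom rfl ≫ p, h1 _ _⟩

end Groth.Agent.S19566
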