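import Groth.Statements.S1957
import Groth.Agent.Lib.Henselian.PairUP
import Groth.Agent.Lib.Henselian.Pair

set_option autoImplicit false
universe u
open Polynomial
open EtAlg

namespace Groth.Agent.S1957

open Polynomial Groth.Agent.Lib.Henselian

theorem exists_lift {B : Type u} [CommRing B] (J : Ideal B) [HenselianRing B J] {f : B[X]} (hf : f.Monic)
    {g h : (B ⧸ J)[X]} (hgh : f.map (Ideal.Quotient.mk J) = g * h) (hlead : IsUnit g.leadingCoeff)
    (hcop : IsCoprime g h) :
    ∃ g' h' : B[X], f = g' * h' ∧ g'.map (Ideal.Quotient.mk J) = g ∧ h'.map (Ideal.Quotient.mk J) = h := by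
  rcases subsingleton_or_nontrivial (B ⧸ J) with hs | hs
  · have := Pair.subsingleton_of_subsingleton_quotient (I := J) HenselianRing.jac
    exact ⟨f, f, Subsingleton.elim _ _, Subsingleton.elim _ _, Subsingleton.elim _ _⟩
  obtain ⟨c, hc⟩ := hlead
  have hg₀ : (C (↑c⁻¹ : B ⧸ J) * g).Monic := by
    refine monic_C_mul_of_mul_leadingCoeff_eq_one ?_
    rw [← hc, Units.inv_mul]
  have hh₀ : (C (c : B ⧸ J) * h).Monic := by
    refine hg₀.of_mul_monic_left ?_
    rw [show C (↑c⁻¹ : B ⧸ J) * g * (C (c : B ⧸ J) * h) = (C (↑c⁻¹ : B ⧸ J) * C (c : B ⧸ J)) * (g * h) by ring,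
      ← map_mul, Units.inv_mul, map_one, one_mul, ← hgh]
    exact hf.map _
  have hu : ∀ x : (B ⧸ J)ˣ, IsUnit (C (x : B ⧸ J)) := fun x => x.isUnit.map C
  obtain ⟨g₁, h₁, -, -, -, he, hg₁, hh₁⟩ := Pair.exists_monic_factor_lift J hf hg₀ hh₀
    ((isCoprime_mul_unit_left_left (hu _) _ _).2 ((isCoprime_mul_unit_left_right (hu _) _ _).2 hcop)) (by
      rw [hgh, show C (↑c⁻¹ : B ⧸ J) * g * (C (c : B ⧸ J) * h) = (C (↑c⁻¹ : B ⧸ J) * C (c : B ⧸ J)) * (g * h) by ring,
        ← map_mul, Units.inv_mul, map_one, one_mul])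
  obtain ⟨c', hc'⟩ := Ideal.Quotient.mk_surjective (c : B ⧸ J)
  obtain ⟨u, hu'⟩ : IsUnit c' := Basic.isUnit_of_isUnit_mk HenselianRing.jac (hc' ▸ c.isUnit)
  refine ⟨C (u : B) * g₁, C (↑u⁻¹ : B) * h₁, ?_, ?_, ?_⟩
  · rw [show C (u : B) * g₁ * (C (↑u⁻¹ : B) * h₁) = (C (u : B) * C (↑u⁻¹ : B)) * (g₁ * h₁) by ring,
      ← map_mul, Units.mul_inv, map_one, one_mul]
    exact he
  · rw [Polynomial.map_mul, map_C, hg₁, hu', hc', ← mul_assoc, ← map_mul, Units.mul_inv, map_one, one_mul]
  · have : Ideal.Quotient.mk J (↑u⁻¹ : B) = (↑c⁻¹ : B ⧸ J) := by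
      refine (c.isUnit.mul_right_inj).1 ?_
      rw [Units.mul_inv, ← hc', ← map_mul, ← hu', Units.mul_inv, map_one]
    rw [Polynomial.map_mul, map_C, hh₁, this, ← mul_assoc, ← map_mul, Units.inv_mul, map_one, one_mul]

theorem lifts_of_range {R S : Type u} [CommRing R] [CommRing S] (φ : R →+* S) (p : S[X])
    (h : ∀ n ∈ p.support, p.coeff n ∈ Set.range φ) : ∃ q : R[X], q.map φ = p := by
  refine (mem_lifts p).1 ((lifts_iff_coeff_lifts p).2 fun n => ?_)
  by_cases hn : n ∈ p.support
  · exact h n hn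
  · exact ⟨0, by rw [map_zero, notMem_support_iff.1 hn]⟩


/-- Let A be a ring, I an ideal and f a monic polynomial over A. Suppose the image of f in (A/I)[x]
factors as g h where the leading coefficient of g is a unit and g, h generate the unit ideal. Then
there is an etale A-algebra A' such that A/I -> A'/IA' is bijective, together with a factorization f
= g' h' in A'[x] whose reduction modulo IA' is the image of the given one. -/
theorem result (A : Type u) [CommRing A] (I : Ideal A) (f : A[X]) (hf : f.Monic)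
    (g h : (A ⧸ I)[X]) (hgh : f.map (Ideal.Quotient.mk I) = g * h) (hlead : IsUnit g.leadingCoeff)
    (hcop : IsCoprime g h) :
    ∃ (A' : Type u) (_ : CommRing A') (_ : Algebra A A') (_ : Algebra.Etale A A'),
      Function.Bijective (Ideal.quotientMap (I.map (algebraMap A A')) (algebraMap A A') Ideal.le_comap_map) ∧
      ∃ g' h' : A'[X], f.map (algebraMap A A') = g' * h' ∧
        g'.map (Ideal.Quotient.mk (I.map (algebraMap A A'))) =
          g.map (Ideal.quotientMap (I.map (algebraMap A A')) (algebraMap A A') Ideal.le_comap_map) ∧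
        h'.map (Ideal.Quotient.mk (I.map (algebraMap A A'))) =
          h.map (Ideal.quotientMap (I.map (algebraMap A A')) (algebraMap A A') Ideal.le_comap_map) := by
  classical
  let B := PairHenselization.PairHenselization I
  have hB : Hens2.IsPairHenselization A I B := PairHenselization.isPairHenselization I
  let J := I.map (algebraMap A B)
  have := hB.1
  let j : A ⧸ I →+* B ⧸ J := Ideal.quotientMap J (algebraMap A B) Ideal.le_comap_map
  have hj : Function.Bijective j := PairUP.quotientMap_bijective hB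
  obtain ⟨g₂, h₂, he, hg₂, hh₂⟩ := exists_lift J (hf.map (algebraMap A B)) (g := g.map j) (h := h.map j)
    (by rw [← Polynomial.map_mul, ← hgh, Polynomial.map_map, Polynomial.map_map]; rfl)
    (by rw [leadingCoeff_map_of_injective hj.1]; exact hlead.map j) (hcop.map (mapRingHom j))
  obtain ⟨A', _, _, _, hA', φ, hφ⟩ := PairHenselization.exists_isNbhd_range hB
    (g₂.support.image g₂.coeff ∪ h₂.support.image h₂.coeff)
  obtain ⟨g₁, hg₁⟩ := lifts_of_range φ.toRingHom g₂ fun n hn =>
    hφ (Finset.mem_coe.2 (Finset.mem_union_left _ (Finset.mem_image_of_mem _ hn)))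
  obtain ⟨h₁, hh₁⟩ := lifts_of_range φ.toRingHom h₂ fun n hn =>
    hφ (Finset.mem_coe.2 (Finset.mem_union_right _ (Finset.mem_image_of_mem _ hn)))
  let d := f.map (algebraMap A A') - g₁ * h₁
  have hd : d.map φ.toRingHom = 0 := by
    rw [Polynomial.map_sub, Polynomial.map_mul, hg₁, hh₁, Polynomial.map_map,
      show φ.toRingHom.comp (algebraMap A A') = algebraMap A B from φ.comp_algebraMap, he, sub_self]
  obtain ⟨A'', _, _, hA'', hn, ρ, hρ⟩ := PairHenselization.exists_isNbhd_kill hB φ (d.support.image d.coeff)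
    (by
      intro s hs
      obtain ⟨n, -, rfl⟩ := Finset.mem_image.1 hs
      show φ.toRingHom (d.coeff n) = 0
      rw [← coeff_map, hd, coeff_zero])
  obtain ⟨ψ⟩ := (PairHenselization.nonempty_unique_algHom hB hn).map fun hu => hu.default
  have hψρ : ψ.comp ρ = φ := PairHenselization.subsingleton_algHom hB hA' _ _
  let I'' := I.map (algebraMap A A'')
  let π : A'' ⧸ I'' →+* B ⧸ J := Ideal.quotientMap J ψ.toRingHom (by
    refine Ideal.map_le_iff_le_comap.2 fun a ha => ?_
    show ψ (algebraMap A A'' a) ∈ J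
    rw [AlgHom.commutes]; exact Ideal.mem_map_of_mem _ ha)
  let i : A ⧸ I →+* A'' ⧸ I'' := Ideal.quotientMap I'' (algebraMap A A'') Ideal.le_comap_map
  have hπi : π.comp i = j := Ideal.Quotient.ringHom_ext (RingHom.ext fun a =>
    congrArg (Ideal.Quotient.mk J) (ψ.commutes a))
  have hπ : Function.Injective π := by
    intro x y hxy
    obtain ⟨a, rfl⟩ := hn.2 x
    obtain ⟨b, rfl⟩ := hn.2 y
    rw [show a = b from hj.1 (by rw [← hπi]; exact hxy)]
  refine ⟨A'', inferInstance, inferInstance, hA'', hn, g₁.map ρ.toRingHom, h₁.map ρ.toRingHom, ?_, ?_, ?_⟩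
  · rw [← Polynomial.map_mul, ← sub_eq_zero, ← show ρ.toRingHom.comp (algebraMap A A') = algebraMap A A'' from
      ρ.comp_algebraMap, ← Polynomial.map_map, ← Polynomial.map_sub]
    ext n
    rw [coeff_map, coeff_zero]
    by_cases h0 : n ∈ d.support
    · exact hρ _ (Finset.mem_image_of_mem _ h0)
    · rw [show (f.map (algebraMap A A') - g₁ * h₁).coeff n = 0 from notMem_support_iff.1 h0, map_zero]
  · refine Polynomial.map_injective π hπ ?_
    rw [Polynomial.map_map _ _ g, hπi, ← hg₂, ← hg₁, Polynomial.map_map, Polynomial.map_map, Polynomial.map_map]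
    exact congrArg (fun r => g₁.map r) (RingHom.ext fun a => congrArg (Ideal.Quotient.mk J) (AlgHom.congr_fun hψρ a))
  · refine Polynomial.map_injective π hπ ?_
    rw [Polynomial.map_map _ _ h, hπi, ← hh₂, ← hh₁, Polynomial.map_map, Polynomial.map_map, Polynomial.map_map]
    exact congrArg (fun r => h₁.map r) (RingHom.ext fun a => congrArg (Ideal.Quotient.mk J) (AlgHom.congr_fun hψρ a))

end Groth.Agent.S1957
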