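import Groth.Statements.S19570
import Groth.Agent.H46.LiftNbhd

set_option autoImplicit false
universe u
open scoped TensorProduct
open EGA4

namespace Groth.Agent.S19570

/-- Let V be a complete discrete valuation ring of characteristic zero, with maximal ideal 𝔪 and residue
field k, let A₀ be a smooth k-algebra and B₀ a finite étale A₀-algebra. Then A₀ lifts to a smooth
V-algebra A (an isomorphism k ⊗_V A ≅ A₀ of k-algebras), and the finite étale cover lifts over it:
there is a finite A-algebra B which is a normal ring, with an isomorphism k ⊗_V B ≅ B₀ compatible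
with the one for A and with the algebra maps, such that the localization A_T → B_T at T = 1 + 𝔪A is
étale. The published corollary also claims, for the lift it produces, a finite étale lift after
inverting a suitable element and further properties of formal completions of projective closures;
the statement here asserts only that B is finite over A and normal and that A_T → B_T is étale. -/
theorem result
    (V : Type u) [CommRing V] [IsDomain V] [IsDiscreteValuationRing V] [CharZero V]
    [IsAdicComplete (IsLocalRing.maximalIdeal V) V]
    (A₀ : Type u) [CommRing A₀] [Algebra (IsLocalRing.ResidueField V) A₀]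
    [Algebra.Smooth (IsLocalRing.ResidueField V) A₀]
    (B₀ : Type u) [CommRing B₀] [Algebra A₀ B₀] [Algebra (IsLocalRing.ResidueField V) B₀]
    [IsScalarTower (IsLocalRing.ResidueField V) A₀ B₀] [Module.Finite A₀ B₀] [Algebra.Etale A₀ B₀] :
    ∃ (A : Type u) (_ : CommRing A) (_ : Algebra V A) (_ : Algebra.Smooth V A)
      (e : (IsLocalRing.ResidueField V) ⊗[V] A ≃ₐ[IsLocalRing.ResidueField V] A₀)
      (B : Type u) (_ : CommRing B) (_ : Algebra A B) (_ : Algebra V B) (_ : IsScalarTower V A B)
      (e' : (IsLocalRing.ResidueField V) ⊗[V] B ≃ₐ[IsLocalRing.ResidueField V] B₀),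
      Module.Finite A B ∧ EGA4.IsNormalRing B ∧
      (∀ x : (IsLocalRing.ResidueField V) ⊗[V] A,
        e' (Algebra.TensorProduct.map (AlgHom.id (IsLocalRing.ResidueField V) (IsLocalRing.ResidueField V))
          (IsScalarTower.toAlgHom V A B) x) = algebraMap A₀ B₀ (e x)) ∧
      Algebra.Etale (Localization (MonoidHom.mker (Ideal.Quotient.mk ((IsLocalRing.maximalIdeal V).map (algebraMap V A)))))
        (Localization (Algebra.algebraMapSubmonoid B
          (MonoidHom.mker (Ideal.Quotient.mk ((IsLocalRing.maximalIdeal V).map (algebraMap V A)))))) := by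
  let k := IsLocalRing.ResidueField V
  obtain ⟨A, _, _, hA, f, B, _, _, g, hf, hfk, hfc, hg, hgk, hgc, hfin, hsm, hnor⟩ :=
    H46.LiftNbhd.exists_lifts (V := V) (K := k) (A₀ := A₀) (B₀ := B₀) IsLocalRing.residue_surjective
      (H46.LiftNbhd.isNormalRing_of_domain V)
  haveI := hA
  haveI := hfin
  haveI := hsm
  letI : Algebra V A₀ := ((algebraMap k A₀).comp (algebraMap V k)).toAlgebra
  haveI : IsScalarTower V k A₀ := IsScalarTower.of_algebraMap_eq' rfl
  letI : Algebra V B₀ := ((algebraMap k B₀).comp (algebraMap V k)).toAlgebra
  haveI : IsScalarTower V k B₀ := IsScalarTower.of_algebraMap_eq' rfl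
  letI : Algebra V B := ((algebraMap A B).comp (algebraMap V A)).toAlgebra
  haveI : IsScalarTower V A B := IsScalarTower.of_algebraMap_eq' rfl
  obtain ⟨e, he⟩ := H46.LiftNbhd.exists_equiv (R := V) (K := k) (T := A₀) IsLocalRing.residue_surjective f hfc hf hfk
  obtain ⟨e', he'⟩ := H46.LiftNbhd.exists_equiv (R := V) (K := k) (T := B₀) IsLocalRing.residue_surjective g
    (RingHom.ext fun v => by
      rw [RingHom.comp_apply, IsScalarTower.algebraMap_apply V A B, ← RingHom.comp_apply g, hgc,
        RingHom.comp_apply, ← RingHom.comp_apply f, hfc, RingHom.comp_apply,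
        ← IsScalarTower.algebraMap_apply k A₀ B₀, IsScalarTower.algebraMap_apply V k B₀])
    hg (by rw [hgk, hfk, Ideal.map_map]; rfl)
  refine ⟨A, inferInstance, inferInstance, inferInstance, e, B, inferInstance, inferInstance, inferInstance,
    inferInstance, e', hfin, hnor, fun x => ?_, ?_⟩
  · induction x using TensorProduct.induction_on with
    | zero => simp
    | add a b ha hb => simp only [map_add, ha, hb]
    | tmul c x =>
      rw [Algebra.TensorProduct.map_tmul, he', he, map_mul, ← IsScalarTower.algebraMap_apply k A₀ B₀,
        ← RingHom.comp_apply (algebraMap A₀ B₀) f, ← hgc]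
      rfl
  · obtain ⟨a, ha, hkill⟩ := H46.LiftNbhd.exists_kill f hf g hg hgk hgc
    refine H46.LiftNbhd.etale_localization _ a ?_ hkill
    rw [MonoidHom.mem_mker]
    show Ideal.Quotient.mk _ a = 1
    rw [← map_one (Ideal.Quotient.mk _), Ideal.Quotient.eq]
    rw [hfk] at ha
    rwa [show RingHom.ker (algebraMap V k) = IsLocalRing.maximalIdeal V from IsLocalRing.ker_residue] at ha

end Groth.Agent.S19570
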