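import Groth.Statements.S19571
import Mathlib.AlgebraicGeometry.Morphisms.UniversallyOpen

set_option autoImplicit false
universe u
open CategoryTheory AlgebraicGeometry
open EtaPt

namespace Groth.Agent.S19571

/-- Let f : Y → X be a morphism of schemes which is flat, surjective and locally of finite presentation.
Then every affine open U of X is covered by affine opens V each of which is the image f(W) of some
affine open W of Y; stated pointwise: for every x ∈ U there are an affine open V of X with x ∈ V ≤ U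
and an affine open W of Y with f(W) = V as sets. (For such V and W the induced ring map Γ(V) → Γ(W)
is then faithfully flat.) -/
theorem result
    {X Y : Scheme.{u}} (f : Y ⟶ X) [Flat f] [Surjective f] [LocallyOfFinitePresentation f]
    (U : X.affineOpens) (x : X) (hx : x ∈ (U : X.Opens)) :
    ∃ V : X.affineOpens, x ∈ (V : X.Opens) ∧ (V : X.Opens) ≤ (U : X.Opens) ∧
      ∃ W : Y.affineOpens, f.base '' ((W : Y.Opens) : Set Y) = ((V : X.Opens) : Set X) := by
  obtain ⟨y, rfl⟩ := f.surjective x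
  obtain ⟨W₀, hW₀, hyW, hWU⟩ := exists_isAffineOpen_mem_and_subset
    (x := y) (U := f ⁻¹ᵁ (U : X.Opens)) hx
  have hO : IsOpen (f '' (W₀ : Set Y)) := f.isOpenMap _ W₀.isOpen
  obtain ⟨h, hhO, hxh⟩ := U.2.exists_basicOpen_le
    (V := (⟨_, hO⟩ : X.Opens)) ⟨f y, ⟨y, hyW, rfl⟩⟩ hx
  refine ⟨X.affineBasicOpen h, hxh, X.basicOpen_le h, ⟨W₀ ⊓ f ⁻¹ᵁ X.basicOpen h, ?_⟩, ?_⟩
  · rw [Scheme.preimage_basicOpen, ← Y.basicOpen_res (f.app U h) (homOfLE hWU).op]
    exact hW₀.basicOpen _
  · ext z
    constructor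
    · rintro ⟨w, ⟨-, hw⟩, rfl⟩
      exact hw
    · intro hz
      obtain ⟨w, hw, rfl⟩ := hhO hz
      exact ⟨w, ⟨hw, hz⟩, rfl⟩

end Groth.Agent.S19571
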