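import Groth.Statements.S19573
import Mathlib.LinearAlgebra.ExteriorPower.Basic
import Mathlib.RingTheory.Spectrum.Prime.FreeLocus
import Mathlib.LinearAlgebra.Determinant
import Mathlib.LinearAlgebra.Dimension.Constructions
import Mathlib.LinearAlgebra.TensorProduct.Tower

set_option autoImplicit false
universe u
open LocInt

namespace Groth.Agent.S19573

/-- The first sentence of the lemma together with the description of the closed subscheme Z given in its
proof, in the local model. Let R be a commutative ring, n ≥ 1, a ∈ R^n, and F = R^n / R·a the
cokernel of R → R^n, 1 ↦ a (the zeroth homology of the two-term complex R → R^n). Then the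
annihilator ideal of the top exterior power ⋀^n F is the ideal generated by the coordinates a_1, …,
a_n of a, and at every prime p of R off the closed set V(a_1, …, a_n) the module F is free of rank n
− 1 after localization at p. (The published statement is for a complex on a scheme which is locally
quasi-isomorphic to such a two-term complex L → E with L invertible and E locally free of rank n,
and says that H^0 restricted to the complement of the closed subscheme cut out by the annihilator of
its n-th exterior power is locally free of rank n − 1; this row is the local model.) -/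
theorem result (R : Type u) [CommRing R]
    (n : ℕ) (hn : 1 ≤ n) (a : Fin n → R) :
    (⋀[R]^n ((Fin n → R) ⧸ Submodule.span R {a})).annihilator = Ideal.span (Set.range a) ∧
    ∀ p : PrimeSpectrum R, ¬ Ideal.span (Set.range a) ≤ p.asIdeal →
      p ∈ Module.freeLocus R ((Fin n → R) ⧸ Submodule.span R {a}) ∧
      Module.rankAtStalk ((Fin n → R) ⧸ Submodule.span R {a}) p = n - 1 := by
  classical
  let I := Ideal.span (Set.range a)
  let F := (Fin n → R) ⧸ Submodule.span R {a}
  let π : (Fin n → R) →ₗ[R] F := (Submodule.span R {a}).mkQ
  let e : Fin n → F := fun j => π (Pi.single j 1)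
  let w : ⋀[R]^n F := exteriorPower.ιMulti R n e
  refine ⟨le_antisymm (fun r hr => ?_) ?_, fun p hp => ?_⟩
  · let q : (Fin n → R) →ₗ[R] (Fin n → R ⧸ I) := LinearMap.pi fun j =>
      (Ideal.Quotient.mkₐ R I).toLinearMap.comp (LinearMap.proj j)
    have hq : Submodule.span R {a} ≤ LinearMap.ker q := by
      rw [Submodule.span_le, Set.singleton_subset_iff, SetLike.mem_coe, LinearMap.mem_ker]
      funext j
      exact Ideal.Quotient.eq_zero_iff_mem.mpr (Ideal.subset_span ⟨j, rfl⟩)
    let D : F [⋀^Fin n]→ₗ[R] (R ⧸ I) :=
      { toMultilinearMap := ((Matrix.detRowAlternating (n := Fin n) (R := R ⧸ I)).toMultilinearMap.restrictScalars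
          R).compLinearMap fun _ => (Submodule.span R {a}).liftQ q hq
        map_eq_zero_of_eq' := fun v k l h hkl => Matrix.detRowAlternating.map_eq_zero_of_eq _ (by
          simp only [h]) hkl }
    have hD : D e = 1 := by
      change Matrix.det (Matrix.of fun k => q (Pi.single k 1)) = 1
      have : (Matrix.of fun k => q (Pi.single k 1)) = (1 : Matrix (Fin n) (Fin n) (R ⧸ I)) := by
        ext k j
        by_cases h : k = j
        · subst h; simp [q]
        · simp [q, Matrix.one_apply_ne h, Pi.single_eq_of_ne (Ne.symm h)]
      rw [this, Matrix.det_one]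
    have h0 := congrArg (exteriorPower.alternatingMapLinearEquiv D) (Module.mem_annihilator.mp hr w)
    rw [map_smul, map_zero, exteriorPower.alternatingMapLinearEquiv_apply_ιMulti, hD] at h0
    exact Ideal.Quotient.eq_zero_iff_mem.mp
      (by rw [← h0, Algebra.smul_def, mul_one, Ideal.Quotient.algebraMap_eq])
  · rw [Ideal.span_le]
    rintro _ ⟨i, rfl⟩
    rw [SetLike.mem_coe, Module.mem_annihilator]
    have hw : a i • w = 0 := by
      have h1 : a i • w = exteriorPower.ιMulti R n (Function.update e i (a i • e i)) := by
        rw [AlternatingMap.map_update_smul, Function.update_eq_self]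
      have h2 : a i • e i = -∑ j ∈ Finset.univ.erase i, a j • e j := by
        have : ∑ j, a j • e j = 0 := by
          simp only [e, ← map_smul, ← map_sum]
          have : ∑ j, a j • (Pi.single j 1 : Fin n → R) = a := by
            simp [← Pi.single_smul, Finset.univ_sum_single]
          rw [this]
          exact (Submodule.Quotient.mk_eq_zero _).mpr (Submodule.mem_span_singleton_self a)
        rw [← Finset.add_sum_erase _ _ (Finset.mem_univ i)] at this
        exact eq_neg_of_add_eq_zero_left this
      rw [h1, h2, ← Finset.sum_neg_distrib, AlternatingMap.map_update_sum]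
      refine Finset.sum_eq_zero fun j hj => ?_
      rw [← neg_smul, AlternatingMap.map_update_smul]
      rw [AlternatingMap.map_update_self _ _ (Finset.ne_of_mem_erase hj).symm, smul_zero]
    intro z
    have hmap : Function.Surjective (exteriorPower.map n π) :=
      exteriorPower.map_surjective (Submodule.mkQ_surjective _)
    obtain ⟨z, rfl⟩ := hmap z
    have hz : z ∈ Submodule.span R (Set.range (exteriorPower.ιMulti R n (M := Fin n → R))) := by
      rw [exteriorPower.ιMulti_span]; exact Submodule.mem_top
    refine Submodule.span_induction ?_ (by simp) (fun x y _ _ hx hy => by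
      rw [map_add, smul_add, hx, hy, add_zero]) (fun c x _ hx => by
      rw [map_smul, smul_comm, hx, smul_zero]) hz
    rintro _ ⟨v, rfl⟩
    rw [exteriorPower.map_apply_ιMulti]
    have hzero : a i • (exteriorPower.ιMulti R n (M := F)).compLinearMap π = 0 := by
      refine Module.Basis.ext_alternating (Pi.basisFun R (Fin n)) fun u hu => ?_
      let σ : Equiv.Perm (Fin n) := Equiv.ofBijective u (Finite.injective_iff_bijective.mp hu)
      rw [AlternatingMap.smul_apply, AlternatingMap.compLinearMap_apply, AlternatingMap.zero_apply]
      have : (fun j => π (Pi.basisFun R (Fin n) (u j))) = e ∘ σ := by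
        funext j
        simp [e, σ]
      rw [this, AlternatingMap.map_perm, smul_comm, hw, smul_zero]
    exact DFunLike.congr_fun hzero v
  · obtain ⟨i, hi⟩ : ∃ i, a i ∉ p.asIdeal := by
      by_contra! hc
      exact hp (Ideal.span_le.mpr (Set.range_subset_iff.mpr hc))
    let Φ₀ : (Fin n → R) →ₗ[R] ({j // j ≠ i} → R) := LinearMap.pi fun j =>
      a i • LinearMap.proj j.1 - a j.1 • LinearMap.proj i
    let Φ : F →ₗ[R] ({j // j ≠ i} → R) := (Submodule.span R {a}).liftQ Φ₀ (by
      rw [Submodule.span_le, Set.singleton_subset_iff, SetLike.mem_coe, LinearMap.mem_ker]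
      funext j
      simp [Φ₀, mul_comm])
    let G : ({j // j ≠ i} → R) →ₗ[R] F := π.comp (LinearMap.pi fun j =>
      if h : j = i then 0 else LinearMap.proj ⟨j, h⟩)
    have h1 : Φ.comp G = a i • LinearMap.id := by
      refine LinearMap.ext fun x => funext fun j => ?_
      change Φ₀ ((LinearMap.pi fun j => if h : j = i then (0 : ({j // j ≠ i} → R) →ₗ[R] R) else LinearMap.proj ⟨j, h⟩) x) j = a i * x j
      simp [Φ₀, j.2]
    have h2 : G.comp Φ = a i • LinearMap.id := by
      refine Submodule.linearMap_qext _ (LinearMap.ext fun x => ?_)
      simp only [LinearMap.comp_apply, LinearMap.smul_apply, LinearMap.id_apply]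
      change π ((LinearMap.pi fun j => if h : j = i then (0 : ({j // j ≠ i} → R) →ₗ[R] R) else LinearMap.proj ⟨j, h⟩) (Φ₀ x)) =
        a i • π x
      rw [← map_smul]
      refine (Submodule.Quotient.eq _).mpr ?_
      rw [Submodule.mem_span_singleton]
      refine ⟨-(x i), funext fun j => ?_⟩
      by_cases h : j = i
      · subst h; simp [mul_comm]
      · simp [Φ₀, h]; ring
    haveI : Nontrivial R := p.nontrivial
    let Rp := Localization.AtPrime p.asIdeal
    have hu : IsUnit (algebraMap R Rp (a i)) :=
      IsLocalization.map_units Rp (⟨a i, hi⟩ : p.asIdeal.primeCompl)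
    have key : ∀ (M : Type _) [AddCommGroup M] [Module R M] (f : M →ₗ[R] M), f = a i • LinearMap.id →
        Function.Bijective (f.baseChange Rp) := by
      intro M _ _ f hf
      have : f.baseChange Rp = algebraMap R Rp (a i) • LinearMap.id := by
        rw [hf, LinearMap.baseChange_smul, LinearMap.baseChange_id]
        exact (IsScalarTower.algebraMap_smul Rp (a i) _).symm
      rw [this]
      exact (LinearEquiv.smulOfUnit (M := TensorProduct R Rp M) hu.unit).bijective
    have hbij : Function.Bijective (Φ.baseChange Rp) := by
      constructor
      · refine Function.Injective.of_comp (f := G.baseChange Rp) ?_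
        rw [← LinearMap.coe_comp, ← LinearMap.baseChange_comp]
        exact (key _ _ h2).1
      · refine Function.Surjective.of_comp (g := G.baseChange Rp) ?_
        rw [← LinearMap.coe_comp, ← LinearMap.baseChange_comp]
        exact (key _ _ h1).2
    let E := LinearEquiv.ofBijective _ hbij
    refine ⟨(Module.mem_freeLocus_iff_tensor p Rp).mpr (Module.Free.of_equiv E.symm), ?_⟩
    rw [Module.rankAtStalk_eq_finrank_tensorProduct, E.finrank_eq, Module.finrank_baseChange,
      Module.finrank_pi, Fintype.card_subtype_compl]
    simp

end Groth.Agent.S19573
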