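import Groth.Statements.S19574
import Mathlib.RingTheory.Flat.Tensor
import Mathlib.LinearAlgebra.TensorProduct.Quotient
import Mathlib.LinearAlgebra.TensorProduct.RightExactness
import Mathlib.Algebra.Homology.ShortComplex.ModuleCat

set_option autoImplicit false
universe u
open CategoryTheory MonoidalCategory
open Lie3Mod

namespace Groth.Agent.S19574
open TensorProduct in
theorem flat_of_exact {R : Type u} [CommRing R] {P₃ P₂ P M : Type u} [AddCommGroup P₃] [Module R P₃]
    [AddCommGroup P₂] [Module R P₂] [AddCommGroup P] [Module R P] [AddCommGroup M] [Module R M]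
    [Module.Flat R P] (h : P₃ →ₗ[R] P₂) (f : P₂ →ₗ[R] P) (g : P →ₗ[R] M) (hfh : f.comp h = 0)
    (hg : Function.Surjective g) (hfg : Function.Exact f g)
    (hQ : ∀ I : Ideal R, ∀ z, f.lTensor (R ⧸ I) z = 0 → ∃ w, h.lTensor (R ⧸ I) w = z) :
    Module.Flat R M := by
  refine Module.Flat.iff_rTensor_injective'.mpr fun I ↦ (injective_iff_map_eq_zero _).mpr fun t ht ↦ ?_
  obtain ⟨s, rfl⟩ := LinearMap.lTensor_surjective I hg t
  let μ : ↥I ⊗[R] P →ₗ[R] P := (TensorProduct.lid R P).toLinearMap.comp (I.subtype.rTensor P)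
  have hμ : Function.Injective μ := (TensorProduct.lid R P).injective.comp
    (Module.Flat.rTensor_preserves_injective_linearMap _ I.injective_subtype)
  have hmem : ∀ y : ↥I ⊗[R] P, μ y ∈ I • (⊤ : Submodule R P) := fun y ↦ by
    induction y using TensorProduct.induction_on with
    | zero => simp
    | tmul a p => simpa [μ] using Submodule.smul_mem_smul a.2 (Submodule.mem_top (x := p))
    | add a b ha hb => rw [map_add]; exact add_mem ha hb
  have hgμ : g (μ s) = 0 := by
    have h1 := congrArg (TensorProduct.lid R M) ht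
    rw [map_zero] at h1
    rw [← h1]
    clear h1 ht
    induction s using TensorProduct.induction_on with
    | zero => simp
    | tmul a p => simp [μ]
    | add a b ha hb => simp only [map_add, ha, hb]
  obtain ⟨x, hx⟩ := (hfg (μ s)).mp hgμ
  have hxq : f.lTensor (R ⧸ I) (Ideal.Quotient.mk I 1 ⊗ₜ[R] x) = 0 := by
    rw [LinearMap.lTensor_tmul, hx]
    refine (TensorProduct.quotTensorEquivQuotSMul P I).injective ?_
    rw [TensorProduct.quotTensorEquivQuotSMul_mk_tmul, map_zero, one_smul, Submodule.Quotient.mk_eq_zero]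
    exact hmem s
  obtain ⟨w, hw⟩ := hQ I _ hxq
  obtain ⟨w₀, rfl⟩ : ∃ w₀, Ideal.Quotient.mk I 1 ⊗ₜ[R] w₀ = w := by
    clear hw
    induction w using TensorProduct.induction_on with
    | zero => exact ⟨0, TensorProduct.tmul_zero _ _⟩
    | tmul q p =>
      obtain ⟨r, rfl⟩ := Ideal.Quotient.mk_surjective q
      exact ⟨r • p, by rw [← TensorProduct.smul_tmul, map_one, Algebra.smul_def, mul_one]; rfl⟩
    | add a b ha hb =>
      obtain ⟨a, rfl⟩ := ha
      obtain ⟨b, rfl⟩ := hb
      exact ⟨a + b, TensorProduct.tmul_add _ _ _⟩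
  rw [LinearMap.lTensor_tmul] at hw
  have h2 := congrArg (TensorProduct.quotTensorEquivQuotSMul P₂ I) hw
  rw [TensorProduct.quotTensorEquivQuotSMul_mk_tmul, TensorProduct.quotTensorEquivQuotSMul_mk_tmul,
    one_smul, one_smul, Submodule.Quotient.eq] at h2
  obtain ⟨y, hy⟩ : ∃ y : ↥I ⊗[R] P₂, (TensorProduct.lid R P₂) (I.subtype.rTensor P₂ y) = x - h w₀ := by
    have h3 : x - h w₀ ∈ I • (⊤ : Submodule R P₂) := neg_sub (h w₀) x ▸ neg_mem h2
    refine Submodule.smul_induction_on h3 (fun r hr p _ ↦ ⟨⟨r, hr⟩ ⊗ₜ p, by simp⟩) ?_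
    rintro a b ⟨u, hu⟩ ⟨v, hv⟩
    exact ⟨u + v, by rw [map_add, map_add, hu, hv]⟩
  have h4 : μ (f.lTensor I y) = μ s := by
    have h5 : μ (f.lTensor I y) = f ((TensorProduct.lid R P₂) (I.subtype.rTensor P₂ y)) := by
      clear hy
      induction y using TensorProduct.induction_on with
      | zero => simp
      | tmul a p => simp [μ]
      | add a b ha hb => simp only [map_add, ha, hb]
    rw [h5, hy, map_sub, hx, ← LinearMap.comp_apply, hfh, LinearMap.zero_apply, sub_zero]
  rw [← hμ h4, ← LinearMap.comp_apply, ← LinearMap.lTensor_comp,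
    show g.comp f = 0 from LinearMap.ext fun z ↦ hfg.apply_apply_eq_zero z, LinearMap.lTensor_zero,
    LinearMap.zero_apply]


/-- Let R be a commutative ring and d ≥ 1. Let K be a chain complex of R-modules concentrated in degrees
0, …, d + 1, written … → 0 → P_{d+1} → P_d → … → P_1 → M with M = K_0, which is exact (so 0 →
P_{d+1} → … → P_1 → M → 0 is an exact sequence), such that P_1, …, P_d are flat R-modules and such
that for every ideal I of R the complex obtained by applying (R/I) ⊗_R − termwise is again exact.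
Then M is a flat R-module. (No flatness is assumed for P_{d+1}. The published lemma adds that for R
Noetherian it suffices to test prime ideals I; that refinement is not part of this statement.) -/
theorem result (R : Type u) [CommRing R]
    (d : ℕ) (hd : 1 ≤ d) (K : ChainComplex (ModuleCat.{u} R) ℕ)
    (hzero : ∀ i : ℕ, d + 1 < i → Limits.IsZero (K.X i))
    (hflat : ∀ i : ℕ, 1 ≤ i → i ≤ d → Module.Flat R (K.X i))
    (hK : K.Acyclic)
    (hbc : ∀ I : Ideal R,
      (((tensorLeft (ModuleCat.of R (R ⧸ I))).mapHomologicalComplex (ComplexShape.down ℕ)).obj K).Acyclic) :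
    Module.Flat R (K.X 0) := by
  have := hflat 1 le_rfl hd
  have e0 : (ComplexShape.down ℕ).next 0 = 0 := ChainComplex.next_nat_zero
  have h0 := (ShortComplex.moduleCat_exact_iff _).mp
    ((K.exactAt_iff' 1 0 0 (ChainComplex.prev ℕ 0) e0).mp (hK 0))
  have h1 := (ShortComplex.moduleCat_exact_iff _).mp
    ((K.exactAt_iff' 2 1 0 (ChainComplex.prev ℕ 1) (ChainComplex.next_nat_succ 0)).mp (hK 1))
  refine flat_of_exact (K.d 3 2).hom (K.d 2 1).hom (K.d 1 0).hom ?_ (fun y ↦ ?_) (fun y ↦ ⟨fun hy ↦ h1 y hy, ?_⟩)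
    (fun I z hz ↦ ?_)
  · rw [← ModuleCat.hom_comp, K.d_comp_d]; rfl
  · exact h0 y (by rw [show (K.sc' 1 0 0).g = 0 from K.shape 0 0 (by simp)]; rfl)
  · rintro ⟨x, rfl⟩
    exact LinearMap.congr_fun (congrArg ModuleCat.Hom.hom (K.d_comp_d 2 1 0)) x
  · exact (ShortComplex.moduleCat_exact_iff _).mp
      (((((tensorLeft (ModuleCat.of R (R ⧸ I))).mapHomologicalComplex (ComplexShape.down ℕ)).obj K).exactAt_iff'
        3 2 1 (ChainComplex.prev ℕ 2) (ChainComplex.next_nat_succ 1)).mp (hbc I 2)) z hz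

end Groth.Agent.S19574
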