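import Groth.Statements.S19575
import Groth.Agent.Lib.EtaPt.Loc
import Groth.Agent.S13829

set_option autoImplicit false
universe u
open EtaPt

namespace Groth.Agent.S19575

open Groth.Agent.Lib.EtaPt.Basic Groth.Agent.Lib.EtaPt.Main Groth.Agent.Lib.EtaPt.Rel Groth.Agent.Lib.EtaPt.Loc

/-- Let η be the field-endofunctor datum of the pointwise construction, A a commutative ring with
finitely many minimal prime ideals and φ : A → B a ring map inducing a surjection on prime spectra.
If the canonical map A → (B/A)_η (the corestriction of φ onto the subring of B of elements whose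
image in ∏_q F(k(q)) comes from M_η(A)) is bijective, then for every f ∈ A the canonical map A_f →
(B_f/A_f)_η attached to the localized map A_f → B_{φ(f)} is bijective as well. -/
theorem result (η : EtaPt.FieldEndo.{u}) {A B : Type u} [CommRing A] [CommRing B]
    (hA : (minimalPrimes A).Finite) (φ : A →+* B) (hs : Function.Surjective (PrimeSpectrum.comap φ))
    (h : Function.Bijective (η.qRel φ)) (f : A) :
    Function.Bijective (η.qRel (Localization.awayMap φ f)) := by
  obtain ⟨h1, h2⟩ := (qRel_bijective_iff η φ).mp h
  let β := algebraMap B (Localization.Away (φ f))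
  let α := algebraMap A (Localization.Away f)
  have hsq : (Localization.awayMap φ f).comp α = β.comp φ :=
    RingHom.ext fun a => by simp [α, β, Localization.awayMap, IsLocalization.Away.map]
  refine (qRel_bijective_iff η _).mpr ⟨?_, fun y hy => ?_⟩
  · refine (injective_iff_map_eq_zero _).mpr fun z hz => ?_
    obtain ⟨n, a, ha⟩ := IsLocalization.Away.surj f z
    have h0 : β (φ a) = 0 := by
      rw [← RingHom.comp_apply, ← hsq, RingHom.comp_apply, ← ha, map_mul, hz, zero_mul]
    obtain ⟨⟨_, k, rfl⟩, hk⟩ := (IsLocalization.map_eq_zero_iff (Submonoid.powers (φ f)) _ _).mp h0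
    have hka : f ^ k * a = 0 := h1 (by rw [map_mul, map_pow, map_zero]; exact hk)
    have h3 : α a = 0 :=
      (IsLocalization.map_eq_zero_iff (Submonoid.powers f) _ _).mpr ⟨⟨_, k, rfl⟩, hka⟩
    exact (((IsLocalization.Away.algebraMap_isUnit f).pow n).mul_left_eq_zero).mp (ha.trans h3)
  · obtain ⟨x, hx, n, hn⟩ := (Groth.Agent.S13829.result η hA φ hs f).2 y hy
    obtain ⟨a, rfl⟩ := h2 x hx
    refine ⟨α a * IsLocalization.Away.invSelf f ^ n,
      ((IsLocalization.Away.algebraMap_isUnit (φ f)).pow n).mul_left_injective ?_⟩
    change Localization.awayMap φ f _ * β (φ f) ^ n = y * β (φ f) ^ n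
    have h1' : IsLocalization.Away.invSelf f * α f = 1 := by
      rw [mul_comm]; exact IsLocalization.Away.mul_invSelf f
    rw [hn, ← RingHom.comp_apply β φ f, ← hsq, RingHom.comp_apply, ← map_pow, ← map_mul, mul_assoc,
      ← mul_pow, h1', one_pow, mul_one, ← RingHom.comp_apply, hsq]
    rfl

end Groth.Agent.S19575
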