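import Groth.Statements.S19576
import Groth.Agent.Lib.EtaPt.Loc

set_option autoImplicit false
universe u
open EtaPt

namespace Groth.Agent.S19576

open Groth.Agent.Lib.EtaPt.Basic Groth.Agent.Lib.EtaPt.Main Groth.Agent.Lib.EtaPt.Rel Groth.Agent.Lib.EtaPt.Loc

/-- Let η be the field-endofunctor datum of the pointwise construction, A a commutative ring with
finitely many minimal prime ideals and φ : A → B a ring map inducing a surjection on prime spectra.
If finitely many elements f_1, …, f_n of A generate the unit ideal and, for each i, the canonical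
map A_{f_i} → (B_{f_i}/A_{f_i})_η attached to the localized map A_{f_i} → B_{φ(f_i)} is bijective,
then the canonical map A → (B/A)_η is bijective. -/
theorem result (η : EtaPt.FieldEndo.{u}) {A B : Type u} [CommRing A] [CommRing B]
    (hA : (minimalPrimes A).Finite) (φ : A →+* B) (hs : Function.Surjective (PrimeSpectrum.comap φ))
    (s : Finset A) (hspan : Ideal.span (s : Set A) = ⊤)
    (h : ∀ f ∈ s, Function.Bijective (η.qRel (Localization.awayMap φ f))) :
    Function.Bijective (η.qRel φ) := by
  have hloc : ∀ f ∈ s, ∀ b ∈ η.rel φ, ∃ (k : ℕ) (a : A), φ a = φ f ^ k * b := by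
    intro f hf b hb
    let β := algebraMap B (Localization.Away (φ f))
    let α := algebraMap A (Localization.Away f)
    have hsq : (Localization.awayMap φ f).comp α = β.comp φ :=
      RingHom.ext fun a => by simp [α, β, Localization.awayMap, IsLocalization.Away.map]
    obtain ⟨z, hz⟩ := ((qRel_bijective_iff η _).mp (h f hf)).2 _
      (map_mem_rel_of_square η α β hsq.symm hb)
    obtain ⟨n, a, ha⟩ := IsLocalization.Away.surj f z
    have h0 : β (φ a) = β (φ f ^ n * b) := by
      rw [← RingHom.comp_apply, ← hsq, RingHom.comp_apply, ← ha, map_mul, hz, map_pow,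
        ← RingHom.comp_apply _ α, hsq, map_mul, map_pow, mul_comm]
      rfl
    obtain ⟨⟨_, k, rfl⟩, hk⟩ := (IsLocalization.eq_iff_exists (Submonoid.powers (φ f)) _).mp h0
    refine ⟨k + n, f ^ k * a, ?_⟩
    rw [map_mul, map_pow, pow_add, mul_assoc]
    exact hk
  have htop : ∀ J : Ideal A, (∀ f ∈ s, ∃ k : ℕ, f ^ k ∈ J) → J = ⊤ := fun J hJ => by
    rw [← Ideal.radical_eq_top, eq_top_iff, ← hspan, Ideal.span_le]
    exact fun f hf => hJ f hf
  refine (qRel_bijective_iff η φ).mpr ⟨(injective_iff_map_eq_zero φ).mpr fun a ha => ?_, fun b hb => ?_⟩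
  · have hJ := htop ((⊥ : Submodule A A).colon {a}) fun f hf => by
      let β := algebraMap B (Localization.Away (φ f))
      let α := algebraMap A (Localization.Away f)
      have h0 : α a = 0 := by
        refine ((qRel_bijective_iff η _).mp (h f hf)).1 ?_
        rw [map_zero, show Localization.awayMap φ f (α a) = β (φ a) by
          simp [α, β, Localization.awayMap, IsLocalization.Away.map], ha, map_zero]
      obtain ⟨⟨_, k, rfl⟩, hk⟩ := (IsLocalization.map_eq_zero_iff (Submonoid.powers f) _ _).mp h0
      exact ⟨k, Submodule.mem_colon_singleton.mpr hk⟩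
    have := Submodule.mem_colon_singleton.mp ((Ideal.eq_top_iff_one _).mp hJ)
    simpa using this
  · let J : Ideal A :=
      { carrier := {c | ∃ a, φ a = φ c * b}
        add_mem' := fun {c d} ⟨a, ha⟩ ⟨a', ha'⟩ => ⟨a + a', by simp [ha, ha', add_mul]⟩
        zero_mem' := ⟨0, by simp⟩
        smul_mem' := fun r c ⟨a, ha⟩ => ⟨r * a, by simp [ha, mul_assoc]⟩ }
    obtain ⟨a, ha⟩ : (1 : A) ∈ J := (htop J fun f hf => by
      obtain ⟨k, a, ha⟩ := hloc f hf b hb
      exact ⟨k, a, by rw [map_pow]; exact ha⟩) ▸ Submodule.mem_top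
    exact ⟨a, by rw [ha, map_one, one_mul]⟩

end Groth.Agent.S19576
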