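import Groth.Statements.S19577
import Groth.Agent.Lib.EtaPt.Loc

set_option autoImplicit false
universe u
open EtaPt

namespace Groth.Agent.S19577

open Groth.Agent.Lib.EtaPt.Basic Groth.Agent.Lib.EtaPt.Main Groth.Agent.Lib.EtaPt.Rel Groth.Agent.Lib.EtaPt.Loc

/-- Let f : A → B be a homomorphism of commutative rings, each with only finitely many minimal primes.
Then M_η(f) : M_η(A) → M_η(B) is integral exactly when f is integral, and Spec M_η(f) is surjective
exactly when Spec f is. Here η is the field-endofunctor datum of the pointwise construction, M_η(A)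
⊆ ∏_p F(k(p)) the subring attached to A with q_A : A → M_η(A), and M_η(f) : M_η(A) → M_η(B) the ring
map induced by N_η(f), pinned here as the ring map g compatible with N_η(f) under the two subring
inclusions. -/
theorem result (η : EtaPt.FieldEndo.{u}) {A B : Type u} [CommRing A] [CommRing B]
    (hA : (minimalPrimes A).Finite) (hB : (minimalPrimes B).Finite) (f : A →+* B)
    (g : η.M A →+* η.M B) (hg : ∀ x : η.M A, ((g x : η.M B) : η.N B) = η.Nmap f (x : η.N A)) :
    (f.IsIntegral ↔ g.IsIntegral) ∧
      (Function.Surjective (PrimeSpectrum.comap f) ↔ Function.Surjective (PrimeSpectrum.comap g)) := by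
  have hsq : g.comp (η.q A) = (η.q B).comp f :=
    RingHom.ext fun a => Subtype.ext ((hg _).trans (Nmap_eq_t η f a))
  have hqA := isIntegral_q η A hA
  have hqB := isIntegral_q η B hB
  refine ⟨⟨fun hf => ?_, fun hg' => ?_⟩, ?_⟩
  · exact RingHom.IsIntegral.tower_top (η.q A) g (hsq ▸ hf.trans f (η.q B) hqB)
  · intro b
    obtain ⟨P, hP, hP0⟩ := (hsq ▸ hqA.trans (η.q A) g hg' : ((η.q B).comp f).IsIntegral) (η.q B b)
    rw [← Polynomial.hom_eval₂] at hP0
    obtain ⟨n, hn⟩ := (t_eq_zero_iff η (P.eval₂ f b)).mp (congrArg Subtype.val hP0)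
    exact ⟨P ^ n, hP.pow n, by rw [Polynomial.eval₂_pow, hn]⟩
  · have e : PrimeSpectrum.comap f ∘ PrimeSpectrum.comap (η.q B) =
        PrimeSpectrum.comap (η.q A) ∘ PrimeSpectrum.comap g := funext fun Q =>
      (PrimeSpectrum.comap_comp_apply f (η.q B) Q).symm.trans
        (hsq ▸ PrimeSpectrum.comap_comp_apply (η.q A) g Q)
    rw [← Function.Surjective.of_comp_iff _ ((comap_q_bijective η B hB).2), e,
      Function.Surjective.of_comp_iff' (comap_q_bijective η A hA)]

end Groth.Agent.S19577
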