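import Groth.Statements.S19578
import Groth.Agent.Lib.EtaPt.Loc

set_option autoImplicit false
universe u
open EtaPt

namespace Groth.Agent.S19578

open Groth.Agent.Lib.EtaPt.Basic Groth.Agent.Lib.EtaPt.Main Groth.Agent.Lib.EtaPt.Rel Groth.Agent.Lib.EtaPt.Loc

/-- Let f : A → B be a homomorphism of commutative rings, each with only finitely many minimal primes,
and suppose the induced map M_η(f) : M_η(A) → M_η(B) is an isomorphism. Then Spec f is a bijection
between the prime ideals of B and of A, and for every prime q of B, with p = f⁻¹(q), there is a ring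
map φ : k(q) → F(k(p)) whose composite with the residue field map k(p) → k(q) equals η_{k(p)}. Here
η is the field-endofunctor datum of the pointwise construction, M_η(A) ⊆ ∏_p F(k(p)) the subring
attached to A with q_A : A → M_η(A), and M_η(f) : M_η(A) → M_η(B) the ring map induced by N_η(f),
pinned here as the ring map g compatible with N_η(f) under the two subring inclusions. -/
theorem result (η : EtaPt.FieldEndo.{u}) {A B : Type u} [CommRing A] [CommRing B]
    (hA : (minimalPrimes A).Finite) (hB : (minimalPrimes B).Finite) (f : A →+* B)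
    (g : η.M A →+* η.M B) (hg : ∀ x : η.M A, ((g x : η.M B) : η.N B) = η.Nmap f (x : η.N A))
    (hbij : Function.Bijective g) :
    Function.Bijective (PrimeSpectrum.comap f) ∧
      ∀ Q : PrimeSpectrum B,
        ∃ φ : Q.asIdeal.ResidueField →+* η.obj (PrimeSpectrum.comap f Q).asIdeal.ResidueField,
          φ.comp (Ideal.ResidueField.map (PrimeSpectrum.comap f Q).asIdeal Q.asIdeal f rfl) =
            η.eta (PrimeSpectrum.comap f Q).asIdeal.ResidueField := by
  have hsq : g.comp (η.q A) = (η.q B).comp f :=
    RingHom.ext fun a => Subtype.ext ((hg _).trans (Nmap_eq_t η f a))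
  let e := RingEquiv.ofBijective g hbij
  have h1 : PrimeSpectrum.comap f ∘ PrimeSpectrum.comap (η.q B) =
      PrimeSpectrum.comap (η.q A) ∘ PrimeSpectrum.comap g := funext fun Q =>
    (PrimeSpectrum.comap_comp_apply f (η.q B) Q).symm.trans
      (hsq ▸ PrimeSpectrum.comap_comp_apply (η.q A) g Q)
  have hbg : Function.Bijective (PrimeSpectrum.comap g) := (PrimeSpectrum.comapEquiv e).symm.bijective
  have hb : Function.Bijective (PrimeSpectrum.comap f) := by
    rw [← Function.Bijective.of_comp_iff _ (comap_q_bijective η B hB), h1,
      Function.Bijective.of_comp_iff' (comap_q_bijective η A hA)]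
    exact hbg
  refine ⟨hb, fun Q => ?_⟩
  let π : B →+* η.obj (PrimeSpectrum.comap f Q).asIdeal.ResidueField :=
    (proj η A _).comp (e.symm.toRingHom.comp (η.q B))
  have hπ : π.comp f = etaRes η (PrimeSpectrum.comap f Q) := RingHom.ext fun a => by
    change proj η A _ (e.symm (η.q B (f a))) = _
    rw [← RingHom.comp_apply (η.q B) f, ← hsq]
    exact congrArg _ (e.symm_apply_apply _)
  refine exists_factor_of_hom f Q _ π (hb.1 ?_) hπ
  rw [← pt_comp, hπ, pt_etaRes]

end Groth.Agent.S19578
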