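import Groth.Statements.S19579
import Groth.Agent.S1490
import Groth.Agent.H3.PicCalc
import Groth.Agent.Lib.TensorMod.Invertible

set_option autoImplicit false
universe u
open CategoryTheory CategoryTheory.Limits MonoidalCategory CartesianMonoidalCategory MonObj AlgebraicGeometry
open AbVar
open Groth.Agent.H3

namespace Groth.Agent.S19579

noncomputable section

local instance (Y : Scheme.{u}) : PicGrp.Law Y := Groth.Agent.Lib.TensorMod.Invertible.law Y

/-- The implication from triviality of the Mumford bundle on one fibre to its triviality relative to the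
base, with the identification of the descended bundle. Let X be an abelian variety over a field k
(proper, geometrically integral k-group scheme with multiplication m and unit e), T a connected
locally Noetherian k-scheme and L an invertible module on X ×_k T. On X ×_k X ×_k T let m_T, p_13,
p_23 be the maps to X ×_k T induced by m and by the two projections X × X → X, π the projection to
T, and e_T : T → X ×_k T the unit section. If there is a point t of T over whose fibre X × X × Spec
k(t) the modules m_T^*L and p_13^*L ⊗ p_23^*L become isomorphic (equivalently the Mumford bundle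
Λ(L) = m_T^*L ⊗ p_13^*L⁻¹ ⊗ p_23^*L⁻¹ is trivial on one fibre), then m_T^*L ⊗ π^*(e_T^*L) and
p_13^*L ⊗ p_23^*L are isomorphic on all of X × X × T, i.e. Λ(L) ≅ π^*N with N = e_T^*L⁻¹ (existence
of an isomorphism). -/
theorem result (k : Type u) [Field k]
    (X T : Over (Spec (CommRingCat.of k)))
    [GrpObj X] [IsProper X.hom] [GeometricallyIntegral X.hom]
    [IsLocallyNoetherian T.left] [ConnectedSpace ↥T.left]
    (L : (X ⊗ T).left.Modules) (hL : PicF.IsInvertible L)
    (t : ↥T.left)
    (ht : Nonempty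
      ((Scheme.Modules.pullback (pullback.fst (snd (X ⊗ X) T).left
          (T.left.fromSpecResidueField t))).obj
          ((Scheme.Modules.pullback (μ[X] ▷ T).left).obj L) ≅
       (Scheme.Modules.pullback (pullback.fst (snd (X ⊗ X) T).left
          (T.left.fromSpecResidueField t))).obj
          (CohB1.tensorMod ((Scheme.Modules.pullback (fst X X ▷ T).left).obj L)
            ((Scheme.Modules.pullback (snd X X ▷ T).left).obj L)))) :
    Nonempty
      (CohB1.tensorMod ((Scheme.Modules.pullback (μ[X] ▷ T).left).obj L)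
          ((Scheme.Modules.pullback (snd (X ⊗ X) T).left).obj
            ((Scheme.Modules.pullback (CartesianMonoidalCategory.lift (toUnit T ≫ η[X]) (𝟙 T)).left).obj L)) ≅
        CohB1.tensorMod ((Scheme.Modules.pullback (fst X X ▷ T).left).obj L)
          ((Scheme.Modules.pullback (snd X X ▷ T).left).obj L)) := by
  haveI : Subsingleton (Spec (CommRingCat.of k)) := inferInstance
  haveI : LocallyOfFinitePresentation X.hom := inferInstance
  haveI : Flat X.hom := inferInstance
  let l := PicGrp.cls L hL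
  let e : T ⟶ X ⊗ T := CartesianMonoidalCategory.lift (toUnit T ≫ η[X]) (𝟙 T)
  let p := snd (X ⊗ X) T
  let a := PicCalc.ph (μ[X] ▷ T) l * PicCalc.ph p (PicCalc.ph e l)
  let b := PicCalc.ph (fst X X ▷ T) l * PicCalc.ph (snd X X ▷ T) l
  suffices hab : a = b from
    (PicCalc.iso_iff (PicCalc.cl_tensor (PicCalc.cl_pullback _ (a := l) rfl)
        (PicCalc.cl_pullback p (PicCalc.cl_pullback e (a := l) rfl)))
      (PicCalc.cl_tensor (PicCalc.cl_pullback _ (a := l) rfl) (PicCalc.cl_pullback _ (a := l) rfl))).2 hab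
  obtain ⟨D, hD, hDc⟩ := PicGrp.exists_eq_cls (a * b⁻¹)
  have key : ∀ {V : Over (Spec (CommRingCat.of k))} (g : V ⟶ (X ⊗ X) ⊗ T),
      PicCalc.ph g (a * b⁻¹) = 1 →
      Nonempty ((Scheme.Modules.pullback g.left).obj D ≅ Coh.structureModule V.left) := fun g hg =>
    (PicCalc.iso_iff (PicCalc.cl_pullback g (a := PicGrp.cls D hD) rfl)
      (b := (1 : PicLoc.PicSet _)) PicGrp.one_val.symm).2 (by rw [← hDc]; exact hg)
  -- the first slice
  let i : X ⟶ X ⊗ X := CartesianMonoidalCategory.lift (toUnit X ≫ η[X]) (𝟙 X)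
  let j : X ⟶ X ⊗ X := CartesianMonoidalCategory.lift (𝟙 X) (toUnit X ≫ η[X])
  have hw : ∀ (f : X ⟶ X ⊗ X), f ▷ T ≫ p = snd X T := fun f => whiskerRight_snd f T
  have hη : (toUnit X ≫ η[X]) ▷ T = snd X T ≫ e := by
    apply CartesianMonoidalCategory.hom_ext
    · rw [whiskerRight_fst, Category.assoc, lift_fst, ← Category.assoc, ← Category.assoc,
        toUnit_unique (fst X T ≫ toUnit X) (snd X T ≫ toUnit T)]
    · rw [whiskerRight_snd, Category.assoc, lift_snd, Category.comp_id]
  have hs₁ : PicCalc.ph (i ▷ T) (a * b⁻¹) = 1 := by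
    simp only [a, b, map_mul, map_inv, ← PicCalc.ph_comp, ← comp_whiskerRight, reassoc_of% hw i]
    rw [show i ≫ μ[X] = 𝟙 X by simp [i, ← Hom.mul_def, ← Hom.one_def],
      show i ≫ fst X X = toUnit X ≫ η[X] by simp [i], show i ≫ snd X X = 𝟙 X by simp [i],
      id_whiskerRight, hη, PicCalc.ph_id, mul_inv_eq_one]
    exact mul_comm _ _
  have hs₂ : PicCalc.ph (j ▷ T) (a * b⁻¹) = 1 := by
    simp only [a, b, map_mul, map_inv, ← PicCalc.ph_comp, ← comp_whiskerRight, reassoc_of% hw j]
    rw [show j ≫ μ[X] = 𝟙 X by simp [j, ← Hom.mul_def, ← Hom.one_def],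
      show j ≫ fst X X = 𝟙 X by simp [j], show j ≫ snd X X = toUnit X ≫ η[X] by simp [j],
      id_whiskerRight, hη, PicCalc.ph_id, mul_inv_eq_one]
  have hfib : Nonempty ((Scheme.Modules.pullback
      (pullback.fst (snd (X ⊗ X) T).left (T.left.fromSpecResidueField t))).obj D ≅
      Coh.structureModule _) := by
    let V : Over (Spec (CommRingCat.of k)) :=
      Over.mk (pullback.fst (snd (X ⊗ X) T).left (T.left.fromSpecResidueField t) ≫ ((X ⊗ X) ⊗ T).hom)
    let g : V ⟶ (X ⊗ X) ⊗ T := Over.homMk (pullback.fst (snd (X ⊗ X) T).left (T.left.fromSpecResidueField t))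
    let P : Over (Spec (CommRingCat.of k)) := Over.mk (T.left.fromSpecResidueField t ≫ T.hom)
    let q : V ⟶ P := Over.homMk (pullback.snd (snd (X ⊗ X) T).left (T.left.fromSpecResidueField t)) (by
      show _ ≫ T.left.fromSpecResidueField t ≫ T.hom = _ ≫ ((X ⊗ X) ⊗ T).hom
      rw [← Category.assoc, ← pullback.condition, Category.assoc, Over.w (snd (X ⊗ X) T)])
    let r : P ⟶ T := Over.homMk (T.left.fromSpecResidueField t)
    have hgp : g ≫ p = q ≫ r := Over.OverMorphism.ext pullback.condition
    haveI : Subsingleton P.left := inferInstanceAs (Subsingleton (Spec (T.left.residueField t)))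
    haveI : Nonempty P.left := inferInstanceAs (Nonempty (Spec (T.left.residueField t)))
    have hb : PicCalc.ph g (PicCalc.ph p (PicCalc.ph e l)) = 1 := by
      rw [← PicCalc.ph_comp, hgp, PicCalc.ph_comp, PicCalc.eq_one_of_subsingleton (PicCalc.ph r _),
        map_one]
    have h := (PicCalc.iso_iff (PicCalc.cl_pullback g (PicCalc.cl_pullback _ (a := l) rfl))
      (PicCalc.cl_pullback g (PicCalc.cl_tensor (PicCalc.cl_pullback _ (a := l) rfl)
        (PicCalc.cl_pullback _ (a := l) rfl)))).1 ht
    refine key g ?_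
    simp only [a, b, map_mul, map_inv, hb, _root_.mul_one]
    rw [mul_inv_eq_one, h, map_mul]
  let x₀ : Spec (CommRingCat.of k) ⟶ X.left := η[X].left
  have hx : x₀ ≫ X.hom = 𝟙 (Spec (CommRingCat.of k)) := Over.w η[X]
  let i₀ : X.left ⟶ pullback X.hom X.hom := pullback.lift (X.hom ≫ x₀) (𝟙 _)
    (by rw [Category.assoc, hx, Category.comp_id, Category.id_comp])
  let j₀ : X.left ⟶ pullback X.hom X.hom := pullback.lift (𝟙 _) (X.hom ≫ x₀)
    (by rw [Category.assoc, hx, Category.comp_id, Category.id_comp])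
  have slice : ∀ (f : X ⟶ X ⊗ X) (f₀ : X.left ⟶ pullback X.hom X.hom), f.left = f₀ →
      PicCalc.ph (f ▷ T) (a * b⁻¹) = 1 → ∀ (h₁ h₂),
      Nonempty ((Scheme.Modules.pullback (pullback.map (f₀ ≫ pullback.fst X.hom X.hom ≫ X.hom) T.hom
        (pullback.fst X.hom X.hom ≫ X.hom) T.hom f₀ (𝟙 _) (𝟙 _) h₁ h₂)).obj D ≅
        Coh.structureModule _) := by
    rintro f f₀ rfl hf h₁ h₂
    obtain ⟨u⟩ := key (f ▷ T) hf
    let σ : pullback (f.left ≫ pullback.fst X.hom X.hom ≫ X.hom) T.hom ⟶ (X ⊗ T).left :=
      pullback.lift (f := X.hom) (pullback.fst _ _) (pullback.snd _ _)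
        ((congrArg (pullback.fst _ _ ≫ ·) (Over.w f).symm).trans pullback.condition)
    have hσ : σ ≫ (f ▷ T).left = pullback.map (f.left ≫ pullback.fst X.hom X.hom ≫ X.hom) T.hom
        (pullback.fst X.hom X.hom ≫ X.hom) T.hom f.left (𝟙 _) (𝟙 _) h₁ h₂ := by
      rw [Over.whiskerRight_left]
      apply pullback.hom_ext
      · simp only [σ, pullback.map, Category.assoc]
        erw [pullback.lift_fst, pullback.lift_fst_assoc, pullback.lift_fst]
      · simp only [σ, pullback.map, Category.assoc]
        erw [pullback.lift_snd, pullback.lift_snd, pullback.lift_snd]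
        simp
    exact ⟨(Scheme.Modules.pullbackCongr hσ.symm).app D ≪≫
      ((Scheme.Modules.pullbackComp σ (f ▷ T).left).app D).symm ≪≫
      (Scheme.Modules.pullback σ).mapIso u ≪≫ PicLoc.pullbackStructureIso σ⟩
  obtain ⟨u⟩ := Groth.Agent.S1490.result X.hom X.hom T.hom x₀ hx x₀ hx D hD
    (slice i _ rfl hs₁ _ _) (slice j _ rfl hs₂ _ _) ⟨t, hfib⟩
  exact mul_inv_eq_one.1 (hDc.trans ((PicGrp.cls_eq_one_iff hD).2 ⟨u⟩))

end

end Groth.Agent.S19579
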