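import Groth.Statements.S19581
import Groth.Agent.H4.KerDual.Main
import Groth.Agent.H4.KerDual.Unit
import Groth.Agent.H4.KerDual.Deg
import Groth.Agent.H8.KerDualIso.MulRight
import Groth.Agent.H8.KerDualIso.SpecFn
-- import your own Groth.Agent.* helpers here

set_option autoImplicit false
set_option linter.style.haveILetI false
set_option backward.isDefEq.respectTransparency false
set_option backward.isDefEq.respectTransparency.types false
universe u
open CategoryTheory CategoryTheory.Limits MonoidalCategory CartesianMonoidalCategory MonObj GrpObj AlgebraicGeometry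
open AbDual
open Groth.Agent.H4.KerDual Groth.Agent.Lib Groth.Agent.Lib.H3 FunTensor

namespace Groth.Agent.S19581

/-- Let X and Y be abelian varieties over a field k (proper, smooth, geometrically connected commutative
k-group schemes) with dual abelian varieties X^t, Y^t presented through φ_X, φ_Y for the fppf
topology, and let f : X → Y be an isogeny, i.e. a surjective homomorphism with finite kernel; let
the kernel be Spec A for a finite-dimensional commutative and cocommutative Hopf algebra A, embedded
in X by a homomorphism i whose square against the unit section of Y is cartesian. Let f^t : Y^t →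
X^t be the transpose homomorphism and let Spec B, for a finite-dimensional commutative Hopf algebra
B, be its kernel through a homomorphism j. Then B is isomorphic, as a bialgebra over k, to the dual
Hopf algebra Hom_k(A, k) of A; that is, Ker(f^t) is isomorphic to the Cartier dual of Ker(f). (The
published statement gives a canonical isomorphism; only the existence of an isomorphism is stated
here. That f^t is again an isogeny is a separate statement.) -/
theorem result (k : Type u) [Field k]
    (X Y Xt Yt : Over (Spec (CommRingCat.of k))) [GrpObj X] [IsCommMonObj X] [GrpObj Y] [IsCommMonObj Y]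
    [GrpObj Xt] [IsCommMonObj Xt] [GrpObj Yt] [IsCommMonObj Yt]
    [IsProper X.hom] [Smooth X.hom] [GeometricallyConnected X.hom] [IsProper Y.hom] [Smooth Y.hom] [GeometricallyConnected Y.hom]
    [IsProper Xt.hom] [Smooth Xt.hom] [GeometricallyConnected Xt.hom] [IsProper Yt.hom] [Smooth Yt.hom] [GeometricallyConnected Yt.hom]
    (φX : ∀ T : Over (Spec (CommRingCat.of k)), PicF.Cl (PicF.XT X.hom T) → (T ⟶ Xt))
    (φY : ∀ T : Over (Spec (CommRingCat.of k)), PicF.Cl (PicF.XT Y.hom T) → (T ⟶ Yt))
    (hX : AbDual.IsDualAV Scheme.fppfPrecoverage X Xt φX) (hY : AbDual.IsDualAV Scheme.fppfPrecoverage Y Yt φY)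
    (f : X ⟶ Y) [IsMonHom f] [Surjective f.left]
    (A : Type u) [CommRing A] [HopfAlgebra k A] [Coalgebra.IsCocomm k A] [FiniteDimensional k A]
    (i : CoactBr.sp k A ⟶ X) [IsMonHom i] (hA : AlgGrp.IsKernel i f)
    (ft : Yt ⟶ Xt) [IsMonHom ft] (hft : AbDual.IsTranspose f φX φY ft)
    (B : Type u) [CommRing B] [HopfAlgebra k B] [FiniteDimensional k B]
    (j : CoactBr.sp k B ⟶ Yt) [IsMonHom j] (hB : AlgGrp.IsKernel j ft) :
    Nonempty (B ≃ₐc[k] CartDual.D k A) := by
  haveI := Groth.Agent.H2.Rigid.GeomIrred.geometricallyIntegral_of_smooth X.hom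
  haveI := Groth.Agent.H2.Rigid.GeomIrred.geometricallyIntegral_of_smooth Y.hom
  haveI := Groth.Agent.H2.Rigid.GeomIrred.geometricallyIntegral_of_smooth Xt.hom
  haveI : GeometricallyReduced Y.hom := Groth.Agent.H2.FlatHom.Abelian.geometricallyReduced Y.hom
  haveI : IsIntegral Y.left := GeometricallyIntegral.isIntegral_of_subsingleton Y.hom
  haveI : IsIntegral Xt.left := GeometricallyIntegral.isIntegral_of_subsingleton Xt.hom
  haveI : IsLocallyNoetherian Y.left := LocallyOfFiniteType.isLocallyNoetherian Y.hom
  haveI : IsLocallyNoetherian Xt.left := LocallyOfFiniteType.isLocallyNoetherian Xt.hom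
  haveI := Groth.Agent.H8.KerDualIso.isFinite_sp (k := k) A
  haveI := Groth.Agent.H8.KerDualIso.isFinite_sp (k := k) B
  haveI : Flat f.left := (Groth.Agent.H2.FlatHom.Base.flat f).1
  haveI : IsProper (f.left ≫ Y.hom) := by rw [Over.w]; infer_instance
  haveI : IsProper f.left := IsProper.of_comp f.left Y.hom
  haveI : IsFinite f.left :=
    Groth.Agent.H4.KernelSquare.left_of_hom f i hA (P := @IsFinite) inferInstance
  obtain ⟨hfin, hflat, -, -⟩ := transpose_props hX hY hft
  haveI := hfin
  haveI := hflat
  haveI : LocallyOfFinitePresentation f.left :=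
    LocallyOfFinitePresentation.iff_locallyOfFiniteType.2 inferInstance
  haveI : LocallyOfFinitePresentation ft.left :=
    LocallyOfFinitePresentation.iff_locallyOfFiniteType.2 inferInstance
  have hi : i ≫ f = 1 := Groth.Agent.H4.KernelSquare.comp_eq_one f i hA
  have hj : j ≫ ft = 1 := Groth.Agent.H4.KernelSquare.comp_eq_one ft j hB
  obtain ⟨χ, hχ⟩ := exists_pairing hX hY hft hi j hj
  refine Groth.Agent.H8.KerDualIso.exists_bialgEquiv χ
    (fun W v v' g _ => IsPairing.mul hY (f := f) (i := i) hχ v v' g)
    (fun W g _ => IsPairing.one hY hχ hX hft hA hj g)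
    (fun W g g' _ h => hB.hom_ext (IsPairing.ext hY hχ hX hft hA hj h) (toUnit_unique _ _))
    (fun W v g g' _ => Groth.Agent.H8.KerDualIso.mul_right hX hY hi hft hj hχ v g g')
    (fun W v _ => IsPairing.one_right hY hi hχ v (MonObj.one_comp j)) ?_
  let s : Spec (CommRingCat.of k) := IsLocalRing.closedPoint k
  rw [← finrank_eq_kernel ft j hB s, ← finrank_eq_kernel f i hA s, finrank_eq_deg, finrank_eq_deg,
    deg_transpose hX hY hft]

end Groth.Agent.S19581
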