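import Groth.Statements.S19583
import Groth.Agent.Lib.Ideal.EffCartier
import Groth.Agent.Lib.Ideal.Comap
import Mathlib.AlgebraicGeometry.Morphisms.SchemeTheoreticallyDominant
-- import your own Groth.Agent.* helpers here

set_option autoImplicit false
universe u
open Cyc

namespace Groth.Agent.S19583

set_option linter.style.haveILetI false

open Groth.Agent.Lib
open CategoryTheory CategoryTheory.Limits AlgebraicGeometry

theorem comap_ι_eq_bot {P : Scheme.{u}} (𝓔 𝒥 : P.IdealSheafData)
    (h𝒥 : ∀ (V : P.affineOpens) (a : Γ(P, V.1)), a ∈ 𝒥.ideal V →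
      BlowUp.KilledByPowerNear 𝓔 (Coh.structureModule P) V a)
    (O : P.Opens) (hO : ∀ x ∈ O, x ∉ 𝓔.support) : 𝒥.comap O.ι = ⊥ := by
  refine Scheme.IdealSheafData.ext (funext fun W => ?_)
  rw [Scheme.IdealSheafData.ideal_comap_of_isOpenImmersion, Scheme.IdealSheafData.ideal_bot]
  have hV : ∀ z ∈ O.ι ''ᵁ W.1, z ∈ O := by
    rintro _ ⟨w, -, rfl⟩; exact w.2
  set V : P.affineOpens := ⟨O.ι ''ᵁ W.1, W.2.image_of_isOpenImmersion O.ι⟩
  have h1 : 𝓔.ideal V = ⊤ := by
    rw [← PrimeSpectrum.zeroLocus_empty_iff_eq_top]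
    refine Set.eq_empty_iff_forall_notMem.mpr fun z hz => ?_
    have hzS : V.2.fromSpec z ∈ (𝓔.support : Set P) ∩ V.1 := by
      rw [𝓔.coe_support_inter V, ← V.2.fromSpec_image_zeroLocus]
      exact Set.mem_image_of_mem _ hz
    exact hO _ (hV _ hzS.2) hzS.1
  have h2 : 𝒥.ideal V = ⊥ := le_bot_iff.mp fun a ha => by
    obtain ⟨n, hn⟩ := h𝒥 V a ha
    have h3 := hn 1 (by rw [Scheme.IdealSheafData.ideal_pow]; simp [h1, Ideal.top_pow])
    have h4 : (1 : Γ(P, V.1)) * a = 0 := h3
    rwa [one_mul] at h4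
  rw [h2]
  exact le_bot_iff.mp fun a ha => by
    have h3 : (O.ι.appIso W.1).inv.hom a = 0 := ha
    exact (Submodule.mem_bot _).mpr
      ((ConcreteCategory.bijective_of_isIso (O.ι.appIso W.1).inv).1 (h3.trans (map_zero _).symm))

/-- Closed subschemes flat over an integral base are determined by their generic fibres. -/
theorem ker_eq_of_flat {T K S : Scheme.{u}} (g : T ⟶ S) (η : K ⟶ S)
    [IsSchemeTheoreticallyDominant η] [QuasiCompact η] (I : T.IdealSheafData) [Flat (I.subschemeι ≫ g)]
    {G : Scheme.{u}} (γ : G ⟶ T) (c : G ⟶ K) (hG : IsPullback γ c g η) [QuasiCompact γ]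
    (hle : I.comap γ = ⊥) : γ.ker = I := by
  refine le_antisymm ?_ ?_
  · let d := pullback.fst (I.subschemeι ≫ g) η
    have h1 : (d ≫ I.subschemeι).ker = I := by
      rw [Scheme.Hom.ker_comp, d.ker_eq_bot, Scheme.IdealSheafData.map_bot,
        Scheme.IdealSheafData.ker_subschemeι]
    have h2 : d ≫ I.subschemeι = hG.lift (d ≫ I.subschemeι) (pullback.snd _ _)
        (by rw [Category.assoc, pullback.condition]) ≫ γ := (hG.lift_fst _ _ _).symm
    rw [← h1, h2]
    exact Scheme.Hom.le_ker_comp _ _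
  · rw [← Scheme.IdealSheafData.map_bot, Scheme.IdealSheafData.le_map_iff_comap_le, hle]

open CategoryTheory CategoryTheory.Limits AlgebraicGeometry in
/-- Let S be a separated Noetherian scheme, p : X → S a morphism from a separated scheme X (no
finiteness condition), ι : Z → X a closed immersion, and b : S' → S a blowing up of S in a
quasi-coherent ideal with support S₀ such that (1) b restricts to a bijection between the generic
points of the irreducible components of S' and of S and (2) the strict transform Z~ of Z — the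
closed subscheme of Z ×_S S' whose ideal consists, on each affine open, of the functions annihilated
by a power of the pulled-back centre — is flat over S'. Let R be a discrete valuation ring with
fraction field K and f : Spec R → S a morphism sending the generic point of Spec R into S ∖ S₀. Then
f factors uniquely through b, and for the factorisation f' : Spec R → S' the flat closure φ_f(Z) ⊆ Z
×_S Spec R (the scheme-theoretic image of Z ×_S Spec K) coincides with Spec R ×_{S'} Z~: its ideal
sheaf equals the inverse image of the ideal of Z~ under the map Z ×_S Spec R → Z ×_S S' induced by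
f'. -/
theorem result {X S Z S' : Scheme.{u}} [IsNoetherian S] [S.IsSeparated] [X.IsSeparated]
    (p : X ⟶ S) (ι : Z ⟶ X) [IsClosedImmersion ι]
    (𝓘 : S.IdealSheafData) (b : S' ⟶ S) (hb : BlowUp.IsBlowUp b 𝓘)
    (hgen : Set.BijOn b.base {s' : ↥S' | closure {s'} ∈ irreducibleComponents ↥S'} {s : ↥S | closure {s} ∈ irreducibleComponents ↥S})
    (𝒥 : (pullback (ι ≫ p) b).IdealSheafData)
    (h𝒥 : ∀ (V : (pullback (ι ≫ p) b).affineOpens) (a : Γ(pullback (ι ≫ p) b, V.1)), a ∈ 𝒥.ideal V ↔
      BlowUp.KilledByPowerNear ((𝓘.comap (ι ≫ p)).comap (pullback.fst (ι ≫ p) b)) (Coh.structureModule (pullback (ι ≫ p) b)) V a)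
    [Flat (𝒥.subschemeι ≫ pullback.snd (ι ≫ p) b)]
    (R : Type u) [CommRing R] [IsDomain R] [IsDiscreteValuationRing R] (f : Spec (CommRingCat.of R) ⟶ S)
    (hf : f.base ⟨⊥, Ideal.isPrime_bot⟩ ∉ (𝓘.support : Set ↥S)) :
    (∃! f' : Spec (CommRingCat.of R) ⟶ S', f' ≫ b = f) ∧
      ∀ (f' : Spec (CommRingCat.of R) ⟶ S') (hf' : f' ≫ b = f),
        (pullback.map (ι ≫ p) (Spec.map (CommRingCat.ofHom (algebraMap R (FractionRing R))) ≫ f) (ι ≫ p) f (𝟙 Z) (Spec.map (CommRingCat.ofHom (algebraMap R (FractionRing R)))) (𝟙 S) ((Category.comp_id _).trans (Category.id_comp _).symm) (Category.comp_id _)).ker = 𝒥.comap (pullback.map (ι ≫ p) f (ι ≫ p) b (𝟙 Z) f' (𝟙 S) ((Category.comp_id _).trans (Category.id_comp _).symm) ((Category.comp_id f).trans hf'.symm)) := by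
  let Kf := FractionRing R
  let η := Spec.map (CommRingCat.ofHom (algebraMap R Kf))
  have hη : ∀ z, η z = ⟨⊥, Ideal.isPrime_bot⟩ := fun z => by
    refine PrimeSpectrum.ext ?_
    show Ideal.comap (algebraMap R Kf) z.asIdeal = ⊥
    haveI : z.asIdeal.IsPrime := z.isPrime
    rw [Ideal.eq_bot_of_prime z.asIdeal, ← RingHom.ker_eq_comap_bot]
    exact (RingHom.injective_iff_ker_eq_bot _).mp (IsFractionRing.injective R Kf)
  haveI : IsDominant η := by
    have hi : Function.Injective (algebraMap R Kf) := IsFractionRing.injective R Kf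
    refine ⟨PrimeSpectrum.denseRange_comap_iff_ker_le_nilRadical _ |>.mpr ?_⟩
    rw [CommRingCat.hom_ofHom, (RingHom.injective_iff_ker_eq_bot _).mp hi]
    exact bot_le
  haveI : IsSchemeTheoreticallyDominant η := .of_isDominant η
  have hE : BlowUp.IsEffCartierIdeal (𝓘.comap f) := by
    intro z
    haveI : IsPrincipalIdealRing Γ(Spec (CommRingCat.of R), ⊤) :=
      IsPrincipalIdealRing.of_surjective (Scheme.ΓSpecIso (CommRingCat.of R)).inv.hom
        (ConcreteCategory.bijective_of_isIso _).2
    haveI : IsDomain Γ(Spec (CommRingCat.of R), ⊤) :=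
      MulEquiv.isDomain R (Scheme.ΓSpecIso (CommRingCat.of R)).commRingCatIsoToRingEquiv.toMulEquiv
    obtain ⟨t, ht⟩ := Submodule.IsPrincipal.principal ((𝓘.comap f).ideal ⟨⊤, isAffineOpen_top _⟩)
    refine ⟨⟨⊤, isAffineOpen_top _⟩, trivial, t, mem_nonZeroDivisors_of_ne_zero ?_, ht⟩
    rintro rfl
    refine hf ?_
    have h0 : (𝓘.comap f).ideal ⟨⊤, isAffineOpen_top _⟩ = ⊥ := by rw [ht]; simp
    have hs : (𝓘.comap f).support = ⊤ := by
      rw [show 𝓘.comap f = ⊥ from Scheme.IdealSheafData.ext_of_isAffine h0,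
        Scheme.IdealSheafData.support_bot]
    rw [Scheme.IdealSheafData.support_comap] at hs
    have := (SetLike.ext_iff.mp hs ⟨⊥, Ideal.isPrime_bot⟩).mpr trivial
    exact this
  refine ⟨?_, fun f' hf' => ?_⟩
  · exact hb.2 _ f hE
  let q := ι ≫ p
  let ψ := pullback.map q f q b (𝟙 Z) f' (𝟙 S) ((Category.comp_id _).trans (Category.id_comp _).symm)
    ((Category.comp_id f).trans hf'.symm)
  let γ := pullback.map q (η ≫ f) q f (𝟙 Z) η (𝟙 S) ((Category.comp_id _).trans (Category.id_comp _).symm)
    (Category.comp_id _)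
  have hψ1 : ψ ≫ pullback.fst q b = pullback.fst q f := (pullback.lift_fst _ _ _).trans (Category.comp_id _)
  have hψ2 : ψ ≫ pullback.snd q b = pullback.snd q f ≫ f' := pullback.lift_snd _ _ _
  have hψ : IsPullback ψ (pullback.snd q f) (pullback.snd q b) f' := by
    refine IsPullback.of_right ?_ hψ2 (IsPullback.of_hasPullback q b)
    rw [hψ1, hf']
    exact IsPullback.of_hasPullback q f
  have hγ : IsPullback γ (pullback.snd q (η ≫ f)) (pullback.snd q f) η := by
    refine IsPullback.of_right ?_ (pullback.lift_snd _ _ _) (IsPullback.of_hasPullback q f)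
    rw [show γ ≫ pullback.fst q f = pullback.fst q (η ≫ f) from
      (pullback.lift_fst _ _ _).trans (Category.comp_id _)]
    exact IsPullback.of_hasPullback q (η ≫ f)
  haveI : QuasiCompact γ := MorphismProperty.of_isPullback (P := @QuasiCompact) hγ.flip inferInstance
  haveI : Flat ((𝒥.comap ψ).subschemeι ≫ pullback.snd q f) := by
    have h1 : IsPullback (((𝒥.comapIso ψ).hom ≫ pullback.snd ψ 𝒥.subschemeι)) (𝒥.comap ψ).subschemeι
        𝒥.subschemeι ψ := by
      refine IsPullback.flip ?_
      exact IsPullback.of_iso_pullback ⟨by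
          simp only [← Scheme.IdealSheafData.comapIso_hom_fst, Category.assoc, pullback.condition]⟩
        (𝒥.comapIso ψ) (Scheme.IdealSheafData.comapIso_hom_fst _ _) rfl
    exact MorphismProperty.of_isPullback (P := @Flat) (h1.paste_vert hψ) inferInstance
  refine ker_eq_of_flat (pullback.snd q f) η (𝒥.comap ψ) γ _ hγ ?_
  let 𝓔 := (𝓘.comap q).comap (pullback.fst q b)
  let O : (pullback q b).Opens := 𝓔.support.compl
  have hr : Set.range (γ ≫ ψ) ⊆ Set.range O.ι := by
    rintro _ ⟨w, rfl⟩
    rw [Scheme.Opens.range_ι]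
    intro hw
    refine hf ?_
    have h1 : q (pullback.fst q b ((γ ≫ ψ) w)) ∈ 𝓘.support := by
      have h := hw
      simp only [𝓔, Scheme.IdealSheafData.support_comap] at h
      exact h
    rw [← Scheme.Hom.comp_apply, ← Scheme.Hom.comp_apply, pullback.condition, Category.assoc,
      reassoc_of% hψ2, hf', reassoc_of% hγ.w, Scheme.Hom.comp_apply, Scheme.Hom.comp_apply, hη] at h1
    exact h1
  rw [← Scheme.IdealSheafData.comap_comp, ← IsOpenImmersion.lift_fac O.ι (γ ≫ ψ) hr,
    Scheme.IdealSheafData.comap_comp,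
    comap_ι_eq_bot 𝓔 𝒥 (fun V a => (h𝒥 V a).mp) O (fun x hx => hx), Scheme.IdealSheafData.comap_bot]

end Groth.Agent.S19583
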