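import Groth.Statements.S19584
import Groth.Agent.H19.Equidim.Main
import Groth.Agent.H46.FibreDimNhd
import Groth.Agent.Lib.Ideal.BlowUp


set_option autoImplicit false
universe u
open Cyc

namespace Groth.Agent.S19584

open AlgebraicGeometry in
theorem not_mem_support {X : Scheme.{u}} {E : X.IdealSheafData} (hE : BlowUp.IsEffCartierIdeal E) {x : X}
    (hx : Groth.Agent.Lib.Cyc.DimFun.IsMaxPt x) : x ∉ E.support := by
  intro hxE
  obtain ⟨U, hxU, f, hf, hIU⟩ := hE x
  let P := U.2.primeIdealOf ⟨x, hxU⟩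
  have hP : U.2.fromSpec P = x := U.2.fromSpec_primeIdealOf ⟨x, hxU⟩
  have hmin : P.asIdeal ∈ minimalPrimes Γ(X, U.1) := by
    refine ⟨⟨P.2, bot_le⟩, fun q hq hle => ?_⟩
    let Q : Spec Γ(X, U.1) := ⟨q, hq.1⟩
    have hsp : U.2.fromSpec Q ⤳ x := hP ▸
      (((PrimeSpectrum.le_iff_specializes (R := Γ(X, U.1)) ⟨q, hq.1⟩ P).1 hle).map U.2.fromSpec.continuous)
    have : Q = P := U.2.fromSpec.isOpenEmbedding.injective ((hx _ hsp).trans hP.symm)
    exact le_of_eq (congrArg PrimeSpectrum.asIdeal this).symm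
  have hfP : f ∉ P.asIdeal := fun h =>
    (Ideal.disjoint_nonZeroDivisors_of_mem_minimalPrimes hmin).le_bot ⟨h, hf⟩
  have h1 := (Scheme.IdealSheafData.mem_support_iff_of_mem hxU).1 hxE
  rw [Scheme.mem_zeroLocus_iff] at h1
  refine h1 f (hIU ▸ Ideal.mem_span_singleton_self f) ?_
  have : P ∈ U.2.fromSpec ⁻¹ᵁ X.basicOpen f := by
    rw [U.2.fromSpec_preimage_basicOpen]
    exact hfP
  exact hP ▸ this

open AlgebraicGeometry in
theorem mem_support_of_killed {X : Scheme.{u}} (E J : X.IdealSheafData)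
    (hJ : ∀ (V : X.affineOpens) (a : Γ(X, V.1)), a ∈ J.ideal V →
      BlowUp.KilledByPowerNear E (Coh.structureModule X) V a) (y : X) (hy : y ∉ E.support) : y ∈ J.support := by
  rw [Scheme.IdealSheafData.mem_support_iff]
  intro V
  rw [Scheme.mem_zeroLocus_iff]
  intro a ha hya
  have hyV : y ∈ V.1 := X.basicOpen_le a hya
  obtain ⟨n, hn⟩ := hJ V a ha
  rw [Scheme.IdealSheafData.mem_support_iff_of_mem hyV, Scheme.mem_zeroLocus_iff] at hy
  push Not at hy
  obtain ⟨e, he, hye⟩ := hy
  have h0 : e ^ n * a = 0 := hn (e ^ n) (by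
    rw [Scheme.IdealSheafData.ideal_pow]
    exact Ideal.pow_mem_pow he n)
  have hbo : y ∈ X.basicOpen (e ^ n * a) := by
    rw [Scheme.basicOpen_mul]
    refine ⟨(X.mem_basicOpen (e ^ n) y hyV).2 ?_, hya⟩
    rw [map_pow]
    exact ((X.mem_basicOpen e y hyV).1 hye).pow n
  rw [h0, Scheme.basicOpen_zero] at hbo
  exact hbo



open CategoryTheory CategoryTheory.Limits AlgebraicGeometry in
/-- Let S be a separated Noetherian scheme, p : X → S separated of finite type, z a point of X lying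
over a generic point of an irreducible component of S whose closure in its fibre p⁻¹(p z) has
dimension r, and ι : Z → X a closed immersion from a reduced scheme with image the closure of z. Let
b : S′ → S be a blowing up (S′ Noetherian) such that the strict transform Z~ of Z — the closed
subscheme of Z ×_S S′ whose ideal consists, on each affine open, of the functions annihilated by a
power of the pulled-back centre — is flat over S′. Then Z~ → S′ is universally equidimensional of
dimension r: after any base change S″ → S′ every point of Z~ ×_{S′} S″ has local fibre dimension r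
and every irreducible component of Z~ ×_{S′} S″ dominates an irreducible component of S″. (The
published lemma takes a blow-up of the reduced scheme S_red; this statement takes a blow-up of S
itself, to which the printed argument applies unchanged.) -/
theorem result {X S Z S' : Scheme.{u}} [IsNoetherian S] [S.IsSeparated] [X.IsSeparated]
    (p : X ⟶ S) [LocallyOfFiniteType p] [QuasiCompact p] (z : X) (hz : closure {p.base z} ∈ irreducibleComponents ↥S)
    (r : ℕ) (hr : topologicalKrullDim ↥(closure ({p.asFiber z} : Set ↥(p.fiber (p.base z)))) = r)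
    (ι : Z ⟶ X) [IsClosedImmersion ι] [IsReduced Z] (hZ : Set.range ι.base = closure {z})
    [IsNoetherian S'] (𝓘 : S.IdealSheafData) (b : S' ⟶ S) (hb : BlowUp.IsBlowUp b 𝓘)
    (𝒥 : (pullback (ι ≫ p) b).IdealSheafData)
    (h𝒥 : ∀ (V : (pullback (ι ≫ p) b).affineOpens) (a : Γ(pullback (ι ≫ p) b, V.1)), a ∈ 𝒥.ideal V ↔
      BlowUp.KilledByPowerNear ((𝓘.comap (ι ≫ p)).comap (pullback.fst (ι ≫ p) b)) (Coh.structureModule (pullback (ι ≫ p) b)) V a)
    [Flat (𝒥.subschemeι ≫ pullback.snd (ι ≫ p) b)]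
    (S'' : Scheme.{u}) (g : S'' ⟶ S') :
    (∀ w : ↥(pullback (𝒥.subschemeι ≫ pullback.snd (ι ≫ p) b) g),
        FlatMor.fibreDimAt (pullback.snd (𝒥.subschemeι ≫ pullback.snd (ι ≫ p) b) g) w = r) ∧
      ∀ C ∈ irreducibleComponents ↥(pullback (𝒥.subschemeι ≫ pullback.snd (ι ≫ p) b) g),
        closure ((pullback.snd (𝒥.subschemeι ≫ pullback.snd (ι ≫ p) b) g).base '' C) ∈ irreducibleComponents ↥S'' := by
  haveI : LocallyOfFiniteType (𝒥.subschemeι ≫ pullback.snd (ι ≫ p) b) := inferInstance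
  haveI : LocallyOfFinitePresentation (𝒥.subschemeι ≫ pullback.snd (ι ≫ p) b) :=
    Groth.Agent.H46.FibreDimNhd.locallyOfFinitePresentation _
  refine Groth.Agent.H19.Equidim.univ_equidim _ r (fun ξ hξ => ?_) g
  have hη : Groth.Agent.Lib.Cyc.DimFun.IsMaxPt ((𝒥.subschemeι ≫ pullback.snd (ι ≫ p) b) ξ) :=
    Groth.Agent.H19.Equidim.isMaxPt_image _ hξ
  set η := (𝒥.subschemeι ≫ pullback.snd (ι ≫ p) b) ξ with hηdef
  have hnE : η ∉ (𝓘.comap b).support := not_mem_support hb.1 hη
  have hnI : b η ∈ 𝓘.support.compl := by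
    rw [Scheme.IdealSheafData.support_comap] at hnE
    exact hnE
  -- b η is a maximal point
  have hbη : Groth.Agent.Lib.Cyc.DimFun.IsMaxPt (b η) := fun y hy => by
    haveI := Groth.Agent.Lib.Ideal.BlowUp.isIso_off_center hb
    have hyU : y ∈ 𝓘.support.compl := hy.mem_open 𝓘.support.compl.2 hnI
    obtain ⟨y', hy'⟩ := (b ∣_ 𝓘.support.compl).homeomorph.surjective ⟨y, hyU⟩
    have hbase : b y'.1 = y := (morphismRestrict_base_coe b _ y').symm.trans (congrArg Subtype.val hy')
    have h1 : (b ∣_ 𝓘.support.compl).homeomorph y' ⤳ (b ∣_ 𝓘.support.compl).homeomorph ⟨η, hnI⟩ := by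
      rw [hy']
      refine (subtype_specializes_iff _ _).2 ?_
      show y ⤳ ((b ∣_ 𝓘.support.compl) ⟨η, hnI⟩).1
      rw [morphismRestrict_base_coe]
      exact hy
    have h2 := ((b ∣_ 𝓘.support.compl).homeomorph.isInducing.specializes_iff).1 h1
    rw [← hbase, hη _ ((subtype_specializes_iff _ _).1 h2)]
  have hP := IsPullback.of_hasPullback (ι ≫ p) b
  have hsmax : Groth.Agent.Lib.Cyc.DimFun.IsMaxPt
      ((ι ≫ p) (pullback.fst (ι ≫ p) b (𝒥.subschemeι ξ))) := by
    rw [← Scheme.Hom.comp_apply, hP.w, Scheme.Hom.comp_apply]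
    exact hbη
  have hd : FlatMor.fibreDimAt (pullback.snd (ι ≫ p) b) (𝒥.subschemeι ξ) = r :=
    (Groth.Agent.H2.FibreDimPullback.fibreDimAt_of_isPullback hP _).trans
      (Groth.Agent.H19.Equidim.fibreDimAt_over_maxPt p z hr ι hZ _ hsmax)
  have hmf : Groth.Agent.H46.FibreTrdeg.IsMaxFib (pullback.snd (ι ≫ p) b) (𝒥.subschemeι ξ) := by
    intro y hy hs
    have hyE : y ∉ (((𝓘.comap (ι ≫ p)).comap (pullback.fst (ι ≫ p) b))).support := by
      rw [Scheme.IdealSheafData.support_comap, Scheme.IdealSheafData.support_comap]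
      intro h
      have h' : (ι ≫ p) (pullback.fst (ι ≫ p) b y) ∈ (𝓘.support : Set S) := h
      rw [← Scheme.Hom.comp_apply, hP.w, Scheme.Hom.comp_apply, hy] at h'
      exact hnI h'
    obtain ⟨v, rfl⟩ : y ∈ Set.range 𝒥.subschemeι := by
      rw [Scheme.IdealSheafData.range_subschemeι]
      exact mem_support_of_killed _ 𝒥 (fun V a ha => (h𝒥 V a).1 ha) y hyE
    rw [hξ v (𝒥.subschemeι.isEmbedding.isInducing.specializes_iff.1 hs)]
  rw [Groth.Agent.H46.FibreTrdeg.fibreDimAt_of_isMaxFib _ hmf, Nat.cast_inj] at hd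
  rw [Groth.Agent.H46.FibreTrdeg.trd_comp, hd]


end Groth.Agent.S19584
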