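import Groth.Statements.S19585
import Groth.Agent.H52.BaseToClosure

set_option autoImplicit false
universe u
open CategoryTheory CategoryTheory.Limits MonoidalCategory CartesianMonoidalCategory MonObj GrpObj AlgebraicGeometry
open AbVar

namespace Groth.Agent.S19585

/-- Let k be a field and f : X → Y an isogeny between abelian varieties over k (X, Y proper
geometrically integral k-group schemes; f a finite, flat, surjective homomorphism) and L an
invertible O_Y-module which is non-degenerate of index i, expressed by the equivalent condition that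
H^j(Y, L) = 0 for j ≠ i and H^i(Y, L) ≠ 0. Then f^*L is non-degenerate of the same index: H^j(X,
f^*L) = 0 for j ≠ i and H^i(X, f^*L) ≠ 0. (No assumption on the degree of f or on the field.) -/
theorem result
    (k : Type u) [Field k] (X Y : Over (Spec (CommRingCat.of k)))
    [GrpObj X] [IsProper X.hom] [GeometricallyIntegral X.hom]
    [GrpObj Y] [IsProper Y.hom] [GeometricallyIntegral Y.hom]
    (f : X ⟶ Y) [IsMonHom f] [IsFinite f.left] [Flat f.left] [Surjective f.left]
    (L : Y.left.Modules) (hL : PicF.IsInvertible L) (i : ℕ)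
    (hvan : ∀ j : ℕ, j ≠ i → Subsingleton (Coh.HH Y.left L j)) (hne : Nontrivial (Coh.HH Y.left L i)) :
    (∀ j : ℕ, j ≠ i → Subsingleton (Coh.HH X.left ((Scheme.Modules.pullback f.left).obj L) j)) ∧
      Nontrivial (Coh.HH X.left ((Scheme.Modules.pullback f.left).obj L) i) := by
  letI : ∀ Y : Scheme.{u}, PicGrp.Law Y := Groth.Agent.Lib.TensorMod.Invertible.law
  haveI := Groth.Agent.H63.AVBaseChange.isProper_bc (AlgebraicClosure k) X
  haveI := Groth.Agent.H63.AVBaseChange.geometricallyIntegral_bc (AlgebraicClosure k) X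
  haveI := Groth.Agent.H52.BaseToClosure.smooth_bc X
  haveI := Groth.Agent.H63.AVBaseChange.isProper_bc (AlgebraicClosure k) Y
  haveI := Groth.Agent.H63.AVBaseChange.geometricallyIntegral_bc (AlgebraicClosure k) Y
  haveI := Groth.Agent.H52.BaseToClosure.smooth_bc Y
  let b := Groth.Agent.Lib.GrpSch.extBase k (AlgebraicClosure k)
  let φ := (Over.pullback b).map f
  haveI : IsFinite φ.left := Groth.Agent.Lib.GrpSch.bc_map_left_of (P := @IsFinite) b f inferInstance
  haveI : Flat φ.left := Groth.Agent.Lib.GrpSch.bc_map_left_of (P := @Flat) b f inferInstance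
  haveI : Surjective φ.left := Groth.Agent.Lib.GrpSch.bc_map_left_of (P := @Surjective) b f inferInstance
  haveI : IsMonHom φ := inferInstanceAs (IsMonHom ((Over.pullback b).map f))
  have hc := (Groth.Agent.H52.BaseToClosure.conc_iff Y hL i).1 ⟨hvan, hne⟩
  have hLΩ := PicLoc.isInvertible_pullback (Groth.Agent.H52.BaseToClosure.proj Y) hL
  have r := Groth.Agent.H52.IndexInvariance.pullback_index φ _ hLΩ
    (Groth.Agent.H52.BaseToClosure.nondeg_of_conc _ hLΩ i hc) i hc.2
  exact (Groth.Agent.H52.BaseToClosure.conc_iff X (PicLoc.isInvertible_pullback f.left hL) i).2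
    (Groth.Agent.H52.BaseToClosure.conc_of_iso
      ((Scheme.Modules.pullbackComp φ.left (Groth.Agent.H52.BaseToClosure.proj Y)).app L ≪≫
        (Scheme.Modules.pullbackCongr (Groth.Agent.Lib.GrpSch.bc_map_proj b f)).app L ≪≫
        ((Scheme.Modules.pullbackComp (Groth.Agent.H52.BaseToClosure.proj X) f.left).app L).symm) r)

end Groth.Agent.S19585
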