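import Groth.Statements.S19586
import Groth.Agent.S14477
import Mathlib.RingTheory.Smooth.Local
import Mathlib.RingTheory.Smooth.Locus
import Mathlib.RingTheory.Etale.Kaehler
import Mathlib.RingTheory.Localization.AtPrime.Basic

set_option autoImplicit false
universe u
open KaehlerDifferential
open LocInt

namespace Groth.Agent.S19586

open scoped TensorProduct

open TensorProduct KaehlerDifferential in
theorem key (A B : Type u) [CommRing A] [CommRing B] [Algebra A B] [Algebra.Smooth A B] (n : ℕ)
    (hn : ∀ p : PrimeSpectrum B, Module.rankAtStalk (Ω[B⁄A]) p = n)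
    (g : B) (q : Ideal B) [q.IsPrime] (P : Type u) [CommRing P] [Algebra B P] [IsLocalization.AtPrime P q]
    [Algebra A P] [IsScalarTower A B P]
    (K : Type u) [Field K] [Algebra P K] [Algebra B K] [IsScalarTower B P K]
    (hK : ∀ b : B, algebraMap B K b = 0 ↔ b ∈ q) :
    ((1 : K) ⊗ₜ[P] D A P (algebraMap B P g) = 0) ↔ ∀ φ : Ω[B⁄A] →ₗ[B] B, φ (D A B g) ∈ q := by
  classical
  haveI : Algebra.FormallyEtale B P := Algebra.FormallyEtale.of_isLocalization q.primeCompl
  let e := (isBaseChange_of_formallyEtale A B P).equiv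
  let E : K ⊗[B] Ω[B⁄A] ≃ₗ[K] K ⊗[P] Ω[P⁄A] :=
    (TensorProduct.AlgebraTensorModule.cancelBaseChange B P K K (Ω[B⁄A])).symm ≪≫ₗ
      TensorProduct.AlgebraTensorModule.congr (LinearEquiv.refl K K) e
  have hE : E ((1 : K) ⊗ₜ[B] D A B g) = (1 : K) ⊗ₜ[P] D A P (algebraMap B P g) := by
    simp [E, e, IsBaseChange.equiv_tmul]
  rw [← hE, LinearEquiv.map_eq_zero_iff]
  constructor
  · intro h φ
    have h1 := congrArg (LinearMap.liftBaseChange K ((Algebra.linearMap B K).comp φ)) h
    rw [map_zero, LinearMap.liftBaseChange_tmul, one_smul] at h1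
    exact (hK _).mp h1
  · intro h
    obtain ⟨s, c, ψ, hc, hψ, hspan⟩ := Groth.Agent.S14477.exists_local (M := Ω[B⁄A]) n ⟨q, inferInstance⟩ (hn _)
    obtain ⟨v, hv⟩ := (Submodule.mem_span_range_iff_exists_fun B).mp (hspan (D A B g))
    have hc0 : algebraMap B K c ≠ 0 := fun h0 => hc ((hK c).mp h0)
    have hv0 : ∀ i, algebraMap B K (v i) = 0 := by
      intro i
      have h1 : c * ψ (D A B g) i = v i * c := by
        have := congrArg (fun x => ψ x i) hv
        simp only [map_sum, map_smul, hψ, Finset.sum_apply, Pi.smul_apply, smul_eq_mul,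
          Pi.single_apply, mul_ite, mul_one, mul_zero, Finset.sum_ite_eq, Finset.mem_univ, if_true] at this
        exact this.symm
      have h2 : algebraMap B K (ψ (D A B g) i) = 0 := (hK _).mpr (h ((LinearMap.proj i).comp ψ))
      have h3 := congrArg (algebraMap B K) h1
      rw [map_mul, map_mul, h2, mul_zero] at h3
      exact (mul_eq_zero.mp h3.symm).resolve_right hc0
    have h1 : algebraMap B K c • ((1 : K) ⊗ₜ[B] D A B g) = 0 := by
      rw [algebraMap_smul, ← TensorProduct.tmul_smul, ← hv, TensorProduct.tmul_sum]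
      refine Finset.sum_eq_zero fun i _ => ?_
      rw [TensorProduct.tmul_smul, ← algebraMap_smul K (v i), hv0, zero_smul]
    exact (smul_eq_zero.mp h1).resolve_left hc0

/-- Let A → B be a smooth ring map with Ω_{B/A} of rank n at every prime of B, g ∈ B a nonzerodivisor
and R = B/gB, so that Spec R is a hypersurface of virtual relative dimension n − 1 over Spec A. Let
J ⊆ R be the annihilator of the n-th exterior power of Ω_{R/A} and Z = V(J) ⊆ Spec R. Then the
underlying set of Z is exactly the set of primes at which R is not smooth over A: for a prime p of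
R, J ⊆ p if and only if the localization R_p is not formally smooth over A. -/
theorem result (A B R : Type u) [CommRing A] [CommRing B] [CommRing R]
    [Algebra A B] [Algebra B R] [Algebra A R] [IsScalarTower A B R] [Algebra.Smooth A B] (n : ℕ)
    (hn : ∀ p : PrimeSpectrum B, Module.rankAtStalk (Ω[B⁄A]) p = n)
    (g : B) (hg : IsSMulRegular B g) (hsurj : Function.Surjective (algebraMap B R))
    (hker : RingHom.ker (algebraMap B R) = Ideal.span {g}) (p : PrimeSpectrum R) :
    (⋀[R]^n (Ω[R⁄A])).annihilator ≤ p.asIdeal ↔ p ∉ Algebra.smoothLocus A R := by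
  classical
  have hann := Groth.Agent.S14477.result A B R n hn g hg hsurj hker
  rw [hann, Ideal.span_le, Set.range_subset_iff]
  let q := p.asIdeal.comap (algebraMap B R)
  let P := Localization.AtPrime q
  let S := Localization.AtPrime p.asIdeal
  haveI : p.asIdeal.LiesOver q := ⟨rfl⟩
  letI : Algebra P S := (Localization.localRingHom q p.asIdeal (algebraMap B R) rfl).toAlgebra
  haveI : IsScalarTower B P S := .of_algebraMap_eq fun b => by
    show _ = Localization.localRingHom q p.asIdeal (algebraMap B R) rfl (algebraMap B P b)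
    rw [Localization.localRingHom_to_map, ← IsScalarTower.algebraMap_apply]
  haveI : IsScalarTower A P S := .of_algebraMap_eq fun a => by
    rw [IsScalarTower.algebraMap_apply A B P, ← IsScalarTower.algebraMap_apply B P S,
      IsScalarTower.algebraMap_apply A R S, IsScalarTower.algebraMap_apply A B R,
      ← IsScalarTower.algebraMap_apply B R S]
  have hg0 : algebraMap B R g = 0 := RingHom.mem_ker.mp (hker ▸ Ideal.mem_span_singleton_self g)
  have h₁ : Function.Surjective (algebraMap P S) := by
    intro z
    obtain ⟨r, ⟨t, ht⟩, rfl⟩ := IsLocalization.exists_mk'_eq p.asIdeal.primeCompl z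
    obtain ⟨b, rfl⟩ := hsurj r
    obtain ⟨c, rfl⟩ := hsurj t
    exact ⟨IsLocalization.mk' P b (⟨c, ht⟩ : q.primeCompl), Localization.localRingHom_mk' _ _ _ _ _ _⟩
  have hkerP : RingHom.ker (algebraMap P S) = Ideal.span {algebraMap B P g} := by
    refine le_antisymm (fun x hx => ?_) ?_
    · obtain ⟨b, t, rfl⟩ := IsLocalization.exists_mk'_eq q.primeCompl x
      have hb : algebraMap R S (algebraMap B R b) = 0 := by
        rw [← IsScalarTower.algebraMap_apply, IsScalarTower.algebraMap_apply B P S,
          ← IsLocalization.mk'_spec P b t, map_mul, RingHom.mem_ker.mp hx, zero_mul]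
      obtain ⟨⟨u, hu⟩, hu0⟩ := (IsLocalization.map_eq_zero_iff p.asIdeal.primeCompl S _).mp hb
      obtain ⟨u', rfl⟩ := hsurj u
      have hub : u' * b ∈ Ideal.span {g} := by
        rw [← hker, RingHom.mem_ker, map_mul]; exact hu0
      rw [IsLocalization.mk'_mem_iff]
      have h2 := Ideal.mem_map_of_mem (algebraMap B P) hub
      rw [Ideal.map_span, Set.image_singleton, map_mul] at h2
      exact (Ideal.unit_mul_mem_iff_mem _ (IsLocalization.map_units P (⟨u', hu⟩ : q.primeCompl))).mp h2
    · rw [Ideal.span_le, Set.singleton_subset_iff, SetLike.mem_coe, RingHom.mem_ker,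
        ← IsScalarTower.algebraMap_apply, IsScalarTower.algebraMap_apply B R S, hg0, map_zero]
  have hreg : ∀ x : P, x * algebraMap B P g = 0 → x = 0 := by
    intro x hx
    obtain ⟨b, t, rfl⟩ := IsLocalization.exists_mk'_eq q.primeCompl x
    rw [mul_comm, IsLocalization.mul_mk'_eq_mk'_of_mul, IsLocalization.mk'_eq_zero_iff] at hx
    obtain ⟨u, hu⟩ := hx
    rw [← mul_assoc, mul_comm (u : B) g, mul_assoc] at hu
    exact (IsLocalization.mk'_eq_zero_iff _ _).mpr ⟨u, hg (by simpa using hu)⟩
  let K := IsLocalRing.ResidueField S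
  haveI : Algebra.FormallyEtale B P := Algebra.FormallyEtale.of_isLocalization q.primeCompl
  haveI : Algebra.FormallySmooth A P := Algebra.FormallySmooth.comp A B P
  haveI : Module.Finite P (Ω[P⁄A]) :=
    Module.Finite.equiv (KaehlerDifferential.isBaseChange_of_formallyEtale A B P).equiv
  haveI : Module.Free P (Ω[P⁄A]) := Module.free_of_flat_of_isLocalRing
  have hK : ∀ b : B, algebraMap B K b = 0 ↔ b ∈ q := fun b => by
    rw [IsScalarTower.algebraMap_apply B R K, IsScalarTower.algebraMap_apply R S K]
    show IsLocalRing.residue S _ = 0 ↔ _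
    rw [IsLocalRing.residue_eq_zero_iff, IsLocalization.AtPrime.to_map_mem_maximal_iff S p.asIdeal]
    rfl
  have hsm : p ∈ Algebra.smoothLocus A R ↔
      Function.Injective (KaehlerDifferential.cotangentComplexBaseChange A S P K) :=
    Algebra.FormallySmooth.iff_injective_cotangentComplexBaseChange P K h₁
      (hkerP ▸ Submodule.fg_span_singleton _)
      (by rw [show RingHom.ker (algebraMap S K) = IsLocalRing.maximalIdeal S from IsLocalRing.ker_residue])
  let gP : RingHom.ker (algebraMap P S) :=
    ⟨algebraMap B P g, hkerP ▸ Ideal.mem_span_singleton_self _⟩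
  have himg : KaehlerDifferential.cotangentComplexBaseChange A S P K ((1 : K) ⊗ₜ[P] gP) =
      (1 : K) ⊗ₜ[P] KaehlerDifferential.D A P (algebraMap B P g) := by
    rw [KaehlerDifferential.cotangentComplexBaseChange_tmul, one_smul]
    rfl
  have hspanK : ∀ z : K ⊗[P] RingHom.ker (algebraMap P S), ∃ a : K, z = a ⊗ₜ[P] gP := by
    intro z
    induction z using TensorProduct.induction_on with
    | zero => exact ⟨0, (TensorProduct.zero_tmul _ _).symm⟩
    | tmul a x =>
      obtain ⟨c, hc⟩ := Ideal.mem_span_singleton'.mp (show (x : P) ∈ Ideal.span {algebraMap B P g} from hkerP ▸ x.2)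
      refine ⟨c • a, ?_⟩
      rw [TensorProduct.smul_tmul]
      congr 1
      exact Subtype.ext hc.symm
    | add x y hx hy =>
      obtain ⟨a, rfl⟩ := hx; obtain ⟨b, rfl⟩ := hy
      exact ⟨a + b, (TensorProduct.add_tmul _ _ _).symm⟩
  have hne : (1 : K) ⊗ₜ[P] gP ≠ 0 := by
    let m : P →ₗ[P] RingHom.ker (algebraMap P S) := LinearMap.toSpanSingleton P _ gP
    have hm : Function.Bijective m := by
      refine ⟨(injective_iff_map_eq_zero m).mpr fun x hx => hreg x (congrArg Subtype.val hx), fun x => ?_⟩
      obtain ⟨c, hc⟩ := Ideal.mem_span_singleton'.mp (show (x : P) ∈ Ideal.span {algebraMap B P g} from hkerP ▸ x.2)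
      exact ⟨c, Subtype.ext hc⟩
    let em := LinearEquiv.ofBijective m hm
    intro h
    have h1 := congrArg (fun z => TensorProduct.rid P K (LinearMap.lTensor K em.symm.toLinearMap z)) h
    have h2 : em.symm gP = 1 := by
      rw [LinearEquiv.symm_apply_eq]
      exact (one_smul P gP).symm
    simp only [LinearMap.lTensor_tmul, LinearEquiv.coe_coe, h2, TensorProduct.rid_tmul, one_smul,
      map_zero] at h1
    exact one_ne_zero h1
  have hkey := key A B n hn g q P K hK
  rw [hsm]
  constructor
  · intro h hinj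
    exact hne (hinj (by rw [himg, map_zero]; exact hkey.mpr fun φ => h φ))
  · intro hinj
    refine hkey.mp ?_
    by_contra hx
    refine hinj ((injective_iff_map_eq_zero _).mpr fun z hz => ?_)
    obtain ⟨a, rfl⟩ := hspanK z
    have ha : a • ((1 : K) ⊗ₜ[P] gP) = a ⊗ₜ[P] gP := by rw [TensorProduct.smul_tmul', smul_eq_mul, mul_one]
    rw [← ha, map_smul, himg] at hz
    rw [(smul_eq_zero.mp hz).resolve_right hx, TensorProduct.zero_tmul]

end Groth.Agent.S19586
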