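import Groth.Statements.S1959
import Mathlib.LinearAlgebra.Matrix.Charpoly.LinearMap
import Mathlib.RingTheory.IntegralClosure.IsIntegralClosure.Basic
import Mathlib.RingTheory.Finiteness.Basic
import Mathlib.Tactic.Ring

set_option autoImplicit false
universe u
open Polynomial
open EtAlg

namespace Groth.Agent.S1959

/-- Let I be an ideal of a ring A, A -> B an integral ring map and b an element of B whose image in B/IB
is idempotent. Then there are d ≥ 1 and a monic polynomial f over A with f(b) = 0 whose reduction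
modulo I is x^d (x - 1)^d. -/
theorem result (A B : Type u) [CommRing A] [CommRing B] [Algebra A B]
    [Algebra.IsIntegral A B] (I : Ideal A) (b : B)
    (hb : IsIdempotentElem (Ideal.Quotient.mk (I.map (algebraMap A B)) b)) :
    ∃ (f : A[X]) (d : ℕ), f.Monic ∧ 1 ≤ d ∧ aeval b f = 0 ∧
      f.map (Ideal.Quotient.mk I) = X ^ d * (X - 1) ^ d := by
  classical
  set x := b * b - b with hx
  have hxI : x ∈ I.map (algebraMap A B) := by
    rw [← Ideal.Quotient.eq_zero_iff_mem, hx, map_sub, map_mul, hb.eq, sub_self]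
  have hx' : x ∈ I • (⊤ : Submodule A B) := by
    rw [Ideal.smul_top_eq_map]; exact hxI
  obtain ⟨s, hs⟩ : ∃ s : Finset B, ∀ S : Subalgebra A B, (s : Set B) ⊆ S →
      ∃ y : S, (y : B) = x ∧ y ∈ I • (⊤ : Submodule A S) := by
    clear_value x
    clear hx hxI
    refine Submodule.smul_induction_on hx' ?_ ?_
    · intro a ha c _
      exact ⟨{c}, fun S hS => ⟨a • ⟨c, hS (by simp)⟩, rfl,
        Submodule.smul_mem_smul ha Submodule.mem_top⟩⟩
    · rintro y z ⟨s₁, h1⟩ ⟨s₂, h2⟩
      refine ⟨s₁ ∪ s₂, fun S hS => ?_⟩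
      obtain ⟨y', rfl, hy⟩ := h1 S (fun c hc => hS (Finset.mem_union_left _ hc))
      obtain ⟨z', rfl, hz⟩ := h2 S (fun c hc => hS (Finset.mem_union_right _ hc))
      exact ⟨y' + z', rfl, add_mem hy hz⟩
  obtain ⟨y, hy, hyI⟩ := hs (Algebra.adjoin A (s : Set B)) Algebra.subset_adjoin
  have : Module.Finite A (Algebra.adjoin A (s : Set B)) :=
    Module.Finite.iff_fg.2 (fg_adjoin_of_finite s.finite_toSet fun c _ => Algebra.IsIntegral.isIntegral c)
  have hr : LinearMap.range (LinearMap.mulLeft A y) ≤ I • ⊤ := by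
    rintro _ ⟨c, rfl⟩
    rw [Ideal.smul_top_eq_map, Submodule.restrictScalars_mem] at hyI ⊢
    exact Ideal.mul_mem_right c _ hyI
  obtain ⟨p, hpm, -, hpc, hp0⟩ :=
    LinearMap.exists_monic_and_natDegree_eq_and_coeff_mem_pow_and_aeval_eq_zero A _ I hr
  have hpy : aeval x p = 0 := by
    have h1 : aeval (Algebra.lmul A (Algebra.adjoin A (s : Set B)) y) p = 0 := hp0
    rw [aeval_algHom_apply] at h1
    have h2 : aeval y p = 0 := by simpa using LinearMap.congr_fun h1 1
    rw [← hy, ← Subalgebra.coe_val, aeval_algHom_apply, h2, map_zero]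
  rcases subsingleton_or_nontrivial A with hA | hA
  · have : Subsingleton B := Module.subsingleton A B
    exact ⟨1, 1, monic_one, le_rfl, Subsingleton.elim _ _, Subsingleton.elim _ _⟩
  have hpq : p.map (Ideal.Quotient.mk I) = X ^ p.natDegree := by
    ext k
    rw [coeff_map, coeff_X_pow]
    split_ifs with h
    · rw [h, hpm.coeff_natDegree, map_one]
    · rw [Ideal.Quotient.eq_zero_iff_mem]
      rcases lt_or_gt_of_ne h with h | h
      · exact Ideal.pow_le_self (Nat.sub_ne_zero_of_lt h) (hpc k)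
      · rw [coeff_eq_zero_of_natDegree_lt h]; exact zero_mem _
  refine ⟨(X ^ 2 - X) * p.comp (X ^ 2 - X), p.natDegree + 1, ?_, Nat.le_add_left _ _, ?_, ?_⟩
  · have hm : (X ^ 2 - X : A[X]).Monic := monic_X_pow_sub (by rw [degree_X]; decide)
    refine hm.mul (hpm.comp hm ?_)
    rw [natDegree_sub_eq_left_of_natDegree_lt (by simp), natDegree_X_pow]; decide
  · rw [map_mul, aeval_comp, map_sub, map_pow, aeval_X, sq, ← hx, hpy, mul_zero]
  · rw [Polynomial.map_mul, map_comp, hpq, Polynomial.map_sub, Polynomial.map_pow, map_X,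
      pow_comp, X_comp, ← pow_succ', ← mul_pow]
    congr 1
    ring

end Groth.Agent.S1959
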