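import Groth.Statements.S19590
import Mathlib.LinearAlgebra.Matrix.GeneralLinearGroup.Defs
import Mathlib.GroupTheory.OrderOfElement
import Mathlib.Data.ZMod.Basic
import Mathlib.Data.Fintype.Pi
import Mathlib.Data.Fintype.Units
import Mathlib.RingTheory.Int.Basic

set_option autoImplicit false
open BddFin

namespace Groth.Agent.S19590

/-- For every n, the orders of the finite subgroups of GL_n(ℤ) are bounded: there is B such that every
finite subgroup of GL_n(ℤ) has at most B elements. -/
theorem result (n : ℕ) :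
    ∃ B : ℕ, ∀ H : Subgroup (Matrix.GeneralLinearGroup (Fin n) ℤ), Finite H → Nat.card H ≤ B := by
  classical
  let red : Matrix.GeneralLinearGroup (Fin n) ℤ →* Matrix.GeneralLinearGroup (Fin n) (ZMod 3) :=
    Units.map (RingHom.mapMatrix (Int.castRingHom (ZMod 3))).toMonoidHom
  refine ⟨Nat.card (Matrix.GeneralLinearGroup (Fin n) (ZMod 3)), fun H hH => ?_⟩
  refine Nat.card_le_card_of_injective (red.comp H.subtype) ?_
  rw [injective_iff_map_eq_one]
  intro g hg
  haveI := hH
  have hfin : IsOfFinOrder g := isOfFinOrder_of_finite g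
  -- it suffices to kill elements of prime order
  by_contra hg1
  obtain ⟨q, hq, hqd⟩ := Nat.exists_prime_and_dvd
    (n := orderOf g) (by rwa [ne_eq, orderOf_eq_one_iff])
  set x := g ^ (orderOf g / q) with hx
  have hxq : x ^ q = 1 := by rw [hx, ← pow_mul, Nat.div_mul_cancel hqd, pow_orderOf_eq_one]
  have hx1 : x ≠ 1 := fun h => by
    have h' := orderOf_dvd_of_pow_eq_one h
    have hlt : orderOf g / q < orderOf g := Nat.div_lt_self hfin.orderOf_pos hq.one_lt
    have hpos : 0 < orderOf g / q := Nat.div_pos (Nat.le_of_dvd hfin.orderOf_pos hqd) hq.pos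
    exact absurd (Nat.le_of_dvd hpos h') (not_le.mpr hlt)
  have hxred : (red.comp H.subtype) x = 1 := by rw [hx, map_pow, hg, one_pow]
  let M : Matrix (Fin n) (Fin n) ℤ := ((x : Matrix.GeneralLinearGroup (Fin n) ℤ) :
    Matrix (Fin n) (Fin n) ℤ)
  have hMq : M ^ q = 1 := by
    have h := congrArg (fun y : H => ((y : Matrix.GeneralLinearGroup (Fin n) ℤ) :
      Matrix (Fin n) (Fin n) ℤ)) hxq
    simpa [M] using h
  have hdiv : ∀ k : ℕ, 1 ≤ k → ∃ N : Matrix (Fin n) (Fin n) ℤ, M = 1 + (3 : ℤ) ^ k • N := by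
    intro k hk
    induction k, hk using Nat.le_induction with
    | base =>
      have hm : ∀ i j, (3 : ℤ) ∣ M i j - (1 : Matrix (Fin n) (Fin n) ℤ) i j := fun i j => by
        have h := congrFun (congrFun (congrArg (fun y : Matrix.GeneralLinearGroup (Fin n) (ZMod 3) => (y : Matrix (Fin n) (Fin n) (ZMod 3))) hxred) i) j
        have h' : ((M i j : ℤ) : ZMod 3) = (1 : Matrix (Fin n) (Fin n) (ZMod 3)) i j := h
        refine (ZMod.intCast_zmod_eq_zero_iff_dvd _ 3).mp ?_
        by_cases hij : i = j <;> simp [Matrix.one_apply, hij] at h' ⊢ <;> simp [h']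
      refine ⟨Matrix.of fun i j => (M i j - (1 : Matrix (Fin n) (Fin n) ℤ) i j) / 3, ?_⟩
      ext i j
      simp only [pow_one, Matrix.add_apply, Matrix.smul_apply, Matrix.of_apply, smul_eq_mul,
        Int.mul_ediv_cancel' (hm i j)]
      ring
    | succ k hk ih =>
      obtain ⟨N, hN⟩ := ih
      have hexp : ∀ m : ℕ, ∃ R : Matrix (Fin n) (Fin n) ℤ,
          M ^ m = 1 + (m : ℤ) • ((3 : ℤ) ^ k • N) +
            ((Nat.choose m 2 : ℤ) * (3 : ℤ) ^ (2 * k)) • (N * N) + (3 : ℤ) ^ (3 * k) • R := by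
        intro m
        induction m with
        | zero => exact ⟨0, by simp⟩
        | succ m ihm =>
          obtain ⟨R, hR⟩ := ihm
          refine ⟨R + (Nat.choose m 2 : ℤ) • (N * N * N) + (3 : ℤ) ^ k • (R * N), ?_⟩
          rw [pow_succ, hR, hN]
          simp only [add_mul, mul_add, mul_one, one_mul, smul_mul_assoc, mul_smul_comm, smul_add,
            smul_smul, Nat.choose_succ_succ', Nat.choose_one_right]
          push_cast
          module
      obtain ⟨R, hR⟩ := hexp q
      rw [hMq] at hR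
      have h3 : ∀ i j, (3 : ℤ) ∣ N i j := fun i j => by
        have h := congrFun (congrFun hR i) j
        simp only [Matrix.add_apply, Matrix.smul_apply, smul_eq_mul] at h
        have hfac : (3 : ℤ) ^ k * ((q : ℤ) * N i j +
            ((Nat.choose q 2 : ℤ) * (3 : ℤ) ^ k) * (N * N) i j + (3 : ℤ) ^ (2 * k) * R i j) = 0 := by
          ring_nf at h ⊢
          linarith
        have hfac' := (mul_eq_zero.mp hfac).resolve_left (pow_ne_zero _ (by norm_num))
        obtain ⟨k', rfl⟩ : ∃ k', k = k' + 1 := ⟨k - 1, by omega⟩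
        by_cases hq3 : q = 3
        · subst hq3
          have : Nat.choose 3 2 = 3 := rfl
          rw [this] at hfac'
          refine ⟨-((3 : ℤ) ^ k' * (N * N) i j) - (3 : ℤ) ^ (2 * k') * R i j, ?_⟩
          push_cast at hfac'
          refine mul_left_cancel₀ (show (3 : ℤ) ≠ 0 by norm_num) ?_
          ring_nf at hfac' ⊢
          linarith
        · have hd : (3 : ℤ) ∣ (q : ℤ) * N i j :=
            ⟨-((Nat.choose q 2 : ℤ) * (3 : ℤ) ^ k' * (N * N) i j) - (3 : ℤ) ^ (2 * k' + 1) * R i j, by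
              ring_nf at hfac' ⊢; linarith⟩
          refine ((show Prime (3 : ℤ) from Nat.prime_iff_prime_int.mp Nat.prime_three).dvd_or_dvd hd).resolve_left fun h => hq3 ?_
          exact ((Nat.prime_dvd_prime_iff_eq Nat.prime_three hq).mp (by exact_mod_cast h)).symm
      refine ⟨Matrix.of fun i j => N i j / 3, ?_⟩
      rw [hN, pow_succ, mul_smul]
      congr 2
      ext i j
      simp [Int.mul_ediv_cancel' (h3 i j)]
  apply hx1
  refine Subtype.ext (Units.ext ?_)
  show M = 1
  ext i j
  by_contra hij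
  obtain ⟨N, hN⟩ := hdiv ((M i j - (1 : Matrix (Fin n) (Fin n) ℤ) i j).natAbs + 1) (by omega)
  have hd : (3 : ℤ) ^ ((M i j - (1 : Matrix (Fin n) (Fin n) ℤ) i j).natAbs + 1) ∣
      M i j - (1 : Matrix (Fin n) (Fin n) ℤ) i j := ⟨N i j, by
    conv_lhs => rw [hN]
    simp [-zsmul_eq_mul, Matrix.smul_apply]⟩
  have h := Nat.le_of_dvd (Int.natAbs_pos.mpr (sub_ne_zero.mpr hij)) (Int.natAbs_dvd_natAbs.mpr hd)
  rw [Int.natAbs_pow] at h
  have h3 := Nat.lt_pow_self (n := (M i j - (1 : Matrix (Fin n) (Fin n) ℤ) i j).natAbs + 1) (show 1 < 3 by norm_num)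
  simp at h
  omega

end Groth.Agent.S19590
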