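import Groth.Statements.S19591
import Mathlib.LinearAlgebra.Dimension.RankNullity
import Mathlib.FieldTheory.Perfect
import Mathlib.LinearAlgebra.FiniteDimensional.Lemmas

set_option autoImplicit false
universe u v
open BddFin

namespace Groth.Agent.S19591

/-- Let K be a perfect field of characteristic 2, V a finite-dimensional K-vector space with dim V > 2
and q a quadratic form on V whose polar bilinear form is non-degenerate. Then q represents zero
non-trivially. (Non-degeneracy of the polar form, which is alternating in characteristic 2, forces
dim V to be even, as the published lemma notes.) -/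
theorem result
    (K : Type u) [Field K] [CharP K 2] [PerfectField K]
    (V : Type v) [AddCommGroup V] [Module K V] [FiniteDimensional K V]
    (hV : 2 < Module.finrank K V) (q : QuadraticForm K V)
    (hq : (QuadraticMap.polarBilin q).Nondegenerate) :
    ∃ v : V, v ≠ 0 ∧ q v = 0 := by
  haveI : Nontrivial V := Module.nontrivial_of_finrank_pos (R := K) (by omega)
  obtain ⟨v, hv⟩ := exists_ne (0 : V)
  by_cases hqv : q v = 0
  · exact ⟨v, hv, hqv⟩
  let L : V →ₗ[K] K := QuadraticMap.polarBilin q v
  have hker : 2 ≤ Module.finrank K (LinearMap.ker L) := by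
    have h1 := LinearMap.finrank_range_add_finrank_ker L
    have h2 : Module.finrank K (LinearMap.range L) ≤ 1 := by
      simpa using Submodule.finrank_le (LinearMap.range L)
    omega
  obtain ⟨w, hwL, hw⟩ : ∃ w ∈ LinearMap.ker L, w ∉ Submodule.span K {v} := by
    refine SetLike.not_le_iff_exists.mp fun h => ?_
    have h3 := Submodule.finrank_mono h
    rw [finrank_span_singleton hv] at h3
    omega
  haveI : ExpChar K 2 := ExpChar.prime Nat.prime_two
  haveI : PerfectRing K 2 := PerfectField.toPerfectRing 2
  obtain ⟨a, ha⟩ := (bijective_frobenius K 2).2 (q w / q v)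
  refine ⟨w + a • v, fun h => hw ?_, ?_⟩
  · rw [eq_neg_of_add_eq_zero_left h]
    exact Submodule.neg_mem _ (Submodule.smul_mem _ _ (Submodule.mem_span_singleton_self v))
  · have hp : QuadraticMap.polar q v w = 0 := hwL
    rw [QuadraticMap.map_add q, QuadraticMap.polar_comm, QuadraticMap.polar_smul_left, hp,
      QuadraticMap.map_smul, smul_zero, add_zero, smul_eq_mul, ← sq,
      show a ^ 2 = q w / q v from ha, div_mul_cancel₀ _ hqv, CharTwo.add_self_eq_zero]

end Groth.Agent.S19591
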