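import Groth.Statements.S19593
import Groth.Agent.Lib.SymAlg.VA
import Mathlib.Algebra.Module.Submodule.Union

set_option autoImplicit false
universe u
open CategoryTheory AlgebraicGeometry
open PicF

namespace Groth.Agent.S19593

/-- Let k be an infinite field, Y a scheme proper over k with a relatively very ample O_Y-module A (the
pullback of O(1) along an immersion of Y into the Proj of a symmetric algebra over k), and y_1, …,
y_m finitely many points of Y. Then some global section of A generates A at every y_i. (The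
published statement takes Y projective over k and A a very ample line bundle; here Y is proper over
k and A very ample relative to Y → Spec k, which makes Y projective.) -/
theorem result
    (k : Type u) [Field k] [Infinite k] (Y : Scheme.{u}) (f : Y ⟶ Spec (CommRingCat.of k)) [IsProper f]
    (A : Y.Modules) (hA : RelProj.IsRelVeryAmple f A)
    (ι : Type) [Finite ι] (y : ι → ↥Y) :
    ∃ s : Coh.structureModule Y ⟶ A, ∀ i : ι, y i ∈ CohB1.genLocus A s := by
  obtain ⟨E, hE, 𝒮, j, hS, P, p, chart, hP, O1, lam, hO, i, hi, hcomp, ⟨φ⟩⟩ := hA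
  have : E.IsQuasicoherent := hE

  have hV : IsAffineOpen (⊤ : (Spec (CommRingCat.of k)).Opens) := isAffineOpen_top _
  let u : Y ⟶ ((f ⁻¹ᵁ (⊤ : (Spec (CommRingCat.of k)).Opens) : Y.Opens) : Scheme.{u}) := Y.topIso.inv
  have hu : u ≫ (f ⁻¹ᵁ (⊤ : (Spec (CommRingCat.of k)).Opens)).ι = 𝟙 Y := Y.topIso.inv_hom_id
  let k1 : Y ⟶ Proj (𝒮.deg ⊤ hV) := u ≫ Groth.Agent.Lib.SymAlg.VA.kMap (chart := chart) i hcomp hV
  have hk1 : k1 ≫ RelProj.emb p chart ⊤ hV = i := by
    rw [Category.assoc, Groth.Agent.Lib.SymAlg.VA.kMap_emb, reassoc_of% hu]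
  obtain ⟨ε⟩ := Groth.Agent.H58VA.RelVA.pullback_emb_iso hO hV
  let key : (Scheme.Modules.pullback k1).obj (GrTwist.twist (𝒮.deg ⊤ hV) 1) ≅ A :=
    (Scheme.Modules.pullback k1).mapIso ε.symm ≪≫
      (Scheme.Modules.pullbackComp k1 (RelProj.emb p chart ⊤ hV)).app O1 ≪≫
      (Scheme.Modules.pullbackCongr hk1).app O1 ≪≫ φ.symm
  have hcov := Groth.Agent.H58VA.RelVA.exists_degOne_notMem hS hV
  suffices h : ∃ g ∈ 𝒮.deg ⊤ hV 1, ∀ a, g ∉ ((k1 (y a) : ProjectiveSpectrum (𝒮.deg ⊤ hV))).asHomogeneousIdeal by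
    obtain ⟨g, hg, hgy⟩ := h
    obtain ⟨s, hs⟩ := Groth.Agent.Lib.SymAlg.VA.exists_section hcov k1 hg
    refine ⟨s ≫ key.hom, fun a => ?_⟩
    rw [Groth.Agent.Lib.Ample.GenLocus.genLocus_comp_iso, hs]
    exact hgy a
  let R := 𝒮.presheaf.obj (Opposite.op (⊤ : (Spec (CommRingCat.of k)).Opens))
  let ρ : k →+* R := (𝒮.str.app (Opposite.op ⊤)).hom.comp (Scheme.ΓSpecIso (CommRingCat.of k)).inv.hom
  letI : Module k R := ρ.toAlgebra.toModule
  have hsm : ∀ (c : k) (a : R), c • a = ρ c * a := fun c a => rfl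
  let D : Submodule k R :=
    { carrier := {a | a ∈ 𝒮.deg ⊤ hV 1}
      zero_mem' := (zero_mem (𝒮.deg ⊤ hV 1) : _)
      add_mem' := fun {a b} h h' => (add_mem (S := AddSubgroup _) (show a ∈ 𝒮.deg ⊤ hV 1 from h) (show b ∈ 𝒮.deg ⊤ hV 1 from h') : a + b ∈ 𝒮.deg ⊤ hV 1)
      smul_mem' := fun c a ha => by
        show c • a ∈ 𝒮.deg ⊤ hV 1
        have h01 := SetLike.mul_mem_graded (𝒮.str_mem ⊤ hV ((Scheme.ΓSpecIso (CommRingCat.of k)).inv.hom c)) ha
        rw [zero_add] at h01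
        exact h01 }
  let W : ι → Submodule k D := fun a =>
    { carrier := {d | (d : R) ∈ ((k1 (y a) : ProjectiveSpectrum (𝒮.deg ⊤ hV))).asHomogeneousIdeal.toIdeal}
      zero_mem' := Ideal.zero_mem _
      add_mem' := fun h h' => Ideal.add_mem _ h h'
      smul_mem' := fun c d hd => by
        show ((c • d : D) : R) ∈ ((k1 (y a) : ProjectiveSpectrum (𝒮.deg ⊤ hV))).asHomogeneousIdeal.toIdeal
        rw [Submodule.coe_smul, hsm]
        exact Ideal.mul_mem_left _ _ hd }
  obtain ⟨d, hd⟩ := Submodule.exists_forall_notMem_of_forall_ne_top W fun a h => by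
    obtain ⟨g, hg, hgx⟩ := hcov (k1 (y a))
    exact hgx ((h.ge Submodule.mem_top : (⟨g, hg⟩ : D) ∈ W a))
  exact ⟨d.1, d.2, hd⟩

end Groth.Agent.S19593
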