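import Groth.Statements.S19606
import Groth.Agent.Lib.ClSub.Quot
import Mathlib.Tactic.LinearCombination

open CategoryTheory CategoryTheory.Limits AlgebraicGeometry
open Groth.Agent.Lib.ClSub.Quot Groth.Agent.Lib.ClSub.Basis Groth.Agent.Lib.ClSub.Sections

universe v

/-- Two sections of a biproduct agree when their components do. -/
theorem Groth.Agent.S19606.biprod_app_ext {X : Scheme.{v}} {M N : X.Modules} (U : X.Opens)
    {a b : Γ(M ⊞ N, U)} (h₁ : (biprod.fst : M ⊞ N ⟶ M).app U a = (biprod.fst : M ⊞ N ⟶ M).app U b)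
    (h₂ : (biprod.snd : M ⊞ N ⟶ N).app U a = (biprod.snd : M ⊞ N ⟶ N).app U b) : a = b := by
  have key : ∀ c : Γ(M ⊞ N, U), (biprod.inl : M ⟶ M ⊞ N).app U ((biprod.fst : M ⊞ N ⟶ M).app U c) +
      (biprod.inr : N ⟶ M ⊞ N).app U ((biprod.snd : M ⊞ N ⟶ N).app U c) = c := fun c =>
    congr(($(biprod.total (X := M) (Y := N))).app U c)
  rw [← key a, ← key b, h₁, h₂]

set_option autoImplicit false
universe u
open CategoryTheory CategoryTheory.Limits AlgebraicGeometry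
open ClSub

namespace Groth.Agent.S19606

/-- Let X be a scheme and I₁, I₂ quasi-coherent ideal sheaves with I₁ ⊓ I₂ = 0, cutting out closed
subschemes X₁, X₂ and X₁ ∩ X₂ (ideal I₁ + I₂). Then 0 → O_X → O_X/I₁ ⊕ O_X/I₂ → O_X/(I₁ + I₂) → 0 is
an exact sequence of O_X-modules, the maps being the two restrictions and the difference of the
restrictions q₁, q₂ (the module maps compatible with the quotient maps from O_X). The published
statement is for a locally free sheaf E on a reduced scheme with two irreducible components X₁, X₂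
(whose ideals meet in zero); this row is the case E = O_X for any two ideals with zero intersection,
which is what the local argument uses. -/
theorem result (X : Scheme.{u}) (I₁ I₂ : X.IdealSheafData)
    (h : I₁ ⊓ I₂ = ⊥)
    (q₁ : ClSub.quotMod I₁ ⟶ ClSub.quotMod (I₁ ⊔ I₂)) (q₂ : ClSub.quotMod I₂ ⟶ ClSub.quotMod (I₁ ⊔ I₂))
    (hq₁ : ClSub.toSubscheme I₁ ≫ q₁ = ClSub.toSubscheme (I₁ ⊔ I₂))
    (hq₂ : ClSub.toSubscheme I₂ ≫ q₂ = ClSub.toSubscheme (I₁ ⊔ I₂)) :
    Epi (biprod.desc q₁ (-q₂)) ∧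
      ∃ w : biprod.lift (ClSub.toSubscheme I₁) (ClSub.toSubscheme I₂) ≫ biprod.desc q₁ (-q₂) = 0,
        Nonempty (IsLimit (KernelFork.ofι (biprod.lift (ClSub.toSubscheme I₁) (ClSub.toSubscheme I₂)) w)) := by
  have hw : biprod.lift (ClSub.toSubscheme I₁) (ClSub.toSubscheme I₂) ≫ biprod.desc q₁ (-q₂) = 0 := by
    rw [biprod.lift_desc, Preadditive.comp_neg, hq₁, hq₂, add_neg_cancel]
  haveI : Epi (ClSub.toSubscheme I₁ ≫ q₁) := hq₁ ▸ epi_toSubscheme _
  haveI : Epi q₁ := epi_of_epi (ClSub.toSubscheme I₁) q₁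
  haveI hepi : Epi (biprod.desc q₁ (-q₂)) :=
    epi_of_epi_fac (f := biprod.inl) (biprod.inl_desc q₁ (-q₂))
  refine ⟨hepi, hw, ?_⟩
  suffices IsIso (kernel.lift (biprod.desc q₁ (-q₂)) _ hw) from
    ⟨IsLimit.ofIsoLimit (kernelIsKernel _)
      (Fork.ext (asIso (kernel.lift (biprod.desc q₁ (-q₂)) _ hw)).symm (by
        simp only [Iso.symm_hom, asIso_inv, IsIso.inv_comp_eq, Fork.ι_ofι]
        exact (kernel.lift_ι _ _ _).symm))⟩
  refine isIso_of_bijective_affine _ fun U => ?_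
  have hs : ∀ (a : Γ(X, U.1)), (kernel.ι (biprod.desc q₁ (-q₂))).app U.1
      ((kernel.lift (biprod.desc q₁ (-q₂)) _ hw).app U.1 a) =
      (biprod.lift (ClSub.toSubscheme I₁) (ClSub.toSubscheme I₂)).app U.1 a := fun a =>
    congr(($(kernel.lift_ι (biprod.desc q₁ (-q₂)) _ hw)).app U.1 a)
  have hfst : ∀ (a : Γ(X, U.1)), (biprod.fst : ClSub.quotMod I₁ ⊞ ClSub.quotMod I₂ ⟶ _).app U.1
      ((biprod.lift (ClSub.toSubscheme I₁) (ClSub.toSubscheme I₂)).app U.1 a) =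
      I₁.subschemeι.app U.1 a := fun a =>
    congr(($(biprod.lift_fst (ClSub.toSubscheme I₁) (ClSub.toSubscheme I₂))).app U.1 a)
  have hsnd : ∀ (a : Γ(X, U.1)), (biprod.snd : ClSub.quotMod I₁ ⊞ ClSub.quotMod I₂ ⟶ _).app U.1
      ((biprod.lift (ClSub.toSubscheme I₁) (ClSub.toSubscheme I₂)).app U.1 a) =
      I₂.subschemeι.app U.1 a := fun a =>
    congr(($(biprod.lift_snd (ClSub.toSubscheme I₁) (ClSub.toSubscheme I₂))).app U.1 a)
  constructor
  · refine (injective_iff_map_eq_zero ((kernel.lift (biprod.desc q₁ (-q₂)) _ hw).app U.1).hom).2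
      fun a ha => ?_
    have h0 : (biprod.lift (ClSub.toSubscheme I₁) (ClSub.toSubscheme I₂)).app U.1 a = 0 := by
      rw [← hs a]
      exact (congrArg ((kernel.ι (biprod.desc q₁ (-q₂))).app U.1).hom ha).trans (map_zero _)
    have e₁ := hfst a
    have e₂ := hsnd a
    rw [h0, map_zero] at e₁ e₂
    have m₁ : a ∈ I₁.ideal U := by rw [← I₁.ker_subschemeι_app U]; exact e₁.symm
    have m₂ : a ∈ I₂.ideal U := by rw [← I₂.ker_subschemeι_app U]; exact e₂.symm
    have hm : a ∈ (I₁ ⊓ I₂).ideal U := ⟨m₁, m₂⟩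
    rw [h] at hm
    rw [Scheme.IdealSheafData.ideal_bot] at hm
    exact (Submodule.mem_bot (R := Γ(X, U.1))).1 hm
  · intro y
    let z := (kernel.ι (biprod.desc q₁ (-q₂))).app U.1 y
    have hz : (biprod.desc q₁ (-q₂)).app U.1 z = 0 := app_kernel_ι_app _ U.1 y
    obtain ⟨a₁, ha₁⟩ := I₁.subschemeι_app_surjective U
      ((biprod.fst : ClSub.quotMod I₁ ⊞ ClSub.quotMod I₂ ⟶ _).app U.1 z)
    obtain ⟨a₂, ha₂⟩ := I₂.subschemeι_app_surjective U
      ((biprod.snd : ClSub.quotMod I₁ ⊞ ClSub.quotMod I₂ ⟶ _).app U.1 z)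
    have hd : biprod.desc q₁ (-q₂) = biprod.fst ≫ q₁ + biprod.snd ≫ (-q₂) := by
      exact biprod.desc_eq
    have hsub : (I₁ ⊔ I₂).subschemeι.app U.1 (a₁ - a₂) = 0 := by
      have r₁ : q₁.app U.1 (I₁.subschemeι.app U.1 a₁) = (I₁ ⊔ I₂).subschemeι.app U.1 a₁ :=
        congr(($hq₁).app U.1 a₁)
      have r₂ : q₂.app U.1 (I₂.subschemeι.app U.1 a₂) = (I₁ ⊔ I₂).subschemeι.app U.1 a₂ :=
        congr(($hq₂).app U.1 a₂)
      rw [ha₁] at r₁
      rw [ha₂] at r₂
      rw [hd, Preadditive.comp_neg] at hz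
      refine (map_sub ((I₁ ⊔ I₂).subschemeι.app U.1).hom a₁ a₂).trans (Eq.trans ?_ hz)
      refine (congrArg₂ (fun p q => p - q) r₁.symm r₂.symm).trans ?_
      exact sub_eq_add_neg _ _
    have hm : a₁ - a₂ ∈ I₁.ideal U ⊔ I₂.ideal U := by
      have : a₁ - a₂ ∈ (I₁ ⊔ I₂).ideal U := by
        rw [← (I₁ ⊔ I₂).ker_subschemeι_app U]; exact hsub
      exact this
    obtain ⟨i₁, hi₁, i₂, hi₂, hii⟩ := Submodule.mem_sup.1 hm
    rw [← I₁.ker_subschemeι_app U] at hi₁
    rw [← I₂.ker_subschemeι_app U] at hi₂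
    refine ⟨a₁ - i₁, kernel_ι_app_injective _ U.1 ((hs _).trans ?_)⟩
    refine biprod_app_ext U.1 ((hfst _).trans ?_) ((hsnd _).trans ?_)
    · refine (map_sub (I₁.subschemeι.app U.1).hom a₁ i₁).trans ?_
      exact (congrArg₂ (fun p q => p - q) ha₁ hi₁).trans (sub_zero _)
    · have e : a₁ - i₁ = a₂ + i₂ := by linear_combination -hii
      rw [e]
      refine (map_add (I₂.subschemeι.app U.1).hom a₂ i₂).trans ?_
      exact (congrArg₂ (fun p q => p + q) ha₂ hi₂).trans (add_zero _)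

end Groth.Agent.S19606
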