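import Groth.Statements.S19609
import Mathlib.RingTheory.AdicCompletion.Basic
import Mathlib.Tactic.LinearCombination
-- import your own Groth.Agent.* helpers here

set_option autoImplicit false
universe u
open CartMod

namespace Groth.Agent.S19609

/-- Let p be a prime and u : A → B a ring homomorphism between commutative rings which are complete and
separated for the p-adic topology and have no p-torsion (flat over the p-adic base). If u induces a
bijection A/pA → B/pB (injectivity: u a ∈ pB forces a ∈ pA; surjectivity: every b ∈ B is congruent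
to some u a modulo pB), then u is bijective. (The published statement is for a morphism of flat
p-adic formal schemes over the Witt vectors of a perfect field: if its special fibre is an
isomorphism, so is the morphism; this row is its affine, ring-level case.) -/
theorem result (p : ℕ) [Fact p.Prime]
    {A B : Type u} [CommRing A] [CommRing B]
    [IsAdicComplete (Ideal.span {(p : A)}) A] [IsAdicComplete (Ideal.span {(p : B)}) B]
    (hA : IsSMulRegular A (p : A)) (hB : IsSMulRegular B (p : B)) (u : A →+* B)
    (hinj : ∀ a : A, u a ∈ Ideal.span {(p : B)} → a ∈ Ideal.span {(p : A)})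
    (hsurj : ∀ b : B, ∃ a : A, b - u a ∈ Ideal.span {(p : B)}) :
    Function.Bijective u := by
  set IA := Ideal.span {(p : A)} with hIA
  set IB := Ideal.span {(p : B)} with hIB
  have hpu : u (p : A) = (p : B) := map_natCast u p
  have hzero : ∀ (n : ℕ) (a : A), u a = 0 → a ∈ IA ^ n := by
    intro n
    induction n with
    | zero => intro a _; simp
    | succ n ih =>
      intro a ha
      obtain ⟨a', rfl⟩ := Ideal.mem_span_singleton.1 (hinj a (by rw [ha]; exact zero_mem _))
      have h1 : u a' = 0 := hB.eq_iff.1 (by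
        show (p : B) • u a' = (p : B) • 0
        rw [smul_zero, smul_eq_mul, ← hpu, ← map_mul, ha])
      rw [pow_succ']
      exact Ideal.mul_mem_mul (Ideal.mem_span_singleton_self _) (ih a' h1)
  refine ⟨(injective_iff_map_eq_zero u).2 fun a ha => IsHausdorff.haus' (I := IA) a fun n => ?_, fun b => ?_⟩
  · rw [SModEq.zero, smul_eq_mul, Ideal.mul_top]
    exact hzero n a ha
  -- successive approximation
  have hstep : ∀ (n : ℕ) (a : A), b - u a ∈ IB ^ n → ∃ a', a' - a ∈ IA ^ n ∧ b - u a' ∈ IB ^ (n + 1) := by
    intro n a ha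
    rw [hIB, Ideal.span_singleton_pow, Ideal.mem_span_singleton] at ha
    obtain ⟨c, hc⟩ := ha
    obtain ⟨a₁, ha₁⟩ := hsurj c
    obtain ⟨c₁, hc₁⟩ := Ideal.mem_span_singleton.1 ha₁
    refine ⟨a + (p : A) ^ n * a₁, ?_, ?_⟩
    · rw [hIA, Ideal.span_singleton_pow, Ideal.mem_span_singleton]
      exact ⟨a₁, by ring⟩
    · rw [hIB, Ideal.span_singleton_pow, Ideal.mem_span_singleton]
      exact ⟨c₁, by
        rw [map_add, map_mul, map_pow, hpu]
        linear_combination hc + (p : B) ^ n * hc₁⟩
  choose next hnext1 hnext2 using hstep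
  let a : ∀ n, {x : A // b - u x ∈ IB ^ n} := fun n =>
    Nat.rec ⟨0, by simp⟩ (fun n x => ⟨next n x.1 x.2, hnext2 n x.1 x.2⟩) n
  have hcau : ∀ n, (a (n + 1)).1 - (a n).1 ∈ IA ^ n := fun n => hnext1 n _ _
  have hcau' : ∀ {m n}, m ≤ n → (a n).1 - (a m).1 ∈ IA ^ m := by
    intro m n hmn
    induction n, hmn using Nat.le_induction with
    | base => simp
    | succ n hmn ih =>
      have := add_mem (Ideal.pow_le_pow_right hmn (hcau n)) ih
      rwa [sub_add_sub_cancel] at this
  obtain ⟨L, hL⟩ := IsPrecomplete.prec (I := IA) inferInstance (f := fun n => (a n).1) (fun {m n} hmn => by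
    rw [SModEq.sub_mem, smul_eq_mul, Ideal.mul_top, ← neg_mem_iff, neg_sub]
    exact hcau' hmn)
  refine ⟨L, (sub_eq_zero.1 (IsHausdorff.haus' (I := IB) _ fun n => ?_)).symm⟩
  rw [SModEq.zero, smul_eq_mul, Ideal.mul_top]
  have h1 := hL n
  rw [SModEq.sub_mem, smul_eq_mul, Ideal.mul_top] at h1
  have h2 : u ((a n).1 - L) ∈ IB ^ n := by
    have := Ideal.mem_map_of_mem u h1
    rwa [Ideal.map_pow, hIA, Ideal.map_span, Set.image_singleton, hpu, ← hIB] at this
  have h3 := add_mem (a n).2 h2
  rw [map_sub, sub_add_sub_cancel] at h3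
  exact h3

end Groth.Agent.S19609
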