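import Groth.Statements.S19610
import Groth.Agent.Lib.LocalFlat.Basic
-- import your own Groth.Agent.* helpers here

set_option autoImplicit false
universe u
open scoped TensorProduct
open CartMod

namespace Groth.Agent.S19610

theorem rTensor_injective_of_lTensor {A : Type u} [CommRing A] (B : Type u) [AddCommGroup B] [Module A B]
    {S : Type u} [CommRing S] [Algebra A S] {N N' : Type u} [AddCommGroup N] [Module A N] [Module S N]
    [IsScalarTower A S N] [AddCommGroup N'] [Module A N'] [Module S N'] [IsScalarTower A S N']
    (f : N →ₗ[S] N') (hf : Function.Injective ((f.restrictScalars A).lTensor B)) :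
    Function.Injective (f.rTensor (S ⊗[A] B)) := by
  let c := TensorProduct.AlgebraTensorModule.cancelBaseChange A S S N B
  let c' := TensorProduct.AlgebraTensorModule.cancelBaseChange A S S N' B
  have key : c' ∘ f.rTensor (S ⊗[A] B) = (f.restrictScalars A).rTensor B ∘ c := by
    funext x
    induction x using TensorProduct.induction_on with
    | zero => simp
    | add x y hx hy => simp only [Function.comp_apply, map_add] at *; rw [hx, hy]
    | tmul j sb =>
      induction sb using TensorProduct.induction_on with
      | zero => simp
      | tmul s b => simp [c, c']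
      | add x y hx hy => simp only [Function.comp_apply, TensorProduct.tmul_add, map_add] at *; rw [hx, hy]
  have h2 : Function.Injective (c' ∘ f.rTensor (S ⊗[A] B)) := by
    rw [key]
    refine Function.Injective.comp ?_ c.injective
    have e : ((f.restrictScalars A).rTensor B : _ → _) = (TensorProduct.comm A B N') ∘
        (f.restrictScalars A).lTensor B ∘ (TensorProduct.comm A N B) := by
      funext x
      induction x using TensorProduct.induction_on with
      | zero => simp
      | tmul a b => simp
      | add x y hx hy => simp only [Function.comp_apply, map_add] at *; rw [hx, hy]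
    rw [e]
    exact (TensorProduct.comm A _ _).injective.comp (hf.comp (TensorProduct.comm A _ _).injective)
  exact h2.of_comp

/-- Let p be a prime and B a commutative algebra over the commutative ring A, both complete and
separated for the p-adic topology and both without p-torsion (flat over the p-adic base). If B/pB is
flat over A/pA, then B/p^nB is flat over A/p^nA for every n ≥ 1 (the quotients are written as base
changes (A/p^n) ⊗_A B). (The published statement is for a morphism of flat p-adic formal schemes
over the Witt vectors of a perfect field: if its special fibre is flat, so are the induced morphisms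
of schemes modulo every power of p; this row is its affine, ring-level case.) -/
theorem result (p : ℕ) [Fact p.Prime]
    {A B : Type u} [CommRing A] [CommRing B] [Algebra A B]
    [IsAdicComplete (Ideal.span {(p : A)}) A] [IsAdicComplete (Ideal.span {(p : B)}) B]
    (hA : IsSMulRegular A (p : A)) (hB : IsSMulRegular B (p : B))
    (h : Module.Flat (A ⧸ Ideal.span {(p : A)}) ((A ⧸ Ideal.span {(p : A)}) ⊗[A] B))
    (n : ℕ) (hn : 1 ≤ n) :
    Module.Flat (A ⧸ (Ideal.span {(p : A)} ^ n)) ((A ⧸ (Ideal.span {(p : A)} ^ n)) ⊗[A] B) := by
  open Groth.Agent.Lib.LocalFlat.Basic in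
  set I := Ideal.span {(p : A)} with hI
  have hB' : Function.Injective fun b : B => (p : A) • b := fun b c hbc => hB (by
    simpa [Algebra.smul_def] using hbc)
  have hII : Function.Injective (I.subtype.lTensor B) := by
    let m : A →ₗ[A] I := LinearMap.toSpanSingleton A I ⟨(p : A), Ideal.mem_span_singleton_self _⟩
    have hm : Function.Surjective m := by
      rintro ⟨x, hx⟩
      obtain ⟨c, rfl⟩ := Ideal.mem_span_singleton.1 hx
      exact ⟨c, Subtype.ext (by simp [m, mul_comm])⟩
    intro x y hxy
    obtain ⟨x, rfl⟩ := LinearMap.lTensor_surjective B hm x
    obtain ⟨y, rfl⟩ := LinearMap.lTensor_surjective B hm y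
    obtain ⟨x, rfl⟩ := (TensorProduct.rid A B).symm.surjective x
    obtain ⟨y, rfl⟩ := (TensorProduct.rid A B).symm.surjective y
    have key : ∀ b : B, TensorProduct.rid A B (I.subtype.lTensor B (m.lTensor B ((TensorProduct.rid A B).symm b))) =
        (p : A) • b := fun b => by simp [m]
    have := congrArg (TensorProduct.rid A B) hxy
    rw [key, key] at this
    rw [hB' this]
  have := h
  rw [Module.Flat.iff_rTensor_injective]
  intro J hJ
  let S := A ⧸ I ^ n
  have htor : Tor1Zero A B (S ⧸ J) := Tor1Zero.of_pow_smul_eq_zero (I := I) hII n fun r hr x => by
    obtain ⟨x, rfl⟩ := Submodule.Quotient.mk_surjective _ x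
    rw [← Submodule.Quotient.mk_smul, Algebra.smul_def,
      show algebraMap A S r = 0 from Ideal.Quotient.eq_zero_iff_mem.2 hr, zero_mul, Submodule.Quotient.mk_zero]
  have hinj := htor J S (J.subtype.restrictScalars A) (J.mkQ.restrictScalars A) J.injective_subtype
    (LinearMap.exact_subtype_mkQ J) J.mkQ_surjective
  exact rTensor_injective_of_lTensor (A := A) B J.subtype hinj

end Groth.Agent.S19610
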