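import Groth.Statements.S19611
import Mathlib.AlgebraicGeometry.Morphisms.ClosedImmersion
import Mathlib.Geometry.RingedSpace.SheafedSpace
-- import your own Groth.Agent.* helpers here

set_option autoImplicit false
universe u
open CategoryTheory AlgebraicGeometry
open CartMod

namespace Groth.Agent.S19611

/-- For a prime p and a scheme Y of characteristic p, write Y♭ for the scheme-theoretic image of the
absolute Frobenius F_Y : Y → Y, i.e. the closed subscheme of Y defined by the sections of O_Y whose
p-th power vanishes, and Y → Y♭ for the canonical morphism through which F_Y factors. Then Y → Y♭ is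
an epimorphism of schemes: two morphisms g₁, g₂ from Y♭ to a scheme Z with equal composites Y → Y♭ →
Z are equal. (The published statement is for k-morphisms g₁, g₂ from Y♭ to a k-scheme Z over a
perfect field k of characteristic p, compared after Frobenius twist through Y → (Y♭)'; this row asks
right-cancellation against morphisms to every scheme Z, which is equivalent to it for k-morphisms.) -/
theorem result (p : ℕ) [Fact p.Prime] (Y : Scheme.{u}) [FrobSch.IsCharP Y p] :
    Epi (FrobSch.frob Y p).toImage := by
  have : QuasiCompact (FrobSch.frob Y p) := ⟨fun U _ hU => by simpa using hU⟩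
  have hs : Function.Surjective (FrobSch.frob Y p).toImage := fun z => by
    refine ⟨(FrobSch.frob Y p).imageι z, (FrobSch.frob Y p).imageι.isClosedEmbedding.injective ?_⟩
    rw [← Scheme.Hom.comp_apply, Scheme.Hom.toImage_imageι, FrobSch.frob_apply]
  have hind : Topology.IsInducing (FrobSch.frob Y p).toImage := by
    refine ((FrobSch.frob Y p).imageι.isEmbedding.isInducing.of_comp_iff).1 ?_
    have : ⇑(FrobSch.frob Y p).imageι ∘ ⇑(FrobSch.frob Y p).toImage = id := funext fun y => by
      simp only [Function.comp_apply, id_eq]
      rw [← Scheme.Hom.comp_apply, Scheme.Hom.toImage_imageι, FrobSch.frob_apply]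
    rw [this]
    exact Topology.IsInducing.id
  apply CategoryTheory.Functor.epi_of_epi_map (Scheme.forgetToLocallyRingedSpace)
  apply CategoryTheory.Functor.epi_of_epi_map (LocallyRingedSpace.forgetToSheafedSpace)
  apply SheafedSpace.epi_of_base_surjective_of_stalk_mono _ hs
  intro x
  apply ConcreteCategory.mono_of_injective
  change Function.Injective (CommRingCat.Hom.hom (((TopCat.Presheaf.stalkFunctor CommRingCat
    ((FrobSch.frob Y p).toImage x)).map (FrobSch.frob Y p).toImage.c) ≫ Y.presheaf.stalkPushforward _ _ x))
  have h2 := (FrobSch.frob Y p).stalkFunctor_toImage_injective ((FrobSch.frob Y p).toImage x)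
  have := TopCat.Presheaf.stalkPushforward.stalkPushforward_iso_of_isInducing CommRingCat
    (f := (FrobSch.frob Y p).toImage.base) hind Y.presheaf x
  exact (((ConcreteCategory.isIso_iff_bijective _).mp this).1.comp h2 :)

end Groth.Agent.S19611
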