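import Groth.Statements.S19612
import Mathlib.RingTheory.Flat.TorsionFree
import Mathlib.RingTheory.WittVector.DiscreteValuationRing
import Mathlib.RingTheory.WittVector.Domain
import Mathlib.RingTheory.Flat.Stability
import Mathlib.LinearAlgebra.TensorProduct.Quotient
import Mathlib.RingTheory.AdicCompletion.Basic
-- import your own Groth.Agent.* helpers here

set_option autoImplicit false
universe u
open scoped TensorProduct
open CartMod

namespace Groth.Agent.S19612

/-- Let k be a perfect field of characteristic p, W = W(k) the ring of Witt vectors of k, and A a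
commutative W-algebra which is complete and separated for the p-adic topology (an adic W-algebra).
Then flatness of A over W is equivalent to flatness of A/p^nA = (W/p^nW) ⊗_W A over W/p^nW for every
n ≥ 1. -/
theorem result (p : ℕ) [Fact p.Prime] (k : Type u) [Field k]
    [CharP k p] [PerfectRing k p] (A : Type u) [CommRing A] [Algebra (WittVector p k) A]
    [IsAdicComplete (Ideal.span {(p : WittVector p k)}) A] :
    Module.Flat (WittVector p k) A ↔
      ∀ n : ℕ, 1 ≤ n →
        Module.Flat (WittVector p k ⧸ (Ideal.span {(p : WittVector p k)} ^ n))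
          ((WittVector p k ⧸ (Ideal.span {(p : WittVector p k)} ^ n)) ⊗[WittVector p k] A) := by
  refine ⟨fun _ n _ => inferInstance, fun h => ?_⟩
  let W := WittVector p k
  let I := Ideal.span {(p : W)}
  have hp0 : (p : W) ≠ 0 := WittVector.p_nonzero p k
  have htor : ∀ x : A, (p : W) • x = 0 → x = 0 := by
    intro x hx
    refine IsHausdorff.haus' (I := I) x fun n => SModEq.zero.2 ?_
    rcases Nat.eq_zero_or_pos n with rfl | hn
    · rw [pow_zero, Ideal.one_eq_top, Submodule.top_smul]; trivial
    let S := W ⧸ I ^ (n + 1)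
    have hflat := h (n + 1) (by omega)
    let q : W →+* S := Ideal.Quotient.mk _
    let μ : S →ₗ[S] S := LinearMap.lsmul S S (q p)
    let ν : S →ₗ[S] S := LinearMap.lsmul S S (q p ^ n)
    have hex : Function.Exact ν μ := by
      intro z
      obtain ⟨z, rfl⟩ := Ideal.Quotient.mk_surjective z
      constructor
      · intro hz
        have h1 : (p : W) * z ∈ I ^ (n + 1) := Ideal.Quotient.eq_zero_iff_mem.1 hz
        rw [Ideal.span_singleton_pow, Ideal.mem_span_singleton] at h1
        obtain ⟨c, hc⟩ := h1
        refine ⟨q c, ?_⟩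
        have : z = (p : W) ^ n * c := mul_left_cancel₀ hp0 (by rw [hc]; ring)
        show q p ^ n * q c = q z
        rw [this, map_mul, map_pow]
      · rintro ⟨w, hw⟩
        rw [← hw]
        show q p * (q p ^ n * w) = 0
        rw [← mul_assoc, ← pow_succ', ← map_pow,
          Ideal.Quotient.eq_zero_iff_mem.2 (Ideal.pow_mem_pow (Ideal.mem_span_singleton_self _) _), zero_mul]
    have hT := Module.Flat.rTensor_exact (S ⊗[W] A) hex
    let e := TensorProduct.lid S (S ⊗[W] A)
    have hμ : ∀ (a : S) (t : S ⊗[S] (S ⊗[W] A)),
        e ((LinearMap.lsmul S S a).rTensor (S ⊗[W] A) t) = a • e t := by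
      intro a t
      induction t using TensorProduct.induction_on with
      | zero => simp
      | tmul s y => simp [e, mul_smul]
      | add y z hy hz => simp only [map_add, smul_add, hy, hz]
    obtain ⟨t, ht⟩ := (hT (e.symm ((1 : S) ⊗ₜ[W] x))).1 (e.injective (by
      rw [map_zero, hμ, LinearEquiv.apply_symm_apply, TensorProduct.smul_tmul', smul_eq_mul, mul_one,
        show q p = (p : W) • (1 : S) from (Algebra.algebraMap_eq_smul_one _), TensorProduct.smul_tmul, hx,
        TensorProduct.tmul_zero]))
    have h2 := congrArg e ht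
    rw [hμ, LinearEquiv.apply_symm_apply] at h2
    obtain ⟨y, hy⟩ := TensorProduct.mk_surjective W A S Ideal.Quotient.mk_surjective (e t)
    rw [TensorProduct.mk_apply] at hy
    rw [← hy, TensorProduct.smul_tmul', smul_eq_mul, mul_one, ← map_pow,
      show q ((p : W) ^ n) = ((p : W) ^ n) • (1 : S) from (Algebra.algebraMap_eq_smul_one _),
      TensorProduct.smul_tmul] at h2
    have h3 := congrArg (TensorProduct.quotTensorEquivQuotSMul A (I ^ (n + 1))) h2
    rw [← map_one q] at h3
    erw [TensorProduct.quotTensorEquivQuotSMul_mk_tmul, TensorProduct.quotTensorEquivQuotSMul_mk_tmul] at h3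
    rw [one_smul, one_smul] at h3
    rw [Submodule.Quotient.eq] at h3
    have h4 : ((p : W) ^ n) • y ∈ I ^ n • (⊤ : Submodule W A) :=
      Submodule.smul_mem_smul (Ideal.pow_mem_pow (Ideal.mem_span_singleton_self _) _) trivial
    have h5 := sub_mem h4 (Submodule.smul_mono_left (Ideal.pow_le_pow_right n.le_succ) h3)
    rwa [sub_sub_cancel] at h5
  rw [Module.Flat.flat_iff_torsion_eq_bot_of_isBezout, eq_bot_iff]
  intro x hx
  obtain ⟨⟨a, ha⟩, hax⟩ := (Submodule.mem_torsion_iff x).1 hx
  obtain ⟨m, b, rfl⟩ := WittVector.exists_eq_pow_p_mul' a (nonZeroDivisors.ne_zero ha)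
  rw [Submonoid.smul_def, mul_smul] at hax
  have key : ∀ m (y : A), ((p : W) ^ m) • y = 0 → y = 0 := by
    intro m
    induction m with
    | zero => intro y hy; simpa using hy
    | succ m ih => intro y hy; exact ih y (htor _ (by rw [← mul_smul, ← pow_succ']; exact hy))
  exact b.isUnit.smul_eq_zero.1 (key m _ hax)

end Groth.Agent.S19612
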