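import Groth.Statements.S19613
import Groth.Agent.Lib.ClSub.Basis
import Groth.Agent.Lib.CohBasics.Affine
import Groth.Agent.Lib.Modules.StalkModule
import Groth.Agent.Lib.Lim.Thickening
import Groth.Agent.Lib.ModSiteLoc.Basic
-- import your own Groth.Agent.* helpers here

set_option autoImplicit false
universe u
open CategoryTheory AlgebraicGeometry TopologicalSpace
open CartMod

namespace Groth.Agent.S19613

/-- Let u : T → U be an affine morphism of schemes and i : T → T♮ a nilpotent closed immersion (its
ideal has a vanishing power), so that |T♮| = |T|; let g : |T♮| → |U| be the continuous map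
underlying u, and v : (T♮, O_{T♮}) → (U, g_*O_{T♮}) the induced morphism of ringed spaces (identity
on structure rings), with direct image v_* (sections over g⁻¹ of an open) and inverse image v^* its
left adjoint. Then the restriction of v_* to quasi-coherent O_{T♮}-modules is exact; since v_* is a
right adjoint, the content is that v_* of an epimorphism between quasi-coherent O_{T♮}-modules is an
epimorphism of sheaves of g_*O_{T♮}-modules on U, which is what is stated. -/
theorem result
    {T Tc U : Scheme.{u}} (i : T ⟶ Tc) [IsClosedImmersion i]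
    (hnil : ∃ n : ℕ, ∀ V : Tc.affineOpens, i.ker.ideal V ^ n = ⊥)
    (u : T ⟶ U) [IsAffineHom u] (g : Tc.carrier ⟶ U.carrier) (hg : i.base ≫ g = u.base)
    (M N : Tc.Modules) [M.IsQuasicoherent] [N.IsQuasicoherent] (φ : M ⟶ N) [Epi φ] :
    Epi ((SheafOfModules.pushforward (F := Opens.map g) (R := Tc.ringCatSheaf)
      (𝟙 (((Opens.map g).sheafPushforwardContinuous RingCat.{u} (Opens.grothendieckTopology U)
        (Opens.grothendieckTopology Tc)).obj Tc.ringCatSheaf))).map φ) := by
  obtain ⟨n, hn⟩ := hnil
  haveI : Surjective i := ⟨fun y => by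
    obtain ⟨_, ⟨V, hV, rfl⟩, hy, -⟩ := Tc.isBasis_affineOpens.exists_subset_of_mem_open (Set.mem_univ y) isOpen_univ
    have hs : y ∈ i.ker.support := by
      rw [Scheme.IdealSheafData.mem_support_iff_of_mem (U := ⟨V, hV⟩) hy, Scheme.mem_zeroLocus_iff]
      intro f hf
      have hf0 : f ^ n = 0 := by
        have := Ideal.pow_mem_pow hf n
        rwa [hn ⟨V, hV⟩] at this
      rw [Scheme.mem_basicOpen _ _ _ hy]
      intro hu
      have h0 := congrArg (Tc.presheaf.germ V y hy) hf0
      rw [map_pow, map_zero] at h0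
      exact not_isUnit_zero (h0 ▸ hu.pow n)
    have hs2 : y ∈ (i.ker.support : Set Tc) := hs
    rw [Scheme.Hom.support_ker] at hs2
    obtain ⟨x, hx⟩ : y ∈ Set.range i.base := by
      have h2 : (y ∈ closure (Set.range i.base)) := hs2
      rwa [i.isClosedEmbedding.isClosed_range.closure_eq] at h2
    exact ⟨x, hx⟩⟩
  have haff : ∀ W : U.Opens, IsAffineOpen W → IsAffineOpen (X := Tc) ((Opens.map g).obj W) := by
    intro W hW
    let V : Tc.Opens := (Opens.map g).obj W
    have hpre : i ⁻¹ᵁ V = u ⁻¹ᵁ W := by
      ext x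
      show g (i.base x) ∈ W ↔ u.base x ∈ W
      rw [← hg]
      rfl
    haveI : IsAffine (i ⁻¹ᵁ V : T.Opens).toScheme := by
      have := hW.preimage u
      rw [← hpre] at this
      exact this
    haveI : Surjective (i ∣_ V) := IsZariskiLocalAtTarget.restrict (P := @Surjective) inferInstance V
    haveI : IsClosedImmersion (i ∣_ V) := IsZariskiLocalAtTarget.restrict (P := @IsClosedImmersion) inferInstance V
    exact Lib.Lim.Thickening.isAffine_of_surjective (i ∣_ V)
  have hsurj : ∀ (V : Tc.Opens), IsAffineOpen V → Function.Surjective (φ.app V) := by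
    intro V hV t
    let P : Submodule Γ(Tc, V) Γ(N, V) :=
      { carrier := Set.range (φ.app V)
        add_mem' := by
          rintro _ _ ⟨a, rfl⟩ ⟨b, rfl⟩
          exact ⟨a + b, map_add _ _ _⟩
        zero_mem' := ⟨0, map_zero _⟩
        smul_mem' := by
          rintro r _ ⟨a, rfl⟩
          exact ⟨r • a, (φ.val.app (Opposite.op V)).hom.map_smul r a⟩ }
    show t ∈ P
    refine Lib.CohBasics.Affine.mem_of_germ_mem hV P t fun x hx => ?_
    obtain ⟨w, hw⟩ := (Lib.Modules.StalkModule.epi_iff_stalkMapₗ_surjective φ).1 inferInstance x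
      (N.presheaf.germ V x hx t)
    have h := Lib.CohBasics.Affine.germ_span_eq_top (M := M) hV Set.univ Submodule.span_univ hx
    have hw' : w ∈ Submodule.span (Tc.presheaf.stalk x) (M.presheaf.germ V x hx '' Set.univ) := h ▸ trivial
    rw [← hw]
    have h3 := Submodule.mem_map_of_mem (f := Lib.Modules.StalkModule.stalkMapₗ φ x) hw'
    rw [Submodule.map_span] at h3
    refine Submodule.span_mono ?_ h3
    rintro _ ⟨_, ⟨m, -, rfl⟩, rfl⟩
    exact ⟨φ.app V m, ⟨m, rfl⟩, (Lib.Modules.StalkModule.stalkMapₗ_germ φ hx m).symm⟩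
  let R := ((Opens.map g).sheafPushforwardContinuous RingCat.{u} (Opens.grothendieckTopology U)
    (Opens.grothendieckTopology Tc)).obj Tc.ringCatSheaf
  let Φ := (SheafOfModules.pushforward (F := Opens.map g) (R := Tc.ringCatSheaf) (𝟙 R)).map φ
  haveI : Sheaf.IsLocallySurjective ((SheafOfModules.toSheaf R).map Φ) :=
    ⟨fun {W} t y hy => by
      obtain ⟨_, ⟨W', hW', rfl⟩, hyW', hle⟩ := U.isBasis_affineOpens.exists_subset_of_mem_open hy W.isOpen
      obtain ⟨x, hx⟩ := hsurj _ (haff W' hW') (N.presheaf.map ((Opens.map g).map (homOfLE hle)).op t)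
      exact ⟨W', homOfLE hle, ⟨x, hx⟩, hyW'⟩⟩
  haveI : Epi ((SheafOfModules.toSheaf R).map Φ) :=
    (Sheaf.isLocallySurjective_iff_epi' (φ := (SheafOfModules.toSheaf R).map Φ)).1 inferInstance
  exact (SheafOfModules.toSheaf R).epi_of_epi_map inferInstance

end Groth.Agent.S19613
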