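import Groth.Statements.S19615
import Groth.Agent.Lib.CartPull.Main
import Groth.Agent.Lib.Lim.Thickening
-- import your own Groth.Agent.* helpers here

set_option autoImplicit false
set_option linter.style.haveILetI false
universe u
open CategoryTheory AlgebraicGeometry TopologicalSpace
open Groth.Agent.Lib.CartPull (exists_affine_presentation isQuasicoherent_and_isIso)
open CategoryTheory AlgebraicGeometry TopologicalSpace
open CartMod

namespace Groth.Agent.S19615

/-- Let u : T → U be an affine morphism of schemes and i : T → T♮ a nilpotent closed immersion (its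
ideal has a vanishing power), so that |T♮| = |T|; let g : |T♮| → |U| be the continuous map
underlying u, and v : (T♮, O_{T♮}) → (U, g_*O_{T♮}) the induced morphism of ringed spaces (identity
on structure rings), with direct image v_* (sections over g⁻¹ of an open) and inverse image v^* its
left adjoint. Then for every quasi-coherent sheaf N of g_*O_{T♮}-modules on U (locally on U a
cokernel of a map of free modules), the O_{T♮}-module v^*N is quasi-coherent and the unit of the
adjunction N → v_*v^*N is an isomorphism. -/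
theorem result
    {T Tc U : Scheme.{u}} (i : T ⟶ Tc) [IsClosedImmersion i]
    (hnil : ∃ n : ℕ, ∀ V : Tc.affineOpens, i.ker.ideal V ^ n = ⊥)
    (u : T ⟶ U) [IsAffineHom u] (g : Tc.carrier ⟶ U.carrier) (hg : i.base ≫ g = u.base)
    (N : SheafOfModules.{u} (((Opens.map g).sheafPushforwardContinuous RingCat.{u} (Opens.grothendieckTopology U)
        (Opens.grothendieckTopology Tc)).obj Tc.ringCatSheaf))
    [N.IsQuasicoherent] :
    ((SheafOfModules.pullback (F := Opens.map g) (R := Tc.ringCatSheaf)
        (𝟙 (((Opens.map g).sheafPushforwardContinuous RingCat.{u} (Opens.grothendieckTopology U)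
        (Opens.grothendieckTopology Tc)).obj Tc.ringCatSheaf))).obj N).IsQuasicoherent ∧
      IsIso ((SheafOfModules.pullbackPushforwardAdjunction (F := Opens.map g) (R := Tc.ringCatSheaf)
        (𝟙 (((Opens.map g).sheafPushforwardContinuous RingCat.{u} (Opens.grothendieckTopology U)
        (Opens.grothendieckTopology Tc)).obj Tc.ringCatSheaf))).unit.app N) := by
  obtain ⟨n, hn⟩ := hnil
  haveI : Surjective i := ⟨fun y => by
    obtain ⟨_, ⟨V, hV, rfl⟩, hy, -⟩ := Tc.isBasis_affineOpens.exists_subset_of_mem_open (Set.mem_univ y) isOpen_univ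
    have hs : y ∈ i.ker.support := by
      rw [Scheme.IdealSheafData.mem_support_iff_of_mem (U := ⟨V, hV⟩) hy, Scheme.mem_zeroLocus_iff]
      intro f hf
      have hf0 : f ^ n = 0 := by
        have := Ideal.pow_mem_pow hf n
        rwa [hn ⟨V, hV⟩] at this
      rw [Scheme.mem_basicOpen _ _ _ hy]
      intro hu
      have h0 := congrArg (Tc.presheaf.germ V y hy) hf0
      rw [map_pow, map_zero] at h0
      exact not_isUnit_zero (h0 ▸ hu.pow n)
    have hs2 : y ∈ (i.ker.support : Set Tc) := hs
    rw [Scheme.Hom.support_ker] at hs2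
    obtain ⟨x, hx⟩ : y ∈ Set.range i.base := by
      have h2 : (y ∈ closure (Set.range i.base)) := hs2
      rwa [i.isClosedEmbedding.isClosed_range.closure_eq] at h2
    exact ⟨x, hx⟩⟩
  have haff : ∀ W : U.Opens, IsAffineOpen W → IsAffineOpen (X := Tc) ((Opens.map g).obj W) := by
    intro W hW
    let V : Tc.Opens := (Opens.map g).obj W
    have hpre : i ⁻¹ᵁ V = u ⁻¹ᵁ W := by
      ext x
      show g (i.base x) ∈ W ↔ u.base x ∈ W
      rw [← hg]
      rfl
    haveI : IsAffine (i ⁻¹ᵁ V : T.Opens).toScheme := by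
      have := hW.preimage u
      rw [← hpre] at this
      exact this
    haveI : Surjective (i ∣_ V) := IsZariskiLocalAtTarget.restrict (P := @Surjective) inferInstance V
    haveI : IsClosedImmersion (i ∣_ V) := IsZariskiLocalAtTarget.restrict (P := @IsClosedImmersion) inferInstance V
    exact Groth.Agent.Lib.Lim.Thickening.isAffine_of_surjective (i ∣_ V)
  have hA : Groth.Agent.H48.CartPush.IsAffMap g := by
    refine ⟨haff, fun W hW f => ?_⟩
    let V : Tc.Opens := (Opens.map g).obj W
    have hpre : ∀ (W' : U.Opens) (x : T), x ∈ i ⁻¹ᵁ ((Opens.map g).obj W' : Tc.Opens) ↔ x ∈ u ⁻¹ᵁ W' := by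
      intro W' x
      show g (i.base x) ∈ W' ↔ u.base x ∈ W'
      rw [← hg]
      rfl
    have e : i ⁻¹ᵁ V ≤ u ⁻¹ᵁ W := fun x hx => (hpre W x).1 hx
    obtain ⟨h, hh⟩ := i.app_surjective V (haff W hW) (u.appLE W (i ⁻¹ᵁ V) e f)
    refine ⟨h, Opens.ext (Set.ext fun y => ?_)⟩
    obtain ⟨x, rfl⟩ := i.surjective y
    show x ∈ i ⁻¹ᵁ (Tc.basicOpen h) ↔ x ∈ i ⁻¹ᵁ ((Opens.map g).obj (U.basicOpen f) : Tc.Opens)
    rw [hpre, Scheme.preimage_basicOpen, hh, Scheme.basicOpen_appLE]
    refine ⟨fun hx => hx.2, fun hx => ⟨(hpre W x).2 (U.basicOpen_le f hx), hx⟩⟩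
  have hloc : ∀ y : U, ∃ W : U.Opens, y ∈ W ∧ IsAffineOpen W ∧ Nonempty (N.over W).Presentation :=
    exists_affine_presentation N
  let adj := SheafOfModules.pullbackPushforwardAdjunction (F := Opens.map g) (R := Tc.ringCatSheaf)
    (𝟙 (Groth.Agent.H48.CartPush.Ring' g))
  exact isQuasicoherent_and_isIso hA adj N hloc

end Groth.Agent.S19615
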