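import Groth.Statements.S19616
import Mathlib.RingTheory.AdicCompletion.Completeness
import Mathlib.RingTheory.AdicCompletion.Algebra
import Mathlib.RingTheory.AdicCompletion.LocalRing
import Mathlib.RingTheory.AdicCompletion.RingHom
import Mathlib.RingTheory.Localization.Away.Basic
import Mathlib.RingTheory.Adjoin.Basic
-- import your own Groth.Agent.* helpers here

set_option autoImplicit false
universe u
open CartMod

namespace Groth.Agent.S19616

namespace Compl
variable {C : Type u} [CommRing C] (q : C)


lemma hev (k : ℕ) (c : C) : AdicCompletion.evalₐ (Ideal.span ({q} : Set C)) k (algebraMap C (AdicCompletion (Ideal.span ({q} : Set C)) C) c) = Ideal.Quotient.mk _ c :=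
  (AdicCompletion.evalₐ (Ideal.span ({q} : Set C)) k).commutes c

lemma hdec (k : ℕ) (x : (AdicCompletion (Ideal.span ({q} : Set C)) C)) : ∃ (c : C) (y : (AdicCompletion (Ideal.span ({q} : Set C)) C)), x = algebraMap C (AdicCompletion (Ideal.span ({q} : Set C)) C) c + algebraMap C (AdicCompletion (Ideal.span ({q} : Set C)) C) q ^ k * y := by
  obtain ⟨c, hc⟩ := Ideal.Quotient.mk_surjective (AdicCompletion.evalₐ (Ideal.span ({q} : Set C)) k x)
  refine ⟨c, ?_⟩
  have hker : x - algebraMap C (AdicCompletion (Ideal.span ({q} : Set C)) C) c ∈ (AdicCompletion.eval (Ideal.span ({q} : Set C)) C k).ker := by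
    rw [LinearMap.mem_ker, ← AdicCompletion.factor_evalₐ_eq_eval (Ideal.span ({q} : Set C)) _ (le_of_eq (Ideal.mul_top _).symm),
      map_sub (AdicCompletion.evalₐ (Ideal.span ({q} : Set C)) k), hev, hc, sub_self, map_zero]
  rw [← AdicCompletion.pow_smul_top_eq_ker_eval (Submodule.fg_span_singleton _)] at hker
  obtain ⟨y, hy⟩ : ∃ y, x - algebraMap C (AdicCompletion (Ideal.span ({q} : Set C)) C) c = algebraMap C (AdicCompletion (Ideal.span ({q} : Set C)) C) q ^ k * y := by
    generalize x - algebraMap C (AdicCompletion (Ideal.span ({q} : Set C)) C) c = z at hker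
    induction hker using Submodule.smul_induction_on' with
    | smul r hr m _ =>
      rw [Ideal.span_singleton_pow, Ideal.mem_span_singleton'] at hr
      obtain ⟨s, rfl⟩ := hr
      exact ⟨algebraMap C (AdicCompletion (Ideal.span ({q} : Set C)) C) s * m, (Algebra.smul_def (s * q ^ k) m).trans (by rw [map_mul, map_pow]; ring)⟩
    | add u _ v _ hu hv =>
      obtain ⟨u', rfl⟩ := hu
      obtain ⟨v', rfl⟩ := hv
      exact ⟨u' + v', (mul_add _ _ _).symm⟩
  exact ⟨y, by rw [← hy, add_sub_cancel]⟩

lemma hev' (k j : ℕ) (c : C) (y : (AdicCompletion (Ideal.span ({q} : Set C)) C)) (h : k ≤ j) :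
    AdicCompletion.evalₐ (Ideal.span ({q} : Set C)) k (algebraMap C (AdicCompletion (Ideal.span ({q} : Set C)) C) c + algebraMap C (AdicCompletion (Ideal.span ({q} : Set C)) C) q ^ j * y) = Ideal.Quotient.mk _ c := by
  rw [map_add, map_mul, hev, map_pow, hev, ← map_pow (Ideal.Quotient.mk ((Ideal.span ({q} : Set C)) ^ k)),
    Ideal.Quotient.eq_zero_iff_mem.2 (Ideal.pow_le_pow_right h (Ideal.pow_mem_pow (Ideal.mem_span_singleton_self q) j)), zero_mul, add_zero]

lemma regular (hq : ∀ x : C, q * x = 0 → x = 0) : IsSMulRegular (AdicCompletion (Ideal.span ({q} : Set C)) C) (algebraMap C (AdicCompletion (Ideal.span ({q} : Set C)) C) q) := by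
  rw [isSMulRegular_iff_right_eq_zero_of_smul]
  intro x hx
  refine AdicCompletion.ext_evalₐ fun k => ?_
  obtain ⟨c, y, rfl⟩ := hdec q (k + 1) x
  rw [hev' q k (k + 1) c y (by omega), map_zero]
  have h1 := congrArg (AdicCompletion.evalₐ (Ideal.span ({q} : Set C)) (k + 1)) hx
  rw [smul_eq_mul, map_mul, hev' q (k + 1) (k + 1) c y le_rfl, map_zero, hev,
    ← map_mul, Ideal.Quotient.eq_zero_iff_mem, Ideal.span_singleton_pow, Ideal.mem_span_singleton'] at h1
  obtain ⟨e, he⟩ := h1
  rw [Ideal.Quotient.eq_zero_iff_mem, Ideal.span_singleton_pow, Ideal.mem_span_singleton']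
  refine ⟨e, sub_eq_zero.1 (hq _ ?_)⟩
  rw [mul_sub, sub_eq_zero, ← he, pow_succ]
  ring

lemma complete : IsAdicComplete (Ideal.span {algebraMap C (AdicCompletion (Ideal.span ({q} : Set C)) C) q}) (AdicCompletion (Ideal.span ({q} : Set C)) C) := by
  have h := AdicCompletion.isAdicComplete_self (Ideal.span ({q} : Set C)) (Submodule.fg_span_singleton _)
  rwa [Ideal.map_span, Set.image_singleton] at h

variable {B : Type u} [CommRing B] (J : Ideal B) [IsAdicComplete J B]

lemma ext_B {u v : B} (h : ∀ k, Ideal.Quotient.mk (J ^ k) u = Ideal.Quotient.mk (J ^ k) v) : u = v := by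
  refine sub_eq_zero.1 (IsHausdorff.haus (inferInstance : IsHausdorff J B) _ fun k => ?_)
  rw [SModEq.zero, smul_eq_mul, Ideal.mul_top, ← Ideal.Quotient.eq_zero_iff_mem, map_sub, h k, sub_self]

lemma exists_lift (φ : C →+* B) (hφ : φ q ∈ J) :
    ∃ F : (AdicCompletion (Ideal.span ({q} : Set C)) C) →+* B, ∀ c, F (algebraMap C (AdicCompletion (Ideal.span ({q} : Set C)) C) c) = φ c := by
  have hle : ∀ k, (Ideal.span ({q} : Set C)) ^ k ≤ (J ^ k).comap φ := fun k => by
    rw [Ideal.span_singleton_pow, Ideal.span_le]
    rintro _ rfl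
    show φ (q ^ k) ∈ J ^ k
    rw [map_pow]
    exact Ideal.pow_mem_pow hφ k
  let f : ∀ k, (AdicCompletion (Ideal.span ({q} : Set C)) C) →+* B ⧸ J ^ k := fun k =>
    (Ideal.quotientMap (J ^ k) φ (hle k)).comp (AdicCompletion.evalₐ (Ideal.span ({q} : Set C)) k).toRingHom
  have hf' : ∀ k j c y, k ≤ j → f k (algebraMap C (AdicCompletion (Ideal.span ({q} : Set C)) C) c + algebraMap C (AdicCompletion (Ideal.span ({q} : Set C)) C) q ^ j * y) = Ideal.Quotient.mk _ (φ c) := by
    intro k j c y h
    show Ideal.quotientMap (J ^ k) φ (hle k) (AdicCompletion.evalₐ (Ideal.span ({q} : Set C)) k (algebraMap C (AdicCompletion (Ideal.span ({q} : Set C)) C) c + algebraMap C (AdicCompletion (Ideal.span ({q} : Set C)) C) q ^ j * y)) = _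
    rw [hev' q k j c y h]
    exact Ideal.quotientMap_mk
  have hf : ∀ {k j : ℕ} (h : k ≤ j), (Ideal.Quotient.factorPow J h).comp (f j) = f k := by
    intro k j h
    ext x
    obtain ⟨c, y, rfl⟩ := hdec q j x
    rw [RingHom.comp_apply, hf' j j c y le_rfl, hf' k j c y h]
    rfl
  refine ⟨IsAdicComplete.liftRingHom J f hf, fun c => ext_B J fun k => ?_⟩
  rw [IsAdicComplete.mk_liftRingHom J f hf k, ← hf' k k c 0 le_rfl, mul_zero, add_zero]

lemma hom_ext (g₁ g₂ : (AdicCompletion (Ideal.span ({q} : Set C)) C) →+* B) (h : ∀ c, g₁ (algebraMap C (AdicCompletion (Ideal.span ({q} : Set C)) C) c) = g₂ (algebraMap C (AdicCompletion (Ideal.span ({q} : Set C)) C) c))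
    (hq : g₁ (algebraMap C (AdicCompletion (Ideal.span ({q} : Set C)) C) q) ∈ J) : g₁ = g₂ := by
  refine RingHom.ext fun x => ext_B J fun k => ?_
  obtain ⟨c, y, rfl⟩ := hdec q k x
  rw [map_add g₁, map_add g₂, map_mul g₁, map_mul g₂, map_pow g₁, map_pow g₂, h c, ← h q, map_add, map_add, map_mul, map_mul,
    Ideal.Quotient.eq_zero_iff_mem.2 (Ideal.pow_mem_pow hq k), zero_mul, zero_mul]

end Compl


/-- Let p be a prime, A a commutative ring which is complete and separated for the p-adic topology and
has no p-torsion, and a_1, …, a_n elements of A (so that (p, a_1, …, a_n) is an open ideal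
containing p). Then there is a commutative A-algebra D, complete and separated for the p-adic
topology and without p-torsion, in which each a_i is divisible by p, with the following universal
property: for every A-algebra B which is p-adically complete and separated, has no p-torsion, and in
which each a_i is divisible by p, there is exactly one A-algebra homomorphism D → B; moreover this
homomorphism is surjective whenever A → B is. (D is the coordinate ring of the dilatation of Spf A
with respect to p along the closed subscheme defined by (p, a_1, …, a_n). The published statement is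
for flat p-adic formal schemes locally of finite type over the Witt vectors of a perfect field; this
row is its affine, ring-level case without a finiteness hypothesis.) -/
theorem result (p : ℕ) [Fact p.Prime]
    (A : Type u) [CommRing A] [IsAdicComplete (Ideal.span {(p : A)}) A]
    (hA : IsSMulRegular A (p : A)) {n : ℕ} (a : Fin n → A) :
    ∃ (D : Type u) (_ : CommRing D) (_ : Algebra A D),
      IsAdicComplete (Ideal.span {(p : D)}) D ∧ IsSMulRegular D (p : D) ∧
      (∀ i, algebraMap A D (a i) ∈ Ideal.span {(p : D)}) ∧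
      ∀ (B : Type u) [CommRing B] [Algebra A B] [IsAdicComplete (Ideal.span {(p : B)}) B],
        IsSMulRegular B (p : B) → (∀ i, algebraMap A B (a i) ∈ Ideal.span {(p : B)}) →
          Nonempty (D →ₐ[A] B) ∧ Subsingleton (D →ₐ[A] B) ∧
            (Function.Surjective (algebraMap A B) → ∀ f : D →ₐ[A] B, Function.Surjective f) := by
  classical
  let L := Localization.Away (p : A)
  let C : Subalgebra A L := Algebra.adjoin A (Set.range fun i => algebraMap A L (a i) * IsLocalization.Away.invSelf (p : A))
  let gen : Fin n → C := fun i =>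
    ⟨algebraMap A L (a i) * IsLocalization.Away.invSelf (p : A), Algebra.subset_adjoin ⟨i, rfl⟩⟩
  have hgen : ∀ i, algebraMap A C (a i) = (p : C) * gen i := fun i => Subtype.ext (by
    show algebraMap A L (a i) = (p : L) * (algebraMap A L (a i) * IsLocalization.Away.invSelf (p : A))
    rw [mul_left_comm, ← map_natCast (algebraMap A L), IsLocalization.Away.mul_invSelf, mul_one])
  have hCreg : ∀ x : C, (p : C) * x = 0 → x = 0 := fun x hx => by
    have h1 : (p : L) * (x : L) = 0 := congrArg Subtype.val hx
    have hu : IsUnit (p : L) := by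
      rw [← map_natCast (algebraMap A L)]; exact IsLocalization.Away.algebraMap_isUnit _
    exact Subtype.ext (hu.mul_right_eq_zero.1 h1)
  let D := AdicCompletion (Ideal.span ({(p : C)} : Set C)) C
  letI algD : Algebra A D := ((algebraMap C D).comp (algebraMap A C)).toAlgebra
  have halg : ∀ x, algebraMap A D x = algebraMap C D (algebraMap A C x) := fun _ => rfl
  have hpD : algebraMap C D (p : C) = (p : D) := map_natCast _ p
  have hDreg : IsSMulRegular D (p : D) := hpD ▸ Compl.regular (p : C) hCreg
  have hcomplete : IsAdicComplete (Ideal.span {(p : D)}) D := hpD ▸ Compl.complete (p : C)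
  have hdiv : ∀ i, algebraMap A D (a i) ∈ Ideal.span {(p : D)} := fun i =>
    Ideal.mem_span_singleton'.2 ⟨algebraMap C D (gen i), by rw [halg, hgen, map_mul, map_natCast, mul_comm]⟩
  refine ⟨D, inferInstance, algD, hcomplete, hDreg, hdiv, fun B _ _ _ hB hBa => ?_⟩
  let J : Ideal B := Ideal.span {(p : B)}
  have hBreg : ∀ x : B, (p : B) * x = 0 → x = 0 := fun x hx => hB (by simpa [smul_eq_mul] using hx)
  let BL := Localization.Away (p : B)
  have hBinj : Function.Injective (algebraMap B BL) := IsLocalization.injective BL (M := Submonoid.powers (p : B)) (fun x hx => by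
    obtain ⟨j, rfl⟩ := hx
    refine mem_nonZeroDivisors_iff_right.2 fun y hy => ?_
    induction j with
    | zero => simpa using hy
    | succ j ih => exact ih (hBreg _ (by rw [← hy]; show _ = y * (p : B) ^ (j + 1); rw [pow_succ]; ring)))
  have hup : IsUnit ((algebraMap A BL) (p : A)) := by
    rw [map_natCast, ← map_natCast (algebraMap B BL)]; exact IsLocalization.Away.algebraMap_isUnit _
  let ψ : L →ₐ[A] BL :=
    { toRingHom := IsLocalization.Away.lift (p : A) (g := algebraMap A BL) hup
      commutes' := fun x => IsLocalization.Away.lift_eq (p : A) hup x }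
  have hψC : ∀ c : C, ∃ b : B, algebraMap B BL b = ψ c := by
    have h : C ≤ (IsScalarTower.toAlgHom A B BL).range.comap ψ := by
      refine Algebra.adjoin_le ?_
      rintro _ ⟨i, rfl⟩
      obtain ⟨b, hb⟩ := Ideal.mem_span_singleton'.1 (hBa i)
      refine ⟨b, ?_⟩
      show algebraMap B BL b = ψ _
      have hu : IsUnit (p : BL) := by
        rw [← map_natCast (algebraMap B BL)]; exact IsLocalization.Away.algebraMap_isUnit _
      refine hu.mul_left_cancel ?_
      have h1 : (p : BL) * ψ (algebraMap A L (a i) * IsLocalization.Away.invSelf (p : A)) = algebraMap A BL (a i) := by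
        rw [← map_natCast ψ p, ← map_mul ψ, mul_left_comm, ← map_natCast (algebraMap A L), IsLocalization.Away.mul_invSelf, mul_one]
        exact ψ.commutes (a i)
      rw [h1, IsScalarTower.algebraMap_apply A B BL, ← hb, map_mul, map_natCast, mul_comm]
    exact fun c => h c.2
  choose φf hφ using hψC
  let φ : C →ₐ[A] B :=
    { toFun := φf
      map_one' := hBinj (by rw [hφ, map_one]; exact map_one ψ)
      map_mul' := fun x y => hBinj (by rw [hφ, map_mul, hφ, hφ]; exact map_mul ψ _ _)
      map_zero' := hBinj (by rw [hφ, map_zero]; exact map_zero ψ)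
      map_add' := fun x y => hBinj (by rw [hφ, map_add, hφ, hφ]; exact map_add ψ _ _)
      commutes' := fun x => hBinj (by rw [hφ, ← IsScalarTower.algebraMap_apply]; exact ψ.commutes x) }
  obtain ⟨F, hF⟩ := Compl.exists_lift (p : C) J φ.toRingHom
    (by show φ (p : C) ∈ J; rw [map_natCast]; exact Ideal.mem_span_singleton_self _)
  refine ⟨⟨{ toRingHom := F, commutes' := fun x => ?_ }⟩, ⟨fun g₁ g₂ => ?_⟩, fun hs g b => ?_⟩
  · show F (algebraMap C D (algebraMap A C x)) = _
    rw [hF]
    exact φ.commutes x
  · have hC : ∀ c : C, g₁ (algebraMap C D c) = g₂ (algebraMap C D c) := by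
      rintro ⟨c, hc⟩
      induction hc using Algebra.adjoin_induction with
      | mem z hz =>
        obtain ⟨i, rfl⟩ := hz
        refine hB ?_
        show (p : B) • g₁ (algebraMap C D (gen i)) = (p : B) • g₂ (algebraMap C D (gen i))
        simp only [smul_eq_mul]
        rw [← map_natCast g₁ p, ← map_mul g₁, map_natCast g₁ p, ← map_natCast g₂ p, ← map_mul g₂, ← map_natCast (algebraMap C D),
          ← map_mul, ← hgen, ← halg, AlgHom.commutes, AlgHom.commutes]
      | algebraMap r =>
        show g₁ (algebraMap C D (algebraMap A C r)) = g₂ (algebraMap C D (algebraMap A C r))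
        rw [← halg, AlgHom.commutes, AlgHom.commutes]
      | add u v hu hv hu' hv' =>
        show g₁ (algebraMap C D (⟨u, hu⟩ + ⟨v, hv⟩)) = g₂ (algebraMap C D (⟨u, hu⟩ + ⟨v, hv⟩))
        rw [map_add, map_add, map_add, hu', hv']
      | mul u v hu hv hu' hv' =>
        show g₁ (algebraMap C D (⟨u, hu⟩ * ⟨v, hv⟩)) = g₂ (algebraMap C D (⟨u, hu⟩ * ⟨v, hv⟩))
        rw [map_mul, map_mul, map_mul, hu', hv']
    refine AlgHom.coe_ringHom_injective (Compl.hom_ext (p : C) J g₁.toRingHom g₂.toRingHom hC ?_)
    show g₁ (algebraMap C D (p : C)) ∈ J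
    rw [hpD, map_natCast]
    exact Ideal.mem_span_singleton_self _
  · obtain ⟨x, rfl⟩ := hs b
    exact ⟨algebraMap A D x, g.commutes x⟩

end Groth.Agent.S19616
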