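import Groth.Statements.S19618
import Groth.Agent.Lib.Ideal.EffCartier
import Mathlib.RingTheory.Ideal.KrullsHeightTheorem
import Mathlib.RingTheory.Ideal.AssociatedPrime.Finiteness
import Mathlib.AlgebraicGeometry.Noetherian
import Mathlib.RingTheory.Ideal.MinimalPrime.Localization

set_option autoImplicit false
universe u
open CategoryTheory CategoryTheory.Limits AlgebraicGeometry Opposite TopologicalSpace
open BlowUp

namespace Groth.Agent.S19618

open Groth.Agent.Lib.Ideal

theorem one_le_dim {X : Scheme.{u}} [IsLocallyNoetherian X] {𝓘 : X.IdealSheafData} (hY : BlowUp.IsEffCartierIdeal 𝓘)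
    (y : X) (hy : y ∈ (𝓘.support : Set X)) : (1 : WithBot ℕ∞) ≤ ringKrullDim (X.presheaf.stalk y) := by
  obtain ⟨U, hyU, f, hf, hI⟩ := hY y
  have hg := EffCartier.germ_mem_nonZeroDivisors U.2 hf y hyU
  have hnu : ¬ IsUnit (X.presheaf.germ U.1 y hyU f) := fun hu => by
    rw [SetLike.mem_coe, Scheme.IdealSheafData.mem_support_iff_of_mem hyU, hI, Scheme.zeroLocus_span,
      Scheme.mem_zeroLocus_iff] at hy
    exact hy f rfl ((X.mem_basicOpen f y hyU).2 hu)
  by_contra h
  have hle : Ring.KrullDimLE 0 (X.presheaf.stalk y) := by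
    rw [Ring.krullDimLE_iff]
    exact Order.le_of_lt_succ (lt_of_lt_of_le (not_le.1 h) le_rfl) |> fun h' => by simpa using h'
  haveI := hle
  have hm : IsLocalRing.maximalIdeal (X.presheaf.stalk y) ∈ minimalPrimes (X.presheaf.stalk y) :=
    Ideal.mem_minimalPrimes_of_krullDimLE_zero _
  exact Set.disjoint_left.1 (Ideal.disjoint_nonZeroDivisors_of_mem_minimalPrimes hm) ((IsLocalRing.mem_maximalIdeal _).2 hnu) hg


/-- Let X be a locally Noetherian scheme, Y an effective Cartier divisor on X (a quasi-coherent ideal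
sheaf which, near every point, is generated on some affine open by one nonzerodivisor; Y is its
support) and Z a closed integral subscheme (a closed immersion i from an integral scheme with
generic point ξ). If Y and Z intersect properly — every point ζ of Y ∩ Z which is maximal under
generization inside Y ∩ Z satisfies dim O_{X,ζ} = codim(Y,X) + codim(Z,X), where codim(Y,X) is the
infimum over y ∈ Y of dim O_{X,y} and codim(Z,X) = dim O_{X,i(ξ)} — then Z is not contained in Y. -/
theorem result {X Z : Scheme.{u}}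
    [IsLocallyNoetherian X] (𝓘 : X.IdealSheafData) (hY : BlowUp.IsEffCartierIdeal 𝓘)
    (i : Z ⟶ X) [IsClosedImmersion i] [IsIntegral Z]
    (hprop : ∀ ζ : ↥X, ζ ∈ (𝓘.support : Set ↥X) ∩ Set.range i.base →
        (∀ ζ' : ↥X, ζ' ∈ (𝓘.support : Set ↥X) ∩ Set.range i.base → ζ' ⤳ ζ → ζ' = ζ) →
        ringKrullDim ↑(X.presheaf.stalk ζ) =
          (⨅ y : (𝓘.support : Set ↥X), ringKrullDim ↑(X.presheaf.stalk y.1)) +
            ringKrullDim ↑(X.presheaf.stalk (i (genericPoint ↥Z)))) :
    ¬ Set.range i.base ⊆ (𝓘.support : Set ↥X) := by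
  intro hsub
  have hξ : i (genericPoint ↥Z) ∈ (𝓘.support : Set ↥X) ∩ Set.range i.base := ⟨hsub ⟨_, rfl⟩, _, rfl⟩
  have h := hprop _ hξ fun ζ' ⟨_, ⟨z, hz⟩⟩ hspec => by
    have h2 : (i (genericPoint ↥Z) : ↥X) ⤳ ζ' := hz ▸ (genericPoint_specializes z).map i.continuous
    exact (hspec.antisymm h2).eq
  have hinf : (1 : WithBot ℕ∞) ≤ ⨅ y : (𝓘.support : Set ↥X), ringKrullDim ↑(X.presheaf.stalk y.1) :=
    le_iInf fun y => one_le_dim hY y.1 y.2
  obtain ⟨d, hd⟩ : ∃ d : ℕ, ringKrullDim ↑(X.presheaf.stalk (i (genericPoint ↥Z))) = d := by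
    obtain ⟨d, hd⟩ := WithBot.ne_bot_iff_exists.1 (ringKrullDim_ne_bot (R := X.presheaf.stalk (i (genericPoint ↥Z))))
    cases d with
    | top => exact absurd hd.symm ringKrullDim_lt_top.ne
    | coe n => exact ⟨n, hd.symm⟩
  rw [hd] at h
  have h1 : (1 : WithBot ℕ∞) + (d : WithBot ℕ∞) ≤ (d : WithBot ℕ∞) := (add_le_add_left hinf _).trans h.ge
  have h2 : ((1 + d : ℕ) : WithBot ℕ∞) ≤ ((d : ℕ) : WithBot ℕ∞) := by exact_mod_cast h1
  have h3 : 1 + d ≤ d := by exact_mod_cast h2
  omega

end Groth.Agent.S19618
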