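import Groth.Statements.S19619
import Groth.Agent.Lib.LocCxDepth77.SheafLevel


set_option autoImplicit false
universe u
open CategoryTheory CategoryTheory.Limits AlgebraicGeometry Opposite TopologicalSpace
attribute [local instance] HasDerivedCategory.standard
open CxOX

namespace Groth.Agent.S19619

/-- Let X be a locally Noetherian scheme, j : U → X an open immersion with closed complement Y, and d a
natural number such that every local ring O_{X,y} with y ∈ Y has depth at least d. Let K be a
cochain complex of O_X-modules whose terms are finite locally free and vanish in degrees below d.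
Then the group of global sections of the degree-2d cohomology sheaf of RΓ_Y(K) — RΓ_Y the unbounded
right derived functor, on D(O_X), of the subsheaf of sections supported in Y, applied to the image
of K — is isomorphic, as an abelian group, to H^{2d}_Y(X, K), the degree-2d cohomology of RΓ_Y(X, K)
(existence of an additive isomorphism only; the published isomorphism is the natural edge map,
linear over the given sheaf of rings). (The published statement lets K be a complex of modules over
an arbitrary sheaf of rings on X whose terms are vector bundles on X, such as a truncated de Rham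
complex with its non-O_X-linear differentials, has X smooth over a locally Noetherian base, and adds
that U ↦ H^{2d}_{Y∩U}(U, K|_U) is a sheaf; this row takes K a cochain complex of O_X-modules, any
locally Noetherian X, and states only the isomorphism.) -/
theorem result {U X : Scheme.{u}}
    [IsLocallyNoetherian X] (j : U ⟶ X) [IsOpenImmersion j] [CxOX.HasRgammaZ j] [CxOX.HasRsectZ j] (d : ℕ)
    (hdepth : ∀ y : ↥X, y ∉ Set.range j.base →
      (d : ℕ∞) ≤ LocCoh.depth ↑(X.presheaf.stalk y) ↑(X.presheaf.stalk y))
    (K : CochainComplex X.Modules ℤ) (hK : ∀ i : ℤ, i < (d : ℤ) → IsZero (K.X i))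
    (hKlf : ∀ i : ℤ, FlatMod.IsFinLocFree (K.X i)) :
    Nonempty (↑((Coh.toAb (DCoh.HD ((CxOX.RgammaZ j).obj (DCoh.toD X K)) (2 * (d : ℤ)))).obj.obj (op ⊤)) ≃+
      ↑((DerivedCategory.homologyFunctor AddCommGrpCat.{u} (2 * (d : ℤ))).obj
        ((CxOX.RsectZ j).obj (DCoh.toD X K)))) := by
  haveI : K.IsStrictlyGE (d : ℤ) := (CochainComplex.isStrictlyGE_iff K _).2 hK
  obtain ⟨L, φ, hL', hL, hqi⟩ :=
    CochainComplex.Plus.modelCategoryQuillen.exists_quasiIso_injective K (d : ℤ)
  haveI := hL'
  haveI := hqi
  haveI : L.IsKInjective := CochainComplex.isKInjective_of_injective L (d : ℤ)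
  obtain ⟨e⟩ := Groth.Agent.Lib.LocCxDepth77.SheafLevel.nonempty_sections_iso j d hdepth φ hL hKlf
  exact ⟨(((DCoh.gammaAb X).mapIso
      (Groth.Agent.Lib.LocCxDepth77.Main.homologyIso (DCoh.gammaZ j) φ (2 * (d : ℤ)))) ≪≫ e ≪≫
    (Groth.Agent.Lib.LocCxDepth77.Main.homologyIso (CxOX.sectZAb j) φ (2 * (d : ℤ))).symm).addCommGroupIsoToAddEquiv⟩

end Groth.Agent.S19619
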