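import Groth.Statements.S19624
import Groth.Agent.H15.CokerDet
import Mathlib
-- import your own Groth.Agent.* helpers here

set_option autoImplicit false
universe u v
open IntTh

namespace Groth.Agent.S19624

theorem aux {B : Type u} [CommRing B] [IsDomain B] [IsDiscreteValuationRing B] {n : ℕ} (M : Matrix (Fin n) (Fin n) B) :
    Module.length B (Groth.Agent.H15.CokerDet.Coker M) = IsDiscreteValuationRing.addVal B M.det := by
  classical
  by_cases hd : M.det = 0
  · rw [hd, IsDiscreteValuationRing.addVal_zero]
    by_contra htop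
    haveI hart : IsArtinian B (Groth.Agent.H15.CokerDet.Coker M) :=
      (isFiniteLength_iff_isNoetherian_isArtinian.1 (Module.length_ne_top_iff.1 htop)).2
    obtain ⟨ϖ, hϖ⟩ := IsDiscreteValuationRing.exists_irreducible B
    let Q := Groth.Agent.H15.CokerDet.Coker M
    let f : ℕ →o (Submodule B Q)ᵒᵈ :=
      { toFun := fun j => OrderDual.toDual (Ideal.span {ϖ ^ j} • (⊤ : Submodule B Q))
        monotone' := fun a b hab => by
          refine Submodule.smul_mono_left ?_
          rw [Ideal.span_singleton_le_span_singleton]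
          exact pow_dvd_pow ϖ hab }
    obtain ⟨N, hN⟩ := IsArtinian.monotone_stabilizes f
    have h1 : Ideal.span {ϖ ^ N} • (⊤ : Submodule B Q) = Ideal.span {ϖ ^ (N + 1)} • ⊤ := congrArg OrderDual.ofDual (hN (N + 1) (Nat.le_succ N))
    have h0 : Ideal.span {ϖ ^ N} • (⊤ : Submodule B Q) = ⊥ := by
      refine Submodule.eq_bot_of_le_smul_of_le_jacobson_bot (Ideal.span {ϖ}) _ (IsNoetherian.noetherian _) ?_ ?_
      · conv_lhs => rw [h1, pow_succ', ← Ideal.span_singleton_mul_span_singleton, ← smul_eq_mul, Submodule.smul_assoc]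
      · rw [IsLocalRing.jacobson_eq_maximalIdeal _ bot_ne_top, ← hϖ.maximalIdeal_eq]
    have hcol : ∀ c : Fin n, ∃ v, M.mulVec v = Pi.single c (ϖ ^ N) := by
      intro c
      have : (ϖ ^ N) • (Submodule.Quotient.mk (Pi.single c 1) : Q) = 0 := by
        have := Submodule.smul_mem_smul (Ideal.mem_span_singleton_self (ϖ ^ N)) (Submodule.mem_top (x := (Submodule.Quotient.mk (Pi.single c 1) : Q)))
        rw [h0] at this
        exact (Submodule.mem_bot B).1 this
      rw [← Submodule.Quotient.mk_smul, Submodule.Quotient.mk_eq_zero] at this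
      obtain ⟨v, hv⟩ := this
      exact ⟨v, by rw [Matrix.mulVecLin_apply] at hv; rw [hv, ← Pi.single_smul', smul_eq_mul, mul_one]⟩
    choose v hv using hcol
    have hX : M * Matrix.of (fun a c => v c a) = ϖ ^ N • (1 : Matrix (Fin n) (Fin n) B) := by
      ext a c
      have := congrFun (hv c) a
      simp [Matrix.mul_apply, Matrix.mulVec, dotProduct, Pi.single_apply, Matrix.one_apply] at this ⊢
      exact this
    have := congrArg Matrix.det hX
    rw [Matrix.det_mul, hd, zero_mul, Matrix.det_smul, Matrix.det_one, mul_one] at this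
    exact pow_ne_zero _ (pow_ne_zero _ hϖ.ne_zero) this.symm
  · rw [Groth.Agent.H15.CokerDet.length_coker M (mem_nonZeroDivisors_of_ne_zero hd), Ring.ord_eq_addVal]


/-- Let B be a discrete valuation ring with its normalised additive valuation v (so v(0) = ∞) and ω a
ring automorphism of B. For each i in a finite index set let M_i and N_i be free B-modules with
chosen bases indexed by one and the same finite type, and χ_i : M_i → N_i an additive map which is
ω-semilinear, χ_i(b·x) = ω(b)·χ_i(x); write A_i for the matrix of χ_i in the chosen bases. Then the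
length over B of the cokernel of the direct sum χ = ⊕_i χ_i : ⊕_i M_i → ⊕_i N_i (the quotient of ⊕_i
N_i by the submodule generated by the image of χ) equals v(∏_i det A_i); in particular both sides
are infinite exactly when some det A_i is zero. -/
theorem result {B : Type u} [CommRing B] [IsDomain B]
    [IsDiscreteValuationRing B] (ω : B ≃+* B) {n : ℕ} (r : Fin n → ℕ)
    (M N : Fin n → Type v) [∀ i, AddCommGroup (M i)] [∀ i, Module B (M i)]
    [∀ i, AddCommGroup (N i)] [∀ i, Module B (N i)]
    (bM : ∀ i, Module.Basis (Fin (r i)) B (M i)) (bN : ∀ i, Module.Basis (Fin (r i)) B (N i))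
    (χ : ∀ i, M i →+ N i) (hχ : ∀ i (b : B) (x : M i), χ i (b • x) = ω b • χ i x) :
    Module.length B ((∀ i, N i) ⧸ Submodule.span B (Set.range (fun (x : ∀ i, M i) (i : Fin n) => χ i (x i)))) =
      IsDiscreteValuationRing.addVal B (∏ i, Matrix.det
        (Matrix.of fun (a c : Fin (r i)) => (bN i).repr (χ i (bM i c)) a)) := by
  classical
  let A := fun i => Matrix.of fun (a c : Fin (r i)) => (bN i).repr (χ i (bM i c)) a
  let p : ∀ i, Submodule B (N i) := fun i => Submodule.span B (Set.range (χ i))
  have hp : ∀ i, Nonempty ((N i ⧸ p i) ≃ₗ[B] Groth.Agent.H15.CokerDet.Coker (A i)) := by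
    intro i
    refine ⟨Submodule.Quotient.equiv _ _ (bN i).equivFun ?_⟩
    refine le_antisymm ?_ ?_
    · rw [Submodule.map_span_le]
      rintro _ ⟨z, rfl⟩
      refine ⟨fun c => ω ((bM i).repr z c), ?_⟩
      conv_rhs => rw [← (bM i).sum_repr z, map_sum, map_sum]
      ext a
      simp [Matrix.mulVec, dotProduct, A, hχ, Finset.sum_apply, mul_comm]
    · rintro _ ⟨v, rfl⟩
      refine ⟨∑ c, v c • χ i (bM i c), Submodule.sum_mem _ fun c _ => Submodule.smul_mem _ _ (Submodule.subset_span ⟨_, rfl⟩), ?_⟩
      ext a
      simp [Matrix.mulVec, dotProduct, A, Finset.sum_apply, mul_comm]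
  have hspan : Submodule.span B (Set.range (fun (x : ∀ i, M i) (i : Fin n) => χ i (x i))) = Submodule.pi Set.univ p := by
    refine le_antisymm (Submodule.span_le.2 ?_) fun x hx => ?_
    · rintro _ ⟨z, rfl⟩ i -
      exact Submodule.subset_span ⟨_, rfl⟩
    · rw [← Finset.univ_sum_single x]
      refine Submodule.sum_mem _ fun i _ => ?_
      have hi : x i ∈ p i := hx i (Set.mem_univ i)
      have : p i ≤ (Submodule.span B (Set.range (fun (x : ∀ i, M i) (i : Fin n) => χ i (x i)))).comap (LinearMap.single B N i) := by
        refine Submodule.span_le.2 ?_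
        rintro _ ⟨z, rfl⟩
        refine Submodule.subset_span ⟨Pi.single i z, funext fun j => ?_⟩
        rcases eq_or_ne j i with rfl | hj
        · simp
        · simp [hj]
      exact this hi
  rw [hspan, (Submodule.quotientPi p).length_eq, Module.length_pi_of_fintype]
  rw [Finset.sum_congr rfl fun i _ => ((hp i).some.length_eq.trans (aux (A i)))]
  induction (Finset.univ : Finset (Fin n)) using Finset.induction_on with
  | empty => simp
  | insert a s ha ih => rw [Finset.sum_insert ha, Finset.prod_insert ha, IsDiscreteValuationRing.addVal_mul, ih]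

end Groth.Agent.S19624
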