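import Groth.Statements.S19625
import Groth.Agent.S13459
import Groth.Agent.Lib.FundLocal.InvHom
import Groth.Agent.Lib.TensorMod.Pullback
import Groth.Agent.Lib.SurfInt.PushIso
import Groth.Agent.Lib.SurfInt.NegDef
import Groth.Agent.Lib.Snapper.Finite
-- import your own Groth.Agent.* helpers here

set_option autoImplicit false
universe u
open CategoryTheory CategoryTheory.Limits AlgebraicGeometry
open Surf

namespace Groth.Agent.S19625

/-- Let k be a field and S an integral surface (dimension two) which is smooth over k and projective (a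
closed immersion into some P^n_k over k). Let i : C → S be the closed immersion of an integral curve
(dimension one) all of whose local rings are regular, with ideal sheaf I ⊆ O_S, and let N =
Hom(i^*I, O_C) be the normal sheaf of C in S, the dual of the conormal sheaf i^*I (the sheaf Hom,
assumed to exist as the right adjoint of tensoring with i^*I). Then the self-intersection number
C·C, namely the intersection number of O_S(C) with itself computed as the alternating sum χ(O_S) −
2χ(I) + χ(I ⊗ I) with the inverse I = O_S(−C) of O_S(C) (packaged as FGA.intNum), equals the degree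
of N on C, the degree of a module M on C being χ(M) − χ(O_C). -/
theorem result (k : Type u) [Field k] (S : Scheme.{u}) [S.Over (Spec (CommRingCat.of k))]
    [IsIntegral S] (hdim : topologicalKrullDim S = 2) [Smooth (S ↘ (Spec (CommRingCat.of k)))]
    (hproj : ∃ (n : ℕ) (ι : S ⟶ CohB1.ProjSpace n k), IsClosedImmersion ι ∧ ι ≫ CohB1.ProjSpace.toSpec n k = (S ↘ (Spec (CommRingCat.of k))))
    (C : Scheme.{u}) (i : C ⟶ S) [IsClosedImmersion i] [IsIntegral C] (hC : topologicalKrullDim C = 1)
    (hCreg : ∀ c : C, IsRegularLocalRing (C.presheaf.stalk c))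
    [DCoh.HasSheafHom (Omega.conormal i)] :
    letI : C.Over (Spec (CommRingCat.of k)) := ⟨i ≫ (S ↘ (Spec (CommRingCat.of k)))⟩
    FGA.intNum k S 2 ![ClSub.idealMod i.ker, ClSub.idealMod i.ker] (Coh.structureModule S) =
      Curv2.deg k C ((DCoh.sheafHom (Omega.conormal i)).obj (Coh.structureModule C)) 1 := by
  letI : C.Over (Spec (CommRingCat.of k)) := ⟨i ≫ (S ↘ (Spec (CommRingCat.of k)))⟩
  obtain ⟨n, ι, hc, hι⟩ := hproj
  haveI := hc
  haveI : IsProper (S ↘ Spec (CommRingCat.of k)) := by rw [← hι]; infer_instance
  haveI := Lib.Curves.GlobalSections.isNoetherian_of_proper k S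
  haveI : IsIntegral i.image :=
    haveI : Nonempty i.image := ⟨i.toImage (Classical.arbitrary C)⟩
    isIntegral_of_isOpenImmersion (CategoryTheory.inv i.toImage)
  haveI : IsIntegral i.ker.subscheme := ‹IsIntegral i.image›
  have hsupp : topologicalKrullDim (i.ker.support : Set S) = 1 := by
    rw [← Lib.SurfInt.Surface.dim_subscheme, ← hC]
    exact (IsHomeomorph.topologicalKrullDim_eq _
      (Scheme.homeoOfIso (asIso i.toImage)).isHomeomorph).symm
  have hI := Lib.SurfInt.Effective.isInvertible_idealMod
    (Lib.SurfInt.Curve.isEffCartier (S ↘ Spec (CommRingCat.of k)) hdim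
      (Lib.SurfInt.NegDef.regular_of_smooth (k := k)) i.ker hsupp)
  obtain ⟨L, hL, ⟨e⟩⟩ := Lib.TensorMod.Invertible.exists_inverse hI
  rw [Groth.Agent.S13459.result k S hdim ⟨n, ι, hc, hι⟩ C i hC hCreg L (ClSub.idealMod i.ker) hL
    ⟨Lib.TensorMod.Basic.comm _ _ ≪≫ e⟩]
  let e' : CohB1.tensorMod (Omega.conormal i) ((Scheme.Modules.pullback i).obj L) ≅ Coh.structureModule C :=
    (Lib.TensorMod.Pullback.pullbackTensorIso i (ClSub.idealMod i.ker) L).symm ≪≫
      (Scheme.Modules.pullback i).mapIso e ≪≫ PicLoc.pullbackStructureIso i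
  have he := Lib.Curves.Euler.euler_eq_of_iso (k := k)
    (Lib.FundLocal.InvHom.homIso' e' (Coh.structureModule C) ≪≫ Lib.TensorMod.Basic.leftUnit _)
  simp only [Curv2.deg]
  exact congrArg (fun e : ℤ => e - ((1 : ℕ) : ℤ) * Curv2.euler k C (Coh.structureModule C)) he.symm

end Groth.Agent.S19625
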