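import Groth.Statements.S19628
import Groth.Agent.S15295
import Mathlib.RingTheory.Flat.Basic
import Mathlib.LinearAlgebra.TensorProduct.RightExactness
open scoped TensorProduct

set_option autoImplicit false
universe u
open DeRham

namespace Groth.Agent.S19628

open exteriorPower in
/-- In the affine case, at ring level, let k ⊆ K be an extension of fields of characteristic zero, A a
smooth k-algebra and A' = K ⊗_k A (a pushout square of commutative rings with the scalar-tower
conventions). Let d be the de Rham differential of A over k, d' that of A' over K, and ψ the map of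
de Rham complexes induced by A → A', assumed compatible with d and d'. Then for every p the K-span
of ψ(closed p-forms of A/k) is the module of closed p-forms of A'/K, and the K-span of ψ(exact
p-forms of A/k) is the module of exact p-forms of A'/K. Together with the degreewise base-change
bijection for exterior powers of differentials, this says that the natural map H^p_dR(A/k) ⊗_k K →
H^p_dR(A'/K) is an isomorphism. (The source states the isomorphism H^i_dR(X) ⊗_k K ≅ H^i_dR(X_K) for
a smooth variety X, induced by a quasi-isomorphism of complexes; this row is the case of an affine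
X, phrased through closed and exact forms.) -/
theorem result
    (k K : Type u) [Field k] [Field K] [CharZero k] [Algebra k K]
    (A A' : Type u) [CommRing A] [CommRing A'] [Algebra k A] [Algebra.Smooth k A]
    [Algebra A A'] [Algebra k A'] [IsScalarTower k A A'] [Algebra K A'] [IsScalarTower k K A']
    [Algebra.IsPushout k K A A']
    (d : ∀ p : ℕ, ↥(⋀[A]^p (Ω[A⁄k])) →ₗ[k] ↥(⋀[A]^(p + 1) (Ω[A⁄k])))
    (hd : DeRham.IsDiff (KaehlerDifferential.D k A) d)
    (d' : ∀ p : ℕ, ↥(⋀[A']^p (Ω[A'⁄K])) →ₗ[K] ↥(⋀[A']^(p + 1) (Ω[A'⁄K])))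
    (hd' : DeRham.IsDiff (KaehlerDifferential.D K A') d')
    (ψ : ∀ p : ℕ, ↥(⋀[A]^p (Ω[A⁄k])) →+ ↥(⋀[A']^p (Ω[A'⁄K])))
    (hψ : DeRham.IsCxMap (KaehlerDifferential.D k A) (KaehlerDifferential.D K A') (algebraMap A A') ψ)
    (hcomm : ∀ (p : ℕ) (x : ↥(⋀[A]^p (Ω[A⁄k]))), ψ (p + 1) (d p x) = d' p (ψ p x))
    (p : ℕ) :
    Submodule.span K (ψ p '' (DeRham.cocycles d p : Set ↥(⋀[A]^p (Ω[A⁄k])))) = DeRham.cocycles d' p ∧
      Submodule.span K (ψ p '' (DeRham.coboundaries d p : Set ↥(⋀[A]^p (Ω[A⁄k])))) =
        DeRham.coboundaries d' p := by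
  classical
  have hsmul : ∀ (q : ℕ) (r : k) (x : ↥(⋀[A]^q (Ω[A⁄k]))), ψ q (r • x) = algebraMap k K r • ψ q x := by
    intro q r x
    induction x using Groth.Agent.Lib.DeRhamAlg.Basic.gen_induction (KaehlerDifferential.D k A)
      (Groth.Agent.Lib.DeRhamAlg.Basic.span_range_D_eq_top k A) with
    | zero => simp
    | add x y hx hy => simp only [smul_add, map_add, hx, hy]
    | gen b₀ b =>
      rw [← algebraMap_smul A r, ← algebraMap_smul A' (algebraMap k K r)]
      simp only [DeRham.gen, smul_smul]
      rw [show ψ q ((algebraMap k A r * b₀) • exteriorPower.ιMulti A q fun i => KaehlerDifferential.D k A (b i))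
        = DeRham.gen (KaehlerDifferential.D K A') q (algebraMap A A' (algebraMap k A r * b₀))
          (fun i => algebraMap A A' (b i)) from hψ q _ b,
        show ψ q (b₀ • exteriorPower.ιMulti A q fun i => KaehlerDifferential.D k A (b i))
        = DeRham.gen (KaehlerDifferential.D K A') q (algebraMap A A' b₀)
          (fun i => algebraMap A A' (b i)) from hψ q b₀ b,
        map_mul, ← IsScalarTower.algebraMap_apply k A A', IsScalarTower.algebraMap_apply k K A']
      exact mul_smul _ _ _
  have hΦ : ∀ q, ∃ Φ : (K ⊗[k] ↥(⋀[A]^q (Ω[A⁄k]))) →+ ↥(⋀[A']^q (Ω[A'⁄K])),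
      (∀ (s : K) x, Φ (s ⊗ₜ[k] x) = s • ψ q x) := by
    intro q
    refine ⟨TensorProduct.liftAddHom
      (AddMonoidHom.mk' (fun s => AddMonoidHom.mk' (fun x => s • ψ q x) (fun x y => by rw [map_add, smul_add]))
        (fun s t => by ext x; exact add_smul _ _ _)) (fun r s x => ?_), fun s x => rfl⟩
    show (r • s) • ψ q x = s • ψ q (r • x)
    rw [hsmul, smul_smul, Algebra.smul_def, mul_comm]
  choose Φ hΦ using hΦ
  have hbij : ∀ q, Function.Bijective (Φ q) := fun q =>
    Groth.Agent.S15295.result k K A A' ψ hψ q (Φ q) (hΦ q)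
  have hcomm' : ∀ q z, d' q (Φ q z) = Φ (q + 1) ((d q).lTensor K z) := by
    intro q z
    induction z with
    | zero => simp
    | add a b ha hb => simp only [map_add, ha, hb]
    | tmul s x => rw [LinearMap.lTensor_tmul, hΦ, hΦ, map_smul, hcomm]
  have hspan : ∀ (q : ℕ) (S : Submodule k ↥(⋀[A]^q (Ω[A⁄k]))) (z : K ⊗[k] S),
      Φ q (S.subtype.lTensor K z) ∈ Submodule.span K (ψ q '' (S : Set ↥(⋀[A]^q (Ω[A⁄k])))) := by
    intro q S z
    induction z with
    | zero => simp
    | add a b ha hb => rw [map_add, map_add]; exact add_mem ha hb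
    | tmul s x =>
      rw [LinearMap.lTensor_tmul, hΦ]
      exact Submodule.smul_mem _ _ (Submodule.subset_span ⟨x, x.2, rfl⟩)
  refine ⟨le_antisymm (Submodule.span_le.mpr ?_) (fun y hy => ?_), ?_⟩
  · rintro _ ⟨x, hx, rfl⟩
    show d' p (ψ p x) = 0
    rw [← hcomm, show d p x = 0 from hx, map_zero]
  · obtain ⟨w, rfl⟩ := (hbij p).2 y
    have hw : (d p).lTensor K w = 0 := by
      apply (hbij (p + 1)).1
      rw [← hcomm', map_zero]
      exact hy
    have hex : Function.Exact (⇑(DeRham.cocycles d p).subtype) (⇑(d p)) :=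
      LinearMap.exact_subtype_ker_map (d p)
    have hlex := @Module.Flat.lTensor_exact k K _ _ _ _ ↥(DeRham.cocycles d p) _ _ _ _ _ _ _ _
      (DeRham.cocycles d p).subtype (d p) hex
    obtain ⟨z, rfl⟩ := (hlex w).mp hw
    exact hspan p _ z
  · cases p with
    | zero =>
      simp [DeRham.coboundaries]
    | succ p =>
      refine le_antisymm (Submodule.span_le.mpr ?_) ?_
      · rintro _ ⟨_, ⟨x, rfl⟩, rfl⟩
        exact ⟨ψ p x, (hcomm p x).symm⟩
      · rintro _ ⟨y, rfl⟩
        obtain ⟨w, rfl⟩ := (hbij p).2 y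
        rw [hcomm']
        induction w with
        | zero => simp
        | add a b ha hb => rw [map_add, map_add]; exact add_mem ha hb
        | tmul s x =>
          rw [LinearMap.lTensor_tmul, hΦ]
          exact Submodule.smul_mem _ _ (Submodule.subset_span ⟨_, ⟨x, rfl⟩, rfl⟩)


end Groth.Agent.S19628
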