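import Groth.Statements.S19630
import Groth.Agent.Lib.DeRhamAlg.Basic
import Mathlib.RingTheory.Unramified.Field
import Mathlib.RingTheory.Kaehler.Basic
import Mathlib.FieldTheory.Perfect

set_option autoImplicit false
universe u
open DeRham

namespace Groth.Agent.S19630

open exteriorPower in
/-- In the affine case, at ring level, let k ⊆ K be a finite extension of fields of characteristic zero
and B a smooth K-algebra, so that Y = Spec B is a smooth affine variety over K which may also be
regarded over k. Let ψ be the map of de Rham complexes from Ω•_{B/k} to Ω•_{B/K} induced by the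
identity of B. Then ψ is bijective in every degree: the de Rham complex of Y over k and over K
coincide, and hence the natural map H^i_dR(Y/k) → H^i_dR(Y/K) is an isomorphism. (The source states
the isomorphism on de Rham cohomology for any smooth variety Y over K, through the equality of the
two de Rham complexes; this row is that equality for affine Y.) -/
theorem result
    (k K : Type u) [Field k] [Field K] [CharZero k] [Algebra k K] [Module.Finite k K]
    (B : Type u) [CommRing B] [Algebra K B] [Algebra k B] [IsScalarTower k K B] [Algebra.Smooth K B]
    (ψ : ∀ p : ℕ, ↥(⋀[B]^p (Ω[B⁄k])) →+ ↥(⋀[B]^p (Ω[B⁄K])))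
    (hψ : DeRham.IsCxMap (KaehlerDifferential.D k B) (KaehlerDifferential.D K B) (RingHom.id B) ψ)
    (p : ℕ) :
    Function.Bijective (ψ p) := by
  haveI : Algebra.IsSeparable k K := inferInstance
  haveI : Algebra.FormallyUnramified k K := Algebra.FormallyUnramified.of_isSeparable k K
  set l : Ω[B⁄k] →ₗ[B] Ω[B⁄K] := KaehlerDifferential.map k K B B with hl
  have hsurj : Function.Surjective l := KaehlerDifferential.map_surjective k K B
  have hinj : Function.Injective l := by
    have hex := KaehlerDifferential.exact_mapBaseChange_map k K B
    rw [injective_iff_map_eq_zero]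
    intro x hx
    obtain ⟨z, rfl⟩ := (hex x).mp hx
    rw [Subsingleton.elim z 0, map_zero]
  let e := LinearEquiv.ofBijective l ⟨hinj, hsurj⟩
  have hψl : ∀ x, ψ p x = exteriorPower.map p l x := by
    intro x
    induction x using Groth.Agent.Lib.DeRhamAlg.Basic.gen_induction (KaehlerDifferential.D k B)
      (Groth.Agent.Lib.DeRhamAlg.Basic.span_range_D_eq_top k B) with
    | zero => simp
    | add x y hx hy => simp only [map_add, hx, hy]
    | gen b₀ b =>
      rw [hψ]
      simp only [DeRham.gen, map_smul, exteriorPower.map_apply_ιMulti, RingHom.id_apply]
      congr 2
      funext i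
      exact (KaehlerDifferential.map_D k K B B (b i)).symm
  have hb : Function.Bijective (exteriorPower.map p l) := by
    refine ⟨exteriorPower.map_injective e.symm.toLinearMap ?_, exteriorPower.map_surjective hsurj⟩
    exact LinearMap.ext fun x => e.symm_apply_apply x
  rw [show (ψ p : _ → _) = exteriorPower.map p l from funext hψl]
  exact hb

end Groth.Agent.S19630
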