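import Groth.Statements.S19632
import Groth.Agent.H19.Laurent
import Groth.Agent.Lib.DeRhamAlg.Basic

set_option autoImplicit false
universe u
open DeRham

namespace Groth.Agent.S19632

open Groth.Agent.H19.Laurent Groth.Agent.Lib.DeRhamAlg.Basic


/-- Let k be a field of characteristic zero and G_m = Spec k[t, t⁻¹] the multiplicative group. The
kernel of the differential d : k[t, t⁻¹] → Ω¹ of the de Rham complex of G_m consists of the
constants: for a Laurent polynomial f, df = 0 if and only if f lies in the image of k. Equivalently
H^0_dR(G_m/k) = k. (Characteristic zero is used: in characteristic p the element t^p is closed.) -/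
theorem result (k : Type u) [Field k] [CharZero k]
    (f : LaurentPolynomial k) :
    KaehlerDifferential.D k (LaurentPolynomial k) f = 0 ↔ f ∈ Set.range (algebraMap k (LaurentPolynomial k)) := by
  constructor
  · intro hf
    have h0 : euler k f = 0 := by
      rw [← Derivation.liftKaehlerDifferential_comp_D (euler k) f, hf, map_zero]
    refine ⟨f.coeff 0, ?_⟩
    ext n
    have hn := coeff_euler k f n
    rw [h0] at hn
    simp only [AddMonoidAlgebra.coeff_zero, Finsupp.coe_zero, Pi.zero_apply] at hn
    rw [LaurentPolynomial.algebraMap_apply, Algebra.algebraMap_self, RingHom.id_apply,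
      ← LaurentPolynomial.single_eq_C, AddMonoidAlgebra.coeff_single, Finsupp.single_apply]
    split_ifs with h
    · rw [h]
    · exact ((mul_eq_zero.mp hn.symm).resolve_left (by exact_mod_cast Ne.symm h)).symm
  · rintro ⟨c, rfl⟩
    exact Derivation.map_algebraMap _ _


end Groth.Agent.S19632
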