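import Groth.Statements.S19633
import Groth.Agent.H19.Laurent
import Groth.Agent.Lib.DeRhamAlg.Basic

set_option autoImplicit false
universe u
open DeRham

namespace Groth.Agent.S19633

open Groth.Agent.H19.Laurent Groth.Agent.Lib.DeRhamAlg.Basic


open exteriorPower in
/-- Let k be a field of characteristic zero, G_m = Spec k[t, t⁻¹], and d the de Rham differential of
k[t, t⁻¹] over k. Then: every 1-form is closed; the exact 1-forms and the k-line spanned by t⁻¹ dt
are complementary subspaces of the 1-forms, and t⁻¹ dt is not exact — so H^1_dR(G_m/k) is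
one-dimensional, generated by the class of dt/t (the isomorphism with k being the residue); and for
every i ≥ 2 the closed i-forms are exact, so H^i_dR(G_m/k) = 0 for i > 1. (Characteristic zero is
used in the computation of the exact forms.) -/
theorem result (k : Type u) [Field k] [CharZero k]
    (d : ∀ p : ℕ, ↥(⋀[LaurentPolynomial k]^p (Ω[LaurentPolynomial k⁄k])) →ₗ[k] ↥(⋀[LaurentPolynomial k]^(p + 1) (Ω[LaurentPolynomial k⁄k])))
    (hd : DeRham.IsDiff (KaehlerDifferential.D k (LaurentPolynomial k)) d) :
    DeRham.cocycles d 1 = ⊤ ∧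
    IsCompl (DeRham.coboundaries d 1)
      (Submodule.span k {DeRham.gen (KaehlerDifferential.D k (LaurentPolynomial k)) 1
        (LaurentPolynomial.T (-1)) (fun _ => LaurentPolynomial.T 1)}) ∧
    DeRham.gen (KaehlerDifferential.D k (LaurentPolynomial k)) 1
        (LaurentPolynomial.T (-1)) (fun _ => LaurentPolynomial.T 1) ∉ DeRham.coboundaries d 1 ∧
    ∀ i : ℕ, DeRham.cocycles d (i + 2) ≤ DeRham.coboundaries d (i + 2) := by
  classical
  set A := LaurentPolynomial k
  set D := KaehlerDifferential.D k A with hD
  set ψ : ↥(⋀[A]^1 (Ω[A⁄k])) →ₗ[A] A :=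
    (euler k).liftKaehlerDifferential ∘ₗ (exteriorPower.oneEquiv A (Ω[A⁄k])).toLinearMap with hψ
  have hdl : (euler k).liftKaehlerDifferential (dlogT k) = 1 := by
    rw [dlogT, map_smul, Derivation.liftKaehlerDifferential_comp_D, smul_eq_mul,
      show euler k (LaurentPolynomial.T 1) = LaurentPolynomial.T 1 by
        rw [show (LaurentPolynomial.T 1 : A) = AddMonoidAlgebra.single 1 1 from rfl, euler_single]
        simp, ← LaurentPolynomial.T_add]
    simp
  have hall : ∀ ω : Ω[A⁄k], ω = (euler k).liftKaehlerDifferential ω • dlogT k := by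
    intro ω
    have hω : ω ∈ Submodule.span A (Set.range D) := by
      rw [hD, span_range_D_eq_top]; trivial
    induction hω using Submodule.span_induction with
    | mem x hx =>
      obtain ⟨f, rfl⟩ := hx
      rw [Derivation.liftKaehlerDifferential_comp_D]
      exact D_eq_euler_smul k f
    | zero => simp
    | add x y _ _ hx hy => rw [map_add, add_smul, ← hx, ← hy]
    | smul a x _ hx => rw [map_smul, smul_eq_mul, mul_smul, ← hx]
  have hz : ∀ (i : ℕ) (x : ↥(⋀[A]^(i + 2) (Ω[A⁄k]))), x = 0 := by
    intro i x
    refine linearMap_ext (f := LinearMap.id) (g := (0 : _ →ₗ[A] _)) (fun v => ?_) x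
    simp only [LinearMap.id_apply, LinearMap.zero_apply]
    have hv : v = fun j => (euler k).liftKaehlerDifferential (v j) • dlogT k :=
      funext fun j => hall (v j)
    rw [hv, AlternatingMap.map_smul_univ,
      AlternatingMap.map_eq_zero_of_eq (i := (0 : Fin (i + 2))) (j := 1) _ _ rfl (by simp), smul_zero]
  have hinj : Function.Injective ψ := by
    intro x y h
    apply (exteriorPower.oneEquiv A (Ω[A⁄k])).injective
    rw [hall (exteriorPower.oneEquiv A _ x), hall (exteriorPower.oneEquiv A _ y)]
    exact congrArg (fun a => a • dlogT k) h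
  have hψg : ∀ (a : A) (b : Fin 1 → A), ψ (DeRham.gen D 1 a b) = a * euler k (b 0) := by
    intro a b
    simp only [hψ, DeRham.gen, map_smul, LinearMap.comp_apply, LinearEquiv.coe_coe, exteriorPower.oneEquiv_ιMulti, smul_eq_mul]
    exact congrArg _ (Derivation.liftKaehlerDifferential_comp_D _ _)
  have hψd : ∀ f : A, ψ (d 0 (DeRham.gen D 0 f ![])) = euler k f := by
    intro f
    rw [d_gen hd.1, hψg, one_mul, Fin.cons_zero]
  have hrange : ∀ x, x ∈ DeRham.coboundaries d 1 ↔ (ψ x).coeff 0 = 0 := by
    intro x
    constructor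
    · rintro ⟨y, rfl⟩
      induction y using gen_induction D (span_range_D_eq_top k A) with
      | zero => simp
      | add a b ha hb => rw [map_add, map_add, AddMonoidAlgebra.coeff_add, Finsupp.add_apply, ha, hb, add_zero]
      | gen b₀ b =>
        rw [d_gen hd.1, hψg, one_mul, Fin.cons_zero, coeff_euler]
        simp
    · intro hx
      refine ⟨DeRham.gen D 0 ((ψ x).coeff.sum fun n c => AddMonoidAlgebra.single n ((n : k)⁻¹ * c)) ![], ?_⟩
      apply hinj
      rw [hψd, map_finsuppSum]
      conv_rhs => rw [← AddMonoidAlgebra.sum_coeff_single (ψ x)]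
      refine Finsupp.sum_congr fun n hn => ?_
      rw [euler_single, ← mul_assoc]
      rcases eq_or_ne n 0 with rfl | hn0
      · exact absurd hx (Finsupp.mem_support_iff.mp hn)
      · rw [mul_inv_cancel₀ (by exact_mod_cast hn0), one_mul]
  have hψe : ψ (DeRham.gen D 1 (LaurentPolynomial.T (-1)) (fun _ => LaurentPolynomial.T 1)) = 1 := by
    rw [hψg]
    rw [← hdl, dlogT, map_smul, Derivation.liftKaehlerDifferential_comp_D]
    rfl
  have hone : ((1 : A)).coeff 0 = (1 : k) := Finsupp.single_eq_same
  refine ⟨?_, ?_, ?_, ?_⟩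
  · rw [eq_top_iff]
    intro x _
    exact hz 0 (d 1 x)
  · constructor
    · rw [Submodule.disjoint_def]
      intro x hx hx'
      obtain ⟨c, rfl⟩ := Submodule.mem_span_singleton.mp hx'
      have hc := (hrange _).mp hx
      rw [LinearMap.map_smul_of_tower, hψe] at hc
      have : c = 0 := by rw [AddMonoidAlgebra.coeff_smul, Finsupp.smul_apply, hone, smul_eq_mul, mul_one] at hc; exact hc
      rw [this, zero_smul]
    · rw [codisjoint_iff, eq_top_iff]
      intro x _
      refine Submodule.mem_sup.mpr ⟨x - (ψ x).coeff 0 • _, ?_, _,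
        Submodule.smul_mem _ ((ψ x).coeff 0) (Submodule.mem_span_singleton_self _), sub_add_cancel x _⟩
      rw [hrange, map_sub, LinearMap.map_smul_of_tower, hψe, AddMonoidAlgebra.coeff_sub, Finsupp.sub_apply,
        AddMonoidAlgebra.coeff_smul, Finsupp.smul_apply, hone, smul_eq_mul, mul_one, sub_self]
  · intro hc
    have := (hrange _).mp hc
    rw [hψe, hone] at this
    exact one_ne_zero this
  · intro i x _
    rw [hz i x]
    exact zero_mem _


end Groth.Agent.S19633
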