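import Groth.Statements.S19647

import Groth.Agent.Lib.GrpSch.AttrRep
import Mathlib.AlgebraicGeometry.Morphisms.FiniteType
import Mathlib.AlgebraicGeometry.Morphisms.FinitePresentation
import Mathlib.RingTheory.Adjoin.Basic

set_option autoImplicit false
universe u
open CategoryTheory MonoidalCategory CartesianMonoidalCategory AlgebraicGeometry Opposite
open Magnet

namespace Groth.Agent.S19647

attribute [local instance] Groth.Agent.Lib.GrpSch.AttrAffine.baseAlg

open Groth.Agent.Lib.GrpSch Groth.Agent.Lib.GrpSch.AttrAffine in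
/-- The degrees of finitely many generators of a chart. -/
theorem exists_degrees {S : Scheme.{u}} {M : Type} [AddCommMonoid M] {X : Over S} [IsAffineHom X.hom]
    [LocallyOfFiniteType X.hom] (a : Magnet.MonAct (Magnet.AMonS S M) X) {V : S.Opens} (hV : IsAffineOpen V)
    (ρ : Γ(X.left, X.hom ⁻¹ᵁ V) ⟶ bcRing R0.{u} M Γ(X.left, X.hom ⁻¹ᵁ V))
    (hρ : Spec.map ρ ≫ (hV.preimage X.hom).fromSpec = chartOrbit a (hV.preimage X.hom)) :
    ∃ D : Finset M, ∀ N L : AddSubmonoid M, (∀ d ∈ D, d ∈ N → d ∈ L) → chartIdeal ρ L ≤ chartIdeal ρ N := by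
  classical
  let U := X.hom ⁻¹ᵁ V
  let C := Γ(X.left, U)
  let φ : Γ(S, V) ⟶ C := X.hom.appLE V U le_rfl
  have hφ : Spec.map φ ≫ hV.fromSpec = (hV.preimage X.hom).fromSpec ≫ X.hom :=
    IsAffineOpen.SpecMap_appLE_fromSpec X.hom hV (hV.preimage X.hom) le_rfl
  have hbase : φ ≫ ρ = φ ≫ bcInl R0.{u} M C := by
    refine Spec.map_injective ((cancel_mono hV.fromSpec).1 ?_)
    rw [Spec.map_comp, Spec.map_comp, Category.assoc, Category.assoc, hφ, reassoc_of% hρ, chartOrbit_comp_hom]
  have hft : φ.hom.FiniteType :=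
    HasRingHomProperty.appLE @LocallyOfFiniteType X.hom inferInstance ⟨V, hV⟩ ⟨U, hV.preimage X.hom⟩ le_rfl
  letI := φ.hom.toAlgebra
  obtain ⟨G, hG⟩ := (hft : Algebra.FiniteType Γ(S, V) C).out
  let rep : bcRing R0.{u} M C → (Multiplicative M →₀ (C : Type u)) := fun z =>
    (Algebra.TensorProduct.basis (C : Type u) (MonoidAlgebra.basis (Multiplicative M) R0.{u})).repr z
  refine ⟨G.biUnion fun g => (rep (ρ.hom g)).support.image Multiplicative.toAdd, fun N L hD => ?_⟩
  rw [chartIdeal, Ideal.span_le]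
  rintro _ ⟨b, m, hm, rfl⟩
  let J := chartIdeal ρ N
  let B : CommRingCat.{u} := CommRingCat.of ((C : Type u) ⧸ J)
  let q : C ⟶ B := CommRingCat.ofHom (Ideal.Quotient.mk J)
  have hmem : ∀ z, z ∈ Set.range (bcMap R0.{u} B L.subtype).hom ↔
      ∀ m, m ∉ Set.range (AddMonoidHom.toMultiplicative L.subtype) → coord R0.{u} B z m = 0 :=
    mem_range_bcMap_iff R0.{u} B L.subtype
  let W : Subring (C : Type u) := (bcMap R0.{u} B L.subtype).hom.range.comap
    ((bcNat R0.{u} (toAlgHom' q)).hom.comp ρ.hom)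
  have hW : ∀ z, z ∈ W ↔ ∀ m, m ∉ Set.range (AddMonoidHom.toMultiplicative L.subtype) →
      coord R0.{u} C (ρ.hom z) m ∈ J := by
    intro z
    refine (hmem _).trans (forall_congr' fun m => imp_congr_right fun _ => ?_)
    exact (Iff.of_eq (congrArg (· = 0) (coord_bcNat R0.{u} (toAlgHom' q) (ρ.hom z) m))).trans
      Ideal.Quotient.eq_zero_iff_mem
  suffices ∀ z, z ∈ W from (hW b).1 (this b) m hm
  intro z
  have hz : z ∈ Algebra.adjoin Γ(S, V) (G : Set (C : Type u)) := by rw [hG]; trivial
  induction hz using Algebra.adjoin_induction with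
  | mem g hg =>
    rw [hW]
    intro n hn
    by_cases hn0 : coord R0.{u} C (ρ.hom g) n = 0
    · rw [hn0]; exact J.zero_mem
    refine Ideal.subset_span ⟨g, n, ?_, rfl⟩
    rintro ⟨y, rfl⟩
    refine hn ⟨Multiplicative.ofAdd ⟨(y.toAdd : M), hD _ ?_ y.toAdd.2⟩, rfl⟩
    exact Finset.mem_biUnion.2 ⟨g, hg, Finset.mem_image.2
      ⟨_, Finsupp.mem_support_iff.2 hn0, rfl⟩⟩
  | algebraMap r =>
    show (bcNat R0.{u} (toAlgHom' q)).hom (ρ.hom (φ.hom r)) ∈ (bcMap R0.{u} B L.subtype).hom.range
    rw [show ρ.hom (φ.hom r) = (bcInl R0.{u} M C).hom (φ.hom r) from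
      RingHom.congr_fun (congrArg CommRingCat.Hom.hom hbase) r]
    refine ⟨(bcInl R0.{u} ↥L B).hom (q.hom (φ.hom r)), ?_⟩
    have h1 := RingHom.congr_fun (congrArg CommRingCat.Hom.hom (bcInl_bcMap R0.{u} B L.subtype)) (q.hom (φ.hom r))
    have h2 := RingHom.congr_fun (congrArg CommRingCat.Hom.hom
      (bcInl_bcNat R0.{u} (M := M) (toAlgHom' q))) (φ.hom r)
    exact h1.trans h2.symm
  | add x y _ _ hx hy => exact add_mem hx hy
  | mul x y _ _ hx hy => exact mul_mem hx hy

open Groth.Agent.Lib.GrpSch Groth.Agent.Lib.GrpSch.AttrAffine in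
theorem orbitFactors_mono {S : Scheme.{u}} {M : Type} [AddCommMonoid M] {X : Over S}
    (a : Magnet.MonAct (Magnet.AMonS S M) X) {L N : AddSubmonoid M} (h : L ≤ N) {T : Over S} (x : T ⟶ X)
    (hx : OrbitFactors a L x) : OrbitFactors a N x := by
  obtain ⟨φ, hφ⟩ := hx
  refine ⟨(Magnet.AMonS.map S (AddSubmonoid.inclusion h) ▷ T) ≫ φ, ?_⟩
  rw [← MonoidalCategory.comp_whiskerRight_assoc, ← Magnet.AMonS.map_comp]
  exact hφ

/-- Let S be a quasi-compact scheme, M a commutative monoid and X an S-scheme affine and of finite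
presentation over S with an action of the diagonalizable monoid scheme A(M)_S. Call a submonoid
(magnet) N of M pure when every submonoid L whose attractor X^L has the same image in X as X^N (on
T-points, for every S-scheme T) contains N. Then the set of pure magnets is finite. (The published
statement carries no quasi-compactness assumption on the base. Over the disjoint union S of
countably many copies of Spec ℚ indexed by n ≥ 1, let the multiplicative group act on the affine
line over the n-th copy with weight n: this X is affine and of finite presentation over S, yet the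
submonoids dℕ of ℤ, d ≥ 1, are pairwise distinct pure magnets; the finite set of generating degrees
used in the published argument exists only over a quasi-compact base, so S is taken quasi-compact
here. The source allows X an algebraic space; here X is a scheme.) -/
theorem result (S : Scheme.{u}) [CompactSpace S] (M : Type) [AddCommMonoid M]
    {X : Over S} [IsAffineHom X.hom] [LocallyOfFinitePresentation X.hom]
    (a : Magnet.MonAct (Magnet.AMonS S M) X) :
    Set.Finite {N : AddSubmonoid M | ∀ L : AddSubmonoid M,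
      (∀ T : Over S, Set.range (fun φ => (Magnet.attrToX a N).app (op T) φ) =
        Set.range (fun φ => (Magnet.attrToX a L).app (op T) φ)) → N ≤ L} := by
  classical
  have hex : ∀ s : S, ∃ V : S.Opens, IsAffineOpen V ∧ s ∈ V := fun s => by
    obtain ⟨V, hV, hs, -⟩ := exists_isAffineOpen_mem_and_subset (X := S) (x := s) (U := ⊤) trivial
    exact ⟨V, hV, hs⟩
  choose V hV hs using hex
  obtain ⟨F, hF⟩ := CompactSpace.isCompact_univ.elim_finite_subcover (fun s : S => (V s : Set S))
    (fun s => (V s).2) (fun s _ => Set.mem_iUnion.2 ⟨s, hs s⟩)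
  choose ρ hρ using fun i : F => Groth.Agent.Lib.GrpSch.AttrAffine.exists_coaction a (hV i.1)
  choose D hD using fun i : F => exists_degrees a (hV i.1) (ρ i) (hρ i)
  let Dall : Finset M := Finset.univ.biUnion D
  refine ((Set.toFinite (Dall.powerset : Set (Finset M))).image (fun s : Finset M => AddSubmonoid.closure (s : Set M))).subset fun N hN => ?_
  refine ⟨Dall.filter (· ∈ N), Finset.mem_powerset.2 (Finset.filter_subset _ _), ?_⟩
  set L := AddSubmonoid.closure ((Dall.filter (· ∈ N) : Finset M) : Set M) with hL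
  have hLN : L ≤ N := AddSubmonoid.closure_le.2 fun d hd => (Finset.mem_filter.1 hd).2
  refine le_antisymm hLN (hN L fun T => ?_)
  have hiff : ∀ x : T ⟶ X, Groth.Agent.Lib.GrpSch.AttrAffine.OrbitFactors a N x ↔
      Groth.Agent.Lib.GrpSch.AttrAffine.OrbitFactors a L x := fun x =>
    ⟨Groth.Agent.Lib.GrpSch.AttrAffine.orbitFactors_of_charts a L a N (fun i : F => V i.1) (fun i => hV i.1)
      (fun s => by
        obtain ⟨i, hi, hsi⟩ := Set.mem_iUnion₂.1 (hF (Set.mem_univ s))
        exact ⟨⟨i, hi⟩, hsi⟩)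
      (fun i B τ h => by
        refine (Groth.Agent.Lib.GrpSch.AttrAffine.chart_iff a L (hV i.1) (ρ i) (hρ i) B τ).1
          (le_trans (hD i N L fun d hd hdN => ?_)
            ((Groth.Agent.Lib.GrpSch.AttrAffine.chart_iff a N (hV i.1) (ρ i) (hρ i) B τ).2 h))
        exact AddSubmonoid.subset_closure (Finset.mem_filter.2
          ⟨Finset.mem_biUnion.2 ⟨i, Finset.mem_univ _, hd⟩, hdN⟩)) x,
    orbitFactors_mono a hLN x⟩
  ext x
  constructor
  · rintro ⟨φ, hφ⟩
    exact (Groth.Agent.Lib.GrpSch.AttrAffine.exists_attr_iff a L x).2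
      ((hiff x).1 ((Groth.Agent.Lib.GrpSch.AttrAffine.exists_attr_iff a N x).1 ⟨φ, hφ⟩))
  · rintro ⟨φ, hφ⟩
    exact (Groth.Agent.Lib.GrpSch.AttrAffine.exists_attr_iff a N x).2
      ((hiff x).2 ((Groth.Agent.Lib.GrpSch.AttrAffine.exists_attr_iff a L x).1 ⟨φ, hφ⟩))

end Groth.Agent.S19647
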