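import Groth.Statements.S1965
import Groth.Agent.H48.Hens
import Mathlib.RingTheory.KrullDimension.Basic
import Mathlib.RingTheory.Finiteness.Ideal
import Mathlib.Tactic.LinearCombination
import Mathlib.Tactic.IntervalCases

set_option autoImplicit false
set_option linter.style.haveILetI false
universe u
open Polynomial
open EtAlg

namespace Groth.Agent.S1965

/-- Let A be a complete Noetherian local domain of Krull dimension 1 with maximal ideal m, P a
polynomial over A and α a root of P which is not a root of the derivative P'. Then for every c there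
is an n such that for every polynomial Q all of whose coefficients lie in m^n, the polynomial P + Q
has a root β with β - α in m^c. -/
theorem result (A : Type u) [CommRing A] [IsDomain A] [IsLocalRing A] [IsNoetherianRing A]
    [IsAdicComplete (IsLocalRing.maximalIdeal A) A] (hdim : ringKrullDim A = 1) (P : A[X]) (α : A)
    (hα : P.eval α = 0) (hα' : (derivative P).eval α ≠ 0) (c : ℕ) :
    ∃ n : ℕ, ∀ Q : A[X], (∀ i, Q.coeff i ∈ IsLocalRing.maximalIdeal A ^ n) →
      ∃ β : A, (P + Q).eval β = 0 ∧ β - α ∈ IsLocalRing.maximalIdeal A ^ c := by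
  set d := (derivative P).eval α
  set m := IsLocalRing.maximalIdeal A
  haveI : Ring.KrullDimLE 1 A := Ring.krullDimLE_iff.2 hdim.le
  have hrad : m ≤ (Ideal.span {d * d}).radical := by
    rw [Ideal.radical_eq_sInf]
    refine le_sInf fun J hJ => ?_
    haveI := hJ.2
    have hne : J ≠ ⊥ := fun h => mul_ne_zero hα' hα'
      (Ideal.mem_bot.1 (h ▸ hJ.1 (Ideal.mem_span_singleton_self _)))
    haveI : J.IsMaximal := Ideal.IsPrime.isMaximal_of_ne_bot hJ.2 hne
    exact (IsLocalRing.eq_maximalIdeal this).ge
  obtain ⟨k, hk⟩ := Ideal.exists_pow_le_of_le_radical_of_fg hrad (IsNoetherian.noetherian m)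
  refine ⟨k + (c + 1), fun Q hQ => ?_⟩
  have hev : ∀ R : A[X], (∀ i, R.coeff i ∈ m ^ (k + (c + 1))) →
      ∃ e ∈ m ^ (c + 1), R.eval α = d * d * e := by
    intro R hR
    have hle : m ^ (k + (c + 1)) ≤ Ideal.span {d * d} * m ^ (c + 1) := by
      rw [pow_add]; exact Ideal.mul_mono_left hk
    have : R.eval α ∈ m ^ (k + (c + 1)) := by
      rw [eval_eq_sum_range]
      exact Submodule.sum_mem _ fun i _ => Ideal.mul_mem_right _ _ (hR i)
    obtain ⟨e, he, he'⟩ := Ideal.mem_span_singleton_mul.1 (hle this)
    exact ⟨e, he, he'.symm⟩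
  obtain ⟨e, he, hee⟩ := hev Q hQ
  obtain ⟨e', he', hee'⟩ := hev (derivative Q) fun i => by
    rw [coeff_derivative]; exact Ideal.mul_mem_right _ _ (hQ _)
  set t := taylor α (P + Q) with ht
  obtain ⟨R, hR⟩ : X ^ 2 ∣ t - C (t.coeff 0) - C (t.coeff 1) * X := by
    rw [X_pow_dvd_iff]
    intro i hi
    interval_cases i <;> simp
  have ht0 : t.coeff 0 = d * d * e := by
    rw [ht, taylor_coeff_zero, eval_add, hα, hee, zero_add]
  have hu : IsUnit (1 + d * e') := by
    have : d * e' ∈ m := Ideal.mul_mem_left _ _ (Ideal.pow_le_self (by omega) he')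
    by_contra hu
    exact (IsLocalRing.maximalIdeal.isMaximal A).ne_top ((Ideal.eq_top_iff_one _).2
      (by have h9 := m.sub_mem (show 1 + d * e' ∈ m from hu) this; rwa [add_sub_cancel_right] at h9))
  have ht1 : t.coeff 1 = d * (1 + d * e') := by
    rw [ht, taylor_coeff_one, derivative_add, eval_add, hee']
    show d + d * d * e' = _
    ring
  have hH0 : (C e + C (1 + d * e') * X + R.comp (C d * X) * X ^ 2).coeff 0 = e := by
    simp [mul_coeff_zero]
  obtain ⟨y, hy, hye⟩ := H48.Hens.exists_root_mem_span_coeff_zero (I := m)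
    (C e + C (1 + d * e') * X + R.comp (C d * X) * X ^ 2)
    (by rw [hH0]; exact Ideal.pow_le_self (by omega) he)
    (by simpa [coeff_mul_X_pow', coeff_C] using hu)
  rw [hH0] at hye
  refine ⟨α + d * y, ?_, ?_⟩
  · have h1 : t.eval (d * y) = (P + Q).eval (α + d * y) := by
      rw [ht, taylor_eval, add_comm]
    rw [← h1]
    have h2 := congrArg (Polynomial.eval (d * y)) hR
    simp only [eval_sub, eval_mul, eval_C, eval_X, eval_pow, ht0, ht1] at h2
    simp only [eval_add, eval_mul, eval_C, eval_X, eval_pow, eval_comp] at hy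
    linear_combination h2 + (d * d) * hy
  · obtain ⟨z, rfl⟩ := Ideal.mem_span_singleton'.1 hye
    rw [add_sub_cancel_left]
    exact Ideal.pow_le_pow_right (by omega) (Ideal.mul_mem_left _ _ (Ideal.mul_mem_left _ _ he))

end Groth.Agent.S1965
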