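import Groth.Statements.S19652
import Groth.Agent.H4.BilinGen
-- import your own Groth.Agent.* helpers here

set_option autoImplicit false
universe u v
open AbVar

namespace Groth.Agent.S19652

open Polynomial in
/-- Stated for an arbitrary invariant nondegenerate bilinear form, as the argument there allows. Let k
be a field, V a finite-dimensional k-vector space with a nondegenerate bilinear form B and M a
linear automorphism of V with B(Mx, My) = B(x, y) for all x, y. If Q is a polynomial associated to
its own reciprocal polynomial (its coefficient list reversed), then B restricted to the generalized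
kernel of Q(M), the union of the kernels of the powers Q(M)^n, is nondegenerate. (The published
statement takes M symplectic and Q a self-reciprocal divisor of the characteristic polynomial;
divisibility plays no role and is not assumed.) -/
theorem result
    {k : Type u} [Field k] {V : Type v} [AddCommGroup V] [Module k V] [FiniteDimensional k V]
    (B : LinearMap.BilinForm k V) (hB : B.Nondegenerate) (M : V ≃ₗ[k] V)
    (hM : ∀ x y : V, B (M x) (M y) = B x y)
    (Q : k[X]) (hQ : Associated Q Q.reverse) :
    (B.restrict (⨆ n : ℕ, LinearMap.ker (Polynomial.aeval (M : V →ₗ[k] V) Q ^ n))).Nondegenerate := by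
  obtain ⟨u, hu⟩ := hQ
  obtain ⟨c, hc, hcu⟩ := Polynomial.isUnit_iff.1 u.isUnit
  set f : Module.End k V := Polynomial.aeval (M : V →ₗ[k] V) Q with hf
  have hrev : Polynomial.aeval (M : V →ₗ[k] V) Q.reverse = c • f := by
    rw [← hu, ← hcu, map_mul, Polynomial.aeval_C, ← Algebra.commutes, ← Algebra.smul_def, hf]
  have key : ∀ B' : LinearMap.BilinForm k V, B'.SeparatingLeft → (∀ x y, B' (M x) (M y) = B' x y) →
      ∀ x : (⨆ n : ℕ, LinearMap.ker (f ^ n) : Submodule k V),
        (∀ y : (⨆ n : ℕ, LinearMap.ker (f ^ n) : Submodule k V), B' x y = 0) → x = 0 := by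
    intro B' hB' hM' x hx
    obtain ⟨n, hn⟩ := (Groth.Agent.H4.BilinGen.mem_iSup_ker_pow f x).1 x.2
    refine Subtype.ext (Groth.Agent.H4.BilinGen.separating f B' hB' (x : V) n (fun z => ?_)
      (fun y hy => hx ⟨y, (Groth.Agent.H4.BilinGen.mem_iSup_ker_pow f y).2 hy⟩))
    have := Groth.Agent.H4.BilinGen.apply_reverse_pow_eq_zero B' (M : V →ₗ[k] V) hM' Q n x hn
      ((c⁻¹) ^ n • z)
    rw [hrev, smul_pow, LinearMap.smul_apply, map_smul (f ^ n), smul_smul, ← mul_pow,
      mul_inv_cancel₀ hc.ne_zero, one_pow, one_smul] at this
    exact this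
  refine ⟨fun x hx => key B hB.1 hM x hx, fun x hx => ?_⟩
  exact key B.flip (fun a ha => hB.2 a ha) (fun a b => hM b a) x hx

end Groth.Agent.S19652
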