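import Groth.Statements.S19653
import Groth.Agent.H46.ProperAt.Core

set_option autoImplicit false
universe u
open AlgebraicGeometry CategoryTheory CategoryTheory.Limits
open EGA43

namespace Groth.Agent.S19653

/-- Let R be a discrete valuation ring and f : X → Spec R a flat, separated morphism of finite type
whose closed fibre is nonempty and proper over the residue field and whose generic fibre is
geometrically connected. Then f is proper, and its closed fibre is geometrically connected too. (The
published statement does not require the closed fibre to be nonempty; the affine line over the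
fraction field, viewed over R, has empty closed fibre and satisfies the other hypotheses without
being proper, and the published proof uses a point of the closed fibre, so nonemptiness is assumed
here.) -/
theorem result
    (R : Type u) [CommRing R] [IsDomain R] [IsDiscreteValuationRing R]
    (X : Scheme.{u}) (f : X ⟶ Spec (CommRingCat.of R))
    [Flat f] [IsSeparated f] [LocallyOfFiniteType f] [QuasiCompact f]
    [IsProper (f.fiberToSpecResidueField (IsLocalRing.closedPoint R))]
    [Nonempty ↥(f.fiber (IsLocalRing.closedPoint R))]
    [GeometricallyConnected (f.fiberToSpecResidueField (genericPoint ↥(Spec (CommRingCat.of R))))] :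
    IsProper f ∧ GeometricallyConnected (f.fiberToSpecResidueField (IsLocalRing.closedPoint R)) := by
  let S := Spec (CommRingCat.of R)
  let s : S := IsLocalRing.closedPoint R
  let η : S := genericPoint S
  let A : Set X := f ⁻¹' {η}
  have hA : H46.ProperAt.GConn f η A := by
    intro L _ t ht
    obtain ⟨t', rfl⟩ := H46.ProperAt.exists_factor_point t η ht
    have hc : ConnectedSpace ↥(pullback (pullback.snd f (S.fromSpecResidueField η)) t') :=
      GeometricallyConnected.geometrically_connectedSpace
        (f := f.fiberToSpecResidueField η) t' _ _ (IsPullback.of_hasPullback _ _)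
    have hc' : ConnectedSpace ↥(pullback f (t' ≫ S.fromSpecResidueField η)) :=
      (pullbackLeftPullbackSndIso f (S.fromSpecResidueField η) t').hom.homeomorph.connectedSpace_iff.mp hc
    rw [show (pullback.fst f (t' ≫ S.fromSpecResidueField η)) ⁻¹' A = Set.univ from
      Set.eq_univ_of_forall fun z => by
        show f (pullback.fst f (t' ≫ S.fromSpecResidueField η) z) = η
        rw [← Scheme.Hom.comp_apply, pullback.condition, Scheme.Hom.comp_apply]
        exact ht _]
    exact isPreconnected_univ
  have hdense : closure A = Set.univ := Set.eq_univ_of_forall fun x => by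
    obtain ⟨x', hx', hfx'⟩ := (Flat.generalizingMap f) (genericPoint_specializes (f x))
    exact closure_mono (Set.singleton_subset_iff.2 (show x' ∈ A from hfx'))
      (specializes_iff_mem_closure.1 hx')
  have hk : IsClosedImmersion (S.fromSpecResidueField s) := IsClosedImmersion.of_isPreimmersion _ (by
    rw [Scheme.range_fromSpecResidueField]
    exact IsLocalRing.isClosed_singleton_closedPoint R)
  obtain ⟨x₀⟩ := ‹Nonempty ↥(f.fiber (IsLocalRing.closedPoint R))›
  obtain ⟨W, l, hl, -, hP, hG, hr, -⟩ := H46.ProperAt.core f A subset_rfl hA (f ⁻¹' {s})
    ⟨Set.univ, isOpen_univ, Set.univ_inter _⟩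
    ⟨_, f.fiberι s, by
      rw [show f.fiberι s ≫ f = f.fiberToSpecResidueField s ≫ S.fromSpecResidueField s from
        pullback.condition]
      infer_instance, f.range_fiberι s⟩
    ⟨f.fiberι s x₀, hdense.ge trivial, (f.range_fiberι s).le ⟨x₀, rfl⟩⟩
  haveI := hl
  haveI := hP
  haveI : Surjective l := ⟨fun x => hr.ge (hdense.ge trivial)⟩
  haveI : UniversallyClosed f := UniversallyClosed.of_comp_surjective l f
  refine ⟨{ }, ⟨geometrically_iff_of_isClosedUnderIsomorphisms.mpr fun K _ x => ?_⟩⟩
  let m : pullback (l ≫ f) (x ≫ S.fromSpecResidueField s) ⟶ pullback f (x ≫ S.fromSpecResidueField s) :=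
    pullback.lift (pullback.fst _ _ ≫ l) (pullback.snd _ _)
      (by rw [Category.assoc, pullback.condition])
  have hm : IsPullback (pullback.fst (l ≫ f) (x ≫ S.fromSpecResidueField s)) m l
      (pullback.fst f (x ≫ S.fromSpecResidueField s)) :=
    IsPullback.of_bot (h₃₁ := x ≫ S.fromSpecResidueField s)
      (v₂₁ := pullback.snd f (x ≫ S.fromSpecResidueField s)) (v₂₂ := f) (by
      rw [pullback.lift_snd]
      exact IsPullback.of_hasPullback (l ≫ f) _) (pullback.lift_fst _ _ _).symm
      (IsPullback.of_hasPullback f _)
  haveI : Surjective m := MorphismProperty.of_isPullback hm inferInstance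
  haveI : ConnectedSpace ↥(pullback (l ≫ f) (x ≫ S.fromSpecResidueField s)) :=
    hG.geometrically_connectedSpace _ _ _ (IsPullback.of_hasPullback _ _)
  haveI := m.surjective.connectedSpace m.continuous
  exact (pullbackLeftPullbackSndIso f (S.fromSpecResidueField s) x).hom.homeomorph.connectedSpace_iff.mpr
    inferInstance

end Groth.Agent.S19653
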