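import Groth.Statements.S19655
import Groth.Agent.Lib.WeilExt.Generic

set_option autoImplicit false
universe u
open CategoryTheory CategoryTheory.Limits MonoidalCategory CartesianMonoidalCategory AlgebraicGeometry
open Neron

namespace Groth.Agent.S19655

/-- Let R be a Dedekind domain with fraction field K, A an abelian variety over K (a proper smooth
geometrically connected K-group scheme) and N a Néron model of A over Spec R. Then for every smooth
R-scheme Y, every K-morphism to A defined on a dense open subscheme of the generic fibre of Y is the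
restriction of exactly one R-morphism Y → N: K-rational maps from smooth R-schemes to A extend
uniquely to the Néron model. (The text works over a connected Dedekind scheme; the affine case is
stated.) -/
theorem result
    (R : Type u) [CommRing R] [IsDedekindDomain R]
    (N : Over (Spec (CommRingCat.of R))) (A : Over (Spec (CommRingCat.of (FractionRing R))))
    (e : (Neron.genericFibre R).obj N ≅ A) (hN : Neron.IsNeronModelOf R N A e)
    [GrpObj A] [IsProper A.hom] [Smooth A.hom] [GeometricallyConnected A.hom]
    (Y : Over (Spec (CommRingCat.of R))) [Smooth Y.hom]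
    (W : ((Neron.genericFibre R).obj Y).left.Opens) (hW : Dense (W : Set ↥((Neron.genericFibre R).obj Y).left))
    (g : (W : Scheme.{u}) ⟶ A.left) (hg : g ≫ A.hom = W.ι ≫ ((Neron.genericFibre R).obj Y).hom) :
    ∃! h : Y ⟶ N, W.ι ≫ ((Neron.genericFibre R).map h ≫ e.hom).left = g := by
  obtain ⟨h1, h2, h3, h4, h5⟩ := hN
  let YK := (Neron.genericFibre R).obj Y
  have : Smooth YK.hom := MorphismProperty.pullback_snd Y.hom (Neron.genPt R) ‹_›
  let : GrpObj (Over.mk A.hom) := inferInstanceAs (GrpObj A)
  obtain ⟨k, ⟨hk, hkW⟩, huniq⟩ :=
    Groth.Agent.Lib.WeilExt.Generic.exists_ext (R := FractionRing R) YK.hom A.hom W hW g hg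
  obtain ⟨h, hh⟩ := (h5 Y inferInstance).2 (Over.homMk k hk)
  refine ⟨h, ?_, fun h' hh' => ?_⟩
  · have e : ((Neron.genericFibre R).map h ≫ e.hom).left = k := congrArg CommaMorphism.left hh
    beta_reduce
    rw [e, hkW]
  · apply (h5 Y inferInstance).1
    refine Eq.trans ?_ hh.symm
    exact Over.OverMorphism.ext (huniq _ ⟨Over.w _, hh'⟩)

end Groth.Agent.S19655
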