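import Groth.Statements.S19656
import Groth.Agent.H46.ProperAt.Gen
import Groth.Agent.Lib.FinCond.Components

set_option autoImplicit false
universe u
open AlgebraicGeometry CategoryTheory CategoryTheory.Limits Topology
open EGA43

namespace Groth.Agent.S19656

/-- Let S be a locally Noetherian scheme and f : X → S a flat, separated morphism of finite type whose
fibres over the maximal points of S (points without proper generization), when nonempty, are
geometrically connected. If the fibre of f over a point s is nonempty and proper over the residue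
field, then f is proper over an open neighbourhood of s. (The text allows an arbitrary base with f
of finite presentation, reducing to the Noetherian case by a limit argument it does not carry out;
the base is taken locally Noetherian here. As in the discrete-valuation-ring case, the fibre over s
must be nonempty: the affine line over the fraction field of a discrete valuation ring has empty,
hence proper, closed fibre and is not proper near the closed point.) -/
theorem result
    {X S : Scheme.{u}} [IsLocallyNoetherian S] (f : X ⟶ S)
    [Flat f] [IsSeparated f] [LocallyOfFiniteType f] [QuasiCompact f]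
    (hgen : ∀ η : S, (∀ η' : S, η' ⤳ η → η' = η) → Nonempty ↥(f.fiber η) →
      GeometricallyConnected (f.fiberToSpecResidueField η))
    (s : S) [Nonempty ↥(f.fiber s)] (hs : IsProper (f.fiberToSpecResidueField s)) :
    ∃ U : S.Opens, s ∈ U ∧ IsProper (f ∣_ U) := by
  haveI : IsLocallyNoetherian X := LocallyOfFiniteType.isLocallyNoetherian f
  refine Lib.DvrCrit.exists_proper_nhd_gen f s (fun x => ∀ x', x' ⤳ x → x' = x) (fun x _ => ?_)
    fun x hx W _ φ hφ w => ?_
  · obtain ⟨η, h1, h2⟩ := Lib.FinCond.exists_maximal_specializes _ x
    exact ⟨η, fun x' h => Lib.FinCond.eq_of_specializes _ h2 h, h1⟩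
  have hmax : ∀ η' : S, η' ⤳ f x → η' = f x := fun η' h => by
    obtain ⟨x', hx', rfl⟩ := (Flat.generalizingMap f) h
    rw [hx x' hx']
  have hA := H46.ProperAt.gConn_of_geometricallyConnected f (f x) (hgen _ hmax ⟨f.asFiber x⟩)
  have hj : ∀ p, X.fromSpecResidueField x p ∈ f ⁻¹' {f x} := fun p => by
    rw [Set.mem_preimage, Scheme.fromSpecResidueField_apply]
    rfl
  have hφη : φ (genericPoint (Spec (CommRingCat.of W))) = f x := by
    rw [← H46.ProperAt.gen_apply W (IsLocalRing.closedPoint _), ← Scheme.Hom.comp_apply, w,
      Scheme.Hom.comp_apply]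
    exact hj _
  obtain ⟨l, h1, h2, -⟩ := H46.ProperAt.exists_lift f (f ⁻¹' {f x}) (f ⁻¹' {s}) subset_rfl hA
    ⟨Set.univ, isOpen_univ, Set.univ_inter _⟩ (H46.ProperAt.propSet_fibre_self f s hs) W φ hφ
    (X.fromSpecResidueField x) w hj (by
      obtain ⟨a₀⟩ := ‹Nonempty ↥(f.fiber s)›
      obtain ⟨z, -, hz⟩ := Scheme.Pullback.exists_preimage_pullback (f := f) (g := φ) (f.fiberι s a₀)
        (IsLocalRing.closedPoint W) (((f.range_fiberι s).le ⟨a₀, rfl⟩).trans hφ.symm)
      haveI : Flat (pullback.snd f φ) := MorphismProperty.pullback_snd _ _ ‹_›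
      obtain ⟨z', hzz, hz'⟩ := (Flat.generalizingMap (pullback.snd f φ))
        (genericPoint_specializes ((pullback.snd f φ) z))
      rw [← hφη, ← hφ]
      exact H46.ProperAt.link_univ f φ z z' hzz hz hz')
  exact ⟨l, h1, h2⟩

end Groth.Agent.S19656
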