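import Groth.Statements.S19657
import Groth.Agent.S19656
import Groth.Agent.S16049
import Groth.Agent.S17449


set_option autoImplicit false
universe u
open AlgebraicGeometry CategoryTheory CategoryTheory.Limits Topology
open EGA43

namespace Groth.Agent.S19657

/-- The implication from the weakest fibrewise condition to the global one. Let S be a locally
Noetherian scheme and f : X → S a surjective, flat, separated morphism, locally of finite
presentation and quasi-compact, whose fibres are all smooth and proper over the residue fields and
whose fibres over the maximal points of S (points without proper generization) are geometrically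
connected. Then f is proper and smooth with geometrically connected fibres. (The text states the
criterion over an arbitrary base, appealing to a limit argument it does not carry out, and without
the words separated and surjective, which its proof uses through the properness criterion it invokes
and which are both needed: an abelian variety over the fraction field of a discrete valuation ring,
viewed over the ring, is flat of finite presentation with smooth proper fibres, the closed one
empty, and is not proper; and two copies of the projective line over a discrete valuation ring glued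
along their generic fibres form a flat, surjective, finitely presented scheme over the ring with
smooth proper fibres and geometrically connected generic fibre which is neither separated nor
proper.) -/
theorem result
    {X S : Scheme.{u}} [IsLocallyNoetherian S] (f : X ⟶ S)
    [Surjective f] [Flat f] [IsSeparated f] [LocallyOfFinitePresentation f] [QuasiCompact f]
    (hsm : ∀ s : S, Smooth (f.fiberToSpecResidueField s))
    (hpr : ∀ s : S, IsProper (f.fiberToSpecResidueField s))
    (hgen : ∀ η : S, (∀ η' : S, η' ⤳ η → η' = η) → GeometricallyConnected (f.fiberToSpecResidueField η)) :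
    IsProper f ∧ Smooth f ∧ GeometricallyConnected f := by
  have hfib : ∀ s : S, Nonempty ↥(f.fiber s) := fun s => by
    obtain ⟨x, rfl⟩ := f.surjective s
    exact ⟨f.asFiber x⟩
  have hproper : IsProper f := by
    have hU : ∀ s : S, ∃ U : S.Opens, s ∈ U ∧ IsProper (f ∣_ U) := fun s =>
      haveI := hfib s
      Groth.Agent.S19656.result f (fun η h _ => hgen η h) s (hpr s)
    choose U hsU hUp using hU
    exact IsZariskiLocalAtTarget.of_iSup_eq_top (P := @IsProper) U
      (eq_top_iff.mpr fun s _ => TopologicalSpace.Opens.mem_iSup.mpr ⟨s, hsU s⟩) hUp
  have hsmooth : Smooth f := by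
    have hW : ∀ s : S, ∃ W : X.Opens, (∀ x : X, f.base x = s → x ∈ W) ∧ Smooth (W.ι ≫ f) := fun s => by
      refine Groth.Agent.S16049.result (𝟙 S) f f (Category.comp_id f) s ?_
      let t : (𝟙 S : S ⟶ S).fiber s ⟶ Spec (S.residueField s) :=
        (𝟙 S : S ⟶ S).fiberToSpecResidueField s
      have ht : t ≫ S.fromSpecResidueField s = (𝟙 S : S ⟶ S).fiberι s := by
        refine Eq.trans ?_ (Category.comp_id _)
        exact (Limits.pullback.condition).symm
      let l := Limits.pullback.lift (f := f) (g := S.fromSpecResidueField s)
        (Limits.pullback.fst f ((𝟙 S : S ⟶ S).fiberι s))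
        (Limits.pullback.snd f ((𝟙 S : S ⟶ S).fiberι s) ≫ t)
        (by rw [Category.assoc, ht]; exact Limits.pullback.condition)
      have sq : IsPullback l (Limits.pullback.snd f ((𝟙 S : S ⟶ S).fiberι s))
          (f.fiberToSpecResidueField s) t := by
        refine IsPullback.of_right ?_ (Limits.pullback.lift_snd _ _ _)
          (IsPullback.of_hasPullback f (S.fromSpecResidueField s))
        rw [Limits.pullback.lift_fst, ht]
        exact IsPullback.of_hasPullback f _
      exact MorphismProperty.of_isPullback (P := @Smooth) sq (hsm s)
    choose W hW1 hW2 using hW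
    exact IsZariskiLocalAtSource.of_openCover (P := @Smooth)
      (X.openCoverOfIsOpenCover W (eq_top_iff.mpr fun x _ =>
        TopologicalSpace.Opens.mem_iSup.mpr ⟨f x, hW1 _ x rfl⟩)) hW2
  refine ⟨hproper, hsmooth, ⟨geometrically_iff_of_isClosedUnderIsomorphisms.mpr fun K _ y => ?_⟩⟩
  let pt : S := y.base (IsLocalRing.closedPoint K)
  obtain ⟨V, hV, hpV⟩ : ∃ V : S.Opens, IsAffineOpen V ∧ pt ∈ V := by
    obtain ⟨_, ⟨V, hV, rfl⟩, hpV, -⟩ := S.isBasis_affineOpens.exists_subset_of_mem_open
      (Set.mem_univ pt) isOpen_univ
    exact ⟨V, hV, hpV⟩
  have : IsAffine (V : Scheme.{u}) := hV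
  have : IsLocallyNoetherian (V : Scheme.{u}) := isLocallyNoetherian_of_isOpenImmersion V.ι
  have : IsNoetherian (V : Scheme.{u}) := { }
  have hrange : Set.range y ⊆ Set.range V.ι := by
    rintro _ ⟨t, rfl⟩
    rw [Scheme.Opens.range_ι]
    rwa [@Subsingleton.elim _ (inferInstanceAs (Subsingleton (PrimeSpectrum K))) t
      (IsLocalRing.closedPoint K)]
  let y' := IsOpenImmersion.lift V.ι y hrange
  have hy' : y' ≫ V.ι = y := IsOpenImmersion.lift_fac _ _ _
  have : IsProper (f ∣_ V) := IsZariskiLocalAtTarget.restrict hproper V
  have : Flat (f ∣_ V) := IsZariskiLocalAtTarget.restrict ‹_› V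
  have : Surjective (f ∣_ V) := IsZariskiLocalAtTarget.restrict ‹_› V
  have hc : GeometricallyConnected (f ∣_ V) := by
    refine Groth.Agent.S17449.result (f ∣_ V) fun Z η hZ hη => ?_
    have hmax : ∀ η' : S, η' ⤳ V.ι η → η' = V.ι η := fun η' h => by
      obtain ⟨η₀, rfl⟩ : η' ∈ Set.range V.ι := by
        rw [Scheme.Opens.range_ι]
        exact h.mem_open V.2 η.2
      have h' : η₀ ⤳ η := V.ι.isOpenEmbedding.isInducing.specializes_iff.mp h
      have hsub : Z ⊆ closure {η₀} := by
        rw [← hη.def]
        exact specializes_iff_closure_subset.mp h'
      have heq : closure {η₀} = Z := (hsub.antisymm (hZ.2 isIrreducible_singleton.closure hsub)).symm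
      rw [(hη.eq (show IsGenericPoint η₀ Z from heq)).symm]
    let r := Spec.map (V.ι.residueFieldMap η)
    have hr : r ≫ S.fromSpecResidueField (V.ι η) = (V : Scheme.{u}).fromSpecResidueField η ≫ V.ι :=
      Scheme.Hom.SpecMap_residueFieldMap_fromSpecResidueField V.ι η
    let l := Limits.pullback.lift (f := f) (g := S.fromSpecResidueField (V.ι η))
      ((f ∣_ V).fiberι η ≫ (f ⁻¹ᵁ V).ι) ((f ∣_ V).fiberToSpecResidueField η ≫ r) (by
        rw [Category.assoc, Category.assoc, hr, ← morphismRestrict_ι, ← Category.assoc, ← Category.assoc]
        exact congrArg (· ≫ V.ι) Limits.pullback.condition)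
    have sq : IsPullback l ((f ∣_ V).fiberToSpecResidueField η)
        (f.fiberToSpecResidueField (V.ι η)) r := by
      refine IsPullback.of_right ?_ (Limits.pullback.lift_snd _ _ _)
        (IsPullback.of_hasPullback f (S.fromSpecResidueField (V.ι η)))
      rw [Limits.pullback.lift_fst, hr]
      exact (IsPullback.of_hasPullback (f ∣_ V) _).paste_horiz (isPullback_morphismRestrict f V).flip
    refine ⟨⟨?_⟩, MorphismProperty.of_isPullback (P := @Smooth) sq (hsm _)⟩
    exact MorphismProperty.of_isPullback (P := geometrically (ConnectedSpace ·)) sq
      (hgen _ hmax).geometrically_connectedSpace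
  have h1 : ConnectedSpace ↥(Limits.pullback (f ∣_ V) y') :=
    geometrically_iff_of_isClosedUnderIsomorphisms.mp hc.geometrically_connectedSpace K y'
  have sq := (IsPullback.of_hasPullback (f ∣_ V) y').paste_horiz (isPullback_morphismRestrict f V).flip
  rw [hy'] at sq
  exact sq.isoPullback.hom.homeomorph.connectedSpace_iff.mp h1

end Groth.Agent.S19657
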