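import Groth.Statements.S19658
import Groth.Agent.Lib.EtaleTors.Basic

set_option autoImplicit false
universe u
open CategoryTheory CategoryTheory.Limits MonoidalCategory CartesianMonoidalCategory AlgebraicGeometry
open Neron

namespace Groth.Agent.S19658

open scoped MonObj
attribute [local instance] Hom.commMonoid

/-- The first display of the lemma, in the generality its argument gives. Let R be a henselian local
ring with residue field k, G a commutative group scheme over Spec R that is smooth, separated and
quasi-compact, and N a natural number which is a unit in R. Then every k-valued point of G killed by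
N lifts to exactly one R-valued point of G killed by N; that is, reduction G(R)[N] → G(k)[N] is a
bijection on N-torsion. (The text applies this to the Néron model of an abelian variety over a
henselian discrete valuation ring, where G(R) = A(K).) -/
theorem result
    (R : Type u) [CommRing R] [HenselianLocalRing R]
    (G : Over (Spec (CommRingCat.of R))) [GrpObj G] [IsCommMonObj G]
    [Smooth G.hom] [IsSeparated G.hom] [QuasiCompact G.hom]
    (N : ℕ) (hN : IsUnit (N : R))
    (τ : Over.mk (Spec.map (CommRingCat.ofHom (IsLocalRing.residue R))) ⟶ G)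
    (hτ : τ ∈ AbDual.torsPts G N (Over.mk (Spec.map (CommRingCat.ofHom (IsLocalRing.residue R))))) :
    ∃! σ : Over.mk (𝟙 (Spec (CommRingCat.of R))) ⟶ G,
      σ ∈ AbDual.torsPts G N (Over.mk (𝟙 (Spec (CommRingCat.of R)))) ∧
        Over.homMk (Spec.map (CommRingCat.ofHom (IsLocalRing.residue R))) (Category.comp_id _) ≫ σ = τ := by
  have hn : ∀ (L : Type u) [Field L], (Spec (CommRingCat.of L) ⟶ Spec (CommRingCat.of R)) →
      (N : L) ≠ 0 := fun L _ b => by
    have h := (hN.map (Spec.preimage b).hom)
    rw [map_natCast] at h
    exact h.ne_zero
  have hf := Groth.Agent.Lib.EtaleTors.Basic.etale_pow (G := G) (n := N) hn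
  let f : G ⟶ G := 𝟙 G ^ N
  have hf' : Etale f.left := hf
  let one : Over.mk (𝟙 (Spec (CommRingCat.of R))) ⟶ G := 1
  let H := pullback f.left one.left
  have hmem : ∀ {T : Over (Spec (CommRingCat.of R))} (a : T ⟶ G),
      a ∈ AbDual.torsPts G N T ↔ a ≫ f = 1 := fun a => by
    rw [AbDual.mem_torsPts, MonObj.comp_pow, Category.comp_id]
  let res := Spec.map (CommRingCat.ofHom (IsLocalRing.residue R))
  let r : Over.mk res ⟶ Over.mk (𝟙 (Spec (CommRingCat.of R))) := Over.homMk res (Category.comp_id _)
  have hu₀ : τ.left ≫ f.left = res ≫ one.left := by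
    have := (hmem τ).mp hτ
    rw [← MonObj.comp_one r] at this
    exact congrArg Over.Hom.left this
  have : Etale (pullback.snd f.left one.left) := inferInstance
  obtain ⟨u, hu, huτ⟩ := Groth.Agent.Lib.Henselian.Sections.exists_section_of_smooth
    (pullback.snd f.left one.left) (pullback.lift τ.left res hu₀) (pullback.lift_snd _ _ _)
  let σ : Over.mk (𝟙 (Spec (CommRingCat.of R))) ⟶ G :=
    Over.homMk (u ≫ pullback.fst f.left one.left) (by
      show (u ≫ pullback.fst f.left one.left) ≫ G.hom = 𝟙 _
      rw [← Over.w f, Category.assoc, ← Category.assoc (pullback.fst _ _), pullback.condition,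
        Category.assoc, Over.w one]
      exact (congrArg (u ≫ ·) (Category.comp_id _)).trans hu)
  refine ⟨σ, ⟨(hmem σ).mpr ?_, ?_⟩, ?_⟩
  · apply Over.OverMorphism.ext
    rw [Over.comp_left]
    show (u ≫ pullback.fst f.left one.left) ≫ f.left = one.left
    rw [Category.assoc, pullback.condition, reassoc_of% hu]
  · apply Over.OverMorphism.ext
    show res ≫ u ≫ pullback.fst f.left one.left = τ.left
    rw [reassoc_of% huτ, pullback.lift_fst]
  · rintro σ' ⟨h1, h2⟩
    have e1 : σ'.left ≫ f.left = 𝟙 _ ≫ one.left := by
      rw [Category.id_comp]
      simpa only [Over.comp_left] using congrArg Over.Hom.left ((hmem σ').mp h1)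
    have e2 : res ≫ σ'.left = τ.left := congrArg Over.Hom.left h2
    have key : pullback.lift σ'.left (𝟙 _) e1 = u :=
      Groth.Agent.Lib.EtaleTors.Basic.section_eq_of_residue (pullback.snd f.left one.left) _ _
        (pullback.lift_snd _ _ _) hu (by
          rw [huτ]
          apply pullback.hom_ext
          · rw [Category.assoc, pullback.lift_fst, pullback.lift_fst]
            exact e2
          · rw [Category.assoc, pullback.lift_snd, pullback.lift_snd]
            exact Category.comp_id _)
    apply Over.OverMorphism.ext
    show σ'.left = u ≫ pullback.fst f.left one.left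
    rw [← key, pullback.lift_fst]

end Groth.Agent.S19658
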