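import Groth.Statements.S19659
import Groth.Agent.H2.FlatHom.Abelian

set_option autoImplicit false
universe u
open CategoryTheory CategoryTheory.Limits MonoidalCategory CartesianMonoidalCategory MonObj GrpObj AlgebraicGeometry
open AbSch

namespace Groth.Agent.S19659

/-- Let S be a scheme, A and B abelian schemes over S (proper smooth S-group schemes with geometrically
connected fibres) and f : A → B a homomorphism. Then f is flat exactly when it is surjective. -/
theorem result
    {S : Scheme.{u}} (A B : Over S) [GrpObj A] [IsProper A.hom] [Smooth A.hom] [GeometricallyConnected A.hom]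
    [GrpObj B] [IsProper B.hom] [Smooth B.hom] [GeometricallyConnected B.hom]
    (f : A ⟶ B) [IsMonHom f] :
    Flat f.left ↔ Surjective f.left := by
  have hred : GeometricallyReduced B.hom := Groth.Agent.H2.FlatHom.Abelian.geometricallyReduced B.hom
  refine ⟨fun hf => Groth.Agent.H2.FlatHom.Abelian.surjective_of_flat f, fun hf => ?_⟩
  exact (Groth.Agent.H2.FlatHom.Base.flat f).1


end Groth.Agent.S19659
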