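import Groth.Statements.S1966
import Groth.Agent.H48.Hens

set_option autoImplicit false
universe u
open EtAlg

namespace Groth.Agent.S1966

/-- Towers indexed by the natural numbers: let (A_k) be rings with surjective transition maps A_{k+1} ->
A_k whose kernels consist of nilpotent elements, and let A be a ring with compatible projections p_k
: A -> A_k identifying A with the set of compatible sequences (p is jointly injective and every
compatible sequence comes from an element of A). Then for every k the pair (A, ker p_k) is
henselian. -/
theorem result (A : Type u) [CommRing A] (As : ℕ → Type u) [∀ k, CommRing (As k)]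
    (t : ∀ k, As (k + 1) →+* As k) (ht : ∀ k, Function.Surjective (t k))
    (hnil : ∀ k (x : As (k + 1)), t k x = 0 → IsNilpotent x)
    (p : ∀ k, A →+* As k) (hp : ∀ k, (t k).comp (p (k + 1)) = p k)
    (hinj : ∀ a b : A, (∀ k, p k a = p k b) → a = b)
    (hsurj : ∀ x : ∀ k, As k, (∀ k, t k (x (k + 1)) = x k) → ∃ a : A, ∀ k, p k a = x k) (k : ℕ) :
    HenselianRing A (RingHom.ker (p k)) := by
  refine H48.Hens.henselianRing_of_compatible (fun i j : ℕ => i = j + 1)
    (fun {i j} (e : i = j + 1) => by subst e; exact t j) p ?_ hinj ?_
    (fun j => (RingHom.ker (p k)).map (p j)) ?_ ?_ _ ?_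
  · rintro i j rfl
    exact hp j
  · exact fun x hx => hsurj x fun j => hx (i := j + 1) (j := j) rfl
  · rintro i j rfl x hx
    have := Ideal.mem_map_of_mem (t j) hx
    rwa [Ideal.map_map, hp j] at this
  · intro j
    refine H48.Hens.henselianRing_of_nil _ ?_
    rw [Ideal.map_le_iff_le_comap]
    intro x hx
    show IsNilpotent (p j x)
    have hdown : ∀ d i, p (i + d) x = 0 → p i x = 0 := by
      intro d
      induction d with
      | zero => exact fun i h => h
      | succ d ih =>
        intro i h
        refine ih i ?_
        rw [← hp (i + d), RingHom.comp_apply]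
        exact (congrArg (t (i + d)) h).trans (map_zero _)
    have hup : ∀ d, IsNilpotent (p (k + d) x) := by
      intro d
      induction d with
      | zero => exact ⟨1, by simpa using hx⟩
      | succ d ih =>
        obtain ⟨n, hn⟩ := ih
        rw [← hp (k + d), RingHom.comp_apply, ← map_pow] at hn
        obtain ⟨m, hm⟩ := hnil _ _ hn
        exact ⟨n * m, by rw [pow_mul]; exact hm⟩
    rcases le_or_gt k j with hjk | hjk
    · obtain ⟨d, rfl⟩ := Nat.exists_eq_add_of_le hjk
      exact hup d
    · obtain ⟨d, rfl⟩ := Nat.exists_eq_add_of_le hjk.le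
      rw [hdown d j hx]
      exact IsNilpotent.zero
  · intro x
    refine ⟨fun hx j => Ideal.mem_map_of_mem _ hx, fun hx => ?_⟩
    have : (RingHom.ker (p k)).map (p k) = ⊥ := (Ideal.map_eq_bot_iff_le_ker _).2 le_rfl
    exact Ideal.mem_bot.1 (this ▸ hx k)

end Groth.Agent.S1966
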