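import Groth.Statements.S19660
import Groth.Agent.H4.BilinGen
import Mathlib.Algebra.Polynomial.RingDivision
-- import your own Groth.Agent.* helpers here

set_option autoImplicit false
universe u v
open AbVar

namespace Groth.Agent.S19660

/-- The text applies this to the Frobenius acting on the points of prime order of a principally
polarised abelian variety over a finite field with q elements and to their Weil pairing. Let k be a
field, V a finite-dimensional k-vector space with a nondegenerate bilinear form B, q a nonzero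
element of k and M a linear automorphism of V with B(Mx, My) = q·B(x, y) for all x, y. Write V₁ and
V_q for the generalized eigenspaces of M at 1 and at q. Then every vector of V₁ that is B-orthogonal
to all of V_q is zero, every vector of V_q that is B-orthogonal (on the right) to all of V₁ is zero,
and when q ≠ 1 the form B vanishes identically on V₁ × V₁ and on V_q × V_q. (The text asserts this
as the evident adaptation, to a form scaled by q, of the orthogonality and nondegeneracy facts for
generalized kernels of an automorphism preserving a form; the abstract statement is recorded here,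
the application to the Weil pairing needing that pairing's formalism.) -/
theorem result
    {k : Type u} [Field k] {V : Type v} [AddCommGroup V] [Module k V] [FiniteDimensional k V]
    (B : LinearMap.BilinForm k V) (hB : B.Nondegenerate) (q : k) (hq : q ≠ 0)
    (M : V ≃ₗ[k] V) (hM : ∀ x y : V, B (M x) (M y) = q * B x y) :
    (∀ x ∈ Module.End.maxGenEigenspace (M : Module.End k V) 1,
        (∀ y ∈ Module.End.maxGenEigenspace (M : Module.End k V) q, B x y = 0) → x = 0) ∧
      (∀ y ∈ Module.End.maxGenEigenspace (M : Module.End k V) q,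
        (∀ x ∈ Module.End.maxGenEigenspace (M : Module.End k V) 1, B x y = 0) → y = 0) ∧
      (q ≠ 1 → ∀ x ∈ Module.End.maxGenEigenspace (M : Module.End k V) 1,
        ∀ x' ∈ Module.End.maxGenEigenspace (M : Module.End k V) 1, B x x' = 0) ∧
      (q ≠ 1 → ∀ y ∈ Module.End.maxGenEigenspace (M : Module.End k V) q,
        ∀ y' ∈ Module.End.maxGenEigenspace (M : Module.End k V) q, B y y' = 0) := by
  set f : Module.End k V := (M : Module.End k V) with hf
  have hM' : ∀ x y, B (f x) (f y) = q * B x y := hM
  have hMf : ∀ x y, B.flip (f x) (f y) = q * B.flip x y := fun x y => hM y x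
  have horth1 : ∀ (B' : LinearMap.BilinForm k V), (∀ x y, B' (f x) (f y) = q * B' x y) →
      ∀ (x : V) (n : ℕ), ((f - (1 : k) • 1) ^ n) x = 0 → ∀ z, B' x (((f - q • 1) ^ n) z) = 0 := by
    intro B' hB' x n hx z
    have := Groth.Agent.H4.BilinGen.scaled_orth B' f q hB' 1 n x hx ((-1 : k) ^ n • z)
    rw [show q • (1 : Module.End k V) - (1:k) • f = (-1 : k) • (f - q • 1) by
      rw [one_smul, neg_one_smul, neg_sub], smul_pow, LinearMap.smul_apply, map_smul (((f - q • 1) ^ n)),
      smul_smul, ← mul_pow, neg_one_mul, neg_neg, one_pow, one_smul] at this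
    exact this
  have horthq : ∀ (B' : LinearMap.BilinForm k V), (∀ x y, B' (f x) (f y) = q * B' x y) →
      ∀ (x : V) (n : ℕ), ((f - q • 1) ^ n) x = 0 → ∀ z, B' x (((f - (1:k) • 1) ^ n) z) = 0 := by
    intro B' hB' x n hx z
    have := Groth.Agent.H4.BilinGen.scaled_orth B' f q hB' q n x hx (((-q)⁻¹) ^ n • z)
    rw [show q • (1 : Module.End k V) - q • f = (-q) • (f - (1:k) • 1) by
      rw [one_smul, smul_sub, neg_smul, neg_smul]; abel, smul_pow, LinearMap.smul_apply, map_smul (((f - (1:k) • 1) ^ n)),
      smul_smul, ← mul_pow, mul_inv_cancel₀ (neg_ne_zero.2 hq), one_pow, one_smul] at this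
    exact this
  have hcop : q ≠ 1 → ∀ (a b : k), a ≠ b → ∀ (x : V) (m : ℕ), ((f - a • 1) ^ m) x = 0 → ∀ n : ℕ,
      ∃ z, x = ((f - b • 1) ^ n) z := by
    intro _ a b hab x m hm n
    obtain ⟨u, v, huv⟩ := ((Polynomial.isCoprime_X_sub_C_of_isUnit_sub (sub_ne_zero.2 hab).isUnit).pow :
      IsCoprime ((Polynomial.X - Polynomial.C a) ^ m) ((Polynomial.X - Polynomial.C b) ^ n))
    have hxc : ∀ c : k, Polynomial.aeval f (Polynomial.X - Polynomial.C c) = f - c • 1 := fun c => by
      rw [map_sub, Polynomial.aeval_X, Polynomial.aeval_C, Algebra.algebraMap_eq_smul_one]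
    refine ⟨Polynomial.aeval f v x, ?_⟩
    have := congrArg (fun p => Polynomial.aeval f p x) huv
    simp only [map_add, map_mul, map_pow, map_one, hxc, Module.End.one_apply, LinearMap.add_apply,
      Module.End.mul_apply, hm, map_zero, zero_add] at this
    conv_lhs => rw [← this]
    rw [← hxc, ← map_pow, ← Module.End.mul_apply, ← Module.End.mul_apply, ← map_mul, ← map_mul, mul_comm]
  refine ⟨?_, ?_, ?_, ?_⟩
  · intro x hx h
    obtain ⟨n, hn⟩ := Module.End.mem_maxGenEigenspace _ _ _ |>.1 hx
    exact Groth.Agent.H4.BilinGen.separating _ B hB.1 x n (horth1 B hM' x n hn)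
      (fun y hy => h y ((Module.End.mem_maxGenEigenspace _ _ _).2 hy))
  · intro y hy h
    obtain ⟨n, hn⟩ := Module.End.mem_maxGenEigenspace _ _ _ |>.1 hy
    exact Groth.Agent.H4.BilinGen.separating _ B.flip (fun a ha => hB.2 a ha) y n (horthq B.flip hMf y n hn)
      (fun x hx => h x ((Module.End.mem_maxGenEigenspace _ _ _).2 hx))
  · intro hq1 x hx x' hx'
    obtain ⟨n, hn⟩ := Module.End.mem_maxGenEigenspace _ _ _ |>.1 hx
    obtain ⟨m, hm⟩ := Module.End.mem_maxGenEigenspace _ _ _ |>.1 hx'
    obtain ⟨z, rfl⟩ := hcop hq1 1 q (Ne.symm hq1) x' m hm n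
    exact horth1 B hM' x n hn z
  · intro hq1 x hx x' hx'
    obtain ⟨n, hn⟩ := Module.End.mem_maxGenEigenspace _ _ _ |>.1 hx
    obtain ⟨m, hm⟩ := Module.End.mem_maxGenEigenspace _ _ _ |>.1 hx'
    obtain ⟨z, rfl⟩ := hcop hq1 q 1 hq1 x' m hm n
    exact horthq B hM' x n hn z

end Groth.Agent.S19660
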