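import Groth.Statements.S19661
import Groth.Agent.Lib.Modules.ZeroLocus
import Groth.Agent.Lib.GrassRep.QuotBC
import Groth.Agent.Lib.QCoh.Closure
import Groth.Agent.Lib.QCoh.Pullback
import Groth.Agent.Lib.TensorMod.LocFree

set_option autoImplicit false
universe u
open CategoryTheory CategoryTheory.Limits AlgebraicGeometry
open Grass

namespace Groth.Agent.S19661

open Groth.Agent.Lib.GrassRep.QuotBC


/-- Let `X` be a scheme, `E₁`, `E₂` quasi-coherent `O_X`-modules, `v : E₁ ⟶ E₂` an epimorphism and `e ≥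
0`. Let `(G₁, π₁, Q₁, q₁)` be a Grassmannian of rank-`e` locally free quotients of `E₁` over `X` (a
representing scheme with its universal quotient `q₁ : π₁^* E₁ ⟶ Q₁`) and `(G₂, π₂, Q₂, q₂)` one of
`E₂`. Then the morphism `G₂ ⟶ G₁` over `X` classifying the rank-`e` quotient `π₂^* E₁ ⟶ π₂^* E₂ ⟶
Q₂` of `E₁` (every quotient of `E₂` is a quotient of `E₁`) is a closed immersion. (The base is an
arbitrary scheme and the modules are only assumed quasi-coherent; the form over an affine base with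
the Grassmannians given by their points in affine schemes is a separate statement.) -/
theorem result (X G₁ G₂ : Scheme.{u}) (π₁ : G₁ ⟶ X) (π₂ : G₂ ⟶ X)
    (E₁ E₂ : X.Modules) (hE₁ : Coh.IsQCoh E₁) (hE₂ : Coh.IsQCoh E₂) (v : E₁ ⟶ E₂) [Epi v] (e : ℕ)
    (Q₁ : G₁.Modules) (q₁ : (Scheme.Modules.pullback π₁).obj E₁ ⟶ Q₁) (hG₁ : Grass.IsGrass π₁ E₁ e Q₁ q₁)
    (Q₂ : G₂.Modules) (q₂ : (Scheme.Modules.pullback π₂).obj E₂ ⟶ Q₂) (hG₂ : Grass.IsGrass π₂ E₂ e Q₂ q₂) :
    IsClosedImmersion (hG₁.mapOfEpi hG₂ v) := by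
  have hq₁ : Epi q₁ := hG₁.epi
  have hq₂ : Epi q₂ := hG₂.epi
  let K := kernel v
  haveI hK : K.IsQuasicoherent := Lib.QCoh.Closure.isQCoh_kernel v
  haveI : ((Scheme.Modules.pullback π₁).obj K).IsQuasicoherent := Lib.QCoh.Pullback.isQCoh_pullback π₁ K
  have hlf : FlatMod.IsFinLocFree Q₁ := fun x => by
    obtain ⟨U, hx, ⟨e'⟩⟩ := hG₁.rank x
    exact ⟨U, e, hx, ⟨e'⟩⟩
  haveI : Q₁.IsQuasicoherent := Lib.Modules.AffineSections.isQCoh_of_isFinLocFree hlf
  let φ : (Scheme.Modules.pullback π₁).obj K ⟶ Q₁ := (Scheme.Modules.pullback π₁).map (kernel.ι v) ≫ q₁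
  let I := Lib.Modules.ZeroLocus.idealSheaf φ hlf
  set h := hG₁.mapOfEpi hG₂ v with hh
  have hhπ : h ≫ π₁ = π₂ := hG₁.mapOfEpi_comp hG₂ v
  have hrel : Rel hhπ q₁ ((Scheme.Modules.pullback π₂).map v ≫ q₂) := by
    obtain ⟨_, e', he'⟩ := hG₁.lift_spec π₂ Q₂ hG₂.rank ((Scheme.Modules.pullback π₂).map v ≫ q₂)
      (haveI := Grass.epi_pullback_map π₂ v; epi_comp _ _)
    exact ⟨e', he'⟩
  -- `h` lands in the vanishing locus
  have hφ : (Scheme.Modules.pullback h).map φ = 0 := by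
    obtain ⟨e', he'⟩ := hrel
    haveI : IsIso (unfoldIso hhπ K) := inferInstance
    rw [← cancel_epi (unfoldIso hhπ K), comp_zero, ← cancel_mono e'.hom, zero_comp, ← quotBC_eq,
      quotBC_map, Category.assoc, he', ← Category.assoc, ← Functor.map_comp, kernel.condition,
      Functor.map_zero, zero_comp]
  obtain ⟨l, hl⟩ := (Lib.Modules.ZeroLocus.factors_iff φ hlf h).mpr hφ
  -- the quotient of `E₂` on the vanishing locus
  let g := I.subschemeι ≫ π₁
  have hzero : (Scheme.Modules.pullback g).map (kernel.ι v) ≫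
      quotBC (rfl : I.subschemeι ≫ π₁ = g) q₁ = 0 := by
    rw [← quotBC_map, quotBC_eq,
      (Lib.Modules.ZeroLocus.factors_iff φ hlf I.subschemeι).mp ⟨𝟙 _, Category.id_comp _⟩, comp_zero]
  haveI : PreservesFiniteColimits (Scheme.Modules.pullback g) :=
    @PreservesColimitsOfSize.preservesFiniteColimits _ _ _ _ _
      (Scheme.Modules.pullbackPushforwardAdjunction g).leftAdjoint_preservesColimits.{u, u}
  let S := ShortComplex.mk (kernel.ι v) v (kernel.condition v)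
  have hS : S.Exact := ShortComplex.exact_of_f_is_kernel S (kernelIsKernel v)
  have hgex : (S.map (Scheme.Modules.pullback g)).Exact :=
    ((((Functor.preservesFiniteColimits_tfae (Scheme.Modules.pullback g)).out 3 1).mp ‹_› :
      ∀ S : ShortComplex X.Modules, S.Exact ∧ Epi S.g →
        (S.map (Scheme.Modules.pullback g)).Exact ∧ Epi ((Scheme.Modules.pullback g).map S.g))
      S ⟨hS, inferInstanceAs (Epi v)⟩).1
  haveI hgv : Epi ((Scheme.Modules.pullback g).map v) := Grass.epi_pullback_map g v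
  haveI : Epi (S.map (Scheme.Modules.pullback g)).g := hgv
  obtain ⟨s₂, hs₂⟩ := hgex.desc' _ hzero
  change (Scheme.Modules.pullback g).map v ≫ s₂ = quotBC (rfl : I.subschemeι ≫ π₁ = g) q₁ at hs₂
  have hepi : Epi s₂ := by
    haveI : Epi ((Scheme.Modules.pullback g).map v ≫ s₂) := hs₂ ▸ epi_quotBC rfl
    exact epi_of_epi ((Scheme.Modules.pullback g).map v) s₂
  have hrk : FlatMod.IsFinLocFreeOfRank e ((Scheme.Modules.pullback I.subschemeι).obj Q₁) :=
    Lib.TensorMod.LocFree.rank_pullback _ hG₁.rank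
  obtain ⟨j, hj, hjrel⟩ := exists_rel hG₂ hrk hepi
  have hjg : (j ≫ h) ≫ π₁ = j ≫ π₂ := by rw [Category.assoc, hhπ]
  have hjh : j ≫ h = I.subschemeι := by
    obtain ⟨e₁, he₁⟩ := hjrel
    have h1 : Rel hjg q₁ (pbs j ((Scheme.Modules.pullback π₂).map v ≫ q₂)) := hrel.comp j hjg
    rw [pbs_map] at h1
    have h2 : Rel ((by rw [hjg, hj] : (j ≫ h) ≫ π₁ = g)) q₁
        (quotBC (rfl : I.subschemeι ≫ π₁ = g) q₁) := by
      have h4 := (rel_subst_map hj v h1).of_iso e₁
      rw [← hs₂, ← he₁]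
      refine Eq.mp (congrArg (Rel (h := j ≫ h) (g := g) _ q₁) ?_) h4
      simp only [quotBC, pbs]
      repeat' erw [Category.assoc]
    exact rel_unique hG₁ hrk (epi_quotBC rfl) h2 (rel_rfl _ q₁)
  have hlj : l ≫ j = 𝟙 G₂ := by
    have hlg : (l ≫ j) ≫ π₂ = π₂ := by
      rw [Category.assoc, hj, show l ≫ g = (l ≫ I.subschemeι) ≫ π₁ from (Category.assoc _ _ _).symm,
        hl, hhπ]
    haveI := Grass.epi_pullback_map π₂ v
    refine rel_unique hG₂ hG₂.rank hG₂.epi (g := π₂) (hg := hlg) ?_ (quotBC_id π₂ E₂ q₂)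
    have hcomp : (l ≫ j) ≫ h = h := by rw [Category.assoc, hjh, hl]
    have hkg : ((l ≫ j) ≫ h) ≫ π₁ = (l ≫ j) ≫ π₂ := by rw [Category.assoc, hhπ]
    have h5 := hrel.comp (l ≫ j) hkg
    rw [pbs_map] at h5
    have h4 := rel_subst_map hlg v h5
    obtain ⟨i, hi⟩ := h4.exists_iso hcomp hrel
    refine ⟨i, ?_⟩
    rw [← cancel_epi ((Scheme.Modules.pullback π₂).map v), ← hi]
    simp only [quotBC, pbs]
    exact assoc5 _ _ _ _ _
  have hiso : IsIso l := by
    refine ⟨j, hlj, ?_⟩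
    rw [← cancel_mono I.subschemeι, Category.assoc, hl, hjh, Category.id_comp]
  haveI := hiso
  rw [← hl]
  infer_instance

end Groth.Agent.S19661
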