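import Groth.Statements.S19663
import Groth.Agent.Lib.GrassRep.QuotBC
import Groth.Agent.Lib.TensorMod.LocFree
-- import your own Groth.Agent.* helpers here

set_option autoImplicit false
universe u
open CategoryTheory CategoryTheory.Limits AlgebraicGeometry
open Grass

namespace Groth.Agent.S19663

open CategoryTheory.Limits Groth.Agent.Lib.GrassRep.QuotBC

theorem tower {X F F' T : Scheme.{u}} {π : F ⟶ X} {π' : F' ⟶ X} {p : F' ⟶ F} {h : T ⟶ F'} {g : T ⟶ F}
    {g₀ : T ⟶ X} (hp : h ≫ p = g) (h2 : p ≫ π = π') (hg : h ≫ π' = g₀) (hg2 : g ≫ π = g₀)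
    {E : X.Modules} {Q : F.Modules} {Q' : F'.Modules} (q : (Scheme.Modules.pullback π).obj E ⟶ Q)
    (φ : (Scheme.Modules.pullback p).obj Q ⟶ Q') :
    quotBC hg2 q ≫ quotBC hp φ = quotBC hg (quotBC h2 q ≫ φ) := by
  subst hp hg
  have hc : ∀ {Y Z : Scheme.{u}} (f : Y ⟶ Z) (M : Z.Modules),
      (Scheme.Modules.pullbackCongr (rfl : f = f)).inv.app M = 𝟙 _ := fun f M => by
    simp [Scheme.Modules.pullbackCongr]
  rw [quotBC_eq (rfl : h ≫ p = h ≫ p) φ, quotBC_eq (rfl : h ≫ π' = h ≫ π') _, unfoldIso, unfoldIso, hc, hc,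
    Category.id_comp, Category.id_comp, ← Category.assoc (quotBC _ q), quotBC_comp h h2 hg2 q]
  simp only [Functor.map_comp, Category.assoc]

theorem univ_last {X F' : Scheme.{u}} {π' : F' ⟶ X} {E : X.Modules} {m : ℕ} {n : Fin (m + 2) → ℕ}
    {Q' : Fin (m + 2) → F'.Modules} {q' : ∀ i, (Scheme.Modules.pullback π').obj E ⟶ Q' i}
    (hF' : IsFlag π' E n Q' q') {T : Scheme.{u}} (g₀ : T ⟶ X) (A : Fin (m + 1) → T.Modules) (B : T.Modules)
    (hA : ∀ i, FlatMod.IsFinLocFreeOfRank (n (Fin.castSucc i)) (A i))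
    (hB : FlatMod.IsFinLocFreeOfRank (n (Fin.last (m + 1))) B)
    (α : ∀ i, (Scheme.Modules.pullback g₀).obj E ⟶ A i) (β : (Scheme.Modules.pullback g₀).obj E ⟶ B)
    (hα : ∀ i, Epi (α i)) (hβ : Epi β)
    (hAA : ∀ i j, i ≤ j → ∃ t : A i ⟶ A j, α i ≫ t = α j) (hAB : ∀ i, ∃ t : A i ⟶ B, α i ≫ t = β) :
    ∃! h : T ⟶ F', ∃ hg : h ≫ π' = g₀, (∀ i, Rel hg (q' (Fin.castSucc i)) (α i)) ∧
      Rel hg (q' (Fin.last (m + 1))) β := by
  let P := Σ L : T.Modules, ((Scheme.Modules.pullback g₀).obj E ⟶ L)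
  let D : Fin (m + 2) → P := Fin.lastCases ⟨B, β⟩ fun i => ⟨A i, α i⟩
  have hl : D (Fin.last (m + 1)) = ⟨B, β⟩ := Fin.lastCases_last
  have hc : ∀ i, D (Fin.castSucc i) = ⟨A i, α i⟩ := fun i => Fin.lastCases_castSucc _
  have hrank : ∀ j, FlatMod.IsFinLocFreeOfRank (n j) (D j).1 := Fin.lastCases (by rw [hl]; exact hB)
    fun i => by rw [hc]; exact hA i
  have hepi : ∀ j, Epi (D j).2 := Fin.lastCases (by rw [hl]; exact hβ) fun i => by rw [hc]; exact hα i
  have hnest : ∀ i j, i ≤ j → ∃ t : (D i).1 ⟶ (D j).1, (D i).2 ≫ t = (D j).2 := by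
    refine Fin.lastCases ?_ fun i => ?_
    · intro j hj
      rw [show j = Fin.last (m + 1) from le_antisymm (Fin.le_last j) hj]
      exact ⟨𝟙 _, Category.comp_id _⟩
    · refine Fin.lastCases ?_ fun j hj => ?_
      · intro _; rw [hc, hl]; exact hAB i
      · rw [hc, hc]; exact hAA i j (Fin.castSucc_le_castSucc_iff.mp hj)
  have key : ∀ h : T ⟶ F', (∃ (hg : h ≫ π' = g₀) (e : ∀ i, (Scheme.Modules.pullback h).obj (Q' i) ≅ (D i).1),
      ∀ i, quotBC hg (q' i) ≫ (e i).hom = (D i).2) ↔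
      ∃ hg : h ≫ π' = g₀, (∀ i, Rel hg (q' (Fin.castSucc i)) (α i)) ∧ Rel hg (q' (Fin.last (m + 1))) β := by
    intro h
    constructor
    · rintro ⟨hg, e, he⟩
      have h1 : ∀ j, Rel hg (q' j) (D j).2 := fun j => ⟨e j, he j⟩
      refine ⟨hg, fun i => ?_, ?_⟩
      · have := h1 (Fin.castSucc i); rwa [hc i] at this
      · have := h1 (Fin.last (m + 1)); rwa [hl] at this
    · rintro ⟨hg, h1, h2⟩
      have h3 : ∀ j, Rel hg (q' j) (D j).2 := Fin.lastCases (by rw [hl]; exact h2) fun i => by rw [hc]; exact h1 i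
      choose e he using h3
      exact ⟨hg, e, he⟩
  obtain ⟨h, hh, huniq⟩ := hF'.univ T g₀ (fun j => (D j).1) hrank (fun j => (D j).2) hepi hnest
  exact ⟨h, (key h).1 hh, fun h' hh' => huniq h' ((key h').2 hh')⟩

/-- Let `X` be a scheme, `E` an `O_X`-module, `m ≥ 0` and `n : Fin (m+2) → ℕ`. Let `(F', π', Q', q')` be
the partial flag scheme of `E` of type `n` (universal nested locally free quotients `q' i : π'^* E ⟶
Q' i` of ranks `n i`, index `0` the largest) and `(F, π, Q, q)` the partial flag scheme of the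
truncated type `n ∘ Fin.castSucc` (the first `m+1` steps). Then the morphism `F' ⟶ F` over `X`
classifying the first `m+1` universal quotients of `F'`, together with the last universal quotient
`Q' (m+1)` and the epimorphism onto it from the pulled-back `Q m` (through the classifying
isomorphism and the factoring map `Q' m ⟶ Q' (m+1)`), is the Grassmannian over `F` of rank-`n (m+1)`
locally free quotients of the last universal quotient `Q m` of `F`. (The source takes the base of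
finite type over a field, `E` locally free of finite rank and the ranks positive and strictly
decreasing; the statement is made here for any base scheme, any module and any type.) -/
theorem result (X F F' : Scheme.{u}) (π : F ⟶ X) (π' : F' ⟶ X) (E : X.Modules)
    (m : ℕ) (n : Fin (m + 2) → ℕ)
    (Q : Fin (m + 1) → F.Modules) (q : ∀ i, (Scheme.Modules.pullback π).obj E ⟶ Q i)
    (hF : Grass.IsFlag π E (fun i => n (Fin.castSucc i)) Q q)
    (Q' : Fin (m + 2) → F'.Modules) (q' : ∀ i, (Scheme.Modules.pullback π').obj E ⟶ Q' i)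
    (hF' : Grass.IsFlag π' E n Q' q') :
    Grass.IsGrass
      (hF.lift π' (fun i => Q' (Fin.castSucc i)) (fun i => hF'.rank (Fin.castSucc i)) (fun i => q' (Fin.castSucc i))
        (fun i => hF'.epi (Fin.castSucc i))
        (fun i j hij => hF'.nested (Fin.castSucc i) (Fin.castSucc j) (Fin.castSucc_le_castSucc_iff.mpr hij)))
      (Q (Fin.last m)) (n (Fin.last (m + 1))) (Q' (Fin.last (m + 1)))
      ((hF.liftIso π' (fun i => Q' (Fin.castSucc i)) (fun i => hF'.rank (Fin.castSucc i)) (fun i => q' (Fin.castSucc i))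
          (fun i => hF'.epi (Fin.castSucc i))
          (fun i j hij => hF'.nested (Fin.castSucc i) (Fin.castSucc j) (Fin.castSucc_le_castSucc_iff.mpr hij))
          (Fin.last m)).hom ≫
        (hF'.nested (Fin.castSucc (Fin.last m)) (Fin.last (m + 1)) (Fin.le_last _)).choose) := by
  set p := hF.lift π' (fun i => Q' (Fin.castSucc i)) (fun i => hF'.rank (Fin.castSucc i)) (fun i => q' (Fin.castSucc i))
    (fun i => hF'.epi (Fin.castSucc i))
    (fun i j hij => hF'.nested (Fin.castSucc i) (Fin.castSucc j) (Fin.castSucc_le_castSucc_iff.mpr hij)) with hpdef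
  have hpπ : p ≫ π = π' := hF.lift_comp _ _ _ _ _ _
  set ν := hF.liftIso π' (fun i => Q' (Fin.castSucc i)) (fun i => hF'.rank (Fin.castSucc i)) (fun i => q' (Fin.castSucc i))
    (fun i => hF'.epi (Fin.castSucc i))
    (fun i j hij => hF'.nested (Fin.castSucc i) (Fin.castSucc j) (Fin.castSucc_le_castSucc_iff.mpr hij)) with hνdef
  have hν : ∀ i, quotBC hpπ (q i) ≫ (ν i).hom = q' (Fin.castSucc i) := fun i =>
    hF.quotBC_liftIso π' (fun i => Q' (Fin.castSucc i)) (fun i => hF'.rank (Fin.castSucc i))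
      (fun i => q' (Fin.castSucc i)) (fun i => hF'.epi (Fin.castSucc i))
      (fun i j hij => hF'.nested (Fin.castSucc i) (Fin.castSucc j) (Fin.castSucc_le_castSucc_iff.mpr hij)) i
  set t := (hF'.nested (Fin.castSucc (Fin.last m)) (Fin.last (m + 1)) (Fin.le_last _)).choose with htdef
  have ht : q' (Fin.castSucc (Fin.last m)) ≫ t = q' (Fin.last (m + 1)) :=
    (hF'.nested (Fin.castSucc (Fin.last m)) (Fin.last (m + 1)) (Fin.le_last _)).choose_spec
  set φ := (ν (Fin.last m)).hom ≫ t with hφdef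
  have hφ : quotBC hpπ (q (Fin.last m)) ≫ φ = q' (Fin.last (m + 1)) := by
    rw [hφdef, ← Category.assoc, hν, ht]
  refine ⟨hF'.rank _, ?_, fun T g L hL s hs => ?_⟩
  · haveI : Epi (quotBC hpπ (q (Fin.last m)) ≫ φ) := by rw [hφ]; exact hF'.epi _
    exact epi_of_epi (quotBC hpπ (q (Fin.last m))) φ
  let α := fun i : Fin (m + 1) => quotBC (rfl : g ≫ π = g ≫ π) (q i)
  have hα : ∀ i, Epi (α i) := fun i => haveI := hF.epi i; epi_quotBC _
  have hαα : ∀ i j : Fin (m + 1), i ≤ j → ∃ τ, α i ≫ τ = α j := fun i j hij => by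
    obtain ⟨τ, hτ⟩ := hF.nested i j hij
    refine ⟨(Scheme.Modules.pullback g).map τ, ?_⟩
    show α i ≫ _ = quotBC (rfl : g ≫ π = g ≫ π) (q j)
    rw [← hτ]
    show (_ ≫ _ ≫ _) ≫ _ = _ ≫ _ ≫ _
    rw [Functor.map_comp, Category.assoc, Category.assoc]
  haveI := hs
  haveI := hα (Fin.last m)
  have hA : ∀ i : Fin (m + 1), FlatMod.IsFinLocFreeOfRank (n (Fin.castSucc i))
      ((Scheme.Modules.pullback g).obj (Q i)) := fun i =>
    Groth.Agent.Lib.TensorMod.LocFree.rank_pullback g (hF.rank i)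
  obtain ⟨h, ⟨hg, hrel, hrelL⟩, huniq⟩ := univ_last hF' (g ≫ π) (fun i => (Scheme.Modules.pullback g).obj (Q i)) L
    hA hL α (α (Fin.last m) ≫ s) hα (epi_comp _ _) hαα
    (fun i => by
      obtain ⟨τ, hτ⟩ := hαα i (Fin.last m) (Fin.le_last i)
      exact ⟨τ ≫ s, by rw [← Category.assoc, hτ]⟩)
  have hpq : ∀ (k : T ⟶ F') (hk : k ≫ π' = g ≫ π) (i : Fin (m + 1)),
      Rel (show (k ≫ p) ≫ π = g ≫ π by rw [Category.assoc, hpπ, hk]) (q i) (quotBC hk (q' (Fin.castSucc i))) := by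
    intro k hk i
    have h2 := rel_subst hk (Rel.comp (show Rel hpπ (q i) (q' (Fin.castSucc i)) from ⟨ν i, hν i⟩) k
      (show (k ≫ p) ≫ π = k ≫ π' by rw [Category.assoc, hpπ]))
    exact h2
  have hrel' : ∀ i, Rel (show (h ≫ p) ≫ π = g ≫ π by rw [Category.assoc, hpπ, hg]) (q i) (α i) := fun i => by
    obtain ⟨e, he⟩ := hrel i
    rw [← he]
    exact (hpq h hg i).of_iso e
  choose e₁ he₁ using hrel'
  have hn := hαα
  have hhp : h ≫ p = g :=
    (hF.univ T (g ≫ π) _ hA α hα hn).unique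
      ⟨_, e₁, he₁⟩ ⟨rfl, fun i => Iso.refl _, fun i => Category.comp_id _⟩
  refine ⟨h, ⟨hhp, ?_⟩, fun h' hh' => ?_⟩
  · obtain ⟨e, he⟩ := hrelL
    refine ⟨e, ?_⟩
    rw [← cancel_epi (α (Fin.last m)), ← Category.assoc, tower hhp hpπ hg rfl, hφ]
    exact he
  · obtain ⟨hp', e', he'⟩ := hh'
    have hg' : h' ≫ π' = g ≫ π := by rw [← hpπ, ← Category.assoc, hp']
    refine huniq h' ⟨hg', fun i => ?_, e', ?_⟩
    · obtain ⟨j, hj⟩ := Rel.exists_iso hp' (hpq h' hg' i) (rel_rfl (rfl : g ≫ π = g ≫ π) (q i))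
      exact ⟨j, hj⟩
    · rw [← hφ, ← tower hp' hpπ hg' rfl, Category.assoc, he']

end Groth.Agent.S19663
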