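import Groth.Statements.S19673
import Groth.Agent.H18.ExtCover
import Groth.Agent.H68.EquidimStalk
import Groth.Agent.Lib.Cyc.SmoothReg
import Groth.Agent.Lib.Cyc.TorPD

set_option autoImplicit false
universe u
open CategoryTheory CategoryTheory.Limits AlgebraicGeometry
open AdjLin

namespace Groth.Agent.S19673

/-- Let k be an algebraically closed field of characteristic zero and X a smooth projective surface over
k (irreducible, proper, smooth of dimension 2, with an ample invertible module); let M be an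
invertible O_X-module and Z ⊆ X a finite set of closed points, viewed as a reduced finite subscheme
with ideal sheaf I_Z (the vanishing ideal of the closed set Z), regarded as an O_X-module. Then the
following are equivalent: (a) there is a short exact sequence 0 → M → F → I_Z → 0 of O_X-modules
with F finite locally free (an extension class of I_Z by M whose middle term is a vector bundle; in
the source the extensions are of L ⊗ I_Z by O_X, here tensored with M = L⁻¹); (b) for every proper
subset Z' of Z, the empty one included, with vanishing ideal I_{Z'} ⊇ I_Z and φ : I_Z → I_{Z'} the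
inclusion (the map commuting with the two inclusions into O_X), the map Ext¹(I_{Z'}, M) → Ext¹(I_Z,
M) given by precomposition with φ is not surjective. Ext groups are taken in the category of all
O_X-modules (the Ext instance is the stated hypothesis; it holds). -/
theorem result (k : Type u) [Field k]
    [IsAlgClosed k] [CharZero k]
    (X : Scheme.{u}) [X.Over (Spec (CommRingCat.of k))] [IsProper (X ↘ (Spec (CommRingCat.of k)))]
    [Smooth (X ↘ (Spec (CommRingCat.of k)))] [IrreducibleSpace X] (hdim : topologicalKrullDim X = 2)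
    (H : X.Modules) (hH : CohB1.IsAmple H)
    (M : X.Modules) (hM : PicF.IsInvertible M)
    (Z : Finset X) (hZc : IsClosed ((Z : Set X))) (hZ : ∀ z ∈ Z, IsClosed ({z} : Set X))
    [HasExt.{u} X.Modules] :
    (∃ (F : X.Modules) (a : M ⟶ F)
        (b : F ⟶ ClSub.idealMod (Scheme.IdealSheafData.vanishingIdeal ⟨(Z : Set X), hZc⟩)) (w : a ≫ b = 0),
        (ShortComplex.mk a b w).ShortExact ∧ FlatMod.IsFinLocFree F) ↔
      ∀ (Z' : Finset X) (hZ'c : IsClosed ((Z' : Set X))), Z' ⊂ Z →
        ∀ φ : ClSub.idealMod (Scheme.IdealSheafData.vanishingIdeal ⟨(Z : Set X), hZc⟩) ⟶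
            ClSub.idealMod (Scheme.IdealSheafData.vanishingIdeal ⟨(Z' : Set X), hZ'c⟩),
          φ ≫ ClSub.idealModι (Scheme.IdealSheafData.vanishingIdeal ⟨(Z' : Set X), hZ'c⟩) =
              ClSub.idealModι (Scheme.IdealSheafData.vanishingIdeal ⟨(Z : Set X), hZc⟩) →
            ¬ Function.Surjective ((Abelian.Ext.mk₀ φ).precomp M (zero_add 1)) := by
  classical
  have hreg : ∀ x : X, IsRegularLocalRing (X.presheaf.stalk x) :=
    fun x => Groth.Agent.Lib.Cyc.SmoothReg.isRegularLocalRing_stalk (X ↘ (Spec (CommRingCat.of k))) x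
  haveI : LocallyOfFiniteType (X ↘ (Spec (CommRingCat.of k))) := inferInstance
  haveI : IsLocallyNoetherian X := LocallyOfFiniteType.isLocallyNoetherian (X ↘ (Spec (CommRingCat.of k)))
  haveI : ∀ x : X, _root_.IsReduced (X.presheaf.stalk x) := fun x => by
    haveI := hreg x
    haveI := Groth.Agent.Lib.Regular.Quotient.isDomain (X.presheaf.stalk x)
    infer_instance
  haveI : IsReduced X := isReduced_of_isReduced_stalk X
  haveI : IsIntegral X := isIntegral_of_irreducibleSpace_of_isReduced X
  have hd : ∀ x : X, ringKrullDim (X.presheaf.stalk x) ≤ 2 := fun x =>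
    (Groth.Agent.Lib.Cyc.TorPD.ringKrullDim_stalk_le x).trans hdim.le
  have hirr : irreducibleComponents (X : Type u) = {Set.univ} := by
    rw [irreducibleComponents_eq_singleton]
  set IZ := Scheme.IdealSheafData.vanishingIdeal ⟨(Z : Set X), hZc⟩ with hIZ
  have hsupp : (IZ.support : Set X) = (Z : Set X) := by
    rw [hIZ, Scheme.IdealSheafData.coe_support_vanishingIdeal]
    rfl
  have hZ1 : ∀ y : X, ringKrullDim (X.presheaf.stalk y) ≤ 1 → y ∉ (IZ.support : Set X) := by
    intro y hy hmem
    rw [hsupp] at hmem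
    obtain ⟨a', t, ha, ht, hat⟩ := Groth.Agent.H68.EquidimStalk.exists_nat_eq (X ↘ (Spec (CommRingCat.of k))) y 2
      (fun W hW => by
        rw [hirr] at hW
        rw [Set.mem_singleton_iff.1 hW]
        exact ((Homeomorph.Set.univ (X : Type u)).isHomeomorph.topologicalKrullDim_eq).trans hdim)
    have h0 := Groth.Agent.Lib.Cyc.FieldDim.fdelta_of_isClosed (X ↘ (Spec (CommRingCat.of k))) y (hZ y hmem)
    have h1 := Groth.Agent.Lib.Cyc.FieldDim.trdegAt_eq_fdelta (X ↘ (Spec (CommRingCat.of k))) y
    rw [ht, h0] at h1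
    have ht0 : t = 0 := by exact_mod_cast h1
    rw [ha] at hy
    have : a' ≤ 1 := by exact_mod_cast hy
    omega
  constructor
  · rintro ⟨F, a, b, w, hex, hF⟩ Z' hZ'c hlt φ hφ hsurj
    obtain ⟨e', he'⟩ := hsurj hex.extClass
    obtain ⟨F', a', b', w', hex', he''⟩ := Groth.Agent.Lib.ExtOne.exists_shortExact_extClass e'
    obtain ⟨g, hg1, hg2⟩ := Groth.Agent.Lib.ExtOne.exists_middle_hom hex hex' (𝟙 M) φ (by
      rw [Abelian.Ext.comp_mk₀_id, he'']
      exact he'.symm)
    refine (Groth.Agent.H18.ExtIdeal.main hreg hd M hM IZ hZ1 F a b w hex).2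
      ⟨_, F', a', b', w', φ, g, lt_of_le_of_ne ?_ ?_, hex', hφ, hg1.trans (Category.id_comp _), hg2.symm⟩ hF
    · refine Scheme.IdealSheafData.vanishingIdeal_antimono ?_
      exact (Finset.coe_subset.2 hlt.subset : (Z' : Set X) ⊆ Z)
    · intro hI
      have h1 := congrArg (fun I : X.IdealSheafData => (I.support : Set X)) hI
      simp only [hsupp, Scheme.IdealSheafData.coe_support_vanishingIdeal] at h1
      exact hlt.ne (Finset.coe_injective h1.symm)
  · intro hB
    have hclosed : ∀ T : Finset X, T ⊆ Z → IsClosed (T : Set X) := fun T hT => by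
      rw [← Set.biUnion_of_singleton (T : Set X)]
      exact T.finite_toSet.isClosed_biUnion fun z hz => hZ z (hT hz)
    let J : {T // T ∈ Z.ssubsets} → X.IdealSheafData := fun T =>
      Scheme.IdealSheafData.vanishingIdeal ⟨(T.1 : Set X), hclosed T.1 (Finset.mem_ssubsets.1 T.2).subset⟩
    have hle : ∀ T, IZ ≤ J T := fun T => Scheme.IdealSheafData.vanishingIdeal_antimono
      (Finset.coe_subset.2 (Finset.mem_ssubsets.1 T.2).subset : (T.1 : Set X) ⊆ Z)
    have hinc : ∀ T, ∃ φ : ClSub.idealMod IZ ⟶ ClSub.idealMod (J T), φ ≫ ClSub.idealModι (J T) = ClSub.idealModι IZ := by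
      intro T
      have hz : ClSub.idealModι IZ ≫ ClSub.toSubscheme (J T) = 0 := by
        refine Groth.Agent.Lib.Modules.StalkModule.hom_ext_stalkMapₗ fun x => LinearMap.ext fun v => ?_
        obtain ⟨U, hU, hxU, s, rfl⟩ := Groth.Agent.H18.ExtIdeal.exists_affine_germ v
        refine (Groth.Agent.Lib.Modules.StalkModule.stalkMapₗ_germ _ hxU s).trans ?_
        have hz' : (ClSub.idealModι IZ ≫ ClSub.toSubscheme (J T)).app U s = 0 := by
          show ((J T).subschemeι.app U).hom (show Γ(X, U) from (ClSub.idealModι IZ).app U s) = 0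
          rw [← RingHom.mem_ker]
          erw [(J T).ker_subschemeι_app ⟨U, hU⟩]
          exact hle T ⟨U, hU⟩ ((Groth.Agent.Lib.ClSub.Sections.mem_range_idealModι_app_affine_iff IZ ⟨U, hU⟩ _).1 ⟨s, rfl⟩)
        rw [hz', map_zero, Groth.Agent.Lib.Modules.StalkModule.stalkMapₗ_zero]
        rfl
      exact ⟨kernel.lift _ _ hz, kernel.lift_ι _ _ _⟩
    choose φ hφ using hinc
    obtain ⟨e, he⟩ := Groth.Agent.H18.ExtCover.exists_notMem (G := Abelian.Ext (ClSub.idealMod IZ) M 1)
      (fun n hn x => Groth.Agent.H18.ExtCover.exists_nsmul_eq (fun p => by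
        let ρ : k →+* X.presheaf.stalk p :=
          ((Scheme.ΓSpecIso (CommRingCat.of k)).inv ≫ (X ↘ Spec (CommRingCat.of k)).appTop ≫
            X.presheaf.germ ⊤ p trivial).hom
        have hu : IsUnit (n : k) := (Nat.cast_ne_zero.2 hn).isUnit
        simpa using hu.map ρ) x)
      Finset.univ (fun T => ((Abelian.Ext.mk₀ (φ T)).precomp M (zero_add 1)).range)
      (fun T _ htop => hB T.1 (hclosed T.1 (Finset.mem_ssubsets.1 T.2).subset) (Finset.mem_ssubsets.1 T.2) (φ T) (hφ T)
        (AddMonoidHom.range_eq_top.1 htop))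
    obtain ⟨F, a, b, w, hex, hcls⟩ := Groth.Agent.Lib.ExtOne.exists_shortExact_extClass e
    refine ⟨F, a, b, w, hex, ?_⟩
    by_contra hF
    obtain ⟨I', F', a', b', w', ψ, g, hlt, hex', hψ, hga, hgb⟩ :=
      (Groth.Agent.H18.ExtIdeal.main hreg hd M hM IZ hZ1 F a b w hex).1 hF
    have hrad := Groth.Agent.H18.ExtCover.eq_vanishingIdeal ⟨(Z : Set X), hZc⟩ (fun z hz => hZ z hz) I' hlt.le
    have hsub : (I'.support : Set X) ⊆ Z := by
      rw [← hsupp]
      exact Scheme.IdealSheafData.support_antitone hlt.le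
    obtain ⟨T, hT⟩ : ∃ T : Finset X, (T : Set X) = (I'.support : Set X) :=
      ⟨((Z.finite_toSet.subset hsub)).toFinset, Set.Finite.coe_toFinset _⟩
    have hne : T ⊂ Z := by
      refine lt_of_le_of_ne (Finset.coe_subset.1 (hT.subset.trans hsub)) fun hTZ => hlt.ne ?_
      rw [hrad, hIZ]
      congr 1
      refine TopologicalSpace.Closeds.ext ?_
      rw [← hT, hTZ]
      rfl
    have hI' : I' = J ⟨T, Finset.mem_ssubsets.2 hne⟩ := by
      rw [hrad]
      show Scheme.IdealSheafData.vanishingIdeal _ = Scheme.IdealSheafData.vanishingIdeal _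
      congr 1
      exact TopologicalSpace.Closeds.ext hT.symm
    subst hI'
    haveI : Mono (ClSub.idealModι (J ⟨T, Finset.mem_ssubsets.2 hne⟩)) := inferInstanceAs (Mono (kernel.ι _))
    obtain rfl : ψ = φ _ := (cancel_mono _).1 (hψ.trans (hφ _).symm)
    refine he ⟨T, Finset.mem_ssubsets.2 hne⟩ (Finset.mem_univ _) ⟨hex'.extClass, ?_⟩
    have hnat := ShortComplex.ShortExact.extClass_naturality hex hex'
      (ShortComplex.homMk (𝟙 M) g (φ _) (by simpa using hga.symm) (by simpa using hgb))
    simp only [ShortComplex.homMk_τ₁, ShortComplex.homMk_τ₃, Abelian.Ext.comp_mk₀_id] at hnat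
    exact hnat.symm.trans hcls

end Groth.Agent.S19673
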