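import Groth.Statements.S19679
import Groth.Agent.H60.TorsorCat
import Groth.Agent.Lib.TorsorSch.Descent
-- import your own Groth.Agent.* helpers here

set_option autoImplicit false
universe u
open CategoryTheory MonoidalCategory CartesianMonoidalCategory MonObj AlgebraicGeometry
open ChGrp

namespace Groth.Agent.S19679

/-- Let k be an algebraically closed field of characteristic zero, G and H affine group schemes of
finite type over k (algebraic groups) with i : H → G a homomorphism which is a closed immersion, and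
Z a reduced affine k-scheme of finite type (an affine variety) with an action of H. Let Y, with its
G-action and j : G × Z → Y, be the balanced product G ×^H Z for the fppf topology: j is
G-equivariant for left translation on the first factor, it is a torsor for the twisted H-action
h·(g, z) = (g i(h)⁻¹, h·z), and it has sections fppf-locally on Y. If π_Z : Z → P is a categorical
quotient of Z by H and π_Y : Y → Q a categorical quotient of Y by G, then the projection G × Z → Z
induces an isomorphism Q ≅ P, inverse to the morphism induced by the H-invariant map z ↦ π_Y(j(e,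
z)): there are mutually inverse φ : P → Q and χ : Q → P with π_Z followed by φ equal to z ↦ π_Y(j(e,
z)) and j followed by π_Y and χ equal to the projection followed by π_Z (so Y//G ≅ Z//H). (The
source assumes G and H reductive and defines G ×^H Z as the quotient (G × Z)//H, a principal
H-bundle; here the quotients are part of the data, the balanced product is taken in its torsor form,
and reductivity is not needed.) -/
theorem result
    (k : Type u) [Field k] [IsAlgClosed k] [CharZero k]
    (G H Z Y P Q : Over (Spec (CommRingCat.of k))) [GrpObj G] [GrpObj H]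
    [IsAffine G.left] [LocallyOfFiniteType G.hom] [IsAffine H.left] [LocallyOfFiniteType H.hom]
    (i : H ⟶ G) [IsMonHom i] [IsClosedImmersion i.left]
    [IsAffine Z.left] [LocallyOfFiniteType Z.hom] [IsReduced Z.left]
    (aZ : AlgGrp.Action H Z) (aY : AlgGrp.Action G Y) (j : G ⊗ Z ⟶ Y)
    (hY : ChGrp.IsBalProd Scheme.fppfPrecoverage i aZ aY j)
    (πZ : Z ⟶ P) (hP : GIT.IsCatQuot aZ πZ) (πY : Y ⟶ Q) (hQ : GIT.IsCatQuot aY πY) :
    ∃ (φ : P ⟶ Q) (χ : Q ⟶ P), φ ≫ χ = 𝟙 P ∧ χ ≫ φ = 𝟙 Q ∧
      πZ ≫ φ = lift (toUnit Z ≫ η[G]) (𝟙 Z) ≫ j ≫ πY ∧ j ≫ πY ≫ χ = snd G Z ≫ πZ := by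
  obtain ⟨hEq, hpb, hloc⟩ := hY
  have hcat := Groth.Agent.H60.TorsorCat.isCatQuot (ChGrp.twist i aZ) j hpb
    (Groth.Agent.Lib.TorsorSch.Descent.isLocallyTrivialFor_mono Scheme.fppfPrecoverage_le_fpqcPrecoverage hloc)
  let e : Z ⟶ G ⊗ Z := lift (toUnit Z ≫ η[G]) (𝟙 Z)
  -- points form of the two invariances
  have hG : ∀ {T : Over (Spec (CommRingCat.of k))} (g g' : T ⟶ G) (z : T ⟶ Z),
      lift g (lift g' z ≫ j) ≫ aY.act = lift (g * g') z ≫ j := by
    intro T g g' z
    have h := congrArg (fun m ↦ lift g (lift g' z) ≫ m) (show _ = (G ◁ j) ≫ aY.act from hEq)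
    simp only [lift_whiskerLeft_assoc] at h
    rw [← h, ← Category.assoc, AlgGrp.Action.lift_prod_act]
    simp [NonAbH1.trivialAction, AlgGrp.Action.trivial, Hom.mul_def]
  have hH : ∀ {T : Over (Spec (CommRingCat.of k))} (h : T ⟶ H) (g : T ⟶ G) (z : T ⟶ Z),
      lift (g * (h ≫ i)⁻¹) (lift h z ≫ aZ.act) ≫ j = lift g z ≫ j := by
    intro T h g z
    rw [← ChGrp.lift_twist_act, Category.assoc, hpb.w, lift_snd_assoc]
  have hQpts : ∀ {T : Over (Spec (CommRingCat.of k))} (g : T ⟶ G) (y : T ⟶ Y),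
      lift g y ≫ aY.act ≫ πY = y ≫ πY := by
    intro T g y
    rw [show aY.act ≫ πY = snd G Y ≫ πY from hQ.1, lift_snd_assoc]
  have hjQ : ∀ {T : Over (Spec (CommRingCat.of k))} (g : T ⟶ G) (z : T ⟶ Z),
      lift g z ≫ j ≫ πY = z ≫ e ≫ j ≫ πY := by
    intro T g z
    have h1 : z ≫ e = lift (1 : T ⟶ G) z := by
      simp only [e, comp_lift, Category.comp_id]
      rw [Hom.one_def, ← Category.assoc]
      simp
    rw [← Category.assoc z, h1, ← Category.assoc (lift g z), ← Category.assoc (lift (1 : T ⟶ G) z),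
      ← hQpts g (lift (1 : T ⟶ G) z ≫ j), ← Category.assoc, hG, _root_.mul_one]
  have hZe : GIT.IsInvariant aZ (e ≫ j ≫ πY) := by
    have h := hH (fst H Z) (1 : H ⊗ Z ⟶ G) (snd H Z)
    rw [lift_fst_snd, Category.id_comp] at h
    have h' := congrArg (· ≫ πY) h
    simp only [Category.assoc] at h'
    rw [hjQ ((1 : H ⊗ Z ⟶ G) * (fst H Z ≫ i)⁻¹) aZ.act, hjQ (1 : H ⊗ Z ⟶ G) (snd H Z)] at h'
    exact h'
  obtain ⟨φ, hφ, hφu⟩ := hP.2 Q _ hZe
  have hw : GIT.IsInvariant (ChGrp.twist i aZ) (snd G Z ≫ πZ) := by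
    have h := ChGrp.lift_twist_act i aZ (fst H (G ⊗ Z)) (snd H _ ≫ fst G Z) (snd H _ ≫ snd G Z)
    rw [← comp_lift, lift_fst_snd, Category.comp_id, lift_fst_snd, Category.id_comp] at h
    change _ = _
    rw [h, lift_snd_assoc, Category.assoc, show aZ.act ≫ πZ = snd H Z ≫ πZ from hP.1, lift_snd_assoc,
      Category.assoc]
  obtain ⟨χ₀, hχ₀, hχ₀u⟩ := hcat.2 P _ hw
  have hYinv : GIT.IsInvariant aY χ₀ := by
    have : Epi (G ◁ j) := by
      have hsplit : ∀ {T : Over (Spec (CommRingCat.of k))} (u v : G ⊗ Y ⟶ T),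
          (G ◁ j) ≫ u = (G ◁ j) ≫ v → u = v := by
        intro T u v huv
        obtain ⟨R, hR, hsec⟩ := Groth.Agent.Lib.TorsorSch.Descent.isLocallyTrivialFor_mono
          Scheme.fppfPrecoverage_le_fpqcPrecoverage hloc
        have hsec' : ∀ ⦃S' : Scheme.{u}⦄ (f : S' ⟶ Y.left), R f → ∃ s : S' ⟶ (G ⊗ Z).left, s ≫ j.left = f :=
          hsec
        obtain ⟨ι', U', u', rfl⟩ := R.exists_eq_ofArrows
        choose s hs using fun l ↦ hsec' (u' l) ⟨l⟩
        have hsq := Groth.Agent.Lib.GrpSch.isPullback_left G Y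
        have hR' : Presieve.ofArrows (fun l ↦ Limits.pullback (snd G Y).left (u' l))
            (fun l ↦ Limits.pullback.fst (snd G Y).left (u' l)) ∈ Scheme.fpqcPrecoverage (G ⊗ Y).left :=
          Precoverage.mem_coverings_of_isPullback _ hR _ _ (fun l ↦ Limits.pullback.snd _ _)
            fun l ↦ IsPullback.of_hasPullback _ _
        have hs' : ∀ l, ∃ σ : Limits.pullback (snd G Y).left (u' l) ⟶ (G ⊗ (G ⊗ Z)).left,
            σ ≫ (G ◁ j).left = Limits.pullback.fst (snd G Y).left (u' l) := by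
          intro l
          let p := Limits.pullback.fst (snd G Y).left (u' l)
          let q := Limits.pullback.snd (snd G Y).left (u' l)
          have hpq : p ≫ (snd G Y).left = q ≫ u' l := Limits.pullback.condition
          refine ⟨(Groth.Agent.Lib.GrpSch.isPullback_left G (G ⊗ Z)).lift (p ≫ (fst G Y).left) (q ≫ s l) ?_, ?_⟩
          · rw [Category.assoc, hsq.w, reassoc_of% hpq, Category.assoc, ← Over.w j, reassoc_of% hs l]
          · refine hsq.hom_ext ?_ ?_
            · rw [Category.assoc, ← Over.comp_left, whiskerLeft_fst, IsPullback.lift_fst]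
            · rw [Category.assoc, ← Over.comp_left, whiskerLeft_snd, Over.comp_left,
                IsPullback.lift_snd_assoc, Category.assoc, hs, hpq]
        have : Epi (G ◁ j).left := Groth.Agent.H60.TorsorCat.epi_of_sections _ hR' (by
          rintro _ _ ⟨l⟩
          exact hs' l)
        ext
        rw [← cancel_epi (G ◁ j).left]
        exact congrArg CommaMorphism.left huv
      exact ⟨fun {T} u v h ↦ hsplit u v h⟩
    change aY.act ≫ χ₀ = snd G Y ≫ χ₀
    rw [← cancel_epi (G ◁ j), ← Category.assoc,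
      ← show _ = (G ◁ j) ≫ aY.act from hEq, Category.assoc, hχ₀, whiskerLeft_snd_assoc, hχ₀]
    have h := AlgGrp.Action.lift_prod_act (NonAbH1.trivialAction G) (AlgGrp.Action.trivial G Z)
      (fst G (G ⊗ Z)) (snd G _ ≫ fst G Z) (snd G _ ≫ snd G Z)
    rw [← comp_lift, lift_fst_snd, Category.comp_id, lift_fst_snd, Category.id_comp] at h
    rw [h, lift_snd_assoc]
    simp [AlgGrp.Action.trivial]
  obtain ⟨χ, hχ, hχu⟩ := hQ.2 P χ₀ hYinv
  refine ⟨φ, χ, ?_, ?_, hφ, by rw [hχ, hχ₀]⟩
  · refine (hP.2 P πZ hP.1).unique ?_ (Category.comp_id _)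
    change πZ ≫ φ ≫ χ = πZ
    rw [reassoc_of% hφ, hχ, hχ₀]
    simp [e]
  · refine (hQ.2 Q πY hQ.1).unique ?_ (Category.comp_id _)
    change πY ≫ χ ≫ φ = πY
    have hw' : GIT.IsInvariant (ChGrp.twist i aZ) (j ≫ πY) := by
      change _ = _
      rw [← Category.assoc, hpb.w, Category.assoc]
    refine (hcat.2 Q _ hw').unique ?_ rfl
    rw [← Category.assoc πY, hχ, ← Category.assoc, hχ₀, Category.assoc, hφ]
    have := hjQ (fst G Z) (snd G Z)
    rw [lift_fst_snd, Category.id_comp] at this
    exact this.symm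

end Groth.Agent.S19679
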