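import Groth.Statements.S19681
import Groth.Agent.H60.TorsorComp
-- import your own Groth.Agent.* helpers here

set_option autoImplicit false
universe u
open CategoryTheory MonoidalCategory CartesianMonoidalCategory MonObj AlgebraicGeometry
open ChGrp

namespace Groth.Agent.S19681

/-- Let k be an algebraically closed field of characteristic zero, G and H affine group schemes of
finite type over k with i : H → G a homomorphism which is a closed immersion, and Z a reduced affine
k-scheme of finite type with an action of H. Let Y, with its G-action and j : G × Z → Y, be the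
balanced product G ×^H Z for the fppf topology (j is G-equivariant for left translation on the first
factor, a torsor for the twisted H-action h·(g, z) = (g i(h)⁻¹, h·z), with sections fppf-locally on
Y). Let c : Y' → Y be a closed immersion from a reduced scheme Y' with a G-action making c
equivariant (a closed G-invariant subvariety of Y). Then Y' is again a balanced product: there are a
closed immersion c' : Z' → Z, an H-action on Z' for which c' is equivariant (a closed H-invariant
subscheme of Z), and a morphism j' : G × Z' → Y' with j' followed by c equal to G × c' followed by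
j, such that j' makes Y' the balanced product G ×^H Z' for the fppf topology. (The source assumes G
and H reductive and defines G ×^H Z as the quotient (G × Z)//H, a principal H-bundle; here the
balanced product is taken in its torsor form and reductivity is not needed.) -/
theorem result
    (k : Type u) [Field k] [IsAlgClosed k] [CharZero k]
    (G H Z Y Y' : Over (Spec (CommRingCat.of k))) [GrpObj G] [GrpObj H]
    [IsAffine G.left] [LocallyOfFiniteType G.hom] [IsAffine H.left] [LocallyOfFiniteType H.hom]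
    (i : H ⟶ G) [IsMonHom i] [IsClosedImmersion i.left]
    [IsAffine Z.left] [LocallyOfFiniteType Z.hom] [IsReduced Z.left]
    (aZ : AlgGrp.Action H Z) (aY : AlgGrp.Action G Y) (j : G ⊗ Z ⟶ Y)
    (hY : ChGrp.IsBalProd Scheme.fppfPrecoverage i aZ aY j)
    (c : Y' ⟶ Y) [IsClosedImmersion c.left] [IsReduced Y'.left]
    (aY' : AlgGrp.Action G Y') (hc : AlgGrp.Action.IsEquivariant aY' aY c) :
    ∃ (Z' : Over (Spec (CommRingCat.of k))) (c' : Z' ⟶ Z) (aZ' : AlgGrp.Action H Z') (j' : G ⊗ Z' ⟶ Y'),
      IsClosedImmersion c'.left ∧ AlgGrp.Action.IsEquivariant aZ' aZ c' ∧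
      j' ≫ c = (G ◁ c') ≫ j ∧ ChGrp.IsBalProd Scheme.fppfPrecoverage i aZ' aY' j' := by
  classical
  obtain ⟨hEq, hpb, hloc⟩ := hY
  let e : Z ⟶ G ⊗ Z := lift (toUnit Z ≫ η[G]) (𝟙 Z)
  let c' : Limits.pullback (e ≫ j) c ⟶ Z := Limits.pullback.fst (e ≫ j) c
  let y' : Limits.pullback (e ≫ j) c ⟶ Y' := Limits.pullback.snd (e ≫ j) c
  have hsq : IsPullback c' y' (e ≫ j) c := IsPullback.of_hasPullback _ _
  have hmonoc : Mono c := Over.mono_of_mono_left c
  have hmonoc' : Mono c' := inferInstance
  have hez : ∀ {T : Over (Spec (CommRingCat.of k))} (z : T ⟶ Z), z ≫ e = lift (1 : T ⟶ G) z := by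
    intro T z
    simp only [e, comp_lift, Category.comp_id]
    rw [Hom.one_def, ← Category.assoc]
    simp
  have hG : ∀ {T : Over (Spec (CommRingCat.of k))} (g g' : T ⟶ G) (z : T ⟶ Z),
      lift g (lift g' z ≫ j) ≫ aY.act = lift (g * g') z ≫ j := by
    intro T g g' z
    have h := congrArg (fun m ↦ lift g (lift g' z) ≫ m) (show _ = (G ◁ j) ≫ aY.act from hEq)
    simp only [lift_whiskerLeft_assoc] at h
    rw [← h, ← Category.assoc, AlgGrp.Action.lift_prod_act]
    simp [NonAbH1.trivialAction, AlgGrp.Action.trivial, Hom.mul_def]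
  have hH : ∀ {T : Over (Spec (CommRingCat.of k))} (h : T ⟶ H) (g : T ⟶ G) (z : T ⟶ Z),
      lift (g * (h ≫ i)⁻¹) (lift h z ≫ aZ.act) ≫ j = lift g z ≫ j := by
    intro T h g z
    rw [← ChGrp.lift_twist_act, Category.assoc, hpb.w, lift_snd_assoc]
  have hc' : ∀ {T : Over (Spec (CommRingCat.of k))} (g : T ⟶ G) (y : T ⟶ Y'),
      (lift g y ≫ aY'.act) ≫ c = lift g (y ≫ c) ≫ aY.act := by
    intro T g y
    rw [Category.assoc, show aY'.act ≫ c = (G ◁ c) ≫ aY.act from hc, lift_whiskerLeft_assoc]
  have hfac : ∀ {T : Over (Spec (CommRingCat.of k))} (h : T ⟶ H) (z : T ⟶ Limits.pullback (e ≫ j) c),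
      (lift h (z ≫ c') ≫ aZ.act) ≫ e ≫ j = (lift (h ≫ i) (z ≫ y') ≫ aY'.act) ≫ c := by
    intro T h z
    have h1 : z ≫ y' ≫ c = lift (1 : T ⟶ G) (z ≫ c') ≫ j := by
      rw [← hsq.w, ← Category.assoc, ← Category.assoc, hez]
    rw [hc', Category.assoc z, h1, hG, _root_.mul_one, ← Category.assoc _ e, hez]
    have := hH h (h ≫ i) (z ≫ c')
    rwa [mul_inv_cancel] at this
  obtain ⟨act', ha₁, ha₂⟩ := hsq.exists_lift ((H ◁ c') ≫ aZ.act)
      (lift (fst H _ ≫ i) (snd H _ ≫ y') ≫ aY'.act)
      (by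
        have := hfac (fst H (Limits.pullback (e ≫ j) c)) (snd H _)
        rw [show lift (fst H _) (snd H _ ≫ c') = H ◁ c' by ext <;> simp] at this
        exact this)
  let aZ' : AlgGrp.Action H (Limits.pullback (e ≫ j) c) :=
    { act := act'
      one_act := by
        rw [← cancel_mono c', Category.assoc, ha₁, ← whisker_exchange_assoc, aZ.one_act]
        simp
      mul_act := by
        have key : ∀ {T : Over (Spec (CommRingCat.of k))} (h : T ⟶ H) (z : T ⟶ Limits.pullback (e ≫ j) c),
            (lift h z ≫ act') ≫ c' = lift h (z ≫ c') ≫ aZ.act := fun h z ↦ by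
          rw [Category.assoc, ha₁, lift_whiskerLeft_assoc]
        refine AlgGrp.Action.hom_ext_lift₃ fun T h h' z ↦ ?_
        rw [lift_whiskerRight_assoc, ← Hom.mul_def, lift_lift_associator_hom_assoc, lift_whiskerLeft_assoc,
          ← cancel_mono c', key, key, key, Groth.Agent.Lib.GrpSch.act_mul] }
  let j' : G ⊗ Limits.pullback (e ≫ j) c ⟶ Y' := (G ◁ y') ≫ aY'.act
  have hj' : ∀ {T : Over (Spec (CommRingCat.of k))} (g : T ⟶ G) (z : T ⟶ Limits.pullback (e ≫ j) c),
      lift g z ≫ j' = lift g (z ≫ y') ≫ aY'.act := by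
    intro T g z
    simp [j', lift_whiskerLeft_assoc]
  have hjc : ∀ {T : Over (Spec (CommRingCat.of k))} (g : T ⟶ G) (z : T ⟶ Limits.pullback (e ≫ j) c),
      lift g z ≫ j' ≫ c = lift g (z ≫ c') ≫ j := by
    intro T g z
    rw [← Category.assoc, hj', hc', Category.assoc z, ← hsq.w, ← Category.assoc, ← Category.assoc, hez,
      hG, _root_.mul_one]
  have hjc' : j' ≫ c = (G ◁ c') ≫ j := by
    have := hjc (fst G (Limits.pullback (e ≫ j) c)) (snd G _)
    rw [lift_fst_snd, Category.id_comp, show lift (fst G _) (snd G _ ≫ c') = G ◁ c' by ext <;> simp] at this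
    exact this
  have hmonoG : Mono (G ◁ c') := ⟨fun {T} u v huv ↦ by
    have h1 := congrArg (· ≫ fst G Z) huv
    have h2 := congrArg (· ≫ snd G Z) huv
    simp only [Category.assoc, whiskerLeft_fst, whiskerLeft_snd] at h1 h2
    refine CartesianMonoidalCategory.hom_ext _ _ h1 ?_
    rw [← cancel_mono c', Category.assoc, Category.assoc, h2]⟩
  have hlift : ∀ {T : Over (Spec (CommRingCat.of k))} (p : T ⟶ G ⊗ Z) (y : T ⟶ Y'), p ≫ j = y ≫ c →
      ∃ w : T ⟶ G ⊗ Limits.pullback (e ≫ j) c, w ≫ (G ◁ c') = p ∧ w ≫ j' = y := by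
    intro T p y hp
    obtain ⟨w, hw1, hw2⟩ := hsq.exists_lift (p ≫ snd G Z) (lift (p ≫ fst G Z)⁻¹ y ≫ aY'.act) (by
      rw [hc', ← hp, show p ≫ j = lift (p ≫ fst G Z) (p ≫ snd G Z) ≫ j by
        rw [← comp_lift, lift_fst_snd, Category.comp_id], hG, inv_mul_cancel, ← Category.assoc, hez])
    refine ⟨lift (p ≫ fst G Z) w, ?_, ?_⟩
    · rw [lift_whiskerLeft, hw1, ← comp_lift, lift_fst_snd, Category.comp_id]
    · rw [hj', hw2, ← Groth.Agent.Lib.GrpSch.act_mul, mul_inv_cancel, Groth.Agent.Lib.GrpSch.act_one]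
  have htw : (ChGrp.twist i aZ').act ≫ (G ◁ c') = (H ◁ (G ◁ c')) ≫ (ChGrp.twist i aZ).act := by
    refine AlgGrp.Action.hom_ext_lift₂ fun T h p ↦ ?_
    have hp : p = lift (p ≫ fst G _) (p ≫ snd G _) := by rw [← comp_lift, lift_fst_snd, Category.comp_id]
    rw [hp, ← Category.assoc, ChGrp.lift_twist_act, lift_whiskerLeft, lift_whiskerLeft_assoc,
      lift_whiskerLeft, ChGrp.lift_twist_act, Category.assoc]
    rw [show aZ'.act = act' from rfl, ha₁, lift_whiskerLeft_assoc]
  refine ⟨Limits.pullback (e ≫ j) c, c', aZ', j', ?_, ?_, hjc', ?_, ?_, ?_⟩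
  · have : IsPullback c'.left y'.left (e ≫ j).left c.left := hsq.map (Over.forget _)
    exact MorphismProperty.of_isPullback (P := @IsClosedImmersion) this.flip inferInstance
  · exact ha₁
  · change _ = _
    refine AlgGrp.Action.hom_ext_lift₂ fun T g p ↦ ?_
    have hp : p = lift (p ≫ fst G _) (p ≫ snd G _) := by rw [← comp_lift, lift_fst_snd, Category.comp_id]
    rw [← cancel_mono c, hp]
    simp only [← Category.assoc, AlgGrp.Action.lift_prod_act, lift_whiskerLeft, hc']
    simp only [Category.assoc, hjc, ← Category.assoc (lift (p ≫ fst G _) (p ≫ snd G _))]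
    rw [hG]
    simp [NonAbH1.trivialAction, AlgGrp.Action.trivial, Hom.mul_def]
  · refine Groth.Agent.H60.TorsorComp.isPullback_of_points _ _ ?_ (fun T w₁ w₂ h ↦ ?_) fun T h h' w hh ↦ ?_
    · rw [← cancel_mono c, Category.assoc (ChGrp.twist i aZ').act j' c, Category.assoc (snd H _) j' c,
        hjc', ← Category.assoc, htw, Category.assoc, hpb.w, whiskerLeft_snd_assoc]
    · obtain ⟨g, hg⟩ := Groth.Agent.H60.TorsorGeom.exists_act (ChGrp.twist i aZ) j hpb T
        (w₁ ≫ (G ◁ c')) (w₂ ≫ (G ◁ c')) (by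
          rw [Category.assoc, Category.assoc, ← hjc', reassoc_of% h])
      refine ⟨g, ?_⟩
      rw [← cancel_mono (G ◁ c'), Category.assoc, htw, lift_whiskerLeft_assoc, hg]
    · refine Groth.Agent.H60.TorsorComp.act_inj (ChGrp.twist i aZ) j hpb (x := w ≫ (G ◁ c')) ?_
      have := congrArg (· ≫ (G ◁ c')) hh
      simpa only [Category.assoc, htw, lift_whiskerLeft_assoc] using this
  · obtain ⟨R, hR, hsec⟩ := hloc
    have hsec' : ∀ ⦃S' : Scheme.{u}⦄ (f : S' ⟶ Y.left), R f → ∃ s : S' ⟶ (G ⊗ Z).left, s ≫ j.left = f :=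
      hsec
    obtain ⟨ι', U', u', rfl⟩ := R.exists_eq_ofArrows
    choose s hs using fun l ↦ hsec' (u' l) ⟨l⟩
    refine ⟨_, Precoverage.mem_coverings_of_isPullback _ hR c.left
      (fun l ↦ Limits.pullback.fst c.left (u' l)) (fun l ↦ Limits.pullback.snd _ _)
      (fun l ↦ IsPullback.of_hasPullback _ _), ?_⟩
    have hs' : ∀ l, ∃ σ : Limits.pullback c.left (u' l) ⟶ (G ⊗ Limits.pullback (e ≫ j) c).left,
        σ ≫ j'.left = Limits.pullback.fst c.left (u' l) := by
      intro l
      let T : Over (Spec (CommRingCat.of k)) :=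
        Over.mk (Limits.pullback.fst c.left (u' l) ≫ Y'.hom)
      let y : T ⟶ Y' := Over.homMk (Limits.pullback.fst c.left (u' l))
      let p : T ⟶ G ⊗ Z := Over.homMk (Limits.pullback.snd c.left (u' l) ≫ s l) (by
        change (_ ≫ s l) ≫ (G ⊗ Z).hom = Limits.pullback.fst c.left (u' l) ≫ Y'.hom
        rw [← Over.w j, Category.assoc, reassoc_of% hs l, ← Limits.pullback.condition_assoc, Over.w c])
      obtain ⟨w, -, hw⟩ := hlift p y (by
        ext
        change (Limits.pullback.snd c.left (u' l) ≫ s l) ≫ j.left = Limits.pullback.fst c.left (u' l) ≫ c.left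
        rw [Category.assoc, hs, Limits.pullback.condition])
      exact ⟨w.left, congrArg CommaMorphism.left hw⟩
    rintro _ _ ⟨l⟩
    exact hs' l

end Groth.Agent.S19681
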