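import Groth.Statements.S19686
import Groth.Agent.H2.Rigid.Conn

set_option autoImplicit false
universe u
open CategoryTheory CategoryTheory.Limits MonoidalCategory CartesianMonoidalCategory MonObj AlgebraicGeometry
open AbSch

namespace Groth.Agent.S19686

/-- Let S be a scheme and A₁, A₂, A₃ abelian S-schemes (smooth, proper, connected fibres). Then the
category of biextensions of (A₁, A₂) by A₃ is rigid: for every biextension B of (A₁, A₂) by A₃,
formed with the sheaves of points on the big fppf site of all S-schemes, the only endomorphism of B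
inducing the identity on A₁, A₂ and A₃ is the identity (equivalently, there is no non-zero
biadditive morphism from A₁ × A₂ to A₃). The source also asserts that every such biextension is
trivial; that assertion is not part of this statement. -/
theorem result {S : Scheme.{u}} (A₁ A₂ A₃ : Over S)
    [GrpObj A₁] [IsCommMonObj A₁] [Smooth A₁.hom] [IsProper A₁.hom]
    (hA₁ : ∀ s : S, ConnectedSpace ↥(A₁.hom.fiber s))
    [GrpObj A₂] [IsCommMonObj A₂] [Smooth A₂.hom] [IsProper A₂.hom]
    (hA₂ : ∀ s : S, ConnectedSpace ↥(A₂.hom.fiber s))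
    [GrpObj A₃] [IsCommMonObj A₃] [Smooth A₃.hom] [IsProper A₃.hom]
    (hA₃ : ∀ s : S, ConnectedSpace ↥(A₃.hom.fiber s))
    (B : Biext (QuotSh.J Scheme.fppfPrecoverage S) (CGrpSh.pts Scheme.fppfPrecoverage A₁) (CGrpSh.pts Scheme.fppfPrecoverage A₂) (CGrpSh.pts Scheme.fppfPrecoverage A₃))
    (f : Biext.Hom (QuotSh.J Scheme.fppfPrecoverage S) B B) : f = Biext.HomOver.id (QuotSh.J Scheme.fppfPrecoverage S) B := by
  classical
  have hd : ∀ (T : Over S) (x : B.E.obj.obj (Opposite.op T)), ∃! g, B.act T g x = f.map T x :=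
    fun T x => B.existsUnique_act T x (f.map T x) (f.πP_map T x).symm (f.πQ_map T x).symm
  choose d hd hduniq using hd
  have hact : ∀ (T : Over S) (g) (x : B.E.obj.obj (Opposite.op T)),
      f.map T (B.act T g x) = B.act T g (f.map T x) := fun T g x => f.map_act T g x
  have hdmap : ∀ (T T' : Over S) (h : T' ⟶ T) (x : B.E.obj.obj (Opposite.op T)),
      d T' (B.E.obj.map h.op x) = (CGrpSh.pts Scheme.fppfPrecoverage A₃).obj.map h.op (d T x) := by
    intro T T' h x
    refine (hduniq T' _ _ ?_).symm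
    show B.act T' _ (B.E.obj.map h.op x) = _
    rw [← B.act_map, hd, f.map_res]
  have hdeq : ∀ (T : Over S) (x y : B.E.obj.obj (Opposite.op T)), B.πP T x = B.πP T y →
      B.πQ T x = B.πQ T y → d T y = d T x := by
    intro T x y hP hQ
    obtain ⟨g, hg, -⟩ := B.existsUnique_act T x y hP hQ
    subst hg
    refine (hduniq T _ _ ?_).symm
    show B.act T _ (B.act T g x) = _
    rw [hact, ← hd T x, ← B.add_act, ← B.add_act, add_comm]
  have hQ0 : ∀ (T : Over S) (x : B.E.obj.obj (Opposite.op T)), B.πQ T x = 0 → d T x = 0 := by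
    intro T x hx
    obtain ⟨c, hc, -⟩ := B.existsUnique_act T x (B.add₂ T x x rfl) (B.πP_add₂ T x x rfl).symm
      (by rw [B.πQ_add₂, hx, add_zero])
    have h1 := f.map_add₂ T x x rfl
    simp only [← hc, hact, ← hd T x] at h1
    rw [B.add₂_act T _ x _ ((B.πP_act T _ x).symm), B.add₂_comm,
      B.add₂_act T _ x x rfl, ← hc, ← B.add_act, ← B.add_act, ← B.add_act] at h1
    have h2 := (B.existsUnique_act T x (B.act T (c + d T x) x) (B.πP_act _ _ _).symm
      (B.πQ_act _ _ _).symm).unique rfl h1.symm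
    have h3 : c + d T x + d T x = c + d T x := by
      refine Eq.trans ?_ h2.symm
      abel
    exact add_eq_left.1 h3
  have hP0 : ∀ (T : Over S) (x : B.E.obj.obj (Opposite.op T)), B.πP T x = 0 → d T x = 0 := by
    intro T x hx
    obtain ⟨c, hc, -⟩ := B.existsUnique_act T x (B.add₁ T x x rfl)
      (by rw [B.πP_add₁, hx, add_zero]) (B.πQ_add₁ T x x rfl).symm
    have h1 := f.map_add₁ T x x rfl
    simp only [← hc, hact, ← hd T x] at h1
    rw [B.add₁_act T _ x _ ((B.πQ_act T _ x).symm), B.add₁_comm,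
      B.add₁_act T _ x x rfl, ← hc, ← B.add_act, ← B.add_act, ← B.add_act] at h1
    have h2 := (B.existsUnique_act T x (B.act T (c + d T x) x) (B.πP_act _ _ _).symm
      (B.πQ_act _ _ _).symm).unique rfl h1.symm
    have h3 : c + d T x + d T x = c + d T x := by
      refine Eq.trans ?_ h2.symm
      abel
    exact add_eq_left.1 h3
  -- points
  let p₁ : ∀ T : Over S, (T ⟶ A₁) → (CGrpSh.pts Scheme.fppfPrecoverage A₁).obj.obj (Opposite.op T) :=
    fun T a => ULift.up (Additive.ofMul a)
  let p₂ : ∀ T : Over S, (T ⟶ A₂) → (CGrpSh.pts Scheme.fppfPrecoverage A₂).obj.obj (Opposite.op T) :=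
    fun T a => ULift.up (Additive.ofMul a)
  let val : ∀ T : Over S, (CGrpSh.pts Scheme.fppfPrecoverage A₃).obj.obj (Opposite.op T) → (T ⟶ A₃) :=
    fun T a => a.down.toMul
  obtain ⟨R, hR, hlift⟩ := B.locallySurjective (A₁ ⊗ A₂) (p₁ _ (fst A₁ A₂)) (p₂ _ (snd A₁ A₂))
  choose xl hxP hxQ using hlift
  let fam : Presieve.FamilyOfElements (yoneda.obj A₃) R.arrows :=
    fun T' k hk => val T' (d T' (xl k hk))
  have hfam : fam.Compatible := by
    intro Y₁ Y₂ Z g₁ g₂ f₁ f₂ hf₁ hf₂ e
    show g₁ ≫ fam f₁ hf₁ = g₂ ≫ fam f₂ hf₂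
    have key := hdeq Z (B.E.obj.map g₁.op (xl f₁ hf₁)) (B.E.obj.map g₂.op (xl f₂ hf₂))
      (by
        rw [B.πP_map, B.πP_map, hxP, hxP]
        exact congrArg (p₁ Z) (((Category.assoc _ _ _).symm.trans (congrArg (· ≫ fst A₁ A₂) e)).trans
          (Category.assoc _ _ _)))
      (by
        rw [B.πQ_map, B.πQ_map, hxQ, hxQ]
        exact congrArg (p₂ Z) (((Category.assoc _ _ _).symm.trans (congrArg (· ≫ snd A₁ A₂) e)).trans
          (Category.assoc _ _ _)))
    rw [hdmap, hdmap] at key
    exact congrArg (val Z) key.symm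
  have hsh : Presieve.IsSheaf (QuotSh.J Scheme.fppfPrecoverage S) (yoneda.obj A₃) :=
    GrothendieckTopology.Subcanonical.isSheaf_of_isRepresentable _
  obtain ⟨F₀, hF, -⟩ := hsh R hR fam hfam
  let F : A₁ ⊗ A₂ ⟶ A₃ := F₀
  have hd_eq : ∀ (T : Over S) (x : B.E.obj.obj (Opposite.op T)) (a : T ⟶ A₁) (b : T ⟶ A₂),
      B.πP T x = p₁ T a → B.πQ T x = p₂ T b → val T (d T x) = lift a b ≫ F := by
    intro T x a b ha hb
    refine (hsh _ ((QuotSh.J Scheme.fppfPrecoverage S).pullback_stable (lift a b) hR)).isSeparatedFor.ext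
      fun T' k hk => ?_
    show k ≫ val T (d T x) = k ≫ lift a b ≫ F
    have h1 : (k ≫ lift a b) ≫ F = fam (k ≫ lift a b) hk := hF _ hk
    rw [← Category.assoc, h1]
    have key := hdeq T' (B.E.obj.map k.op x) (xl (k ≫ lift a b) hk)
      (by
        rw [B.πP_map, ha]
        refine Eq.trans ?_ (hxP _ hk).symm
        exact congrArg (p₁ T') (((Category.assoc _ _ _).trans (congrArg (k ≫ ·) (lift_fst a b))).symm))
      (by
        rw [B.πQ_map, hb]
        refine Eq.trans ?_ (hxQ _ hk).symm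
        exact congrArg (p₂ T') (((Category.assoc _ _ _).trans (congrArg (k ≫ ·) (lift_snd a b))).symm))
    rw [hdmap] at key
    exact (congrArg (val T') key).symm
  have haxis : ∀ (T : Over S) (a : T ⟶ A₁) (b : T ⟶ A₂), a = 1 ∨ b = 1 → lift a b ≫ F = 1 := by
    intro T a b hab
    refine (hsh _ ((QuotSh.J Scheme.fppfPrecoverage S).pullback_stable (lift a b) hR)).isSeparatedFor.ext
      fun T' k hk => ?_
    show k ≫ lift a b ≫ F = k ≫ (1 : T ⟶ A₃)
    have h1 : (k ≫ lift a b) ≫ F = fam (k ≫ lift a b) hk := hF _ hk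
    rw [← Category.assoc, h1, MonObj.comp_one]
    have key : d T' (xl (k ≫ lift a b) hk) = 0 := by
      rcases hab with rfl | rfl
      · refine hP0 T' _ ((hxP _ hk).trans ?_)
        exact congrArg (p₁ T') ((Category.assoc _ _ _).trans ((congrArg (k ≫ ·) (lift_fst _ b)).trans (MonObj.comp_one _)))
      · refine hQ0 T' _ ((hxQ _ hk).trans ?_)
        exact congrArg (p₂ T') ((Category.assoc _ _ _).trans ((congrArg (k ≫ ·) (lift_snd a _)).trans (MonObj.comp_one _)))
    exact congrArg (val T') key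
  have hF1 : F = 1 := Groth.Agent.H2.Rigid.eq_one_of_axes' A₁ A₂ A₃ hA₁ hA₂ F
    (haxis _ _ _ (Or.inr rfl)) (haxis _ _ _ (Or.inl rfl))
  ext T x
  have h0 : d T x = 0 := by
    have h := hd_eq T x (B.πP T x).down.toMul (B.πQ T x).down.toMul rfl rfl
    rw [hF1, MonObj.comp_one] at h
    exact ULift.ext _ _ (congrArg Additive.ofMul h)
  show f.map T x = x
  rw [← hd T x, h0, B.zero_act]

end Groth.Agent.S19686
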