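import Groth.Statements.S1969
import Groth.Agent.H48.WeakDim

set_option autoImplicit false
universe u
open EtAlg

namespace Groth.Agent.S1969

/-- For a commutative ring A these are equivalent — all ideals are flat A-modules; all finitely
generated ideals are flat; flatness passes to submodules of flat modules; each localization at a
prime is a valuation ring (in particular a domain). Condition (1), weak dimension at most one, is
not stated. -/
theorem result (A : Type u) [CommRing A] :
    List.TFAE [∀ I : Ideal A, Module.Flat A I,
      ∀ I : Ideal A, I.FG → Module.Flat A I,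
      ∀ (M : Type u) [AddCommGroup M] [Module A M], Module.Flat A M → ∀ N : Submodule A M, Module.Flat A N,
      ∀ (p : Ideal A) [p.IsPrime], ∃ _ : IsDomain (Localization.AtPrime p), ValuationRing (Localization.AtPrime p)] := by
  classical
  tfae_have 1 → 2 := fun h I _ => h I
  tfae_have 2 → 1 := Groth.Agent.H48.WeakDim.flat_ideal_of_fg
  tfae_have 1 → 3 := fun h M _ _ _ N => Groth.Agent.H48.WeakDim.flat_submodule h N
  tfae_have 3 → 4 := by
    intro h p hp
    let Ap := Localization.AtPrime p
    have hflat : ∀ J : Ideal Ap, Module.Flat Ap J := fun J => by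
      have : Module.Flat A Ap := IsLocalization.flat _ p.primeCompl
      have : Module.Flat A (J.restrictScalars A) := h Ap this _
      rw [Module.flat_iff_of_isLocalization Ap p.primeCompl]
      exact this
    have hfree : ∀ (J : Ideal Ap), J.FG → Module.Free Ap J := fun J hJ => by
      have := hflat J
      have : Module.Finite Ap J := Module.Finite.iff_fg.2 hJ
      exact Module.free_of_flat_of_isLocalRing
    have hdom : IsDomain Ap := by
      suffices NoZeroDivisors Ap from NoZeroDivisors.to_isDomain _
      refine ⟨fun {a b} hab => ?_⟩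
      by_contra hne
      push Not at hne
      have := hfree _ (Submodule.fg_span_singleton a)
      have : Module.IsTorsionFree Ap (Ideal.span ({a} : Set Ap)) := inferInstance
      let c := Module.Free.chooseBasis Ap (Ideal.span ({a} : Set Ap))
      obtain ⟨r, hr⟩ : ∃ i, c.repr ⟨a, Ideal.mem_span_singleton_self a⟩ i ≠ 0 := by
        by_contra h0
        push Not at h0
        apply hne.1
        have : c.repr ⟨a, Ideal.mem_span_singleton_self a⟩ = 0 := Finsupp.ext h0
        exact congrArg Subtype.val (c.repr.map_eq_zero_iff.1 this)
      obtain ⟨w, hw⟩ := Ideal.mem_span_singleton.1 (c r).2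
      have hcr : b • c r = 0 := Subtype.ext (by
        show b * (c r : Ap) = 0
        rw [hw, ← mul_assoc, mul_comm b a, hab, zero_mul])
      have := congrArg (fun z => c.repr z r) hcr
      simp only [map_smul, Module.Basis.repr_self, map_zero, Finsupp.smul_apply, Finsupp.single_eq_same,
        Finsupp.coe_zero, Pi.zero_apply, smul_eq_mul, mul_one] at this
      exact hne.2 this
    refine ⟨hdom, ValuationRing.iff_local_bezout_domain.2 ⟨inferInstance, ⟨fun J hJ => ?_⟩⟩⟩
    have := hfree J hJ
    have : Module.Finite Ap J := Module.Finite.iff_fg.2 hJ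
    let c := Module.Free.chooseBasis Ap J
    have hsub : Subsingleton (Module.Free.ChooseBasisIndex Ap J) := ⟨fun i j => by
      by_contra hij
      have hrel : (c j : Ap) • c i - (c i : Ap) • c j = 0 :=
        Subtype.ext (by show (c j : Ap) * c i - c i * c j = 0; ring)
      have := congrArg (fun z => c.repr z i) hrel
      simp only [map_sub, map_smul, Module.Basis.repr_self, map_zero, Finsupp.sub_apply, Finsupp.smul_apply,
        Finsupp.single_eq_same, Finsupp.single_eq_of_ne hij, smul_eq_mul, mul_one, mul_zero,
        sub_zero, Finsupp.coe_zero, Pi.zero_apply] at this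
      exact c.ne_zero j (Subtype.ext this)⟩
    rcases isEmpty_or_nonempty (Module.Free.ChooseBasisIndex Ap J) with he | ⟨⟨i⟩⟩
    · have : Subsingleton J := c.repr.toEquiv.subsingleton
      exact ⟨0, le_antisymm (fun x hx => by
        have : (⟨x, hx⟩ : J) = 0 := Subsingleton.elim _ _
        simp [show x = 0 from congrArg Subtype.val this]) (by simp)⟩
    · refine ⟨(c i : Ap), le_antisymm (fun x hx => ?_) ((Ideal.span_singleton_le_iff_mem _).2 (c i).2)⟩
      have hmem : (⟨x, hx⟩ : J) ∈ Submodule.span Ap (Set.range c) := c.mem_span _
      have hrange : Set.range c = {c i} := Set.ext fun z =>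
        ⟨fun ⟨j, hj⟩ => by rw [← hj, Subsingleton.elim j i]; rfl, fun hz => ⟨i, hz.symm⟩⟩
      rw [hrange, Submodule.mem_span_singleton] at hmem
      obtain ⟨r, hr⟩ := hmem
      exact Ideal.mem_span_singleton'.2 ⟨r, congrArg Subtype.val hr⟩
  tfae_have 4 → 1 := by
    intro h I
    apply Module.flat_of_localized_maximal
    intro P hP
    obtain ⟨hd, hv⟩ := h P
    rw [← Module.flat_iff_of_isLocalization (Localization.AtPrime P) P.primeCompl,
      Module.Flat.flat_iff_torsion_eq_bot_of_isBezout, eq_bot_iff]
    rintro z ⟨⟨r, hr⟩, hrz⟩
    obtain ⟨⟨i, s⟩, hs⟩ := IsLocalizedModule.surj P.primeCompl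
      (LocalizedModule.mkLinearMap P.primeCompl I) z
    have h1 : r • LocalizedModule.mkLinearMap P.primeCompl I i = 0 := by
      rw [← hs, Submonoid.smul_def, smul_comm]
      simp only [Submonoid.mk_smul] at hrz
      rw [hrz, smul_zero]
    let G := LinearMap.extendScalarsOfIsLocalization P.primeCompl (Localization.AtPrime P)
      (IsLocalizedModule.lift P.primeCompl (LocalizedModule.mkLinearMap P.primeCompl I)
        ((Algebra.linearMap A (Localization.AtPrime P)).comp I.subtype)
        (IsLocalizedModule.map_units (Algebra.linearMap A (Localization.AtPrime P))))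
    have h2 : algebraMap A (Localization.AtPrime P) (i : A) = 0 := by
      have := congrArg G h1
      rw [map_smul, map_zero, smul_eq_mul] at this
      refine (mul_eq_zero.1 this).resolve_left (nonZeroDivisors.ne_zero hr) ▸ ?_
      exact (IsLocalizedModule.lift_apply P.primeCompl (LocalizedModule.mkLinearMap P.primeCompl I)
        ((Algebra.linearMap A (Localization.AtPrime P)).comp I.subtype)
        (IsLocalizedModule.map_units (Algebra.linearMap A (Localization.AtPrime P))) i).symm
    obtain ⟨m, hm⟩ := (IsLocalization.map_eq_zero_iff P.primeCompl _ _).1 h2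
    have h3 : LocalizedModule.mkLinearMap P.primeCompl I i = 0 :=
      (IsLocalizedModule.eq_zero_iff P.primeCompl _).2 ⟨m, Subtype.ext hm⟩
    rw [h3, Submonoid.smul_def] at hs
    exact (Submodule.mem_bot _).2 ((Module.End.isUnit_iff _).1 (IsLocalizedModule.map_units
      (LocalizedModule.mkLinearMap P.primeCompl I) s) |>.1 (hs.trans (map_zero _).symm))
  tfae_finish

end Groth.Agent.S1969
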