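import Groth.Statements.S19690
import Groth.Agent.Lib.OneMot6.Faithful

set_option autoImplicit false
universe u
open CategoryTheory CategoryTheory.Limits MonoidalCategory CartesianMonoidalCategory MonObj AlgebraicGeometry
open OneMot

namespace Groth.Agent.S19690

/-- Let k be an algebraically closed field of characteristic zero, M and N 1-motives over k, and f, g
morphisms of 1-motives from M to N. If for every integer m ≥ 1 the homomorphisms induced by f and by
g on the torsion realizations of level m, computed on k-points, are equal, then f = g. (The source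
states that the realization functor to the inverse limit over all m is faithful; equality at every
finite level implies equality on the limit.) -/
theorem result (k : Type u) [Field k] [IsAlgClosed k] [CharZero k]
    (M N : OneMot.Motive (Spec (CommRingCat.of k))) (f g : OneMot.Motive.Hom M N)
    (h : ∀ m : ℕ, 1 ≤ m → OneMot.tzMap m (Over.mk (𝟙 (Spec (CommRingCat.of k)))) f = OneMot.tzMap m (Over.mk (𝟙 (Spec (CommRingCat.of k)))) g) :
    f = g := by
  let P : Over (Spec (CommRingCat.of k)) := Over.mk (𝟙 (Spec (CommRingCat.of k)))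
  have huniq : ∀ l : P ⟶ N.L, ∀ m : ℕ, m ≠ 0 → l ^ m = 1 → l = 1 := fun l m hm hl =>
    Groth.Agent.Lib.OneMot6.lattice_torsion_free N.lattice l hm hl
  -- the lattice components agree on points
  have hL : ∀ x : P ⟶ M.L, x ≫ f.fL = x ≫ g.fL := fun x => by
    refine div_eq_one.1 (Groth.Agent.Lib.OneMot6.lattice_eq_one N.lattice _ fun m hm => ?_)
    obtain ⟨y, hy⟩ := Groth.Agent.Lib.OneMot6.semiAb_root M.semiAb hm (x ≫ M.u)⁻¹
    let p : OneMot.tzPairs M m P := ⟨(Additive.ofMul x, Additive.ofMul y), by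
      change Additive.ofMul (x ≫ M.u) = -(m • Additive.ofMul y)
      rw [← ofMul_pow, hy, ofMul_inv, neg_neg]⟩
    have hp := congrFun (congrArg DFunLike.coe (h m (Nat.one_le_iff_ne_zero.2 hm))) (QuotientAddGroup.mk p)
    obtain ⟨l, hl⟩ := QuotientAddGroup.eq.1 hp.symm
    refine ⟨l.toMul, ?_⟩
    have h1 := congrArg (fun z => Additive.toMul z.1) hl
    change l.toMul ^ m = (x ≫ g.fL)⁻¹ * (x ≫ f.fL) at h1
    rw [h1, mul_comm, div_eq_mul_inv]
  -- the torsion of the semi-abelian part
  have hG : ∀ (n : ℕ), n ≠ 0 → ∀ y : P ⟶ M.G, y ^ n = 1 → y ≫ f.fG = y ≫ g.fG := fun n hn y hy => by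
    let p : OneMot.tzPairs M n P := ⟨(0, Additive.ofMul y), by
      change Additive.ofMul ((1 : P ⟶ M.L) ≫ M.u) = -(n • Additive.ofMul y)
      rw [MonObj.one_comp, ← ofMul_pow, hy, ofMul_one, neg_zero]⟩
    have hp := congrFun (congrArg DFunLike.coe (h n (Nat.one_le_iff_ne_zero.2 hn))) (QuotientAddGroup.mk p)
    obtain ⟨l, hl⟩ := QuotientAddGroup.eq.1 hp.symm
    have h1 := congrArg (fun z => Additive.toMul z.1) hl
    change l.toMul ^ n = ((1 : P ⟶ M.L) ≫ g.fL)⁻¹ * ((1 : P ⟶ M.L) ≫ f.fL) at h1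
    rw [MonObj.one_comp, MonObj.one_comp, inv_one, _root_.one_mul] at h1
    have hl1 := huniq _ n hn h1
    have h2 := congrArg (fun z => Additive.toMul z.2) hl
    change (l.toMul ≫ N.u)⁻¹ = (y ≫ g.fG)⁻¹ * (y ≫ f.fG) at h2
    rw [hl1, MonObj.one_comp, inv_one] at h2
    exact (inv_mul_eq_one.1 h2.symm).symm
  have e1 : f.fG = g.fG := by
    refine div_eq_one.1 ?_
    haveI : IsMonHom (f.fG / g.fG) := Groth.Agent.Lib.OneMot6.isMonHom_div f.fG g.fG
    refine Groth.Agent.Lib.OneMot6.semiAb_hom_eq_one M.semiAb N.semiAb _ fun n hn y hy => ?_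
    rw [GrpObj.comp_div, hG n hn y hy, div_self']
  exact OneMot.Motive.Hom.ext' (Groth.Agent.Lib.OneMot6.lattice_ext M.lattice _ _ hL) e1

end Groth.Agent.S19690
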