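import Groth.Statements.S19691
import Groth.Agent.Lib.OneMot6.Iso

set_option autoImplicit false
universe u
open CategoryTheory CategoryTheory.Limits MonoidalCategory CartesianMonoidalCategory MonObj AlgebraicGeometry
open OneMot

namespace Groth.Agent.S19691

/-- Let k be an algebraically closed field of characteristic zero, M and N 1-motives over k, and f a
morphism of 1-motives from M to N. If for every integer m ≥ 1 the homomorphism induced by f on the
torsion realizations of level m, computed on k-points, is bijective, then f is an isomorphism: its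
components on the lattices and on the semi-abelian group schemes are isomorphisms. (The source
states this for the realization in the inverse limit over all m; bijectivity at every finite level
implies bijectivity on the limit. In positive characteristic the statement fails, the Frobenius of
the multiplicative group being bijective on all these realizations.) -/
theorem result (k : Type u) [Field k] [IsAlgClosed k] [CharZero k]
    (M N : OneMot.Motive (Spec (CommRingCat.of k))) (f : OneMot.Motive.Hom M N)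
    (h : ∀ m : ℕ, 1 ≤ m → Function.Bijective (OneMot.tzMap m (Over.mk (𝟙 (Spec (CommRingCat.of k)))) f)) :
    f.IsIso := by
  let P : Over (Spec (CommRingCat.of k)) := Over.mk (𝟙 (Spec (CommRingCat.of k)))
  -- injectivity on the torsion of the semi-abelian parts
  have hinj : ∀ (n : ℕ), n ≠ 0 → ∀ y : P ⟶ M.G, y ^ n = 1 → y ≫ f.fG = 1 → y = 1 := fun n hn y hy hyf => by
    let p : OneMot.tzPairs M n P := ⟨(0, Additive.ofMul y), by
      change Additive.ofMul ((1 : P ⟶ M.L) ≫ M.u) = -(n • Additive.ofMul y)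
      rw [MonObj.one_comp, ← ofMul_pow, hy, ofMul_one, neg_zero]⟩
    have h0 : OneMot.tzMap n P f (QuotientAddGroup.mk p) = OneMot.tzMap n P f 0 := by
      rw [map_zero]
      refine (QuotientAddGroup.eq_zero_iff _).2 ⟨0, ?_⟩
      apply Prod.ext
      · show n • (0 : Additive (P ⟶ N.L)) = Additive.ofMul ((1 : P ⟶ M.L) ≫ f.fL)
        rw [MonObj.one_comp, smul_zero, ofMul_one]
      · show -Additive.ofMul ((1 : P ⟶ N.L) ≫ N.u) = Additive.ofMul (y ≫ f.fG)
        rw [MonObj.one_comp, ofMul_one, neg_zero, hyf, ofMul_one]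
    obtain ⟨l, hl⟩ := (QuotientAddGroup.eq_zero_iff p).1 ((h n (Nat.one_le_iff_ne_zero.2 hn)).1 h0)
    have h1 := congrArg (fun z => Additive.toMul z.1) hl
    change l.toMul ^ n = 1 at h1
    have h2 := congrArg (fun z => Additive.toMul z.2) hl
    change (l.toMul ≫ M.u)⁻¹ = y at h2
    rw [← h2, Groth.Agent.Lib.OneMot6.lattice_torsion_free M.lattice _ hn h1, MonObj.one_comp, inv_one]
  have hGinj : ∀ x : P ⟶ M.G, x ≫ f.fG = 1 → x = 1 := fun x hx =>
    Groth.Agent.Lib.OneMot6.points_injective M.semiAb N.semiAb f.fG hinj x hx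
  -- injectivity on the lattices
  have hLinj : ∀ x : P ⟶ M.L, x ≫ f.fL = 1 → x = 1 := fun x hx => by
    have hu : x ≫ M.u = 1 := hGinj _ (by
      rw [Category.assoc, f.comm, ← Category.assoc, hx, MonObj.one_comp])
    refine Groth.Agent.Lib.OneMot6.lattice_eq_one M.lattice _ fun m hm => ?_
    let p : OneMot.tzPairs M m P := ⟨(Additive.ofMul x, 0), by
      change Additive.ofMul (x ≫ M.u) = -(m • (0 : Additive (P ⟶ M.G)))
      rw [hu, ofMul_one, smul_zero, neg_zero]⟩
    have h0 : OneMot.tzMap m P f (QuotientAddGroup.mk p) = OneMot.tzMap m P f 0 := by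
      rw [map_zero]
      refine (QuotientAddGroup.eq_zero_iff _).2 ⟨0, ?_⟩
      apply Prod.ext
      · show m • (0 : Additive (P ⟶ N.L)) = Additive.ofMul (x ≫ f.fL)
        rw [hx, smul_zero, ofMul_one]
      · show -Additive.ofMul ((1 : P ⟶ N.L) ≫ N.u) = Additive.ofMul ((1 : P ⟶ M.G) ≫ f.fG)
        rw [MonObj.one_comp, MonObj.one_comp, ofMul_one, neg_zero]
    obtain ⟨l, hl⟩ := (QuotientAddGroup.eq_zero_iff p).1 ((h m (Nat.one_le_iff_ne_zero.2 hm)).1 h0)
    exact ⟨l.toMul, congrArg (fun z => Additive.toMul z.1) hl⟩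
  -- surjectivity on the lattices
  have hLsurj : ∀ z : P ⟶ N.L, ∃ x, x ≫ f.fL = z :=
    Groth.Agent.Lib.OneMot6.lattice_surjective N.lattice f.fL fun n hn z => by
      obtain ⟨y', hy'⟩ := Groth.Agent.Lib.OneMot6.semiAb_root N.semiAb hn (z ≫ N.u)⁻¹
      let q : OneMot.tzPairs N n P := ⟨(Additive.ofMul z, Additive.ofMul y'), by
        change Additive.ofMul (z ≫ N.u) = -(n • Additive.ofMul y')
        rw [← ofMul_pow, hy', ofMul_inv, neg_neg]⟩
      obtain ⟨w, hw⟩ := (h n (Nat.one_le_iff_ne_zero.2 hn)).2 (QuotientAddGroup.mk q)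
      obtain ⟨p, rfl⟩ := QuotientAddGroup.mk_surjective w
      obtain ⟨l, hl⟩ := QuotientAddGroup.eq.1 hw
      have h1 := congrArg (fun z => Additive.toMul z.1) hl
      change l.toMul ^ n = (p.1.1.toMul ≫ f.fL)⁻¹ * z at h1
      exact ⟨p.1.1.toMul, l.toMul, by rw [h1, mul_inv_cancel_left]⟩
  have hLbij : Function.Bijective (fun x : P ⟶ M.L => x ≫ f.fL) :=
    ⟨fun a b hab => div_eq_one.1 (hLinj _ (by rw [GrpObj.div_comp, show a ≫ f.fL = b ≫ f.fL from hab, div_self'])), hLsurj⟩
  -- surjectivity on the torsion of the semi-abelian parts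
  have hsurj : ∀ (n : ℕ), n ≠ 0 → ∀ y' : P ⟶ N.G, y' ^ n = 1 → ∃ y : P ⟶ M.G, y ^ n = 1 ∧ y ≫ f.fG = y' := fun n hn y' hy' => by
    let q : OneMot.tzPairs N n P := ⟨(0, Additive.ofMul y'), by
      change Additive.ofMul ((1 : P ⟶ N.L) ≫ N.u) = -(n • Additive.ofMul y')
      rw [MonObj.one_comp, ← ofMul_pow, hy', ofMul_one, neg_zero]⟩
    obtain ⟨w, hw⟩ := (h n (Nat.one_le_iff_ne_zero.2 hn)).2 (QuotientAddGroup.mk q)
    obtain ⟨p, rfl⟩ := QuotientAddGroup.mk_surjective w
    obtain ⟨⟨x, y⟩, hxy⟩ := p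
    change Additive.ofMul (x.toMul ≫ M.u) = -(n • y) at hxy
    obtain ⟨l, hl⟩ := QuotientAddGroup.eq.1 hw
    have h1 := congrArg (fun z => Additive.toMul z.1) hl
    change l.toMul ^ n = (x.toMul ≫ f.fL)⁻¹ * 1 at h1
    have h2 := congrArg (fun z => Additive.toMul z.2) hl
    change (l.toMul ≫ N.u)⁻¹ = (y.toMul ≫ f.fG)⁻¹ * y' at h2
    obtain ⟨l₀, hl₀⟩ := hLsurj l.toMul
    have hx : l₀ ^ n = x.toMul⁻¹ := hLbij.1 (by
      show (l₀ ^ n) ≫ f.fL = x.toMul⁻¹ ≫ f.fL
      rw [MonObj.pow_comp, hl₀, h1, GrpObj.inv_comp, _root_.mul_one])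
    have hy : x.toMul ≫ M.u = (y.toMul ^ n)⁻¹ := congrArg Additive.toMul hxy
    refine ⟨y.toMul / (l₀ ≫ M.u), ?_, ?_⟩
    · rw [div_pow, ← MonObj.pow_comp, hx, GrpObj.inv_comp, hy, inv_inv, div_self']
    · rw [GrpObj.div_comp, Category.assoc, f.comm, ← Category.assoc, hl₀, div_eq_mul_inv, h2, mul_inv_cancel_left]
  exact ⟨Groth.Agent.Lib.OneMot6.lattice_isIso M.lattice N.lattice f.fL hLbij,
    Groth.Agent.Lib.OneMot6.semiAb_isIso M.semiAb N.semiAb f.fG hinj hsurj⟩

end Groth.Agent.S19691
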