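import Groth.Statements.S19701
import Groth.Agent.Lib.Curves.TraceBound
import Groth.Agent.Lib.CurveBundle.SmoothField
import Groth.Agent.Lib.Curves.DegreeOne
import Groth.Agent.S19695
import Groth.Agent.H81.PushLocFree

set_option autoImplicit false
universe u
open CategoryTheory CategoryTheory.Limits AlgebraicGeometry Opposite
open Curves

namespace Groth.Agent.S19701

/-- Let k be an algebraically closed field of characteristic different from 2 and X a hyperelliptic
curve of genus g over k: X → Spec k is smooth and proper, X is connected of dimension one with g =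
dim_k H¹(X, O_X) ≥ 2, and h : X → P¹_k is a k-morphism which is a double cover (finite, flat,
locally of finite presentation, of rank 2 at every point). Let τ : h_*O_X → O_{P¹} be the trace of h
(the O-linear map which over every affine open of P¹_k where h_*O_X is finite free is the trace of
the regular representation). Then the kernel of τ — an invertible sheaf on P¹_k — has degree −g − 1,
the degree of a rank-one sheaf E on P¹_k being χ(E) − χ(O). (On P¹_k this says that ker τ is
isomorphic to O(−g − 1); only the degree is asserted here.) -/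
theorem result (k : Type u) [Field k] [IsAlgClosed k]
    (h2 : (2 : k) ≠ 0) {X : Scheme.{u}} (p : X ⟶ Spec (CommRingCat.of k)) [IsProper p] [Smooth p]
    [ConnectedSpace ↥X] (hX : topologicalKrullDim ↥X = 1) (hg : 2 ≤ @Curv2.genus k _ X ⟨p⟩)
    (h : X ⟶ CohB1.ProjSpace 1 k) (hh : h ≫ CohB1.ProjSpace.toSpec 1 k = p)
    [IsFinite h] [Flat h] [LocallyOfFinitePresentation h]
    (hr : ∀ y : ↥(CohB1.ProjSpace 1 k), h.finrank y = 2)
    (τ : (Scheme.Modules.pushforward h).obj (Coh.structureModule X) ⟶ Coh.structureModule (CohB1.ProjSpace 1 k))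
    (hτ : FinCov.IsTraceHom h τ) :
    @Curv2.deg k _ (CohB1.ProjSpace 1 k) ⟨CohB1.ProjSpace.toSpec 1 k⟩ (kernel τ) 1 =
      -((@Curv2.genus k _ X ⟨p⟩ : ℤ) + 1) := by
  let P := CohB1.ProjSpace 1 k
  letI : P.Over (Spec (CommRingCat.of k)) := ⟨CohB1.ProjSpace.toSpec 1 k⟩
  letI : X.Over (Spec (CommRingCat.of k)) := ⟨p⟩
  haveI : IsProper (P ↘ Spec (CommRingCat.of k)) := Groth.Agent.Lib.ProjSpace.Basic.isProper_toSpec 1 k
  haveI : IsProper (X ↘ Spec (CommRingCat.of k)) := ‹IsProper p›
  haveI : Smooth (X ↘ Spec (CommRingCat.of k)) := ‹Smooth p›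
  haveI := Groth.Agent.Lib.CurveBundle.SmoothField.isIntegral k (X := X) hX.le
  haveI := Groth.Agent.Lib.Curves.GlobalSections.isNoetherian_of_proper k P
  have hdP : topologicalKrullDim P = 1 := by
    simpa using Groth.Agent.Lib.ProjSpace.Dim.topologicalKrullDim_projSpace_of_field 1 k
  let A := Groth.Agent.Lib.Curves.TraceDual.alg h
  let i := Groth.Agent.Lib.Curves.TraceDual.algPushIso h
  have hA : FlatMod.IsFinLocFreeOfRank 2 A.toModule := fun y => by
    obtain ⟨U, n, hy, ⟨e⟩⟩ := Groth.Agent.H81.PushLocFree.isFinLocFree_push h y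
    have hn : n = 2 := (Groth.Agent.H81.PushLocFree.finrank_eq hy e).symm.trans (hr y)
    exact ⟨U, hy, ⟨(Scheme.Modules.restrictFunctor U.ι).mapIso i ≪≫ e ≪≫ eqToIso (by rw [hn])⟩⟩
  let τ' : A.toModule ⟶ Coh.structureModule P := i.hom ≫ τ
  have hτ' : FinCov.IsTrace A τ' := fun U hU hF hFi a => hτ U hU hF hFi a
  have hc : FinCov.strMod A ≫ τ' = 2 • 𝟙 (Coh.structureModule P) :=
    Groth.Agent.S19695.result A 2 hA τ' hτ'
  haveI : Epi τ' := by
    haveI : Epi (2 • 𝟙 (Coh.structureModule P) : Coh.structureModule P ⟶ Coh.structureModule P) := by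
      constructor
      intro Z a b hab
      simp only [Preadditive.nsmul_comp, Category.id_comp] at hab
      ext U s
      have h0 := congr($(hab).app U s)
      have hu : IsUnit (2 : Γ(P, U)) := by
        let φ := ((P ↘ Spec (CommRingCat.of k)).appTop.hom.comp
          (Scheme.ΓSpecIso (CommRingCat.of k)).inv.hom)
        let ψ := (P.presheaf.map (homOfLE le_top : U ⟶ ⊤).op).hom.comp φ
        simpa only [map_ofNat] using (isUnit_iff_ne_zero.mpr h2).map ψ
      simp only [Scheme.Modules.Hom.add_app, two_nsmul, AddCommGrpCat.hom_add, AddMonoidHom.add_apply] at h0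
      refine hu.smul_left_cancel.mp ?_
      rw [two_smul, two_smul]
      exact h0
    exact epi_of_epi_fac hc
  have hdP' : topologicalKrullDim P ≤ 1 := hdP.le
  have hgood : ∀ F : P.Modules, Coh.IsCoh F → Groth.Agent.Lib.Curves.Euler.IsGood k P F := fun F hF =>
    Groth.Agent.Lib.Curves.Finiteness.isGood_of_isCoh hdP' hF
  have hOP := hgood _ (Groth.Agent.Lib.Curves.Degree.isCoh_structureModule (X := P))
  have hgA := hgood _ (Groth.Agent.Lib.Curves.TraceDual.isCoh h)
  let S := ShortComplex.mk (kernel.ι τ') τ' (kernel.condition τ')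
  have hS : S.ShortExact := { exact := ShortComplex.exact_kernel τ' }
  have hK := hgood _ (Groth.Agent.Lib.CohBasics.Closure.isCoh_kernel τ'
    (Groth.Agent.Lib.Curves.TraceDual.isCoh h) (Groth.Agent.Lib.Curves.Degree.isCoh_structureModule (X := P)).1)
  have e1 := Groth.Agent.Lib.Curves.Euler.euler_add hS hK hgA hOP
  have e2 : Curv2.euler k P (kernel τ') = Curv2.euler k P (kernel τ) :=
    Groth.Agent.Lib.Curves.Euler.euler_eq_of_iso (kernelIsIsoComp i.hom τ)
  have e3 : Curv2.euler k P A.toModule = Curv2.euler k X (Coh.structureModule X) := by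
    haveI := Groth.Agent.Lib.TensorMod.QCohInv.isQCoh_structureModule X
    rw [← Groth.Agent.Lib.SurfInt.Push.euler_push h hh (Coh.structureModule X)]
    exact Groth.Agent.Lib.Curves.Euler.euler_eq_of_iso i
  have e4 := Groth.Agent.Lib.Curves.Degree.euler_structureModule (k := k) hX.le
    (Groth.Agent.Lib.Curves.GlobalSections.finrank_h0_structure k X)
  obtain ⟨h0P, hgP⟩ := Groth.Agent.Lib.Curves.DegreeOne.h0_genus_of_iso_line (k := k) (X := P)
    (e := Iso.refl _) (Category.id_comp _)
  have e5 := Groth.Agent.Lib.Curves.Degree.euler_structureModule (k := k) hdP' h0P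
  simp only [S] at e1
  change Curv2.euler k P A.toModule = Curv2.euler k P (kernel τ') + Curv2.euler k P (Coh.structureModule P) at e1
  change Curv2.euler k P (kernel τ) - (1 : ℕ) * Curv2.euler k P (Coh.structureModule P) = _
  omega

end Groth.Agent.S19701
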