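import Groth.Statements.S19703
import Groth.Agent.Lib.GrpQ.AntiAff


set_option autoImplicit false
universe u
open CategoryTheory MonoidalCategory CartesianMonoidalCategory MonObj GrpObj AlgebraicGeometry CategoryTheory.Limits
open AlgGrp

namespace Groth.Agent.S19703

/-- Let k be a field, G an anti-affine algebraic group over k (smooth, of finite type, with O(G) = k), H
a connected k-group scheme of finite type and j : M → H its largest anti-affine closed subgroup
scheme H_ant (O(M) = k and every anti-affine closed subgroup scheme of H factors through M). Then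
every morphism of k-schemes f : G → H with f(e_G) = e_H factors through H_ant. -/
theorem result (k : Type u) [Field k]
    (G H : Over (Spec (CommRingCat.of k))) [GrpObj G] [Smooth G.hom] [QuasiCompact G.hom]
    (hG : Function.Bijective ((Scheme.ΓSpecIso (CommRingCat.of k)).inv ≫ G.hom.appTop).hom)
    [GrpObj H] [LocallyOfFiniteType H.hom] [QuasiCompact H.hom] [ConnectedSpace ↥H.left]
    (M : Over (Spec (CommRingCat.of k))) [GrpObj M] [LocallyOfFiniteType M.hom] [QuasiCompact M.hom] (j : M ⟶ H) [IsMonHom j] [IsClosedImmersion j.left]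
    (hM : Function.Bijective ((Scheme.ΓSpecIso (CommRingCat.of k)).inv ≫ M.hom.appTop).hom)
    (hMmax : ∀ (M₁ : Over (Spec (CommRingCat.of k))) [GrpObj M₁] [LocallyOfFiniteType M₁.hom] [QuasiCompact M₁.hom] (j₁ : M₁ ⟶ H) [IsMonHom j₁] [IsClosedImmersion j₁.left],
      Function.Bijective ((Scheme.ΓSpecIso (CommRingCat.of k)).inv ≫ M₁.hom.appTop).hom → ∃ g : M₁ ⟶ M, g ≫ j = j₁)
    (f : G ⟶ H) (hf : η[G] ≫ f = η[H]) :
    ∃ g : G ⟶ M, g ≫ j = f := by
  have := Groth.Agent.Lib.GrpSch.isSeparated_of_field H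
  have : IsMonHom f := Groth.Agent.Lib.GrpQ.AntiAff.isMonHom_of_pointed hG f hf
  obtain ⟨M₁, _, p, i, _, _, hpi, hstd, hcl⟩ := Groth.Agent.Lib.GrpQ.Image.exists_image f
  have : LocallyOfFiniteType M₁.hom := by rw [← Over.w i]; infer_instance
  have : QuasiCompact M₁.hom := by rw [← Over.w i]; infer_instance
  have := Groth.Agent.Lib.GrpQ.quasiCompact_left p
  obtain ⟨g, hg⟩ := hMmax M₁ i (by
    have e : ((Scheme.ΓSpecIso (CommRingCat.of k)).inv ≫ G.hom.appTop).hom =
        p.left.appTop.hom.comp ((Scheme.ΓSpecIso (CommRingCat.of k)).inv ≫ M₁.hom.appTop).hom := by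
      rw [← CommRingCat.hom_comp, Category.assoc, ← Scheme.Hom.comp_appTop, Over.w]
    have hinj := Groth.Agent.Lib.GrpQ.Image.appTop_injective p.left
    rw [e, RingHom.coe_comp] at hG
    exact ⟨hG.1.of_comp, fun y => by
      obtain ⟨c, hc⟩ := hG.2 (p.left.appTop.hom y)
      exact ⟨c, hinj hc⟩⟩)
  exact ⟨p ≫ g, by rw [Category.assoc, hg, hpi]⟩

end Groth.Agent.S19703
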