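import Groth.Statements.S19708


set_option autoImplicit false
universe u v w
open W4c5adicflatcompl
open CAlg

namespace Groth.Agent.S19708

/-- Let A be a commutative ring, I an ideal of A, M an I-adically complete A-module, Z a set and f : Z →
M a function. Then f is I-adically decaying (for every n, all but finitely many values f(z) lie in
I^n M) if and only if the family (f(z))_{z ∈ Z} has an I-adic sum in M, i.e. there is an element m
of M such that for every n some finite subset S of Z has f(z) ∈ I^n M for all z outside S and m −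
Σ_{z ∈ S} f(z) ∈ I^n M. -/
theorem result {A : Type u} [CommRing A] (I : Ideal A) (Z : Type v)
    (M : Type w) [AddCommGroup M] [Module A M] [IsAdicComplete I M] (f : Z → M) :
    f ∈ decaying I Z M ↔ ∃ m : M, ∀ n : ℕ, ∃ S : Finset Z,
      (∀ z, z ∉ S → f z ∈ (I ^ n • ⊤ : Submodule A M)) ∧ m - (∑ z ∈ S, f z) ∈ (I ^ n • ⊤ : Submodule A M) := by
  classical
  rw [mem_decaying_iff]
  constructor
  · intro hf
    let S : ℕ → Finset Z := fun n => (hf n).toFinset
    have hmono : ∀ {m n : ℕ}, m ≤ n → S m ⊆ S n := by
      intro m n hmn z hz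
      simp only [S, Set.Finite.mem_toFinset, Set.mem_ofPred_eq] at hz ⊢
      exact fun h => hz (Submodule.pow_smul_top_le I M hmn h)
    have hout : ∀ n z, z ∉ S n → f z ∈ (I ^ n • ⊤ : Submodule A M) := by
      intro n z hz
      simpa [S] using hz
    obtain ⟨L, hL⟩ := IsPrecomplete.prec (inferInstance : IsPrecomplete I M)
      (f := fun n => ∑ z ∈ S n, f z) (fun {m n} hmn => by
        rw [SModEq.sub_mem, ← Finset.sum_sdiff (hmono hmn)]
        have : (∑ z ∈ S m, f z) - (∑ z ∈ S n \ S m, f z + ∑ z ∈ S m, f z) = -∑ z ∈ S n \ S m, f z := by abel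
        rw [this]
        exact neg_mem (sum_mem fun z hz => hout m z (Finset.mem_sdiff.1 hz).2))
    refine ⟨L, fun n => ⟨S n, hout n, ?_⟩⟩
    have := SModEq.sub_mem.1 (hL n)
    simpa using neg_mem this
  · rintro ⟨m, hm⟩ n
    obtain ⟨S, hS, -⟩ := hm n
    exact S.finite_toSet.subset fun z hz => by_contra fun h => hz (hS z h)

end Groth.Agent.S19708
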