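import Groth.Statements.S1971
import Groth.Agent.H48.Hens

set_option autoImplicit false
universe u
open EtAlg

namespace Groth.Agent.S1971

/-- Let A be a ring with ideals I and J having the same zero locus in Spec A. Then an A-algebra is a
henselization of the pair (A, I) if and only if it is a henselization of the pair (A, J). -/
theorem result (A : Type u) [CommRing A] (I J : Ideal A)
    (h : PrimeSpectrum.zeroLocus (I : Set A) = PrimeSpectrum.zeroLocus (J : Set A)) (B : Type u) [CommRing B] [Algebra A B] :
    Hens2.IsPairHenselization A I B ↔ Hens2.IsPairHenselization A J B := by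
  have key : ∀ I J : Ideal A, J ≤ I.radical → I ≤ J.radical →
      Hens2.IsPairHenselization A I B → Hens2.IsPairHenselization A J B := by
    intro I J h1 h2 hB
    refine ⟨H48.Hens.henselianRing_of_radical_eq
      ((Ideal.map_mono h1).trans (Ideal.map_radical_le _)) hB.1, ?_⟩
    intro C _ K f hC hf
    refine hB.2 C K.radical f (H48.Hens.henselianRing_radical hC) ?_
    exact (Ideal.map_mono h2).trans ((Ideal.map_radical_le _).trans (Ideal.radical_mono hf))
  have hIJ : I.radical = J.radical := by
    rw [← PrimeSpectrum.vanishingIdeal_zeroLocus_eq_radical, h,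
      PrimeSpectrum.vanishingIdeal_zeroLocus_eq_radical]
  exact ⟨key I J (hIJ ▸ Ideal.le_radical) (hIJ ▸ Ideal.le_radical),
    key J I (hIJ ▸ Ideal.le_radical) (hIJ ▸ Ideal.le_radical)⟩

end Groth.Agent.S1971
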