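import Groth.Statements.S19710
import Groth.Agent.Lib.FunFld.LinSer.Members
-- import your own Groth.Agent.* helpers here

set_option autoImplicit false
open FunFld

namespace Groth.Agent.S19710
open Groth.Agent.Lib.FunFld.LinSer

/-- Let `k` be an algebraically closed field of characteristic zero. A `g^r_d` on a function field `K/k`
of one variable is a divisor `D` of degree `d` with a subspace `V ⊆ L(D)` of dimension `r + 1`;
`V(-nP) = V ∩ L(D - nP)`, and the `i`-th vanishing order `m_i(V, P)` (`m_0 < ⋯ < m_r`) equals `m`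
exactly when `dim V(-mP) = r + 1 - i` and `dim V(-(m+1)P) = r - i`. Let `K_Y` have genus `0` and
carry a `g^r_d` `(D_Y, V_Y)` with at least a cusp at a place `Q_Y` (`dim V_Y(-2Q_Y) ≥ r`); let
`(D_Z, V_Z)` be a `g^r_d` on a second function field `K_Z`, compatible with `(D_Y, V_Y)` at a node
formed by a place `P ≠ Q_Y` of `K_Y` and a place `Q` of `K_Z` (`dim V_Y(-nP) + dim V_Z(-(d+1-n)Q) =
r + 1` for `0 ≤ n ≤ d + 1`), and let `P'` be a place of `K_Y` different from `P` and from `Q_Y`.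
Then `m_i(V_Y, P') < m_i(V_Z, Q)` for all but at most one index: the set of `i ≤ r` for which the
`i`-th vanishing order of `V_Y` at `P'` equals the `i`-th vanishing order of `V_Z` at `Q` has at
most one element. (In the source `Q_Y` is the point where the rational component `Y` meets a chain
of curves ending in a curve of positive genus, which forces the cusp condition assumed here; the
source works over the complex numbers.) -/
theorem result
    (k : Type*) [Field k] [IsAlgClosed k] [CharZero k]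
    (KY : Type*) [Field KY] [Algebra k KY] (hKY : FunFld.IsFunctionField k KY) (hg0 : FunFld.genus k KY = 0)
    (KZ : Type*) [Field KZ] [Algebra k KZ] (hKZ : FunFld.IsFunctionField k KZ)
    (d r : ℕ) (DY : FunFld.Divisor k KY) (hDY : DY.deg = d) (DZ : FunFld.Divisor k KZ) (hDZ : DZ.deg = d)
    (VY : Submodule k KY) (hVY : VY ≤ FunFld.L DY) (hVYr : Module.finrank k ↥VY = r + 1)
    (VZ : Submodule k KZ) (hVZ : VZ ≤ FunFld.L DZ) (hVZr : Module.finrank k ↥VZ = r + 1)
    (QY : FunFld.Place k KY) (hcusp : r ≤ Module.finrank k ↥(VY ⊓ FunFld.L (DY - Finsupp.single QY ((2 : ℤ)))))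
    (P : FunFld.Place k KY) (hP : P ≠ QY) (Q : FunFld.Place k KZ)
    (hcomp : ∀ n : ℕ, n ≤ d + 1 →
      Module.finrank k ↥(VY ⊓ FunFld.L (DY - Finsupp.single P ((n : ℤ)))) + Module.finrank k ↥(VZ ⊓ FunFld.L (DZ - Finsupp.single Q ((d : ℤ) + 1 - n))) = r + 1)
    (P' : FunFld.Place k KY) (hP'P : P' ≠ P) (hP'Q : P' ≠ QY) :
    {i : ℕ | i ≤ r ∧ ∃ m : ℕ,
        Module.finrank k ↥(VY ⊓ FunFld.L (DY - Finsupp.single P' ((m : ℤ)))) = r + 1 - i ∧
        Module.finrank k ↥(VY ⊓ FunFld.L (DY - Finsupp.single P' ((m : ℤ) + 1))) = r - i ∧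
        Module.finrank k ↥(VZ ⊓ FunFld.L (DZ - Finsupp.single Q ((m : ℤ)))) = r + 1 - i ∧
        Module.finrank k ↥(VZ ⊓ FunFld.L (DZ - Finsupp.single Q ((m : ℤ) + 1))) = r - i}.Subsingleton := by
  intro i hi j hj
  obtain ⟨hir, mi, hi1, hi2, hi3, hi4⟩ := hi
  obtain ⟨hjr, mj, hj1, hj2, hj3, hj4⟩ := hj
  by_contra hij
  have mem : ∀ (i m : ℕ), i ≤ r →
      Module.finrank k ↥(VY ⊓ FunFld.L (DY - Finsupp.single P' ((m : ℤ)))) = r + 1 - i →
      Module.finrank k ↥(VZ ⊓ FunFld.L (DZ - Finsupp.single Q ((m : ℤ) + 1))) = r - i →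
      m ≤ d ∧ ∃ f ∈ VY, f ≠ 0 ∧ f ∈ FunFld.L (DY - Finsupp.single P' (m : ℤ)) ∧
        f ∈ FunFld.L (DY - Finsupp.single P ((d - m : ℕ) : ℤ)) := by
    intro i m hir h1 h2
    have hmd : m ≤ d := by
      by_contra hmd
      have h0 := Basic.van_eq_zero (V := VY) hKY hDY P' (n := (m : ℤ)) (by omega)
      unfold Basic.van at h0
      omega
    have h3 := hcomp (d - m) (by omega)
    rw [show (d : ℤ) + 1 - ((d - m : ℕ) : ℤ) = (m : ℤ) + 1 by omega, h2] at h3
    refine ⟨hmd, Members.exists_mem hVYr ?_⟩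
    unfold Basic.van
    omega
  have hne : mi ≠ mj := by
    rintro rfl
    omega
  wlog hlt : mj < mi generalizing i j mi mj with H
  · exact H hjr mj hj1 hj2 hj3 hj4 hir mi hi1 hi2 hi3 hi4 (Ne.symm hij) hne.symm (by omega)
  obtain ⟨hmd, f, hf, hf0, hf1, hf2⟩ := mem i mi hir hi1 hi4
  obtain ⟨hmd', g, hg, hg0', hg1, hg2⟩ := mem j mj hjr hj1 hj4
  refine Chain.unique_supported hKY hg0 hDY hVY hVYr hcusp hP'Q hP hP'P hf hg hf0 hg0' hmd hlt
    hf1 hf2 hg1 hg2 ?_
  rw [linearIndependent_fin2]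
  refine ⟨by simpa using hg0', fun s hs => hne ?_⟩
  simp only [Matrix.cons_val_one, Matrix.cons_val_zero] at hs
  have h1 := Members.div_add_eq hKY hDY hP'P hf0 (by omega) hf1 hf2
  have h2 := Members.div_add_eq hKY hDY hP'P hf0 (a := (mj : ℤ)) (by omega)
    (hs ▸ Submodule.smul_mem _ s hg1) (hs ▸ Submodule.smul_mem _ s hg2)
  have h := DFunLike.congr_fun (h1.symm.trans h2) P'
  simp [Finsupp.single_eq_of_ne hP'P] at h
  omega

end Groth.Agent.S19710
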