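import Groth.Statements.S19711
import Mathlib.Algebra.Module.FinitePresentation
import Mathlib.RingTheory.Localization.FractionRing
import Mathlib.RingTheory.Spectrum.Prime.Topology
import Mathlib.LinearAlgebra.Basis.VectorSpace
import Mathlib.Algebra.Module.LocalizedModule.Exact
import Mathlib.RingTheory.Ideal.Maps
import Mathlib.RingTheory.Noetherian.Basic

set_option autoImplicit false
universe u
open CategoryTheory
open Coh

namespace Groth.Agent.S19711

/-- Let A be a Noetherian integral domain and F an A-linear additive functor from A-modules to A-modules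
with F(A) a finitely generated A-module. Call such a functor generically injective when there is a
dense open subset U of Spec A such that for every point u of U whose residue field κ(u) is a
finitely generated A-algebra the comparison map F(A) ⊗_A κ(u) → F(κ(u)) is injective; since F is
A-linear this injectivity says: every m in F(A) whose image under F(A → κ(u)) vanishes satisfies s·m
∈ u·F(A) for some s outside u. If F is generically injective then so is every A-linear additive
subfunctor K ⊆ F (a natural transformation K → F with injective components). (The published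
statement is over a reduced Noetherian affine scheme, for additive functors on quasi-coherent
sheaves with values in abelian groups and the induced A-action, assumes F weakly bounded (F(A/p)
finitely generated for every prime ideal p) and also records that K is again weakly bounded; only
the finite generation of F(A), which its argument uses, is assumed here, and the integral case with
A-linear functors stated here is the one its argument by generic flatness treats.) -/
theorem result {A : Type u} [CommRing A] [IsNoetherianRing A] [IsDomain A]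
    (F K : ModuleCat.{u} A ⥤ ModuleCat.{u} A) [F.Additive] [F.Linear A] [K.Additive] [K.Linear A]
    (ι : K ⟶ F) (hι : ∀ X : ModuleCat.{u} A, Function.Injective (ι.app X).hom)
    (hfin : Module.Finite A (F.obj (ModuleCat.of A A)))
    (hGI : ∃ U : Set (PrimeSpectrum A), IsOpen U ∧ Dense U ∧ ∀ u ∈ U, Algebra.FiniteType A u.asIdeal.ResidueField →
        ∀ m : F.obj (ModuleCat.of A A),
          (F.map (ModuleCat.ofHom (Algebra.linearMap A u.asIdeal.ResidueField))).hom m = 0 →
            ∃ s ∉ u.asIdeal, s • m ∈ u.asIdeal • (⊤ : Submodule A (F.obj (ModuleCat.of A A)))) :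
    ∃ U : Set (PrimeSpectrum A), IsOpen U ∧ Dense U ∧ ∀ u ∈ U, Algebra.FiniteType A u.asIdeal.ResidueField →
        ∀ m : K.obj (ModuleCat.of A A),
          (K.map (ModuleCat.ofHom (Algebra.linearMap A u.asIdeal.ResidueField))).hom m = 0 →
            ∃ s ∉ u.asIdeal, s • m ∈ u.asIdeal • (⊤ : Submodule A (K.obj (ModuleCat.of A A))) := by
  obtain ⟨U, hUo, hUd, hU⟩ := hGI
  let K₀ := K.obj (ModuleCat.of A A)
  let F₀ := F.obj (ModuleCat.of A A)
  let j : K₀ →ₗ[A] F₀ := (ι.app (ModuleCat.of A A)).hom
  have hj : Function.Injective j := hι _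
  haveI : Module.Finite A F₀ := hfin
  haveI : Module.Finite A K₀ := Module.Finite.of_injective j hj
  haveI : Module.FinitePresentation A F₀ := Module.finitePresentation_of_finite A F₀
  let S := nonZeroDivisors A
  let Q := FractionRing A
  let jQ : LocalizedModule S K₀ →ₗ[Q] LocalizedModule S F₀ := LocalizedModule.map S j
  obtain ⟨r, hr⟩ := LinearMap.exists_leftInverse_of_injective jQ
    (LinearMap.ker_eq_bot.mpr (LocalizedModule.map_injective S j hj))
  let l : F₀ →ₗ[A] LocalizedModule S K₀ :=
    (r.restrictScalars A).comp (LocalizedModule.mkLinearMap S F₀)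
  obtain ⟨⟨s₀, hs₀⟩, h, hh⟩ : ∃ (s : S) (h : F₀ →ₗ[A] K₀), (LocalizedModule.mkLinearMap S K₀).comp h = s • l := by
    obtain ⟨h, s, hh⟩ := Module.FinitePresentation.exists_lift_of_isLocalizedModule S (LocalizedModule.mkLinearMap S K₀) l
    exact ⟨s, h, hh⟩
  have hk : ∀ k : K₀, ∃ t ∈ S, t • (h (j k) - s₀ • k) = 0 := by
    intro k
    have e1 : LocalizedModule.mkLinearMap S K₀ (h (j k)) = LocalizedModule.mkLinearMap S K₀ (s₀ • k) := by
      refine (LinearMap.congr_fun hh (j k)).trans ?_
      rw [map_smul]
      show s₀ • r (LocalizedModule.mk (j k) 1) = s₀ • _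
      refine congrArg (s₀ • ·) ?_
      rw [show LocalizedModule.mk (j k) 1 = jQ (LocalizedModule.mk k 1) from (LocalizedModule.map_mk _ _ _ _).symm]
      exact LinearMap.congr_fun hr _
    obtain ⟨⟨t, ht⟩, h1⟩ := (IsLocalizedModule.eq_iff_exists S (LocalizedModule.mkLinearMap S K₀)).mp e1
    refine ⟨t, ht, ?_⟩
    rw [smul_sub, sub_eq_zero]
    exact h1
  classical
  obtain ⟨n, b, hb⟩ := Module.Finite.exists_fin (R := A) (M := K₀)
  choose t ht ht0 using fun i => hk (b i)
  let g := (∏ i, t i) * s₀
  let ρ : F₀ →ₗ[A] K₀ := (∏ i, t i) • h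
  have hρ : ∀ k : K₀, ρ (j k) = g • k := by
    intro k
    have hmem : k ∈ Submodule.span A (Set.range b) := hb ▸ Submodule.mem_top
    induction hmem using Submodule.span_induction with
    | mem k hk =>
      obtain ⟨i, rfl⟩ := hk
      show (∏ i, t i) • h (j (b i)) = _
      rw [mul_smul, ← sub_eq_zero, ← smul_sub, ← Finset.prod_erase_mul Finset.univ t (Finset.mem_univ i),
        mul_smul, ht0, smul_zero]
    | zero => rw [map_zero, map_zero, smul_zero]
    | add x y _ _ hx hy => rw [map_add, map_add, hx, hy, smul_add]
    | smul a x _ hx => rw [map_smul, map_smul, hx, smul_comm]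
  have hg : g ≠ 0 := nonZeroDivisors.ne_zero (mul_mem (prod_mem fun i _ => ht i) hs₀)
  have hdense : Dense (PrimeSpectrum.basicOpen g : Set (PrimeSpectrum A)) :=
    (PrimeSpectrum.basicOpen g).2.dense ⟨⟨⊥, Ideal.isPrime_bot⟩, fun hmem => hg (Ideal.mem_bot.mp hmem)⟩
  refine ⟨U ∩ PrimeSpectrum.basicOpen g, hUo.inter (PrimeSpectrum.basicOpen g).2,
    hUd.inter_of_isOpen_right hdense (PrimeSpectrum.basicOpen g).2, fun u hu hft m hm => ?_⟩
  obtain ⟨s, hs, hsm⟩ := hU u hu.1 hft (j m) (by
    have e := congrArg (fun φ => φ.hom m) (ι.naturality (ModuleCat.ofHom (Algebra.linearMap A u.asIdeal.ResidueField)))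
    refine e.symm.trans ?_
    show (ι.app _).hom _ = 0
    exact (congrArg (ι.app _).hom hm).trans (map_zero _))
  refine ⟨g * s, fun hmem => (u.2.mem_or_mem hmem).elim hu.2 hs, ?_⟩
  have h2 : ρ (s • j m) ∈ Submodule.map ρ (u.asIdeal • ⊤) := Submodule.mem_map_of_mem hsm
  rw [Submodule.map_smul'', ← map_smul, hρ, ← mul_smul] at h2
  exact Submodule.smul_mono le_rfl le_top h2

end Groth.Agent.S19711
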