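import Groth.Statements.S19713
import Groth.Agent.H14.AffPush.Exists
-- import your own Groth.Agent.* helpers here

set_option autoImplicit false
universe u
open TwSh

namespace Groth.Agent.S19713

open CategoryTheory AlgebraicGeometry in
/-- Let X be a non-empty Noetherian scheme and 𝒳 → X an fppf gerbe banded by the multiplicative group.
Then there is a non-zero coherent twisted sheaf on 𝒳, that is, a quasi-coherent twisted module of
finite type which is not a zero object. (Non-emptiness of X is tacit in the published statement: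
over the empty scheme every module on the gerbe is zero.) -/
theorem result (S : Scheme.{u}) (X : Over S) [IsNoetherian X.left] [Nonempty X.left] (𝒳 : AlgSt.Cat S) (h𝒳 : AlgSt.IsAlgStack Scheme.fppfPrecoverage 𝒳) (π : 𝒳 ⥤ᵇ AlgSt.ofSch X) (ι : TwSh.BandHom 𝒳 (TwSh.GmPsh S)) (hπ : TwSh.IsBandedGerbe (QuotSh.J Scheme.fppfPrecoverage S) π ι) : ∃ F : StMod.QCoh 𝒳, TwSh.IsTwisted F.obj ι (𝟙 (TwSh.GmPsh S)) 1 ∧ F.obj.IsFinType ∧ ¬ Limits.IsZero F := by
  exact Groth.Agent.H14.AffPush.exists_twisted h𝒳.isStack.1 (𝟙 (TwSh.GmPsh S)) hπ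

end Groth.Agent.S19713
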