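import Groth.Statements.S19714
import Groth.Agent.H14.ModDesc.Banded
-- import your own Groth.Agent.* helpers here

set_option autoImplicit false
universe u
open TwSh

namespace Groth.Agent.S19714

open CategoryTheory AlgebraicGeometry in
/-- First assertion: let π : 𝒳 → 𝒴 be an fppf A-gerbe of algebraic stacks, for a presheaf of groups A on
schemes over S acting through the inertia of 𝒳, and let χ be any character of A. Inverse image along
π is an equivalence from quasi-coherent modules on 𝒴 onto the 0-fold twisted quasi-coherent modules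
on 𝒳 (those on which A acts trivially through the inertia): the inverse-image functor is full and
faithful, and every 0-fold twisted quasi-coherent module on 𝒳 is isomorphic to an inverse image.
(The published statement is for all modules on a gerbe over a locally ringed site and names direct
image as the quasi-inverse; this row is its quasi-coherent form over algebraic stacks and asserts
existence of the isomorphism only. That inverse images are 0-fold twisted holds by construction and
is not asserted.) -/
theorem result (S : Scheme.{u}) (𝒳 𝒴 : AlgSt.Cat S) (h𝒳 : AlgSt.IsAlgStack Scheme.fppfPrecoverage 𝒳) (h𝒴 : AlgSt.IsAlgStack Scheme.fppfPrecoverage 𝒴) (A : (Over S)ᵒᵖ ⥤ GrpCat.{u}) (χ : A ⟶ TwSh.GmPsh S) (π : 𝒳 ⥤ᵇ 𝒴) (ι : TwSh.BandHom 𝒳 A) (hπ : TwSh.IsBandedGerbe (QuotSh.J Scheme.fppfPrecoverage S) π ι) : ((StMod.comapQ π).Full ∧ (StMod.comapQ π).Faithful) ∧ ∀ F : StMod.QCoh 𝒳, TwSh.IsTwisted F.obj ι χ 0 → ∃ G : StMod.QCoh 𝒴, Nonempty (F ≅ (StMod.comapQ π).obj G) := by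
  have hX := h𝒳.isStack.1
  have hY := h𝒴.isStack.1
  have H : ∀ G : StMod.QCoh 𝒴, Groth.Agent.H14.ModDesc.Hyp π ((StMod.comapQ π).obj G) := fun G =>
    Groth.Agent.H14.ModDesc.hyp_of_isTwisted_zero hX hY χ hπ _
      (Groth.Agent.H14.ModDesc.isTwisted_zero_comap χ hπ G.obj)
  refine ⟨⟨⟨fun {G G'} u => ⟨ObjectProperty.homMk (Groth.Agent.H14.ModDesc.preimageHom (H G') u.hom), ?_⟩⟩,
    ⟨fun {G G'} v v' e => ?_⟩⟩, fun F hF => ?_⟩
  · apply ObjectProperty.hom_ext
    exact Groth.Agent.H14.ModDesc.comapMap_preimageHom (H G') u.hom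
  · apply ObjectProperty.hom_ext
    exact Groth.Agent.H14.ModDesc.comapMap_injective (H G') (congrArg (fun k => k.hom) e)
  · have HF := Groth.Agent.H14.ModDesc.hyp_of_isTwisted_zero hX hY χ hπ F hF
    exact ⟨Groth.Agent.H14.ModDesc.pushQ HF,
      ⟨ObjectProperty.isoMk _ (Groth.Agent.H14.ModDesc.counitIso HF).symm⟩⟩

end Groth.Agent.S19714
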