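import Groth.Statements.S19715
import Groth.Agent.H14.ModDesc.Banded
import Groth.Agent.Lib.AlgSpace.Local
-- import your own Groth.Agent.* helpers here

set_option autoImplicit false
set_option backward.isDefEq.respectTransparency false
set_option backward.isDefEq.respectTransparency.types false
set_option linter.style.haveILetI false
universe u
open TwSh

namespace Groth.Agent.S19715

open CategoryTheory AlgebraicGeometry in
/-- Being twisted is local on the base. Let 𝒳 → X be an fppf A-gerbe over a scheme X, χ a character of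
A, d an integer and F a quasi-coherent module on 𝒳. If {T_i → X} is a family of flat morphisms
locally of finite presentation whose images cover X, and for every i the restriction of F to the
gerbe restricted over T_i is d-fold χ-twisted for the restricted action, then F is d-fold χ-twisted.
(The published statement is an equivalence, for arbitrary modules on an A-gerbe over a locally
ringed site and a covering of it; the converse implication holds by construction and is not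
asserted, and this row is the quasi-coherent form over the big fppf site of a scheme.) -/
theorem result (S : Scheme.{u}) (X : Over S) (𝒳 : AlgSt.Cat S) (h𝒳 : AlgSt.IsAlgStack Scheme.fppfPrecoverage 𝒳) (A : (Over S)ᵒᵖ ⥤ GrpCat.{u}) (χ : A ⟶ TwSh.GmPsh S) (d : ℤ) (π : 𝒳 ⥤ᵇ AlgSt.ofSch X) (ι : TwSh.BandHom 𝒳 A) (hπ : TwSh.IsBandedGerbe (QuotSh.J Scheme.fppfPrecoverage S) π ι) (I : Type u) (η : I → (AlgSt.ofSch X).obj) (hfl : ∀ i, Flat (η i).sec.down.left) (hfp : ∀ i, LocallyOfFinitePresentation (η i).sec.down.left) (hcov : ∀ x : X.left, ∃ i, x ∈ Set.range (η i).sec.down.left.base) (F : StMod.QCoh 𝒳) (h : ∀ i, TwSh.IsTwisted (StMod.Mod.comap (StMod.fibFst π (η i)) F.obj) (TwSh.BandHom.fib π (η i) ι (TwSh.IsBandedGerbe.map_hom_eq_id π hπ)) χ d) : TwSh.IsTwisted F.obj ι χ d := by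
  classical
  have hfib := h𝒳.isStack.1
  rw [TwSh.isTwisted_iff_inert_eq]
  intro ξ a
  apply Scheme.Modules.hom_ext
  intro U
  ext s
  refine TopCat.Presheaf.section_ext (C := Ab) ⟨(F.obj.obj ξ).presheaf, (F.obj.obj ξ).isSheaf⟩ U _ _ fun z hz => ?_
  obtain ⟨V, hV, hzV, hVU⟩ := exists_isAffineOpen_mem_and_subset (X := StMod.sch 𝒳 ξ) (x := z) (U := U) hz
  -- the covering of the scheme under `ξ` by the pullbacks of the family
  let c : 𝒳.p.obj ξ ⟶ X := StMod.baseOver π ξ (𝟙 (π.obj ξ)) ≫ (π.obj ξ).sec.down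
  let P : I → Over S := fun i =>
    Over.mk (Limits.pullback.fst c.left (η i).sec.down.left ≫ (𝒳.p.obj ξ).hom)
  let p : ∀ i, P i ⟶ 𝒳.p.obj ξ := fun i => Over.homMk (Limits.pullback.fst c.left (η i).sec.down.left) rfl
  have hR : Sieve.ofArrows P p ∈ QuotSh.J Scheme.fppfPrecoverage S (𝒳.p.obj ξ) := by
    show Sieve.ofArrows P p ∈ AlgSp.J S (𝒳.p.obj ξ)
    refine Groth.Agent.Lib.AlgSpace.ofArrows_mem_J P p (fun i => ?_) (fun i => ?_) fun x => ?_
    · have := hfl i
      exact inferInstanceAs (Flat (Limits.pullback.fst c.left (η i).sec.down.left))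
    · have := hfp i
      exact inferInstanceAs (LocallyOfFinitePresentation (Limits.pullback.fst c.left (η i).sec.down.left))
    · obtain ⟨i, y, hy⟩ := hcov (c.left x)
      obtain ⟨t, ht, -⟩ := Scheme.Pullback.exists_preimage_pullback (f := c.left) (g := (η i).sec.down.left) x y hy.symm
      exact ⟨i, t, ht⟩
  obtain ⟨n, Z, f, hZ, hfR, hfflat, hfV, hfcov⟩ := Groth.Agent.H14.ModDesc.exists_finite_affine hR hV
  choose x φ hφ using fun j => hfib.exists_lift (f j)
  have hx : ∀ j, 𝒳.p.obj (x j) = Z j := fun j =>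
    have := hφ j
    IsHomLift.domain_eq 𝒳.p (f j) (φ j)
  have hbφ : ∀ j, 𝒳.p.map (φ j) = eqToHom (hx j) ≫ f j := fun j => by
    have := hφ j
    simpa using IsHomLift.fac' 𝒳.p (f j) (φ j)
  have hbm : ∀ j, StMod.bmap 𝒳 (φ j) = (eqToHom (hx j)).left ≫ (f j).left := fun j =>
    congrArg CommaMorphism.left (hbφ j)
  have hiso : ∀ j, IsIso (eqToHom (hx j)).left := fun j =>
    inferInstanceAs (IsIso ((Over.forget S).map (eqToHom (hx j))))
  have haff : ∀ j, IsAffine (StMod.sch 𝒳 (x j)) := fun j => by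
    have := hZ j
    show IsAffine (𝒳.p.obj (x j)).left
    rw [hx]
    infer_instance
  have hle : ∀ j, ⊤ ≤ StMod.bmap 𝒳 (φ j) ⁻¹ᵁ V := fun j w _ => by
    show StMod.bmap 𝒳 (φ j) w ∈ V
    rw [hbm]
    exact hfV j _
  -- equality after restriction to the lifts
  have key : ∀ j (t : Γ(F.obj.obj ξ, V)),
      Groth.Agent.H14.ModDesc.mapU F.obj (φ j) V (hle j) ((TwSh.inert F.obj ξ (ι.hom ξ a)).app V t) =
      Groth.Agent.H14.ModDesc.mapU F.obj (φ j) V (hle j)
        ((TwSh.scalarEnd (F.obj.obj ξ) (((TwSh.charUnit χ ξ a) ^ d)⁻¹).val).app V t) := by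
    intro j t
    obtain ⟨W, g₁, g₂, ⟨i⟩, hg⟩ := hfR j
    let a' := A.map (𝒳.p.map (φ j)).op a
    let q : 𝒳.p.obj (x j) ⟶ (η i).base :=
      Over.homMk ((eqToHom (hx j)).left ≫ g₁.left ≫ Limits.pullback.snd c.left (η i).sec.down.left) (by
        have e : Limits.pullback.fst c.left (η i).sec.down.left ≫ (𝒳.p.obj ξ).hom =
            Limits.pullback.snd c.left (η i).sec.down.left ≫ (η i).base.hom := by
          rw [← Over.w c, ← Over.w (η i).sec.down, ← Category.assoc, Limits.pullback.condition, Category.assoc]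
        rw [Category.assoc, Category.assoc, ← e]
        exact (congrArg ((eqToHom (hx j)).left ≫ ·) (Over.w g₁)).trans (Over.w (eqToHom (hx j))))
    have hsec : eqToHom (π.w_obj (x j)) ≫ q ≫ (η i).sec.down = (π.obj (x j)).sec.down := by
      have h1 : ((AlgSp.yon S).obj X).obj.map (π.map (φ j)).hom.op (π.obj ξ).sec = (π.obj (x j)).sec :=
        (π.map (φ j)).map_sec
      have h2 : (π.map (φ j)).hom ≫ (π.obj ξ).sec.down = (π.obj (x j)).sec.down := congrArg ULift.down h1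
      rw [← h2]
      haveI : 𝒳.p.IsHomLift (𝒳.p.map (φ j)) (φ j) := IsHomLift.map 𝒳.p (φ j)
      haveI := BasedFunctor.preserves_isHomLift π (𝒳.p.map (φ j)) (φ j)
      have h3 : (π.map (φ j)).hom = eqToHom (π.w_obj (x j)) ≫ 𝒳.p.map (φ j) ≫ eqToHom (π.w_obj ξ).symm :=
        IsHomLift.fac' (AlgSt.ofSch X).p (𝒳.p.map (φ j)) (π.map (φ j))
      rw [h3]
      simp only [Category.assoc, hbφ]
      congr 1
      have h4 : eqToHom (π.w_obj ξ).symm ≫ (π.obj ξ).sec.down = c := by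
        simp only [c, StMod.baseOver, CategoryTheory.Functor.map_id, Category.comp_id]
      erw [h4]
      apply Over.OverMorphism.ext
      simp only [Over.comp_left]
      rw [← hg]
      simp only [q, p, Over.homMk_left, Over.comp_left, Category.assoc, Limits.pullback.condition]
    let u : π.obj (x j) ⟶ η i :=
      ⟨eqToHom (π.w_obj (x j)) ≫ q, congrArg ULift.up ((Category.assoc _ _ _).trans hsec)⟩
    have hj : ∀ s, F.obj.mapTop (ι.hom (x j) a').hom.1 s =
        (((TwSh.charUnit χ (x j) a') ^ d)⁻¹).val • s := fun s => by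
      have h5 := h i (CostructuredArrow.mk u) a' ⊤ s
      rw [TwSh.inert_app_top] at h5
      have h6 : ∀ r, TwSh.resTop (StMod.sch 𝒳 (x j)) ⊤ r = r := fun r => by
        show (StMod.sch 𝒳 (x j)).presheaf.map (homOfLE (le_top : (⊤ : (StMod.sch 𝒳 (x j)).Opens) ≤ ⊤)).op r = r
        rw [show (homOfLE (le_top : (⊤ : (StMod.sch 𝒳 (x j)).Opens) ≤ ⊤)).op = 𝟙 _ from
          Quiver.Hom.unop_inj (Subsingleton.elim _ _), CategoryTheory.Functor.map_id]
        rfl
      refine Eq.trans ?_ (h5.trans ?_)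
      · exact (Groth.Agent.H14.ModDesc.mapTop_comap (StMod.fibFst π (η i)) F.obj
          ((BandHom.fib π (η i) ι (IsBandedGerbe.map_hom_eq_id π hπ)).hom (CostructuredArrow.mk u) a').hom.1 s).symm
      · show TwSh.resTop (StMod.sch 𝒳 (x j)) ⊤ (((TwSh.charUnit χ (x j) a') ^ d)⁻¹).val • s = _
        rw [h6]
    have hnat : (ι.hom (x j) a').hom.1 ≫ φ j = φ j ≫ (ι.hom ξ a).hom.1 := ι.natural (φ j) a
    -- left hand side
    have hL : Groth.Agent.H14.ModDesc.mapU F.obj (φ j) V (hle j) ((TwSh.inert F.obj ξ (ι.hom ξ a)).app V t) =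
        F.obj.mapTop (ι.hom (x j) a').hom.1 (Groth.Agent.H14.ModDesc.mapU F.obj (φ j) V (hle j) t) := by
      have h8 : ⊤ ≤ StMod.bmap 𝒳 ((ι.hom (x j) a').hom.1 ≫ φ j) ⁻¹ᵁ V := by
        rw [StMod.bmap_comp, TwSh.bmap_autO, Category.id_comp]
        exact hle j
      have h9 : ⊤ ≤ StMod.bmap 𝒳 (φ j ≫ (ι.hom ξ a).hom.1) ⁻¹ᵁ V := hnat ▸ h8
      have h7 : V ≤ StMod.bmap 𝒳 (ι.hom ξ a).hom.1 ⁻¹ᵁ V := by rw [TwSh.bmap_autO]; exact le_rfl
      rw [Groth.Agent.H14.ModDesc.mapU_comp F.obj _ _ V (hle j) h8 t,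
        Groth.Agent.H14.ModDesc.mapU_congr F.obj hnat V h8 h9,
        ← Groth.Agent.H14.ModDesc.mapU_of_le F.obj (φ j) (ι.hom ξ a).hom.1 V h7 (hle j) h9 t]
      refine congrArg _ ?_
      have h10 : ∀ {g : StMod.sch 𝒳 ξ ⟶ StMod.sch 𝒳 ξ} (hg : StMod.bmap 𝒳 (ι.hom ξ a).hom.1 = g)
          (h7 : V ≤ g ⁻¹ᵁ V), (F.obj.obj ξ).presheaf.map (homOfLE h7).op ((F.obj.map (ι.hom ξ a).hom.1 hg).app V t) =
            (F.obj.obj ξ).presheaf.map (homOfLE (show V ≤ StMod.bmap 𝒳 (ι.hom ξ a).hom.1 ⁻¹ᵁ V by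
              rw [TwSh.bmap_autO]; exact le_rfl)).op ((F.obj.map (ι.hom ξ a).hom.1 rfl).app V t) := by
        rintro g rfl h7
        rfl
      rw [← h10 (TwSh.bmap_autO ξ _) le_rfl]
      show _ = (F.obj.obj ξ).presheaf.map (𝟙 _) _
      rw [CategoryTheory.Functor.map_id]
      rfl
    rw [hL, hj, TwSh.scalarEnd_app_apply, Groth.Agent.H14.ModDesc.mapU_smul]
    congr 1
    have hnu : TwSh.charUnit χ (x j) a' = Units.map ((StMod.bmap 𝒳 (φ j)).appTop.hom.toMonoidHom :
        Γ(StMod.sch 𝒳 ξ, ⊤) →* Γ(StMod.sch 𝒳 (x j), ⊤)) (TwSh.charUnit χ ξ a) :=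
      congr($(χ.naturality (𝒳.p.map (φ j)).op).hom a)
    rw [hnu, ← map_zpow, ← map_inv]
    show (StMod.bmap 𝒳 (φ j)).appTop.hom _ = ((StMod.bmap 𝒳 (φ j)).appLE V ⊤ (hle j)).hom
      ((StMod.sch 𝒳 ξ).presheaf.map (homOfLE le_top).op _)
    rw [← RingHom.comp_apply, ← CommRingCat.hom_comp, Scheme.Hom.map_appLE, Scheme.Hom.appTop,
      Scheme.Hom.app_eq_appLE]
    rfl
  let : ∀ j, Algebra Γ(StMod.sch 𝒳 ξ, V) Γ(StMod.sch 𝒳 (x j), ⊤) :=
    fun j => ((StMod.bmap 𝒳 (φ j)).appLE V ⊤ (hle j)).hom.toAlgebra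
  have : ∀ j, Module.Flat Γ(StMod.sch 𝒳 ξ, V) Γ(StMod.sch 𝒳 (x j), ⊤) := fun j => by
    have := haff j
    have hfl' : Flat (StMod.bmap 𝒳 (φ j)) := by
      rw [hbm]
      have := hfflat j
      have := hiso j
      infer_instance
    exact HasRingHomProperty.appLE (P := @Flat) _ hfl' ⟨V, hV⟩ ⟨⊤, isAffineOpen_top _⟩ (hle j)
  have hjs : Groth.Agent.H14.GerbeDesc.JointlySurj Γ(StMod.sch 𝒳 ξ, V) (fun j => Γ(StMod.sch 𝒳 (x j), ⊤)) := by
    intro p'
    have hy : hV.fromSpec p' ∈ V := hV.opensRange_fromSpec.le ⟨p', rfl⟩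
    obtain ⟨j, w, hw⟩ := hfcov _ hy
    have := haff j
    refine ⟨j, (isAffineOpen_top _).primeIdealOf ⟨(eqToHom (hx j).symm).left w, trivial⟩,
      hV.fromSpec.isOpenEmbedding.injective ?_⟩
    rw [← hw]
    have e := IsAffineOpen.SpecMap_appLE_fromSpec (StMod.bmap 𝒳 (φ j)) hV (isAffineOpen_top _) (hle j)
    refine Eq.trans (congrArg (fun m : Spec Γ(StMod.sch 𝒳 (x j), ⊤) ⟶ StMod.sch 𝒳 ξ =>
      m ((isAffineOpen_top _).primeIdealOf ⟨(eqToHom (hx j).symm).left w, trivial⟩)) e) ?_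
    rw [Scheme.Hom.comp_apply, (isAffineOpen_top _).fromSpec_primeIdealOf]
    rw [hbm]
    have h1 : (eqToHom (hx j).symm).left ≫ (eqToHom (hx j)).left ≫ (f j).left = (f j).left := by
      rw [← Category.assoc, ← Over.comp_left, eqToHom_trans, eqToHom_refl]
      exact Category.id_comp _
    exact congrArg (fun q => q w) h1
  have hVeq : ∀ t : Γ(F.obj.obj ξ, V), (TwSh.inert F.obj ξ (ι.hom ξ a)).app V t =
      (TwSh.scalarEnd (F.obj.obj ξ) (((TwSh.charUnit χ ξ a) ^ d)⁻¹).val).app V t := fun t => by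
    rw [← sub_eq_zero]
    exact Groth.Agent.H14.ModDesc.eq_zero_of_isBC (fun j => Γ(StMod.sch 𝒳 (x j), ⊤)) hjs
      (fun j => Groth.Agent.H14.ModDesc.mapU F.obj (φ j) V (hle j))
      (fun j => have := haff j; Groth.Agent.H14.ModDesc.isBC_mapU F.property (φ j) hV (hle j)) _
      fun j => by rw [map_sub, key j t, sub_self]
  show (F.obj.obj ξ).presheaf.germ U z hz _ = (F.obj.obj ξ).presheaf.germ U z hz _
  rw [← TopCat.Presheaf.germ_res_apply (F.obj.obj ξ).presheaf (homOfLE hVU) z hzV,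
    ← TopCat.Presheaf.germ_res_apply (F.obj.obj ξ).presheaf (homOfLE hVU) z hzV
      ((TwSh.scalarEnd (F.obj.obj ξ) (((TwSh.charUnit χ ξ a) ^ d)⁻¹).val).app U s)]
  refine congrArg _ ?_
  exact ((TwSh.inert F.obj ξ (ι.hom ξ a)).mapPresheaf.naturality_apply (homOfLE hVU).op s).symm.trans
    ((hVeq _).trans ((TwSh.scalarEnd (F.obj.obj ξ) _).mapPresheaf.naturality_apply (homOfLE hVU).op s))

end Groth.Agent.S19715
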