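import Groth.Statements.S19718
import Groth.Agent.H26.EpiClosed
import Groth.Agent.H26.HilbLfp
import Groth.Agent.Lib.Secant92.Core
import Groth.Agent.Lib.ResDescend36.Proj
import Groth.Agent.Lib.TensorMod.FPConv


set_option autoImplicit false
universe u
open CategoryTheory CategoryTheory.Limits AlgebraicGeometry
open TautSh

namespace Groth.Agent.S19718

/-- Let `k` be an algebraically closed field of characteristic zero, `X` an integral scheme smooth and
proper over `k`, `L` an invertible O_X-module which is `m`-very ample (restriction of global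
sections of `L` to every closed subscheme finite locally free of degree `m + 1` over `k` is
surjective), and `(H, Z)` a universal pair for the Hilbert functor of `m + 1` points of `X` over
`k`. Then the evaluation map `H^0(X, L) ⊗ O_H ⟶ L^[m+1]` to the tautological sheaf of `L` is an
epimorphism. (The published statement is an equivalence and is made under the standing assumption
that `X` is projective of dimension at most two or that at most three points are taken; only the
implication from very ampleness to surjectivity is stated here, and the fibrewise argument uses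
neither restriction.) -/
theorem result (k : Type u) [Field k] [IsAlgClosed k] [CharZero k] (X : Scheme.{u}) [X.Over (Spec (CommRingCat.of k))] [AlgebraicGeometry.IsIntegral X] [Smooth (X ↘ Spec (CommRingCat.of k))] [IsProper (X ↘ Spec (CommRingCat.of k))] (L : X.Modules) (hL : PicF.IsInvertible L) (m : ℕ) (hva : TautSh.IsKVeryAmple k X L m) (H : Over (Spec (CommRingCat.of k))) (Z : HilbD.Obj (X ↘ Spec (CommRingCat.of k)) (m + 1) H) (hU : HilbD.IsUniversal (X ↘ Spec (CommRingCat.of k)) (m + 1) H Z) : Epi (TautSh.evalMap (X ↘ Spec (CommRingCat.of k)) H Z.1 L) := by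
  haveI := Groth.Agent.H26.HilbLfp.locallyOfFinitePresentation_of_isUniversal _ hU
  haveI : JacobsonSpace H.left := LocallyOfFiniteType.jacobsonSpace H.hom
  have hL1 : FlatMod.IsFinLocFreeOfRank 1 L := Lib.TensorMod.LocFree.of_isInvertible hL
  have hva' := Lib.Secant92.surjAt_of_isKVeryAmple hva
  let f := X ↘ Spec (CommRingCat.of k)
  let p := TautSh.famToH f H Z.1
  haveI : IsFinite p := Z.2.1.1
  haveI : Flat p := Z.2.1.2.1
  haveI : LocallyOfFinitePresentation p := Z.2.1.2.2
  have hM := Lib.ResDescend36.Proj.isFinLocFree_pushforward p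
    (Lib.TensorMod.LocFree.of_rank (Lib.TensorMod.LocFree.rank_pullback (TautSh.famToX f H Z.1) hL1))
  haveI : SheafOfModules.IsFinitePresentation (R := H.left.ringCatSheaf) (TautSh.taut f H Z.1 L) :=
    Lib.TensorMod.FPConv.isFP_of_isFinLocFree hM
  haveI : SheafOfModules.IsFiniteType (R := H.left.ringCatSheaf) (TautSh.taut f H Z.1 L) := inferInstance
  refine Groth.Agent.H26.EpiClosed.epi_of_closed _ fun x hx => ?_
  refine ⟨Spec (CommRingCat.of k), pointOfClosedPoint H.hom x hx, IsLocalRing.closedPoint k,
    pointOfClosedPoint_apply H.hom x hx _, Lib.Secant92.epi_pt fun y => ?_⟩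
  have hξ := pointOfClosedPoint_comp H.hom x hx
  obtain ⟨hd, hl⟩ := Lib.Secant92.deg_idl f H Z (pointOfClosedPoint H.hom x hx) hξ
  obtain ⟨s, hs⟩ := (Lib.Secant92.sig_spec f H Z L (pointOfClosedPoint H.hom x hx) hξ hL1).2 (hva' _ hd hl) y
  refine ⟨Lib.Secant92.ps _ _ (Lib.Secant92.ps H.hom _ s), ?_⟩
  rw [← hs]
  exact Lib.Secant92.ps_nat (pointOfClosedPoint H.hom x hx) (TautSh.evalMap f H Z.1 L) _

end Groth.Agent.S19718
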