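import Groth.Statements.S1972
import Groth.Agent.Lib.Henselian.Permanence

set_option autoImplicit false
universe u
open EtAlg

namespace Groth.Agent.S1972

/-- Let R be a local ring and S a henselization or a strict henselization of R. Then the nilradical of S
is the extension of the nilradical of R. -/
theorem result (R S : Type u) [CommRing R] [IsLocalRing R] [CommRing S] [IsLocalRing S]
    [Algebra R S] [IsLocalHom (algebraMap R S)]
    (h : Hensel.IsHenselization R S ∨ Hensel.IsStrictHenselization R S) :
    (nilradical R).map (algebraMap R S) = nilradical S := by
  refine le_antisymm (Ideal.map_le_iff_le_comap.2 fun x hx => ?_) ?_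
  · exact IsNilpotent.map (mem_nilradical.1 hx) (algebraMap R S)
  · have hr : ((nilradical R).map (algebraMap R S)).IsRadical := by
      have hn : (nilradical R).IsRadical := by rw [nilradical, Submodule.zero_eq_bot]; exact Ideal.radical_isRadical _
      rcases h with h | h
      · exact Groth.Agent.Lib.Henselian.Permanence.isRadical_map R S hn
      · exact Groth.Agent.Lib.Henselian.Permanence.strict_isRadical_map R S hn
    intro x hx
    obtain ⟨n, hn⟩ := mem_nilradical.1 hx
    exact hr ⟨n, hn ▸ Submodule.zero_mem _⟩

end Groth.Agent.S1972
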