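import Groth.Statements.S19721
import Groth.Agent.H26.DblDual
import Groth.Agent.H26.HilbLfp
import Groth.Agent.Lib.KVec.DualPull
import Groth.Agent.Lib.TensorMod.LocFree


set_option autoImplicit false
universe u
open CategoryTheory CategoryTheory.Limits AlgebraicGeometry
open TautSh

namespace Groth.Agent.S19721

/-- Let `k` be an algebraically closed field of characteristic zero, `X` an integral scheme smooth and
proper over `k` of dimension two, `F` a finite locally free O_X-module, `(H, Z)` a universal pair
for the Hilbert functor of two points of `X` over `k`, and `D` an invertible module on `H` of class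
`δ`, that is, a tensor inverse of the determinant of `O_X^[2]`. Then the dual `Hom(F^[2], O_H)` of
the tautological sheaf of `F` is isomorphic to `(F^∨)^[2] ⊗ D`, where `F^∨ = Hom(F, O_X)` (existence
of an isomorphism only). (The published statement is made for every number of points; for three or
more points the two sides have different first Chern classes, so only the case of two points is
stated. The published statement is over the complex numbers; this row is stated over any
algebraically closed field of characteristic zero.) -/
theorem result (k : Type u) [Field k] [IsAlgClosed k] [CharZero k] (X : Scheme.{u}) [X.Over (Spec (CommRingCat.of k))] [AlgebraicGeometry.IsIntegral X] [Smooth (X ↘ Spec (CommRingCat.of k))] [IsProper (X ↘ Spec (CommRingCat.of k))] (hdim : topologicalKrullDim X = 2) (F : X.Modules) (hF : FlatMod.IsFinLocFree F) (H : Over (Spec (CommRingCat.of k))) (Z : HilbD.Obj (X ↘ Spec (CommRingCat.of k)) 2 H) (hU : HilbD.IsUniversal (X ↘ Spec (CommRingCat.of k)) 2 H Z) (D : H.left.Modules) (hD : TautSh.IsDeltaLB (X ↘ Spec (CommRingCat.of k)) 2 H Z.1 D) : Nonempty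 (RefHull.dual (TautSh.taut (X ↘ Spec (CommRingCat.of k)) H Z.1 F) ≅ CohB1.tensorMod (TautSh.taut (X ↘ Spec (CommRingCat.of k)) H Z.1 (RefHull.dual F)) D) := by
  haveI := Groth.Agent.H26.HilbLfp.locallyOfFinitePresentation_of_isUniversal _ hU
  haveI : IsLocallyNoetherian X := LocallyOfFiniteType.isLocallyNoetherian (X ↘ Spec (CommRingCat.of k))
  haveI : IsLocallyNoetherian H.left := LocallyOfFiniteType.isLocallyNoetherian H.hom
  let f := X ↘ Spec (CommRingCat.of k)
  let p := TautSh.famToH f H Z.1
  let q := TautSh.famToX f H Z.1
  haveI : IsFinite p := Z.2.1.1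
  haveI : Flat p := Z.2.1.2.1
  haveI : LocallyOfFinitePresentation p := Z.2.1.2.2
  haveI : IsLocallyNoetherian (TautSh.fam f H Z.1) := LocallyOfFiniteType.isLocallyNoetherian p
  obtain ⟨hDi, Λ, hΛ, hinv⟩ := hD
  let κ := (Scheme.Modules.pushforward p).mapIso (PicLoc.pullbackStructureIso q).symm
  haveI := Groth.Agent.Lib.Modules.AffineSections.isQCoh_of_isFinLocFree
    (Groth.Agent.Lib.TensorMod.LocFree.isFinLocFree_pullback q hF)
  obtain ⟨e⟩ := Groth.Agent.H26.DblDual.nonempty_iso p Z.2.2 κ hΛ hDi hinv
    ((Scheme.Modules.pullback q).obj F)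
  obtain ⟨d⟩ := Groth.Agent.Lib.KVec.DualPull.nonempty_pullback_dual_iso q hF
  exact ⟨e ≪≫ Groth.Agent.Lib.TensorMod.Basic.tensorIso
    ((Scheme.Modules.pushforward p).mapIso d.symm) (Iso.refl D)⟩

end Groth.Agent.S19721
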