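import Groth.Statements.S19722
import Groth.Agent.Lib.Secant92.Core

set_option autoImplicit false
universe u
open CategoryTheory CategoryTheory.Limits AlgebraicGeometry
open TautSh

namespace Groth.Agent.S19722

/-- Let `k` be an algebraically closed field of characteristic zero, `X` an integral scheme smooth and
proper over `k`, `L` an O_X-module locally free of rank one which is `3`-very ample, `(H, Z)` a
universal pair for the Hilbert functor of two points of `X` over `k`, `(PE, πE, OE, qE)` a
projective bundle of the rank-two tautological bundle `E_L = L^[2]` over `H`, `(P, π, O1, qP)` a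
projective bundle of `H^0(X, L)` over `k`, `h : PE ⟶ P` the morphism over `k` classifying the secant
quotient (the secant map, whose image is the secant variety of `X ⊆ P`), and `φ : X ⟶ P` the
morphism classifying the evaluation quotient `H^0(X, L) ⊗ O_X ⟶ L`. If two `k`-points `a, b` of `PE`
have the same image under `h`, and this image is not the image under `φ` of a `k`-point of `X`, then
`a = b`. (The published statement asserts that `h` is an isomorphism onto its image away from the
preimage of `X`; the source argues bijectivity on points and takes the immersion property from the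
literature, so only injectivity on `k`-points off `X` is stated.) -/
theorem result (k : Type u) [Field k] [IsAlgClosed k] [CharZero k] (X : Scheme.{u}) [X.Over (Spec (CommRingCat.of k))] [AlgebraicGeometry.IsIntegral X] [Smooth (X ↘ Spec (CommRingCat.of k))] [IsProper (X ↘ Spec (CommRingCat.of k))] (L : X.Modules) (hL : FlatMod.IsFinLocFreeOfRank 1 L) (hva : TautSh.IsKVeryAmple k X L 3) (H : Over (Spec (CommRingCat.of k))) (Z : HilbD.Obj (X ↘ Spec (CommRingCat.of k)) 2 H) (hU : HilbD.IsUniversal (X ↘ Spec (CommRingCat.of k)) 2 H Z) {PE : Scheme.{u}} (πE : PE ⟶ H.left) (OE : PE.Modules) (qE : (Scheme.Modules.pullback πE).obj (TautSh.taut (X ↘ Spec (CommRingCat.of k)) H Z.1 L) ⟶ OE) (hPE : KRR.IsProjBundle πE (TautSh.taut (X ↘ Spec (CommRingCat.of k)) H Z.1 L) OE qE) {P : Scheme.{u}} (π : P ⟶ Spec (CommRingCat.of k)) (O1 : P.Modules) (qP : (Scheme.Modules.pullback π).obj ((Scheme.Modules.pushforward (X ↘ Spec (CommRingCat.of k))).obj L) ⟶ O1) (hP : KRR.IsProjBundle π ((Scheme.Modules.pushforward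 (X ↘ Spec (CommRingCat.of k))).obj L) O1 qP) (h : PE ⟶ P) (hh : TautSh.IsMapOfQuot π ((Scheme.Modules.pushforward (X ↘ Spec (CommRingCat.of k))).obj L) O1 qP (πE ≫ H.hom) OE (TautSh.secantQuot (X ↘ Spec (CommRingCat.of k)) H Z.1 L πE OE qE) h) (φ : X ⟶ P) (hφ : TautSh.IsMapOfQuot π ((Scheme.Modules.pushforward (X ↘ Spec (CommRingCat.of k))).obj L) O1 qP (X ↘ Spec (CommRingCat.of k)) L (TautSh.linSysQuot (X ↘ Spec (CommRingCat.of k)) L) φ) (a b : Spec (CommRingCat.of k) ⟶ PE) (ha : a ≫ πE ≫ H.hom = 𝟙 _) (hb : b ≫ πE ≫ H.hom = 𝟙 _) (hab : a ≫ h = b ≫ h) (hX : ∀ x : Spec (CommRingCat.of k) ⟶ X, x ≫ (X ↘ Spec (CommRingCat.of k)) = 𝟙 _ → x ≫ φ ≠ a ≫ h) : a = b := by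
  have hva' : Lib.Secant92.SurjAt (X ↘ Spec (CommRingCat.of k)) L (2 * 1 + 2) :=
    Lib.Secant92.surjAt_of_isKVeryAmple hva
  have ha' : (a ≫ πE) ≫ H.hom = 𝟙 _ := by rw [Category.assoc]; exact ha
  obtain ⟨hfa, hla⟩ := Lib.Secant92.deg_idl (X ↘ Spec (CommRingCat.of k)) H Z (a ≫ πE) ha'
  have hinf := Lib.Secant92.Fin.infinite_closed hfa hla.ge
  rcases Lib.Secant92.eq_or_exists hU hPE hh hL hva' hinf a b ha hb hab with h0 | ⟨-, Id, hd, hl, hker⟩
  · exact h0
  · obtain ⟨x, hx, hxv⟩ := Lib.Secant92.exists_point_of_len_one hd hl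
    refine absurd (Lib.Secant92.pb_ext hP (g := 𝟙 _) (Lib.Secant92.surjective_ps_id _) ?_
      (Lib.Secant92.comp_point hh ha) fun v hv => ?_) (hX x hx)
    · obtain ⟨hg, -⟩ := hφ
      rw [Category.assoc, hg, hx]
    · rw [Lib.Secant92.val_zero_iff hφ x v, Lib.Secant92.counit_ps] at hv
      exact hker v (hxv L v hv)

end Groth.Agent.S19722
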