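import Groth.Statements.S1973
import Groth.Agent.H48.EtaleValApp
import Mathlib.RingTheory.DedekindDomain.Dvr
import Mathlib.RingTheory.Localization.AtPrime.Basic
import Mathlib.RingTheory.Ideal.Quotient.Operations
import Mathlib.RingTheory.Ideal.MinimalPrime.Localization

set_option autoImplicit false
universe u
open EtAlg

namespace Groth.Agent.S1973

open IsLocalRing TensorProduct

variable {A B : Type u} [CommRing A] [IsDedekindDomain A] [CommRing B] [Algebra A B] [Algebra.Etale A B]

theorem key (q : Ideal B) [q.IsPrime] :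
    Function.Injective (algebraMap A (Localization.AtPrime q)) ∧
    ∀ x : Localization.AtPrime q, x = 0 ∨ ∃ (a : A) (u : (Localization.AtPrime q)ˣ), a ≠ 0 ∧
      x = u * algebraMap A (Localization.AtPrime q) a := by
  let L := Localization.AtPrime q
  constructor
  · have : Module.Flat B L := IsLocalization.flat L q.primeCompl
    have : Module.Flat A L := Module.Flat.trans A B L
    refine (injective_iff_map_eq_zero _).2 fun a ha => by_contra fun ha0 => one_ne_zero (α := L) ?_
    refine (Module.Flat.torsion_eq_bot (R := A) (M := L)).le ?_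
    exact ⟨⟨a, mem_nonZeroDivisors_of_ne_zero ha0⟩, by
      show a • (1 : L) = 0
      rw [Algebra.smul_def, mul_one, ha]⟩
  let P := q.comap (algebraMap A B)
  let A' := Localization.AtPrime P
  have : ValuationRing A' := by
    by_cases hP : P = ⊥
    · have : IsField A' := by
        rw [IsLocalRing.isField_iff_maximalIdeal_eq, ← Localization.AtPrime.map_eq_maximalIdeal]
        exact Ideal.map_eq_bot_iff_of_injective (IsLocalization.injective A' P.primeCompl_le_nonZeroDivisors) |>.2 hP
      let := this.toField
      infer_instance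
    · have := IsLocalization.AtPrime.isDiscreteValuationRing_of_dedekind_domain A hP A'
      infer_instance
  have hu : ∀ s : P.primeCompl, IsUnit (algebraMap A L s) := fun s => by
    rw [IsScalarTower.algebraMap_apply A B L]
    exact IsLocalization.map_units L (⟨algebraMap A B s, s.2⟩ : q.primeCompl)
  let f : A' →ₐ[A] L := IsLocalization.liftAlgHom (S := A') (M := P.primeCompl) (f := Algebra.ofId A L) hu
  let φ : A' ⊗[A] B →ₐ[A] L := Algebra.TensorProduct.lift f (IsScalarTower.toAlgHom A B L) fun _ _ => Commute.all _ _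
  let m : Ideal (A' ⊗[A] B) := (maximalIdeal L).comap φ.toRingHom
  have hφl : ∀ c : A', φ (algebraMap A' (A' ⊗[A] B) c) = f c := fun c => by
    rw [Algebra.TensorProduct.algebraMap_apply, Algebra.algebraMap_self_apply, Algebra.TensorProduct.lift_tmul, map_one, mul_one]
  have hfm : ∀ (a : A) (s : P.primeCompl), f (IsLocalization.mk' A' a s) * algebraMap A L s = algebraMap A L a := fun a s => by
    rw [show algebraMap A L s = f (algebraMap A A' s) from (f.commutes _).symm, ← map_mul, IsLocalization.mk'_spec, f.commutes]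
  have hm : m.comap (algebraMap A' (A' ⊗[A] B)) = maximalIdeal A' := by
    ext c
    obtain ⟨a, s, rfl⟩ := IsLocalization.exists_mk'_eq P.primeCompl c
    show φ _ ∈ maximalIdeal L ↔ _
    rw [hφl, IsLocalization.AtPrime.mk'_mem_maximal_iff A' P a s, ← Ideal.mul_unit_mem_iff_mem _ (hu s), hfm,
      IsScalarTower.algebraMap_apply A B L, IsLocalization.AtPrime.to_map_mem_maximal_iff L q]
    rfl
  have hunit : ∀ y : m.primeCompl, IsUnit (φ.toRingHom y) := fun y => notMem_maximalIdeal.1 y.2
  let ψ : Localization.AtPrime m →+* L := IsLocalization.lift hunit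
  have hψ : ∀ y, ψ (algebraMap _ (Localization.AtPrime m) y) = φ y := IsLocalization.lift_eq hunit
  intro x
  obtain ⟨b, ⟨s, hs⟩, rfl⟩ := IsLocalization.exists_mk'_eq q.primeCompl x
  have hs' : IsUnit (algebraMap B L s) := IsLocalization.map_units L (⟨s, hs⟩ : q.primeCompl)
  have hb : algebraMap B L b = φ (1 ⊗ₜ b) := by
    rw [Algebra.TensorProduct.lift_tmul, map_one, one_mul]; rfl
  have hmk : IsLocalization.mk' L b (⟨s, hs⟩ : q.primeCompl) = ↑hs'.unit⁻¹ * φ (1 ⊗ₜ b) := by
    rw [← hb, ← IsLocalization.mk'_spec' L b (⟨s, hs⟩ : q.primeCompl), ← mul_assoc, IsUnit.val_inv_mul, one_mul]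
  rcases Groth.Agent.H48.EtaleValApp.eq_zero_or_eq_mul m hm (algebraMap _ _ ((1 : A') ⊗ₜ[A] b)) with h | ⟨c, u, hc, h⟩
  · left
    rw [hmk, ← hψ, h, map_zero, mul_zero]
  · obtain ⟨a, t, rfl⟩ := IsLocalization.exists_mk'_eq P.primeCompl c
    right
    refine ⟨a, hs'.unit⁻¹ * Units.map ψ u * (hu t).unit⁻¹, fun h0 => hc (by rw [h0, IsLocalization.mk'_zero]), ?_⟩
    rw [hmk, ← hψ, h, map_mul, IsScalarTower.algebraMap_apply A' (A' ⊗[A] B) (Localization.AtPrime m), hψ, hφl,
      ← hfm a t]
    show _ = ↑hs'.unit⁻¹ * ψ ↑u * ↑(hu t).unit⁻¹ * (f (IsLocalization.mk' A' a t) * ((hu t).unit : L))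
    linear_combination (-(↑hs'.unit⁻¹ * ψ u * f (IsLocalization.mk' A' a t))) * (hu t).unit.inv_mul

theorem isDomain_loc (A : Type u) {B : Type u} [CommRing A] [IsDedekindDomain A] [CommRing B] [Algebra A B] [Algebra.Etale A B] (q : Ideal B) [q.IsPrime] : IsDomain (Localization.AtPrime q) := by
  obtain ⟨hinj, hk⟩ := key (A := A) q
  have : NoZeroDivisors (Localization.AtPrime q) := ⟨fun {a b} hab => by
    rcases hk a with rfl | ⟨c, u, hc, rfl⟩
    · exact Or.inl rfl
    rcases hk b with rfl | ⟨c', u', hc', rfl⟩
    · exact Or.inr rfl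
    exfalso
    have : algebraMap A (Localization.AtPrime q) (c * c') = 0 := by
      refine (u * u').isUnit.mul_right_eq_zero.1 ?_
      rw [← hab, Units.val_mul, map_mul]; ring
    exact mul_ne_zero hc hc' ((map_eq_zero_iff _ hinj).1 this)⟩
  exact NoZeroDivisors.to_isDomain _

theorem isDVR_loc (A : Type u) {B : Type u} [CommRing A] [IsDedekindDomain A] [CommRing B] [Algebra A B] [Algebra.Etale A B] (q : Ideal B) [q.IsPrime] [IsNoetherianRing B] [IsDomain (Localization.AtPrime q)]
    (hf : ¬ IsField (Localization.AtPrime q)) : IsDiscreteValuationRing (Localization.AtPrime q) := by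
  obtain ⟨hinj, hk⟩ := key (A := A) q
  obtain ⟨I, hI0, hI⟩ : ∃ I : Ideal (Localization.AtPrime q), I ≠ ⊥ ∧ I = maximalIdeal _ :=
    ⟨_, fun h => hf ((IsLocalRing.isField_iff_maximalIdeal_eq).2 h), rfl⟩
  let P := q.comap (algebraMap A B)
  have : ValuationRing (Localization.AtPrime q) := by
    refine ValuationRing.iff_dvd_total.2 ⟨fun x y => ?_⟩
    rcases hk x with rfl | ⟨c, u, hc, rfl⟩
    · exact Or.inr (dvd_zero y)
    rcases hk y with rfl | ⟨c', u', hc', rfl⟩
    · exact Or.inl (dvd_zero _)
    rw [Units.mul_left_dvd, Units.mul_left_dvd, Units.dvd_mul_left, Units.dvd_mul_left]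
    have hu : ∀ s : P.primeCompl, IsUnit (algebraMap A (Localization.AtPrime q) s) := fun s => by
      rw [IsScalarTower.algebraMap_apply A B (Localization.AtPrime q)]
      exact IsLocalization.map_units _ (⟨algebraMap A B s, s.2⟩ : q.primeCompl)
    let g : Localization.AtPrime P →+* Localization.AtPrime q := IsLocalization.lift hu
    have : ValuationRing (Localization.AtPrime P) := by
      by_cases hP : P = ⊥
      · have : IsField (Localization.AtPrime P) := by
          rw [IsLocalRing.isField_iff_maximalIdeal_eq, ← Localization.AtPrime.map_eq_maximalIdeal]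
          exact Ideal.map_eq_bot_iff_of_injective (IsLocalization.injective (Localization.AtPrime P) P.primeCompl_le_nonZeroDivisors) |>.2 hP
        let := this.toField
        infer_instance
      · have := IsLocalization.AtPrime.isDiscreteValuationRing_of_dedekind_domain A hP (Localization.AtPrime P)
        infer_instance
    rw [← IsLocalization.lift_eq hu (S := Localization.AtPrime P) c, ← IsLocalization.lift_eq hu (S := Localization.AtPrime P) c']
    exact (ValuationRing.dvd_total _ _).imp (map_dvd g) (map_dvd g)
  have hP : IsPrincipalIdealRing (Localization.AtPrime q) := inferInstance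
  exact { not_a_field' := hI ▸ hI0 }


/-- Let A be a Dedekind domain and B an etale A-algebra. Then B is isomorphic as a ring to a finite
product of Dedekind domains, and for every maximal ideal q of B whose localization is not a field,
the localization B_q is a discrete valuation ring. (The source states the last claim for all maximal
ideals; it fails for field factors, e.g. A a DVR with uniformizer π and B = A[1/π], so the guard is
needed.) -/
theorem result (A B : Type u) [CommRing A] [IsDedekindDomain A] [CommRing B] [Algebra A B]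
    [Algebra.Etale A B] :
    (∃ (n : ℕ) (D : Fin n → Type u) (_ : ∀ i, CommRing (D i)) (_ : ∀ i, IsDedekindDomain (D i)),
      Nonempty (B ≃+* ∀ i, D i)) ∧
    ∀ (q : Ideal B) [q.IsMaximal], ¬ IsField (Localization.AtPrime q) →
      ∃ _ : IsDomain (Localization.AtPrime q), IsDiscreteValuationRing (Localization.AtPrime q) := by
  have : IsNoetherianRing B := Algebra.FiniteType.isNoetherianRing A B
  have hred : IsReduced B := Groth.Agent.H56.AbsFlat.isReduced_of_weaklyEtale A B
  refine ⟨?_, fun q _ hf => ⟨isDomain_loc A q, ?_⟩⟩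
  swap
  · have := isDomain_loc A q
    exact isDVR_loc A q hf
  classical
  have : Fintype (minimalPrimes B) := (minimalPrimes.finite_of_isNoetherianRing B).fintype
  let n := Fintype.card (minimalPrimes B)
  let P : Fin n → Ideal B := fun i => ((Fintype.equivFin (minimalPrimes B)).symm i).1
  have hPm : ∀ i, P i ∈ minimalPrimes B := fun i => ((Fintype.equivFin (minimalPrimes B)).symm i).2
  have hPp : ∀ i, (P i).IsPrime := fun i => (hPm i).1.1
  -- the minimal prime below a prime is the kernel of localization
  have hker : ∀ (q : Ideal B) [q.IsPrime] (i : Fin n), P i ≤ q →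
      P i = RingHom.ker (algebraMap B (Localization.AtPrime q)) := by
    intro q _ i hle
    have := isDomain_loc A q
    have hkp : (RingHom.ker (algebraMap B (Localization.AtPrime q))).IsPrime := RingHom.ker_isPrime _
    have hsub : RingHom.ker (algebraMap B (Localization.AtPrime q)) ≤ P i := fun x hx => by
      obtain ⟨⟨s, hs⟩, h⟩ := (IsLocalization.map_eq_zero_iff q.primeCompl (Localization.AtPrime q) x).1 hx
      exact ((hPp i).mem_or_mem (show s * x ∈ P i by rw [h]; exact zero_mem _)).resolve_left fun h' => hs (hle h')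
    exact le_antisymm ((hPm i).2 ⟨hkp, bot_le⟩ hsub) hsub
  have hcop : Pairwise (Function.onFun IsCoprime P) := by
    intro i j hij
    rw [Function.onFun, Ideal.isCoprime_iff_sup_eq]
    by_contra hne
    obtain ⟨M, hM, hle⟩ := Ideal.exists_le_maximal _ hne
    refine hij ((Fintype.equivFin (minimalPrimes B)).symm.injective (Subtype.ext ?_))
    exact (hker M i (le_sup_left.trans hle)).trans (hker M j (le_sup_right.trans hle)).symm
  have hinf : (⨅ i, P i) = ⊥ := by
    refine eq_bot_iff.2 fun x hx => ?_
    rw [Submodule.mem_bot]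
    have hn : x ∈ nilradical B := by
      rw [nilradical, Submodule.zero_eq_bot, ← Ideal.sInf_minimalPrimes, Submodule.mem_sInf]
      intro Q hQ
      have := (Submodule.mem_iInf P).1 hx (Fintype.equivFin (minimalPrimes B) ⟨Q, hQ⟩)
      simpa [P] using this
    exact IsReduced.eq_zero x hn
  refine ⟨n, fun i => B ⧸ P i, fun _ => inferInstance, fun i => ?_, ⟨((RingEquiv.quotientBot B).symm.trans
    (Ideal.quotEquivOfEq hinf.symm)).trans (Ideal.quotientInfRingEquivPiQuotient P hcop)⟩⟩
  have := hPp i
  suffices h : IsDedekindDomainDvr (B ⧸ P i) from IsDedekindDomainDvr.isDedekindDomain _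
  refine { is_dvr_at_nonzero_prime := fun Q hQ0 hQ => ?_ }
  let q : Ideal B := Q.comap (Ideal.Quotient.mk (P i))
  have hle : P i ≤ q := fun x hx => by
    rw [Ideal.mem_comap, Ideal.Quotient.eq_zero_iff_mem.2 hx]; exact zero_mem _
  have hk := hker q i hle
  have := isDomain_loc A q
  let e : Localization.AtPrime q →+* Localization.AtPrime Q := Localization.localRingHom q Q (Ideal.Quotient.mk (P i)) rfl
  have he : Function.Bijective e := by
    constructor
    · refine (injective_iff_map_eq_zero _).2 fun x hx => ?_
      obtain ⟨b, ⟨s, hs⟩, rfl⟩ := IsLocalization.exists_mk'_eq q.primeCompl x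
      rw [Localization.localRingHom_mk', IsLocalization.mk'_eq_zero_iff] at hx
      obtain ⟨⟨t, ht⟩, htb⟩ := hx
      obtain ⟨t, rfl⟩ := Ideal.Quotient.mk_surjective t
      rw [← map_mul, Ideal.Quotient.eq_zero_iff_mem, hk, RingHom.mem_ker, map_mul] at htb
      have hu : IsUnit (algebraMap B (Localization.AtPrime q) t) :=
        IsLocalization.map_units _ (⟨t, ht⟩ : q.primeCompl)
      rw [IsLocalization.mk'_eq_mul_mk'_one, hu.mul_right_eq_zero.1 htb, zero_mul]
    · intro y
      obtain ⟨b, ⟨s, hs⟩, rfl⟩ := IsLocalization.exists_mk'_eq Q.primeCompl y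
      obtain ⟨b, rfl⟩ := Ideal.Quotient.mk_surjective b
      obtain ⟨s, rfl⟩ := Ideal.Quotient.mk_surjective s
      exact ⟨IsLocalization.mk' _ b (⟨s, hs⟩ : q.primeCompl), Localization.localRingHom_mk' _ _ _ _ _ _⟩
  let e' := RingEquiv.ofBijective e he
  have hf : ¬ IsField (Localization.AtPrime q) := fun hf => by
    refine IsLocalization.AtPrime.not_isField (B ⧸ P i) hQ0 (Localization.AtPrime Q) ?_
    exact e'.symm.toMulEquiv.isField hf
  have := isDVR_loc A q hf
  exact IsDiscreteValuationRing.RingEquivClass.isDiscreteValuationRing e'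

end Groth.Agent.S1973
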