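import Groth.Statements.S19733
import Groth.Agent.Lib.SurfInt.Nakai
import Groth.Agent.Lib.SurfInt.AmpleCone

set_option autoImplicit false
universe u
open CategoryTheory CategoryTheory.Limits AlgebraicGeometry TopologicalSpace
open Surf

namespace Groth.Agent.S19733

set_option maxHeartbeats 1000000

open Groth.Agent.Lib Groth.Agent.Lib.SurfInt Groth.Agent.Lib.Snapper

section aux

variable {k : Type u} [Field k] {X : Scheme.{u}} [X.Over (Spec (CommRingCat.of k))]
  [AlgebraicGeometry.IsIntegral X] [AlgebraicGeometry.IsNoetherian X]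
  [IsProper (X ↘ Spec (CommRingCat.of k))]
  [Smooth (X ↘ Spec (CommRingCat.of k))] [IsAlgClosed k] [PicGrp.Law X]
  (hdim : topologicalKrullDim X = 2)
  {B : NumR.N1R k X →ₗ[ℝ] NumR.N1R k X →ₗ[ℝ] ℝ} (hB : NumR.IsIntForm₂ k X B)

/-- A numerically trivial integral divisor. -/
def Triv (B : NumR.N1R k X →ₗ[ℝ] NumR.N1R k X →ₗ[ℝ] ℝ) (Z : NumR.CDiv X) : Prop :=
  NumR.IsNumTrivialRDiv k X B (NumR.CDiv.toR X Z)

/-- An ample integral divisor. -/
def Amp (E : NumR.CDiv X) : Prop :=
  ∃ (L : X.Modules) (hL : PicF.IsInvertible L), CohB1.IsAmple L ∧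
    Additive.ofMul (PicGrp.cls L hL) = NumR.divCl X E

include hdim hB in
/-- Ampleness of an integral divisor does not see numerically trivial integral divisors. -/
theorem amp_add {E Z : NumR.CDiv X} (hE : Amp E) (hZ : Triv B Z) (m : ℤ) : Amp (E + m • Z) := by
  obtain ⟨L₀, hL₀, hA, he⟩ := hE
  obtain ⟨L, hL, hc⟩ := PicGrp.exists_eq_cls (Additive.toMul (NumR.divCl X (E + m • Z)))
  have hce : Additive.ofMul (PicGrp.cls L hL) = NumR.divCl X (E + m • Z) := by
    rw [← hc]; rfl
  refine ⟨L, hL, ?_, hce⟩
  set d := NumR.divClR k X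
  have h0 : d (NumR.CDiv.toR X E) = NumR.clR k X L₀ hA.1 := by
    rw [NumR.divClR_toR, ← he]; rfl
  have hmul : NumR.CDiv.toR X (m • Z) = (m : ℝ) • NumR.CDiv.toR X Z := by
    rw [map_zsmul, Int.cast_smul_eq_zsmul]
  have h1 : NumR.clR k X L hL = NumR.clR k X L₀ hA.1 + (m : ℝ) • d (NumR.CDiv.toR X Z) := by
    rw [← h0, ← map_smul, ← hmul, ← map_add, ← map_add, NumR.divClR_toR, ← hce]; rfl
  have hz : ∀ F : NumR.CDiv X, B (d (NumR.CDiv.toR X Z)) (d (NumR.CDiv.toR X F)) = 0 := hZ
  have hsym := ConeForm.symm (k := k) hdim hB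
  refine Nakai.isAmple (k := k) hdim (NegDef.regular_of_smooth (k := k)) hA hL ?_ fun C hC hCd => ?_
  · have h := ConeForm.self_pos (k := k) hdim hB hA
    have e : B (NumR.clR k X L hL) (NumR.clR k X L hL) =
        B (NumR.clR k X L₀ hA.1) (NumR.clR k X L₀ hA.1) := by
      rw [h1, ← h0]
      simp only [map_add, map_smul, LinearMap.add_apply, LinearMap.smul_apply, smul_eq_mul, hz,
        hsym (d (NumR.CDiv.toR X E)) (d (NumR.CDiv.toR X Z))]
      ring
    rw [← e, hB L L hL hL] at h
    exact_mod_cast h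
  · haveI := hC
    have hI : PicF.IsInvertible (_root_.ClSub.idealMod C) := Effective.isInvertible_idealMod
      (NegDef.isEff (Finite.cohFinite k X) hdim (NegDef.regular_of_smooth (k := k)) C hCd)
    have hcl : d (NumR.CDiv.toR X (Finsupp.single ⟨C, hC, hCd, hI⟩ 1)) =
        NumR.curveCl k X C hI := by
      simp [d, NumR.divClR, NumR.CDiv.toR]
    have h := AmpleCone.pos_curve (k := k) hdim hB
      (ConvexCone.subset_hull ⟨L₀, hA.1, hA, rfl⟩ : NumR.clR k X L₀ hA.1 ∈ NumR.ampleCone k X)
      C hC hCd hI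
    have e : B (NumR.clR k X L hL) (NumR.curveCl k X C hI) =
        B (NumR.clR k X L₀ hA.1) (NumR.curveCl k X C hI) := by
      rw [h1, map_add, map_smul, LinearMap.add_apply, LinearMap.smul_apply, ← hcl, hz, smul_zero,
        add_zero]
    rw [← e, AmpleCone.curveCl_apply (k := k) hdim hB hL C hI, neg_pos, Int.cast_lt_zero] at h
    exact h

include hdim hB in
/-- Adding a real multiple of a numerically trivial integral divisor preserves ampleness. -/
theorem ampleR_add {D : NumR.CDivR X} (hD : NumR.IsAmpleRDiv X D) {Z : NumR.CDiv X}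
    (hZ : Triv B Z) (r : ℝ) : NumR.IsAmpleRDiv X (D + r • NumR.CDiv.toR X Z) := by
  obtain ⟨n, E, t, hn, ht, hE, rfl⟩ := hD
  obtain ⟨n, rfl⟩ : ∃ j, n = j + 1 := ⟨n - 1, by omega⟩
  set q := r / t 0
  set m := ⌊q⌋
  set f := q - m with hf
  have hf0 : 0 ≤ f := Int.fract_nonneg q
  have hf1 : f < 1 := Int.fract_lt_one q
  refine ⟨n + 1 + 1, Fin.cons (E 0 + (m - 1) • Z) (Fin.cons (E 0 + (m + 1) • Z) fun i => E i.succ),
    Fin.cons (t 0 * ((1 - f) / 2)) (Fin.cons (t 0 * ((1 + f) / 2)) fun i => t i.succ),
    by omega, ?_, ?_, ?_⟩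
  · intro i
    refine Fin.cases ?_ (fun j => Fin.cases ?_ (fun l => ?_) j) i
    · simp only [Fin.cons_zero]; exact mul_pos (ht 0) (by linarith)
    · simp only [Fin.cons_succ, Fin.cons_zero]; exact mul_pos (ht 0) (by linarith)
    · simp only [Fin.cons_succ]; exact ht _
  · intro i
    refine Fin.cases ?_ (fun j => Fin.cases ?_ (fun l => ?_) j) i
    · simp only [Fin.cons_zero]; exact amp_add hdim hB (hE 0) hZ _
    · simp only [Fin.cons_succ, Fin.cons_zero]; exact amp_add hdim hB (hE 0) hZ _
    · simp only [Fin.cons_succ]; exact hE _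
  · have hr : r = t 0 * (f + m) := by
      simp only [hf, sub_add_cancel, q]
      rw [mul_div_cancel₀ _ (ht 0).ne']
    simp only [Fin.sum_univ_succ, Fin.cons_zero, Fin.cons_succ, map_add, map_zsmul,
      ← Int.cast_smul_eq_zsmul ℝ, hr]
    push_cast
    module

/-- A numerically trivial real divisor is a real combination of numerically trivial integral ones. -/
theorem exists_decomp (hdim : topologicalKrullDim X = 2) (hB : NumR.IsIntForm₂ k X B)
    (N : NumR.CDivR X) (hN : NumR.IsNumTrivialRDiv k X B N) :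
    ∃ (ι : Type) (s : Finset ι) (r : ι → ℝ) (Z : ι → NumR.CDiv X),
      (∀ i, Triv B (Z i)) ∧ N = ∑ i ∈ s, r i • NumR.CDiv.toR X (Z i) := by
  classical
  let b := Module.Free.chooseBasis ℚ ℝ
  let J : Finset (Module.Free.ChooseBasisIndex ℚ ℝ) := N.support.biUnion fun C => (b.repr (N C)).support
  let M : ℕ := N.support.prod fun C => J.prod fun j => (b.repr (N C) j).den
  have hM : 0 < M := Finset.prod_pos fun C _ => Finset.prod_pos fun j _ => Rat.den_pos _
  have hint : ∀ C ∈ N.support, ∀ j ∈ J, ∃ z : ℤ, (z : ℚ) = M * b.repr (N C) j := fun C hC j hj => by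
    obtain ⟨c, hc⟩ : (b.repr (N C) j).den ∣ M :=
      (Finset.dvd_prod_of_mem (fun j => (b.repr (N C) j).den) hj).trans
        (Finset.dvd_prod_of_mem (fun C => J.prod fun j => (b.repr (N C) j).den) hC)
    refine ⟨(b.repr (N C) j).num * c, ?_⟩
    rw [hc]
    push_cast
    rw [mul_right_comm, mul_comm ((b.repr (N C) j).den : ℚ), Rat.mul_den_eq_num]
  choose! z hz using hint
  let Z : Module.Free.ChooseBasisIndex ℚ ℝ → NumR.CDiv X := fun j =>
    if j ∈ J then ∑ C ∈ N.support, Finsupp.single C (z C j) else 0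
  let e : Fin J.card ≃ J := (Finset.equivFin J).symm
  refine ⟨Fin J.card, Finset.univ, fun i => (M : ℝ)⁻¹ * b (e i).1, fun i => Z (e i).1, fun i F => ?_, ?_⟩
  · have hj := (e i).2
    set j := (e i).1
    have hint' : ∀ C : NumR.Curve X, ∃ c : ℤ,
        B (NumR.divClR k X (Finsupp.single C 1)) (NumR.divClR k X (NumR.CDiv.toR X F)) = c := by
      intro C
      have e1 : (Finsupp.single C 1 : NumR.CDivR X) = NumR.CDiv.toR X (Finsupp.single C 1) := by
        simp [NumR.CDiv.toR]
      rw [e1, NumR.divClR_toR, NumR.divClR_toR]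
      exact ConeForm.exists_int (k := k) hdim hB _ _
    choose c hc using hint'
    have hlin : ∀ (C : NumR.Curve X) (a : ℝ),
        B (NumR.divClR k X (Finsupp.single C a)) (NumR.divClR k X (NumR.CDiv.toR X F)) = a * c C := by
      intro C a
      rw [← hc C, ← Finsupp.smul_single_one, map_smul, map_smul, LinearMap.smul_apply, smul_eq_mul]
    have h0 : ∑ C ∈ N.support, (c C : ℚ) • N C = 0 := by
      have h := hN F
      rw [← Finsupp.sum_single N, Finsupp.sum, map_sum, map_sum, LinearMap.sum_apply] at h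
      refine Eq.trans (Finset.sum_congr rfl fun C _ => ?_) h
      rw [hlin, Rat.smul_def, Rat.cast_intCast, mul_comm]
    have h1 := DFunLike.congr_fun (congrArg b.repr h0) j
    simp only [map_sum, map_smul, Finsupp.finsetSum_apply, Finsupp.smul_apply, map_zero,
      Finsupp.coe_zero, Pi.zero_apply, smul_eq_mul] at h1
    change B (NumR.divClR k X (NumR.CDiv.toR X (Z j))) (NumR.divClR k X (NumR.CDiv.toR X F)) = 0
    simp only [Z, if_pos hj, map_sum, LinearMap.sum_apply]
    have e2 : ∀ C, NumR.CDiv.toR X (Finsupp.single C (z C j)) = Finsupp.single C ((z C j : ℤ) : ℝ) := by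
      intro C; simp [NumR.CDiv.toR]
    simp only [e2, hlin]
    have h2 : ∑ C ∈ N.support, ((z C j : ℤ) : ℚ) * (c C : ℚ) = 0 := by
      calc ∑ C ∈ N.support, ((z C j : ℤ) : ℚ) * (c C : ℚ)
          = (M : ℚ) * ∑ C ∈ N.support, (c C : ℚ) * b.repr (N C) j := by
            rw [Finset.mul_sum]
            refine Finset.sum_congr rfl fun C hC => ?_
            rw [hz C hC j hj]; ring
        _ = 0 := by rw [h1, mul_zero]
    exact_mod_cast h2
  · rw [e.sum_comp (fun j : J => ((M : ℝ)⁻¹ * b j.1) • NumR.CDiv.toR X (Z j.1)),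
      Finset.sum_coe_sort J (fun j => ((M : ℝ)⁻¹ * b j) • NumR.CDiv.toR X (Z j))]
    refine Finsupp.ext fun C => ?_
    rw [Finsupp.finsetSum_apply]
    by_cases hC : C ∈ N.support
    · have hsub : (b.repr (N C)).support ⊆ J := fun j hj => Finset.mem_biUnion.mpr ⟨C, hC, hj⟩
      conv_lhs => rw [← b.linearCombination_repr (N C), Finsupp.linearCombination_apply,
        Finsupp.sum_of_support_subset _ hsub _ (by simp)]
      refine Finset.sum_congr rfl fun j hj => ?_
      have hv : Z j C = z C j := by
        simp [Z, if_pos hj, Finsupp.finsetSum_apply, Finsupp.single_apply, hC]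
      have hcast : ((z C j : ℤ) : ℝ) = (M : ℝ) * (b.repr (N C) j : ℝ) := by
        exact_mod_cast congrArg (fun q : ℚ => (q : ℝ)) (hz C hC j hj)
      simp only [Finsupp.smul_apply, NumR.CDiv.toR, Finsupp.mapRange.addMonoidHom_apply,
        Finsupp.mapRange_apply, Int.coe_castAddHom, hv, hcast, Rat.smul_def, smul_eq_mul]
      field_simp
    · rw [Finsupp.notMem_support_iff.mp hC]
      refine (Finset.sum_eq_zero fun j hj => ?_).symm
      have hv : Z j C = 0 := by
        simp [Z, if_pos hj, Finsupp.finsetSum_apply, Finsupp.single_apply, hC]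
      simp [NumR.CDiv.toR, hv]

end aux

/-- Let k be an algebraically closed field of characteristic zero and X a smooth projective surface over
k (integral, proper and smooth over k, of dimension 2, with an ample invertible module); the notes
work over the complex numbers. Fix a group law on the Picard set of X, and let B be the intersection
form on N¹(X)_ℝ = ℝ ⊗ (Pic X modulo numerical equivalence), the real bilinear form whose value on
the classes of invertible modules L, M is (L·M) = χ(O_X) − χ(L) − χ(M) + χ(L ⊗ M). Real divisors are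
finite real combinations of integral curves on X (quasi-coherent ideals with integral closed
subscheme of one-dimensional support and invertible ideal module); such a real divisor is ample when
it is a combination with positive real coefficients of integral divisors E_i whose Picard classes
[O_X(E_i)] are classes of ample invertible modules, and numerically trivial when its class pairs to
zero under B with the class of every integral divisor. If D is an ample real divisor and D′ is a
real divisor with D′ − D numerically trivial, then D′ is ample. -/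
theorem result (k : Type u) [Field k] [IsAlgClosed k] [CharZero k]
    (X : Scheme.{u}) [X.Over (Spec (CommRingCat.of k))] [IsProper (X ↘ (Spec (CommRingCat.of k)))]
    [Smooth (X ↘ (Spec (CommRingCat.of k)))] [AlgebraicGeometry.IsIntegral X] (hdim : topologicalKrullDim X = 2)
    (hproj : ∃ H : X.Modules, CohB1.IsAmple H) [PicGrp.Law X]
    (B : NumR.N1R k X →ₗ[ℝ] NumR.N1R k X →ₗ[ℝ] ℝ) (hB : NumR.IsIntForm₂ k X B)
    (D D' : NumR.CDivR X) (hD : NumR.IsAmpleRDiv X D) (h : NumR.IsNumTrivialRDiv k X B (D' - D)) :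
    NumR.IsAmpleRDiv X D' := by
  haveI := Lib.Curves.GlobalSections.isNoetherian_of_proper k X
  obtain ⟨ι, s, r, Z, hZ, e⟩ := exists_decomp hdim hB (D' - D) h
  have key : ∀ s : Finset ι, NumR.IsAmpleRDiv X (D + ∑ i ∈ s, r i • NumR.CDiv.toR X (Z i)) := by
    classical
    intro s
    induction s using Finset.induction_on with
    | empty => simpa using hD
    | insert a s ha ih =>
      rw [Finset.sum_insert ha, add_comm (r a • _), ← add_assoc]
      exact ampleR_add hdim hB ih (hZ a) (r a)
  have := key s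
  rwa [← e, add_sub_cancel] at this

end Groth.Agent.S19733
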