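import Groth.Statements.S19739
import Groth.Agent.Lib.SurfInt.Cones
import Groth.Agent.Lib.SurfInt.NefSq
import Groth.Agent.Lib.PosLin.Kodaira

set_option autoImplicit false
open CategoryTheory CategoryTheory.Limits AlgebraicGeometry
open PosLin

namespace Groth.Agent.S19739

open Groth.Agent.Lib Groth.Agent.Lib.PosLin.Kodaira Groth.Agent.Lib.Snapper Groth.Agent.Lib.PosLin.SectionBound
open Groth.Agent.Lib.TensorMod.Basic (tmap comm assoc tensorIso leftUnit rightUnit)
open Groth.Agent.Lib.TensorMod.Invertible (isInvertible_tensorPow isInvertible_tensorMod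
  isInvertible_dual tensorDualIso)

variable {X : Scheme.{0}} [X.Over (Spec (CommRingCat.of ℂ))] [IsProper (X ↘ Spec (CommRingCat.of ℂ))]
  [AlgebraicGeometry.IsIntegral X] [AlgebraicGeometry.IsNoetherian X]

/-- Bigness of a module. -/
def Big (L : X.Modules) : Prop :=
  ∀ A : X.Modules, CohB1.IsAmple A → ∃ (m : ℕ) (φ : A ⟶ CohB1.tensorPow L m), 0 < m ∧ Mono φ

/-- An ample module tensor a module with a section is big. -/
theorem big_ample_tensor {A E : X.Modules} (hA : CohB1.IsAmple A) (hE : PicF.IsInvertible E)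
    (hs : 0 < h0 ℂ X E) : Big (CohB1.tensorMod A E) := by
  intro A' hA'
  have hd := isInvertible_dual hA'.1
  obtain ⟨n₀, hn₀⟩ := Ample.GG.eventually_genAt_twist hA _ (Ample.GG.isCoh_of_isInvertible hd)
  set m := n₀ + 1
  have hAm := isInvertible_tensorPow hA.1 m
  have hG := isInvertible_tensorMod hd hAm
  obtain ⟨s, hs'⟩ := Ample.GG.exists_genLocus_of_genAt hG (hn₀ m (by omega) (genericPoint X))
  have h1 := h0_pos_of_section (k := ℂ) hG s (SurfInt.Pencil.ne_zero_of_mem_genLocus hG hs')
  have h2 := h1.trans_le (h0_le_mul_pow (k := ℂ) hG hE hs m)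
  have hL := isInvertible_tensorPow (isInvertible_tensorMod hA.1 hE) m
  obtain ⟨φ, hφ⟩ := exists_mono (k := ℂ) hA'.1 hL (h2.trans_eq
    (h0_congr (assoc _ _ _ ≪≫ tensorIso (Iso.refl _) (Ample.Pow.powTensor A E m).symm)))
  exact ⟨m, φ, by omega, hφ⟩

/-- Let X be a projective variety over the complex numbers (an integral scheme, proper over ℂ, with an
ample invertible module), fix a group law on its Picard set and let N¹(X)_ℝ = ℝ ⊗ (Pic X modulo
numerical equivalence). Call an invertible module L big when every ample invertible module A admits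
a monomorphism A → L^⊗m for some m > 0 (the form of bigness of an integral divisor used in the
text's proofs), and let Big(X), Amp(X), Eff(X) ⊆ N¹(X)_ℝ be the convex cones generated by the
classes of big, of ample, and of invertible modules with a nonzero global section respectively
(positive real combinations; the class of O_X lies in Eff(X)). Then a class x lies in Big(X) if and
only if x = a + e with a ∈ Amp(X) and e ∈ Eff(X): a real divisor class is big exactly when it is the
class of an ample plus an effective real divisor. -/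
theorem result (X : Scheme.{0}) [X.Over (Spec (CommRingCat.of ℂ))]
    [AlgebraicGeometry.IsIntegral X] [IsProper (X ↘ Spec (CommRingCat.of ℂ))] (H : X.Modules) (hH : CohB1.IsAmple H)
    [PicGrp.Law X] (x : NumR.N1R ℂ X) :
    x ∈ (NumR.coneOf ℂ X (fun L : X.Modules => ∀ A : X.Modules, CohB1.IsAmple A → ∃ (m : ℕ) (φ : A ⟶ CohB1.tensorPow L m), 0 < m ∧ Mono φ) : Set (NumR.N1R ℂ X)) ↔
      ∃ a ∈ (NumR.ampleCone ℂ X : Set (NumR.N1R ℂ X)), x - a ∈ (NumR.effCone ℂ X : Set (NumR.N1R ℂ X)) := by
  haveI := Lib.Curves.GlobalSections.isNoetherian_of_proper ℂ X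
  set B := NumR.coneOf ℂ X (fun L : X.Modules => ∀ A : X.Modules, CohB1.IsAmple A → ∃ (m : ℕ) (φ : A ⟶ CohB1.tensorPow L m), 0 < m ∧ Mono φ)
  constructor
  · let R : ConvexCone ℝ (NumR.N1R ℂ X) :=
      { carrier := {y | ∃ a ∈ (NumR.ampleCone ℂ X : Set (NumR.N1R ℂ X)),
          y - a ∈ (NumR.effCone ℂ X : Set (NumR.N1R ℂ X))}
        smul_mem' := by
          rintro c hc y ⟨a, ha, he⟩
          exact ⟨c • a, (NumR.ampleCone ℂ X).smul_mem hc ha, by
            rw [← smul_sub]; exact (NumR.effCone ℂ X).smul_mem hc he⟩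
        add_mem' := by
          rintro y ⟨a, ha, he⟩ z ⟨b, hb, hf⟩
          exact ⟨a + b, (NumR.ampleCone ℂ X).add_mem ha hb, by
            rw [add_sub_add_comm]; exact (NumR.effCone ℂ X).add_mem he hf⟩ }
    intro hx
    refine (ConvexCone.hull_min (C := R) ?_ : B ≤ R) hx
    rintro _ ⟨L, hL, hbig, rfl⟩
    obtain ⟨m, φ, hm, hφ⟩ := hbig H hH
    have hLm := isInvertible_tensorPow hL m
    have hE := isInvertible_tensorMod (isInvertible_dual hH.1) hLm
    have hs := h0_pos_of_mono (k := ℂ) hH.1 hLm φ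
    let e : CohB1.tensorMod H (CohB1.tensorMod (TensorMod.Dual.dual H) (CohB1.tensorPow L m)) ≅
        CohB1.tensorPow L m :=
      (assoc _ _ _).symm ≪≫ tensorIso (tensorDualIso hH.1) (Iso.refl _) ≪≫ leftUnit _
    have h : NumR.clR ℂ X H hH.1 + NumR.clR ℂ X _ hE = (m : ℝ) • NumR.clR ℂ X L hL := by
      rw [← SurfInt.Cones.clR_tensor hH.1 hE (isInvertible_tensorMod hH.1 hE),
        ← SurfInt.Cones.clR_pow hL m hLm]
      exact SurfInt.NefSq.clR_congr e _ _
    have hm' : (0 : ℝ) < (m : ℝ)⁻¹ := inv_pos.mpr (by exact_mod_cast hm)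
    refine ⟨(m : ℝ)⁻¹ • NumR.clR ℂ X H hH.1,
      (NumR.ampleCone ℂ X).smul_mem hm' (ConvexCone.subset_hull ⟨H, hH.1, hH, rfl⟩), ?_⟩
    have e2 : NumR.clR ℂ X L hL - (m : ℝ)⁻¹ • NumR.clR ℂ X H hH.1 = (m : ℝ)⁻¹ • NumR.clR ℂ X _ hE := by
      rw [sub_eq_iff_eq_add', ← smul_add, h, inv_smul_smul₀ (by exact_mod_cast hm.ne')]
    rw [e2]
    exact (NumR.effCone ℂ X).smul_mem hm' (ConvexCone.subset_hull ⟨_, hE, exists_section (k := ℂ) hs, rfl⟩)
  · rintro ⟨a, ha, he⟩
    have hmem : ∀ (E : X.Modules) (hE : PicF.IsInvertible E), NumR.HasSection E →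
        ∀ b ∈ (NumR.ampleCone ℂ X : Set (NumR.N1R ℂ X)), ∀ t : ℝ, 0 < t →
          b + t • NumR.clR ℂ X E hE ∈ B := by
      intro E hE hsec
      let P : ConvexCone ℝ (NumR.N1R ℂ X) :=
        { carrier := {b | ∀ t : ℝ, 0 < t → b + t • NumR.clR ℂ X E hE ∈ B}
          smul_mem' := by
            intro c hc b hb t ht
            have := B.smul_mem hc (hb (c⁻¹ * t) (by positivity))
            rwa [smul_add, smul_smul, ← mul_assoc, mul_inv_cancel₀ hc.ne', one_mul] at this
          add_mem' := by
            intro b hb c hc t ht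
            have := B.add_mem (hb (t / 2) (half_pos ht)) (hc (t / 2) (half_pos ht))
            rwa [add_add_add_comm, ← add_smul, add_halves] at this }
      intro b hb
      refine (ConvexCone.hull_min (C := P) ?_ : NumR.ampleCone ℂ X ≤ P) hb
      rintro _ ⟨A, hA1, hA, rfl⟩ t ht
      obtain ⟨p, hp⟩ := exists_nat_gt t
      have hp0 : (0 : ℝ) < p := ht.trans hp
      have hEp := isInvertible_tensorPow hE p
      obtain ⟨s, hs⟩ := hsec
      have hpos := h0_pos_of_section (k := ℂ) hE s hs
      have hz : ∀ q : ℕ, 0 < h0 ℂ X (CohB1.tensorPow E q) := by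
        intro q
        induction q with
        | zero => exact h0_structure_pos (k := ℂ) (X := X)
        | succ q ih => exact ih.trans_le (h0_pow_le (k := ℂ) hE q
            (hpos.trans_eq (h0_congr (leftUnit E).symm)))
      have hO := PicLoc.isInvertible_structureModule X
      have hAO := isInvertible_tensorMod hA1 hO
      have hAE := isInvertible_tensorMod hA1 hEp
      have hbA : NumR.clR ℂ X A hA1 ∈ B := by
        rw [SurfInt.NefSq.clR_congr (rightUnit A).symm hA1 hAO]
        exact ConvexCone.subset_hull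
          ⟨_, hAO, big_ample_tensor hA hO (h0_structure_pos (k := ℂ) (X := X)), rfl⟩
      have hbAE : NumR.clR ℂ X A hA1 + (p : ℝ) • NumR.clR ℂ X E hE ∈ B := by
        rw [← SurfInt.Cones.clR_pow hE p hEp, ← SurfInt.Cones.clR_tensor hA1 hEp hAE]
        exact ConvexCone.subset_hull ⟨_, hAE, big_ample_tensor hA hEp (hz p), rfl⟩
      have h1 : t / (p : ℝ) < 1 := (div_lt_one hp0).mpr hp
      have := B.add_mem (B.smul_mem (sub_pos.mpr h1) hbA) (B.smul_mem (div_pos ht hp0) hbAE)
      rwa [smul_add, smul_smul, div_mul_cancel₀ _ hp0.ne', ← add_assoc, ← add_smul, sub_add_cancel,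
        one_smul] at this
    let Q : ConvexCone ℝ (NumR.N1R ℂ X) :=
      { carrier := {e | ∀ b ∈ (NumR.ampleCone ℂ X : Set (NumR.N1R ℂ X)), b + e ∈ B}
        smul_mem' := by
          intro c hc e he b hb
          have := B.smul_mem hc (he (c⁻¹ • b) ((NumR.ampleCone ℂ X).smul_mem (inv_pos.mpr hc) hb))
          rwa [smul_add, smul_inv_smul₀ hc.ne'] at this
        add_mem' := by
          intro e he f hf b hb
          have h2 := (NumR.ampleCone ℂ X).smul_mem (show (0 : ℝ) < 1 / 2 by norm_num) hb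
          have := B.add_mem (he _ h2) (hf _ h2)
          rwa [add_add_add_comm, ← add_smul, show (1 : ℝ) / 2 + 1 / 2 = 1 by norm_num, one_smul] at this }
    have hle : (NumR.effCone ℂ X) ≤ Q := ConvexCone.hull_min (by
      rintro _ ⟨E, hE, hsec, rfl⟩ b hb
      have := hmem E hE hsec b hb 1 one_pos
      rwa [one_smul] at this)
    have := hle he a ha
    rwa [add_sub_cancel] at this

end Groth.Agent.S19739
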