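import Groth.Statements.S1974
import Groth.Agent.Lib.WeaklyEt.OverField

set_option autoImplicit false
universe u
open EtAlg

open scoped TensorProduct

namespace Groth.Agent.S1974

/-- Points of a weakly etale algebra over a field are separable. -/
lemma isSeparable_apply (κ : Type u) {F L : Type u} [Field κ] [CommRing F] [Algebra κ F] [Field L]
    [Algebra κ L] [Algebra.WeaklyEtale κ F] (ψ : F →ₐ[κ] L) (x : F) : IsSeparable κ (ψ x) := by
  haveI : (RingHom.ker ψ).IsPrime := RingHom.ker_isPrime ψ
  haveI := Groth.Agent.Lib.WeaklyEt.OverField.isSeparable_quotient κ (RingHom.ker ψ)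
  letI := (Groth.Agent.Lib.WeaklyEt.OverField.isField_quotient κ (RingHom.ker ψ)).toField
  have h := Algebra.IsSeparable.isSeparable κ (Ideal.Quotient.mk (RingHom.ker ψ) x)
  have h2 := IsSeparable.map (Ideal.kerLiftAlg ψ) (RingHom.kerLift_injective _) h
  simpa using h2


/-- Let A -> B be weakly etale and q a prime of B lying over the prime p of A. Then the residue field of
q is a separable algebraic extension of the residue field of p. -/
theorem result (A B : Type u) [CommRing A] [CommRing B] [Algebra A B]
    [Algebra.WeaklyEtale A B] (p : Ideal A) [p.IsPrime] (q : Ideal B) [q.IsPrime] [q.LiesOver p]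
    [Algebra (Localization.AtPrime p) (Localization.AtPrime q)] [Localization.AtPrime.IsLiesOverAlgebra p q] :
    Algebra.IsSeparable p.ResidueField q.ResidueField := by
  haveI : IsScalarTower A p.ResidueField q.ResidueField := .of_algebraMap_eq fun a => by
    rw [IsScalarTower.algebraMap_apply A (Localization.AtPrime p) p.ResidueField,
      IsScalarTower.algebraMap_apply A (Localization.AtPrime q) q.ResidueField,
      IsScalarTower.algebraMap_apply A (Localization.AtPrime p) (Localization.AtPrime q)]
    rfl
  let ψ : p.ResidueField ⊗[A] B →ₐ[p.ResidueField] q.ResidueField :=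
    Algebra.TensorProduct.lift (Algebra.ofId p.ResidueField q.ResidueField)
      (IsScalarTower.toAlgHom A B q.ResidueField) fun _ _ => Commute.all _ _
  have hsep : ∀ b : B, IsSeparable p.ResidueField (algebraMap B q.ResidueField b) := fun b => by
    have h := isSeparable_apply p.ResidueField ψ (1 ⊗ₜ b)
    simpa [ψ] using h
  refine (separableClosure.eq_top_iff _ _).mp (eq_top_iff.mpr fun y _ => ?_)
  obtain ⟨a, c, hc, rfl⟩ := IsFractionRing.div_surjective (B ⧸ q) y
  obtain ⟨a, rfl⟩ := Ideal.Quotient.mk_surjective a
  obtain ⟨c, rfl⟩ := Ideal.Quotient.mk_surjective c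
  rw [← Ideal.Quotient.algebraMap_eq, ← IsScalarTower.algebraMap_apply,
    ← IsScalarTower.algebraMap_apply]
  exact div_mem (mem_separableClosure_iff.mpr (hsep a)) (mem_separableClosure_iff.mpr (hsep c))

end Groth.Agent.S1974
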