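import Groth.Statements.S19740
import Groth.Agent.Lib.SurfInt.Cones
import Groth.Agent.S19739
import Groth.Agent.Lib.Ample.GenLocus
import Mathlib.Analysis.SpecificLimits.Basic

set_option autoImplicit false
open CategoryTheory CategoryTheory.Limits AlgebraicGeometry
open PosLin

namespace Groth.Agent.S19740

open Groth.Agent.Lib

lemma aux (k : Type) [Field k] (X : Scheme.{0}) [X.Over (Spec (CommRingCat.of k))]
    [AlgebraicGeometry.IsIntegral X] [IsProper (X ↘ Spec (CommRingCat.of k))] (H : X.Modules) (hH : CohB1.IsAmple H)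
    [PicGrp.Law X] [Module.Finite ℝ (NumR.N1R k X)] (P : X.Modules → Prop)
    (h39 : ∀ x, x ∈ (NumR.coneOf k X P : Set (NumR.N1R k X)) ↔
      ∃ a ∈ (NumR.ampleCone k X : Set (NumR.N1R k X)), x - a ∈ (NumR.effCone k X : Set (NumR.N1R k X))) :
    (NumR.coneOf k X P : Set (NumR.N1R k X)) = interior (NumR.psefCone k X) ∧
      NumR.psefCone k X = closure (NumR.coneOf k X P : Set (NumR.N1R k X)) := by
  haveI := Lib.Curves.GlobalSections.isNoetherian_of_proper k X
  haveI : IsTopologicalAddGroup (NumR.N1R k X) := IsModuleTopology.topologicalAddGroup ℝ _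
  set A := (NumR.ampleCone k X : Set (NumR.N1R k X))
  set E := (NumR.effCone k X : Set (NumR.N1R k X))
  set B := (NumR.coneOf k X P : Set (NumR.N1R k X))
  have hAo : IsOpen A := SurfInt.Cones.isOpen_ampleCone
  have hAE : A ⊆ E := by
    show NumR.ampleCone k X ≤ NumR.effCone k X
    refine ConvexCone.hull_le_iff.mpr ?_
    rintro _ ⟨L, hL, hLa, rfl⟩
    obtain ⟨n, s, hx, -⟩ := hLa.2.2 (genericPoint X)
    have hp := TensorMod.Invertible.isInvertible_tensorPow hL (n + 1)
    have hs : NumR.HasSection (CohB1.tensorPow L (n + 1)) := by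
      refine ⟨s, ?_⟩
      rintro rfl
      obtain ⟨U, hxU, hU⟩ := (Ample.GenLocus.mem_genLocus_iff _).1 hx
      haveI : Nonempty (U : Scheme.{0}) := ⟨⟨_, hxU⟩⟩
      exact one_ne_zero ((hU U le_rfl).1 (a₁ := (1 : Γ(X, U))) (a₂ := 0) (by
        simp [Ample.GenLocus.sv, TensorMod.Dual.rs]))
    have hmem : NumR.clR k X (CohB1.tensorPow L (n + 1)) hp ∈ NumR.effCone k X :=
      ConvexCone.subset_hull ⟨_, hp, hs, rfl⟩
    have := (NumR.effCone k X).smul_mem (c := ((n + 1 : ℕ) : ℝ)⁻¹) (by positivity) hmem
    rw [SurfInt.Cones.clR_pow hL, inv_smul_smul₀ (by positivity)] at this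
    exact this
  have hBE : B ⊆ E := fun x hx => by
    obtain ⟨a, ha, he⟩ := (h39 x).1 hx
    have := (NumR.effCone k X).add_mem (hAE ha) he
    rwa [add_sub_cancel] at this
  have hBo : IsOpen B := by
    rw [show B = ⋃ e ∈ E, (fun x => x - e) ⁻¹' A from Set.ext fun x => by
      rw [h39, Set.mem_iUnion₂]
      exact ⟨fun ⟨a, ha, he⟩ => ⟨x - a, he, by simpa using ha⟩,
        fun ⟨e, he, ha⟩ => ⟨x - e, ha, by simpa using he⟩⟩]
    exact isOpen_biUnion fun e _ => hAo.preimage (continuous_id.sub continuous_const)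
  obtain ⟨h, hh⟩ : A.Nonempty := ⟨_, ConvexCone.subset_hull ⟨H, hH.1, hH, rfl⟩⟩
  have hEB : E ⊆ closure B := by
    intro e he
    refine mem_closure_of_tendsto (f := fun m : ℕ => e + ((1 : ℝ) / ((m : ℝ) + 1)) • h) (b := Filter.atTop) ?_
      (Filter.Eventually.of_forall fun m => (h39 _).2 ⟨((1 : ℝ) / ((m : ℝ) + 1)) • h,
        (NumR.ampleCone k X).smul_mem (by positivity) hh, by simpa using he⟩)
    simpa using (((tendsto_one_div_add_atTop_nhds_zero_nat (𝕜 := ℝ)).smul_const h).const_add e)
  have hcl : NumR.psefCone k X = closure B :=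
    (closure_minimal hEB isClosed_closure).antisymm (closure_mono hBE)
  have hne : (interior B).Nonempty := by
    rw [hBo.interior_eq]
    exact ⟨h + h, (h39 _).2 ⟨h, hh, by simpa using hAE hh⟩⟩
  exact ⟨by rw [hcl, (NumR.coneOf k X P).convex.interior_closure_eq_interior_of_nonempty_interior hne,
    hBo.interior_eq], hcl⟩

/-- Let X be a projective variety over the complex numbers (an integral scheme, proper over ℂ, with an
ample invertible module), fix a group law on its Picard set and let N¹(X)_ℝ = ℝ ⊗ (Pic X modulo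
numerical equivalence) with its topology as a finite-dimensional real vector space
(finite-dimensionality is assumed here). Call an invertible module L big when every ample invertible
module A admits a monomorphism A → L^⊗m for some m > 0, let Big(X) ⊆ N¹(X)_ℝ be the convex cone
spanned by the classes of big invertible modules and Psef(X) the pseudo-effective cone, the closure
of the cone spanned by the classes of invertible modules with a nonzero global section. Then Big(X)
is the interior of Psef(X), and Psef(X) is the closure of Big(X). -/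
theorem result (X : Scheme.{0}) [X.Over (Spec (CommRingCat.of ℂ))]
    [AlgebraicGeometry.IsIntegral X] [IsProper (X ↘ Spec (CommRingCat.of ℂ))] (H : X.Modules) (hH : CohB1.IsAmple H)
    [PicGrp.Law X] [Module.Finite ℝ (NumR.N1R ℂ X)] :
    (NumR.coneOf ℂ X (fun L : X.Modules => ∀ A : X.Modules, CohB1.IsAmple A → ∃ (m : ℕ) (φ : A ⟶ CohB1.tensorPow L m), 0 < m ∧ Mono φ) : Set (NumR.N1R ℂ X)) = interior (NumR.psefCone ℂ X) ∧
      NumR.psefCone ℂ X = closure (NumR.coneOf ℂ X (fun L : X.Modules => ∀ A : X.Modules, CohB1.IsAmple A → ∃ (m : ℕ) (φ : A ⟶ CohB1.tensorPow L m), 0 < m ∧ Mono φ) : Set (NumR.N1R ℂ X)) := by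
  exact aux ℂ X H hH _ (fun x => Groth.Agent.S19739.result X H hH x)

end Groth.Agent.S19740
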