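import Groth.Statements.S19741
import Mathlib.RingTheory.AlgebraicIndependent.TranscendenceBasis
import Mathlib.FieldTheory.AlgebraicClosure

set_option autoImplicit false
set_option backward.isDefEq.respectTransparency false
universe w u
open EssDim

namespace Groth.Agent.S19741

open EssDim

theorem trdeg_adjoin_le {k K L : Type u} [Field k] [Field K] [Field L] [Algebra k K] [Algebra K L]
    [Algebra k L] [IsScalarTower k K L] (M : IntermediateField k L) :
    Algebra.trdeg K (IntermediateField.adjoin K (M : Set L)) ≤ Algebra.trdeg k M := by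
  classical
  obtain ⟨t, ht⟩ := exists_isTranscendenceBasis k M
  rw [← ht.cardinalMk_eq_trdeg]
  let tL : Set L := M.val '' t
  let K' := IntermediateField.adjoin K (M : Set L)
  have halg : ∀ m : M, IsAlgebraic (Algebra.adjoin K tL) (M.val m) := by
    intro m
    have h1 : IsAlgebraic (Algebra.adjoin k t) m := by
      have := ht.isAlgebraic
      rw [Subtype.range_coe_subtype, Set.setOf_mem_eq] at this
      exact this.isAlgebraic m
    have hle : (Algebra.adjoin k t).map M.val ≤ (Algebra.adjoin K tL).restrictScalars k := by
      rw [AlgHom.map_adjoin]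
      exact Algebra.adjoin_le Algebra.subset_adjoin
    let f : Algebra.adjoin k t →+* Algebra.adjoin K tL :=
      { toFun := fun x => ⟨M.val x.1, hle ⟨x.1, x.2, rfl⟩⟩
        map_one' := rfl
        map_mul' := fun _ _ => rfl
        map_zero' := rfl
        map_add' := fun _ _ => rfl }
    have hfinj : Function.Injective f := fun x y h =>
      Subtype.ext (Subtype.ext (show ((x.1 : M) : L) = ((y.1 : M) : L) from (congrArg Subtype.val h : (f x).1 = (f y).1)))
    exact h1.ringHom_of_comp_eq f (M.val : M →+* L) hfinj (RingHom.ext fun _ => rfl)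
  let F := IntermediateField.adjoin K tL
  have hF : ∀ z : K', IsAlgebraic (Algebra.adjoin K tL) (z : L) := fun z => by
    rw [← IntermediateField.isAlgebraic_adjoin_iff]
    refine mem_algebraicClosure_iff.mp ?_
    have hle : K' ≤ (algebraicClosure F L).restrictScalars K :=
      IntermediateField.adjoin_le_iff.mpr fun y hy => mem_algebraicClosure_iff.mpr
        (IntermediateField.isAlgebraic_adjoin_iff.mpr (halg ⟨y, hy⟩))
    exact hle z.2
  let s : Set K' := Subtype.val ⁻¹' tL
  have hs : K'.val '' s = tL := Set.image_preimage_eq_of_subset (by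
    rintro _ ⟨x, -, rfl⟩
    exact ⟨⟨M.val x, IntermediateField.subset_adjoin K _ x.2⟩, rfl⟩)
  have hmap : (Algebra.adjoin K s).map K'.val = Algebra.adjoin K tL := by rw [AlgHom.map_adjoin, hs]
  haveI : Algebra.IsAlgebraic (Algebra.adjoin K s) K' := ⟨fun z => by
    let f : Algebra.adjoin K s →+* Algebra.adjoin K tL :=
      { toFun := fun x => ⟨K'.val x.1, hmap.le ⟨x.1, x.2, rfl⟩⟩
        map_one' := rfl
        map_mul' := fun _ _ => rfl
        map_zero' := rfl
        map_add' := fun _ _ => rfl }
    exact IsAlgebraic.of_ringHom_of_comp_eq f (K'.val : K' →+* L) (hF z)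
      (fun y => by
        obtain ⟨x, hx, hxy⟩ := hmap.ge y.2
        exact ⟨⟨x, hx⟩, Subtype.ext hxy⟩)
      K'.val.injective (RingHom.ext fun _ => rfl)⟩
  refine (Algebra.IsAlgebraic.trdeg_le_cardinalMk K s).trans ?_
  exact (Cardinal.mk_preimage_of_injective _ tL Subtype.val_injective).trans Cardinal.mk_image_le


open CategoryTheory AlgebraicGeometry in
/-- For a field extension `K` of `k` and a presheaf of sets `P` on schemes over `k`, restrict `P` to
schemes over `K` by viewing a scheme over `Spec K` as a scheme over `Spec k`; then the essential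
dimension over `K` of the restricted presheaf is at most the essential dimension of `P` over `k`.
(The source states this for an algebraic stack over `k` and its base change to `K`, through the
presheaf of isomorphism classes of objects, whose restriction to schemes over `K` is the presheaf of
classes of the base-changed stack; the inequality is stated here for an arbitrary presheaf, which is
what the argument with composita of fields of definition gives.) -/
theorem result (k : Type u) [Field k] (K : Type u) [Field K] [Algebra k K]
    (P : (Over (Spec (CommRingCat.of k)))ᵒᵖ ⥤ Type w) :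
    EssDim.ed (k := K) ((Over.map (Spec.map (CommRingCat.ofHom (algebraMap k K)))).op ⋙ P) ≤ EssDim.ed P := by
  classical
  let ι : ∀ (F : Type u) [Field F] [Algebra K F] [Algebra k F] [IsScalarTower k K F],
      SGA7.pt (K := k) F ≅ (Over.map (Spec.map (CommRingCat.ofHom (algebraMap k K)))).obj
        (SGA7.pt (K := K) F) := fun F _ _ _ _ =>
    Over.isoMk (Iso.refl _) (by
      simp only [Iso.refl_hom, Category.id_comp, Over.map_obj_hom, Over.mk_hom]
      rw [← Spec.map_comp, ← CommRingCat.ofHom_comp, ← IsScalarTower.algebraMap_eq])
  refine iSup_le fun L => iSup_le fun iL => iSup_le fun iA => iSup_le fun ξ => ?_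
  letI : Algebra k L := ((algebraMap K L).comp (algebraMap k K)).toAlgebra
  haveI : IsScalarTower k K L := IsScalarTower.of_algebraMap_eq fun _ => rfl
  let ξ' : FPt P L := P.map (ι L).hom.op ξ
  refine le_trans ?_ (le_iSup_of_le L (le_iSup_of_le iL (le_iSup_of_le inferInstance
    (le_iSup_of_le ξ' le_rfl))))
  refine WithBot.coe_le_coe.mpr (le_iInf fun M => ?_)
  let K' : IntermediateField K L := IntermediateField.adjoin K (M.1 : Set L)
  obtain ⟨ξ₀, hξ₀⟩ := M.2
  let j : M.1 →ₐ[k] K' :=
    { toFun := fun x => ⟨x.1, IntermediateField.subset_adjoin K _ x.2⟩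
      map_one' := rfl
      map_mul' := fun _ _ => rfl
      map_zero' := rfl
      map_add' := fun _ _ => rfl
      commutes' := fun _ => rfl }
  have hdesc : Descends ((Over.map (Spec.map (CommRingCat.ofHom (algebraMap k K)))).op ⋙ P) ξ K' := by
    refine ⟨P.map (ι K').inv.op (fmap j ξ₀), ?_⟩
    have e1 : (ι L).hom ≫ (Over.map (Spec.map (CommRingCat.ofHom (algebraMap k K)))).map
        (resPt K'.val) ≫ (ι K').inv ≫ resPt j = resPt M.1.val := by
      ext : 1
      simp only [Over.comp_left, Over.map_map_left, resPt_left, ι, Over.isoMk_hom_left,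
        Over.isoMk_inv_left, Iso.refl_hom, Iso.refl_inv, Category.id_comp]
      refine (congrArg (fun f => Spec.map _ ≫ f) (Category.id_comp _)).trans ?_
      rw [← Spec.map_comp, ← CommRingCat.ofHom_comp]
      rfl
    have key : P.map (ι L).hom.op (P.map ((Over.map (Spec.map (CommRingCat.ofHom (algebraMap k K)))).map
        (resPt K'.val)).op (P.map (ι K').inv.op (fmap j ξ₀))) = ξ' := by
      refine Eq.trans ?_ hξ₀
      simp only [fmap, ← ConcreteCategory.comp_apply, ← Functor.map_comp, ← op_comp]
      rw [← e1]
    exact (P.mapIso (ι L).op).toEquiv.injective key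
  exact (edAt_le_of_descends hdesc).trans (OrderHomClass.mono Cardinal.toENat (trdeg_adjoin_le M.1))

end Groth.Agent.S19741
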