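import Groth.Statements.S19748
import Groth.Agent.H83.Segre.Basic

set_option autoImplicit false
universe u
open scoped TensorProduct
open GrSegre

namespace Groth.Agent.S19748

/-- Let R and S be graded rings defined over a field k with Segre product T = R # S, M a graded R-module
and N a graded S-module. Suppose that multiplication by some homogeneous element f ∈ R_d of positive
degree d is bijective on M and multiplication by some homogeneous g ∈ S_e of positive degree e is
bijective on N. Then multiplication by some homogeneous element of T of positive degree is bijective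
on M # N. Here a graded ring defined over k is a commutative k-algebra of finite type, graded in
nonnegative degrees by k-subspaces with degree-zero part k·1; the Segre product T = R # S = ⊕_n R_n
⊗_k S_n is presented abstractly as a graded k-algebra T with an injective k-algebra homomorphism ψ :
T → R ⊗_k S carrying T_n onto the k-span of the elementary tensors a ⊗ b with a ∈ R_n, b ∈ S_n; the
Segre product M # N = ⊕_n M_n ⊗_k N_n of a graded R-module M and a graded S-module N is presented
abstractly as a graded T-module P with an injective k-linear map φ : P → M ⊗_k N carrying P_n onto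
the k-span of the tensors x ⊗ y with x ∈ M_n, y ∈ N_n and turning the action of t ∈ T into that of
ψ(t) (acting factorwise on M ⊗_k N). -/
theorem result (k : Type u) [Field k] (R : Type u) [CommRing R] [Algebra k R] (𝒜 : ℤ → Submodule k R) [GradedAlgebra 𝒜] (hposR : ∀ n : ℤ, n < 0 → 𝒜 n = ⊥) (h0R : 𝒜 0 = Submodule.span k {(1 : R)}) [Algebra.FiniteType k R] (S : Type u) [CommRing S] [Algebra k S] (ℬ : ℤ → Submodule k S) [GradedAlgebra ℬ] (hposS : ∀ n : ℤ, n < 0 → ℬ n = ⊥) (h0S : ℬ 0 = Submodule.span k {(1 : S)}) [Algebra.FiniteType k S] (T : Type u) [CommRing T] [Algebra k T] (𝒯 : ℤ → Submodule k T) [GradedAlgebra 𝒯] (ψ : T →ₐ[k] TensorProduct k R S) (hT : GrSeg.IsSegreRing 𝒜 ℬ 𝒯 ψ) (M : Type u) [AddCommGroup M] [Module R M] [Module k M] [IsScalarTower k R M] (ℳ : ℤ → AddSubgroup M) [DirectSum.Decomposition ℳ] [SetLike.GradedSMul 𝒜 ℳ] (N : Type u) [AddCommGroup N] [Module S N] [Module k N] [IsScalarTower k S N] (𝒩 : ℤ → AddSubgroup N) [DirectSum.Decomposition 𝒩] [SetLike.GradedSMul ℬ 𝒩] (P : Type u) [AddCommGroup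 P] [Module T P] [Module k P] [IsScalarTower k T P] (𝒬 : ℤ → AddSubgroup P) [DirectSum.Decomposition 𝒬] (φ : P →ₗ[k] TensorProduct k M N) (hP : GrSeg.IsSegreMod ψ ℳ 𝒩 𝒬 φ) (d : ℕ) (hd : 0 < d) (f : R) (hf : f ∈ 𝒜 (d : ℤ)) (hfM : Function.Bijective (fun x : M => f • x)) (e : ℕ) (he : 0 < e) (g : S) (hg : g ∈ ℬ (e : ℤ)) (hgN : Function.Bijective (fun y : N => g • y)) : ∃ (c : ℤ) (t : T), 0 < c ∧ t ∈ 𝒯 c ∧ Function.Bijective (fun p : P => t • p) := by
  classical
  have hfe : f ^ e ∈ 𝒜 (((d * e : ℕ)) : ℤ) := by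
    have := SetLike.pow_mem_graded e hf
    rwa [show e • (d : ℤ) = ((d * e : ℕ) : ℤ) by simp [mul_comm]] at this
  have hgd : g ^ d ∈ ℬ (((d * e : ℕ)) : ℤ) := by
    have := SetLike.pow_mem_graded d hg
    rwa [show d • (e : ℤ) = ((d * e : ℕ) : ℤ) by simp] at this
  obtain ⟨t, ht, hte⟩ := H83.Segre.exists_ring_elem hT (H83.Segre.tmul_mem_segrePiece (k := k) hfe hgd)
  refine ⟨(d * e : ℕ), t, by exact_mod_cast Nat.mul_pos hd he, ht, ?_, fun q => ?_⟩
  · intro p q hpq
    apply hP.injective
    have h := congrArg φ hpq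
    simp only [hP.map_smul, hte] at h
    have hfM' : Function.Bijective (fun x : M => f ^ e • x) := by
      rw [← smul_iterate]; exact Function.Bijective.iterate hfM e
    have hgN' : Function.Bijective (fun x : N => g ^ d • x) := by
      rw [← smul_iterate]; exact Function.Bijective.iterate hgN d
    let eM : M ≃ₗ[k] M := LinearEquiv.ofBijective (Algebra.lsmul k k M (f ^ e)) hfM'
    let eN : N ≃ₗ[k] N := LinearEquiv.ofBijective (Algebra.lsmul k k N (g ^ d)) hgN'
    have he' : ∀ z, GrSeg.act k R S M N ((f ^ e) ⊗ₜ[k] (g ^ d)) z = TensorProduct.congr eM eN z := by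
      intro z
      induction z using TensorProduct.induction_on with
      | zero => simp
      | add a b ha hb => rw [map_add, ha, hb, map_add]
      | tmul a b => rw [GrSeg.act_tmul, TensorProduct.congr_tmul]; rfl
    rw [he', he'] at h
    exact (TensorProduct.congr eM eN).injective h
  · have key : ∀ n, ∀ z ∈ GrSeg.segrePiece k ℳ 𝒩 n, ∃ p, φ (t • p) = z := by
      intro n z hz
      induction hz using Submodule.span_induction with
      | zero => exact ⟨0, by rw [smul_zero, map_zero]⟩
      | add u v _ _ hu hv =>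
        obtain ⟨p, rfl⟩ := hu; obtain ⟨p', rfl⟩ := hv
        exact ⟨p + p', by rw [smul_add, map_add]⟩
      | smul c u _ hu =>
        obtain ⟨p, rfl⟩ := hu
        exact ⟨c • p, by rw [smul_comm, map_smul]⟩
      | mem z hz =>
        obtain ⟨a, ha, b, hb, rfl⟩ := hz
        have hfM' : Function.Bijective (fun x : M => f ^ e • x) := by
          rw [← smul_iterate]; exact Function.Bijective.iterate hfM e
        have hgN' : Function.Bijective (fun x : N => g ^ d • x) := by
          rw [← smul_iterate]; exact Function.Bijective.iterate hgN d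
        obtain ⟨a', ha'⟩ := hfM'.2 a
        obtain ⟨b', hb'⟩ := hgN'.2 b
        have hca : f ^ e • Lib.Graded.Basic.proj ℳ (n - ((d * e : ℕ) : ℤ)) a' = a := by
          rw [← Lib.Graded.Basic.proj_smul_of_mem 𝒜 ℳ hfe n a', show f ^ e • a' = a from ha',
            Lib.Graded.Basic.proj_of_mem ℳ ha]
        have hcb : g ^ d • Lib.Graded.Basic.proj 𝒩 (n - ((d * e : ℕ) : ℤ)) b' = b := by
          rw [← Lib.Graded.Basic.proj_smul_of_mem ℬ 𝒩 hgd n b', show g ^ d • b' = b from hb',
            Lib.Graded.Basic.proj_of_mem 𝒩 hb]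
        obtain ⟨p, -, hp⟩ := H83.Segre.exists_mod_elem hP (H83.Segre.tmul_mem_segrePiece (k := k)
          (Lib.Graded.Basic.proj_mem ℳ (n - ((d * e : ℕ) : ℤ)) a') (Lib.Graded.Basic.proj_mem 𝒩 (n - ((d * e : ℕ) : ℤ)) b'))
        exact ⟨p, by rw [hP.map_smul, hte, hp, GrSeg.act_tmul, hca, hcb]⟩
    suffices ∃ p, φ (t • p) = φ q by
      obtain ⟨p, hp⟩ := this
      exact ⟨p, hP.injective hp⟩
    induction q using Lib.Graded.Basic.induction_hom 𝒬 with
    | zero => exact ⟨0, by rw [smul_zero]⟩
    | hom n q hq => exact key n _ (H83.Segre.mod_mem_segre hP hq)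
    | add a b ha hb =>
      obtain ⟨p, hp⟩ := ha; obtain ⟨p', hp'⟩ := hb
      exact ⟨p + p', by rw [smul_add, map_add, hp, hp', map_add]⟩

end Groth.Agent.S19748
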