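import Groth.Statements.S19749
import Groth.Agent.H83.Segre.Basic

set_option autoImplicit false
universe u
open scoped TensorProduct
open GrSegre

namespace Groth.Agent.S19749

/-- Let R and S be graded rings defined over a field k, both generated over k by their degree-one parts
and of positive Krull dimension, T = R # S, M a graded R-module and N a graded S-module, n an
integer with N_m ≠ 0 for every m ≥ n, and x ∈ M_n, y ∈ N_n. If x # y generates M # N as a T-module,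
then R_d x = M_{n+d} for every d ≥ 0 (every element of M_{n+d} is r x for some r ∈ R_d). Here a
graded ring defined over k is a commutative k-algebra of finite type, graded in nonnegative degrees
by k-subspaces with degree-zero part k·1; the Segre product T = R # S = ⊕_n R_n ⊗_k S_n is presented
abstractly as a graded k-algebra T with an injective k-algebra homomorphism ψ : T → R ⊗_k S carrying
T_n onto the k-span of the elementary tensors a ⊗ b with a ∈ R_n, b ∈ S_n; the Segre product M # N =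
⊕_n M_n ⊗_k N_n of a graded R-module M and a graded S-module N is presented abstractly as a graded
T-module P with an injective k-linear map φ : P → M ⊗_k N carrying P_n onto the k-span of the
tensors x ⊗ y with x ∈ M_n, y ∈ N_n and turning the action of t ∈ T into that of ψ(t) (acting
factorwise on M ⊗_k N), and x # y is the element of P mapped to x ⊗ y. -/
theorem result (k : Type u) [Field k] (R : Type u) [CommRing R] [Algebra k R] (𝒜 : ℤ → Submodule k R) [GradedAlgebra 𝒜] (hposR : ∀ n : ℤ, n < 0 → 𝒜 n = ⊥) (h0R : 𝒜 0 = Submodule.span k {(1 : R)}) [Algebra.FiniteType k R] (S : Type u) [CommRing S] [Algebra k S] (ℬ : ℤ → Submodule k S) [GradedAlgebra ℬ] (hposS : ∀ n : ℤ, n < 0 → ℬ n = ⊥) (h0S : ℬ 0 = Submodule.span k {(1 : S)}) [Algebra.FiniteType k S] (T : Type u) [CommRing T] [Algebra k T] (𝒯 : ℤ → Submodule k T) [GradedAlgebra 𝒯] (ψ : T →ₐ[k] TensorProduct k R S) (hT : GrSeg.IsSegreRing 𝒜 ℬ 𝒯 ψ) (hstdR : Ideal.span (⋃ n ∈ Set.Ioi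 (0 : ℤ), (𝒜 n : Set R)) = Ideal.span ((𝒜 1 : Submodule k R) : Set R)) (hstdS : Ideal.span (⋃ n ∈ Set.Ioi (0 : ℤ), (ℬ n : Set S)) = Ideal.span ((ℬ 1 : Submodule k S) : Set S)) (hr1 : 1 ≤ ringKrullDim R) (hs1 : 1 ≤ ringKrullDim S) (M : Type u) [AddCommGroup M] [Module R M] [Module k M] [IsScalarTower k R M] (ℳ : ℤ → AddSubgroup M) [DirectSum.Decomposition ℳ] [SetLike.GradedSMul 𝒜 ℳ] (N : Type u) [AddCommGroup N] [Module S N] [Module k N] [IsScalarTower k S N] (𝒩 : ℤ → AddSubgroup N) [DirectSum.Decomposition 𝒩] [SetLike.GradedSMul ℬ 𝒩] (P : Type u) [AddCommGroup P] [Module T P] [Module k P] [IsScalarTower k T P] (𝒬 : ℤ → AddSubgroup P) [DirectSum.Decomposition 𝒬] (φ : P →ₗ[k] TensorProduct k M N) (hP : GrSeg.IsSegreMod ψ ℳ 𝒩 𝒬 φ) (n : ℤ) (hNn : ∀ m : ℤ, n ≤ m → 𝒩 m ≠ ⊥) (x : M) (hx : x ∈ ℳ n) (y : N) (hy : y ∈ 𝒩 n) (p : P) (hp : φ p = x ⊗ₜ[k] y) (hgen : Submodule.span T {p} = ⊤) (d : ℤ) (hd : 0 ≤ d) (z : M) (hz : z ∈ ℳ (n + d)) : ∃ r ∈ 𝒜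 d, r • x = z := by
  classical
  obtain ⟨w, hw, hw0⟩ := (AddSubgroup.bot_or_exists_ne_zero (𝒩 (n + d))).resolve_left (hNn _ (by omega))
  obtain ⟨χ, hχ, -⟩ := Submodule.exists_le_ker_of_notMem
    (p := (⊥ : Submodule k N)) (fun hc => hw0 ((Submodule.mem_bot k).mp hc))
  let red : TensorProduct k M N →ₗ[k] M :=
    (TensorProduct.rid k M).toLinearMap ∘ₗ TensorProduct.map LinearMap.id χ
  have hred : ∀ (a : M) (b : N), red (a ⊗ₜ[k] b) = χ b • a := fun a b => by simp [red]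
  obtain ⟨q, hq, hqe⟩ := H83.Segre.exists_mod_elem hP (H83.Segre.tmul_mem_segrePiece (k := k) hz hw)
  obtain ⟨t, ht⟩ := Submodule.mem_span_singleton.mp (show q ∈ Submodule.span T {p} from hgen ▸ Submodule.mem_top)
  have hpn : p ∈ 𝒬 n := H83.Segre.mem_of_segre hP (hp ▸ H83.Segre.tmul_mem_segrePiece hx hy)
  have hcomp : ∀ t : T, φ (Lib.Graded.Basic.proj 𝒬 (n + d) (t • p)) = φ (Lib.Graded.Basic.proj 𝒯 d t • p) := by
    intro t
    induction t using Lib.Graded.Basic.induction_hom 𝒯 with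
    | zero => simp
    | add a b ha hb => rw [add_smul, map_add, map_add, ha, hb, map_add, add_smul, map_add]
    | hom i t hti =>
      have hmem : t • p ∈ 𝒬 (i + n) := by
        refine H83.Segre.mem_of_segre hP ?_
        rw [hP.map_smul, hp]
        refine H83.Segre.act_segre (fun r hr a ha => Lib.Graded.Basic.smul_mem_add 𝒜 ℳ hr ha)
          (fun s hs b hb => Lib.Graded.Basic.smul_mem_add ℬ 𝒩 hs hb) ?_ (H83.Segre.tmul_mem_segrePiece hx hy)
        rw [← hT.2 i]; exact ⟨t, hti, rfl⟩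
      rcases eq_or_ne i d with rfl | hne
      · rw [Lib.Graded.Basic.proj_of_mem 𝒯 hti, Lib.Graded.Basic.proj_of_mem 𝒬 (by rwa [add_comm] at hmem)]
      · rw [Lib.Graded.Basic.proj_of_mem_ne 𝒯 hti hne, zero_smul, Lib.Graded.Basic.proj_of_mem_ne 𝒬 hmem (by omega)]
  have hmain := hcomp t
  rw [ht, Lib.Graded.Basic.proj_of_mem 𝒬 hq, hqe, hP.map_smul, hp] at hmain
  have hψd : ψ (Lib.Graded.Basic.proj 𝒯 d t) ∈ GrSeg.segrePiece k 𝒜 ℬ d := by
    rw [← hT.2 d]; exact ⟨_, Lib.Graded.Basic.proj_mem 𝒯 d t, rfl⟩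
  have hall : ∀ u ∈ GrSeg.segrePiece k 𝒜 ℬ d, ∃ r ∈ 𝒜 d,
      red (GrSeg.act k R S M N u (x ⊗ₜ[k] y)) = r • x := by
    intro u hu
    induction hu using Submodule.span_induction with
    | zero => exact ⟨0, zero_mem _, by simp⟩
    | add u v _ _ hu hv =>
      obtain ⟨r, hr, hr'⟩ := hu; obtain ⟨r', hr2, hr2'⟩ := hv
      exact ⟨r + r', add_mem hr hr2, by rw [map_add, LinearMap.add_apply, map_add, hr', hr2', add_smul]⟩
    | smul c u _ hu =>
      obtain ⟨r, hr, hr'⟩ := hu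
      exact ⟨c • r, Submodule.smul_mem _ c hr, by rw [map_smul, LinearMap.smul_apply, map_smul, hr', smul_assoc]⟩
    | mem u hu =>
      obtain ⟨r, hr, s, hs, rfl⟩ := hu
      exact ⟨χ (s • y) • r, Submodule.smul_mem _ _ hr, by rw [GrSeg.act_tmul, hred, smul_assoc]⟩
  obtain ⟨r, hr, hr'⟩ := hall _ hψd
  rw [← hmain, hred] at hr'
  refine ⟨(χ w)⁻¹ • r, Submodule.smul_mem _ _ hr, ?_⟩
  rw [smul_assoc, ← hr', smul_smul, inv_mul_cancel₀ hχ, one_smul]

end Groth.Agent.S19749
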