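import Groth.Statements.S1975
import Groth.Agent.H48.EtaleValApp
import Groth.Agent.Lib.Henselian.Henselization
import Groth.Agent.Lib.Henselian.StrictHenselization

set_option autoImplicit false
universe u
open EtAlg

namespace Groth.Agent.S1975

open IsLocalRing Groth.Agent.Lib.Henselian.Pointed

theorem key {A S : Type u} [CommRing A] [IsDomain A] [ValuationRing A] [CommRing S] [IsLocalRing S]
    [Algebra A S] [IsLocalHom (algebraMap A S)] {A' : Type u} [CommRing A'] [Algebra A A'] [Algebra.Etale A A']
    (φ : A' →ₐ[A] S) (x : A') :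
    φ x = 0 ∨ ∃ (c : A) (u : Sˣ), c ≠ 0 ∧ φ x = u * algebraMap A S c := by
  let m : Ideal A' := (maximalIdeal S).comap φ.toRingHom
  have hm : m.comap (algebraMap A A') = maximalIdeal A := by
    rw [Ideal.comap_comap, show φ.toRingHom.comp (algebraMap A A') = algebraMap A S from φ.comp_algebraMap]
    exact IsLocalRing.maximalIdeal_comap _
  have hu : ∀ y : m.primeCompl, IsUnit (φ.toRingHom y) := fun y => notMem_maximalIdeal.1 y.2
  let g : Localization.AtPrime m →+* S := IsLocalization.lift hu
  have hg : ∀ y, g (algebraMap A' (Localization.AtPrime m) y) = φ y := IsLocalization.lift_eq hu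
  rcases Groth.Agent.H48.EtaleValApp.eq_zero_or_eq_mul m hm (algebraMap A' _ x) with h | ⟨c, u, hc, h⟩
  · exact Or.inl (by rw [← hg, h, map_zero])
  · refine Or.inr ⟨c, Units.map g u, hc, ?_⟩
    rw [← hg, h, map_mul, Units.coe_map, IsScalarTower.algebraMap_apply A A' (Localization.AtPrime m), hg,
      AlgHom.commutes]
    rfl


/-- Let A be a valuation ring and S a henselization or strict henselization of A. Then S is a valuation
ring, A -> S is injective, and every nonzero element of S is a unit multiple of the image of an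
element of A (the value groups agree). -/
theorem result (A S : Type u) [CommRing A] [IsDomain A] [ValuationRing A] [CommRing S]
    [IsLocalRing S] [Algebra A S] [IsLocalHom (algebraMap A S)]
    (h : Hensel.IsHenselization A S ∨ Hensel.IsStrictHenselization A S) :
    IsDomain S ∧ (∀ _ : IsDomain S, ValuationRing S) ∧ Function.Injective (algebraMap A S) ∧
      ∀ s : S, s ≠ 0 → ∃ (a : A) (u : Sˣ), s = u * algebraMap A S a := by
  classical
  have hinj : Function.Injective (algebraMap A S) := by
    rcases h with h | h
    · have := Groth.Agent.Lib.Henselian.Henselization.faithfullyFlat A S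
      exact FaithfulSMul.algebraMap_injective A S
    · have := Groth.Agent.Lib.Henselian.StrictHenselization.faithfullyFlat A S
      exact FaithfulSMul.algebraMap_injective A S
  have hcov : ∀ s : S, ∃ (A' : Type u) (_ : CommRing A') (_ : Algebra A A') (_ : Algebra.Etale A A')
      (φ : A' →ₐ[A] S), s ∈ Set.range φ := by
    intro s
    rcases h with h | h
    · let e := Groth.Agent.Lib.Henselian.Henselization.equivOfIsHenselization A S
      obtain ⟨A', _, _, _, φ, hφ⟩ := Lim.exists_etale_range {e.symm s}
      obtain ⟨y, hy⟩ := hφ (Finset.mem_singleton_self _)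
      exact ⟨A', inferInstance, inferInstance, inferInstance, e.toAlgHom.comp φ, y, by
        show e (φ y) = s
        rw [hy, e.apply_symm_apply]⟩
    · let e := Groth.Agent.Lib.Henselian.StrictHenselization.equivOfIsStrictHenselization A S
      obtain ⟨A', _, _, _, φ, hφ⟩ := Lim.exists_etale_range {e.symm s}
      obtain ⟨y, hy⟩ := hφ (Finset.mem_singleton_self _)
      exact ⟨A', inferInstance, inferInstance, inferInstance, e.toAlgHom.comp φ, y, by
        show e (φ y) = s
        rw [hy, e.apply_symm_apply]⟩
  have hk : ∀ s : S, s = 0 ∨ ∃ (c : A) (u : Sˣ), c ≠ 0 ∧ s = u * algebraMap A S c := by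
    intro s
    obtain ⟨A', _, _, _, φ, y, rfl⟩ := hcov s
    exact key φ y
  have : NoZeroDivisors S := ⟨fun {a b} hab => by
    rcases hk a with rfl | ⟨c, u, hc, rfl⟩
    · exact Or.inl rfl
    rcases hk b with rfl | ⟨c', u', hc', rfl⟩
    · exact Or.inr rfl
    exfalso
    have : algebraMap A S (c * c') = 0 := by
      refine (u * u').isUnit.mul_right_eq_zero.1 ?_
      rw [← hab, Units.val_mul, map_mul]; ring
    exact mul_ne_zero hc hc' ((map_eq_zero_iff _ hinj).1 this)⟩
  refine ⟨NoZeroDivisors.to_isDomain S, fun _ => ValuationRing.iff_dvd_total.2 ⟨fun x y => ?_⟩, hinj, fun s hs => ?_⟩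
  · rcases hk x with rfl | ⟨c, u, -, rfl⟩
    · exact Or.inr (dvd_zero y)
    rcases hk y with rfl | ⟨c', u', -, rfl⟩
    · exact Or.inl (dvd_zero _)
    rw [Units.mul_left_dvd, Units.mul_left_dvd, Units.dvd_mul_left, Units.dvd_mul_left]
    exact (ValuationRing.dvd_total c c').imp (map_dvd _) (map_dvd _)
  · rcases hk s with h | ⟨c, u, -, h⟩
    · exact absurd h hs
    · exact ⟨c, u, h⟩

end Groth.Agent.S1975
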