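import Groth.Statements.S19750
import Groth.Agent.H83.Segre.Basic

set_option autoImplicit false
universe u
open scoped TensorProduct
open GrSegre

namespace Groth.Agent.S19750

/-- Let R and S be graded rings defined over a field k, both generated over k by their degree-one parts
and of positive Krull dimension, T = R # S with irrelevant ideal T_+, and let a ≥ b be integers.
Then the number of generators ν_T(R(a) # S(b)) = dim_k (R(a) # S(b)) / T_+ (R(a) # S(b)) equals
dim_k R_{a−b}. Here a graded ring defined over k is a commutative k-algebra of finite type, graded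
in nonnegative degrees by k-subspaces with degree-zero part k·1; the Segre product T = R # S = ⊕_n
R_n ⊗_k S_n is presented abstractly as a graded k-algebra T with an injective k-algebra homomorphism
ψ : T → R ⊗_k S carrying T_n onto the k-span of the elementary tensors a ⊗ b with a ∈ R_n, b ∈ S_n;
the Segre product R(a) # S(b) = ⊕_n R_{n+a} ⊗_k S_{n+b} of the shifted modules is presented
abstractly as a graded T-module P with an injective k-linear map φ : P → R ⊗_k S carrying P_n onto
the k-span of the tensors x ⊗ y with x ∈ R_{n+a}, y ∈ S_{n+b} and turning the action of t ∈ T into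
that of ψ(t); T_+ is the ideal spanned by the T_n with n > 0. -/
theorem result (k : Type u) [Field k] (R : Type u) [CommRing R] [Algebra k R] (𝒜 : ℤ → Submodule k R) [GradedAlgebra 𝒜] (hposR : ∀ n : ℤ, n < 0 → 𝒜 n = ⊥) (h0R : 𝒜 0 = Submodule.span k {(1 : R)}) [Algebra.FiniteType k R] (S : Type u) [CommRing S] [Algebra k S] (ℬ : ℤ → Submodule k S) [GradedAlgebra ℬ] (hposS : ∀ n : ℤ, n < 0 → ℬ n = ⊥) (h0S : ℬ 0 = Submodule.span k {(1 : S)}) [Algebra.FiniteType k S] (T : Type u) [CommRing T] [Algebra k T] (𝒯 : ℤ → Submodule k T) [GradedAlgebra 𝒯] (ψ : T →ₐ[k] TensorProduct k R S) (hT : GrSeg.IsSegreRing 𝒜 ℬ 𝒯 ψ) (hstdR : Ideal.span (⋃ n ∈ Set.Ioi (0 : ℤ), (𝒜 n : Set R)) = Ideal.span ((𝒜 1 : Submodule k R) : Set R)) (hstdS : Ideal.span (⋃ n ∈ Set.Ioi (0 : ℤ), (ℬ n : Set S)) = Ideal.span ((ℬ 1 : Submodule k S) : Set S)) (hr1 : 1 ≤ ringKrullDim R) (hs1 : 1 ≤ ringKrullDim S) (mT : HomogeneousIdeal 𝒯) (hmT : mT.toIdeal = Ideal.span (⋃ n ∈ Set.Ioi (0 : ℤ), (𝒯 n : Set T))) (a b : ℤ) (hab : b ≤ a) (P :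 Type u) [AddCommGroup P] [Module T P] [Module k P] [IsScalarTower k T P] (𝒬 : ℤ → AddSubgroup P) [DirectSum.Decomposition 𝒬] (φ : P →ₗ[k] TensorProduct k R S) (hP : GrSeg.IsSegreMod ψ (fun n : ℤ => 𝒜 (n + a)) (fun n : ℤ => ℬ (n + b)) 𝒬 φ) : Module.finrank k (P ⧸ (mT.toIdeal • (⊤ : Submodule T P))) = Module.finrank k (𝒜 (a - b)) := by
  classical
  haveI : Nontrivial S := by
    rcases subsingleton_or_nontrivial S with h | h
    · exfalso
      rw [ringKrullDim_eq_bot_of_subsingleton] at hs1
      exact absurd hs1 (by simp)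
    · exact h
  obtain ⟨χ, hχ, -⟩ := Submodule.exists_le_ker_of_notMem
    (p := (⊥ : Submodule k S)) (fun hc => one_ne_zero ((Submodule.mem_bot k).mp hc))
  have hT' : ∀ n, ∀ t ∈ 𝒯 n, ψ t ∈ GrSeg.segrePiece k 𝒜 ℬ n := fun n t ht => by
    rw [← hT.2 n]; exact ⟨t, ht, rfl⟩
  set Q : Submodule T P := mT.toIdeal • ⊤
  have h1S : (1 : S) ∈ ℬ (-b + b) := by rw [neg_add_cancel]; exact SetLike.GradedOne.one_mem
  have hex : ∀ r : 𝒜 (a - b), ∃ p ∈ 𝒬 (-b), φ p = (r : R) ⊗ₜ[k] (1 : S) := fun r =>
    H83.Segre.exists_mod_elem hP (H83.Segre.tmul_mem_segrePiece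
      (show (r : R) ∈ (fun n : ℤ => 𝒜 (n + a)) (-b) by
        show (r : R) ∈ 𝒜 (-b + a)
        rw [neg_add_eq_sub]; exact r.2) h1S)
  choose g hg hgφ using hex
  let Λ : 𝒜 (a - b) →ₗ[k] P ⧸ Q :=
    { toFun := fun r => Submodule.Quotient.mk (g r)
      map_add' := fun r s => by
        rw [← Submodule.Quotient.mk_add]
        exact congrArg _ (hP.injective (by rw [map_add, hgφ, hgφ, hgφ, Submodule.coe_add, TensorProduct.add_tmul]))
      map_smul' := fun c r => by
        rw [RingHom.id_apply, ← Submodule.Quotient.mk_smul]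
        exact congrArg _ (hP.injective (by rw [map_smul, hgφ, hgφ, Submodule.coe_smul, TensorProduct.smul_tmul'])) }
  have hzero : ∀ n, n < -b → ∀ p ∈ 𝒬 n, p = 0 := by
    intro n hn p hp
    apply hP.injective
    rw [map_zero]
    have h := H83.Segre.mod_mem_segre hP hp
    generalize φ p = w at h ⊢
    induction h using Submodule.span_induction with
    | zero => rfl
    | add u v _ _ hu hv => rw [hu, hv, add_zero]
    | smul c u _ hu => rw [hu, smul_zero]
    | mem z hz =>
      obtain ⟨r, hr, s, hs, rfl⟩ := hz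
      change s ∈ ℬ (n + b) at hs
      rw [hposS _ (by omega), Submodule.mem_bot] at hs
      rw [hs, TensorProduct.tmul_zero]
  have hQlow : ∀ q ∈ Q, Lib.Graded.Basic.proj 𝒬 (-b) q = 0 := by
    intro q hq
    suffices ∀ t ∈ mT.toIdeal, ∀ p : P, Lib.Graded.Basic.proj 𝒬 (-b) (t • p) = 0 by
      induction hq using Submodule.smul_induction_on' with
      | smul t ht p _ => exact this t ht p
      | add u _ v _ hu hv => rw [map_add, hu, hv, add_zero]
    intro t ht
    rw [hmT] at ht
    induction ht using Submodule.span_induction with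
    | zero => intro p; rw [zero_smul, map_zero]
    | add u v _ _ hu hv => intro p; rw [add_smul, map_add, hu, hv, add_zero]
    | smul c u _ hu => intro p; rw [smul_eq_mul, mul_comm, mul_smul]; exact hu _
    | mem t ht =>
      obtain ⟨i, hi, ht⟩ := Set.mem_iUnion₂.mp ht
      rw [Set.mem_Ioi] at hi
      intro p
      induction p using Lib.Graded.Basic.induction_hom 𝒬 with
      | zero => rw [smul_zero, map_zero]
      | add u v hu hv => rw [smul_add, map_add, hu, hv, add_zero]
      | hom n p hp =>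
        have hmem : t • p ∈ 𝒬 (i + n) := by
          refine H83.Segre.mem_of_segre hP ?_
          rw [hP.map_smul]
          exact H83.Segre.act_segre
            (fun r hr a' ha' => by
              show r • a' ∈ 𝒜 (i + n + a)
              rw [add_assoc]; exact SetLike.GradedMul.mul_mem hr ha')
            (fun s hs b' hb' => by
              show s • b' ∈ ℬ (i + n + b)
              rw [add_assoc]; exact SetLike.GradedMul.mul_mem hs hb') (hT' i t ht) (H83.Segre.mod_mem_segre hP hp)
        rcases eq_or_ne (i + n) (-b) with h | h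
        · rw [hzero n (by omega) p hp, smul_zero, map_zero]
        · exact Lib.Graded.Basic.proj_of_mem_ne 𝒬 hmem h
  have hinj : Function.Injective Λ := by
    rw [injective_iff_map_eq_zero]
    intro r hr
    have h := hQlow _ ((Submodule.Quotient.mk_eq_zero Q).mp hr)
    rw [Lib.Graded.Basic.proj_of_mem 𝒬 (hg r)] at h
    have h2 := hgφ r
    rw [h, map_zero] at h2
    have h3 := congrArg ((TensorProduct.rid k R).toLinearMap ∘ₗ TensorProduct.map LinearMap.id χ) h2.symm
    simp only [map_zero, LinearMap.coe_comp, LinearEquiv.coe_coe, Function.comp_apply, TensorProduct.map_tmul,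
      LinearMap.id_apply, TensorProduct.rid_tmul, smul_eq_zero] at h3
    exact Subtype.ext (h3.resolve_left hχ)
  have hhigh : ∀ n, -b < n → ∀ z ∈ GrSeg.segrePiece k (fun n : ℤ => 𝒜 (n + a)) (fun n : ℤ => ℬ (n + b)) n,
      ∃ p ∈ Q, φ p = z := by
    intro n hn z hz
    obtain ⟨m, hm⟩ := Int.eq_ofNat_of_zero_le (show 0 ≤ n + b by omega)
    have hmpos : (m : ℤ) ∈ Set.Ioi (0 : ℤ) := by rw [Set.mem_Ioi]; omega
    induction hz using Submodule.span_induction with
    | zero => exact ⟨0, zero_mem _, map_zero φ⟩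
    | add u v _ _ hu hv =>
      obtain ⟨p, hp, rfl⟩ := hu; obtain ⟨p', hp', rfl⟩ := hv
      exact ⟨p + p', add_mem hp hp', map_add φ p p'⟩
    | smul c u _ hu =>
      obtain ⟨p, hp, rfl⟩ := hu
      exact ⟨c • p, Q.smul_of_tower_mem c hp, map_smul φ c p⟩
    | mem z hz =>
      obtain ⟨r, hr, s, hs, rfl⟩ := hz
      change s ∈ ℬ (n + b) at hs
      change r ∈ 𝒜 (n + a) at hr
      rw [hm] at hs
      rw [show n + a = (a - b) + m by omega] at hr
      have hr' := H83.Segre.piece_mem_span_mul 𝒜 hstdR (a - b) (by omega) m r hr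
      clear hr
      induction hr' using Submodule.span_induction with
      | zero => exact ⟨0, zero_mem _, by rw [map_zero, TensorProduct.zero_tmul]⟩
      | add u v _ _ hu hv =>
        obtain ⟨p, hp, hpe⟩ := hu; obtain ⟨p', hp', hpe'⟩ := hv
        exact ⟨p + p', add_mem hp hp', by rw [map_add, hpe, hpe', TensorProduct.add_tmul]⟩
      | smul c u _ hu =>
        obtain ⟨p, hp, hpe⟩ := hu
        exact ⟨c • p, Q.smul_of_tower_mem c hp, by rw [map_smul, hpe, TensorProduct.smul_tmul']⟩
      | mem r hr =>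
        obtain ⟨u, hu, v, hv, rfl⟩ := hr
        obtain ⟨t, ht, hte⟩ := H83.Segre.exists_ring_elem hT (H83.Segre.tmul_mem_segrePiece (k := k) hu hs)
        have htm : t ∈ mT.toIdeal := hmT ▸ Ideal.subset_span (Set.mem_iUnion₂.mpr ⟨_, hmpos, ht⟩)
        refine ⟨t • g ⟨v, hv⟩, Submodule.smul_mem_smul htm trivial, ?_⟩
        rw [hP.map_smul, hte, hgφ, GrSeg.act_tmul, smul_eq_mul, smul_eq_mul, mul_one]
  have hsurj : Function.Surjective Λ := by
    intro z
    obtain ⟨p, rfl⟩ := Submodule.Quotient.mk_surjective _ z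
    induction p using Lib.Graded.Basic.induction_hom 𝒬 with
    | zero => exact ⟨0, by rw [map_zero, Submodule.Quotient.mk_zero]⟩
    | add u v hu hv =>
      obtain ⟨x, hx⟩ := hu; obtain ⟨y, hy⟩ := hv
      exact ⟨x + y, by rw [map_add, hx, hy, Submodule.Quotient.mk_add]⟩
    | hom n p hp =>
      rcases lt_trichotomy n (-b) with h | rfl | h
      · exact ⟨0, by rw [map_zero, hzero n h p hp, Submodule.Quotient.mk_zero]⟩
      · have hz := H83.Segre.mod_mem_segre hP hp
        suffices ∃ r, φ p = φ (g r) by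
          obtain ⟨r, hr⟩ := this
          exact ⟨r, congrArg Submodule.Quotient.mk (hP.injective hr).symm⟩
        clear hp
        generalize φ p = w at hz ⊢
        induction hz using Submodule.span_induction with
        | zero => exact ⟨0, by rw [hgφ, Submodule.coe_zero, TensorProduct.zero_tmul]⟩
        | add u v _ _ hu hv =>
          obtain ⟨x, hx⟩ := hu; obtain ⟨y, hy⟩ := hv
          exact ⟨x + y, by rw [hx, hy, hgφ, hgφ, hgφ, Submodule.coe_add, TensorProduct.add_tmul]⟩
        | smul c u _ hu =>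
          obtain ⟨x, hx⟩ := hu
          exact ⟨c • x, by rw [hx, hgφ, hgφ, Submodule.coe_smul, TensorProduct.smul_tmul']⟩
        | mem z hz =>
          obtain ⟨r, hr, s, hs, rfl⟩ := hz
          change s ∈ ℬ (-b + b) at hs
          change r ∈ 𝒜 (-b + a) at hr
          rw [neg_add_cancel, h0S, Submodule.mem_span_singleton] at hs
          obtain ⟨c, rfl⟩ := hs
          rw [neg_add_eq_sub] at hr
          exact ⟨c • ⟨r, hr⟩, by rw [hgφ, Submodule.coe_smul, TensorProduct.smul_tmul]⟩
      · obtain ⟨p', hp', he⟩ := hhigh n h _ (H83.Segre.mod_mem_segre hP hp)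
        exact ⟨0, by rw [map_zero]; exact ((Submodule.Quotient.mk_eq_zero Q).mpr (hP.injective he ▸ hp')).symm⟩
  exact (LinearEquiv.ofBijective Λ ⟨hinj, hsurj⟩).finrank_eq.symm

end Groth.Agent.S19750
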