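import Groth.Statements.S19751
import Groth.Agent.H83.GrDual.Basic

set_option autoImplicit false
universe u
open GrDual

namespace Groth.Agent.S19751

/-- Let R be a graded ring defined over a field k with m = R_+, let F and M be finitely generated graded
R-modules and f : F → M a surjective homomorphism of graded R-modules, with dual f^* : M^* → F^* on
graded k-duals. Then f is minimal, that is Ker f ⊆ m F, if and only if f^* is essential: an
injective homomorphism of graded modules such that every nonzero graded submodule of F^* meets its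
image. Here a graded ring defined over k is a commutative k-algebra of finite type, graded in
nonnegative degrees by k-subspaces with degree-zero part k·1, and R_+ is the ideal spanned by the
R_n with n > 0; the graded k-dual M^* = ⊕_n Hom_k(M_{−n}, k) of a graded R-module M (with r ∈ R
acting by (r f)(x) = f(r x)) is presented abstractly as a graded R-module D with a k-bilinear
pairing β : D × M → k compatible with the R-actions, under which D_n pairs to zero with M_m for m ≠
−n and is identified with the full dual space of M_{−n}; f^* is presented as the R-linear map g :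
M^* → F^* with β_F(g d, x) = β_M(d, f x). -/
theorem result (k : Type u) [Field k] (R : Type u) [CommRing R] [Algebra k R] (𝒜 : ℤ → Submodule k R) [GradedAlgebra 𝒜] (hposR : ∀ n : ℤ, n < 0 → 𝒜 n = ⊥) (h0R : 𝒜 0 = Submodule.span k {(1 : R)}) [Algebra.FiniteType k R] (mR : HomogeneousIdeal 𝒜) (hmR : mR.toIdeal = Ideal.span (⋃ n ∈ Set.Ioi (0 : ℤ), (𝒜 n : Set R))) (F : Type u) [AddCommGroup F] [Module R F] [Module k F] [IsScalarTower k R F] (ℱ : ℤ → AddSubgroup F) [DirectSum.Decomposition ℱ] [SetLike.GradedSMul 𝒜 ℱ] [Module.Finite R F] (M : Type u) [AddCommGroup M] [Module R M] [Module k M] [IsScalarTower k R M] (ℳ : ℤ → AddSubgroup M) [DirectSum.Decomposition ℳ] [SetLike.GradedSMul 𝒜 ℳ] [Module.Finite R M] (f : F →ₗ[R] M) (hf : Function.Surjective f) (hfgr : GrLC.IsGrHom ℱ ℳ f) (DM : Type u) [AddCommGroup DM] [Module R DM] [Module k DM] [IsScalarTower k R DM] (𝒟M : ℤ → AddSubgroup DM) [DirectSum.Decomposition 𝒟M] [SetLike.GradedSMul 𝒜 𝒟M] (βM : DM →ₗ[k] M →ₗ[k] k) (hDM : GrSeg.IsGDual R ℳ 𝒟M βM) (DF : Type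 u) [AddCommGroup DF] [Module R DF] [Module k DF] [IsScalarTower k R DF] (𝒟F : ℤ → AddSubgroup DF) [DirectSum.Decomposition 𝒟F] [SetLike.GradedSMul 𝒜 𝒟F] (βF : DF →ₗ[k] F →ₗ[k] k) (hDF : GrSeg.IsGDual R ℱ 𝒟F βF) (g : DM →ₗ[R] DF) (hg : GrSeg.IsGDualMap βM βF f g) : LinearMap.ker f ≤ mR.toIdeal • (⊤ : Submodule R F) ↔ GrLC.IsStarEss 𝒟M 𝒟F g := by
  haveI : IsNoetherianRing R := Algebra.FiniteType.isNoetherianRing k R
  classical
  have hginj : Function.Injective g := by
    rw [injective_iff_map_eq_zero]
    intro d hd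
    refine H83.GrDual.eq_zero_of_pair hDM fun y => ?_
    obtain ⟨x, rfl⟩ := hf y
    rw [← hg, hd, map_zero, LinearMap.zero_apply]
  have hggr : GrLC.IsGrHom 𝒟M 𝒟F g := by
    intro n d hd
    have hz : ∀ j, j ≠ n → Lib.Graded.Basic.proj 𝒟F j (g d) = 0 := fun j hj => by
      refine hDF.eq_zero j _ (Lib.Graded.Basic.proj_mem 𝒟F j _) fun x hx => ?_
      have := H83.GrDual.pair_left hDF hx (g d)
      rw [neg_neg] at this
      rw [← this, hg]
      exact hDM.vanish n d hd (-j) (by omega) _ (hfgr _ _ hx)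
    have : g d = Lib.Graded.Basic.proj 𝒟F n (g d) := by
      refine Lib.Graded.Basic.eq_of_proj 𝒟F fun j => ?_
      rcases eq_or_ne j n with rfl | hj
      · rw [Lib.Graded.Basic.proj_of_mem 𝒟F (Lib.Graded.Basic.proj_mem 𝒟F _ _)]
      · rw [hz j hj, Lib.Graded.Basic.proj_of_mem_ne 𝒟F (Lib.Graded.Basic.proj_mem 𝒟F _ _) hj.symm]
    rw [this]; exact Lib.Graded.Basic.proj_mem 𝒟F n _
  have hrange : ∀ n, ∀ e ∈ 𝒟F n, (e ∈ LinearMap.range g ↔ ∀ x ∈ LinearMap.ker f, βF e x = 0) := by
    intro n e he
    constructor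
    · rintro ⟨d, rfl⟩ x hx
      rw [hg, LinearMap.mem_ker.mp hx, map_zero]
    · intro hker
      obtain ⟨s, hs⟩ := (f.restrictScalars k).exists_rightInverse_of_surjective (LinearMap.range_eq_top.mpr hf)
      obtain ⟨d, hd, hde⟩ := hDM.exists_eq n ((βF e).comp s)
      refine ⟨d, H83.GrDual.eq_of_pair hDF fun x => ?_⟩
      rw [hg]
      induction x using Lib.Graded.Basic.induction_hom ℱ with
      | zero => simp
      | add a b ha hb => rw [map_add, map_add, ha, hb, map_add]
      | hom j x hx =>
        rcases eq_or_ne j (-n) with rfl | hj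
        · rw [hde _ (hfgr _ _ hx), LinearMap.comp_apply]
          have h2 : f (s (f x) - x) = 0 := by
            rw [map_sub, sub_eq_zero]; exact LinearMap.congr_fun hs (f x)
          have := hker _ (LinearMap.mem_ker.mpr h2)
          rwa [map_sub, sub_eq_zero] at this
        · rw [hDM.vanish n d hd j hj _ (hfgr _ _ hx), hDF.vanish n e he j hj x hx]
  have hpos : ∀ j, ∀ r ∈ 𝒜 j, 0 < j → r ∈ mR.toIdeal := fun j r hr hj => by
    rw [hmR]; exact Ideal.subset_span (Set.mem_iUnion₂.mpr ⟨j, hj, hr⟩)
  constructor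
  · intro hle
    refine ⟨hginj, hggr, fun P hP hne => ?_⟩
    obtain ⟨n, d, hd, hdP, hd0⟩ := Lib.Graded.Basic.exists_hom_mem_ne_zero hP hne
    obtain ⟨b, hb⟩ := H83.GrDual.exists_bound 𝒜 ℱ hposR
    have hex : ∀ l : ℕ, ∀ i, ∀ e ∈ 𝒟F i, e ∈ P → e ≠ 0 → -b - i < l → ∃ j, ∃ e' ∈ 𝒟F j, e' ∈ P ∧ e' ≠ 0 ∧
        ∀ r ∈ mR.toIdeal, r • e' = 0 := by
      intro l
      induction l with
      | zero =>
        intro i e he _ he0 hl
        exact absurd (hDF.eq_zero i e he fun x hx => by rw [hb (-i) (by omega) x hx, map_zero]) he0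
      | succ l ih =>
        intro i e he heP he0 hl
        by_cases hz : ∀ j, 0 < j → ∀ r ∈ 𝒜 j, r • e = 0
        · refine ⟨i, e, he, heP, he0, fun r hr => ?_⟩
          rw [hmR] at hr
          induction hr using Submodule.span_induction with
          | mem r hr => obtain ⟨j, hj, hr⟩ := Set.mem_iUnion₂.mp hr; exact hz j hj r hr
          | zero => exact zero_smul _ _
          | add u v _ _ hu hv => rw [add_smul, hu, hv, add_zero]
          | smul c u _ hu => rw [smul_assoc, hu, smul_zero]
        · push Not at hz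
          obtain ⟨j, hj, r, hr, hre⟩ := hz
          exact ih (j + i) (r • e) (Lib.Graded.Basic.smul_mem_add 𝒜 𝒟F hr he) (P.smul_mem r heP) hre (by push_cast at hl; omega)
    obtain ⟨j, e, he, heP, he0, hm⟩ := hex (-b - n + 1).toNat n d hd hdP hd0 (by omega)
    refine (Submodule.ne_bot_iff _).mpr ⟨e, ⟨heP, (hrange j e he).mpr fun x hx => ?_⟩, he0⟩
    have hx' := hle hx
    clear hx
    induction hx' using Submodule.smul_induction_on' with
    | smul r hr y _ => rw [← hDF.map_smul, hm r hr, map_zero, LinearMap.zero_apply]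
    | add a ha' b hb' ha hb => rw [map_add, ha, hb, add_zero]
  · intro hess
    refine Lib.Graded.Basic.le_of_hom (Lib.Graded.Basic.isHomogeneous_ker hfgr) fun m x hx hxk => ?_
    by_contra hxm
    set Q : Submodule R F := mR.toIdeal • ⊤
    have hQhom : Q.IsHomogeneous ℱ := by
      intro i y hy
      induction hy using Submodule.smul_induction_on' with
      | smul r hr y hy' =>
        clear hy'
        induction y using Lib.Graded.Basic.induction_hom ℱ with
        | zero => simp
        | add a b ha hb =>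
          rw [smul_add, DirectSum.decompose_add, DirectSum.add_apply, AddMemClass.coe_add]
          exact add_mem ha hb
        | hom l y hy =>
          show Lib.Graded.Basic.proj ℱ i (r • y) ∈ Q
          rw [Lib.Graded.Basic.proj_smul_mem 𝒜 ℱ hy]
          exact Submodule.smul_mem_smul (mR.isHomogeneous _ hr) trivial
      | add a _ c _ ha hc =>
        rw [DirectSum.decompose_add, DirectSum.add_apply, AddMemClass.coe_add]
        exact add_mem ha hc
    obtain ⟨ψ, hψ, hψQ⟩ := Submodule.exists_le_ker_of_notMem (p := Q.restrictScalars k) hxm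
    obtain ⟨d, hd, hde⟩ := hDF.exists_eq (-m) ψ
    rw [neg_neg] at hde
    have hkill : ∀ j, 0 < j → ∀ r ∈ 𝒜 j, r • d = 0 := fun j hj r hr =>
      H83.GrDual.eq_zero_of_pair hDF fun y => by
        rw [hDF.map_smul, H83.GrDual.pair_right hDF hd, neg_neg, hde _ (Lib.Graded.Basic.proj_mem ℱ m _)]
        exact hψQ (hQhom m (Submodule.smul_mem_smul (hpos j r hr hj) trivial))
    have hd0 : d ≠ 0 := fun h => hψ (by rw [← hde x hx, h, map_zero, LinearMap.zero_apply])
    have hspan : ∀ r : R, ∃ c : k, r • d = c • d := by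
      intro r
      induction r using Lib.Graded.Basic.induction_hom 𝒜 with
      | zero => exact ⟨0, by simp⟩
      | add a c ha hc =>
        obtain ⟨u, hu⟩ := ha; obtain ⟨v, hv⟩ := hc
        exact ⟨u + v, by rw [add_smul, add_smul, hu, hv]⟩
      | hom j r hr =>
        rcases lt_trichotomy j 0 with hj | rfl | hj
        · rw [hposR j hj, Submodule.mem_bot] at hr
          exact ⟨0, by rw [hr, zero_smul, zero_smul]⟩
        · rw [h0R, Submodule.mem_span_singleton] at hr
          obtain ⟨c, rfl⟩ := hr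
          exact ⟨c, by rw [smul_assoc, one_smul]⟩
        · exact ⟨0, by rw [hkill j hj r hr, zero_smul]⟩
    have hne := hess.essential (Submodule.span R {d}) (Lib.Graded.Basic.isHomogeneous_span 𝒜 𝒟F (by rintro y rfl; exact ⟨-m, hd⟩))
      (by rw [Ne, Submodule.span_singleton_eq_bot]; exact hd0)
    obtain ⟨y, ⟨hy, hyr⟩, hy0⟩ := (Submodule.ne_bot_iff _).mp hne
    obtain ⟨r, rfl⟩ := Submodule.mem_span_singleton.mp hy
    obtain ⟨c, hc⟩ := hspan r
    rw [hc] at hyr hy0
    have hc0 : c ≠ 0 := fun h => hy0 (by rw [h, zero_smul])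
    have hdr : d ∈ LinearMap.range g := by
      have := (LinearMap.range g).smul_of_tower_mem c⁻¹ hyr
      rwa [smul_smul, inv_mul_cancel₀ hc0, one_smul] at this
    refine hψ ?_
    rw [← hde x hx]
    exact (hrange (-m) d hd).mp hdr x hxk

end Groth.Agent.S19751
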