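import Groth.Statements.S19752
import Groth.Agent.H83.GrDual.Basic

set_option autoImplicit false
universe u
open GrDual

namespace Groth.Agent.S19752

/-- Let R = ⊕_{n ≥ 0} R_n be a Noetherian graded ring with R_0 = k a field, m = R_+ and k = R/m. Then
the graded k-dual R^* = ⊕_n Hom_k(R_{−n}, k) is the injective envelope of R/m in the category of
graded R-modules: for every injective homomorphism of graded R-modules e : R/m → R^*, the module R^*
is an injective object of the graded category and every nonzero graded submodule of R^* meets the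
image of e. Here a graded ring defined over k is a commutative k-algebra of finite type, graded in
nonnegative degrees by k-subspaces with degree-zero part k·1, and R_+ is the ideal spanned by the
R_n with n > 0 (a Noetherian such ring is the same as one of finite type over k); the graded k-dual
M^* = ⊕_n Hom_k(M_{−n}, k) of a graded R-module M (with r ∈ R acting by (r f)(x) = f(r x)) is
presented abstractly as a graded R-module D with a k-bilinear pairing β : D × M → k compatible with
the R-actions, under which D_n pairs to zero with M_m for m ≠ −n and is identified with the full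
dual space of M_{−n}. -/
theorem result (k : Type u) [Field k] (R : Type u) [CommRing R] [Algebra k R] (𝒜 : ℤ → Submodule k R) [GradedAlgebra 𝒜] (hposR : ∀ n : ℤ, n < 0 → 𝒜 n = ⊥) (h0R : 𝒜 0 = Submodule.span k {(1 : R)}) [Algebra.FiniteType k R] (mR : HomogeneousIdeal 𝒜) (hmR : mR.toIdeal = Ideal.span (⋃ n ∈ Set.Ioi (0 : ℤ), (𝒜 n : Set R))) (D : Type u) [AddCommGroup D] [Module R D] [Module k D] [IsScalarTower k R D] (𝒟 : ℤ → AddSubgroup D) [DirectSum.Decomposition 𝒟] [SetLike.GradedSMul 𝒜 𝒟] (β : D →ₗ[k] R →ₗ[k] k) (hD : GrSeg.IsGDual R 𝒜 𝒟 β) (e : (R ⧸ mR.toIdeal) →ₗ[R] D) (he : Function.Injective e) (hegr : GrLC.IsGrHom (GrLC.quotGr 𝒜 mR) 𝒟 e) : GrLC.IsStarInjHull 𝒜 (GrLC.quotGr 𝒜 mR) 𝒟 e := by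
  have h1 : (1 : R) ∈ 𝒜 0 := SetLike.GradedOne.one_mem
  have he1 : e 1 ∈ 𝒟 0 := hegr 0 1 ⟨1, h1, rfl⟩
  have h10 : (1 : R) ∈ mR.toIdeal → (1 : R) = 0 := by
    intro h1m
    have h0 : Lib.Graded.Basic.proj 𝒜 0 (1 : R) = 0 := by
      rw [hmR] at h1m
      suffices ∀ r ∈ Ideal.span (⋃ n ∈ Set.Ioi (0 : ℤ), (𝒜 n : Set R)), ∀ c : R,
          Lib.Graded.Basic.proj 𝒜 0 (c • r) = 0 by simpa using this 1 h1m 1
      intro r hr
      induction hr using Submodule.span_induction with
      | zero => simp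
      | add u v _ _ hu hv => intro c; rw [smul_add, map_add, hu, hv, add_zero]
      | smul a u _ hu => intro c; rw [← mul_smul]; exact hu _
      | mem r hr =>
        obtain ⟨n, hn, hr⟩ := Set.mem_iUnion₂.mp hr
        intro c
        rw [Set.mem_Ioi] at hn
        induction c using Lib.Graded.Basic.induction_hom 𝒜 with
        | zero => simp
        | add a b ha hb => rw [add_smul, map_add, ha, hb, add_zero]
        | hom j c hc =>
          rcases lt_or_ge j 0 with hj | hj
          · rw [hposR j hj, Submodule.mem_bot] at hc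
            subst hc; simp
          · exact Lib.Graded.Basic.proj_of_mem_ne 𝒜
              (Lib.Graded.Basic.smul_mem' 𝒜 𝒜 hc hr rfl) (by omega)
    rw [Lib.Graded.Basic.proj_of_mem 𝒜 h1] at h0
    exact h0
  have hone : ∀ d ∈ 𝒟 0, β d 1 = 0 → d = 0 := fun d hd h => hD.eq_zero 0 d hd fun x hx => by
    rw [neg_zero, h0R, Submodule.mem_span_singleton] at hx
    obtain ⟨c, rfl⟩ := hx
    rw [map_smul, h, smul_zero]
  refine ⟨⟨he, hegr, fun P hP hne => ?_⟩, ?_⟩
  · obtain ⟨n, d, hd, hdP, hd0⟩ := Lib.Graded.Basic.exists_hom_mem_ne_zero hP hne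
    obtain ⟨r, hr, hrd⟩ : ∃ r ∈ 𝒜 (-n), β d r ≠ 0 := by
      by_contra hc
      push Not at hc
      exact hd0 (hD.eq_zero n d hd hc)
    have hmem : r • d ∈ 𝒟 0 := Lib.Graded.Basic.smul_mem' 𝒜 𝒟 hr hd (neg_add_cancel n)
    have hb : β (r • d) 1 ≠ 0 := by rwa [hD.map_smul, smul_eq_mul, mul_one]
    have hb0 : β (e 1) 1 ≠ 0 := fun h => by
      have h2 : (1 : R ⧸ mR.toIdeal) = 0 := he ((hone _ he1 h).trans (map_zero e).symm)
      rw [← (Ideal.Quotient.mk mR.toIdeal).map_one] at h2
      exact hd0 (by rw [← one_smul R d, h10 (Ideal.Quotient.eq_zero_iff_mem.mp h2), zero_smul])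
    have key : r • d = (β (r • d) 1 / β (e 1) 1) • e 1 := by
      refine sub_eq_zero.mp (hone _ (sub_mem hmem (H83.GrDual.smul_mem_piece 𝒜 𝒟 he1 _)) ?_)
      rw [map_sub, LinearMap.sub_apply, map_smul β (β (r • d) 1 / β (e 1) 1) (e 1), LinearMap.smul_apply, smul_eq_mul, div_mul_cancel₀ _ hb0, sub_self]
    refine (Submodule.ne_bot_iff _).mpr ⟨r • d, ⟨P.smul_mem r hdP, ?_⟩, fun h => hb (by rw [h, map_zero, LinearMap.zero_apply])⟩
    rw [key, ← algebraMap_smul R]
    exact Submodule.smul_mem _ _ ⟨1, rfl⟩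
  · intro A B f hf hinj g hg
    letI : Module k A.carrier := Module.compHom _ (algebraMap k R)
    haveI : IsScalarTower k R A.carrier := IsScalarTower.of_algebraMap_smul fun c x => rfl
    letI : Module k B.carrier := Module.compHom _ (algebraMap k R)
    haveI : IsScalarTower k R B.carrier := IsScalarTower.of_algebraMap_smul fun c x => rfl
    obtain ⟨L, hL⟩ := (f.restrictScalars k).exists_leftInverse_of_injective (LinearMap.ker_eq_bot.mpr hinj)
    let ψ : A.carrier →ₗ[k] k := (β.flip 1).comp (g.restrictScalars k)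
    obtain ⟨h, hh, hdeg⟩ := H83.GrDual.exists_coHom 𝒜 hD B.gr 0 (ψ.comp L)
    refine ⟨h, fun j x hx => by simpa using hdeg j x hx, ?_⟩
    refine Lib.Graded.Basic.ext_hom (ℳ := A.gr) fun j a ha => H83.GrDual.eq_of_pair hD fun r => ?_
    rw [LinearMap.comp_apply, hh, ← map_smul f, ← Lib.Graded.Basic.map_proj hf, LinearMap.comp_apply]
    have h2 : ∀ y, L (f y) = y := fun y => LinearMap.congr_fun hL y
    rw [h2]
    show β (g (Lib.Graded.Basic.proj A.gr 0 (r • a))) 1 = β (g a) r
    rw [Lib.Graded.Basic.map_proj hg, map_smul]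
    have h3 := H83.GrDual.pair_left (ℳ := 𝒜) hD h1 (r • g a)
    rw [neg_zero] at h3
    rw [← h3, hD.map_smul, smul_eq_mul, mul_one]

end Groth.Agent.S19752
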