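import Groth.Statements.S19759
import Groth.Agent.Lib.Graded.TopH
import Mathlib.RingTheory.FiniteType

set_option autoImplicit false
universe u
open GrDual

set_option maxHeartbeats 2000000
namespace Groth.Agent.S19759

open Groth.Agent.Lib.Graded Groth.Agent.Lib.Graded.StarInj

/-- Let R be a graded ring defined over a field k with m = R_+ and n = dim R, K_R = (H^n_m(R))^* its
canonical module, and M a finitely generated graded R-module. Then (H^n_m(M))^* ≅ Hom_R(M, K_R) as
graded R-modules. Stated here as the existence of an R-linear isomorphism carrying the degree-d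
piece of (H^n_m(M))^* into the maps M → K_R homogeneous of degree d (existence of an isomorphism
only; the published one is natural in M). Here a graded ring defined over k is a commutative
k-algebra of finite type, graded in nonnegative degrees by k-subspaces with degree-zero part k·1,
and R_+ is the ideal spanned by the R_n with n > 0; the graded k-dual M^* = ⊕_n Hom_k(M_{−n}, k) of
a graded R-module M (with r ∈ R acting by (r f)(x) = f(r x)) is presented abstractly as a graded
R-module D with a k-bilinear pairing β : D × M → k compatible with the R-actions, under which D_n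
pairs to zero with M_m for m ≠ −n and is identified with the full dual space of M_{−n}; graded local
cohomology with its homogeneous pieces is computed from *injective resolutions in the graded
category and carries the k-vector space structures given. -/
theorem result (k : Type u) [Field k] (R : Type u) [CommRing R] [Algebra k R] (𝒜 : ℤ → Submodule k R) [GradedAlgebra 𝒜] (hposR : ∀ n : ℤ, n < 0 → 𝒜 n = ⊥) (h0R : 𝒜 0 = Submodule.span k {(1 : R)}) [Algebra.FiniteType k R] (mR : HomogeneousIdeal 𝒜) (hmR : mR.toIdeal = Ideal.span (⋃ n ∈ Set.Ioi (0 : ℤ), (𝒜 n : Set R))) (n : ℕ) (hn : ringKrullDim R = n) (I : GrLC.StarInjRes 𝒜 𝒜) [Module k (I.H mR n)] [IsScalarTower k R (I.H mR n)] [DirectSum.Decomposition (I.Hgr mR n)] (K : Type u) [AddCommGroup K] [Module R K] [Module k K] [IsScalarTower k R K] (𝒦 : ℤ → AddSubgroup K) [DirectSum.Decomposition 𝒦] [SetLike.GradedSMul 𝒜 𝒦] (βK : K →ₗ[k] I.H mR n →ₗ[k] k) (hK : GrSeg.IsGDual R (I.Hgr mR n) 𝒦 βK) (M : Type u) [AddCommGroup M] [Module R M] [Module k M] [IsScalarTower k R M]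 (ℳ : ℤ → AddSubgroup M) [DirectSum.Decomposition ℳ] [SetLike.GradedSMul 𝒜 ℳ] [Module.Finite R M] (EM : GrLC.StarInjRes 𝒜 ℳ) [Module k (EM.H mR n)] [IsScalarTower k R (EM.H mR n)] [DirectSum.Decomposition (EM.Hgr mR n)] (D : Type u) [AddCommGroup D] [Module R D] [Module k D] [IsScalarTower k R D] (𝒟 : ℤ → AddSubgroup D) [DirectSum.Decomposition 𝒟] [SetLike.GradedSMul 𝒜 𝒟] (βD : D →ₗ[k] EM.H mR n →ₗ[k] k) (hD : GrSeg.IsGDual R (EM.Hgr mR n) 𝒟 βD) : ∃ ε : D ≃ₗ[R] (M →ₗ[R] K), GrLC.IsGrHom 𝒟 (fun d : ℤ => (GrLC.homDeg 𝒜 ℳ 𝒦 d).toAddSubgroup) ε.toLinearMap := by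
  classical
  haveI : IsNoetherianRing R := Algebra.FiniteType.isNoetherianRing k R
  have hβK : ∀ κ : K, (∀ z, βK κ z = 0) → κ = 0 := fun κ hκ =>
    Basic.eq_zero_of_proj 𝒦 fun g => hK.eq_zero g _ (Basic.proj_mem 𝒦 g κ) fun z hz => by
      have h1 : βK κ z = ∑ i ∈ Basic.supp 𝒦 κ, βK (Basic.proj 𝒦 i κ) z := by
        conv_lhs => rw [← Basic.sum_proj 𝒦 κ, map_sum, LinearMap.sum_apply]
      rw [hκ z, Finset.sum_eq_single g
        (fun b _ hb => hK.vanish b _ (Basic.proj_mem 𝒦 b κ) (-g) (fun h => hb (neg_injective h).symm) z hz)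
        (fun hg => by rw [Basic.mem_supp, not_not] at hg; rw [hg, map_zero, LinearMap.zero_apply])] at h1
      exact h1.symm
  have hβD : ∀ δ : D, (∀ z, βD δ z = 0) → δ = 0 := fun δ hδ =>
    Basic.eq_zero_of_proj 𝒟 fun g => hD.eq_zero g _ (Basic.proj_mem 𝒟 g δ) fun z hz => by
      have h1 : βD δ z = ∑ i ∈ Basic.supp 𝒟 δ, βD (Basic.proj 𝒟 i δ) z := by
        conv_lhs => rw [← Basic.sum_proj 𝒟 δ, map_sum, LinearMap.sum_apply]
      rw [hδ z, Finset.sum_eq_single g
        (fun b _ hb => hD.vanish b _ (Basic.proj_mem 𝒟 b δ) (-g) (fun h => hb (neg_injective h).symm) z hz)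
        (fun hg => by rw [Basic.mem_supp, not_not] at hg; rw [hg, map_zero, LinearMap.zero_apply])] at h1
      exact h1.symm
  let X : GrLC.GMod.{u} 𝒜 := GrLC.GMod.of 𝒜 M ℳ
  have hX : Module.Finite R X.carrier := ‹Module.Finite R M›
  let η : M →+ (I.H mR n →ₗ[R] EM.H mR n) := TopH.eta mR n I EM
  have hηsmul : ∀ (r : R) (x : M) z, η (r • x) z = η x (r • z) := fun r x z => TopH.eta_smul mR n I EM r x z
  have hdim : ringKrullDim R ≤ (n : WithBot ℕ∞) := hn.le
  -- one element of the dual gives, on each element, an element of `K`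
  have key : ∀ (δ : D) (x : M), ∃ κ : K, ∀ z, βK κ z = βD δ (η x z) := by
    intro δ x
    induction δ using Basic.induction_hom 𝒟 with
    | zero => exact ⟨0, fun z => by simp⟩
    | add a b ha hb =>
      obtain ⟨u, hu⟩ := ha
      obtain ⟨v, hv⟩ := hb
      exact ⟨u + v, fun z => by simp [hu, hv]⟩
    | hom j δ hδ =>
      induction x using Basic.induction_hom ℳ with
      | zero => exact ⟨0, fun z => by simp⟩
      | add a b ha hb =>
        obtain ⟨u, hu⟩ := ha
        obtain ⟨v, hv⟩ := hb
        exact ⟨u + v, fun z => by simp [hu, hv]⟩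
      | hom g x hx =>
        obtain ⟨κ, hκ, hκz⟩ := hK.exists_eq (j + g) (βD δ ∘ₗ (η x).restrictScalars k)
        refine ⟨κ, fun z => ?_⟩
        induction z using Basic.induction_hom (I.Hgr mR n) with
        | zero => simp
        | add a b ha hb => simp [ha, hb]
        | hom l z hz =>
          by_cases hl : l = -(j + g)
          · subst hl; exact hκz z hz
          · rw [hK.vanish _ κ hκ l hl z hz,
              hD.vanish j δ hδ (l + g) (by omega) _ (TopH.eta_mem mR n I EM hx hz)]
  choose F hF using key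
  have huniq : ∀ κ κ' : K, (∀ z, βK κ z = βK κ' z) → κ = κ' := fun κ κ' h =>
    sub_eq_zero.1 (hβK _ fun z => by rw [map_sub, LinearMap.sub_apply, h z, sub_self])
  let Φ : D →ₗ[R] (M →ₗ[R] K) :=
    { toFun := fun δ =>
        { toFun := F δ
          map_add' := fun x y => huniq _ _ fun z => by simp [hF]
          map_smul' := fun r x => huniq _ _ fun z => by
            rw [hF, hηsmul, RingHom.id_apply, hK.map_smul, hF] }
      map_add' := fun δ δ' => LinearMap.ext fun x => huniq _ _ fun z => by simp [hF]
      map_smul' := fun r δ => LinearMap.ext fun x => huniq _ _ fun z => by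
        change βK (F (r • δ) x) z = βK (r • F δ x) z
        rw [hF, hD.map_smul, hK.map_smul, hF, map_smul (η x)] }
  have hΦ : ∀ δ x z, βK (Φ δ x) z = βD δ (η x z) := hF
  have hgen : ∀ w : EM.H mR n,
      w ∈ AddSubgroup.closure {v : EM.H mR n | ∃ (g : ℤ) (x : M), x ∈ ℳ g ∧ ∃ z, η x z = v} := fun w =>
    TopH.mem_closure_eta mR n I hdim (X := X) hX EM w
  have hinj : Function.Injective Φ := (injective_iff_map_eq_zero Φ).2 fun δ hδ => hβD δ fun w => by
    induction hgen w using AddSubgroup.closure_induction with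
    | mem v hv =>
      obtain ⟨g, x, -, z, rfl⟩ := hv
      change βD δ (η x z) = 0
      rw [← hΦ, hδ, LinearMap.zero_apply, map_zero, LinearMap.zero_apply]
    | zero => rw [map_zero]
    | add a b _ _ ha hb => rw [map_add, ha, hb, add_zero]
    | neg a _ ha => rw [map_neg, ha, neg_zero]
  have hsurj : Function.Surjective Φ := by
    intro h
    obtain ⟨N, deg, π, hπ, hπs⟩ := ExtStarInj.exists_cover 𝒜 X hX
    obtain ⟨E⟩ := Res.nonempty_starInjRes 𝒜 (ExtStarInj.freeMod 𝒜 deg).gr
    haveI : Module.Finite R (ExtStarInj.freeMod 𝒜 deg).carrier := inferInstanceAs (Module.Finite R (Fin N → R))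
    obtain ⟨p, hpdeg, hp, hpη⟩ := TopH.free_decomp mR n I deg E
    let ψ : E.H mR n →ₗ[R] EM.H mR n := (Chain.lift E EM π).hMap mR n
    have hψs : Function.Surjective ψ := TopH.hMap_surjective mR n hdim inferInstance hπ hπs E EM
    have hψdeg : GrLC.IsGrHom (E.Hgr mR n) (EM.Hgr mR n) ψ := Chain.Map.hMap_grHom mR _ n
    let e : Fin N → (ExtStarInj.freeMod 𝒜 deg).carrier := fun i => (Pi.single i (1 : R) : Fin N → R)
    let lam : E.H mR n →+ k :=
      AddMonoidHom.mk' (fun w => ∑ i, βK (h (π (e i))) (p i w))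
        fun a b => by simp only [map_add, Finset.sum_add_distrib]
    have hlamη : ∀ (y : (ExtStarInj.freeMod 𝒜 deg).carrier) z, lam (TopH.eta mR n I E y z) = βK (h (π y)) z := by
      intro y z
      change ∑ i, βK (h (π (e i))) (p i (TopH.eta mR n I E y z)) = _
      simp only [hpη, ← hK.map_smul, ← map_smul]
      rw [← LinearMap.sum_apply, ← map_sum, ← map_sum]
      have hy' : ∑ i, (show Fin N → R from y) i • e i = y := by
        change ∑ i, (show Fin N → R from y) i • (Pi.single i (1 : R) : Fin N → R) = y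
        simp only [← Pi.single_smul, smul_eq_mul, mul_one]
        exact Finset.univ_sum_single _
      refine congrArg (fun t => βK (h t) z) ?_
      refine Eq.trans ?_ (congrArg π hy')
      rw [map_sum]
      exact Finset.sum_congr rfl fun i _ => (map_smul π _ _).symm
    -- the functional kills the kernel
    obtain ⟨G⟩ := Res.nonempty_starInjRes 𝒜
      (StarInj.subMod 𝒜 (ExtStarInj.freeMod 𝒜 deg).gr (LinearMap.ker π) (Basic.isHomogeneous_ker hπ)).gr
    have hses : Horseshoe.SES (StarInj.subMod 𝒜 (ExtStarInj.freeMod 𝒜 deg).gr (LinearMap.ker π)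
        (Basic.isHomogeneous_ker hπ)).gr (ExtStarInj.freeMod 𝒜 deg).gr X.gr (LinearMap.ker π).subtype π :=
      { grHom_i := fun _ _ hx => hx
        grHom_π := hπ
        injective := (LinearMap.ker π).injective_subtype
        surjective := hπs
        exact := (Submodule.range_subtype _).symm }
    obtain ⟨δ, -, hker, -, -, -⟩ := LES.exists_les G E EM mR hses _ (Chain.lift_ε G E _ hses.grHom_i) _
      (Chain.lift_ε E EM π hπ)
    have hker0 : ∀ w, ψ w = 0 → lam w = 0 := by
      intro w hw
      obtain ⟨v, rfl⟩ := (hker n).le (LinearMap.mem_ker.2 hw)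
      have hKfin : Module.Finite R (StarInj.subMod 𝒜 (ExtStarInj.freeMod 𝒜 deg).gr (LinearMap.ker π)
          (Basic.isHomogeneous_ker hπ)).carrier :=
        Module.Finite.iff_fg.2 (IsNoetherian.noetherian (LinearMap.ker π))
      induction TopH.mem_closure_eta mR n I hdim hKfin G v using AddSubgroup.closure_induction with
      | mem u hu =>
        obtain ⟨g, y, -, z, rfl⟩ := hu
        rw [TopH.eta_eq mR n I G E hses.grHom_i, hlamη]
        have hy : π ((LinearMap.ker π).subtype y) = 0 := LinearMap.mem_ker.1 y.2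
        refine (congrArg (fun t => βK (h t) z) hy).trans ?_
        change βK (h 0) z = 0
        rw [map_zero, map_zero, LinearMap.zero_apply]
      | zero => rw [map_zero, map_zero]
      | add a b _ _ ha hb =>
        rw [map_add, map_add, ha (by rw [← LinearMap.mem_ker, hker n]; exact ⟨a, rfl⟩),
          hb (by rw [← LinearMap.mem_ker, hker n]; exact ⟨b, rfl⟩), add_zero]
      | neg a _ ha =>
        rw [map_neg, map_neg, ha (by rw [← LinearMap.mem_ker, hker n]; exact ⟨a, rfl⟩), neg_zero]
    have hwell : ∀ a b, ψ a = ψ b → lam a = lam b := fun a b hab => by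
      rw [← sub_eq_zero, ← map_sub]
      exact hker0 _ (by rw [map_sub, hab, sub_self])
    have hlamk : ∀ (c : k) (a : E.H mR n), lam (algebraMap k R c • a) = c * lam a := fun c a => by
      change ∑ i, βK (h (π (e i))) (p i (algebraMap k R c • a)) = c * ∑ i, βK (h (π (e i))) (p i a)
      rw [Finset.mul_sum]
      refine Finset.sum_congr rfl fun i _ => ?_
      rw [map_smul, algebraMap_smul, map_smul, smul_eq_mul]
    let lam' : EM.H mR n →ₗ[k] k :=
      { toFun := fun w => lam (Function.surjInv hψs w)
        map_add' := fun a b => by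
          rw [← map_add]
          exact hwell _ _ (by simp [map_add, Function.surjInv_eq hψs])
        map_smul' := fun c a => by
          rw [RingHom.id_apply, smul_eq_mul, ← hlamk]
          exact hwell _ _ (by
            rw [map_smul, Function.surjInv_eq hψs, Function.surjInv_eq hψs, algebraMap_smul]) }
    have hlam' : ∀ a, lam' (ψ a) = lam a := fun a => hwell _ _ (Function.surjInv_eq hψs _)
    let S : Finset ℤ := Finset.univ.biUnion fun i => (Basic.supp 𝒦 (h (π (e i)))).image fun g => g - deg i
    choose dd hdd hddz using fun j => hD.exists_eq j lam'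
    refine ⟨∑ j ∈ S, dd j, ?_⟩
    have hdlam : ∀ w, βD (∑ j ∈ S, dd j) w = lam' w := by
      intro w
      induction w using Basic.induction_hom (EM.Hgr mR n) with
      | zero => rw [map_zero, map_zero]
      | add a b ha hb => rw [map_add, map_add, ha, hb]
      | hom l w hw =>
        rw [map_sum, LinearMap.sum_apply]
        have hsingle : ∀ j ∈ S, j ≠ -l → βD (dd j) w = 0 := fun j _ hj =>
          hD.vanish j (dd j) (hdd j) l (by omega) w hw
        by_cases hl : -l ∈ S
        · rw [Finset.sum_eq_single (-l) hsingle (fun h' => absurd hl h')]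
          exact hddz (-l) w (by rwa [neg_neg])
        · rw [Finset.sum_eq_zero fun j hj => hsingle j hj fun h' => hl (h' ▸ hj)]
          letI := Res.hgrDecomp E mR n
          obtain ⟨v, hv, rfl⟩ := Basic.exists_hom_preimage hψdeg hw (hψs w)
          rw [hlam']
          change 0 = ∑ i, βK (h (π (e i))) (p i v)
          refine (Finset.sum_eq_zero fun i _ => ?_).symm
          have hpv : p i v ∈ I.Hgr mR n (l - deg i) := hpdeg i l v hv
          conv_lhs => rw [← Basic.sum_proj 𝒦 (h (π (e i))), map_sum, LinearMap.sum_apply]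
          refine Finset.sum_eq_zero fun g hg => hK.vanish g _ (Basic.proj_mem 𝒦 g _) (l - deg i) ?_ _ hpv
          intro hgl
          exact hl (Finset.mem_biUnion.2 ⟨i, Finset.mem_univ i, Finset.mem_image.2 ⟨g, hg, by omega⟩⟩)
    refine LinearMap.ext fun x => huniq _ _ fun z => ?_
    obtain ⟨y, hy⟩ := hπs x
    subst hy
    rw [hΦ, hdlam, ← hlamη, ← hlam']
    exact congrArg lam' (TopH.eta_eq mR n I E EM hπ y z).symm
  refine ⟨LinearEquiv.ofBijective Φ ⟨hinj, hsurj⟩, fun j δ hδ g x hx => ?_⟩
  change F δ x ∈ 𝒦 (g + j)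
  obtain ⟨κ, hκ, hκz⟩ := hK.exists_eq (j + g) (βD δ ∘ₗ (η x).restrictScalars k)
  have h1 : F δ x = κ := huniq _ _ fun z => by
    induction z using Basic.induction_hom (I.Hgr mR n) with
    | zero => simp
    | add a b ha hb => simp [ha, hb]
    | hom l z hz =>
      rw [hF]
      by_cases hl : l = -(j + g)
      · subst hl; exact (hκz z hz).symm
      · rw [hK.vanish _ κ hκ l hl z hz,
          hD.vanish j δ hδ (l + g) (by omega) _ (TopH.eta_mem mR n I EM hx hz)]
  rw [h1, add_comm]
  exact hκ

end Groth.Agent.S19759
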