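import Groth.Statements.S19760
import Groth.Agent.H83.GrDual.Basic

set_option autoImplicit false
universe u
open GrDual

namespace Groth.Agent.S19760

/-- Let R = ⊕_{n ≥ 0} R_n be a Noetherian graded ring with R_0 = k a field and R^* = ⊕_n Hom_k(R_{−n},
k) its graded k-dual. A graded R-module M is Artinian exactly when, for some t and some integer
shifts n_1, …, n_t, it embeds as a graded module into the direct sum of the shifted duals R^*(n_1),
…, R^*(n_t), that is, when there is an injective R-linear map M → (R^*)^t whose i-th component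
carries M_g into R^*_{g+n_i} for every g. Here a graded ring defined over k is a commutative
k-algebra of finite type, graded in nonnegative degrees by k-subspaces with degree-zero part k·1,
and R_+ is the ideal spanned by the R_n with n > 0 (a Noetherian such ring is the same as one of
finite type over k); the graded k-dual M^* = ⊕_n Hom_k(M_{−n}, k) of a graded R-module M (with r ∈ R
acting by (r f)(x) = f(r x)) is presented abstractly as a graded R-module D with a k-bilinear
pairing β : D × M → k compatible with the R-actions, under which D_n pairs to zero with M_m for m ≠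
−n and is identified with the full dual space of M_{−n}. -/
theorem result (k : Type u) [Field k] (R : Type u) [CommRing R] [Algebra k R] (𝒜 : ℤ → Submodule k R) [GradedAlgebra 𝒜] (hposR : ∀ n : ℤ, n < 0 → 𝒜 n = ⊥) (h0R : 𝒜 0 = Submodule.span k {(1 : R)}) [Algebra.FiniteType k R] (D : Type u) [AddCommGroup D] [Module R D] [Module k D] [IsScalarTower k R D] (𝒟 : ℤ → AddSubgroup D) [DirectSum.Decomposition 𝒟] [SetLike.GradedSMul 𝒜 𝒟] (β : D →ₗ[k] R →ₗ[k] k) (hD : GrSeg.IsGDual R 𝒜 𝒟 β) (M : Type u) [AddCommGroup M] [Module R M] [Module k M] [IsScalarTower k R M] (ℳ : ℤ → AddSubgroup M) [DirectSum.Decomposition ℳ] [SetLike.GradedSMul 𝒜 ℳ] : IsArtinian R M ↔ ∃ (t : ℕ) (sh : Fin t → ℤ) (f : M →ₗ[R] (Fin t → D)), Function.Injective f ∧ ∀ (i : Fin t) (g : ℤ) (x : M), x ∈ ℳ g → f x i ∈ 𝒟 (g + sh i) := by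
  haveI : IsNoetherianRing R := Algebra.FiniteType.isNoetherianRing k R
  classical
  refine ⟨fun hart => ?_, ?_⟩
  · haveI := hart
    choose f hf hfdeg using fun p : ℤ × (M →ₗ[k] k) => H83.GrDual.exists_coHom 𝒜 hD ℳ p.1 p.2
    let S : Set (Submodule R M) := Set.range fun s : Finset (ℤ × (M →ₗ[k] k)) => s.inf fun p => LinearMap.ker (f p)
    obtain ⟨A, ⟨s, rfl⟩, hmin⟩ := IsArtinian.set_has_minimal S ⟨_, ∅, rfl⟩
    refine ⟨s.card, fun i => -(s.equivFin.symm i : ℤ × (M →ₗ[k] k)).1,
      LinearMap.pi fun i => f (s.equivFin.symm i : ℤ × (M →ₗ[k] k)), ?_, fun i g x hx => ?_⟩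
    · rw [injective_iff_map_eq_zero]
      intro x hx
      have hxs : x ∈ s.inf fun p => LinearMap.ker (f p) := by
        rw [Submodule.mem_finsetInf]
        intro p hp
        rw [LinearMap.mem_ker]
        have := congrFun hx (s.equivFin ⟨p, hp⟩)
        simpa using this
      by_contra hx0
      obtain ⟨n, hn⟩ := Lib.Graded.Basic.exists_proj_ne_zero ℳ hx0
      obtain ⟨ψ, hψ, -⟩ := Submodule.exists_le_ker_of_notMem
        (p := (⊥ : Submodule k M)) (fun hc => hn ((Submodule.mem_bot k).mp hc))
      refine hmin _ ⟨insert (n, ψ) s, rfl⟩ (lt_of_le_of_ne (Finset.inf_mono (Finset.subset_insert _ _)) fun he => ?_)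
      have he' : (insert (n, ψ) s).inf (fun p => LinearMap.ker (f p)) = s.inf (fun p => LinearMap.ker (f p)) := he
      have : x ∈ (insert (n, ψ) s).inf fun p => LinearMap.ker (f p) := by rw [he']; exact hxs
      rw [Finset.inf_insert, Submodule.mem_inf, LinearMap.mem_ker] at this
      refine hψ ?_
      have h1 := hf (n, ψ) x 1
      rw [this.1, map_zero, LinearMap.zero_apply, one_smul] at h1
      exact h1.symm
    · rw [LinearMap.pi_apply, ← sub_eq_add_neg]
      exact hfdeg _ g x hx
  · rintro ⟨t, sh, f, hinj, -⟩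
    haveI : IsArtinian R D := H83.GrDual.isArtinian_dual 𝒜 hD hposR h0R
    exact isArtinian_of_injective f hinj

end Groth.Agent.S19760
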