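import Groth.Statements.S19772
import Groth.Agent.Lib.H3.HilbertMult
import Groth.Agent.H52.HilbertDescent
import Groth.Agent.H56.DimBaseChange
import Groth.Agent.H3.KLBasics
import Groth.Agent.H4.KerDual.PolLocus
import Groth.Agent.H4.HomImage
-- import your own Groth.Agent.* helpers here

set_option autoImplicit false
universe u
open CategoryTheory MonoidalCategory CartesianMonoidalCategory MonObj GrpObj AlgebraicGeometry
open AbVar

namespace Groth.Agent.S19772

private theorem H56DimAux.dim_bc {k Ω : Type u} [Field k] [Field Ω]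
    (t : Spec (CommRingCat.of Ω) ⟶ Spec (CommRingCat.of k)) (K : Over (Spec (CommRingCat.of k)))
    [LocallyOfFiniteType K.hom] : topologicalKrullDim (Red.bc t K).left = topologicalKrullDim K.left :=
  Groth.Agent.H56.DimBaseChange.topologicalKrullDim_baseChange t K.hom (Red.bc t K).hom _
    (Groth.Agent.Lib.GrpSch.isPullback_bc t K)

private theorem H56DimAux.ph_injective_of_isIso [∀ Y : Scheme.{u}, PicGrp.Law Y] {S : Scheme.{u}} {A B : Over S}
    (e : A ⟶ B) [IsIso e.left] {u v : PicLoc.PicSet B.left}
    (h : Groth.Agent.H3.PicCalc.ph e u = Groth.Agent.H3.PicCalc.ph e v) : u = v := by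
  haveI : IsIso ((Over.forget S).map e) := ‹IsIso e.left›
  haveI : IsIso e := isIso_of_reflects_iso e (Over.forget S)
  have h' := congrArg (Groth.Agent.H3.PicCalc.ph (inv e)) h
  rwa [← Groth.Agent.H3.PicCalc.ph_comp, ← Groth.Agent.H3.PicCalc.ph_comp, IsIso.inv_hom_id,
    Groth.Agent.H3.PicCalc.ph_id, Groth.Agent.H3.PicCalc.ph_id] at h'

/-- Let X be an abelian variety over a field k (a proper, geometrically integral k-group scheme), L an
invertible O_X-module, H an ample invertible O_X-module, and Φ the Hilbert polynomial of L with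
respect to H: the rational polynomial with Φ(n) = χ(X, L ⊗ H^{⊗ n}) for every natural number n. Let
i : K → X be a closed immersion exhibiting K as K(L) (the maximal closed subscheme over which the
Mumford bundle m^*L ⊗ p_1^*L⁻¹ ⊗ p_2^*L⁻¹, restricted to X ×_k K, is the inverse image of an
invertible module on K, with its universal property). Then the dimension of K (the Krull dimension
of its underlying space) equals the root multiplicity of Φ at 0. -/
theorem result (k : Type u) [Field k] (X : Over (Spec (CommRingCat.of k)))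
    [GrpObj X] [IsProper X.hom] [GeometricallyIntegral X.hom] (L : X.left.Modules) (hL : PicF.IsInvertible L)
    (K : Over (Spec (CommRingCat.of k))) (i : K ⟶ X) (hK : ThetaGrp.IsKL X L i)
    (H : X.left.Modules) (hH : CohB1.IsAmple H) (Φ : Polynomial ℚ)
    (hΦ : ∀ n : ℕ, Φ.eval (n : ℚ) =
      (@Curv2.euler k _ X.left ⟨X.hom⟩ (CohB1.tensorMod L (CohB1.tensorPow H n)) : ℚ)) :
    topologicalKrullDim ↥K.left = ((Φ.rootMultiplicity 0 : ℕ) : WithBot ℕ∞) := by
  letI : ∀ Y : Scheme.{u}, PicGrp.Law Y := Groth.Agent.Lib.TensorMod.Invertible.law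
  let Ω := AlgebraicClosure k
  let t := Groth.Agent.Lib.GrpSch.extBase k Ω
  let X' := Groth.Agent.H63.AVBaseChange.bc Ω X
  let π : X'.left ⟶ X.left := Groth.Agent.Lib.GrpSch.bcProj t X
  haveI := Groth.Agent.H63.AVBaseChange.isProper_bc Ω X
  haveI := Groth.Agent.H63.AVBaseChange.geometricallyIntegral_bc Ω X
  haveI : IsCommMonObj X' := isCommMonObj_of_isProper_of_geometricallyIntegral _
  haveI : IsCommMonObj X := isCommMonObj_of_isProper_of_geometricallyIntegral _
  let L' := (Scheme.Modules.pullback π).obj L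
  let H' := (Scheme.Modules.pullback π).obj H
  have hL' : PicF.IsInvertible L' := PicLoc.isInvertible_pullback _ hL
  have hH' : CohB1.IsAmple H' := Groth.Agent.H52.HilbertDescent.isAmple_bc X hH
  let l := PicGrp.cls L' hL'
  have hpoly : ∀ n : ℕ, Φ.eval (n : ℚ) = (Groth.Agent.Lib.H3.HilbertMult.chi X' (l * PicGrp.cls H' hH'.1 ^ n) : ℚ) := by
    intro n
    have hinv := Groth.Agent.Lib.TensorMod.Invertible.isInvertible_tensorMod hL
      (Groth.Agent.Lib.TensorMod.Invertible.isInvertible_tensorPow hH.1 n)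
    rw [hΦ n, ← Groth.Agent.H52.HilbertDescent.euler_bc X hinv]
    refine congrArg _ (Groth.Agent.Lib.H3.HilbertMult.euler_eq_chi (PicLoc.isInvertible_pullback _ hinv) ?_)
    refine (Quot.sound ⟨Groth.Agent.Lib.TensorMod.Pullback.pullbackTensorIso _ _ _ ≪≫
      Groth.Agent.Lib.TensorMod.Basic.tensorIso (Iso.refl _) (Groth.Agent.Lib.Ample.Pow.pullbackPow π H n)⟩ :
        PicF.cl _ = PicF.cl (CohB1.tensorMod L' (CohB1.tensorPow H' n))).trans ?_
    exact Groth.Agent.H3.PicCalc.cl_tensor (a := l) rfl
      (Groth.Agent.H4.PicZero.cl_tensorPow (a := PicGrp.cls H' hH'.1) rfl n)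
  obtain ⟨B, hBg, ι₀, hBp, hBi, hι, hιc, hfix, hdim, s, hs, hcov⟩ :=
    Groth.Agent.Lib.H3.KLComp.exists_comp (A := X') l
  haveI := hBp; haveI := hBi; haveI := hι; haveI := hιc
  haveI : IsCommMonObj B := isCommMonObj_of_isProper_of_geometricallyIntegral B
  obtain ⟨m, hm⟩ := Groth.Agent.Lib.H3.HilbertMult.exists_dim (A := B)
  rw [Groth.Agent.Lib.H3.HilbertMult.rootMultiplicity_eq l hH' Φ hpoly ι₀ hfix hm s hs hcov, ← hm, hdim]
  -- the dimension of the scheme of fixed points
  haveI := hK.closed
  haveI : IsProper K.hom := by rw [← Over.w i]; infer_instance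
  let K' := Groth.Agent.H63.AVBaseChange.bc Ω K
  let i' : K' ⟶ X' := (Over.pullback t).map i
  have hsq := Groth.Agent.Lib.GrpSch.isPullback_bc_map t i
  haveI : IsClosedImmersion i'.left := MorphismProperty.of_isPullback (P := @IsClosedImmersion) hsq.flip hK.closed
  have hr : Set.range i'.left = π ⁻¹' Set.range i.left := by
    ext z
    refine ⟨?_, fun ⟨w, hw⟩ => ?_⟩
    · rintro ⟨w, rfl⟩
      exact ⟨Groth.Agent.Lib.GrpSch.bcProj t K w, by
        rw [← Scheme.Hom.comp_apply, ← hsq.w, Scheme.Hom.comp_apply]⟩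
    · obtain ⟨p, hp, -⟩ := AlgebraicGeometry.Scheme.Pullback.exists_preimage_pullback z w hw.symm
      refine ⟨hsq.isoPullback.inv p, ?_⟩
      rw [← Scheme.Hom.comp_apply, hsq.isoPullback_inv_fst]
      exact hp
  rw [← (H56DimAux.dim_bc t K).trans rfl,
    (i'.left.isEmbedding.toHomeomorph.trans (Homeomorph.setCongr hr)).isHomeomorph.topologicalKrullDim_eq]
  -- rational points
  let W : Set X'.left := π ⁻¹' Set.range i.left
  have hW : IsClosed W := i.left.isClosedEmbedding.isClosed_range.preimage π.continuous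
  have hpts : ∀ b : 𝟙_ (Over (Spec (CommRingCat.of Ω))) ⟶ X', Groth.Agent.Lib.GrpQ.MonoClosed.ptOf b ∈ W ↔
      Groth.Agent.H3.PicCalc.ph (Groth.Agent.H52.NondegAmple.tr b) l = l := by
    open Groth.Agent.H4.KerDual Groth.Agent.H3.PicCalc Groth.Agent.H52.NondegAmple in
    intro b
    let U := 𝟙_ (Over (Spec (CommRingCat.of Ω)))
    let T : Over (Spec (CommRingCat.of k)) := Over.mk (U.hom ≫ t)
    let R : Over (Spec (CommRingCat.of k)) := Over.mk (X'.hom ≫ t)
    let x : T ⟶ X := dn t b
    let p : R ⟶ X := dn t (𝟙 X')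
    let sg : R ⟶ T := resMap t (toUnit X')
    let e : R ⟶ X ⊗ T := lift p sg
    let ℓ : PicLoc.PicSet X.left := PicGrp.cls L hL
    haveI : IsIso e.left := by
      have w : (fst X T).left ≫ X.hom = (snd X T).left ≫ t := by
        rw [Over.w (fst X T), ← Over.w (snd X T)]
        exact congrArg ((snd X T).left ≫ ·) (Category.id_comp t)
      refine ⟨Limits.pullback.lift (fst X T).left (snd X T).left w, ?_, ?_⟩
      · apply Limits.pullback.hom_ext
        · rw [Category.assoc, Limits.pullback.lift_fst, ← Over.comp_left, lift_fst]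
          exact (Category.id_comp _).trans (Category.id_comp _).symm
        · rw [Category.assoc, Limits.pullback.lift_snd, ← Over.comp_left, lift_snd]
          exact ((Category.comp_id _).symm.trans (Over.w (toUnit X'))).trans (Category.id_comp _).symm
      · apply Limits.pullback.hom_ext
        · refine Eq.trans ?_ (Category.id_comp _).symm
          show (_ ≫ e.left) ≫ (fst X T).left = (fst X T).left
          rw [Category.assoc, ← Over.comp_left, lift_fst]
          show _ ≫ (𝟙 X'.left ≫ Limits.pullback.fst X.hom t) = _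
          rw [Category.id_comp, Limits.pullback.lift_fst]
        · refine Eq.trans ?_ (Category.id_comp _).symm
          show (_ ≫ e.left) ≫ (snd X T).left = (snd X T).left
          rw [Category.assoc, ← Over.comp_left, lift_snd]
          show _ ≫ (toUnit X').left = _
          rw [show (toUnit X').left = Limits.pullback.snd X.hom t from
            (Category.comp_id _).symm.trans (Over.w (toUnit X')), Limits.pullback.lift_snd]
    have hφ : ∀ u v : PicLoc.PicSet (X ⊗ T).left, ph e u = ph e v → u = v := fun u v h =>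
      H56DimAux.ph_injective_of_isIso e h
    have e1 : e ≫ (ThetaGrp.transl X x ≫ fst X T) = dn t (tr b) := by
      rw [ThetaGrp.transl_fst, MonObj.comp_mul, lift_fst, lift_snd_assoc, dn_mul, dn_comp]
    have e2 : e ≫ fst X T = p := lift_fst _ _
    have hb : ∀ (a : X' ⟶ X'), ph (dn t a) ℓ = ph a l := fun a => by
      apply Subtype.ext
      exact (cl_pullback (dn t a) (a := ℓ) rfl).symm.trans
        ((Quot.sound ⟨((Scheme.Modules.pullbackComp a.left π).app L).symm⟩ :
          PicF.cl ((Scheme.Modules.pullback (a.left ≫ π)).obj L) = PicF.cl ((Scheme.Modules.pullback a.left).obj L')).trans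
          (cl_pullback a (a := l) rfl))
    haveI : Subsingleton T.left := inferInstanceAs (Subsingleton (Spec (CommRingCat.of Ω)))
    haveI : Nonempty T.left := inferInstanceAs (Nonempty (Spec (CommRingCat.of Ω)))
    have key : (∃ y : T ⟶ K, y ≫ i = x) ↔ ph (tr b) l = l := by
      rw [Groth.Agent.H3.KLBasics.factors_iff hL hK x]
      constructor
      · rintro ⟨n, hn⟩
        have h := congrArg (ph e) hn
        rw [eq_one_of_subsingleton n, map_one, _root_.mul_one, ← ph_comp, ← ph_comp, e1, e2, hb,
          show ph p ℓ = ph (𝟙 X') l from hb (𝟙 X'), ph_id] at h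
        exact h
      · intro h
        refine ⟨1, hφ _ _ ?_⟩
        rw [map_one, _root_.mul_one, ← ph_comp, ← ph_comp, e1, e2, hb,
          show ph p ℓ = ph (𝟙 X') l from hb (𝟙 X'), ph_id]
        exact h
    rw [← key]
    constructor
    · rintro ⟨z, hz⟩
      haveI : IsReduced T.left := inferInstanceAs (IsReduced (Spec (CommRingCat.of Ω)))
      refine Groth.Agent.H4.HomImage.exists_factor i x ?_
      rintro _ ⟨w, rfl⟩
      refine ⟨z, hz.trans ?_⟩
      rw [Subsingleton.elim w (IsLocalRing.closedPoint Ω)]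
      rfl
    · rintro ⟨y, hy⟩
      exact ⟨y.left (IsLocalRing.closedPoint Ω : PrimeSpectrum Ω),
        (Scheme.Hom.comp_apply y.left i.left _).symm.trans
          (congrArg (fun f : T ⟶ X => f.left (IsLocalRing.closedPoint Ω : PrimeSpectrum Ω)) hy)⟩
  suffices hWZ : W = closure (Groth.Agent.Lib.GrpQ.MonoClosed.ptOf '' {b : 𝟙_ (Over (Spec (CommRingCat.of Ω))) ⟶ X' |
      Groth.Agent.H3.PicCalc.ph (Groth.Agent.H52.NondegAmple.tr b) l = l}) by
    rw [show π ⁻¹' Set.range i.left = W from rfl, hWZ]
  refine Set.Subset.antisymm (fun z hz => ?_) (closure_minimal ?_ hW)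
  · by_contra hc
    obtain ⟨b, hb1, hb2⟩ := Groth.Agent.Lib.GrpQ.MonoClosed.exists_ptOf (X := X')
      (hW.isLocallyClosed.inter isClosed_closure.isOpen_compl.isLocallyClosed) ⟨z, hz, hc⟩
    exact hb2 (subset_closure ⟨b, (hpts b).1 hb1, rfl⟩)
  · rintro _ ⟨b, hb, rfl⟩
    exact (hpts b).2 hb

end Groth.Agent.S19772
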