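import Groth.Statements.S19773
import Groth.Agent.Lib.H3.KLIsogeny

set_option autoImplicit false
universe u
open CategoryTheory MonoidalCategory CartesianMonoidalCategory MonObj GrpObj AlgebraicGeometry
open AbVar

namespace Groth.Agent.S19773

/-- Let k be a field and f : X → Y an isogeny between abelian varieties over k (X, Y proper,
geometrically integral k-group schemes; f a finite flat surjective homomorphism) of degree d (the
rank of f at every point of Y), and let M be a non-degenerate invertible O_Y-module: for a closed
immersion i_M : K_M → Y exhibiting K_M as K(M) (the maximal closed subscheme over which the Mumford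
bundle m^*M ⊗ p_1^*M⁻¹ ⊗ p_2^*M⁻¹, restricted to Y ×_k K_M, is the inverse image of an invertible
module on K_M, with its universal property), K_M is finite over k, of rank r (the rank of K_M → Spec
k). Let L = f^*M and let i_L : K_L → X exhibit K_L as K(L). Then L is non-degenerate as well and
rank K(L) = d² · rank K(M): K_L is finite over k and K_L → Spec k has rank d² · r. -/
theorem result (k : Type u) [Field k]
    (X Y : Over (Spec (CommRingCat.of k)))
    [GrpObj X] [IsProper X.hom] [GeometricallyIntegral X.hom]
    [GrpObj Y] [IsProper Y.hom] [GeometricallyIntegral Y.hom]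
    (f : X ⟶ Y) [IsMonHom f] [IsFinite f.left] [Flat f.left] (hf : Surjective f.left)
    (d : ℕ) (hd : ∀ y : ↥Y.left, Scheme.Hom.finrank f.left y = d)
    (M : Y.left.Modules) (hM : PicF.IsInvertible M)
    (KM : Over (Spec (CommRingCat.of k))) (iM : KM ⟶ Y) (hKM : ThetaGrp.IsKL Y M iM)
    [IsFinite KM.hom] (r : ℕ) (hr : ∀ s : ↥(Spec (CommRingCat.of k)), Scheme.Hom.finrank KM.hom s = r)
    (KL : Over (Spec (CommRingCat.of k))) (iL : KL ⟶ X)
    (hKL : ThetaGrp.IsKL X ((Scheme.Modules.pullback f.left).obj M) iL) :
    IsFinite KL.hom ∧ ∀ s : ↥(Spec (CommRingCat.of k)), Scheme.Hom.finrank KL.hom s = d ^ 2 * r := by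
  exact Groth.Agent.Lib.H3.KLIsogeny.main k X Y f d hd M hM KM iM hKM r hr KL iL hKL

end Groth.Agent.S19773
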