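import Groth.Statements.S19775
import Groth.Agent.Lib.H3.PicZero
import Groth.Agent.Lib.H3.FppfFactor
-- import your own Groth.Agent.* helpers here

set_option autoImplicit false
universe u
open CategoryTheory MonoidalCategory CartesianMonoidalCategory MonObj GrpObj AlgebraicGeometry
open CategoryTheory.Limits
open AbVar

namespace Groth.Agent.S19775

private theorem aux {G : Type*} [CommGroup G] (n a b : G) : n = n * a * b * (a * b)⁻¹ := by
  rw [_root_.mul_assoc n, mul_inv_cancel_right]

/-- Let X be an abelian variety over a field k (a proper, geometrically integral k-group scheme), (X^t,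
φ) a given dual abelian variety of X for the fppf topology (φ sends classes of modules on X ×_k T
algebraically trivial on the geometric fibres to T-valued points of X^t), L an invertible
O_X-module, and λ : X → X^t the homomorphism φ_L attached to L through φ (the X-valued point of X^t
that φ assigns to the class of an invertible module N on X ×_k X with N ⊗ p_1^*L ⊗ p_2^*L ≅ m^*L, a
Mumford module of L). Let i : K → X be a closed immersion exhibiting K as K(L) (the maximal closed
subscheme over which the Mumford bundle, restricted to X ×_k K, is the inverse image of an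
invertible module on K, with its universal property). Then K(L) is the kernel of φ_L: the square
with sides i, K → Spec k, λ and the unit Spec k → X^t is cartesian. (The published statement makes
this assertion for L ample, together with φ_L being an isogeny and the dimension count for the dual;
the kernel identification is the translation description of the points of K(L) read through the
Picard functor and holds for every invertible L, as stated here; the isogeny and dimension
assertions are not part of this row.) -/
theorem result (k : Type u) [Field k] (X Xt : Over (Spec (CommRingCat.of k)))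
    [GrpObj X] [IsProper X.hom] [GeometricallyIntegral X.hom]
    [GrpObj Xt] [IsProper Xt.hom] [GeometricallyIntegral Xt.hom]
    (φ : ∀ T : Over (Spec (CommRingCat.of k)), PicF.Cl (PicF.XT X.hom T) → (T ⟶ Xt))
    (hφ : AbDual.IsDualAV Scheme.fppfPrecoverage X Xt φ)
    (L : X.left.Modules) (hL : PicF.IsInvertible L) (lam : X ⟶ Xt) (hlam : AgPol.IsLambda X Xt φ L lam)
    (K : Over (Spec (CommRingCat.of k))) (i : K ⟶ X) (hK : ThetaGrp.IsKL X L i) :
    AlgGrp.IsKernel i lam := by
  letI : ∀ Y : Scheme.{u}, PicGrp.Law Y := Groth.Agent.Lib.TensorMod.Invertible.law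
  open Groth.Agent.H3 Groth.Agent.Lib.H3 in
  obtain ⟨N, hN, hΛ, hφN⟩ := hlam
  let l := PicGrp.cls L hL
  open Groth.Agent.H3 Groth.Agent.Lib.H3 in
  have hn : PicF.cl N = (PicZero.nA (X := X) l).1 := by
    have h := (PicCalc.iso_iff (Y := (X ⊗ X).left) (PicCalc.cl_tensor (PicCalc.cl_tensor (a := PicGrp.cls (Y := (X ⊗ X).left) N hN) rfl
        (PicCalc.cl_pullback (fst X X) (a := l) rfl)) (PicCalc.cl_pullback (snd X X) (a := l) rfl))
      (PicCalc.cl_pullback μ[X] (a := l) rfl)).1 hΛ
    show (PicGrp.cls (Y := (X ⊗ X).left) N hN).1 = _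
    rw [PicZero.nA, ← h]
    refine congrArg Subtype.val ?_
    exact aux (G := PicLoc.PicSet (X ⊗ X).left) _ _ _
  have hnat : ∀ (T : Over (Spec (CommRingCat.of k))) (x : T ⟶ X),
      x ≫ lam = φ T (Groth.Agent.Lib.H3.PicZero.mu (X := X) l x).1 := by
    open Groth.Agent.H3 Groth.Agent.Lib.H3 in
    intro T x
    have h1 : AbDual.IsPicZeroCl X.hom X (PicZero.nA (X := X) l).1 := by
      have := PicZero.isPicZero_mu (X := X) l X (𝟙 X)
      rwa [PicZero.mu, MonoidalCategory.whiskerLeft_id, PicCalc.ph_id] at this
    rw [← hφN, hn, ← hφ.relPic.natural X T x _ h1]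
    exact congrArg (φ T) (by rw [PicZero.xtMap_eq]; rfl)
  have hone : ∀ T : Over (Spec (CommRingCat.of k)),
      AbDual.IsPicZeroCl X.hom T (1 : PicLoc.PicSet (X ⊗ T).left).1 ∧
        φ T (1 : PicLoc.PicSet (X ⊗ T).left).1 = 1 := by
    open Groth.Agent.H3 Groth.Agent.Lib.H3 in
    intro T
    have h1 : AbDual.IsPicZeroCl X.hom T (1 : PicLoc.PicSet (X ⊗ T).left).1 := by
      have := PicZero.isPicZero_mu (X := X) l T 1
      rwa [(PicZero.mu_eq_one_iff l (1 : T ⟶ X)).2 ⟨1, PicCalc.TransTriv.one l T⟩] at this
    refine ⟨h1, ?_⟩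
    obtain ⟨O, hO, hOc⟩ := PicGrp.exists_eq_cls (1 : PicLoc.PicSet (X ⊗ T).left)
    rw [hOc] at h1 ⊢
    have h2 := hφ.mul T O O h1 h1
    rw [PicCalc.cl_tensor (Y := (X ⊗ T).left) (a := PicGrp.cls O hO) (b := PicGrp.cls O hO) rfl rfl,
      ← hOc, _root_.mul_one, hOc] at h2
    exact left_eq_mul.1 h2
  have hiff : ∀ (T : Over (Spec (CommRingCat.of k))) (x : T ⟶ X),
      (∃ y : T ⟶ K, y ≫ i = x) ↔ x ≫ lam = 1 := by
    open Groth.Agent.H3 Groth.Agent.Lib.H3 in
    intro T x
    constructor
    · intro h
      rw [hnat, (PicZero.mu_eq_one_iff l x).2 ((KLBasics.factors_iff hL hK x).1 h)]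
      exact (hone T).2
    · intro h
      rw [hnat, ← (hone T).2] at h
      obtain ⟨R, hR, hloc⟩ := hφ.relPic.locallyInjective T _ _ (PicZero.isPicZero_mu l T x) (hone T).1 h
      haveI := hK.closed
      let c : pullback x.left i.left ⟶ T.left := pullback.fst _ _
      haveI : IsIso c := by
        refine FppfFactor.isIso c fun t => ?_
        obtain ⟨h₁, h₂⟩ := hR
        obtain ⟨U, u, hu, ht⟩ := h₁ t
        cases hu with
        | @of U' u' ha =>
          have hμ : PicZero.mu l (AbDual.ovrHom T u' ≫ x) = 1 := by
            apply Subtype.ext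
            rw [PicZero.mu_comp, PicCalc.ph_val, ← PicZero.xtMap_eq]
            refine (hloc _ ha).trans ?_
            rw [PicZero.xtMap_eq, ← PicCalc.ph_val, map_one]
          obtain ⟨y, hy⟩ := (KLBasics.factors_iff hL hK _).2 ((PicZero.mu_eq_one_iff l _).1 hμ)
          have hy' : u' ≫ x.left = y.left ≫ i.left :=
            (congrArg (fun f => f.left) hy).symm
          refine ⟨U', pullback.lift u' y.left hy', ?_⟩
          rw [pullback.lift_fst]
          exact ⟨(h₂ ha).1, ht⟩
      refine ⟨Over.homMk (inv c ≫ pullback.snd _ _) ?_, ?_⟩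
      · rw [Category.assoc, ← Over.w i, ← pullback.condition_assoc, Over.w x, IsIso.inv_hom_id_assoc]
      · ext1
        show (inv c ≫ pullback.snd _ _) ≫ i.left = x.left
        rw [Category.assoc, ← pullback.condition, IsIso.inv_hom_id_assoc]
  haveI := hK.closed
  haveI : Mono i := Over.mono_of_mono_left i
  have w : i ≫ lam = toUnit K ≫ η[Xt] := (hiff K i).1 ⟨𝟙 K, Category.id_comp i⟩
  have hl : ∀ c : PullbackCone lam η[Xt], ∃ y : c.pt ⟶ K, y ≫ i = c.fst := fun c =>
    (hiff c.pt c.fst).2 (c.condition.trans (congrArg (· ≫ η[Xt]) (toUnit_unique _ _)))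
  refine IsPullback.of_isLimit' ⟨w⟩ (PullbackCone.IsLimit.mk _
    (fun c => (hl c).choose) (fun c => (hl c).choose_spec) (fun c => toUnit_unique _ _)
    (fun c m hm _ => ?_))
  rw [← cancel_mono i, hm]
  exact (hl c).choose_spec.symm

end Groth.Agent.S19775
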