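import Groth.Statements.S7141
import Groth.Agent.Lib.WeaklyEt.OverField
import Mathlib.RingTheory.Smooth.Basic
import Mathlib.RingTheory.Noetherian.Nilpotent

set_option autoImplicit false
universe u
open EtAlg

namespace Groth.Agent.S7141

open Groth.Agent.Lib.WeaklyEt EtAlgD

variable (K : Type u) [Field K] {A : Type u} [CommRing A] [Algebra K A]

theorem le_max (S : Subalgebra K A) [h : Algebra.WeaklyEtale K S] : S ≤ maxWeaklyEtale K A := le_sSup h

theorem of_le {S T : Subalgebra K A} [Algebra.WeaklyEtale K T] (h : S ≤ T) : Algebra.WeaklyEtale K S := by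
  haveI := OverField.subalgebra (κ := K) ((Subalgebra.inclusion h).range)
  exact OverField.of_surjective K (AlgEquiv.ofInjective (Subalgebra.inclusion h) (Subalgebra.inclusion_injective h)).symm.toAlgHom
    (AlgEquiv.surjective _)

theorem adjoin_of_mem {x : A} (hx : x ∈ maxWeaklyEtale K A) : Algebra.WeaklyEtale K (Algebra.adjoin K {x}) := by
  haveI : Algebra.WeaklyEtale K (maxWeaklyEtale K A) := OverField.sSup_weaklyEtale K A
  exact of_le K (Algebra.adjoin_le (Set.singleton_subset_iff.2 hx))

theorem isReduced_max : IsReduced (maxWeaklyEtale K A) := by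
  haveI : Algebra.WeaklyEtale K (maxWeaklyEtale K A) := OverField.sSup_weaklyEtale K A
  exact Olivier.isReduced K

theorem lift_nil {y : A ⧸ nilradical A} (hy : y ∈ maxWeaklyEtale K (A ⧸ nilradical A)) :
    ∃ x ∈ maxWeaklyEtale K A, Ideal.Quotient.mkₐ K (nilradical A) x = y := by
  obtain ⟨x, rfl⟩ := Ideal.Quotient.mk_surjective y
  let q := Ideal.Quotient.mkₐ K (nilradical A)
  let A₀ := Algebra.adjoin K {x}
  let g : A₀ →ₐ[K] Algebra.adjoin K {q x} := (q.comp A₀.val).codRestrict _ fun a => by
    have h : q a ∈ A₀.map q := ⟨a, a.2, rfl⟩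
    rw [AlgHom.map_adjoin, Set.image_singleton] at h
    exact h
  have hg : Function.Surjective g := fun b => by
    have hb : (b : A ⧸ nilradical A) ∈ A₀.map q := by
      rw [AlgHom.map_adjoin, Set.image_singleton]; exact b.2
    obtain ⟨a, ha, hab⟩ := hb
    exact ⟨⟨a, ha⟩, Subtype.ext hab⟩
  haveI hC : Algebra.WeaklyEtale K (Algebra.adjoin K {q x}) := adjoin_of_mem K hy
  haveI : Algebra.Etale K (Algebra.adjoin K {q x}) := by
    haveI := OverField.etale_of_fg (B := Algebra.adjoin K {q x}) K ⊤ (by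
      exact (Subalgebra.fg_top _).2 ⟨{q x}, by simp⟩)
    exact Algebra.Etale.of_equiv (Subalgebra.topEquiv : (⊤ : Subalgebra K (Algebra.adjoin K {q x})) ≃ₐ[K] _)
  haveI : Algebra.FiniteType K A₀ := A₀.fg_iff_finiteType.1 ⟨{x}, by simp [A₀]⟩
  haveI : IsNoetherianRing A₀ := Algebra.FiniteType.isNoetherianRing K A₀
  have hker : IsNilpotent (RingHom.ker (g : A₀ →+* Algebra.adjoin K {q x})) := by
    obtain ⟨n, hn⟩ := IsNoetherianRing.isNilpotent_nilradical A₀
    refine ⟨n, le_bot_iff.1 ((Ideal.pow_right_mono (fun a ha => ?_) n).trans hn.le)⟩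
    have h1 : (a : A) ∈ nilradical A := Ideal.Quotient.eq_zero_iff_mem.1 (congrArg Subtype.val (RingHom.mem_ker.1 ha))
    exact mem_nilradical.2 ((IsNilpotent.map_iff (f := A₀.val) Subtype.val_injective).1 (mem_nilradical.1 h1))
  let s := Algebra.FormallySmooth.liftOfSurjective (AlgHom.id K _) g hg hker
  let y₀ : Algebra.adjoin K {q x} := ⟨q x, Algebra.self_mem_adjoin_singleton K _⟩
  haveI := OverField.of_surjective K (A₀.val.comp s).rangeRestrict (A₀.val.comp s).rangeRestrict_surjective
  refine ⟨(s y₀ : A), le_max K (A₀.val.comp s).range ⟨y₀, rfl⟩, ?_⟩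
  exact congrArg Subtype.val (Algebra.FormallySmooth.liftOfSurjective_apply (AlgHom.id K _) g hg hker y₀)


/-- Let K be a field and, for a K-algebra A, let B_max(A) be its largest weakly étale K-subalgebra. (2)
For a K-subalgebra A' ⊆ A one has B_max(A') = B_max(A) ∩ A'. (4) The quotient map A → A_red =
A/nilradical restricts to a bijection B_max(A) → B_max(A_red). (6) If A ≠ 0 and its only idempotents
are 0 and 1, then B_max(A) is a field, algebraic and separable over K. (The published statement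
omits A ≠ 0; this row assumes it, since for A = 0 the largest weakly étale subalgebra is the zero
ring.) -/
theorem result (K : Type u) [Field K] (A : Type u) [CommRing A] [Algebra K A] :
    (∀ A' : Subalgebra K A,
      (EtAlgD.maxWeaklyEtale K A').map A'.val = EtAlgD.maxWeaklyEtale K A ⊓ A') ∧
    (Set.BijOn (Ideal.Quotient.mkₐ K (nilradical A)) (EtAlgD.maxWeaklyEtale K A)
      (EtAlgD.maxWeaklyEtale K (A ⧸ nilradical A))) ∧
    ((∀ e : A, IsIdempotentElem e → e = 0 ∨ e = 1) → Nontrivial A →
      IsField (EtAlgD.maxWeaklyEtale K A) ∧ Algebra.IsSeparable K (EtAlgD.maxWeaklyEtale K A)) := by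
  refine ⟨fun A' => le_antisymm ?_ ?_, ⟨?_, ?_, ?_⟩, fun hid hnt => ?_⟩
  · rintro _ ⟨x, hx, rfl⟩
    haveI := adjoin_of_mem K hx
    have h : Algebra.WeaklyEtale K ((Algebra.adjoin K {x}).map A'.val) :=
      Groth.Agent.Lib.WeaklyEt.OverField.of_surjective K (A'.val.comp (Algebra.adjoin K {x}).val).rangeRestrict
        (A'.val.comp (Algebra.adjoin K {x}).val).rangeRestrict_surjective |> fun h => by
          rwa [AlgHom.range_comp, Subalgebra.range_val] at h
    haveI := h
    exact ⟨le_max K ((Algebra.adjoin K {x}).map A'.val) (Subalgebra.mem_map.2 ⟨x, Algebra.self_mem_adjoin_singleton K x, rfl⟩), x.2⟩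
  · rintro x ⟨hx, hxA⟩
    haveI := adjoin_of_mem K hx
    have hle : Algebra.adjoin K {x} ≤ A' := Algebra.adjoin_le (Set.singleton_subset_iff.2 hxA)
    let i := Subalgebra.inclusion hle
    haveI := Groth.Agent.Lib.WeaklyEt.OverField.of_surjective K i.rangeRestrict i.rangeRestrict_surjective
    exact ⟨⟨x, hxA⟩, le_max K i.range ⟨⟨x, Algebra.self_mem_adjoin_singleton K x⟩, rfl⟩, rfl⟩
  · intro x hx
    haveI := adjoin_of_mem K hx
    let f := (Ideal.Quotient.mkₐ K (nilradical A)).comp (Algebra.adjoin K {x}).val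
    haveI := Groth.Agent.Lib.WeaklyEt.OverField.of_surjective K f.rangeRestrict f.rangeRestrict_surjective
    exact le_max K f.range ⟨⟨x, Algebra.self_mem_adjoin_singleton K x⟩, rfl⟩
  · intro x hx y hy hxy
    rw [Ideal.Quotient.mkₐ_eq_mk, Ideal.Quotient.eq, mem_nilradical] at hxy
    haveI := isReduced_max K (A := A)
    have h : IsNilpotent (⟨x - y, sub_mem hx hy⟩ : EtAlgD.maxWeaklyEtale K A) :=
      (IsNilpotent.map_iff (f := (EtAlgD.maxWeaklyEtale K A).val) Subtype.val_injective).1 hxy
    exact sub_eq_zero.1 (congrArg Subtype.val h.eq_zero)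
  · intro y hy
    obtain ⟨x, hx, hxy⟩ := lift_nil K hy
    exact ⟨x, hx, hxy⟩
  · haveI : Algebra.WeaklyEtale K (EtAlgD.maxWeaklyEtale K A) := Groth.Agent.Lib.WeaklyEt.OverField.sSup_weaklyEtale K A
    have hF : IsField (EtAlgD.maxWeaklyEtale K A) := Groth.Agent.Lib.WeaklyEt.Olivier.isField_of_idempotent K fun e he => by
      rcases hid e (congrArg Subtype.val he) with h | h
      · exact Or.inl (Subtype.ext h)
      · exact Or.inr (Subtype.ext h)
    refine ⟨hF, ?_⟩
    letI := hF.toField
    exact Groth.Agent.Lib.WeaklyEt.OverField.isSeparable_field K _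

end Groth.Agent.S7141
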