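import Groth.Statements.S1978
import Groth.Agent.S7141
import Groth.Agent.H20.GeomIrred
import Mathlib.RingTheory.Etale.StandardEtale
import Mathlib.RingTheory.Etale.Field
import Mathlib.FieldTheory.IsSepClosed
import Mathlib.FieldTheory.Galois.Infinite
import Mathlib.LinearAlgebra.TensorProduct.Basis
import Mathlib.LinearAlgebra.TensorProduct.RightExactness

set_option autoImplicit false
universe u
open TensorProduct
open EtAlg

namespace Groth.Agent.S1978

open TensorProduct EtAlgD Groth.Agent.Lib.WeaklyEt Groth.Agent.S7141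

section

variable (K : Type u) [Field K] {A : Type u} [CommRing A] [Algebra K A]

theorem idem_mem {e : A} (he : IsIdempotentElem e) : e ∈ maxWeaklyEtale K A := by
  let P : StandardEtalePair K :=
    { f := Polynomial.X ^ 2 - Polynomial.X
      monic_f := Polynomial.monic_X_pow_sub (by rw [Polynomial.degree_X]; exact_mod_cast one_lt_two)
      g := 1
      cond := ⟨2 * Polynomial.X - 1, -4, 0, by
        rw [Polynomial.derivative_sub, Polynomial.derivative_X_pow, Polynomial.derivative_X, Nat.cast_ofNat, pow_zero]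
        simp only [map_ofNat, Nat.add_one_sub_one, pow_one]
        ring⟩ }
  let g : P.Ring →ₐ[K] A := P.lift e ⟨by simp [P, sq, he.eq], by simp [P]⟩
  haveI := OverField.of_surjective K g.rangeRestrict g.rangeRestrict_surjective
  exact le_max K g.range ⟨P.X, P.lift_X _ _⟩

theorem tmul_one_mem {E : Type u} [Field E] [Algebra K E] [Algebra.IsSeparable K E] (c : E) :
    c ⊗ₜ[K] (1 : A) ∈ maxWeaklyEtale K (E ⊗[K] A) := by
  let F := IntermediateField.adjoin K {c}
  haveI : FiniteDimensional K F := IntermediateField.adjoin.finiteDimensional (Algebra.IsIntegral.isIntegral c)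
  haveI : Algebra.FormallyEtale K F := Algebra.FormallyEtale.of_isSeparable K F
  haveI : Algebra.FinitePresentation K F := Algebra.FinitePresentation.of_finiteType.1 inferInstance
  haveI : Algebra.Etale K F := ⟨inferInstance, inferInstance⟩
  let g : F →ₐ[K] E ⊗[K] A := Algebra.TensorProduct.includeLeft.comp F.val
  haveI := OverField.of_surjective K g.rangeRestrict g.rangeRestrict_surjective
  exact le_max K g.range ⟨⟨c, IntermediateField.mem_adjoin_simple_self K c⟩, rfl⟩

theorem map_mem {A' : Type u} [CommRing A'] [Algebra K A'] (g : A →ₐ[K] A') {x : A} (hx : x ∈ maxWeaklyEtale K A) :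
    g x ∈ maxWeaklyEtale K A' := by
  haveI := adjoin_of_mem K hx
  let h := g.comp (Algebra.adjoin K {x}).val
  haveI := OverField.of_surjective K h.rangeRestrict h.rangeRestrict_surjective
  exact le_max K h.range ⟨⟨x, Algebra.self_mem_adjoin_singleton K x⟩, rfl⟩

theorem mem_of_map_mem {A' : Type u} [CommRing A'] [Algebra K A'] (g : A →ₐ[K] A') (hg : Function.Injective g) {x : A}
    (hx : g x ∈ maxWeaklyEtale K A') : x ∈ maxWeaklyEtale K A := by
  haveI := adjoin_of_mem K hx
  let h : Algebra.adjoin K {x} →ₐ[K] Algebra.adjoin K {g x} := (g.comp (Algebra.adjoin K {x}).val).codRestrict _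
    fun a => by
      have h1 : g a ∈ (Algebra.adjoin K {x}).map g := ⟨a, a.2, rfl⟩
      rw [AlgHom.map_adjoin, Set.image_singleton] at h1
      exact h1
  have hb : Function.Bijective h := by
    refine ⟨fun a b hab => Subtype.ext (hg (congrArg Subtype.val hab)), fun b => ?_⟩
    have h1 : (b : A') ∈ (Algebra.adjoin K {x}).map g := by rw [AlgHom.map_adjoin, Set.image_singleton]; exact b.2
    obtain ⟨a, ha, hab⟩ := h1
    exact ⟨⟨a, ha⟩, Subtype.ext hab⟩
  haveI := OverField.of_surjective K (AlgEquiv.ofBijective h hb).symm.toAlgHom (AlgEquiv.surjective _)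
  exact le_max K (Algebra.adjoin K {x}) (Algebra.self_mem_adjoin_singleton K x)

variable {E : Type u} [Field E] [Algebra K E] [IsGalois K E]

theorem galois_descent (W : Submodule E (E ⊗[K] A))
    (hW : ∀ σ : E ≃ₐ[K] E, ∀ w ∈ W, Algebra.TensorProduct.map σ.toAlgHom (AlgHom.id K A) w ∈ W) :
    W ≤ Submodule.span E {z | z ∈ W ∧ ∃ a : A, z = (1 : E) ⊗ₜ[K] a} := by
  classical
  let b := Module.Free.chooseBasis K A
  let B := b.baseChange E
  have hσ : ∀ (σ : E ≃ₐ[K] E) (w : E ⊗[K] A) j,
      B.repr (Algebra.TensorProduct.map σ.toAlgHom (AlgHom.id K A) w) j = σ (B.repr w j) := by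
    intro σ w j
    induction w using TensorProduct.induction_on with
    | zero => simp
    | add x y hx hy => simp only [map_add, Finsupp.add_apply, hx, hy]
    | tmul r m =>
      rw [Algebra.TensorProduct.map_tmul, Module.Basis.baseChange_repr_tmul, Module.Basis.baseChange_repr_tmul, map_smul]
      rfl
  let G : Finset (Module.Free.ChooseBasisIndex K A) → Set (E ⊗[K] A) := fun s =>
    {z | z ∈ W ∧ (∃ a : A, z = (1 : E) ⊗ₜ[K] a) ∧ ∀ j ∉ s, B.repr z j = 0}
  suffices h : ∀ (s : Finset (Module.Free.ChooseBasisIndex K A)), ∀ w ∈ W, (∀ j ∉ s, B.repr w j = 0) →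
      w ∈ Submodule.span E (G s) from fun w hw => by
    refine Submodule.span_mono (fun z hz => ?_) (h (B.repr w).support w hw fun j hj => Finsupp.notMem_support_iff.1 hj)
    exact ⟨hz.1, hz.2.1⟩
  intro s
  induction s using Finset.strongInduction with
  | _ s ih =>
    intro w hw hsupp
    have hmono : ∀ i ∈ s, ∀ v ∈ W, (∀ j ∉ s.erase i, B.repr v j = 0) → v ∈ Submodule.span E (G s) := fun i hi v hv h =>
      Submodule.span_mono (fun z (hz : z ∈ G (s.erase i)) => show z ∈ G s from
        ⟨hz.1, hz.2.1, fun j hj => hz.2.2 j fun h' => hj (Finset.mem_of_mem_erase h')⟩)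
        (ih _ (Finset.erase_ssubset hi) v hv h)
    by_cases hw0 : w = 0
    · rw [hw0]; exact zero_mem _
    obtain ⟨i, hi⟩ : ∃ i, B.repr w i ≠ 0 := by
      by_contra h
      push Not at h
      exact hw0 (B.repr.injective (Finsupp.ext fun j => by rw [h j, map_zero, Finsupp.zero_apply]))
    have his : i ∈ s := by_contra fun h => hi (hsupp i h)
    set v := (B.repr w i)⁻¹ • w with hv
    have hvW : v ∈ W := W.smul_mem _ hw
    have hvj : ∀ j, B.repr v j = (B.repr w i)⁻¹ * B.repr w j := fun j => by
      rw [hv, map_smul, Finsupp.smul_apply, smul_eq_mul]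
    have hwv : w = B.repr w i • v := by rw [hv, smul_smul, mul_inv_cancel₀ hi, one_smul]
    by_cases hfix : ∀ σ : E ≃ₐ[K] E, ∀ j, σ (B.repr v j) = B.repr v j
    · choose r hr using fun j => (InfiniteGalois.mem_range_algebraMap_iff_fixed (k := K) (B.repr v j)).2 fun σ => hfix σ j
      rw [hwv]
      refine Submodule.smul_mem _ _ (Submodule.subset_span ⟨hvW, ⟨∑ j ∈ s, r j • b j, ?_⟩, fun j hj => by
        rw [hvj, hsupp j hj, mul_zero]⟩)
      refine B.repr.injective (Finsupp.ext fun j => ?_)
      rw [tmul_sum, map_sum, Finsupp.finset_sum_apply]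
      simp only [Module.Basis.baseChange_repr_tmul, map_smul, B, Module.Basis.repr_self, Finsupp.smul_apply,
        Finsupp.single_apply, smul_eq_mul, mul_ite, mul_one, mul_zero, ite_smul, zero_smul, Finset.sum_ite_eq']
      rw [Algebra.smul_def, mul_one]
      by_cases hj : j ∈ s
      · rw [if_pos hj, hr j]
      · rw [if_neg hj]; exact (hvj j).trans (by rw [hsupp j hj, mul_zero])
    · push Not at hfix
      obtain ⟨σ, j₀, hj₀⟩ := hfix
      set d := Algebra.TensorProduct.map σ.toAlgHom (AlgHom.id K A) v - v with hd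
      have hdW : d ∈ W := sub_mem (hW σ v hvW) hvW
      have hdj : ∀ j, B.repr d j = σ (B.repr v j) - B.repr v j := fun j => by
        rw [hd, map_sub, Finsupp.sub_apply, hσ]
      have hdspan := ih _ (Finset.erase_ssubset his) d hdW fun j hj => by
        rw [hdj, hvj]
        rcases Decidable.em (j = i) with rfl | hne
        · rw [inv_mul_cancel₀ hi, map_one, sub_self]
        · rw [hsupp j fun h => hj (Finset.mem_erase.2 ⟨hne, h⟩), mul_zero, map_zero, sub_self]
      have hd0 : d ≠ 0 := fun h => hj₀ (sub_eq_zero.1 (by rw [← hdj, h, map_zero, Finsupp.zero_apply]))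
      obtain ⟨u, hu, hu0⟩ : ∃ u ∈ G (s.erase i), u ≠ 0 := by
        by_contra h
        push Not at h
        exact hd0 ((Submodule.span_eq_bot.2 h).le hdspan)
      obtain ⟨l, hl⟩ : ∃ l, B.repr u l ≠ 0 := by
        by_contra h
        push Not at h
        exact hu0 (B.repr.injective (Finsupp.ext fun j => by rw [h j, map_zero, Finsupp.zero_apply]))
      have hls : l ∈ s := Finset.mem_of_mem_erase (by_contra fun h => hl (hu.2.2 l h))
      have hw' := hmono l hls (w - (B.repr w l / B.repr u l) • u) (sub_mem hw (W.smul_mem _ hu.1)) fun j hj => by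
        rw [map_sub, map_smul, Finsupp.sub_apply, Finsupp.smul_apply, smul_eq_mul]
        rcases Decidable.em (j = l) with rfl | hne
        · rw [div_mul_cancel₀ _ hl, sub_self]
        · have hjs : j ∉ s := fun h => hj (Finset.mem_erase.2 ⟨hne, h⟩)
          rw [hsupp j hjs, hu.2.2 j fun h => hjs (Finset.mem_of_mem_erase h), mul_zero, sub_zero]
      have hu' : u ∈ Submodule.span E (G s) :=
        Submodule.subset_span ⟨hu.1, hu.2.1, fun j hj => hu.2.2 j fun h => hj (Finset.mem_of_mem_erase h)⟩
      simpa using add_mem hw' (Submodule.smul_mem _ (B.repr w l / B.repr u l) hu')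

/-- Over a Galois extension the maximal weakly étale subalgebra comes from below. -/
theorem mem_span_of_galois {z : E ⊗[K] A} (hz : z ∈ maxWeaklyEtale K (E ⊗[K] A)) :
    z ∈ Submodule.span E {w : E ⊗[K] A | ∃ a ∈ maxWeaklyEtale K A, w = (1 : E) ⊗ₜ[K] a} := by
  let W : Submodule E (E ⊗[K] A) :=
    { carrier := (maxWeaklyEtale K (E ⊗[K] A) : Set (E ⊗[K] A))
      add_mem' := fun h h' => add_mem h h'
      zero_mem' := zero_mem _
      smul_mem' := fun c x hx => by
        have h : c • x = (c ⊗ₜ[K] (1 : A)) * x := by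
          rw [← mul_one c, ← smul_eq_mul, ← TensorProduct.smul_tmul', smul_eq_mul, mul_one, smul_mul_assoc,
            ← Algebra.TensorProduct.one_def, one_mul]
        show c • x ∈ maxWeaklyEtale K (E ⊗[K] A)
        rw [h]
        exact mul_mem (tmul_one_mem K c) hx }
  refine Submodule.span_mono ?_ (galois_descent K W (fun σ w hw => map_mem K _ hw) (show z ∈ W from hz))
  rintro w ⟨hw, a, rfl⟩
  exact ⟨a, mem_of_map_mem K (Algebra.TensorProduct.includeRight : A →ₐ[K] E ⊗[K] A)
    (Algebra.TensorProduct.includeRight_injective (algebraMap K E).injective) (x := a) hw, rfl⟩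

theorem etale_adjoin {x : A} (hx : x ∈ maxWeaklyEtale K A) : Algebra.Etale K (Algebra.adjoin K {x}) := by
  haveI := adjoin_of_mem K hx
  haveI := OverField.etale_of_fg (B := Algebra.adjoin K {x}) K ⊤ ((Subalgebra.fg_top _).2 ⟨{x}, by simp⟩)
  exact Algebra.Etale.of_equiv (Subalgebra.topEquiv : (⊤ : Subalgebra K (Algebra.adjoin K {x})) ≃ₐ[K] _)

theorem idem_span {Ω : Type u} [Field Ω] [Algebra E Ω] [Algebra K Ω] [IsScalarTower K E Ω] [IsSepClosed E]
    (g : Ω ⊗[K] A) (hg : IsIdempotentElem g) :
    (Subalgebra.toSubmodule (maxWeaklyEtale K A)).mkQ.baseChange Ω g = 0 := by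
  let θ : (E ⊗[K] A) ⊗[E] Ω ≃ₐ[E] Ω ⊗[K] A :=
    (Algebra.TensorProduct.comm E _ _).trans (Algebra.TensorProduct.cancelBaseChange K E E Ω A)
  let jK : E ⊗[K] A →ₐ[E] Ω ⊗[K] A := Algebra.TensorProduct.map (Algebra.ofId E Ω) (AlgHom.id K A)
  have hfib : ∀ (P : Ideal (E ⊗[K] A)) [P.IsPrime], ConnectedSpace (PrimeSpectrum (P.ResidueField ⊗[E] Ω)) :=
    fun P _ => by
      haveI := Groth.Agent.H20.GeomIrred.sepClosed_tensor E P.ResidueField Ω
      infer_instance
  obtain ⟨f, ⟨hf, hfg⟩, -⟩ := Groth.Agent.H20.GeomIrred.existsUnique_idempotent hfib (θ.symm g) (hg.map θ.symm)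
  have hgf : g = jK f := by
    have h1 : g = θ (f ⊗ₜ[E] (1 : Ω)) := by
      rw [show f ⊗ₜ[E] (1 : Ω) = θ.symm g from hfg, AlgEquiv.apply_symm_apply]
    rw [h1]
    clear h1 hfg hf
    induction f using TensorProduct.induction_on with
    | zero => rw [TensorProduct.zero_tmul, map_zero, map_zero]
    | add a b ha hb => rw [TensorProduct.add_tmul, map_add, map_add, ha, hb]
    | tmul c a => simp [θ, jK, Algebra.smul_def]
  have hspan := mem_span_of_galois K (idem_mem K hf)
  rw [hgf]
  clear hgf hfg hf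
  induction hspan using Submodule.span_induction with
  | mem w hw =>
    obtain ⟨a, ha, rfl⟩ := hw
    rw [show jK ((1 : E) ⊗ₜ[K] a) = (1 : Ω) ⊗ₜ[K] a by simp [jK], LinearMap.baseChange_tmul,
      Submodule.mkQ_apply, (Submodule.Quotient.mk_eq_zero _).2 ha, TensorProduct.tmul_zero]
  | zero => rw [map_zero, map_zero]
  | add a b _ _ ha hb => rw [map_add, map_add, ha, hb, add_zero]
  | smul c a _ ha =>
    rw [map_smul, ← IsScalarTower.algebraMap_smul Ω c (jK a), map_smul, ha, smul_zero]

end

theorem hard {K L A : Type u} [Field K] [Field L] [Algebra K L] [CommRing A] [Algebra K A] {x : L ⊗[K] A}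
    (hx : x ∈ maxWeaklyEtale L (L ⊗[K] A)) :
    x ∈ Algebra.adjoin L ((Algebra.TensorProduct.includeRight : A →ₐ[K] L ⊗[K] A) '' (maxWeaklyEtale K A : Set A)) := by
  classical
  let Ω := AlgebraicClosure L
  let i : SeparableClosure K →ₐ[K] Ω := IsAlgClosed.lift
  letI : Algebra (SeparableClosure K) Ω := i.toRingHom.toAlgebra
  haveI : IsScalarTower K (SeparableClosure K) Ω := IsScalarTower.of_algebraMap_eq fun k => (i.commutes k).symm
  let Bm : Submodule K A := Subalgebra.toSubmodule (maxWeaklyEtale K A)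
  let q := Bm.mkQ
  have hrange : ∀ y : L ⊗[K] Bm, Bm.subtype.lTensor L y ∈
      Algebra.adjoin L ((Algebra.TensorProduct.includeRight : A →ₐ[K] L ⊗[K] A) '' (maxWeaklyEtale K A : Set A)) := fun y => by
    induction y using TensorProduct.induction_on with
    | zero => rw [map_zero]; exact zero_mem _
    | add a b ha hb => rw [map_add]; exact add_mem ha hb
    | tmul c a =>
      rw [LinearMap.lTensor_tmul, show c ⊗ₜ[K] (Bm.subtype a) = c • ((1 : L) ⊗ₜ[K] (a : A)) by
        rw [TensorProduct.smul_tmul', smul_eq_mul, mul_one]; rfl]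
      exact Subalgebra.smul_mem _ (Algebra.subset_adjoin (Set.mem_image_of_mem _ a.2)) c
  let j : L ⊗[K] A →ₐ[L] Ω ⊗[K] A := Algebra.TensorProduct.map (Algebra.ofId L Ω) (AlgHom.id K A)
  have hidem : ∀ g : Ω ⊗[K] A, IsIdempotentElem g → q.baseChange Ω g = 0 :=
    fun g hg => idem_span (E := SeparableClosure K) K g hg
  haveI : Algebra.Etale L (Algebra.adjoin L {x}) := etale_adjoin L hx
  let D := Ω ⊗[L] Algebra.adjoin L {x}
  let Φ : D →ₐ[Ω] Ω ⊗[K] A := Algebra.TensorProduct.lift (Algebra.ofId Ω _) (j.comp (Algebra.adjoin L {x}).val)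
    fun _ _ => Commute.all _ _
  let d : D := 1 ⊗ₜ ⟨x, Algebra.self_mem_adjoin_singleton L x⟩
  have hd : Φ d = j x := (Algebra.TensorProduct.lift_tmul _ _ _ _ _).trans ((congrArg (· * _) (map_one _)).trans (one_mul _))
  let e := Algebra.FormallyEtale.equivPiOfIsSepClosed Ω D
  haveI : Module.Finite Ω D := Algebra.FormallyUnramified.finite_of_free Ω D
  haveI : IsArtinianRing D := isArtinian_of_tower Ω inferInstance
  haveI : Fintype (PrimeSpectrum D) := Fintype.ofFinite _
  have hxq : q.baseChange Ω (j x) = 0 := by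
    have h1 : d = ∑ p, e d p • e.symm (Pi.single p 1) := by
      apply e.injective
      rw [map_sum]
      simp only [map_smul, AlgEquiv.apply_symm_apply]
      ext p
      simp [Pi.single_apply, Finset.sum_apply]
    rw [← hd, h1, map_sum, map_sum]
    refine Finset.sum_eq_zero fun p _ => ?_
    have hi : IsIdempotentElem (Pi.single p (1 : Ω) : PrimeSpectrum D → Ω) := by
      rw [IsIdempotentElem, ← Pi.single_mul, mul_one]
    rw [map_smul, map_smul, hidem _ ((hi.map e.symm).map Φ), smul_zero]
  -- descend along `L → Ω`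
  let ι : L →ₗ[K] Ω := (IsScalarTower.toAlgHom K L Ω).toLinearMap
  have hcomm : ∀ y, q.baseChange Ω (j y) = ι.rTensor (A ⧸ Bm) (q.lTensor L y) := fun y => by
    induction y using TensorProduct.induction_on with
    | zero => simp
    | add a b ha hb => simp only [map_add, ha, hb]
    | tmul c a => simp [j, ι, LinearMap.baseChange_tmul]
  have hq0 : q.lTensor L x = 0 :=
    Module.Flat.rTensor_preserves_injective_linearMap (M := A ⧸ Bm) ι (algebraMap L Ω).injective
      (by rw [← hcomm, hxq, map_zero])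
  obtain ⟨y, hy⟩ := ((lTensor_exact L (LinearMap.exact_subtype_mkQ Bm) Bm.mkQ_surjective) x).1 hq0
  exact hy ▸ hrange y


/-- Let L/K be a field extension and A a K-algebra. Then the largest weakly etale L-subalgebra of L ⊗_K
A is the L-subalgebra generated by the image of the largest weakly etale K-subalgebra of A. -/
theorem result (K L : Type u) [Field K] [Field L] [Algebra K L] (A : Type u) [CommRing A] [Algebra K A] :
    EtAlgD.maxWeaklyEtale L (L ⊗[K] A) =
      Algebra.adjoin L ((Algebra.TensorProduct.includeRight : A →ₐ[K] L ⊗[K] A) '' (EtAlgD.maxWeaklyEtale K A : Set A)) := by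
  refine le_antisymm (fun x hx => hard hx) (Algebra.adjoin_le ?_)
  rintro _ ⟨a, ha, rfl⟩
  haveI := Groth.Agent.S7141.adjoin_of_mem K ha
  let g : L ⊗[K] Algebra.adjoin K {a} →ₐ[L] L ⊗[K] A :=
    Algebra.TensorProduct.map (AlgHom.id L L) (Algebra.adjoin K {a}).val
  haveI := Groth.Agent.Lib.WeaklyEt.OverField.of_surjective L g.rangeRestrict g.rangeRestrict_surjective
  exact Groth.Agent.S7141.le_max L g.range ⟨1 ⊗ₜ ⟨a, Algebra.self_mem_adjoin_singleton K a⟩, rfl⟩

end Groth.Agent.S1978
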