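import Groth.Statements.S19781
import Groth.Agent.H73.ZarPair.Iso
import Groth.Agent.Lib.CurveBundle.Coherent

set_option autoImplicit false
set_option linter.style.haveILetI false
universe u
open CategoryTheory AlgebraicGeometry
open Coherent

namespace Groth.Agent.S19781

/-- Let A → A' be a homomorphism of Noetherian rings and J ⊂ A an ideal such that J and JA' lie in the
Jacobson radicals of A and A' (Zariski pairs) and A/J^n → A'/J^nA' is bijective for all n, and let U
⊂ Spec A be an open containing Spec A ∖ V(J), with g : U_{A'} → U the base change of Spec A' → Spec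
A. Then two finite locally free O_U-modules of rank n whose pullbacks along g are isomorphic are
isomorphic: H¹(U, GL_n) → H¹(U_{A'}, GL_n) is injective. -/
theorem result (A A' : Type u) [CommRing A] [CommRing A']
    [IsNoetherianRing A] [IsNoetherianRing A'] (φ : A →+* A') (J : Ideal A)
    (hJ : J ≤ (⊥ : Ideal A).jacobson) (hJ' : J.map φ ≤ (⊥ : Ideal A').jacobson)
    (hq : ∀ n : ℕ, Function.Bijective (Ideal.quotientMap (Ideal.map φ (J ^ n)) φ Ideal.le_comap_map))
    (U : (Spec (CommRingCat.of A)).Opens)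
    (hU : ∀ p : PrimeSpectrum A, ¬ J ≤ p.asIdeal → p ∈ U)
    (n : ℕ) (E₁ E₂ : (U : Scheme.{u}).Modules)
    (h₁ : FlatMod.IsFinLocFreeOfRank n E₁) (h₂ : FlatMod.IsFinLocFreeOfRank n E₂)
    (hiso : Nonempty ((Scheme.Modules.pullback ((Spec.map (CommRingCat.ofHom φ)) ∣_ U)).obj E₁ ≅ (Scheme.Modules.pullback ((Spec.map (CommRingCat.ofHom φ)) ∣_ U)).obj E₂)) :
    Nonempty (E₁ ≅ E₂) := by
  letI : Algebra A A' := φ.toAlgebra
  have hsc : H73.ZarPair.SameCompl (A' := A') J := by
    refine ⟨fun n a ha => ?_, fun n a' => ?_, hJ, hJ'⟩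
    · rw [← Ideal.map_pow] at ha
      rw [← Ideal.Quotient.eq_zero_iff_mem]
      apply (hq n).1
      rw [map_zero, Ideal.quotientMap_mk]
      exact Ideal.Quotient.eq_zero_iff_mem.2 ha
    · obtain ⟨b, hb⟩ := (hq n).2 (Ideal.Quotient.mk _ a')
      obtain ⟨a, rfl⟩ := Ideal.Quotient.mk_surjective b
      rw [Ideal.quotientMap_mk, Ideal.Quotient.eq] at hb
      refine ⟨a, ?_⟩
      rw [← Ideal.map_pow, ← neg_mem_iff, neg_sub]
      exact hb
  obtain ⟨ψ⟩ := hiso
  have hcoh : ∀ E : (U : Scheme.{u}).Modules, FlatMod.IsFinLocFreeOfRank n E → Coh.IsCoh E :=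
    fun E hE => Lib.CurveBundle.Coherent.isCoh fun x => by
      obtain ⟨V, hx, hV⟩ := hE x
      exact ⟨V, n, hx, hV⟩
  exact H73.ZarPair.iso_of_baseChange_iso hsc U hU E₁ E₂ (hcoh _ h₁) (hcoh _ h₂) ψ

end Groth.Agent.S19781
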