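import Groth.Statements.S19785
import Groth.Agent.H60.MuParabolic
-- import your own Groth.Agent.* helpers here

set_option autoImplicit false
universe u
open CategoryTheory MonoidalCategory CartesianMonoidalCategory MonObj AlgebraicGeometry Opposite
open GIT

namespace Groth.Agent.S19785

/-- Let k be an algebraically closed field, G a connected reductive algebraic group over k acting by σ
on a scheme X proper over k, L a G-linearised line bundle on X in total-space form, x a k-point of X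
and λ : 𝔾_m → G a one-parameter subgroup. Let γ be a k-point of G lying in the parabolic subgroup
P(λ), i.e. such that the morphism u ↦ λ(u)·γ·λ(u)⁻¹ from 𝔾_m to G extends to the affine line
(λ(u)γλ(u)⁻¹ has a limit in G as u → 0), and let λ' be the conjugate one-parameter subgroup u ↦
γ⁻¹·λ(u)·γ. Then μ^L(x, λ) = μ^L(x, λ'): the numerical function (the limit of λ(u)·x as u → 0 exists
and 𝔾_m acts on the fibre of L over it with exponent m) takes the same values at (x, λ) and at (x,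
λ'). (The published statement is for any reductive G; this row takes G connected.) -/
theorem result (k : Type u) [Field k] [IsAlgClosed k]
    (G X : Over (Spec (CommRingCat.of k))) [GrpObj G] (hG : Red.IsReductive G) [IsProper X.hom]
    (a : AlgGrp.Action G X) (B : GLinSh.LinBun G a) (x : 𝟙_ (Over (Spec (CommRingCat.of k))) ⟶ X)
    (l : Red.Gm (Spec (CommRingCat.of k)) ⟶ G) [IsMonHom l] (g₀ : 𝟙_ (Over (Spec (CommRingCat.of k))) ⟶ G)
    (hg₀ : ∃ f : HMNum.A1 (Spec (CommRingCat.of k)) ⟶ G, HMNum.incl (Spec (CommRingCat.of k)) ≫ f = l * (toUnit _ ≫ g₀) * l⁻¹)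
    (l' : Red.Gm (Spec (CommRingCat.of k)) ⟶ G) [IsMonHom l'] (hl' : l' = (toUnit _ ≫ g₀)⁻¹ * l * (toUnit _ ≫ g₀))
    (m : ℤ) : HMNum.IsMu B l x m ↔ HMNum.IsMu B l' x m := by
  have hcover : ∀ x₁ : 𝟙_ (Over (Spec (CommRingCat.of k))) ⟶ X,
      ∃ (U : X.left.Opens) (y : Γ(B.V.left, B.π.left ⁻¹ᵁ U)), y ∈ B.atlas.chart U ∧ x₁.left ⁻¹ᵁ U = ⊤ := by
    intro x₁
    have hsub : Subsingleton ↥(Spec (CommRingCat.of k)) :=
      inferInstanceAs (Subsingleton (PrimeSpectrum k))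
    let p : ↥(Spec (CommRingCat.of k)) := (⟨⊥, Ideal.isPrime_bot⟩ : PrimeSpectrum k)
    obtain ⟨U, hxU, y, hy⟩ := B.atlas.cover (x₁.left p)
    refine ⟨U, y, hy, top_le_iff.1 fun q _ ↦ ?_⟩
    rw [show q = p from hsub.elim (α := ↥(Spec (CommRingCat.of k))) q p]
    exact hxU
  have hl : ∀ (T' : Over (Spec (CommRingCat.of k))) (t : T' ⟶ 𝟙_ _) (g : T' ⟶ Red.Gm (Spec (CommRingCat.of k))),
      g ≫ l' = (t ≫ g₀)⁻¹ * (g ≫ l) * (t ≫ g₀) := by
    intro T' t g
    rw [hl']
    simp only [comp_mul, GrpObj.comp_inv]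
    rw [← Category.assoc, show g ≫ toUnit _ = t from toUnit_unique _ _]
  have : IsAffineHom G.hom := hG.1
  obtain ⟨f, hf⟩ := hg₀
  have hfac : ∀ (γ : 𝟙_ (Over (Spec (CommRingCat.of k))) ⟶ G) (F : HMNum.A1 (Spec (CommRingCat.of k)) ⟶ G),
      HMNum.incl (Spec (CommRingCat.of k)) ≫ F = l * (toUnit _ ≫ γ) * l⁻¹ →
      Groth.Agent.Lib.GrpSch.AttrAffine.OrbitFactors (Groth.Agent.H60.MuParabolic.conjAct l) HMNum.plus γ := by
    intro γ F hF
    refine ⟨fst _ _ ≫ F, ?_⟩
    rw [whiskerRight_fst_assoc]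
    rw [show Magnet.AMonS.map _ HMNum.plus.subtype = HMNum.incl (Spec (CommRingCat.of k)) from rfl, hF]
    have h2 := Groth.Agent.H60.MuParabolic.lift_conjAct l (fst (Red.Gm (Spec (CommRingCat.of k))) (𝟙_ _))
      (snd _ _ ≫ γ)
    rw [show lift (fst _ _) (snd _ _ ≫ γ) = Red.Gm (Spec (CommRingCat.of k)) ◁ γ by ext <;> simp] at h2
    refine Eq.trans ?_ h2.symm
    simp only [comp_mul, GrpObj.comp_inv]
    rw [← Category.assoc, show fst _ _ ≫ toUnit _ = snd (Red.Gm (Spec (CommRingCat.of k))) (𝟙_ _) from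
      toUnit_unique _ _]
  obtain ⟨ξ, hξ⟩ := (Groth.Agent.Lib.GrpSch.AttrAffine.exists_attr_iff _ _ g₀).2 (hfac g₀ f hf)
  obtain ⟨ξ', hξ'⟩ := (Groth.Agent.Lib.GrpSch.AttrAffine.exists_attr_iff _ _ g₀⁻¹).2 (hfac g₀⁻¹ f⁻¹ (by
    rw [GrpObj.comp_inv, hf, GrpObj.comp_inv]; group))
  constructor
  · intro h
    have h' := Groth.Agent.H60.MuTranslate.isMu_translate B l l' g₀ _ hl hcover m
      (Groth.Agent.H60.MuParabolic.isMu_of_attr B l g₀ ξ hξ x hcover m h)
    rwa [Groth.Agent.Lib.GrpSch.act_inv_act] at h'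
  · intro h
    have h' := Groth.Agent.H60.MuTranslate.isMu_translate B l' l g₀⁻¹ x (fun T' t g ↦ by
      rw [GrpObj.comp_inv, inv_inv, hl T' t g]; group) hcover m h
    rw [inv_inv] at h'
    have h'' := Groth.Agent.H60.MuParabolic.isMu_of_attr B l g₀⁻¹ ξ' hξ' _ hcover m h'
    rwa [Groth.Agent.Lib.GrpSch.act_inv_act] at h''

end Groth.Agent.S19785
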