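import Groth.Statements.S19786
import Groth.Agent.H60.MuTranslate
-- import your own Groth.Agent.* helpers here

set_option autoImplicit false
universe u
open CategoryTheory MonoidalCategory CartesianMonoidalCategory MonObj AlgebraicGeometry Opposite
open GIT

namespace Groth.Agent.S19786

/-- Let k be an algebraically closed field, G an algebraic group over k (a smooth group scheme of finite
type over k) acting by σ on a scheme X proper over k, L a G-linearised line bundle on X in
total-space form, x a k-point of X, λ : 𝔾_m → G a one-parameter subgroup and α a k-point of G; let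
λ' be the conjugate one-parameter subgroup u ↦ α⁻¹·λ(u)·α. Then μ^L(σ(α, x), λ) = μ^L(x, λ'): the
numerical function (the limit of the orbit as u → 0 exists and 𝔾_m acts on the fibre of L over it
with exponent m) takes the same values at the translated point α·x with λ and at x with λ'. -/
theorem result (k : Type u) [Field k] [IsAlgClosed k]
    (G X : Over (Spec (CommRingCat.of k))) [GrpObj G] [Smooth G.hom] [QuasiCompact G.hom] [IsProper X.hom]
    (a : AlgGrp.Action G X) (B : GLinSh.LinBun G a) (x : 𝟙_ (Over (Spec (CommRingCat.of k))) ⟶ X)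
    (l : Red.Gm (Spec (CommRingCat.of k)) ⟶ G) [IsMonHom l] (g₀ : 𝟙_ (Over (Spec (CommRingCat.of k))) ⟶ G)
    (l' : Red.Gm (Spec (CommRingCat.of k)) ⟶ G) [IsMonHom l'] (hl' : l' = (toUnit _ ≫ g₀)⁻¹ * l * (toUnit _ ≫ g₀))
    (m : ℤ) : HMNum.IsMu B l (lift g₀ x ≫ a.act) m ↔ HMNum.IsMu B l' x m := by
  have hcover : ∀ x₁ : 𝟙_ (Over (Spec (CommRingCat.of k))) ⟶ X,
      ∃ (U : X.left.Opens) (y : Γ(B.V.left, B.π.left ⁻¹ᵁ U)), y ∈ B.atlas.chart U ∧ x₁.left ⁻¹ᵁ U = ⊤ := by
    intro x₁
    have hsub : Subsingleton ↥(Spec (CommRingCat.of k)) :=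
      inferInstanceAs (Subsingleton (PrimeSpectrum k))
    let p : ↥(Spec (CommRingCat.of k)) := (⟨⊥, Ideal.isPrime_bot⟩ : PrimeSpectrum k)
    obtain ⟨U, hxU, y, hy⟩ := B.atlas.cover (x₁.left p)
    refine ⟨U, y, hy, top_le_iff.1 fun q _ ↦ ?_⟩
    rw [show q = p from hsub.elim (α := ↥(Spec (CommRingCat.of k))) q p]
    exact hxU
  have hl : ∀ (T' : Over (Spec (CommRingCat.of k))) (t : T' ⟶ 𝟙_ _) (g : T' ⟶ Red.Gm (Spec (CommRingCat.of k))),
      g ≫ l' = (t ≫ g₀)⁻¹ * (g ≫ l) * (t ≫ g₀) := by
    intro T' t g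
    rw [hl']
    simp only [comp_mul, GrpObj.comp_inv]
    rw [← Category.assoc, show g ≫ toUnit _ = t from toUnit_unique _ _]
  constructor
  · intro h
    have h' := Groth.Agent.H60.MuTranslate.isMu_translate B l l' g₀ _ hl hcover m h
    rwa [Groth.Agent.Lib.GrpSch.act_inv_act] at h'
  · intro h
    have h' := Groth.Agent.H60.MuTranslate.isMu_translate B l' l g₀⁻¹ x (fun T' t g ↦ by
      rw [GrpObj.comp_inv, inv_inv, hl T' t g]; group) hcover m h
    rwa [inv_inv] at h'

end Groth.Agent.S19786
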