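import Groth.Statements.S19789
import Groth.Agent.H60.MuTorus.Torus
-- import your own Groth.Agent.* helpers here

set_option autoImplicit false
universe u
open CategoryTheory MonoidalCategory CartesianMonoidalCategory MonObj AlgebraicGeometry Opposite
open GIT

namespace Groth.Agent.S19789

/-- Let k be an algebraically closed field, G a connected reductive algebraic group over k, i : T → G a
maximal torus of G, X a scheme proper over k on which G acts, L an ample G-linearised line bundle on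
X in total-space form, x a k-point of X, and λ₁, λ₂ one-parameter subgroups of T with pointwise
product λ₁λ₂ (a one-parameter subgroup of T, which is commutative). Then μ^L(x, i∘(λ₁λ₂)) ≤ μ^L(x,
i∘λ₁) + μ^L(x, i∘λ₂): whenever the numerical function (the limit of the orbit as u → 0 exists and
𝔾_m acts on the fibre of L over it with the stated exponent) takes the values m₁ at i∘λ₁, m₂ at i∘λ₂
and m at i∘(λ₁λ₂), one has m ≤ m₁ + m₂. (The published statement is for any reductive G; this row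
takes G connected.) -/
theorem result (k : Type u) [Field k] [IsAlgClosed k]
    (G X T : Over (Spec (CommRingCat.of k))) [GrpObj G] [GrpObj T] (hG : Red.IsReductive G)
    (i : T ⟶ G) [IsMonHom i] (hi : Red.IsMaximalTorus i) [IsProper X.hom]
    (a : AlgGrp.Action G X) (B : GLinSh.LinBun G a) (hB : HMNum.AmpleCover B)
    (x : 𝟙_ (Over (Spec (CommRingCat.of k))) ⟶ X)
    (l₁ l₂ : Red.Gm (Spec (CommRingCat.of k)) ⟶ T) [IsMonHom l₁] [IsMonHom l₂] [IsMonHom ((l₁ * l₂) ≫ i)]
    (m₁ m₂ m : ℤ) (h₁ : HMNum.IsMu B (l₁ ≫ i) x m₁) (h₂ : HMNum.IsMu B (l₂ ≫ i) x m₂)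
    (h : HMNum.IsMu B ((l₁ * l₂) ≫ i) x m) : m ≤ m₁ + m₂ := by
  obtain ⟨n, ℓ, hadd, hμ⟩ := H60.MuTorus.exists_functionals B hi.2.2.1 i hB
  obtain ⟨I, hI⟩ := hμ x
  haveI := hi.2.1
  haveI : IsMonHom (l₁ * l₂) := H87.SplitMax.isMonHom_of_comp (l₁ * l₂) ((l₁ * l₂) ≫ i) i rfl
  obtain ⟨j, hj, hjm, -⟩ := (hI (l₁ * l₂) m).1 h
  obtain ⟨j₁, -, h₁e, h₁m⟩ := (hI l₁ m₁).1 h₁
  obtain ⟨j₂, -, h₂e, h₂m⟩ := (hI l₂ m₂).1 h₂
  have := h₁m j hj
  have := h₂m j hj
  have h3 : (m : ℚ) ≤ (m₁ : ℚ) + m₂ := by rw [hjm, hadd]; linarith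
  exact_mod_cast h3

end Groth.Agent.S19789
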