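import Groth.Statements.S19790
import Groth.Agent.H60.MuTorus.Conj
import Groth.Agent.H60.MuTorus.Bound
import Groth.Agent.H60.MuTranslate
-- import your own Groth.Agent.* helpers here

set_option autoImplicit false
universe u
open CategoryTheory MonoidalCategory CartesianMonoidalCategory MonObj AlgebraicGeometry Opposite
open GIT

namespace Groth.Agent.S19790

/-- Let k be an algebraically closed field, G a connected reductive algebraic group over k, i : T → G a
maximal torus, X a scheme proper over k on which G acts by σ, and L an ample G-linearised line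
bundle on X in total-space form. Fix a norm on one-parameter subgroups as for the flag complex: a
symmetric biadditive form b on the one-parameter subgroups of T (a group under pointwise product)
with rational values, positive on every non-trivial one-parameter subgroup, and a real function ‖·‖
on the one-parameter subgroups of G such that for every one-parameter subgroup λ of T and every
k-point γ of G the conjugate u ↦ γ·i(λ(u))·γ⁻¹ has ‖γ·(i∘λ)·γ⁻¹‖ ≥ 0 and ‖γ·(i∘λ)·γ⁻¹‖² = b(λ, λ)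
(every one-parameter subgroup of G is conjugate under G(k) to one of T, so this determines ‖·‖ on
all of them; consistency forces b to be invariant under the Weyl group, and such forms exist). Then
there is a constant K such that |μ^L(x, λ)| ≤ K·‖λ‖ for every k-point x of X and every one-parameter
subgroup λ of G: whenever the numerical function of x at λ (the limit of λ(u)·x as u → 0 exists and
𝔾_m acts on the fibre of L over it with exponent m) takes the value m, |m| ≤ K·‖λ‖. In other words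
the normalised function ν^L(x, λ) = μ^L(x, λ)/‖λ‖ is bounded in absolute value, uniformly in x and
λ. (The published statement is for any reductive G; this row takes G connected.) -/
theorem result (k : Type u) [Field k] [IsAlgClosed k]
    (G X T : Over (Spec (CommRingCat.of k))) [GrpObj G] [GrpObj T] (hG : Red.IsReductive G)
    (i : T ⟶ G) [IsMonHom i] (hi : Red.IsMaximalTorus i) [IsProper X.hom]
    (a : AlgGrp.Action G X) (B : GLinSh.LinBun G a) (hB : HMNum.AmpleCover B)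
    (b : (Red.Gm (Spec (CommRingCat.of k)) ⟶ T) → (Red.Gm (Spec (CommRingCat.of k)) ⟶ T) → ℚ)
    (hb_add : ∀ (l₁ l₂ l₃ : Red.Gm (Spec (CommRingCat.of k)) ⟶ T) [IsMonHom l₁] [IsMonHom l₂] [IsMonHom l₃],
      b (l₁ * l₂) l₃ = b l₁ l₃ + b l₂ l₃)
    (hb_symm : ∀ (l₁ l₂ : Red.Gm (Spec (CommRingCat.of k)) ⟶ T) [IsMonHom l₁] [IsMonHom l₂], b l₁ l₂ = b l₂ l₁)
    (hb_pos : ∀ (l : Red.Gm (Spec (CommRingCat.of k)) ⟶ T) [IsMonHom l], l ≠ 1 → 0 < b l l)
    (nrm : (Red.Gm (Spec (CommRingCat.of k)) ⟶ G) → ℝ)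
    (hnrm : ∀ (l : Red.Gm (Spec (CommRingCat.of k)) ⟶ T) [IsMonHom l] (g : 𝟙_ (Over (Spec (CommRingCat.of k))) ⟶ G),
      0 ≤ nrm ((toUnit _ ≫ g) * (l ≫ i) * (toUnit _ ≫ g)⁻¹) ∧
        nrm ((toUnit _ ≫ g) * (l ≫ i) * (toUnit _ ≫ g)⁻¹) ^ 2 = ((b l l : ℚ) : ℝ)) :
    ∃ K : ℝ, ∀ (x : 𝟙_ (Over (Spec (CommRingCat.of k))) ⟶ X) (l : Red.Gm (Spec (CommRingCat.of k)) ⟶ G) [IsMonHom l] (m : ℤ),
      HMNum.IsMu B l x m → |(m : ℝ)| ≤ K * nrm l := by
  classical
  obtain ⟨haff, hsm, hconn⟩ := H60.MuTorus.reductive_props hG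
  haveI := haff
  haveI := hsm
  haveI := hconn
  have hmax := H60.MuTorus.isMaxTorus_of_isMaximalTorus hi
  obtain ⟨N, ℓ, hadd, hμ⟩ := H60.MuTorus.exists_functionals B hi.2.2.1 i hB
  choose C hC hCl using fun j => H60.MuTorus.exists_bound hi.2.2.1 b hb_add hb_symm hb_pos (ℓ j) (hadd j)
  refine ⟨∑ j, Real.sqrt (C j : ℝ), fun x l _ m hm => ?_⟩
  obtain ⟨γ, p, hp, hpi⟩ := H60.MuTorus.exists_conj_torus hmax l
  haveI := hp
  haveI : IsMonHom (p ≫ i) := inferInstance
  have hcomp : ∀ (T' : Over (Spec (CommRingCat.of k))) (g : T' ⟶ Red.Gm (Spec (CommRingCat.of k))),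
      g ≫ p ≫ i = (toUnit T' ≫ γ) * (g ≫ l) * (toUnit T' ≫ γ)⁻¹ := fun T' g => by
    rw [hpi, H1.Classical.Scheme'.conj_comp]
  have hm' := H60.MuTranslate.isMu_translate B l (p ≫ i) γ⁻¹ x
    (fun T' t g => by rw [hcomp, toUnit_unique t (toUnit T'), GrpObj.comp_inv]; group)
    (fun z => by
      obtain ⟨U, y, hy, hU⟩ := H60.MuTorus.exists_chart B z
      exact ⟨U, y, hy, H60.MuTorus.preimage_eq_top hU⟩) m hm
  obtain ⟨I, hI⟩ := hμ (lift γ⁻¹⁻¹ x ≫ a.act)
  obtain ⟨j, -, hj, -⟩ := (hI p m).1 hm'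
  have hl : (toUnit _ ≫ γ⁻¹) * (p ≫ i) * (toUnit _ ≫ γ⁻¹)⁻¹ = l := by
    rw [hpi, AGF.conjBy, GrpObj.comp_inv]
    group
  obtain ⟨hnn, hsq⟩ := hnrm p γ⁻¹
  rw [hl] at hnn hsq
  have h1 : ((m : ℝ)) ^ 2 ≤ (C j : ℝ) * nrm l ^ 2 := by
    rw [hsq]
    have h0 := hCl j p
    rw [← hj] at h0
    exact_mod_cast h0
  calc |(m : ℝ)| = Real.sqrt ((m : ℝ) ^ 2) := (Real.sqrt_sq_eq_abs _).symm
    _ ≤ Real.sqrt ((C j : ℝ) * nrm l ^ 2) := Real.sqrt_le_sqrt h1
    _ = Real.sqrt (C j : ℝ) * nrm l := by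
        rw [Real.sqrt_mul (by exact_mod_cast hC j), Real.sqrt_sq hnn]
    _ ≤ (∑ j, Real.sqrt (C j : ℝ)) * nrm l :=
        mul_le_mul_of_nonneg_right
          (Finset.single_le_sum (fun j _ => Real.sqrt_nonneg (C j : ℝ)) (Finset.mem_univ j)) hnn

end Groth.Agent.S19790
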