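import Groth.Statements.S19791
import Groth.Agent.H60.MuTranslate
-- import your own Groth.Agent.* helpers here

set_option autoImplicit false
universe u
open CategoryTheory MonoidalCategory CartesianMonoidalCategory MonObj AlgebraicGeometry Opposite
open GIT

namespace Groth.Agent.S19791

/-- Let k be an algebraically closed field, G a connected reductive algebraic group over k acting by σ
on a scheme X proper over k, L an ample G-linearised line bundle on X in total-space form, and ‖·‖ a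
real-valued function on the one-parameter subgroups of G invariant under conjugation by k-points of
G (‖γ·λ·γ⁻¹‖ = ‖λ‖; nothing else is assumed of ‖·‖). For a k-point x of X consider the set of real
numbers μ^L(x, λ)/‖λ‖, where λ runs over the non-trivial one-parameter subgroups of G and μ^L(x, λ)
= m means that the limit of λ(u)·x as u → 0 exists and 𝔾_m acts on the fibre of L over it with
exponent m; its infimum is the number M^L(x). Then for every k-point g of G the sets attached to g·x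
and to x coincide, so that M^L(g·x) = M^L(x). (The published statement is for any reductive G, not
necessarily connected, acting on a projective variety; this row takes G connected and X any scheme
proper over k.) -/
theorem result (k : Type u) [Field k] [IsAlgClosed k]
    (G X : Over (Spec (CommRingCat.of k))) [GrpObj G] (hG : Red.IsReductive G) [IsProper X.hom]
    (a : AlgGrp.Action G X) (B : GLinSh.LinBun G a) (hB : HMNum.AmpleCover B)
    (nrm : (Red.Gm (Spec (CommRingCat.of k)) ⟶ G) → ℝ)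
    (hnrm : ∀ (l : Red.Gm (Spec (CommRingCat.of k)) ⟶ G) [IsMonHom l] (g : 𝟙_ (Over (Spec (CommRingCat.of k))) ⟶ G),
      nrm ((toUnit _ ≫ g) * l * (toUnit _ ≫ g)⁻¹) = nrm l)
    (x : 𝟙_ (Over (Spec (CommRingCat.of k))) ⟶ X) (g : 𝟙_ (Over (Spec (CommRingCat.of k))) ⟶ G) (q : ℝ) :
    (∃ (l : Red.Gm (Spec (CommRingCat.of k)) ⟶ G) (_ : IsMonHom l) (m : ℤ),
        l ≠ 1 ∧ HMNum.IsMu B l (lift g x ≫ a.act) m ∧ q = (m : ℝ) / nrm l) ↔
      ∃ (l : Red.Gm (Spec (CommRingCat.of k)) ⟶ G) (_ : IsMonHom l) (m : ℤ),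
        l ≠ 1 ∧ HMNum.IsMu B l x m ∧ q = (m : ℝ) / nrm l := by
  have hcover : ∀ x₁ : 𝟙_ (Over (Spec (CommRingCat.of k))) ⟶ X,
      ∃ (U : X.left.Opens) (y : Γ(B.V.left, B.π.left ⁻¹ᵁ U)), y ∈ B.atlas.chart U ∧ x₁.left ⁻¹ᵁ U = ⊤ := by
    intro x₁
    have hsub : Subsingleton ↥(Spec (CommRingCat.of k)) :=
      inferInstanceAs (Subsingleton (PrimeSpectrum k))
    let p : ↥(Spec (CommRingCat.of k)) := (⟨⊥, Ideal.isPrime_bot⟩ : PrimeSpectrum k)
    obtain ⟨U, hxU, y, hy⟩ := B.atlas.cover (x₁.left p)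
    refine ⟨U, y, hy, top_le_iff.1 fun q' _ ↦ ?_⟩
    rw [show q' = p from hsub.elim (α := ↥(Spec (CommRingCat.of k))) q' p]
    exact hxU
  have hconj : ∀ (l : Red.Gm (Spec (CommRingCat.of k)) ⟶ G) [IsMonHom l] (γ : 𝟙_ (Over (Spec (CommRingCat.of k))) ⟶ G),
      IsMonHom ((toUnit _ ≫ γ) * l * (toUnit _ ≫ γ)⁻¹) := fun l _ γ ↦ by
    have hc : ∀ {T : Over (Spec (CommRingCat.of k))} (t : T ⟶ Red.Gm (Spec (CommRingCat.of k))),
        t ≫ toUnit _ ≫ γ = toUnit T ≫ γ := fun t ↦ by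
      rw [← Category.assoc, toUnit_unique (t ≫ toUnit _) (toUnit _)]
    constructor
    · rw [MonObj.one_eq_one, MonObj.one_eq_one]
      simp only [comp_mul, GrpObj.comp_inv, MonObj.one_comp, hc]
      rw [_root_.mul_one, mul_inv_cancel]
    · rw [MonObj.mul_eq_mul (M := Red.Gm (Spec (CommRingCat.of k))), MonObj.mul_eq_mul (M := G)]
      simp only [comp_mul, GrpObj.comp_inv, tensorHom_fst, tensorHom_snd, MonObj.mul_comp, hc]
      group
  have hl : ∀ (l : Red.Gm (Spec (CommRingCat.of k)) ⟶ G) (γ : 𝟙_ (Over (Spec (CommRingCat.of k))) ⟶ G)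
      (T' : Over (Spec (CommRingCat.of k))) (t : T' ⟶ 𝟙_ _) (s : T' ⟶ Red.Gm (Spec (CommRingCat.of k))),
      s ≫ ((toUnit _ ≫ γ) * l * (toUnit _ ≫ γ)⁻¹) = (t ≫ γ) * (s ≫ l) * (t ≫ γ)⁻¹ := by
    intro l γ T' t s
    simp only [comp_mul, GrpObj.comp_inv]
    rw [← Category.assoc, show s ≫ toUnit _ = t from toUnit_unique _ _]
  have hne : ∀ (l : Red.Gm (Spec (CommRingCat.of k)) ⟶ G) (γ : 𝟙_ (Over (Spec (CommRingCat.of k))) ⟶ G),
      l ≠ 1 → (toUnit _ ≫ γ) * l * (toUnit _ ≫ γ)⁻¹ ≠ 1 := fun l γ hne h ↦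
    hne (conj_eq_one_iff.1 h)
  constructor
  · rintro ⟨l, hlm, m, hl1, hmu, rfl⟩
    have := hconj l g⁻¹
    refine ⟨(toUnit _ ≫ g⁻¹) * l * (toUnit _ ≫ g⁻¹)⁻¹, this, m, hne l g⁻¹ hl1, ?_, by rw [hnrm]⟩
    have h' := Groth.Agent.H60.MuTranslate.isMu_translate B l _ g _ (fun T' t s ↦ by
      rw [hl l g⁻¹ T' t s, GrpObj.comp_inv, inv_inv]) hcover m hmu
    rwa [Groth.Agent.Lib.GrpSch.act_inv_act] at h'
  · rintro ⟨l, hlm, m, hl1, hmu, rfl⟩
    have := hconj l g
    refine ⟨(toUnit _ ≫ g) * l * (toUnit _ ≫ g)⁻¹, this, m, hne l g hl1, ?_, by rw [hnrm]⟩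
    have h' := Groth.Agent.H60.MuTranslate.isMu_translate B l _ g⁻¹ x (fun T' t s ↦ by
      rw [hl l g T' t s, GrpObj.comp_inv, inv_inv]) hcover m hmu
    rwa [inv_inv] at h'

end Groth.Agent.S19791
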