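import Groth.Statements.S19796
import Groth.Agent.Lib.CurveFF.NondegMap
import Groth.Agent.Lib.CurveFF.CliffordField
import Groth.Agent.Lib.CurveFF.Drop
import Groth.Agent.Lib.CurveFF.Hyp
-- import your own Groth.Agent.* helpers here

set_option autoImplicit false
universe u
open CategoryTheory CategoryTheory.Limits AlgebraicGeometry Opposite
open Curves

namespace Groth.Agent.S19796
open Groth.Agent.Lib
attribute [local instance] Curv2.stalkAlgebra

/-- Let X be a smooth projective curve over an algebraically closed field k of characteristic 0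
(integral, proper over k, of dimension one, all local rings regular) and ψ : X ⟶ P^r_k a k-morphism
which is non-degenerate (every nonzero global section of O(1) pulls back to a nonzero section of
ψ^*O(1)), with deg ψ^*O(1) = 2r + c for some 0 ≤ c ≤ r - 2; equivalently ψ is the map of a
base-point-free linear system of dimension r and degree 2r + c. Suppose ψ is not birational onto its
image, in the following form: ψ = π ≫ η ≫ j where π : X ⟶ Γ is a k-morphism, finite and flat of
constant rank a ≥ 2, onto a smooth projective curve Γ over k, j : Y ⟶ P^r_k is an integral closed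
subscheme and η : Γ ⟶ Y restricts to an isomorphism over a nonempty open subset of Y. Then a = 2 and
the genus γ of Γ satisfies 2γ ≤ c. Degrees are χ(·) - χ(O_X). -/
theorem result (k : Type u) [Field k] [IsAlgClosed k] [CharZero k] (X : Scheme.{u}) [X.Over (Spec (CommRingCat.of k))]
    [IsIntegral X] [IsProper (X ↘ (Spec (CommRingCat.of k)))] (hdim : topologicalKrullDim X = 1)
    (hreg : ∀ x : X, IsRegularLocalRing (X.presheaf.stalk x))
    (r c : ℕ) (hc : c + 2 ≤ r)
    (Γ : Scheme.{u}) [Γ.Over (Spec (CommRingCat.of k))] [IsIntegral Γ] [IsProper (Γ ↘ (Spec (CommRingCat.of k)))]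
    (hdimΓ : topologicalKrullDim Γ = 1) (hregΓ : ∀ y : Γ, IsRegularLocalRing (Γ.presheaf.stalk y))
    (π : X ⟶ Γ) (hπ : π ≫ (Γ ↘ Spec (CommRingCat.of k)) = X ↘ Spec (CommRingCat.of k))
    [IsFinite π] [Flat π] (a : ℕ) (ha2 : 2 ≤ a) (ha : ∀ y : Γ, Scheme.Hom.finrank π y = a)
    (Y : Scheme.{u}) [IsIntegral Y] (j : Y ⟶ CohB1.ProjSpace r k) [IsClosedImmersion j] (η : Γ ⟶ Y)
    (hη : η ≫ j ≫ CohB1.ProjSpace.toSpec r k = Γ ↘ Spec (CommRingCat.of k))
    (hbir : ∃ U : Y.Opens, (U : Set Y).Nonempty ∧ IsIso (η ∣_ U))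
    (hnd : ∀ s : LinSer.Sect (CohB1.ProjSpace r k) (Twist.twistProjSpace r k 1), s ≠ 0 → OmegaSh.pullSect (π ≫ η ≫ j) (Twist.twistProjSpace r k 1) ⊤ s ≠ 0)
    (hdeg : Curv2.deg k X ((Scheme.Modules.pullback (π ≫ η ≫ j)).obj (Twist.twistProjSpace r k 1)) 1 = 2 * r + c) :
    a = 2 ∧ 2 * Curv2.genus k Γ ≤ (c : ℤ) := by
  classical
  have hX := CurveFF.curveHyp_of_regular k hdim hreg
  have hΓ := CurveFF.curveHyp_of_regular k hdimΓ hregΓ
  have hK := CurveFF.isFunctionField (k := k) hX (Curves.GlobalSections.finrank_h0_structure k X)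
  have hK' := CurveFF.isFunctionField (k := k) hΓ (Curves.GlobalSections.finrank_h0_structure k Γ)
  have e := CurveFF.CoverField.generic_eq hdim hdimΓ π
  obtain ⟨hfd, hG, hgen, hG2⟩ := CurveFF.CoverField.facts hK hΓ
    (Curves.GlobalSections.finrank_h0_structure k Γ) π hπ ha e
  haveI := hfd
  have hq : (η ≫ j) ≫ CohB1.ProjSpace.toSpec r k = Γ ↘ Spec (CommRingCat.of k) := by
    rw [Category.assoc, hη]
  obtain ⟨z, D, hz, ⟨l, hl⟩, hzD, hD⟩ :=
    CurveFF.NondegMap.exists_coords hX hK π e hπ (η ≫ j) hq hnd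
  rw [hdeg] at hD
  set B := _root_.FunFld.mapDiv k z with hB
  have hzB : ∀ i, z i ∈ _root_.FunFld.L B := fun i =>
    FunFld.LinSys.VeryAmple.span_le_L hG (Submodule.subset_span ⟨i, rfl⟩)
  have hBell : r + 1 ≤ _root_.FunFld.ell B := by
    haveI := FunFld.Degree.finiteDimensional_L hG B
    have h := (LinearIndependent.of_comp (_root_.FunFld.L B).subtype
      (v := fun i => (⟨z i, hzB i⟩ : _root_.FunFld.L B)) hz).fintype_card_le_finrank
    rwa [Fintype.card_fin] at h
  have hle : _root_.FunFld.conorm X.functionField B ≤ D := fun R => by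
    obtain ⟨Q, m, -, hm⟩ := FunFld.Ext.exists_place_below hG R
    rw [FunFld.Ext.conorm_apply hG B hm, hB, FunFld.MapDiv.mapDiv_apply hG.1]
    obtain ⟨i, -, hi⟩ := Finset.exists_mem_eq_inf' Finset.univ_nonempty (fun i => Q.ord (z i))
    rw [hi]
    have hne : z i ≠ 0 := hz.ne_zero i
    have h1 := ((FunFld.Degree.mem_L_iff_ord.1 (hzD i)).resolve_left fun h0 => hne (Subtype.ext h0)) R
    have h2 : R.ord ((z i : (CurveFF.CoverField.field π hπ e).fieldRange) : X.functionField) = (m : ℤ) * Q.ord (z i) := FunFld.Ext.ord_map hm (z i)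
    rw [h2] at h1
    linarith
  have hdegB := FunFld.Degree.deg_mono hle
  rw [FunFld.Ext.deg_conorm hG, hG2, hD] at hdegB
  -- transport to the curve below
  obtain ⟨W, hW⟩ := FunFld.Weil.exists_isCanonical hG
  have hrr := FunFld.Weil.riemann_roch hG hW B
  have hWd := FunFld.Weil.deg_canonical hG hW
  rw [hgen] at hrr hWd
  have hBd : (_root_.FunFld.ell B : ℤ) ≤ B.deg + 1 := by
    have h := FunFld.Degree.ell_sub_ell_le hG (D₁ := 0) (D₂ := B) (fun Q => by
      have h1 : B Q = _ := FunFld.MapDiv.mapDiv_apply hG.1 z Q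
      rw [h1, Finsupp.coe_zero, Pi.zero_apply]
      have h2 := Finset.inf'_le (fun i => Q.ord (z i)) (Finset.mem_univ l)
      simp only [hl, FunFld.Place.ord_one] at h2
      linarith)
    rw [FunFld.Degree.ell_zero hG, FunFld.Degree.deg_zero] at h
    omega
  have hrB : (r : ℤ) ≤ B.deg := by omega
  rcases Nat.eq_zero_or_pos (_root_.FunFld.ell (W - B)) with h0 | h0
  · have ha3 : a = 2 := by
      by_contra hne
      have : (3 : ℤ) * B.deg ≤ (a : ℤ) * B.deg :=
        mul_le_mul_of_nonneg_right (by omega) (by omega)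
      omega
    subst ha3
    refine ⟨rfl, ?_⟩
    push_cast at hdegB
    omega
  · exfalso
    have hcl := CurveFF.CliffordField.clifford hG hW (D := B) (by omega) h0
    have hadd : 2 * (r : ℤ) ≤ B.deg := by omega
    have : (2 : ℤ) * B.deg ≤ (a : ℤ) * B.deg := mul_le_mul_of_nonneg_right (by omega) (by omega)
    omega

end Groth.Agent.S19796
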