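import Groth.Statements.S19797
import Groth.Agent.Lib.CurveFF.BirationalBound
-- import your own Groth.Agent.* helpers here

set_option autoImplicit false
universe u
open CategoryTheory CategoryTheory.Limits AlgebraicGeometry Opposite
open Curves

namespace Groth.Agent.S19797
open Groth.Agent.Lib
attribute [local instance] Curv2.stalkAlgebra

/-- Let X be a smooth projective curve of genus g over an algebraically closed field k of characteristic
0 (integral, proper over k, of dimension one, all local rings regular) and ψ : X ⟶ P^r_k a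
k-morphism which is non-degenerate (every nonzero global section of O(1) pulls back to a nonzero
section of ψ^*O(1)), with deg ψ^*O(1) = 2r + c for some 0 ≤ c ≤ r - 2; equivalently ψ is the map of
a base-point-free linear system of dimension r and degree 2r + c. Suppose ψ is birational onto its
image: ψ = φ ≫ j with j : Y ⟶ P^r_k an integral closed subscheme and φ : X ⟶ Y restricting to an
isomorphism over a nonempty open subset of Y. Then g ≤ r + 2c + 1. (The published statement adds
that in the case g = r + 2c + 1 the curve is trigonal when c is positive and the system is canonical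
when c = 0; that refinement is not stated here.) -/
theorem result (k : Type u) [Field k] [IsAlgClosed k] [CharZero k] (X : Scheme.{u}) [X.Over (Spec (CommRingCat.of k))]
    [IsIntegral X] [IsProper (X ↘ (Spec (CommRingCat.of k)))] (hdim : topologicalKrullDim X = 1)
    (hreg : ∀ x : X, IsRegularLocalRing (X.presheaf.stalk x))
    (r c : ℕ) (hc : c + 2 ≤ r)
    (Y : Scheme.{u}) [IsIntegral Y] (j : Y ⟶ CohB1.ProjSpace r k) [IsClosedImmersion j] (φ : X ⟶ Y)
    (hφ : φ ≫ j ≫ CohB1.ProjSpace.toSpec r k = X ↘ Spec (CommRingCat.of k))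
    (hbir : ∃ U : Y.Opens, (U : Set Y).Nonempty ∧ IsIso (φ ∣_ U))
    (hnd : ∀ s : LinSer.Sect (CohB1.ProjSpace r k) (Twist.twistProjSpace r k 1), s ≠ 0 → OmegaSh.pullSect (φ ≫ j) (Twist.twistProjSpace r k 1) ⊤ s ≠ 0)
    (hdeg : Curv2.deg k X ((Scheme.Modules.pullback (φ ≫ j)).obj (Twist.twistProjSpace r k 1)) 1 = 2 * r + c) :
    Curv2.genus k X ≤ (r : ℤ) + 2 * c + 1 := by
  classical
  have h := CurveFF.curveHyp_of_regular k hdim hreg
  have hK := CurveFF.isFunctionField (k := k) h (Curves.GlobalSections.finrank_h0_structure k X)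
  have hq : (φ ≫ j) ≫ CohB1.ProjSpace.toSpec r k = X ↘ Spec (CommRingCat.of k) := by
    rw [Category.assoc, hφ]
  have hinv : PicF.IsInvertible (Twist.twist (CohB1.polyGrading r k) 1) :=
    ProjTilde.Invertible.twist_isInvertible_of_cover (fun y => by
      obtain ⟨c, hc⟩ := ProjMor.Main.cover (ProjMor.Poly.lin_mem r k) (ProjMor.Poly.adjoin_lin r k) y
      exact ⟨c, c.2, hc⟩) 1
  have hL : PicF.IsInvertible ((Scheme.Modules.pullback (φ ≫ j)).obj (Twist.twistProjSpace r k 1)) :=
    PicLoc.isInvertible_pullback (φ ≫ j) hinv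
  have hlow : r + 1 ≤ Module.finrank k
      (Coh.HH X ((Scheme.Modules.pullback (φ ≫ j)).obj (Twist.twistProjSpace r k 1)) 0) := by
    have e1 : 𝟙 X ≫ φ ≫ j = φ ≫ j := Category.id_comp _
    rw [← e1]
    have hnd' : ∀ s : LinSer.Sect (CohB1.ProjSpace r k) (Twist.twistProjSpace r k 1), s ≠ 0 →
        OmegaSh.pullSect (𝟙 X ≫ φ ≫ j) (Twist.twistProjSpace r k 1) ⊤ s ≠ 0 := by
      rw [e1]; exact hnd
    obtain ⟨R⟩ : Nonempty (CurveFF.LineDiv.Rep
        ((Scheme.Modules.pullback (𝟙 X ≫ φ ≫ j)).obj (Twist.twistProjSpace r k 1))) :=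
      CurveFF.LineDiv.nonempty_rep (PicLoc.isInvertible_pullback (𝟙 X ≫ φ ≫ j) hinv)
    obtain ⟨z, D, hz, -, hzD, -, c, hc, hDc⟩ := CurveFF.NondegMap.exists_coords_of_rep h hK
      (𝟙 X) rfl (Category.id_comp _) (φ ≫ j) hq hnd' R
    rw [R.finrank_h0 h hK, ← FunFld.Riemann.ell_add_div hK _ hc, ← hDc]
    haveI := FunFld.Degree.finiteDimensional_L hK D
    have hz' := hz.map' (CurveFF.CoverField.field (𝟙 X) (Category.id_comp _) rfl).fieldRange.val.toLinearMap
      (LinearMap.ker_eq_bot.2 fun _ _ h => Subtype.ext h)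
    have hc' := (LinearIndependent.of_comp (_root_.FunFld.L D).subtype
      (v := fun i => (⟨_, hzD i⟩ : _root_.FunFld.L D)) hz').fintype_card_le_finrank
    rwa [Fintype.card_fin] at hc'
  obtain ⟨R, hD, hgen⟩ := CurveFF.BirationalBound.exists_rep h hK hL φ j hφ hbir (𝟙 _)
    (by omega)
  rw [R.finrank_h0 h hK] at hlow
  obtain ⟨D', hD', hle, -, hdlow, -, hg⟩ := CurveFF.BirationalBound.bounds hK hD hgen r hlow
  have hmono := FunFld.Degree.deg_mono hle
  rw [← R.deg_eq h hK, hdeg] at hmono
  have hg' := hg (by omega)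
  rw [CurveFF.genus_eq h (Curves.GlobalSections.finrank_h0_structure k X)]
  omega

end Groth.Agent.S19797
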