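import Groth.Statements.S19801
import Groth.Agent.Lib.PosLin.Volume

set_option autoImplicit false
universe u
open CategoryTheory CategoryTheory.Limits AlgebraicGeometry Asymptotics
open Variety

namespace Groth.Agent.S19801

/-- Let X be a projective variety of dimension d over a field k, i.e. a geometrically integral scheme
proper over k admitting an ample invertible module, with dim X = d; let L be an invertible
O_X-module and F a coherent O_X-module. Then dim_k H^0(X, F ⊗ L^m) = O(m^d) as m → ∞. -/
theorem result (k : Type u) [Field k] (X : Scheme.{u})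
    [X.Over (Spec (CommRingCat.of k))] [IsIntegral X] [GeometricallyIntegral (X ↘ Spec (CommRingCat.of k))]
    [IsProper (X ↘ Spec (CommRingCat.of k))] (hproj : ∃ A : X.Modules, CohB1.IsAmple A)
    (d : ℕ) (hd : topologicalKrullDim X = d) (L : X.Modules) (hL : PicF.IsInvertible L)
    (F : X.Modules) (hF : Coh.IsCoh F) :
    (fun m : ℕ => (Module.finrank k (Coh.HH X (CohB1.tensorMod F (CohB1.tensorPow L m)) 0) : ℝ)) =O[Filter.atTop]
      (fun m : ℕ => (m : ℝ) ^ d) := by
  haveI := Lib.Curves.GlobalSections.isNoetherian_of_proper k X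
  obtain ⟨A, hA⟩ := hproj
  obtain ⟨K, hK⟩ := Lib.PosLin.SectionBound.exists_h0_bound (k := k) (r := d) hd.le hA hL hF
    ((Topology.IsInducing.subtypeVal.topologicalKrullDim_le).trans hd.le)
  refine Asymptotics.IsBigO.of_bound ((K * 2 ^ d : ℕ) : ℝ)
    (Filter.eventually_atTop.2 ⟨1, fun m hm => ?_⟩)
  rw [Real.norm_of_nonneg (Nat.cast_nonneg _), Real.norm_of_nonneg (by positivity)]
  have h := (hK m).trans (Nat.mul_le_mul_left K (Nat.pow_le_pow_left (show m + 1 ≤ 2 * m by omega) d))
  rw [mul_pow, ← mul_assoc] at h
  exact_mod_cast h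

end Groth.Agent.S19801
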