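import Groth.Statements.S19804
import Mathlib.RingTheory.Spectrum.Prime.FreeLocus
import Mathlib.RingTheory.TensorProduct.Basic
import Mathlib.Algebra.Module.Projective

set_option autoImplicit false
open scoped TensorProduct
universe u v w
open Brauer

namespace Groth.Agent.S19804

/-- Let R be a commutative ring with Spec R connected, A an Azumaya R-algebra and e an idempotent
element of A. If for some nonzero commutative R-algebra R' the element 1 ⊗ e of R' ⊗_R A is 0, then
e = 0; and if 1 ⊗ e = 1 in R' ⊗_R A, then e = 1. (The published statement is for an Azumaya algebra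
over a connected scheme S and base change to an arbitrary nonempty S-scheme T; this row takes S and
T affine.) -/
theorem result {R : Type u} [CommRing R]
    [ConnectedSpace (PrimeSpectrum R)] {A : Type v} [Ring A] [Algebra R A] [IsAzumaya R A]
    (e : A) (he : IsIdempotentElem e) (R' : Type w) [CommRing R'] [Nontrivial R'] [Algebra R R'] :
    ((1 : R') ⊗ₜ[R] e = (0 : R' ⊗[R] A) → e = 0) ∧ ((1 : R') ⊗ₜ[R] e = (1 : R' ⊗[R] A) → e = 1) := by
  have main : ∀ f : A, IsIdempotentElem f → (1 : R') ⊗ₜ[R] f = (0 : R' ⊗[R] A) → f = 0 := by
    intro f hf h0
    let P := LinearMap.range (LinearMap.mulLeft R f)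
    let i : P →ₗ[R] A := P.subtype
    let s : A →ₗ[R] P := (LinearMap.mulLeft R f).rangeRestrict
    have hsi : s ∘ₗ i = LinearMap.id := by
      ext ⟨y, a, rfl⟩
      show f * (f * a) = f * a
      rw [← mul_assoc, hf]
    haveI : Module.Projective R P := Module.Projective.of_split i s hsi
    haveI : Module.Finite R P := Module.Finite.range _
    haveI : Module.FinitePresentation R P := Module.finitePresentation_of_projective R P
    have hs : Function.LeftInverse (LinearMap.lTensor R' s) (LinearMap.lTensor R' i) := fun x => by
      rw [← LinearMap.comp_apply, ← LinearMap.lTensor_comp, hsi, LinearMap.lTensor_id, LinearMap.id_apply]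
    haveI : Subsingleton (R' ⊗[R] P) := by
      refine ⟨fun x y => ?_⟩
      have : ∀ z : R' ⊗[R] P, z = 0 := fun z => by
        apply hs.injective
        rw [map_zero]
        induction z using TensorProduct.induction_on with
        | zero => simp
        | add x y hx hy => rw [map_add, hx, hy, add_zero]
        | tmul r p =>
          obtain ⟨p, a, rfl⟩ := p
          show r ⊗ₜ[R] (f * a) = 0
          have := congrArg (· * (r ⊗ₜ[R] a : R' ⊗[R] A)) h0
          simpa [Algebra.TensorProduct.tmul_mul_tmul] using this
      rw [this x, this y]
    obtain ⟨p⟩ : Nonempty (PrimeSpectrum R') := inferInstance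
    have h : Module.rankAtStalk (R := R) P (p.comap (algebraMap R R')) = 0 := by
      rw [← Module.rankAtStalk_baseChange, Module.rankAtStalk_eq_zero_of_subsingleton, Pi.zero_apply]
    have hall : Module.rankAtStalk (R := R) P = 0 := funext fun q => by
      rw [Pi.zero_apply, ← h]
      exact Module.isLocallyConstant_rankAtStalk.apply_eq_of_isPreconnected isPreconnected_univ
        (Set.mem_univ _) (Set.mem_univ _)
    haveI := Module.rankAtStalk_eq_zero_iff_subsingleton.mp hall
    have := congrArg Subtype.val (Subsingleton.elim (s 1) 0)
    simpa [s] using this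
  refine ⟨main e he, fun h => ?_⟩
  have := main (1 - e) he.one_sub (by
    rw [TensorProduct.tmul_sub, h, ← Algebra.TensorProduct.one_def, sub_self])
  exact (sub_eq_zero.mp this).symm

end Groth.Agent.S19804
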