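import Groth.Statements.S19809
import Mathlib
import Groth.Agent.H68.Secants

set_option autoImplicit false
universe u
open RatCurv

namespace Groth.Agent.S19809

/-- A smooth rational quintic curve C ⊂ P^3 has a one-parameter family of 3-secant lines. Stated, as for
the nondegenerate case, through binary forms: C is the image of P^1 under a 4-dimensional linear
series V of binary quintic forms which separates every length-2 subscheme of P^1 (for every nonzero
quadratic form e, the forms of V together with the multiples of e span all quintic forms), so that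
P^1 → P(V^*) = P^3 is a closed embedding; the linear forms on P^3 are the elements of V, a line L ⊂
P^3 is the 2-dimensional space of linear forms vanishing on it, and L ∩ C has length at least 3
exactly when that space is contained in g · K[s,t]_2 for a cubic form g. The conclusion: there are
infinitely many pairwise non-proportional nonzero cubic forms g with dim (V ∩ g · K[s,t]_2) ≥ 2,
i.e. for every finite set of cubics there is such a g proportional to none of them. (The ground
field is algebraically closed of characteristic zero in place of the complex numbers; the third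
printed assertion, on curves all of whose 3-secants are 4-secant, is not stated.) -/
theorem result (K : Type u) [Field K] [IsAlgClosed K]
    [CharZero K] (V : Submodule K (MvPolynomial (Fin 2) K))
    (hV : V ≤ MvPolynomial.homogeneousSubmodule (Fin 2) K 5) (hdim : Module.finrank K ↥V = 4)
    (hsep : ∀ e ∈ MvPolynomial.homogeneousSubmodule (Fin 2) K 2, e ≠ 0 →
      ∀ F ∈ MvPolynomial.homogeneousSubmodule (Fin 2) K 5, ∃ v ∈ V,
        ∃ h ∈ MvPolynomial.homogeneousSubmodule (Fin 2) K 3, F = v + e * h)
    (F : Finset (MvPolynomial (Fin 2) K)) :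
    ∃ g ∈ MvPolynomial.homogeneousSubmodule (Fin 2) K 3, g ≠ 0 ∧
      2 ≤ Module.finrank K ↥(V ⊓ (MvPolynomial.homogeneousSubmodule (Fin 2) K 2).map (LinearMap.mulLeft K g)) ∧
      ∀ g' ∈ F, ∀ c : K, g ≠ c • g' := by
  classical
  let U' := V.comap (MvPolynomial.homogeneousSubmodule (Fin 2) K 5).subtype
  have hQ : Module.finrank K (MvPolynomial.homogeneousSubmodule (Fin 2) K 5 ⧸ U') = 2 := by
    have h := Submodule.finrank_quotient_add_finrank U'
    rw [H68.BinForms.finrank_homogeneous, (Submodule.comapSubtypeEquivOfLe hV).finrank_eq] at h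
    omega
  let b : Module.Basis (Fin 2) K _ := Module.finBasisOfFinrankEq K _ hQ
  let φ : K → MvPolynomial.homogeneousSubmodule (Fin 2) K 5 →ₗ[K] K :=
    fun c => (b.coord 0 + c • b.coord 1).comp U'.mkQ
  have hφ : ∀ (c : K) (F : MvPolynomial.homogeneousSubmodule (Fin 2) K 5), (F : MvPolynomial (Fin 2) K) ∈ V → φ c F = 0 := by
    intro c F h
    show (b.coord 0 + c • b.coord 1) (U'.mkQ F) = 0
    rw [show U'.mkQ F = 0 from (Submodule.Quotient.mk_eq_zero U').mpr h, map_zero]
  have hne : ∀ c, φ c ≠ 0 := by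
    intro c h
    obtain ⟨F, hF⟩ := U'.mkQ_surjective (b 0)
    have := LinearMap.congr_fun h F
    simp [φ, hF] at this
  have hex : ∀ c, ∃ g : MvPolynomial.homogeneousSubmodule (Fin 2) K 3, g ≠ 0 ∧ H68.Secants.bil (φ c) g = 0 := by
    intro c
    obtain ⟨g, hg0, hg, -⟩ := H68.Secants.exists_unique_ker_bil hV hsep (φ c) (hne c) (hφ c)
    exact ⟨g, hg0, hg⟩
  choose G hG0 hG using hex
  have hdist : ∀ c c' : K, c ≠ c' → ∀ a : K, a ≠ 0 → (G c : MvPolynomial (Fin 2) K) ≠ a • (G c').1 := by
    intro c c' hcc a ha h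
    have hG' : G c = a • G c' := Subtype.ext h
    refine H68.Secants.not_forall_mul_mem hV hdim.le hsep (G c).2 (fun h0 => hG0 c (Subtype.ext h0)) fun h hh => ?_
    apply (Submodule.Quotient.mk_eq_zero U' (x := H68.BinForms.mulForms 3 2 (G c) ⟨h, hh⟩)).mp
    have e1 : (b.coord 0 + c • b.coord 1) (U'.mkQ (H68.BinForms.mulForms 3 2 (G c) ⟨h, hh⟩)) = 0 :=
      LinearMap.congr_fun (hG c) ⟨h, hh⟩
    have e2 : (b.coord 0 + c' • b.coord 1) (U'.mkQ (H68.BinForms.mulForms 3 2 (G c) ⟨h, hh⟩)) = 0 := by
      rw [hG', map_smul, LinearMap.smul_apply, map_smul, map_smul]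
      rw [show (b.coord 0 + c' • b.coord 1) (U'.mkQ (H68.BinForms.mulForms 3 2 (G c') ⟨h, hh⟩)) = 0 from
        LinearMap.congr_fun (hG c') ⟨h, hh⟩, smul_zero]
    simp only [LinearMap.add_apply, LinearMap.smul_apply, Module.Basis.coord_apply, smul_eq_mul] at e1 e2
    have h1 : b.repr (U'.mkQ (H68.BinForms.mulForms 3 2 (G c) ⟨h, hh⟩)) 1 = 0 :=
      (mul_eq_zero.mp (show (c - c') * _ = 0 by linear_combination e1 - e2)).resolve_left (sub_ne_zero.mpr hcc)
    have h0 : b.repr (U'.mkQ (H68.BinForms.mulForms 3 2 (G c) ⟨h, hh⟩)) 0 = 0 := by rw [h1] at e1; simpa using e1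
    apply b.repr.injective
    rw [map_zero]
    ext i; fin_cases i
    · exact h0
    · exact h1
  obtain ⟨c, hc⟩ : ∃ c : K, ∀ g' ∈ F, ∀ a : K, (G c : MvPolynomial (Fin 2) K) ≠ a • g' := by
    by_contra hcon
    push Not at hcon
    choose f hf a hfa using hcon
    obtain ⟨c, c', hcc, hfc⟩ := Finite.exists_ne_map_eq_of_infinite (fun c : K => (⟨f c, hf c⟩ : F))
    have hfc' : f c = f c' := congrArg Subtype.val hfc
    have ha : ∀ c, a c ≠ 0 := fun c h => hG0 c (Subtype.ext (by rw [hfa c, h, zero_smul]; rfl))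
    refine hdist c c' hcc (a c / a c') (div_ne_zero (ha c) (ha c')) ?_
    rw [hfa c, hfa c', smul_smul, div_mul_cancel₀ _ (ha c'), hfc']
  refine ⟨(G c).1, (G c).2, fun h => hG0 c (Subtype.ext h), ?_, hc⟩
  haveI : Module.Finite K V := Submodule.finiteDimensional_of_le hV
  let f : MvPolynomial.homogeneousSubmodule (Fin 2) K 2 →ₗ[K] (MvPolynomial.homogeneousSubmodule (Fin 2) K 5 ⧸ U') :=
    U'.mkQ.comp (H68.BinForms.mulForms 3 2 (G c))
  let ψ : (MvPolynomial.homogeneousSubmodule (Fin 2) K 5 ⧸ U') →ₗ[K] K := b.coord 0 + c • b.coord 1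
  have hψ : LinearMap.ker ψ ≠ ⊤ := by
    intro h
    have := LinearMap.congr_fun (LinearMap.ker_eq_top.mp h) (b 0)
    simp [ψ] at this
  have h1 : LinearMap.range f ≤ LinearMap.ker ψ := by
    rintro _ ⟨h, rfl⟩
    exact LinearMap.congr_fun (hG c) h
  have h2 := Submodule.finrank_mono h1
  have h3 := Submodule.finrank_lt hψ
  have h4 := f.finrank_range_add_finrank_ker
  rw [hQ] at h3
  rw [H68.BinForms.finrank_homogeneous] at h4
  let T := V ⊓ (MvPolynomial.homogeneousSubmodule (Fin 2) K 2).map (LinearMap.mulLeft K (G c).1)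
  haveI : Module.Finite K T := Submodule.finiteDimensional_inf_left _ _
  let j : LinearMap.ker f →ₗ[K] T := LinearMap.codRestrict T
    ((LinearMap.mulLeft K (G c).1).comp ((MvPolynomial.homogeneousSubmodule (Fin 2) K 2).subtype.comp (LinearMap.ker f).subtype))
    fun x => ⟨(Submodule.Quotient.mk_eq_zero U').mp x.2, Submodule.mem_map_of_mem x.1.2⟩
  have hj : Function.Injective j := fun x y h => Subtype.ext (Subtype.ext
    (mul_left_cancel₀ (fun h0 => hG0 c (Subtype.ext h0)) (congrArg Subtype.val h)))
  have h5 := LinearMap.finrank_le_finrank_of_injective hj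
  show 2 ≤ Module.finrank K T
  omega

end Groth.Agent.S19809
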