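import Groth.Statements.S19815
import Groth.Agent.Lib.NoriFGS.Induced

set_option autoImplicit false
universe u
open CategoryTheory CategoryTheory.Limits MonoidalCategory CartesianMonoidalCategory MonObj GrpObj AlgebraicGeometry
open NoriFGS

namespace Groth.Agent.S19815

/-- Let X and Y be schemes over a field k with rational points x and y, each possessing a fundamental
group scheme with its universal pointed torsor, let f : X → Y be a k-morphism sending x to y, and
let φ be the homomorphism of fundamental group schemes induced by f. Then φ is faithfully flat (flat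
and surjective) if and only if, for every finite group scheme H over k and every H-torsor U over Y
(locally trivial for the fpqc topology) pointed over y which is Nori-reduced, the pull-back U ×_Y X,
with the base-changed action read as an action of the base change of H to X, is a Nori-reduced
torsor over X. (The published statement quantifies over all Nori-reduced finite torsors over Y; this
row quantifies over those pointed over y, as the printed proof does. The source's standing
convention for that chapter assumes the base field has characteristic p > 0; the printed proof uses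
no characteristic hypothesis, so the row states it for any field.) -/
theorem result
    (k : Type u) [Field k] (X Y : Scheme.{u})
    [X.Over (Spec (CommRingCat.of k))] [Y.Over (Spec (CommRingCat.of k))]
    (x : Spec (CommRingCat.of k) ⟶ X) (y : Spec (CommRingCat.of k) ⟶ Y)
    (hx : x ≫ (X ↘ Spec (CommRingCat.of k)) = 𝟙 _) (hy : y ≫ (Y ↘ Spec (CommRingCat.of k)) = 𝟙 _)
    (f : X ⟶ Y) (hf : f ≫ (Y ↘ Spec (CommRingCat.of k)) = X ↘ Spec (CommRingCat.of k)) (hfx : x ≫ f = y)
    (πX πY : Over (Spec (CommRingCat.of k))) [GrpObj πX] [GrpObj πY] (PX : Over X) (PY : Over Y)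
    (aX : AlgGrp.Action (Red.bc (X ↘ Spec (CommRingCat.of k)) πX) PX)
    (aY : AlgGrp.Action (Red.bc (Y ↘ Spec (CommRingCat.of k)) πY) PY)
    (pX : Spec (CommRingCat.of k) ⟶ PX.left) (pY : Spec (CommRingCat.of k) ⟶ PY.left)
    (hX : NoriFGS.IsFGS x πX aX pX) (hY : NoriFGS.IsFGS y πY aY pY)
    (φ : πX ⟶ πY) (hφ : NoriFGS.IsInducedHom f hf aX pX aY pY φ) :
    (Flat φ.left ∧ Surjective φ.left) ↔
      ∀ (H : Over (Spec (CommRingCat.of k))) [GrpObj H] [IsFinite H.hom] (U : Over Y)
        (c : AlgGrp.Action (Red.bc (Y ↘ Spec (CommRingCat.of k)) H) U) (u : Spec (CommRingCat.of k) ⟶ U.left),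
        NonAbH1.IsTorsorFor Scheme.fpqcPrecoverage c → u ≫ U.hom = y →
        NoriFGS.IsNoriReduced Scheme.fpqcPrecoverage c →
        NoriFGS.IsNoriReduced Scheme.fpqcPrecoverage
          ((c.bc f).restrict (ActBC.bcCompIso f (Y ↘ Spec (CommRingCat.of k)) H hf).inv) := by
  obtain ⟨_, gφ, hgφ⟩ := id hφ
  have := Lib.NoriFGS.isAffineHom_of_proFinite hX.1
  have := Lib.NoriFGS.isAffineHom_of_proFinite hY.1
  have : IsAffine πX.left := isAffine_of_isAffineHom πX.hom
  have : IsAffine πY.left := isAffine_of_isAffineHom πY.hom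
  constructor
  · rintro ⟨h₁, h₂⟩ H _ _ U c u hc hu hred
    have := Lib.NoriFGS.std_of_flat_surjective φ.left
    obtain ⟨ψ, _, h, hh, -⟩ := hY.2.2.2 H U c u hc hu
    have := Lib.NoriFGS.std_of_isNoriReduced hy hY.2.1 hY.2.2.1 hc hh hred
    have : IsSchemeTheoreticallyDominant (φ ≫ ψ).left := by rw [Over.comp_left]; infer_instance
    obtain ⟨m, hm⟩ := Lib.NoriFGS.exists_induced_comp hX.2.2.1 hφ hh (hu.trans hfx.symm)
    exact Lib.NoriFGS.isNoriReduced_of_std hx hX (Lib.NoriFGS.isTorsorFor_bcAct hc)
      (Lib.NoriFGS.bcPt_hom _) hm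
  · intro hall
    have : IsSchemeTheoreticallyDominant φ.left := by
      refine Lib.GrpQ.Image.std_of_appTop_injective φ.left ((injective_iff_map_eq_zero _).2 fun s hs => ?_)
      obtain ⟨PY'⟩ := hY.1
      letI := PY'.cat
      obtain ⟨i, d, rfl⟩ := Lib.NoriFGS.exists_appTop_π PY' s
      haveI := PY'.finite i
      letI := PY'.grp i
      haveI := PY'.isMonHom_π i
      obtain ⟨C, _, _, q, inc, _, _, U, c, u, h, hqi, -, -, hc, hu, hred, hh⟩ :=
        Lib.NoriFGS.exists_reduced_quot hy hY (show πY ⟶ PY'.D.obj i from PY'.π.app i)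
      obtain ⟨m, hm⟩ := Lib.NoriFGS.exists_induced_comp hX.2.2.1 hφ hh (hu.trans hfx.symm)
      have := Lib.NoriFGS.std_of_isNoriReduced hx hX.2.1 hX.2.2.1 (Lib.NoriFGS.isTorsorFor_bcAct hc) hm
        (hall C U c u hc hu hred)
      have : IsAffine C.left := isAffine_of_isAffineHom C.hom
      have hinj := Lib.GrpQ.Image.appTop_injective (φ ≫ q).left
      rw [← hqi, Over.comp_left, Scheme.Hom.comp_appTop] at hs ⊢
      rw [CommRingCat.comp_apply] at hs ⊢
      have : inc.left.appTop d = 0 := hinj (by
        rw [map_zero, Over.comp_left, Scheme.Hom.comp_appTop, CommRingCat.comp_apply]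
        exact hs)
      rw [this, map_zero]
    exact Lib.NoriFGS.flat_surjective_of_std φ

end Groth.Agent.S19815
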