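import Groth.Statements.S19816
-- import your own Groth.Agent.* helpers here

set_option autoImplicit false
universe u
open CategoryTheory CategoryTheory.Limits MonoidalCategory CartesianMonoidalCategory MonObj GrpObj AlgebraicGeometry
open NoriFGS

namespace Groth.Agent.S19816

open MonoidalCategory CartesianMonoidalCategory MonObj

variable {S : Scheme.{u}} {G G' X X' : Over S} [GrpObj G] [GrpObj G']

theorem existsUnique_of_pseudo {a : AlgGrp.Action G X} (ha : NonAbH1.IsPseudoTorsorSch a) {T : Over S} (x y : T ⟶ X) :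
    ∃! g : T ⟶ G, lift g x ≫ a.act = y := by
  have : IsIso (lift a.act (snd G X)) := ha
  have e : lift y x ≫ inv (lift a.act (snd G X)) ≫ lift a.act (snd G X) = lift y x := by
    rw [IsIso.inv_hom_id, Category.comp_id]
  let r := lift y x ≫ inv (lift a.act (snd G X))
  have h1 : r ≫ a.act = y := by simpa [r] using congr($e ≫ fst X X)
  have h2 : r ≫ snd G X = x := by simpa [r] using congr($e ≫ snd X X)
  have h3 : lift (r ≫ fst G X) x = r := by
    apply CartesianMonoidalCategory.hom_ext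
    · rw [lift_fst]
    · rw [lift_snd, h2]
  refine ⟨r ≫ fst G X, by show lift (r ≫ fst G X) x ≫ a.act = y; rw [h3, h1], fun g hg => ?_⟩
  have h4 : lift g x = r := by
    rw [← cancel_mono (lift a.act (snd G X))]
    apply CartesianMonoidalCategory.hom_ext
    · rw [Category.assoc, Category.assoc, lift_fst, hg, h1]
    · rw [Category.assoc, Category.assoc, lift_snd, lift_snd, h2]
  rw [← h4, lift_fst]

theorem pseudo_of_existsUnique {a : AlgGrp.Action G X}
    (h : ∀ {T : Over S} (x y : T ⟶ X), ∃! g : T ⟶ G, lift g x ≫ a.act = y) : NonAbH1.IsPseudoTorsorSch a := by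
  obtain ⟨g, hg, -⟩ := h (snd X X) (fst X X)
  refine ⟨lift g (snd X X), ?_, ?_⟩
  · apply CartesianMonoidalCategory.hom_ext
    · rw [Category.assoc, lift_fst, Category.id_comp]
      refine (h (snd G X) a.act).unique ?_ (by rw [lift_fst_snd, Category.id_comp])
      have := congrArg (fun k => lift a.act (snd G X) ≫ k) hg
      simpa [comp_lift_assoc] using this
    · simp
  · apply CartesianMonoidalCategory.hom_ext
    · rw [Category.assoc, lift_fst, Category.id_comp, hg]
    · simp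


/-- Let X be a quasi-compact scheme over a field k with a rational point x which possesses a fundamental
group scheme with its universal pointed torsor. Let G, G₁, G₂ be finite group schemes over k with
homomorphisms φ₁ : G₁ → G and φ₂ : G₂ → G, and let T, T₁, T₂ be torsors over X (locally trivial for
the fpqc topology) under the base changes to X of G, G₁, G₂, each pointed by a k-point lying over x;
let f₁ : T₁ → T and f₂ : T₂ → T be morphisms of pointed torsors along φ₁ and φ₂. Let Q be the fibre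
product group scheme G₁ ×_G G₂ with its projections π₁, π₂. Then the fibre product T₁ ×_T T₂ carries
an action of the base change of Q for which both projections to T₁ and T₂ are equivariant (along π₁,
π₂) and which makes it a torsor over X, locally trivial for the fpqc topology: the category of
pointed finite torsors over X is closed under fibre products. (The published statement is an
equivalence; this row is the implication from possessing a fundamental group scheme. The source's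
standing convention for that chapter assumes the base field has characteristic p > 0; the printed
proof uses no characteristic hypothesis, so the row states it for any field.) -/
theorem result
    (k : Type u) [Field k] (X : Scheme.{u}) [X.Over (Spec (CommRingCat.of k))]
    (x : Spec (CommRingCat.of k) ⟶ X) (hx : x ≫ (X ↘ Spec (CommRingCat.of k)) = 𝟙 _)
    (πN : Over (Spec (CommRingCat.of k))) [GrpObj πN] (P : Over X)
    (a : AlgGrp.Action (Red.bc (X ↘ Spec (CommRingCat.of k)) πN) P) (p : Spec (CommRingCat.of k) ⟶ P.left)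
    (hP : NoriFGS.IsFGS x πN a p) [CompactSpace X]
    (G G₁ G₂ : Over (Spec (CommRingCat.of k))) [GrpObj G] [GrpObj G₁] [GrpObj G₂]
    [IsFinite G.hom] [IsFinite G₁.hom] [IsFinite G₂.hom]
    (φ₁ : G₁ ⟶ G) (φ₂ : G₂ ⟶ G) [IsMonHom φ₁] [IsMonHom φ₂]
    (T T₁ T₂ : Over X)
    (b : AlgGrp.Action (Red.bc (X ↘ Spec (CommRingCat.of k)) G) T)
    (b₁ : AlgGrp.Action (Red.bc (X ↘ Spec (CommRingCat.of k)) G₁) T₁)
    (b₂ : AlgGrp.Action (Red.bc (X ↘ Spec (CommRingCat.of k)) G₂) T₂)
    (hT : NonAbH1.IsTorsorFor Scheme.fpqcPrecoverage b)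
    (hT₁ : NonAbH1.IsTorsorFor Scheme.fpqcPrecoverage b₁)
    (hT₂ : NonAbH1.IsTorsorFor Scheme.fpqcPrecoverage b₂)
    (t : Spec (CommRingCat.of k) ⟶ T.left) (t₁ : Spec (CommRingCat.of k) ⟶ T₁.left) (t₂ : Spec (CommRingCat.of k) ⟶ T₂.left)
    (ht : t ≫ T.hom = x) (ht₁ : t₁ ≫ T₁.hom = x) (ht₂ : t₂ ≫ T₂.hom = x)
    (f₁ : T₁ ⟶ T) (f₂ : T₂ ⟶ T)
    (hf₁ : NoriFGS.IsPtTorsorHom b₁ t₁ b t φ₁ f₁) (hf₂ : NoriFGS.IsPtTorsorHom b₂ t₂ b t φ₂ f₂)
    (Q : Over (Spec (CommRingCat.of k))) [GrpObj Q] (π₁ : Q ⟶ G₁) (π₂ : Q ⟶ G₂) [IsMonHom π₁] [IsMonHom π₂]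
    (hQ : IsPullback π₁ π₂ φ₁ φ₂) :
    ∃ c : AlgGrp.Action (Red.bc (X ↘ Spec (CommRingCat.of k)) Q) (pullback f₁ f₂),
      AlgGrp.Action.IsEquivariant c (b₁.restrict ((Over.pullback (X ↘ Spec (CommRingCat.of k))).map π₁)) (pullback.fst f₁ f₂) ∧
      AlgGrp.Action.IsEquivariant c (b₂.restrict ((Over.pullback (X ↘ Spec (CommRingCat.of k))).map π₂)) (pullback.snd f₁ f₂) ∧
      NonAbH1.IsTorsorFor Scheme.fpqcPrecoverage c := by
  let p' := X ↘ Spec (CommRingCat.of k)
  let φ₁' := (Over.pullback p').map φ₁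
  let φ₂' := (Over.pullback p').map φ₂
  let π₁' := (Over.pullback p').map π₁
  let π₂' := (Over.pullback p').map π₂
  have hQ' : IsPullback π₁' π₂' φ₁' φ₂' := hQ.map (Over.pullback p')
  have e1 : ∀ {Z : Over X} (g : Z ⟶ Red.bc p' G₁) (w : Z ⟶ T₁), lift g w ≫ b₁.act ≫ f₁ = lift (g ≫ φ₁') (w ≫ f₁) ≫ b.act := by
    intro Z g w
    rw [show b₁.act ≫ f₁ = _ from hf₁.1, lift_whiskerLeft_assoc, AlgGrp.Action.lift_restrict_act]
  have e2 : ∀ {Z : Over X} (g : Z ⟶ Red.bc p' G₂) (w : Z ⟶ T₂), lift g w ≫ b₂.act ≫ f₂ = lift (g ≫ φ₂') (w ≫ f₂) ≫ b.act := by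
    intro Z g w
    rw [show b₂.act ≫ f₂ = _ from hf₂.1, lift_whiskerLeft_assoc, AlgGrp.Action.lift_restrict_act]
  let W := pullback f₁ f₂
  let act : Red.bc p' Q ⊗ W ⟶ W := pullback.lift
    (lift (fst _ _ ≫ π₁') (snd _ _ ≫ pullback.fst f₁ f₂) ≫ b₁.act)
    (lift (fst _ _ ≫ π₂') (snd _ _ ≫ pullback.snd f₁ f₂) ≫ b₂.act) (by
      rw [Category.assoc, Category.assoc, e1, e2]
      simp only [Category.assoc, hQ'.w, pullback.condition])
  have hA : ∀ {Z : Over X} (q : Z ⟶ Red.bc p' Q) (w : Z ⟶ W),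
      (lift q w ≫ act ≫ pullback.fst f₁ f₂ = lift (q ≫ π₁') (w ≫ pullback.fst f₁ f₂) ≫ b₁.act) ∧
      (lift q w ≫ act ≫ pullback.snd f₁ f₂ = lift (q ≫ π₂') (w ≫ pullback.snd f₁ f₂) ≫ b₂.act) := by
    intro Z q w
    constructor
    · rw [pullback.lift_fst, comp_lift_assoc, lift_fst_assoc, lift_snd_assoc]
    · rw [pullback.lift_snd, comp_lift_assoc, lift_fst_assoc, lift_snd_assoc]
  let c : AlgGrp.Action (Red.bc p' Q) W :=
    { act := act
      one_act := by
        apply AlgGrp.Action.hom_ext_lift₂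
        intro Z u w
        have hu : u ≫ η[Red.bc p' Q] = 1 := by rw [Hom.one_def, toUnit_unique (toUnit Z) u]
        rw [lift_whiskerRight_assoc, hu, leftUnitor_hom, lift_snd]
        apply pullback.hom_ext
        · rw [Category.assoc, (hA _ _).1, MonObj.one_comp, AlgGrp.Action.lift_one_act]
        · rw [Category.assoc, (hA _ _).2, MonObj.one_comp, AlgGrp.Action.lift_one_act]
      mul_act := by
        apply AlgGrp.Action.hom_ext_lift₃
        intro Z q q' w
        rw [lift_whiskerRight_assoc, ← Hom.mul_def, lift_lift_associator_hom_assoc, lift_whiskerLeft_assoc]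
        apply pullback.hom_ext
        · rw [Category.assoc, Category.assoc, (hA _ _).1, (hA _ _).1, MonObj.mul_comp, AlgGrp.Action.lift_mul_act,
            Category.assoc, (hA _ _).1]
        · rw [Category.assoc, Category.assoc, (hA _ _).2, (hA _ _).2, MonObj.mul_comp, AlgGrp.Action.lift_mul_act,
            Category.assoc, (hA _ _).2] }
  refine ⟨c, ?_, ?_, pseudo_of_existsUnique fun {Z} x y => ?_, ?_⟩
  · apply AlgGrp.Action.hom_ext_lift₂
    intro Z q w
    exact (hA q w).1.trans ((AlgGrp.Action.lift_restrict_act π₁' b₁ q _).symm.trans (lift_whiskerLeft_assoc ..).symm)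
  · apply AlgGrp.Action.hom_ext_lift₂
    intro Z q w
    exact (hA q w).2.trans ((AlgGrp.Action.lift_restrict_act π₂' b₂ q _).symm.trans (lift_whiskerLeft_assoc ..).symm)
  · obtain ⟨g₁, hg₁, hu₁⟩ := existsUnique_of_pseudo hT₁.1 (x ≫ pullback.fst f₁ f₂) (y ≫ pullback.fst f₁ f₂)
    obtain ⟨g₂, hg₂, hu₂⟩ := existsUnique_of_pseudo hT₂.1 (x ≫ pullback.snd f₁ f₂) (y ≫ pullback.snd f₁ f₂)
    have hφ : g₁ ≫ φ₁' = g₂ ≫ φ₂' := by
      refine (existsUnique_of_pseudo hT.1 (x ≫ pullback.fst f₁ f₂ ≫ f₁) (y ≫ pullback.fst f₁ f₂ ≫ f₁)).unique ?_ ?_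
      · rw [← Category.assoc x, ← e1, ← Category.assoc, hg₁, Category.assoc]
      · rw [pullback.condition, ← Category.assoc x, ← e2, ← Category.assoc, hg₂, Category.assoc]
    refine ⟨hQ'.lift g₁ g₂ hφ, ?_, fun q hq => ?_⟩
    · show lift _ x ≫ act = y
      apply pullback.hom_ext
      · rw [Category.assoc, (hA _ _).1, hQ'.lift_fst, hg₁]
      · rw [Category.assoc, (hA _ _).2, hQ'.lift_snd, hg₂]
    · have hq' : lift q x ≫ act = y := hq
      apply hQ'.hom_ext
      · rw [hQ'.lift_fst]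
        exact hu₁ _ (by show lift _ _ ≫ b₁.act = _; rw [← (hA _ _).1, ← Category.assoc, hq'])
      · rw [hQ'.lift_snd]
        exact hu₂ _ (by show lift _ _ ≫ b₂.act = _; rw [← (hA _ _).2, ← Category.assoc, hq'])
  · obtain ⟨-, ⟨-, R, hR, hsec⟩, -, huniv⟩ := hP
    obtain ⟨ψ₁, _, h₁, ⟨he₁, hp₁⟩, -⟩ := huniv G₁ T₁ b₁ t₁ hT₁ ht₁
    obtain ⟨ψ₂, _, h₂, ⟨he₂, hp₂⟩, -⟩ := huniv G₂ T₂ b₂ t₂ hT₂ ht₂
    obtain ⟨ψ, _, h, -, huq⟩ := huniv G T b t hT ht
    have c1 : NoriFGS.IsPtTorsorHom a p b t (ψ₁ ≫ φ₁) (h₁ ≫ f₁) := by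
      refine ⟨?_, by rw [Over.comp_left, ← Category.assoc, hp₁, hf₁.2]⟩
      show a.act ≫ h₁ ≫ f₁ = _
      rw [← Category.assoc, show a.act ≫ h₁ = _ from he₁]
      apply AlgGrp.Action.hom_ext_lift₂
      intro Z g w
      simp only [Category.assoc, lift_whiskerLeft_assoc, AlgGrp.Action.restrict_act, lift_whiskerRight_assoc, e1,
        Functor.map_comp]
      rfl
    have c2 : NoriFGS.IsPtTorsorHom a p b t (ψ₂ ≫ φ₂) (h₂ ≫ f₂) := by
      refine ⟨?_, by rw [Over.comp_left, ← Category.assoc, hp₂, hf₂.2]⟩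
      show a.act ≫ h₂ ≫ f₂ = _
      rw [← Category.assoc, show a.act ≫ h₂ = _ from he₂]
      apply AlgGrp.Action.hom_ext_lift₂
      intro Z g w
      simp only [Category.assoc, lift_whiskerLeft_assoc, AlgGrp.Action.restrict_act, lift_whiskerRight_assoc, e2,
        Functor.map_comp]
      rfl
    have hh : h₁ ≫ f₁ = h₂ ≫ f₂ := (huq _ _ c1).2.trans (huq _ _ c2).2.symm
    refine ⟨R, hR, fun S' g hg => ?_⟩
    obtain ⟨s, hs⟩ := hsec g hg
    exact ⟨s ≫ (pullback.lift h₁ h₂ hh).left, by rw [Category.assoc, Over.w]; exact hs⟩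

end Groth.Agent.S19816
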