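import Groth.Statements.S19818
import Groth.Agent.Lib.NoriFGS.Induced
import Groth.Agent.S12837
import Mathlib.AlgebraicGeometry.AlgClosed.Basic

set_option autoImplicit false
set_option linter.style.haveILetI false
universe u
open CategoryTheory CategoryTheory.Limits MonoidalCategory CartesianMonoidalCategory MonObj GrpObj AlgebraicGeometry
open NoriFGS

namespace Groth.Agent.S19818

variable {k : Type u} [Field k]

/-- A finite type affine quotient of a pro-finite group is finite. -/
theorem isFinite_of_std {πN : Over (Spec (CommRingCat.of k))} [GrpObj πN] (h : NoriFGS.IsProFinite πN)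
    {C : Over (Spec (CommRingCat.of k))} [IsAffine C.left] [LocallyOfFiniteType C.hom] (q : πN ⟶ C)
    [IsSchemeTheoreticallyDominant q.left] : IsFinite C.hom := by
  haveI := Groth.Agent.Lib.NoriFGS.isAffineHom_of_proFinite h
  obtain ⟨PP⟩ := h
  letI := PP.cat
  haveI : IsAffine πN.left := isAffine_of_isAffineHom πN.hom
  suffices IsIntegralHom C.hom from (IsFinite.iff_isIntegralHom_and_locallyOfFiniteType _).2 ⟨this, inferInstance⟩
  rw [HasAffineProperty.iff_of_isAffine (P := @IsIntegralHom) (f := C.hom)]
  refine ⟨inferInstance, fun d => ?_⟩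
  obtain ⟨i, e, he⟩ := Groth.Agent.Lib.NoriFGS.exists_appTop_π PP (q.left.appTop d)
  haveI := PP.finite i
  obtain ⟨p, hp, hpe⟩ := ((HasAffineProperty.iff_of_isAffine (P := @IsFinite) (f := (PP.D.obj i).hom)).1
    inferInstance).2.to_isIntegral e
  refine ⟨p, hp, Groth.Agent.Lib.GrpQ.Image.appTop_injective q.left ?_⟩
  have key := congrArg ((show πN ⟶ PP.D.obj i from PP.π.app i).left.appTop.hom) hpe
  rw [Polynomial.hom_eval₂, map_zero] at key
  show q.left.appTop.hom (Polynomial.eval₂ C.hom.appTop.hom d p) = q.left.appTop.hom 0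
  rw [map_zero, Polynomial.hom_eval₂, ← key]
  congr 1
  rw [← CommRingCat.hom_comp, ← CommRingCat.hom_comp, ← Scheme.Hom.comp_appTop, ← Scheme.Hom.comp_appTop,
    Over.w, Over.w]


/-- Let k be an algebraically closed field, X a smooth, proper and integral curve over k (of dimension
one) with a rational point x, and let π be a fundamental group scheme of (X, x) with its universal
pointed torsor P. Let G be a connected reductive group over k and F a G-torsor over X (for the base
change of G to X, locally trivial for the fppf topology). Then F is essentially finite, meaning that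
it admits a reduction of structure group to a finite group scheme: there are a finite group scheme Γ
over k, a homomorphism ι : Γ → G and a Γ-torsor Q over X together with an ι-equivariant X-morphism Q
→ F (so that F is obtained from Q by extension of the structure group along ι), if and only if there
is a homomorphism ρ : π → G together with a ρ-equivariant X-morphism P → F (F is obtained from the
universal torsor by extension of the structure group along ρ). -/
theorem result
    (k : Type u) [Field k] [IsAlgClosed k] (X : Scheme.{u}) [X.Over (Spec (CommRingCat.of k))]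
    [AlgebraicGeometry.IsIntegral X] [IsProper (X ↘ Spec (CommRingCat.of k))] [Smooth (X ↘ Spec (CommRingCat.of k))]
    (hdim : topologicalKrullDim X = 1)
    (x : Spec (CommRingCat.of k) ⟶ X) (hx : x ≫ (X ↘ Spec (CommRingCat.of k)) = 𝟙 _)
    (πN : Over (Spec (CommRingCat.of k))) [GrpObj πN] (P : Over X)
    (a : AlgGrp.Action (Red.bc (X ↘ Spec (CommRingCat.of k)) πN) P) (p : Spec (CommRingCat.of k) ⟶ P.left)
    (hP : NoriFGS.IsFGS x πN a p)
    (G : Over (Spec (CommRingCat.of k))) [GrpObj G] (hG : Red.IsReductiveOver k G)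
    (F : Over X) (aF : AlgGrp.Action (Red.bc (X ↘ Spec (CommRingCat.of k)) G) F)
    (hF : NonAbH1.IsTorsorFor Scheme.fppfPrecoverage aF) :
    (∃ (Gf : Over (Spec (CommRingCat.of k))) (_ : GrpObj Gf) (_ : IsFinite Gf.hom) (i : Gf ⟶ G) (_ : IsMonHom i)
        (Q : Over X) (c : AlgGrp.Action (Red.bc (X ↘ Spec (CommRingCat.of k)) Gf) Q),
        NonAbH1.IsTorsorFor Scheme.fppfPrecoverage c ∧
          NonAbH1.IsPushforwardAlongSch ((Over.pullback (X ↘ Spec (CommRingCat.of k))).map i) c aF) ↔
      ∃ (ρ : πN ⟶ G) (_ : IsMonHom ρ),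
        NonAbH1.IsPushforwardAlongSch ((Over.pullback (X ↘ Spec (CommRingCat.of k))).map ρ) a aF := by
  haveI : IsAffineHom πN.hom := Groth.Agent.Lib.NoriFGS.isAffineHom_of_proFinite hP.1
  haveI : IsAffine G.left := hG.1
  haveI : Smooth G.hom := hG.2.1
  constructor
  · rintro ⟨Γf, _, _, i, _, Q, c, hc, hpush⟩
    have hc' := Groth.Agent.Lib.TorsorSch.Descent.isTorsorFor_mono Scheme.fppfPrecoverage_le_fpqcPrecoverage hc
    obtain ⟨hQa, hQf, hQs, -⟩ := Groth.Agent.Lib.NoriFGS.torsor_props hc'
    haveI : LocallyOfFiniteType Q.hom := Groth.Agent.Lib.TorsorSch.Basic.of_hom (P := @LocallyOfFiniteType) hc'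
      (MorphismProperty.pullback_snd (P := @LocallyOfFiniteType) _ (X ↘ Spec (CommRingCat.of k)) inferInstance)
    haveI : LocallyOfFiniteType (pullback.snd Q.hom x) :=
      MorphismProperty.pullback_snd (P := @LocallyOfFiniteType) _ _ inferInstance
    haveI : Surjective (pullback.snd Q.hom x) := MorphismProperty.pullback_snd (P := @Surjective) _ _ hQs
    haveI : IsAffine (pullback Q.hom x) := isAffine_of_isAffineHom (pullback.snd Q.hom x)
    obtain ⟨z, -⟩ := (pullback.snd Q.hom x).surjective default
    obtain ⟨z', -, hz'⟩ := IsClosed.exists_closed_singleton isClosed_univ (⟨z, trivial⟩ : (Set.univ : Set ↥(pullback Q.hom x)).Nonempty)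
    let t := pointOfClosedPoint (pullback.snd Q.hom x) z' hz' ≫ pullback.fst Q.hom x
    have ht : t ≫ Q.hom = x := by
      simp only [t, Category.assoc, pullback.condition, pointOfClosedPoint_comp_assoc]
    obtain ⟨φ, _, f, hf, -⟩ := hP.2.2.2 Γf Q c t hc' ht
    obtain ⟨h, hh⟩ := hpush
    refine ⟨φ ≫ i, inferInstance, f ≫ h, ?_⟩
    refine AlgGrp.Action.hom_ext_lift₂ fun {Z} g w => ?_
    have e1 := Groth.Agent.Lib.NoriFGS.ptTorsorHom_act hf g w
    rw [← Category.assoc a.act, ← Category.assoc (lift g w), ← Category.assoc (lift g w), e1, Category.assoc, hh]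
    simp
  · rintro ⟨ρ, _, f', hf'⟩
    haveI : IsAffine πN.left := isAffine_of_isAffineHom πN.hom
    obtain ⟨C, _, q, i, hq, hi, hqi, hd, hci⟩ := Groth.Agent.Lib.GrpQ.Image.exists_image ρ
    haveI := hq; haveI := hi; haveI := hd; haveI := hci
    haveI : IsAffine C.left := isAffine_of_isAffineHom i.left
    haveI : LocallyOfFiniteType C.hom := by rw [← Over.w i]; infer_instance
    haveI := isFinite_of_std hP.1 q
    obtain ⟨Q, c, f, hc, hf⟩ := Groth.Agent.Lib.NoriFGS.exists_push q hP.2.1 p
    obtain ⟨hPa, hPf, hPs, -⟩ := Groth.Agent.Lib.NoriFGS.torsor_props hP.2.1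
    obtain ⟨h, -, hh⟩ := Groth.Agent.Lib.NoriFGS.exists_hom_of_push
      ((Over.pullback (X ↘ Spec (CommRingCat.of k))).map q) ((Over.pullback (X ↘ Spec (CommRingCat.of k))).map i)
      hP.2.1.1 hc.1 f (fun g w => Groth.Agent.Lib.NoriFGS.ptTorsorHom_act hf g w) f' (c := aF) (fun {Z} g w => by
        rw [Category.assoc, hf', Category.assoc g, ← Functor.map_comp, hqi]
        simp)
    haveI : Flat (Red.bc (X ↘ Spec (CommRingCat.of k)) C).hom :=
      MorphismProperty.pullback_snd (P := @Flat) _ _ (Groth.Agent.Lib.NoriFGS.flat_hom C)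
    haveI : LocallyOfFinitePresentation (Red.bc (X ↘ Spec (CommRingCat.of k)) C).hom :=
      MorphismProperty.pullback_snd (P := @LocallyOfFinitePresentation) _ _ inferInstance
    refine ⟨C, inferInstance, inferInstance, i, hi, Q, c, Groth.Agent.S12837.result _ _ c hc, h, ?_⟩
    refine AlgGrp.Action.hom_ext_lift₂ fun {Z} g w => ?_
    rw [← Category.assoc, hh]
    simp

end Groth.Agent.S19818
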