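import Groth.Statements.S19819
import Groth.Agent.Lib.NoriFGS.Induced

set_option autoImplicit false
universe u
open CategoryTheory CategoryTheory.Limits MonoidalCategory CartesianMonoidalCategory MonObj GrpObj AlgebraicGeometry
open NoriFGS

namespace Groth.Agent.S19819
open NoriFGS

/-- Let X and Y be schemes over a field k with rational points x and y, each possessing a fundamental
group scheme with its universal pointed torsor, let f : X → Y be a k-morphism sending x to y, and
let φ be the homomorphism of fundamental group schemes induced by f. Suppose that for every finite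
group scheme G over k and every G-torsor T over X (locally trivial for the fpqc topology), pointed
over x and Nori-reduced, there are a finite group scheme H over k, an H-torsor U over Y pointed over
y and Nori-reduced, a homomorphism i : G → H which is a closed immersion and a closed immersion j :
T → U ×_Y X over X, equivariant along i for the base-changed action and sending the marked point of
T to the point of U ×_Y X lying over x and over the marked point of U (T is a pointed sub-torsor of
the pull-back of U). Then φ is a closed immersion. (The published statement is an equivalence and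
does not require the sub-torsor to pass through the marked points; the converse implication fails:
for a finite etale Galois situation with groups V ⊂ S, V the Klein four-group normal in the
symmetric group S on four letters, a subgroup of order two of V is not the intersection of V with
any normal subgroup of S, so the corresponding torsor of order two over X is not a sub-torsor of any
pull-back. The source's standing convention for that chapter assumes the base field has
characteristic p > 0; the printed proof uses no characteristic hypothesis, so the row states it for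
any field.) -/
theorem result
    (k : Type u) [Field k] (X Y : Scheme.{u})
    [X.Over (Spec (CommRingCat.of k))] [Y.Over (Spec (CommRingCat.of k))]
    (x : Spec (CommRingCat.of k) ⟶ X) (y : Spec (CommRingCat.of k) ⟶ Y)
    (hx : x ≫ (X ↘ Spec (CommRingCat.of k)) = 𝟙 _) (hy : y ≫ (Y ↘ Spec (CommRingCat.of k)) = 𝟙 _)
    (f : X ⟶ Y) (hf : f ≫ (Y ↘ Spec (CommRingCat.of k)) = X ↘ Spec (CommRingCat.of k)) (hfx : x ≫ f = y)
    (πX πY : Over (Spec (CommRingCat.of k))) [GrpObj πX] [GrpObj πY] (PX : Over X) (PY : Over Y)
    (aX : AlgGrp.Action (Red.bc (X ↘ Spec (CommRingCat.of k)) πX) PX)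
    (aY : AlgGrp.Action (Red.bc (Y ↘ Spec (CommRingCat.of k)) πY) PY)
    (pX : Spec (CommRingCat.of k) ⟶ PX.left) (pY : Spec (CommRingCat.of k) ⟶ PY.left)
    (hX : NoriFGS.IsFGS x πX aX pX) (hY : NoriFGS.IsFGS y πY aY pY)
    (φ : πX ⟶ πY) (hφ : NoriFGS.IsInducedHom f hf aX pX aY pY φ)
    (hsub : ∀ (G : Over (Spec (CommRingCat.of k))) [GrpObj G] [IsFinite G.hom] (T : Over X)
      (b : AlgGrp.Action (Red.bc (X ↘ Spec (CommRingCat.of k)) G) T) (t : Spec (CommRingCat.of k) ⟶ T.left),
      NonAbH1.IsTorsorFor Scheme.fpqcPrecoverage b → t ≫ T.hom = x →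
      NoriFGS.IsNoriReduced Scheme.fpqcPrecoverage b →
      ∃ (H : Over (Spec (CommRingCat.of k))) (_ : GrpObj H) (_ : IsFinite H.hom) (U : Over Y)
        (c : AlgGrp.Action (Red.bc (Y ↘ Spec (CommRingCat.of k)) H) U) (u : Spec (CommRingCat.of k) ⟶ U.left)
        (i : G ⟶ H) (_ : IsMonHom i) (_ : IsClosedImmersion i.left)
        (j : T ⟶ Red.bc f U) (_ : IsClosedImmersion j.left),
        NonAbH1.IsTorsorFor Scheme.fpqcPrecoverage c ∧ u ≫ U.hom = y ∧
        NoriFGS.IsNoriReduced Scheme.fpqcPrecoverage c ∧
        AlgGrp.Action.IsEquivariant b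
          (((c.bc f).restrict (ActBC.bcCompIso f (Y ↘ Spec (CommRingCat.of k)) H hf).inv).restrict
            ((Over.pullback (X ↘ Spec (CommRingCat.of k))).map i)) j ∧
        t ≫ j.left ≫ pullback.fst U.hom f = u) :
    IsClosedImmersion φ.left := by
  obtain ⟨_, gφ, hgφ⟩ := id hφ
  have := Lib.NoriFGS.isAffineHom_of_proFinite hX.1
  have := Lib.NoriFGS.isAffineHom_of_proFinite hY.1
  have : IsAffine πX.left := isAffine_of_isAffineHom πX.hom
  have : IsAffine πY.left := isAffine_of_isAffineHom πY.hom
  refine IsClosedImmersion.of_surjective_of_isAffine φ.left fun s => ?_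
  obtain ⟨PX'⟩ := hX.1
  letI := PX'.cat
  obtain ⟨i, d, rfl⟩ := Lib.NoriFGS.exists_appTop_π PX' s
  haveI := PX'.finite i
  letI := PX'.grp i
  haveI := PX'.isMonHom_π i
  obtain ⟨C, _, _, q, inc, _, _, T, b, t, m, hqi, -, -, hb, ht, hred, hm⟩ :=
    Lib.NoriFGS.exists_reduced_quot hx hX (show πX ⟶ PX'.D.obj i from PX'.π.app i)
  obtain ⟨H, _, _, U, c, u, κ, _, hκ, j, _, hc, hu, -, hje, hjt⟩ := hsub C T b t hb ht hred
  obtain ⟨ψ, _, h, hh, -⟩ := hY.2.2.2 H U c u hc hu
  obtain ⟨m', hm'⟩ := Lib.NoriFGS.exists_induced_comp hX.2.2.1 hφ hh (hu.trans hfx.symm)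
  have hj : IsPtTorsorHom b t (Lib.NoriFGS.bcAct f hf c)
      (Lib.NoriFGS.bcPt f u x (hu.trans hfx.symm)) κ j := by
    refine ⟨hje, ?_⟩
    refine Limits.pullback.hom_ext ?_ ?_
    · rw [Limits.pullback.lift_fst, Category.assoc]
      exact hjt
    · rw [Limits.pullback.lift_snd, Category.assoc]
      exact (congrArg (t ≫ ·) (Over.w j)).trans ht
  obtain ⟨χ, _, fχ, -, huniq⟩ := hX.2.2.2 H (Red.bc f U) (Lib.NoriFGS.bcAct f hf c)
    (Lib.NoriFGS.bcPt f u x (hu.trans hfx.symm)) (Lib.NoriFGS.isTorsorFor_bcAct hc)
    (Lib.NoriFGS.bcPt_hom _)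
  have e : q ≫ κ = φ ≫ ψ :=
    (huniq _ _ (Lib.NoriFGS.isPtTorsorHom_comp hm hj)).1.trans (huniq _ _ hm').1.symm
  have : IsAffine H.left := isAffine_of_isAffineHom H.hom
  obtain ⟨w, hw⟩ := (IsClosedImmersion.isAffine_surjective_of_isAffine κ.left).2 (inc.left.appTop d)
  refine ⟨ψ.left.appTop w, ?_⟩
  rw [← hqi, Over.comp_left, Scheme.Hom.comp_appTop, CommRingCat.comp_apply, ← hw]
  exact congr($(congrArg (fun z : πX ⟶ H => (Over.Hom.left z).appTop) e) w).symm

end Groth.Agent.S19819
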