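import Groth.Statements.S19832
import Groth.Agent.H68.SkNhd

set_option autoImplicit false
universe u
open QGor

namespace Groth.Agent.S19832

open Groth.Agent.H46.FibreTrdeg Groth.Agent.H46.DimData Groth.Agent.H46.FibreProf.Basic
open Groth.Agent.H46.FibreProf.Open Groth.Agent.H68

open CategoryTheory AlgebraicGeometry in
/-- Take f : Y → T flat and locally of finite type with Y and T locally Noetherian, an integer k ≥ 2, a
point y of Y at which the fibre through y satisfies Serre's condition S_k, and an open subset Y° of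
Y not containing y. Suppose the local codimension at y of Y_{f(y)} ∖ Y° in the fibre is at least c:
at every point z ∉ Y° of the fibre through y which specializes to y, the local ring of the fibre has
dimension ≥ c. Then y has an open neighbourhood U such that U → T is an S_k-morphism (flat, locally
of finite type, all fibres S_k at all points) of pure relative dimension (every irreducible
component of every fibre of U → T has the same dimension e), and at every point z ∈ U with z ∉ Y°
the local ring at z of the fibre of f through z has dimension ≥ c; that is, codim(U_t ∖ Y°, U_t) ≥ c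
for every t. -/
theorem result
    {Y T : Scheme.{u}} (f : Y ⟶ T) [IsLocallyNoetherian Y] [IsLocallyNoetherian T]
    [Flat f] [LocallyOfFiniteType f] (k : ℕ) (hk : 2 ≤ k) (y : Y)
    (hy : RelCanon.SkAt k (Coh.structureModule (f.fiber (f y))) (f.asFiber y))
    (Yo : Y.Opens) (hyo : y ∉ Yo) (c : WithBot ℕ∞)
    (hc : ∀ z : Y, f z = f y → z ∉ Yo → z ⤳ y →
      c ≤ ringKrullDim ((f.fiber (f z)).presheaf.stalk (f.asFiber z))) :
    ∃ U : Y.Opens, y ∈ U ∧ RelCanon.IsSkMor (U.ι ≫ f) k ∧
      (∃ e : ℕ, Cyc.HasRelDim (U.ι ≫ f) e) ∧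
      ∀ z : Y, z ∈ U → z ∉ Yo → c ≤ ringKrullDim ((f.fiber (f z)).presheaf.stalk (f.asFiber z)) := by
  haveI : LocallyOfFinitePresentation f := inferInstance
  have hy' := (SkNhd.skAt_structureModule_iff _ k _).1 hy
  obtain ⟨U₀, e, hyU, hsk, hfe, hmax⟩ := SkNhd.exists_nhd f k hk y hy'
  -- every nonempty bound is realised at `y` itself
  obtain ⟨n, hcn, hn⟩ : ∃ n : ℕ, c ≤ (n : WithBot ℕ∞) ∧
      ∀ w, w ∉ Yo → FG f y w → n ≤ fd f w := by
    rcases eq_or_ne c ⊥ with rfl | hb
    · exact ⟨0, bot_le, fun _ _ _ => Nat.zero_le _⟩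
    obtain ⟨c', rfl⟩ := WithBot.ne_bot_iff_exists.1 hb
    have h0 := hc y rfl hyo specializes_rfl
    rw [ringKrullDim_fiber] at h0
    obtain ⟨n, rfl⟩ : ∃ n : ℕ, (n : ℕ∞) = c' := ENat.ne_top_iff_exists.1 (by
      rintro rfl
      exact (ENat.natCast_ne_top _) (top_unique (WithBot.coe_le_coe.1 h0)))
    refine ⟨n, le_rfl, fun w hw hwy => ?_⟩
    have h := hc w hwy.1 hw hwy.2
    rw [ringKrullDim_fiber] at h
    exact Nat.cast_le.1 (show ((n : ℕ) : WithBot ℕ∞) ≤ (fd f w : WithBot ℕ∞) from h)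
  let U₁ : Y.Opens := ⟨{x | ∀ w ∈ ((Yo : Set Y)ᶜ), FG f x w → trd f w + n ≤ e},
    isOpen_trd_add_le f Yo.2.isClosed_compl n e⟩
  let U : Y.Opens := U₀ ⊓ U₁
  refine ⟨U, ⟨hyU, fun w hw hwy => ?_⟩, ⟨inferInstance, inferInstance, fun z => ?_⟩, ⟨e, ?_⟩,
    fun z hz hzo => ?_⟩
  · have h1 := fd_add_trd f w
    have h2 := hfe w (hwy.2.mem_open U₀.2 hyU)
    have h3 := hn w hw hwy
    omega
  · rw [SkNhd.skAt_structureModule_iff]
    obtain ⟨σ⟩ := SkNhd.nonempty_fiberStalk_equiv f U z
    exact Lib.EGA75.Sn.isoInvariant_ring k _ _ σ.symm (hsk _ z.2.1)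
  · refine Lib.Cyc.FieldDim.hasRelDim_of_forall (U.ι ≫ f) fun z hz => ?_
    have hzm : IsMaxFib f (U.ι z) := fun w hwf hws => by
      have hwU : w ∈ U := hws.mem_open U.2 z.2
      let w' : U.toScheme := ⟨w, hwU⟩
      have : w' = z := hz w' hwf (U.ι.isEmbedding.specializes_iff.1 hws)
      exact congrArg (U.ι ·) this
    rw [SkNhd.trdegAt_restrict, trdegAt_eq, hmax (U.ι z) z.2.1 hzm]
  · refine hcn.trans ?_
    rw [ringKrullDim_fiber]
    have h1 := hz.2 z hzo (fg_self f z)
    have h2 := hfe z hz.1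
    have h3 := fd_add_trd f z
    exact Nat.cast_le.2 (show n ≤ fd f z by omega)

end Groth.Agent.S19832
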