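import Groth.Statements.S1984
import Groth.Agent.H48.RamBound
import Mathlib.RingTheory.IntegralClosure.IntegrallyClosed

set_option autoImplicit false
universe u
open EtAlg

namespace Groth.Agent.S1984

open IsLocalRing EtRam

variable {A K K₁ : Type u} [CommRing A] [IsDomain A] [IsDiscreteValuationRing A] [Field K] [Algebra A K]
  [IsFractionRing A K] [Field K₁] [Algebra K K₁] [FiniteDimensional K K₁] [Algebra.IsSeparable K K₁]

omit [Algebra.IsSeparable K K₁] in
theorem isIntegral_of_mem (V : ValuationSubring K₁) (hV : Dominates A ((algebraMap K K₁).comp (algebraMap A K)) V)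
    (huniq : ∀ V', Dominates A ((algebraMap K K₁).comp (algebraMap A K)) V' → V' = V) :
    letI : Algebra A K₁ := ((algebraMap K K₁).comp (algebraMap A K)).toAlgebra
    ∀ x ∈ V, IsIntegral A x := by
  letI : Algebra A K₁ := ((algebraMap K K₁).comp (algebraMap A K)).toAlgebra
  haveI : IsScalarTower A K K₁ := IsScalarTower.of_algebraMap_eq fun _ => rfl
  intro x hx
  let R : Subring K₁ := Subring.closure (Set.range (algebraMap A K₁))
  suffices h : x ∈ (integralClosure R K₁).toSubring by
    letI : Algebra A R := ((algebraMap A K₁).codRestrict R fun a => Subring.subset_closure ⟨a, rfl⟩).toAlgebra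
    haveI : IsScalarTower A R K₁ := IsScalarTower.of_algebraMap_eq fun _ => rfl
    haveI : Algebra.IsIntegral A R := ⟨fun r => by
      obtain ⟨r, hr⟩ := r
      have : r ∈ (algebraMap A K₁).range := Subring.closure_le.2 (by rintro _ ⟨a, rfl⟩; exact ⟨a, rfl⟩) hr
      obtain ⟨a, rfl⟩ := this
      exact isIntegral_algebraMap (A := R) (x := a)⟩
    exact isIntegral_trans (A := R) x h
  rw [← iInf_valuationSubring_superset]
  simp only [Subring.mem_iInf]
  rintro ⟨V', hV'⟩
  have hmem : ∀ a, algebraMap A K₁ a ∈ V' := fun a => hV' ⟨a, rfl⟩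
  by_cases hd : Dominates A ((algebraMap K K₁).comp (algebraMap A K)) V'
  · show x ∈ V'; rw [huniq V' hd]; exact hx
  -- otherwise `V'` contains the field `K`, hence everything algebraic over it
  obtain ⟨ϖ, hϖ⟩ := IsDiscreteValuationRing.exists_irreducible A
  have hϖ1 : ¬ V'.valuation (algebraMap A K₁ ϖ) < 1 := by
    intro h
    refine hd ⟨hmem, fun a ha => ?_⟩
    rw [hϖ.maximalIdeal_eq, Ideal.mem_span_singleton] at ha
    obtain ⟨c, rfl⟩ := ha
    show V'.valuation (algebraMap A K₁ (ϖ * c)) < 1
    rw [map_mul, map_mul]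
    exact lt_of_le_of_lt (mul_le_of_le_one_right' ((V'.valuation_le_one_iff _).2 (hmem c))) h
  have hv : V'.valuation (algebraMap A K₁ ϖ) = 1 :=
    le_antisymm ((V'.valuation_le_one_iff _).2 (hmem ϖ)) (not_lt.1 hϖ1)
  have hK : ∀ k : K, algebraMap K K₁ k ∈ V' := by
    intro k
    obtain ⟨a, b, hb, rfl⟩ := IsFractionRing.div_surjective A k
    obtain ⟨n, u, rfl⟩ := IsDiscreteValuationRing.eq_unit_mul_pow_irreducible (nonZeroDivisors.ne_zero hb) hϖ
    rw [← V'.valuation_le_one_iff, map_div₀, map_div₀, ← IsScalarTower.algebraMap_apply,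
      ← IsScalarTower.algebraMap_apply, map_mul, map_mul, map_pow, map_pow, hv, one_pow, mul_one]
    refine le_trans (le_of_eq ?_) ((V'.valuation_le_one_iff _).2 (hmem (a * ↑u⁻¹)))
    rw [map_mul, map_mul]
    refine (div_eq_mul_inv _ _).trans (congrArg _ (inv_eq_of_mul_eq_one_right ?_))
    rw [← map_mul, ← map_mul, Units.mul_inv, map_one, map_one]
  letI : Algebra K V' := ((algebraMap K K₁).codRestrict V' hK).toAlgebra
  haveI : IsScalarTower K V' K₁ := IsScalarTower.of_algebraMap_eq fun _ => rfl
  obtain ⟨y, hy⟩ := IsIntegrallyClosed.isIntegral_iff.1 ((IsIntegral.of_finite K x).tower_top (A := V'))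
  rw [← hy]; exact y.2

theorem finrank_le (V : ValuationSubring K₁) [IsDiscreteValuationRing V]
    (hV : Dominates A ((algebraMap K K₁).comp (algebraMap A K)) V)
    (huniq : ∀ V', Dominates A ((algebraMap K K₁).comp (algebraMap A K)) V' → V' = V)
    (hres : Function.Surjective fun a : A => residue V (RingHom.codRestrict _ V hV.1 a)) :
    letI : Algebra A V := (RingHom.codRestrict _ V hV.1).toAlgebra
    haveI : IsLocalHom (algebraMap A V) := Groth.Agent.H48.DomVal.isLocalHom_of_dominates hV
    Module.finrank K K₁ ≤ Ideal.ramificationIdx' (maximalIdeal A) (maximalIdeal V) := by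
  classical
  letI : Algebra A V := (RingHom.codRestrict _ V hV.1).toAlgebra
  haveI : IsLocalHom (algebraMap A V) := Groth.Agent.H48.DomVal.isLocalHom_of_dominates hV
  letI : Algebra A K₁ := ((algebraMap K K₁).comp (algebraMap A K)).toAlgebra
  haveI : IsScalarTower A K K₁ := IsScalarTower.of_algebraMap_eq fun _ => rfl
  haveI : IsScalarTower A V K₁ := IsScalarTower.of_algebraMap_eq fun _ => rfl
  haveI : IsIntegralClosure V A K₁ := ⟨Subtype.val_injective, fun {x} =>
    ⟨fun h => by
      obtain ⟨y, hy⟩ := IsIntegrallyClosed.isIntegral_iff.1 (h.tower_top (A := V))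
      exact ⟨y, hy⟩, fun ⟨y, hy⟩ => hy ▸ isIntegral_of_mem V hV huniq (y : K₁) y.2⟩⟩
  haveI : Module.Finite A V := IsIntegralClosure.finite A K K₁ V
  obtain ⟨π, hπ⟩ := IsDiscreteValuationRing.exists_irreducible A
  obtain ⟨τ, hτ⟩ := IsDiscreteValuationRing.exists_irreducible V
  have hinj : Function.Injective (algebraMap A V) := fun a b h =>
    IsFractionRing.injective A K ((algebraMap K K₁).injective (congrArg Subtype.val h))
  obtain ⟨-, u, hu⟩ := Groth.Agent.H48.DVRExt.exists_unit_mul_pow hinj hπ hτ
  set e := Ideal.ramificationIdx' (maximalIdeal A) (maximalIdeal V)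
  let S : Submodule A V := Submodule.span A (Set.range fun i : Fin e => τ ^ (i : ℕ))
  have step : ∀ k ≤ e, ∀ x : V, ∃ s ∈ S, ∃ y, x = s + τ ^ k * y := by
    intro k
    induction k with
    | zero => exact fun _ x => ⟨0, zero_mem _, x, by simp⟩
    | succ k ih =>
      intro hk x
      obtain ⟨s, hs, y, rfl⟩ := ih (by omega) x
      obtain ⟨a, ha⟩ := hres (residue V y)
      have : y - algebraMap A V a ∈ maximalIdeal V := by
        rw [← residue_eq_zero_iff, map_sub, sub_eq_zero]; exact ha.symm
      rw [hτ.maximalIdeal_eq, Ideal.mem_span_singleton] at this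
      obtain ⟨z, hz⟩ := this
      refine ⟨s + a • τ ^ k, add_mem hs (S.smul_mem a (Submodule.subset_span ⟨⟨k, by omega⟩, rfl⟩)), z, ?_⟩
      rw [Algebra.smul_def, pow_succ]; linear_combination τ ^ k * hz
  have htop : S = ⊤ := by
    refine top_le_iff.1 (Submodule.le_of_le_smul_of_le_jacobson_bot (I := maximalIdeal A) Module.Finite.fg_top
      (le_of_eq (IsLocalRing.jacobson_eq_maximalIdeal ⊥ bot_ne_top).symm) fun x _ => ?_)
    obtain ⟨s, hs, y, rfl⟩ := step e le_rfl x
    refine Submodule.add_mem_sup hs ?_
    rw [show τ ^ e * y = π • ((↑u⁻¹ : V) * y) by rw [Algebra.smul_def, hu]; rw [mul_mul_mul_comm, Units.mul_inv, one_mul]]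
    exact Submodule.smul_mem_smul hπ.not_isUnit trivial
  have hspan : Submodule.span K (Set.range fun i : Fin e => ((τ : V) : K₁) ^ (i : ℕ)) = ⊤ := by
    refine eq_top_iff.2 fun x _ => ?_
    haveI := IsIntegralClosure.isLocalization A K K₁ V
    obtain ⟨⟨v, d⟩, hv⟩ := IsLocalization.surj (Algebra.algebraMapSubmonoid V (nonZeroDivisors A)) x
    obtain ⟨a, ha, hd⟩ := d.2
    have hmap : ∀ s ∈ S, (s : K₁) ∈ Submodule.span K (Set.range fun i : Fin e => ((τ : V) : K₁) ^ (i : ℕ)) := by
      intro s hs
      induction hs using Submodule.span_induction with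
      | mem s hs => obtain ⟨i, rfl⟩ := hs; exact Submodule.subset_span ⟨i, rfl⟩
      | zero => exact zero_mem _
      | add p q _ _ hp hq => exact add_mem hp hq
      | smul c p _ hp =>
        rw [show ((c • p : V) : K₁) = algebraMap A K c • (p : K₁) by
          rw [Algebra.smul_def, Algebra.smul_def, ← IsScalarTower.algebraMap_apply]; rfl]
        exact Submodule.smul_mem _ _ hp
    have hd' : algebraMap V K₁ d = algebraMap K K₁ (algebraMap A K a) := by rw [← hd]; rfl
    have ha0 : algebraMap A K a ≠ 0 := (map_ne_zero_iff _ (IsFractionRing.injective A K)).2 (nonZeroDivisors.ne_zero ha)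
    have hx : x = (algebraMap A K a)⁻¹ • (v : K₁) := by
      rw [Algebra.smul_def, map_inv₀, eq_inv_mul_iff_mul_eq₀ ((map_ne_zero _).2 ha0), mul_comm, ← hd']
      exact hv
    rw [hx]
    exact Submodule.smul_mem _ _ (hmap v (htop ▸ trivial))
  rw [← finrank_top K K₁, ← hspan]
  exact (finrank_range_le_card _).trans (le_of_eq (Fintype.card_fin e))

theorem local_ext {B L M : Type u} [CommRing B] [IsDomain B] [IsDiscreteValuationRing B] [Algebra A B]
    [IsLocalHom (algebraMap A B)] [Field L] [Field M] [Algebra B L] [IsFractionRing B L]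
    [Algebra K L] [Algebra K M] [Algebra L M] [IsScalarTower K L M]
    (hinj : Function.Injective (algebraMap A B)) (hw : IsWeaklyUnramified A B)
    (hcomp : ∀ a : A, algebraMap B L (algebraMap A B a) = algebraMap K L (algebraMap A K a))
    (ht : IsTotallyRamified A ((algebraMap K K₁).comp (algebraMap A K)))
    (f : K₁ →ₐ[K] M) (hgen : Algebra.adjoin L (Set.range f) = ⊤) (hle : Module.finrank L M ≤ Module.finrank K K₁)
    (W : ValuationSubring M) (hW : Dominates B ((algebraMap L M).comp (algebraMap B L)) W) :
    @IsWeaklyUnramified (W.comap f.toRingHom) W _ _ _ _ (inclOfComap W f.toRingHom).toAlgebra ∧ Module.finrank L M = Module.finrank K K₁ := by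
  have hV := Groth.Agent.H48.FSExt.dominates_comap hcomp f W hW
  letI : Algebra A (W.comap f.toRingHom) := (RingHom.codRestrict _ (W.comap f.toRingHom) hV.1).toAlgebra
  haveI : IsLocalHom (algebraMap A (W.comap f.toRingHom)) := Groth.Agent.H48.DomVal.isLocalHom_of_dominates hV
  haveI := Groth.Agent.H48.FSExt.finite_of_adjoin f hgen
  haveI : IsDiscreteValuationRing W := Groth.Agent.H48.FSExt.isDVR W hW
  haveI : IsDiscreteValuationRing (W.comap f.toRingHom) := Groth.Agent.H48.FSExt.isDVR (W.comap f.toRingHom) hV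
  have h1 := finrank_le (W.comap f.toRingHom) hV (fun V' hV' => ht.2.1 V' _ hV' hV) (ht.2.2 _ hV)
  letI : Algebra (W.comap f.toRingHom) W := (inclOfComap W f.toRingHom).toAlgebra
  haveI : IsLocalHom (algebraMap (W.comap f.toRingHom) W) := isLocalHom_inclOfComap W f.toRingHom
  letI : Algebra B W := (RingHom.codRestrict _ W hW.1).toAlgebra
  haveI : IsLocalHom (algebraMap B W) := Groth.Agent.H48.DomVal.isLocalHom_of_dominates hW
  have h2 := Groth.Agent.H48.FSExt.ramificationIdx_le_finrank W hW
  have hA := Groth.Agent.H48.FSExt.dominates_base hcomp W hW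
  letI : Algebra A W := (RingHom.codRestrict _ W hA.1).toAlgebra
  haveI : IsLocalHom (algebraMap A W) := Groth.Agent.H48.DomVal.isLocalHom_of_dominates hA
  haveI : IsScalarTower A B W := IsScalarTower.of_algebraMap_eq fun a => Subtype.ext (by
    show algebraMap K M (algebraMap A K a) = algebraMap L M (algebraMap B L (algebraMap A B a))
    rw [hcomp, ← IsScalarTower.algebraMap_apply K L M])
  haveI : IsScalarTower A (W.comap f.toRingHom) W := IsScalarTower.of_algebraMap_eq fun a => Subtype.ext
    (f.commutes (algebraMap A K a)).symm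
  have hAV : Function.Injective (algebraMap A (W.comap f.toRingHom)) := fun a b h =>
    IsFractionRing.injective A K ((algebraMap K K₁).injective (congrArg Subtype.val h))
  have hVW : Function.Injective (algebraMap (W.comap f.toRingHom) W) := fun a b h =>
    Subtype.ext (f.injective (congrArg Subtype.val h))
  have hBW : Function.Injective (algebraMap B W) := fun a b h =>
    IsFractionRing.injective B L ((algebraMap L M).injective (congrArg Subtype.val h))
  have e1 := Groth.Agent.H48.DomVal.ramificationIdx_mul hAV hVW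
  rw [Groth.Agent.H48.DomVal.ramificationIdx_mul hinj hBW, (Groth.Agent.H48.DomVal.isWeaklyUnramified_iff hinj).1 hw,
    one_mul] at e1
  rw [Groth.Agent.H48.DomVal.isWeaklyUnramified_iff hVW]
  have hpos : 0 < Ideal.ramificationIdx' (maximalIdeal (W.comap f.toRingHom)) (maximalIdeal W) := by
    obtain ⟨a, ha⟩ := IsDiscreteValuationRing.exists_irreducible (W.comap f.toRingHom)
    obtain ⟨b, hb⟩ := IsDiscreteValuationRing.exists_irreducible W
    exact Nat.pos_of_ne_zero (Groth.Agent.H48.DVRExt.exists_unit_mul_pow hVW ha hb).1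
  have hn : 0 < Module.finrank K K₁ := Module.finrank_pos
  constructor
  · nlinarith
  · nlinarith

open TensorProduct in
/-- Let A -> B be a weakly unramified extension of discrete valuation rings with fraction fields K ⊂ L,
and K₁/K a finite separable extension which is totally ramified with respect to A. Then L ⊗_K K₁ is
a field and K₁ is a weak solution for A -> B (the valuation ring of L ⊗_K K₁ over B is weakly
unramified over that of K₁ over A). -/
theorem result (A B K L : Type u) [CommRing A] [IsDomain A] [IsDiscreteValuationRing A]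
    [CommRing B] [IsDomain B] [IsDiscreteValuationRing B] [Algebra A B] [IsLocalHom (algebraMap A B)]
    (hinj : Function.Injective (algebraMap A B))
    [Field K] [Field L] [Algebra A K] [IsFractionRing A K] [Algebra B L] [IsFractionRing B L]
    [Algebra K L] [Algebra A L] [IsScalarTower A K L] [IsScalarTower A B L]
    (hw : EtRam.IsWeaklyUnramified A B) (K₁ : Type u) [Field K₁] [Algebra K K₁] [FiniteDimensional K K₁]
    [Algebra.IsSeparable K K₁] (ht : EtRam.IsTotallyRamified A ((algebraMap K K₁).comp (algebraMap A K))) :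
    IsField (L ⊗[K] K₁) ∧ EtRam.IsWeakSolution B K L K₁ := by
  have hcomp : ∀ a : A, algebraMap B L (algebraMap A B a) = algebraMap K L (algebraMap A K a) := fun a => by
    rw [← IsScalarTower.algebraMap_apply, ← IsScalarTower.algebraMap_apply]
  haveI : Algebra.FormallyUnramified K K₁ := Algebra.FormallyUnramified.of_isSeparable K K₁
  haveI : IsReduced (L ⊗[K] K₁) := Algebra.FormallyUnramified.isReduced_of_field L (L ⊗[K] K₁)
  have hle : ∀ (M : Type u) [Field M] [Algebra K M] [Algebra L M] [IsScalarTower K L M] (f : K₁ →ₐ[K] M),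
      Algebra.adjoin L (Set.range f) = ⊤ → Module.finrank L M ≤ Module.finrank L (L ⊗[K] K₁) ∧
      Function.Surjective (Algebra.TensorProduct.lift (Algebra.ofId L M) f fun _ _ => Commute.all _ _) := by
    intro M _ _ _ _ f hgen
    have hs : Function.Surjective (Algebra.TensorProduct.lift (Algebra.ofId L M) f fun _ _ => Commute.all _ _) := by
      rw [← AlgHom.range_eq_top, eq_top_iff, ← hgen]
      exact Algebra.adjoin_le (by rintro _ ⟨x, rfl⟩; exact ⟨1 ⊗ₜ x, by simp⟩)
    exact ⟨LinearMap.finrank_le_finrank_of_surjective (f := (Algebra.TensorProduct.lift (Algebra.ofId L M) f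
      fun _ _ => Commute.all _ _).toLinearMap) hs, hs⟩
  refine ⟨?_, ?_⟩
  · obtain ⟨m, hm⟩ := Ideal.exists_maximal (L ⊗[K] K₁)
    let M := (L ⊗[K] K₁) ⧸ m
    letI : Field M := Ideal.Quotient.field m
    let f : K₁ →ₐ[K] M := (Ideal.Quotient.mkₐ K m).comp (Algebra.TensorProduct.includeRight)
    let π := Ideal.Quotient.mkₐ L m
    have hgen : Algebra.adjoin L (Set.range f) = ⊤ := by
      refine eq_top_iff.2 fun z htop => ?_
      clear htop
      obtain ⟨t, rfl⟩ := Ideal.Quotient.mk_surjective z
      induction t using TensorProduct.induction_on with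
      | zero => rw [map_zero]; exact zero_mem _
      | tmul x y =>
        rw [show (x ⊗ₜ[K] y : L ⊗[K] K₁) = algebraMap L (L ⊗[K] K₁) x * Algebra.TensorProduct.includeRight y by simp,
          map_mul]
        exact mul_mem (show π (algebraMap L _ x) ∈ _ by rw [AlgHom.commutes]; exact Subalgebra.algebraMap_mem _ x)
          (Algebra.subset_adjoin ⟨y, rfl⟩)
      | add x y hx hy => rw [map_add]; exact add_mem hx hy
    haveI : Module.Finite L M := Module.Finite.of_surjective π.toLinearMap Ideal.Quotient.mk_surjective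
    let V₀ : ValuationSubring L :=
      { (algebraMap B L).range with
        mem_or_inv_mem' := fun y => ValuationRing.isInteger_or_isInteger _ y }
    obtain ⟨W, hW⟩ := Groth.Agent.H48.DomVal.exists_comap_eq (algebraMap L M) V₀
    have hd : EtRam.Dominates B ((algebraMap L M).comp (algebraMap B L)) W := by
      rw [← Groth.Agent.H48.DomVal.dominates_comap_iff, hW]
      refine ⟨fun b => ⟨b, rfl⟩, fun b hb => ?_⟩
      refine (ValuationSubring.valuation_lt_one_iff V₀ ⟨_, ⟨b, rfl⟩⟩).1 ((IsLocalRing.mem_maximalIdeal _).2 fun hu => ?_)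
      obtain ⟨⟨_, c, rfl⟩, hc⟩ := hu.exists_right_inv
      refine (IsLocalRing.mem_maximalIdeal _).1 hb (IsUnit.of_mul_eq_one c (IsFractionRing.injective B L ?_))
      rw [map_mul, map_one]; exact congrArg Subtype.val hc
    have hfr : Module.finrank L (L ⊗[K] K₁) = Module.finrank K K₁ := Module.finrank_baseChange
    have h := (local_ext hinj hw hcomp ht f hgen ((hle M f hgen).1.trans hfr.le) W hd).2
    have hbij : Function.Injective π.toLinearMap :=
      (LinearMap.injective_iff_surjective_of_finrank_eq_finrank (hfr.trans h.symm)).2 Ideal.Quotient.mk_surjective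
    exact MulEquiv.isField (Field.toIsField M) (RingEquiv.ofBijective (Ideal.Quotient.mk m)
      ⟨hbij, Ideal.Quotient.mk_surjective⟩).toMulEquiv
  · intro M _ _ _ _ _ _ hgen W hW
    exact (local_ext hinj hw hcomp ht (IsScalarTower.toAlgHom K K₁ M) hgen
      ((hle M (IsScalarTower.toAlgHom K K₁ M) hgen).1.trans Module.finrank_baseChange.le) W hW).1

end Groth.Agent.S1984
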