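import Groth.Statements.S19849
import Groth.Agent.S0002
import Groth.Agent.Lib.HyperDeg62.Terms

set_option autoImplicit false
universe u
open DeRhamSh

namespace Groth.Agent.S19849

open CategoryTheory AlgebraicGeometry TopologicalSpace in
/-- Let A be a Noetherian ring and f : X → Spec A a proper morphism; let D be a de Rham complex of the
sheaf of differentials of f whose differentials are A-linear for the action of A through f. Then for
every integer i the algebraic de Rham cohomology H^i_dR(X/A) = H^i(X, D), as an A-module, is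
finitely generated. (The A-linearity of the differentials holds for the de Rham complex and is
carried as a hypothesis because the complex is given by its characterising data.) -/
theorem result (A : Type u) [CommRing A] [IsNoetherianRing A] (X : Scheme.{u})
    (f : X ⟶ Spec (CommRingCat.of A)) [IsProper f]
    (D : DeRhamSh.OmegaCx f)
    (h : KLinDR.TermwiseLinear (Coh.toGlobal f) D.K D.term D.iso)
    [HasDerivedCategory.{u} (Sheaf (Opens.grothendieckTopology X) AddCommGrpCat.{u})] (i : ℤ) :
    Module.Finite A (KLinDR.HdR (Coh.toGlobal f) D h i) := by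
  classical
  haveI : CompactSpace X := QuasiCompact.compactSpace_of_compactSpace f
  letI : X.Over (Spec (CommRingCat.of A)) := ⟨f⟩
  haveI : IsProper (X ↘ Spec (CommRingCat.of A)) := inferInstanceAs (IsProper f)
  obtain ⟨N, hN⟩ := Groth.Agent.Lib.HyperDeg62.Terms.exists_bound D
  have hz : ∀ j : ℤ, j < 0 ∨ 0 + ((N + 1 : ℕ) : ℤ) ≤ j → Limits.IsZero (D.KZ.X j) := fun j hj => by
    by_cases h0 : j < 0
    · exact D.K.isZero_extend_X _ j fun p hp => by simp at hp; omega
    · obtain ⟨p, rfl⟩ : ∃ p : ℕ, (p : ℤ) = j := ⟨j.toNat, by omega⟩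
      exact (Groth.Agent.Lib.HyperDeg62.Terms.toAb_isZero _ (hN p (by omega))).of_iso
        (D.K.extendXIso ComplexShape.embeddingUpNat (i := p) rfl ≪≫ D.iso p)
  refine Groth.Agent.Lib.HyperDeg62.Finite.finite.{u, u} i (N + 1) 0 D.KZ hz (KLinDR.scalar h) fun j q hjq => ?_
  by_cases h0 : j < 0
  · have hzj := hz j (Or.inl h0)
    haveI : Subsingleton (Abelian.Ext.{u} (CohCx.freeSheaf (Opens.grothendieckTopology X) (⊤ : X.Opens))
        (D.KZ.X j) q) := ⟨fun x y => by
      rw [← Abelian.Ext.comp_mk₀_id x, ← Abelian.Ext.comp_mk₀_id y,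
        show (𝟙 (D.KZ.X j)) = 0 from hzj.eq_of_src _ _, Abelian.Ext.mk₀_zero,
        Abelian.Ext.comp_zero, Abelian.Ext.comp_zero]⟩
    exact ⟨PUnit, inferInstance, inferInstance, inferInstance,
      { toFun := fun _ => 0
        invFun := fun _ => PUnit.unit
        left_inv := fun _ => rfl
        right_inv := fun _ => Subsingleton.elim _ _
        map_add' := fun _ _ => Subsingleton.elim _ _ }, fun _ _ => Subsingleton.elim _ _⟩
  · obtain ⟨p, rfl⟩ : ∃ p : ℕ, (p : ℤ) = j := ⟨j.toNat, by omega⟩
    haveI : Module.Finite A (Coh.HH X (D.term p) q) :=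
      Groth.Agent.S0002.result A X (D.term p) (Groth.Agent.Lib.HyperDeg62.Terms.isCoh_term D p) q
    have hM : Groth.Agent.Lib.HyperDeg62.Finite.ExtFin (R := A)
        (CohCx.freeSheaf (Opens.grothendieckTopology X) (⊤ : X.Opens)) (Coh.toAb (D.term p))
        (fun a => Coh.smulAb (D.term p) (Coh.toGlobal f a)) q :=
      ⟨Coh.HH X (D.term p) q, inferInstance, inferInstance, inferInstance,
        Groth.Agent.Lib.ZarCoh.Compare.hTop (Coh.toAb (D.term p)) q,
        fun a x => Groth.Agent.Lib.ZarCoh.Compare.hTop_comp x _ (add_zero q)⟩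
    refine hM.of_iso (D.K.extendXIso ComplexShape.embeddingUpNat (i := p) rfl ≪≫ D.iso p).symm fun a => ?_
    rw [KLinDR.scalar_f]
    simp [KLinDR.scalarEnd]
    erw [Category.assoc, Iso.inv_hom_id_assoc, Iso.inv_hom_id_assoc]
    rfl

end Groth.Agent.S19849
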