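import Groth.Statements.S1985
import Groth.Agent.Lib.Cohen.Unramified
import Groth.Agent.Lib.Cohen.SeparableTensor
import Mathlib.RingTheory.Flat.FaithfullyFlat.Algebra
import Mathlib.RingTheory.Localization.BaseChange
import Mathlib.RingTheory.DedekindDomain.Basic
import Mathlib.RingTheory.DiscreteValuationRing.Basic

set_option autoImplicit false
set_option linter.style.haveILetI false
universe u
open EtAlg

namespace Groth.Agent.S1985

/-- Let A -> B be an extension of discrete valuation rings whose extension of fraction fields L/K is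
separable. If B is a Nagata ring then so is A. -/
theorem result (A B K L : Type u) [CommRing A] [IsDomain A] [IsDiscreteValuationRing A]
    [CommRing B] [IsDomain B] [IsDiscreteValuationRing B] [Algebra A B] [IsLocalHom (algebraMap A B)]
    (hinj : Function.Injective (algebraMap A B))
    [Field K] [Field L] [Algebra A K] [IsFractionRing A K] [Algebra B L] [IsFractionRing B L]
    [Algebra K L] [Algebra A L] [IsScalarTower A K L] [IsScalarTower A B L] [Algebra.IsSeparable K L] (hB : CAlg.IsNagata B) :
    CAlg.IsNagata A := by
  classical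
  haveI : IsNoetherianRing A := inferInstance
  refine ⟨inferInstance, fun P hP => ?_⟩
  haveI : IsDomain (A ⧸ P) := Ideal.Quotient.isDomain P
  rcases eq_or_ne P ⊥ with rfl | hne
  swap
  · haveI : P.IsMaximal := hP.isMaximal hne
    exact Groth.Agent.Lib.Excellent.Nagata.isN2_of_isField
      ((Ideal.Quotient.maximal_ideal_iff_isField_quotient P).1 inferInstance)
  refine Groth.Agent.Lib.Excellent.Nagata.isN2_of_ringEquiv (RingEquiv.quotientBot A).symm ?_
  intro L' _ _ _ _ hfin
  haveI : Module.IsTorsionFree A B := Module.isTorsionFree_iff_algebraMap_injective.2 hinj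
  haveI : Module.Flat A B := inferInstance
  haveI : Module.FaithfullyFlat A B := Module.FaithfullyFlat.of_flat_of_isLocalHom
  let e : K ≃ₐ[A] FractionRing A := (FractionRing.algEquiv A K).symm
  letI : Algebra K L' := ((algebraMap (FractionRing A) L').comp e.toRingEquiv.toRingHom).toAlgebra
  haveI : IsScalarTower A K L' := IsScalarTower.of_algebraMap_eq fun c => by
    rw [RingHom.algebraMap_toAlgebra, RingHom.comp_apply]
    exact (IsScalarTower.algebraMap_apply A (FractionRing A) L' c).trans
      (congrArg _ (e.commutes c).symm)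
  haveI : FiniteDimensional K L' := by
    refine Module.Finite.of_equiv_equiv e.symm.toRingEquiv (RingEquiv.refl L') ?_
    ext x
    simp [RingHom.algebraMap_toAlgebra]
  -- `B ⊗ K = L`
  obtain ⟨π, hπ⟩ := IsDiscreteValuationRing.exists_irreducible A
  have hπB : algebraMap A B π ≠ 0 := (map_ne_zero_iff _ hinj).2 hπ.ne_zero
  haveI : IsLocalization (Algebra.algebraMapSubmonoid B (nonZeroDivisors A)) L := by
    refine ⟨⟨fun t => ?_, fun z => ?_, fun {a b} h => ⟨1, by rw [IsFractionRing.injective B L h]⟩⟩⟩
    · obtain ⟨_, c, hc, rfl⟩ := t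
      exact IsUnit.mk0 _ ((map_ne_zero_iff _ (IsFractionRing.injective B L)).2
        ((map_ne_zero_iff _ hinj).2 (nonZeroDivisors.ne_zero hc)))
    · obtain ⟨b, d, hd, rfl⟩ := IsFractionRing.div_surjective B z
      obtain ⟨ϖ, hϖ⟩ := IsDiscreteValuationRing.exists_irreducible B
      obtain ⟨n, hn⟩ := IsDiscreteValuationRing.associated_pow_irreducible (nonZeroDivisors.ne_zero hd) hϖ
      have hmem : algebraMap A B π ∈ IsLocalRing.maximalIdeal B :=
        (IsLocalRing.mem_maximalIdeal _).2 fun hu => hπ.not_isUnit (isUnit_of_map_unit (algebraMap A B) π hu)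
      rw [hϖ.maximalIdeal_eq, Ideal.mem_span_singleton] at hmem
      obtain ⟨v, hv⟩ := IsDiscreteValuationRing.associated_pow_irreducible hπB hϖ
      have hv0 : 0 < v := by
        rcases Nat.eq_zero_or_pos v with rfl | h0
        · exfalso
          rw [pow_zero] at hv
          exact hϖ.not_isUnit (isUnit_of_dvd_unit hmem (associated_one_iff_isUnit.1 hv))
        · exact h0
      have hdvd : d ∣ algebraMap A B π ^ n := by
        refine hn.dvd.trans ((pow_dvd_pow ϖ (Nat.le_mul_of_pos_left n hv0)).trans ?_)
        rw [pow_mul]
        exact pow_dvd_pow_of_dvd hv.symm.dvd n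
      obtain ⟨c, hc⟩ := hdvd
      refine ⟨⟨b * c, ⟨algebraMap A B (π ^ n), π ^ n, mem_nonZeroDivisors_of_ne_zero (pow_ne_zero _ hπ.ne_zero), rfl⟩⟩, ?_⟩
      simp only
      rw [map_pow (algebraMap A B), hc, map_mul, map_mul, ← mul_assoc, div_mul_cancel₀]
      exact IsFractionRing.to_map_ne_zero_of_mem_nonZeroDivisors hd
  haveI : IsLocalizedModule (nonZeroDivisors A) (IsScalarTower.toAlgHom A B L).toLinearMap :=
    isLocalizedModule_iff_isLocalization.2 inferInstance
  haveI : Algebra.IsPushout A K B L := (Algebra.isPushout_of_isLocalization (nonZeroDivisors A) K B L).symm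
  haveI : IsReduced (TensorProduct K L L') := by
    haveI := Groth.Agent.Lib.Cohen.SeparableTensor.isReduced_tensor K L' L
    exact isReduced_of_injective (Algebra.TensorProduct.comm K L L') (AlgEquiv.injective _)
  haveI : IsReduced (TensorProduct A B L') := by
    refine isReduced_of_injective ((Algebra.TensorProduct.comm A B L').toRingEquiv.trans
      (((Algebra.TensorProduct.cancelBaseChange A K L' L' B).symm.toRingEquiv).trans
        ((Algebra.TensorProduct.congr (AlgEquiv.refl (R := K) (A₁ := L'))
          (Algebra.IsPushout.equiv A K B L)).toRingEquiv.trans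
            (Algebra.TensorProduct.comm K L' L).toRingEquiv))) (RingEquiv.injective _)
  exact Groth.Agent.Lib.Cohen.Unramified.finite_of_isReduced_tensor B hB K L' inferInstance

end Groth.Agent.S1985
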