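import Groth.Statements.S19856
import Mathlib.RingTheory.IntegralDomain
import Mathlib.RingTheory.DiscreteValuationRing.Basic
import Mathlib.RingTheory.Filtration
import Mathlib.Algebra.Group.Pointwise.Set.Basic
import Mathlib.Algebra.Ring.Action.Basic
import Mathlib.RingTheory.LocalRing.ResidueField.Basic

set_option autoImplicit false
universe u v
open CAlg

namespace Groth.Agent.S19856

/-- Ring-level form: let O be a discrete valuation ring and G a finite group acting faithfully on O by
ring automorphisms, such that every element of G acts trivially on the residue field of O (that is,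
g • a - a lies in the maximal ideal for all a) and such that the order of G is nonzero in the
residue field of O. Then G is cyclic. (The source states this for a finite group of order invertible
in an algebraically closed field k acting faithfully on a smooth connected k-variety and the
subgroup of elements fixing pointwise a codimension-one irreducible component of the ramification
locus, applied to the local ring at the generic point of that component; it is stated here for an
arbitrary discrete valuation ring with a faithful action. The source also shows that this subgroup
is nontrivial; that geometric part is not stated.) -/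
theorem result
    (O : Type u) [CommRing O] [IsDomain O] [IsDiscreteValuationRing O]
    (G : Type v) [Group G] [Finite G] [MulSemiringAction G O] [FaithfulSMul G O]
    (htriv : ∀ (g : G) (a : O), g • a - a ∈ IsLocalRing.maximalIdeal O)
    (hcard : ((Nat.card G : ℕ) : IsLocalRing.ResidueField O) ≠ 0) :
    IsCyclic G := by
  classical
  obtain ⟨π, hπ⟩ := IsDiscreteValuationRing.exists_irreducible O
  have hmax : IsLocalRing.maximalIdeal O = Ideal.span {π} := hπ.maximalIdeal_eq
  have hdvd : ∀ g : G, ∃ u, g • π = π * u := by
    intro g
    have : g • π ∈ IsLocalRing.maximalIdeal O := by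
      have h2 : π ∈ IsLocalRing.maximalIdeal O := hmax ▸ Ideal.mem_span_singleton_self π
      simpa using add_mem (htriv g π) h2
    rw [hmax, Ideal.mem_span_singleton] at this
    exact this
  choose u hu using hdvd
  have hres : ∀ (g : G) (a : O), IsLocalRing.residue O (g • a) = IsLocalRing.residue O a :=
    fun g a => sub_eq_zero.1 (by rw [← map_sub]; exact Ideal.Quotient.eq_zero_iff_mem.2 (htriv g a))
  let φ : G →* IsLocalRing.ResidueField O :=
    { toFun := fun g => IsLocalRing.residue O (u g)
      map_one' := by
        have := hu 1
        rw [one_smul] at this
        rw [show u 1 = 1 from mul_left_cancel₀ hπ.ne_zero (by rw [← this, mul_one]), map_one]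
      map_mul' := fun g h => by
        have e : u (g * h) = u g * (g • u h) := mul_left_cancel₀ hπ.ne_zero (by
          rw [← hu, mul_smul, hu h, smul_mul', hu g, mul_assoc])
        rw [e, map_mul, hres] }
  refine isCyclic_of_injective_ringHom φ ((injective_iff_map_eq_one φ).2 fun g hg => ?_)
  have hg1 : u g - 1 ∈ IsLocalRing.maximalIdeal O := by
    rw [← Ideal.Quotient.eq_zero_iff_mem, map_sub, map_one]
    exact sub_eq_zero.2 hg
  have hn : IsUnit ((Nat.card G : ℕ) : O) := by
    rw [← IsLocalRing.residue_ne_zero_iff_isUnit, map_natCast]; exact hcard
  let m := IsLocalRing.maximalIdeal O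
  have step : ∀ j, ∀ x : O, g • x - x ∈ m ^ j := by
    intro j
    induction j with
    | zero => intro x; simp
    | succ j ih =>
      rcases j with _ | j
      · intro x; rw [pow_one]; exact htriv g x
      intro x
      have hd : ∀ d ∈ m ^ (j + 1), g • d - d ∈ m ^ (j + 1 + 1) := by
        intro d hd
        have hd' := hd
        rw [show m = Ideal.span {π} from hmax, Ideal.span_singleton_pow, Ideal.mem_span_singleton] at hd'
        obtain ⟨c, rfl⟩ := hd'
        have hc : g • c * u g ^ (j + 1) - c ∈ m := by
          rw [← Ideal.Quotient.eq_zero_iff_mem, map_sub, map_mul, map_pow, sub_eq_zero]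
          show IsLocalRing.residue O (g • c) * IsLocalRing.residue O (u g) ^ (j + 1) = IsLocalRing.residue O c
          rw [hres, show IsLocalRing.residue O (u g) = 1 from hg, one_pow, mul_one]
        have hp : π ^ (j + 1) ∈ m ^ (j + 1) := Ideal.pow_mem_pow (by rw [show m = Ideal.span {π} from hmax]; exact Ideal.mem_span_singleton_self π) _
        rw [smul_mul', smul_pow', hu, mul_pow, pow_succ m (j + 1)]
        have := Ideal.mul_mem_mul hp hc
        convert this using 1
        ring
      have hi : ∀ i : ℕ, g ^ i • x - x - i • (g • x - x) ∈ m ^ (j + 1 + 1) := by
        intro i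
        induction i with
        | zero => simp
        | succ i hi =>
          have h1 := hd _ (ih x)
          have h3 : g • (g ^ i • x - x - i • (g • x - x)) - (g ^ i • x - x - i • (g • x - x)) ∈ m ^ (j + 1 + 1) :=
            hd _ (Ideal.pow_le_pow_right (Nat.le_succ _) hi)
          have := add_mem (add_mem hi h3) ((m ^ (j + 1 + 1)).smul_mem (i : O) h1)
          convert this using 1
          simp only [smul_sub, pow_succ', mul_smul, smul_comm g i, nsmul_eq_mul, smul_eq_mul, smul_mul',
            Nat.cast_succ]
          have hcast : g • (i : O) = (i : O) := map_natCast (MulSemiringAction.toRingHom G O g) i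
          rw [hcast]
          ring
      have := hi (Nat.card G)
      rw [pow_card_eq_one', one_smul, sub_self, zero_sub, neg_mem_iff, nsmul_eq_mul] at this
      exact (Ideal.unit_mul_mem_iff_mem _ hn).1 this
  refine FaithfulSMul.eq_of_smul_eq_smul fun x : O => ?_
  rw [one_smul, ← sub_eq_zero, ← Ideal.mem_bot,
    ← Ideal.iInf_pow_eq_bot_of_isLocalRing m (IsLocalRing.maximalIdeal.isMaximal O).ne_top, Ideal.mem_iInf]
  exact fun j => step j x

end Groth.Agent.S19856
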