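import Groth.Statements.S19857
import Groth.Agent.Lib.Synt92.MorCrit
import Groth.Agent.H26.FibreRegStalk
import Groth.Agent.H26.CIQuotient
import Groth.Agent.Lib.Regular.Quotient
import Groth.Agent.Lib.Flat55.FibreTransfer

set_option autoImplicit false
universe u
open Synt

namespace Groth.Agent.S19857

open IsLocalRing RingTheory.Sequence in
open scoped TensorProduct in
/-- The closed fibre of a flat map is a complete intersection when both ambient quotients are regular. -/
theorem isCompleteIntersection_of_flat {C B A : Type u} [CommRing C] [CommRing B] [CommRing A]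
    [IsLocalRing C] [IsLocalRing A] [Algebra C B] [Module.Flat C B] (φ : B →+* A) (hφ : Function.Surjective φ)
    (hker : RingHom.ker φ = (maximalIdeal C).map (algebraMap C B)) (I : Ideal C)
    (hI : I ≤ maximalIdeal C) [IsRegularLocalRing (C ⧸ I)]
    [IsRegularLocalRing (B ⧸ I.map (algebraMap C B))] : Pi1.IsCompleteIntersection A := by
  haveI : Module.Flat (C ⧸ I) (B ⧸ I.map (algebraMap C B)) := by
    haveI : Module.Flat (C ⧸ I) ((C ⧸ I) ⊗[C] B) := inferInstance
    exact Module.Flat.of_linearEquiv (Algebra.TensorProduct.quotIdealMapEquivQuotTensor B I).toLinearEquiv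
  obtain ⟨rs, hrs, hlen⟩ := H26.CIQuotient.exists_list_spanFinrank
    (maximalIdeal (C ⧸ I)) (Ideal.fg_of_isNoetherianRing _)
  have hreg := Lib.Regular.Quotient.isRegular_of_span_eq_maximalIdeal rs hrs hlen
  have hle : I.map (algebraMap C B) ≤ RingHom.ker φ := hker.symm ▸ Ideal.map_mono hI
  letI := (Ideal.Quotient.lift (I.map (algebraMap C B)) φ hle).toAlgebra
  have hθ : Function.Surjective (algebraMap (B ⧸ I.map (algebraMap C B)) A) :=
    fun a => by obtain ⟨b, rfl⟩ := hφ a; exact ⟨Ideal.Quotient.mk _ b, rfl⟩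
  rw [(H26.CIQuotient.isCompleteIntersection_iff_of_surjective hθ).1]
  have hm : (maximalIdeal C).map (Ideal.Quotient.mk I) = maximalIdeal (C ⧸ I) :=
    IsLocalRing.eq_maximalIdeal
      ((Ideal.map_eq_top_or_isMaximal_of_surjective _ Ideal.Quotient.mk_surjective
        (IsLocalRing.maximalIdeal.isMaximal C)).resolve_left fun h => by
          have h1 := congrArg (Ideal.comap (Ideal.Quotient.mk I)) h
          rw [Ideal.comap_map_of_surjective _ Ideal.Quotient.mk_surjective, Ideal.comap_top,
            ← RingHom.ker_eq_comap_bot, Ideal.mk_ker, sup_eq_left.2 hI] at h1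
          exact (IsLocalRing.maximalIdeal.isMaximal C).ne_top h1)
  have hker' : RingHom.ker (algebraMap (B ⧸ I.map (algebraMap C B)) A) =
      Ideal.ofList (rs.map (algebraMap (C ⧸ I) (B ⧸ I.map (algebraMap C B)))) := by
    rw [← Ideal.map_ofList, hrs]
    change RingHom.ker (Ideal.Quotient.lift _ φ hle) = _
    rw [Ideal.ker_quotient_lift, hker, ← hm, Ideal.map_map, Ideal.map_map]
    rfl
  refine ⟨_, ⟨hreg.toIsWeaklyRegular.of_flat, fun h => ?_⟩, hker'.symm⟩
  rw [smul_eq_mul, Ideal.mul_top, ← hker'] at h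
  exact RingHom.ker_ne_top _ h.symm

open AlgebraicGeometry CategoryTheory IsLocalRing in
theorem isCompleteIntersection_fiberStalk {X Y S : Scheme.{u}} (q : Y ⟶ S) [Smooth q] (f : X ⟶ Y)
    [Smooth (f ≫ q)] [Flat f] (x : X) : Pi1.IsCompleteIntersection (CInt.fiberStalk f x) := by
  obtain ⟨φA, hAs, hAk⟩ := H46.FiberStalk.exists_surjective_stalk f (f x) (f.asFiber x) x
    (f.fiberι_asFiber x)
  haveI hC : IsRegularLocalRing (CInt.fiberStalk q (f x)) :=
    H26.FibreRegStalk.isRegularLocalRing_fiberStalk q (f x)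
  haveI hB : IsRegularLocalRing (CInt.fiberStalk (f ≫ q) x) :=
    H26.FibreRegStalk.isRegularLocalRing_fiberStalk (f ≫ q) x
  letI := (f.stalkMap x).hom.toAlgebra
  haveI : Module.Flat (Y.presheaf.stalk (f x)) (X.presheaf.stalk x) := Flat.stalkMap f x
  let I : Ideal (Y.presheaf.stalk (f x)) :=
    (maximalIdeal (S.presheaf.stalk (q (f x)))).map (q.stalkMap (f x)).hom
  have hI : I ≤ maximalIdeal (Y.presheaf.stalk (f x)) :=
    Ideal.map_le_iff_le_comap.2 fun r hr hu => hr (isUnit_of_map_unit (q.stalkMap (f x)).hom r hu)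
  have hcomp : (maximalIdeal (S.presheaf.stalk ((f ≫ q) x))).map ((f ≫ q).stalkMap x).hom =
      I.map (algebraMap (Y.presheaf.stalk (f x)) (X.presheaf.stalk x)) := by
    refine Eq.trans ?_ (Ideal.map_map _ _).symm
    rw [Scheme.Hom.stalkMap_comp]
    rfl
  haveI : IsRegularLocalRing (Y.presheaf.stalk (f x) ⧸ I) :=
    IsRegularLocalRing.of_ringEquiv (R := CInt.fiberStalk q (f x))
      (H46.FiberStalk.quotientEquiv q (f x)).symm
  haveI : IsRegularLocalRing (X.presheaf.stalk x ⧸ I.map (algebraMap (Y.presheaf.stalk (f x)) (X.presheaf.stalk x))) :=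
    IsRegularLocalRing.of_ringEquiv (R := CInt.fiberStalk (f ≫ q) x)
      ((H46.FiberStalk.quotientEquiv (f ≫ q) x).symm.trans (Ideal.quotEquivOfEq hcomp))
  exact isCompleteIntersection_of_flat φA hAs hAk I hI


open CategoryTheory AlgebraicGeometry in
/-- Let S be a scheme, p : X ⟶ S and q : Y ⟶ S smooth morphisms and f : X ⟶ Y a morphism over S (f ≫ q =
p) which is flat. Then f is syntomic (affine-locally given by flat ring maps of finite presentation
whose fibres are local complete intersections). -/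
theorem result {X Y S : Scheme.{u}}
    (p : X ⟶ S) (q : Y ⟶ S) [Smooth p] [Smooth q] (f : X ⟶ Y) (hf : f ≫ q = p) [Flat f] :
    Synt.IsSyntomicMor f := by
  haveI : Smooth (f ≫ q) := hf.symm ▸ ‹Smooth p›
  haveI : LocallyOfFinitePresentation q := inferInstance
  haveI : LocallyOfFinitePresentation (f ≫ q) := inferInstance
  haveI := Lib.Flat55.FibreTransfer.locallyOfFinitePresentation f q rfl
  exact (Lib.Synt92.MorCrit.isSyntomicMor_iff f).2
    ⟨inferInstance, inferInstance, fun x => isCompleteIntersection_fiberStalk q f x⟩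

end Groth.Agent.S19857
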