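import Groth.Statements.S19858
import Groth.Agent.Lib.NormalTensor.Field
import Groth.Agent.Lib.LocalFlat.Fibre

set_option autoImplicit false
universe u
open TensorProduct

namespace Groth.Agent.S19858

theorem result (A B C : Type u)
    [CommRing A] [CommRing B] [CommRing C] [IsNoetherianRing A] [IsNoetherianRing B] [IsNoetherianRing C]
    [Algebra A B] [Algebra B C] [Algebra A C] [IsScalarTower A B C] [Module.FaithfullyFlat B C]
    (hAC : EGA4.IsNormalHom A C) : EGA4.IsNormalHom A B := by
  haveI : Module.Flat A C := hAC.1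
  refine ⟨Groth.Agent.Lib.LocalFlat.Fibre.flat_of_flat_of_faithfullyFlat (M := C), fun p _ k' _ _ hk' => ?_⟩
  let κ := p.ResidueField
  letI : Algebra A k' := ((algebraMap κ k').comp (algebraMap A κ)).toAlgebra
  haveI : IsScalarTower A κ k' := IsScalarTower.of_algebraMap_eq fun _ => rfl
  have h1 : EGA4.IsNormalRing (k' ⊗[κ] (p.Fiber C)) := hAC.2 p k' hk'
  have h2 : EGA4.IsNormalRing (C ⊗[A] k') := Groth.Agent.Lib.NormalTensor.Basic.isNormalRing_congr
    ((Algebra.TensorProduct.cancelBaseChange A κ κ k' C).toRingEquiv.trans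
      (Algebra.TensorProduct.comm A k' C).toRingEquiv) h1
  have h3 : EGA4.IsNormalRing ((B ⊗[A] k') ⊗[B] C) := Groth.Agent.Lib.NormalTensor.Basic.isNormalRing_congr
    ((Algebra.TensorProduct.cancelBaseChange A B B C k').symm.toRingEquiv.trans
      (Algebra.TensorProduct.comm B C (B ⊗[A] k')).toRingEquiv) h2
  have h4 : EGA4.IsNormalRing (B ⊗[A] k') :=
    Groth.Agent.Lib.NormalTensor.Field.isNormalRing_of_faithfullyFlat (R := B ⊗[A] k') h3
  exact Groth.Agent.Lib.NormalTensor.Basic.isNormalRing_congr
    ((Algebra.TensorProduct.comm A B k').toRingEquiv.trans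
      (Algebra.TensorProduct.cancelBaseChange A κ κ k' B).symm.toRingEquiv) h4

end Groth.Agent.S19858
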