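import Groth.Statements.S7151
import Groth.Agent.H48.Deform
import Groth.Agent.H48.FSExtApply
import Groth.Agent.Lib.Cohen.NagataFiniteType
import Mathlib.RingTheory.AdjoinRoot

set_option autoImplicit false
universe u
open EtAlg

namespace Groth.Agent.S7151

open IsLocalRing EtRam TensorProduct Polynomial Groth.Agent.H48

section

variable {p : ℕ} [hp : Fact p.Prime]

/-- Elements of a valuation ring over the integral closure are fractions of integral elements. -/
theorem exists_div {B L M : Type u} [CommRing B] [IsDomain B] [IsDiscreteValuationRing B] [Field L] [Field M]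
    [Algebra B L] [IsFractionRing B L] [Algebra L M] [FiniteDimensional L M] [Algebra B M] [IsScalarTower B L M]
    [Module.Finite B (integralClosure B M)] (W : ValuationSubring M)
    (hW : Dominates B ((algebraMap L M).comp (algebraMap B L)) W) (x : M) (hx : x ∈ W) :
    ∃ q s : M, IsIntegral B q ∧ IsIntegral B s ∧ s ∈ W ∧ s⁻¹ ∈ W ∧ s ≠ 0 ∧ x = q / s := by
  let C := integralClosure B M
  have hinjL : Function.Injective (algebraMap B M) := by
    rw [IsScalarTower.algebraMap_eq B L M]
    exact (algebraMap L M).injective.comp (IsFractionRing.injective B L)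
  haveI : Algebra.IsIntegral B C := Algebra.IsIntegral.of_finite B C
  haveI : IsIntegrallyClosed C := integralClosure.isIntegrallyClosedOfFiniteExtension L
  haveI : IsFractionRing C M := integralClosure.isFractionRing_of_finite_extension L M
  haveI : IsNoetherianRing C := isNoetherianRing_iff.2 (isNoetherian_of_tower B inferInstance)
  haveI : Ring.DimensionLEOne C := Ring.DimensionLEOne.integralClosure (R := B) M
  haveI : IsDedekindDomain C := { }
  have hCV : ∀ c : C, (c : M) ∈ W := by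
    intro c
    letI : Algebra B W := ((algebraMap B M).codRestrict W fun b => (IsScalarTower.algebraMap_apply B L M b) ▸ hW.1 b).toAlgebra
    haveI : IsScalarTower B W M := IsScalarTower.of_algebraMap_eq fun _ => rfl
    obtain ⟨y, hy⟩ := IsIntegrallyClosed.isIntegral_iff.1 (c.2.tower_top (A := W))
    rw [← hy]; exact y.2
  let f : C →+* W := (algebraMap C M).codRestrict W hCV
  let P : Ideal C := (maximalIdeal W).comap f
  haveI : P.IsPrime := Ideal.IsPrime.comap f
  have hP : P ≠ ⊥ := by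
    obtain ⟨ϖ, hϖ⟩ := IsDiscreteValuationRing.exists_irreducible B
    refine Submodule.ne_bot_iff _ |>.2 ⟨algebraMap B C ϖ, ?_, ?_⟩
    · refine (ValuationSubring.valuation_lt_one_iff W (f (algebraMap B C ϖ))).2 ?_
      show W.valuation (algebraMap B M ϖ) < 1
      rw [IsScalarTower.algebraMap_apply B L M]; exact hW.2 ϖ hϖ.not_isUnit
    · intro h
      exact hϖ.ne_zero ((map_eq_zero_iff _ hinjL).1 (congrArg Subtype.val h))
  let Q := Localization.AtPrime P
  haveI : IsDiscreteValuationRing Q := IsLocalization.AtPrime.isDiscreteValuationRing_of_dedekind_domain C hP _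
  let toM : Q →+* M := IsLocalization.lift (M := P.primeCompl) (g := algebraMap C M) fun d =>
    isUnit_iff_ne_zero.2 fun h => d.2 (by rw [show (d : C) = 0 from Subtype.ext h]; exact zero_mem P)
  letI : Algebra Q M := toM.toAlgebra
  haveI : IsScalarTower C Q M := IsScalarTower.of_algebraMap_eq fun c => (IsLocalization.lift_eq _ c).symm
  haveI : IsFractionRing Q M := IsFractionRing.isFractionRing_of_isDomain_of_isLocalization P.primeCompl _ _
  have hfrac : ∀ (q : C) (d : P.primeCompl), algebraMap Q M (IsLocalization.mk' Q q d) = (q : M) / ((d : C) : M) := fun q d => by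
    have hd : ((d : C) : M) ≠ 0 := fun h => d.2 (by rw [show (d : C) = 0 from Subtype.ext h]; exact zero_mem P)
    rw [eq_div_iff hd]
    show algebraMap Q M _ * algebraMap C M (d : C) = algebraMap C M q
    rw [IsScalarTower.algebraMap_apply C Q M, ← map_mul, IsLocalization.mk'_spec, ← IsScalarTower.algebraMap_apply]
  have hunit : ∀ d : C, d ∉ P → ((d : M))⁻¹ ∈ W := fun d hd => by
    obtain ⟨w, hw⟩ := (notMem_maximalIdeal.1 hd : IsUnit (f d)).exists_right_inv
    rw [inv_eq_of_mul_eq_one_right (show (d : M) * (w : M) = 1 from congrArg Subtype.val hw)]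
    exact w.2
  have hne : ∀ d : C, d ∉ P → (d : M) ≠ 0 := fun d hd h => hd (by rw [show d = 0 from Subtype.ext h]; exact zero_mem P)
  rcases ValuationRing.isInteger_or_isInteger Q x with ⟨y, hy⟩ | ⟨y, hy⟩
  · obtain ⟨⟨q, d⟩, rfl⟩ := IsLocalization.mk'_surjective P.primeCompl y
    exact ⟨q, (d : C), q.2, (d : C).2, hCV _, hunit _ d.2, hne _ d.2, hy.symm.trans (hfrac q d)⟩
  · obtain ⟨⟨q, d⟩, rfl⟩ := IsLocalization.mk'_surjective P.primeCompl y
    by_cases hx0 : x = 0
    · exact ⟨0, 1, isIntegral_zero, isIntegral_one, one_mem W, by rw [inv_one]; exact one_mem W, one_ne_zero, by rw [hx0, zero_div]⟩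
    have hxi : x⁻¹ = (q : M) / ((d : C) : M) := hy.symm.trans (hfrac q d)
    by_cases hq : q ∈ P
    · exfalso
      refine (mem_maximalIdeal _).1 hq (IsUnit.of_mul_eq_one (⟨x, hx⟩ * ⟨_, hunit _ d.2⟩ : W) (Subtype.ext ?_))
      show (q : M) * (x * ((d : C) : M)⁻¹) = 1
      rw [mul_left_comm, ← div_eq_mul_inv, ← hxi, mul_inv_cancel₀ hx0]
    · exact ⟨(d : C), q, (d : C).2, q.2, hCV _, hunit _ hq, hne _ hq, by rw [← inv_inv x, hxi, inv_div]⟩

/-- The bound on denominators. -/
def Bdd {B L T : Type u} [CommRing B] [Field L] [Field T] [Algebra B L] [Algebra L T] (p : ℕ) (a : T) (ϖ : B) (c : ℕ) : Prop :=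
  ∀ g : Fin p → T, ((algebraMap L T).comp (algebraMap B L)).IsIntegralElem (∑ i, g i ^ p * a ^ (i : ℕ)) →
    ∀ i, ((algebraMap L T).comp (algebraMap B L)).IsIntegralElem ((algebraMap L T) (algebraMap B L ϖ) ^ c * g i)

theorem bdd_mono {B L T : Type u} [CommRing B] [Field L] [Field T] [Algebra B L] [Algebra L T] {a : T} {ϖ : B} {c d : ℕ}
    (hcd : c ≤ d) (h : Bdd (L := L) p a ϖ c) : Bdd (L := L) p a ϖ d := fun g hg i => by
  rw [← Nat.sub_add_cancel hcd, pow_add, mul_assoc]
  exact RingHom.IsIntegralElem.mul _ (by rw [← map_pow, ← map_pow]; exact RingHom.isIntegralElem_map _ (x := ϖ ^ (d - c))) (h g hg i)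

theorem bdd_equiv {B L T T' : Type u} [CommRing B] [Field L] [Field T] [Field T'] [Algebra B L] [Algebra L T] [Algebra L T']
    (e : T ≃ₐ[L] T') {a : T} {ϖ : B} {c : ℕ} (h : Bdd (L := L) p a ϖ c) : Bdd (L := L) p (e a) ϖ c := by
  letI : Algebra B T := ((algebraMap L T).comp (algebraMap B L)).toAlgebra
  letI : Algebra B T' := ((algebraMap L T').comp (algebraMap B L)).toAlgebra
  haveI : IsScalarTower B L T := IsScalarTower.of_algebraMap_eq fun _ => rfl
  haveI : IsScalarTower B L T' := IsScalarTower.of_algebraMap_eq fun _ => rfl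
  intro g hg i
  have h1 : IsIntegral B (∑ i, (e.symm (g i)) ^ p * a ^ (i : ℕ)) := by
    have := IsIntegral.map (e.symm.toAlgHom.restrictScalars B) (show IsIntegral B (∑ i, g i ^ p * e a ^ (i : ℕ)) from hg)
    simpa using this
  have h2 := IsIntegral.map (e.toAlgHom.restrictScalars B) (show IsIntegral B _ from h (fun i => e.symm (g i)) h1 i)
  show IsIntegral B (algebraMap L T' (algebraMap B L ϖ) ^ c * g i)
  simpa using h2

theorem ev_linear {F F' : Type*} [Field F] [CommRing F'] [Algebra F F'] (z : F') :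
    ∃ Φ : (Fin p → F) →ₗ[F] F', ∀ g, Φ g = Deform.ev z g :=
  ⟨{ toFun := Deform.ev z
     map_add' := Deform.ev_add z
     map_smul' := fun c g => by rw [Deform.ev_smul, RingHom.id_apply, Algebra.smul_def] }, fun _ => rfl⟩

theorem ev_bijective_of_finrank {F F' : Type*} [Field F] [Field F'] [Algebra F F'] [FiniteDimensional F F'] {z : F'}
    (hs : Function.Surjective (Deform.ev (F := F) (p := p) z)) (hd : Module.finrank F F' = p) :
    Function.Bijective (Deform.ev (F := F) (p := p) z) := by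
  obtain ⟨Φ, hΦ⟩ := ev_linear (F := F) (p := p) z
  have h : (Φ : (Fin p → F) → F') = Deform.ev z := funext hΦ
  rw [← h] at hs ⊢
  exact ⟨(LinearMap.injective_iff_surjective_of_finrank_eq_finrank (by rw [hd, Module.finrank_fin_fun])).2 hs, hs⟩

theorem ev_map {F F' G G' : Type*} [Field F] [CommRing F'] [Algebra F F'] [Field G] [CommRing G'] [Algebra G G']
    (ι : F →+* G) (ι' : F' →+* G') (h : ∀ x, ι' (algebraMap F F' x) = algebraMap G G' (ι x)) (z : F') (g : Fin p → F) :
    ι' (Deform.ev z g) = Deform.ev (ι' z) (fun i => ι (g i)) := by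
  simp [Deform.ev, h]

/-- The field obtained by adjoining a `p`-th root, and coordinates in it. -/
theorem adjoinRoot_data {T : Type u} [Field T] {a : T} [Fact (Irreducible (X ^ p - C a))] :
    FiniteDimensional T (AdjoinRoot (X ^ p - C a)) ∧
      (AdjoinRoot.root (X ^ p - C a)) ^ p = algebraMap T _ a ∧
      Function.Bijective (Deform.ev (F := T) (p := p) (AdjoinRoot.root (X ^ p - C a))) := by
  have hirr : Irreducible (X ^ p - C a) := Fact.out
  haveI : FiniteDimensional T (AdjoinRoot (X ^ p - C a)) := (AdjoinRoot.powerBasis hirr.ne_zero).finite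
  have hroot : (AdjoinRoot.root (X ^ p - C a)) ^ p = algebraMap T _ a := by
    have h := AdjoinRoot.eval₂_root (X ^ p - C a)
    rw [eval₂_sub, eval₂_X_pow, eval₂_C, sub_eq_zero] at h
    rw [h]; rfl
  refine ⟨inferInstance, hroot, ev_bijective_of_finrank ?_ ?_⟩
  · refine Deform.ev_surjective _ (X ^ p - C a) (monic_X_pow_sub_C a hp.out.ne_zero) natDegree_X_pow_sub_C ?_ hp.out.pos
      AdjoinRoot.adjoinRoot_eq_top
    simp [hroot]
  · rw [(AdjoinRoot.powerBasis hirr.ne_zero).finrank, AdjoinRoot.powerBasis_dim, natDegree_X_pow_sub_C]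

theorem exists_bdd {B L T : Type u} [CommRing B] [IsDomain B] [IsDiscreteValuationRing B] [Field L] [Field T]
    [Algebra B L] [IsFractionRing B L] [Algebra L T] [FiniteDimensional L T] [CharP T p] (hB : CAlg.IsNagata B)
    {a : T} (ha : ∀ t : T, t ^ p ≠ a) {ϖ : B} (hϖ : Irreducible ϖ) : ∃ c, Bdd (L := L) p a ϖ c := by
  classical
  letI : Algebra B T := ((algebraMap L T).comp (algebraMap B L)).toAlgebra
  haveI : IsScalarTower B L T := IsScalarTower.of_algebraMap_eq fun _ => rfl
  haveI : Fact (Irreducible (X ^ p - C a)) := ⟨X_pow_sub_C_irreducible_of_prime hp.out ha⟩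
  obtain ⟨hfin, hroot, hbij⟩ := adjoinRoot_data (p := p) (a := a)
  haveI := hfin
  let M := AdjoinRoot (X ^ p - C a)
  haveI : CharP M p := charP_of_injective_ringHom (algebraMap T M).injective p
  haveI : FiniteDimensional L M := FiniteDimensional.trans L T M
  haveI : IsScalarTower B L M := IsScalarTower.of_algebraMap_eq fun b =>
    (IsScalarTower.algebraMap_apply B T M b).trans
      ((congrArg (algebraMap T M) (IsScalarTower.algebraMap_apply B L T b)).trans
        (IsScalarTower.algebraMap_apply L T M _).symm)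
  haveI : Module.Finite B (integralClosure B M) := Lib.Excellent.Nagata.finite_integralClosure_of_isN2
    (Lib.Cohen.NagataFiniteType.isN2_of_isNagata hB) L M
  have hscale : ∀ t : T, ∃ k : ℕ, IsIntegral B (algebraMap B T ϖ ^ k * t) := by
    intro t
    have halg : IsAlgebraic B t := (IsFractionRing.isAlgebraic_iff B L T).2 (Algebra.IsAlgebraic.isAlgebraic t)
    obtain ⟨d, hd0, hd⟩ := halg.exists_integral_multiple
    obtain ⟨k, u, rfl⟩ := IsDiscreteValuationRing.eq_unit_mul_pow_irreducible hd0 hϖ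
    refine ⟨k, ?_⟩
    have h := hd.smul (((u⁻¹ : Bˣ) : B))
    rw [smul_smul, ← mul_assoc, Units.inv_mul, one_mul, Algebra.smul_def, map_pow] at h
    exact h
  let φe := Equiv.ofBijective _ hbij
  obtain ⟨s, hs⟩ := Module.Finite.fg_top (R := B) (M := integralClosure B M)
  choose k hk using fun (y : integralClosure B M) (i : Fin p) => hscale (φe.symm (y : M) i)
  let c := s.sup fun y => Finset.univ.sup (k y)
  refine ⟨c, fun g hg => ?_⟩
  set y := Deform.ev (AdjoinRoot.root (X ^ p - C a)) g with hy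
  have hyp : y ^ p = algebraMap T M (∑ i, g i ^ p * a ^ (i : ℕ)) := by
    rw [hy, Deform.ev, sum_pow_char, map_sum]
    refine Finset.sum_congr rfl fun i _ => ?_
    rw [mul_pow, ← pow_mul, mul_comm _ p, pow_mul, hroot, map_mul, map_pow, map_pow]
  have hyi : IsIntegral B y := IsIntegral.of_pow hp.out.pos (by
    rw [hyp]; exact IsIntegral.map (IsScalarTower.toAlgHom B T M) hg)
  have key : ∀ w : integralClosure B M, ∀ h : Fin p → T, Deform.ev (AdjoinRoot.root (X ^ p - C a)) h = (w : M) →
      ∀ i, IsIntegral B (algebraMap B T ϖ ^ c * h i) := by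
    intro w
    have hw : w ∈ Submodule.span B (s : Set (integralClosure B M)) := by rw [hs]; trivial
    induction hw using Submodule.span_induction with
    | mem w hw =>
      intro h hh i
      have hle : k w i ≤ c := (Finset.le_sup (Finset.mem_univ i)).trans (Finset.le_sup (f := fun y => Finset.univ.sup (k y)) hw)
      rw [← Nat.sub_add_cancel hle, pow_add, mul_assoc, show h = φe.symm (w : M) from (φe.eq_symm_apply).2 hh]
      exact (isIntegral_algebraMap.pow _).mul (hk w i)
    | zero =>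
      intro h hh i
      rw [show h = 0 from hbij.1 (hh.trans (Deform.ev_zero _).symm)]
      simp [isIntegral_zero]
    | add u v _ _ hu hv =>
      intro h hh i
      have e : h = φe.symm (u : M) + φe.symm (v : M) := hbij.1 (by
        rw [hh, Deform.ev_add]
        exact (congrArg₂ (· + ·) (φe.apply_symm_apply _) (φe.apply_symm_apply _)).symm)
      rw [e, Pi.add_apply, mul_add]
      exact (hu _ (φe.apply_symm_apply _) i).add (hv _ (φe.apply_symm_apply _) i)
    | smul r u _ hu =>
      intro h hh i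
      have e : h = algebraMap B T r • φe.symm (u : M) := hbij.1 (by
        rw [hh, Deform.ev_smul, ← IsScalarTower.algebraMap_apply B T M, Subalgebra.coe_smul, Algebra.smul_def]
        exact congrArg (algebraMap B M r * ·) (φe.apply_symm_apply _).symm)
      rw [e, Pi.smul_apply, smul_eq_mul, mul_left_comm]
      exact isIntegral_algebraMap.mul (hu _ (φe.apply_symm_apply _) i)
  exact key ⟨y, hyi⟩ g rfl

end

section

variable {p : ℕ} [hp : Fact p.Prime] {B L T : Type u} [CommRing B] [IsDomain B] [IsDiscreteValuationRing B]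
  [Field L] [Field T] [Algebra B L] [IsFractionRing B L] [Algebra L T] [FiniteDimensional L T] [CharP T p]

/-- The bound in a place of `T(α)`. -/
theorem bdd_place (hB : CAlg.IsNagata B) {a : T} {ϖ : B} {c : ℕ} (hc : Bdd (L := L) p a ϖ c)
    [Fact (Irreducible (X ^ p - C a))] (W : ValuationSubring (AdjoinRoot (X ^ p - C a)))
    (hW : Dominates B ((algebraMap L (AdjoinRoot (X ^ p - C a))).comp (algebraMap B L)) W)
    (g : Fin p → T) (hg : Deform.ev (AdjoinRoot.root (X ^ p - C a)) g ∈ W) (i : Fin p) :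
    (algebraMap L T) (algebraMap B L ϖ) ^ c * g i ∈ W.comap (algebraMap T _) := by
  obtain ⟨hfin, hroot, hbij⟩ := adjoinRoot_data (p := p) (a := a)
  let M := AdjoinRoot (X ^ p - C a)
  letI : Algebra B T := ((algebraMap L T).comp (algebraMap B L)).toAlgebra
  haveI : IsScalarTower B L T := IsScalarTower.of_algebraMap_eq fun _ => rfl
  haveI := hfin
  haveI : CharP M p := charP_of_injective_ringHom (algebraMap T M).injective p
  haveI : FiniteDimensional L M := FiniteDimensional.trans L T M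
  haveI : IsScalarTower B L M := IsScalarTower.of_algebraMap_eq fun b =>
    (IsScalarTower.algebraMap_apply B T M b).trans
      ((congrArg (algebraMap T M) (IsScalarTower.algebraMap_apply B L T b)).trans
        (IsScalarTower.algebraMap_apply L T M _).symm)
  haveI : Module.Finite B (integralClosure B M) := Lib.Excellent.Nagata.finite_integralClosure_of_isN2
    (Lib.Cohen.NagataFiniteType.isN2_of_isNagata hB) L M
  obtain ⟨q, s, hq, hs, hsW, hsi, hs0, hx⟩ := exists_div (B := B) (L := L) W hW _ hg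
  have hpow : ∀ h : Fin p → T, (Deform.ev (AdjoinRoot.root (X ^ p - C a)) h) ^ p =
      algebraMap T M (∑ i, h i ^ p * a ^ (i : ℕ)) := fun h => by
    rw [Deform.ev, sum_pow_char, map_sum]
    refine Finset.sum_congr rfl fun i _ => ?_
    rw [mul_pow, ← pow_mul, mul_comm _ p, pow_mul, hroot, map_mul, map_pow, map_pow]
  obtain ⟨hs', hs'e⟩ := hbij.2 s
  set σ : T := ∑ i, hs' i ^ p * a ^ (i : ℕ) with hσdef
  have hσ : algebraMap T M σ = s ^ p := by rw [hσdef, ← hpow, hs'e]
  have hint : IsIntegral B (∑ i, (σ • g) i ^ p * a ^ (i : ℕ)) := by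
    refine (isIntegral_algHom_iff (IsScalarTower.toAlgHom B T M) (algebraMap T M).injective).1 ?_
    show IsIntegral B (algebraMap T M _)
    rw [← hpow, Deform.ev_smul, hσ, hx]
    refine IsIntegral.pow ?_ p
    obtain ⟨m, hm⟩ : ∃ m, p = m + 1 := ⟨p - 1, by have := hp.out.pos; omega⟩
    rw [show s ^ p * (q / s) = s ^ m * q by
      rw [(congrArg (s ^ ·) hm).trans (pow_succ s m)]; field_simp]
    exact (hs.pow m).mul hq
  have h1 : IsIntegral B (algebraMap L T (algebraMap B L ϖ) ^ c * (σ • g) i) := hc _ hint i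
  have h2 := IsIntegral.map (IsScalarTower.toAlgHom B T M) h1
  letI : Algebra B W := (RingHom.codRestrict _ W hW.1).toAlgebra
  haveI : IsScalarTower B W M := IsScalarTower.of_algebraMap_eq fun b => IsScalarTower.algebraMap_apply B L M b
  obtain ⟨w, hw⟩ := IsIntegrallyClosed.isIntegral_iff.1 (h2.tower_top (A := W))
  show algebraMap T M _ ∈ W
  have e : algebraMap T M (algebraMap L T (algebraMap B L ϖ) ^ c * g i) = (w : M) * (s⁻¹) ^ p := by
    rw [show (w : M) = algebraMap T M (algebraMap L T (algebraMap B L ϖ) ^ c * (σ • g) i) from hw, Pi.smul_apply,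
      smul_eq_mul, map_mul, map_mul, map_mul, hσ, inv_pow]
    field_simp
  rw [e]
  exact mul_mem w.2 (pow_mem hsi _)

end

theorem geomRed_of_equiv {k k' K K' : Type u} [Field k] [Field k'] [Field K] [Field K'] [Algebra k K] [Algebra k' K']
    (e : k ≃+* k') (E : K ≃+* K') (h : ∀ x, E (algebraMap k K x) = algebraMap k' K' (e x))
    [Algebra.IsGeometricallyReduced k K] : Algebra.IsGeometricallyReduced k' K' := by
  letI : Algebra k k' := e.toRingHom.toAlgebra
  haveI := FSExt.geomRed_baseChange k k' K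
  let j : k' →+* k' ⊗[k] K := Algebra.TensorProduct.includeLeftRingHom
  let F : K' →ₐ[k'] k' ⊗[k] K :=
    { (Algebra.TensorProduct.includeRight : K →ₐ[k] k' ⊗[k] K).toRingHom.comp E.symm.toRingHom with
      commutes' := fun y => by
        obtain ⟨x, rfl⟩ := e.surjective y
        show (1 : k') ⊗ₜ[k] E.symm (algebraMap k' K' (e x)) = (e x) ⊗ₜ[k] (1 : K)
        rw [← h, E.symm_apply_apply, Algebra.algebraMap_eq_smul_one, TensorProduct.tmul_smul, TensorProduct.smul_tmul',
          Algebra.smul_def, mul_one]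
        rfl }
  exact Algebra.IsGeometricallyReduced.of_injective F F.toRingHom.injective

section Main

variable {p : ℕ} [hp : Fact p.Prime] {A B K L K₁ K₂ : Type u}
  [CommRing A] [IsDomain A] [IsDiscreteValuationRing A] [CommRing B] [IsDomain B] [IsDiscreteValuationRing B]
  [Algebra A B] [IsLocalHom (algebraMap A B)]
  [Field K] [Field L] [Algebra A K] [IsFractionRing A K] [Algebra B L] [IsFractionRing B L]
  [Algebra K L] [Algebra A L] [IsScalarTower A K L] [IsScalarTower A B L] [CharP K p]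
  [Field K₁] [Field K₂] [Algebra K K₁] [Algebra K K₂] [Algebra K₁ K₂] [IsScalarTower K K₁ K₂]
  [FiniteDimensional K K₁] [FiniteDimensional K₁ K₂]

/-- Reducedness forbids `p`-th roots. -/
theorem not_pow [Algebra.IsGeometricallyReduced K L] {a : K₁} {α : K₂} (hα : α ^ p = algebraMap K₁ K₂ a)
    (hbij : Function.Bijective (Deform.ev (F := K₁) (p := p) α))
    (T : Type u) [Field T] [Algebra K T] [Algebra L T] [IsScalarTower K L T] [Algebra K₁ T] [IsScalarTower K K₁ T]
    (hgen : Algebra.adjoin L (Set.range (algebraMap K₁ T)) = ⊤) (t : T) : t ^ p ≠ algebraMap K₁ T a := by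
  intro ht
  haveI : CharP K₁ p := charP_of_injective_ringHom (algebraMap K K₁).injective p
  haveI : CharP T p := charP_of_injective_ringHom (algebraMap K₁ T).injective p
  haveI : FiniteDimensional L T := FSExt.finite_of_adjoin (IsScalarTower.toAlgHom K K₁ T) hgen
  haveI := FSExt.geomRed_baseChange K K₁ L
  haveI : Module.Finite L (L ⊗[K] K₁) := inferInstance
  haveI : IsArtinianRing (L ⊗[K] K₁) := isArtinian_of_tower L inferInstance
  haveI : IsArtinianRing (K₁ ⊗[K] L) := (Algebra.TensorProduct.comm K L K₁).toRingEquiv.isArtinianRing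
  let Φ : K₁ ⊗[K] L →ₐ[K₁] T :=
    Algebra.TensorProduct.lift (Algebra.ofId K₁ T) (IsScalarTower.toAlgHom K L T) fun _ _ => Commute.all _ _
  have hΦ : Function.Surjective Φ := by
    intro y
    have hy : y ∈ Algebra.adjoin L (Set.range (algebraMap K₁ T)) := by rw [hgen]; trivial
    induction hy using Algebra.adjoin_induction with
    | mem y hy => obtain ⟨x, rfl⟩ := hy; exact ⟨x ⊗ₜ 1, by simp [Φ]⟩
    | algebraMap r => exact ⟨1 ⊗ₜ r, by simp [Φ]⟩
    | add u v _ _ hu hv =>
      obtain ⟨u', rfl⟩ := hu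
      obtain ⟨v', rfl⟩ := hv
      exact ⟨u' + v', map_add _ _ _⟩
    | mul u v _ _ hu hv =>
      obtain ⟨u', rfl⟩ := hu
      obtain ⟨v', rfl⟩ := hv
      exact ⟨u' * v', map_mul _ _ _⟩
  haveI : Algebra.IsGeometricallyReduced K₁ T :=
    FSExt.geomRed_quotient (fun q hq => IsArtinianRing.isMaximal_of_isPrime q) Φ hΦ
  haveI : IsReduced (T ⊗[K₁] K₂) := Groth.Agent.H52.FBase.GeomRed.isReduced_tensor_field _
  haveI : CharP (T ⊗[K₁] K₂) p := charP_of_injective_ringHom
    (f := algebraMap T (T ⊗[K₁] K₂)) (FaithfulSMul.algebraMap_injective _ _) p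
  have h0 : ((1 : T) ⊗ₜ[K₁] α - t ⊗ₜ[K₁] (1 : K₂)) = 0 := by
    refine IsReduced.eq_zero _ ⟨p, ?_⟩
    rw [sub_pow_char, Algebra.TensorProduct.tmul_pow, Algebra.TensorProduct.tmul_pow, one_pow, one_pow, ht, hα,
      Algebra.algebraMap_eq_smul_one, Algebra.algebraMap_eq_smul_one, TensorProduct.smul_tmul, sub_self]
  obtain ⟨Φe, hΦe⟩ := ev_linear (F := K₁) (p := p) α
  let E := LinearEquiv.ofBijective Φe (by rw [show (Φe : _ → K₂) = Deform.ev α from funext hΦe]; exact hbij)
  let i1 : Fin p := ⟨1, hp.out.one_lt⟩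
  let ℓ : K₂ →ₗ[K₁] K₁ := (LinearMap.proj i1).comp E.symm.toLinearMap
  have hℓα : ℓ α = 1 := by
    have : E.symm α = Pi.single i1 1 := by
      rw [LinearEquiv.symm_apply_eq, LinearEquiv.ofBijective_apply, hΦe, Deform.ev, Finset.sum_eq_single i1]
      · simp [i1]
      · intro i _ hi; simp [Pi.single_eq_of_ne hi]
      · simp
    simp [ℓ, this]
  have hℓ1 : ℓ 1 = 0 := by
    have : E.symm (1 : K₂) = Pi.single (⟨0, hp.out.pos⟩ : Fin p) 1 := by
      rw [LinearEquiv.symm_apply_eq, LinearEquiv.ofBijective_apply, hΦe, Deform.ev_single, map_one]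
    simp [ℓ, this, i1]
  have := congrArg (TensorProduct.rid K₁ T ∘ LinearMap.lTensor T ℓ) h0
  simp [hℓα, hℓ1] at this

variable (hcomp : ∀ x : A, algebraMap B L (algebraMap A B x) = algebraMap K L (algebraMap A K x))

include hcomp in
/-- Everything needed at one place of one composite `T` of `L` and `K₁`. -/
theorem place [Algebra.IsGeometricallyReduced K L] (hB : CAlg.IsNagata B) (hsol : EtRam.IsSolution B K L K₂)
    {π : A} (hπ : Irreducible π) {a : K₁} {α : K₂} (hα : α ^ p = algebraMap K₁ K₂ a)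
    (haint : ((algebraMap K K₁).comp (algebraMap A K)).IsIntegralElem a)
    (hbij : Function.Bijective (Deform.ev (F := K₁) (p := p) α)) {c N : ℕ} (hN : 2 * c + 2 ≤ N)
    {T : Type u} [Field T] [Algebra K T] [Algebra L T] [IsScalarTower K L T] [Algebra K₁ T] [IsScalarTower K K₁ T]
    (hgen : Algebra.adjoin L (Set.range (algebraMap K₁ T)) = ⊤)
    (hc : Bdd (L := L) p (algebraMap K₁ T a) (algebraMap A B π) c)
    (W₁ : ValuationSubring T) (hW₁ : Dominates B ((algebraMap L T).comp (algebraMap B L)) W₁) :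
    (∀ (F₃ : Type u) [Field F₃] [Algebra K₁ F₃] (z : F₃)
        (_ : z ^ p = algebraMap K₁ F₃ a + algebraMap K₁ F₃ (algebraMap K K₁ (algebraMap A K π)) ^ N * z)
        (_ : Algebra.adjoin K₁ {z} = ⊤) (_ : FiniteDimensional K₁ F₃), Module.finrank K₁ F₃ = p) ∧
    ∀ (K₃ M₃ : Type u) [Field K₃] [Algebra K K₃] [Algebra K₁ K₃] [IsScalarTower K K₁ K₃] [FiniteDimensional K₁ K₃]
      [Field M₃] [Algebra T M₃] [Algebra K₁ M₃] [IsScalarTower K₁ T M₃]
      (ι : K₃ →ₐ[K₁] M₃) (z : K₃)
      (_ : z ^ p = algebraMap K₁ K₃ a + algebraMap K₁ K₃ (algebraMap K K₁ (algebraMap A K π)) ^ N * z)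
      (_ : Algebra.adjoin K₁ {z} = ⊤) (_ : Algebra.adjoin T {ι z} = ⊤)
      (W : ValuationSubring M₃) (_ : W.comap (algebraMap T M₃) = W₁) (_ : IsDiscreteValuationRing W)
      (_ : IsDiscreteValuationRing (W.comap ι.toRingHom)),
      letI : Algebra (W.comap ι.toRingHom) W := (inclOfComap W ι.toRingHom).toAlgebra
      IsWeaklyUnramified (W.comap ι.toRingHom) W ∧
      @Algebra.IsGeometricallyReduced (IsLocalRing.ResidueField (W.comap ι.toRingHom)) (IsLocalRing.ResidueField W) _ _
        (IsLocalRing.ResidueField.map (inclOfComap W ι.toRingHom)).toAlgebra := by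
  haveI : CharP K₁ p := charP_of_injective_ringHom (algebraMap K K₁).injective p
  haveI : CharP T p := charP_of_injective_ringHom (algebraMap K₁ T).injective p
  haveI : FiniteDimensional L T := FSExt.finite_of_adjoin (IsScalarTower.toAlgHom K K₁ T) hgen
  set aT := algebraMap K₁ T a with haT
  haveI : Fact (Irreducible (X ^ p - C aT)) := ⟨X_pow_sub_C_irreducible_of_prime hp.out (not_pow (K := K) (L := L) hα hbij T hgen)⟩
  obtain ⟨hfin, hroot, hbijT⟩ := adjoinRoot_data (p := p) (a := aT)
  haveI := hfin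
  let M₂ := AdjoinRoot (X ^ p - C aT)
  haveI : FiniteDimensional L M₂ := FiniteDimensional.trans L T M₂
  haveI : IsScalarTower K L M₂ := IsScalarTower.of_algebraMap_eq fun x =>
    (IsScalarTower.algebraMap_apply K T M₂ x).trans
      ((congrArg (algebraMap T M₂) (IsScalarTower.algebraMap_apply K L T x)).trans
        (IsScalarTower.algebraMap_apply L T M₂ _).symm)
  haveI : IsScalarTower K K₁ M₂ := IsScalarTower.of_algebraMap_eq fun x =>
    (IsScalarTower.algebraMap_apply K T M₂ x).trans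
      ((congrArg (algebraMap T M₂) (IsScalarTower.algebraMap_apply K K₁ T x)).trans
        (IsScalarTower.algebraMap_apply K₁ T M₂ _).symm)
  -- the map on `K₂`
  obtain ⟨Φ, hΦ⟩ := ev_linear (F := K₁) (p := p) α
  have hanp : ∀ t : K₁, t ^ p ≠ a := fun t ht =>
    not_pow (K := K) (L := L) hα hbij T hgen (algebraMap K₁ T t) (by rw [← map_pow, ht])
  haveI : Fact (Irreducible (X ^ p - C a)) := ⟨X_pow_sub_C_irreducible_of_prime hp.out hanp⟩
  let Ψ : AdjoinRoot (X ^ p - C a) →ₐ[K₁] K₂ := AdjoinRoot.liftAlgHom _ (Algebra.ofId K₁ K₂) α (by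
    rw [eval₂_sub, eval₂_X_pow, eval₂_C]; exact sub_eq_zero.2 hα)
  have hΨ : Function.Bijective Ψ := by
    refine ⟨Ψ.toRingHom.injective, fun y => ?_⟩
    obtain ⟨g, rfl⟩ := hbij.2 y
    refine ⟨Deform.ev (AdjoinRoot.root _) g, ?_⟩
    simp [Deform.ev, Ψ]
  let ΨM : AdjoinRoot (X ^ p - C a) →ₐ[K₁] M₂ := AdjoinRoot.liftAlgHom _ (Algebra.ofId K₁ M₂) (AdjoinRoot.root _) (by
    rw [eval₂_sub, eval₂_X_pow, eval₂_C]
    refine sub_eq_zero.2 (hroot.trans ?_)
    exact (IsScalarTower.algebraMap_apply K₁ T M₂ a).symm)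
  let j : K₂ →ₐ[K₁] M₂ := ΨM.comp (AlgEquiv.ofBijective Ψ hΨ).symm.toAlgHom
  have hjα : j α = AdjoinRoot.root _ := by
    show ΨM ((AlgEquiv.ofBijective Ψ hΨ).symm α) = _
    rw [show (AlgEquiv.ofBijective Ψ hΨ).symm α = AdjoinRoot.root _ from (AlgEquiv.symm_apply_eq _).2 (by simp [Ψ])]
    simp [ΨM]
  have hjcomm : ∀ x, j.toRingHom (algebraMap K₁ K₂ x) = algebraMap T M₂ (algebraMap K₁ T x) := fun x =>
    (j.commutes x).trans (IsScalarTower.algebraMap_apply K₁ T M₂ x)
  letI : Algebra K₂ M₂ := j.toRingHom.toAlgebra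
  haveI : IsScalarTower K K₂ M₂ := IsScalarTower.of_algebraMap_eq fun x => by
    show _ = j (algebraMap K K₂ x)
    rw [IsScalarTower.algebraMap_apply K K₁ K₂, j.commutes, ← IsScalarTower.algebraMap_apply K K₁ M₂]
  have hgen₂ : Algebra.adjoin L (Set.range (algebraMap K₂ M₂)) = ⊤ := by
    refine eq_top_iff.2 fun y _ => ?_
    obtain ⟨g, rfl⟩ := hbijT.2 y
    refine sum_mem fun i _ => mul_mem ?_ (pow_mem (Algebra.subset_adjoin (R := L) (s := Set.range (algebraMap K₂ M₂)) ⟨α, hjα⟩) _)
    have hgi : g i ∈ Algebra.adjoin L (Set.range (algebraMap K₁ T)) := by rw [hgen]; trivial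
    generalize g i = t at hgi ⊢
    induction hgi using Algebra.adjoin_induction with
    | mem x hx => obtain ⟨x, rfl⟩ := hx; exact Algebra.subset_adjoin ⟨algebraMap K₁ K₂ x, hjcomm x⟩
    | algebraMap r => rw [← IsScalarTower.algebraMap_apply L T M₂]; exact Subalgebra.algebraMap_mem _ r
    | add u v _ _ hu hv => rw [map_add]; exact add_mem hu hv
    | mul u v _ _ hu hv => rw [map_mul]; exact mul_mem hu hv
  obtain ⟨W₂, hW₂⟩ := DomVal.exists_comap_eq (algebraMap T M₂) W₁
  have hW₂B : Dominates B ((algebraMap L M₂).comp (algebraMap B L)) W₂ := by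
    rw [IsScalarTower.algebraMap_eq L T M₂, RingHom.comp_assoc, ← DomVal.dominates_comap_iff, hW₂]
    exact hW₁
  haveI : IsDiscreteValuationRing W₂ := FSExt.isDVR W₂ hW₂B
  have hW₁A : Dominates A ((algebraMap K T).comp (algebraMap A K)) W₁ := FSExt.dominates_base hcomp W₁ hW₁
  -- the bottom
  let R : ValuationSubring K₁ := W₁.comap (algebraMap K₁ T)
  have hRA : Dominates A ((algebraMap K K₁).comp (algebraMap A K)) R :=
    FSExt.dominates_comap hcomp (IsScalarTower.toAlgHom K K₁ T) W₁ hW₁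
  let π₁ : K₁ := algebraMap K K₁ (algebraMap A K π)
  have hπ₁ : π₁ ∈ R := hRA.1 π
  have hπ₁0 : π₁ ≠ 0 := by
    rw [_root_.map_ne_zero]; exact (map_ne_zero_iff _ (IsFractionRing.injective A K)).2 hπ.ne_zero
  have haR : a ∈ R := by
    letI : Algebra A K₁ := ((algebraMap K K₁).comp (algebraMap A K)).toAlgebra
    letI : Algebra A R := (RingHom.codRestrict _ R hRA.1).toAlgebra
    haveI : IsScalarTower A R K₁ := IsScalarTower.of_algebraMap_eq fun _ => rfl
    obtain ⟨w, hw⟩ := IsIntegrallyClosed.isIntegral_iff.1 ((show IsIntegral A a from haint).tower_top (A := R))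
    rw [← hw]; exact w.2
  have hπT : algebraMap K₁ T π₁ = algebraMap L T (algebraMap B L (algebraMap A B π)) := by
    rw [hcomp, ← IsScalarTower.algebraMap_apply K L T, ← IsScalarTower.algebraMap_apply K K₁ T]
  have hπval : ∀ (M : Type u) [Field M] [Algebra T M] (W : ValuationSubring M), W.comap (algebraMap T M) = W₁ →
      W.valuation (algebraMap T M (algebraMap K₁ T π₁)) < 1 := by
    intro M _ _ W hW
    have hd : Dominates B ((algebraMap T M).comp ((algebraMap L T).comp (algebraMap B L))) W := by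
      rw [← DomVal.dominates_comap_iff, hW]; exact hW₁
    rw [hπT]
    exact hd.2 _ (map_nonunit _ _ hπ.not_isUnit)
  have htopR : ∀ r ∈ W₁, algebraMap T M₂ r ∈ W₂ := fun r hr => by rw [← hW₂] at hr; exact hr
  have htopb : ∀ g : Fin p → T, Deform.ev (AdjoinRoot.root (X ^ p - C aT)) g ∈ W₂ →
      ∀ i, algebraMap K₁ T π₁ ^ c * g i ∈ W₁ := fun g hg i => by
    rw [hπT, ← hW₂]; exact bdd_place hB hc W₂ hW₂B g hg i
  let V₂ : ValuationSubring K₂ := W₂.comap j.toRingHom
  haveI : FiniteDimensional K K₂ := FiniteDimensional.trans K K₁ K₂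
  haveI : IsDiscreteValuationRing V₂ :=
    FSExt.isDVR (B := A) (L := K) V₂ (FSExt.dominates_comap hcomp (IsScalarTower.toAlgHom K K₂ M₂) W₂ hW₂B)
  have hbotR : ∀ r ∈ R, algebraMap K₁ K₂ r ∈ V₂ := fun r hr => by
    show j.toRingHom _ ∈ W₂
    rw [hjcomm]; exact htopR _ hr
  have hev₂ : ∀ g : Fin p → K₁, j.toRingHom (Deform.ev α g) =
      Deform.ev (AdjoinRoot.root (X ^ p - C aT)) (fun i => algebraMap K₁ T (g i)) := fun g => by
    rw [ev_map (algebraMap K₁ T) j.toRingHom hjcomm, show j.toRingHom α = AdjoinRoot.root _ from hjα]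
  have hbotb : ∀ g : Fin p → K₁, Deform.ev α g ∈ V₂ → ∀ i, π₁ ^ c * g i ∈ R := fun g hg i => by
    show algebraMap K₁ T _ ∈ W₁
    rw [map_mul, map_pow]
    exact htopb (fun i => algebraMap K₁ T (g i)) (hev₂ g ▸ hg) i
  have hbotπ : V₂.valuation (algebraMap K₁ K₂ π₁) < 1 := by
    refine (ValuationSubring.valuation_lt_one_iff V₂ ⟨_, hbotR _ hπ₁⟩).1 fun hu => ?_
    refine (mem_maximalIdeal _).1 ((ValuationSubring.valuation_lt_one_iff W₂ ⟨_, htopR _ hπ₁⟩).2 (hπval M₂ W₂ hW₂)) ?_
    convert hu.map (inclOfComap W₂ j.toRingHom) using 1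
    exact Subtype.ext (hjcomm π₁).symm
  refine ⟨fun F₃ _ _ z hz hzgen _ => ?_, ?_⟩
  · obtain ⟨W, hW⟩ := DomVal.exists_comap_eq (algebraMap K₁ F₃) R
    have hd : Dominates A ((algebraMap K₁ F₃).comp ((algebraMap K K₁).comp (algebraMap A K))) W := by
      rw [← DomVal.dominates_comap_iff, hW]; exact hRA
    letI : Algebra K F₃ := ((algebraMap K₁ F₃).comp (algebraMap K K₁)).toAlgebra
    haveI : IsScalarTower K K₁ F₃ := IsScalarTower.of_algebraMap_eq fun _ => rfl
    haveI : FiniteDimensional K F₃ := FiniteDimensional.trans K K₁ F₃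
    haveI : IsDiscreteValuationRing W := FSExt.isDVR (B := A) (L := K) W hd
    obtain ⟨hinj, -⟩ := Deform.deform R π₁ a hp.out.two_le hπ₁ haR hπ₁0 hα hbij V₂ hbotR hbotπ hbotb hN hz hzgen W
      (fun r hr => by rw [← hW] at hr; exact hr) (hd.2 π hπ.not_isUnit)
    have hs : Function.Surjective (Deform.ev (F := K₁) (p := p) z) :=
      Deform.ev_surjective z (X ^ p - (C (π₁ ^ N) * X + C a))
        (monic_X_pow_sub ((degree_linear_le).trans_lt (by exact_mod_cast hp.out.one_lt)))
        (natDegree_eq_of_degree_eq_some (by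
          rw [degree_sub_eq_left_of_degree_lt (by
            rw [degree_X_pow]; exact (degree_linear_le).trans_lt (by exact_mod_cast hp.out.one_lt)), degree_X_pow]))
        (by simp [hz, π₁]; ring) hp.out.pos hzgen
    obtain ⟨Φ₃, hΦ₃⟩ := ev_linear (F := K₁) (p := p) z
    rw [← (LinearEquiv.ofBijective Φ₃ (by rw [show (Φ₃ : _ → F₃) = Deform.ev z from funext hΦ₃]; exact ⟨hinj, hs⟩)).finrank_eq,
      Module.finrank_fin_fun]
  intro K₃ M₃ _ _ _ _ _ _ _ _ _ ι z hz hzgen hιgen W hW hWd hVd
  haveI := hWd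
  haveI := hVd
  have hιcomm : ∀ x, ι.toRingHom (algebraMap K₁ K₃ x) = algebraMap T M₃ (algebraMap K₁ T x) := fun x =>
    (ι.commutes x).trans (IsScalarTower.algebraMap_apply K₁ T M₃ x)
  let V₃ : ValuationSubring K₃ := W.comap ι.toRingHom
  have hbot3 : ∀ r ∈ R, algebraMap K₁ K₃ r ∈ V₃ := fun r hr => by
    show ι.toRingHom _ ∈ W
    rw [hιcomm]
    have hr' : algebraMap K₁ T r ∈ W₁ := hr
    rw [← hW] at hr'; exact hr'
  have htop3 : ∀ r ∈ W₁, algebraMap T M₃ r ∈ W := fun r hr => by rw [← hW] at hr; exact hr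
  have hbot3π : V₃.valuation (algebraMap K₁ K₃ π₁) < 1 := by
    refine (ValuationSubring.valuation_lt_one_iff V₃ ⟨_, hbot3 _ hπ₁⟩).1 fun hu => ?_
    refine (mem_maximalIdeal _).1 ((ValuationSubring.valuation_lt_one_iff W ⟨_, htop3 _ hπ₁⟩).2 (hπval M₃ W hW)) ?_
    convert hu.map (inclOfComap W ι.toRingHom) using 1
    exact Subtype.ext (hιcomm π₁).symm
  have hzT : ι z ^ p = algebraMap T M₃ aT + algebraMap T M₃ (algebraMap K₁ T π₁) ^ N * ι z := by
    rw [haT, ← hιcomm, ← hιcomm]
    show ι z ^ p = ι _ + ι _ ^ N * ι z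
    rw [← map_pow, hz, map_add, map_mul, map_pow]
  obtain ⟨-, χb, hkb, hsb, hrb, hgb, hib⟩ := Deform.deform R π₁ a hp.out.two_le hπ₁ haR hπ₁0 hα hbij V₂ hbotR hbotπ hbotb
    hN hz hzgen V₃ hbot3 hbot3π
  obtain ⟨-, χt, hkt, hst, hrt, hgt, hit⟩ := Deform.deform W₁ (algebraMap K₁ T π₁) aT hp.out.two_le hπ₁ haR
    ((_root_.map_ne_zero _).2 hπ₁0) hroot hbijT W₂ htopR (hπval M₂ W₂ hW₂) htopb hN hzT hιgen W htop3 (hπval M₃ W hW)
  have hev₃ : ∀ g : Fin p → K₁, ι.toRingHom (Deform.ev z g) =
      Deform.ev (ι z) (fun i => algebraMap K₁ T (g i)) := fun g =>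
    ev_map (algebraMap K₁ T) ι.toRingHom hιcomm z g
  obtain ⟨hwu, hgr⟩ := hsol M₂ hgen₂ W₂ hW₂B
  letI : Algebra V₂ W₂ := (inclOfComap W₂ j.toRingHom).toAlgebra
  letI : Algebra V₃ W := (inclOfComap W ι.toRingHom).toAlgebra
  constructor
  · obtain ⟨τ, hτ⟩ := IsDiscreteValuationRing.exists_irreducible V₂
    obtain ⟨g, hg⟩ := hbij.2 (τ : K₂)
    have hgV : Deform.ev α g ∈ V₂ := hg ▸ τ.2
    have hgW : Deform.ev (AdjoinRoot.root (X ^ p - C aT)) (fun i => algebraMap K₁ T (g i)) ∈ W₂ := hev₂ g ▸ hgV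
    have hirr2 : Irreducible (⟨_, hgW⟩ : W₂) := by
      have hmap : (maximalIdeal V₂).map (algebraMap V₂ W₂) = maximalIdeal W₂ := hwu
      rw [hτ.maximalIdeal_eq, Ideal.map_span, Set.image_singleton] at hmap
      rw [show (⟨_, hgW⟩ : W₂) = algebraMap V₂ W₂ τ from Subtype.ext ((hev₂ g).symm.trans (congrArg j.toRingHom hg))]
      exact (IsDiscreteValuationRing.irreducible_iff_uniformizer _).2 hmap.symm
    obtain ⟨hzV, -⟩ := hgb g hgV
    obtain ⟨hzW, -⟩ := hgt _ hgW
    have hirr3 := hit _ hgW hzW hirr2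
    refine le_antisymm (Ideal.map_le_iff_le_comap.2 fun x hx hu => hx (isUnit_of_map_unit (inclOfComap W ι.toRingHom) x hu)) ?_
    rw [hirr3.maximalIdeal_eq, Ideal.span_le, Set.singleton_subset_iff,
      show (⟨_, hzW⟩ : W) = algebraMap V₃ W ⟨_, hzV⟩ from Subtype.ext (hev₃ g).symm]
    refine Ideal.mem_map_of_mem _ (Irreducible.not_isUnit ?_)
    exact hib g hgV hzV (by rw [show (⟨_, hgV⟩ : V₂) = τ from Subtype.ext hg]; exact hτ)
  · let eb : ResidueField V₂ ≃+* ResidueField V₃ :=
      (Ideal.quotEquivOfEq hkb.symm).trans (RingHom.quotientKerEquivOfSurjective hsb)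
    let et : ResidueField W₂ ≃+* ResidueField W :=
      (Ideal.quotEquivOfEq hkt.symm).trans (RingHom.quotientKerEquivOfSurjective hst)
    letI : Algebra (ResidueField V₂) (ResidueField W₂) := (ResidueField.map (inclOfComap W₂ j.toRingHom)).toAlgebra
    letI : Algebra (ResidueField V₃) (ResidueField W) := (ResidueField.map (inclOfComap W ι.toRingHom)).toAlgebra
    haveI : Algebra.IsGeometricallyReduced (ResidueField V₂) (ResidueField W₂) := hgr
    refine geomRed_of_equiv eb et fun x => ?_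
    obtain ⟨x, rfl⟩ := residue_surjective x
    show χt (inclOfComap W₂ j.toRingHom x) = ResidueField.map (inclOfComap W ι.toRingHom) (χb x)
    obtain ⟨g, hg⟩ := hbij.2 (x : K₂)
    have hgV : Deform.ev α g ∈ V₂ := hg ▸ x.2
    have hgW : Deform.ev (AdjoinRoot.root (X ^ p - C aT)) (fun i => algebraMap K₁ T (g i)) ∈ W₂ := hev₂ g ▸ hgV
    obtain ⟨hzV, hb⟩ := hgb g hgV
    obtain ⟨hzW, ht⟩ := hgt _ hgW
    rw [show inclOfComap W₂ j.toRingHom x = ⟨_, hgW⟩ from Subtype.ext ((congrArg j.toRingHom hg).symm.trans (hev₂ g)),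
      show x = (⟨_, hgV⟩ : V₂) from Subtype.ext hg.symm, hb, ht, ResidueField.map_residue]
    exact congrArg (residue W) (Subtype.ext (hev₃ g).symm)

end Main

/-- Let p be a prime and A → B an injective local homomorphism of discrete valuation rings whose fields
of fractions are K ⊆ L, where K has characteristic p, L is separable (geometrically reduced) over K
and B is a Nagata ring. Let K ⊆ K₁ ⊆ K₂ be finite extensions such that K₂ is a solution for A ⊆ B
and K₂/K₁ is purely inseparable of degree p. Then some finite separable extension K₃/K₁ is also a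
solution for A ⊆ B. -/
theorem result (p : ℕ) (hp : p.Prime) (A B K L : Type u)
    [CommRing A] [IsDomain A] [IsDiscreteValuationRing A] [CommRing B] [IsDomain B] [IsDiscreteValuationRing B]
    [Algebra A B] (hinj : Function.Injective (algebraMap A B)) [IsLocalHom (algebraMap A B)]
    [Field K] [Field L] [Algebra A K] [IsFractionRing A K] [Algebra B L] [IsFractionRing B L]
    [Algebra K L] [Algebra A L] [IsScalarTower A K L] [IsScalarTower A B L] [CharP K p]
    [Algebra.IsGeometricallyReduced K L] (hB : CAlg.IsNagata B)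
    (K₁ K₂ : Type u) [Field K₁] [Field K₂] [Algebra K K₁] [Algebra K K₂] [Algebra K₁ K₂] [IsScalarTower K K₁ K₂]
    [FiniteDimensional K K₁] [FiniteDimensional K₁ K₂] (hsol : EtRam.IsSolution B K L K₂)
    [IsPurelyInseparable K₁ K₂] (hdeg : Module.finrank K₁ K₂ = p) :
    ∃ (K₃ : Type u) (_ : Field K₃) (_ : Algebra K K₃) (_ : Algebra K₁ K₃) (_ : IsScalarTower K K₁ K₃),
      FiniteDimensional K₁ K₃ ∧ Algebra.IsSeparable K₁ K₃ ∧ EtRam.IsSolution B K L K₃ := by
  classical
  haveI : Fact p.Prime := ⟨hp⟩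
  have hcomp : ∀ x : A, algebraMap B L (algebraMap A B x) = algebraMap K L (algebraMap A K x) := fun x => by
    rw [← IsScalarTower.algebraMap_apply A B L, ← IsScalarTower.algebraMap_apply A K L]
  haveI : CharP K₁ p := charP_of_injective_ringHom (algebraMap K K₁).injective p
  obtain ⟨π, hπ⟩ := IsDiscreteValuationRing.exists_irreducible A
  -- the radical
  obtain ⟨β, hβ⟩ : ∃ β : K₂, β ∉ Set.range (algebraMap K₁ K₂) := by
    by_contra h
    push_neg at h
    have : Module.finrank K₁ K₂ = 1 := (finrank_eq_one_iff_of_nonzero' (1 : K₂) one_ne_zero).2 fun w => by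
      obtain ⟨x, rfl⟩ := h w
      exact ⟨x, by rw [Algebra.smul_def, mul_one]⟩
    exact hp.ne_one (hdeg.symm.trans this)
  obtain ⟨a₀, ha₀⟩ := EppInsep.pow_mem (p := p) hdeg β
  obtain ⟨d, hd0, hd⟩ : ∃ d : A, d ≠ 0 ∧ ((algebraMap K K₁).comp (algebraMap A K)).IsIntegralElem
      (algebraMap K K₁ (algebraMap A K d) * a₀) := by
    letI : Algebra A K₁ := ((algebraMap K K₁).comp (algebraMap A K)).toAlgebra
    haveI : IsScalarTower A K K₁ := IsScalarTower.of_algebraMap_eq fun _ => rfl
    obtain ⟨d, hd0, hd⟩ := ((IsFractionRing.isAlgebraic_iff A K K₁).2 (Algebra.IsAlgebraic.isAlgebraic a₀)).exists_integral_multiple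
    exact ⟨d, hd0, by rw [Algebra.smul_def] at hd; exact hd⟩
  set dK : K₁ := algebraMap K K₁ (algebraMap A K d) with hdK
  set a : K₁ := dK ^ p * a₀ with hadef
  have haint : ((algebraMap K K₁).comp (algebraMap A K)).IsIntegralElem a := by
    have e : a = dK ^ (p - 1) * (dK * a₀) := by
      rw [hadef, ← mul_assoc, ← pow_succ, Nat.sub_add_cancel hp.one_le]
    rw [e]
    refine RingHom.IsIntegralElem.mul _ ?_ hd
    rw [hdK, ← map_pow, ← map_pow]
    exact RingHom.isIntegralElem_map _ (x := d ^ (p - 1))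
  set α : K₂ := algebraMap K₁ K₂ dK * β with hαdef
  have hα : α ^ p = algebraMap K₁ K₂ a := by rw [hαdef, hadef, mul_pow, ← ha₀, map_mul, map_pow]
  have hdK0 : dK ≠ 0 := (_root_.map_ne_zero _).2 ((map_ne_zero_iff _ (IsFractionRing.injective A K)).2 hd0)
  have hαr : α ∉ Set.range (algebraMap K₁ K₂) := by
    rintro ⟨x, hx⟩
    refine hβ ⟨x / dK, ?_⟩
    rw [map_div₀, hx, hαdef, mul_div_cancel_left₀ _ ((_root_.map_ne_zero _).2 hdK0)]
  have hαtop : IntermediateField.adjoin K₁ {α} = ⊤ := by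
    rcases (Nat.dvd_prime hp).1 (hdeg ▸ (⟨_, (Module.finrank_mul_finrank K₁ (IntermediateField.adjoin K₁ {α}) K₂).symm⟩ :
      Module.finrank K₁ (IntermediateField.adjoin K₁ {α}) ∣ Module.finrank K₁ K₂)) with h | h
    · exfalso
      rw [IntermediateField.finrank_eq_one_iff] at h
      exact hαr (IntermediateField.mem_bot.1 (h ▸ IntermediateField.mem_adjoin_simple_self K₁ α))
    · exact IntermediateField.eq_of_le_of_finrank_eq le_top (by rw [h, IntermediateField.finrank_top', hdeg])
  have hbij : Function.Bijective (Deform.ev (F := K₁) (p := p) α) := by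
    refine ev_bijective_of_finrank (Deform.ev_surjective α (X ^ p - C a) (monic_X_pow_sub_C a hp.ne_zero)
      natDegree_X_pow_sub_C (by simp [hα]) hp.pos ?_) hdeg
    rw [← IntermediateField.adjoin_simple_toSubalgebra_of_isAlgebraic (Algebra.IsAlgebraic.isAlgebraic α), hαtop,
      IntermediateField.top_toSubalgebra]
  -- uniform bound
  let P := L ⊗[K] K₁
  haveI : IsArtinianRing P := isArtinian_of_tower L inferInstance
  haveI : Nontrivial P := Module.nontrivial_of_finrank_pos (R := L) (by rw [Module.finrank_baseChange]; exact Module.finrank_pos)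
  have hbd : ∀ m : MaximalSpectrum P, ∃ c : ℕ, ∀ (T : Type u) [Field T] [Algebra K T] [Algebra L T] [IsScalarTower K L T]
      [Algebra K₁ T] [IsScalarTower K K₁ T], Algebra.adjoin L (Set.range (algebraMap K₁ T)) = ⊤ →
      ∀ (Φ : P →ₐ[L] T), (∀ x, Φ ((1 : L) ⊗ₜ x) = algebraMap K₁ T x) → RingHom.ker Φ = m.asIdeal →
      ∀ ϖ : B, Irreducible ϖ → Bdd (L := L) p (algebraMap K₁ T a) (algebraMap A B π) c := by
    intro m
    by_contra hne
    push_neg at hne
    obtain ⟨T, _, _, _, _, _, _, hgen, Φ, hΦ, hker, ϖ, hϖ, -⟩ := hne 0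
    haveI : FiniteDimensional L T := FSExt.finite_of_adjoin (IsScalarTower.toAlgHom K K₁ T) hgen
    haveI : CharP T p := charP_of_injective_ringHom (algebraMap K₁ T).injective p
    obtain ⟨e, u, he⟩ := IsDiscreteValuationRing.eq_unit_mul_pow_irreducible
      ((map_ne_zero_iff _ hinj).2 hπ.ne_zero) hϖ
    have he0 : 1 ≤ e := Nat.pos_of_ne_zero fun h0 => by
      rw [h0, pow_zero, mul_one] at he
      exact map_nonunit (algebraMap A B) π hπ.not_isUnit (he ▸ u.isUnit)
    obtain ⟨c, hc⟩ := exists_bdd (L := L) hB (not_pow (K := K) (L := L) hα hbij T hgen) hϖ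
    obtain ⟨T', _, _, _, _, _, _, hgen', Φ', hΦ', hker', ϖ', hϖ', hbad⟩ := hne c
    have hs : ∀ (S : Type u) [Field S] [Algebra K S] [Algebra L S] [IsScalarTower K L S] [Algebra K₁ S]
        [IsScalarTower K K₁ S], Algebra.adjoin L (Set.range (algebraMap K₁ S)) = ⊤ → ∀ Ψ : P →ₐ[L] S,
        (∀ x, Ψ ((1 : L) ⊗ₜ x) = algebraMap K₁ S x) → Function.Surjective Ψ := fun S _ _ _ _ _ _ h Ψ hΨ => by
      rw [← AlgHom.range_eq_top, eq_top_iff, ← h]
      refine Algebra.adjoin_le ?_
      rintro _ ⟨x, rfl⟩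
      exact ⟨_, hΨ x⟩
    let eT : T ≃ₐ[L] T' := ((Ideal.quotientKerAlgEquivOfSurjective (hs T hgen Φ hΦ)).symm.trans
      (Ideal.quotientEquivAlgOfEq L (hker.trans hker'.symm))).trans (Ideal.quotientKerAlgEquivOfSurjective (hs T' hgen' Φ' hΦ'))
    have hea : eT (algebraMap K₁ T a) = algebraMap K₁ T' a := by
      rw [← hΦ a, ← hΦ' a]
      have : (Ideal.quotientKerAlgEquivOfSurjective (hs T hgen Φ hΦ)).symm (Φ ((1 : L) ⊗ₜ a)) = Ideal.Quotient.mk _ ((1 : L) ⊗ₜ a) := by
        rw [AlgEquiv.symm_apply_eq]; rfl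
      simp only [eT, AlgEquiv.trans_apply, this]
      rfl
    refine hbad (hea ▸ bdd_equiv eT (fun g hg i => ?_))
    letI : Algebra B T := ((algebraMap L T).comp (algebraMap B L)).toAlgebra
    have h1 : IsIntegral B (algebraMap B T ϖ ^ c * g i) := hc g hg i
    obtain ⟨e', rfl⟩ : ∃ e', e = e' + 1 := ⟨e - 1, by omega⟩
    have e2 : algebraMap B T (algebraMap A B π) ^ c * g i =
        algebraMap B T (((u : B) * ϖ ^ e') ^ c) * (algebraMap B T ϖ ^ c * g i) := by
      rw [← mul_assoc, map_pow, ← mul_pow, ← map_mul, he, pow_succ, mul_assoc]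
    show IsIntegral B (algebraMap B T (algebraMap A B π) ^ c * g i)
    rw [e2]
    exact isIntegral_algebraMap.mul h1
  choose cm hcm using hbd
  haveI : Finite (MaximalSpectrum P) := inferInstance
  cases nonempty_fintype (MaximalSpectrum P)
  let c := Finset.univ.sup cm
  obtain ⟨ϖ, hϖ⟩ := IsDiscreteValuationRing.exists_irreducible B
  have hcT : ∀ (T : Type u) [Field T] [Algebra K T] [Algebra L T] [IsScalarTower K L T] [Algebra K₁ T] [IsScalarTower K K₁ T],
      Algebra.adjoin L (Set.range (algebraMap K₁ T)) = ⊤ → Bdd (L := L) p (algebraMap K₁ T a) (algebraMap A B π) c := by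
    intro T _ _ _ _ _ _ hgen
    let Φ : P →ₐ[L] T := Algebra.TensorProduct.lift (Algebra.ofId L T) (IsScalarTower.toAlgHom K K₁ T) fun _ _ => Commute.all _ _
    have hΦ : ∀ x, Φ ((1 : L) ⊗ₜ x) = algebraMap K₁ T x := fun x => by
      show Algebra.TensorProduct.lift _ _ _ ((1 : L) ⊗ₜ[K] x) = _
      rw [Algebra.TensorProduct.lift_tmul, map_one, one_mul]; rfl
    haveI := RingHom.ker_isPrime Φ
    haveI : (RingHom.ker Φ).IsMaximal := IsArtinianRing.isMaximal_of_isPrime _
    exact bdd_mono (Finset.le_sup (Finset.mem_univ (⟨RingHom.ker Φ, inferInstance⟩ : MaximalSpectrum P)))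
      (hcm ⟨RingHom.ker Φ, inferInstance⟩ T hgen Φ hΦ rfl ϖ hϖ)
  set N := 2 * c + 2 with hNdef
  set π₁ : K₁ := algebraMap K K₁ (algebraMap A K π) with hπ₁def
  let f : K₁[X] := X ^ p - (C (π₁ ^ N) * X + C a)
  have hfdeg : Polynomial.degree (C (π₁ ^ N) * X + C a) < (p : WithBot ℕ) :=
    degree_linear_le.trans_lt (by exact_mod_cast hp.one_lt)
  have hfm : f.Monic := monic_X_pow_sub hfdeg
  have hfd : f.natDegree = p := natDegree_eq_of_degree_eq_some (by
    rw [degree_sub_eq_left_of_degree_lt (by rw [degree_X_pow]; exact hfdeg), degree_X_pow])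
  have hπ₁0 : π₁ ≠ 0 := (_root_.map_ne_zero _).2 ((map_ne_zero_iff _ (IsFractionRing.injective A K)).2 hπ.ne_zero)
  -- irreducibility, at one place
  obtain ⟨g, hgirr, hgf⟩ := WfDvdMonoid.exists_irreducible_factor (fun h => by
    have := natDegree_eq_zero_of_isUnit h; rw [hfd] at this; exact hp.ne_zero this) hfm.ne_zero
  obtain ⟨m, hm⟩ := Ideal.exists_maximal P
  letI : Field (P ⧸ m) := Ideal.Quotient.field m
  letI : Algebra K₁ (P ⧸ m) :=
    ((Ideal.Quotient.mk m).comp (Algebra.TensorProduct.includeRight : K₁ →ₐ[K] P).toRingHom).toAlgebra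
  haveI : IsScalarTower K K₁ (P ⧸ m) := IsScalarTower.of_algebraMap_eq fun x => by
    show _ = Ideal.Quotient.mk m ((Algebra.TensorProduct.includeRight : K₁ →ₐ[K] P) (algebraMap K K₁ x))
    rw [AlgHom.commutes]; rfl
  have hgen0 : Algebra.adjoin L (Set.range (algebraMap K₁ (P ⧸ m))) = ⊤ := by
    refine eq_top_iff.2 fun y _ => ?_
    obtain ⟨y, rfl⟩ := Ideal.Quotient.mk_surjective y
    induction y using TensorProduct.induction_on with
    | zero => rw [map_zero]; exact zero_mem _
    | add u v hu hv => rw [map_add]; exact add_mem (hu trivial) (hv trivial)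
    | tmul l k =>
      rw [show (l ⊗ₜ[K] k) = l • ((1 : L) ⊗ₜ[K] k) by rw [TensorProduct.smul_tmul', smul_eq_mul, mul_one],
        ← Ideal.Quotient.mkₐ_eq_mk L, map_smul]
      refine Subalgebra.smul_mem _ ?_ l
      apply Algebra.subset_adjoin
      exact Set.mem_range_self (f := algebraMap K₁ _) k
  haveI : FiniteDimensional L (P ⧸ m) := FSExt.finite_of_adjoin (IsScalarTower.toAlgHom K K₁ (P ⧸ m)) hgen0
  let V₀ : ValuationSubring L :=
    { (algebraMap B L).range with mem_or_inv_mem' := fun y => ValuationRing.isInteger_or_isInteger _ y }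
  obtain ⟨W₀, hW₀⟩ := DomVal.exists_comap_eq (algebraMap L (P ⧸ m)) V₀
  have hW₀B : Dominates B ((algebraMap L (P ⧸ m)).comp (algebraMap B L)) W₀ := by
    rw [← DomVal.dominates_comap_iff, hW₀]
    refine ⟨fun b => ⟨b, rfl⟩, fun b hb => ?_⟩
    refine (ValuationSubring.valuation_lt_one_iff V₀ ⟨_, ⟨b, rfl⟩⟩).1 ((mem_maximalIdeal _).2 fun hu => ?_)
    obtain ⟨⟨_, z, rfl⟩, hc⟩ := hu.exists_right_inv
    refine (mem_maximalIdeal _).1 hb (IsUnit.of_mul_eq_one z (IsFractionRing.injective B L ?_))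
    rw [map_mul, map_one]; exact congrArg Subtype.val hc
  have hfg : g.natDegree = p := by
    haveI : Fact (Irreducible g) := ⟨hgirr⟩
    haveI : FiniteDimensional K₁ (AdjoinRoot g) := (AdjoinRoot.powerBasis hgirr.ne_zero).finite
    have hroot : AdjoinRoot.mk g f = 0 := AdjoinRoot.mk_eq_zero.2 hgf
    simp only [f, map_sub, map_add, map_mul, map_pow, AdjoinRoot.mk_X, AdjoinRoot.mk_C] at hroot
    have := (place hcomp hB hsol hπ hα haint hbij (le_refl N) hgen0 (hcT _ hgen0) W₀ hW₀B).1 (AdjoinRoot g)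
      (AdjoinRoot.root g) (by rw [AdjoinRoot.algebraMap_eq]; linear_combination hroot) AdjoinRoot.adjoinRoot_eq_top inferInstance
    rwa [(AdjoinRoot.powerBasis hgirr.ne_zero).finrank, AdjoinRoot.powerBasis_dim] at this
  have hirr : Irreducible f := by
    obtain ⟨q, hq⟩ := hgf
    have hq0 : q ≠ 0 := fun h => hfm.ne_zero (by rw [hq, h, mul_zero])
    have hdq : q.natDegree = 0 := by
      have := natDegree_mul hgirr.ne_zero hq0
      rw [← hq, hfd, hfg] at this
      omega
    rw [hq]
    exact (irreducible_mul_isUnit (isUnit_iff_degree_eq_zero.2 (by rw [degree_eq_natDegree hq0, hdq]; rfl))).2 hgirr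
  haveI : Fact (Irreducible f) := ⟨hirr⟩
  let K₃ := AdjoinRoot f
  haveI : FiniteDimensional K₁ K₃ := (AdjoinRoot.powerBasis hirr.ne_zero).finite
  have hroot : AdjoinRoot.mk f f = 0 := AdjoinRoot.mk_self
  have hz : (AdjoinRoot.root f : K₃) ^ p = algebraMap K₁ K₃ a + algebraMap K₁ K₃ π₁ ^ N * AdjoinRoot.root f := by
    conv at hroot => lhs; arg 2; simp only [f]
    simp only [map_sub, map_add, map_mul, map_pow, AdjoinRoot.mk_X, AdjoinRoot.mk_C] at hroot
    rw [AdjoinRoot.algebraMap_eq]; linear_combination hroot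
  have hgen₃ : Algebra.adjoin K₁ {(AdjoinRoot.root f : K₃)} = ⊤ := AdjoinRoot.adjoinRoot_eq_top
  refine ⟨K₃, inferInstance, inferInstance, inferInstance, inferInstance, inferInstance, ?_, ?_⟩
  · haveI : IsSeparable K₁ (AdjoinRoot.root f : K₃) := by
      have hs : f.Separable := by
        rw [separable_iff_derivative_ne_zero hirr]
        rw [show derivative f = -C (π₁ ^ N) by simp [f, derivative_X_pow, CharP.cast_eq_zero, -map_pow]]
        exact neg_ne_zero.2 (C_ne_zero.2 (pow_ne_zero _ hπ₁0))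
      exact hs.of_dvd (minpoly.dvd _ _ (by rw [AdjoinRoot.aeval_eq, AdjoinRoot.mk_self]))
    haveI := (IntermediateField.isSeparable_adjoin_simple_iff_isSeparable K₁ K₃).2 this
    suffices hT : IntermediateField.adjoin K₁ {(AdjoinRoot.root f : K₃)} = ⊤ from
      AlgEquiv.Algebra.isSeparable ((IntermediateField.equivOfEq hT).trans IntermediateField.topEquiv)
    refine eq_top_iff.2 fun x _ => IntermediateField.algebra_adjoin_le_adjoin K₁ _ ?_
    rw [hgen₃]; trivial
  intro M _ _ _ _ _ _ hgen W hW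
  letI : Algebra K₁ M := ((algebraMap K₃ M).comp (algebraMap K₁ K₃)).toAlgebra
  haveI : IsScalarTower K₁ K₃ M := IsScalarTower.of_algebraMap_eq fun _ => rfl
  haveI : IsScalarTower K K₁ M := IsScalarTower.of_algebraMap_eq fun x => by
    show _ = algebraMap K₃ M (algebraMap K₁ K₃ (algebraMap K K₁ x))
    rw [← IsScalarTower.algebraMap_apply K K₁ K₃, ← IsScalarTower.algebraMap_apply K K₃ M]
  haveI : FiniteDimensional K K₃ := FiniteDimensional.trans K K₁ K₃
  haveI : FiniteDimensional L M := FSExt.finite_of_adjoin (IsScalarTower.toAlgHom K K₃ M) hgen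
  let T : IntermediateField L M := IntermediateField.adjoin L (Set.range (algebraMap K₁ M))
  letI : Algebra K₁ T :=
    ((algebraMap K₁ M).codRestrict T fun x => IntermediateField.subset_adjoin L _ ⟨x, rfl⟩).toAlgebra
  haveI : IsScalarTower K₁ T M := IsScalarTower.of_algebraMap_eq fun _ => rfl
  haveI : IsScalarTower K K₁ T := IsScalarTower.of_algebraMap_eq fun x => Subtype.ext
    ((IsScalarTower.algebraMap_apply K K₁ M x).symm.symm.trans rfl)
  have hgenT : Algebra.adjoin L (Set.range (algebraMap K₁ T)) = ⊤ := by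
    apply Subalgebra.map_injective (f := T.val) Subtype.val_injective
    rw [AlgHom.map_adjoin, Algebra.map_top, ← Set.range_comp, T.range_val]
    exact (IntermediateField.adjoin_toSubalgebra_of_isAlgebraic fun x _ => Algebra.IsAlgebraic.isAlgebraic x).symm
  let W₁ : ValuationSubring T := W.comap (algebraMap T M)
  have hW₁ : Dominates B ((algebraMap L T).comp (algebraMap B L)) W₁ := by
    rw [DomVal.dominates_comap_iff, show (algebraMap T M).comp ((algebraMap L T).comp (algebraMap B L)) =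
      (algebraMap L M).comp (algebraMap B L) from RingHom.ext fun x => rfl]
    exact hW
  haveI : IsDiscreteValuationRing W := FSExt.isDVR W hW
  haveI : IsDiscreteValuationRing (W.comap (algebraMap K₃ M)) := FSExt.isDVR (B := A) (L := K) _
    (FSExt.dominates_comap hcomp (IsScalarTower.toAlgHom K K₃ M) W hW)
  have hgenz : Algebra.adjoin T {algebraMap K₃ M (AdjoinRoot.root f)} = ⊤ := by
    refine eq_top_iff.2 fun y _ => ?_
    have hy : y ∈ Algebra.adjoin L (Set.range (algebraMap K₃ M)) := by rw [hgen]; trivial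
    induction hy using Algebra.adjoin_induction with
    | mem y hy =>
      obtain ⟨k, rfl⟩ := hy
      have hk : k ∈ Algebra.adjoin K₁ {(AdjoinRoot.root f : K₃)} := by rw [hgen₃]; trivial
      induction hk using Algebra.adjoin_induction with
      | mem k hk =>
        rw [Set.mem_singleton_iff] at hk
        rw [hk]; exact Algebra.self_mem_adjoin_singleton _ _
      | algebraMap r =>
        rw [show algebraMap K₃ M (algebraMap K₁ K₃ r) = algebraMap T M (algebraMap K₁ T r) from rfl]
        exact Subalgebra.algebraMap_mem _ _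
      | add u v _ _ hu hv => rw [map_add]; exact add_mem (hu trivial) (hv trivial)
      | mul u v _ _ hu hv => rw [map_mul]; exact mul_mem (hu trivial) (hv trivial)
    | algebraMap r => rw [IsScalarTower.algebraMap_apply L T M]; exact Subalgebra.algebraMap_mem _ _
    | add u v _ _ hu hv => exact add_mem (hu trivial) (hv trivial)
    | mul u v _ _ hu hv => exact mul_mem (hu trivial) (hv trivial)
  exact (place hcomp hB hsol hπ hα haint hbij (le_refl N) hgenT (hcT T hgenT) W₁ hW₁).2 K₃ M
    (IsScalarTower.toAlgHom K₁ K₃ M) (AdjoinRoot.root f) hz hgen₃ hgenz W rfl inferInstance ‹_›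

end Groth.Agent.S7151
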