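import Groth.Statements.S1986
import Groth.Agent.S7151
import Groth.Agent.H48.RamBound
import Mathlib.FieldTheory.PurelyInseparable.Basic
import Mathlib.FieldTheory.KummerExtension
import Mathlib.FieldTheory.Perfect

set_option autoImplicit false
universe u
open EtAlg

namespace Groth.Agent.S1986

open Field IntermediateField

theorem main {A B K L : Type u} [CommRing A] [IsDomain A] [IsDiscreteValuationRing A]
    [CommRing B] [IsDomain B] [IsDiscreteValuationRing B] [Algebra A B] [IsLocalHom (algebraMap A B)]
    (hinj : Function.Injective (algebraMap A B))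
    [Field K] [Field L] [Algebra A K] [IsFractionRing A K] [Algebra B L] [IsFractionRing B L]
    [Algebra K L] [Algebra A L] [IsScalarTower A K L] [IsScalarTower A B L] [Algebra.IsSeparable K L]
    (hB : CAlg.IsNagata B) (d : ℕ) :
    ∀ (K₂ : Type u) [Field K₂] [Algebra K K₂] [FiniteDimensional K K₂], EtRam.IsSolution B K L K₂ →
      finInsepDegree K K₂ = d →
      ∃ (K₃ : Type u) (_ : Field K₃) (_ : Algebra K K₃) (_ : FiniteDimensional K K₃) (_ : Algebra.IsSeparable K K₃),
        EtRam.IsSolution B K L K₃ := by
  induction d using Nat.strong_induction_on with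
  | _ d ih =>
    intro K₂ _ _ _ h₂ hd
    by_cases hsep : Algebra.IsSeparable K K₂
    · exact ⟨K₂, inferInstance, inferInstance, inferInstance, hsep, h₂⟩
    obtain ⟨p, hchar⟩ := CharP.exists K
    rcases CharP.char_is_prime_or_zero K p with hp | rfl
    swap
    · haveI : CharZero K := CharP.charP_to_charZero K
      exact absurd (inferInstance : Algebra.IsSeparable K K₂) hsep
    haveI : Fact p.Prime := ⟨hp⟩
    haveI : CharP K₂ p := charP_of_injective_ringHom (algebraMap K K₂).injective p
    haveI : Algebra.IsGeometricallyReduced K L := Groth.Agent.H48.FSExt.geomRed_of_separable K L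
    let S := separableClosure K K₂
    have hS : S ≠ ⊤ := fun h => hsep ((separableClosure.eq_top_iff K K₂).1 h)
    obtain ⟨E, ⟨hSE, hE⟩, hmax⟩ : ∃ E : IntermediateField K K₂, (S ≤ E ∧ E ≠ ⊤) ∧
        ∀ E' : IntermediateField K K₂, S ≤ E' → E' ≠ ⊤ → Module.finrank K E' ≤ Module.finrank K E := by
      classical
      let P : ℕ → Prop := fun n => ∃ E : IntermediateField K K₂, (S ≤ E ∧ E ≠ ⊤) ∧ Module.finrank K E = n
      have hb : ∀ E : IntermediateField K K₂, Module.finrank K E ≤ Module.finrank K K₂ := fun E =>
        LinearMap.finrank_le_finrank_of_injective (f := E.val.toLinearMap) Subtype.val_injective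
      obtain ⟨E, hE, hEn⟩ : P (Nat.findGreatest P (Module.finrank K K₂)) :=
        Nat.findGreatest_spec (hb S) ⟨S, ⟨le_rfl, hS⟩, rfl⟩
      exact ⟨E, hE, fun E' h1 h2 => hEn ▸ Nat.le_findGreatest (hb E') ⟨E', ⟨h1, h2⟩, rfl⟩⟩
    haveI : CharP E p := charP_of_injective_ringHom (algebraMap K E).injective p
    have hpow : ∀ x : K₂, ∃ n : ℕ, x ^ p ^ n ∈ E := fun x => by
      haveI : ExpChar S p := ExpChar.prime hp
      obtain ⟨n, s, hs⟩ := IsPurelyInseparable.pow_mem S p x
      exact ⟨n, hs ▸ hSE s.2⟩
    haveI : CharP S p := charP_of_injective_ringHom (algebraMap K S).injective p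
    obtain ⟨y, hyE, hy⟩ : ∃ y : K₂, y ∉ E ∧ y ^ p ∈ E := by
      classical
      obtain ⟨x, hx⟩ : ∃ x : K₂, x ∉ E := by
        by_contra h
        push Not at h
        exact hE (eq_top_iff.2 fun z _ => h z)
      obtain ⟨m, hm⟩ : ∃ m, Nat.find (hpow x) = m + 1 := Nat.exists_eq_succ_of_ne_zero fun h0 => hx (by
        simpa [h0] using Nat.find_spec (hpow x))
      refine ⟨x ^ p ^ m, Nat.find_min (hpow x) (by omega), ?_⟩
      rw [← pow_mul, ← pow_succ, ← hm]
      exact Nat.find_spec (hpow x)
    haveI : IsPurelyInseparable E K₂ := by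
      haveI : ExpChar E p := ExpChar.prime hp
      rw [isPurelyInseparable_iff_pow_mem E p]
      exact fun x => (hpow x).imp fun n hn => ⟨⟨_, hn⟩, rfl⟩
    have hdeg : Module.finrank E K₂ = p := by
      have hint : IsIntegral E y := IsIntegral.of_finite E y
      have htop : (IntermediateField.adjoin E {y}) = ⊤ := by
        by_contra h
        have hle : E ≤ (IntermediateField.adjoin E {y}).restrictScalars K := fun z hz =>
          (IntermediateField.adjoin E {y}).algebraMap_mem ⟨z, hz⟩
        have h1 := hmax _ (hSE.trans hle) (fun h' => h (IntermediateField.restrictScalars_injective K (by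
          rw [h', IntermediateField.restrictScalars_top])))
        exact hyE (by
          rw [IntermediateField.eq_of_le_of_finrank_le hle h1]
          exact IntermediateField.mem_adjoin_simple_self E y)
      rw [← IntermediateField.finrank_top', ← htop, IntermediateField.adjoin.finrank hint]
      have hirr : Irreducible (Polynomial.X ^ p - Polynomial.C (⟨y ^ p, hy⟩ : E)) :=
        X_pow_sub_C_irreducible_of_prime hp fun b hb => hyE (by
          have : (b : K₂) = y := frobenius_inj K₂ p (by
            simpa [frobenius_def] using congrArg Subtype.val hb)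
          exact this ▸ b.2)
      rw [← minpoly.eq_of_irreducible_of_monic hirr (x := y) (by simp [IntermediateField.algebraMap_apply])
        (Polynomial.monic_X_pow_sub_C _ hp.ne_zero), Polynomial.natDegree_X_pow_sub_C]
    obtain ⟨K₃, iF, iA, iA', iT, hfin, hsep₃, h₃⟩ :=
      Groth.Agent.S7151.result p hp A B K L hinj hB E K₂ h₂ hdeg
    haveI : FiniteDimensional K K₃ := FiniteDimensional.trans K E K₃
    refine ih (finInsepDegree K K₃) ?_ K₃ h₃ rfl
    have e1 := finSepDegree_mul_finSepDegree_of_isAlgebraic K E K₃
    rw [finSepDegree_eq_finrank_of_isSeparable E K₃] at e1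
    have e2 := finSepDegree_mul_finSepDegree_of_isAlgebraic K E K₂
    rw [IsPurelyInseparable.finSepDegree_eq_one E K₂, mul_one] at e2
    have hpos : 0 < finSepDegree K E := Nat.pos_of_ne_zero (NeZero.ne _)
    have i1 : finInsepDegree K K₃ = finInsepDegree K E := by
      have h := finSepDegree_mul_finInsepDegree K K₃
      rw [← e1, ← Module.finrank_mul_finrank K E K₃, ← finSepDegree_mul_finInsepDegree K E] at h
      have hpos' : 0 < finSepDegree K E * Module.finrank E K₃ := Nat.mul_pos hpos Module.finrank_pos
      refine Nat.eq_of_mul_eq_mul_left hpos' (h.trans ?_)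
      ring
    have i2 : finInsepDegree K K₂ = finInsepDegree K E * p := by
      have h := finSepDegree_mul_finInsepDegree K K₂
      rw [← e2, ← Module.finrank_mul_finrank K E K₂, hdeg, ← finSepDegree_mul_finInsepDegree K E] at h
      refine Nat.eq_of_mul_eq_mul_left hpos (h.trans ?_)
      ring
    have hE0 : 0 < finInsepDegree K E := Nat.pos_of_ne_zero (NeZero.ne _)
    rw [i1, ← hd, i2]
    exact lt_mul_right hE0 hp.one_lt


/-- Let A -> B be an extension of discrete valuation rings with separable extension of fraction fields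
L/K and B a Nagata ring. If some finite extension of K is a solution for A -> B, then some finite
separable extension of K is a solution as well. -/
theorem result (A B K L : Type u) [CommRing A] [IsDomain A] [IsDiscreteValuationRing A]
    [CommRing B] [IsDomain B] [IsDiscreteValuationRing B] [Algebra A B] [IsLocalHom (algebraMap A B)]
    (hinj : Function.Injective (algebraMap A B))
    [Field K] [Field L] [Algebra A K] [IsFractionRing A K] [Algebra B L] [IsFractionRing B L]
    [Algebra K L] [Algebra A L] [IsScalarTower A K L] [IsScalarTower A B L] [Algebra.IsSeparable K L] (hB : CAlg.IsNagata B)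
    (K₂ : Type u) [Field K₂] [Algebra K K₂] [FiniteDimensional K K₂] (h₂ : EtRam.IsSolution B K L K₂) :
    ∃ (K₃ : Type u) (_ : Field K₃) (_ : Algebra K K₃) (_ : FiniteDimensional K K₃) (_ : Algebra.IsSeparable K K₃),
      EtRam.IsSolution B K L K₃ := by
  exact main hinj hB _ K₂ h₂ rfl

end Groth.Agent.S1986
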