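import Groth.Statements.S19860
import Groth.Agent.Lib.HilbFib53.Strata
import Groth.Agent.S7750

set_option autoImplicit false
universe u
open CategoryTheory CategoryTheory.Limits AlgebraicGeometry
open Variety

namespace Groth.Agent.S19860

/-- Let A be a Noetherian local integral domain, f : X ⟶ Spec A a proper morphism, L an invertible
O_X-module ample relative to f and F a coherent O_X-module. Then F is flat over Spec A if and only
if the Hilbert polynomials of F on the generic fibre and on the closed fibre coincide: for every n ≥
0 the Euler characteristic, over the fraction field, of the pullback of F ⊗ L^{⊗n} to the fibre over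
the generic point equals the Euler characteristic, over the residue field, of its pullback to the
fibre over the closed point. (The source works with k-schemes of finite type over an algebraically
closed field of characteristic zero, A a local integral k-algebra and f projective with a relatively
very ample O(1); the argument uses only that A is a Noetherian local domain and that some power of L
is relatively very ample, so it is stated here for proper f with an f-ample L and no base field.) -/
theorem result
    (A : Type u) [CommRing A] [IsDomain A] [IsNoetherianRing A] [IsLocalRing A]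
    (X : Scheme.{u}) (f : X ⟶ Spec (CommRingCat.of A)) [IsProper f]
    (L : X.Modules) (hL : RelAmple.IsRelAmple f L) (F : X.Modules) (hF : Coh.IsCoh F) :
    FlatMod.IsFlatOver f F ↔
      ∀ n : ℕ,
        @Curv2.euler ((Spec (CommRingCat.of A)).residueField (⊥ : PrimeSpectrum A)) _ (f.fiber (⊥ : PrimeSpectrum A))
          ⟨f.fiberToSpecResidueField (⊥ : PrimeSpectrum A)⟩
          ((Scheme.Modules.pullback (f.fiberι (⊥ : PrimeSpectrum A))).obj (CohB1.tensorMod F (CohB1.tensorPow L n))) =
        @Curv2.euler ((Spec (CommRingCat.of A)).residueField (IsLocalRing.closedPoint A)) _ (f.fiber (IsLocalRing.closedPoint A))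
          ⟨f.fiberToSpecResidueField (IsLocalRing.closedPoint A)⟩
          ((Scheme.Modules.pullback (f.fiberι (IsLocalRing.closedPoint A))).obj (CohB1.tensorMod F (CohB1.tensorPow L n))) := by
  haveI : IsNoetherianRing (CommRingCat.of A) := ‹IsNoetherianRing A›
  haveI : IsLocallyNoetherian (Spec (CommRingCat.of A)) := inferInstance
  haveI : LocallyOfFinitePresentation f := inferInstance
  have hFP : CohB1.IsFP F := by
    haveI : IsLocallyNoetherian X := LocallyOfFiniteType.isLocallyNoetherian f
    exact Lib.ZarCoh.FP.isFP_of_isCoh F hF
  haveI : AlgebraicGeometry.IsReduced (Spec (CommRingCat.of A)) := inferInstance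
  let η : Spec (CommRingCat.of A) := (⊥ : PrimeSpectrum A)
  let x₀ : Spec (CommRingCat.of A) := IsLocalRing.closedPoint A
  have hη : ∀ s, η ⤳ s := fun s => (PrimeSpectrum.le_iff_specializes _ _).1 bot_le
  have hx₀ : ∀ s : Spec (CommRingCat.of A), s ⤳ x₀ := fun s =>
    (PrimeSpectrum.le_iff_specializes _ _).1 (IsLocalRing.le_maximalIdeal s.isPrime.ne_top)
  rw [S7750.result X (Spec (CommRingCat.of A)) f L hL F hF]
  constructor
  · intro h n
    obtain ⟨U, hU, hc⟩ := h x₀
    exact hc η ((hη x₀).mem_open U.2 hU) n
  · intro h s
    refine ⟨⊤, trivial, fun s' _ n => ?_⟩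
    show Lib.HilbFib53.hilbFn f L F s' n = Lib.HilbFib53.hilbFn f L F s n
    obtain ⟨N, hN, hloc⟩ := Lib.HilbFib53.exists_local_strata f (𝟙 _) L F hL hFP
    choose P hP hfin _ hclo _ using hloc
    have hP' : ∀ j (y : Spec (CommRingCat.of A)) (q : ℕ),
        (Lib.HilbFib53.hilbFn f L F y (j + N * q) : ℚ) = (P j y).eval (q : ℚ) := hP
    have hconst : ∀ j y, P j y = P j η := by
      intro j y
      have h0 : P j η = P j x₀ := Lib.FlatStrat53.poly_eq_of_eventually ⟨0, fun q _ => by
        rw [← hP' j η q, ← hP' j x₀ q]
        exact congrArg (fun z : ℤ => (z : ℚ)) (h (j + N * q))⟩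
      have hmem : ∀ a b : Spec (CommRingCat.of A), a ⤳ b → b ∈ closure {z | P j z = P j a} := fun a b hab =>
        closure_mono (Set.singleton_subset_iff.2 (show a ∈ {z | P j z = P j a} from rfl)) (specializes_iff_mem_closure.1 hab)
      obtain ⟨m₁, h₁⟩ := hclo j _ y (hmem η y (hη y))
      obtain ⟨m₂, h₂⟩ := hclo j _ x₀ (hmem y x₀ (hx₀ y))
      refine Lib.FlatStrat53.poly_eq_of_eventually ⟨max m₁ m₂, fun q hq => ?_⟩
      refine le_antisymm ?_ (h₁ q ((le_max_left _ _).trans hq))
      rw [h0]
      exact h₂ q ((le_max_right _ _).trans hq)
    have h1 := hP' (n % N) s' (n / N)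
    have h2 := hP' (n % N) s (n / N)
    rw [hconst _ s'] at h1
    rw [hconst _ s] at h2
    have h3 := h1.trans h2.symm
    rw [Nat.mod_add_div] at h3
    exact Int.cast_injective h3

end Groth.Agent.S19860
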