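import Groth.Statements.S19863
import Groth.Agent.Lib.EGA75.Zariski

set_option autoImplicit false
set_option linter.style.haveILetI false
universe u
open EGA4

namespace Groth.Agent.S19863

/-- Let A be a Noetherian ring, J a proper ideal of A, Â the J-adic completion and A_T the localization
of A at T = 1 + J. If the canonical map A → Â is a regular homomorphism (flat, with Noetherian
geometrically regular fibres), then A_T is a regular ring if and only if Â is a regular ring
(Noetherian, with regular local rings at all primes). (The cases of the henselization of the pair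
and of the weak completion are not stated here.) -/
theorem result
    (A : Type u) [CommRing A] [IsNoetherianRing A] (J : Ideal A) (hJ : J ≠ ⊤)
    (hf : CAlg.IsRegularHom A (AdicCompletion J A))
    (T : Submonoid A) (hT : T = MonoidHom.mker (Ideal.Quotient.mk J)) :
    IsRegularRing (Localization T) ↔ IsRegularRing (AdicCompletion J A) := by
  subst hT
  haveI := hf.1
  have hiso := Groth.Agent.Lib.EGA75.Loci.compProp_regular.{u}.iso
  haveI : IsNoetherianRing (Localization (MonoidHom.mker (Ideal.Quotient.mk J))) :=
    IsLocalization.isNoetherianRing (MonoidHom.mker (Ideal.Quotient.mk J)) _ inferInstance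
  rw [isRegularRing_iff, isRegularRing_iff]
  constructor
  · intro h Q _
    have hp := (Groth.Agent.Lib.Excellent.FormalFibre.forall_localization_iff
      (MonoidHom.mker (Ideal.Quotient.mk J)) hiso).1 h _
      (Groth.Agent.Lib.EGA75.Zariski.disjoint_comap A J Q)
    refine Groth.Agent.Lib.EGA75.Loci.atPrime_of_fibre Groth.Agent.Lib.EGA75.Loci.compProp_regular A
      (AdicCompletion J A) Q _ rfl hp fun Q' _ => ?_
    have hg := (hf.2 (Q.comap (algebraMap A (AdicCompletion J A)))).2 (Q.comap (algebraMap A (AdicCompletion J A))).ResidueField
      inferInstance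
    haveI := Groth.Agent.Lib.Excellent.Transport.isoInvariant_isRegularRing _ _
      (Algebra.TensorProduct.lid _ _).toRingEquiv hg
    exact IsRegularRing.isRegularLocalRing_localization Q'
  · intro h
    refine (Groth.Agent.Lib.Excellent.FormalFibre.forall_localization_iff
      (MonoidHom.mker (Ideal.Quotient.mk J)) hiso).2 fun p _ hd => ?_
    obtain ⟨Q, hQ, hQp⟩ := Groth.Agent.Lib.EGA75.Zariski.exists_comap A J p hd
    exact Groth.Agent.Lib.EGA75.Loci.atPrime_descend (P := fun R [CommRing R] => IsRegularLocalRing R)
      Groth.Agent.Lib.EGA75.Loci.descend_regular A (AdicCompletion J A) Q p hQp (h Q)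

end Groth.Agent.S19863
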