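import Groth.Statements.S19868
import Groth.Agent.Lib.PLie.Exists
import Mathlib.Tactic.Module
import Mathlib.Tactic.Ring
import Mathlib.Tactic.LinearCombination
import Mathlib.Tactic.FinCases

set_option autoImplicit false
universe u v
open PLie

namespace Groth.Agent.S19868

open DualNumber in
set_option maxHeartbeats 2000000 in
/-- Let K be a field of prime characteristic p, K[ε] the ring of dual numbers (taken with its
characteristic-p structure) and a, …, i ∈ K. Let L be a Lie algebra over K[ε], free as a module with
basis x = bs 0, y = bs 1, z = bs 2 and brackets [x,y] = aε x + bε y + cε z, [x,z] = dε x + eε y + fε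
z, [y,z] = (1 + gε) x + hε y + iε z, a first-order deformation of the Heisenberg algebra (the Jacobi
identity forces b + f = 0). Then L carries a p-mapping over K[ε] if and only if b = c = e = 0 when p
= 2; for odd p there is no condition. (The published statement is about the singularity of the point
h_3 in the restrictable locus of the rank-one-centre stratum of the moduli scheme of based
three-dimensional Lie algebras over the prime field; this row states the restrictability criterion
for the first-order deformations of h_3 asserted in its proof, over any field of characteristic p in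
place of the prime field.) -/
theorem result (K : Type u) [Field K] (p : ℕ) [Fact p.Prime] [CharP K p]
    [CharP (DualNumber K) p] (a b c d e f g h i : K)
    (L : Type v) [LieRing L] [LieAlgebra (DualNumber K) L] (bs : Module.Basis (Fin 3) (DualNumber K) L)
    (hxy : ⁅bs 0, bs 1⁆ = (a • ε : DualNumber K) • bs 0 + (b • ε : DualNumber K) • bs 1 + (c • ε : DualNumber K) • bs 2)
    (hxz : ⁅bs 0, bs 2⁆ = (d • ε : DualNumber K) • bs 0 + (e • ε : DualNumber K) • bs 1 + (f • ε : DualNumber K) • bs 2)
    (hyz : ⁅bs 1, bs 2⁆ = (1 + g • ε : DualNumber K) • bs 0 + (h • ε : DualNumber K) • bs 1 + (i • ε : DualNumber K) • bs 2) :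
    Nonempty (PLie.PMap (DualNumber K) p L) ↔ (p = 2 → b = 0 ∧ c = 0 ∧ e = 0) := by
  have hp2 := (Fact.out : p.Prime).two_le
  have hee : ∀ x y : K, (x • ε : DualNumber K) * (y • ε) = 0 := fun x y => by ext <;> simp
  have hyx : ⁅bs 1, bs 0⁆ = -⁅bs 0, bs 1⁆ := (lie_skew _ _).symm
  have hzx : ⁅bs 2, bs 0⁆ = -⁅bs 0, bs 2⁆ := (lie_skew _ _).symm
  have hzy : ⁅bs 2, bs 1⁆ = -⁅bs 1, bs 2⁆ := (lie_skew _ _).symm
  have jac : b + f = 0 := by
    have h := lie_jacobi (bs 0) (bs 1) (bs 2)
    have h0 := congrArg (fun w => (bs.repr w 0).snd) h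
    simp [hyx, hzx, hzy, hxy, hxz, hyz] at h0
    linear_combination -h0
  rw [Groth.Agent.Lib.PLie.Exists.nonempty_iff bs]
  constructor
  · rintro hw rfl
    have hz : ∀ i', ∃ z : L, ∀ j',
        ⁅bs i', ⁅bs i', bs j'⁆⁆ = bs.repr z 0 • ⁅bs 0, bs j'⁆ + bs.repr z 1 • ⁅bs 1, bs j'⁆ +
          bs.repr z 2 • ⁅bs 2, bs j'⁆ := by
      intro i'
      obtain ⟨z, hz⟩ := hw i'
      refine ⟨z, fun j' => ?_⟩
      have h := congrArg (fun T : Module.End (DualNumber K) L => T (bs j')) hz
      simp only [pow_two, Module.End.mul_apply, LieAlgebra.ad_apply] at h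
      rw [h]
      conv_lhs => rw [← bs.sum_repr z]
      rw [Fin.sum_univ_three, add_lie, add_lie, smul_lie, smul_lie, smul_lie]
    obtain ⟨u, hu⟩ := hz 1
    have u0 := hu 0
    have u1 := hu 1
    have u2 := hu 2
    simp [hyx, hzx, hzy, hxy, hxz, hyz] at u0 u1 u2
    have b0 : (bs.repr u 1).fst = 0 := by
      have := congrArg (fun w => (bs.repr w 0).fst) u2
      simp at this; first | exact this | exact this.symm
    have g0 : (bs.repr u 2).fst = 0 := by
      have := congrArg (fun w => (bs.repr w 0).fst) u1
      simp at this; first | exact this | exact this.symm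
    have hc : c = 0 := by
      have := congrArg (fun w => (bs.repr w 0).snd) u0
      simp [b0, g0] at this; first | exact this | exact this.symm
    have hαb : (bs.repr u 0).fst * b = 0 := by
      have := congrArg (fun w => (bs.repr w 1).snd) u1
      simp [b0, g0] at this
      rcases this with h | h <;> simp [h]
    have hαe : (bs.repr u 0).fst * e = -b := by
      have := congrArg (fun w => (bs.repr w 1).snd) u2
      simp [b0, g0] at this; first | exact this.symm | exact this | linear_combination -this
    have hb : b = 0 := by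
      have : b * b = 0 := by linear_combination (-e) * hαb + b * hαe
      exact mul_self_eq_zero.mp this
    obtain ⟨v, hv⟩ := hz 2
    have v0 := hv 0
    have v1 := hv 1
    have v2 := hv 2
    simp [hyx, hzx, hzy, hxy, hxz, hyz] at v0 v1 v2
    have b1 : (bs.repr v 1).fst = 0 := by
      have := congrArg (fun w => (bs.repr w 0).fst) v2
      simp at this; first | exact this | exact this.symm
    have g1 : (bs.repr v 2).fst = 0 := by
      have := congrArg (fun w => (bs.repr w 0).fst) v1
      simp at this; first | exact this | exact this.symm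
    have he : e = 0 := by
      have := congrArg (fun w => (bs.repr w 0).snd) v0
      simp [b1, g1] at this; first | exact this | exact this.symm
    exact ⟨hb, hc, he⟩
  · intro hcond
    have hpow : ∀ (k m : ℕ) (i' : Fin 3),
        LieAlgebra.ad (DualNumber K) L (bs i') ^ k = 0 → k ≤ m →
          LieAlgebra.ad (DualNumber K) L (bs i') ^ m = 0 :=
      fun k m i' h hkm => pow_eq_zero_of_le hkm h
    intro i'
    fin_cases i'
    · refine ⟨0, ?_⟩
      rw [map_zero]
      refine hpow 2 p 0 (bs.ext fun j => ?_) hp2
      rw [pow_two, Module.End.mul_apply, LinearMap.zero_apply]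
      fin_cases j <;> simp [hxy, hxz, hyz, hyx, hzx, hzy, smul_smul, hee, add_mul, mul_add] <;> match_scalars <;>
        ext <;> simp
    all_goals
      rcases (show p = 2 ∨ p = 3 ∨ 4 ≤ p by omega) with rfl | rfl | hp4
    · obtain ⟨rfl, rfl, rfl⟩ := hcond rfl
      rw [zero_add] at jac
      subst jac
      refine ⟨((i - a) • ε : DualNumber K) • bs 1, bs.ext fun j => ?_⟩
      rw [pow_two, Module.End.mul_apply]
      fin_cases j <;> simp [hxy, hxz, hyz, hyx, hzx, hzy, smul_smul, hee, add_mul, mul_add] <;> match_scalars <;>
        ext <;> simp <;> ring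
    · refine ⟨(-c • ε : DualNumber K) • bs 1, bs.ext fun j => ?_⟩
      rw [pow_succ', pow_two, Module.End.mul_apply, Module.End.mul_apply]
      fin_cases j <;> simp [hxy, hxz, hyz, hyx, hzx, hzy, smul_smul, hee, add_mul, mul_add] <;> match_scalars <;>
        ext <;> simp <;> ring
    · refine ⟨0, ?_⟩
      rw [map_zero]
      refine hpow 4 p 1 (bs.ext fun j => ?_) hp4
      simp only [pow_succ', pow_zero, mul_one, Module.End.mul_apply, LinearMap.zero_apply]
      fin_cases j <;> simp [hxy, hxz, hyz, hyx, hzx, hzy, smul_smul, hee, add_mul, mul_add] <;> match_scalars <;>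
        ext <;> simp <;> ring
    · obtain ⟨rfl, rfl, rfl⟩ := hcond rfl
      rw [zero_add] at jac
      subst jac
      refine ⟨(-(d + h) • ε : DualNumber K) • bs 2, bs.ext fun j => ?_⟩
      rw [pow_two, Module.End.mul_apply]
      fin_cases j <;> simp [hxy, hxz, hyz, hyx, hzx, hzy, smul_smul, hee, add_mul, mul_add] <;> match_scalars <;>
        ext <;> simp <;> ring
    · refine ⟨(e • ε : DualNumber K) • bs 2, bs.ext fun j => ?_⟩
      rw [pow_succ', pow_two, Module.End.mul_apply, Module.End.mul_apply]
      fin_cases j <;> simp [hxy, hxz, hyz, hyx, hzx, hzy, smul_smul, hee, add_mul, mul_add] <;> match_scalars <;>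
        ext <;> simp <;> ring
    · refine ⟨0, ?_⟩
      rw [map_zero]
      refine hpow 4 p 2 (bs.ext fun j => ?_) hp4
      simp only [pow_succ', pow_zero, mul_one, Module.End.mul_apply, LinearMap.zero_apply]
      fin_cases j <;> simp [hxy, hxz, hyz, hyx, hzx, hzy, smul_smul, hee, add_mul, mul_add] <;> match_scalars <;>
        ext <;> simp <;> ring

end Groth.Agent.S19868
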