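import Groth.Statements.S19878
import Groth.Agent.Lib.Ideal.Comap
import Mathlib

set_option autoImplicit false
universe u
open LVCorr

namespace Groth.Agent.S19878

open AlgebraicGeometry CategoryTheory CategoryTheory.Limits in
/-- Let k be a field, C a k-scheme of finite type, X a k-scheme and c = (c₁, c₂) : C → X ×_k X a
correspondence; let Fix(c) = C ×_{X ×_k X} X be its scheme of fixed points (pullback along the
diagonal), with projections i : Fix(c) → C and δ : Fix(c) → X. Let Z ⊂ X be the closed subscheme of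
a quasi-coherent ideal I and suppose c is contracting near Z in a neighbourhood of the fixed points:
there is an open W ⊆ C containing the image of Fix(c) such that on W the inverse image ideal of I
under c₁ is contained in the inverse image ideal of I under c₂ (c stabilizes Z on W) and some power
(I·O_W via c₁)^k₀ is contained in (I·O_W via c₂)^(k₀+1). Then every connected open subset β of
Fix(c) whose image under δ meets Z is contained, as a set, in δ⁻¹(Z). (The source works with
separated schemes of finite type over an algebraically closed field; this row assumes only that C is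
of finite type over a field k.) -/
theorem result {C X Fx : Scheme.{u}} (k : Type u) [Field k]
    (pC : C ⟶ Spec (CommRingCat.of k)) [LocallyOfFiniteType pC] [QuasiCompact pC]
    (pX : X ⟶ Spec (CommRingCat.of k)) (c₁ c₂ : C ⟶ X) (hc : c₁ ≫ pX = c₂ ≫ pX)
    (i : Fx ⟶ C) (δ : Fx ⟶ X) (hF : IsPullback i δ (pullback.lift c₁ c₂ hc) (pullback.diagonal pX))
    (I : X.IdealSheafData) (W : C.Opens) (hW : Set.range i.base ⊆ (W : Set C))
    (hle : I.comap (W.ι ≫ c₁) ≤ I.comap (W.ι ≫ c₂))
    (k₀ : ℕ) (hpow : I.comap (W.ι ≫ c₁) ^ k₀ ≤ I.comap (W.ι ≫ c₂) ^ (k₀ + 1))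
    (β : Fx.Opens) (hβ : _root_.IsConnected (β : Set Fx))
    (hβZ : (δ.base '' (β : Set Fx) ∩ (I.support : Set X)).Nonempty) :
    (β : Set Fx) ⊆ δ.base ⁻¹' (I.support : Set X) := by
  have h12 : i ≫ c₁ = δ ∧ i ≫ c₂ = δ := by
    constructor
    · have := congrArg (· ≫ pullback.fst pX pX) hF.w
      simpa [pullback.lift_fst] using this
    · have := congrArg (· ≫ pullback.snd pX pX) hF.w
      simpa [pullback.lift_snd] using this
  let j : Fx ⟶ W.toScheme := IsOpenImmersion.lift W.ι i (by rw [Scheme.Opens.range_ι]; exact hW)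
  have hj : j ≫ W.ι = i := IsOpenImmersion.lift_fac _ _ _
  let J := I.comap δ
  have hJ : J ^ k₀ ≤ J ^ (k₀ + 1) := by
    have h := Scheme.IdealSheafData.comap_mono j hpow
    simp only [Groth.Agent.Lib.Ideal.Comap.comap_pow, ← Scheme.IdealSheafData.comap_comp, ← Category.assoc, hj,
      h12.1, h12.2] at h
    exact h
  have : LocallyOfFiniteType i := MorphismProperty.of_isPullback hF.flip inferInstance
  have : IsLocallyNoetherian C := LocallyOfFiniteType.isLocallyNoetherian pC
  have : IsLocallyNoetherian Fx := LocallyOfFiniteType.isLocallyNoetherian i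
  have hopen : IsOpen (J.support : Set Fx) := by
    rw [isOpen_iff_forall_mem_open]
    intro x hx
    obtain ⟨U, hUaff, hxU, -⟩ := exists_isAffineOpen_mem_and_subset (X := Fx) (U := ⊤) (x := x) trivial
    let U' : Fx.affineOpens := ⟨U, hUaff⟩
    have : IsNoetherianRing Γ(Fx, U) := IsLocallyNoetherian.component_noetherian U'
    let a := J.ideal U'
    have ha : a ^ k₀ ≤ a ^ (k₀ + 1) := by
      have := Scheme.IdealSheafData.ideal_mono hJ U'
      simpa [Scheme.IdealSheafData.ideal_pow] using this
    have hstab : ∀ m, a ^ k₀ ≤ a ^ (k₀ + m) := by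
      intro m
      induction m with
      | zero => exact le_rfl
      | succ m ih =>
        refine ha.trans ?_
        rw [pow_succ a k₀, ← add_assoc, pow_succ a (k₀ + m)]
        exact mul_le_mul' ih le_rfl
    have hidem : IsIdempotentElem (a ^ (k₀ + 1)) := by
      refine le_antisymm Ideal.mul_le_right ?_
      rw [← pow_add, pow_succ, show k₀ + 1 + (k₀ + 1) = k₀ + (k₀ + 1) + 1 by ring, pow_succ a (k₀ + (k₀ + 1))]
      exact mul_le_mul' (hstab _) le_rfl
    obtain ⟨e, he, hspan⟩ := (Ideal.isIdempotentElem_iff_of_fg _ (IsNoetherian.noetherian _)).1 hidem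
    refine ⟨Fx.basicOpen (1 - e : Γ(Fx, U)), fun y hy => ?_, (Fx.basicOpen _).isOpen, ?_⟩
    · have hyU : y ∈ U := Fx.basicOpen_le _ hy
      have hy' : y ∈ (Fx.zeroLocus (U := U) ((a ^ (k₀ + 1) : Ideal Γ(Fx, U)) : Set Γ(Fx, U))) := by
        rw [hspan]
        change y ∈ Fx.zeroLocus (U := U) ((Ideal.span ({e} : Set Γ(Fx, U)) : Ideal Γ(Fx, U)) : Set Γ(Fx, U))
        rw [Scheme.zeroLocus_span, Scheme.mem_zeroLocus_iff]
        intro f hf hye
        rw [Set.mem_singleton_iff] at hf
        rw [hf] at hye
        have hmem : y ∈ Fx.basicOpen (e * (1 - e)) := by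
          rw [Scheme.basicOpen_mul]; exact ⟨hye, hy⟩
        rw [show e * (1 - e) = 0 by rw [mul_sub, mul_one, he.eq, sub_self], Scheme.basicOpen_zero] at hmem
        exact hmem
      have h2 : y ∈ ((J ^ (k₀ + 1)).support : Set Fx) := by
        refine (Scheme.IdealSheafData.mem_support_iff_of_mem (U := U') hyU).2 ?_
        simpa [Scheme.IdealSheafData.ideal_pow] using hy'
      rwa [Scheme.IdealSheafData.support_pow_succ] at h2
    · rw [← Scheme.IdealSheafData.support_pow_succ J k₀] at hx
      have h2 := (Scheme.IdealSheafData.mem_support_iff_of_mem (U := U') hxU).1 hx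
      rw [Scheme.IdealSheafData.ideal_pow] at h2
      rw [Scheme.mem_zeroLocus_iff] at h2
      have h3 := h2 e (by
        change e ∈ (a ^ (k₀ + 1))
        rw [hspan]
        exact Ideal.mem_span_singleton_self e)
      have h4 : IsUnit (Fx.presheaf.germ U x hxU (e + (1 - e))) := by simp
      rw [map_add] at h4
      rw [Scheme.mem_basicOpen _ _ x hxU] at h3
      rw [SetLike.mem_coe, Scheme.mem_basicOpen _ _ x hxU]
      exact (IsLocalRing.isUnit_or_isUnit_of_isUnit_add h4).resolve_left h3
  have hclopen : IsClopen (J.support : Set Fx) := ⟨J.support.isClosed, hopen⟩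
  have hsupp : (J.support : Set Fx) = δ.base ⁻¹' (I.support : Set X) := by
    simp [J, Scheme.IdealSheafData.support_comap]
  rw [← hsupp]
  refine hβ.isPreconnected.subset_isClopen hclopen ?_
  obtain ⟨_, ⟨y, hy, rfl⟩, hy'⟩ := hβZ
  exact ⟨y, hy, hsupp.symm ▸ hy'⟩

end Groth.Agent.S19878
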