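import Groth.Statements.S19879
import Groth.Agent.Lib.FrobFix.Discrete

set_option autoImplicit false
universe u
open LVCorr

namespace Groth.Agent.S19879

open AlgebraicGeometry CategoryTheory CategoryTheory.Limits in
/-- Let k₀ be a finite field with p^e elements, K an algebraic closure of k₀, C₀ a scheme of finite type
over k₀, C = C₀ ×_{k₀} Spec K with its projections, and Fr : C → C the n-th power of the geometric
Frobenius (over K, compatible with the (e·n)-th power of the absolute p-Frobenius of C₀). Let X be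
locally of finite type over K and c₁, c₂ : C → X morphisms over K with c₂ locally quasi-finite, and
let d < p^(e n) be such that for every closed point x of X, with J_x the inverse image under c₂ of
the ideal sheaf of the reduced point x, one has (√J_x)^d ⊂ J_x (so p^(e n) exceeds the ramification
degree of c₂). Then the scheme of fixed points of the twisted correspondence (c₁ ∘ Fr, c₂), namely
the pullback of (c₁ ∘ Fr, c₂) : C → X ×_K X along the diagonal of X, has finite and discrete
underlying topological space. (In the source X, c₁ and c₂ are also defined over k₀ and all schemes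
are separated; neither is needed here.) -/
theorem result {C C₀ X Fx : Scheme.{u}}
    (p : ℕ) [Fact p.Prime] (k₀ : Type u) [Field k₀] [Fintype k₀] [CharP k₀ p] (e : ℕ)
    (hq : Fintype.card k₀ = p ^ e) (K : Type u) [Field K] [Algebra k₀ K] [IsAlgClosure k₀ K]
    (f₀ : C₀ ⟶ Spec (CommRingCat.of k₀)) [LocallyOfFiniteType f₀] [QuasiCompact f₀] [FrobSch.IsCharP C₀ p]
    (πC₀ : C ⟶ C₀) (πK : C ⟶ Spec (CommRingCat.of K))
    (hC : IsPullback πC₀ πK f₀ (Spec.map (CommRingCat.ofHom (algebraMap k₀ K))))
    (n : ℕ) (Fr : C ⟶ C)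
    (hFr₀ : Fr ≫ πC₀ = πC₀ ≫ End.asHom (End.of (FrobSch.frob C₀ p) ^ (e * n)))
    (hFrK : Fr ≫ πK = πK)
    (pX : X ⟶ Spec (CommRingCat.of K)) [LocallyOfFiniteType pX]
    (c₁ c₂ : C ⟶ X) (hc₁ : c₁ ≫ pX = πK) (hc₂ : c₂ ≫ pX = πK)
    [LocallyQuasiFinite c₂] [LocallyOfFiniteType c₂]
    (hcomm : (Fr ≫ c₁) ≫ pX = c₂ ≫ pX) (d : ℕ) (hn : d < p ^ (e * n))
    (hd : ∀ (x : X) (hx : IsClosed ({x} : Set X)),
      ((Scheme.IdealSheafData.vanishingIdeal ⟨{x}, hx⟩).comap c₂).radical ^ d ≤
        (Scheme.IdealSheafData.vanishingIdeal ⟨{x}, hx⟩).comap c₂)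
    (i : Fx ⟶ C) (δ : Fx ⟶ X) (hF : IsPullback i δ (pullback.lift (Fr ≫ c₁) c₂ hcomm) (pullback.diagonal pX)) :
    Finite Fx ∧ DiscreteTopology Fx := by
  haveI : CharP K p := charP_of_injective_algebraMap (algebraMap k₀ K).injective p
  haveI : FrobSch.IsCharP C p := FrobSch.IsCharP.of_hom πC₀ p
  haveI : LocallyOfFiniteType πK := MorphismProperty.of_isPullback hC inferInstance
  haveI : QuasiCompact πK := MorphismProperty.of_isPullback hC inferInstance
  haveI : IsImmersion i := MorphismProperty.of_isPullback (P := @IsImmersion) hF.flip inferInstance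
  haveI : IsLocallyNoetherian C := LocallyOfFiniteType.isLocallyNoetherian πK
  haveI : CompactSpace C := QuasiCompact.compactSpace_of_compactSpace πK
  haveI : IsNoetherian C := ⟨⟩
  haveI : IsLocallyNoetherian Fx := LocallyOfFiniteType.isLocallyNoetherian i
  haveI : TopologicalSpace.NoetherianSpace Fx := i.isEmbedding.isInducing.noetherianSpace
  haveI : JacobsonSpace X := LocallyOfFiniteType.jacobsonSpace pX
  obtain ⟨σ, rfl, -⟩ := Groth.Agent.Lib.TwistContract.Basic.exists_factor p k₀ e hq K f₀ πC₀ πK hC n Fr hFr₀ hFrK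
  have h1 := congrArg (fun t => t ≫ pullback.fst pX pX) hF.w
  have h2 := congrArg (fun t => t ≫ pullback.snd pX pX) hF.w
  simp only [Category.assoc, pullback.lift_fst, pullback.lift_snd, pullback.diagonal_fst,
    pullback.diagonal_snd, Category.comp_id] at h1 h2
  have hopen : ∀ z : Fx, IsClosed ({z} : Set Fx) → IsOpen ({z} : Set Fx) := fun z hz => by
    refine Groth.Agent.Lib.FrobFix.Discrete.isOpen_singleton hz fun w hw => ?_
    exact Groth.Agent.Lib.FrobFix.Discrete.isolated (e * n) d hn (σ ≫ c₁) c₂ i (h1.trans h2.symm)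
      hd z (by simpa using (i ≫ c₂).closePoints_subset_preimage_closedPoints hz) w hw
  have hall : ∀ z : Fx, IsClosed ({z} : Set Fx) := fun z => by
    by_contra hz
    have hU : IsOpen {w : Fx | IsClosed ({w} : Set Fx)} := by
      rw [show {w : Fx | IsClosed ({w} : Set Fx)} =
        ⋃ w ∈ {w : Fx | IsClosed ({w} : Set Fx)}, {w} by ext; simp]
      exact isOpen_biUnion fun w hw => hopen w hw
    obtain ⟨V, hV1, hV2⟩ := hU.isClosed_compl.exists_closed_singleton ⟨z, hz⟩
    exact hV1 hV2
  have : DiscreteTopology Fx := discreteTopology_iff_isOpen_singleton.2 fun z => hopen z (hall z)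
  exact ⟨finite_of_compact_of_discrete, this⟩

end Groth.Agent.S19879
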