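import Groth.Statements.S1988
import Groth.Agent.H48.Compositum
import Mathlib.FieldTheory.IntermediateField.Adjoin.Algebra
import Mathlib.RingTheory.Nilpotent.GeometricallyReduced

set_option autoImplicit false
universe u
open EtAlg

namespace Groth.Agent.S1988

open IsLocalRing EtRam

theorem descend {V W W' : Type u} [CommRing V] [IsLocalRing V] [CommRing W] [IsDomain W] [ValuationRing W]
    [CommRing W'] [IsDomain W'] [IsLocalRing W'] (i : V →+* W) (j : W →+* W') [IsLocalHom j]
    (hj : Function.Injective j) (h : (maximalIdeal V).map (j.comp i) = maximalIdeal W') :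
    (maximalIdeal V).map i = maximalIdeal W := by
  letI : Algebra W W' := j.toAlgebra
  haveI : IsLocalHom (algebraMap W W') := ‹IsLocalHom j›
  haveI : Module.IsTorsionFree W W' := Module.isTorsionFree_iff_algebraMap_injective.2 hj
  haveI : Module.Flat W W' := Module.Flat.flat_iff_torsion_eq_bot_of_isBezout.2
    (Submodule.isTorsionFree_iff_torsion_eq_bot.1 inferInstance)
  haveI : Module.FaithfullyFlat W W' := Module.FaithfullyFlat.of_flat_of_isLocalHom
  rw [← Ideal.comap_map_eq_self_of_faithfullyFlat (B := W') ((maximalIdeal V).map i)]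
  show ((Ideal.map i (maximalIdeal V)).map j).comap j = _
  rw [Ideal.map_map, h]
  exact ((local_hom_TFAE j).out 0 4).1 ‹IsLocalHom j›

theorem transfer (B C K L M₀ K₁ : Type u) [CommRing B] [IsDomain B] [IsDiscreteValuationRing B]
    [CommRing C] [IsDomain C] [IsDiscreteValuationRing C] [Algebra B C] [IsLocalHom (algebraMap B C)]
    (hinj : Function.Injective (algebraMap B C))
    [Field K] [Field L] [Field M₀] [Field K₁] [Algebra K L] [Algebra K M₀] [Algebra L M₀] [IsScalarTower K L M₀]
    [Algebra K K₁] [FiniteDimensional K K₁]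
    [Algebra B L] [IsFractionRing B L] [Algebra C M₀] [IsFractionRing C M₀] [Algebra B M₀]
    [IsScalarTower B C M₀] [IsScalarTower B L M₀]
    (P : ∀ (M : Type u) [Field M], ValuationSubring M → (K₁ →+* M) → Prop)
    (Q : ∀ (M : Type u) [Field M], ValuationSubring M → (K₁ →+* M) → Prop)
    (hPQ : ∀ (M M' : Type u) [Field M] [Field M'] (g : M →+* M') (W' : ValuationSubring M') (f : K₁ →+* M),
      P M' W' (g.comp f) → Q M (W'.comap g) f)
    (h : ForallLocalExt C K M₀ K₁ P) : ForallLocalExt B K L K₁ Q := by
  intro M _ _ _ _ _ _ hgen W hW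
  obtain ⟨M', _, g, g₀, W', hgg, hWW, hdom, htop⟩ := Groth.Agent.H48.Compositum.exists_compositum B C L M₀ M hinj
    (fun b => by rw [← IsScalarTower.algebraMap_apply B L M₀, ← IsScalarTower.algebraMap_apply B C M₀]) W hW
  subst hWW
  letI : Algebra K M' := (g.comp (algebraMap K M)).toAlgebra
  letI : Algebra M₀ M' := g₀.toAlgebra
  letI : Algebra K₁ M' := (g.comp (algebraMap K₁ M)).toAlgebra
  haveI : IsScalarTower K M₀ M' := IsScalarTower.of_algebraMap_eq fun k => by
    show g (algebraMap K M k) = g₀ (algebraMap K M₀ k)
    rw [IsScalarTower.algebraMap_apply K L M, IsScalarTower.algebraMap_apply K L M₀]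
    exact RingHom.congr_fun hgg _
  haveI : IsScalarTower K K₁ M' := IsScalarTower.of_algebraMap_eq fun k => by
    show g (algebraMap K M k) = g (algebraMap K₁ M (algebraMap K K₁ k))
    rw [← IsScalarTower.algebraMap_apply]
  refine hPQ M M' g W' _ (h M' ?_ W' hdom)
  have halg : ∀ x ∈ Set.range (algebraMap K₁ M'), IsAlgebraic M₀ x := by
    rintro x ⟨y, rfl⟩
    exact (((IsIntegral.of_finite K y).map (IsScalarTower.toAlgHom K K₁ M')).tower_top (A := M₀)).isAlgebraic
  let F := IntermediateField.adjoin M₀ (Set.range (algebraMap K₁ M'))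
  have hF : F.toSubfield = ⊤ := by
    refine htop _ ?_ ?_
    · rintro _ ⟨m, rfl⟩
      have hm : m ∈ Algebra.adjoin L (Set.range (algebraMap K₁ M)) := by rw [hgen]; trivial
      induction hm using Algebra.adjoin_induction with
      | mem x hx =>
        obtain ⟨y, rfl⟩ := hx
        exact IntermediateField.subset_adjoin M₀ _ ⟨y, rfl⟩
      | algebraMap l =>
        rw [show g (algebraMap L M l) = g₀ (algebraMap L M₀ l) from RingHom.congr_fun hgg l]
        exact F.algebraMap_mem _
      | add x y _ _ hx hy => rw [map_add]; exact add_mem hx hy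
      | mul x y _ _ hx hy => rw [map_mul]; exact mul_mem hx hy
    · rintro _ ⟨m, rfl⟩
      exact F.algebraMap_mem m
  rw [← IntermediateField.adjoin_toSubalgebra_of_isAlgebraic halg]
  exact eq_top_iff.2 fun x _ => (SetLike.ext_iff.1 hF x).2 trivial

/-- Let A -> B -> C be extensions of discrete valuation rings (local injective maps) with fraction
fields K ⊂ L ⊂ M₀ and K₁/K a finite extension. (The solution predicates mention only B, C and the
fields: in them the bottom ring is recovered as B ∩ K, which the hypotheses on A force to be A.) If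
K₁ is a weak solution (resp. a solution) for A -> C then it is a weak solution (resp. a solution)
for A -> B. -/
theorem result (A B C K L M₀ K₁ : Type u) [CommRing A] [IsDomain A] [IsDiscreteValuationRing A]
    [CommRing B] [IsDomain B] [IsDiscreteValuationRing B] [Algebra A B] [IsLocalHom (algebraMap A B)]
    (hinjA : Function.Injective (algebraMap A B))
    [CommRing C] [IsDomain C] [IsDiscreteValuationRing C] [Algebra B C] [IsLocalHom (algebraMap B C)]
    (hinj : Function.Injective (algebraMap B C))
    [Field K] [Field L] [Field M₀] [Field K₁] [Algebra K L] [Algebra K M₀] [Algebra L M₀] [IsScalarTower K L M₀]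
    [Algebra K K₁] [FiniteDimensional K K₁] [Algebra A K] [IsFractionRing A K]
    [Algebra B L] [IsFractionRing B L] [Algebra A L] [IsScalarTower A K L] [IsScalarTower A B L]
    [Algebra C M₀] [IsFractionRing C M₀] [Algebra B M₀]
    [IsScalarTower B C M₀] [IsScalarTower B L M₀] :
    (EtRam.IsWeakSolution C K M₀ K₁ → EtRam.IsWeakSolution B K L K₁) ∧
    (EtRam.IsSolution C K M₀ K₁ → EtRam.IsSolution B K L K₁) := by
  refine ⟨fun h => transfer B C K L M₀ K₁ hinj _ _ (fun M M' _ _ g W' f hP => ?_) h,
    fun h => transfer B C K L M₀ K₁ hinj _ _ (fun M M' _ _ g W' f hP => ?_) h⟩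
  · exact descend (EtRam.inclOfComap (W'.comap g) f) (EtRam.inclOfComap W' g)
      (fun a b hab => Subtype.ext (g.injective (congrArg Subtype.val hab))) hP
  · refine ⟨descend (EtRam.inclOfComap (W'.comap g) f) (EtRam.inclOfComap W' g)
      (fun a b hab => Subtype.ext (g.injective (congrArg Subtype.val hab))) hP.1, ?_⟩
    letI : Algebra (IsLocalRing.ResidueField ((W'.comap g).comap f)) (IsLocalRing.ResidueField (W'.comap g)) :=
      (IsLocalRing.ResidueField.map (EtRam.inclOfComap (W'.comap g) f)).toAlgebra
    letI : Algebra (IsLocalRing.ResidueField ((W'.comap g).comap f)) (IsLocalRing.ResidueField W') :=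
      (IsLocalRing.ResidueField.map (EtRam.inclOfComap W' (g.comp f))).toAlgebra
    let φ : IsLocalRing.ResidueField (W'.comap g) →ₐ[IsLocalRing.ResidueField ((W'.comap g).comap f)]
        IsLocalRing.ResidueField W' :=
      { IsLocalRing.ResidueField.map (EtRam.inclOfComap W' g) with
        commutes' := fun r => by
          obtain ⟨r, rfl⟩ := IsLocalRing.residue_surjective r
          rfl }
    haveI : Algebra.IsGeometricallyReduced (IsLocalRing.ResidueField ((W'.comap g).comap f))
        (IsLocalRing.ResidueField W') := hP.2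
    exact Algebra.IsGeometricallyReduced.of_injective φ φ.toRingHom.injective

end Groth.Agent.S1988
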