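import Groth.Statements.S19880
import Groth.Agent.Lib.CurveBundle.Ctx
import Groth.Agent.Lib.Curves.Clifford
import Groth.Agent.Lib.Curves.GenusZero
import Groth.Agent.Lib.Curves.RationalPoint
import Groth.Agent.Lib.GrpSch.SepPoints
import Groth.Agent.Lib.CurveFF.Consts

set_option autoImplicit false
universe u
open CategoryTheory CategoryTheory.Limits AlgebraicGeometry
open JacVar

namespace Groth.Agent.S19880

open Groth.Agent.Lib Opposite TopologicalSpace TensorMod.Basic

section aux

variable (k : Type u) [Field k] [IsSepClosed k] {X : Scheme.{u}} [X.Over (Spec (CommRingCat.of k))]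
  [IsIntegral X] [IsProper (X ↘ Spec (CommRingCat.of k))] [Smooth (X ↘ Spec (CommRingCat.of k))]

/-- A nonzero space of sections drops by one at some rational point. -/
theorem exists_drop (hdim1 : topologicalKrullDim X = 1) {L : X.Modules}
    (hL : PicF.IsInvertible L) (h0 : Nontrivial (Coh.HH X L 0)) :
    ∃ s : Spec (CommRingCat.of k) ⟶ X, s ≫ (X ↘ Spec (CommRingCat.of k)) = 𝟙 _ ∧
      PicF.IsInvertible (ClSub.idealMod s.ker) ∧
      Curves.Euler.hdim k X (CohB1.tensorMod (ClSub.idealMod s.ker) L) 0 + 1 =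
        Curves.Euler.hdim k X L 0 := by
  have hdim : topologicalKrullDim X ≤ 1 := hdim1.le
  haveI := Curves.Clifford.nontrivial_sections h0
  obtain ⟨t, ht⟩ := exists_ne (0 : (L.val.obj (op ⊤) : Type u))
  obtain ⟨hm, hT⟩ := Curves.Clifford.section_good hL (𝟙 L) (t := (t : Γ(L, ⊤))) ht
  set σ := Curves.Clifford.σ L (t : Γ(L, ⊤))
  have := Curves.GlobalSections.isNoetherian_of_proper k X
  have hOc : Coh.IsCoh (Coh.structureModule X) := Curves.Degree.isCoh_structureModule
  have hQ := CohBasics.Closure.isCoh_cokernel σ hOc.1 (Curves.Degree.isCoh_of_isInvertible hL)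
  have := hQ.2
  have hcl := Modules.Support.isClosed_support (cokernel σ)
  have hgen : genericPoint X ∉ CohB1.support (cokernel σ) :=
    Modules.Support.not_mem_support_iff.mpr (hT _ (show closure ({genericPoint X} : Set X) ∈ irreducibleComponents X by
      rw [genericPoint_closure, irreducibleComponents_eq_singleton]; rfl))
  let U : X.Opens := ⟨(CohB1.support (cokernel σ))ᶜ, hcl.isOpen_compl⟩
  haveI : Nonempty (U : Scheme.{u}) := ⟨⟨genericPoint X, hgen⟩⟩
  obtain ⟨s', hs'⟩ := Lib.GrpSch.exists_section_of_smooth (U.ι ≫ (X ↘ Spec (CommRingCat.of k)))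
  refine ⟨s' ≫ U.ι, by rw [Category.assoc, hs'], ?_⟩
  have hs : (s' ≫ U.ι) ≫ (X ↘ Spec (CommRingCat.of k)) = 𝟙 _ := by rw [Category.assoc, hs']
  have hxU : Curves.RationalPoint.pt (s' ≫ U.ι) ∈ U := by
    have h : Curves.RationalPoint.pt (s' ≫ U.ι) ∈ Set.range U.ι.base := ⟨_, rfl⟩
    rwa [Scheme.Opens.range_ι] at h
  set x := Curves.RationalPoint.pt (s' ≫ U.ι)
  have hx := Curves.RationalPoint.isClosed_pt (k := k) (s' ≫ U.ι) hs
  rw [Curves.RationalPoint.ker_eq (k := k) (s' ≫ U.ι) hs hx]
  have hlt : Curves.Euler.hdim k X (CohB1.tensorMod (ClSub.idealMod (Curves.PointIdeal.ptI hx)) L) 0 <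
      Curves.Euler.hdim k X L 0 := by
    refine lt_of_le_of_ne (Curves.PointIdeal.hdim_twist_ideal_point hx hdim hL).1 fun he => ?_
    have hz : σ ≫ Curves.PointIdeal.evQ hx L = 0 := Modules.Free.unitHom_ext (by
      rw [Scheme.Modules.Hom.comp_app]
      change (Curves.PointIdeal.evQ hx L).app ⊤ ((Curves.Clifford.σ L (t : Γ(L, ⊤))).app ⊤ (1 : Γ(X, ⊤))) = _
      refine (congrArg ((Curves.PointIdeal.evQ hx L).app ⊤) (Curves.Clifford.σ_one L (t : Γ(L, ⊤)))).trans ?_
      exact ((Curves.PointIdeal.hdim_eq_iff hx hdim hL).mp he t).trans rfl)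
    have := Curves.PointIdeal.epi_evQ hx hL
    have : Epi (cokernel.desc σ _ hz) := epi_of_epi_fac (cokernel.π_desc σ _ hz)
    refine hxU (Modules.Support.support_subset_of_epi (cokernel.desc σ _ hz) ?_)
    rw [Curves.PointIdeal.support_twist_quot hx hL]
    rfl
  have hle := (Curves.PointIdeal.hdim_twist_ideal_point (k := k) hx hdim hL).2
  rw [Curves.PointIdeal.hdim_quot_point hx,
    Curves.RationalPoint.finrank_residueField (k := k) (s' ≫ U.ι) hs] at hle
  exact ⟨Curves.GenusZero.isInvertible_ptI hdim1 hx (CurveBundle.SmoothField.isPrincipal_stalk k hdim1 _), by omega⟩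

end aux


/-- Let k be a separably closed field, C a smooth proper geometrically connected curve of genus g > 0
over k with a k-rational point, and r > 2g an integer. Then for every effective divisor D of degree
r on C there is an (r − g)-tuple γ = (P_1, …, P_{r−g}) of k-rational points of C with h⁰(D − P_1 − ⋯
− P_{r−g}) = 1; since every invertible module L of degree r > 2g − 2 is of the form O(D) with D
effective, this is stated as: for every invertible module L of degree r on C there are k-rational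
points P_1, …, P_{r−g} with h⁰(C, L ⊗ I_{P_1} ⊗ ⋯ ⊗ I_{P_{r−g}}) = 1. (In the source this is the
statement that the symmetric power C^(r) is the union of the open pieces C^γ.) -/
theorem result (k : Type u) [Field k] [IsSepClosed k]
    (C : Scheme.{u}) [C.Over (Spec (CommRingCat.of k))]
    [IsProper (C ↘ Spec (CommRingCat.of k))] [Smooth (C ↘ Spec (CommRingCat.of k))] [GeometricallyConnected (C ↘ Spec (CommRingCat.of k))]
    (hdim : topologicalKrullDim ↥C = 1)
    (g : ℕ) (hg : Curv2.genus k C = g) (hg0 : 0 < g)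
    (σ₀ : Spec (CommRingCat.of k) ⟶ C) (hσ₀ : σ₀ ≫ (C ↘ Spec (CommRingCat.of k)) = 𝟙 _)
    (r : ℕ) (hr : 2 * g < r)
    (L : C.Modules) (hL : PicF.IsInvertible L) (hLdeg : Curv2.deg k C L 1 = (r : ℤ)) :
    ∃ σ : Fin (r - g) → (Spec (CommRingCat.of k) ⟶ C), (∀ t, σ t ≫ (C ↘ Spec (CommRingCat.of k)) = 𝟙 _) ∧
      Module.finrank k (Coh.HH C (CohB1.tensorMod L (FGA.tensorList (List.ofFn fun t : Fin (r - g) =>
        ClSub.idealMod (σ t).ker))) 0) = 1 := by
  haveI := CurveBundle.Ctx.ofConnected k hdim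
  haveI := CurveBundle.Degree.CurveCtx.integral k (X := C)
  haveI : Nonempty C := ⟨genericPoint C⟩
  have h0 := CurveFF.finrank_h0_eq_one k C
  have hL0 : Curves.Euler.hdim k C L 0 = r + 1 - g := by
    have h := Curves.Clifford.hdim_zero_eq_of_deg k hdim.le h0 hL (by omega)
    omega
  have key : ∀ j : ℕ, j ≤ r - g → ∃ σ : Fin j → (Spec (CommRingCat.of k) ⟶ C),
      (∀ t, σ t ≫ (C ↘ Spec (CommRingCat.of k)) = 𝟙 _) ∧
      PicF.IsInvertible (CohB1.tensorMod L (FGA.tensorList (List.ofFn fun t : Fin j =>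
        ClSub.idealMod (σ t).ker))) ∧
      Curves.Euler.hdim k C (CohB1.tensorMod L (FGA.tensorList (List.ofFn fun t : Fin j =>
        ClSub.idealMod (σ t).ker))) 0 + j = r + 1 - g := by
    intro j
    induction j with
    | zero =>
      intro _
      refine ⟨Fin.elim0, fun t => t.elim0, ?_⟩
      rw [List.ofFn_zero]
      exact ⟨TensorMod.Invertible.isInvertible_of_iso (rightUnit L).symm hL,
        by rw [← hL0, Nat.add_zero]; exact Curves.Euler.hdim_eq_of_iso (rightUnit L) 0⟩
    | succ j ih =>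
      intro hj
      obtain ⟨σ, hσ, hinv, hd⟩ := ih (by omega)
      set M := FGA.tensorList (List.ofFn fun t : Fin j => ClSub.idealMod (σ t).ker)
      obtain ⟨s, hs, hI, hdrop⟩ := exists_drop k hdim hinv (Module.nontrivial_of_finrank_pos
        (show 0 < Curves.Euler.hdim k C (CohB1.tensorMod L M) 0 by omega))
      refine ⟨Fin.cons s σ, Fin.cases (by simpa using hs) (by simpa using hσ), ?_⟩
      have he : FGA.tensorList (List.ofFn fun t : Fin (j + 1) =>
          ClSub.idealMod ((Fin.cons s σ : Fin (j + 1) → _) t).ker) =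
          CohB1.tensorMod (ClSub.idealMod s.ker) M := by
        rw [List.ofFn_succ]
        simp [FGA.tensorList, M]
      rw [he]
      let e : CohB1.tensorMod L (CohB1.tensorMod (ClSub.idealMod s.ker) M) ≅
          CohB1.tensorMod (ClSub.idealMod s.ker) (CohB1.tensorMod L M) :=
        (assoc _ _ _).symm ≪≫ tensorIso (comm _ _) (Iso.refl _) ≪≫ assoc _ _ _
      exact ⟨TensorMod.Invertible.isInvertible_of_iso e.symm
        (TensorMod.Invertible.isInvertible_tensorMod hI hinv),
        by rw [Curves.Euler.hdim_eq_of_iso e 0]; omega⟩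
  obtain ⟨σ, hσ, -, hd⟩ := key (r - g) le_rfl
  exact ⟨σ, hσ, by
    have : g ≤ r := by omega
    show Curves.Euler.hdim k C _ 0 = 1
    omega⟩


end Groth.Agent.S19880
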