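import Groth.Statements.S19881
import Groth.Agent.Lib.Graded.StdPoly
import Groth.Agent.Lib.Graded.RegDeg
import Groth.Agent.Lib.Graded.Avoid
import Groth.Agent.Lib.Graded.RegularCrit
import Groth.Agent.S17772
import Mathlib.GroupTheory.CosetCover
import Mathlib.RingTheory.KrullDimension.Regular
import Mathlib.Algebra.MvPolynomial.Equiv

set_option autoImplicit false
universe u
open GrLC

namespace Groth.Agent.S19881

open Groth.Agent.Lib.Graded Groth.Agent.Lib.Graded.Basic Groth.Agent.Lib.Graded.StarInj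

set_option linter.style.haveILetI false

/-- Evaluation at a weakly regular sequence whose ideal meets the scalars trivially is injective. -/
theorem aeval_injective {K : Type u} [CommRing K] : ∀ (n : ℕ) (R : Type u) [CommRing R] [Algebra K R]
    (x : Fin n → R), RingTheory.Sequence.IsWeaklyRegular R (List.ofFn x) →
    (∀ c : K, algebraMap K R c ∈ Ideal.span (Set.range x) → c = 0) →
    Function.Injective (MvPolynomial.aeval x : MvPolynomial (Fin n) K → R) := by
  intro n
  induction n with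
  | zero =>
    intro R _ _ x _ h0
    refine (injective_iff_map_eq_zero _).2 fun p hp => ?_
    obtain ⟨c, rfl⟩ := MvPolynomial.C_surjective (R := K) (Fin 0) p
    rw [MvPolynomial.aeval_C] at hp
    rw [h0 c (by rw [hp]; exact zero_mem _), map_zero]
  | succ n ih =>
    intro R _ _ x hreg h0
    rw [List.ofFn_succ, RingTheory.Sequence.isWeaklyRegular_cons_iff] at hreg
    obtain ⟨hr0, hrt⟩ := hreg
    let q : R →ₐ[K] R ⧸ Ideal.span {x 0} := Ideal.Quotient.mkₐ K _
    have hrt' : RingTheory.Sequence.IsWeaklyRegular (R ⧸ Ideal.span {x 0})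
        (List.ofFn fun i : Fin n => q (x i.succ)) := by
      have h1 := (LinearEquiv.isWeaklyRegular_congr (Submodule.quotEquivOfEq _ (Ideal.span {x 0})
        (by rw [← Submodule.ideal_span_singleton_smul]; simp)) _).1 hrt
      have h2 := (RingTheory.Sequence.isWeaklyRegular_map_algebraMap_iff
        (R := R) (S := R ⧸ Ideal.span {x 0}) (M := R ⧸ Ideal.span {x 0}) _).2 h1
      rw [List.map_ofFn] at h2
      exact h2
    have h0' : ∀ c : K, algebraMap K (R ⧸ Ideal.span {x 0}) c ∈
        Ideal.span (Set.range fun i : Fin n => q (x i.succ)) → c = 0 := by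
      intro c hc
      refine h0 c ?_
      have h1 : Set.range (fun i : Fin n => q (x i.succ)) =
          Ideal.Quotient.mk (Ideal.span {x 0}) '' Set.range fun i : Fin n => x i.succ := by
        rw [← Set.range_comp]; rfl
      rw [← q.commutes, h1, ← Ideal.map_span,
        show q (algebraMap K R c) = Ideal.Quotient.mk _ (algebraMap K R c) from rfl,
        ← Ideal.mem_comap, Ideal.comap_map_of_surjective _ Ideal.Quotient.mk_surjective,
        ← RingHom.ker_eq_comap_bot, Ideal.mk_ker] at hc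
      have hle : Ideal.span (Set.range fun i : Fin n => x i.succ) ⊔ Ideal.span {x 0} ≤ Ideal.span (Set.range x) :=
        sup_le (Ideal.span_mono (by rintro _ ⟨i, rfl⟩; exact ⟨_, rfl⟩))
          (Ideal.span_mono (by rintro _ rfl; exact ⟨_, rfl⟩))
      exact hle hc
    have hinj := ih _ _ hrt' h0'
    suffices ∀ (p : Polynomial (MvPolynomial (Fin n) K)),
        Polynomial.eval₂ (MvPolynomial.aeval fun i : Fin n => x i.succ).toRingHom (x 0) p = 0 → p = 0 by
      refine (injective_iff_map_eq_zero _).2 fun f hf => ?_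
      have he : MvPolynomial.aeval x f = Polynomial.eval₂
          (MvPolynomial.aeval fun i : Fin n => x i.succ).toRingHom (x 0)
          (MvPolynomial.finSuccEquiv K n f) := by
        clear hf
        induction f using MvPolynomial.induction_on with
        | C a => simp [MvPolynomial.finSuccEquiv_apply]
        | add p q hp hq => rw [map_add, map_add, Polynomial.eval₂_add, hp, hq]
        | mul_X p i hp =>
          rw [map_mul, map_mul, Polynomial.eval₂_mul, hp]
          refine Fin.cases ?_ (fun j => ?_) i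
          · simp [MvPolynomial.finSuccEquiv_X_zero]
          · simp [MvPolynomial.finSuccEquiv_X_succ]
      refine (MvPolynomial.finSuccEquiv K n).injective ?_
      rw [map_zero]
      exact this _ (he.symm.trans hf)
    intro p
    induction hN : p.natDegree using Nat.strong_induction_on generalizing p with
    | _ N ihN =>
      intro hp
      rw [← Polynomial.X_mul_divX_add p, Polynomial.eval₂_add, Polynomial.eval₂_mul,
        Polynomial.eval₂_X, Polynomial.eval₂_C] at hp
      have hc : p.coeff 0 = 0 := by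
        apply hinj
        rw [map_zero]
        have h1 : q (MvPolynomial.aeval (fun i : Fin n => x i.succ) (p.coeff 0)) = 0 := by
          refine Ideal.Quotient.eq_zero_iff_mem.2 (Ideal.mem_span_singleton.2
            ⟨-(Polynomial.eval₂ (MvPolynomial.aeval fun i : Fin n => x i.succ).toRingHom (x 0) p.divX), ?_⟩)
          rw [mul_neg]
          exact eq_neg_of_add_eq_zero_right hp
        exact ((MvPolynomial.comp_aeval_apply _ q (p.coeff 0)).symm.trans h1)
      rw [hc, map_zero, add_zero] at hp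
      have hd : Polynomial.eval₂ (MvPolynomial.aeval fun i : Fin n => x i.succ).toRingHom (x 0) p.divX = 0 :=
        hr0 (hp.trans (mul_zero _).symm)
      rw [← Polynomial.X_mul_divX_add p, hc, map_zero, add_zero]
      rcases Nat.eq_zero_or_pos N with hN0 | hN0
      · rw [Polynomial.divX_eq_zero_iff.2 (Polynomial.eq_C_of_natDegree_eq_zero (hN.trans hN0)), mul_zero]
      · rw [ihN _ (by rw [Polynomial.natDegree_divX_eq_natDegree_tsub_one]; omega) p.divX rfl hd, mul_zero]

variable {R : Type u} [CommRing R] {𝒜 : ℤ → AddSubgroup R} [GradedRing 𝒜]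

theorem mem_adjoin {K : Type u} [CommRing K] [Algebra K R] (hpos : ∀ n : ℤ, n < 0 → 𝒜 n = ⊥) (h0 : ∀ x ∈ 𝒜 0, ∃ c : K, algebraMap K R c = x)
    (hstd : Ideal.span (⋃ n ∈ Set.Ioi (0 : ℤ), (𝒜 n : Set R)) = Ideal.span ((𝒜 1 : AddSubgroup R) : Set R))
    (x : R) : x ∈ Algebra.adjoin K ((𝒜 1 : AddSubgroup R) : Set R) := by
  suffices key : ∀ (n : ℕ), ∀ y ∈ 𝒜 (n : ℤ), y ∈ Algebra.adjoin K ((𝒜 1 : AddSubgroup R) : Set R) by
    induction x using induction_hom 𝒜 with
    | zero => exact zero_mem _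
    | hom i y hy =>
      rcases lt_or_ge i 0 with h | h
      · rw [hpos i h, AddSubgroup.mem_bot] at hy
        rw [hy]; exact zero_mem _
      · exact key i.toNat y (by rwa [Int.toNat_of_nonneg h])
    | add a b ha hb => exact add_mem ha hb
  intro n
  induction n with
  | zero =>
    intro y hy
    obtain ⟨c, rfl⟩ := h0 y (by simpa using hy)
    exact Subalgebra.algebraMap_mem _ c
  | succ n ih =>
    intro y hy
    have hmem : y ∈ Ideal.span ((𝒜 1 : AddSubgroup R) : Set R) := by
      rw [← hstd]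
      exact Ideal.subset_span (Set.mem_iUnion₂.2 ⟨((n + 1 : ℕ) : ℤ), Set.mem_Ioi.2 (by omega), hy⟩)
    have key : ∀ z ∈ Ideal.span ((𝒜 1 : AddSubgroup R) : Set R), ∀ c : R,
        proj 𝒜 ((n + 1 : ℕ) : ℤ) (c * z) ∈ Algebra.adjoin K ((𝒜 1 : AddSubgroup R) : Set R) := by
      intro z hz
      induction hz using Submodule.span_induction with
      | mem w hw =>
        intro c
        rw [mul_comm, Dim.proj_mul_of_left hw]
        refine mul_mem (Algebra.subset_adjoin hw) (ih _ ?_)
        have := proj_mem 𝒜 (((n + 1 : ℕ) : ℤ) - 1) c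
        rwa [show ((n + 1 : ℕ) : ℤ) - 1 = (n : ℤ) by push_cast; ring] at this ⊢
      | zero => intro c; rw [mul_zero, map_zero]; exact zero_mem _
      | add u v _ _ hu hv => intro c; rw [mul_add, map_add]; exact add_mem (hu c) (hv c)
      | smul t u _ hu => intro c; rw [smul_eq_mul, ← mul_assoc]; exact hu (c * t)
    have := key y hmem 1
    rwa [one_mul, proj_of_mem 𝒜 hy] at this

theorem proj_mul_deg_one {e : R} (he : e ∈ 𝒜 1) (g : ℤ) (r : R) :
    proj 𝒜 g (r * e) = e * proj 𝒜 (g - 1) r := by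
  have h := proj_smul_of_mem 𝒜 𝒜 he g r
  rwa [smul_eq_mul, smul_eq_mul, mul_comm e r] at h

/-- A degree one element regular on a module without torsion, for infinite residue field. -/
theorem exists_one_regular [IsNoetherianRing R] [IsArtinianRing (GrLC.deg0 𝒜)]
    (hpos : ∀ n : ℤ, n < 0 → 𝒜 n = ⊥)
    (hstd : Ideal.span (⋃ n ∈ Set.Ioi (0 : ℤ), (𝒜 n : Set R)) = Ideal.span ((𝒜 1 : AddSubgroup R) : Set R))
    {m : HomogeneousIdeal 𝒜} (hm : GrLC.IsStarLocal 𝒜 m) (hinf : Infinite (R ⧸ m.toIdeal))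
    (Y : GrLC.GMod.{u} 𝒜) [Module.Finite R Y.carrier]
    (h : ∀ g, Van.V (FGInduction.posIdeal 𝒜) Y 0 g) :
    ∃ r ∈ 𝒜 1, IsSMulRegular Y.carrier r := by
  classical
  have hgam : GrLC.gam (Ideal.span ((𝒜 1 : AddSubgroup R) : Set R)) Y.carrier = ⊥ := by
    rw [← (FGInduction.span_iUnion_Ioi 𝒜).symm.trans hstd, eq_bot_iff]
    intro y hy
    have hh := Res.isHomogeneous_gam 𝒜 Y.gr (FGInduction.posIdeal 𝒜)
    rw [Submodule.mem_bot, ← sum_proj Y.gr y]
    exact Finset.sum_eq_zero fun g _ => Van.V_zero_iff.1 (h g) _ (proj_mem _ g y) (hh g hy)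
  let φ : GrLC.deg0 𝒜 →+* R ⧸ m.toIdeal := (Ideal.Quotient.mk _).comp (GrLC.deg0 𝒜).subtype
  have hφs : Function.Surjective φ := fun y => by
    obtain ⟨x, rfl⟩ := Ideal.Quotient.mk_surjective y
    refine ⟨⟨proj 𝒜 0 x, proj_mem 𝒜 0 x⟩, Ideal.Quotient.eq.2 ((StarLocal.mem_iff hpos hm).2 ?_)⟩
    change proj 𝒜 0 (proj 𝒜 0 x - x) ∈ m.toIdeal
    rw [map_sub, proj_of_mem 𝒜 (proj_mem 𝒜 0 x), sub_self]
    exact zero_mem _
  have hφk : ∀ I : Ideal (GrLC.deg0 𝒜), I ≠ ⊤ → ∀ c ∈ I, φ c = 0 := by
    intro I hI c hc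
    refine Ideal.Quotient.eq_zero_iff_mem.2 ?_
    by_contra hcm
    obtain ⟨v, hv⟩ := (StarLocal.isUnit_of_not_mem hm c.2 hcm).exists_right_inv
    refine hI (Ideal.eq_top_of_isUnit_mem I hc (isUnit_iff_exists_inv.2
      ⟨⟨proj 𝒜 0 v, proj_mem 𝒜 0 v⟩, Subtype.ext ?_⟩))
    have h1 := proj_smul_of_mem 𝒜 𝒜 c.2 0 v
    rw [smul_eq_mul, smul_eq_mul, sub_zero, hv,
      proj_of_mem 𝒜 (SetLike.one_mem_graded 𝒜)] at h1
    exact h1.symm
  have hfin := associatedPrimes.finite R Y.carrier
  let M := GrLC.comp 𝒜 𝒜 1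
  let N : Ideal R → Submodule (GrLC.deg0 𝒜) M := fun p => (p.restrictScalars (GrLC.deg0 𝒜)).comap M.subtype
  by_contra hno
  have hcov : ⋃ p ∈ hfin.toFinset, (N p : Set M) = Set.univ := by
    refine Set.eq_univ_of_forall fun r => ?_
    by_contra hr
    refine hno ⟨r.1, r.2, Avoid.isSMulRegular_of_not_mem fun p hp hrp => hr ?_⟩
    exact Set.mem_iUnion₂.2 ⟨p, hfin.mem_toFinset.2 hp, hrp⟩
  obtain ⟨p, hp, hfi⟩ := Submodule.exists_finiteIndex_of_cover hcov
  have : Finite (M ⧸ N p) := AddSubgroup.finite_quotient_of_finiteIndex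
  have hNp : N p ≠ ⊤ := fun htop => by
    refine Avoid.gam_ne_bot_of_le_associated (hfin.mem_toFinset.1 hp) (Ideal.span_le.2 fun r hr => ?_) hgam
    exact htop.ge (Submodule.mem_top (x := (⟨r, hr⟩ : M)))
  have : Nontrivial (M ⧸ N p) := Submodule.Quotient.nontrivial_iff.mpr hNp
  obtain ⟨y, hy⟩ := exists_ne (0 : M ⧸ N p)
  let I : Ideal (GrLC.deg0 𝒜) := LinearMap.ker (LinearMap.toSpanSingleton (GrLC.deg0 𝒜) _ y)
  have hI : I ≠ ⊤ := fun htop => hy (by
    simpa [I] using htop.ge (Submodule.mem_top (x := (1 : GrLC.deg0 𝒜))))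
  have : Finite (GrLC.deg0 𝒜 ⧸ I) :=
    Finite.of_injective _ (LinearMap.ker_eq_bot.1 (Submodule.ker_liftQ_eq_bot
      I (LinearMap.toSpanSingleton (GrLC.deg0 𝒜) _ y) le_rfl le_rfl))
  exact hinf.not_finite (Finite.of_surjective (Ideal.Quotient.lift I φ (hφk I hI))
    (Ideal.Quotient.lift_surjective_of_surjective _ _ hφs))

/-- Let R = ⊕_{n ≥ 0} R_n be a (Noetherian) positively ℤ-graded ring which is standard graded
(irrelevant ideal generated by R_1), with R_0 Artinian, *local with unique homogeneous maximal ideal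
m, Cohen–Macaulay of Krull dimension d, and with infinite residue field R/m. If the a-invariant of R
equals −d, i.e. the end (largest nonzero degree) of the graded local cohomology module H^d_m(R),
computed from any *injective resolution of R in the graded category, is −d, then R is a polynomial
ring over R_0 in d variables of degree one: there is an R_0-algebra isomorphism R_0[T_1, …, T_d] ≅ R
mapping every variable into R_1. (The published statement asserts the equivalence of a(R) = −d with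
R ≅ R_0[T_1, …, T_d] without the residue-field hypothesis; its argument treats the case of an
infinite residue field, which is the case stated here, and only the forward implication is stated.) -/
theorem result (R : Type u) [CommRing R]
    [LocCoh.IsCohenMacaulayRing R] (𝒜 : ℤ → AddSubgroup R) [GradedRing 𝒜]
    (hpos : ∀ n : ℤ, n < 0 → 𝒜 n = ⊥)
    (hstd : Ideal.span (⋃ n ∈ Set.Ioi (0 : ℤ), (𝒜 n : Set R)) = Ideal.span ((𝒜 1 : AddSubgroup R) : Set R))
    [IsArtinianRing (GrLC.deg0 𝒜)] (m : HomogeneousIdeal 𝒜) (hm : GrLC.IsStarLocal 𝒜 m)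
    (hinf : Infinite (R ⧸ m.toIdeal)) (d : ℕ) (hd : ringKrullDim R = d) (I : GrLC.StarInjRes 𝒜 𝒜)
    (ha : GrLC.endDeg (I.Hgr m d) = (((-(d : ℤ) : ℤ) : WithTop ℤ) : WithBot (WithTop ℤ))) :
    ∃ e : MvPolynomial (Fin d) (GrLC.deg0 𝒜) ≃ₐ[GrLC.deg0 𝒜] R, ∀ t : Fin d, e (MvPolynomial.X t) ∈ 𝒜 1 := by
  classical
  have hK : ∀ c : GrLC.deg0 𝒜, algebraMap (GrLC.deg0 𝒜) R c ∈ 𝒜 0 := fun c => c.2
  have h0' : ∀ x ∈ 𝒜 0, ∃ c : GrLC.deg0 𝒜, algebraMap (GrLC.deg0 𝒜) R c = x := fun x hx => ⟨⟨x, hx⟩, rfl⟩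
  let a := FGInduction.posIdeal 𝒜
  have hone : ∀ x ∈ 𝒜 1, x ∈ a.toIdeal := fun x hx =>
    FGInduction.span_one_le_posIdeal 𝒜 (Ideal.subset_span hx)
  let X : GrLC.GMod.{u} 𝒜 := GrLC.GMod.of 𝒜 R 𝒜
  have hTo : ∀ i g, Van.V a (toMod 𝒜 𝒜) i g → Van.V a X i g := fun i g =>
    Van.V_congr (X := toMod 𝒜 𝒜) (Y := X) (LinearEquiv.refl R R)
      (fun g x hx => (mem_toMod 𝒜 𝒜).1 hx)
  have hlow : ∀ i < d, ∀ g, Van.V a X i g := fun i hi g =>
    hTo i g ((IdealChange.V_iff hpos hm _ i g).1 (StarLocal.V_of_lt hpos hm hd hi g))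
  have htop : ∀ g : ℤ, -(d : ℤ) < g → Van.V a X d g := fun g hg => by
    refine hTo d g ((IdealChange.V_iff hpos hm _ d g).1 ((Van.V_toMod_iff I).2 ?_))
    by_contra hne
    have := IntGraded.le_endDeg (I.Hgr m d) hne
    rw [ha, WithBot.coe_le_coe, WithTop.coe_le_coe] at this
    omega
  have hhom : ∀ {j : ℕ} (f : Fin j → R), (∀ i, f i ∈ 𝒜 1) →
      (Ideal.span (Set.range f) • (⊤ : Submodule R R)).IsHomogeneous 𝒜 := by
    intro j f hf
    rw [smul_eq_mul, Ideal.mul_top]
    exact Ideal.homogeneous_span 𝒜 _ (by rintro _ ⟨i, rfl⟩; exact ⟨1, hf i⟩)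
  have hseq : ∀ j ≤ d, ∃ f : Fin j → R, (∀ i, f i ∈ 𝒜 1) ∧
      RingTheory.Sequence.IsWeaklyRegular R (List.ofFn f) ∧
      Module.supportDim R (R ⧸ Ideal.span (Set.range f) • (⊤ : Submodule R R)) + (j : WithBot ℕ∞) ≤
        (d : WithBot ℕ∞) := by
    intro j
    induction j with
    | zero =>
      intro _
      refine ⟨Fin.elim0, fun i => i.elim0, by simp, ?_⟩
      rw [Module.supportDim_eq_of_equiv (Submodule.quotEquivOfEqBot _ (by simp)),
        Module.supportDim_self_eq_ringKrullDim, hd]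
      simp
    | succ j ih =>
      intro hj
      obtain ⟨f, hf, hreg, hdim⟩ := ih (by omega)
      let P : Submodule R R := Ideal.span (Set.range f) • ⊤
      let Y := qMod 𝒜 𝒜 P (hhom f hf)
      haveI : Module.Finite R Y.carrier := inferInstanceAs (Module.Finite R (R ⧸ P))
      have hlowY := (RegDeg.endLE_seq_iff (a := a) f (fun _ => 1) X Y P.mkQ hf (fun _ => zero_le_one)
        (fun i => hone _ (hf i)) hreg (fun g x hx => mkQ_mem_qGr 𝒜 P hx) P.mkQ_surjective
        P.ker_mkQ d (by omega) hlow).1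
      obtain ⟨r, hr, hrreg⟩ := exists_one_regular hpos hstd hm hinf Y (hlowY 0 (by omega))
      change IsSMulRegular (R ⧸ P) r at hrreg
      have hsp : Set.range (Fin.snoc f r : Fin (j + 1) → R) = Set.range f ∪ {r} := by
        rw [Fin.range_snoc, Set.union_singleton]
      have hP : Ideal.ofList (List.ofFn f) = Ideal.span (Set.range f) := by
        refine congrArg Ideal.span (Set.ext fun y => ?_)
        exact List.mem_ofFn
      refine ⟨Fin.snoc f r, Fin.lastCases (by simpa using hr) (fun i => by simpa using hf i), ?_, ?_⟩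
      · rw [List.ofFn_succ', List.concat_eq_append]
        simp only [Fin.snoc_castSucc, Fin.snoc_last]
        rw [RingTheory.Sequence.isWeaklyRegular_append_iff,
          RingTheory.Sequence.isWeaklyRegular_singleton_iff, hP]
        exact ⟨hreg, hrreg⟩
      · have h1 := Module.supportDim_quotSMulTop_succ_le_of_notMem_minimalPrimes (R := R) (M := R ⧸ P)
          (x := r) (fun p hp => hrreg.notMem_of_mem_minimalPrimes hp)
        have e : Module.supportDim R (QuotSMulTop r (R ⧸ P)) =
            Module.supportDim R (R ⧸ Ideal.span (Set.range (Fin.snoc f r : Fin (j + 1) → R)) • (⊤ : Submodule R R)) := by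
          let P' : Submodule R R := Ideal.span (Set.range (Fin.snoc f r : Fin (j + 1) → R)) • ⊤
          have hPP : P ≤ P' := Submodule.smul_mono_left (Ideal.span_mono (by rw [hsp]; exact Set.subset_union_left))
          have hP' : P'.map P.mkQ = Ideal.span {r} • (⊤ : Submodule R (R ⧸ P)) := by
            simp only [P', hsp, Ideal.span_union, Submodule.sup_smul, Submodule.map_sup]
            rw [show (Ideal.span (Set.range f) • (⊤ : Submodule R R)) = P from rfl, Submodule.mkQ_map_self,
              bot_sup_eq, Submodule.map_smul'', Submodule.map_top, Submodule.range_mkQ]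
          exact Module.supportDim_eq_of_equiv
            ((Submodule.quotEquivOfEq _ _ ((Submodule.ideal_span_singleton_smul r _).symm.trans hP'.symm)).trans (Submodule.quotientQuotientEquivQuotient P P' hPP))
        rw [← e, Nat.cast_succ, add_comm (j : WithBot ℕ∞) 1, ← add_assoc]
        exact le_trans (add_le_add_left h1 _) hdim
  obtain ⟨f, hf, hreg, hdim⟩ := hseq d le_rfl
  let P : Submodule R R := Ideal.span (Set.range f) • ⊤
  let Y := qMod 𝒜 𝒜 P (hhom f hf)
  have hY : ∀ g : ℤ, 0 < g → Van.V a Y 0 g := by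
    have h := (RegDeg.endLE_seq_iff (a := a) f (fun _ => 1) X Y P.mkQ hf (fun _ => zero_le_one)
        (fun i => hone _ (hf i)) hreg (fun g x hx => mkQ_mem_qGr 𝒜 P hx) P.mkQ_surjective
        P.ker_mkQ d le_rfl hlow).2 0
    rw [Nat.sub_self] at h
    refine h.2 fun g hg => htop g ?_
    simp at hg
    omega
  have hPspan : P = Ideal.span (Set.range f) := by simp only [P, smul_eq_mul, Ideal.mul_top]
  have hrad : a.toIdeal ≤ Ideal.radical P := by
    rw [Ideal.radical_eq_sInf]
    refine le_sInf ?_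
    rintro p ⟨hPp, hp⟩
    have hq0 : ringKrullDim (R ⧸ P) ≤ 0 := by
      rw [← Module.supportDim_quotient_eq_ringKrullDim]
      generalize Module.supportDim R (R ⧸ P) = D at hdim ⊢
      induction D with
      | bot => exact bot_le
      | coe D =>
        norm_cast at hdim ⊢
        induction D with
        | top => simp at hdim
        | coe D => norm_cast at hdim ⊢; omega
    haveI : Ring.KrullDimLE 0 (R ⧸ P) := Ring.krullDimLE_iff.2 (by simpa using hq0)
    have hmax : ∀ q : Ideal R, q.IsPrime → P ≤ q → q.IsMaximal := by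
      intro q hq hPq
      have hk : RingHom.ker (Ideal.Quotient.mk P) ≤ q := by rwa [Ideal.mk_ker]
      haveI := Ideal.map_isPrime_of_surjective Ideal.Quotient.mk_surjective hk
      haveI : (q.map (Ideal.Quotient.mk P)).IsMaximal := Ideal.IsPrime.isMaximal' inferInstance
      have h := Ideal.comap_isMaximal_of_surjective (Ideal.Quotient.mk P) Ideal.Quotient.mk_surjective
        (K := q.map (Ideal.Quotient.mk P))
      rwa [Ideal.comap_map_of_surjective _ Ideal.Quotient.mk_surjective, ← RingHom.ker_eq_comap_bot,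
        sup_eq_left.2 hk] at h
    let q := Ideal.homogeneousCore 𝒜 p
    have hq : q.toIdeal.IsPrime := hp.homogeneousCore
    have hPq : P ≤ q.toIdeal := by
      rw [hPspan, Ideal.span_le]
      rintro _ ⟨i, rfl⟩
      exact Ideal.mem_homogeneousCore_of_homogeneous_of_mem ⟨1, hf i⟩
        (hPp (by rw [hPspan]; exact Ideal.subset_span ⟨i, rfl⟩))
    have hqm : q.toIdeal = m.toIdeal := (hmax _ hq hPq).eq_of_le (StarLocal.toIdeal_ne_top hm)
      (StarLocal.le_of_ne_top hm q hq.ne_top)
    exact (IdealChange.posIdeal_le hpos hm).trans (hqm.ge.trans (Ideal.toIdeal_homogeneousCore_le 𝒜 p))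
  obtain ⟨k, hk⟩ := Ideal.exists_pow_le_of_le_radical_of_fg hrad (IsNoetherian.noetherian _)
  have hR1 : ∀ x ∈ 𝒜 1, x ∈ Ideal.span (Set.range f) := by
    intro x hx
    rw [← hPspan]
    refine (Submodule.Quotient.mk_eq_zero _).1
      (Van.V_zero_iff.1 (hY 1 one_pos) (P.mkQ x) (mkQ_mem_qGr 𝒜 P hx) ⟨k, fun r hr => ?_⟩)
    refine (Submodule.Quotient.mk_eq_zero _).2 ?_
    exact Ideal.mul_mem_right x P (hk hr)
  have hspan : ∀ x ∈ 𝒜 1, x ∈ Submodule.span (GrLC.deg0 𝒜) (Set.range f) := by
    intro x hx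
    obtain ⟨c, hc⟩ := Ideal.mem_span_range_iff_exists_fun.1 (hR1 x hx)
    rw [← proj_of_mem 𝒜 hx, ← hc, map_sum]
    refine sum_mem fun i _ => ?_
    rw [proj_mul_deg_one (hf i), mul_comm]
    exact Submodule.smul_mem _ (⟨_, proj_mem 𝒜 0 (c i)⟩ : GrLC.deg0 𝒜)
      (Submodule.subset_span ⟨i, rfl⟩)
  have hsurj : Function.Surjective (MvPolynomial.aeval f : MvPolynomial (Fin d) (GrLC.deg0 𝒜) →ₐ[GrLC.deg0 𝒜] R) := by
    intro x
    have hx : x ∈ Algebra.adjoin (GrLC.deg0 𝒜) (Set.range f) :=
      Algebra.adjoin_le (fun y hy => Algebra.span_le_adjoin (GrLC.deg0 𝒜) _ (hspan y hy))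
        (mem_adjoin hpos h0' hstd x)
    rw [Algebra.adjoin_range_eq_range_aeval] at hx
    exact hx
  have hinj := aeval_injective d R f hreg fun c hc => by
    obtain ⟨b, hb⟩ := Ideal.mem_span_range_iff_exists_fun.1 hc
    refine Subtype.ext (?_ : ((c : GrLC.deg0 𝒜) : R) = 0)
    rw [show ((c : GrLC.deg0 𝒜) : R) = proj 𝒜 0 (algebraMap (GrLC.deg0 𝒜) R c) from
      (proj_of_mem 𝒜 (hK c)).symm, ← hb, map_sum]
    refine Finset.sum_eq_zero fun i _ => ?_
    rw [proj_mul_deg_one (hf i), RegularCrit.proj_eq_zero_of_neg hpos (by norm_num), mul_zero]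
  refine ⟨AlgEquiv.ofBijective (MvPolynomial.aeval f) ⟨hinj, hsurj⟩, fun t => ?_⟩
  show MvPolynomial.aeval f (MvPolynomial.X t) ∈ 𝒜 1
  rw [MvPolynomial.aeval_X]
  exact hf t

end Groth.Agent.S19881
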