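import Groth.Statements.S19885
import Groth.Agent.Lib.EtSite.Immersion

set_option autoImplicit false
open CategoryTheory CategoryTheory.Limits AlgebraicGeometry Opposite
universe u
open EtBase

namespace Groth.Agent.S19885

/-- Abelian case. Let j : V → X be an open immersion of schemes, G an abelian sheaf on the small étale
site of V and ζ a geometric point of V (a morphism from the spectrum of a separably closed field).
Then the stalk of the direct image j_*G at the geometric point ζ ≫ j of X is isomorphic to the stalk
of G at ζ (existence of an isomorphism only; the source's identification is the canonical one, the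
étale neighbourhoods of the point contained in V being cofinal; the source states it for sheaves of
sets as well). -/
theorem result {V X : Scheme.{u}} (j : V ⟶ X) [IsOpenImmersion j] [EtCoh.BCCont j]
    (G : EtCoh.Ab V) {Ω : Type u} [Field Ω] [IsSepClosed Ω] (ζ : Spec (CommRingCat.of Ω) ⟶ V) :
    Nonempty ((EtCoh.stalk (ζ ≫ j)).obj ((EtCoh.push j).obj G) ≅ (EtCoh.stalk ζ).obj G) := by
  have := (ConcreteCategory.isIso_iff_bijective _).2
    (Groth.Agent.Lib.EtSite.Immersion.germTo_bijective_of_isOpenImmersion j
      (rfl : ζ ≫ j = ζ ≫ j) G)
  exact ⟨asIso ((Groth.Agent.Lib.EtSite.PushStalk.germTo j AddCommGrpCat.{u + 1} (rfl : ζ ≫ j = ζ ≫ j)).app G)⟩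

end Groth.Agent.S19885
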