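import Groth.Statements.S19887
import Groth.Agent.S0384
import Groth.Agent.H22.Glue2.Basic
import Mathlib.AlgebraicGeometry.Noetherian
import Mathlib.AlgebraicGeometry.Morphisms.Proper

set_option autoImplicit false
universe u
open LVCorr

namespace Groth.Agent.S19887

open AlgebraicGeometry CategoryTheory CategoryTheory.Limits in
/-- Let k be a field and R a discrete valuation ring with a k-algebra structure, with generic point η
(an open point of Spec R). Let X be a separated k-scheme of finite type, X_R = X ×_k Spec R, and let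
(X̃, φ) be a lift of X over R: X̃ is a separated R-scheme of finite type (locally of finite type and
quasi-compact over R) and φ : X̃ → X_R an R-morphism inducing an isomorphism over η. Then there
exist a scheme Ỹ and a proper morphism ψ : Ỹ → X̃ such that (1) (Ỹ, ψ ∘ φ) is a lift of X, i.e. ψ ∘
φ is an isomorphism over η, (2) Ỹ is proper over X̃, and (3) for every compactification of X, i.e.
every open immersion of X over k into a proper k-scheme X̄ (with X̄_R = X̄ ×_k Spec R and the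
induced morphism X_R → X̄_R), Ỹ embeds by an open immersion into a scheme Ỹ(X̄) proper over R and
lifting X̄ (an R-morphism Ỹ(X̄) → X̄_R that is an isomorphism over η) such that Ỹ → Ỹ(X̄) → X̄_R
equals Ỹ → X̃ → X_R → X̄_R. (The source works over an algebraically closed field k and a discrete
valuation ring over k with residue field k, and its compactifications are dense open immersions;
none of this is used.) -/
theorem result
    (k : Type u) [Field k] (R : Type u) [CommRing R] [IsDomain R] [IsDiscreteValuationRing R] [Algebra k R]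
    (η : (Spec (CommRingCat.of R)).Opens) (hη : (η : Set ↥(Spec (CommRingCat.of R))) = {genericPoint ↥(Spec (CommRingCat.of R))})
    (X : Scheme.{u}) (pX : X ⟶ Spec (CommRingCat.of k)) [IsSeparated pX] [LocallyOfFiniteType pX] [QuasiCompact pX]
    (XR : Scheme.{u}) (a : XR ⟶ X) (b : XR ⟶ Spec (CommRingCat.of R)) (hXR : IsPullback a b pX (Spec.map (CommRingCat.ofHom (algebraMap k R))))
    (Xt : Scheme.{u}) (q : Xt ⟶ Spec (CommRingCat.of R)) [IsSeparated q] [LocallyOfFiniteType q] [QuasiCompact q]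
    (φ : Xt ⟶ XR) (hφ : φ ≫ b = q) (hφη : IsIso (φ ∣_ (b ⁻¹ᵁ η))) :
    ∃ (Y : Scheme.{u}) (ψ : Y ⟶ Xt), IsProper ψ ∧ IsIso ((ψ ≫ φ) ∣_ (b ⁻¹ᵁ η)) ∧
      ∀ (Xb : Scheme.{u}) (pXb : Xb ⟶ Spec (CommRingCat.of k)) [IsProper pXb] (jX : X ⟶ Xb) [IsOpenImmersion jX]
        (hj : jX ≫ pXb = pX)
        (XbR : Scheme.{u}) (ab : XbR ⟶ Xb) (bb : XbR ⟶ Spec (CommRingCat.of R)) (hXbR : IsPullback ab bb pXb (Spec.map (CommRingCat.ofHom (algebraMap k R))))
        (jR : XR ⟶ XbR) (hjR₁ : jR ≫ ab = a ≫ jX) (hjR₂ : jR ≫ bb = b),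
        ∃ (Yb : Scheme.{u}) (qb : Yb ⟶ Spec (CommRingCat.of R)) (_ : IsProper qb) (φb : Yb ⟶ XbR) (_ : φb ≫ bb = qb)
          (_ : IsIso (φb ∣_ (bb ⁻¹ᵁ η))) (e : Y ⟶ Yb) (_ : IsOpenImmersion e),
          e ≫ φb = ψ ≫ φ ≫ jR := by
  refine ⟨Xt, 𝟙 Xt, inferInstance, by rw [Category.id_comp]; exact hφη, ?_⟩
  intro Xb pXb _ jX _ hj XbR ab bb hXbR jR hjR₁ hjR₂
  haveI := hφη
  haveI : IsProper bb := MorphismProperty.of_isPullback hXbR inferInstance
  have hsq : IsPullback a jR jX ab := by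
    refine IsPullback.of_bot ?_ hjR₁.symm hXbR
    rw [hjR₂, hj]
    exact hXR
  haveI : IsOpenImmersion jR := MorphismProperty.of_isPullback hsq inferInstance
  haveI : IsLocallyNoetherian XbR := LocallyOfFiniteType.isLocallyNoetherian bb
  haveI : CompactSpace XbR := QuasiCompact.compactSpace_of_compactSpace bb
  haveI : IsNoetherian XbR := ⟨⟩
  haveI : CompactSpace Xt := QuasiCompact.compactSpace_of_compactSpace q
  let V : XbR.Opens := bb ⁻¹ᵁ η
  let α : Xt ⟶ XbR := φ ≫ jR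
  have hpre : jR ⁻¹ᵁ V = b ⁻¹ᵁ η := by rw [← hjR₂]; rfl
  haveI : IsIso (φ ∣_ (jR ⁻¹ᵁ V)) := by rw [hpre]; exact hφη
  haveI : IsOpenImmersion (jR ∣_ V) := MorphismProperty.of_isPullback
    (isPullback_morphismRestrict jR V).flip (inferInstanceAs (IsOpenImmersion jR))
  haveI hoi : IsOpenImmersion (φ ∣_ (jR ⁻¹ᵁ V)) := inferInstance
  haveI : IsOpenImmersion (α ∣_ V) := by
    show IsOpenImmersion ((φ ≫ jR) ∣_ V)
    rw [morphismRestrict_comp]
    exact MorphismProperty.comp_mem _ _ _ hoi ‹_›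
  haveI : CompactSpace V :=
    isCompact_iff_compactSpace.mp (TopologicalSpace.NoetherianSpace.isCompact _)
  haveI : LocallyOfFiniteType (jR ≫ bb) := by rw [hjR₂]; exact MorphismProperty.of_isPullback hXR inferInstance
  haveI : LocallyOfFiniteType (α ≫ bb) := by
    show LocallyOfFiniteType ((φ ≫ jR) ≫ bb)
    rw [Category.assoc, hjR₂, hφ]; infer_instance
  haveI : LocallyOfFiniteType α := locallyOfFiniteType_of_comp α bb
  haveI : IsSeparated (α ≫ bb) := by
    show IsSeparated ((φ ≫ jR) ≫ bb)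
    rw [Category.assoc, hjR₂, hφ]; infer_instance
  haveI : IsSeparated α := IsSeparated.of_comp α bb
  have hgl : (α ⁻¹ᵁ V).ι ≫ α = (α ∣_ V) ≫ V.ι := (morphismRestrict_ι α V).symm
  haveI : IsClosedImmersion (pullback.lift (α ⁻¹ᵁ V).ι (α ∣_ V) hgl) := by
    have hp := (isPullback_morphismRestrict α V).flip
    have h1 : pullback.lift (α ⁻¹ᵁ V).ι (α ∣_ V) hgl = hp.isoPullback.hom :=
      pullback.hom_ext (by rw [pullback.lift_fst, IsPullback.isoPullback_hom_fst])
        (by rw [pullback.lift_snd, IsPullback.isoPullback_hom_snd])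
    rw [h1]; infer_instance
  let w := pushout.desc α V.ι hgl
  haveI : IsSeparated w := H22.Glue2.isSeparated_desc _ _ α V.ι hgl
  haveI : LocallyOfFiniteType w := H22.Glue2.locallyOfFiniteType_desc _ _ α V.ι hgl
  haveI : QuasiCompact w := H22.Glue2.quasiCompact_desc _ _ α V.ι hgl
  obtain ⟨Yc, j₀, g₀, hj₀, hqj₀, hg₀, hfac⟩ := S0384.result w
  haveI := hj₀
  haveI := hqj₀
  haveI := hg₀
  let φb : j₀.image ⟶ XbR := j₀.imageι ≫ g₀
  have hφb : j₀.toImage ≫ φb = w := by
    show j₀.toImage ≫ j₀.imageι ≫ g₀ = w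
    rw [Scheme.Hom.toImage_imageι_assoc, hfac]
  refine ⟨j₀.image, φb ≫ bb, inferInstance, φb, rfl, ?_, pushout.inl _ _ ≫ j₀.toImage,
    inferInstance, ?_⟩
  swap
  · rw [Category.assoc, hφb, pushout.inl_desc, Category.id_comp]
  show IsIso (φb ∣_ V)
  let W₀ : j₀.image.Opens := φb ⁻¹ᵁ V
  have hin : ∀ v : V, (pushout.inr (α ⁻¹ᵁ V).ι (α ∣_ V) ≫ j₀.toImage) v ∈ W₀ := fun v => by
    show (pushout.inr (α ⁻¹ᵁ V).ι (α ∣_ V) ≫ j₀.toImage ≫ φb) v ∈ V
    rw [hφb, pushout.inr_desc]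
    exact v.2
  let σ : (V : Scheme.{u}) ⟶ (W₀ : Scheme.{u}) := IsOpenImmersion.lift W₀.ι
    (pushout.inr (α ⁻¹ᵁ V).ι (α ∣_ V) ≫ j₀.toImage) (by
      rintro _ ⟨v, rfl⟩
      rw [Scheme.Opens.range_ι]
      exact hin v)
  have hσ : σ ≫ W₀.ι = pushout.inr (α ⁻¹ᵁ V).ι (α ∣_ V) ≫ j₀.toImage := IsOpenImmersion.lift_fac _ _ _
  have hσ' : σ ≫ (φb ∣_ V) = 𝟙 _ := by
    rw [← cancel_mono V.ι, Category.assoc, morphismRestrict_ι, reassoc_of% hσ, hφb,
      pushout.inr_desc, Category.id_comp]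
  haveI : IsOpenImmersion (σ ≫ W₀.ι) := by rw [hσ]; infer_instance
  haveI : IsOpenImmersion σ := IsOpenImmersion.of_comp σ W₀.ι
  haveI hφs : IsSeparated φb := inferInstance
  haveI : IsSeparated (φb ∣_ V) := IsZariskiLocalAtTarget.restrict hφs V
  haveI : IsClosedImmersion (σ ≫ (φb ∣_ V)) := by rw [hσ']; infer_instance
  haveI : IsClosedImmersion σ := IsClosedImmersion.of_comp σ (φb ∣_ V)
  haveI : Surjective σ := ⟨fun y => by
    have h1 : y ∈ closure (Set.range σ) := by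
      rw [W₀.ι.isOpenEmbedding.isInducing.closure_eq_preimage_closure_image]
      show W₀.ι y ∈ closure (W₀.ι '' Set.range σ)
      have hd : closure ((W₀ : Set j₀.image) ∩ Set.range j₀.toImage) = closure (W₀ : Set j₀.image) :=
        subset_antisymm (closure_mono Set.inter_subset_left)
          (closure_minimal (j₀.toImage.denseRange.open_subset_closure_inter W₀.2) isClosed_closure)
      refine closure_mono ?_ (hd.ge (subset_closure y.2))
      rintro _ ⟨hx, x, rfl⟩
      have hxV : w x ∈ V := by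
        rw [← hφb]; exact hx
      obtain ⟨v, hv⟩ : x ∈ Set.range (pushout.inr (α ⁻¹ᵁ V).ι (α ∣_ V)) := by
        rcases (Set.ext_iff.1 (H22.Glue2.range_union (α ⁻¹ᵁ V).ι (α ∣_ V)) x).2 trivial with
          ⟨z, hz⟩ | hx'
        · subst hz
          rw [← Scheme.Hom.comp_apply, pushout.inl_desc] at hxV
          refine ⟨(α ∣_ V) ⟨z, hxV⟩, ?_⟩
          exact ((H22.Glue2.inl_eq_inr_iff (α ⁻¹ᵁ V).ι (α ∣_ V) z ((α ∣_ V) ⟨z, hxV⟩)).2 ⟨⟨z, hxV⟩, rfl, rfl⟩).symm
        · exact hx'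
      refine ⟨σ v, ⟨v, rfl⟩, ?_⟩
      show (σ ≫ W₀.ι) v = _
      rw [hσ, Scheme.Hom.comp_apply, hv]
    rwa [σ.isClosedEmbedding.isClosed_range.closure_eq] at h1⟩
  haveI : IsIso σ := (isIso_iff_isOpenImmersion_and_surjective σ).2 ⟨‹_›, ‹_›⟩
  haveI : IsIso (σ ≫ (φb ∣_ V)) := by rw [hσ']; infer_instance
  exact IsIso.of_isIso_comp_left σ (φb ∣_ V)

end Groth.Agent.S19887
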