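import Groth.Statements.S19889
import Groth.Agent.H52.CompDiv
import Groth.Agent.H63.GrpConnected

set_option autoImplicit false
set_option linter.style.haveILetI false
universe u
open CategoryTheory CategoryTheory.Limits MonoidalCategory CartesianMonoidalCategory MonObj GrpObj AlgebraicGeometry
open GrpSch

namespace Groth.Agent.S19889

/-- Let k be an algebraically closed field, G a commutative group scheme locally of finite type over k,
and i : G⁰ → G its identity component (a homomorphism that is an open immersion onto the connected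
component of the unit point). Then the natural map from the torsion subgroup of G(k) to the torsion
subgroup of G(k)/G⁰(k) is surjective: if g is a k-point of G and gⁿ lies in G⁰(k) for some n ≥ 1,
then there is a k-point t of G of finite order such that t⁻¹ g lies in G⁰(k). -/
theorem result (k : Type u) [Field k] [IsAlgClosed k]
    {G G0 : Over (Spec (CommRingCat.of k))} [GrpObj G] [IsCommMonObj G] [GrpObj G0]
    [LocallyOfFiniteType G.hom] (i : G0 ⟶ G) [IsMonHom i] (hi : AutSch.IsIdComp i)
    (g : 𝟙_ (Over (Spec (CommRingCat.of k))) ⟶ G) (n : ℕ) (hn : 0 < n)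
    (hg : g ^ n ∈ AutSch.ptsRange i) :
    ∃ t : 𝟙_ (Over (Spec (CommRingCat.of k))) ⟶ G, IsOfFinOrder t ∧ t⁻¹ * g ∈ AutSch.ptsRange i := by
  obtain ⟨-, hio, hrange⟩ := hi
  haveI := hio
  haveI : Mono i := (Over.forget _).mono_of_mono_map (inferInstanceAs (Mono i.left))
  haveI : IsCommMonObj G0 := ⟨by
    rw [← cancel_mono i, Category.assoc, IsMonHom.mul_hom, ← BraidedCategory.braiding_naturality_assoc,
      IsCommMonObj.mul_comm]⟩
  haveI : LocallyOfFiniteType G0.hom := by rw [← Over.w i]; infer_instance
  haveI : QuasiCompact G0.hom := by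
    haveI : CompactSpace G0.left := by
      refine ⟨i.left.isOpenEmbedding.isEmbedding.isCompact_iff.2 ?_⟩
      rw [Set.image_univ, show Set.range i.left = SGA3x.neutralSet G from hrange,
        AutSch.neutralSet_eq_connectedComponent]
      exact (Groth.Agent.H63.GrpConnected.connectedComponent_unit G).symm ▸
        Groth.Agent.H63.GrpConnected.isCompact_comp0 G
    haveI : QuasiCompact (G0.hom ≫ Limits.terminal.from (Spec (CommRingCat.of k))) := by
      rw [Limits.terminal.comp_from, ← compactSpace_iff_quasiCompact]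
      infer_instance
    exact QuasiCompact.of_comp G0.hom (Limits.terminal.from (Spec (CommRingCat.of k)))
  obtain ⟨h, hh⟩ := (AutSch.mem_ptsRange_iff i _).1 hg
  obtain ⟨J, hJ⟩ := Groth.Agent.H52.CompDiv.exists_pow_stable G0 n
  obtain ⟨w, hw⟩ := hJ h
  refine ⟨g * (w ≫ i)⁻¹, ?_, ?_⟩
  · refine isOfFinOrder_iff_pow_eq_one.2 ⟨n * n ^ J, Nat.mul_pos hn (pow_pos hn J), ?_⟩
    rw [mul_pow, inv_pow, pow_mul g, ← hh, ← MonObj.pow_comp, ← MonObj.pow_comp, ← pow_succ', hw,
      mul_inv_cancel]
  · rw [AutSch.mem_ptsRange_iff]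
    exact ⟨w, by rw [_root_.mul_inv_rev, _root_.inv_inv, inv_mul_cancel_right]⟩

end Groth.Agent.S19889
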