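import Groth.Statements.S1989
import Groth.Agent.H48.DomTower

set_option autoImplicit false
universe u
open EtAlg

namespace Groth.Agent.S1989

/-- Let K be the fraction field of a discrete valuation ring A, and K ⊂ L ⊂ M finite separable
extensions. If M is tamely ramified, respectively unramified, with respect to A, then so is L. -/
theorem result (A K : Type u) [CommRing A] [IsDomain A] [IsDiscreteValuationRing A] [Field K] [Algebra A K] [IsFractionRing A K] (L M : Type u) [Field L] [Field M]
    [Algebra K L] [Algebra K M] [Algebra L M] [IsScalarTower K L M] [FiniteDimensional K M] [Algebra.IsSeparable K M] :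
    (EtRam.IsTamelyRamified A ((algebraMap K M).comp (algebraMap A K)) →
      EtRam.IsTamelyRamified A ((algebraMap K L).comp (algebraMap A K))) ∧
    (EtRam.IsUnramifiedExt A ((algebraMap K M).comp (algebraMap A K)) →
      EtRam.IsUnramifiedExt A ((algebraMap K L).comp (algebraMap A K))) := by
  let f : L →ₐ[K] M := IsScalarTower.toAlgHom K L M
  have hfg : f.toRingHom.comp ((algebraMap K L).comp (algebraMap A K)) = (algebraMap K M).comp (algebraMap A K) := by
    ext a; exact f.commutes _
  constructor <;> intro hM V hV <;> intro _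
  all_goals
    obtain ⟨W, rfl⟩ := Groth.Agent.H48.DomVal.exists_comap_eq f.toRingHom V
    have hW : EtRam.Dominates A ((algebraMap K M).comp (algebraMap A K)) W :=
      hfg ▸ (Groth.Agent.H48.DomVal.dominates_comap_iff.1 hV)
    letI : Algebra A W := (RingHom.codRestrict _ W hW.1).toAlgebra
    letI : Algebra A (W.comap f.toRingHom) := (RingHom.codRestrict _ (W.comap f.toRingHom) hV.1).toAlgebra
    haveI : IsLocalHom (algebraMap A W) := Groth.Agent.H48.DomVal.isLocalHom_of_dominates hW
    obtain ⟨he, hu, hs, hp⟩ := Groth.Agent.H48.DomVal.tower_iff f W hW hV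
    have h := hM W hW
  · exact ⟨(hs.1 h.1).1, fun p hp' hc hd => h.2 p hp' hc (he ▸ dvd_mul_of_dvd_left hd _)⟩
  · exact ⟨(hu.1 h.1).1, (hs.1 h.2).1⟩

end Groth.Agent.S1989
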