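import Groth.Statements.S19890
import Mathlib.RingTheory.Ideal.UFD
import Mathlib.RingTheory.Flat.EquationalCriterion
import Mathlib.RingTheory.Flat.FaithfullyFlat.Algebra
import Mathlib.RingTheory.Ideal.AssociatedPrime.Localization

set_option autoImplicit false
universe u
open CAlg

namespace Groth.Agent.S19890

/-- Let R → R' be a faithfully flat ring map between Noetherian integrally closed local domains. Then
unique factorization descends along this map: when R' is a UFD, so is R. (The first assertion of the
lemma, descent of principality for an ideal whose extension to R' is principal, is a separate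
statement.) -/
theorem result
    (R R' : Type u) [CommRing R] [CommRing R'] [IsDomain R] [IsDomain R']
    [IsNoetherianRing R] [IsNoetherianRing R'] [IsLocalRing R] [IsLocalRing R']
    [IsIntegrallyClosed R] [IsIntegrallyClosed R']
    [Algebra R R'] [Module.FaithfullyFlat R R'] [UniqueFactorizationMonoid R'] :
    UniqueFactorizationMonoid R := by
  refine UniqueFactorizationMonoid.of_forall_isPrincipal_of_height_eq_one fun p hp h1 => ?_
  obtain ⟨a, hap, ha0⟩ := Submodule.exists_mem_ne_zero_of_ne_bot (p.ne_bot_of_height_eq_one h1)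
  have hmin : p ∈ (Module.annihilator R (R ⧸ Ideal.span {a})).minimalPrimes := by
    rw [Ideal.annihilator_quotient]
    refine ⟨⟨hp, by simpa [Ideal.span_le] using hap⟩, fun q hq hqp => ?_⟩
    by_contra hne
    have hlt : q < p := lt_of_le_of_ne hqp fun e => hne e.ge
    have := hq.1
    have h0 := Ideal.height_strict_mono_of_isPrime hlt
    rw [h1, Order.lt_one_iff, Ideal.height_eq_zero_iff_eq_bot] at h0
    exact ha0 (by simpa [h0] using hq.2 (Ideal.mem_span_singleton_self a))
  obtain ⟨-, z, hz⟩ := isAssociatedPrime_iff.mp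
    (Module.associatedPrimes.minimalPrimes_annihilator_subset_associatedPrimes R _ hmin)
  obtain ⟨b, rfl⟩ := Ideal.Quotient.mk_surjective z
  have hpb : ∀ r : R, r ∈ p ↔ r * b ∈ Ideal.span {a} := fun r => by
    rw [hz, Submodule.mem_colon_singleton, Submodule.mem_bot, ← Ideal.Quotient.eq_zero_iff_mem,
      map_mul]
    rfl
  set f := algebraMap R R'
  have hinj : Function.Injective f := FaithfulSMul.algebraMap_injective R R'
  have hfa : f a ≠ 0 := fun h => ha0 (hinj (h.trans (map_zero f).symm))
  have hcolon : ∀ x : R', x ∈ p.map f ↔ x * f b ∈ Ideal.span {f a} := fun x => by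
    constructor
    · intro hx
      have h2 : p.map f ≤ (Ideal.span {f a}).colon {f b} := by
        rw [Ideal.map_le_iff_le_comap]
        intro r hr
        rw [Ideal.mem_comap, Submodule.mem_colon_singleton, smul_eq_mul, ← map_mul]
        simpa [Ideal.map_span] using Ideal.mem_map_of_mem f ((hpb r).mp hr)
      simpa [Submodule.mem_colon_singleton] using h2 hx
    · intro hx
      obtain ⟨y, hy⟩ := Ideal.mem_span_singleton'.mp hx
      obtain ⟨k, c, z, hz1, hz2⟩ := Module.Flat.isTrivialRelation_of_sum_smul_eq_zero
        (f := ![b, -a]) (x := ![x, y]) (by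
          simp [Fin.sum_univ_two, Algebra.smul_def]
          linear_combination hy.symm)
      have hx0 := hz1 0
      simp only [Matrix.cons_val_zero] at hx0
      rw [hx0]
      refine Submodule.sum_mem _ fun j _ => ?_
      rw [Algebra.smul_def]
      refine Ideal.mul_mem_right _ _ (Ideal.mem_map_of_mem f ((hpb _).mpr ?_))
      have hz' := hz2 j
      simp [Fin.sum_univ_two] at hz'
      exact Ideal.mem_span_singleton'.mpr ⟨c 1 j, by linear_combination -hz'⟩
  obtain ⟨a', b', u, hrel, hua, hub⟩ := UniqueFactorizationMonoid.exists_reduced_factors (f a) hfa (f b)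
  have hu0 : u ≠ 0 := fun h => hfa (by rw [← hua, h, zero_mul])
  have hgen : p.map f = Ideal.span {a'} := by
    ext x
    rw [hcolon, Ideal.mem_span_singleton, Ideal.mem_span_singleton, ← hua, ← hub]
    constructor
    · rintro ⟨t, ht⟩
      have h3 : a' ∣ b' * x := ⟨t, mul_left_cancel₀ hu0 (by linear_combination ht)⟩
      exact IsRelPrime.dvd_of_dvd_mul_left hrel h3
    · rintro ⟨t, rfl⟩
      exact ⟨b' * t, by ring⟩
  have ha' : a' ∈ p.map f := hgen ▸ Ideal.mem_span_singleton_self a'
  have hne : ¬ ∀ r ∈ p, f r ∈ Ideal.span {a'} * IsLocalRing.maximalIdeal R' := fun hall => by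
    have hle : p.map f ≤ Ideal.span {a'} * IsLocalRing.maximalIdeal R' := Ideal.map_le_iff_le_comap.mpr hall
    obtain ⟨t, ht, hta⟩ := Ideal.mem_span_singleton_mul.mp (hle ha')
    have ha'0 : a' ≠ 0 := fun h => hfa (by rw [← hua, h, mul_zero])
    have : t = 1 := mul_left_cancel₀ ha'0 (by rw [hta, mul_one])
    exact (IsLocalRing.maximalIdeal.isMaximal R').ne_top ((Ideal.eq_top_iff_one _).mpr (this ▸ ht))
  push Not at hne
  obtain ⟨r, hr, hrn⟩ := hne
  obtain ⟨t, ht⟩ := Ideal.mem_span_singleton'.mp (hgen ▸ Ideal.mem_map_of_mem f hr)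
  have htu : IsUnit t := by
    by_contra h
    exact hrn (by rw [← ht, mul_comm t a']; exact Ideal.mul_mem_mul (Ideal.mem_span_singleton_self a') h)
  refine ⟨⟨r, ?_⟩⟩
  show p = Ideal.span {r}
  refine Ideal.map_injective_of_faithfullyFlat (B := R') ?_
  show p.map f = (Ideal.span {r}).map f
  rw [hgen, Ideal.map_span, Set.image_singleton, ← ht, Ideal.span_singleton_mul_left_unit htu]

end Groth.Agent.S19890
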