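import Groth.Statements.S19893
import Groth.Agent.Lib.CommAlgGrp.Affine
import Groth.Agent.Lib.MTExt.Kernel
import Groth.Agent.Lib.GrpQ.FlatHom
import Groth.Agent.Lib.DescAlg.Descends
import Groth.Agent.Lib.Flat55.DimSums
import Groth.Agent.Lib.SourceDescent.Ring
import Groth.Agent.H63.AVBaseChange
import Groth.Agent.Lib.CurvField.Descend

set_option autoImplicit false
universe u
open CategoryTheory CategoryTheory.Limits MonoidalCategory CartesianMonoidalCategory AlgebraicGeometry MonObj
open Neron

namespace Groth.Agent.S19893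

section
open CategoryTheory.Limits Groth.Agent.Lib Groth.Agent.Lib.GrpQ Groth.Agent.Lib.GrpQ.FfMono

private theorem lfp {L : Type u} [Field L] {G H : Over (Spec (CommRingCat.of L))} (f : G ⟶ H)
    [LocallyOfFiniteType G.hom] [LocallyOfFiniteType H.hom] : LocallyOfFinitePresentation f.left := by
  haveI : LocallyOfFiniteType f.left := locallyOfFiniteType_left f
  haveI : IsLocallyNoetherian H.left := LocallyOfFiniteType.isLocallyNoetherian H.hom
  exact LocallyOfFinitePresentation.iff_locallyOfFiniteType.2 inferInstance

/-- A commutative group which is affine and proper, reduced and connected is trivial. -/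
private theorem isIso_hom {L : Type u} [Field L] (Q : Over (Spec (CommRingCat.of L))) [GrpObj Q]
    [IsAffine Q.left] [IsProper Q.hom] [IsReduced Q.left] [ConnectedSpace Q.left] : IsIso Q.hom := by
  haveI : IsAffineHom Q.hom := isAffineHom_of_isAffine Q.hom
  haveI : IsFinite Q.hom := IsFinite.iff_isProper_and_isAffineHom.2 ⟨‹_›, ‹_›⟩
  haveI : IsClosedImmersion η[Q].left := GrpSch.isClosedImmersion_η Q
  haveI : DiscreteTopology Q.left := by
    have h := Q.hom.isDiscrete_preimage_singleton (IsLocalRing.closedPoint L)
    refine isDiscrete_univ_iff.1 ?_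
    convert h
    exact (Set.eq_univ_of_forall fun x => Subsingleton.elim (α := PrimeSpectrum L) _ _).symm
  haveI : Subsingleton Q.left := PreconnectedSpace.trivial_of_discrete
  haveI : Surjective η[Q].left := ⟨fun x => ⟨IsLocalRing.closedPoint L, Subsingleton.elim _ _⟩⟩
  haveI : IsIso η[Q].left := isIso_of_isClosedImmersion_of_surjective η[Q].left
  haveI : IsIso (η[Q].left ≫ Q.hom) := by
    rw [Over.w η[Q]]
    exact inferInstanceAs (IsIso (𝟙 _))
  exact IsIso.of_isIso_comp_left η[Q].left Q.hom

set_option backward.isDefEq.respectTransparency false in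
/-- A covering homomorphism with finite kernel is finite (copy of `IsogLaw.isFinite_of_kernel`). -/
private theorem isFinite_of_kernel {K : Type u} [Field K] {G H : Over (Spec (CommRingCat.of K))} [GrpObj G] [GrpObj H] (f : G ⟶ H) [IsMonHom f] [Surjective f.left] [Flat f.left] [QuasiCompact f.left]
    {N : Over (Spec (CommRingCat.of K))} {i : N ⟶ G} (hker : AlgGrp.IsKernel i f) [IsFinite N.hom] :
    IsFinite f.left := by
  haveI : Mono i := ⟨fun a b hab => hker.hom_ext hab (toUnit_unique _ _)⟩
  let P := pullback f f
  let a : P ⟶ G := pullback.fst f f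
  let b : P ⟶ G := pullback.snd f f
  have hd : (a⁻¹ * b) ≫ f = toUnit P ≫ η[H] := by
    rw [MonObj.mul_comp _ _ f, GrpObj.inv_comp _ f, show a ≫ f = b ≫ f from pullback.condition, inv_mul_cancel,
      Hom.one_def]
  let φ : P ⟶ G ⊗ N := lift a (hker.lift (a⁻¹ * b) (toUnit P) hd)
  let ψ : G ⊗ N ⟶ P := pullback.lift (fst G N) (fst G N * (snd G N ≫ i)) (by
    rw [MonObj.mul_comp _ _ f, Category.assoc, hker.w, ← Category.assoc, toUnit_unique (snd G N ≫ toUnit N) (toUnit _),
      ← Hom.one_def, _root_.mul_one])
  have h1 : φ ≫ ψ = 𝟙 P := by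
    apply pullback.hom_ext
    · rw [Category.assoc, pullback.lift_fst, lift_fst, Category.id_comp]
    · rw [Category.assoc, pullback.lift_snd, MonObj.comp_mul, lift_fst, lift_snd_assoc, hker.lift_fst,
        mul_inv_cancel_left, Category.id_comp]
  have h2 : ψ ≫ φ = 𝟙 (G ⊗ N) := by
    apply CartesianMonoidalCategory.hom_ext
    · rw [Category.assoc, lift_fst, pullback.lift_fst, Category.id_comp]
    · rw [Category.assoc, lift_snd, ← cancel_mono i, Category.assoc, hker.lift_fst, MonObj.comp_mul,
        GrpObj.comp_inv, pullback.lift_fst, pullback.lift_snd, inv_mul_cancel_left, Category.id_comp]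
  haveI : IsFinite (fst G N).left := GrpSch.fst_left_of (P := @IsFinite) _ ‹_›
  haveI : IsFinite a.left := by
    haveI : IsIso φ.left := ((Over.forget _).mapIso (⟨φ, ψ, h1, h2⟩ : P ≅ G ⊗ N)).isIso_hom
    rw [show a = φ ≫ fst G N from (lift_fst _ _).symm, Over.comp_left]
    infer_instance
  have sq := (IsPullback.of_hasPullback f f).map (Over.forget _)
  haveI : IsFinite (pullback.fst f.left f.left) := by
    rw [show pullback.fst f.left f.left = sq.isoPullback.inv ≫ a.left from sq.isoPullback_inv_fst.symm]
    exact inferInstanceAs (IsFinite (sq.isoPullback.inv ≫ a.left))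
  exact MorphismProperty.of_pullback_fst_of_descendsAlong (P := @IsFinite)
    (Q := @Surjective ⊓ @Flat ⊓ @QuasiCompact) ⟨⟨inferInstance, inferInstance⟩, inferInstance⟩ ‹_›

private theorem flat_of_flat_comp {X Y Z : Scheme.{u}} (p : X ⟶ Y) (f : Y ⟶ Z) [Flat p] [Surjective p]
    [Flat (p ≫ f)] : Flat f := by
  refine Flat.of_stalkMap _ fun y => ?_
  obtain ⟨x, rfl⟩ := p.surjective y
  have h := Flat.stalkMap (p ≫ f) x
  rw [Scheme.Hom.stalkMap_comp] at h
  replace h : ((p.stalkMap x).hom.comp (f.stalkMap (p x)).hom).Flat := h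
  algebraize [(f.stalkMap (p x)).hom, (p.stalkMap x).hom,
    (p.stalkMap x).hom.comp (f.stalkMap (p x)).hom]
  haveI : Module.FaithfullyFlat (Y.presheaf.stalk (p x)) (X.presheaf.stalk x) :=
    @Module.FaithfullyFlat.of_flat_of_isLocalHom _ _ _ _ _ _ _ (Flat.stalkMap p x)
      (p.toLRSHom.prop x)
  haveI : Module.Flat (Z.presheaf.stalk (f (p x))) (X.presheaf.stalk x) := h
  exact Groth.Agent.Lib.SourceDescent.Ring.flat_of_comp _ _ (X.presheaf.stalk x)

private theorem key {L : Type u} [Field L] (P A E V H : Over (Spec (CommRingCat.of L)))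
    [GrpObj P] [IsCommMonObj P] [GrpObj A] [GrpObj E] [GrpObj V] [GrpObj H]
    [LocallyOfFiniteType P.hom] [QuasiCompact P.hom]
    [IsProper A.hom] [Smooth A.hom] [GeometricallyIntegral A.hom]
    [IsProper E.hom] [GeometricallyIntegral E.hom]
    [Smooth V.hom] [IsAffine V.left] [IsAffine H.left]
    (iE : E ⟶ P) [IsMonHom iE] [IsClosedImmersion iE.left] (q : P ⟶ V) [IsMonHom q] [Surjective q.left]
    (hkE : AlgGrp.IsKernel iE q)
    (i : H ⟶ P) [IsMonHom i] [IsClosedImmersion i.left] (π : P ⟶ A) [IsMonHom π] [Surjective π.left]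
    (hk : AlgGrp.IsKernel i π) : topologicalKrullDim E.left = topologicalKrullDim A.left := by
  haveI : IsCommMonObj A := isCommMonObj_of_isProper_of_geometricallyIntegral A
  haveI : IsCommMonObj E := isCommMonObj_of_isProper_of_geometricallyIntegral E
  haveI : IsIntegral A.left := GeometricallyIntegral.isIntegral_of_subsingleton A.hom
  haveI : QuasiCompact V.hom := inferInstance
  -- flatness of the two quotient maps
  haveI : Flat q.left := flat_of_surjective_of_smooth q
  haveI : Flat π.left := flat_of_surjective_of_smooth π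
  haveI : LocallyOfFinitePresentation q.left := lfp q
  haveI : LocallyOfFinitePresentation π.left := lfp π
  haveI : IsCommMonObj V := CommAlgGrp.isCommMonObj_of_cover q
  obtain ⟨K, gK, cK, j, hj, hjK, hK1, hK2⟩ := CommAlgGrp.exists_kernel (iE ≫ π)
  haveI := hj
  haveI : IsSeparated A.hom := inferInstance
  haveI : IsClosedImmersion η[A].left := GrpSch.isClosedImmersion_η A
  haveI : IsClosedImmersion j.left :=
    MorphismProperty.of_isPullback (P := @IsClosedImmersion) (hjK.map (Over.forget _)).flip ‹_›
  -- the kernel is finite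
  obtain ⟨kH, hkH⟩ := (mem_kernel hk (j ≫ iE)).2 (by rw [Category.assoc, kernel_comp hjK])
  haveI : IsClosedImmersion (kH.left ≫ i.left) := by
    rw [← Over.comp_left, hkH, Over.comp_left]; infer_instance
  haveI : IsClosedImmersion kH.left := IsClosedImmersion.of_comp kH.left i.left
  haveI : IsAffine K.left := isAffine_of_isAffineHom kH.left
  haveI : IsAffineHom K.hom := isAffineHom_of_isAffine K.hom
  haveI : IsProper K.hom := by rw [← Over.w j]; infer_instance
  haveI : IsFinite K.hom := IsFinite.iff_isProper_and_isAffineHom.2 ⟨‹_›, ‹_›⟩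
  -- the image
  obtain ⟨C, gC, p, iC, hp, hiC, hpi, hpf, hps, hpl, hic, hKp⟩ := CommAlgGrp.exists_image (iE ≫ π) hjK
  haveI := hp; haveI := hiC; haveI := hpf; haveI := hps; haveI := hpl; haveI := hic
  obtain ⟨Q, gQ, cQ, c, hc, hcf, hcs, hcl, hcK, hQ1, hQ2⟩ := CommAlgGrp.exists_quotient iC
  haveI := hc; haveI := hcf; haveI := hcs; haveI := hcl; haveI := hQ1; haveI := hQ2
  haveI : IsSeparated Q.hom := GrpSch.isSeparated_of_field Q
  haveI : IsProper Q.hom :=
    { toIsSeparated := inferInstance
      toUniversallyClosed := by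
        haveI : UniversallyClosed (c.left ≫ Q.hom) := by rw [Over.w c]; infer_instance
        exact UniversallyClosed.of_comp_surjective c.left Q.hom
      toLocallyOfFiniteType := inferInstance }
  haveI : ConnectedSpace Q.left := c.left.surjective.connectedSpace c.left.continuous
  haveI : IsReduced A.left := inferInstance
  haveI : IsReduced Q.left := CurvField.isReduced_of_flat_surjective c.left
  obtain ⟨h, hh, hqh⟩ := CommAlgGrp.exists_desc_of_kernel q hkE (π ≫ c) (by
    rw [← Category.assoc, ← hpi, Category.assoc, kernel_comp hcK, MonObj.comp_one])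
  haveI := hh
  haveI : Surjective h.left := by
    haveI : Surjective (q.left ≫ h.left) := by rw [← Over.comp_left, hqh, Over.comp_left]; infer_instance
    exact Surjective.of_comp q.left h.left
  haveI : IsAffine Q.left := by
    obtain ⟨Kh, gKh, cKh, jh, hjh, hKh, hK3, hK4⟩ := CommAlgGrp.exists_kernel h
    haveI := hjh
    haveI : Flat h.left := by
      haveI : Flat (q.left ≫ h.left) := by rw [← Over.comp_left, hqh, Over.comp_left]; infer_instance
      exact flat_of_flat_comp q.left h.left
    haveI : LocallyOfFinitePresentation h.left := lfp h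
    let V' : CommAlgGrp.Alg L := CommAlgGrp.mkAlg V inferInstance inferInstance
    let K' : CommAlgGrp.Alg L := CommAlgGrp.mkAlg Kh hK3 hK4
    let Q' : CommAlgGrp.Alg L := CommAlgGrp.mkAlg Q hQ1 hQ2
    haveI : Flat (CommAlgGrp.val (CommAlgGrp.mkHom (A := V') (B := Q') h)).left := ‹Flat h.left›
    haveI : Surjective (CommAlgGrp.val (CommAlgGrp.mkHom (A := V') (B := Q') h)).left := ‹Surjective h.left›
    haveI : LocallyOfFinitePresentation (CommAlgGrp.val (CommAlgGrp.mkHom (A := V') (B := Q') h)).left :=
      ‹LocallyOfFinitePresentation h.left›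
    exact CommAlgGrp.isAffine_cokernel (CommAlgGrp.mkHom (A := K') (B := V') jh) ‹IsAffine V.left›
      (CommAlgGrp.isColimitCokernel _ (CommAlgGrp.mkHom (A := V') (B := Q') h) hKh
        (fun g hg => CommAlgGrp.comp_val_eq_one hg) (CommAlgGrp.val_ext (kernel_comp hKh)))
  haveI := isIso_hom Q
  have hc1 : c = 1 := by
    haveI : Mono Q.hom := inferInstance
    exact Over.OverMorphism.ext ((cancel_mono Q.hom).1 ((Over.w c).trans (Over.w (1 : A ⟶ Q)).symm))
  obtain ⟨sC, hsC⟩ := (mem_kernel hcK (𝟙 A)).2 (by rw [Category.id_comp, hc1])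
  haveI : Surjective iC.left := by
    haveI : Surjective (sC.left ≫ iC.left) := by rw [← Over.comp_left, hsC, Over.id_left]; infer_instance
    exact Surjective.of_comp sC.left iC.left
  haveI : Surjective (iE ≫ π).left := by rw [← hpi, Over.comp_left]; infer_instance
  haveI : Flat (iE ≫ π).left := flat_of_surjective_of_smooth (iE ≫ π)
  haveI : QuasiCompact (iE ≫ π).left := by
    haveI : QuasiCompact ((iE ≫ π).left ≫ A.hom) := by rw [Over.w]; infer_instance
    exact QuasiCompact.of_comp (iE ≫ π).left A.hom
  haveI : IsFinite (iE ≫ π).left := isFinite_of_kernel (iE ≫ π) hjK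
  rw [Flat55.DimSums.dim_eq_of_isFinite (iE ≫ π).left, Set.range_eq_univ.2 (iE ≫ π).left.surjective]
  exact IsHomeomorph.topologicalKrullDim_eq _ (Homeomorph.Set.univ A.left).isHomeomorph

end


/-- Let k be a field and P a pseudo-abelian variety over k, that is a smooth connected commutative
k-group scheme of finite type all of whose smooth connected affine closed subgroup schemes are
trivial. Suppose P is an extension 0 → E → P → V → 0 with E → P a closed immersion that is the
kernel of a surjective homomorphism P → V, where E is an abelian variety over k (proper, smooth,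
geometrically integral) and V is a smooth connected affine k-group whose base change to an algebraic
closure of k contains no non-trivial subtorus. Suppose L is a finite, purely inseparable field
extension of k such that the base change P_L is likewise an extension 0 → H → P_L → A → 0 with H a
smooth connected affine L-group having no non-trivial subtorus over an algebraic closure of L and A
an abelian variety over L of dimension g (so that g is the virtual abelian rank of P). Then the
dimension of E equals g. (Both extensions are taken as data: their existence is a result of the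
literature that the source quotes. The second assertion of the proposition, on good reduction, is
not part of this statement. The source works over the fraction field of an excellent discrete
valuation ring of characteristic p > 0; the assertion and its argument use only the field, so k is
an arbitrary field here.) -/
theorem result
    (k : Type u) [Field k]
    (P : Over (Spec (CommRingCat.of k))) [GrpObj P] [IsCommMonObj P]
    [Smooth P.hom] [LocallyOfFiniteType P.hom] [QuasiCompact P.hom] [ConnectedSpace ↥P.left]
    (hP : ∀ (H : Over (Spec (CommRingCat.of k))) [GrpObj H] (j : H ⟶ P) [IsMonHom j],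
      IsClosedImmersion j.left → Smooth H.hom → ConnectedSpace ↥H.left → IsAffine H.left → IsIso η[H])
    (E V : Over (Spec (CommRingCat.of k))) [GrpObj E] [GrpObj V]
    (iE : E ⟶ P) [IsMonHom iE] (q : P ⟶ V) [IsMonHom q]
    (hiE : IsClosedImmersion iE.left) (hkerE : AlgGrp.IsKernel iE q) (hq : Surjective q.left)
    [IsProper E.hom] [Smooth E.hom] [GeometricallyIntegral E.hom]
    [Smooth V.hom] [ConnectedSpace ↥V.left] [IsAffine V.left]
    (hV : Red.HasNoSubtorus (AlgebraicClosure k)
      (Red.bc (Spec.map (CommRingCat.ofHom (algebraMap k (AlgebraicClosure k)))) V))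
    (L : Type u) [Field L] [Algebra k L] [FiniteDimensional k L] [IsPurelyInseparable k L]
    (H A : Over (Spec (CommRingCat.of L))) [GrpObj H] [GrpObj A]
    (i : H ⟶ Red.bc (Spec.map (CommRingCat.ofHom (algebraMap k L))) P) [IsMonHom i] (π : Red.bc (Spec.map (CommRingCat.ofHom (algebraMap k L))) P ⟶ A) [IsMonHom π]
    (hi : IsClosedImmersion i.left) (hker : AlgGrp.IsKernel i π) (hπ : Surjective π.left)
    [Smooth H.hom] [ConnectedSpace ↥H.left] [IsAffine H.left]
    (hH : Red.HasNoSubtorus (AlgebraicClosure L) (Red.bc (Spec.map (CommRingCat.ofHom (algebraMap L (AlgebraicClosure L)))) H))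
    [IsProper A.hom] [Smooth A.hom] [GeometricallyIntegral A.hom]
    (g : ℕ) (hg : topologicalKrullDim ↥A.left = g) :
    topologicalKrullDim ↥E.left = g := by
  let b := Spec.map (CommRingCat.ofHom (algebraMap k L))
  haveI := hiE; haveI := hi; haveI := hπ; haveI := hq
  haveI : IsCommMonObj (Red.bc b P) := (inferInstance : IsCommMonObj ((Over.pullback b).obj P))
  haveI : LocallyOfFiniteType (Red.bc b P).hom := Groth.Agent.Lib.GrpSch.bc_hom_of (P := @LocallyOfFiniteType) b P ‹_›
  haveI : QuasiCompact (Red.bc b P).hom := Groth.Agent.Lib.GrpSch.bc_hom_of (P := @QuasiCompact) b P ‹_›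
  haveI : IsProper (Red.bc b E).hom := Groth.Agent.Lib.GrpSch.bc_hom_of (P := @IsProper) b E ‹_›
  haveI : GeometricallyIntegral (Red.bc b E).hom :=
    Groth.Agent.Lib.GrpSch.bc_hom_of (P := @GeometricallyIntegral) b E ‹_›
  haveI : Smooth (Red.bc b V).hom := Groth.Agent.Lib.GrpSch.bc_hom_of (P := @Smooth) b V ‹_›
  haveI : IsAffine (Red.bc b V).left :=
    haveI : IsAffineHom V.hom := isAffineHom_of_isAffine V.hom
    haveI : IsAffineHom (Red.bc b V).hom := Groth.Agent.Lib.GrpSch.bc_hom_of (P := @IsAffineHom) b V ‹_›
    isAffine_of_isAffineHom (Red.bc b V).hom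
  haveI : IsMonHom ((Over.pullback b).map iE) := Groth.Agent.Lib.GrpSch.isMonHom_bc_map b iE
  haveI : IsMonHom ((Over.pullback b).map q) := Groth.Agent.Lib.GrpSch.isMonHom_bc_map b q
  haveI : IsClosedImmersion ((Over.pullback b).map iE).left :=
    Groth.Agent.Lib.GrpSch.bc_map_left_of (P := @IsClosedImmersion) b iE ‹_›
  haveI : Surjective ((Over.pullback b).map q).left :=
    Groth.Agent.Lib.GrpSch.bc_map_left_of (P := @Surjective) b q ‹_›
  haveI : IsIntegral E.left := GeometricallyIntegral.isIntegral_of_subsingleton E.hom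
  obtain ⟨e, he⟩ := Groth.Agent.H63.AVIsogeny.exists_dim (A := E)
  have h1 := Groth.Agent.H63.AVBaseChange.topologicalKrullDim_bc L E he
  have h2 := key (Red.bc b P) A (Red.bc b E) (Red.bc b V) H ((Over.pullback b).map iE) ((Over.pullback b).map q)
    (Groth.Agent.Lib.MTExt.isKernel_bc hkerE b) i π hker
  rw [he, ← h1, ← hg]
  exact h2

end Groth.Agent.S19893
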