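import Groth.Statements.S19895
import Groth.Agent.H68.VerlindeSums

set_option autoImplicit false
open Complex
open VerlindeComb

namespace Groth.Agent.S19895

open Groth.Agent.H68.Verlinde Groth.Agent.H68.VerlindeSums

/-- Fix integers r ≥ 2 and k ≥ 1, and two partitions λ, λ' with k ≥ λ_1 ≥ ⋯ ≥ λ_{r-1} ≥ λ_r = 0 and k ≥
λ'_1 ≥ ⋯ ≥ λ'_{r-1} ≥ λ'_r = 0 such that λ is not equivalent to the dual partition λ'* = (k − λ'_r,
…, k − λ'_1), two integer vectors being equivalent when their difference is a constant vector (a, …,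
a). For an integer vector v with r + k > v_1 > ⋯ > v_{r-1} > v_r = 0 put z(v)_j = exp(2πi v_j / (r +
k)), let S_μ(v) = det(z(v)_j^{μ_i + r − i}) / det(z(v)_j^{r − i}) be the Schur value and P(v) =
∏_{i<j} (2 sin(π (v_i − v_j)/(r + k)))². Then the sum over all such v of exp(−2πi (|λ| + |λ'|) (v_1
+ ⋯ + v_r) / (r (r + k))) · S_λ(v) · S_{λ'}(v) · P(v) vanishes; that is, the genus-zero Verlinde
number of rank r, degree 0 and level k with two parabolic points of types λ, λ' is zero. (Only the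
vanishing case is stated; the complementary case, where the number equals 1, is not part of this
statement. The source allows r = 1, where the non-equivalence hypothesis cannot hold.) Indices are
0-based below: lam i stands for λ_{i+1}. -/
theorem result (r k : ℕ) (hr : 2 ≤ r)
    (hk : 1 ≤ k) (lam lam' : Fin r → ℕ) (hlam : Antitone lam) (hlamk : ∀ i, lam i ≤ k)
    (hlam0 : ∀ i : Fin r, (i : ℕ) = r - 1 → lam i = 0)
    (hlam' : Antitone lam') (hlam'k : ∀ i, lam' i ≤ k) (hlam'0 : ∀ i : Fin r, (i : ℕ) = r - 1 → lam' i = 0)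
    (hne : ¬ ∃ a : ℤ, ∀ i, (lam i : ℤ) - ((k - lam' (Fin.rev i) : ℕ) : ℤ) = a)
    (z : (Fin r → ℕ) → Fin r → ℂ)
    (hz : ∀ v j, z v j = Complex.exp (2 * Real.pi * Complex.I * (v j : ℂ) / ((r : ℂ) + k)))
    (S : (Fin r → ℕ) → (Fin r → ℕ) → ℂ)
    (hS : ∀ μ v, S μ v = (Matrix.of fun i j : Fin r => z v j ^ (μ i + (r - 1 - (i : ℕ)))).det /
        (Matrix.of fun i j : Fin r => z v j ^ (r - 1 - (i : ℕ))).det)
    (P : (Fin r → ℕ) → ℝ)
    (hP : ∀ v, P v = ∏ p ∈ (Finset.univ : Finset (Fin r × Fin r)).filter (fun p => p.1 < p.2),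
        ((2 : ℝ) * Real.sin (Real.pi * ((v p.1 : ℝ) - (v p.2 : ℝ)) / ((r : ℝ) + k))) ^ 2) :
    (∑ v ∈ (Finset.univ : Finset (Fin r → Fin (r + k))).filter
        (fun v : Fin r → Fin (r + k) => StrictAnti v ∧ ∀ i : Fin r, (i : ℕ) = r - 1 → (v i : ℕ) = 0),
      Complex.exp (-(2 * Real.pi * Complex.I * (((∑ i, lam i) + (∑ i, lam' i) : ℕ) : ℂ) *
          ((∑ j, (v j : ℕ) : ℕ) : ℂ) / ((r : ℂ) * ((r : ℂ) + k)))) *
        S lam (fun j => (v j : ℕ)) * S lam' (fun j => (v j : ℕ)) * (P (fun j => (v j : ℕ)) : ℂ)) = 0 := by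
  have hr0 : (r : ℂ) ≠ 0 := by exact_mod_cast (by omega : r ≠ 0)
  have hN0 : ((r : ℂ) + k) ≠ 0 := by exact_mod_cast (by omega : r + k ≠ 0)
  have hz0 : ∀ v, z v = fun j => E (r + k) (v j : ℂ) := by
    intro v; funext j; rw [hz, E]; push_cast; rfl
  let l : Fin r → ℕ := fun i => lam i + (r - 1 - (i : ℕ))
  let n : Fin r → ℕ := fun i => k - lam' (Fin.rev i) + (r - 1 - (i : ℕ))
  have hl : StrictAnti l := fun a b hab => by
    have := hlam hab.le; have := b.isLt; rw [Fin.lt_def] at hab; simp only [l]; omega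
  have hn : StrictAnti n := fun a b hab => by
    have := hlam' (Fin.rev_le_rev.mpr hab.le); have := b.isLt; rw [Fin.lt_def] at hab
    simp only [n]; omega
  have hllt : ∀ i, l i < r + k := fun i => by have := hlamk i; have := i.isLt; simp only [l]; omega
  have hnlt : ∀ i, n i < r + k := fun i => by have := i.isLt; simp only [n]; omega
  have hne' : ¬ ∃ a : ℤ, ∀ i, (l i : ℤ) - (n i : ℤ) = a := by
    rintro ⟨a, ha⟩
    exact hne ⟨a, fun i => by have := ha i; simp only [l, n] at this; push_cast at this; omega⟩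
  have hsumn : (((∑ i, lam i) + (∑ i, lam' i) : ℕ) : ℂ) =
      ((∑ i, l i : ℕ) : ℂ) - ((∑ i, n i : ℕ) : ℂ) + (r : ℂ) * k := by
    have h : (∑ i, n i) + ∑ i, lam' i = r * k + ∑ i : Fin r, (r - 1 - (i : ℕ)) := by
      simp only [n]
      rw [Finset.sum_add_distrib, add_right_comm,
        show (∑ i, (k - lam' (Fin.rev i))) = ∑ i, (k - lam' i) from
          Equiv.sum_comp Fin.revPerm (fun i => k - lam' i),
        ← Finset.sum_add_distrib, Finset.sum_congr rfl (fun i _ => Nat.sub_add_cancel (hlam'k i))]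
      simp
    have h' : (((∑ i, n i) + ∑ i, lam' i : ℕ) : ℂ) = ((r * k + ∑ i : Fin r, (r - 1 - (i : ℕ)) : ℕ) : ℂ) := by
      rw [h]
    simp only [l]
    rw [Finset.sum_add_distrib]
    push_cast at h' ⊢
    linear_combination h'
  rw [← twisted_zero (by omega) l n hl hllt hn hnlt hne']
  refine Finset.sum_congr rfl fun v hv => ?_
  simp at hv
  set vv : Fin r → ℕ := fun j => (v j : ℕ)
  have hvi : Function.Injective vv := fun a b h => hv.1.injective (Fin.ext h)
  set Z := fun j => E (r + k) (vv j : ℂ) with hZ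
  set W := fun j => E (r + k) (-(vv j : ℂ)) with hW
  have hd : delta Z ≠ 0 := delta_ne_zero _ (E_injective_comp (by omega) hvi fun i => (v i).isLt)
  have htrans : ∀ (c : ℂ) (u : Fin r → ℕ), alt (fun j => E (r + k) (c * (u j : ℂ))) vv =
      alt (fun j => E (r + k) (c * (vv j : ℂ))) u := by
    intro c u
    rw [alt, alt, ← Matrix.det_transpose]
    congr 1
    ext i j
    simp [E_pow]; ring_nf
  have hpair : pair (fun j => E (r + k) (l j : ℂ)) (fun j => E (r + k) (-(n j : ℂ))) v = alt Z l * alt W n := by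
    have h1 := htrans 1 l
    have h2 := htrans (-1) n
    simp only [one_mul, neg_one_mul] at h1 h2
    simp only [pair]
    exact congrArg₂ (· * ·) h1 h2
  have hPv : ((P vv : ℝ) : ℂ) = delta Z * delta W := by
    rw [hP, hZ, hW, delta_mul_delta]; push_cast; rfl
  have hl' : alt Z (fun i => lam' i + (r - 1 - (i : ℕ))) =
      ((Equiv.Perm.sign (Fin.revPerm : Equiv.Perm (Fin r)) : ℤ) : ℂ) * (∏ j, Z j) ^ (k + (r - 1)) * alt W n := by
    rw [← reflect_schur Z W (fun j => E_mul_self _) (fun i => k - lam' (Fin.rev i)) (fun i => Nat.sub_le _ _)]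
    congr 1
    funext i
    have := hlam'k i
    simp; omega
  have hexp : Complex.exp (-(2 * Real.pi * Complex.I * (((∑ i, lam i) + (∑ i, lam' i) : ℕ) : ℂ) *
      ((∑ j, vv j : ℕ) : ℂ) / ((r : ℂ) * ((r : ℂ) + k)))) * (∏ j, Z j) ^ k =
      E (r + k) (-(((∑ j, l j : ℕ) : ℂ) - ((∑ j, n j : ℕ) : ℂ)) / r) ^ (∑ i, (v i : ℕ)) := by
    rw [hsumn, hZ, E_prod, E_pow, E_pow, E, E, ← Complex.exp_add]
    congr 1
    simp only [vv]
    push_cast
    field_simp
    ring
  rw [hPv, hS, hS, hz0, hpair, ← hexp]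
  change _ * (alt Z l / delta Z) * (alt Z (fun i => lam' i + (r - 1 - (i : ℕ))) / delta Z) * _ = _
  rw [hl', pow_add]
  conv_rhs => rw [show alt Z l = alt Z l / delta Z * delta Z from (div_mul_cancel₀ _ hd).symm]
  conv_rhs => rw [show (alt Z l / delta Z * delta Z) = alt Z l / delta Z * (((Equiv.Perm.sign (Fin.revPerm : Equiv.Perm (Fin r)) : ℤ) : ℂ) * (∏ j, Z j) ^ (r - 1) * delta W) by rw [← delta_reflect Z W (fun j => E_mul_self _)]]
  have := hd
  field_simp

end Groth.Agent.S19895
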