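import Groth.Statements.S19898
import Groth.Agent.Lib.PolLaw.DetLaw
import Groth.Agent.Lib.PolLaw.Gamma
-- import your own Groth.Agent.* helpers here

set_option autoImplicit false
universe u
open scoped TensorProduct
open SymTen

namespace Groth.Agent.S19898

open Groth.Agent.Lib.PolLaw


/-- Let R be a commutative ring and R' a commutative R-algebra that is free of rank d as an R-module.
Let (C, γ) be the degree-d divided power algebra of R' over R, given as an R-algebra C with a
multiplicative homogeneous degree-d polynomial law γ : R' → C that is universal among such laws; let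
φ : C → T^d_R(R') be the R-algebra homomorphism into the d-fold tensor power whose composite with γ
is the law x ↦ x ⊗ ⋯ ⊗ x, and π : C → R the R-algebra homomorphism whose composite with γ is the
norm law of R' over R. Let T^d_R(R') act on itself factor by factor and let I_d ⊂ T^d_R(R') be the
R-span of the pure tensors with two equal factors, so that T^d_R(R')/I_d is the top exterior power
Λ^d_R(R'), free of rank one. Then for every c ∈ C and every x ∈ T^d_R(R') the element φ(c)·x − π(c)
x lies in I_d: the symmetric tensor φ(c) acts on Λ^d_R(R') as multiplication by the scalar π(c),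
i.e. the homomorphism TS^d_R(R') → R given by the action on the top exterior power, composed with φ,
equals π. (The source states this for R' finite locally free of constant rank d; the free case is
the affine-local form.) -/
theorem result (R : Type u) [CommRing R] (R' : Type u) [CommRing R']
    [Algebra R R'] [Module.Free R R'] [Module.Finite R R'] (d : ℕ) (hd : Module.finrank R R' = d)
    {C : Type u} [CommRing C] [Algebra R C] (γ : PolLaw.MulLaw R R' C d) (hγ : PolLaw.IsGammaD γ)
    (φ : C →ₐ[R] (⨂[R] _ : Fin d, R')) (hφ : PolLaw.MulLaw.postcomp φ γ = SymTen.tpowLaw R R' d)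
    (π : C →ₐ[R] R) (hπ : PolLaw.MulLaw.postcomp π γ = PolLaw.normLaw R R' d hd)
    (c : C) (x : ⨂[R] _ : Fin d, R') :
    SymTen.tpowAct R R' R' d (φ c) x - π c • x ∈ SymTen.altSpan R R' d := by
  classical
  let I := SymTen.altSpan R R' d
  let ω : R' [⋀^Fin d]→ₗ[R] ((⨂[R] _ : Fin d, R') ⧸ I) :=
    { I.mkQ.compMultilinearMap (PiTensorProduct.tprod R) with
      map_eq_zero_of_eq' := fun p i j h hij =>
        (Submodule.Quotient.mk_eq_zero I).2 (Submodule.subset_span ⟨p, i, j, hij, h, rfl⟩) }
  have hφ' : PolLaw.postcomp φ.toLinearMap γ.law = (SymTen.tpowLaw R R' d).law := congrArg PolLaw.MulLaw.law hφ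
  have hπ' : PolLaw.postcomp π.toLinearMap γ.law = (PolLaw.normLaw R R' d hd).law := congrArg PolLaw.MulLaw.law hπ
  have hc : c ∈ Coeff.coefSpan γ.law := Gamma.coefSpan_eq_top hγ ▸ Submodule.mem_top
  induction hc using Submodule.span_induction with
  | zero => simp
  | add a a' _ _ ha ha' =>
    simp only [map_add, LinearMap.add_apply, add_smul]
    rw [show ∀ u v w z : (⨂[R] _ : Fin d, R'), u + v - (w + z) = (u - w) + (v - z) from fun u v w z => by abel]
    exact add_mem ha ha'
  | smul r a _ ha =>
    rw [map_smul, map_smul, map_smul, LinearMap.smul_apply, smul_assoc, ← smul_sub]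
    exact Submodule.smul_mem _ r ha
  | mem c hc =>
    obtain ⟨n, b, ν, rfl⟩ := hc
    rw [Gamma.apply_coef hφ', Gamma.apply_coef hπ']
    induction x using PiTensorProduct.induction_on with
    | add u v hu hv =>
      rw [map_add, smul_add, show ∀ p q s t : (⨂[R] _ : Fin d, R'), p + q - (s + t) = (p - s) + (q - t) from
        fun p q s t => by abel]
      exact add_mem hu hv
    | smul_tprod r p =>
      rw [map_smul, smul_comm, ← smul_sub]
      refine Submodule.smul_mem _ r ?_
      refine (Submodule.Quotient.eq I).1 ?_
      show I.mkQ _ = I.mkQ _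
      refine Eq.trans ?_ ((DetLaw.alternating_sum hd ω b ν p).trans (map_smul I.mkQ _ _).symm)
      rw [Tpow.coef_tpow, map_sum, LinearMap.sum_apply, map_sum]
      refine Finset.sum_congr rfl fun c _ => ?_
      split_ifs
      · simp [SymTen.tpowAct, ω]
      · simp

end Groth.Agent.S19898
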