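import Groth.Statements.S19899
import Groth.Agent.Lib.H99Desc.Main
-- import your own Groth.Agent.* helpers here

set_option autoImplicit false
universe u
open CategoryTheory CategoryTheory.Limits AlgebraicGeometry
open Curves

namespace Groth.Agent.S19899

/-- Let k be an algebraically closed field and C a reduced, connected scheme proper over k of dimension
one with H¹(C, O_C) = 0 (a curve of arithmetic genus zero), and let ν : C' → C be its normalization,
given as a finite morphism over k from a smooth k-scheme C' that restricts to an isomorphism over a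
dense open subset U of C whose preimage is dense in C'. Let ψ be an automorphism of C' over k fixing
every point of C' that lies over a singular point of C (a point whose local ring is not regular).
Then ψ descends to C: there is a unique endomorphism φ of C with ν ∘ ψ = φ ∘ ν, and φ is an
automorphism. (The source states the resulting group isomorphism between the automorphisms of the
pointed curve C fixing each irreducible component and each singular point and the automorphisms of
C' fixing each component and each point above a marked or singular point; the descent statement here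
is its non-trivial half and needs neither the marked points nor the condition on components.) -/
theorem result
    (k : Type u) [Field k] [IsAlgClosed k] (C : Scheme.{u}) [C.Over (Spec (CommRingCat.of k))]
    [IsProper (C ↘ Spec (CommRingCat.of k))] [IsReduced C] [ConnectedSpace ↥C]
    (hdim : topologicalKrullDim ↥C = 1) (hgen : Curv2.genus k C = 0)
    (C' : Scheme.{u}) [C'.Over (Spec (CommRingCat.of k))] [Smooth (C' ↘ Spec (CommRingCat.of k))]
    (ν : C' ⟶ C) [IsFinite ν] (hν : ν ≫ (C ↘ Spec (CommRingCat.of k)) = C' ↘ Spec (CommRingCat.of k))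
    (U : C.Opens) (hU : Dense (U : Set ↥C)) (hU' : Dense ((ν ⁻¹ᵁ U : C'.Opens) : Set ↥C'))
    [IsIso (ν ∣_ U)]
    (ψ : C' ≅ C') (hψ : ψ.hom ≫ (C' ↘ Spec (CommRingCat.of k)) = C' ↘ Spec (CommRingCat.of k))
    (hfix : ∀ x : ↥C', ¬ IsRegularLocalRing (C.presheaf.stalk (ν.base x)) → ψ.hom.base x = x) :
    ∃! φ : C ⟶ C, ν ≫ φ = ψ.hom ≫ ν ∧ IsIso φ := by
  have hx : Groth.Agent.Lib.H99Desc.Ctx k ν U :=
    { prop := inferInstance, red := inferInstance, conn := inferInstance, dim := hdim.le
      h1 := Groth.Agent.Lib.H99Desc.subsingleton_h1 hdim.le hgen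
      smooth := inferInstance, fin := inferInstance, hover := hν
      dense := hU, dense' := hU', iso := inferInstance }
  haveI := Groth.Agent.Lib.H99Desc.Ctx.proper' hx
  have hψ' : ψ.inv ≫ (C' ↘ Spec (CommRingCat.of k)) = C' ↘ Spec (CommRingCat.of k) := by
    conv_lhs => rw [← hψ, Iso.inv_hom_id_assoc]
  have key : ∀ χ : C' ⟶ C', χ ≫ (C' ↘ Spec (CommRingCat.of k)) = C' ↘ Spec (CommRingCat.of k) →
      (∀ x : ↥C', ¬ IsRegularLocalRing (C.presheaf.stalk (ν.base x)) → χ.base x = x) →
      IsHomeomorph χ.base → ∃ φ : C ⟶ C, ν ≫ φ = χ ≫ ν := by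
    intro χ hχ hχfix hhom
    refine hx.exists_desc (χ ≫ ν) (by rw [Category.assoc, hν, hχ]) (fun a b hab => ?_) fun a ha => ?_
    · by_cases hr : IsRegularLocalRing (C.presheaf.stalk (ν.base a))
      · have hab' : a = b := by
          by_cases haU : ν.base a ∈ U
          · exact Groth.Agent.Lib.H99Desc.eq_of_isIso ν haU hab
          · exact hx.fibre_subsingleton haU hr rfl hab.symm
        rw [hab']
      · show ν.base (χ.base a) = ν.base (χ.base b)
        rw [hχfix a hr, hχfix b (hab ▸ hr), hab]
    · have hca : IsClosed ({a} : Set ↥C') := by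
        have hd := ν.isDiscrete_preimage_singleton (ν.base a)
        haveI : DiscreteTopology ↑(ν.base ⁻¹' {ν.base a}) := hd.to_subtype
        have := ((hx.isClosed_of_not_mem ha).preimage ν.continuous).isClosedEmbedding_subtypeVal.isClosedMap _
          (isClosed_discrete {(⟨a, rfl⟩ : ↑(ν.base ⁻¹' {ν.base a}))})
        simpa using this
      have := ν.isClosedMap _ (hhom.isClosedMap _ hca)
      simpa using this
  have hinvfix : ∀ x : ↥C', ¬ IsRegularLocalRing (C.presheaf.stalk (ν.base x)) → ψ.inv.base x = x := by
    intro x hx'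
    conv_lhs => rw [← hfix x hx']
    exact congrArg (fun φ : C' ⟶ C' => φ.base x) ψ.hom_inv_id
  obtain ⟨φ, hφ⟩ := key ψ.hom hψ hfix ψ.hom.homeomorph.isHomeomorph
  obtain ⟨φ', hφ'⟩ := key ψ.inv hψ' hinvfix ψ.inv.homeomorph.isHomeomorph
  haveI : Surjective ν := ⟨hx.surj⟩
  haveI : C.IsSeparated := ⟨by
    rw [← Limits.terminal.comp_from (C ↘ Spec (CommRingCat.of k))]; infer_instance⟩
  have hext : ∀ a b : C ⟶ C, ν ≫ a = ν ≫ b → a = b := fun a b h => ext_of_isDominant ν h
  have h12 : φ ≫ φ' = 𝟙 C := hext _ _ (by
    rw [reassoc_of% hφ, hφ', Iso.hom_inv_id_assoc, Category.comp_id])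
  have h21 : φ' ≫ φ = 𝟙 C := hext _ _ (by
    rw [reassoc_of% hφ', hφ, Iso.inv_hom_id_assoc, Category.comp_id])
  exact ⟨φ, ⟨hφ, ⟨φ', h12, h21⟩⟩, fun χ hχ => hext χ φ (hχ.1.trans hφ.symm)⟩

end Groth.Agent.S19899
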