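import Groth.Statements.S1990
import Groth.Agent.H48.DomTower

set_option autoImplicit false
universe u
open EtAlg

namespace Groth.Agent.S1990

/-- Let K be the fraction field of a discrete valuation ring A, and K ⊂ L ⊂ M finite separable
extensions. If L/K is tamely ramified (resp. unramified) with respect to A and M/L is tamely
ramified (resp. unramified) with respect to every valuation subring of L dominating A, then M/K is
tamely ramified (resp. unramified) with respect to A. -/
theorem result (A K : Type u) [CommRing A] [IsDomain A] [IsDiscreteValuationRing A] [Field K] [Algebra A K] [IsFractionRing A K] (L M : Type u) [Field L] [Field M]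
    [Algebra K L] [Algebra K M] [Algebra L M] [IsScalarTower K L M] [FiniteDimensional K M] [Algebra.IsSeparable K M] :
    (EtRam.IsTamelyRamified A ((algebraMap K L).comp (algebraMap A K)) →
      (∀ (V : ValuationSubring L), EtRam.Dominates A ((algebraMap K L).comp (algebraMap A K)) V →
        EtRam.IsTamelyRamified V ((algebraMap L M).comp V.subtype)) →
      EtRam.IsTamelyRamified A ((algebraMap K M).comp (algebraMap A K))) ∧
    (EtRam.IsUnramifiedExt A ((algebraMap K L).comp (algebraMap A K)) →
      (∀ (V : ValuationSubring L), EtRam.Dominates A ((algebraMap K L).comp (algebraMap A K)) V →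
        EtRam.IsUnramifiedExt V ((algebraMap L M).comp V.subtype)) →
      EtRam.IsUnramifiedExt A ((algebraMap K M).comp (algebraMap A K))) := by
  let f : L →ₐ[K] M := IsScalarTower.toAlgHom K L M
  have hfg : f.toRingHom.comp ((algebraMap K L).comp (algebraMap A K)) = (algebraMap K M).comp (algebraMap A K) := by
    ext a; exact f.commutes _
  constructor <;> intro hL hVs W hW <;> intro _
  all_goals
    have hV : EtRam.Dominates A ((algebraMap K L).comp (algebraMap A K)) (W.comap f.toRingHom) :=
      Groth.Agent.H48.DomVal.dominates_comap_iff.2 (hfg.symm ▸ hW)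
    letI : Algebra A W := (RingHom.codRestrict _ W hW.1).toAlgebra
    letI : Algebra A (W.comap f.toRingHom) := (RingHom.codRestrict _ (W.comap f.toRingHom) hV.1).toAlgebra
    haveI : IsLocalHom (algebraMap A (W.comap f.toRingHom)) := Groth.Agent.H48.DomVal.isLocalHom_of_dominates hV
    obtain ⟨he, hu, hs, hp⟩ := Groth.Agent.H48.DomVal.tower_iff f W hW hV
    have h := hL _ hV
    letI : Algebra (W.comap f.toRingHom) W := (EtRam.inclOfComap W f.toRingHom).toAlgebra
    have hd : EtRam.Dominates (W.comap f.toRingHom) ((algebraMap L M).comp (W.comap f.toRingHom).subtype) W :=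
      Groth.Agent.H48.DomVal.dominates_subtype W
    haveI : IsLocalHom (@algebraMap (W.comap f.toRingHom) W _ _ (RingHom.codRestrict _ W hd.1).toAlgebra) :=
      EtRam.isLocalHom_inclOfComap W f.toRingHom
    have h' := hVs _ hV W hd
  · refine ⟨hs.2 ⟨h.1, h'.1⟩, fun p hp' hc hd => ?_⟩
    rw [he] at hd
    exact (hp'.dvd_mul.1 hd).elim (h.2 p hp' hc) (h'.2 p hp' (hp p hc))
  · exact ⟨hu.2 ⟨h.1, h'.1⟩, hs.2 ⟨h.2, h'.2⟩⟩

end Groth.Agent.S1990
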