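import Groth.Statements.S1991
import Groth.Agent.H48.Abhy
import Groth.Agent.S1989
import Mathlib.FieldTheory.Normal.Closure
import Mathlib.FieldTheory.Galois.Basic

set_option autoImplicit false
universe u
open EtAlg

namespace Groth.Agent.S1991

open IsLocalRing EtRam Polynomial Groth.Agent.H48

variable {A K : Type u} [CommRing A] [IsDomain A] [IsDiscreteValuationRing A] [Field K] [Algebra A K]
  [IsFractionRing A K]

section
variable {Ω : Type u} [Field Ω] [Algebra K Ω] {W : ValuationSubring Ω}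
  (hW : Dominates A ((algebraMap K Ω).comp (algebraMap A K)) W)

include hW

theorem e_pos {E F : IntermediateField K Ω} (h : E ≤ F) [FiniteDimensional K F] : 0 < Abhy.e W h := by
  haveI := Abhy.fin_le h
  haveI := Abhy.isDVR hW E; haveI := Abhy.isDVR hW F
  letI := (Abhy.res W h).toAlgebra
  haveI : IsLocalHom (algebraMap (Abhy.V W E) (Abhy.V W F)) := Abhy.isLocalHom_res W h
  obtain ⟨a, ha⟩ := IsDiscreteValuationRing.exists_irreducible (Abhy.V W E)
  obtain ⟨b, hb⟩ := IsDiscreteValuationRing.exists_irreducible (Abhy.V W F)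
  exact Nat.pos_of_ne_zero (DVRExt.exists_unit_mul_pow (Abhy.res_injective W h) ha hb).1

theorem refl_cases :
    Abhy.e W (bot_le : (⊥ : IntermediateField K Ω) ≤ ⊥) = 1 ∧ Abhy.S W (bot_le : (⊥ : IntermediateField K Ω) ≤ ⊥) := by
  refine ⟨?_, ?_⟩
  · have h := Abhy.e_mul hW (le_refl (⊥ : IntermediateField K Ω)) (le_refl ⊥)
    have := e_pos hW (le_refl (⊥ : IntermediateField K Ω))
    nlinarith
  · letI : Algebra A (Abhy.V W (⊥ : IntermediateField K Ω)) := (Abhy.base hW ⊥).toAlgebra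
    haveI : IsLocalHom (algebraMap A (Abhy.V W (⊥ : IntermediateField K Ω))) :=
      DomVal.isLocalHom_of_dominates (Abhy.dominates hW ⊥)
    refine (Abhy.base_iff hW ⊥).2.2.1.1 ⟨fun x => ?_⟩
    obtain ⟨x, rfl⟩ := residue_surjective x
    obtain ⟨a, rfl⟩ := (Abhy.base_bijective hW).2 x
    exact isSeparable_algebraMap (K := ResidueField (Abhy.V W (⊥ : IntermediateField K Ω))) (residue A a)

/-- A totally ramified extension of degree `m`. -/
theorem root [IsAlgClosed Ω] {m : ℕ} (hm : 0 < m) :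
    ∃ E₃ : IntermediateField K Ω, FiniteDimensional K E₃ ∧
      Abhy.S W (bot_le : ⊥ ≤ E₃) ∧ Abhy.e W (bot_le : ⊥ ≤ E₃) = m := by
  classical
  obtain ⟨π, hπ⟩ := IsDiscreteValuationRing.exists_irreducible A
  obtain ⟨ρ, hρ⟩ := IsAlgClosed.exists_pow_nat_eq (algebraMap K Ω (algebraMap A K π)) hm
  have hint : IsIntegral K ρ := .of_pow hm (hρ ▸ isIntegral_algebraMap)
  let E₃ := IntermediateField.adjoin K {ρ}
  haveI : FiniteDimensional K E₃ := IntermediateField.adjoin.finiteDimensional hint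
  refine ⟨E₃, inferInstance, ?_⟩
  haveI := Abhy.isDVR hW E₃
  letI : Algebra A (Abhy.V W E₃) := (Abhy.base hW E₃).toAlgebra
  haveI : IsLocalHom (algebraMap A (Abhy.V W E₃)) := DomVal.isLocalHom_of_dominates (Abhy.dominates hW E₃)
  have hv : W.valuation ρ < 1 := by
    have h := hW.2 π hπ.not_isUnit
    rw [RingHom.comp_apply, ← hρ, map_pow] at h
    exact (pow_lt_one_iff hm.ne').1 h
  let r : Abhy.V W E₃ := ⟨⟨ρ, IntermediateField.mem_adjoin_simple_self K ρ⟩, (W.valuation_le_one_iff ρ).1 hv.le⟩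
  have hr : r ^ m = algebraMap A (Abhy.V W E₃) π := Subtype.ext (Subtype.ext hρ)
  let P := AdjoinRoot (X ^ m - C π : A[X])
  let φ : P →+* Abhy.V W E₃ := AdjoinRoot.lift (algebraMap A (Abhy.V W E₃)) r (by
    simp only [eval₂_sub, eval₂_X_pow, eval₂_C]; rw [sub_eq_zero]; exact hr)
  let t : P := AdjoinRoot.root _
  have hinj : Function.Injective (algebraMap A (Abhy.V W E₃)) := fun a b h =>
    IsFractionRing.injective A K ((algebraMap K E₃).injective (congrArg Subtype.val h))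
  have ht0 : φ t ≠ 0 := by
    rw [AdjoinRoot.lift_root]
    intro h
    rw [h, zero_pow hm.ne', eq_comm] at hr
    exact hπ.ne_zero ((map_eq_zero_iff _ hinj).1 hr)
  have htm : φ t ∈ maximalIdeal (Abhy.V W E₃) := by
    rw [AdjoinRoot.lift_root]
    by_contra h
    exact (mem_maximalIdeal _).1 (map_nonunit (algebraMap A (Abhy.V W E₃)) π hπ.not_isUnit)
      (hr ▸ (notMem_maximalIdeal.1 h).pow m)
  have hgen : ∀ z : E₃, ∃ a b : P, φ b ≠ 0 ∧ z * (φ b : E₃) = φ a := by
    intro z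
    have hz : (z : Ω) ∈ Algebra.adjoin K {ρ} := by
      rw [← IntermediateField.adjoin_simple_toSubalgebra_of_isAlgebraic hint.isAlgebraic]; exact z.2
    rw [Algebra.adjoin_singleton_eq_range_aeval] at hz
    obtain ⟨g, hg⟩ := hz
    obtain ⟨d, hd⟩ := IsLocalization.integerNormalization_map_to_map (nonZeroDivisors A) g
    set g' := IsLocalization.integerNormalization (nonZeroDivisors A) g
    refine ⟨AdjoinRoot.mk _ g', AdjoinRoot.of _ (d : A), ?_, ?_⟩
    · rw [AdjoinRoot.lift_of]; exact (map_ne_zero_iff _ hinj).2 (nonZeroDivisors.coe_ne_zero d)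
    · rw [AdjoinRoot.lift_of, AdjoinRoot.lift_mk]
      apply Subtype.ext
      show (z : Ω) * algebraMap K Ω (algebraMap A K d) =
        (E₃.val.toRingHom.comp (Abhy.V W E₃).subtype) (eval₂ (algebraMap A (Abhy.V W E₃)) r g')
      rw [hom_eval₂]
      show _ = eval₂ ((algebraMap K Ω).comp (algebraMap A K)) ρ g'
      rw [← eval₂_map, hd, ← hg, Algebra.smul_def, eval₂_mul, Polynomial.algebraMap_apply, eval₂_C]
      simp [RingHom.comp_apply, aeval_def, mul_comm]
  let ψ : ResidueField A →+* P ⧸ Ideal.span {t} :=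
    Ideal.Quotient.lift (maximalIdeal A) ((Ideal.Quotient.mk _).comp (AdjoinRoot.of _)) fun a ha => by
      rw [hπ.maximalIdeal_eq, Ideal.mem_span_singleton] at ha
      obtain ⟨c, rfl⟩ := ha
      rw [RingHom.comp_apply, Ideal.Quotient.eq_zero_iff_mem, map_mul, ← (show t ^ m = AdjoinRoot.of _ π by
        have := AdjoinRoot.eval₂_root (X ^ m - C π : A[X])
        simpa [sub_eq_zero] using this)]
      exact Ideal.mul_mem_right _ _ (Ideal.pow_mem_of_mem _ (Ideal.mem_span_singleton_self t) m hm)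
  have hconst : ∀ g : A[X], AdjoinRoot.mk (X ^ m - C π) g - AdjoinRoot.of _ (g.coeff 0) ∈ Ideal.span {t} := fun g =>
    Ideal.mem_span_singleton'.2 ⟨AdjoinRoot.mk _ g.divX, by
      conv_rhs => rw [← divX_mul_X_add g, map_add, map_mul, AdjoinRoot.mk_X, AdjoinRoot.mk_C, coeff_add, coeff_mul_X_zero, coeff_C_zero, zero_add, add_sub_cancel_right]⟩
  have hψ : Function.Surjective ψ := by
    intro y
    obtain ⟨p, rfl⟩ := Ideal.Quotient.mk_surjective y
    obtain ⟨g, rfl⟩ := AdjoinRoot.mk_surjective p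
    exact ⟨residue A (g.coeff 0), (Ideal.Quotient.eq.2 (hconst g)).symm⟩
  obtain ⟨hmax, hres⟩ := FSExt.core (Abhy.V W E₃) φ t htm ht0 hgen (fun q hq => by
    rw [Ideal.eq_bot_of_prime q]; exact Ideal.bot_isMaximal) ψ hψ
  obtain ⟨he, -, hs, -⟩ := Abhy.base_iff hW E₃
  refine ⟨hs.1 ⟨fun x => ?_⟩, ?_⟩
  · obtain ⟨p, rfl⟩ := hres x
    obtain ⟨g, rfl⟩ := AdjoinRoot.mk_surjective p
    have : ((residue _).comp φ) (AdjoinRoot.mk _ g) =
        algebraMap (ResidueField A) (ResidueField (Abhy.V W E₃)) (residue A (g.coeff 0)) := by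
      rw [RingHom.comp_apply]
      show _ = residue _ (algebraMap A (Abhy.V W E₃) (g.coeff 0))
      rw [← sub_eq_zero, ← map_sub, residue_eq_zero_iff, hmax]
      obtain ⟨c, hc⟩ := Ideal.mem_span_singleton'.1 (hconst g)
      rw [show algebraMap A (Abhy.V W E₃) (g.coeff 0) = φ (AdjoinRoot.of _ (g.coeff 0)) from (AdjoinRoot.lift_of _).symm]
      rw [← map_sub, ← hc, map_mul]
      exact Ideal.mem_span_singleton'.2 ⟨φ c, rfl⟩
    rw [this]
    exact isSeparable_algebraMap _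
  · rw [← he]
    have hτ : Irreducible (φ t) := (IsDiscreteValuationRing.irreducible_iff_uniformizer _).2 hmax
    obtain ⟨-, u, hu⟩ := DVRExt.exists_unit_mul_pow hinj hπ hτ
    refine (IsDiscreteValuationRing.unit_mul_pow_congr_pow hτ hτ u 1 _ m ?_)
    rw [← hu, Units.val_one, one_mul, AdjoinRoot.lift_root]
    exact hr.symm

theorem tame_sup [IsAlgClosed Ω] (E₁ E₂ : IntermediateField K Ω) [FiniteDimensional K E₁] [FiniteDimensional K E₂]
    (s₁ : Abhy.S W (bot_le : ⊥ ≤ E₁)) (n₁ : (Abhy.e W (bot_le : ⊥ ≤ E₁) : ResidueField A) ≠ 0)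
    (s₂ : Abhy.S W (bot_le : ⊥ ≤ E₂)) (n₂ : (Abhy.e W (bot_le : ⊥ ≤ E₂) : ResidueField A) ≠ 0) :
    Abhy.S W (bot_le : ⊥ ≤ E₁ ⊔ E₂) ∧ (Abhy.e W (bot_le : ⊥ ≤ E₁ ⊔ E₂) : ResidueField A) ≠ 0 := by
  obtain ⟨E₃, hf, s₃, e₃⟩ := root hW (Nat.mul_pos (e_pos hW (bot_le : ⊥ ≤ E₁)) (e_pos hW (bot_le : ⊥ ≤ E₂)))
  haveI : FiniteDimensional K (⊥ : IntermediateField K Ω) := inferInstance
  have hbase : ∀ n : ℕ, (n : ResidueField A) ≠ 0 → (n : ResidueField (Abhy.V W (⊥ : IntermediateField K Ω))) ≠ 0 := by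
    letI : Algebra A (Abhy.V W E₁) := (Abhy.base hW E₁).toAlgebra
    haveI : IsLocalHom (algebraMap A (Abhy.V W E₁)) := DomVal.isLocalHom_of_dominates (Abhy.dominates hW E₁)
    exact (Abhy.base_iff hW E₁).2.2.2
  obtain ⟨a₁, b₁⟩ := Abhy.abhyankar hW (bot_le : ⊥ ≤ E₁) (bot_le : ⊥ ≤ E₃) s₁ (hbase _ n₁)
    (e₃ ▸ dvd_mul_right _ _)
  obtain ⟨a₂, b₂⟩ := Abhy.abhyankar hW (bot_le : ⊥ ≤ E₂) (bot_le : ⊥ ≤ E₃) s₂ (hbase _ n₂)
    (e₃ ▸ dvd_mul_left _ _)
  obtain ⟨a, b⟩ := Abhy.abhyankar hW (le_sup_right : E₃ ≤ E₁ ⊔ E₃) (le_sup_right : E₃ ≤ E₂ ⊔ E₃) b₁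
    (by rw [a₁, Nat.cast_one]; exact one_ne_zero) (by rw [a₁]; exact one_dvd _)
  set T := (E₁ ⊔ E₃) ⊔ (E₂ ⊔ E₃)
  have hST : Abhy.S W ((bot_le : ⊥ ≤ E₃).trans ((le_sup_right : E₃ ≤ E₂ ⊔ E₃).trans (le_sup_right : E₂ ⊔ E₃ ≤ T))) :=
    (Abhy.S_iff hW _ _).2 ⟨s₃, (Abhy.S_iff hW _ _).2 ⟨b₂, b⟩⟩
  have heT : Abhy.e W ((bot_le : ⊥ ≤ E₃).trans ((le_sup_right : E₃ ≤ E₂ ⊔ E₃).trans (le_sup_right : E₂ ⊔ E₃ ≤ T))) =
      Abhy.e W (bot_le : ⊥ ≤ E₁) * Abhy.e W (bot_le : ⊥ ≤ E₂) := by
    rw [Abhy.e_mul hW (bot_le : ⊥ ≤ E₃) ((le_sup_right : E₃ ≤ E₂ ⊔ E₃).trans (le_sup_right : E₂ ⊔ E₃ ≤ T)),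
      Abhy.e_mul hW (le_sup_right : E₃ ≤ E₂ ⊔ E₃) (le_sup_right : E₂ ⊔ E₃ ≤ T), a₂, a, e₃, mul_one, mul_one]
  have hle : E₁ ⊔ E₂ ≤ T := sup_le (le_sup_left.trans le_sup_left) (le_sup_left.trans le_sup_right)
  refine ⟨((Abhy.S_iff hW (bot_le : ⊥ ≤ E₁ ⊔ E₂) hle).1 hST).1, fun h0 => ?_⟩
  have h := congrArg (Nat.cast : ℕ → ResidueField A)
    ((Abhy.e_mul hW (bot_le : ⊥ ≤ E₁ ⊔ E₂) hle).symm.trans heT)
  rw [Nat.cast_mul, Nat.cast_mul, h0, zero_mul] at h
  exact mul_ne_zero n₁ n₂ h.symm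

theorem unram_sup (E₁ E₂ : IntermediateField K Ω) [FiniteDimensional K E₁] [FiniteDimensional K E₂]
    (s₁ : Abhy.S W (bot_le : ⊥ ≤ E₁)) (n₁ : Abhy.e W (bot_le : ⊥ ≤ E₁) = 1)
    (s₂ : Abhy.S W (bot_le : ⊥ ≤ E₂)) (n₂ : Abhy.e W (bot_le : ⊥ ≤ E₂) = 1) :
    Abhy.S W (bot_le : ⊥ ≤ E₁ ⊔ E₂) ∧ Abhy.e W (bot_le : ⊥ ≤ E₁ ⊔ E₂) = 1 := by
  obtain ⟨a, b⟩ := Abhy.abhyankar hW (bot_le : ⊥ ≤ E₁) (bot_le : ⊥ ≤ E₂) s₁
    (by rw [n₁, Nat.cast_one]; exact one_ne_zero) (by rw [n₁]; exact one_dvd _)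
  exact ⟨(Abhy.S_iff hW (bot_le : ⊥ ≤ E₂) le_sup_right).2 ⟨s₂, b⟩,
    (Abhy.e_mul hW (bot_le : ⊥ ≤ E₂) le_sup_right).trans (by rw [n₂, a])⟩

end

/-- The two properties, phrased with the ramification data. -/
def Good (c : ℕ → Prop) {Ω : Type u} [Field Ω] [Algebra K Ω] (A : Type u) [CommRing A] [IsDomain A]
    [IsDiscreteValuationRing A] [Algebra A K] (E : IntermediateField K Ω) : Prop :=
  ∀ W : ValuationSubring Ω, Dominates A ((algebraMap K Ω).comp (algebraMap A K)) W →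
    Abhy.S W (bot_le : ⊥ ≤ E) ∧ c (Abhy.e W (bot_le : ⊥ ≤ E))

theorem good_sup_unram {Ω : Type u} [Field Ω] [Algebra K Ω] (E₁ E₂ : IntermediateField K Ω) [FiniteDimensional K E₁]
    [FiniteDimensional K E₂] (h₁ : Good (· = 1) A E₁) (h₂ : Good (· = 1) A E₂) : Good (· = 1) A (E₁ ⊔ E₂) :=
  fun W hW => unram_sup hW E₁ E₂ (h₁ W hW).1 (h₁ W hW).2 (h₂ W hW).1 (h₂ W hW).2

theorem good_sup_tame {Ω : Type u} [Field Ω] [Algebra K Ω] [IsAlgClosed Ω] (E₁ E₂ : IntermediateField K Ω)
    [FiniteDimensional K E₁] [FiniteDimensional K E₂] (h₁ : Good (fun n => (n : ResidueField A) ≠ 0) A E₁)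
    (h₂ : Good (fun n => (n : ResidueField A) ≠ 0) A E₂) : Good (fun n => (n : ResidueField A) ≠ 0) A (E₁ ⊔ E₂) :=
  fun W hW => tame_sup hW E₁ E₂ (h₁ W hW).1 (h₁ W hW).2 (h₂ W hW).1 (h₂ W hW).2

section
variable {Ω : Type u} [Field Ω] [Algebra K Ω] (E : IntermediateField K Ω) [FiniteDimensional K E]

theorem good_tame_iff :
    Good (fun n => (n : ResidueField A) ≠ 0) A E ↔ IsTamelyRamified A ((algebraMap K E).comp (algebraMap A K)) := by
  constructor
  · intro h V hV
    intro _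
    obtain ⟨W, rfl⟩ := DomVal.exists_comap_eq E.val.toRingHom V
    have hW : Dominates A ((algebraMap K Ω).comp (algebraMap A K)) W := by
      have := DomVal.dominates_comap_iff.1 hV
      rwa [show E.val.toRingHom.comp ((algebraMap K E).comp (algebraMap A K)) =
        (algebraMap K Ω).comp (algebraMap A K) from RingHom.ext fun a => E.val.commutes _] at this
    letI : Algebra A (Abhy.V W E) := (Abhy.base hW E).toAlgebra
    haveI : IsLocalHom (algebraMap A (Abhy.V W E)) := DomVal.isLocalHom_of_dominates (Abhy.dominates hW E)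
    obtain ⟨he, -, hs, -⟩ := Abhy.base_iff hW E
    refine ⟨hs.2 (h W hW).1, fun p hp hc hd => (h W hW).2 ?_⟩
    haveI := hc
    rw [← he]
    exact (CharP.cast_eq_zero_iff (ResidueField A) p _).2 hd
  · intro h W hW
    letI : Algebra A (Abhy.V W E) := (Abhy.base hW E).toAlgebra
    haveI : IsLocalHom (algebraMap A (Abhy.V W E)) := DomVal.isLocalHom_of_dominates (Abhy.dominates hW E)
    haveI : IsLocalHom (@algebraMap A (Abhy.V W E) _ _
      (RingHom.codRestrict _ (Abhy.V W E) (Abhy.dominates hW E).1).toAlgebra) :=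
      DomVal.isLocalHom_of_dominates (Abhy.dominates hW E)
    obtain ⟨he, -, hs, -⟩ := Abhy.base_iff hW E
    obtain ⟨h1, h2⟩ := h _ (Abhy.dominates hW E)
    refine ⟨hs.1 h1, fun h0 => ?_⟩
    rcases CharP.exists (ResidueField A) with ⟨p, hp⟩
    haveI := hp
    rcases CharP.char_is_prime_or_zero (ResidueField A) p with hpp | rfl
    · exact h2 p hpp hp (he ▸ (CharP.cast_eq_zero_iff (ResidueField A) p _).1 h0)
    · haveI := CharP.charP_to_charZero (ResidueField A)
      exact (e_pos hW (bot_le : ⊥ ≤ E)).ne' (Nat.cast_eq_zero.1 h0)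

theorem good_unram_iff :
    Good (· = 1) A E ↔ IsUnramifiedExt A ((algebraMap K E).comp (algebraMap A K)) := by
  constructor
  · intro h V hV
    intro _
    obtain ⟨W, rfl⟩ := DomVal.exists_comap_eq E.val.toRingHom V
    have hW : Dominates A ((algebraMap K Ω).comp (algebraMap A K)) W := by
      have := DomVal.dominates_comap_iff.1 hV
      rwa [show E.val.toRingHom.comp ((algebraMap K E).comp (algebraMap A K)) =
        (algebraMap K Ω).comp (algebraMap A K) from RingHom.ext fun a => E.val.commutes _] at this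
    letI : Algebra A (Abhy.V W E) := (Abhy.base hW E).toAlgebra
    haveI : IsLocalHom (algebraMap A (Abhy.V W E)) := DomVal.isLocalHom_of_dominates (Abhy.dominates hW E)
    obtain ⟨-, hu, hs, -⟩ := Abhy.base_iff hW E
    exact ⟨hu.2 (h W hW).2, hs.2 (h W hW).1⟩
  · intro h W hW
    letI : Algebra A (Abhy.V W E) := (Abhy.base hW E).toAlgebra
    haveI : IsLocalHom (algebraMap A (Abhy.V W E)) := DomVal.isLocalHom_of_dominates (Abhy.dominates hW E)
    haveI : IsLocalHom (@algebraMap A (Abhy.V W E) _ _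
      (RingHom.codRestrict _ (Abhy.V W E) (Abhy.dominates hW E).1).toAlgebra) :=
      DomVal.isLocalHom_of_dominates (Abhy.dominates hW E)
    obtain ⟨-, hu, hs, -⟩ := Abhy.base_iff hW E
    obtain ⟨h1, h2⟩ := h _ (Abhy.dominates hW E)
    exact ⟨hs.1 h2, hu.1 h1⟩

end

theorem good_bot (c : ℕ → Prop) (hc : c 1) {Ω : Type u} [Field Ω] [Algebra K Ω] :
    Good c A (⊥ : IntermediateField K Ω) :=
  fun W hW => ⟨(refl_cases hW).2, by rw [show Abhy.e W (bot_le : (⊥ : IntermediateField K Ω) ≤ ⊥) = 1 from (refl_cases hW).1]; exact hc⟩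

theorem closure_and_compositum (c : ℕ → Prop) (hc : c 1) (P : ∀ (L : Type u) [Field L], (A →+* L) → Prop)
    (hiff : ∀ (E : IntermediateField K (AlgebraicClosure K)) [FiniteDimensional K E],
      Good c A E ↔ P E ((algebraMap K E).comp (algebraMap A K)))
    (hdesc : ∀ (L M : Type u) [Field L] [Field M] [Algebra K L] [Algebra K M] [Algebra L M] [IsScalarTower K L M]
      [FiniteDimensional K M] [Algebra.IsSeparable K M], P M ((algebraMap K M).comp (algebraMap A K)) →
        P L ((algebraMap K L).comp (algebraMap A K)))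
    (hsup : ∀ (E₁ E₂ : IntermediateField K (AlgebraicClosure K)) [FiniteDimensional K E₁] [FiniteDimensional K E₂],
      Good c A E₁ → Good c A E₂ → Good c A (E₁ ⊔ E₂)) :
    (∀ (L : Type u) [Field L] [Algebra K L] [FiniteDimensional K L] [Algebra.IsSeparable K L],
      P L ((algebraMap K L).comp (algebraMap A K)) →
        ∃ (M : Type u) (_ : Field M) (_ : Algebra K M) (_ : FiniteDimensional K M) (_ : IsGalois K M) (_ : L →ₐ[K] M),
          P M ((algebraMap K M).comp (algebraMap A K))) ∧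
    (∀ (L₁ L₂ : Type u) [Field L₁] [Field L₂] [Algebra K L₁] [Algebra K L₂] [FiniteDimensional K L₁]
      [FiniteDimensional K L₂] [Algebra.IsSeparable K L₁] [Algebra.IsSeparable K L₂],
      P L₁ ((algebraMap K L₁).comp (algebraMap A K)) → P L₂ ((algebraMap K L₂).comp (algebraMap A K)) →
        ∃ (M : Type u) (_ : Field M) (_ : Algebra K M) (_ : FiniteDimensional K M) (_ : Algebra.IsSeparable K M)
          (_ : L₁ →ₐ[K] M) (_ : L₂ →ₐ[K] M), P M ((algebraMap K M).comp (algebraMap A K))) := by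
  have himg : ∀ (L : Type u) [Field L] [Algebra K L] [FiniteDimensional K L] [Algebra.IsSeparable K L],
      P L ((algebraMap K L).comp (algebraMap A K)) →
      ∀ σ : L →ₐ[K] AlgebraicClosure K, FiniteDimensional K σ.fieldRange ∧ Algebra.IsSeparable K σ.fieldRange ∧
        Good c A σ.fieldRange := by
    intro L _ _ _ _ h σ
    let eσ : L ≃ₐ[K] σ.fieldRange := AlgEquiv.ofInjective σ σ.injective
    haveI : FiniteDimensional K σ.fieldRange := Module.Finite.equiv eσ.toLinearEquiv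
    refine ⟨inferInstance, AlgEquiv.Algebra.isSeparable eσ, (hiff _).2 ?_⟩
    letI : Algebra σ.fieldRange L := eσ.symm.toAlgHom.toRingHom.toAlgebra
    haveI : IsScalarTower K σ.fieldRange L := IsScalarTower.of_algebraMap_eq fun k => (eσ.symm.commutes k).symm
    exact hdesc σ.fieldRange L h
  refine ⟨fun L _ _ _ _ h => ?_, fun L₁ L₂ _ _ _ _ _ _ _ _ h₁ h₂ => ?_⟩
  · classical
    let σ₀ : L →ₐ[K] AlgebraicClosure K := IsAlgClosed.lift
    let N := IntermediateField.normalClosure K L (AlgebraicClosure K)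
    have key : ∀ s : Finset (L →ₐ[K] AlgebraicClosure K), FiniteDimensional K (s.sup AlgHom.fieldRange : IntermediateField K (AlgebraicClosure K)) ∧
        Algebra.IsSeparable K (s.sup AlgHom.fieldRange : IntermediateField K (AlgebraicClosure K)) ∧
        Good c A (s.sup AlgHom.fieldRange) := by
      intro s
      induction s using Finset.induction with
      | empty => rw [Finset.sup_empty]; exact ⟨inferInstance, inferInstance, good_bot c hc⟩
      | insert a s _ ih =>
        obtain ⟨f1, s1, g1⟩ := himg L h a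
        obtain ⟨f2, s2, g2⟩ := ih
        rw [Finset.sup_insert]
        exact ⟨inferInstance, inferInstance, hsup _ _ g1 g2⟩
    have hN : N = (Finset.univ : Finset (L →ₐ[K] AlgebraicClosure K)).sup AlgHom.fieldRange := by
      rw [Finset.sup_univ_eq_iSup]; exact normalClosure_def K L (AlgebraicClosure K)
    obtain ⟨hf, hs, hg⟩ := key Finset.univ
    haveI : FiniteDimensional K N := hN ▸ hf
    haveI : Algebra.IsSeparable K N := hN ▸ hs
    haveI : IsGalois K N := ⟨⟩
    exact ⟨N, inferInstance, inferInstance, inferInstance, inferInstance,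
      (IntermediateField.inclusion (show σ₀.fieldRange ≤ N by
        rw [hN]; exact Finset.le_sup (f := AlgHom.fieldRange) (Finset.mem_univ σ₀))).comp σ₀.rangeRestrict,
      (hiff N).1 (hN ▸ hg)⟩
  · let σ₁ : L₁ →ₐ[K] AlgebraicClosure K := IsAlgClosed.lift
    let σ₂ : L₂ →ₐ[K] AlgebraicClosure K := IsAlgClosed.lift
    obtain ⟨f1, s1, g1⟩ := himg L₁ h₁ σ₁
    obtain ⟨f2, s2, g2⟩ := himg L₂ h₂ σ₂
    exact ⟨(σ₁.fieldRange ⊔ σ₂.fieldRange : IntermediateField K (AlgebraicClosure K)), inferInstance, inferInstance,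
      inferInstance, inferInstance, (IntermediateField.inclusion le_sup_left).comp σ₁.rangeRestrict,
      (IntermediateField.inclusion le_sup_right).comp σ₂.rangeRestrict, (hiff _).1 (hsup _ _ g1 g2)⟩

/-- Let A be a discrete valuation ring with fraction field K. A finite separable extension L/K that is
unramified (resp. tamely ramified) with respect to A embeds over K into a finite Galois extension of
K that is unramified (resp. tamely ramified) with respect to A; and two finite separable extensions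
of K that are unramified (resp. tamely ramified) with respect to A embed over K into a common finite
separable extension with the same property. -/
theorem result (A K : Type u) [CommRing A] [IsDomain A] [IsDiscreteValuationRing A] [Field K] [Algebra A K] [IsFractionRing A K] :
    (∀ (L : Type u) [Field L] [Algebra K L] [FiniteDimensional K L] [Algebra.IsSeparable K L],
      (EtRam.IsUnramifiedExt A ((algebraMap K L).comp (algebraMap A K)) →
        ∃ (M : Type u) (_ : Field M) (_ : Algebra K M) (_ : FiniteDimensional K M) (_ : IsGalois K M) (_ : L →ₐ[K] M),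
          EtRam.IsUnramifiedExt A ((algebraMap K M).comp (algebraMap A K))) ∧
      (EtRam.IsTamelyRamified A ((algebraMap K L).comp (algebraMap A K)) →
        ∃ (M : Type u) (_ : Field M) (_ : Algebra K M) (_ : FiniteDimensional K M) (_ : IsGalois K M) (_ : L →ₐ[K] M),
          EtRam.IsTamelyRamified A ((algebraMap K M).comp (algebraMap A K)))) ∧
    (∀ (L₁ L₂ : Type u) [Field L₁] [Field L₂] [Algebra K L₁] [Algebra K L₂] [FiniteDimensional K L₁] [FiniteDimensional K L₂]
      [Algebra.IsSeparable K L₁] [Algebra.IsSeparable K L₂],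
      (EtRam.IsUnramifiedExt A ((algebraMap K L₁).comp (algebraMap A K)) →
        EtRam.IsUnramifiedExt A ((algebraMap K L₂).comp (algebraMap A K)) →
        ∃ (M : Type u) (_ : Field M) (_ : Algebra K M) (_ : FiniteDimensional K M) (_ : Algebra.IsSeparable K M)
          (_ : L₁ →ₐ[K] M) (_ : L₂ →ₐ[K] M), EtRam.IsUnramifiedExt A ((algebraMap K M).comp (algebraMap A K))) ∧
      (EtRam.IsTamelyRamified A ((algebraMap K L₁).comp (algebraMap A K)) →
        EtRam.IsTamelyRamified A ((algebraMap K L₂).comp (algebraMap A K)) →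
        ∃ (M : Type u) (_ : Field M) (_ : Algebra K M) (_ : FiniteDimensional K M) (_ : Algebra.IsSeparable K M)
          (_ : L₁ →ₐ[K] M) (_ : L₂ →ₐ[K] M), EtRam.IsTamelyRamified A ((algebraMap K M).comp (algebraMap A K)))) := by
  obtain ⟨hu1, hu2⟩ := closure_and_compositum (A := A) (K := K) (· = 1) rfl
    (fun L _ g => EtRam.IsUnramifiedExt A g) (fun E _ => good_unram_iff E)
    (fun L M _ _ _ _ _ _ _ _ h => (Groth.Agent.S1989.result A K L M).2 h)
    (fun E₁ E₂ _ _ => good_sup_unram E₁ E₂)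
  obtain ⟨ht1, ht2⟩ := closure_and_compositum (A := A) (K := K) (fun n => (n : IsLocalRing.ResidueField A) ≠ 0)
    (by rw [Nat.cast_one]; exact one_ne_zero)
    (fun L _ g => EtRam.IsTamelyRamified A g) (fun E _ => good_tame_iff E)
    (fun L M _ _ _ _ _ _ _ _ h => (Groth.Agent.S1989.result A K L M).1 h)
    (fun E₁ E₂ _ _ => good_sup_tame E₁ E₂)
  exact ⟨fun L _ _ _ _ => ⟨hu1 L, ht1 L⟩, fun L₁ L₂ _ _ _ _ _ _ _ _ => ⟨hu2 L₁ L₂, ht2 L₁ L₂⟩⟩

end Groth.Agent.S1991
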