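import Groth.Statements.S19910
import Groth.Agent.Lib.BranchIneq74.Basic

set_option autoImplicit false
set_option linter.style.haveILetI false
set_option backward.isDefEq.respectTransparency.types false
universe u
open CategoryTheory CategoryTheory.Limits AlgebraicGeometry
open Models

namespace Groth.Agent.S19910

open Groth.Agent.Lib Opposite TopologicalSpace

/-- Primes of the local ring containing the ideal of a closed subscheme. -/
theorem ker_le_iff {D Z : Scheme.{u}} (ι : D ⟶ Z) [IsClosedImmersion ι] (d : D)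
    (q : PrimeSpectrum (Z.presheaf.stalk (ι d))) :
    RingHom.ker (ι.stalkMap d).hom ≤ q.asIdeal ↔ Z.fromSpecStalk (ι d) q ∈ Set.range ι := by
  have key : ∀ q' : PrimeSpectrum (D.presheaf.stalk d),
      Z.fromSpecStalk (ι d) (PrimeSpectrum.comap (ι.stalkMap d).hom q') = ι (D.fromSpecStalk d q') := fun q' => by
    show (Spec.map (ι.stalkMap d) ≫ Z.fromSpecStalk (ι d)) q' = (D.fromSpecStalk d ≫ ι) q'
    rw [Scheme.SpecMap_stalkMap_fromSpecStalk]
  constructor
  · intro h
    have hq : q ∈ Set.range (PrimeSpectrum.comap (ι.stalkMap d).hom) := by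
      rw [range_comap_of_surjective _ _ (ι.stalkMap_surjective d)]
      exact h
    obtain ⟨q', rfl⟩ := hq
    exact ⟨_, (key q').symm⟩
  · rintro ⟨e', he'⟩
    have hsp : Z.fromSpecStalk (ι d) q ⤳ ι d := by
      have := Set.mem_range_self (f := Z.fromSpecStalk (ι d)) q
      rwa [Scheme.range_fromSpecStalk] at this
    rw [← he', ι.isClosedEmbedding.isInducing.specializes_iff] at hsp
    obtain ⟨q', hq'⟩ : e' ∈ Set.range (D.fromSpecStalk d) := by
      rw [Scheme.range_fromSpecStalk]; exact hsp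
    have : q = PrimeSpectrum.comap (ι.stalkMap d).hom q' :=
      (Z.fromSpecStalk (ι d)).isEmbedding.injective ((he'.symm.trans (congrArg ι hq'.symm)).trans (key q').symm)
    rw [this]
    exact fun x hx => by
      show (ι.stalkMap d).hom x ∈ q'.asIdeal
      rw [RingHom.mem_ker.mp hx]
      exact zero_mem _

/-- An irreducible subset of a set is contained in a maximal one. -/
theorem exists_maximal_irreducible {X : Type u} [TopologicalSpace X] {F t : Set X} (ht : IsIrreducible t)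
    (htF : t ⊆ F) : ∃ G, t ⊆ G ∧ Maximal (fun S : Set X => IsIrreducible S ∧ S ⊆ F) G := by
  obtain ⟨G, htG, hG⟩ := zorn_subset_nonempty {S : Set X | IsPreirreducible S ∧ S ⊆ F}
    (fun c hc hchain _ => ⟨⋃₀ c, ⟨fun u v hu hv ⟨a, ⟨p, hp, hap⟩, hau⟩ ⟨b, ⟨q, hq, hbq⟩, hbv⟩ => by
      rcases hchain.total hp hq with h | h
      · obtain ⟨w, hw, hwuv⟩ := (hc hq).1 u v hu hv ⟨a, h hap, hau⟩ ⟨b, hbq, hbv⟩
        exact ⟨w, ⟨q, hq, hw⟩, hwuv⟩
      · obtain ⟨w, hw, hwuv⟩ := (hc hp).1 u v hu hv ⟨a, hap, hau⟩ ⟨b, h hbq, hbv⟩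
        exact ⟨w, ⟨p, hp, hw⟩, hwuv⟩, Set.sUnion_subset fun s hs => (hc hs).2⟩,
      fun s hs => Set.subset_sUnion_of_mem hs⟩) t ⟨ht.2, htF⟩
  exact ⟨G, htG, ⟨⟨⟨ht.1.mono htG, hG.1.1⟩, hG.1.2⟩, fun S hS hle => hG.2 ⟨hS.1.2, hS.2⟩ hle⟩⟩

/-- Let R be a complete discrete valuation ring with algebraically closed residue field, W and Z
integral normal schemes which are flat, of finite type and of dimension 2 over Spec R, and ψ : W ->
Z a finite surjective R-morphism. Let z be a closed point of Z in the special fibre, w a point of W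
with ψ(w) = z, Δ an irreducible component of the special fibre of Z containing z, and E the union of
the irreducible components of the special fibre of W which contain w and whose image under ψ is Δ.
For a curve C over the residue field and a closed point c, write m(C, c) for the number of points
over c in the normalization of the reduction of C, that is, the number of branches of C at c. Then
m(E, w) ≥ m(Δ, z). Here Δ and E are given arbitrary closed-subscheme structures D and E' (the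
numbers of branches depend only on the underlying reduced schemes). (The published statement asks W
and Z only to be normal; they are taken integral as well here.) -/
theorem result
    (R : Type u) [CommRing R] [IsDomain R] [IsDiscreteValuationRing R]
    [IsAdicComplete (IsLocalRing.maximalIdeal R) R] (hk : IsAlgClosed (IsLocalRing.ResidueField R))
    (W Z : Over (Spec (CommRingCat.of R))) [IsIntegral W.left] [IsIntegral Z.left]
    (hWn : Pi1.IsNormalScheme W.left) (hZn : Pi1.IsNormalScheme Z.left)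
    [Flat W.hom] [LocallyOfFiniteType W.hom] [QuasiCompact W.hom]
    [Flat Z.hom] [LocallyOfFiniteType Z.hom] [QuasiCompact Z.hom]
    (hdW : topologicalKrullDim W.left = 2) (hdZ : topologicalKrullDim Z.left = 2)
    (ψ : W ⟶ Z) [IsFinite ψ.left] [Surjective ψ.left]
    (z : Z.left) (hzc : IsClosed ({z} : Set Z.left)) (hz : z ∈ Models.specialFibreSet R Z)
    (w : W.left) (hw : ψ.left.base w = z)
    (Δ : Set Z.left) (hΔ : Δ ∈ Models.fibreComponents R Z) (hzΔ : z ∈ Δ)
    (D : Scheme.{u}) (ιD : D ⟶ Z.left) [IsClosedImmersion ιD] (hD : Set.range ιD.base = Δ)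
    (d : D) (hd : ιD.base d = z)
    (E' : Scheme.{u}) (ιE : E' ⟶ W.left) [IsClosedImmersion ιE]
    (hE : Set.range ιE.base = ⋃₀ {Γ | Γ ∈ Models.fibreComponents R W ∧ w ∈ Γ ∧ ψ.left.base '' Γ = Δ})
    (e : E') (he : ιE.base e = w) :
    Brnch.numBranchesAt D d ≤ Brnch.numBranchesAt E' e := by
  subst hd
  subst he
  obtain ⟨δ, hδ⟩ : ∃ δ, IsGenericPoint δ Δ := by
    have hc : IsClosed Δ := hD ▸ ιD.isClosedEmbedding.isClosed_range
    exact QuasiSober.sober hΔ.1.1 hc
  -- local rings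
  obtain ⟨V, hV, hzV, -⟩ := exists_isAffineOpen_mem_and_subset (U := (⊤ : Z.left.Opens)) (x := ιD d) trivial
  have hwV : ιE e ∈ ψ.left ⁻¹ᵁ V := by
    show ψ.left (ιE e) ∈ V
    rw [hw]; exact hzV
  have hWV : IsAffineOpen (ψ.left ⁻¹ᵁ V) := hV.preimage ψ.left
  haveI : Nonempty V := ⟨⟨_, hzV⟩⟩
  haveI : Nonempty (ψ.left ⁻¹ᵁ V : W.left.Opens) := ⟨⟨_, hwV⟩⟩
  haveI : IsLocallyNoetherian Z.left := LocallyOfFiniteType.isLocallyNoetherian Z.hom
  haveI : IsNoetherianRing Γ(Z.left, V) := IsLocallyNoetherian.component_noetherian ⟨V, hV⟩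
  let A := Z.left.presheaf.stalk (ιD d)
  let B := W.left.presheaf.stalk (ιE e)
  haveI := (hZn (ιD d)).1
  haveI := (hZn (ιD d)).2
  letI : Algebra Γ(Z.left, V) Γ(W.left, ψ.left ⁻¹ᵁ V) := (ψ.left.app V).hom.toAlgebra
  haveI : Module.Finite Γ(Z.left, V) Γ(W.left, ψ.left ⁻¹ᵁ V) := ψ.left.finite_app V hV
  letI : Algebra Γ(Z.left, V) A := TopCat.Presheaf.algebra_section_stalk Z.left.presheaf ⟨_, hzV⟩
  letI : Algebra Γ(W.left, ψ.left ⁻¹ᵁ V) B := TopCat.Presheaf.algebra_section_stalk W.left.presheaf ⟨_, hwV⟩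
  let m := (hV.primeIdealOf ⟨_, hzV⟩).asIdeal
  let n := (hWV.primeIdealOf ⟨_, hwV⟩).asIdeal
  haveI : IsLocalization.AtPrime A m := hV.isLocalization_stalk ⟨_, hzV⟩
  haveI : IsLocalization.AtPrime B n := hWV.isLocalization_stalk ⟨_, hwV⟩
  let φ : A →+* B :=
    (Z.left.presheaf.stalkSpecializes (specializes_of_eq hw) ≫ ψ.left.stalkMap (ιE e)).hom
  haveI : IsLocalHom φ := by
    haveI : IsIso (Z.left.presheaf.stalkSpecializes (specializes_of_eq hw)) :=
      ⟨⟨Z.left.presheaf.stalkSpecializes (specializes_of_eq hw.symm),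
        by rw [TopCat.Presheaf.stalkSpecializes_comp, TopCat.Presheaf.stalkSpecializes_refl],
        by rw [TopCat.Presheaf.stalkSpecializes_comp, TopCat.Presheaf.stalkSpecializes_refl]⟩⟩
    haveI h1 : IsLocalHom (Z.left.presheaf.stalkSpecializes (specializes_of_eq hw)).hom :=
      isLocalHom_of_isIso _
    haveI h2 : IsLocalHom (ψ.left.stalkMap (ιE e)).hom := inferInstance
    exact RingHom.isLocalHom_comp (ψ.left.stalkMap (ιE e)).hom (Z.left.presheaf.stalkSpecializes (specializes_of_eq hw)).hom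
  have hinj : Function.Injective (algebraMap Γ(Z.left, V) Γ(W.left, ψ.left ⁻¹ᵁ V)) :=
    (injective_iff_map_eq_zero _).mpr fun a ha => by
      by_contra h0
      obtain ⟨x, hx⟩ : ∃ x, x ∈ Z.left.basicOpen a := by
        by_contra hne
        exact h0 ((basicOpen_eq_bot_iff a).mp (eq_bot_iff.mpr fun x hx => (hne ⟨x, hx⟩).elim))
      obtain ⟨y, rfl⟩ := ψ.left.surjective x
      have h1 : y ∈ W.left.basicOpen (ψ.left.app V a) := by
        rw [← Scheme.preimage_basicOpen]
        exact hx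
      rw [show ψ.left.app V a = 0 from ha, Scheme.basicOpen_zero] at h1
      exact h1
  have hφ : φ.comp (algebraMap Γ(Z.left, V) A) =
      (algebraMap Γ(W.left, ψ.left ⁻¹ᵁ V) B).comp (algebraMap Γ(Z.left, V) Γ(W.left, ψ.left ⁻¹ᵁ V)) := by
    refine congrArg CommRingCat.Hom.hom (show Z.left.presheaf.germ V (ιD d) hzV ≫
      (Z.left.presheaf.stalkSpecializes (specializes_of_eq hw) ≫ ψ.left.stalkMap (ιE e)) =
      ψ.left.app V ≫ W.left.presheaf.germ (ψ.left ⁻¹ᵁ V) (ιE e) hwV from ?_)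
    rw [TopCat.Presheaf.germ_stalkSpecializes_assoc]
    exact Scheme.Hom.germ_stalkMap ψ.left V (ιE e) hwV
  have hn : n.comap (algebraMap Γ(Z.left, V) Γ(W.left, ψ.left ⁻¹ᵁ V)) = m := by
    rw [← IsLocalization.AtPrime.under_maximalIdeal B n, ← IsLocalization.AtPrime.under_maximalIdeal A m]
    show ((IsLocalRing.maximalIdeal B).comap _).comap _ = (IsLocalRing.maximalIdeal A).comap _
    rw [Ideal.comap_comap, ← hφ, ← Ideal.comap_comap, show (IsLocalRing.maximalIdeal B).comap φ =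
      IsLocalRing.maximalIdeal A from ((IsLocalRing.local_hom_TFAE φ).out 0 4).mp ‹IsLocalHom φ›]
  let I : Ideal A := RingHom.ker (ιD.stalkMap d).hom
  let J : Ideal B := RingHom.ker (ιE.stalkMap e).hom
  have hI : I ≠ ⊤ := RingHom.ker_ne_top _
  have hJ : J ≠ ⊤ := RingHom.ker_ne_top _
  -- points
  have hpt : ∀ q : PrimeSpectrum B, ψ.left (W.left.fromSpecStalk (ιE e) q) =
      Z.left.fromSpecStalk (ιD d) (PrimeSpectrum.comap φ q) := fun q => by
    show (W.left.fromSpecStalk (ιE e) ≫ ψ.left) q =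
      (Spec.map (Z.left.presheaf.stalkSpecializes (specializes_of_eq hw) ≫ ψ.left.stalkMap (ιE e)) ≫
        Z.left.fromSpecStalk (ιD d)) q
    rw [Spec.map_comp_assoc, Scheme.SpecMap_stalkSpecializes_fromSpecStalk,
      Scheme.SpecMap_stalkMap_fromSpecStalk]
  have h2 : ∀ q : Ideal B, q.IsPrime → J ≤ q → I ≤ q.comap φ := by
    intro q hq hJq
    have hξ := (ker_le_iff ιE e ⟨q, hq⟩).mp hJq
    rw [hE] at hξ
    obtain ⟨Γ', ⟨-, -, hΓ'⟩, hξΓ⟩ := hξ
    refine (ker_le_iff ιD d (PrimeSpectrum.comap φ ⟨q, hq⟩)).mpr ?_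
    rw [← hpt, hD, ← hΓ']
    exact ⟨_, hξΓ, rfl⟩
  have h1 : ∀ q : Ideal B, q.IsPrime → q.comap φ ∈ I.minimalPrimes → J ≤ q := by
    intro q hq hmin
    refine (ker_le_iff ιE e ⟨q, hq⟩).mpr ?_
    rw [hE]
    set ξ := W.left.fromSpecStalk (ιE e) (⟨q, hq⟩ : PrimeSpectrum B)
    let p : PrimeSpectrum A := PrimeSpectrum.comap φ ⟨q, hq⟩
    have hpΔ : Z.left.fromSpecStalk (ιD d) p ∈ Δ := hD ▸ (ker_le_iff ιD d p).mp hmin.1.2
    have hδd : δ ⤳ ιD d := hδ.specializes (hD ▸ ⟨d, rfl⟩)
    obtain ⟨p₀, hp₀⟩ : δ ∈ Set.range (Z.left.fromSpecStalk (ιD d)) := by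
      rw [Scheme.range_fromSpecStalk]; exact hδd
    have hp₀I : I ≤ p₀.asIdeal := (ker_le_iff ιD d p₀).mpr (by rw [hp₀, hD]; exact hδ.mem)
    have hle : p₀.asIdeal ≤ p.asIdeal := (PrimeSpectrum.le_iff_specializes (R := A) p₀ p).mpr
      ((Z.left.fromSpecStalk (ιD d)).isEmbedding.isInducing.specializes_iff.mp
        (hp₀ ▸ hδ.specializes hpΔ))
    have hξδ : ψ.left ξ = δ := by
      rw [hpt, ← hp₀]
      exact congrArg _ (PrimeSpectrum.ext (le_antisymm (hmin.2 ⟨p₀.isPrime, hp₀I⟩ hle) hle))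
    have hξw : ξ ⤳ ιE e := by
      have := Set.mem_range_self (f := W.left.fromSpecStalk (ιE e)) (⟨q, hq⟩ : PrimeSpectrum B)
      rwa [Scheme.range_fromSpecStalk] at this
    have hξs : ξ ∈ Models.specialFibreSet R W := by
      show W.hom ξ = IsLocalRing.closedPoint R
      rw [← Over.w ψ, Scheme.Hom.comp_apply, hξδ]
      exact hΔ.1.2 hδ.mem
    obtain ⟨G, hG, hGmax⟩ := exists_maximal_irreducible ((isIrreducible_singleton (x := ξ)).closure)
      (closure_minimal (Set.singleton_subset_iff.mpr hξs) (Models.isClosed_specialFibreSet R W))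
    have hξG : ξ ∈ G := hG (subset_closure rfl)
    have hGc : IsClosed G := isClosed_of_closure_subset (hGmax.2 ⟨hGmax.1.1.closure,
      closure_minimal hGmax.1.2 (Models.isClosed_specialFibreSet R W)⟩ subset_closure)
    refine ⟨G, ⟨hGmax, hξw.mem_closed hGc hξG, ?_⟩, hξG⟩
    have hsub : Δ ⊆ ψ.left '' G := by
      rw [← hδ.def]
      exact closure_minimal (Set.singleton_subset_iff.mpr ⟨ξ, hξG, hξδ⟩) (ψ.left.isClosedMap G hGc)
    refine le_antisymm (hΔ.2 ⟨hGmax.1.1.image _ ψ.left.continuous.continuousOn, ?_⟩ hsub) hsub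
    rintro _ ⟨x, hx, rfl⟩
    show Z.hom (ψ.left x) = IsLocalRing.closedPoint R
    rw [← Scheme.Hom.comp_apply, Over.w ψ]
    exact hGmax.1.2 hx
  have main := BranchIneq74.Basic.numBranches_le Γ(Z.left, V) Γ(W.left, ψ.left ⁻¹ᵁ V) A B m n hinj hn φ hφ
    I J hI hJ h1 h2
  haveI : Nontrivial (A ⧸ I) := Ideal.Quotient.nontrivial_iff.mpr hI
  haveI : IsLocalRing (A ⧸ I) := .of_surjective' _ Ideal.Quotient.mk_surjective
  haveI : Nontrivial (B ⧸ J) := Ideal.Quotient.nontrivial_iff.mpr hJ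
  haveI : IsLocalRing (B ⧸ J) := .of_surjective' _ Ideal.Quotient.mk_surjective
  exact (BranchIneq74.Basic.numBranches_congr
    (RingHom.quotientKerEquivOfSurjective (ιD.stalkMap_surjective d))).symm.le.trans
    (main.trans (BranchIneq74.Basic.numBranches_congr
      (RingHom.quotientKerEquivOfSurjective (ιE.stalkMap_surjective e))).le)

end Groth.Agent.S19910
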