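import Groth.Statements.S19911
import Groth.Agent.Lib.BranchIneq74.Strict
import Groth.Agent.Lib.ModelFibre.SmoothModel
import Groth.Agent.Lib.ModelFibre.SmoothGeneric
import Groth.Agent.Lib.SmoothCurve.Curve
import Groth.Agent.H25.Morse.Locus
import Groth.Agent.H25.Node.AtWorst
import Groth.Agent.H25.Node.FibreStalk
import Groth.Agent.H25.Node.Properties
import Groth.Agent.H25.Node.Scheme
import Groth.Agent.Lib.Cyc.SmoothReg
import Groth.Agent.H25.Branch.Congr
import Groth.Agent.H25.NagataStalk
import Groth.Agent.H46.UnibranchDim1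
import Groth.Agent.Lib.Unram.OneBranch
import Groth.Agent.S7889
import Mathlib.AlgebraicGeometry.ZariskisMainTheorem

set_option autoImplicit false
set_option linter.style.haveILetI false
set_option backward.isDefEq.respectTransparency.types false
universe u
open CategoryTheory CategoryTheory.Limits AlgebraicGeometry
open Models

namespace Groth.Agent.S19911

open Groth.Agent.Lib

/-- A finite morphism of integral curves hits the generic point. -/
theorem genericPoint_of_isFinite {X Y : Scheme.{u}} [IsIntegral X] [IsIntegral Y]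
    (hX : topologicalKrullDim X = 1) (hY : topologicalKrullDim Y = 1) (f : X ⟶ Y) [IsFinite f] :
    f (genericPoint X) = genericPoint Y := by
  rcases SmoothCurve.Curve.eq_genericPoint_or_isClosed hY (f (genericPoint X)) with h | h
  · exact h
  exfalso
  have hall : ∀ x : X, f x = f (genericPoint X) := fun x =>
    Set.mem_singleton_iff.mp ((((genericPoint_spec X).specializes (y := x) trivial).map f.continuous).mem_closed h rfl)
  let e : X ≃ₜ f.fiber (f (genericPoint X)) :=
    ((Homeomorph.Set.univ X).symm.trans (.setCongr (Set.eq_univ_of_forall hall).symm)).trans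
      (f.fiberHomeo _).symm
  haveI : DiscreteTopology X := e.symm.discreteTopology
  haveI : Subsingleton X := ⟨fun a b => by
    by_contra hne
    exact (PreirreducibleSpace.isPreirreducible_univ (X := X) {a} {b} (isOpen_discrete _) (isOpen_discrete _)
      ⟨a, trivial, rfl⟩ ⟨b, trivial, rfl⟩).elim fun z hz => hne (hz.2.1.symm.trans hz.2.2)⟩
  have := topologicalKrullDim_zero_of_discreteTopology X
  rw [hX] at this
  norm_num at this

/-- The points over the generic point of the base are the points of the generic fibre. -/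
theorem mem_range_of_eq_bot {R : Type u} [CommRing R] [IsDomain R] {X C : Scheme.{u}}
    {p : X ⟶ Spec (CommRingCat.of R)} {fC : C ⟶ Spec (CommRingCat.of (FractionRing R))} {i : C ⟶ X}
    (h : IsPullback i fC p (Spec.map (CommRingCat.ofHom (algebraMap R (FractionRing R)))))
    (x : X) (hx : (p x).asIdeal = ⊥) : ∃ c, i c = x := by
  let pt : Spec (CommRingCat.of (FractionRing R)) := (⟨⊥, Ideal.isPrime_bot⟩ : PrimeSpectrum (FractionRing R))
  have hpt : p x = Spec.map (CommRingCat.ofHom (algebraMap R (FractionRing R))) pt := by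
    refine PrimeSpectrum.ext ?_
    rw [hx]
    exact ((RingHom.injective_iff_ker_eq_bot _).mp (IsFractionRing.injective R (FractionRing R))).symm
  obtain ⟨z, hz, -⟩ := Scheme.Pullback.exists_preimage_pullback x pt hpt
  refine ⟨h.isoPullback.inv z, ?_⟩
  rw [← Scheme.Hom.comp_apply, h.isoPullback_inv_fst, hz]


theorem finite_app {X Y : Scheme.{u}} (φ : X ⟶ Y) {U V : Y.Opens} (hU : IsFinite (φ ∣_ U))
    (hV : IsAffineOpen V) (hVU : V ≤ U) :
    IsAffineOpen (φ ⁻¹ᵁ V) ∧ (φ.app V).hom.Finite := by
  obtain ⟨V', rfl⟩ : ∃ V', U.ι ''ᵁ V' = V :=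
    ⟨U.ι ⁻¹ᵁ V, by rw [Scheme.Hom.image_preimage_eq_opensRange_inf, Scheme.Opens.opensRange_ι, inf_eq_right.mpr hVU]⟩
  have hV' : IsAffineOpen V' := (U.ι.isAffineOpen_iff_of_isOpenImmersion).mp hV
  refine ⟨?_, ?_⟩
  · rw [← image_morphismRestrict_preimage]
    exact (hV'.preimage (φ ∣_ U)).image_of_isOpenImmersion _
  · have h := IsFinite.finite_app (φ ∣_ U) V' hV'
    rw [morphismRestrict_app] at h
    let e := (asIso (X.presheaf.map (eqToHom (image_morphismRestrict_preimage φ U V')).op)).commRingCatIsoToRingEquiv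
    have h2 := (RingHom.Finite.of_surjective e.symm.toRingHom e.symm.surjective).comp h
    exact (show e.symm.toRingHom.comp (φ.app (U.ι ''ᵁ V') ≫
      X.presheaf.map (eqToHom (image_morphismRestrict_preimage φ U V')).op).hom = (φ.app (U.ι ''ᵁ V')).hom from
        RingHom.ext fun a => e.symm_apply_apply _) ▸ h2

/-- The fibre at a singular point of a nodal family has two geometric branches. -/
theorem two_branches {R : Type u} [CommRing R] {X : Scheme.{u}} (f : X ⟶ Spec (CommRingCat.of R))
    (hf : Curv2.IsNodalFamily f) (x : X) (hx : x ∈ DualGr.nonsmoothPts f)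
    {I : Ideal (X.presheaf.stalk x)} (hI : I ≠ ⊤)
    (hIdef : I = (IsLocalRing.maximalIdeal _).map (f.stalkMap x).hom := by rfl) :
    haveI : Nontrivial (X.presheaf.stalk x ⧸ I) := Ideal.Quotient.nontrivial_iff.mpr hI
    haveI : IsLocalRing (X.presheaf.stalk x ⧸ I) := .of_surjective' _ Ideal.Quotient.mk_surjective
    Brnch.numGeomBranches (X.presheaf.stalk x ⧸ I) = 2 := by
  subst hIdef
  haveI := hf.1
  haveI := hf.2.1
  haveI : Nontrivial (X.presheaf.stalk x ⧸ (IsLocalRing.maximalIdeal _).map (f.stalkMap x).hom) :=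
    Ideal.Quotient.nontrivial_iff.mpr hI
  haveI : IsLocalRing (X.presheaf.stalk x ⧸ (IsLocalRing.maximalIdeal _).map (f.stalkMap x).hom) :=
    .of_surjective' _ Ideal.Quotient.mk_surjective
  let k := (Spec (CommRingCat.of R)).residueField (f x)
  let F := f.fiber (f x)
  letI : F.Over (Spec (CommRingCat.of k)) := ⟨f.fiberToSpecResidueField (f x)⟩
  haveI : LocallyOfFiniteType (F ↘ Spec (CommRingCat.of k)) :=
    inferInstanceAs (LocallyOfFiniteType (pullback.snd f ((Spec (CommRingCat.of R)).fromSpecResidueField (f x))))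
  have hnode : Curv2.IsNode k F (f.asFiber x) :=
    (H25.Node.AtWorst.smooth_or_node k F (H25.Node.AtWorst.dim_le_one F (hf.2.2 (f x)).1) (hf.2.2 (f x)).2
      (f.asFiber x)).resolve_left fun h => hx (H25.Morse.Locus.mem_smoothLocus f x h)
  letI := Curv2.stalkAlgebra k F (f.asFiber x)
  obtain ⟨-, hsep, hn⟩ := (H25.Node.Sch.isNode_iff k F (f.asFiber x)).1 hnode
  haveI := hsep
  haveI : Algebra.FormallyEtale k (IsLocalRing.ResidueField (F.presheaf.stalk (f.asFiber x))) :=
    Algebra.FormallyEtale.of_isSeparable k _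
  haveI : LocallyOfFiniteType (f.fiberToSpecResidueField (f x)) :=
    inferInstanceAs (LocallyOfFiniteType (pullback.snd f ((Spec (CommRingCat.of R)).fromSpecResidueField (f x))))
  have h2 := (H25.Node.Properties.properties k (F.presheaf.stalk (f.asFiber x))
    (H25.NagataStalk.isNagata_stalk (F ↘ Spec (CommRingCat.of k)) _) hn).2.2.2
  obtain ⟨g, hg, hker, -⟩ := H25.Node.FibreStalk.exists_stalkHom f (f x) (f.asFiber x) x
    (f.fiberι_asFiber x) rfl
  rw [← h2]
  exact H25.Branch.Congr.numGeomBranches_congr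
    ((Ideal.quotEquivOfEq hker.symm).trans (RingHom.quotientKerEquivOfSurjective hg))

/-- The fibre at a smooth point has one geometric branch. -/
theorem one_branch {R : Type u} [CommRing R] {X : Scheme.{u}} (f : X ⟶ Spec (CommRingCat.of R))
    [LocallyOfFinitePresentation f] (x : X) (hx : x ∈ f.smoothLocus)
    {I : Ideal (X.presheaf.stalk x)} (hI : I ≠ ⊤)
    (hIdef : I = (IsLocalRing.maximalIdeal _).map (f.stalkMap x).hom := by rfl) :
    haveI : Nontrivial (X.presheaf.stalk x ⧸ I) := Ideal.Quotient.nontrivial_iff.mpr hI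
    haveI : IsLocalRing (X.presheaf.stalk x ⧸ I) := .of_surjective' _ Ideal.Quotient.mk_surjective
    Brnch.numGeomBranches (X.presheaf.stalk x ⧸ I) = 1 := by
  subst hIdef
  haveI : Nontrivial (X.presheaf.stalk x ⧸ (IsLocalRing.maximalIdeal _).map (f.stalkMap x).hom) :=
    Ideal.Quotient.nontrivial_iff.mpr hI
  haveI : IsLocalRing (X.presheaf.stalk x ⧸ (IsLocalRing.maximalIdeal _).map (f.stalkMap x).hom) :=
    .of_surjective' _ Ideal.Quotient.mk_surjective
  let k := (Spec (CommRingCat.of R)).residueField (f x)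
  let F := f.fiber (f x)
  letI : F.Over (Spec (CommRingCat.of k)) := ⟨f.fiberToSpecResidueField (f x)⟩
  haveI : LocallyOfFiniteType (F ↘ Spec (CommRingCat.of k)) :=
    inferInstanceAs (LocallyOfFiniteType (pullback.snd f ((Spec (CommRingCat.of R)).fromSpecResidueField (f x))))
  have hreg := H25.Node.AtWorst.regular_of_smooth k F (x := f.asFiber x) (H25.Morse.Locus.asFiber_mem f x hx)
  obtain ⟨g, hg, hker, -⟩ := H25.Node.FibreStalk.exists_stalkHom f (f x) (f.asFiber x) x
    (f.fiberι_asFiber x) rfl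
  rw [← (Unram.OneBranch.numGeomBranches_eq_one_iff _).mpr (H46.UnibranchDim1.isGeomUnibranch_of_regular hreg)]
  exact H25.Branch.Congr.numGeomBranches_congr
    ((Ideal.quotEquivOfEq hker.symm).trans (RingHom.quotientKerEquivOfSurjective hg))

/-- Let R be a discrete valuation ring with fraction field K, X and Y smooth proper curves over K with
H^0(X, O_X) = K = H^0(Y, O_Y) and dim_K H^1(Y, O_Y) ≥ 2, and f : X -> Y a finite K-morphism. Let XR
and YR be stable models of X and Y over R: proper over Spec R with structure morphisms that are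
at-worst-nodal families of curves, such that no geometric fibre has an irreducible component which
is (the image of a closed immersion of) a projective line carrying at most two non-smooth points of
the fibre, and with generic fibres identified with X and Y through iX and iY. Let φ : XR -> YR be an
R-morphism extending f. If y is a point of the special fibre of YR which is a singular point of that
fibre (the structure morphism of YR is not smooth at y) and the set φ⁻¹(y) is finite, then φ⁻¹(y) is
contained in the singular locus of the special fibre of XR (the structure morphism of XR is smooth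
at no point of φ⁻¹(y)). -/
theorem result
    (R : Type u) [CommRing R] [IsDomain R] [IsDiscreteValuationRing R]
    (X Y : Scheme.{u}) (fX : X ⟶ Spec (CommRingCat.of (FractionRing R))) (fY : Y ⟶ Spec (CommRingCat.of (FractionRing R)))
    (hX : Curve.IsSmoothProperCurve (FractionRing R) X fX) (hX0 : IsIso fX.appTop)
    (hY : Curve.IsSmoothProperCurve (FractionRing R) Y fY) (hY0 : IsIso fY.appTop)
    (hg : 2 ≤ Models.curveGenus (FractionRing R) Y fY)
    (f : X ⟶ Y) [IsFinite f] (hf : f ≫ fY = fX)
    (XR : Scheme.{u}) (p : XR ⟶ Spec (CommRingCat.of R)) [IsProper p] (hp : Curv2.IsNodalFamily p)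
    (hps : SSMod.NoExcComp (𝟙 (Spec (CommRingCat.of R))) (Scheme.emptyTo XR) p)
    (iX : X ⟶ XR) (hiX : IsPullback iX fX p (Spec.map (CommRingCat.ofHom (algebraMap R (FractionRing R)))))
    (YR : Scheme.{u}) (q : YR ⟶ Spec (CommRingCat.of R)) [IsProper q] (hq : Curv2.IsNodalFamily q)
    (hqs : SSMod.NoExcComp (𝟙 (Spec (CommRingCat.of R))) (Scheme.emptyTo YR) q)
    (iY : Y ⟶ YR) (hiY : IsPullback iY fY q (Spec.map (CommRingCat.ofHom (algebraMap R (FractionRing R)))))
    (φ : XR ⟶ YR) (hφ : φ ≫ q = p) (hφf : iX ≫ φ = f ≫ iY)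
    (y : YR) (hys : q.base y = IsLocalRing.closedPoint R) (hy : y ∈ DualGr.nonsmoothPts q)
    (hfin : (φ.base ⁻¹' ({y} : Set YR)).Finite) :
    φ.base ⁻¹' ({y} : Set YR) ⊆ DualGr.nonsmoothPts p := by
  subst hφ
  intro x hx
  obtain rfl : φ.base x = y := hx
  by_contra hxs
  haveI hfl := hp.1
  haveI hlfp := hp.2.1
  haveI hflq := hq.1
  haveI hlfpq := hq.2.1
  haveI : IsProper φ := IsProper.of_comp φ q
  haveI := hX.2.2.1
  haveI := hY.2.2.1
  haveI := hY.2.1
  haveI : IsIntegral XR := ModelFibre.SmoothModel.isIntegral (φ ≫ q) fX iX hiX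
  haveI : IsIntegral YR := ModelFibre.SmoothModel.isIntegral q fY iY hiY
  haveI := ModelFibre.SmoothGeneric.isOpenImmersion_gK hiX
  haveI := ModelFibre.SmoothGeneric.isOpenImmersion_gK hiY
  haveI : IsLocallyNoetherian YR := LocallyOfFiniteType.isLocallyNoetherian q
  -- the target is normal
  have hnor := S7889.result q hq (fun z hz => by
    obtain ⟨c, rfl⟩ := mem_range_of_eq_bot hiY z hz
    haveI := Cyc.SmoothReg.isRegularLocalRing_stalk fY c
    haveI := Regular.Quotient.isDomain (Y.presheaf.stalk c)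
    haveI := Regular.UFD.isIntegrallyClosed (Y.presheaf.stalk c)
    let e := (asIso (iY.stalkMap c)).commRingCatIsoToRingEquiv
    exact ⟨e.toMulEquiv.isDomain, IsIntegrallyClosed.of_equiv e.symm⟩) (φ x)
  -- `φ` is dominant
  have hgen : φ (genericPoint XR) = genericPoint YR := by
    rw [← genericPoint_eq_of_isOpenImmersion iX, ← genericPoint_eq_of_isOpenImmersion iY,
      ← Scheme.Hom.comp_apply, hφf, Scheme.Hom.comp_apply,
      genericPoint_of_isFinite hX.2.2.2 hY.2.2.2 f]
  -- an affine neighbourhood of `y` over which `φ` is finite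
  obtain ⟨U, hyU, hUfin⟩ := exists_isFinite_morphismRestrict_of_finite_preimage_singleton φ (φ x) hfin
  obtain ⟨V, hV, hyV, hVU⟩ := exists_isAffineOpen_mem_and_subset (U := U) (x := φ x) hyU
  let W : XR.Opens := φ ⁻¹ᵁ V
  have hxW : x ∈ W := hyV
  have hfinV : IsAffineOpen W ∧ (φ.app V).hom.Finite := finite_app φ hUfin hV hVU
  obtain ⟨hW, hfinApp⟩ := hfinV
  haveI : Nonempty V := ⟨⟨_, hyV⟩⟩
  haveI : Nonempty W := ⟨⟨_, hxW⟩⟩
  letI : Algebra Γ(YR, V) Γ(XR, W) := (φ.app V).hom.toAlgebra
  haveI : Module.Finite Γ(YR, V) Γ(XR, W) := hfinApp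
  let A := YR.presheaf.stalk (φ x)
  let B := XR.presheaf.stalk x
  haveI := hnor.1
  haveI := hnor.2
  letI : Algebra Γ(YR, V) A := TopCat.Presheaf.algebra_section_stalk YR.presheaf ⟨_, hyV⟩
  letI : Algebra Γ(XR, W) B := TopCat.Presheaf.algebra_section_stalk XR.presheaf ⟨_, hxW⟩
  let m := (hV.primeIdealOf ⟨_, hyV⟩).asIdeal
  let n := (hW.primeIdealOf ⟨_, hxW⟩).asIdeal
  haveI : IsLocalization.AtPrime A m := hV.isLocalization_stalk ⟨_, hyV⟩
  haveI : IsLocalization.AtPrime B n := hW.isLocalization_stalk ⟨_, hxW⟩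
  let ψ : A →+* B := (φ.stalkMap x).hom
  have hinj : Function.Injective (algebraMap Γ(YR, V) Γ(XR, W)) :=
    (injective_iff_map_eq_zero _).mpr fun a ha => by
      by_contra h0
      have hne : YR.basicOpen a ≠ ⊥ := fun h => h0 ((basicOpen_eq_bot_iff a).mp h)
      have hmem : genericPoint YR ∈ YR.basicOpen a :=
        ((genericPoint_spec YR).mem_open_set_iff (YR.basicOpen a).2).mpr (by
          obtain ⟨z, hz⟩ : ∃ z, z ∈ YR.basicOpen a := by
            by_contra hn
            exact hne (eq_bot_iff.mpr fun z hz => (hn ⟨z, hz⟩).elim)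
          exact ⟨z, trivial, hz⟩)
      have h1 : genericPoint XR ∈ XR.basicOpen (φ.app V a) := by
        rw [← Scheme.preimage_basicOpen]
        show φ (genericPoint XR) ∈ YR.basicOpen a
        rwa [hgen]
      rw [show φ.app V a = 0 from ha, Scheme.basicOpen_zero] at h1
      exact h1
  have hψ : ψ.comp (algebraMap Γ(YR, V) A) =
      (algebraMap Γ(XR, W) B).comp (algebraMap Γ(YR, V) Γ(XR, W)) :=
    congrArg CommRingCat.Hom.hom (Scheme.Hom.germ_stalkMap φ V x hxW)
  -- the ideals of the special fibres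
  let I : Ideal A := (IsLocalRing.maximalIdeal _).map (q.stalkMap (φ x)).hom
  let J : Ideal B := (IsLocalRing.maximalIdeal _).map ((φ ≫ q).stalkMap x).hom
  have hIJ : I.map ψ = J := by
    show _ = Ideal.map _ _
    rw [Scheme.Hom.stalkMap_comp]
    exact Ideal.map_map _ _
  have hI : I ≠ ⊤ := by
    haveI : IsLocalHom (q.stalkMap (φ x)).hom := inferInstance
    have h : (IsLocalRing.maximalIdeal _).map (q.stalkMap (φ x)).hom ≤ IsLocalRing.maximalIdeal A :=
      ((IsLocalRing.local_hom_TFAE (q.stalkMap (φ x)).hom).out 0 2).mp this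
    exact (h.trans_lt
      (IsLocalRing.maximalIdeal.isMaximal A).ne_top.lt_top).ne
  have hJ : J ≠ ⊤ := by
    haveI : IsLocalHom ((φ ≫ q).stalkMap x).hom := inferInstance
    have h : (IsLocalRing.maximalIdeal _).map ((φ ≫ q).stalkMap x).hom ≤ IsLocalRing.maximalIdeal B :=
      ((IsLocalRing.local_hom_TFAE ((φ ≫ q).stalkMap x).hom).out 0 2).mp this
    exact (h.trans_lt
      (IsLocalRing.maximalIdeal.isMaximal B).ne_top.lt_top).ne
  have main := BranchIneq74.Strict.numGeomBranches_le Γ(YR, V) Γ(XR, W) A B m n hinj ψ hψ I J hI hJ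
    (fun Q _ hQ => hIJ ▸ Ideal.map_le_iff_le_comap.mpr hQ.1.2)
    (fun Q _ hQ => Ideal.map_le_iff_le_comap.mp (hIJ ▸ hQ))
  haveI : Nontrivial (A ⧸ I) := Ideal.Quotient.nontrivial_iff.mpr hI
  haveI : IsLocalRing (A ⧸ I) := .of_surjective' _ Ideal.Quotient.mk_surjective
  haveI : Nontrivial (B ⧸ J) := Ideal.Quotient.nontrivial_iff.mpr hJ
  haveI : IsLocalRing (B ⧸ J) := .of_surjective' _ Ideal.Quotient.mk_surjective
  rw [two_branches q hq (φ x) hy hI, one_branch (φ ≫ q) x (not_not.mp hxs) hJ] at main
  norm_num at main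

end Groth.Agent.S19911
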