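import Groth.Statements.S19912
import Groth.Agent.Lib.Regular.Quotient

set_option autoImplicit false
universe u
open CategoryTheory CategoryTheory.Limits AlgebraicGeometry
open Models

namespace Groth.Agent.S19912

/-- Let R be a discrete valuation ring with fraction field K and YR a scheme over Spec R. Let V be a
discrete valuation ring which is an R-algebra in such a way that the maximal ideal of R generates
the maximal ideal of V (ramification index one), and let σ : Spec V -> YR be a morphism over Spec R
sending the closed point of Spec V to y. If the local ring of YR at y is regular, then the local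
ring at y of the special fibre of YR, namely O_{YR,y}/𝔪_R O_{YR,y}, is regular. (The published
statement takes YR a normal projective flat model of a smooth projective geometrically connected
curve Y over K and phrases the hypothesis through a point Q of Y rational over an extension L of K
unramified over K with y in the closure of Q: by the valuative criterion such a point yields a
morphism as above from the spectrum of the localization of the integral closure of R in L at a
maximal ideal over y, which is the form used here.) -/
theorem result
    (R : Type u) [CommRing R] [IsDomain R] [IsDiscreteValuationRing R]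
    (YR : Over (Spec (CommRingCat.of R)))
    (V : Type u) [CommRing V] [IsDomain V] [IsDiscreteValuationRing V] [Algebra R V]
    (hV : Ideal.map (algebraMap R V) (IsLocalRing.maximalIdeal R) = IsLocalRing.maximalIdeal V)
    (σ : Spec (CommRingCat.of V) ⟶ YR.left)
    (hσ : σ ≫ YR.hom = Spec.map (CommRingCat.ofHom (algebraMap R V)))
    (y : YR.left) (hy : σ.base (IsLocalRing.closedPoint V) = y)
    (hreg : IsRegularLocalRing (YR.left.presheaf.stalk y)) :
    IsRegularLocalRing (YR.left.presheaf.stalk y ⧸
      Ideal.map (Models.stalkHom R YR y) (IsLocalRing.maximalIdeal R)) := by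
  subst hy
  obtain ⟨π, hπ⟩ := IsDiscreteValuationRing.exists_irreducible R
  set A := YR.left.presheaf.stalk (σ.base (IsLocalRing.closedPoint V)) with hA
  let φ : A →+* V := (Scheme.stalkClosedPointTo σ).hom
  have hloc : IsLocalHom φ := Scheme.isLocalHom_stalkClosedPointTo' σ
  have key : YR.left.presheaf.germ ⊤ (σ.base (IsLocalRing.closedPoint V)) trivial ≫
      Scheme.stalkClosedPointTo σ = σ.appTop ≫ (Scheme.ΓSpecIso (CommRingCat.of V)).hom := by
    rw [Scheme.germ_stalkClosedPointTo]
    simp
  have hcomp : ∀ r : R, φ (Models.stalkHom R YR _ r) = algebraMap R V r := by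
    intro r
    have h1 := congrArg (fun g => (CommRingCat.Hom.hom g) ((YR.hom.appTop).hom
      ((Scheme.ΓSpecIso (CommRingCat.of R)).inv.hom r))) key
    refine h1.trans ?_
    have h2 : (Scheme.ΓSpecIso (CommRingCat.of R)).inv ≫ YR.hom.appTop ≫ σ.appTop ≫
        (Scheme.ΓSpecIso (CommRingCat.of V)).hom = CommRingCat.ofHom (algebraMap R V) := by
      rw [← Category.assoc YR.hom.appTop, ← Scheme.Hom.comp_appTop, hσ,
        Scheme.ΓSpecIso_naturality, Iso.inv_hom_id_assoc]
    exact congrArg (fun g => (CommRingCat.Hom.hom g) r) h2
  rw [(IsDiscreteValuationRing.irreducible_iff_uniformizer π).mp hπ, Ideal.map_span, Set.image_singleton]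
  rw [(IsDiscreteValuationRing.irreducible_iff_uniformizer π).mp hπ, Ideal.map_span,
    Set.image_singleton] at hV
  have hV' : Irreducible (algebraMap R V π) :=
    (IsDiscreteValuationRing.irreducible_iff_uniformizer _).mpr hV.symm
  refine (Groth.Agent.Lib.Regular.Quotient.quotient_singleton ?_ ?_).1
  · rw [IsLocalRing.mem_maximalIdeal, mem_nonunits_iff]
    intro hu
    exact hV'.not_isUnit (hcomp π ▸ hu.map φ)
  · intro h2
    have h3 : (IsLocalRing.maximalIdeal A).map φ ≤ IsLocalRing.maximalIdeal V :=
      ((IsLocalRing.local_hom_TFAE φ).out 0 2).mp hloc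
    have h4 := (Ideal.map_pow φ (IsLocalRing.maximalIdeal A) 2).le.trans (Ideal.pow_right_mono h3 2)
      (Ideal.mem_map_of_mem φ h2)
    rw [hcomp, ← hV, Ideal.span_singleton_pow, Ideal.mem_span_singleton] at h4
    obtain ⟨c, hc⟩ := h4
    refine hV'.not_isUnit (IsUnit.of_mul_eq_one c ?_)
    have h5 : algebraMap R V π * (algebraMap R V π * c) = algebraMap R V π * 1 := by linear_combination -hc
    exact mul_left_cancel₀ hV'.ne_zero h5

end Groth.Agent.S19912
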