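import Groth.Statements.S1992
import Mathlib.RingTheory.Henselian
import Mathlib.RingTheory.Polynomial.ScaleRoots
import Mathlib.RingTheory.Localization.Integral
import Mathlib.RingTheory.LocalRing.ResidueField.Basic
import Mathlib.FieldTheory.IsSepClosed

set_option autoImplicit false
universe u
open Polynomial
open EtAlg

namespace Groth.Agent.S1992

/-- Let A be an absolutely integrally closed ring, i.e. every monic polynomial over A is a product of
linear factors X - a. Then for every prime p of A the localization A_p is a strictly henselian local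
ring (henselian with separably closed residue field). -/
theorem result (A : Type u) [CommRing A]
    (hA : ∀ f : A[X], f.Monic → ∃ s : Multiset A, f = (s.map fun a => X - C a).prod)
    (p : Ideal A) [p.IsPrime] :
    EtCoh.IsStrictlyHenselianLocalRing (Localization.AtPrime p) := by
  classical
  let Ap := Localization.AtPrime p
  -- a monic polynomial over `Ap` with a simple root modulo `m` has a root
  have key : ∀ f : Ap[X], f.Monic → ∀ a₀ : Ap, f.eval a₀ ∈ IsLocalRing.maximalIdeal Ap →
      ∃ r, f.IsRoot r ∧ r - a₀ ∈ IsLocalRing.maximalIdeal Ap := by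
    intro f hf a₀ ha₀
    obtain ⟨s, hs⟩ := IsLocalization.exist_integer_multiples_of_finset p.primeCompl
      (Finset.image f.coeff (Finset.range (f.natDegree + 1)))
    set S := algebraMap A Ap s
    have hu : IsUnit S := IsLocalization.map_units Ap s
    have hlift : f.scaleRoots S ∈ Polynomial.lifts (algebraMap A Ap) := by
      rw [Polynomial.lifts_iff_coeff_lifts]
      intro i
      rw [Polynomial.coeff_scaleRoots]
      rcases lt_trichotomy i f.natDegree with hi | hi | hi
      · obtain ⟨a, ha⟩ := hs (f.coeff i) (Finset.mem_image_of_mem _ (Finset.mem_range.2 (by omega)))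
        refine ⟨a * (s : A) ^ (f.natDegree - i - 1), ?_⟩
        have hd : f.natDegree - i = (f.natDegree - i - 1) + 1 := by omega
        rw [map_mul, ha, map_pow, Algebra.smul_def]
        conv_rhs => rw [hd, pow_succ]
        ring
      · exact ⟨1, by rw [map_one, hi, Nat.sub_self, pow_zero, mul_one, hf.coeff_natDegree]⟩
      · exact ⟨0, by rw [map_zero, Polynomial.coeff_eq_zero_of_natDegree_lt hi, zero_mul]⟩
    obtain ⟨F, hF, -, hFm⟩ := Polynomial.lifts_and_natDegree_eq_and_monic hlift
      ((Polynomial.monic_scaleRoots_iff S).2 hf)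
    obtain ⟨roots, hroots⟩ := hA F hFm
    have hev : ∀ z, S ^ f.natDegree * f.eval z =
        ((roots.map fun a => S * z - algebraMap A Ap a)).prod := by
      intro z
      have h := Polynomial.scaleRoots_eval₂_mul (p := f) (RingHom.id Ap) z S
      simp only [RingHom.id_apply, Polynomial.eval₂_id] at h
      rw [← h, ← hF, hroots, Polynomial.map_multiset_prod, Multiset.map_map,
        Polynomial.eval_multiset_prod, Multiset.map_map]
      simp
    obtain ⟨a, ha, ham⟩ : ∃ a ∈ roots, S * a₀ - algebraMap A Ap a ∈ IsLocalRing.maximalIdeal Ap := by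
      have hm : (roots.map fun a => S * a₀ - algebraMap A Ap a).prod ∈ IsLocalRing.maximalIdeal Ap :=
        hev a₀ ▸ Ideal.mul_mem_left _ _ ha₀
      obtain ⟨y, hy, hym⟩ := Ideal.IsPrime.multiset_prod_mem_iff_exists_mem
        (Ideal.IsMaximal.isPrime (IsLocalRing.maximalIdeal.isMaximal Ap)) _ |>.1 hm
      obtain ⟨a, ha, rfl⟩ := Multiset.mem_map.1 hy
      exact ⟨a, ha, hym⟩
    refine ⟨hu.unit⁻¹.val * algebraMap A Ap a, ?_, ?_⟩
    · have h := hev (hu.unit⁻¹.val * algebraMap A Ap a)
      rw [Multiset.prod_eq_zero (Multiset.mem_map.2 ⟨a, ha, by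
        rw [← mul_assoc, IsUnit.mul_val_inv, one_mul, sub_self]⟩)] at h
      exact (hu.pow f.natDegree).mul_right_eq_zero.1 h
    · have := Ideal.mul_mem_left (IsLocalRing.maximalIdeal Ap) (-hu.unit⁻¹.val) ham
      rwa [show -hu.unit⁻¹.val * (S * a₀ - algebraMap A Ap a) =
        hu.unit⁻¹.val * algebraMap A Ap a - hu.unit⁻¹.val * S * a₀ by ring, IsUnit.val_inv_mul,
        one_mul] at this
  refine ⟨{ is_henselian := fun f hf a₀ h₁ _ => key f hf a₀ h₁ },
    IsSepClosed.of_exists_root _ fun P hP hPirr _ => ?_⟩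
  obtain ⟨F, hF, -, hFm⟩ := Polynomial.lifts_and_natDegree_eq_and_monic
    (Polynomial.map_surjective (IsLocalRing.residue Ap) IsLocalRing.residue_surjective P |>.elim
      fun Q hQ => (Polynomial.mem_lifts P).2 ⟨Q, hQ⟩) hP
  obtain ⟨s, hs⟩ := IsLocalization.exist_integer_multiples_of_finset p.primeCompl
    (Finset.image F.coeff (Finset.range (F.natDegree + 1)))
  set S := algebraMap A Ap s
  have hlift : F.scaleRoots S ∈ Polynomial.lifts (algebraMap A Ap) := by
    rw [Polynomial.lifts_iff_coeff_lifts]
    intro i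
    rw [Polynomial.coeff_scaleRoots]
    rcases lt_trichotomy i F.natDegree with hi | hi | hi
    · obtain ⟨a, ha⟩ := hs (F.coeff i) (Finset.mem_image_of_mem _ (Finset.mem_range.2 (by omega)))
      refine ⟨a * (s : A) ^ (F.natDegree - i - 1), ?_⟩
      have hd : F.natDegree - i = (F.natDegree - i - 1) + 1 := by omega
      rw [map_mul, ha, map_pow, Algebra.smul_def]
      conv_rhs => rw [hd, pow_succ]
      ring
    · exact ⟨1, by rw [map_one, hi, Nat.sub_self, pow_zero, mul_one, hFm.coeff_natDegree]⟩
    · exact ⟨0, by rw [map_zero, Polynomial.coeff_eq_zero_of_natDegree_lt hi, zero_mul]⟩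
  obtain ⟨G, hG, -, hGm⟩ := Polynomial.lifts_and_natDegree_eq_and_monic hlift
    ((Polynomial.monic_scaleRoots_iff S).2 hFm)
  obtain ⟨roots, hroots⟩ := hA G hGm
  have hne : roots ≠ 0 := by
    rintro rfl
    have h1 : (F.scaleRoots S).natDegree = 0 := by rw [← hG, hroots]; simp
    rw [Polynomial.natDegree_scaleRoots] at h1
    have h2 := hPirr.natDegree_pos
    rw [← hF, hFm.natDegree_map, h1] at h2
    exact lt_irrefl _ h2
  obtain ⟨a, ha⟩ := Multiset.exists_mem_of_ne_zero hne
  have hu : IsUnit S := IsLocalization.map_units Ap s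
  refine ⟨IsLocalRing.residue Ap (hu.unit⁻¹.val * algebraMap A Ap a), ?_⟩
  have hr : Polynomial.eval₂ (IsLocalRing.residue Ap) (IsLocalRing.residue Ap (hu.unit⁻¹.val * algebraMap A Ap a)) F =
      IsLocalRing.residue Ap (Polynomial.eval₂ (RingHom.id Ap) (hu.unit⁻¹.val * algebraMap A Ap a) F) := by
    rw [Polynomial.hom_eval₂, RingHom.comp_id]
  rw [← hF, Polynomial.eval_map, hr]
  have h := Polynomial.scaleRoots_eval₂_mul (p := F) (RingHom.id Ap) (hu.unit⁻¹.val * algebraMap A Ap a) S
  simp only [RingHom.id_apply, Polynomial.eval₂_id, ← mul_assoc, IsUnit.mul_val_inv, one_mul] at h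
  rw [← hG, Polynomial.eval_map, Polynomial.eval₂_at_apply, hroots, Polynomial.eval_multiset_prod,
    Multiset.prod_eq_zero (Multiset.mem_map.2 ⟨X - C a, Multiset.mem_map.2 ⟨a, ha, rfl⟩, by simp⟩),
    map_zero] at h
  rw [show Polynomial.eval₂ (RingHom.id Ap) _ F = 0 from (hu.pow F.natDegree).mul_right_eq_zero.1 h.symm,
    map_zero]

end Groth.Agent.S1992
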