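import Groth.Statements.S4463
import Groth.Agent.H34.Stein.Fibre
-- import your own Groth.Agent.* helpers here

set_option autoImplicit false
universe u
open Coherent

namespace Groth.Agent.S4463

open AlgebraicGeometry CategoryTheory in
/-- Stein factorisation. Let Y be locally Noetherian and f : X → Y proper, and let X → Y' → Y be its
Stein factorisation, Y' being the spectrum of the O_Y-algebra f_* O_X (realised here as the relative
normalization of Y in X, which is that spectrum because f_* O_X is integral over O_Y for f
universally closed). Then for every point y of Y the fibre of Y' → Y at y is finite, the map X_y →
Y'_y induced on fibres is surjective, and two points of X_y have the same image if and only if they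
lie in the same connected component of X_y: the connected components of X_y are in bijection with
the points of Y'_y. -/
theorem result {X Y : Scheme.{u}} (f : X ⟶ Y) [IsProper f]
    [IsLocallyNoetherian Y] (y : Y) :
    Finite ↥(f.fromNormalization.fiber y) ∧
    Function.Surjective (CohIII.fiberMapOver f.toNormalization f f.fromNormalization
        f.toNormalization_fromNormalization y).base ∧
    ∀ x x' : ↥(f.fiber y),
      (CohIII.fiberMapOver f.toNormalization f f.fromNormalization f.toNormalization_fromNormalization y).base x =
        (CohIII.fiberMapOver f.toNormalization f f.fromNormalization f.toNormalization_fromNormalization y).base x' ↔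
      connectedComponent x = connectedComponent x' := by
  have := Groth.Agent.H34.Stein.isFinite_fromNormalization f
  have := Groth.Agent.H34.Stein.isProper_toNormalization f
  have := Groth.Agent.H34.Stein.geometricallyConnected_toNormalization f
  let F := f.fromNormalization.fiber y
  let b : f.fiber y ⟶ F :=
    CohIII.fiberMapOver f.toNormalization f f.fromNormalization f.toNormalization_fromNormalization y
  have hsq : IsPullback (f.fiberι y) b f.toNormalization (f.fromNormalization.fiberι y) := by
    refine IsPullback.of_bot ?_ (Limits.pullback.lift_fst _ _ _).symm
      (IsPullback.of_hasPullback f.fromNormalization (Y.fromSpecResidueField y))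
    rw [show b ≫ Limits.pullback.snd _ _ = Limits.pullback.snd f (Y.fromSpecResidueField y) from
      (Limits.pullback.lift_snd _ _ _).trans (Category.comp_id _), f.toNormalization_fromNormalization]
    exact IsPullback.of_hasPullback f (Y.fromSpecResidueField y)
  have : GeometricallyConnected b := MorphismProperty.of_isPullback hsq inferInstance
  have : IsProper b := MorphismProperty.of_isPullback hsq inferInstance
  have hd := f.fromNormalization.isDiscrete_preimage_singleton y
  have : DiscreteTopology ↥(f.fromNormalization.base ⁻¹' {y}) := hd.to_subtype
  have : DiscreteTopology ↥F := (f.fromNormalization.fiberHomeo y).symm.discreteTopology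
  have hfin : Finite ↥F :=
    haveI := (f.fromNormalization.finite_preimage_singleton y).to_subtype
    Finite.of_equiv _ (f.fromNormalization.fiberHomeo y).symm.toEquiv
  refine ⟨hfin, b.surjective, fun x x' => ⟨fun h => ?_, fun h => ?_⟩⟩
  · refine connectedComponent_eq ?_
    exact (b.isConnected_preimage_singleton (b.base x)).isPreconnected.subset_connectedComponent
      (x := x) rfl h.symm
  · have hx : x' ∈ connectedComponent x := h ▸ mem_connectedComponent
    exact ((b.continuous.image_connectedComponent_eq_singleton x).subset ⟨x', hx, rfl⟩).symm

end Groth.Agent.S4463
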