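import Groth.Statements.S1993
import Groth.Agent.H48.Hens

set_option autoImplicit false
set_option linter.style.haveILetI false
universe u
open EtAlg

namespace Groth.Agent.S1993

theorem quotient_eq_image {A B : Type u} [CommRing A] [CommRing B] [Algebra A B] (I : Ideal A)
    (g : B →+* A ⧸ I)
    (key : Ideal.Quotient.mk (I.map (algebraMap A B)) =
      (Ideal.quotientMap _ (algebraMap A B) Ideal.le_comap_map).comp g) (b : B) :
    ∃ a : A, b - algebraMap A B a ∈ I.map (algebraMap A B) := by
  obtain ⟨a, ha⟩ := Ideal.Quotient.mk_surjective (g b)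
  refine ⟨a, Ideal.Quotient.eq.1 ?_⟩
  have h2 := RingHom.congr_fun key b
  rw [RingHom.comp_apply, ← ha] at h2
  exact h2

/-- Let A be a local ring with maximal ideal m and B a local A-algebra with local structure map. Then B
is a henselization of the pair (A, m) if and only if B is a henselization of the local ring A (both
in the sense of the universal properties). -/
theorem result (A B : Type u) [CommRing A] [IsLocalRing A] [CommRing B]
    [IsLocalRing B] [Algebra A B] [IsLocalHom (algebraMap A B)] :
    Hens2.IsPairHenselization A (IsLocalRing.maximalIdeal A) B ↔ Hensel.IsHenselization A B := by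
  set m := IsLocalRing.maximalIdeal A with hm
  have hmB : m.map (algebraMap A B) ≤ IsLocalRing.maximalIdeal B :=
    IsLocalRing.map_maximalIdeal_le _
  constructor
  · intro hB
    have hk : HenselianRing (A ⧸ m) (⊥ : Ideal (A ⧸ m)) :=
      H48.Hens.henselianRing_of_nil _ bot_le
    have hq : HenselianRing (B ⧸ m.map (algebraMap A B)) (⊥ : Ideal _) :=
      H48.Hens.henselianRing_of_nil _ bot_le
    obtain ⟨g, hg, -⟩ := hB.2 (A ⧸ m) ⊥ (Ideal.Quotient.mk m) hk (by simp)
    have hle : IsLocalRing.maximalIdeal B ≤ m.map (algebraMap A B) := by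
      intro b hb
      obtain ⟨a, ha⟩ := quotient_eq_image m g
        ((hB.2 _ ⊥ ((Ideal.Quotient.mk (m.map (algebraMap A B))).comp (algebraMap A B)) hq
          (by
            rw [← Ideal.map_map, Ideal.map_quotient_self])).unique rfl
          (by rw [RingHom.comp_assoc, hg]; ext x; rfl)) b
      have haB : algebraMap A B a ∈ IsLocalRing.maximalIdeal B := by
        simpa using (IsLocalRing.maximalIdeal B).sub_mem hb (hmB ha)
      have : a ∈ m := fun hu => haB (hu.map _)
      simpa using (m.map (algebraMap A B)).add_mem ha (Ideal.mem_map_of_mem _ this)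
    have heq : m.map (algebraMap A B) = IsLocalRing.maximalIdeal B := le_antisymm hmB hle
    refine ⟨⟨fun f hf a₀ h1 h2 => ?_⟩, ?_⟩
    · obtain ⟨a, ha, ha'⟩ := hB.1.is_henselian f hf a₀ (by rw [heq]; exact h1) (h2.map _)
      exact ⟨a, ha, by rwa [← heq]⟩
    · intro T _ _ f hf
      exact hB.2 T (IsLocalRing.maximalIdeal T) f inferInstance (IsLocalRing.map_maximalIdeal_le f)
  · intro hB
    haveI := hB.henselian
    refine ⟨H48.Hens.henselianRing_of_le hmB inferInstance, ?_⟩
    intro C _ J f hC hf
    rcases subsingleton_or_nontrivial C with hsub | hnt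
    · exact ⟨⟨⟨⟨fun _ => 0, Subsingleton.elim _ _⟩, fun _ _ => Subsingleton.elim _ _⟩,
        Subsingleton.elim _ _, fun _ _ => Subsingleton.elim _ _⟩,
        RingHom.ext fun _ => Subsingleton.elim _ _, fun g _ => RingHom.ext fun _ => Subsingleton.elim _ _⟩
    haveI hloc : ∀ x, IsUnit (Ideal.Quotient.mk J x) → IsUnit x := fun x => H48.Hens.isUnit_of_mk hC.jac
    have hJ1 : (1 : C) ∉ J := fun h1 =>
      not_isUnit_zero (M₀ := C) (by simpa using Ideal.mem_jacobson_bot.1 (hC.jac h1) (-1))
    let T : Subring C := ((Ideal.Quotient.mk J).comp f).range.comap (Ideal.Quotient.mk J)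
    have hT : ∀ x, x ∈ T ↔ ∃ a, x - f a ∈ J := fun x => by
      simp only [T, Subring.mem_comap, RingHom.mem_range, RingHom.comp_apply]
      exact exists_congr fun a => by rw [eq_comm, Ideal.Quotient.eq]
    have hfT : ∀ a, f a ∈ T := fun a => (hT _).2 ⟨a, by simp⟩
    have hJm : ∀ a, f a ∈ J → a ∈ m := fun a ha hu => hJ1 (by
      obtain ⟨b, hb⟩ := hu.exists_right_inv
      have := J.mul_mem_right (f b) ha
      rwa [← map_mul, hb, map_one] at this)
    have hunit : ∀ x : T, (x : C) ∉ J → IsUnit x := by
      intro x hx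
      obtain ⟨a, ha⟩ := (hT _).1 x.2
      have hau : IsUnit a := by
        by_contra hau
        exact hx (by simpa using J.add_mem ha (hf (Ideal.mem_map_of_mem _ hau)))
      obtain ⟨b, hb⟩ := hau.exists_right_inv
      obtain ⟨y, hy⟩ : ∃ y, (x : C) * y = 1 := (hloc _ (by
        rw [Ideal.Quotient.eq.2 ha]; exact (hau.map f).map _)).exists_right_inv
      refine IsUnit.of_mul_eq_one ⟨y, (hT _).2 ⟨b, ?_⟩⟩ (Subtype.ext hy)
      have : y - f b = - (y * (((x : C) - f a) * f b)) := by
        have h3 : f a * f b = 1 := by rw [← map_mul, hb, map_one]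
        linear_combination (f b) * hy - y * h3
      rw [this]
      exact J.neg_mem (J.mul_mem_left _ (J.mul_mem_right _ ha))
    haveI : IsLocalRing T := by
      refine IsLocalRing.of_nonunits_add fun x y hx hy hxy => ?_
      have h1 : (x : C) ∈ J := by_contra fun h => hx (hunit x h)
      have h2 : (y : C) ∈ J := by_contra fun h => hy (hunit y h)
      have h3 : IsUnit ((x : C) + (y : C)) := hxy.map T.subtype
      obtain ⟨z, hz⟩ := h3.exists_right_inv
      exact hJ1 (hz ▸ J.mul_mem_right _ (J.add_mem h1 h2))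
    have hmT : ∀ x : T, x ∈ IsLocalRing.maximalIdeal T ↔ (x : C) ∈ J := fun x => by
      refine ⟨fun h => by_contra fun h' => h (hunit x h'), fun h hu => ?_⟩
      obtain ⟨z, hz⟩ := (hu.map T.subtype).exists_right_inv
      exact hJ1 (hz ▸ J.mul_mem_right _ h)
    haveI : HenselianLocalRing T := ⟨fun g hg a₀ h1 h2 => by
      have e : ∀ (p : Polynomial T) (x : T), (p.map T.subtype).eval (x : C) = ((p.eval x : T) : C) :=
        fun p x => by rw [Polynomial.eval_map]; exact Polynomial.eval₂_at_apply T.subtype x
      obtain ⟨a, ha, ha'⟩ := hC.is_henselian (g.map T.subtype) (hg.map _) (a₀ : C)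
        (by rw [e]; exact (hmT _).1 h1)
        (by rw [Polynomial.derivative_map, e]; exact (h2.map T.subtype).map _)
      obtain ⟨b, hb⟩ := (hT _).1 a₀.2
      have haT : a ∈ T := (hT _).2 ⟨b, by simpa using J.add_mem ha' hb⟩
      refine ⟨⟨a, haT⟩, Subtype.ext ((e g ⟨a, haT⟩).symm.trans ha), (hmT _).2 ha'⟩⟩
    let f' : A →+* T := f.codRestrict T hfT
    haveI : IsLocalHom f' := ⟨fun a ha => by
      by_contra hau
      exact ((hmT (f' a)).2 (hf (Ideal.mem_map_of_mem _ hau))) ha⟩
    obtain ⟨g, hg, hguniq⟩ := hB.universal T f' inferInstance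
    refine ⟨T.subtype.comp g, RingHom.ext fun a => congrArg Subtype.val (RingHom.congr_fun hg a),
      fun g' hg' => ?_⟩
    have hnt : Nontrivial (B ⧸ m.map (algebraMap A B)) := Ideal.Quotient.nontrivial_iff.2
      (fun htop => (IsLocalRing.maximalIdeal.isMaximal B).ne_top (top_le_iff.1 (htop ▸ hmB)))
    haveI := H48.Hens.henselianLocalRing_of_surjective
      (Ideal.Quotient.mk (m.map (algebraMap A B))) Ideal.Quotient.mk_surjective
    letI : Field (A ⧸ m) := Ideal.Quotient.field m
    obtain ⟨r, hr, -⟩ := hB.universal (A ⧸ m) (Ideal.Quotient.mk m)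
      (IsLocalHom.of_surjective _ Ideal.Quotient.mk_surjective)
    have hg'T : ∀ b, g' b ∈ T := by
      intro b
      haveI : IsLocalHom (Ideal.Quotient.mk (m.map (algebraMap A B))) :=
        IsLocalHom.of_surjective _ Ideal.Quotient.mk_surjective
      obtain ⟨a, ha⟩ := quotient_eq_image m r
        ((hB.universal _ ((Ideal.Quotient.mk (m.map (algebraMap A B))).comp (algebraMap A B))
          (RingHom.isLocalHom_comp _ _)).unique rfl
          (by rw [RingHom.comp_assoc, hr]; ext x; rfl)) b
      have h1 : (m.map (algebraMap A B)).map g' ≤ J := by rwa [Ideal.map_map, hg']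
      exact (hT _).2 ⟨a, by rw [← hg', RingHom.comp_apply, ← map_sub]; exact h1 (Ideal.mem_map_of_mem _ ha)⟩
    have := hguniq (g'.codRestrict T hg'T) (RingHom.ext fun a => Subtype.ext (RingHom.congr_fun hg' a))
    rw [← this]; rfl

end Groth.Agent.S1993
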