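import Groth.Statements.S19946
import Groth.Agent.H3.Commutator
import Groth.Agent.H3.PicCalc
import Groth.Agent.Lib.TensorMod.Invertible

set_option autoImplicit false
universe u
open CategoryTheory MonoidalCategory CartesianMonoidalCategory MonObj GrpObj AlgebraicGeometry
open ThetaGrp

namespace Groth.Agent.S19946

open Groth.Agent.H3

/-- Let X be an abelian variety over a field k (a proper, geometrically integral, commutative k-group
scheme) and L an invertible O_X-module whose subscheme K(L) is all of X: the identity of X has the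
universal property of K(L), i.e. for every k-scheme Z and every Z-valued point z of X the Mumford
bundle m^*L ⊗ p_1^*L⁻¹ ⊗ p_2^*L⁻¹ restricted along X ×_k Z → X ×_k X is the inverse image of an
invertible module on Z (equivalently, the class of L lies in Pic⁰_{X/k}). Then the commutator
pairing e_L of the theta group is identically 1: for every k-scheme T, any two points (x₁, φ₁), (x₂,
φ₂) of G(L)(T) (x_i a T-valued point of X, φ_i : L_T ≅ t_{x_i}^*L_T) commute. -/
theorem result (k : Type u) [Field k]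
    (A : Over (Spec (CommRingCat.of k))) [GrpObj A] [IsCommMonObj A] [IsProper A.hom] [GeometricallyIntegral A.hom]
    (L : A.left.Modules) (hL : PicF.IsInvertible L)
    (hK : ThetaGrp.IsKL A L (𝟙 A))
    (T : Over (Spec (CommRingCat.of k))) (β₁ β₂ : ThetaGrp.thetaPts A L T) :
    β₁ * β₂ = β₂ * β₁ := by
  let _inst : ∀ Y : Scheme.{u}, PicGrp.Law Y := fun Y => Groth.Agent.Lib.TensorMod.Invertible.law Y
  have : Subsingleton ↥(Spec (CommRingCat.of k)) := inferInstance
  obtain ⟨x₁, hx₁⟩ := β₁.2
  obtain ⟨x₂, hx₂⟩ := β₂.2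
  -- the universal first point
  let a : A ⊗ T ⟶ A := fst A T
  let b : A ⊗ T ⟶ A := snd A T ≫ x₂
  have hb : ∃ β : ThetaGrp.thetaPts A L (A ⊗ T), ThetaGrp.IsOverPt β b :=
    Commutator.exists_over_comp ⟨β₂, hx₂⟩ (snd A T)
  have ha : ∀ t : (A ⊗ T).left, ∃ U : (A ⊗ T).left.Opens, t ∈ U ∧
      ∃ β : ThetaGrp.thetaPts A L (Commutator.res (A ⊗ T) U),
        ThetaGrp.IsOverPt β (Commutator.inc (A ⊗ T) U ≫ a) :=
    (ThetaPts.factors_iff_local hL hK a).mp ⟨a, Category.comp_id a⟩
  obtain ⟨r, hr⟩ := Commutator.exists_comm_glue hL hb ha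
  -- along the unit section the commutator is trivial
  let σ : T ⟶ A ⊗ T := lift (toUnit T ≫ η[A]) (𝟙 T)
  have hσ : σ.left.appTop.hom r = 1 := by
    choose U hU hβ using ha
    refine T.left.sheaf.eq_of_locally_eq' (fun t : T.left => σ.left ⁻¹ᵁ (U (σ.left t))) ⊤
      (fun t => homOfLE le_top)
      (fun t _ => TopologicalSpace.Opens.mem_iSup.mpr ⟨t, hU (σ.left t)⟩) _ _ fun t => ?_
    set V := U (σ.left t) with hV
    let W := σ.left ⁻¹ᵁ V
    let g : Commutator.res T W ⟶ Commutator.res (A ⊗ T) V := Over.homMk (σ.left ∣_ V) (by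
      show (σ.left ∣_ V) ≫ V.ι ≫ (A ⊗ T).hom = W.ι ≫ T.hom
      rw [morphismRestrict_ι_assoc, Over.w σ])
    have hg : g ≫ Commutator.inc (A ⊗ T) V = Commutator.inc T W ≫ σ :=
      Over.OverMorphism.ext (morphismRestrict_ι σ.left V)
    have hbV := Commutator.exists_over_comp hb (Commutator.inc (A ⊗ T) V)
    have c := Commutator.comm_comp hL (hβ (σ.left t)) hbV (hr V (hβ (σ.left t))) g
    rw [← Category.assoc, ← Category.assoc, hg] at c
    have e1 : (Commutator.inc T W ≫ σ) ≫ a = 1 := by
      rw [Category.assoc, lift_fst, MonObj.one_eq_one, MonObj.comp_one, MonObj.comp_one]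
    rw [e1] at c
    have c1 : Commutator.Comm L (1 : Commutator.res T W ⟶ A) ((Commutator.inc T W ≫ σ) ≫ b) 1 := by
      intro γ₁ γ₂ h₁ h₂
      rw [map_one, Scalars.act_one]
      have h1' := Cartesian.overPt_one L (Commutator.res T W)
      have e := Commutator.commutator_indep hL (r := 1) h₁ h1' h₂ h₂
        (by rw [_root_.one_mul, _root_.mul_one, Scalars.act_one])
      rwa [Scalars.act_one] at e
    have e := Commutator.comm_unique hL ⟨1, Cartesian.overPt_one L _⟩
      (Commutator.exists_over_comp hb (Commutator.inc T W ≫ σ)) c c1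
    have e' : (W.ι ≫ σ.left).appTop.hom r = 1 := by
      rw [← morphismRestrict_ι σ.left V, Scheme.Hom.comp_appTop, CommRingCat.comp_apply]
      exact e
    rw [Scheme.Hom.comp_appTop, CommRingCat.comp_apply] at e'
    have e'' := congrArg W.topIso.hom.hom e'
    rw [map_one, ← CommRingCat.comp_apply] at e''
    show T.left.presheaf.map _ (σ.left.appTop.hom r) = T.left.presheaf.map _ 1
    rw [map_one]
    convert e'' using 1
    congr 1
    simp [Scheme.Opens.topIso]
    exact congrArg CommRingCat.Hom.hom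
      ((congrArg T.left.presheaf.map (Subsingleton.elim _ _)).trans (T.left.presheaf.map_comp _ _))
  have hr1 : r = 1 := by
    rw [Scalars.eq_snd_appTop T r, hσ, map_one]
  -- the given points
  refine ThetaMaps.commute_of_local hL hx₁ hx₂ fun t => ?_
  let p : T ⟶ A ⊗ T := lift x₁ (𝟙 T)
  obtain ⟨U, hU, hβ⟩ := ha (p.left t)
  refine ⟨p.left ⁻¹ᵁ U, hU, fun γ₁ γ₂ hγ₁ hγ₂ => ?_⟩
  let W := p.left ⁻¹ᵁ U
  let g : Commutator.res T W ⟶ Commutator.res (A ⊗ T) U := Over.homMk (p.left ∣_ U) (by
    show (p.left ∣_ U) ≫ U.ι ≫ (A ⊗ T).hom = W.ι ≫ T.hom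
    rw [morphismRestrict_ι_assoc, Over.w p])
  have hg : g ≫ Commutator.inc (A ⊗ T) U = Commutator.inc T W ≫ p :=
    Over.OverMorphism.ext (morphismRestrict_ι p.left U)
  have hbU := Commutator.exists_over_comp hb (Commutator.inc (A ⊗ T) U)
  have c := Commutator.comm_comp hL hβ hbU (hr U hβ) g
  rw [hr1, map_one, map_one, ← Category.assoc, ← Category.assoc, hg, Category.assoc, Category.assoc] at c
  have e1 : p ≫ a = x₁ := lift_fst _ _
  have e2 : p ≫ b = x₂ := by rw [lift_snd_assoc, Category.id_comp]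
  rw [e1, e2] at c
  have h := c γ₁ γ₂ hγ₁ hγ₂
  rw [map_one, Scalars.act_one] at h
  exact Subtype.ext (Aut.ext h)

end Groth.Agent.S19946
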