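import Groth.Statements.S19947
import Groth.Agent.Lib.H3.ThetaEff

set_option autoImplicit false
universe u
open CategoryTheory MonoidalCategory CartesianMonoidalCategory MonObj GrpObj AlgebraicGeometry
open ThetaGrp

namespace Groth.Agent.S19947

open Groth.Agent.H3

/-- Let f : X → Y be a surjective homomorphism of abelian varieties over a field k (proper,
geometrically integral, commutative k-group schemes), i : N → X its kernel (a homomorphism of
k-group schemes forming a cartesian square with the unit section of Y), L an invertible O_X-module,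
and G a k-group scheme with a point u ∈ G(L)(G) representing the theta group of L (every point of
G(L)(T) is the base change of u along a unique T → G, multiplicatively). Then L descends to Y, i.e.
there is an invertible O_Y-module M with f^*M ≅ L, if and only if the inclusion i lifts to a
homomorphism of group schemes j : N → G over X: for every k-scheme T and every T-valued point n of
N, the base change of u along j(n) lies over the translation by i(n). (The source states a bijection
between the isomorphism classes of such M and the set of such homomorphisms; this row states that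
one set is non-empty exactly when the other is.) -/
theorem result (k : Type u) [Field k]
    (A : Over (Spec (CommRingCat.of k))) [GrpObj A] [IsCommMonObj A] [IsProper A.hom] [GeometricallyIntegral A.hom]
    (B : Over (Spec (CommRingCat.of k))) [GrpObj B] [IsCommMonObj B] [IsProper B.hom] [GeometricallyIntegral B.hom]
    (f : A ⟶ B) [IsMonHom f] (hf : Surjective f.left)
    (N : Over (Spec (CommRingCat.of k))) [GrpObj N] (i : N ⟶ A) [IsMonHom i] (hN : AlgGrp.IsKernel i f)
    (L : A.left.Modules) (hL : PicF.IsInvertible L)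
    (G : Over (Spec (CommRingCat.of k))) [GrpObj G] (u : ThetaGrp.thetaPts A L G)
    (hG : ThetaGrp.IsThetaGrpSch A L G u) :
    (∃ M : B.left.Modules, PicF.IsInvertible M ∧ Nonempty ((Scheme.Modules.pullback f.left).obj M ≅ L)) ↔
      ∃ j : N ⟶ G, IsMonHom j ∧
        ∀ (T : Over (Spec (CommRingCat.of k))) (n : T ⟶ N) (β : ThetaGrp.thetaPts A L T),
          ThetaGrp.IsBaseChange β (n ≫ j) u → ThetaGrp.IsOverPt β (n ≫ i) := by
  haveI := hf
  constructor
  · rintro ⟨M, hM, ⟨e⟩⟩
    have hif : i ≫ f = 1 := by rw [hN.w, MonObj.one_eq_one, MonObj.comp_one]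
    have hker : ∀ {T : Over (Spec (CommRingCat.of k))} (n : T ⟶ N), (n ≫ i) ≫ f = 1 := fun n => by
      rw [Category.assoc, hif, MonObj.comp_one]
    obtain ⟨v, ⟨hv, hvP⟩, -⟩ := Cartesian.existsUnique_kernelPt f M e.symm i hif
    obtain ⟨j, hj, -⟩ := hG.univ N v
    have key : ∀ {T : Over (Spec (CommRingCat.of k))} (n : T ⟶ N),
        ∃ b, ThetaGrp.IsBaseChange b (n ≫ j) u ∧ ThetaGrp.IsOverPt b (n ≫ i) ∧
          b.1.hom ≫ Cartesian.proj f M e.symm T = Cartesian.proj f M e.symm T := by
      intro T n
      obtain ⟨b, ⟨hb, hbP⟩, -⟩ := Cartesian.existsUnique_kernelPt f M e.symm (n ≫ i) (hker n)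
      refine ⟨b, ?_, hb, hbP⟩
      have h1 : ThetaGrp.IsBaseChange b n v := Cartesian.kernelPt_isBaseChange f M e.symm n hv hvP hb hbP
      show b.1.hom ≫ ThetaGrp.bcLift A L (n ≫ j) = _
      rw [Groth.Agent.Lib.H3.ThetaRep.bcLift_comp, ← Category.assoc,
        show b.1.hom ≫ ThetaGrp.bcLift A L n = _ from h1, Category.assoc,
        show v.1.hom ≫ ThetaGrp.bcLift A L j = _ from hj, Category.assoc]
    have hmul : ∀ {T : Over (Spec (CommRingCat.of k))} (n m : T ⟶ N),
        (n * m) ≫ j = (n ≫ j) * (m ≫ j) := by
      intro T n m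
      obtain ⟨b₁, k₁, o₁, p₁⟩ := key n
      obtain ⟨b₂, k₂, o₂, p₂⟩ := key m
      obtain ⟨b, kb, o, p⟩ := key (n * m)
      have ho : ThetaGrp.IsOverPt (b₁ * b₂) ((n * m) ≫ i) := by
        have := Cartesian.overPt_mul o₁ o₂
        rwa [_root_.mul_comm, ← MonObj.mul_comp] at this
      have hp : (b₁ * b₂).1.hom ≫ Cartesian.proj f M e.symm T = Cartesian.proj f M e.symm T := by
        show (b₂.1.hom ≫ b₁.1.hom) ≫ _ = _
        rw [Category.assoc, p₁, p₂]
      have hb : b = b₁ * b₂ :=
        (Cartesian.existsUnique_kernelPt f M e.symm ((n * m) ≫ i) (hker _)).unique ⟨o, p⟩ ⟨ho, hp⟩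
      subst hb
      exact (hG.univ T _).unique kb (hG.mul T _ _ b₁ b₂ k₁ k₂)
    refine ⟨j, ⟨?_, ?_⟩, fun T n β hβ => ?_⟩
    · have h1 : ((1 : 𝟙_ (Over (Spec (CommRingCat.of k))) ⟶ N) ≫ j) = 1 := by
        have h := hmul (1 : 𝟙_ (Over (Spec (CommRingCat.of k))) ⟶ N) 1
        rw [_root_.mul_one] at h
        exact left_eq_mul.mp h
      simpa [Hom.one_def] using h1
    · have h := hmul (fst N N) (snd N N)
      rw [Hom.mul_def, Hom.mul_def, lift_fst_snd, Category.id_comp] at h
      rw [h]
      congr 1
    · obtain ⟨b, kb, o, -⟩ := key n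
      rw [(hG.exists_bc T (n ≫ j)).unique hβ kb]
      exact o
  · rintro ⟨j, hj, hover⟩
    haveI := hj
    have hex : ∀ {T : Over (Spec (CommRingCat.of k))} (n : T ⟶ N),
        ∃ b, ThetaGrp.IsBaseChange b (n ≫ j) u := fun n => (hG.exists_bc _ _).exists
    let s : Groth.Agent.Lib.H3.ThetaEff.Splitting i L :=
      { pt := fun n => (hex n).choose
        over_pt := fun n => hover _ n _ (hex n).choose_spec
        pt_one := fun T => by
          have h := hG.mul T _ _ _ _ (hex (1 : T ⟶ N)).choose_spec (hex (1 : T ⟶ N)).choose_spec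
          rw [← MonObj.mul_comp, _root_.mul_one] at h
          have e := (hG.exists_bc T _).unique (hex (1 : T ⟶ N)).choose_spec h
          exact left_eq_mul.mp e
        pt_mul := fun n m => by
          have h := hG.mul _ _ _ _ _ (hex n).choose_spec (hex m).choose_spec
          rw [← MonObj.mul_comp] at h
          exact (hG.exists_bc _ _).unique (hex (n * m)).choose_spec h
        pt_comp := fun g n => by
          obtain ⟨b, hb⟩ := Groth.Agent.Lib.H3.ThetaRep.exists_baseChange g (hex n).choose
          have h : ThetaGrp.IsBaseChange b ((g ≫ n) ≫ j) u := by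
            show b.1.hom ≫ ThetaGrp.bcLift A L _ = _
            rw [Category.assoc, Groth.Agent.Lib.H3.ThetaRep.bcLift_comp, ← Category.assoc,
              show b.1.hom ≫ ThetaGrp.bcLift A L g = _ from hb, Category.assoc,
              show (hex n).choose.1.hom ≫ ThetaGrp.bcLift A L (n ≫ j) = _ from (hex n).choose_spec,
              Category.assoc]
          rwa [(hG.exists_bc _ _).unique (hex (g ≫ n)).choose_spec h] }
    exact Groth.Agent.Lib.H3.ThetaEff.exists_descent f hN s hL

end Groth.Agent.S19947
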