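import Groth.Statements.S1995
import Groth.Agent.Lib.Henselian.Basic
import Mathlib.Algebra.Group.Pi.Units
import Groth.Agent.Lib.Henselian.PairUP
import Groth.Agent.Lib.Henselian.Pair

set_option autoImplicit false
universe u
open EtAlg

namespace Groth.Agent.S1995

open Groth.Agent.Lib.Henselian

universe v w

open Groth.Agent.Lib.Henselian.Basic in
theorem henselianRing_pi {J : Type v} (A : J → Type w) [∀ j, CommRing (A j)] (I : ∀ j, Ideal (A j))
    (h : ∀ j, HenselianRing (A j) (I j)) :
    HenselianRing (∀ j, A j) (⨅ j, Ideal.comap (Pi.evalRingHom A j) (I j)) := by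
  set I' : Ideal (∀ j, A j) := ⨅ j, Ideal.comap (Pi.evalRingHom A j) (I j) with hI'
  have hmem : ∀ x, x ∈ I' ↔ ∀ j, x j ∈ I j := fun x => by simp [hI', Ideal.mem_iInf]
  refine ⟨le_jacobson_bot_of_isUnit_add_one fun x hx => Pi.isUnit_iff.mpr fun j =>
    isUnit_of_sub_one_mem (h j).jac (by simpa using (hmem x).mp hx j), fun f hf a₀ h₁ h₂ => ?_⟩
  obtain ⟨b, hb⟩ := isUnit_iff_exists_inv.mp h₂
  obtain ⟨b, rfl⟩ := Ideal.Quotient.mk_surjective b
  rw [← map_mul, ← map_one (Ideal.Quotient.mk _), Ideal.Quotient.eq, hmem] at hb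
  rw [hmem] at h₁
  have hev : ∀ (g : Polynomial (∀ i, A i)) (x : ∀ i, A i) (j : J),
      Polynomial.eval (x j) (g.map (Pi.evalRingHom A j)) = g.eval x j := fun g x j => by
    rw [Polynomial.eval_map]
    exact Polynomial.eval₂_at_apply (Pi.evalRingHom A j) x
  have hroot : ∀ j, ∃ a : A j, (f.map (Pi.evalRingHom A j)).IsRoot a ∧ a - a₀ j ∈ I j := fun j => by
    have := h j
    refine HenselianRing.is_henselian _ (hf.map _) (a₀ j) (by rw [hev]; exact h₁ j) ?_
    rw [Polynomial.derivative_map, hev]
    refine IsUnit.of_mul_eq_one (Ideal.Quotient.mk (I j) (b j)) ?_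
    rw [← map_mul, ← map_one (Ideal.Quotient.mk (I j)), Ideal.Quotient.eq]
    exact hb j
  choose a ha haI using hroot
  exact ⟨a, funext fun j => (hev f a j).symm.trans (ha j), (hmem _).mpr haI⟩

theorem single_one_mul {ι : Type v} [DecidableEq ι] {R : ι → Type w} [∀ i, CommRing (R i)] (i : ι) (y : ∀ i, R i) :
    (Pi.single i (1 : R i) : ∀ i, R i) * y = Pi.single i (y i) := by
  funext j
  rcases eq_or_ne j i with rfl | hj
  · simp
  · simp [hj]

theorem exists_delta {A : Type u} [CommRing A] {n : ℕ} (I : Fin n → Ideal A)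
    (hI : Pairwise fun i j => I i ⊔ I j = ⊤) :
    ∃ a : Fin n → A, (∀ i, a i - 1 ∈ I i) ∧ ∀ i j, i ≠ j → a i ∈ I j := by
  classical
  have hsurj := Ideal.quotientInfToPiQuotient_surj (I := I) (fun i j hij => Ideal.isCoprime_iff_sup_eq.2 (hI hij))
  have : ∀ i, ∃ a : A, ∀ j, Ideal.Quotient.mk (I j) a = if i = j then 1 else 0 := fun i => by
    obtain ⟨q, hq⟩ := hsurj fun j => if i = j then 1 else 0
    obtain ⟨a, rfl⟩ := Ideal.Quotient.mk_surjective q
    exact ⟨a, fun j => congrFun hq j⟩
  choose a ha using this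
  refine ⟨a, fun i => ?_, fun i j hij => ?_⟩
  · refine Ideal.Quotient.eq.1 ?_
    rw [ha i i, if_pos rfl, map_one]
  · refine Ideal.Quotient.eq_zero_iff_mem.1 ?_
    rw [ha i j, if_neg hij]


/-- Let I_1, …, I_n be pairwise comaximal ideals of a ring A, B a henselization of the pair (A, I_1 ∩ …
∩ I_n) and B_i a henselization of (A, I_i) for each i. Then B is isomorphic as an A-algebra to the
product of the B_i (any such isomorphism is the natural comparison map, by the universal property). -/
theorem result (A : Type u) [CommRing A] {n : ℕ} (I : Fin n → Ideal A)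
    (hI : Pairwise fun i j => I i ⊔ I j = ⊤) (B : Type u) [CommRing B] [Algebra A B]
    (hB : Hens2.IsPairHenselization A (⨅ i, I i) B) (Bi : Fin n → Type u) [∀ i, CommRing (Bi i)] [∀ i, Algebra A (Bi i)]
    (hBi : ∀ i, Hens2.IsPairHenselization A (I i) (Bi i)) :
    Nonempty (B ≃ₐ[A] ∀ i, Bi i) := by
  classical
  let P := ∀ i, Bi i
  let L : Ideal A := ⨅ i, I i
  obtain ⟨a, ha1, ha0⟩ := exists_delta I hI
  -- `L Bᵢ = Iᵢ Bᵢ`
  have hLi : ∀ i, L.map (algebraMap A (Bi i)) = (I i).map (algebraMap A (Bi i)) := by
    intro i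
    refine le_antisymm (Ideal.map_mono (iInf_le _ i)) (Ideal.map_le_iff_le_comap.2 fun x hx => ?_)
    have hu : IsUnit (algebraMap A (Bi i) (a i)) := by
      refine Basic.isUnit_of_sub_one_mem (hBi i).1.jac ?_
      rw [← map_one (algebraMap A (Bi i)), ← map_sub]
      exact Ideal.mem_map_of_mem _ (ha1 i)
    rw [Ideal.mem_comap]
    refine (Ideal.unit_mul_mem_iff_mem _ hu).1 ?_
    rw [← map_mul]
    refine Ideal.mem_map_of_mem _ (Submodule.mem_iInf _ |>.2 fun j => ?_)
    rcases eq_or_ne i j with rfl | hij
    · exact (I i).mul_mem_left _ hx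
    · exact (I j).mul_mem_right _ (ha0 i j hij)
  have hLP : L.map (algebraMap A P) = ⨅ i, Ideal.comap (Pi.evalRingHom Bi i) ((I i).map (algebraMap A (Bi i))) := by
    refine le_antisymm (Ideal.map_le_iff_le_comap.2 fun x hx => Submodule.mem_iInf _ |>.2 fun i =>
      Ideal.mem_map_of_mem (algebraMap A (Bi i)) ((Submodule.mem_iInf _).1 hx i)) fun y hy => ?_
    rw [← Finset.univ_sum_single y]
    refine Ideal.sum_mem _ fun i _ => ?_
    have hyi : y i ∈ L.map (algebraMap A (Bi i)) := by
      rw [hLi]; exact (Submodule.mem_iInf _).1 hy i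
    clear hy
    generalize y i = z at hyi ⊢
    induction hyi using Submodule.span_induction with
    | mem z hz =>
      obtain ⟨l, hl, rfl⟩ := hz
      rw [show (Pi.single i (algebraMap A (Bi i) l) : P) = Pi.single i (1 : Bi i) * algebraMap A P l from
        (single_one_mul i (algebraMap A P l)).symm]
      exact Ideal.mul_mem_left _ _ (Ideal.mem_map_of_mem _ hl)
    | zero => rw [Pi.single_zero]; exact Ideal.zero_mem _
    | add z w _ _ hz hw => rw [Pi.single_add]; exact Ideal.add_mem _ hz hw
    | smul r z _ hz => rw [smul_eq_mul, Pi.single_mul]; exact Ideal.mul_mem_left _ _ hz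
  have hsumL : ∑ i, a i - 1 ∈ L := by
    refine (Submodule.mem_iInf _).2 fun j => ?_
    rw [← Finset.add_sum_erase _ _ (Finset.mem_univ j), add_sub_right_comm]
    exact Ideal.add_mem _ (ha1 j) (Ideal.sum_mem _ fun i hi => ha0 i j (Finset.ne_of_mem_erase hi))
  have hP : Hens2.IsPairHenselization A L P := by
    refine ⟨?_, fun C _ J f hC hf => ?_⟩
    · rw [hLP]
      exact henselianRing_pi Bi _ fun i => (hBi i).1
    have := hC
    have hjac : J ≤ Ideal.jacobson ⊥ := hC.jac
    have hfL : ∀ {x : A}, x ∈ L → f x ∈ J := fun hx => hf (Ideal.mem_map_of_mem _ hx)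
    have hid : ∀ i, ∃ e : C, IsIdempotentElem e ∧ e - f (a i) ∈ J := fun i => by
      have := Pair.exists_isIdempotentElem_lift_of_isIntegral J (B := C) (b := f (a i)) (by
        rw [Algebra.algebraMap_self, Ideal.map_id, ← map_mul, ← map_sub]
        refine hfL ((Submodule.mem_iInf _).2 fun j => ?_)
        rw [show a i * a i - a i = a i * (a i - 1) by ring]
        rcases eq_or_ne i j with rfl | hij
        · exact (I i).mul_mem_left _ (ha1 i)
        · exact (I j).mul_mem_right _ (ha0 i j hij))
      simpa only [Algebra.algebraMap_self, Ideal.map_id] using this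
    choose ε hε hεa using hid
    have horth : ∀ i j, i ≠ j → ε i * ε j = 0 := fun i j hij => by
      refine Basic.eq_zero_of_isIdempotentElem hjac ((hε i).mul (hε j)) ?_
      have : f (a i) * f (a j) ∈ J := by
        rw [← map_mul]
        refine hfL ((Submodule.mem_iInf _).2 fun k => ?_)
        rcases eq_or_ne i k with rfl | hik
        · exact (I i).mul_mem_left _ (ha0 j i hij.symm)
        · exact (I k).mul_mem_right _ (ha0 i k hik)
      rw [show ε i * ε j = (ε i - f (a i)) * ε j + f (a i) * (ε j - f (a j)) + f (a i) * f (a j) by ring]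
      exact add_mem (add_mem (J.mul_mem_right _ (hεa i)) (J.mul_mem_left _ (hεa j))) this
    have hoi : OrthogonalIdempotents ε := ⟨hε, fun i j hij => horth i j hij⟩
    have hsum : ∑ i, ε i = 1 := by
      refine Basic.eq_of_isIdempotentElem hjac hoi.isIdempotentElem_sum IsIdempotentElem.one ?_
      rw [show (∑ i, ε i) - 1 = ∑ i, (ε i - f (a i)) + f (∑ i, a i - 1) by
        rw [Finset.sum_sub_distrib, map_sub, map_sum, map_one]; ring]
      exact add_mem (Ideal.sum_mem _ fun i _ => hεa i) (hfL hsumL)
    let K : Fin n → Ideal C := fun i => Ideal.span {1 - ε i}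
    -- the factors
    have hCi : ∀ i, ∃! g : Bi i →+* C ⧸ K i, g.comp (algebraMap A (Bi i)) = (Ideal.Quotient.mk (K i)).comp f := by
      intro i
      have hC' : HenselianRing (C ⧸ K i) (J.map (Ideal.Quotient.mk (K i))) :=
        Pair.henselianRing_of_isIntegral J (C ⧸ K i)
      refine (hBi i).2 _ _ _ hC' (Ideal.map_le_iff_le_comap.2 fun x hx => ?_)
      have h1 : f (a i * x) ∈ J := hfL ((Submodule.mem_iInf _).2 fun j => by
        rcases eq_or_ne i j with rfl | hij
        · exact (I i).mul_mem_left _ hx
        · exact (I j).mul_mem_right _ (ha0 i j hij))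
      have h2 : ε i * f x ∈ J := by
        rw [show ε i * f x = (ε i - f (a i)) * f x + f (a i) * f x by ring, ← map_mul]
        exact add_mem (J.mul_mem_right _ (hεa i)) h1
      rw [Ideal.mem_comap, RingHom.comp_apply]
      rw [show Ideal.Quotient.mk (K i) (f x) = Ideal.Quotient.mk (K i) (ε i * f x) from
        Ideal.Quotient.eq.2 (Ideal.mem_span_singleton'.2 ⟨f x, by ring⟩)]
      exact Ideal.mem_map_of_mem _ h2
    choose g hg hgu using hCi
    let G : (∀ i, C ⧸ K i) → C := fun z => ∑ i, ε i * Function.surjInv Ideal.Quotient.mk_surjective (z i)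
    have hG : ∀ (z : ∀ i, C ⧸ K i) (i : Fin n), ∀ c, Ideal.Quotient.mk (K i) c = z i → ε i * G z = ε i * c := by
      intro z i c hc
      rw [Finset.mul_sum, Finset.sum_eq_single i (fun j _ hji => by rw [← mul_assoc, horth i j hji.symm, zero_mul])
        (fun h => absurd (Finset.mem_univ i) h), ← mul_assoc, (hε i).eq]
      obtain ⟨w, hw⟩ := Ideal.mem_span_singleton'.1
        (Ideal.Quotient.eq.1 ((Function.surjInv_eq Ideal.Quotient.mk_surjective (z i)).trans hc.symm))
      linear_combination (-ε i) * hw - w * (hε i).eq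
    have hext : ∀ c c' : C, (∀ i, Ideal.Quotient.mk (K i) c = Ideal.Quotient.mk (K i) c') → c = c' := by
      intro c c' h
      rw [← one_mul c, ← one_mul c', ← hsum, Finset.sum_mul, Finset.sum_mul]
      refine Finset.sum_congr rfl fun i _ => ?_
      obtain ⟨w, hw⟩ := Ideal.mem_span_singleton'.1 (Ideal.Quotient.eq.1 (h i))
      linear_combination (-ε i) * hw - w * (hε i).eq
    have hGc : ∀ z i, Ideal.Quotient.mk (K i) (G z) = z i := by
      intro z i
      obtain ⟨c, hc⟩ := Ideal.Quotient.mk_surjective (z i)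
      have h1 : Ideal.Quotient.mk (K i) (ε i) = 1 := by
        rw [← map_one (Ideal.Quotient.mk (K i)), Ideal.Quotient.eq]
        exact Ideal.mem_span_singleton'.2 ⟨-1, by ring⟩
      have := congrArg (Ideal.Quotient.mk (K i)) (hG z i c hc)
      rwa [map_mul, map_mul, h1, one_mul, one_mul, hc] at this
    let g' : P →+* C :=
      { toFun := fun y => G fun i => g i (y i)
        map_one' := hext _ _ fun i => by rw [hGc, map_one]; exact map_one (g i)
        map_mul' := fun x y => hext _ _ fun i => by rw [map_mul, hGc, hGc, hGc, Pi.mul_apply, map_mul]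
        map_zero' := hext _ _ fun i => by rw [hGc, map_zero]; exact map_zero (g i)
        map_add' := fun x y => hext _ _ fun i => by rw [map_add, hGc, hGc, hGc, Pi.add_apply, map_add] }
    refine ⟨g', RingHom.ext fun x => hext _ _ fun i => ?_, fun q hq => RingHom.ext fun y => hext _ _ fun i => ?_⟩
    · show Ideal.Quotient.mk (K i) (G fun i => g i (algebraMap A (Bi i) x)) = _
      rw [hGc]
      exact RingHom.congr_fun (hg i) x
    · show _ = Ideal.Quotient.mk (K i) (G fun i => g i (y i))
      rw [hGc]
      have he : q (Pi.single i 1) = ε i := by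
        refine Basic.eq_of_isIdempotentElem hjac (IsIdempotentElem.map
          (show IsIdempotentElem (Pi.single i (1 : Bi i) : P) by
            rw [IsIdempotentElem, ← Pi.single_mul, one_mul]) q) (hε i) ?_
        have h1 : Pi.single i (1 : Bi i) - algebraMap A P (a i) ∈ L.map (algebraMap A P) := by
          rw [hLP]
          refine (Submodule.mem_iInf _).2 fun j => ?_
          show (Pi.single i (1 : Bi i) : P) j - algebraMap A (Bi j) (a i) ∈ (I j).map (algebraMap A (Bi j))
          rcases eq_or_ne i j with rfl | hij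
          · rw [Pi.single_eq_same, ← neg_sub, ← map_one (algebraMap A (Bi i)), ← map_sub]
            exact neg_mem (Ideal.mem_map_of_mem _ (ha1 i))
          · rw [Pi.single_eq_of_ne hij.symm, zero_sub]
            exact neg_mem (Ideal.mem_map_of_mem _ (ha0 i j hij))
        have h2 := Ideal.mem_map_of_mem q h1
        rw [Ideal.map_map, hq] at h2
        have h3 := hf h2
        rw [map_sub, show q (algebraMap A P (a i)) = f (a i) from RingHom.congr_fun hq (a i)] at h3
        rw [show q (Pi.single i (1 : Bi i)) - ε i = (q (Pi.single i (1 : Bi i)) - f (a i)) - (ε i - f (a i)) by ring]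
        exact sub_mem h3 (hεa i)
      have h1 : Ideal.Quotient.mk (K i) (ε i) = 1 := by
        rw [← map_one (Ideal.Quotient.mk (K i)), Ideal.Quotient.eq]
        exact Ideal.mem_span_singleton'.2 ⟨-1, by ring⟩
      have hy : Ideal.Quotient.mk (K i) (q y) = Ideal.Quotient.mk (K i) (q (Pi.single i (y i))) := by
        rw [show (Pi.single i (y i) : P) = Pi.single i 1 * y from (single_one_mul i y).symm,
          map_mul, map_mul, he, h1, one_mul]
      let qi : Bi i →+* C ⧸ K i :=
        { toFun := fun z => Ideal.Quotient.mk (K i) (q (Pi.single i z))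
          map_one' := by rw [he, h1]
          map_mul' := fun z w => by rw [Pi.single_mul, map_mul, map_mul]
          map_zero' := by rw [Pi.single_zero, map_zero, map_zero]
          map_add' := fun z w => by rw [Pi.single_add, map_add, map_add] }
      have hqi : qi = g i := hgu i qi (RingHom.ext fun x => by
        show Ideal.Quotient.mk (K i) (q (Pi.single i (algebraMap A (Bi i) x))) = Ideal.Quotient.mk (K i) (f x)
        rw [show (Pi.single i (algebraMap A (Bi i) x) : P) = Pi.single i 1 * algebraMap A P x from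
          (single_one_mul i (algebraMap A P x)).symm, map_mul, map_mul, he, h1, one_mul,
          show q (algebraMap A P x) = f x from RingHom.congr_fun hq x])
      rw [hy]
      exact RingHom.congr_fun hqi (y i)
  exact ⟨PairUP.algEquivOf hB hP⟩

end Groth.Agent.S1995
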