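import Groth.Statements.S19952
import Groth.Agent.Lib.H3.ThetaEff
import Groth.Agent.Lib.H3.ThetaFT
import Groth.Agent.Lib.CommAlgGrp.Basic
import Groth.Agent.H4.Chow.EtIsog

set_option autoImplicit false
set_option linter.style.haveILetI false
universe u
open CategoryTheory MonoidalCategory CartesianMonoidalCategory MonObj GrpObj AlgebraicGeometry
open ThetaGrp

namespace Groth.Agent.S19952

open Groth.Agent.H3 Groth.Agent.Lib Groth.Agent.Lib.H3

/-- Let X be an abelian variety over a field k (a proper, geometrically integral, commutative k-group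
scheme), L an invertible O_X-module, and G a k-group scheme with a point u ∈ G(L)(G) representing
the theta group of L (every point of G(L)(T) is the base change of u along a unique T → G,
multiplicatively). Let j : H → G be a level subgroup — H a k-group scheme, j a homomorphism of group
schemes and an immersion, such that a point of H whose image lies over the identity translation is
trivial — and let i_H : H → X be the morphism it lies over: for every k-scheme T and T-valued point
h of H the base change of u along j(h) lies over the translation by i_H(h). Then there are an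
abelian variety Y over k (proper, geometrically integral k-group scheme), a surjective homomorphism
f : X → Y whose kernel is i_H (i_H and f form a cartesian square with the unit section of Y), and an
invertible O_Y-module M with f^*M ≅ L. (The source states a bijection between level subgroups and
isomorphism classes of such pairs (f, M); this row is the existence of a pair for a given level
subgroup.) -/
theorem result (k : Type u) [Field k]
    (A : Over (Spec (CommRingCat.of k))) [GrpObj A] [IsCommMonObj A] [IsProper A.hom] [GeometricallyIntegral A.hom]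
    (L : A.left.Modules) (hL : PicF.IsInvertible L)
    (G : Over (Spec (CommRingCat.of k))) [GrpObj G] (u : ThetaGrp.thetaPts A L G)
    (hG : ThetaGrp.IsThetaGrpSch A L G u)
    (H : Over (Spec (CommRingCat.of k))) [GrpObj H] (j : H ⟶ G) (hj : ThetaGrp.IsLevelSubgrp u j)
    (iH : H ⟶ A)
    (hover : ∀ (T : Over (Spec (CommRingCat.of k))) (h : T ⟶ H) (β : ThetaGrp.thetaPts A L T),
      ThetaGrp.IsBaseChange β (h ≫ j) u → ThetaGrp.IsOverPt β (h ≫ iH)) :
    ∃ (B : Over (Spec (CommRingCat.of k))) (_ : GrpObj B) (f : A ⟶ B),
      IsProper B.hom ∧ GeometricallyIntegral B.hom ∧ IsMonHom f ∧ Surjective f.left ∧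
      AlgGrp.IsKernel iH f ∧
      ∃ M : B.left.Modules, PicF.IsInvertible M ∧ Nonempty ((Scheme.Modules.pullback f.left).obj M ≅ L) := by
  obtain ⟨hjimm, hjhom, hlev⟩ := hj
  haveI := hjimm
  haveI := hjhom
  have hex : ∀ {T : Over (Spec (CommRingCat.of k))} (h : T ⟶ H),
      ∃ b, ThetaGrp.IsBaseChange b (h ≫ j) u := fun h => (hG.exists_bc _ _).exists
  have hmul : ∀ {T : Over (Spec (CommRingCat.of k))} (h h' : T ⟶ H),
      (h * h') ≫ iH = (h ≫ iH) * (h' ≫ iH) := by
    intro T h h'
    obtain ⟨b, hb⟩ := hex h
    obtain ⟨b', hb'⟩ := hex h'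
    have hp := hG.mul T _ _ _ _ hb hb'
    rw [← MonObj.mul_comp] at hp
    exact (Cartesian.overPt_unique (hover T _ _ hp)
      (Cartesian.overPt_mul (hover T _ _ hb) (hover T _ _ hb'))).trans (_root_.mul_comm _ _)
  haveI : IsMonHom iH := by
    refine ⟨?_, ?_⟩
    · have h1 : ((1 : 𝟙_ (Over (Spec (CommRingCat.of k))) ⟶ H) ≫ iH) = 1 := by
        have h := hmul (1 : 𝟙_ (Over (Spec (CommRingCat.of k))) ⟶ H) 1
        rw [_root_.mul_one] at h
        exact left_eq_mul.mp h
      simpa [Hom.one_def] using h1
    · have h := hmul (fst H H) (snd H H)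
      rw [Hom.mul_def, Hom.mul_def, lift_fst_snd, Category.id_comp] at h
      rw [h]
      congr 1
  haveI : Mono iH := ⟨fun {T} a b e => by
    obtain ⟨β, hβ⟩ := hex (a⁻¹ * b)
    have h1 := hover T _ _ hβ
    rw [MonObj.mul_comp, GrpObj.inv_comp, e, inv_mul_cancel] at h1
    exact (inv_mul_eq_one.mp (hlev T _ β hβ h1))⟩
  obtain ⟨hGft, hGqc⟩ := ThetaFT.finiteType hL hG
  haveI := hGft
  haveI := hGqc
  haveI : IsLocallyNoetherian G.left := LocallyOfFiniteType.isLocallyNoetherian G.hom
  haveI : LocallyOfFiniteType H.hom := by rw [← Over.w j]; infer_instance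
  haveI : CompactSpace G.left := (quasiCompact_iff_compactSpace G.hom).mp inferInstance
  haveI : IsNoetherian G.left := ⟨⟩
  haveI : TopologicalSpace.NoetherianSpace H.left :=
    Topology.IsInducing.noetherianSpace j.left.isEmbedding.isInducing
  haveI : QuasiCompact j.left := ⟨fun U _ _ => TopologicalSpace.NoetherianSpace.isCompact _⟩
  haveI : QuasiCompact H.hom := by rw [← Over.w j]; infer_instance
  haveI : QuasiCompact iH.left := by
    haveI : QuasiCompact (iH.left ≫ A.hom) := by rw [Over.w]; infer_instance
    exact QuasiCompact.of_comp iH.left A.hom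
  haveI : IsClosedImmersion iH.left := GrpQ.MonoClosed.isClosedImmersion_of_mono iH
  obtain ⟨B, _, _, f, hfh, hff, hfs, hfp, hfk, hBft, -⟩ := CommAlgGrp.exists_quotient iH
  haveI := hfh; haveI := hff; haveI := hfs; haveI := hfp; haveI := hBft
  haveI : IsSeparated B.hom := ActSep.isSeparated_of_artinian (A := k) (G := B)
  haveI : UniversallyClosed B.hom := by
    haveI : UniversallyClosed (f.left ≫ B.hom) := by rw [Over.w]; infer_instance
    exact UniversallyClosed.of_comp_surjective f.left B.hom
  haveI : IsProper B.hom := {}
  haveI : GeometricallyIntegral B.hom := Groth.Agent.H4.Chow.geometricallyIntegral_of_cover f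
  let s : ThetaEff.Splitting iH L :=
    { pt := fun n => (hex n).choose
      over_pt := fun n => hover _ n _ (hex n).choose_spec
      pt_one := fun T => by
        have h := hG.mul T _ _ _ _ (hex (1 : T ⟶ H)).choose_spec (hex (1 : T ⟶ H)).choose_spec
        rw [← MonObj.mul_comp, _root_.mul_one] at h
        have e := (hG.exists_bc T _).unique (hex (1 : T ⟶ H)).choose_spec h
        exact left_eq_mul.mp e
      pt_mul := fun n m => by
        have h := hG.mul _ _ _ _ _ (hex n).choose_spec (hex m).choose_spec
        rw [← MonObj.mul_comp] at h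
        exact (hG.exists_bc _ _).unique (hex (n * m)).choose_spec h
      pt_comp := fun g n => by
        obtain ⟨b, hb⟩ := ThetaRep.exists_baseChange g (hex n).choose
        have h : ThetaGrp.IsBaseChange b ((g ≫ n) ≫ j) u := by
          show b.1.hom ≫ ThetaGrp.bcLift A L _ = _
          rw [Category.assoc, ThetaRep.bcLift_comp, ← Category.assoc,
            show b.1.hom ≫ ThetaGrp.bcLift A L g = _ from hb, Category.assoc,
            show (hex n).choose.1.hom ≫ ThetaGrp.bcLift A L (n ≫ j) = _ from (hex n).choose_spec,
            Category.assoc]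
        rwa [(hG.exists_bc _ _).unique (hex (g ≫ n)).choose_spec h] }
  exact ⟨B, inferInstance, f, inferInstance, inferInstance, hfh, hfs, hfk,
    ThetaEff.exists_descent f hfk s hL⟩

end Groth.Agent.S19952
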