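import Groth.Statements.S19953
import Groth.Agent.H3.Cartesian

set_option autoImplicit false
universe u
open CategoryTheory MonoidalCategory CartesianMonoidalCategory MonObj GrpObj AlgebraicGeometry
open ThetaGrp

namespace Groth.Agent.S19953

open Groth.Agent.H3

/-- Let f : X → Y be a surjective homomorphism of abelian varieties over a field k (proper,
geometrically integral, commutative k-group schemes), i : N → X its kernel (a homomorphism forming a
cartesian square with the unit section of Y), L an invertible O_X-module, M an invertible O_Y-module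
with f^*M ≅ L, and G a k-group scheme with a point u ∈ G(L)(G) representing the theta group of L
(every point of G(L)(T) is the base change of u along a unique T → G, multiplicatively). Then there
is a level subgroup of G(L) whose image in K(L) is Ker(f): a homomorphism of group schemes j : N → G
that is an immersion, such that a point of N whose image lies over the identity translation is
trivial, and that lies over i (for every k-scheme T and T-valued point n of N, the base change of u
along j(n) lies over the translation by i(n)). -/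
theorem result (k : Type u) [Field k]
    (A : Over (Spec (CommRingCat.of k))) [GrpObj A] [IsCommMonObj A] [IsProper A.hom] [GeometricallyIntegral A.hom]
    (B : Over (Spec (CommRingCat.of k))) [GrpObj B] [IsCommMonObj B] [IsProper B.hom] [GeometricallyIntegral B.hom]
    (f : A ⟶ B) [IsMonHom f] (hf : Surjective f.left)
    (N : Over (Spec (CommRingCat.of k))) [GrpObj N] (i : N ⟶ A) [IsMonHom i] (hN : AlgGrp.IsKernel i f)
    (L : A.left.Modules) (hL : PicF.IsInvertible L)
    (M : B.left.Modules) (hM : PicF.IsInvertible M)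
    (hLM : Nonempty ((Scheme.Modules.pullback f.left).obj M ≅ L))
    (G : Over (Spec (CommRingCat.of k))) [GrpObj G] (u : ThetaGrp.thetaPts A L G)
    (hG : ThetaGrp.IsThetaGrpSch A L G u) :
    ∃ j : N ⟶ G, IsMonHom j ∧ ThetaGrp.IsLevelSubgrp u j ∧
      ∀ (T : Over (Spec (CommRingCat.of k))) (n : T ⟶ N) (β : ThetaGrp.thetaPts A L T),
        ThetaGrp.IsBaseChange β (n ≫ j) u → ThetaGrp.IsOverPt β (n ≫ i) := by
  obtain ⟨x₀, hx₀⟩ := u.2
  obtain ⟨e'⟩ := hLM
  let e := e'.symm
  have hif : i ≫ f = 1 := by
    rw [hN.w, MonObj.one_eq_one, MonObj.comp_one]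
  have bcL : ∀ {T T' T'' : Over (Spec (CommRingCat.of k))} (p : T' ⟶ T) (q : T ⟶ T''),
      ThetaGrp.bcLift A L p ≫ ThetaGrp.bcLift A L q = ThetaGrp.bcLift A L (p ≫ q) := by
    intro T T' T'' p q
    apply Cartesian.eq_of_comp_eq (Cartesian.toBase L T'')
    · exact (show IsIso (𝟙 ((Scheme.Modules.pullback (fst A T'').left).obj L)) from inferInstance)
    · show (A ◁ p).left ≫ (A ◁ q).left = (A ◁ (p ≫ q)).left
      rw [← Over.comp_left, ← MonoidalCategory.whiskerLeft_comp]
    · rw [Category.assoc, Cartesian.bcLift_toBase, Cartesian.bcLift_toBase, Cartesian.bcLift_toBase]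
  obtain ⟨βN, ⟨hN1, hN2⟩, -⟩ := Cartesian.existsUnique_kernelPt f M e i hif
  obtain ⟨j, hj, hju⟩ := hG.univ N βN
  have hn : ∀ {T : Over (Spec (CommRingCat.of k))} (n : T ⟶ N), (n ≫ i) ≫ f = 1 := fun n => by
    rw [Category.assoc, hif, MonObj.comp_one]
  -- base changes of `u` along `n ≫ j` are the kernel points
  have key : ∀ {T : Over (Spec (CommRingCat.of k))} (n : T ⟶ N),
      ∃ β : ThetaGrp.thetaPts A L T, ThetaGrp.IsOverPt β (n ≫ i) ∧
        β.1.hom ≫ Cartesian.proj f M e T = Cartesian.proj f M e T ∧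
        ThetaGrp.IsBaseChange β (n ≫ j) u := by
    intro T n
    obtain ⟨β, ⟨h1, h2⟩, -⟩ := Cartesian.existsUnique_kernelPt f M e (n ≫ i) (hn n)
    have h3 : β.1.hom ≫ ThetaGrp.bcLift A L n = ThetaGrp.bcLift A L n ≫ βN.1.hom :=
      Cartesian.kernelPt_isBaseChange f M e n hN1 hN2 h1 h2
    refine ⟨β, h1, h2, ?_⟩
    show β.1.hom ≫ ThetaGrp.bcLift A L (n ≫ j) = ThetaGrp.bcLift A L (n ≫ j) ≫ u.1.hom
    rw [← bcL, ← Category.assoc, h3, Category.assoc, hj, ← Category.assoc]
  have over : ∀ {T : Over (Spec (CommRingCat.of k))} (n : T ⟶ N) (β : ThetaGrp.thetaPts A L T),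
      ThetaGrp.IsBaseChange β (n ≫ j) u → ThetaGrp.IsOverPt β (n ≫ i) := by
    intro T n β hβ
    obtain ⟨β', h1, -, h3⟩ := key n
    obtain ⟨w, -, hw⟩ := hG.exists_bc T (n ≫ j)
    rwa [hw β hβ, ← hw β' h3]
  have hmono : Mono i.left := by
    have : IsClosedImmersion η[B].left := isClosedImmersion_of_comp_eq_id
      (Y := Spec (CommRingCat.of k)) B.hom η[B].left (Over.w η[B])
    have : IsClosedImmersion i.left := MorphismProperty.of_isPullback
      (hN.map (Over.forget _)).flip ‹IsClosedImmersion η[B].left›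
    infer_instance
  have hjx : j ≫ x₀ = i := (Cartesian.overPt_baseChange hj hx₀ hN1).symm
  have hmi : Mono i := Over.mono_of_mono_left i
  have hmul : ∀ {T : Over (Spec (CommRingCat.of k))} (p q : T ⟶ N),
      (p * q) ≫ j = (p ≫ j) * (q ≫ j) := by
    intro T p q
    obtain ⟨βp, p1, p2, p3⟩ := key p
    obtain ⟨βq, q1, q2, q3⟩ := key q
    have h := hG.mul T _ _ _ _ p3 q3
    obtain ⟨β, b1, b2, b3⟩ := key (p * q)
    have hover : ThetaGrp.IsOverPt (βp * βq) ((p * q) ≫ i) := by
      rw [MonObj.mul_comp, _root_.mul_comm]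
      exact Cartesian.overPt_mul p1 q1
    have hP : (βp * βq).1.hom ≫ Cartesian.proj f M e T = Cartesian.proj f M e T := by
      show (βq.1.hom ≫ βp.1.hom) ≫ _ = _
      rw [Category.assoc, p2, q2]
    obtain ⟨w, -, hw⟩ := Cartesian.existsUnique_kernelPt f M e ((p * q) ≫ i) (hn (p * q))
    rw [hw _ ⟨hover, hP⟩, ← hw β ⟨b1, b2⟩] at h
    obtain ⟨g, -, hg⟩ := hG.univ T β
    rw [hg _ b3, hg _ h]
  have hmon : IsMonHom j := by
    constructor
    · have h := hmul (1 : 𝟙_ (Over (Spec (CommRingCat.of k))) ⟶ N) 1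
      rw [_root_.one_mul, right_eq_mul] at h
      rw [MonObj.one_eq_one, h, MonObj.one_eq_one]
    · have h := hmul (fst N N) (snd N N)
      rw [Hom.mul_def, lift_fst_snd, Category.id_comp] at h
      rw [h, Hom.mul_def, ← lift_fst_comp_snd_comp]
  refine ⟨j, hmon, ⟨?_, hmon, ?_⟩, fun T n β hβ => over n β hβ⟩
  · have : IsClosedImmersion η[B].left := isClosedImmersion_of_comp_eq_id
      (Y := Spec (CommRingCat.of k)) B.hom η[B].left (Over.w η[B])
    have : IsClosedImmersion i.left := MorphismProperty.of_isPullback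
      (hN.map (Over.forget _)).flip ‹IsClosedImmersion η[B].left›
    have : IsImmersion (j.left ≫ x₀.left) := by
      rw [← Over.comp_left, hjx]; infer_instance
    exact IsImmersion.of_comp j.left x₀.left
  · intro T h β hβ h1
    have e2 := Cartesian.overPt_unique (over h β hβ) h1
    rw [← cancel_mono i, e2, MonObj.one_comp]

end Groth.Agent.S19953
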