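import Groth.Statements.S19954
import Groth.Agent.H3.ThetaMaps
import Groth.Agent.H3.PicCalc
import Groth.Agent.Lib.TensorMod.Invertible


set_option autoImplicit false
universe u
open CategoryTheory MonoidalCategory CartesianMonoidalCategory MonObj GrpObj AlgebraicGeometry
open ThetaGrp

namespace Groth.Agent.S19954

open Groth.Agent.H3

/-- Let f : X → Y be a homomorphism of abelian varieties over a field k (proper, geometrically integral,
commutative k-group schemes), L an invertible O_Y-module, and i_K : K → Y a closed immersion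
exhibiting K as K(L), the maximal closed subscheme of Y over which the Mumford bundle m^*L ⊗
p_1^*L⁻¹ ⊗ p_2^*L⁻¹, restricted to Y ×_k K, is the inverse image of an invertible module on K, with
its universal property. The identity e_{f^*L} = e_L ∘ (f, f) on f⁻¹(K(L)) is stated here through the
vanishing of the two commutator pairings: for a k-scheme H and a k-morphism i_H : H → X such that f
∘ i_H factors through i_K, the pairing e_L is trivial on the image of H in Y — for every k-scheme T,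
any two points of G(L)(T) lying over the translations by f(i_H(h₁)), f(i_H(h₂)) for T-valued points
h₁, h₂ of H commute — if and only if e_{f^*L} is trivial on H: any two points of G(f^*L)(T) lying
over the translations by i_H(h₁), i_H(h₂) commute. -/
theorem result (k : Type u) [Field k]
    (A : Over (Spec (CommRingCat.of k))) [GrpObj A] [IsCommMonObj A] [IsProper A.hom] [GeometricallyIntegral A.hom]
    (B : Over (Spec (CommRingCat.of k))) [GrpObj B] [IsCommMonObj B] [IsProper B.hom] [GeometricallyIntegral B.hom]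
    (f : A ⟶ B) [IsMonHom f]
    (L : B.left.Modules) (hL : PicF.IsInvertible L)
    (K : Over (Spec (CommRingCat.of k))) (iK : K ⟶ B) (hK : ThetaGrp.IsKL B L iK)
    (H : Over (Spec (CommRingCat.of k))) (iH : H ⟶ A) (hH : ∃ y : H ⟶ K, y ≫ iK = iH ≫ f) :
    ThetaGrp.IsIsotropic L (iH ≫ f) ↔
      ThetaGrp.IsIsotropic ((Scheme.Modules.pullback f.left).obj L) iH := by
  letI : ∀ Y : Scheme.{u}, PicGrp.Law Y := fun Y => Groth.Agent.Lib.TensorMod.Invertible.law Y
  haveI : Subsingleton ↥(Spec (CommRingCat.of k)) := inferInstance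
  let L' := (Scheme.Modules.pullback f.left).obj L
  have hL' : PicF.IsInvertible L' := PicLoc.isInvertible_pullback f.left hL
  -- the morphism (A × T, f^*L) → (B × T, L)
  have mkP : ∀ (T : Over (Spec (CommRingCat.of k))),
      ∃ P : ThetaGrp.thetaObj A L' T ⟶ ThetaGrp.thetaObj B L T,
        IsIso P.fiber ∧ P.base = (f ▷ T).left := by
    intro T
    have hb : IsIso (Cartesian.toBase L T).fiber :=
      (show IsIso (𝟙 ((Scheme.Modules.pullback (fst B T).left).obj L)) from inferInstance)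
    obtain ⟨P, ⟨h1, h2⟩, -⟩ := Cartesian.exists_unique_lift (Cartesian.toBase L T) hb (f ▷ T).left
      (Cartesian.proj f L (Iso.refl L') T) (by
        show (fst A T ≫ f).left = (f ▷ T).left ≫ (fst B T).left
        rw [← Over.comp_left, whiskerRight_fst])
    exact ⟨P, ThetaMaps.isIso_fiber_of_comp P _ hb
      (h2.symm ▸ Cartesian.isIso_proj_fiber f L (Iso.refl L') T), h1⟩
  have hsq : ∀ {T : Over (Spec (CommRingCat.of k))} (a : T ⟶ A),
      (ThetaGrp.transl A a).left ≫ (f ▷ T).left = (f ▷ T).left ≫ (ThetaGrp.transl B (a ≫ f)).left := by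
    intro T a
    rw [← Over.comp_left, ← Over.comp_left]
    congr 1
    apply CartesianMonoidalCategory.hom_ext
    · simp only [Category.assoc, whiskerRight_fst, ThetaGrp.transl_fst, MonObj.comp_mul,
        whiskerRight_snd_assoc]
      rw [← Category.assoc, ThetaGrp.transl_fst, MonObj.mul_comp, Category.assoc]
    · simp only [Category.assoc, whiskerRight_snd, ThetaGrp.transl_snd]
  constructor
  · intro hiso T x y β₁ β₂ h₁ h₂
    refine ThetaMaps.commute_of_local hL' h₁ h₂ fun t => ?_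
    obtain ⟨z, hz⟩ := hH
    have hfac : ∀ w : T ⟶ H, ∃ v : T ⟶ K, v ≫ iK = w ≫ iH ≫ f := fun w =>
      ⟨w ≫ z, by rw [Category.assoc, hz]⟩
    obtain ⟨U₁, ht₁, c₁, hc₁⟩ := (ThetaPts.factors_iff_local hL hK _).mp (hfac x) t
    obtain ⟨U₂, ht₂, c₂, hc₂⟩ := (ThetaPts.factors_iff_local hL hK _).mp (hfac y) t
    refine ⟨U₁ ⊓ U₂, ⟨ht₁, ht₂⟩, fun γ₁ γ₂ hγ₁ hγ₂ => ?_⟩
    let U := U₁ ⊓ U₂
    let T' : Over (Spec (CommRingCat.of k)) := Over.mk (U.ι ≫ T.hom)
    let g : T' ⟶ T := Over.homMk U.ι rfl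
    have res : ∀ (V : T.left.Opens) (hV : U ≤ V) (w : T ⟶ H)
        (c : ThetaGrp.thetaPts B L (Over.mk (V.ι ≫ T.hom))),
        ThetaGrp.IsOverPt c ((Over.homMk V.ι rfl : Over.mk (V.ι ≫ T.hom) ⟶ T) ≫ w ≫ iH ≫ f) →
        ∃ d : ThetaGrp.thetaPts B L T', ThetaGrp.IsOverPt d ((g ≫ w) ≫ iH ≫ f) := by
      intro V hV w c hc
      let j : T' ⟶ Over.mk (V.ι ≫ T.hom) := Over.homMk (T.left.homOfLE hV) (by
        show T.left.homOfLE hV ≫ V.ι ≫ T.hom = U.ι ≫ T.hom
        rw [Scheme.homOfLE_ι_assoc])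
      have hj : j ≫ (Over.homMk V.ι rfl : Over.mk (V.ι ≫ T.hom) ⟶ T) = g :=
        Over.OverMorphism.ext (T.left.homOfLE_ι hV)
      obtain ⟨β, hβ, -⟩ := ThetaMaps.exists_lift (ThetaGrp.bcLift B L j)
        (ThetaMaps.bcLift_fiber_isIso j) c hc (ThetaMaps.bcLift_transl j _)
      exact ⟨β, by rw [← hj]; simpa only [Category.assoc] using hβ⟩
    obtain ⟨d₁, hd₁⟩ := res U₁ inf_le_left x c₁ hc₁
    obtain ⟨d₂, hd₂⟩ := res U₂ inf_le_right y c₂ hc₂
    obtain ⟨P, hP, hPb⟩ := mkP T'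
    obtain ⟨b₁, hb₁, e₁⟩ := ThetaMaps.exists_lift P hP d₁ hd₁ (x := g ≫ x ≫ iH)
      (by rw [hPb, hsq]; simp only [Category.assoc])
    obtain ⟨b₂, hb₂, e₂⟩ := ThetaMaps.exists_lift P hP d₂ hd₂ (x := g ≫ y ≫ iH)
      (by rw [hPb, hsq]; simp only [Category.assoc])
    obtain ⟨r₁, hr₁⟩ := ThetaMaps.exists_act hL' hγ₁ hb₁
    obtain ⟨r₂, hr₂⟩ := ThetaMaps.exists_act hL' hγ₂ hb₂
    exact ThetaMaps.commute_act hr₁ hr₂
      (ThetaMaps.lift_commute P hP e₁ e₂ (hiso _ (g ≫ x) (g ≫ y) d₁ d₂ hd₁ hd₂))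
  · intro hiso T x y γ₁ γ₂ h₁ h₂
    obtain ⟨P, hP, hPb⟩ := mkP T
    obtain ⟨b₁, hb₁, e₁⟩ := ThetaMaps.exists_lift P hP γ₁ h₁ (x := x ≫ iH)
      (by rw [hPb, hsq]; simp only [Category.assoc])
    obtain ⟨b₂, hb₂, e₂⟩ := ThetaMaps.exists_lift P hP γ₂ h₂ (x := y ≫ iH)
      (by rw [hPb, hsq]; simp only [Category.assoc])
    obtain ⟨r, hr⟩ := ThetaMaps.exists_commutator hL γ₁ γ₂
    refine ThetaMaps.eq_of_act hr ?_
    have h1 := ThetaMaps.appTop_eq_one_of_lift hL' P hP e₁ e₂ (hiso T x y b₁ b₂ hb₁ hb₂) hr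
    rw [hPb] at h1
    have hsec : lift (toUnit T ≫ η[A]) (𝟙 T) ≫ (f ▷ T) = lift (toUnit T ≫ η[B]) (𝟙 T) := by
      apply CartesianMonoidalCategory.hom_ext <;> simp
    have h2 := congrArg (fun c => (lift (toUnit T ≫ η[A]) (𝟙 T)).left.appTop.hom c) h1
    rw [map_one, ← CommRingCat.comp_apply, ← Scheme.Hom.comp_appTop, ← Over.comp_left, hsec] at h2
    rw [Scalars.eq_snd_appTop T r, h2, map_one]

end Groth.Agent.S19954
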