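import Groth.Statements.S19955
import Groth.Agent.Lib.H3.ThetaLift

set_option autoImplicit false
universe u
open CategoryTheory MonoidalCategory CartesianMonoidalCategory MonObj GrpObj AlgebraicGeometry
open ThetaGrp

namespace Groth.Agent.S19955

open Groth.Agent.H3 Groth.Agent.Lib.H3

/-- Let A be an abelian variety over a field k (a proper, geometrically integral, commutative k-group
scheme), L an invertible O_A-module, and Λ an invertible module on A ×_k A which is the Mumford
bundle of L, stated without inverses: Λ ⊗ p_1^*L ⊗ p_2^*L ≅ m^*L for the group law m and the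
projections p_1, p_2. Let i : K → A be a closed subgroup scheme exhibiting K as K(L) (the maximal
closed subscheme of A over which Λ, restricted to A ×_k K, is the inverse image of an invertible
module on K, with its universal property), and let G be a k-group scheme with a point u ∈ G(Λ)(G)
representing the theta group of Λ on the k-group scheme A ×_k A (every point of G(Λ)(T) — a T-valued
point z of A × A with an isomorphism Λ_T ≅ t_z^*Λ_T — is the base change of u along a unique T → G,
multiplicatively). Then the action of K × {e} on A × A by translations lifts to Λ compatibly with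
the group law of K: there is a homomorphism of group schemes j : K → G such that for every k-scheme
T and every T-valued point y of K, the base change of u along j(y) lies over the translation by the
point (i(y), e) of A × A. (In the source L is a fixed ample invertible module and the equivariant
structure is moreover shown to be unique once an isomorphism of the fibre of L at e with k is fixed;
the argument for existence uses only that L is invertible, and the uniqueness is not part of this
statement.) -/
theorem result (k : Type u) [Field k]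
    (A : Over (Spec (CommRingCat.of k))) [GrpObj A] [IsCommMonObj A] [IsProper A.hom] [GeometricallyIntegral A.hom]
    (L : A.left.Modules) (hL : PicF.IsInvertible L)
    (Λ : (A ⊗ A).left.Modules) (hΛi : PicF.IsInvertible Λ)
    (hΛ : AgPol.IsLambdaSheaf μ[A].left (fst A A).left (snd A A).left L Λ)
    (K : Over (Spec (CommRingCat.of k))) [GrpObj K] (iK : K ⟶ A) [IsMonHom iK] (hK : ThetaGrp.IsKL A L iK)
    (G : Over (Spec (CommRingCat.of k))) [GrpObj G] (u : ThetaGrp.thetaPts (A ⊗ A) Λ G)
    (hG : ThetaGrp.IsThetaGrpSch (A ⊗ A) Λ G u) :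
    ∃ j : K ⟶ G, IsMonHom j ∧
      ∀ (T : Over (Spec (CommRingCat.of k))) (y : T ⟶ K) (β : ThetaGrp.thetaPts (A ⊗ A) Λ T),
        ThetaGrp.IsBaseChange β (y ≫ j) u → ThetaGrp.IsOverPt β (y ≫ lift iK (1 : K ⟶ A)) := by
  letI : ∀ Y : Scheme.{u}, PicGrp.Law Y := Groth.Agent.Lib.TensorMod.Invertible.law
  haveI := ThetaLift.isProper_sq A
  haveI := ThetaLift.geometricallyIntegral_sq A
  haveI : IsClosedImmersion iK.left := hK.closed
  obtain ⟨h₀, hh₀⟩ := ThetaLift.exists_axisFrame hL hΛi hΛ
  obtain ⟨n, hn⟩ := (KLBasics.factors_iff hL hK iK).mp ⟨𝟙 _, Category.id_comp _⟩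
  obtain ⟨β₀, hβ₀⟩ := (ThetaPts.exists_thetaPt_iff hΛi (lift iK (1 : K ⟶ A))).mpr
    (ThetaLift.transTriv A hL hΛi hΛ hn)
  obtain ⟨v, hv⟩ := ThetaLift.exists_norm hΛi h₀ hh₀ hβ₀
  obtain ⟨j, hj, -⟩ := hG.univ K v
  have key : ∀ {T : Over (Spec (CommRingCat.of k))} (y : T ⟶ K),
      ∃ b, ThetaGrp.IsBaseChange b (y ≫ j) u ∧ ThetaLift.IsNorm h₀ hh₀ (y ≫ iK) b := by
    intro T y
    refine ⟨ThetaRep.bc y v, ?_, ThetaLift.norm_bc hΛi h₀ hh₀ y hv⟩
    show _ ≫ ThetaGrp.bcLift (A ⊗ A) Λ (y ≫ j) = _
    rw [ThetaRep.bcLift_comp, ← Category.assoc,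
      show _ ≫ ThetaGrp.bcLift (A ⊗ A) Λ y = _ from ThetaRep.bc_spec y v, Category.assoc,
      show v.1.hom ≫ ThetaGrp.bcLift (A ⊗ A) Λ j = _ from hj, Category.assoc]
  have hmul : ∀ {T : Over (Spec (CommRingCat.of k))} (n m : T ⟶ K),
      (n * m) ≫ j = (n ≫ j) * (m ≫ j) := by
    intro T n m
    obtain ⟨b₁, k₁, o₁⟩ := key n
    obtain ⟨b₂, k₂, o₂⟩ := key m
    obtain ⟨b, kb, o⟩ := key (n * m)
    have h := ThetaLift.norm_mul hΛi h₀ hh₀ o₁ o₂
    rw [_root_.mul_comm (m ≫ iK), ← MonObj.mul_comp] at h
    obtain rfl := ThetaLift.norm_unique hΛi h₀ hh₀ o h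
    exact (hG.univ T _).unique kb (hG.mul T _ _ b₁ b₂ k₁ k₂)
  refine ⟨j, ⟨?_, ?_⟩, fun T y β hβ => ?_⟩
  · have h1 : ((1 : 𝟙_ (Over (Spec (CommRingCat.of k))) ⟶ K) ≫ j) = 1 := by
      have h := hmul (1 : 𝟙_ (Over (Spec (CommRingCat.of k))) ⟶ K) 1
      rw [_root_.mul_one] at h
      exact left_eq_mul.mp h
    simpa [Hom.one_def] using h1
  · have h := hmul (fst K K) (snd K K)
    rw [Hom.mul_def, Hom.mul_def, lift_fst_snd, Category.id_comp] at h
    rw [h]
    congr 1
  · obtain ⟨b, kb, o⟩ := key y
    rw [(hG.exists_bc T (y ≫ j)).unique hβ kb]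
    have := o.1
    rwa [comp_lift, MonObj.comp_one]

end Groth.Agent.S19955
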