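import Groth.Statements.S19956
import Groth.Agent.Lib.H3.ThetaDesc
import Groth.Agent.Lib.H3.KLExists

set_option autoImplicit false
universe u
open CategoryTheory MonoidalCategory CartesianMonoidalCategory MonObj GrpObj AlgebraicGeometry
open ThetaGrp

namespace Groth.Agent.S19956

open Groth.Agent.H3

/-- Let f : X → Y be a surjective homomorphism of abelian varieties over a field k (proper,
geometrically integral, commutative k-group schemes), i : N → X its kernel (a homomorphism forming a
cartesian square with the unit section of Y), M an invertible O_Y-module and L = f^*M. Let G be a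
k-group scheme with a point u ∈ G(L)(G) representing the theta group of L (every point of G(L)(T) is
the base change of u along a unique T → G, multiplicatively), and j : N → G a level subgroup lying
over i: a homomorphism of group schemes and an immersion such that a point of N whose image lies
over the identity translation is trivial, and such that for every T-valued point n of N the base
change of u along j(n) lies over the translation by i(n). Let i_M : K_M → Y be a closed immersion
exhibiting K_M as K(M) (the maximal closed subscheme of Y over which the Mumford bundle of M,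
restricted to Y ×_k K_M, is the inverse image of an invertible module on K_M, with its universal
property). For a k-scheme T, a T-valued point g of G and the T-valued point x of X under it (the
base change of u along g lies over the translation by x): g lies in the centralizer of j(N) — for
every T' → T and every T'-valued point n of N, the restriction of g commutes with j(n) in the group
G(T') — if and only if f(x) factors through i_M. (The source states this for the level subgroup
attached to the descent M; by the source's description of f⁻¹(K(M)) as Ker(f)^⊥ both sides depend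
only on Ker(f), so it is stated for any level structure over i. The identification of G(M) with the
centralizer modulo j(N) is not part of this statement.) -/
theorem result (k : Type u) [Field k]
    (A : Over (Spec (CommRingCat.of k))) [GrpObj A] [IsCommMonObj A] [IsProper A.hom] [GeometricallyIntegral A.hom]
    (B : Over (Spec (CommRingCat.of k))) [GrpObj B] [IsCommMonObj B] [IsProper B.hom] [GeometricallyIntegral B.hom]
    (f : A ⟶ B) [IsMonHom f] (hf : Surjective f.left)
    (N : Over (Spec (CommRingCat.of k))) [GrpObj N] (i : N ⟶ A) [IsMonHom i] (hN : AlgGrp.IsKernel i f)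
    (M : B.left.Modules) (hM : PicF.IsInvertible M)
    (G : Over (Spec (CommRingCat.of k))) [GrpObj G]
    (u : ThetaGrp.thetaPts A ((Scheme.Modules.pullback f.left).obj M) G)
    (hG : ThetaGrp.IsThetaGrpSch A ((Scheme.Modules.pullback f.left).obj M) G u)
    (j : N ⟶ G) [IsMonHom j] (hj : ThetaGrp.IsLevelSubgrp u j)
    (hover : ∀ (T : Over (Spec (CommRingCat.of k))) (n : T ⟶ N)
      (β : ThetaGrp.thetaPts A ((Scheme.Modules.pullback f.left).obj M) T),
      ThetaGrp.IsBaseChange β (n ≫ j) u → ThetaGrp.IsOverPt β (n ≫ i))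
    (KM : Over (Spec (CommRingCat.of k))) (iM : KM ⟶ B) (hKM : ThetaGrp.IsKL B M iM)
    (T : Over (Spec (CommRingCat.of k))) (g : T ⟶ G) (x : T ⟶ A)
    (β : ThetaGrp.thetaPts A ((Scheme.Modules.pullback f.left).obj M) T)
    (hβ : ThetaGrp.IsBaseChange β g u) (hx : ThetaGrp.IsOverPt β x) :
    (∀ (T' : Over (Spec (CommRingCat.of k))) (t : T' ⟶ T) (n : T' ⟶ N),
        (t ≫ g) * (n ≫ j) = (n ≫ j) * (t ≫ g)) ↔
      ∃ y : T ⟶ KM, y ≫ iM = x ≫ f := by
  haveI := hf
  letI : ∀ Y : Scheme.{u}, PicGrp.Law Y := Groth.Agent.Lib.TensorMod.Invertible.law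
  have hL : PicF.IsInvertible ((Scheme.Modules.pullback f.left).obj M) :=
    PicLoc.isInvertible_pullback f.left hM
  obtain ⟨xu, hxu⟩ := u.2
  have hxg : x = g ≫ xu := Cartesian.overPt_baseChange hβ hxu hx
  have lifts : ∀ (T' : Over (Spec (CommRingCat.of k))) (t : T' ⟶ T) (n : T' ⟶ N),
      ∃ b₁ b₂ : ThetaGrp.thetaPts A ((Scheme.Modules.pullback f.left).obj M) T',
        ThetaGrp.IsBaseChange b₁ (t ≫ g) u ∧ ThetaGrp.IsBaseChange b₂ (n ≫ j) u ∧
        ThetaGrp.IsOverPt b₁ (t ≫ x) ∧ ThetaGrp.IsOverPt b₂ (n ≫ i) := by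
    intro T' t n
    obtain ⟨b₁, h₁, -⟩ := hG.exists_bc T' (t ≫ g)
    obtain ⟨b₂, h₂, -⟩ := hG.exists_bc T' (n ≫ j)
    obtain ⟨z, hz⟩ := b₁.2
    have e : z = t ≫ x := by
      rw [hxg, ← Category.assoc]
      exact Cartesian.overPt_baseChange h₁ hxu hz
    exact ⟨b₁, b₂, h₁, h₂, by rw [← e]; exact hz, hover T' n b₂ h₂⟩
  rw [Groth.Agent.Lib.H3.ThetaDesc.factors_iff_perp hM hN
    (iL := (Groth.Agent.Lib.H3.KLExists.exists_isKL k A _ hL).choose_spec.choose)
    (Groth.Agent.Lib.H3.KLExists.exists_isKL k A _ hL).choose_spec.choose_spec hKM]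
  constructor
  · intro hc
    refine ⟨(KLBasics.factors_iff hL
      (Groth.Agent.Lib.H3.KLExists.exists_isKL k A _ hL).choose_spec.choose_spec x).mpr
      ⟨1, (ThetaPts.exists_thetaPt_iff hL x).mp ⟨β, hx⟩⟩, fun T' t n β₁ β₂ h₁ h₂ => ?_⟩
    obtain ⟨b₁, b₂, k₁, k₂, o₁, o₂⟩ := lifts T' t n
    have e1 := hG.mul T' _ _ b₁ b₂ k₁ k₂
    have e2 := hG.mul T' _ _ b₂ b₁ k₂ k₁
    rw [← hc T' t n] at e2
    have hb : b₁ * b₂ = b₂ * b₁ := (hG.exists_bc T' _).unique e1 e2
    obtain ⟨r₁, hr₁⟩ := ThetaMaps.exists_act hL h₁ o₁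
    obtain ⟨r₂, hr₂⟩ := ThetaMaps.exists_act hL h₂ o₂
    exact ThetaMaps.commute_act hr₁ hr₂ hb
  · rintro ⟨-, hperp⟩ T' t n
    obtain ⟨b₁, b₂, k₁, k₂, o₁, o₂⟩ := lifts T' t n
    have e1 := hG.mul T' _ _ b₁ b₂ k₁ k₂
    have e2 := hG.mul T' _ _ b₂ b₁ k₂ k₁
    rw [← hperp T' t n b₁ b₂ o₁ o₂] at e2
    exact (hG.univ T' _).unique e1 e2

end Groth.Agent.S19956
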