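import Groth.Statements.S19960
import Groth.Agent.H47.HomFibre.Basic
import Groth.Agent.H46.FibreProf.Dims
import Groth.Agent.Lib.Exchange.LocalRep
import Groth.Agent.Lib.ResDescend36.Affine
import Groth.Agent.Lib.ResDescend36.Ample
import Groth.Agent.Lib.FlatCx.FibreRank
import Groth.Agent.Lib.CohBasics.Closure
import Groth.Agent.Lib.ZarCoh.FP

set_option autoImplicit false
set_option linter.style.haveILetI false
set_option backward.isDefEq.respectTransparency false
open CategoryTheory CategoryTheory.Limits AlgebraicGeometry Polynomial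
universe u
open ShStab

namespace Groth.Agent.S19960

open Groth.Agent.Lib
open ZarCoh.Exchange.Local ZarCoh.Exchange.LocalRep
open scoped TensorProduct

/-- Every endomorphism is the multiplication by a scalar. -/
def AllScalar {R : CommRingCat.{u}} {Y : Scheme.{u}} (h : Y ⟶ Spec R) (M : Y.Modules) : Prop :=
  ∀ φ : M ⟶ M, ∃ c : R, ∀ (U : Y.Opens) (x : M.val.obj (Opposite.op U)),
    (φ.app U) x = (Y.ringCatSheaf.obj.map (homOfLE (le_top : U ≤ ⊤)).op
      (Coh.toGlobal (X := Y) (A := R) h c)) • x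

theorem allScalar_congr {R R' : CommRingCat.{u}} (e : R ≅ R') {Y : Scheme.{u}} (h : Y ⟶ Spec R)
    (h' : Y ⟶ Spec R')
    (H : ∀ r, Coh.toGlobal (X := Y) (A := R) h r = Coh.toGlobal (X := Y) (A := R') h' (e.hom r))
    (M : Y.Modules) : AllScalar h M ↔ AllScalar h' M := by
  constructor
  · intro hs φ
    obtain ⟨c, hc⟩ := hs φ
    exact ⟨e.hom c, fun U x => by rw [← H c]; exact hc U x⟩
  · intro hs φ
    obtain ⟨c, hc⟩ := hs φ
    exact ⟨e.inv c, fun U x => by rw [H (e.inv c), Iso.inv_hom_id_apply]; exact hc U x⟩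

theorem allScalar_iff {K : Type u} [Field K] {Y : Scheme.{u}} [Y.Over (Spec (CommRingCat.of K))]
    (M : Y.Modules) [Module.Finite K (M ⟶ M)] (hM : ¬ IsZero M) :
    AllScalar (Y ↘ Spec (CommRingCat.of K)) M ↔ Module.finrank K (M ⟶ M) ≤ 1 := by
  constructor
  · intro hs
    refine finrank_le_one_iff.2 ⟨𝟙 M, fun φ => ?_⟩
    obtain ⟨c, hc⟩ := hs φ
    refine ⟨c, Scheme.Modules.hom_ext _ _ fun U => ?_⟩
    ext x
    exact (KLin.smul_app_apply c (𝟙 M) U x).trans (hc U x).symm
  · intro h φ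
    obtain ⟨v, hv⟩ := finrank_le_one_iff.1 h
    obtain ⟨a, ha⟩ := hv (𝟙 M)
    obtain ⟨b, rfl⟩ := hv φ
    have ha0 : a ≠ 0 := fun h0 => hM ((IsZero.iff_id_eq_zero M).2 (by rw [← ha, h0, zero_smul]))
    refine ⟨b * a⁻¹, fun U x => ?_⟩
    have e : b • v = (b * a⁻¹) • 𝟙 M := by rw [← ha, smul_smul, mul_assoc, inv_mul_cancel₀ ha0, mul_one]
    rw [e]
    exact KLin.smul_app_apply (b * a⁻¹) (𝟙 M) U x

theorem exists_div {R : Type u} [CommRing R] (p : Ideal R) [p.IsPrime] (k : p.ResidueField) :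
    ∃ a s : R, algebraMap R p.ResidueField s ≠ 0 ∧
      k * algebraMap R p.ResidueField s = algebraMap R p.ResidueField a := by
  obtain ⟨⟨a, s⟩, h⟩ := IsLocalization.surj (nonZeroDivisors (R ⧸ p)) k
  obtain ⟨a', ha⟩ := Ideal.Quotient.mk_surjective a
  obtain ⟨s', hs⟩ := Ideal.Quotient.mk_surjective (s : R ⧸ p)
  refine ⟨a', s', ?_, ?_⟩
  · rw [← Ideal.algebraMap_quotient_residueField_mk, hs]
    exact (IsLocalization.map_units p.ResidueField s).ne_zero
  · rw [← Ideal.algebraMap_quotient_residueField_mk, ← Ideal.algebraMap_quotient_residueField_mk, ha, hs]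
    exact h

/-- A nonzero fibre module is simple exactly where the fibre dimension of the representing module is at most one. -/
theorem allScalar_fibre_iff {W S : Scheme.{u}} (f : W ⟶ S) (V : S.Opens) [IsAffine (V : Scheme.{u})]
    (F : W.Modules) [F.IsQuasicoherent] {N : ModuleCat.{u} (AV V)} [Module.Finite (AV V) N]
    (θ : CohIII.tensorAFunctor (AV V) (MV f V F) ⋙ preadditiveCoyoneda.obj (Opposite.op (MV f V F)) ≅
      (linearCoyoneda (AV V) (ModuleCat.{u} (AV V))).obj (Opposite.op N) ⋙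
        forget₂ (ModuleCat.{u} (AV V)) AddCommGrpCat.{u})
    (x : PrimeSpectrum (AV V)) (hne : ¬ IsZero (CohIII.fiberMod f F (k V x))) :
    AllScalar (f.fiberToSpecResidueField (k V x)) (CohIII.fiberMod f F (k V x)) ↔
      Module.finrank x.asIdeal.ResidueField (x.asIdeal.ResidueField ⊗[AV V] N) ≤ 1 := by
  let y : S := k V x
  let t : S.residueField y ≅ CommRingCat.of x.asIdeal.ResidueField :=
    asIso ((k V).residueFieldMap x) ≪≫ Scheme.Spec.residueFieldIso (CommRingCat.of (AV V)) x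
  have ht : Spec.map t.hom ≫ S.fromSpecResidueField y =
      Spec.map (CommRingCat.ofHom (algebraMap (AV V) x.asIdeal.ResidueField)) ≫ k V := by
    rw [Iso.trans_hom, asIso_hom, Spec.map_comp, Category.assoc,
      Scheme.Hom.SpecMap_residueFieldMap_fromSpecResidueField, ← Category.assoc]
    congr 1
    rw [← Scheme.Spec.map_residueFieldIso_inv_eq_fromSpecResidueField, ← Category.assoc,
      ← Spec.map_comp, Iso.inv_hom_id, Spec.map_id, Category.id_comp]
  letI : (f.fiber y).Over (Spec (CommRingCat.of x.asIdeal.ResidueField)) :=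
    ⟨f.fiberToSpecResidueField y ≫ Spec.map t.inv⟩
  have hR := isPullback_k f V
  have hbig : IsPullback (f.fiberι y)
      (f.fiber y ↘ Spec (CommRingCat.of x.asIdeal.ResidueField)) f
      (Spec.map (CommRingCat.ofHom (algebraMap (AV V) x.asIdeal.ResidueField)) ≫ k V) := by
    refine IsPullback.of_iso (IsPullback.of_hasPullback f (S.fromSpecResidueField y))
      (Iso.refl _) (Iso.refl _) (asIso (Spec.map t.inv)) (Iso.refl _) ?_ ?_ ?_ ?_
    · exact (Category.comp_id _).trans (Category.id_comp _).symm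
    · exact (Category.id_comp _).symm
    · exact (Category.comp_id _).trans (Category.id_comp _).symm
    · rw [Iso.refl_hom, Category.comp_id, asIso_hom, ← ht, ← Category.assoc, ← Spec.map_comp,
        Iso.hom_inv_id, Spec.map_id, Category.id_comp]
  let g' : f.fiber y ⟶ XV f V := hR.lift (f.fiberι y)
    ((f.fiber y ↘ Spec (CommRingCat.of x.asIdeal.ResidueField)) ≫
      Spec.map (CommRingCat.ofHom (algebraMap (AV V) x.asIdeal.ResidueField)))
    (by rw [Category.assoc]; exact hbig.w)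
  have hg : g' ≫ (f ⁻¹ᵁ V).ι = f.fiberι y := hR.lift_fst _ _ _
  have hsq : IsPullback g' (f.fiber y ↘ Spec (CommRingCat.of x.asIdeal.ResidueField))
      (XV f V ↘ Spec (CommRingCat.of (AV V)))
      (Spec.map (CommRingCat.ofHom (algebraMap (AV V) x.asIdeal.ResidueField))) :=
    IsPullback.of_right (hg.symm ▸ hbig) (hR.lift_snd _ _ _) hR
  let i : (Scheme.Modules.pullback g').obj (MV f V F) ≅ CohIII.fiberMod f F y :=
    (Scheme.Modules.pullback g').mapIso
        ((Scheme.Modules.restrictFunctorIsoPullback (f ⁻¹ᵁ V).ι).app F) ≪≫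
      (Scheme.Modules.pullbackComp g' (f ⁻¹ᵁ V).ι).app F ≪≫
      (Scheme.Modules.pullbackCongr hg).app F
  haveI := H47.HomFibre.finite_hom_fibre (MV f V F) θ (exists_div x.asIdeal) hsq
  have hL := (Linear.homCongr x.asIdeal.ResidueField i i)
  haveI : Module.Finite x.asIdeal.ResidueField (CohIII.fiberMod f F y ⟶ CohIII.fiberMod f F y) :=
    Module.Finite.equiv hL
  rw [← H47.HomFibre.finrank_hom_fibre (MV f V F) θ (exists_div x.asIdeal) hsq]
  refine ((allScalar_congr t _ _ (fun r => ?_) _).trans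
    (allScalar_iff (K := x.asIdeal.ResidueField) (CohIII.fiberMod f F y) hne)).trans (by rw [← hL.finrank_eq])
  show Coh.toGlobal (X := f.fiber y) (f.fiberToSpecResidueField y) r =
    Coh.toGlobal (X := f.fiber y) (f.fiberToSpecResidueField y ≫ Spec.map t.inv) (t.hom r)
  rw [toGlobal_comp, Iso.hom_inv_id_apply]
  rfl

theorem isZero_fiberMod_iff {W S : Scheme.{u}} (f : W ⟶ S) (F : W.Modules) [F.IsQuasicoherent]
    [SheafOfModules.IsFiniteType (R := W.ringCatSheaf) F] (y : S) :
    ¬ IsZero (CohIII.fiberMod f F y) ↔ y ∈ f '' (CohB1.support F ∩ Set.univ) := by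
  rw [Modules.Stalk.isZero_iff_stalk_subsingleton, not_forall]
  constructor
  · rintro ⟨a, ha⟩
    rw [H46.FibreProf.Basic.subsingleton_iff, not_not] at ha
    exact ⟨_, ⟨ha, trivial⟩, Lib.Cyc.FieldDim.apply_fiberι f y a⟩
  · rintro ⟨w, ⟨hw, -⟩, hwy⟩
    obtain ⟨a, ha⟩ : w ∈ Set.range (f.fiberι y) := by rw [f.range_fiberι]; exact hwy
    exact ⟨a, by rw [H46.FibreProf.Basic.subsingleton_iff, not_not, ha]; exact hw⟩


/-- Let k be a field and X an integral scheme, smooth and proper over k, with a closed immersion ι into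
projective N-space over k compatible with the structure maps, polarised by the ample O_X(1) =
ι^*O(1). Let S be a k-scheme of finite type and F a coherent sheaf on X ×_k S, flat over S, whose
fibres F_s on X_s = (X ×_k S) ×_S Spec κ(s) have a fixed Hilbert polynomial P with respect to
O_X(1)|_{X_s}. Then the set of points s of S for which F_s is simple over κ(s) is open, where F_s
simple means that End(F_s) is one-dimensional over κ(s): F_s is nonzero and every endomorphism of
F_s is multiplication by a scalar c ∈ κ(s) on the sections over every open of X_s. -/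
theorem result (k : Type u) [Field k]
    (X : Scheme.{u}) [X.Over (Spec (CommRingCat.of k))] [IsIntegral X]
    [Smooth (X ↘ Spec (CommRingCat.of k))] [IsProper (X ↘ Spec (CommRingCat.of k))]
    (N : ℕ) (ι : X ⟶ CohB1.ProjSpace N k) [IsClosedImmersion ι]
    (hι : ι ≫ CohB1.ProjSpace.toSpec N k = X ↘ Spec (CommRingCat.of k))
    (hL : CohB1.IsAmple ((Scheme.Modules.pullback ι).obj (Twist.twistProjSpace N k 1)))
    (S : Scheme.{u}) (q : S ⟶ Spec (CommRingCat.of k)) [LocallyOfFiniteType q] [CompactSpace S]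
    (F : (pullback (X ↘ Spec (CommRingCat.of k)) q).Modules) (hF : Coh.IsCoh F)
    (hfl : FlatMod.IsFlatOver (pullback.snd (X ↘ Spec (CommRingCat.of k)) q) F) (P : ℚ[X])
    (hP : ∀ s : S, ShStab.IsHilbPoly (S.residueField s) (Over.mk ((pullback.snd (X ↘ Spec (CommRingCat.of k)) q).fiberToSpecResidueField s)).left (CohIII.fiberMod (pullback.snd (X ↘ Spec (CommRingCat.of k)) q) ((Scheme.Modules.pullback (pullback.fst (X ↘ Spec (CommRingCat.of k)) q)).obj ((Scheme.Modules.pullback ι).obj (Twist.twistProjSpace N k 1))) s) (CohIII.fiberMod (pullback.snd (X ↘ Spec (CommRingCat.of k)) q) F s) P) :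
    IsOpen {s : S | ¬ IsZero (CohIII.fiberMod (pullback.snd (X ↘ Spec (CommRingCat.of k)) q) F s) ∧
      ∀ φ : (CohIII.fiberMod (pullback.snd (X ↘ Spec (CommRingCat.of k)) q) F s) ⟶ (CohIII.fiberMod (pullback.snd (X ↘ Spec (CommRingCat.of k)) q) F s), ∃ c : ↥(S.residueField s),
        ∀ (V : ((pullback.snd (X ↘ Spec (CommRingCat.of k)) q).fiber s).Opens) (x : (CohIII.fiberMod (pullback.snd (X ↘ Spec (CommRingCat.of k)) q) F s).val.obj (Opposite.op V)),
          (φ.app V) x = (((pullback.snd (X ↘ Spec (CommRingCat.of k)) q).fiber s).ringCatSheaf.obj.map (homOfLE (le_top : V ≤ ⊤)).op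
            (Coh.toGlobal ((pullback.snd (X ↘ Spec (CommRingCat.of k)) q).fiberToSpecResidueField s) c)) • x} := by
  let f := pullback.snd (X ↘ Spec (CommRingCat.of k)) q
  haveI : IsLocallyNoetherian S := LocallyOfFiniteType.isLocallyNoetherian q
  haveI : IsLocallyNoetherian (pullback (X ↘ Spec (CommRingCat.of k)) q) :=
    LocallyOfFiniteType.isLocallyNoetherian f
  haveI : LocallyOfFinitePresentation f := inferInstance
  haveI : F.IsQuasicoherent := hF.1
  haveI : SheafOfModules.IsFiniteType (R := (pullback (X ↘ Spec (CommRingCat.of k)) q).ringCatSheaf) F := hF.2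
  have hA : IsOpen (f '' (CohB1.support F ∩ Set.univ)) :=
    H46.FibreProf.Dims.isOpen_image_support f F (ZarCoh.FP.isFP_of_isCoh F hF) hfl isOpen_univ
  rw [isOpen_iff_forall_mem_open]
  rintro s ⟨hs0, hs1⟩
  obtain ⟨V, hV, hsV, -⟩ := exists_isAffineOpen_mem_and_subset (X := S) (x := s) (U := ⊤) trivial
  haveI : IsAffine (V : Scheme.{u}) := hV
  haveI : CompactSpace X := hL.2.1
  haveI : QuasiSeparatedSpace X := Ample.Pullback.quasiSeparatedSpace_of_isAmple hL
  have hpb := (isPullback_morphismRestrict f V).flip.paste_horiz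
    (IsPullback.of_hasPullback (X ↘ Spec (CommRingCat.of k)) q)
  haveI : IsAffineHom ((f ⁻¹ᵁ V).ι ≫ pullback.fst (X ↘ Spec (CommRingCat.of k)) q) :=
    MorphismProperty.of_isPullback hpb.flip inferInstance
  have hres : PerfAux.HasResolutionProperty (XV f V) :=
    ResDescend36.Affine.hasResolutionProperty ((f ⁻¹ᵁ V).ι ≫ pullback.fst (X ↘ Spec (CommRingCat.of k)) q)
      (ResDescend36.Ample.hasResolutionProperty _ hL)
  have hMc : Coh.IsCoh (MV f V F) := RefHull.LocFree.isCoh_restrict hF (f ⁻¹ᵁ V)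
  haveI : IsLocallyNoetherian (XV f V) :=
    LocallyOfFiniteType.isLocallyNoetherian (XV f V ↘ Spec (CommRingCat.of (AV V)))
  haveI : CompactSpace (XV f V) :=
    QuasiCompact.compactSpace_of_compactSpace (XV f V ↘ Spec (CommRingCat.of (AV V)))
  haveI : IsNoetherian (XV f V) := {}
  obtain ⟨E₀, π, hE₀, hπ⟩ := hres (MV f V F) hMc.1 hMc.2
  haveI := hπ
  have hK : Coh.IsCoh (kernel π) :=
    CohBasics.Closure.isCoh_kernel π (Perfect.Coherent.isCoh_of_isFinLocFree hE₀) hMc.1
  obtain ⟨E₁, π₁, hE₁, hπ₁⟩ := hres (kernel π) hK.1 hK.2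
  haveI := hπ₁
  have hex : (ShortComplex.mk (π₁ ≫ kernel.ι π) π (by simp)).Exact := by
    rw [ShortComplex.exact_iff_epi_kernel_lift]
    have : kernel.lift π (π₁ ≫ kernel.ι π) (by simp) = π₁ := by
      apply equalizer.hom_ext; simp
    rw [this]; infer_instance
  obtain ⟨N, hN, ⟨θ⟩⟩ := Groth.Agent.S4500.result (AV V) (XV f V) (MV f V F) hMc
    (flat_over f V hfl) (MV f V F) E₀ E₁ hE₀ hE₁ _ π _ hex
  haveI := hN
  haveI : (MV f V F).IsQuasicoherent := hMc.1
  let O : Set (PrimeSpectrum (AV V)) := {x |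
    Module.finrank x.asIdeal.ResidueField (x.asIdeal.ResidueField ⊗[AV V] N) < 2}
  have hO : IsOpen O := upperSemicontinuous_iff_isOpen_preimage.1
    (FlatCx.FibreRank.upperSemicontinuous_finrank N) 2
  let x₀ : PrimeSpectrum (AV V) := (V : Scheme.{u}).isoSpec.hom ⟨s, hsV⟩
  have hx₀ : ZarCoh.Exchange.LocalRep.k V x₀ = s := by
    show ((V : Scheme.{u}).isoSpec.hom ≫ ZarCoh.Exchange.LocalRep.k V) ⟨s, hsV⟩ = s
    rw [show (V : Scheme.{u}).isoSpec.hom ≫ ZarCoh.Exchange.LocalRep.k V = V.ι from Iso.hom_inv_id_assoc _ _]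
    rfl
  have key : ∀ x y, ZarCoh.Exchange.LocalRep.k V x = y → ¬ IsZero (CohIII.fiberMod f F y) →
      (AllScalar (f.fiberToSpecResidueField y) (CohIII.fiberMod f F y) ↔
        Module.finrank x.asIdeal.ResidueField (x.asIdeal.ResidueField ⊗[AV V] N) ≤ 1) := by
    rintro x _ rfl hne
    exact allScalar_fibre_iff f V F θ x hne
  refine ⟨f '' (CohB1.support F ∩ Set.univ) ∩ ZarCoh.Exchange.LocalRep.k V '' O, ?_, hA.inter ((ZarCoh.Exchange.LocalRep.k V).isOpenEmbedding.isOpenMap _ hO), ?_⟩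
  · rintro y ⟨hy0, x, hx, rfl⟩
    have hne := (isZero_fiberMod_iff f F _).2 hy0
    exact ⟨hne, (key x _ rfl hne).2 (Nat.lt_succ_iff.1 hx)⟩
  · refine ⟨(isZero_fiberMod_iff f F s).1 hs0, x₀, ?_, hx₀⟩
    exact Nat.lt_succ_iff.2 ((key x₀ s hx₀ hs0).1 hs1)

end Groth.Agent.S19960
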