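import Groth.Statements.S19962
import Groth.Agent.H80.BE.Suff
import Groth.Agent.H80.BE.Sums

set_option autoImplicit false
set_option backward.isDefEq.respectTransparency false
universe u
open CAlg

namespace Groth.Agent.S19962

/-- Let R be a Noetherian commutative ring, not assumed local, and 0 → R^(n_e) → ⋯ → R^(n_1) → R^(n_0) a
complex of finite free modules with 1 ≤ e, the map R^(n_(i+1)) → R^(n_i) being given by the matrix A
i. Suppose that for every 1 ≤ j ≤ e the matrix of R^(n_j) → R^(n_(j-1)) has rank n_j - n_(j+1) + ⋯ ±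
n_e, the rank of a matrix being the largest size of a nonzero minor, and that its ideal of minors of
that size is either the unit ideal or contains an R-regular sequence of length j. Then the complex
is exact at R^(n_e), …, R^(n_1). -/
theorem result {R : Type u} [CommRing R] [IsNoetherianRing R]
    (e : ℕ) (he : 1 ≤ e) (n : ℕ → ℕ) (A : (i : ℕ) → Matrix (Fin (n i)) (Fin (n (i + 1))) R)
    (hA : ∀ i, i + 2 ≤ e → A i * A (i + 1) = 0)
    (hrank : ∀ j, 1 ≤ j → j ≤ e →
      (CAlgX.matrixRank (A (j - 1)) : ℤ) = ∑ t ∈ Finset.Icc j e, (-1 : ℤ) ^ (t - j) * (n t : ℤ))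
    (hdet : ∀ j, 1 ≤ j → j ≤ e →
      CAlgX.detIdeal (A (j - 1)) = ⊤ ∨
        ∃ rs : List R, rs.length = j ∧ (∀ r ∈ rs, r ∈ CAlgX.detIdeal (A (j - 1))) ∧
          RingTheory.Sequence.IsRegular R rs) :
    LinearMap.ker (A (e - 1)).mulVecLin = ⊥ ∧
      ∀ i, i + 2 ≤ e → LinearMap.ker (A i).mulVecLin = LinearMap.range (A (i + 1)).mulVecLin := by
  classical
  open Groth.Agent.H80.BE in
  let r : ℕ → ℕ := fun i => if i < e then CAlgX.matrixRank (A i) else 0
  have hr : ∀ i, (r i : ℤ) = Groth.Agent.H80.BE.Sums.rk e n i := by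
    intro i
    by_cases h : i < e
    · rw [show r i = CAlgX.matrixRank (A i) from if_pos h]
      exact hrank (i + 1) (by omega) (by omega)
    · rw [show r i = 0 from if_neg h, Groth.Agent.H80.BE.Sums.rk_of_le (by omega), Nat.cast_zero]
  have key := Groth.Agent.H80.BE.Suff.ker_le_im e n A hA r (if_neg (lt_irrefl e))
    (fun i hi => by
      have := hr i
      have := hr (i + 1)
      have := Groth.Agent.H80.BE.Sums.rk_step n hi
      omega)
    (fun i hi => (if_pos hi).symm)
    (fun i hi => (hdet (i + 1) (by omega) (by omega)).imp id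
      fun ⟨rs, hl, hmem, hreg⟩ => ⟨rs, hl, hmem, hreg.toIsWeaklyRegular⟩)
  refine ⟨le_bot_iff.mp ?_, fun i hi => le_antisymm ?_ ?_⟩
  · have := key (e - 1) (by omega)
    rwa [Groth.Agent.H80.BE.Depth.im_ge _ (by omega)] at this
  · have := key i (by omega)
    rwa [Groth.Agent.H80.BE.Depth.im_lt _ (by omega)] at this
  · have := Groth.Agent.H80.BE.Depth.im_le_ker A hA i
    rwa [Groth.Agent.H80.BE.Depth.im_lt _ (by omega)] at this

end Groth.Agent.S19962
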