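import Groth.Statements.S19964
import Groth.Agent.Lib.TorsorSch.Closure
import Mathlib.RingTheory.Flat.Localization

set_option autoImplicit false
universe u
open CategoryTheory MonoidalCategory CartesianMonoidalCategory MonObj GrpObj AlgebraicGeometry CategoryTheory.Limits
open Neron

namespace Groth.Agent.S19964

/-- Let R be a Dedekind domain with fraction field K, G a group scheme over Spec R and i : H_K → G_K a
closed subgroup scheme of the generic fibre G_K = G ×_R K (a homomorphism which is a closed
immersion). Then there are a group scheme H over Spec R, flat over Spec R, and a homomorphism j : H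
→ G which is a closed immersion, together with a morphism H_K → H presenting H_K as the generic
fibre H ×_R K compatibly with i and the embedding G_K → G, and with trivial kernel ideal sheaf (H_K
is schematically dense in H). In words: the schematic closure in G of a closed K-subgroup of the
generic fibre is a flat closed R-subgroup scheme of G. (The source states this for group algebraic
spaces over a connected Dedekind scheme; the case of schemes over an affine base is stated.) -/
theorem result
    (R : Type u) [CommRing R] [IsDedekindDomain R]
    (G : Over (Spec (CommRingCat.of R))) [GrpObj G]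
    (HK : Over (Spec (CommRingCat.of (FractionRing R)))) [GrpObj HK]
    (i : HK ⟶ Red.bc (Neron.genPt R) G) [IsMonHom i] [IsClosedImmersion i.left] :
    ∃ (H : Over (Spec (CommRingCat.of R))) (_ : GrpObj H) (j : H ⟶ G) (φ : HK.left ⟶ H.left),
      IsMonHom j ∧ IsClosedImmersion j.left ∧ Flat H.hom ∧
      IsPullback φ HK.hom H.hom (Neron.genPt R) ∧
      φ ≫ j.left = i.left ≫ pullback.fst G.hom (Neron.genPt R) ∧
      φ.ker = ⊥ := by
  have hinj : Function.Injective (algebraMap R (FractionRing R)) := IsFractionRing.injective _ _
  have : Mono (Neron.genPt R) := by
    have : Epi (CommRingCat.ofHom (algebraMap R (FractionRing R))) :=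
      IsLocalization.epi (nonZeroDivisors R) (FractionRing R)
    exact inferInstanceAs (Mono (Scheme.Spec.map (CommRingCat.ofHom (algebraMap R (FractionRing R))).op))
  have : IsDominant (Neron.genPt R) :=
    ⟨PrimeSpectrum.denseRange_comap_iff_ker_le_nilRadical _ |>.mpr
      ((RingHom.injective_iff_ker_eq_bot _).mp hinj ▸ bot_le)⟩
  have : IsSchemeTheoreticallyDominant (Neron.genPt R) := .of_isDominant _
  have : Flat (Neron.genPt R) := by
    rw [Neron.genPt, HasRingHomProperty.Spec_iff (P := @Flat)]
    exact RingHom.flat_algebraMap_iff.mpr (IsLocalization.flat (FractionRing R) (nonZeroDivisors R))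
  exact Groth.Agent.Lib.TorsorSch.Closure.exists_closure (Neron.genPt R)
    (fun p q d _ _ hd => Groth.Agent.Lib.TorsorSch.Closure.flat_of_std' p q d _ hinj hd) G HK i

end Groth.Agent.S19964
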