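import Groth.Statements.S19965

set_option autoImplicit false
set_option linter.style.haveILetI false
universe u
open CategoryTheory MonoidalCategory CartesianMonoidalCategory MonObj AlgebraicGeometry
open ChGrp

namespace Groth.Agent.S19965

open CategoryTheory.Limits

/-- In the case of group schemes with the quotient given as a scheme, let S be a scheme, G a group
scheme over S, i : H → G a homomorphism from a group scheme H, and let the S-scheme Q with its
G-action and base point q₀ be the quotient G/H for the fppf topology: i is a homomorphism, the
square exhibiting G ×_S H as G ×_Q G through (g, h) ↦ (g, g·i(h)) and the orbit map of q₀ is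
cartesian, and the orbit map G → Q acquires sections on the members of an fppf covering family of Q.
Let P be a property of morphisms of schemes which is stable under base change and local on the
target for the fppf topology. If H → S has P, then the orbit map G → Q has P. (In the source G and H
are group algebraic spaces, H is flat and locally of finite presentation over S so that G/H exists
as an algebraic space, and P is a property of morphisms of algebraic spaces; here all three are
schemes, the quotient is part of the data, and flatness of H plays no part.) -/
theorem result (S : Scheme.{u})
    (G H : Over S) [GrpObj G] [GrpObj H] (i : H ⟶ G)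
    (Q : Over S) (aQ : AlgGrp.Action G Q) (q₀ : 𝟙_ (Over S) ⟶ Q)
    (hQ : ChGrp.IsHomog Scheme.fppfPrecoverage i aQ q₀)
    (P : MorphismProperty Scheme.{u}) [P.IsStableUnderBaseChange]
    [P.IsLocalAtTarget Scheme.fppfPrecoverage]
    (hP : P H.hom) : P (aQ.orbitMap q₀).left := by
  obtain ⟨_, hpb, R, hR, hsec⟩ := hQ
  refine MorphismProperty.IsLocalAtTarget.of_forall_pullbackSnd hR fun {U g} _ hg => ?_
  obtain ⟨s, hs⟩ := hsec g hg
  have hl := hpb.map (Over.forget S)
  have h1 : P (CartesianMonoidalCategory.fst G H).left := by
    have hp : IsPullback (CartesianMonoidalCategory.snd G H).left (CartesianMonoidalCategory.fst G H).left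
        H.hom G.hom := (IsPullback.of_hasPullback G.hom H.hom).flip
    exact MorphismProperty.of_isPullback hp hP
  have h2 : IsPullback (pullback.snd ((CartesianMonoidalCategory.fst G H).left) s)
      (pullback.fst ((CartesianMonoidalCategory.fst G H).left) s ≫ ((G ◁ i) ≫ μ[G]).left)
      g (aQ.orbitMap q₀).left := by
    have := ((IsPullback.of_hasPullback ((CartesianMonoidalCategory.fst G H).left) s).flip).paste_vert hl
    convert this using 1 <;> first | rfl | exact hs.symm | exact heq_of_eq hs.symm
  have h3 : P (pullback.snd ((CartesianMonoidalCategory.fst G H).left) s) :=
    MorphismProperty.pullback_snd _ _ h1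
  exact (P.arrow_mk_iso_iff (Arrow.isoMk (h2.flip.isoPullback) (Iso.refl _) (by simp))).1 h3

end Groth.Agent.S19965
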