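import Groth.Statements.S19967
import Mathlib.AlgebraicGeometry.Morphisms.SchemeTheoreticallyDominant
import Mathlib.AlgebraicGeometry.Morphisms.ClosedImmersion
import Mathlib.AlgebraicGeometry.PullbackCarrier
import Mathlib.AlgebraicGeometry.Morphisms.Flat
import Mathlib.AlgebraicGeometry.Noetherian

set_option autoImplicit false
universe u
open CategoryTheory CategoryTheory.Limits AlgebraicGeometry
open FlatMor

namespace Groth.Agent.S19967

/-- Let f : S' → S be a flat morphism of locally Noetherian schemes, i : C → S and i' : C' → S' closed
immersions with C and C' integral, and g : C' → C with g ≫ i = i' ≫ f. Let φ : C' → C ×_S S' be the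
induced morphism and η ∈ S the image of the generic point of C. If φ becomes an isomorphism after
base change along the canonical morphism Spec O_{S,η} → S (that is, after pulling back to (C ×_S S')
×_S Spec O_{S,η}), then φ is an isomorphism. (In the source S and S' are excellent surfaces over an
algebraically closed field, C and C' regular curves not inside the singular loci, and the
isomorphism over Spec O_{S,η} is part of the definition of a morphism of surface-curve pairs; those
extra hypotheses play no part.) -/
theorem result
    {S S' C C' : Scheme.{u}} [IsLocallyNoetherian S] [IsLocallyNoetherian S']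
    (f : S' ⟶ S) [Flat f] (i : C ⟶ S) [IsClosedImmersion i] [IsIntegral C]
    (i' : C' ⟶ S') [IsClosedImmersion i'] [IsIntegral C']
    (g : C' ⟶ C) (hsq : g ≫ i = i' ≫ f)
    (hgen : IsIso (pullback.snd (pullback.lift g i' hsq)
      (pullback.fst (pullback.fst i f ≫ i) (S.fromSpecStalk (i.base (genericPoint C)))))) :
    IsIso (pullback.lift g i' hsq) := by
  set φ := pullback.lift g i' hsq with hφ
  have h1 : φ ≫ pullback.snd i f = i' := pullback.lift_snd _ _ _
  have : IsClosedImmersion (φ ≫ pullback.snd i f) := h1 ▸ inferInstance
  have : IsClosedImmersion φ := IsClosedImmersion.of_comp φ (pullback.snd i f)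
  set sp := S.fromSpecStalk (i (genericPoint C))
  have : QuasiCompact sp := inferInstance
  let j := pullback.fst i sp
  have : IsDominant j := by
    refine ⟨?_⟩
    let y : ↥(Spec (S.presheaf.stalk (i (genericPoint C)))) := IsLocalRing.closedPoint _
    have hy : i (genericPoint C) = sp y := (Scheme.fromSpecStalk_closedPoint).symm
    obtain ⟨z, hz, -⟩ := Scheme.Pullback.exists_preimage_pullback (genericPoint C) y hy
    rw [DenseRange, dense_iff_closure_eq, Set.eq_univ_iff_forall]
    intro x
    exact closure_mono (s := {genericPoint C}) (t := Set.range j) (Set.singleton_subset_iff.mpr ⟨z, hz⟩) ((genericPoint_closure (α := C)).symm ▸ Set.mem_univ x)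
  have : IsSchemeTheoreticallyDominant j := .of_isDominant _
  have hd : IsSchemeTheoreticallyDominant (pullback.fst (pullback.fst i f ≫ i) sp) := by
    rw [← pullbackRightPullbackFstIso_inv_fst i sp (pullback.fst i f)]
    infer_instance
  have := hgen
  rw [IsClosedImmersion.isIso_iff_ker_eq_bot, eq_bot_iff]
  have h2 := Scheme.Hom.le_ker_comp (inv (pullback.snd φ (pullback.fst (pullback.fst i f ≫ i) sp)) ≫ pullback.fst _ _) φ
  have e : inv (pullback.snd φ (pullback.fst (pullback.fst i f ≫ i) sp)) ≫
      pullback.fst φ (pullback.fst (pullback.fst i f ≫ i) sp) ≫ φ = pullback.fst (pullback.fst i f ≫ i) sp := by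
    rw [IsIso.inv_comp_eq]; exact pullback.condition
  rw [Category.assoc, e] at h2
  exact h2.trans hd.ker_eq_bot.le

end Groth.Agent.S19967
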