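import Groth.Statements.S19968


set_option autoImplicit false
universe u
open CategoryTheory AlgebraicGeometry Opposite
open LinSer

namespace Groth.Agent.S19968

lemma appLE_top {X Y : Scheme.{u}} (f : X ⟶ Y) (h : ⊤ ≤ f ⁻¹ᵁ ⊤) :
    f.appLE ⊤ ⊤ h = f.appTop :=
  (Scheme.Hom.app_eq_appLE f).symm

open AlgebraicGeometry in
/-- A linear map out of a restricted module on `r • v|_W`. -/
lemma app_restrict_smul_map {X : Scheme.{u}} (L : X.Modules) (U : X.Opens)
    (φ : L.restrict U.ι ⟶ Coh.structureModule (↑U)) (W' : (U : Scheme.{u}).Opens)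
    (r : Γ(X, U.ι ''ᵁ W')) (v : Γ(L, ⊤)) :
    φ.app W' ((L.restrictAppIso U.ι W').inv (r • L.presheaf.map (homOfLE le_top).op v)) =
      @HMul.hMul Γ(↑U, W') Γ(↑U, W') Γ(↑U, W') _ ((U.ι.appIso W').hom r)
        ((↑U : Scheme.{u}).presheaf.map (homOfLE (le_top : W' ≤ ⊤)).op
          (φ.app ⊤ ((L.restrictAppIso U.ι ⊤).inv (L.presheaf.map (homOfLE le_top).op v)))) := by
  have h2 : ∀ (r : Γ(X, U.ι ''ᵁ W')) (m : Γ(L, U.ι ''ᵁ W')),
      (L.restrictAppIso U.ι W').inv (r • m) =
        (U.ι.appIso W').hom r • (L.restrictAppIso U.ι W').inv m := fun r m =>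
    congr($(Scheme.Modules.smul_restrictAppIso_inv U.ι L W' r) m)
  rw [h2, Scheme.Modules.Hom.app_smul]
  have hle : U.ι ''ᵁ W' ≤ U.ι ''ᵁ ⊤ := Scheme.Hom.image_mono _ le_top
  have hcomp : L.presheaf.map (homOfLE (le_top : U.ι ''ᵁ W' ≤ ⊤)).op v =
      L.presheaf.map (homOfLE hle).op (L.presheaf.map (homOfLE le_top).op v) :=
    congr($(L.presheaf.map_comp (homOfLE (le_top : U.ι ''ᵁ ⊤ ≤ ⊤)).op (homOfLE hle).op) v)
  rw [hcomp]
  have hnat := congr($(φ.mapPresheaf.naturality (homOfLE (le_top : W' ≤ ⊤)).op)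
    ((L.restrictAppIso U.ι ⊤).inv (L.presheaf.map (homOfLE le_top).op v)))
  exact congrArg (fun z : Γ(↑U, W') => (U.ι.appIso W').hom r * z) hnat

open AlgebraicGeometry in
/-- Scalars of `k` act as `k` after pulling back along a rational point. -/
lemma appTop_toGlobal (k : Type u) [Field k] (X : Scheme.{u}) [X.Over (Spec (CommRingCat.of k))]
    (p : Spec (CommRingCat.of k) ⟶ X) (hp : p ≫ (X ↘ Spec (CommRingCat.of k)) = 𝟙 _) (c : k) :
    (Scheme.ΓSpecIso (CommRingCat.of k)).hom.hom
      (p.appTop.hom (Coh.toGlobal (X ↘ Spec (CommRingCat.of k)) c)) = c := by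
  have h : (X ↘ Spec (CommRingCat.of k)).appTop ≫ p.appTop = 𝟙 _ := by
    rw [← Scheme.Hom.comp_appTop, hp, Scheme.Hom.id_appTop]
  have h' := congr($(h).hom ((Scheme.ΓSpecIso (CommRingCat.of k)).inv.hom c))
  simp only [CommRingCat.hom_comp, CommRingCat.hom_id, RingHom.comp_apply, RingHom.id_apply] at h'
  change (Scheme.ΓSpecIso (CommRingCat.of k)).hom.hom
    (p.appTop.hom ((X ↘ Spec (CommRingCat.of k)).appTop.hom
      ((Scheme.ΓSpecIso (CommRingCat.of k)).inv.hom c))) = c
  rw [h']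
  simp

/-- Rational points impose at most one condition each on a complete linear system. Let k be a field, X a
scheme over k, L an invertible O_X-module, and p_1, …, p_n morphisms Spec k → X over k (k-rational
points). Suppose there are n + 1 global sections of L, given as morphisms t_0, …, t_n : O_X → L,
whose values in Γ(X, L) are linearly independent over k. Then there is a nonzero morphism s : O_X →
L such that no p_i lands in the open X_s where s generates L; that is, s vanishes at every p_i and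
the p_i lie on a common member of the complete linear system of L. (The source has X an irreducible
projective variety over the complex numbers, L base-point-free and the points closed, and phrases
this as surjectivity of the incidence correspondence onto X^n for n at most the dimension of the
linear system; only rationality of the points and the dimension count are used, and
base-point-freeness plays no part in this item.) -/
theorem result
    (k : Type u) [Field k] (X : Scheme.{u}) [X.Over (Spec (CommRingCat.of k))]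
    (L : X.Modules) (hL : PicF.IsInvertible L)
    (n : ℕ) (p : Fin n → (Spec (CommRingCat.of k) ⟶ X))
    (hp : ∀ i, p i ≫ (X ↘ Spec (CommRingCat.of k)) = 𝟙 _)
    (t : Fin (n + 1) → (Coh.structureModule X ⟶ L))
    (ht : LinSer.LinIndep k X L (fun j => (L.unitHomEquiv (t j)).val (op ⊤))) :
    ∃ s : Coh.structureModule X ⟶ L, s ≠ 0 ∧
      ∀ i, (p i) (IsLocalRing.closedPoint k) ∉ CohB1.genLocus L s := by
  classical
  let f := X ↘ Spec (CommRingCat.of k)
  choose U hxU he using fun i => hL ((p i) (IsLocalRing.closedPoint k))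
  have e := fun i => (he i).some
  have hrange : ∀ i, Set.range (p i) ⊆ (U i : Set X) := by
    rintro i _ ⟨y, rfl⟩
    exact (Subsingleton.elim _ y) ▸ hxU i
  let q : ∀ i, Spec (CommRingCat.of k) ⟶ (U i : Scheme.{u}) := fun i =>
    IsOpenImmersion.lift (U i).ι (p i) (by rw [Scheme.Opens.range_ι]; exact hrange i)
  have hq : ∀ i, q i ≫ (U i).ι = p i := fun i => IsOpenImmersion.lift_fac _ _ _
  let v : Fin (n + 1) → LinSer.Sect X L := fun j => (L.unitHomEquiv (t j)).val (op ⊤)
  -- the value of a global section in the fibre at the `i`-th point, read in the trivialization `e i`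
  let a : ∀ i, Γ(L, ⊤) → Γ(↑(U i), ⊤) := fun i w => (e i).hom.app ⊤
    ((L.restrictAppIso (U i).ι ⊤).inv (L.presheaf.map (homOfLE le_top).op w))
  have ha_add : ∀ i w w', a i (w + w') = a i w + a i w' := fun i w w' => by
    simp only [a, map_add]; rfl
  have ha_smul : ∀ i (g : Γ(X, ⊤)) w, a i (g • w) = (U i).ι.appTop g * a i w := by
    intro i g w
    have h1 : L.presheaf.map (homOfLE (le_top : (U i).ι ''ᵁ ⊤ ≤ ⊤)).op (g • w) =
        X.presheaf.map (homOfLE (le_top : (U i).ι ''ᵁ ⊤ ≤ ⊤)).op g •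
          L.presheaf.map (homOfLE (le_top : (U i).ι ''ᵁ ⊤ ≤ ⊤)).op w :=
      Scheme.Modules.map_smul L _ g w
    change (e i).hom.app ⊤ ((L.restrictAppIso (U i).ι ⊤).inv (L.presheaf.map _ (g • w))) = _
    rw [h1]
    have h2 : ∀ (r : Γ(X, (U i).ι ''ᵁ ⊤)) (m : Γ(L, (U i).ι ''ᵁ ⊤)),
        (L.restrictAppIso (U i).ι ⊤).inv (r • m) =
          ((U i).ι.appIso ⊤).hom r • (L.restrictAppIso (U i).ι ⊤).inv m := fun r m =>
      congr($(Scheme.Modules.smul_restrictAppIso_inv (U i).ι L ⊤ r) m)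
    rw [h2, Scheme.Modules.Hom.app_smul]
    change _ * _ = _ * _
    congr 1
    rw [Scheme.Hom.appIso_hom', ← CommRingCat.comp_apply, Scheme.Hom.map_appLE, appLE_top]
  let ev : ∀ i, Γ(↑(U i), ⊤) →+* k := fun i =>
    (Scheme.ΓSpecIso (CommRingCat.of k)).hom.hom.comp (q i).appTop.hom
  have hev : ∀ i (c : k), ev i ((U i).ι.appTop (Coh.toGlobal f c)) = c := by
    intro i c
    have h := appTop_toGlobal k X (p i) (hp i) c
    rw [← hq i, Scheme.Hom.comp_appTop] at h
    exact h
  let β : Fin n → Fin (n + 1) → k := fun i j => ev i (a i (v j))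
  let Ψ : (Fin (n + 1) → k) →ₗ[k] (Fin n → k) := Matrix.mulVecLin (Matrix.of β)
  have hker : ¬ Function.Injective Ψ := fun hinj => by
    have := LinearMap.finrank_le_finrank_of_injective hinj
    simp at this
  obtain ⟨c, hc, hc0⟩ : ∃ c, Ψ c = 0 ∧ c ≠ 0 := by
    rw [← LinearMap.ker_eq_bot] at hker
    obtain ⟨c, hc, hc0⟩ := (Submodule.ne_bot_iff _).mp hker
    exact ⟨c, hc, hc0⟩
  let w : L.sections := PresheafOfModules.sectionsMk
    (fun V => L.presheaf.map (homOfLE (le_top (a := V.unop))).op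
      (∑ j, Coh.toGlobal f (c j) • v j : LinSer.Sect X L))
    (by
      intro V W g
      exact (congr($(L.presheaf.map_comp (homOfLE (le_top (a := V.unop))).op g)
        (∑ j, Coh.toGlobal f (c j) • v j : LinSer.Sect X L))).symm)
  have hw : (w.val (op ⊤) : LinSer.Sect X L) = ∑ j, Coh.toGlobal f (c j) • v j := by
    change L.presheaf.map (𝟙 (op ⊤)) _ = _
    rw [CategoryTheory.Functor.map_id]
    rfl
  refine ⟨L.unitHomEquiv.symm w, fun h0 => hc0 (ht c ?_), fun i hi => ?_⟩
  · have h1 := congr((L.unitHomEquiv $h0).val (op ⊤))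
    rw [Equiv.apply_symm_apply] at h1
    exact hw.symm.trans (h1.trans rfl)
  -- at each point the section vanishes
  have hzero : ev i (a i (w.val (op ⊤))) = 0 := by
    have hsum : a i (∑ j, Coh.toGlobal f (c j) • v j) =
        ∑ j, (U i).ι.appTop (Coh.toGlobal f (c j)) * a i (v j) :=
      (map_sum (AddMonoidHom.mk' (a i) (ha_add i)) _ _).trans
        (Finset.sum_congr rfl fun j _ => ha_smul i _ _)
    refine (congrArg (ev i) ((congrArg (a i) hw).trans hsum)).trans ?_
    rw [map_sum]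
    refine Eq.trans ?_ (congrFun hc i)
    simp only [Ψ, Matrix.mulVecLin_apply, Matrix.mulVec, dotProduct, Matrix.of_apply, β, map_mul, hev]
    exact Finset.sum_congr rfl fun j _ => mul_comm _ _
  obtain ⟨_, ⟨V, hV, rfl⟩, hxV⟩ := Set.mem_iUnion₂.mp (by
    simpa [CohB1.genLocus, TopologicalSpace.Opens.coe_sSup] using hi :
      (p i) (IsLocalRing.closedPoint k) ∈ ⋃ W ∈ {W : Set X | ∃ V : X.Opens,
        IsIso ((Scheme.Modules.restrictFunctor V.ι).map (L.unitHomEquiv.symm w)) ∧ (V : Set X) = W}, W)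
  set s := L.unitHomEquiv.symm w
  let W' : (U i : Scheme.{u}).Opens := (U i).ι ⁻¹ᵁ V
  have hWV : (U i).ι ''ᵁ W' ≤ V := by
    rw [Scheme.Hom.image_preimage_eq_opensRange_inf]; exact inf_le_right
  have hiso : IsIso (Scheme.Modules.Hom.app s ((U i).ι ''ᵁ W')) := by
    have := (Scheme.Modules.Hom.isIso_iff_isIso_app.mp hV) (V.ι ⁻¹ᵁ ((U i).ι ''ᵁ W'))
    have hW : V.ι ''ᵁ (V.ι ⁻¹ᵁ ((U i).ι ''ᵁ W')) = (U i).ι ''ᵁ W' := by
      rw [Scheme.Hom.image_preimage_eq_opensRange_inf, Scheme.Opens.opensRange_ι, inf_eq_right]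
      exact hWV
    rw [← hW]
    exact this
  obtain ⟨m, hm⟩ : ∃ m, (e i).hom.app W' m = (1 : Γ(↑(U i), W')) :=
    ⟨(e i).inv.app W' (1 : Γ(↑(U i), W')),
      congrArg (fun g : Coh.structureModule (↑(U i)) ⟶ Coh.structureModule (↑(U i)) => Scheme.Modules.Hom.app g W' (1 : Γ(↑(U i), W'))) (e i).inv_hom_id⟩
  obtain ⟨r, hr⟩ : ∃ r : Γ(X, (U i).ι ''ᵁ W'),
      Scheme.Modules.Hom.app s ((U i).ι ''ᵁ W') r = (L.restrictAppIso (U i).ι W').hom m :=
    ((ConcreteCategory.bijective_of_isIso (Scheme.Modules.Hom.app s ((U i).ι ''ᵁ W'))).2 _)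
  have hsr : Scheme.Modules.Hom.app s ((U i).ι ''ᵁ W') r =
      r • (L.presheaf.map (homOfLE le_top).op (w.val (op ⊤)) : Γ(L, (U i).ι ''ᵁ W')) := by
    have h1 : Scheme.Modules.Hom.app s ((U i).ι ''ᵁ W') (1 : Γ(X, (U i).ι ''ᵁ W')) =
        L.presheaf.map (homOfLE le_top).op (w.val (op ⊤)) := by
      have h := congr(($(L.unitHomEquiv.apply_symm_apply w)).val (op ((U i).ι ''ᵁ W')))
      exact h.trans (w.property (homOfLE le_top).op).symm
    rw [← h1]
    exact (congrArg _ (mul_one r).symm).trans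
      (Scheme.Modules.Hom.app_smul s r (1 : Γ(X, (U i).ι ''ᵁ W')))
  have key : (1 : Γ(↑(U i), W')) = ((U i).ι.appIso W').hom r *
      (↑(U i) : Scheme.{u}).presheaf.map (homOfLE (le_top : W' ≤ ⊤)).op (a i (w.val (op ⊤))) := by
    rw [← hm]
    have hm' : m = (L.restrictAppIso (U i).ι W').inv
        ((L.restrictAppIso (U i).ι W').hom m) := rfl
    rw [hm', ← hr, hsr]
    exact app_restrict_smul_map L (U i) (e i).hom W' r (w.val (op ⊤))
  have hle : ⊤ ≤ (q i) ⁻¹ᵁ W' := by
    intro y _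
    change (U i).ι ((q i) y) ∈ V
    rw [← Scheme.Hom.comp_apply, hq, Subsingleton.elim y (IsLocalRing.closedPoint k)]
    exact hxV
  apply_fun fun z => (Scheme.ΓSpecIso (CommRingCat.of k)).hom.hom (((q i).appLE W' ⊤ hle).hom z) at key
  have hm2 : ((q i).appLE W' ⊤ hle).hom ((↑(U i) : Scheme.{u}).presheaf.map
      (homOfLE (le_top : W' ≤ ⊤)).op (a i (w.val (op ⊤)))) = (q i).appTop.hom (a i (w.val (op ⊤))) := by
    have h := congr($(Scheme.Hom.map_appLE (q i) (U := W') hle (homOfLE (le_top : W' ≤ ⊤)).op)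
      (a i (w.val (op ⊤))))
    rw [appLE_top] at h
    exact h
  rw [map_one, map_one, map_mul, map_mul, hm2] at key
  exact one_ne_zero (key.trans (by rw [show (Scheme.ΓSpecIso (CommRingCat.of k)).hom.hom
    ((q i).appTop.hom (a i (w.val (op ⊤)))) = 0 from hzero, mul_zero]))

end Groth.Agent.S19968
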