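import Groth.Statements.S19969

import Groth.Agent.Lib.GrpSch.FreeRestr

set_option autoImplicit false
universe u
open CategoryTheory MonoidalCategory CartesianMonoidalCategory AlgebraicGeometry
open AlgGrp

namespace Groth.Agent.S19969

open Limits Groth.Agent.Lib.GrpSch.FreeRestr TensorProduct in
/-- The locus in an affine `k`-scheme where two maps out of a product agree is closed. -/
theorem agree_affine (k : Type u) [Field k] {Y : Scheme.{u}} (sY : Y ⟶ Spec (.of k))
    (A : Type u) [CommRing A] [Algebra k A]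
    (a : pullback sY (Spec.map (CommRingCat.ofHom (algebraMap k A))) ⟶ Spec (.of A))
    (ha : a ≫ Spec.map (CommRingCat.ofHom (algebraMap k A)) =
      pullback.snd _ _ ≫ Spec.map (CommRingCat.ofHom (algebraMap k A))) :
    ∃ (Z : Scheme.{u}) (j : Z ⟶ Spec (.of A)), IsClosedImmersion j ∧
      ∀ (T : Scheme.{u}) (x : T ⟶ Spec (.of A)), (∃ w, w ≫ j = x) ↔
        ∀ (W : Scheme.{u}) (p : W ⟶ pullback sY (Spec.map (CommRingCat.ofHom (algebraMap k A))))
          (q : W ⟶ T), p ≫ pullback.snd _ _ = q ≫ x → p ≫ a = p ≫ pullback.snd _ _ := by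
  let g : Spec (.of A) ⟶ Spec (.of k) := Spec.map (CommRingCat.ofHom (algebraMap k A))
  let d : pullback sY g ⟶ pullback g g := pullback.lift a (pullback.snd _ _) ha
  let e := pullback.fst d (pullback.diagonal g)
  have : IsSeparated g := inferInstance
  have : IsClosedImmersion e := inferInstance
  choose φ hφ using fun i => Spec.map_surjective (Y.affineCover.f i ≫ sY)
  obtain ⟨Z, j, hj, hZ⟩ : ∃ (Z : Scheme.{u}) (j : Z ⟶ Spec (.of A)), IsClosedImmersion j ∧
      ∀ (T : Scheme.{u}) (x : T ⟶ Spec (.of A)), (∃ w, w ≫ j = x) ↔ Restr (pullback.snd sY g) e x := by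
    refine (?_ : ∀ {ι : Type _} (B : ι → CommRingCat.{u}) (c : ∀ i, Spec (B i) ⟶ Y) (_ : ∀ i, IsOpenImmersion (c i))
      (_ : ∀ y, ∃ i z, (c i).base z = y) (f : ∀ i, CommRingCat.of k ⟶ B i)
      (_ : ∀ i, Spec.map (f i) = c i ≫ sY), _) _ Y.affineCover.f (fun i => Y.affineCover.map_prop i) (fun y => ⟨_, Y.affineCover.exists_eq y |>.choose_spec⟩) φ hφ
    intro ι B c hoi hc f hf
    letI : ∀ i, Algebra k (B i) := fun i => (f i).hom.toAlgebra
    let m : ∀ i, pullback (Spec.map (CommRingCat.ofHom (algebraMap k A)))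
        (Spec.map (CommRingCat.ofHom (algebraMap k (B i)))) ⟶ pullback sY g := fun i =>
      (pullbackSymmetry _ _).hom ≫ pullback.map _ _ sY g (c i) (𝟙 _) (𝟙 _)
        (by rw [Category.comp_id]; exact hf i) (by rw [Category.comp_id, Category.id_comp])
    refine exists_restr_affine (pullback.snd sY g) e (fun i => A ⊗[k] (B i : Type u))
      (fun i => (pullbackSpecIso k A (B i)).inv ≫ m i) (fun y => ?_) (fun i => ?_)
    · obtain ⟨i, z, hz⟩ := hc ((pullback.fst sY g).base y)
      have hyr : y ∈ Set.range (pullback.map (Spec.map (CommRingCat.ofHom (algebraMap k (B i)))) g sY g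
          (c i) (𝟙 _) (𝟙 _) (by rw [Category.comp_id]; exact hf i) (by rw [Category.comp_id, Category.id_comp])).base := by
        rw [Scheme.Pullback.range_map]
        exact ⟨⟨z, hz⟩, ⟨_, rfl⟩⟩
      obtain ⟨w, hw⟩ := hyr
      obtain ⟨v, hv⟩ := (inferInstance : Surjective (pullbackSymmetry (Spec.map (CommRingCat.ofHom (algebraMap k A))) (Spec.map (CommRingCat.ofHom (algebraMap k (B i))))).hom).surj w
      obtain ⟨v', hv'⟩ := ((pullbackSpecIso k A (B i)).inv).surjective v
      exact ⟨i, v', by
        simp only [m, Scheme.Hom.comp_apply]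
        rw [hv', hv, hw]⟩
    · simp only [m, Category.assoc, pullback.lift_snd, Category.comp_id, pullbackSymmetry_hom_comp_snd,
        pullbackSpecIso_inv_fst]
  refine ⟨Z, j, hj, fun T x => (hZ T x).trans ⟨fun h W p q hpq => ?_, fun h W p q hpq => ?_⟩⟩
  · obtain ⟨w, hw⟩ := h W p q hpq
    rw [← hw]
    have h1 : e ≫ a = e ≫ pullback.snd sY g := by
      have h2 := pullback.condition (f := d) (g := pullback.diagonal g)
      have h3 := congrArg (· ≫ pullback.fst g g) h2
      have h4 := congrArg (· ≫ pullback.snd g g) h2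
      simp only [d, Category.assoc, pullback.lift_fst, pullback.lift_snd, pullback.diagonal_fst,
        pullback.diagonal_snd, Category.comp_id] at h3 h4
      exact h3.trans h4.symm
    rw [Category.assoc, Category.assoc, h1]
  · refine ⟨pullback.lift p (p ≫ pullback.snd sY g) ?_, pullback.lift_fst _ _ _⟩
    apply pullback.hom_ext
    · simp only [d, Category.assoc, pullback.lift_fst, pullback.diagonal_fst, Category.comp_id]
      exact h W p q hpq
    · simp only [d, Category.assoc, pullback.lift_snd, pullback.diagonal_snd, Category.comp_id]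

/-- Let k be a field, X and Y arbitrary k-schemes and a : Y ×_k X → X a k-morphism such that every open
subscheme U of X is stable under a, in the sense that the preimage of U under the projection Y ×_k X
→ X is contained in the preimage of U under a. Consider the subfunctor X^a of X whose T-valued
points, for a k-scheme T, are the k-morphisms x : T → X with a ∘ (id_Y × x) = x ∘ pr_T as morphisms
Y ×_k T → X. Then X^a is represented by a closed subscheme of X: there is a closed immersion j : Z →
X over k lying in X^a(Z) through which every element of X^a(T) factors. Neither separatedness of X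
nor any finiteness condition on X or Y is assumed. -/
theorem result (k : Type u) [Field k]
    (X Y : Over (Spec (CommRingCat.of k))) (a : Y ⊗ X ⟶ X)
    (hstab : ∀ U : X.left.Opens, (CartesianMonoidalCategory.snd Y X).left ⁻¹ᵁ U ≤ a.left ⁻¹ᵁ U) :
    ∃ (Z : Over (Spec (CommRingCat.of k))) (j : Z ⟶ X), IsClosedImmersion j.left ∧
      (Y ◁ j) ≫ a = CartesianMonoidalCategory.snd Y Z ≫ j ∧
      ∀ (T : Over (Spec (CommRingCat.of k))) (x : T ⟶ X),
        (Y ◁ x) ≫ a = CartesianMonoidalCategory.snd Y T ≫ x → ∃ z : T ⟶ Z, z ≫ j = x := by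
  classical
  let π := (CartesianMonoidalCategory.snd Y X).left
  let P : ∀ {T : Scheme.{u}}, (T ⟶ X.left) → Prop := fun {T} x =>
    ∀ (W : Scheme.{u}) (p : W ⟶ (Y ⊗ X).left) (q : W ⟶ T), p ≫ π = q ≫ x → p ≫ a.left = p ≫ π
  have hπa : a.left ≫ X.hom = π ≫ X.hom := (Over.w a).trans (Over.w (CartesianMonoidalCategory.snd Y X)).symm
  obtain ⟨Z, j, hj, hZ⟩ := Groth.Agent.Lib.GrpSch.exists_closed_of_local (X := X.left) (fun {T} x => P x)
    (fun g x hx W p q hpq => hx W p (q ≫ g) (by rw [hpq, Category.assoc]))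
    (fun {T} x hx W p q hpq => by
      choose V hV hP using hx
      let 𝒲 := W.openCoverOfIsOpenCover (fun t => q ⁻¹ᵁ V t)
        (TopologicalSpace.IsOpenCover.mk (top_le_iff.mp fun w _ =>
          TopologicalSpace.Opens.mem_iSup.mpr ⟨q.base w, hV (q.base w)⟩))
      refine 𝒲.hom_ext _ _ fun t => ?_
      change (q ⁻¹ᵁ V t).ι ≫ _ = (q ⁻¹ᵁ V t).ι ≫ _
      have := hP t _ ((q ⁻¹ᵁ V t).ι ≫ p) (q ∣_ V t) (by rw [Category.assoc, hpq, morphismRestrict_ι_assoc])
      simpa only [Category.assoc] using this)
    (fun x => by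
      obtain ⟨U, hU, hxU, -⟩ := exists_isAffineOpen_mem_and_subset (X := X.left) (x := x) (U := ⊤) trivial
      obtain ⟨φ, hφ⟩ := Spec.map_surjective (hU.fromSpec ≫ X.hom)
      letI : Algebra k Γ(X.left, U) := φ.hom.toAlgebra
      have hrange : Set.range hU.fromSpec.base = U := hU.range_fromSpec
      let cmap : Limits.pullback Y.hom (Spec.map (CommRingCat.ofHom (algebraMap k Γ(X.left, U)))) ⟶ (Y ⊗ X).left :=
        Limits.pullback.map _ _ Y.hom X.hom (𝟙 _) hU.fromSpec (𝟙 _) (by simp) (by rw [Category.comp_id]; exact hφ)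
      have hcπ : cmap ≫ π = Limits.pullback.snd _ _ ≫ hU.fromSpec := Limits.pullback.lift_snd _ _ _
      have hrg : Set.range (cmap ≫ a.left).base ⊆ Set.range hU.fromSpec.base := by
        rintro _ ⟨y, rfl⟩
        rw [hrange]
        refine hstab U (?_ : π.base (cmap.base y) ∈ U)
        rw [← Scheme.Hom.comp_apply, hcπ, Scheme.Hom.comp_apply, ← SetLike.mem_coe, ← hrange]
        exact ⟨_, rfl⟩
      let a' := IsOpenImmersion.lift hU.fromSpec (cmap ≫ a.left) hrg
      have ha' : a' ≫ hU.fromSpec = cmap ≫ a.left := IsOpenImmersion.lift_fac _ _ hrg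
      obtain ⟨Z, j, hj, hZ⟩ := agree_affine k Y.hom Γ(X.left, U) a' (by
        have hs : Spec.map (CommRingCat.ofHom (algebraMap k Γ(X.left, U))) = hU.fromSpec ≫ X.hom := hφ
        refine (congrArg (a' ≫ ·) hs).trans (Eq.trans ?_ (congrArg (Limits.pullback.snd Y.hom _ ≫ ·) hs).symm)
        rw [reassoc_of% ha', hπa, reassoc_of% hcπ])
      refine ⟨U, hxU, Z, j ≫ hU.isoSpec.inv, inferInstance, fun T t => ?_⟩
      have e1 : (∃ w, w ≫ j ≫ hU.isoSpec.inv = t) ↔ ∃ w, w ≫ j = t ≫ hU.isoSpec.hom :=
        ⟨fun ⟨w, hw⟩ => ⟨w, by rw [← hw]; simp⟩, fun ⟨w, hw⟩ => ⟨w, by rw [reassoc_of% hw]; simp⟩⟩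
      rw [e1, hZ]
      have e2 : t ≫ U.ι = (t ≫ hU.isoSpec.hom) ≫ hU.fromSpec := by
        rw [Category.assoc, IsAffineOpen.isoSpec_hom, IsAffineOpen.toSpecΓ_fromSpec]
      constructor
      · intro h W p q hpq
        have hcond : (p ≫ (CartesianMonoidalCategory.fst Y X).left) ≫ Y.hom =
            (q ≫ t ≫ hU.isoSpec.hom) ≫ Spec.map (CommRingCat.ofHom (algebraMap k Γ(X.left, U))) := by
          refine Eq.trans ?_ (congrArg ((q ≫ t ≫ hU.isoSpec.hom) ≫ ·) (hφ.symm : hU.fromSpec ≫ X.hom = _))
          have hw1 := Over.w (CartesianMonoidalCategory.fst Y X)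
          have hw2 := Over.w (CartesianMonoidalCategory.snd Y X)
          simp only [Category.assoc] at *
          rw [hw1, ← hw2, ← Category.assoc p π, hpq]
          simp only [Category.assoc]
          rw [← Category.assoc t U.ι, e2]
          simp only [Category.assoc]
        let p' := Limits.pullback.lift (p ≫ (CartesianMonoidalCategory.fst Y X).left)
          (q ≫ t ≫ hU.isoSpec.hom) hcond
        have hp' : p' ≫ cmap = p := by
          refine Limits.pullback.hom_ext ?_ ?_
          · simp only [p', cmap, Limits.pullback.map, Category.assoc, Limits.pullback.lift_fst, Category.comp_id]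
            rfl
          · rw [Category.assoc, show cmap ≫ Limits.pullback.snd Y.hom X.hom = _ from hcπ,
              Limits.pullback.lift_snd_assoc]
            simp only [Category.assoc] at e2 ⊢
            rw [← e2]
            exact hpq.symm
        have h1 := congrArg (· ≫ hU.fromSpec) (h W p' q (Limits.pullback.lift_snd _ _ _))
        simp only [Category.assoc, ha'] at h1
        rw [reassoc_of% hp', ← hcπ, reassoc_of% hp'] at h1
        exact h1
      · intro h W p q hpq
        rw [← cancel_mono hU.fromSpec, Category.assoc, ha', Category.assoc, ← hcπ]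
        simpa only [Category.assoc] using h W (p ≫ cmap) q (by
          rw [Category.assoc, hcπ, reassoc_of% hpq, e2]; simp only [Category.assoc]))
  let Zo : Over (Spec (CommRingCat.of k)) := Over.mk (j ≫ X.hom)
  let jo : Zo ⟶ X := Over.homMk j
  have key : ∀ (T : Over (Spec (CommRingCat.of k))) (x : T ⟶ X),
      (Y ◁ x) ≫ a = CartesianMonoidalCategory.snd Y T ≫ x ↔ P x.left := by
    intro T x
    constructor
    · intro h W p q hpq
      let Wo : Over (Spec (CommRingCat.of k)) := Over.mk (p ≫ (Y ⊗ X).hom)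
      let po : Wo ⟶ Y ⊗ X := Over.homMk p
      let qo : Wo ⟶ T := Over.homMk q (by
        show q ≫ T.hom = p ≫ (Y ⊗ X).hom
        rw [← Over.w x, ← reassoc_of% hpq]
        exact congrArg (p ≫ ·) (Over.w (CartesianMonoidalCategory.snd Y X)))
      have hpo : po ≫ CartesianMonoidalCategory.snd Y X = qo ≫ x := Over.OverMorphism.ext hpq
      have h1 : CartesianMonoidalCategory.lift (po ≫ CartesianMonoidalCategory.fst Y X) qo ≫ (Y ◁ x) = po := by
        rw [lift_whiskerLeft, ← hpo]
        ext1
        · simp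
        · simp
      have h2 := congrArg (CartesianMonoidalCategory.lift (po ≫ CartesianMonoidalCategory.fst Y X) qo ≫ ·) h
      simp only [reassoc_of% h1, lift_snd_assoc, ← hpo] at h2
      exact congrArg CommaMorphism.left h2
    · intro h
      have h1 := h _ (Y ◁ x).left (CartesianMonoidalCategory.snd Y T).left (by
        show (Y ◁ x).left ≫ (CartesianMonoidalCategory.snd Y X).left = _
        rw [← Over.comp_left, whiskerLeft_snd, Over.comp_left])
      ext1
      rw [Over.comp_left, Over.comp_left, h1]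
      show (Y ◁ x).left ≫ (CartesianMonoidalCategory.snd Y X).left = _
      rw [← Over.comp_left, whiskerLeft_snd, Over.comp_left]
  refine ⟨Zo, jo, hj, (key Zo jo).2 ((hZ _ j).1 ⟨𝟙 _, Category.id_comp _⟩), fun T x hx => ?_⟩
  obtain ⟨w, hw⟩ := (hZ _ x.left).2 ((key T x).1 hx)
  exact ⟨Over.homMk w (by show w ≫ j ≫ X.hom = T.hom; rw [reassoc_of% hw]; exact Over.w x), Over.OverMorphism.ext hw⟩

end Groth.Agent.S19969
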