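import Groth.Statements.S1997
import Mathlib.RingTheory.Flat.Tensor
import Mathlib.RingTheory.Flat.Basic
import Mathlib.Algebra.Category.Ring.Epi
import Mathlib.RingTheory.IntegralClosure.IntegrallyClosed
import Mathlib.RingTheory.Adjoin.FGBaseChange
import Mathlib.RingTheory.IntegralClosure.IsIntegralClosure.Basic

set_option autoImplicit false
universe u
open CategoryTheory
open EtAlg

namespace Groth.Agent.S1997
theorem flat_submodule {A B : Type u} [CommRing A] [AddCommGroup B] [Module A B]
    (hA : ∀ I : Ideal A, Module.Flat A I) [Module.Flat A B] (C : Submodule A B) : Module.Flat A C := by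
  refine Module.Flat.iff_rTensor_injective'.mpr fun I ↦ ?_
  have := hA I
  have h1 : Function.Injective (C.subtype.lTensor I) :=
    Module.Flat.lTensor_preserves_injective_linearMap _ C.injective_subtype
  have h2 : Function.Injective (I.subtype.rTensor B) :=
    Module.Flat.rTensor_preserves_injective_linearMap _ I.injective_subtype
  have h3 : (I.subtype.rTensor B).comp (C.subtype.lTensor I) =
      (C.subtype.lTensor A).comp (I.subtype.rTensor C) := by
    rw [LinearMap.rTensor_comp_lTensor, LinearMap.lTensor_comp_rTensor]
  refine Function.Injective.of_comp (f := C.subtype.lTensor A) ?_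
  rw [← LinearMap.coe_comp, ← h3, LinearMap.coe_comp]
  exact h2.comp h1


/-- Let A be a ring all of whose ideals are flat (weak dimension at most one) and A -> B a flat,
injective ring map which is an epimorphism in the category of commutative rings. Then A is
integrally closed in B. -/
theorem result (A B : Type u) [CommRing A] [CommRing B] [Algebra A B]
    (hA : ∀ I : Ideal A, Module.Flat A I) [Module.Flat A B] (hinj : Function.Injective (algebraMap A B))
    (hepi : Epi (CommRingCat.ofHom (algebraMap A B))) : IsIntegrallyClosedIn A B := by
  refine isIntegrallyClosedIn_iff.mpr ⟨hinj, fun {x} hx ↦ ?_⟩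
  let C := Algebra.adjoin A ({x} : Set B)
  have : Module.Finite A C := by
    have := hx.fg_adjoin_singleton
    exact Module.Finite.iff_fg.mpr this
  have hCflat : Module.Flat A C := flat_submodule hA (Subalgebra.toSubmodule C)
  have hEpi := CommRingCat.epi_iff_epi.mp hepi
  have hC : Algebra.IsEpi A C := by
    refine ⟨Function.Injective.of_comp (f := C.val.toLinearMap) ?_⟩
    have h1 : Function.Injective (TensorProduct.map C.val.toLinearMap C.val.toLinearMap) := by
      rw [← LinearMap.rTensor_comp_lTensor, LinearMap.coe_comp]
      exact (Module.Flat.rTensor_preserves_injective_linearMap _ Subtype.val_injective).comp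
        (Module.Flat.lTensor_preserves_injective_linearMap _ Subtype.val_injective)
    have h2 := hEpi.injective_lift_mul.comp h1
    convert h2 using 1
    funext t
    induction t using TensorProduct.induction_on with
    | zero => simp
    | tmul a b => simp
    | add a b ha hb => simp only [Function.comp_apply, map_add] at ha hb ⊢; rw [ha, hb]
  obtain ⟨y, hy⟩ := Algebra.isEpi_iff_surjective_algebraMap_of_finite.mp hC
    ⟨x, Algebra.subset_adjoin rfl⟩
  exact ⟨y, congrArg Subtype.val hy⟩

end Groth.Agent.S1997
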