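import Groth.Statements.S19971
import Groth.Agent.H4.AbSchMul
import Groth.Agent.H2.Rigid.Conn
import Groth.Agent.Lib.Lim.OpenImm
import Mathlib.CategoryTheory.Sites.EpiMono
import Mathlib.CategoryTheory.Sites.Abelian

set_option autoImplicit false
universe u
open CategoryTheory CategoryTheory.Limits MonoidalCategory CartesianMonoidalCategory MonObj AlgebraicGeometry
open AbSch

namespace Groth.Agent.S19971

/-- Let S be a scheme and A, B, C abelian S-schemes (commutative S-group schemes which are smooth and
proper over S with connected fibres). Then the group of morphisms from A to the S-sheaf of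
extensions of B by C is torsion-free: on the big fppf site of S, if φ is a morphism of abelian
sheaves from the sheaf of points of A to the first Ext sheaf from the sheaf of points of B with
values in the sheaf of points of C, and n · φ = 0 for some nonzero integer n, then φ = 0. -/
theorem result {S : Scheme.{u}} (A B C : Over S)
    [GrpObj A] [IsCommMonObj A] [Smooth A.hom] [IsProper A.hom]
    (hA : ∀ s : S, ConnectedSpace ↥(A.hom.fiber s))
    [GrpObj B] [IsCommMonObj B] [Smooth B.hom] [IsProper B.hom]
    (hB : ∀ s : S, ConnectedSpace ↥(B.hom.fiber s))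
    [GrpObj C] [IsCommMonObj C] [Smooth C.hom] [IsProper C.hom]
    (hC : ∀ s : S, ConnectedSpace ↥(C.hom.fiber s))
    (φ : (CGrpSh.pts Scheme.fppfPrecoverage A) ⟶ (HomSh.extSh (QuotSh.J Scheme.fppfPrecoverage S) (CGrpSh.pts Scheme.fppfPrecoverage B) 1).obj (CGrpSh.pts Scheme.fppfPrecoverage C))
    (n : ℤ) (hn : n ≠ 0) (h : n • φ = 0) : φ = 0 := by
  haveI := (Groth.Agent.H2.Rigid.conn_and_H0 A hA).1
  haveI := Groth.Agent.H2.Rigid.geometricallyReduced_of_smooth A.hom
  obtain ⟨hfin, hflat, hsur⟩ := Groth.Agent.H4.AbSchMul.zpow A hn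
  haveI := hfin
  haveI := hflat
  haveI := hsur
  let p : A ⟶ A := 𝟙 A ^ n
  haveI : LocallyOfFinitePresentation p.left := by
    have : LocallyOfFinitePresentation (p.left ≫ A.hom) := by rw [Over.w p]; infer_instance
    exact Groth.Agent.Lib.Lim.OpenImm.lfp_of_comp p.left A.hom
  let P := CGrpSh.pts Scheme.fppfPrecoverage A
  have hls : Sheaf.IsLocallySurjective (n • 𝟙 P) := by
    refine ⟨fun {T} s => ?_⟩
    let s' : T ⟶ A := s.down.toMul
    let q : pullback s'.left p.left ⟶ T.left := pullback.fst _ _
    haveI : Flat q := inferInstanceAs (Flat (pullback.fst _ _))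
    haveI : Surjective q := inferInstanceAs (Surjective (pullback.fst _ _))
    haveI : LocallyOfFinitePresentation q :=
      inferInstanceAs (LocallyOfFinitePresentation (pullback.fst _ _))
    refine (GrothendieckTopology.mem_over_iff _ _).2 (GrothendieckTopology.superset_covering _
      (S := Sieve.generate (Presieve.singleton q)) ?_
      (Precoverage.generate_mem_toGrothendieck q.singleton_mem_fppfPrecoverage))
    rw [Sieve.generate_le_iff]
    rintro Z g ⟨⟩
    let t : Over.mk (q ≫ T.hom) ⟶ A := Over.homMk (pullback.snd s'.left p.left) (by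
      change pullback.snd s'.left p.left ≫ A.hom = q ≫ T.hom
      rw [← Over.w p, ← Over.w s']
      exact (pullback.condition_assoc _).symm)
    refine (Sieve.overEquiv_iff _ q).2 ⟨ULift.up (Additive.ofMul t), ?_⟩
    have h1 : t ^ n = t ≫ p := by
      simp only [p]
      rw [GrpObj.comp_zpow, Category.comp_id]
    have h2 : t ≫ p = (Over.homMk q : Over.mk (q ≫ T.hom) ⟶ T) ≫ s' :=
      Over.OverMorphism.ext pullback.condition.symm
    exact ULift.ext _ _ (congrArg Additive.ofMul (h1.trans h2))
  have : Epi (n • 𝟙 P) := Sheaf.epi_of_isLocallySurjective _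
  rw [← cancel_epi (n • 𝟙 P)]
  simp only [Preadditive.zsmul_comp, Category.id_comp, comp_zero]
  exact h

end Groth.Agent.S19971
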