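import Groth.Statements.S19974
import Mathlib.Data.Matrix.Basic
import Mathlib.LinearAlgebra.Matrix.Notation
-- import your own Groth.Agent.* helpers here

set_option autoImplicit false
universe u v w x
open scoped BigOperators
open DefMod

namespace Groth.Agent.S19974

/-- Let K be a field of characteristic 0, O a commutative K-algebra with a K-linear derivation δ, and D
the ring of differential operators O[∂], presented abstractly as a K-algebra D with an algebra map ι
: O → D and an element ∂ of D such that ∂ ι(f) = ι(f) ∂ + ι(δ f) for every f in O and such that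
every element of D is in a unique way a finite sum of terms ι(f_i) ∂^i. Let E be a left D-module,
given as a K-vector space with a K-algebra map ρ : D → End_K(E), which is finite free as an
O-module. A K-derivation of D with values in the D-bimodule End_K(E) is a K-linear map s with s(PQ)
= s(P) ρ(Q) + ρ(P) s(Q); a K-derivation of O with values in End_K(E) is a K-linear map r with r(fg)
= r(f) ρ(ι g) + ρ(ι f) r(g). Then: (a) for every K-derivation s of D into End_K(E), the pair (r, v)
= (s ∘ ι, s(∂)) satisfies the identity [r(f), ρ(∂)] + [ρ(ι f), v] + r(δ f) = 0 for all f in O; (b)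
conversely, for every K-derivation r of O into End_K(E) and every v in End_K(E) satisfying that
identity for all f, there is exactly one K-derivation s of D into End_K(E) with s ∘ ι = r and s(∂) =
v. In other words s ↦ (s ∘ ι, s(∂)) maps the K-derivations of D injectively onto the pairs
satisfying the identity. -/
theorem result
    (K : Type u) [Field K] [CharZero K]
    (O : Type v) [CommRing O] [Algebra K O] (δ : Derivation K O O)
    (D : Type w) [Ring D] [Algebra K D] (ι : O →ₐ[K] D) (d : D)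
    (hd : ∀ f : O, d * ι f = ι f * d + ι (δ f))
    (hbasis : Function.Bijective (fun c : ℕ →₀ O => c.sum (fun i f => ι f * d ^ i)))
    (E : Type x) [AddCommGroup E] [Module K E] (ρ : D →ₐ[K] Module.End K E)
    (hE : ∃ (n : ℕ) (b : Fin n → E), Function.Bijective (fun c : Fin n → O => ∑ i, ρ (ι (c i)) (b i))) :
    (∀ s : D →ₗ[K] Module.End K E, (∀ P Q : D, s (P * Q) = s P * ρ Q + ρ P * s Q) →
      ∀ f : O, (s (ι f) * ρ d - ρ d * s (ι f)) + (ρ (ι f) * s d - s d * ρ (ι f)) + s (ι (δ f)) = 0) ∧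
    ∀ (r : O →ₗ[K] Module.End K E) (v : Module.End K E),
      (∀ f g : O, r (f * g) = r f * ρ (ι g) + ρ (ι f) * r g) →
      (∀ f : O, (r f * ρ d - ρ d * r f) + (ρ (ι f) * v - v * ρ (ι f)) + r (δ f) = 0) →
      ∃! s : D →ₗ[K] Module.End K E,
        (∀ P Q : D, s (P * Q) = s P * ρ Q + ρ P * s Q) ∧ s ∘ₗ ι.toLinearMap = r ∧ s d = v := by
  classical
  refine ⟨fun s hs f => ?_, fun r v hr hv => ?_⟩
  · have h := congrArg s (hd f)
    rw [map_add, hs, hs] at h
    rw [eq_sub_of_add_eq' h.symm]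
    abel
  let M : O →ₗ[K] Matrix (Fin 2) (Fin 2) (Module.End K E) :=
    { toFun := fun f => !![ρ (ι f), r f; 0, ρ (ι f)]
      map_add' := fun f g => by ext i j : 1; fin_cases i <;> fin_cases j <;> simp
      map_smul' := fun c f => by ext i j : 1; fin_cases i <;> fin_cases j <;> simp }
  let N : Matrix (Fin 2) (Fin 2) (Module.End K E) := !![ρ d, v; 0, ρ d]
  have hMmul : ∀ f g, M (f * g) = M f * M g := fun f g => by
    ext i j : 1
    fin_cases i <;> fin_cases j <;> simp [M, Matrix.mul_apply, Fin.sum_univ_two, hr, add_comm]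
  have hr1 : r 1 = 0 := by simpa using hr 1 1
  have hM1 : M 1 = 1 := by
    ext i j : 1
    fin_cases i <;> fin_cases j <;> simp [M, hr1]
  have hN : ∀ f, N * M f = M f * N + M (δ f) := fun f => by
    have hρ : ρ d * ρ (ι f) = ρ (ι f) * ρ d + ρ (ι (δ f)) := by rw [← map_mul, hd, map_add, map_mul]
    have hv' : ρ d * r f + v * ρ (ι f) = r f * ρ d + ρ (ι f) * v + r (δ f) := by
      rw [← sub_eq_zero, ← neg_eq_zero, ← hv f]
      abel
    ext i j : 1
    fin_cases i <;> fin_cases j <;> simp [M, N, Matrix.mul_apply, Fin.sum_univ_two, hρ]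
    exact hv'.trans (by abel)
  let e0 : (ℕ →₀ O) →ₗ[K] D := Finsupp.lsum K fun i => LinearMap.mulRight K (d ^ i) ∘ₗ ι.toLinearMap
  let e : (ℕ →₀ O) ≃ₗ[K] D := LinearEquiv.ofBijective e0 hbasis
  let Φ0 : (ℕ →₀ O) →ₗ[K] Matrix (Fin 2) (Fin 2) (Module.End K E) := Finsupp.lsum K fun i => LinearMap.mulRight K (N ^ i) ∘ₗ M
  let Φ : D →ₗ[K] Matrix (Fin 2) (Fin 2) (Module.End K E) := Φ0 ∘ₗ e.symm.toLinearMap
  have hgen : ∀ f i, Φ (ι f * d ^ i) = M f * N ^ i := fun f i => by
    have h : e.symm (ι f * d ^ i) = Finsupp.single i f := by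
      rw [LinearEquiv.symm_apply_eq]
      simp [e, e0]
    simp [Φ, h, Φ0]
  have hind : ∀ {F : Type x} [AddCommGroup F] [Module K F] (a b : D →ₗ[K] F),
      (∀ f i, a (ι f * d ^ i) = b (ι f * d ^ i)) → a = b := by
    intro F _ _ a b hab
    have h : a ∘ₗ e.toLinearMap = b ∘ₗ e.toLinearMap := Finsupp.lhom_ext fun i f => by
      simpa [e, e0] using hab f i
    exact LinearMap.ext fun P => by simpa using LinearMap.congr_fun h (e.symm P)
  have hι : ∀ f, Φ (ι f) = M f := fun f => by simpa using hgen f 0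
  have hd1 : Φ d = N := by simpa [hM1] using hgen 1 1
  have hkey : ∀ f Q, Φ (ι f * Q) = M f * Φ Q := fun f => by
    have h : Φ ∘ₗ LinearMap.mulLeft K (ι f) = LinearMap.mulLeft K (M f) ∘ₗ Φ := hind _ _ fun g i => by
      simp only [LinearMap.comp_apply, LinearMap.mulLeft_apply, hgen, ← mul_assoc, ← map_mul ι, hMmul]
    exact LinearMap.congr_fun h
  have hkeyd : ∀ Q, Φ (d * Q) = N * Φ Q := by
    have h : Φ ∘ₗ LinearMap.mulLeft K d = LinearMap.mulLeft K N ∘ₗ Φ := hind _ _ fun g i => by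
      simp only [LinearMap.comp_apply, LinearMap.mulLeft_apply, hgen, ← mul_assoc, hd, add_mul, map_add, hN]
      rw [mul_assoc, ← pow_succ', hgen, mul_assoc, ← pow_succ']
    exact LinearMap.congr_fun h
  have hpow : ∀ i Q, Φ (d ^ i * Q) = N ^ i * Φ Q := fun i => by
    induction i with
    | zero => simp
    | succ i ih => intro Q; rw [pow_succ', mul_assoc, hkeyd, ih, ← mul_assoc, ← pow_succ']
  have hmul : ∀ P Q, Φ (P * Q) = Φ P * Φ Q := fun P Q => by
    have h : Φ ∘ₗ LinearMap.mulRight K Q = LinearMap.mulRight K (Φ Q) ∘ₗ Φ := hind _ _ fun g i => by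
      simp only [LinearMap.comp_apply, LinearMap.mulRight_apply, hgen, mul_assoc, hkey, hpow]
    exact LinearMap.congr_fun h P
  let ent : Fin 2 → Fin 2 → D →ₗ[K] Module.End K E := fun i j =>
    { toFun := fun P => Φ P i j
      map_add' := fun P Q => by rw [map_add]; rfl
      map_smul' := fun c P => by rw [map_smul]; rfl }
  have hdiag : ∀ P, Φ P 1 0 = 0 ∧ Φ P 0 0 = ρ P ∧ Φ P 1 1 = ρ P := by
    have hN' : ∀ i : ℕ, (N ^ i) 1 0 = 0 ∧ (N ^ i) 0 0 = ρ d ^ i ∧ (N ^ i) 1 1 = ρ d ^ i := fun i => by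
      induction i with
      | zero => simp
      | succ i ih => simp [pow_succ, Matrix.mul_apply, Fin.sum_univ_two, ih, N]
    have h10 : ent 1 0 = 0 := hind _ _ fun f i => by
      show Φ (ι f * d ^ i) 1 0 = 0
      simp [hgen, Matrix.mul_apply, Fin.sum_univ_two, hN', M]
    have h00 : ent 0 0 = ρ.toLinearMap := hind _ _ fun f i => by
      show Φ (ι f * d ^ i) 0 0 = ρ (ι f * d ^ i)
      simp [hgen, Matrix.mul_apply, Fin.sum_univ_two, hN', M]
    have h11 : ent 1 1 = ρ.toLinearMap := hind _ _ fun f i => by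
      show Φ (ι f * d ^ i) 1 1 = ρ (ι f * d ^ i)
      simp [hgen, Matrix.mul_apply, Fin.sum_univ_two, hN', M]
    exact fun P => ⟨LinearMap.congr_fun h10 P, LinearMap.congr_fun h00 P, LinearMap.congr_fun h11 P⟩
  refine ⟨ent 0 1, ⟨fun P Q => ?_, LinearMap.ext fun f => ?_, ?_⟩, ?_⟩
  · show Φ (P * Q) 0 1 = Φ P 0 1 * ρ Q + ρ P * Φ Q 0 1
    rw [hmul, Matrix.mul_apply, Fin.sum_univ_two, (hdiag P).2.1, (hdiag Q).2.2, add_comm]
  · show Φ (ι f) 0 1 = r f
    rw [hι]
    simp [M]
  · show Φ d 0 1 = v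
    rw [hd1]
    simp [N]
  rintro s ⟨hs, hsι, hsd⟩
  refine hind _ _ fun f i => ?_
  have hs1 : s 1 = 0 := by simpa using hs 1 1
  have hpw : ∀ i : ℕ, s (d ^ i) = Φ (d ^ i) 0 1 := fun i => by
    induction i with
    | zero =>
      have hΦ1 : Φ 1 = 1 := by rw [← map_one ι, hι, hM1]
      simp [hs1, hΦ1]
    | succ i ih =>
      rw [pow_succ, hs, hsd, ih, hmul, Matrix.mul_apply, Fin.sum_univ_two, (hdiag _).2.1, hd1]
      simp [N, add_comm]
  show s (ι f * d ^ i) = Φ (ι f * d ^ i) 0 1
  rw [hs, show s (ι f) = r f from LinearMap.congr_fun hsι f, hpw, hmul, Matrix.mul_apply, Fin.sum_univ_two,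
    (hdiag _).2.2, hι]
  simp [M, add_comm]

end Groth.Agent.S19974
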