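import Groth.Statements.S19975
import Groth.Agent.H88.EtMod.CohColim
import Groth.Agent.H88.EtMod.FilteredSections
import Groth.Agent.Lib.EtH1Gm.Lift
import Mathlib.CategoryTheory.Sites.LocallyBijective

set_option autoImplicit false
universe u
open CategoryTheory Opposite AlgebraicGeometry
open EtCoh

namespace Groth.Agent.S19975

set_option linter.style.haveILetI false

open CategoryTheory.Limits

variable (S : Submonoid ℤ)

/-- Stages of the localization: elements of `S`, with multiplication maps. -/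
structure Stage : Type u where
  /-- the element -/
  s : ULift.{u} S

variable {S}

/-- The element of a stage. -/
def val (a : Stage.{u} S) : ℤ := a.s.down

instance : Category.{u} (Stage.{u} S) where
  Hom a b := ULift.{u} {r : ℤ // val a * r = val b}
  id a := ⟨1, mul_one _⟩
  comp {a b c} f g := ⟨f.down.1 * g.down.1, by rw [← mul_assoc, f.down.2, g.down.2]⟩
  id_comp f := ULift.ext _ _ (Subtype.ext (one_mul _))
  comp_id f := ULift.ext _ _ (Subtype.ext (mul_one _))
  assoc f g k := ULift.ext _ _ (Subtype.ext (mul_assoc _ _ _))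

/-- A stage from an element. -/
def stage (t : ℤ) (ht : t ∈ S) : Stage.{u} S := ⟨⟨t, ht⟩⟩

instance : IsFiltered (Stage.{u} S) where
  nonempty := ⟨stage 1 S.one_mem⟩
  cocone_objs a b := ⟨stage (val a * val b) (S.mul_mem a.s.down.2 b.s.down.2),
    ⟨⟨val b, rfl⟩⟩, ⟨⟨val a, mul_comm _ _⟩⟩, trivial⟩
  cocone_maps {a b} f g := by
    by_cases ha : val a = 0
    · have hb : val b = 0 := f.down.2.symm.trans (mul_eq_zero_of_left ha _)
      exact ⟨b, ⟨⟨0, by rw [mul_zero, hb]⟩⟩,
        ULift.ext _ _ (Subtype.ext ((mul_zero _).trans (mul_zero _).symm))⟩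
    · exact ⟨b, 𝟙 b, by rw [ULift.ext f g (Subtype.ext (mul_left_cancel₀ ha (f.down.2.trans g.down.2.symm)))]⟩

variable {X : Scheme.{u}} (S)

/-- The diagram of multiplications. -/
noncomputable def diagram (F : EtCoh.Ab X) : Stage.{u} S ⥤ EtCoh.Ab X where
  obj _ := F
  map f := f.down.1 • 𝟙 F
  map_id _ := one_smul ℤ (𝟙 F)
  map_comp f g := by
    show (f.down.1 * g.down.1) • 𝟙 F = (f.down.1 • 𝟙 F) ≫ (g.down.1 • 𝟙 F)
    rw [Preadditive.zsmul_comp, Category.id_comp, smul_smul]

theorem app_zsmul {F : EtCoh.Ab X} (r : ℤ) (U : X.Etaleᵒᵖ) (x : ToType (F.obj.obj U)) :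
    (r • 𝟙 F : F ⟶ F).hom.app U x = r • x := by
  induction r with
  | zero => rw [zero_smul, zero_smul]; rfl
  | succ n ih => rw [add_smul, one_smul, add_smul, one_smul, ← ih]; rfl
  | pred n ih => rw [sub_smul, one_smul, sub_smul, one_smul, ← ih]; rfl

variable (F G : EtCoh.Ab X) (φ : F ⟶ G)

theorem isIso_of_affine {A B : EtCoh.Ab X} (c : A ⟶ B)
    (hc : ∀ U : X.Etale, IsAffine U.left → Function.Bijective (c.hom.app (op U))) : IsIso c := by
  haveI : X.smallEtaleTopology.HasSheafCompose (forget AddCommGrpCat.{u + 1}) := inferInstance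
  refine (Sheaf.isLocallyBijective_iff_isIso c).1 ?_
  have aff : ∀ (U : X.Etale) (x : U.left), ∃ (V : X.Etale) (g : V ⟶ U),
      (∃ v : V.left, g.left.base v = x) ∧ IsAffine V.left := by
    intro U x
    obtain ⟨_, ⟨W, (hW : IsAffineOpen W), rfl⟩, hxW, -⟩ :=
      U.left.isBasis_affineOpens.exists_subset_of_mem_open (Set.mem_univ x) isOpen_univ
    exact ⟨Groth.Agent.Lib.EtH1Gm.Lift.sub U W, Groth.Agent.Lib.EtH1Gm.Lift.subι U W, ⟨⟨x, hxW⟩, rfl⟩, hW⟩
  refine ⟨⟨fun {U} x y h => ?_⟩, ⟨fun {U} s => ?_⟩⟩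
  · refine (Groth.Agent.Lib.EtSite.Basic.mem_topology_iff _).2 fun z => ?_
    obtain ⟨V, g, hv, hV⟩ := aff U.unop z
    refine ⟨V, g, (hc V hV).1 ?_, hv⟩
    exact ((ConcreteCategory.congr_hom (c.hom.naturality g.op) x).trans
      ((congrArg (B.obj.map g.op) h).trans (ConcreteCategory.congr_hom (c.hom.naturality g.op) y).symm))
  · refine (Groth.Agent.Lib.EtSite.Basic.mem_topology_iff _).2 fun z => ?_
    obtain ⟨V, g, hv, hV⟩ := aff U z
    exact ⟨V, g, (hc V hV).2 _, hv⟩

variable (hφ : ∀ U : X.Etale, IsAffine U.left →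
      IsLocalizedModule S (φ.hom.app (op U)).hom.toIntLinearMap)

include hφ in
theorem isIso_zsmul (t : ℤ) (ht : t ∈ S) : IsIso (t • 𝟙 G) := by
  refine isIso_of_affine _ fun U hU => ?_
  have h := (Module.End.isUnit_iff _).1 ((hφ U hU).map_units ⟨t, ht⟩)
  convert h using 1
  funext x
  exact app_zsmul t (op U) x

/-- `φ` divided by the stage. -/
noncomputable def divMap (a : Stage.{u} S) : F ⟶ G :=
  haveI := isIso_zsmul S F G φ hφ (val a) a.s.down.2
  φ ≫ inv (val a • 𝟙 G)

theorem divMap_comp (a : Stage.{u} S) : divMap S F G φ hφ a ≫ (val a • 𝟙 G) = φ := by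
  haveI := isIso_zsmul S F G φ hφ (val a) a.s.down.2
  rw [divMap, Category.assoc, IsIso.inv_hom_id, Category.comp_id]

/-- The cocone. -/
noncomputable def cocone : Cocone (diagram S F) where
  pt := G
  ι :=
    { app := fun a => divMap S F G φ hφ a
      naturality := fun a b f => by
        haveI := isIso_zsmul S F G φ hφ (val b) b.s.down.2
        show (f.down.1 • 𝟙 F) ≫ divMap S F G φ hφ b = divMap S F G φ hφ a ≫ 𝟙 G
        rw [Category.comp_id, ← cancel_mono (val b • 𝟙 G), Category.assoc, divMap_comp, Preadditive.zsmul_comp,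
          Category.id_comp]
        conv_rhs => rw [← f.down.2, mul_comm, mul_smul, Preadditive.comp_zsmul, divMap_comp] }

/-- The comparison map. -/
noncomputable def comparison : colimit (diagram S F) ⟶ G := colimit.desc _ (cocone S F G φ hφ)

theorem ι_comparison (a : Stage.{u} S) :
    colimit.ι (diagram S F) a ≫ comparison S F G φ hφ = divMap S F G φ hφ a :=
  colimit.ι_desc (cocone S F G φ hφ) a

theorem isIso_comparison : IsIso (comparison S F G φ hφ) := by
  refine isIso_of_affine _ fun U hU => ?_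
  haveI := hU
  haveI : CompactSpace U.left := inferInstance
  haveI : QuasiSeparatedSpace U.left := inferInstance
  haveI : PreservesFilteredColimitsOfSize.{u, u} (forget AddCommGrpCat.{u + 1}) :=
    preservesFilteredColimitsOfSize_of_univLE.{u + 1, u + 1, u, u} _
  haveI := Groth.Agent.H88.EtMod.FilteredSections.preservesColimits (I := Stage.{u} S)
    (A := AddCommGrpCat.{u + 1}) U
  let E := sheafToPresheaf X.smallEtaleTopology AddCommGrpCat.{u + 1} ⋙
    (evaluation X.Etaleᵒᵖ AddCommGrpCat.{u + 1}).obj (op U)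
  have hC := isColimitOfPreserves E (colimit.isColimit (diagram S F))
  have hdiv : ∀ (a : Stage.{u} S) (y : EtCoh.sect F U),
      val a • (comparison S F G φ hφ).hom.app (op U) ((colimit.ι (diagram S F) a).hom.app (op U) y) =
        φ.hom.app (op U) y := fun a y => by
    have h := congrArg (fun m : F ⟶ G => m.hom.app (op U) y) (divMap_comp S F G φ hφ a)
    rw [← ι_comparison] at h
    exact (app_zsmul (val a) (op U) _).symm.trans h
  refine ⟨(injective_iff_map_eq_zero _).2 fun x hx => ?_, fun g => ?_⟩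
  · obtain ⟨a, y, rfl⟩ := Concrete.isColimit_exists_rep (diagram S F ⋙ E) hC x
    have h1 : φ.hom.app (op U) y = φ.hom.app (op U) 0 := by
      rw [map_zero, ← hdiv a y]
      exact (congrArg (val a • ·) hx).trans (smul_zero _)
    obtain ⟨c, hc⟩ := (hφ U hU).exists_of_eq (x₁ := y) (x₂ := 0) h1
    rw [smul_zero] at hc
    let b : Stage.{u} S := stage (val a * c) (S.mul_mem a.s.down.2 c.2)
    let f : a ⟶ b := ⟨⟨c, rfl⟩⟩
    have h2 : colimit.ι (diagram S F) a = (diagram S F).map f ≫ colimit.ι (diagram S F) b :=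
      (colimit.w (diagram S F) f).symm
    show (colimit.ι (diagram S F) a).hom.app (op U) y = 0
    rw [h2]
    show (colimit.ι (diagram S F) b).hom.app (op U) (((c : ℤ) • 𝟙 F : F ⟶ F).hom.app (op U) y) = 0
    exact ((congrArg ((colimit.ι (diagram S F) b).hom.app (op U)) ((app_zsmul (c : ℤ) (op U) y).trans hc))).trans
      (map_zero _)
  · obtain ⟨⟨y, s⟩, hy⟩ := (hφ U hU).surj g
    refine ⟨(colimit.ι (diagram S F) (stage (s : ℤ) s.2)).hom.app (op U) y, ?_⟩
    apply ((Module.End.isUnit_iff _).1 ((hφ U hU).map_units s)).1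
    exact (hdiv (stage (s : ℤ) s.2) y).trans hy.symm

end Groth.Agent.S19975

namespace Groth.Agent.S19975

open CategoryTheory.Limits in
/-- In the case of the small etale topos of a quasi-compact quasi-separated scheme X (X is then a
coherent object of it), let R = S⁻¹ℤ be a localization of the ring of integers at a multiplicative
subset S, and let φ : F ⟶ G be a morphism of abelian etale sheaves on X which exhibits G as F ⊗ R:
over every affine scheme U etale over X, the map on sections F(U) → G(U) is a localization of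
ℤ-modules at S. Then for every i the induced map on etale cohomology Hⁱ(X, F) → Hⁱ(X, G) is a
localization at S, i.e. the natural map Hⁱ(X, F) ⊗ R → Hⁱ(X, F ⊗ R) is invertible. (The source
states this for a coherent object of an arbitrary topos; the tensor product F ⊗ R is rendered
through its characterisation on affine etale schemes over X.) -/
theorem result (X : Scheme.{u})
    [CompactSpace X] [QuasiSeparatedSpace X] (S : Submonoid ℤ)
    (F G : EtCoh.Ab X) (φ : F ⟶ G)
    (hφ : ∀ U : X.Etale, IsAffine U.left →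
      IsLocalizedModule S (φ.hom.app (op U)).hom.toIntLinearMap)
    (i : ℕ) : IsLocalizedModule S ((EtCoh.HF X i).map φ).hom.toIntLinearMap := by
  haveI : (EtCoh.HF X i).Additive := ⟨fun {A B f g} => by
    ext x
    change Sheaf.H.map (f + g) i x = Sheaf.H.map f i x + Sheaf.H.map g i x
    exact Sheaf.H.map_add_apply f g x⟩
  let H := EtCoh.HF X i
  have hz : ∀ {A : EtCoh.Ab X} (t : ℤ) (x : H.obj A), (H.map (t • 𝟙 A)).hom x = t • x := fun {A} t x => by
    rw [Functor.map_zsmul, CategoryTheory.Functor.map_id]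
    rfl
  haveI : PreservesFilteredColimitsOfSize.{u, u} (forget AddCommGrpCat.{u + 1}) :=
    preservesFilteredColimitsOfSize_of_univLE.{u + 1, u + 1, u, u} _
  haveI : PreservesColimitsOfShape (Stage.{u} S) (EtCoh.HF X i) :=
    Groth.Agent.H88.EtMod.CohColim.preservesColimitsOfShape i
  haveI := isIso_comparison S F G φ hφ
  have hC := isColimitOfPreserves H
    (IsColimit.ofIsoColimit (colimit.isColimit (diagram S F))
      (Cocone.ext (@asIso _ _ _ _ (comparison S F G φ hφ) (isIso_comparison S F G φ hφ)) (fun a => ι_comparison S F G φ hφ a) :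
        colimit.cocone (diagram S F) ≅ cocone S F G φ hφ))
  refine ⟨fun t => ?_, fun y => ?_, fun {x₁ x₂} h => ?_⟩
  · rw [Module.End.isUnit_iff]
    haveI := isIso_zsmul S F G φ hφ (t : ℤ) t.2
    have hb := ConcreteCategory.bijective_of_isIso (H.map ((t : ℤ) • 𝟙 G))
    convert hb using 1
    funext x
    exact (hz (t : ℤ) x).symm
  · obtain ⟨a, x, rfl⟩ := Concrete.isColimit_exists_rep (diagram S F ⋙ H) hC y
    refine ⟨⟨x, a.s.down⟩, ?_⟩
    show val a • (H.map (divMap S F G φ hφ a)).hom x = (H.map φ).hom x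
    rw [← hz, ← AddCommGrpCat.comp_apply, ← Functor.map_comp, divMap_comp]
  · have hdiv1 : divMap S F G φ hφ (stage 1 S.one_mem) = φ := by
      have h1 := divMap_comp S F G φ hφ (stage 1 S.one_mem)
      rwa [show val (stage.{u} 1 S.one_mem) = 1 from rfl, one_smul, Category.comp_id] at h1
    have h' : ((H.mapCocone (cocone S F G φ hφ)).ι.app (stage 1 S.one_mem)) x₁ =
        ((H.mapCocone (cocone S F G φ hφ)).ι.app (stage 1 S.one_mem)) x₂ := by
      show (H.map (divMap S F G φ hφ _)).hom x₁ = (H.map (divMap S F G φ hφ _)).hom x₂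
      rw [hdiv1]
      exact h
    obtain ⟨b, f, g, hfg⟩ := (Concrete.isColimit_rep_eq_iff_exists (diagram S F ⋙ H) hC x₁ x₂).1 h'
    refine ⟨b.s.down, ?_⟩
    have hf : f.down.1 = val b := (one_mul f.down.1).symm.trans f.down.2
    have hg : g.down.1 = val b := (one_mul g.down.1).symm.trans g.down.2
    change (H.map (f.down.1 • 𝟙 F)).hom x₁ = (H.map (g.down.1 • 𝟙 F)).hom x₂ at hfg
    rw [hz, hz, hf, hg] at hfg
    exact hfg

end Groth.Agent.S19975
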