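import Groth.Statements.S19976
import Groth.Agent.H23.CodimTwo

set_option autoImplicit false
universe u
open NumberField Groth.Agent.H23.CodimTwo Groth.Agent.H23.StrongApprox

namespace Groth.Agent.S19976

/-- Strong approximation off a place v₀ for the complement of a closed subset of codimension at least 2
in affine n-space over a number field, here in the following explicit form for a finite place v₀ and
the standard integral model. Let k be a number field with ring of integers O_k, n ≥ 1, and f_1, …,
f_m polynomials in n variables with coefficients in O_k whose common zero locus F in 𝔸ⁿ_k has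
codimension at least 2, i.e. the k-algebra k[x_1, …, x_n]/(f_1, …, f_m) has Krull dimension at most
n − 2 (dimension −∞ when F is empty). Put U = 𝔸ⁿ_k ∖ F and 𝒰 = 𝔸ⁿ_{O_k} ∖ V(f_1, …, f_m), so that
for a finite place v the O_v-points of 𝒰 are the P ∈ O_vⁿ with some f_j(P) a unit. Let S_f be a
finite set of finite places containing v₀ (the set S of the source is S_f together with all infinite
places). Suppose given, for every v ∈ S_f other than v₀, a point P_v ∈ U(k_v) with an open
neighbourhood N_v ⊆ k_vⁿ; for every infinite place w, a point P_w ∈ U(k_w) with an open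
neighbourhood N_w ⊆ k_wⁿ; for every v in a finite set T of finite places disjoint from S_f, a point
Q_v ∈ 𝒰(O_v) with an open neighbourhood W_v ⊆ k_vⁿ; and suppose 𝒰(O_v) is nonempty for every finite
place v ∉ S_f. Then there is a point P ∈ kⁿ whose coordinates are v-integral and some f_j(P) is a
v-unit at every finite place v ∉ S_f (so P ∈ 𝒰(O_S)), and whose image lies in N_v for v ∈ S_f ∖
{v₀}, in N_w for every infinite w, and in W_v for v ∈ T. (The source states strong approximation off
an arbitrary place v₀ and for every model over O_S; this row is the case of a finite v₀ and of the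
standard model, approximation at a basic open set of the restricted product.) -/
theorem result
    (k : Type u) [Field k] [NumberField k] (n : ℕ) (hn : 1 ≤ n) (m : ℕ)
    (f : Fin m → MvPolynomial (Fin n) (NumberField.RingOfIntegers k))
    (hcodim : ringKrullDim (MvPolynomial (Fin n) k ⧸ Ideal.span (Set.range fun j =>
        MvPolynomial.map (algebraMap (NumberField.RingOfIntegers k) k) (f j))) + 2 ≤ (n : WithBot ℕ∞))
    (v₀ : IsDedekindDomain.HeightOneSpectrum (NumberField.RingOfIntegers k)) (Sf : Finset (IsDedekindDomain.HeightOneSpectrum (NumberField.RingOfIntegers k))) (hv₀ : v₀ ∈ Sf)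
    (Pf : (v : IsDedekindDomain.HeightOneSpectrum (NumberField.RingOfIntegers k)) → (Fin n → v.adicCompletion k))
    (hPf : ∀ v ∈ Sf, v ≠ v₀ → ∃ j, MvPolynomial.aeval (Pf v)
      (MvPolynomial.map (algebraMap (NumberField.RingOfIntegers k) k) (f j)) ≠ 0)
    (Nf : (v : IsDedekindDomain.HeightOneSpectrum (NumberField.RingOfIntegers k)) → Set (Fin n → v.adicCompletion k))
    (hNf : ∀ v ∈ Sf, v ≠ v₀ → IsOpen (Nf v) ∧ Pf v ∈ Nf v)
    (Pi : (w : NumberField.InfinitePlace k) → (Fin n → w.Completion))
    (hPi : ∀ w, ∃ j, MvPolynomial.aeval (Pi w)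
      (MvPolynomial.map (algebraMap (NumberField.RingOfIntegers k) k) (f j)) ≠ 0)
    (Ni : (w : NumberField.InfinitePlace k) → Set (Fin n → w.Completion))
    (hNi : ∀ w, IsOpen (Ni w) ∧ Pi w ∈ Ni w)
    (T : Finset (IsDedekindDomain.HeightOneSpectrum (NumberField.RingOfIntegers k))) (hT : Disjoint T Sf)
    (Q : (v : IsDedekindDomain.HeightOneSpectrum (NumberField.RingOfIntegers k)) → (Fin n → v.adicCompletion k))
    (hQ : ∀ v ∈ T, (∀ i, Q v i ∈ v.adicCompletionIntegers k) ∧ ∃ j, Valued.v (MvPolynomial.aeval (Q v)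
      (MvPolynomial.map (algebraMap (NumberField.RingOfIntegers k) k) (f j))) = 1)
    (W : (v : IsDedekindDomain.HeightOneSpectrum (NumberField.RingOfIntegers k)) → Set (Fin n → v.adicCompletion k))
    (hW : ∀ v ∈ T, IsOpen (W v) ∧ Q v ∈ W v)
    (hne : ∀ v : IsDedekindDomain.HeightOneSpectrum (NumberField.RingOfIntegers k), v ∉ Sf → ∃ R : Fin n → v.adicCompletion k,
      (∀ i, R i ∈ v.adicCompletionIntegers k) ∧ ∃ j, Valued.v (MvPolynomial.aeval R
        (MvPolynomial.map (algebraMap (NumberField.RingOfIntegers k) k) (f j))) = 1) :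
    ∃ P : Fin n → k,
      (∀ v : IsDedekindDomain.HeightOneSpectrum (NumberField.RingOfIntegers k), v ∉ Sf → (∀ i, v.valuation k (P i) ≤ 1) ∧
        ∃ j, v.valuation k (MvPolynomial.aeval P
          (MvPolynomial.map (algebraMap (NumberField.RingOfIntegers k) k) (f j))) = 1) ∧
      (∀ v ∈ Sf, v ≠ v₀ → (fun i => algebraMap k (v.adicCompletion k) (P i)) ∈ Nf v) ∧
      (∀ w : NumberField.InfinitePlace k, (fun i => algebraMap k w.Completion (P i)) ∈ Ni w) ∧
      (∀ v ∈ T, (fun i => algebraMap k (v.adicCompletion k) (P i)) ∈ W v) := by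
  classical
  have hnorm : ∀ (v : IsDedekindDomain.HeightOneSpectrum (NumberField.RingOfIntegers k))
      (R : Fin n → v.adicCompletion k) (j : Fin m),
      MvPolynomial.aeval R (MvPolynomial.map (algebraMap (NumberField.RingOfIntegers k) k) (f j)) =
        MvPolynomial.aeval R (f j) := fun v R j => MvPolynomial.aeval_map_algebraMap k R (f j)
  let U : ∀ v : IsDedekindDomain.HeightOneSpectrum (NumberField.RingOfIntegers k),
      Set (Fin n → v.adicCompletion k) := fun v => if v ∈ T then W v ∩ goodSet v f else Nf v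
  have hv₀T : v₀ ∉ T := fun h => Finset.disjoint_left.1 hT h hv₀
  obtain ⟨P, hP1, hP2, hP3⟩ := exists_point v₀ n (Fin m) f hcodim (Sf.erase v₀ ∪ T) (by simp [hv₀T]) U
    (fun v hv => by
      by_cases h : v ∈ T
      · simp only [U, if_pos h]
        refine ⟨(hW v h).1.inter (isOpen_goodSet v f), Q v, (hW v h).2, (hQ v h).1, ?_⟩
        obtain ⟨j, hj⟩ := (hQ v h).2
        exact ⟨j, hnorm v (Q v) j ▸ hj⟩
      · simp only [U, if_neg h]
        obtain ⟨h1, h2⟩ := Finset.mem_erase.1 ((Finset.mem_union.1 hv).resolve_right h)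
        exact ⟨(hNf v h2 h1).1, _, (hNf v h2 h1).2⟩)
    Ni (fun w => ⟨(hNi w).1, _, (hNi w).2⟩)
    (fun v hv hv0 => by
      have : v ∉ Sf := fun h => hv (Finset.mem_union_left _ (Finset.mem_erase.2 ⟨hv0, h⟩))
      obtain ⟨R, hR, j, hj⟩ := hne v this
      exact ⟨R, hR, j, hnorm v R j ▸ hj⟩)
  refine ⟨P, fun v hv => ?_, fun v hv hv0 => ?_, hP3, fun v hv => ?_⟩
  · have hv0 : v ≠ v₀ := fun h => hv (h ▸ hv₀)
    simp only [MvPolynomial.aeval_map_algebraMap]
    by_cases h : v ∈ T
    · have := hP2 v (Finset.mem_union_right _ h)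
      simp only [U, if_pos h] at this
      obtain ⟨-, h1, j, h2⟩ := this
      exact ⟨fun i => valued_algebraMap v (P i) ▸ h1 i, j,
        valued_algebraMap v (MvPolynomial.aeval P (f j)) ▸ (algebraMap_aeval v P (f j)).symm ▸ h2⟩
    · exact hP1 v (by simp [h, hv]) hv0
  · have hT' : v ∉ T := fun h => Finset.disjoint_left.1 hT h hv
    have := hP2 v (Finset.mem_union_left _ (Finset.mem_erase.2 ⟨hv0, hv⟩))
    simpa only [U, if_neg hT'] using this
  · have := hP2 v (Finset.mem_union_right _ hv)
    simp only [U, if_pos hv] at this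
    exact this.1

end Groth.Agent.S19976
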