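import Groth.Statements.S19977
import Groth.Statements.S19977
import Groth.Agent.H69.ActModel
import Groth.Agent.Lib.Lim.FPDescend
import Groth.Agent.Lib.Lim.Props
import Groth.Agent.H2.FlatDescend.Model
import Groth.Agent.Lib.LimTop.Points
import Groth.Agent.Lib.NoriFGS.Basic
import Groth.Agent.Lib.TorsorSch.Basic
import Groth.Agent.Lib.JacCrit.OverField
import Mathlib.AlgebraicGeometry.Morphisms.LocalFlatDescent

set_option autoImplicit false
set_option backward.isDefEq.respectTransparency false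
set_option backward.isDefEq.respectTransparency.types false
set_option linter.style.haveILetI false
set_option maxHeartbeats 800000
universe u
open CategoryTheory CategoryTheory.Limits MonoidalCategory CartesianMonoidalCategory MonObj AlgebraicGeometry
open NonAbH1

namespace Groth.Agent.S19977

open Groth.Agent Groth.Agent.Lib Groth.Agent.H69.ActModel Groth.Agent.Lib.Lim

section Hom

variable {I : Type u} [SmallCategory I] [IsCofiltered I] {D : I ⥤ Scheme.{u}} {c : Cone D}
  [∀ {i j : I} (f : i ⟶ j), IsAffineHom (D.map f)]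

theorem hom_descends (hc : IsLimit c) {i : I} {A B : Over (D.obj i)} [CompactSpace A.left]
    [QuasiSeparatedSpace A.left] [LocallyOfFinitePresentation B.hom]
    (g : Red.bc (c.π.app i) A ⟶ Red.bc (c.π.app i) B) :
    ∃ (k : I) (φ : k ⟶ i) (g' : Red.bc (D.map φ) A ⟶ Red.bc (D.map φ) B),
      (Over.pullback (c.π.app k)).map g' ≫ (ActBC.bcCompIso (c.π.app k) (D.map φ) B (c.w φ)).hom =
        (ActBC.bcCompIso (c.π.app k) (D.map φ) A (c.w φ)).hom ≫ g := by
  obtain ⟨k, φ, r, hr, hr'⟩ := Basic.exists_bc_hom hc (IsPullback.of_hasPullback A.hom (c.π.app i))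
    B.hom A.hom (g.left ≫ pullback.fst B.hom (c.π.app i)) (by
      rw [Category.assoc, pullback.condition, ← Category.assoc]
      refine Eq.trans ?_ pullback.condition.symm
      exact congrArg (· ≫ c.π.app i) (Over.w g))
  refine ⟨k, φ, Over.homMk (pullback.lift r (pullback.snd A.hom (D.map φ)) (hr.trans pullback.condition))
    (pullback.lift_snd _ _ _), ?_⟩
  ext
  apply pullback.hom_ext
  · simp only [Over.comp_left, Category.assoc, ActBC.bcCompIso_hom_left_fst, ActBC.pullback_map_left_fst_assoc,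
      Over.homMk_left, pullback.lift_fst]
    rw [← hr']
    refine Eq.trans ?_ (Category.assoc _ _ _)
    refine congrArg (· ≫ r) ?_
    apply pullback.hom_ext
    · simp only [Category.assoc, pullback.lift_fst, ActBC.bcCompIso_hom_left_fst]
    · simp only [Category.assoc, pullback.lift_snd, ActBC.bcCompIso_hom_left_snd_assoc]
      exact pullback.condition
  · exact (Over.w _).trans (Over.w _).symm

theorem hom_eq_descends (hc : IsLimit c) {i : I} {A B : Over (D.obj i)} [CompactSpace A.left]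
    [LocallyOfFiniteType B.hom] (g₁ g₂ : A ⟶ B)
    (h : (Over.pullback (c.π.app i)).map g₁ = (Over.pullback (c.π.app i)).map g₂) :
    ∃ (k : I) (φ : k ⟶ i), (Over.pullback (D.map φ)).map g₁ = (Over.pullback (D.map φ)).map g₂ := by
  have h' := congrArg (fun g => g.left ≫ pullback.fst B.hom (c.π.app i)) h
  simp only [ActBC.pullback_map_left_fst] at h'
  obtain ⟨k, φ, e⟩ := Basic.exists_bc_comp_eq hc (IsPullback.of_hasPullback A.hom (c.π.app i))
    B.hom g₁.left g₂.left ((Over.w g₁).trans (Over.w g₂).symm) h'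
  refine ⟨k, φ, ?_⟩
  ext
  apply pullback.hom_ext
  · simp only [ActBC.pullback_map_left_fst]; exact e
  · exact (Over.w _).trans (Over.w _).symm

theorem bcMap_isIso_of_le {i j k : I} (φ : j ⟶ i) (ψ : k ⟶ j) {A B : Over (D.obj i)} (f : A ⟶ B)
    [IsIso ((Over.pullback (D.map φ)).map f)] : IsIso ((Over.pullback (D.map (ψ ≫ φ))).map f) := by
  have h : IsIso ((Over.pullback (D.map ψ)).map ((Over.pullback (D.map φ)).map f) ≫
      (ActBC.bcCompIso (D.map ψ) (D.map φ) B (D.map_comp ψ φ).symm).hom) := inferInstance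
  rw [ActBC.bcCompIso_hom_naturality] at h
  exact IsIso.of_isIso_comp_left (ActBC.bcCompIso (D.map ψ) (D.map φ) A (D.map_comp ψ φ).symm).hom _

theorem map_eq_of_le {i j k : I} (φ : j ⟶ i) (ψ : k ⟶ j) {A B : Over (D.obj i)} {f g : A ⟶ B}
    (h : (Over.pullback (D.map φ)).map f = (Over.pullback (D.map φ)).map g) :
    (Over.pullback (D.map (ψ ≫ φ))).map f = (Over.pullback (D.map (ψ ≫ φ))).map g := by
  rw [← cancel_epi (ActBC.bcCompIso (D.map ψ) (D.map φ) A (D.map_comp ψ φ).symm).hom,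
    ← ActBC.bcCompIso_hom_naturality, ← ActBC.bcCompIso_hom_naturality, h]

theorem iso_descends (hc : IsLimit c) {i : I} {A B : Over (D.obj i)} [CompactSpace A.left]
    [QuasiSeparatedSpace A.left] [CompactSpace B.left] [QuasiSeparatedSpace B.left]
    [LocallyOfFinitePresentation A.hom] [LocallyOfFinitePresentation B.hom] (f : A ⟶ B)
    (h : IsIso ((Over.pullback (c.π.app i)).map f)) :
    ∃ (k : I) (φ : k ⟶ i), IsIso ((Over.pullback (D.map φ)).map f) := by
  obtain ⟨k, φ, g', hg'⟩ := hom_descends hc (inv ((Over.pullback (c.π.app i)).map f))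
  let fk := (Over.pullback (D.map φ)).map f
  have hfk : (Over.pullback (c.π.app k)).map fk ≫ (ActBC.bcCompIso (c.π.app k) (D.map φ) B (c.w φ)).hom =
      (ActBC.bcCompIso (c.π.app k) (D.map φ) A (c.w φ)).hom ≫ (Over.pullback (c.π.app i)).map f :=
    ActBC.bcCompIso_hom_naturality _ _ _ _
  haveI : CompactSpace (Red.bc (D.map φ) A).left := Basic.compactSpace_bcDiagram D A.hom (Over.mk φ)
  haveI : CompactSpace (Red.bc (D.map φ) B).left := Basic.compactSpace_bcDiagram D B.hom (Over.mk φ)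
  haveI : LocallyOfFiniteType (Red.bc (D.map φ) A).hom :=
    MorphismProperty.pullback_snd (P := @LocallyOfFiniteType) A.hom (D.map φ) inferInstance
  haveI : LocallyOfFiniteType (Red.bc (D.map φ) B).hom :=
    MorphismProperty.pullback_snd (P := @LocallyOfFiniteType) B.hom (D.map φ) inferInstance
  obtain ⟨l₁, ψ₁, e₁⟩ := hom_eq_descends hc (fk ≫ g') (𝟙 _) (by
    rw [← cancel_mono (ActBC.bcCompIso (c.π.app k) (D.map φ) A (c.w φ)).hom, Functor.map_comp, Category.assoc,
      hg', reassoc_of% hfk, IsIso.hom_inv_id, Category.comp_id, CategoryTheory.Functor.map_id, Category.id_comp])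
  obtain ⟨l₂, ψ₂, e₂⟩ := hom_eq_descends hc (g' ≫ fk) (𝟙 _) (by
    rw [← cancel_mono (ActBC.bcCompIso (c.π.app k) (D.map φ) B (c.w φ)).hom, Functor.map_comp, Category.assoc,
      hfk, reassoc_of% hg', IsIso.inv_hom_id, Category.comp_id, CategoryTheory.Functor.map_id, Category.id_comp])
  obtain ⟨l, α, β, hl⟩ : ∃ (l : I) (α : l ⟶ l₁) (β : l ⟶ l₂), α ≫ ψ₁ = β ≫ ψ₂ := by
    obtain ⟨l, α, β, h⟩ := IsCofiltered.cospan ψ₁ ψ₂
    exact ⟨l, α, β, h⟩
  have e₁' := map_eq_of_le ψ₁ α e₁
  have e₂' := map_eq_of_le ψ₂ β e₂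
  rw [← hl] at e₂'
  simp only [Functor.map_comp, CategoryTheory.Functor.map_id] at e₁' e₂'
  haveI : IsIso ((Over.pullback (D.map (α ≫ ψ₁))).map fk) := ⟨_, e₁', e₂'⟩
  refine ⟨l, (α ≫ ψ₁) ≫ φ, ?_⟩
  have h2 : IsIso ((Over.pullback (D.map (α ≫ ψ₁))).map fk ≫
      (ActBC.bcCompIso (D.map (α ≫ ψ₁)) (D.map φ) B (D.map_comp (α ≫ ψ₁) φ).symm).hom) := inferInstance
  rw [ActBC.bcCompIso_hom_naturality] at h2
  exact IsIso.of_isIso_comp_left (ActBC.bcCompIso (D.map (α ≫ ψ₁)) (D.map φ) A (D.map_comp (α ≫ ψ₁) φ).symm).hom _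

end Hom

section Model

variable {I : Type u} [SmallCategory I] {D : I ⥤ Scheme.{u}} {c : Cone D}
  {S₀ : Scheme.{u}} (str : ∀ i, D.obj i ⟶ S₀) (hstr : ∀ {i j : I} (φ : i ⟶ j), D.map φ ≫ str j = str i)
  {s : c.pt ⟶ S₀} (hs : ∀ i, c.π.app i ≫ str i = s)
  {G : Over S₀} [GrpObj G] {V : Over c.pt} (a : AlgGrp.Action (Red.bc s G) V)

/-- A morphism at stage `j` which becomes the action in the limit. -/
def Key {j : I} {W : Over (D.obj j)} (act : Red.bc (str j) G ⊗ W ⟶ W) (eW : Red.bc (c.π.app j) W ≅ V) : Prop :=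
  bcAct (c.π.app j) act ≫ eW.hom = ((ActBC.bcCompIso (c.π.app j) (str j) G (hs j)).hom ⊗ₘ eW.hom) ≫ a.act

/-- The candidate action at a later stage. -/
noncomputable def moveAct {j k : I} (φ : k ⟶ j) {W : Over (D.obj j)}
    (g' : Red.bc (D.map φ) (Red.bc (str j) G ⊗ W) ⟶ Red.bc (D.map φ) W) :
    Red.bc (str k) G ⊗ Red.bc (D.map φ) W ⟶ Red.bc (D.map φ) W :=
  ((ActBC.bcCompIso (D.map φ) (str j) G (hstr φ)).inv ▷ Red.bc (D.map φ) W) ≫
    Functor.LaxMonoidal.μ (Over.pullback (D.map φ)) (Red.bc (str j) G) W ≫ g'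

theorem key_move {j k : I} (φ : k ⟶ j) {W : Over (D.obj j)} (eW : Red.bc (c.π.app j) W ≅ V)
    (g' : Red.bc (D.map φ) (Red.bc (str j) G ⊗ W) ⟶ Red.bc (D.map φ) W)
    (g : Red.bc (c.π.app j) (Red.bc (str j) G ⊗ W) ⟶ Red.bc (c.π.app j) W)
    (hg : (Over.pullback (c.π.app k)).map g' ≫ (ActBC.bcCompIso (c.π.app k) (D.map φ) W (c.w φ)).hom =
      (ActBC.bcCompIso (c.π.app k) (D.map φ) (Red.bc (str j) G ⊗ W) (c.w φ)).hom ≫ g)
    (hga : Functor.LaxMonoidal.μ (Over.pullback (c.π.app j)) (Red.bc (str j) G) W ≫ g ≫ eW.hom =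
      ((ActBC.bcCompIso (c.π.app j) (str j) G (hs j)).hom ⊗ₘ eW.hom) ≫ a.act) :
    Key str hs a (moveAct str hstr φ g') (ActBC.bcCompIso (c.π.app k) (D.map φ) W (c.w φ) ≪≫ eW) := by
  unfold Key bcAct moveAct
  rw [Functor.map_comp, Functor.map_comp, ← Functor.LaxMonoidal.μ_natural_left_assoc, Iso.trans_hom]
  simp only [Category.assoc]
  rw [reassoc_of% hg, reassoc_of% (μ_comp (c.π.app k) (D.map φ) (c.w φ) (Red.bc (str j) G) W), hga,
    ← Category.assoc, ← Category.assoc]
  refine congrArg (· ≫ a.act) ?_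
  rw [Category.assoc, tensorHom_comp_tensorHom, ← tensorHom_id, tensorHom_comp_tensorHom, Category.id_comp]
  exact congrArg (· ⊗ₘ _) (comp_assoc (c.π.app k) (D.map φ) (str j) G (c.w φ) (hstr φ) (hs j) (hs k))

theorem key_move_map {j k : I} (φ : k ⟶ j) {W : Over (D.obj j)} {act : Red.bc (str j) G ⊗ W ⟶ W}
    {eW : Red.bc (c.π.app j) W ≅ V} (h : Key str hs a act eW) :
    Key str hs a (moveAct str hstr φ ((Over.pullback (D.map φ)).map act))
      (ActBC.bcCompIso (c.π.app k) (D.map φ) W (c.w φ) ≪≫ eW) :=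
  key_move str hstr hs a φ eW _ ((Over.pullback (c.π.app j)).map act)
    (ActBC.bcCompIso_hom_naturality _ _ _ _) ((Category.assoc _ _ _).symm.trans h)

theorem moveAct_map {j k : I} (φ : k ⟶ j) {W : Over (D.obj j)} (act : Red.bc (str j) G ⊗ W ⟶ W) :
    moveAct str hstr φ ((Over.pullback (D.map φ)).map act) ≫ (Iso.refl (Red.bc (D.map φ) W)).hom =
      ((ActBC.bcCompIso (D.map φ) (str j) G (hstr φ)).inv ⊗ₘ (Iso.refl (Red.bc (D.map φ) W)).hom) ≫
        bcAct (D.map φ) act := by
  simp [moveAct, bcAct, tensorHom_id]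

end Model

/-- Let k be a field and X a quasi-compact and quasi-separated k-scheme. Let (T_i)_{i ∈ I} be a
cofiltered inverse system of X-schemes that are affine over X, with limit T over X (in the source
the T_i are torsors over X under affine k-group schemes of finite type, forming a projective system
of torsors; only their being affine over the quasi-compact quasi-separated X enters). Let G be a
finite k-group scheme and V → T a finite T-scheme with an action of G ×_k T for which it is a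
G-torsor over T for the fpqc topology. Then there exist an index i, a finite T_i-scheme V_i with an
action of G ×_k T_i making it an fpqc G-torsor over T_i, and a G-equivariant isomorphism of
T-schemes between V_i ×_{T_i} T and V; the two base changes of G to T are compared through the
canonical isomorphism (G ×_k T_i) ×_{T_i} T ≅ G ×_k T. (The further assertions — V_i Nori-reduced
when V is, descent of morphisms of torsors, pointed versions — are not stated.) -/
theorem result (k : Type u) [Field k]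
    (X : Scheme.{u}) [X.Over (Spec (CommRingCat.of k))] [CompactSpace X] [QuasiSeparatedSpace X]
    {I : Type u} [SmallCategory I] [IsCofiltered I]
    (DT : I ⥤ Over X) [∀ i, IsAffineHom (DT.obj i).hom]
    (cT : Cone DT) (hcT : IsLimit cT)
    (G : Over (Spec (CommRingCat.of k))) [GrpObj G] [IsFinite G.hom]
    (V : Over cT.pt.left) [IsFinite V.hom]
    (a : AlgGrp.Action (Red.bc (cT.pt.hom ≫ (X ↘ Spec (CommRingCat.of k))) G) V)
    (hV : NonAbH1.IsTorsorFor Scheme.fpqcPrecoverage a) :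
    ∃ (i : I) (h : (cT.π.app i).left ≫ ((DT.obj i).hom ≫ (X ↘ Spec (CommRingCat.of k))) = cT.pt.hom ≫ (X ↘ Spec (CommRingCat.of k)))
      (Vi : Over (DT.obj i).left) (ai : AlgGrp.Action (Red.bc ((DT.obj i).hom ≫ (X ↘ Spec (CommRingCat.of k))) G) Vi),
      IsFinite Vi.hom ∧ NonAbH1.IsTorsorFor Scheme.fpqcPrecoverage ai ∧
      Nonempty (NonAbH1.EquivIso (ai.bc (cT.π.app i).left)
        (a.restrict (ActBC.bcCompIso (cT.π.app i).left ((DT.obj i).hom ≫ (X ↘ Spec (CommRingCat.of k))) G h).hom)) := by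
  classical
  let D : I ⥤ Scheme.{u} := DT ⋙ Over.forget X
  let c : Cone D := (Over.forget X).mapCone cT
  haveI : CategoryTheory.IsConnected I := IsCofiltered.isConnected I
  have hc : IsLimit c := isLimitOfPreserves (Over.forget X) hcT
  haveI hA : ∀ {i j : I} (f : i ⟶ j), IsAffineHom (D.map f) := fun {i j} f => by
    haveI : IsAffineHom ((DT.map f).left ≫ (DT.obj j).hom) := by rw [Over.w]; infer_instance
    exact IsAffineHom.of_comp (DT.map f).left (DT.obj j).hom
  haveI : ∀ i, CompactSpace (D.obj i) := fun i => QuasiCompact.compactSpace_of_compactSpace (DT.obj i).hom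
  haveI : ∀ i, QuasiSeparatedSpace (D.obj i) := fun i => quasiSeparatedSpace_of_quasiSeparated (DT.obj i).hom
  obtain ⟨i₀⟩ := IsCofiltered.nonempty (C := I)
  haveI : CompactSpace c.pt := Basic.compactSpace_pt hc i₀
  haveI : QuasiSeparatedSpace c.pt := Basic.quasiSeparatedSpace_pt hc i₀
  haveI : CompactSpace cT.pt.left := ‹CompactSpace c.pt›
  haveI : QuasiSeparatedSpace cT.pt.left := ‹QuasiSeparatedSpace c.pt›
  let str : ∀ i, D.obj i ⟶ Spec (CommRingCat.of k) := fun i => (DT.obj i).hom ≫ (X ↘ Spec (CommRingCat.of k))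
  let s : c.pt ⟶ Spec (CommRingCat.of k) := cT.pt.hom ≫ (X ↘ Spec (CommRingCat.of k))
  have hs : ∀ i, c.π.app i ≫ str i = s := fun i => by
    show (cT.π.app i).left ≫ (DT.obj i).hom ≫ _ = _
    rw [Over.w_assoc]; rfl
  have hstr : ∀ {i j : I} (φ : i ⟶ j), D.map φ ≫ str j = str i := fun {i j} φ => by
    show (DT.map φ).left ≫ (DT.obj j).hom ≫ _ = _
    rw [Over.w_assoc]
  -- properties of the group and of the torsor
  haveI hGflat : Flat G.hom := NoriFGS.flat_hom G
  haveI hGfp : LocallyOfFinitePresentation G.hom := JacCrit.OverField.locallyOfFinitePresentation _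
  haveI : Surjective G.hom := NoriFGS.surjective_hom G
  have hfl : Flat V.hom := TorsorSch.Basic.of_hom (P := @Flat) hV
    (MorphismProperty.pullback_snd (P := @Flat) G.hom s inferInstance)
  have hfp : LocallyOfFinitePresentation V.hom := TorsorSch.Basic.of_hom (P := @LocallyOfFinitePresentation) hV
    (MorphismProperty.pullback_snd (P := @LocallyOfFinitePresentation) G.hom s inferInstance)
  have hsur : Surjective V.hom := TorsorSch.Basic.of_hom (P := @Surjective) hV
    (MorphismProperty.pullback_snd (P := @Surjective) G.hom s inferInstance)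
  haveI := hfp; haveI := hfl; haveI := hsur
  haveI : CompactSpace V.left := QuasiCompact.compactSpace_of_compactSpace V.hom
  haveI : QuasiSeparatedSpace V.left := quasiSeparatedSpace_of_quasiSeparated V.hom
  obtain ⟨i₁, W₁, w₁, q₁, hWc, hWq, hWf, hW₁⟩ := FPDescend.exists_descent hc (f := (V.hom : V.left ⟶ c.pt))
  obtain ⟨i₂, φ₂, h₂⟩ := H2.FlatDescend.flatFp_descends D c hc (fun _ _ f => hA f) i₁ inferInstance inferInstance
    w₁ hWc hWq hWf V.hom q₁ hW₁ ⟨hfl, hfp⟩
  obtain ⟨i₃, φ₃, h₃⟩ := Props.isFinite_descends D c hc (fun _ _ f => hA f) i₁ inferInstance inferInstance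
    w₁ hWc hWq inferInstance V.hom q₁ hW₁ inferInstance
  obtain ⟨i₄, α, β, hi₄⟩ := IsCofiltered.cospan φ₂ φ₃
  let φ₄ := α ≫ φ₂
  have hF₄ : H2.FlatDescend.flatFp (pullback.snd w₁ (D.map φ₄)) :=
    Descend.prop_of_factor (P := H2.FlatDescend.flatFp) h₂ (D.map α) (D.map_comp α φ₂).symm (IsPullback.of_hasPullback _ _)
  have hN₄ : IsFinite (pullback.snd w₁ (D.map φ₄)) :=
    Descend.prop_of_factor (P := @IsFinite) h₃ (D.map β) ((D.map_comp β φ₃).symm.trans (congrArg D.map hi₄.symm))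
      (IsPullback.of_hasPullback _ _)
  let w₄ := pullback.snd w₁ (D.map φ₄)
  haveI : Flat w₄ := hF₄.1
  haveI : LocallyOfFinitePresentation w₄ := hF₄.2
  haveI : IsFinite w₄ := hN₄
  have hW₄ := @FPDescend.move I _ D c V.left (V.hom : V.left ⟶ c.pt) i₁ W₁ w₁ q₁ hW₁ i₄ φ₄
  have hr : IsOpen (Set.range w₄) := w₄.isOpenMap.isOpen_range
  obtain ⟨i₅, φ₅, hφ₅⟩ := LimTop.Points.exists_map_preimage_subset hc i₄ (A := Set.univ) (B := Set.range w₄)
    LimTop.PC.IsPC.univ (LimTop.PC.IsPC.of_isClosed hr.isClosed_compl) (fun t _ => by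
      obtain ⟨v, hv⟩ := V.hom.surjective t
      exact ⟨_, (Scheme.Hom.comp_apply _ _ _).symm.trans ((congrArg (fun m : V.left ⟶ D.obj i₄ => m v) hW₄.w).trans
        ((Scheme.Hom.comp_apply _ _ _).trans (congrArg (c.π.app i₄) hv)))⟩)
  let W₅ : Over (D.obj i₅) := Over.mk (pullback.snd w₄ (D.map φ₅))
  haveI : Flat W₅.hom := inferInstanceAs (Flat (pullback.snd w₄ (D.map φ₅)))
  haveI : LocallyOfFinitePresentation W₅.hom := inferInstanceAs (LocallyOfFinitePresentation (pullback.snd w₄ (D.map φ₅)))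
  haveI : IsFinite W₅.hom := inferInstanceAs (IsFinite (pullback.snd w₄ (D.map φ₅)))
  haveI : Surjective W₅.hom := ⟨fun t => by
    obtain ⟨y, hy⟩ := hφ₅ (Set.mem_univ t : t ∈ ⇑(D.map φ₅) ⁻¹' Set.univ)
    obtain ⟨z, -, hz⟩ := Scheme.Pullback.exists_preimage_pullback (f := w₄) (g := D.map φ₅) y t hy
    exact ⟨z, hz⟩⟩
  have hW₅ := @FPDescend.move I _ D c V.left (V.hom : V.left ⟶ c.pt) i₄ _ w₄ _ hW₄ i₅ φ₅
  let eW₅ : Red.bc (c.π.app i₅) W₅ ≅ V :=
    (Over.isoMk hW₅.isoPullback hW₅.isoPullback_hom_snd : V ≅ Red.bc (c.π.app i₅) W₅).symm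
  -- compactness of products
  have hGbc : ∀ j, IsFinite (Red.bc (str j) G).hom ∧ LocallyOfFinitePresentation (Red.bc (str j) G).hom := fun j =>
    ⟨MorphismProperty.pullback_snd (P := @IsFinite) G.hom (str j) inferInstance,
      MorphismProperty.pullback_snd (P := @LocallyOfFinitePresentation) G.hom (str j) inferInstance⟩
  have hprod : ∀ {j : I} (A B : Over (D.obj j)), IsFinite A.hom → IsFinite B.hom →
      IsFinite (A ⊗ B).hom := fun A B hA hB => by
    show IsFinite (pullback.fst A.hom B.hom ≫ A.hom)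
    infer_instance
  have hcq : ∀ {j : I} (A : Over (D.obj j)), IsFinite A.hom → CompactSpace A.left ∧ QuasiSeparatedSpace A.left :=
    fun A hA => ⟨QuasiCompact.compactSpace_of_compactSpace A.hom, quasiSeparatedSpace_of_quasiSeparated A.hom⟩
  have hlfp : ∀ {j : I} (A B : Over (D.obj j)), LocallyOfFinitePresentation A.hom →
      LocallyOfFinitePresentation B.hom → LocallyOfFinitePresentation (A ⊗ B).hom := fun A B hA hB => by
    show LocallyOfFinitePresentation (pullback.fst A.hom B.hom ≫ A.hom)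
    infer_instance
  -- the action morphism
  obtain ⟨hG₅, hG₅'⟩ := hGbc i₅
  haveI := (hcq _ (hprod (Red.bc (str i₅) G) W₅ hG₅ inferInstance)).1
  haveI := (hcq _ (hprod (Red.bc (str i₅) G) W₅ hG₅ inferInstance)).2
  let g₅ : Red.bc (c.π.app i₅) (Red.bc (str i₅) G ⊗ W₅) ⟶ Red.bc (c.π.app i₅) W₅ :=
    inv (Functor.LaxMonoidal.μ (Over.pullback (c.π.app i₅)) (Red.bc (str i₅) G) W₅) ≫
      ((ActBC.bcCompIso (c.π.app i₅) (str i₅) G (hs i₅)).hom ⊗ₘ eW₅.hom) ≫ a.act ≫ eW₅.inv
  obtain ⟨j, φ, g', hg'⟩ := hom_descends hc g₅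
  let W := Red.bc (D.map φ) W₅
  let act := moveAct str hstr φ g'
  let eW : Red.bc (c.π.app j) W ≅ V := ActBC.bcCompIso (c.π.app j) (D.map φ) W₅ (c.w φ) ≪≫ eW₅
  have hkey : Key str hs a act eW := key_move str hstr hs a φ eW₅ g' g₅ hg' (by simp [g₅])
  haveI : IsFinite W.hom := MorphismProperty.pullback_snd (P := @IsFinite) W₅.hom (D.map φ) inferInstance
  haveI : Flat W.hom := MorphismProperty.pullback_snd (P := @Flat) W₅.hom (D.map φ) inferInstance
  haveI : Surjective W.hom := MorphismProperty.pullback_snd (P := @Surjective) W₅.hom (D.map φ) inferInstance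
  haveI : LocallyOfFinitePresentation W.hom :=
    MorphismProperty.pullback_snd (P := @LocallyOfFinitePresentation) W₅.hom (D.map φ) inferInstance
  obtain ⟨hGj, hGj'⟩ := hGbc j
  let Gj := Red.bc (str j) G
  -- the laws hold in the limit
  let u := (ActBC.bcCompIso (c.π.app j) (str j) G (hs j)).hom
  have hone := one_of_transport u eW hkey a.one_act
  have hmul := mul_of_transport u eW hkey a.mul_act
  have hsh := shear_of_transport u eW hkey hV.1
  -- descend the laws
  haveI := (hcq _ (hprod (𝟙_ (Over (D.obj j))) W (inferInstanceAs (IsFinite (𝟙 (D.obj j)))) inferInstance)).1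
  obtain ⟨k₁, ψ₁, e₁⟩ := hom_eq_descends hc ((η[Gj] ▷ W) ≫ act) (λ_ W).hom ((map_one_iff _ act).2 hone)
  haveI := (hcq _ (hprod (Gj ⊗ Gj) W (hprod Gj Gj hGj hGj) inferInstance)).1
  obtain ⟨k₂, ψ₂, e₂⟩ := hom_eq_descends hc ((μ[Gj] ▷ W) ≫ act) ((α_ Gj Gj W).hom ≫ (Gj ◁ act) ≫ act)
    ((map_mul_iff _ act).2 hmul)
  haveI := (hcq _ (hprod Gj W hGj inferInstance)).1
  haveI := (hcq _ (hprod Gj W hGj inferInstance)).2
  haveI := (hcq _ (hprod W W inferInstance inferInstance)).1
  haveI := (hcq _ (hprod W W inferInstance inferInstance)).2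
  haveI := hlfp Gj W hGj' inferInstance
  haveI := hlfp W W inferInstance inferInstance
  obtain ⟨k₃, ψ₃, e₃⟩ := iso_descends hc (lift act (snd Gj W)) ((map_shear_iff _ act).2 hsh)
  obtain ⟨k₁₂, α₁, α₂, hα⟩ := IsCofiltered.cospan ψ₁ ψ₂
  obtain ⟨i, β₁, β₂, hβ⟩ := IsCofiltered.cospan (α₁ ≫ ψ₁) ψ₃
  let ψ := β₁ ≫ α₁ ≫ ψ₁
  have f₁ : (Over.pullback (D.map ψ)).map ((η[Gj] ▷ W) ≫ act) = (Over.pullback (D.map ψ)).map (λ_ W).hom := by
    have := map_eq_of_le ψ₁ (β₁ ≫ α₁) e₁
    rwa [Category.assoc] at this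
  have f₂ : (Over.pullback (D.map ψ)).map ((μ[Gj] ▷ W) ≫ act) =
      (Over.pullback (D.map ψ)).map ((α_ Gj Gj W).hom ≫ (Gj ◁ act) ≫ act) := by
    have := map_eq_of_le ψ₂ (β₁ ≫ α₂) e₂
    rwa [Category.assoc, ← hα] at this
  have f₃ : IsIso ((Over.pullback (D.map ψ)).map (lift act (snd Gj W))) := by
    haveI := e₃
    have := bcMap_isIso_of_le ψ₃ β₂ (lift act (snd Gj W))
    rwa [← hβ] at this
  let Vi := Red.bc (D.map ψ) W
  let act' := moveAct str hstr ψ ((Over.pullback (D.map ψ)).map act)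
  let eV : Red.bc (c.π.app i) Vi ≅ V := ActBC.bcCompIso (c.π.app i) (D.map ψ) W (c.w ψ) ≪≫ eW
  have hk' : Key str hs a act' eV := key_move_map str hstr hs a ψ hkey
  let v := (ActBC.bcCompIso (D.map ψ) (str j) G (hstr ψ)).inv
  let ai : AlgGrp.Action (Red.bc (str i) G) Vi :=
  { act := act'
    one_act := one_of_transport v (Iso.refl Vi) (moveAct_map str hstr ψ act) ((map_one_iff _ act).1 f₁)
    mul_act := mul_of_transport v (Iso.refl Vi) (moveAct_map str hstr ψ act) ((map_mul_iff _ act).1 f₂) }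
  have hpt : NonAbH1.IsPseudoTorsorSch ai :=
    shear_of_transport v (Iso.refl Vi) (moveAct_map str hstr ψ act) ((map_shear_iff _ act).1 f₃)
  haveI : IsFinite Vi.hom := MorphismProperty.pullback_snd (P := @IsFinite) W.hom (D.map ψ) inferInstance
  haveI : Flat Vi.hom := MorphismProperty.pullback_snd (P := @Flat) W.hom (D.map ψ) inferInstance
  haveI : Surjective Vi.hom := MorphismProperty.pullback_snd (P := @Surjective) W.hom (D.map ψ) inferInstance
  refine ⟨i, hs i, Vi, ai, inferInstance, ⟨hpt, _, Vi.hom.singleton_mem_fpqcPrecoverage, ?_⟩,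
    ⟨⟨eV, ?_⟩⟩⟩
  · intro S' f hf
    cases hf
    exact ⟨𝟙 _, Category.id_comp _⟩
  · rw [AlgGrp.Action.restrict_act, AlgGrp.Action.bc_act]
    refine hk'.trans ?_
    rw [MonoidalCategory.tensorHom_def', Category.assoc]
    rfl

end Groth.Agent.S19977
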