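import Groth.Statements.S19978
import Groth.Agent.H4.LargeAlb.GenSub
import Groth.Agent.H4.LargeAlb.ConstGrp
import Groth.Agent.Lib.GrpQ.MonoClosed
import Groth.Agent.Lib.GrpSch.Basic
import Groth.Agent.H4.HomImage
-- import your own Groth.Agent.* helpers here

set_option autoImplicit false
universe u
open CategoryTheory MonoidalCategory CartesianMonoidalCategory MonObj GrpObj AlgebraicGeometry CategoryTheory.Limits
open AbVar Groth.Agent Groth.Agent.H4
set_option linter.style.haveILetI false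

namespace Groth.Agent.S19978

/-- Over an algebraically closed field k, let X be an integral separated k-scheme of finite type which
is proper over k. Call large group a commutative separated k-group scheme G locally of finite type
given with a connected open subgroup scheme G⁰ (its neutral component) which is semiabelian: G⁰ has
a closed subgroup scheme T that is a torus and is the kernel of a flat surjective homomorphism from
G⁰ onto an abelian variety (a proper smooth connected k-group scheme). Let A be a large group, with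
neutral component A⁰, and u : X → A a k-morphism which is universal for morphisms to large groups
(every k-morphism from X to a large group G is u followed by a unique homomorphism A → G), i.e. (A,
u) is the Albanese scheme of X. Then A⁰ is proper over k: the neutral component of the Albanese
scheme of a proper scheme is an abelian variety. (The published statement is for any proper reduced
scheme of finite type over a perfect field; this row states the case of an integral scheme over an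
algebraically closed field.) -/
theorem result (k : Type u) [Field k] [IsAlgClosed k]
    (X : Over (Spec (CommRingCat.of k))) [IsIntegral X.left] [IsProper X.hom]
    (A : Over (Spec (CommRingCat.of k))) [GrpObj A] [IsCommMonObj A] [IsSeparated A.hom] [LocallyOfFiniteType A.hom]
    (A0 : Over (Spec (CommRingCat.of k))) [GrpObj A0] (e₀ : A0 ⟶ A) [IsMonHom e₀] [IsOpenImmersion e₀.left]
    [ConnectedSpace ↥A0.left]
    (T₀ : Over (Spec (CommRingCat.of k))) [GrpObj T₀] (i₀ : T₀ ⟶ A0) [IsMonHom i₀] [IsClosedImmersion i₀.left]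
    (hT₀ : Red.IsTorus T₀)
    (B₀ : Over (Spec (CommRingCat.of k))) [GrpObj B₀] [IsProper B₀.hom] [Smooth B₀.hom] [ConnectedSpace ↥B₀.left]
    (q₀ : A0 ⟶ B₀) [IsMonHom q₀] [Surjective q₀.left] [Flat q₀.left] (hker₀ : AlgGrp.IsKernel i₀ q₀)
    (u : X ⟶ A)
    (huniv : ∀ (G : Over (Spec (CommRingCat.of k))) [GrpObj G] [IsCommMonObj G] [IsSeparated G.hom] [LocallyOfFiniteType G.hom]
      (G0 : Over (Spec (CommRingCat.of k))) [GrpObj G0] (e : G0 ⟶ G) [IsMonHom e] [IsOpenImmersion e.left]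
      [ConnectedSpace ↥G0.left]
      (T : Over (Spec (CommRingCat.of k))) [GrpObj T] (i : T ⟶ G0) [IsMonHom i] [IsClosedImmersion i.left]
      (_ : Red.IsTorus T)
      (B : Over (Spec (CommRingCat.of k))) [GrpObj B] [IsProper B.hom] [Smooth B.hom] [ConnectedSpace ↥B.left]
      (q : G0 ⟶ B) [IsMonHom q] [Surjective q.left] [Flat q.left] (_ : AlgGrp.IsKernel i q)
      (φ : X ⟶ G), ∃! h : A ⟶ G, IsMonHom h ∧ u ≫ h = φ) :
    IsProper A0.hom := by
  let S := Over (Spec (CommRingCat.of k))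
  haveI : Nonempty X.left := inferInstance
  haveI : GeometricallyIntegral X.hom := LargeAlb.geometricallyIntegral_of_isIntegral X
  obtain ⟨x₀, -⟩ := Groth.Agent.Lib.GrpQ.MonoClosed.exists_ptOf (X := X) (s := Set.univ) isOpen_univ.isLocallyClosed Set.univ_nonempty
  -- the proper subgroup
  obtain ⟨M, instM, i, hi, hic, hMp, hMg, β, hβ⟩ := LargeAlb.exists_generated (G := A) u x₀
  letI := instM; haveI := hi; haveI := hic; haveI := hMp; haveI := hMg
  haveI : IsIntegral M.left := GeometricallyIntegral.isIntegral_of_subsingleton M.hom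
  haveI : ConnectedSpace ↥M.left := inferInstance
  haveI : Smooth M.hom := HomImage.smooth_of_geometricallyReduced M
  haveI : IsCommMonObj M := isCommMonObj_of_isProper_of_geometricallyIntegral M
  let P := Red.DS (Spec (CommRingCat.of k)) (Fin 0 → ℤ)
  have hP : Red.IsTorus P := Groth.Agent.Lib.Tori.Basic.isTorus_DS _ _
  haveI hPi : IsIso P.hom := LargeAlb.isIso_trivialTorus_hom _
  haveI hPt : IsIso (toUnit P) := by
    haveI : IsIso (toUnit P).left := by rw [Over.toUnit_left]; exact hPi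
    haveI : IsIso ((Over.forget _).map (toUnit P)) := ‹IsIso (toUnit P).left›
    exact isIso_of_reflects_iso _ (Over.forget _)
  haveI : IsMonHom (toUnit P ≫ η[M]) := by
    refine ⟨?_, ?_⟩
    · rw [← Category.assoc, toUnit_unique (η[P] ≫ toUnit P) (𝟙 _), Category.id_comp]
    · rw [MonObj.mul_eq_mul M, MonObj.comp_mul, tensorHom_fst, tensorHom_snd, ← Category.assoc,
        ← Category.assoc, ← Category.assoc, toUnit_unique (μ[P] ≫ toUnit P) (toUnit _),
        toUnit_unique (fst P P ≫ toUnit P) (toUnit _), toUnit_unique (snd P P ≫ toUnit P) (toUnit _),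
        ← Hom.one_def, _root_.mul_one]
  haveI : IsClosedImmersion η[M].left := Groth.Agent.Lib.GrpSch.isClosedImmersion_η M
  haveI : IsClosedImmersion (toUnit P ≫ η[M]).left := by
    rw [Over.comp_left]
    haveI : IsIso (toUnit P).left := inferInstanceAs (IsIso ((Over.forget _).map (toUnit P)))
    infer_instance
  haveI : Surjective (𝟙 M : M ⟶ M).left := inferInstanceAs (Surjective (𝟙 M.left))
  haveI : Flat (𝟙 M : M ⟶ M).left := inferInstanceAs (Flat (𝟙 M.left))
  haveI : IsOpenImmersion (𝟙 M : M ⟶ M).left := inferInstanceAs (IsOpenImmersion (𝟙 M.left))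
  have hkM : AlgGrp.IsKernel (toUnit P ≫ η[M]) (𝟙 M) :=
    IsPullback.of_vert_isIso ⟨by rw [Category.comp_id]⟩
  obtain ⟨h₁, ⟨hh₁, hu₁⟩, -⟩ := huniv M M (𝟙 M) P (toUnit P ≫ η[M]) hP M (𝟙 M) hkM β
  haveI := hh₁
  -- the constant group
  let Z : Type u := ULift.{u} (Multiplicative ℤ)
  let C := TwC.const (Spec (CommRingCat.of k)) Z
  letI instC : GrpObj C := LargeAlb.constGrp _ Z
  haveI : IsCommMonObj C := LargeAlb.isCommMonObj_constGrp _ Z
  haveI : LocallyOfFiniteType C.hom := LargeAlb.locallyOfFiniteType_const _ Z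
  haveI : IsSeparated C.hom := Groth.Agent.Lib.GrpSch.isSeparated_of_field C
  let I := 𝟙_ (Over (Spec (CommRingCat.of k)))
  haveI : Subsingleton ↥I.left := inferInstanceAs (Subsingleton (Spec (CommRingCat.of k)))
  haveI : Nonempty ↥I.left := inferInstanceAs (Nonempty (Spec (CommRingCat.of k)))
  haveI : ConnectedSpace ↥I.left := inferInstanceAs (ConnectedSpace (Spec (CommRingCat.of k)))
  haveI : IsProper I.hom := inferInstanceAs (IsProper (𝟙 (Spec (CommRingCat.of k))))
  haveI : Smooth I.hom := inferInstanceAs (Smooth (𝟙 (Spec (CommRingCat.of k))))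
  let m₁ : Z := Groth.Agent.Lib.ConstRigid.idx (η[C].left (Classical.arbitrary _))
  have hηC : η[C] = toUnit I ≫ TwC.pt (Spec (CommRingCat.of k)) Z m₁ :=
    Groth.Agent.Lib.ConstRigid.eq_pt (T := I) η[C] m₁ fun t => by rw [Subsingleton.elim t (Classical.arbitrary _)]
  haveI : IsMonHom η[C] := by
    refine ⟨?_, ?_⟩
    · rw [show η[I] = 𝟙 I from toUnit_unique _ _, Category.id_comp]
    · rw [MonObj.mul_eq_mul C, MonObj.comp_mul, tensorHom_fst, tensorHom_snd, toUnit_unique μ[I] (toUnit _),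
        toUnit_unique (fst I I) (toUnit _), toUnit_unique (snd I I) (toUnit _), ← Hom.one_def, _root_.mul_one]
  haveI : IsOpenImmersion η[C].left := by
    rw [hηC, toUnit_unique (toUnit I) (𝟙 I), Category.id_comp]
    exact inferInstanceAs (IsOpenImmersion (Sigma.ι (fun _ : Z => Spec (CommRingCat.of k)) m₁))
  haveI : IsMonHom (toUnit P) := inferInstance
  haveI : IsClosedImmersion (toUnit P).left := by
    haveI : IsIso (toUnit P).left := inferInstanceAs (IsIso ((Over.forget _).map (toUnit P)))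
    infer_instance
  haveI : Surjective (𝟙 I : I ⟶ I).left := inferInstanceAs (Surjective (𝟙 I.left))
  haveI : Flat (𝟙 I : I ⟶ I).left := inferInstanceAs (Flat (𝟙 I.left))
  have hkI : AlgGrp.IsKernel (toUnit P) (𝟙 I) :=
    IsPullback.of_vert_isIso ⟨toUnit_unique _ _⟩
  let one₁ : Z := ULift.up (Multiplicative.ofAdd 1)
  obtain ⟨d, ⟨hd, hud⟩, -⟩ := huniv C I η[C] P (toUnit P) hP I (𝟙 I) hkI
    (toUnit X ≫ TwC.pt (Spec (CommRingCat.of k)) Z one₁)
  haveI := hd
  -- powers of the value at the base point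
  let c : 𝟙_ (Over (Spec (CommRingCat.of k))) ⟶ A := x₀ ≫ u
  let E₀ : Z → (𝟙_ (Over (Spec (CommRingCat.of k))) ⟶ A) := fun z => c ^ (Multiplicative.toAdd z.down)
  let E : C ⟶ A := Over.homMk (Sigma.desc fun z => (E₀ z).left) (Sigma.hom_ext _ _ fun z => by
    rw [Sigma.ι_desc_assoc, Over.w (E₀ z)]
    exact (Sigma.ι_desc (fun _ : Z => 𝟙 (Spec (CommRingCat.of k))) z).symm)
  have hEpt : ∀ z, TwC.pt (Spec (CommRingCat.of k)) Z z ≫ E = E₀ z := fun z =>
    Over.OverMorphism.ext (Sigma.ι_desc (fun z : Z => (E₀ z).left) z)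
  have hE0 : ∀ z w : Z, E₀ (z * w) = E₀ z * E₀ w := fun z w => zpow_add c _ _
  have hptC : ∀ {W : Over (Spec (CommRingCat.of k))} (z w : Z),
      (toUnit W ≫ TwC.pt (Spec (CommRingCat.of k)) Z z) * (toUnit W ≫ TwC.pt (Spec (CommRingCat.of k)) Z w) = toUnit W ≫ TwC.pt (Spec (CommRingCat.of k)) Z (z * w) := fun {W} z w => by
    apply LargeAlb.toLC_injective _ Z
    refine (LargeAlb.toLC_mul _ Z _ _).trans (LocallyConstant.ext fun t => ?_)
    rw [LocallyConstant.mul_apply]
    show Groth.Agent.Lib.ConstRigid.idx ((toUnit W ≫ TwC.pt (Spec (CommRingCat.of k)) Z z).left t) * Groth.Agent.Lib.ConstRigid.idx ((toUnit W ≫ TwC.pt (Spec (CommRingCat.of k)) Z w).left t) = Groth.Agent.Lib.ConstRigid.idx ((toUnit W ≫ TwC.pt (Spec (CommRingCat.of k)) Z (z * w)).left t)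
    rw [Groth.Agent.Lib.ConstRigid.idx_toUnit_pt, Groth.Agent.Lib.ConstRigid.idx_toUnit_pt,
      Groth.Agent.Lib.ConstRigid.idx_toUnit_pt]
  have hEmul : ∀ {W : Over (Spec (CommRingCat.of k))} (a b : W ⟶ C), (a * b) ≫ E = (a ≫ E) * (b ≫ E) := by
    intro W a b
    let U : Z × Z → W.left.Opens := fun p =>
      ⟨(LargeAlb.toLC _ Z a) ⁻¹' {p.1} ∩ (LargeAlb.toLC _ Z b) ⁻¹' {p.2},
        ((LargeAlb.toLC _ Z a).isLocallyConstant.isOpen_fiber p.1).inter
          ((LargeAlb.toLC _ Z b).isLocallyConstant.isOpen_fiber p.2)⟩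
    refine Over.OverMorphism.ext (Scheme.Cover.hom_ext (W.left.openCoverOfIsOpenCover U
      (TopologicalSpace.IsOpenCover.mk (top_le_iff.mp fun t _ => TopologicalSpace.Opens.mem_iSup.mpr
        ⟨(LargeAlb.toLC _ Z a t, LargeAlb.toLC _ Z b t), rfl, rfl⟩))) _ _ fun (p : Z × Z) => ?_)
    let r : Over.mk ((U p).ι ≫ W.hom) ⟶ W := Over.homMk (U p).ι
    have ha : r ≫ a = toUnit _ ≫ TwC.pt (Spec (CommRingCat.of k)) Z p.1 := Groth.Agent.Lib.ConstRigid.eq_pt _ _ fun t => t.2.1
    have hb : r ≫ b = toUnit _ ≫ TwC.pt (Spec (CommRingCat.of k)) Z p.2 := Groth.Agent.Lib.ConstRigid.eq_pt _ _ fun t => t.2.2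
    refine congrArg Over.Hom.left (show r ≫ (a * b) ≫ E = r ≫ ((a ≫ E) * (b ≫ E)) from ?_)
    rw [← Category.assoc, MonObj.comp_mul, ha, hb, hptC, MonObj.comp_mul, ← Category.assoc r, ha,
      ← Category.assoc r, hb, Category.assoc, Category.assoc, Category.assoc, hEpt, hEpt, hEpt, hE0,
      MonObj.comp_mul]
  haveI : IsMonHom E := by
    have h1 : (1 : 𝟙_ (Over (Spec (CommRingCat.of k))) ⟶ C) ≫ E = 1 := by
      have h := hEmul (1 : 𝟙_ (Over (Spec (CommRingCat.of k))) ⟶ C) 1
      rw [_root_.one_mul] at h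
      exact left_eq_mul.1 h
    rw [← MonObj.one_eq_one, ← MonObj.one_eq_one] at h1
    refine ⟨h1, ?_⟩
    rw [MonObj.mul_eq_mul, MonObj.mul_eq_mul, hEmul, MonObj.comp_mul, tensorHom_fst, tensorHom_snd]
  haveI : IsMonHom (h₁ ≫ i) := inferInstance
  haveI : IsMonHom (d ≫ E) := inferInstance
  haveI : IsMonHom ((h₁ ≫ i) * (d ≫ E)) := by
    refine ⟨?_, ?_⟩
    · rw [MonObj.comp_mul, IsMonHom.one_hom (h₁ ≫ i), IsMonHom.one_hom (d ≫ E), MonObj.one_eq_one,
        _root_.mul_one]
    · rw [MonObj.comp_mul, IsMonHom.mul_hom (h₁ ≫ i), IsMonHom.mul_hom (d ≫ E), MonObj.mul_eq_mul A,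
        MonObj.comp_mul, MonObj.comp_mul, MonObj.comp_mul, tensorHom_fst, tensorHom_snd, tensorHom_fst,
        tensorHom_snd, tensorHom_fst, tensorHom_snd, MonObj.comp_mul, MonObj.comp_mul]
      exact _root_.mul_mul_mul_comm _ _ _ _
  have hψ : u ≫ ((h₁ ≫ i) * (d ≫ E)) = u := by
    rw [MonObj.comp_mul, ← Category.assoc, hu₁, hβ, ← Category.assoc u d, hud, Category.assoc, hEpt]
    show u * (toUnit X ≫ x₀ ≫ u)⁻¹ * (toUnit X ≫ c ^ (1 : ℤ)) = u
    rw [zpow_one, inv_mul_cancel_right]
  obtain ⟨g, -, hg⟩ := huniv A A0 e₀ T₀ i₀ hT₀ B₀ q₀ hker₀ u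
  have hid : (h₁ ≫ i) * (d ≫ E) = 𝟙 A :=
    (hg _ ⟨‹_›, hψ⟩).trans (hg _ ⟨inferInstance, Category.comp_id u⟩).symm
  -- the neutral component maps into the proper subgroup
  have hd0 : e₀ ≫ d = 1 := by
    haveI : IsMonHom (e₀ ≫ d) := inferInstance
    let F := LargeAlb.toLC _ Z (e₀ ≫ d)
    have h1 : toUnit A0 ≫ η[A0] ≫ e₀ ≫ d = 1 := by
      rw [IsMonHom.one_hom (e₀ ≫ d), ← Hom.one_def]
    apply LargeAlb.toLC_injective _ Z
    refine LocallyConstant.ext fun t => ?_
    rw [← h1]
    rw [← Category.assoc (toUnit A0)]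
    show Groth.Agent.Lib.ConstRigid.idx ((e₀ ≫ d).left t) =
      Groth.Agent.Lib.ConstRigid.idx ((e₀ ≫ d).left ((toUnit A0 ≫ η[A0]).left t))
    exact F.apply_eq_of_preconnectedSpace t ((toUnit A0 ≫ η[A0]).left t)
  let ρ : A0 ⟶ M := e₀ ≫ h₁
  have hρ : ρ ≫ i = e₀ := by
    have h := congrArg (e₀ ≫ ·) hid
    simp only [MonObj.comp_mul, Category.comp_id] at h
    rwa [← Category.assoc e₀ d, hd0, MonObj.one_comp, _root_.mul_one, ← Category.assoc] at h
  haveI : IsMonHom ρ := inferInstanceAs (IsMonHom (e₀ ≫ h₁))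
  haveI : Mono i.left := inferInstance
  haveI hρo : IsOpenImmersion ρ.left := by
    have hρl : ρ.left ≫ i.left = e₀.left := by rw [← Over.comp_left, hρ]
    have hpb : IsPullback ρ.left (𝟙 A0.left) i.left e₀.left :=
      ⟨⟨by rw [hρl, Category.id_comp]⟩, ⟨PullbackCone.IsLimit.mk _ (fun s => s.snd)
        (fun s => by rw [← cancel_mono i.left, Category.assoc, hρl]; exact s.condition.symm)
        (fun s => Category.comp_id _) (fun s m _ h => by simpa using h)⟩⟩
    exact MorphismProperty.of_isPullback (P := @IsOpenImmersion) hpb.flip ‹_›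
  haveI : Surjective ρ.left := by
    let V : M.left.Opens := ρ.left.opensRange
    have hV : (V : Set M.left).Nonempty := ⟨_, η[A0].left (IsLocalRing.closedPoint k), rfl⟩
    have hlift : ∀ x : 𝟙_ (Over (Spec (CommRingCat.of k))) ⟶ M,
        x.left (IsLocalRing.closedPoint k) ∈ V → ∃ a, a ≫ ρ = x := fun x hx => by
      have hr : Set.range x.left ⊆ Set.range ρ.left := by
        rintro _ ⟨p, rfl⟩
        rw [Subsingleton.elim (α := I.left) p (IsLocalRing.closedPoint k)]
        exact hx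
      refine ⟨Over.homMk (IsOpenImmersion.lift ρ.left x.left hr) (by
        rw [← Over.w ρ, IsOpenImmersion.lift_fac_assoc, Over.w x]), Over.OverMorphism.ext ?_⟩
      exact IsOpenImmersion.lift_fac _ _ _
    have hall : ∀ x : 𝟙_ (Over (Spec (CommRingCat.of k))) ⟶ M, x.left (IsLocalRing.closedPoint k) ∈ V := by
      intro x
      let t : M ⟶ M := (toUnit M ≫ x) * (𝟙 M)⁻¹
      have ht : t ≫ t = 𝟙 M := by
        show t ≫ ((toUnit M ≫ x) * (𝟙 M)⁻¹) = _
        rw [MonObj.comp_mul, GrpObj.comp_inv, ← Category.assoc, comp_toUnit, Category.comp_id]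
        show (toUnit M ≫ x) * ((toUnit M ≫ x) * (𝟙 M)⁻¹)⁻¹ = _
        rw [_root_.mul_inv_rev, _root_.inv_inv, _root_.mul_comm (𝟙 M), ← _root_.mul_assoc, mul_inv_cancel, _root_.one_mul]
      have hne : ((t.left ⁻¹ᵁ V : M.left.Opens) : Set M.left).Nonempty := by
        obtain ⟨v, hv⟩ := hV
        refine ⟨t.left v, ?_⟩
        show t.left (t.left v) ∈ V
        rw [← Scheme.Hom.comp_apply, ← Over.comp_left, ht]
        exact hv
      obtain ⟨y, hy⟩ := Groth.Agent.Lib.GrpQ.MonoClosed.exists_ptOf (X := M)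
        ((V.2.inter (t.left ⁻¹ᵁ V).2).isLocallyClosed) (nonempty_preirreducible_inter V.2 (t.left ⁻¹ᵁ V).2 hV hne)
      obtain ⟨a, ha⟩ := hlift y hy.1
      obtain ⟨b, hb⟩ := hlift (y ≫ t) hy.2
      have hx : x = (b * a) ≫ ρ := by
        rw [MonObj.mul_comp, ha, hb]
        show x = y ≫ ((toUnit M ≫ x) * (𝟙 M)⁻¹) * y
        rw [MonObj.comp_mul, GrpObj.comp_inv, Category.comp_id, ← Category.assoc, toUnit_unique (y ≫ toUnit M) (𝟙 _),
          Category.id_comp, inv_mul_cancel_right]
      rw [hx]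
      exact ⟨(b * a).left (IsLocalRing.closedPoint k), rfl⟩
    refine ⟨fun m => ?_⟩
    by_contra hm
    obtain ⟨y, hy⟩ := Groth.Agent.Lib.GrpQ.MonoClosed.exists_ptOf (X := M) (s := (V : Set M.left)ᶜ)
      V.2.isClosed_compl.isLocallyClosed ⟨m, hm⟩
    exact hy (hall y)
  haveI : IsIso ρ.left := isIso_of_isOpenImmersion_of_opensRange_eq_top ρ.left
    (TopologicalSpace.Opens.ext (by simpa using ρ.left.surjective.range_eq))
  rw [← Over.w ρ]
  infer_instance

end Groth.Agent.S19978
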