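import Groth.Statements.S19979
import Groth.Agent.H14.UB.KPointsBC

set_option autoImplicit false
universe u
open CategoryTheory AlgebraicGeometry
open StMod

namespace Groth.Agent.S19979

/-- Points with the same image: let `S` be a quasi-separated scheme, `𝒳` a locally Noetherian algebraic
stack over `(Sch/S)` for the fppf topology with structure functor `τ : 𝒳 ⟶ (Sch/S)`, `M` an
algebraic space over `S` that is quasi-separated over `S`, and `π : 𝒳 ⟶ M` a quasi-compact
quasi-separated good moduli space. Let `k` be an algebraically closed field with a morphism `t :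
Spec k ⟶ S` (an algebraically closed `O_S`-field), and `x₁, x₂` two `k`-points of `𝒳` over `S`
(functors `(Sch/Spec k) ⟶ 𝒳` over `(Sch/S)`, given with the 2-isomorphisms `e₁, e₂` identifying `τ ∘
x_j` with `t`). Then the `k`-points `π ∘ x₁` and `π ∘ x₂` of `M` coincide if and only if, in the
space of points of the base change `𝒳 ×_S Spec k` (the 2-fibre product of `τ` and `Spec k ⟶ S`), the
closures of the points defined by `(x₁, id)` and `(x₂, id)` have a common point. Here a good moduli
space is a morphism to an algebraic space along which pushforward takes surjections of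
quasi-coherent modules to maps surjective on sections over every affine scheme etale over the
target, and for which the canonical map from the functions on any scheme etale over the target to
the sections of the pushforward of the structure sheaf is bijective. (The published item also
asserts that every `k`-point of `M` over `S` comes from a `k`-point of `𝒳`; that part is not stated.
Standing conventions of the source: quasi-separated schemes and spaces, stacks with quasi-compact
separated diagonal; `M` and `π` quasi-separated are assumed instead.) -/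
theorem result
    (S : Scheme.{u}) [QuasiSeparatedSpace S]
    (𝒳 : AlgSt.Cat S) (h𝒳 : AlgSt.IsAlgStack Scheme.fppfPrecoverage 𝒳)
    (hN : AlgSt.SmoothLocally (fun T => IsLocallyNoetherian T) 𝒳)
    (τ : 𝒳 ⥤ᵇ AlgSt.ofSch (Over.mk (𝟙 S)))
    (M : AlgSp.Space S) (hM : AlgSp.IsQuasiSeparatedSp M.obj) (π : 𝒳 ⥤ᵇ AlgSt.ofSp M.obj)
    (hqc : AlgSt.IsQuasiCompactMor Scheme.fppfPrecoverage π) (hqs : AlgSt.IsQuasiSeparatedMor π)
    (h : StMod.IsGoodModuli π)
    (k : Type u) [Field k] [IsAlgClosed k] (t : Spec (CommRingCat.of k) ⟶ S)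
    (x₁ x₂ : FibCat.overCat (Over.mk t) ⥤ᵇ 𝒳)
    (e₁ : BasedFunctor.comp x₁ τ ≅ BasedFunctor.comp (AlgSt.ofOverCat (Over.mk t)) (AlgSt.ofSpMap ((AlgSp.yon S).map (Over.homMk t (Category.comp_id t) : Over.mk t ⟶ Over.mk (𝟙 S)))))
    (e₂ : BasedFunctor.comp x₂ τ ≅ BasedFunctor.comp (AlgSt.ofOverCat (Over.mk t)) (AlgSt.ofSpMap ((AlgSp.yon S).map (Over.homMk t (Category.comp_id t) : Over.mk t ⟶ Over.mk (𝟙 S)))))
    (t₀ : ↥(Spec (CommRingCat.of k))) :
    BasedFunctor.comp x₁ π = BasedFunctor.comp x₂ π ↔
      (closure {AlgSt.Points.ofChart (FibCat.fpLift x₁ (AlgSt.ofOverCat (Over.mk t)) e₁) t₀} ∩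
        closure {AlgSt.Points.ofChart (FibCat.fpLift x₂ (AlgSt.ofOverCat (Over.mk t)) e₂) t₀}).Nonempty := by
  constructor
  · intro he
    exact Groth.Agent.H14.UB.closure_inter_fp τ h𝒳
      (Groth.Agent.H14.CohBC.compactPullbacks_of_isQuasiSeparatedSp hM) hqc hqs h x₁ x₂ e₁ e₂ he t₀
  · rintro ⟨c, hc₁, hc₂⟩
    exact Groth.Agent.H14.UB.eq_of_closure_fp τ h𝒳
      (Groth.Agent.Lib.AlgSpDecent.QS.isDecent_of_isQuasiSeparatedSp M.property hM) x₁ x₂ e₁ e₂ t₀ c hc₁ hc₂

end Groth.Agent.S19979
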