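import Groth.Statements.S1998
import Groth.Agent.H48.Hens

set_option autoImplicit false
universe u
open EtAlg

namespace Groth.Agent.S1998

/-- Let (A_j, I_j) be a directed system of henselian pairs (ring maps A_j -> A_k for j ≤ k carrying I_j
into I_k). Then the direct limit A of the A_j together with the ideal generated by the images of the
I_j is a henselian pair. -/
theorem result {ι : Type u} [Preorder ι] [IsDirected ι (· ≤ ·)] [Nonempty ι]
    (G : ι → Type u) [∀ i, CommRing (G i)] (f : ∀ i j, i ≤ j → G i →+* G j)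
    [DirectedSystem G fun i j h => f i j h] (I : ∀ i, Ideal (G i))
    (hI : ∀ i j (h : i ≤ j), (I i).map (f i j h) ≤ I j) (hh : ∀ i, HenselianRing (G i) (I i)) :
    HenselianRing (Ring.DirectLimit G fun i j h => f i j h)
      (⨆ i, (I i).map (Ring.DirectLimit.of G (fun i j h => f i j h) i)) := by
  let q : ∀ i, G i →+* Ring.DirectLimit G fun i j h => f i j h :=
    fun i => Ring.DirectLimit.of G (fun i j h => f i j h) i
  have hq : ∀ i j (hij : i ≤ j) x, q j (f i j hij x) = q i x := fun i j hij x =>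
    Ring.DirectLimit.of_f hij x
  have hmem : ∀ x ∈ ⨆ i, (I i).map (q i), ∃ i, ∃ a ∈ I i, q i a = x := by
    intro x hx
    have hmono : ∀ i j, i ≤ j → (I i).map (q i) ≤ (I j).map (q j) := by
      intro i j hij
      rw [Ideal.map_le_iff_le_comap]
      intro a ha
      rw [Ideal.mem_comap, ← hq i j hij]
      exact Ideal.mem_map_of_mem _ (hI i j hij (Ideal.mem_map_of_mem _ ha))
    have hdir : Directed (· ≤ ·) fun i => (I i).map (q i) := by
      intro i j
      obtain ⟨k, h1, h2⟩ := exists_ge_ge i j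
      exact ⟨k, hmono i k h1, hmono j k h2⟩
    obtain ⟨i, hi⟩ := (Submodule.mem_iSup_of_directed _ hdir).1 hx
    clear hx
    change x ∈ Submodule.span _ ((q i) '' (I i : Set (G i))) at hi
    induction hi using Submodule.span_induction with
    | mem y hy => obtain ⟨a, ha, rfl⟩ := hy; exact ⟨i, a, ha, rfl⟩
    | zero => exact ⟨i, 0, zero_mem _, map_zero _⟩
    | add y z _ _ hy hz =>
      obtain ⟨a', a, ha, rfl⟩ := hy
      obtain ⟨b', b, hb, rfl⟩ := hz
      obtain ⟨k, h1, h2⟩ := exists_ge_ge a' b'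
      exact ⟨k, f _ k h1 a + f _ k h2 b, Ideal.add_mem _ (hI _ k h1 (Ideal.mem_map_of_mem _ ha))
        (hI _ k h2 (Ideal.mem_map_of_mem _ hb)), by rw [map_add, hq, hq]⟩
    | smul r y _ hy =>
      obtain ⟨a', a, ha, rfl⟩ := hy
      obtain ⟨b', b, rfl⟩ := Ring.DirectLimit.exists_of r
      obtain ⟨k, h1, h2⟩ := exists_ge_ge a' b'
      exact ⟨k, f _ k h2 b * f _ k h1 a,
        Ideal.mul_mem_left _ _ (hI _ k h1 (Ideal.mem_map_of_mem _ ha)),
        by rw [map_mul, hq, hq]; rfl⟩
  refine H48.Hens.henselianRing_of_directed q I hh _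
    (fun i x hx => le_iSup (fun i => (I i).map (q i)) i (Ideal.mem_map_of_mem _ hx)) ?_ ?_
  · intro x hx y
    obtain ⟨i, a, ha, rfl⟩ := hmem x hx
    obtain ⟨j, b, rfl⟩ := Ring.DirectLimit.exists_of y
    obtain ⟨k, h1, h2⟩ := exists_ge_ge i j
    exact ⟨k, f i k h1 a, f j k h2 b, hq _ _ h1 a, hq _ _ h2 b,
      hI i k h1 (Ideal.mem_map_of_mem _ ha)⟩
  · intro g hg a₀ y h1 h2
    obtain ⟨i₁, g₁, hg₁⟩ := Ring.DirectLimit.Polynomial.exists_of g
    obtain ⟨i₂, b, rfl⟩ := Ring.DirectLimit.exists_of a₀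
    obtain ⟨i₃, z, rfl⟩ := Ring.DirectLimit.exists_of y
    obtain ⟨i₄, c, hc, hce⟩ := hmem _ h1
    obtain ⟨i₅, d, hd, hde⟩ := hmem _ h2
    change g₁.map (q i₁) = g at hg₁
    have key : ∀ k (u v : G k), q k u = q k v → ∃ m, ∃ h : k ≤ m, f k m h u = f k m h v := by
      intro k u v huv
      rw [← sub_eq_zero, ← map_sub] at huv
      obtain ⟨m, hm, he⟩ := Ring.DirectLimit.of.zero_exact huv
      exact ⟨m, hm, sub_eq_zero.1 (by rw [← map_sub]; exact he)⟩
    classical
    obtain ⟨k, hk⟩ := Finset.exists_le ({i₁, i₂, i₃, i₄, i₅} : Finset ι)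
    have k1 := hk i₁ (by simp)
    have k2 := hk i₂ (by simp)
    have k3 := hk i₃ (by simp)
    have k4 := hk i₄ (by simp)
    have k5 := hk i₅ (by simp)
    have hqc : ∀ i j (hij : i ≤ j), (q j).comp (f i j hij) = q i :=
      fun i j hij => RingHom.ext (hq i j hij)
    -- make the lift monic
    obtain ⟨m₀, hm₀, hlead⟩ := key k ((g₁.map (f _ k k1)).coeff g.natDegree) 1 (by
      rw [← Polynomial.coeff_map, Polynomial.map_map, hqc, hg₁, map_one]; exact hg.coeff_natDegree)
    let g₂ : Polynomial (G m₀) := Polynomial.X ^ g.natDegree +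
      ∑ n ∈ Finset.range g.natDegree,
        Polynomial.C ((g₁.map (f _ m₀ (k1.trans hm₀))).coeff n) * Polynomial.X ^ n
    have hg₂ : g₂.Monic := by
      refine Polynomial.monic_X_pow_add ?_
      refine lt_of_le_of_lt (Polynomial.degree_sum_le _ _) ?_
      refine (Finset.sup_lt_iff (WithBot.bot_lt_coe _)).2 fun n hn => ?_
      exact (Polynomial.degree_C_mul_X_pow_le _ _).trans_lt
        (WithBot.coe_lt_coe.2 (Finset.mem_range.1 hn))
    have hg₂m : g₂.map (q m₀) = g := by
      conv_rhs => rw [hg.as_sum]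
      simp only [g₂, Polynomial.map_add, Polynomial.map_pow, Polynomial.map_X, Polynomial.map_sum,
        Polynomial.map_mul, Polynomial.map_C]
      congr 1
      refine Finset.sum_congr rfl fun n _ => ?_
      rw [← Polynomial.coeff_map, Polynomial.map_map, hqc, hg₁]
    have e1 : q m₀ (g₂.eval (f _ m₀ (k2.trans hm₀) b)) = q m₀ (f _ m₀ (k4.trans hm₀) c) := by
      rw [hq, ← Polynomial.eval₂_at_apply, ← Polynomial.eval_map, hg₂m, hq]
      exact hce.symm
    obtain ⟨m₁, hm₁, he1⟩ := key _ _ _ e1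
    have e2 : q m₁ (f _ m₁ hm₁ (g₂.derivative.eval (f _ m₀ (k2.trans hm₀) b)) *
        f _ m₁ ((k3.trans hm₀).trans hm₁) z - 1) = q m₁ (f _ m₁ ((k5.trans hm₀).trans hm₁) d) := by
      rw [map_sub, map_mul, hq, hq, hq, map_one, ← Polynomial.eval₂_at_apply, ← Polynomial.eval_map,
        ← Polynomial.derivative_map, hg₂m, hq]
      exact hde.symm
    obtain ⟨m, hm, he2⟩ := key _ _ _ e2
    let φ := (f m₁ m hm).comp (f m₀ m₁ hm₁)
    refine ⟨m, g₂.map φ, φ (f _ m₀ (k2.trans hm₀) b), f m₁ m hm (f _ m₁ ((k3.trans hm₀).trans hm₁) z),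
      hg₂.map _, ?_, ?_, ?_, ?_⟩
    · rw [Polynomial.map_map, ← RingHom.comp_assoc, hqc, hqc, hg₂m]
    · simp only [φ, RingHom.comp_apply, hq]; rfl
    · rw [Polynomial.eval_map, Polynomial.eval₂_at_apply]
      simp only [φ, RingHom.comp_apply]
      rw [he1]
      exact hI _ _ hm (Ideal.mem_map_of_mem _ (hI _ _ hm₁ (Ideal.mem_map_of_mem _
        (hI _ _ (k4.trans hm₀) (Ideal.mem_map_of_mem _ hc)))))
    · rw [Polynomial.derivative_map, Polynomial.eval_map, Polynomial.eval₂_at_apply]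
      simp only [φ, RingHom.comp_apply]
      rw [← map_mul, ← map_one (f m₁ m hm), ← map_sub, he2]
      exact hI _ _ hm (Ideal.mem_map_of_mem _ (hI _ _ ((k5.trans hm₀).trans hm₁)
        (Ideal.mem_map_of_mem _ hd)))

end Groth.Agent.S1998
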