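import Groth.Statements.S1999
import Groth.Agent.H48.Inertia

set_option autoImplicit false
set_option linter.style.haveILetI false
universe u
open scoped Pointwise
open EtAlg

namespace Groth.Agent.S1999

open Groth.Agent.H48 in
attribute [local instance] Ideal.Quotient.field in
theorem main {A K L B : Type u} [CommRing A] [IsDomain A] [IsDiscreteValuationRing A]
    [CommRing B] [IsDedekindDomain B] [Field K] [Field L] [Algebra A K] [Algebra B L]
    [Algebra A B] [Algebra K L] [FiniteDimensional K L]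
    [MulSemiringAction (L ≃ₐ[K] L) B] [IsGaloisGroup (L ≃ₐ[K] L) A B]
    [Module.Finite A B] [Module.Flat A B] [FaithfulSMul A B]
    (m : Ideal B) [m.IsMaximal]
    [Algebra.IsSeparable (A ⧸ m.comap (algebraMap A B)) (B ⧸ m)] :
    let D : Subgroup (L ≃ₐ[K] L) := MulAction.stabilizer (L ≃ₐ[K] L) m
    let I : Subgroup (L ≃ₐ[K] L) := m.inertia (L ≃ₐ[K] L)
    let P : Subgroup (L ≃ₐ[K] L) := D ⊓ (m ^ 2).inertia (L ≃ₐ[K] L)
    let e : ℕ := Ideal.ramificationIdx' (IsLocalRing.maximalIdeal A) m
    P ≤ I ∧ I ≤ D ∧ (P.subgroupOf D).Normal ∧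
    (∀ p : ℕ, p.Prime → CharP (A ⧸ m.comap (algebraMap A B)) p → IsPGroup p P) ∧
    (CharZero (A ⧸ m.comap (algebraMap A B)) → P = ⊥) ∧
    (∀ [(P.subgroupOf I).Normal],
      IsCyclic (I ⧸ P.subgroupOf I) ∧
      (∀ p : ℕ, p.Prime → CharP (A ⧸ m.comap (algebraMap A B)) p → Nat.card (I ⧸ P.subgroupOf I) = e / p ^ e.factorization p) ∧
      (CharZero (A ⧸ m.comap (algebraMap A B)) → Nat.card (I ⧸ P.subgroupOf I) = e) ∧
      Nonempty (I ⧸ P.subgroupOf I ≃* ↥(rootsOfUnity e (B ⧸ m)))) := by
  intro D I P e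
  set G := L ≃ₐ[K] L
  have : Algebra.IsIntegral A B := Algebra.IsIntegral.of_finite A B
  have hpmax : (m.comap (algebraMap A B)).IsMaximal := Ideal.IsMaximal.under A m
  have hp : m.comap (algebraMap A B) = IsLocalRing.maximalIdeal A := IsLocalRing.eq_maximalIdeal hpmax
  have hm : m ≠ ⊥ := by
    rintro rfl
    rw [Ideal.comap_bot_of_injective _ (FaithfulSMul.algebraMap_injective A B)] at hp
    exact IsDiscreteValuationRing.not_a_field A hp.symm
  obtain ⟨π, hπ, hπ2⟩ := Inertia.exists_uniformizer hm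
  have hP : ∀ σ ∈ P, ∀ x : B, σ • x - x ∈ m ^ 2 := fun σ h => h.2
  have hPI : P ≤ I := fun σ h x => Ideal.pow_le_self two_ne_zero (h.2 x)
  have hID : I ≤ D := Ideal.inertia_le_stabilizer m
  -- cardinality of inertia
  have hpI : Nat.card I = e := by
    have hlo : m.LiesOver (m.comap (algebraMap A B)) := ⟨rfl⟩
    set p := m.comap (algebraMap A B) with hpdef
    haveI : Normal (A ⧸ p) (B ⧸ m) := Ideal.Quotient.normal G p m
    haveI : IsGalois (A ⧸ p) (B ⧸ m) := IsGalois.mk
    haveI := Ideal.Quotient.finite_of_isInvariant G p m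
    have h1 : Nat.card D = Nat.card I * m.inertiaDeg A := by
      have : Subgroup.index _ = _ := Nat.card_congr
        (Ideal.Quotient.stabilizerQuotientInertiaEquiv G p m).toEquiv
      rw [Ideal.inertiaDeg_eq_of_isMaximal p m, ← IsGalois.card_aut_eq_finrank (A ⧸ p) (B ⧸ m),
        ← this, ← (I.subgroupOf D).card_mul_index,
        Nat.card_congr (Subgroup.subgroupOfEquivOfLe hID).toEquiv]
      congr 1
    have h2 : (Ideal.primesOver p B).ncard * Nat.card D = Nat.card G := by
      rw [← Algebra.IsInvariant.orbit_eq_primesOver A B G p m]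
      rw [← Nat.card_coe_set_eq, ← Nat.card_prod]
      exact Nat.card_congr (MulAction.orbitProdStabilizerEquivGroup G m)
    have h3 := Ideal.ncard_primesOver_mul_ramificationIdxIn_mul_inertiaDegIn p B G
    rw [Ideal.ramificationIdxIn_eq_ramificationIdx p m G, Ideal.inertiaDegIn_eq_inertiaDeg p m G,
      ← h2, h1] at h3
    have hG : Nat.card G ≠ 0 := Nat.card_pos.ne'
    rw [← h2, h1] at hG
    have h4 : m.ramificationIdx A = Nat.card I := by
      have ha : (Ideal.primesOver p B).ncard ≠ 0 := fun h => hG (by rw [h, zero_mul])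
      have hb : m.inertiaDeg A ≠ 0 := fun h => hG (by rw [h, mul_zero, mul_zero])
      exact mul_right_cancel₀ hb (mul_left_cancel₀ ha h3)
    rw [← h4]
    show _ = Ideal.ramificationIdx' (IsLocalRing.maximalIdeal A) m
    rw [← hp]
    refine (Ideal.ramificationIdx'_eq_ramificationIdx' p m ?_).symm
    intro h0
    rw [Ideal.map_eq_bot_iff_of_injective (FaithfulSMul.algebraMap_injective A B), hp] at h0
    exact IsDiscreteValuationRing.not_a_field A h0
  set k := B ⧸ m
  have hcast : ∀ n : ℕ, (n : A ⧸ m.comap (algebraMap A B)) = 0 ↔ (n : B) ∈ m := fun n => by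
    rw [← map_natCast (Ideal.Quotient.mk (m.comap (algebraMap A B))), Ideal.Quotient.eq_zero_iff_mem,
      Ideal.mem_comap, map_natCast]
  have hkill : ∀ σ ∈ P, ∀ l : ℕ, (l : B) ∉ m → σ ^ l = 1 → σ = 1 := fun σ hσ l hl hl1 =>
    haveI : FaithfulSMul G B := IsGaloisGroup.faithful A
    Inertia.eq_one_of_pow_eq_one (m := m) (hP σ hσ) hl1 hl
  have hpgrp : ∀ p : ℕ, p.Prime → CharP (A ⧸ m.comap (algebraMap A B)) p → IsPGroup p P := by
    intro p hpp hchar σ
    obtain ⟨j, l, hl, hjl⟩ := Nat.exists_eq_pow_mul_and_not_dvd (orderOf_pos (σ : G)).ne' p hpp.ne_one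
    refine ⟨j, Subtype.ext (hkill _ (σ ^ p ^ j).2 l ?_ ?_)⟩
    · rw [← hcast, CharP.cast_eq_zero_iff _ p]; exact hl
    · rw [SubgroupClass.coe_pow, ← pow_mul, ← hjl, pow_orderOf_eq_one]
  have hchar0 : CharZero (A ⧸ m.comap (algebraMap A B)) → P = ⊥ := by
    intro h0
    rw [Subgroup.eq_bot_iff_forall]
    intro σ hσ
    refine hkill σ hσ (orderOf σ) ?_ (pow_orderOf_eq_one σ)
    rw [← hcast, Nat.cast_eq_zero]
    exact (orderOf_pos σ).ne'
  refine ⟨hPI, hID, ⟨fun n hn g => ?_⟩, hpgrp, hchar0, ?_⟩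
  · refine ⟨(g * n * g⁻¹).2, fun x => ?_⟩
    show ((g : G) * (n : G) * (g : G)⁻¹) • x - x ∈ m ^ 2
    have := Inertia.smul_mem_pow m g.2 (hP _ hn ((g : G)⁻¹ • x))
    rw [smul_sub, smul_inv_smul] at this
    rw [mul_smul, mul_smul]
    exact this
  intro _
  let θ : I →* kˣ := (Inertia.character hπ hπ2 hm).toHomUnits
  have hker : θ.ker = P.subgroupOf I := by
    ext σ
    rw [MonoidHom.mem_ker, Units.ext_iff, Subgroup.mem_subgroupOf]
    show Inertia.character hπ hπ2 hm σ = 1 ↔ _
    rw [Inertia.character_eq_one_iff]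
    exact ⟨fun h => ⟨hID σ.2, fun x => Inertia.smul_sub_mem_sq (A := A) hπ hπ2 hm σ.2 h x⟩,
      fun h => hP _ h π⟩
  let Φ : I ⧸ P.subgroupOf I →* kˣ := QuotientGroup.lift _ θ hker.ge
  have hΦ : Function.Injective Φ := by
    rw [← MonoidHom.ker_eq_bot_iff]
    refine (QuotientGroup.ker_lift _ _ _).trans ?_
    rw [hker, QuotientGroup.map_mk'_self]
  have hcyc : IsCyclic (I ⧸ P.subgroupOf I) :=
    isCyclic_of_injective_ringHom ((Units.coeHom k).comp Φ) (Units.val_injective.comp hΦ)
  set n := Nat.card (I ⧸ P.subgroupOf I) with hn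
  have hn0 : 0 < n := Nat.card_pos
  have hprod : n * Nat.card P = e := by
    rw [← hpI, Subgroup.card_eq_card_quotient_mul_card_subgroup (P.subgroupOf I),
      Nat.card_congr (Subgroup.subgroupOfEquivOfLe hPI).toEquiv]
  have hpn : ∀ p : ℕ, p.Prime → CharP (A ⧸ m.comap (algebraMap A B)) p → ¬ p ∣ n := by
    intro p hpp hchar hdvd
    haveI : Fact p.Prime := ⟨hpp⟩
    haveI : CharP k p := charP_of_injective_ringHom
      (algebraMap (A ⧸ m.comap (algebraMap A B)) k).injective p
    obtain ⟨x, hx⟩ := exists_prime_orderOf_dvd_card' p hdvd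
    have h1 : ((Φ x : kˣ) : k) ^ p = 1 := by
      rw [← Units.val_pow_eq_pow_val, ← map_pow, ← hx, pow_orderOf_eq_one, map_one, Units.val_one]
    have h2 : ((Φ x : kˣ) : k) = 1 := frobenius_inj k p (by simp [frobenius_def, h1])
    have h3 : x = 1 := hΦ (by rw [map_one]; exact Units.ext h2)
    rw [h3, orderOf_one] at hx
    exact hpp.ne_one hx.symm
  have hcardp : ∀ p : ℕ, p.Prime → CharP (A ⧸ m.comap (algebraMap A B)) p →
      ∃ j, Nat.card P = p ^ j ∧ n = e / p ^ e.factorization p := by
    intro p hpp hchar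
    haveI : Fact p.Prime := ⟨hpp⟩
    obtain ⟨j, hj⟩ := IsPGroup.iff_card.1 (hpgrp p hpp hchar)
    refine ⟨j, hj, ?_⟩
    rw [← hprod, hj, Nat.factorization_mul hn0.ne' (pow_ne_zero _ hpp.ne_zero), Finsupp.add_apply,
      Nat.factorization_eq_zero_of_not_dvd (hpn p hpp hchar), zero_add,
      hpp.factorization_pow, Finsupp.single_eq_same, Nat.mul_div_cancel _ (pow_pos hpp.pos _)]
  have hzero : CharZero (A ⧸ m.comap (algebraMap A B)) → n = e := by
    intro h0
    rw [← hprod, hchar0 h0, Subgroup.card_bot, mul_one]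
  refine ⟨hcyc, fun p hpp hc => (hcardp p hpp hc).choose_spec.2, hzero, ?_⟩
  -- the roots of unity
  have hle : rootsOfUnity e k ≤ rootsOfUnity n k := by
    obtain ⟨p, hchar⟩ := CharP.exists (A ⧸ m.comap (algebraMap A B))
    rcases CharP.char_is_prime_or_zero (A ⧸ m.comap (algebraMap A B)) p with hpp | hp0
    · obtain ⟨j, hj, -⟩ := hcardp p hpp hchar
      haveI : Fact p.Prime := ⟨hpp⟩
      haveI : CharP k p := charP_of_injective_ringHom
        (algebraMap (A ⧸ m.comap (algebraMap A B)) k).injective p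
      intro x hx
      rw [mem_rootsOfUnity'] at hx ⊢
      rw [← hprod, hj, pow_mul] at hx
      exact iterateFrobenius_inj k p j (by simpa [iterateFrobenius_def] using hx)
    · subst hp0
      rw [hzero (CharP.charP_to_charZero _)]
  let Ψ : I ⧸ P.subgroupOf I →* rootsOfUnity e k := Φ.codRestrict _ fun x => by
    rw [mem_rootsOfUnity, ← map_pow, show x ^ e = 1 from ?_, map_one]
    rw [← hprod, pow_mul, pow_card_eq_one', one_pow]
  haveI : NeZero n := ⟨hn0.ne'⟩
  haveI hfin : Finite (rootsOfUnity e k) :=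
    Finite.of_injective _ (Subgroup.inclusion_injective hle)
  have hΨ : Function.Injective Ψ := fun a b h => hΦ (congrArg Subtype.val h)
  refine ⟨MulEquiv.ofBijective Ψ ((Nat.bijective_iff_injective_and_card _).2 ⟨hΨ, ?_⟩)⟩
  exact le_antisymm (Nat.card_le_card_of_injective _ hΨ)
    ((Nat.card_le_card_of_injective _ (Subgroup.inclusion_injective hle)).trans (card_rootsOfUnity k n))

/-- Parts (2)–(5) in the case of part (6): let A be a discrete valuation ring with fraction field K, L/K
a finite Galois extension with group G, B the integral closure of A in L, m a maximal ideal of B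
whose residue field is separable over that of A, and e the ramification index of m over A. Let D be
the decomposition group (stabilizer of m), I the inertia group (elements acting trivially on B/m)
and P the wild inertia group, here the elements of D acting trivially on B/m² (the description valid
in the separable residue field case). Then P ≤ I, P is normal in D, P is a p-group if the residue
characteristic is p > 0 and trivial if it is 0, and I/P is cyclic of order the prime-to-p part of e
and isomorphic to a subgroup of the e-th roots of unity of B/m — more precisely to the full group of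
e-th roots of unity of B/m. -/
theorem result (A K L B : Type u) [CommRing A] [IsDomain A] [IsDiscreteValuationRing A]
    [CommRing B] [IsDomain B] [Field K] [Field L] [Algebra A K] [Algebra B L] [IsFractionRing A K] [IsFractionRing B L]
    [Algebra A B] [Algebra K L] [Algebra A L] [IsScalarTower A K L] [IsScalarTower A B L] [IsIntegralClosure B A L]
    [FiniteDimensional K L] [IsGalois K L] (m : Ideal B) [m.IsMaximal]
    [Algebra.IsSeparable (A ⧸ m.comap (algebraMap A B)) (B ⧸ m)] :
    letI := IsIntegralClosure.MulSemiringAction A K L B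
    let D : Subgroup (L ≃ₐ[K] L) := MulAction.stabilizer (L ≃ₐ[K] L) m
    let I : Subgroup (L ≃ₐ[K] L) := m.inertia (L ≃ₐ[K] L)
    let P : Subgroup (L ≃ₐ[K] L) := D ⊓ (m ^ 2).inertia (L ≃ₐ[K] L)
    let e : ℕ := Ideal.ramificationIdx' (IsLocalRing.maximalIdeal A) m
    P ≤ I ∧ I ≤ D ∧ (P.subgroupOf D).Normal ∧
    (∀ p : ℕ, p.Prime → CharP (A ⧸ m.comap (algebraMap A B)) p → IsPGroup p P) ∧
    (CharZero (A ⧸ m.comap (algebraMap A B)) → P = ⊥) ∧
    (∀ [(P.subgroupOf I).Normal],
      IsCyclic (I ⧸ P.subgroupOf I) ∧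
      (∀ p : ℕ, p.Prime → CharP (A ⧸ m.comap (algebraMap A B)) p → Nat.card (I ⧸ P.subgroupOf I) = e / p ^ e.factorization p) ∧
      (CharZero (A ⧸ m.comap (algebraMap A B)) → Nat.card (I ⧸ P.subgroupOf I) = e) ∧
      Nonempty (I ⧸ P.subgroupOf I ≃* ↥(rootsOfUnity e (B ⧸ m)))) := by
  letI := IsIntegralClosure.MulSemiringAction A K L B
  have := IsIntegralClosure.isDedekindDomain A K L B
  have : Module.Finite A B := IsIntegralClosure.finite A K L B
  have : IsGaloisGroup (L ≃ₐ[K] L) A B := IsGaloisGroup.of_isFractionRing _ _ _ K L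
  have : FaithfulSMul A B := (faithfulSMul_iff_algebraMap_injective A B).2 fun x y h => by
    have h2 := congrArg (algebraMap B L) h
    rw [← IsScalarTower.algebraMap_apply, ← IsScalarTower.algebraMap_apply,
      IsScalarTower.algebraMap_apply A K L, IsScalarTower.algebraMap_apply A K L] at h2
    exact IsFractionRing.injective A K ((algebraMap K L).injective h2)
  have : Module.IsTorsionFree A B := inferInstance
  exact main m

end Groth.Agent.S1999
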