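import Groth.Statements.S19990
import Groth.Agent.Lib.Gerbe.Surj
import Groth.Agent.H14.Chart.OpenSmooth
import Groth.Agent.H14.Chart.QC2
import Groth.Agent.Lib.AlgSpFpqc.LocP
import Groth.Agent.Lib.Henselian.Sections
import Groth.Agent.Lib.GrpSch.SepPoints

set_option autoImplicit false
set_option linter.style.haveILetI false
universe u
open CategoryTheory CategoryTheory.Limits AlgebraicGeometry
open Gerb

namespace Groth.Agent.S19990

/-- Let R be a strictly henselian local ring, M a finite abelian group and D(M) the diagonalizable group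
scheme over R with character group M. Let ℋ be an algebraic stack over R which is an fppf gerbe over
Spec R, banded by D(M): the automorphism groups of its objects over the identity are identified with
the points of D(M), compatibly with all morphisms of ℋ. Then ℋ(R) is non-empty: ℋ has an object
lying over Spec R. The published statement is for a gerbe banded by an arbitrary finite linearly
reductive group scheme G over R, and its argument reduces, through rigidification by the connected
diagonalizable part of G, to the vanishing of the degree-two fppf cohomology of R with coefficients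
in a product of groups of roots of unity, which the Kummer sequence gives; this row states the
special case G = D(M) of a finite diagonalizable band, to which that Kummer argument applies
directly (bands by non-commutative groups are not available here). -/
theorem result (R : Type u) [CommRing R]
    [HenselianLocalRing R] [IsSepClosed (IsLocalRing.ResidueField R)] (M : Type) [AddCommGroup M] [Finite M]
    (ℋ : AlgSt.Cat (Spec (CommRingCat.of R))) (hℋ : AlgSt.IsAlgStack Scheme.fppfPrecoverage ℋ)
    (hger : Gerb.IsGerbe (QuotSh.J Scheme.fppfPrecoverage (Spec (CommRingCat.of R))) ℋ)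
    (β : Gerb.Banding ℋ (yonedaGrpObj (Red.diag R M))) :
    Nonempty (ℋ.p.Fiber (Over.mk (𝟙 (Spec (CommRingCat.of R))))) := by
  have hg : Gerb.IsGerbeOver (QuotSh.J Scheme.fppfPrecoverage (Spec (CommRingCat.of R))) (FibCat.toSelf ℋ) := hger.2
  let S₀ := Spec (CommRingCat.of R)
  have h𝒴 := Groth.Agent.H14.Chart.QC2.isAlgStack_selfOver (S := S₀)
  let one : Over S₀ := Over.mk (𝟙 S₀)
  let y := FibCat.toSelf (FibCat.overCat one)
  have hloc := Groth.Agent.Lib.Gerbe.Surj.locQ_smooth hℋ h𝒴 (FibCat.toSelf ℋ) hg
  -- an atlas, smooth over the base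
  obtain ⟨U, a, k, ha, ha', ⟨ι⟩⟩ := Groth.Agent.H14.Chart.LocQ.exists_square hℋ h𝒴 (FibCat.toSelf ℋ) y
  have hk : AlgebraicGeometry.Smooth k.left :=
    AlgSp.locP_yon_map (Groth.Agent.H14.Chart.LocQ.prop_of_locQ
      Groth.Agent.H14.Chart.OpenSmooth.isSmoothLocalST_smooth hℋ h𝒴 hloc
      (Or.inr (Groth.Agent.H14.Sep.SpProps.stableBC_locP Groth.Agent.H14.Chart.LocQ.smoothST)) ha ι)
  have hUs : AlgebraicGeometry.Smooth U.hom := by
    have h : k.left ≫ 𝟙 S₀ = U.hom := Over.w k
    have h2 : k.left = U.hom := (Category.comp_id _).symm.trans h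
    exact h2 ▸ hk
  -- a point of the atlas in the closed fibre
  obtain ⟨I, Zs, g, x, -, hcov, -⟩ :=
    Groth.Agent.Lib.Gerbe.Surj.exists_lifts hℋ.isStack.1 h𝒴.isStack.1 (FibCat.toSelf ℋ) hg.1 y
  obtain ⟨j, s, hs⟩ := hcov (IsLocalRing.closedPoint R)
  let η : FibCat.overCat (Zs j) ⥤ᵇ FibCat.fp (FibCat.toSelf ℋ) y :=
    FibCat.fpLift (x j) (AlgSt.overMap (g j))
      (eqToIso (Groth.Agent.Lib.AlgStack.Diag.toSelf_unique _ _))
  obtain ⟨T', σ, hσ, z, -, -⟩ := Groth.Agent.H14.Chart.Points.exists_chart_lift ha' η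
  obtain ⟨k', -⟩ := Groth.Agent.H14.Chart.Points.exists_iso_overMap z
  obtain ⟨t', rfl⟩ := hσ.surj s
  have hu : U.hom (k'.left t') = IsLocalRing.closedPoint R := by
    rw [← Scheme.Hom.comp_apply, Over.w, ← Over.w σ, Scheme.Hom.comp_apply, ← Over.w (g j), Scheme.Hom.comp_apply]
    simp only [one, Over.mk_hom]
    exact hs
  -- a rational point of the closed fibre
  let r₀ : Spec (CommRingCat.of (IsLocalRing.ResidueField R)) ⟶ S₀ :=
    Spec.map (CommRingCat.ofHom (IsLocalRing.residue R))
  have hr : IsLocalRing.closedPoint R ∈ Set.range r₀ :=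
    ⟨IsLocalRing.closedPoint (IsLocalRing.ResidueField R),
      IsLocalRing.comap_closedPoint (IsLocalRing.residue R)⟩
  obtain ⟨q, hq⟩ := hr
  obtain ⟨p, -, -⟩ := Scheme.Pullback.exists_preimage_pullback (f := U.hom) (g := r₀) (k'.left t') q (hu.trans hq.symm)
  haveI : Nonempty ↥(pullback U.hom r₀) := ⟨p⟩
  obtain ⟨c, hc⟩ := Groth.Agent.Lib.GrpSch.exists_section_of_smooth (pullback.snd U.hom r₀)
  obtain ⟨v, hv, -⟩ := Groth.Agent.Lib.Henselian.Sections.exists_section_of_smooth U.hom
    (c ≫ pullback.fst U.hom r₀) (by rw [Category.assoc, pullback.condition, reassoc_of% hc])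
  let w : one ⟶ U := Over.homMk v hv
  exact ⟨⟨(BasedFunctor.comp a (FibCat.fpFst (FibCat.toSelf ℋ) y)).obj (Over.mk w),
    (BasedFunctor.comp a (FibCat.fpFst (FibCat.toSelf ℋ) y)).w_obj (Over.mk w)⟩⟩

end Groth.Agent.S19990
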