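import Groth.Statements.S19994
import Groth.Agent.Lib.WildAS.Subring

set_option autoImplicit false
universe u v w
open WildQuot

namespace Groth.Agent.S19994

/-- Let `A` be a complete regular local ring of Krull dimension at least `2` and prime characteristic
`p`, with maximal ideal `m`; let `k` be a field with a ring map `k → A` whose composite with `A →
A/m` is onto; let `G` be a group of order `p` acting on `A` by ring automorphisms fixing the image
of `k` and ramified precisely at the origin (for every prime `P ≠ m`, the inertia subgroup of `P`,
i.e. the elements of `G` fixing every element modulo `P`, is trivial). Then the singular locus of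
`Spec A^G` is contained in the closed point: for every non-maximal prime ideal `P` of the invariant
ring `A^G`, the localization `(A^G)_P` is a regular local ring. (The published statement also
asserts that the punctured spectrum of `A` is a `G`-torsor over the punctured spectrum of `A^G`;
this row omits that clause. Together with the non-regularity of `A^G` itself, the singular locus is
exactly the closed point.) -/
theorem result
    (p : ℕ) [Fact p.Prime] (A : Type u) [CommRing A] [IsRegularLocalRing A] [CharP A p]
    [IsAdicComplete (IsLocalRing.maximalIdeal A) A] (hdim : 2 ≤ ringKrullDim A)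
    (k : Type v) [Field k] [Algebra k A]
    (hk : Function.Surjective (IsLocalRing.residue A ∘ algebraMap k A))
    (G : Type w) [Group G] [Finite G] [MulSemiringAction G A] (hcard : Nat.card G = p)
    (hGk : ∀ (σ : G) (c : k), σ • algebraMap k A c = algebraMap k A c)
    (hram : ∀ P : Ideal A, P.IsPrime → P ≠ IsLocalRing.maximalIdeal A → P.inertia G = ⊥)
    (P : Ideal (FixedPoints.subring A G)) [P.IsPrime] (hP : ¬ P.IsMaximal) :
    IsRegularLocalRing (Localization.AtPrime P) := by
  classical
  haveI : SMulCommClass G k A := ⟨fun g c x => by
    rw [Algebra.smul_def, Algebra.smul_def, smul_mul', hGk]⟩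
  haveI : Fintype G := Fintype.ofFinite G
  haveI := Groth.Agent.Lib.Regular.Quotient.isDomain A
  obtain ⟨hN, hfin, -⟩ := Groth.Agent.Lib.WildAS.Subring.finite_and_complete (A := A) (G := G) hk
  haveI : Algebra.IsIntegral (FixedPoints.subring A G) A := Algebra.IsInvariant.isIntegral _ A G
  obtain ⟨Q, -, hQ, hQP⟩ := Ideal.exists_ideal_over_prime_of_isIntegral P (⊥ : Ideal A)
    (by simp [Ideal.comap_bot_of_injective (algebraMap (FixedPoints.subring A G) A) Subtype.val_injective])
  have hQm : Q ≠ IsLocalRing.maximalIdeal A := by
    intro h
    haveI : Q.IsMaximal := h ▸ IsLocalRing.maximalIdeal.isMaximal A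
    exact hP (hQP ▸ Ideal.isMaximal_comap_of_isIntegral_of_isMaximal Q)
  obtain ⟨D, y, hD, hgen, huniq⟩ :=
    Groth.Agent.Lib.WildAS.Subring.exists_coords hcard Q (hram Q hQ hQm)
  choose c hc using hgen
  haveI : Module.Flat (FixedPoints.subring A G) (Localization.AtPrime Q) := by
    refine Module.Flat.iff_forall_isTrivialRelation.mpr fun {l} {f} {x} hfx => ?_
    obtain ⟨s, hs⟩ := IsLocalization.exist_integer_multiples_of_finite Q.primeCompl x
    choose a ha using hs
    have hsum : ∑ i, (f i : A) * a i = 0 := by
      apply IsLocalization.injective (Localization.AtPrime Q) Q.primeCompl_le_nonZeroDivisors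
      rw [map_sum, map_zero]
      refine Eq.trans ?_ (mul_eq_zero_of_right (algebraMap A (Localization.AtPrime Q) s) hfx)
      rw [Finset.mul_sum]
      refine Finset.sum_congr rfl fun i _ => ?_
      rw [map_mul, ha i, Algebra.smul_def, Algebra.smul_def,
        IsScalarTower.algebraMap_apply (FixedPoints.subring A G) A (Localization.AtPrime Q)]
      change _ = algebraMap A _ (s : A) * (algebraMap A _ (f i : A) * x i)
      ring
    have hcoord : ∀ j, ∑ i, f i * c (a i) j = 0 := by
      intro j
      refine congrFun (huniq (fun j => ∑ i, f i * c (a i) j) ?_) j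
      simp only [AddSubmonoidClass.coe_finsetSum, Subring.coe_mul, Finset.sum_mul]
      rw [Finset.sum_comm]
      calc ∑ i, ∑ j : Fin p, (f i : A) * (c (a i) j : A) * y ^ (j : ℕ)
          = ∑ i, (D : A) * ((f i : A) * a i) := Finset.sum_congr rfl fun i _ => by
            rw [mul_left_comm, hc, Finset.mul_sum]
            simp only [mul_assoc]
        _ = 0 := by rw [← Finset.mul_sum, hsum, mul_zero]
    have hDs : (D : A) * (s : A) ∈ Q.primeCompl := Q.primeCompl.mul_mem hD s.2
    refine ⟨p, fun i j => c (a i) j,
      fun j => IsLocalization.mk' (Localization.AtPrime Q) (y ^ (j : ℕ)) ⟨(D : A) * s, hDs⟩,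
      fun i => ?_, hcoord⟩
    refine (IsLocalization.map_units (Localization.AtPrime Q) ⟨(D : A) * s, hDs⟩).mul_right_cancel ?_
    rw [Finset.sum_mul]
    simp only [smul_mul_assoc, IsLocalization.mk'_spec]
    rw [map_mul, ← mul_assoc, mul_comm (x i) (algebraMap A _ (D : A)), mul_assoc,
      show x i * algebraMap A _ (s : A) = algebraMap A _ (a i) by rw [ha i, Algebra.smul_def, mul_comm],
      ← map_mul, hc, map_sum]
    refine Finset.sum_congr rfl fun j _ => ?_
    rw [← map_mul (algebraMap A (Localization.AtPrime Q)) (D : A) s,
      IsLocalization.mk'_spec _ (y ^ (j : ℕ)) ⟨(D : A) * s, hDs⟩, map_mul, Algebra.smul_def,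
      IsScalarTower.algebraMap_apply (FixedPoints.subring A G) A (Localization.AtPrime Q)]
    rfl
  haveI : Q.LiesOver P := ⟨hQP.symm⟩
  letI : Algebra (Localization.AtPrime P) (Localization.AtPrime Q) :=
    (Localization.localRingHom P Q (algebraMap (FixedPoints.subring A G) A) hQP.symm).toAlgebra
  haveI : IsScalarTower (FixedPoints.subring A G) (Localization.AtPrime P) (Localization.AtPrime Q) :=
    IsScalarTower.of_algebraMap_eq fun t => (Localization.localRingHom_to_map P Q _ hQP.symm t).symm
  haveI : Module.Flat (Localization.AtPrime P) (Localization.AtPrime Q) :=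
    (Module.flat_iff_of_isLocalization (Localization.AtPrime P) P.primeCompl (Localization.AtPrime Q)).mpr ‹_›
  haveI : IsLocalHom (algebraMap (Localization.AtPrime P) (Localization.AtPrime Q)) :=
    Localization.isLocalHom_localRingHom P Q _ hQP.symm
  haveI := Groth.Agent.Lib.Regular.Serre.isRegularLocalRing_localization Q
  exact Groth.Agent.Lib.Regular.Descent.isRegularLocalRing_of_flat (Localization.AtPrime Q)

end Groth.Agent.S19994
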