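import Groth.Statements.S2000
import Groth.Agent.H48.Glue
import Mathlib.RingTheory.Localization.BaseChange

set_option autoImplicit false
set_option linter.style.haveILetI false
universe u
open TensorProduct
open EtAlg

namespace Groth.Agent.S2000

/-- Beauville–Laszlo, essential surjectivity with glueability: take a glueing pair (R -> R', f). Fix an
R'-module M', an R-module M₁ on which multiplication by f is bijective (i.e. an R_f-module), and α
an R'-linear isomorphism from the localization of M' at f to R' ⊗_R M₁ (an isomorphism of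
R'_f-modules). Then there is an R-module M, glueable for (R -> R', f), with an R'-isomorphism R' ⊗_R
M ≅ M' and an R-isomorphism M_f ≅ M₁ under which α becomes the canonical identification (R' ⊗_R M)_f
= R' ⊗_R M_f. -/
theorem result (R R' : Type u) [CommRing R] [CommRing R'] [Algebra R R'] (f : R)
    (hRR : EtGlue.IsGlueingPair R R' f) (M' : Type u) [AddCommGroup M'] [Module R' M'] (M₁ : Type u) [AddCommGroup M₁]
    [Module R M₁] (hf : Function.Bijective fun x : M₁ => f • x)
    (α : LocalizedModule (Submonoid.powers (algebraMap R R' f)) M' ≃ₗ[R'] R' ⊗[R] M₁) :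
    ∃ (M : Type u) (_ : AddCommGroup M) (_ : Module R M) (_ : EtGlue.IsGlueable R R' f M)
      (e' : R' ⊗[R] M ≃ₗ[R'] M') (e₁ : LocalizedModule (Submonoid.powers f) M ≃ₗ[R] M₁),
      ∀ m : M, α (LocalizedModule.mkLinearMap (Submonoid.powers (algebraMap R R' f)) M' (e' ((1 : R') ⊗ₜ[R] m))) =
        (1 : R') ⊗ₜ[R] e₁ (LocalizedModule.mkLinearMap (Submonoid.powers f) M m) := by
  have hq := hRR.1
  have ht := H48.Glue.torsionBij_of_isGlueingPair hRR
  letI : Module R M' := Module.compHom M' (algebraMap R R')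
  haveI : IsScalarTower R R' M' := IsScalarTower.of_compHom R R' M'
  let β : M' →ₗ[R'] R' ⊗[R] M₁ :=
    α.toLinearMap ∘ₗ LocalizedModule.mkLinearMap (Submonoid.powers (algebraMap R R' f)) M'
  have hfn : ∀ n : ℕ, Function.Bijective fun x : M₁ => f ^ n • x := by
    intro n
    induction n with
    | zero => simp only [pow_zero, one_smul]; exact Function.bijective_id
    | succ n ih =>
      have : (fun x : M₁ => f ^ (n + 1) • x) = (fun x => f ^ n • x) ∘ fun x => f • x := by
        funext x; simp [pow_succ, mul_smul]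
      rw [this]; exact ih.comp hf
  have hfT : ∀ n : ℕ, Function.Bijective fun x : R' ⊗[R] M₁ => f ^ n • x := by
    intro n
    let g := LinearEquiv.ofBijective (LinearMap.lsmul R M₁ (f ^ n)) (hfn n)
    have h : (fun x : R' ⊗[R] M₁ => f ^ n • x) = g.lTensor R' := by
      funext x
      induction x with
      | zero => simp
      | tmul r y => rw [LinearEquiv.lTensor_tmul]; show _ = r ⊗ₜ[R] (f ^ n • y); rw [tmul_smul]
      | add a b ha hb => simp [← ha, ← hb]
    rw [h]; exact (g.lTensor R').bijective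
  have hβ : ∀ z, ∃ (n : ℕ) (x : M'), β x = f ^ n • z := by
    intro z
    obtain ⟨⟨x, ⟨_, n, rfl⟩⟩, hx⟩ := IsLocalizedModule.surj (Submonoid.powers (algebraMap R R' f))
      (LocalizedModule.mkLinearMap (Submonoid.powers (algebraMap R R' f)) M') (α.symm z)
    refine ⟨n, x, ?_⟩
    have h1 := congrArg α hx
    simp only [Submonoid.smul_def, map_smul, LinearEquiv.apply_symm_apply] at h1
    rw [show β x = α (LocalizedModule.mkLinearMap _ M' x) from rfl, ← h1, ← map_pow, algebraMap_smul]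
  have hβ0 : ∀ x, β x = 0 → ∃ n : ℕ, f ^ n • x = 0 := by
    intro x hx
    obtain ⟨n, hn⟩ := (H48.Glue.mkLinearMap_eq_zero_iff (f := algebraMap R R' f) x).1
      (α.map_eq_zero_iff.1 hx)
    exact ⟨n, by rwa [← map_pow, algebraMap_smul] at hn⟩
  let d : M' × M₁ →ₗ[R] R' ⊗[R] M₁ :=
    (β.restrictScalars R) ∘ₗ LinearMap.fst R M' M₁ - TensorProduct.mk R R' M₁ 1 ∘ₗ LinearMap.snd R M' M₁
  let M := LinearMap.ker d
  have hM : ∀ x y, (x, y) ∈ M ↔ β x = (1 : R') ⊗ₜ[R] y := fun x y => by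
    simp [M, d, sub_eq_zero]
  let p₁ : M →ₗ[R] M' := LinearMap.fst R M' M₁ ∘ₗ M.subtype
  let p₂ : M →ₗ[R] M₁ := LinearMap.snd R M' M₁ ∘ₗ M.subtype
  haveI : IsLocalizedModule (Submonoid.powers f) p₂ := by
    refine ⟨?_, ?_, ?_⟩
    · rintro ⟨_, n, rfl⟩
      rw [Module.End.isUnit_iff]
      exact hfn n
    · intro y
      obtain ⟨n, x, hx⟩ := hβ ((1 : R') ⊗ₜ[R] y)
      exact ⟨⟨⟨(x, f ^ n • y), (hM _ _).2 (by rw [hx, tmul_smul])⟩, H48.Glue.pw f n⟩, rfl⟩
    · rintro ⟨⟨x, y⟩, hxy⟩ ⟨⟨x', y'⟩, hxy'⟩ (h : y = y')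
      obtain ⟨n, hn⟩ := hβ0 (x - x') (by
        rw [map_sub, (hM _ _).1 hxy, (hM _ _).1 hxy', h, sub_self])
      refine ⟨H48.Glue.pw f n, Subtype.ext (Prod.ext ?_ ?_)⟩
      · exact sub_eq_zero.1 ((smul_sub _ _ _).symm.trans hn)
      · exact congrArg (fun t => f ^ n • t) h
  let π : R' ⊗[R] M →ₗ[R'] M' := p₁.liftBaseChange R'
  have hπ : ∀ m : M, π ((1 : R') ⊗ₜ[R] m) = (m : M' × M₁).1 := fun m => by simp [π, p₁]
  have hβπ : ∀ t, β (π t) = p₂.lTensor R' t := by
    intro t
    induction t with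
    | zero => simp
    | tmul r m =>
      rw [show r ⊗ₜ[R] m = r • ((1 : R') ⊗ₜ[R] m) by rw [smul_tmul', smul_eq_mul, mul_one],
        map_smul, map_smul, hπ, (hM _ (m : M' × M₁).2).1 m.2, smul_tmul', smul_tmul',
        smul_eq_mul, mul_one, LinearMap.lTensor_tmul]
      rfl
    | add a b ha hb => simp [ha, hb]
  have hsurj : Function.Surjective π := by
    have key : ∀ z : R' ⊗[R] M₁, ∃ (y : M₁) (t : R' ⊗[R] M), z = (1 : R') ⊗ₜ y + β (π t) := by
      intro z
      induction z with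
      | zero => exact ⟨0, 0, by simp⟩
      | add a b ha hb =>
        obtain ⟨y, t, rfl⟩ := ha
        obtain ⟨y', t', rfl⟩ := hb
        exact ⟨y + y', t + t', by rw [tmul_add, map_add, map_add]; abel⟩
      | tmul r y =>
        obtain ⟨n, x, hx⟩ := hβ ((1 : R') ⊗ₜ[R] y)
        obtain ⟨a, s, rfl⟩ := H48.Glue.exists_approx hq n r
        refine ⟨a • y, s ⊗ₜ[R] (⟨(x, f ^ n • y), (hM _ _).2 (by rw [hx, tmul_smul])⟩ : M), ?_⟩
        rw [hβπ, LinearMap.lTensor_tmul, add_tmul, ← map_pow, H48.Glue.smul_tmul_eq, tmul_smul]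
        congr 1
        · rw [smul_tmul', Algebra.algebraMap_eq_smul_one]
        · show _ = s ⊗ₜ[R] (f ^ n • y)
          rw [tmul_smul]
    intro x
    obtain ⟨y, t, hyt⟩ := key (β x)
    refine ⟨(1 : R') ⊗ₜ[R] (⟨(x - π t, y), (hM _ _).2 (by rw [map_sub, hyt]; abel)⟩ : M) + t, ?_⟩
    rw [map_add, hπ]; exact sub_add_cancel x (π t)
  have hinj : Function.Injective π := by
    rw [← LinearMap.ker_eq_bot, Submodule.eq_bot_iff]
    intro t ht0
    rw [LinearMap.mem_ker] at ht0
    -- `t` is `f`-power torsion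
    obtain ⟨n, hn⟩ : ∃ n : ℕ, f ^ n • t = 0 := by
      have h1 : p₂.lTensor R' t = 0 := by rw [← hβπ, ht0, map_zero]
      let F := TensorProduct.map (LocalizedModule.mkLinearMap (Submonoid.powers f) R') p₂
      have h2 : F t = 0 := by
        have h3 : F = (LocalizedModule.mkLinearMap (Submonoid.powers f) R').rTensor M₁ ∘ₗ p₂.lTensor R' :=
          TensorProduct.ext' fun _ _ => rfl
        rw [h3, LinearMap.comp_apply, h1, map_zero]
      haveI : IsLocalizedModule (Submonoid.powers f) F := inferInstance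
      obtain ⟨⟨_, n, rfl⟩, hn⟩ := (IsLocalizedModule.eq_zero_iff (Submonoid.powers f) F).1 h2
      exact ⟨n, hn⟩
    obtain ⟨m, hm0, rfl⟩ := H48.Glue.exists_torsion_preimage hq ht hn
    have hy : (m : M' × M₁).2 = 0 := (hfn n).1 (by
      simp only [smul_zero]; exact congrArg (fun q : M => (q : M' × M₁).2) hm0)
    have : m = 0 := Subtype.ext (Prod.ext ((hπ m).symm.trans ht0) hy)
    rw [this, tmul_zero]
  refine ⟨M, inferInstance, inferInstance, ?_, LinearEquiv.ofBijective π ⟨hinj, hsurj⟩,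
    IsLocalizedModule.iso (Submonoid.powers f) p₂, ?_⟩
  · refine H48.Glue.isGlueable_of_torsion hq ?_ ?_
    · rintro m ⟨n, hn⟩ h0
      refine Subtype.ext (Prod.ext ((hπ m).symm.trans (by rw [h0, map_zero]; rfl)) ((hfn n).1 ?_))
      simp only [ZeroMemClass.coe_zero, Prod.snd_zero, smul_zero]
      exact congrArg (fun q : M => (q : M' × M₁).2) hn
    · rintro x ⟨n, hn⟩
      obtain ⟨m, hm, hmx⟩ := H48.Glue.exists_torsion_preimage hq ht hn
      exact ⟨m, ⟨n, hm⟩, hmx⟩
  · intro m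
    show β (π ((1 : R') ⊗ₜ[R] m)) = _
    rw [hβπ, LinearMap.lTensor_tmul, LocalizedModule.mkLinearMap_apply, IsLocalizedModule.iso_mk_one]

end Groth.Agent.S2000
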