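import Groth.Statements.S20000
import Groth.Agent.Lib.GaUniRat.Basic
import Mathlib.AlgebraicGeometry.SpreadingOut
import Mathlib.AlgebraicGeometry.FunctionField

set_option autoImplicit false
universe u
open CategoryTheory CategoryTheory.Limits MonoidalCategory CartesianMonoidalCategory MonObj AlgebraicGeometry
open Neron

namespace Groth.Agent.S20000

open CategoryTheory AlgebraicGeometry in
/-- Let `κ` be an arbitrary field and `G`, `G''` smooth connected commutative group schemes of finite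
type over `κ`. Let `q : G → G''` be a homomorphism which is flat and surjective, and `i : 𝔾_a → G` a
homomorphism exhibiting the additive group as the kernel of `q` (so `0 → 𝔾_a → G → G'' → 0` is exact
in the fppf topology). If `G''` is unirational, i.e. admits a dominant `κ`-morphism from a nonempty
open subscheme of an affine space over `κ`, then so does `G`. (The published statement allows the
kernel to be any repeated extension of copies of `𝔾_a`; this row is the case of a single copy, from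
which the general case follows by induction on the length.) -/
theorem result
    (κ : Type u) [Field κ]
    (G G'' : Over (Spec (CommRingCat.of κ))) [GrpObj G] [IsCommMonObj G] [GrpObj G''] [IsCommMonObj G'']
    [Smooth G.hom] [LocallyOfFiniteType G.hom] [QuasiCompact G.hom] [ConnectedSpace G.left]
    [Smooth G''.hom] [LocallyOfFiniteType G''.hom] [QuasiCompact G''.hom] [ConnectedSpace G''.left]
    (q : G ⟶ G'') [IsMonHom q] [Flat q.left] (hq : Function.Surjective q.left.base)
    (i : Red.Ga (Spec (CommRingCat.of κ)) ⟶ G) [IsMonHom i] (hker : AlgGrp.IsKernel i q)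
    (huni : ∃ (n : ℕ) (V : (AffineSpace (ULift.{u} (Fin n)) (Spec (CommRingCat.of κ))).Opens)
        (ψ : (V : Scheme.{u}) ⟶ G''.left),
      (V : Set (AffineSpace (ULift.{u} (Fin n)) (Spec (CommRingCat.of κ)))).Nonempty ∧ DenseRange ψ.base ∧
      ψ ≫ G''.hom = V.ι ≫ (AffineSpace (ULift.{u} (Fin n)) (Spec (CommRingCat.of κ)) ↘ Spec (CommRingCat.of κ))) :
    ∃ (n : ℕ) (V : (AffineSpace (ULift.{u} (Fin n)) (Spec (CommRingCat.of κ))).Opens)
        (ψ : (V : Scheme.{u}) ⟶ G.left),
      (V : Set (AffineSpace (ULift.{u} (Fin n)) (Spec (CommRingCat.of κ)))).Nonempty ∧ DenseRange ψ.base ∧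
      ψ ≫ G.hom = V.ι ≫ (AffineSpace (ULift.{u} (Fin n)) (Spec (CommRingCat.of κ)) ↘ Spec (CommRingCat.of κ)) := by
  obtain ⟨n, V, ψ, hV, hdense, hψ⟩ := huni
  let sV := V.ι ≫ (AffineSpace (ULift.{u} (Fin n)) (Spec (CommRingCat.of κ)) ↘ Spec (CommRingCat.of κ))
  let W : Scheme.{u} := V
  obtain ⟨v₀, hv₀⟩ := hV
  have : Nonempty V := ⟨⟨v₀, hv₀⟩⟩
  have : IsIntegral W := inferInstanceAs (IsIntegral (V : Scheme.{u}))
  let ξ := genericPoint W
  let L : Type u := W.functionField
  let x₀ : Spec (CommRingCat.of L) ⟶ G''.left := W.fromSpecStalk ξ ≫ ψ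
  let j : Spec (CommRingCat.of L) ⟶ Spec (CommRingCat.of κ) := W.fromSpecStalk ξ ≫ sV
  let x : Over.mk j ⟶ G'' := Over.homMk x₀ (by rw [Category.assoc, hψ]; rfl)
  have : Surjective q.left := ⟨hq⟩
  have : Surjective (pullback.snd q.left x₀) := MorphismProperty.pullback_snd (P := @Surjective) _ _ ‹_›
  obtain ⟨pt, -⟩ := (pullback.snd q.left x₀).surjective (IsLocalRing.closedPoint L)
  let B : Type u := (pullback q.left x₀).residueField pt
  let φB : CommRingCat.of L ⟶ CommRingCat.of B :=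
    Spec.preimage ((pullback q.left x₀).fromSpecResidueField pt ≫ pullback.snd q.left x₀)
  let : Algebra L B := φB.hom.toAlgebra
  have hφB : Lib.PHS.Basic.q L B = (pullback q.left x₀).fromSpecResidueField pt ≫ pullback.snd q.left x₀ :=
    Spec.map_preimage _
  let s : Lib.PHS.Basic.P1 B j ⟶ G := Over.homMk ((pullback q.left x₀).fromSpecResidueField pt ≫ pullback.fst q.left x₀) (by
    show _ = Lib.PHS.Basic.q L B ≫ j
    rw [← Over.w q, Category.assoc, pullback.condition_assoc, hφB, Category.assoc]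
    simp only [x₀, j, Category.assoc, hψ]
    rfl)
  obtain ⟨σ, hσ⟩ := Lib.GaUniRat.exists_lift_point (A := L) (B := B) q i hker j x s (by
    ext
    show ((pullback q.left x₀).fromSpecResidueField pt ≫ pullback.fst q.left x₀) ≫ q.left = Lib.PHS.Basic.q L B ≫ x₀
    rw [hφB, Category.assoc, Category.assoc, pullback.condition])
  have : LocallyOfFiniteType (q.left ≫ G''.hom) := by rw [Over.w q]; infer_instance
  have : LocallyOfFiniteType q.left := locallyOfFiniteType_of_comp q.left G''.hom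
  obtain ⟨U, hU, f, -, hf⟩ := spread_out_of_isGermInjective' ψ q.left (x := ξ) σ hσ
  let ιU : (U : Scheme.{u}) ⟶ AffineSpace (ULift.{u} (Fin n)) (Spec (CommRingCat.of κ)) := U.ι ≫ V.ι
  let S := Spec (CommRingCat.of κ)
  let A₁ := AffineSpace (ULift.{u} (Fin (n + 1))) S
  let pr : A₁ ⟶ AffineSpace (ULift.{u} (Fin n)) S :=
    AffineSpace.homOfVector (A₁ ↘ S) fun k => AffineSpace.coord S ⟨k.down.castSucc⟩
  let V' : A₁.Opens := pr ⁻¹ᵁ ιU.opensRange
  let g₀ : (V' : Scheme.{u}) ⟶ U := IsOpenImmersion.lift ιU (V'.ι ≫ pr) (by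
    rintro _ ⟨y, rfl⟩
    exact y.2)
  have hg₀ : g₀ ≫ ιU = V'.ι ≫ pr := IsOpenImmersion.lift_fac _ _ _
  let TV : Over S := Over.mk (V'.ι ≫ A₁ ↘ S)
  have hfG : f ≫ G.hom = ιU ≫ (AffineSpace (ULift.{u} (Fin n)) S ↘ S) := by
    rw [← Over.w q, reassoc_of% hf, hψ]
    simp [ιU, S]
  let P₀ : TV ⟶ G := Over.homMk (g₀ ≫ f) (by
    rw [Category.assoc, hfG, reassoc_of% hg₀, AffineSpace.homOfVector_over]
    rfl)
  let t₀ : TV ⟶ Red.Ga S :=
    Lib.RedPts.Ga.gaPt (X := TV) (V'.ι.appTop (AffineSpace.coord S ⟨Fin.last n⟩))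
  let Z := pullback (U.ι ≫ ψ) q.left
  have key : ∃ h' : Z ⟶ V', h' ≫ (P₀ * (t₀ ≫ i)).left = pullback.snd (U.ι ≫ ψ) q.left := by
    let TZ : Over S := Over.mk (pullback.snd (U.ι ≫ ψ) q.left ≫ G.hom)
    let gZ : TZ ⟶ G := Over.homMk (pullback.snd (U.ι ≫ ψ) q.left) rfl
    let fZ : TZ ⟶ G := Over.homMk (pullback.fst (U.ι ≫ ψ) q.left ≫ f) (by
      show _ = pullback.snd (U.ι ≫ ψ) q.left ≫ G.hom
      rw [← Over.w q, ← pullback.condition_assoc, Category.assoc, reassoc_of% hf, Category.assoc])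
    obtain ⟨t, ht⟩ : ∃ t : TZ ⟶ Red.Ga S, t ≫ i = gZ / fZ := by
      refine ⟨hker.lift (gZ / fZ) (toUnit _) ?_, hker.lift_fst _ _ _⟩
      have e : gZ ≫ q = fZ ≫ q := by
        ext
        show pullback.snd _ _ ≫ q.left = (pullback.fst _ _ ≫ f) ≫ q.left
        rw [Category.assoc, hf, pullback.condition]
      rw [GrpObj.div_comp, e, div_self']
      exact Hom.one_def
    let vec : ULift.{u} (Fin (n + 1)) → Γ(Z, ⊤) := fun k => Fin.snoc (α := fun _ => Γ(Z, ⊤))
      (fun l => (pullback.fst (U.ι ≫ ψ) q.left ≫ ιU).appTop (AffineSpace.coord S ⟨l⟩)) (Red.gaFn t) k.down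
    let h : Z ⟶ A₁ := AffineSpace.homOfVector TZ.hom vec
    have hover : pullback.fst (U.ι ≫ ψ) q.left ≫ ιU ≫ (AffineSpace (ULift.{u} (Fin n)) S ↘ S) = TZ.hom := by
      rw [← hfG, ← Category.assoc]
      exact Over.w fZ
    have hh : h ≫ pr = pullback.fst (U.ι ≫ ψ) q.left ≫ ιU := by
      apply AffineSpace.hom_ext
      · simp only [Category.assoc, pr, AffineSpace.homOfVector_over, h, hover]
        exact AffineSpace.homOfVector_over _ _
      · intro l
        rw [Scheme.Hom.comp_appTop, CommRingCat.comp_apply]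
        simp only [pr, h, AffineSpace.homOfVector_appTop_coord]
        erw [AffineSpace.homOfVector_appTop_coord]
        exact Fin.snoc_castSucc (α := fun _ => Γ(Z, ⊤)) _ _ _
    have hrange : Set.range h ⊆ Set.range V'.ι := by
      rintro _ ⟨z, rfl⟩
      rw [Scheme.Opens.range_ι]
      show pr (h z) ∈ Set.range ιU
      exact ⟨pullback.fst (U.ι ≫ ψ) q.left z,
        by rw [← Scheme.Hom.comp_apply, ← hh, Scheme.Hom.comp_apply]⟩
    let h' : Z ⟶ V' := IsOpenImmersion.lift V'.ι h (by exact hrange)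
    have hh' : h' ≫ V'.ι = h := IsOpenImmersion.lift_fac _ _ _
    let hz : TZ ⟶ TV := Over.homMk h' (by
      show h' ≫ V'.ι ≫ A₁ ↘ S = _
      rw [reassoc_of% hh', AffineSpace.homOfVector_over])
    have hP : hz ≫ P₀ = fZ := by
      ext
      show h' ≫ g₀ ≫ f = pullback.fst _ _ ≫ f
      rw [← Category.assoc]
      congr 1
      rw [← cancel_mono ιU, Category.assoc, hg₀, reassoc_of% hh', hh]
    have ht' : hz ≫ t₀ = t := by
      apply Lib.RedPts.Ga.gaFn_injective
      rw [Lib.RedPts.Ga.gaFn_comp, Lib.RedPts.Ga.gaFn_gaPt]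
      show h'.appTop (V'.ι.appTop _) = _
      rw [← CommRingCat.comp_apply, ← Scheme.Hom.comp_appTop, hh', AffineSpace.homOfVector_appTop_coord]
      exact Fin.snoc_last (α := fun _ => Γ(Z, ⊤)) _ _
    refine ⟨h', ?_⟩
    have e : hz ≫ (P₀ * (t₀ ≫ i)) = gZ := by
      rw [MonObj.comp_mul, hP, ← Category.assoc, ht', ht, mul_comm, div_mul_cancel]
    exact congrArg Over.Hom.left e
  obtain ⟨h', hh'⟩ := key
  refine ⟨n + 1, V', (P₀ * (t₀ ≫ i)).left, ?_, ?_, Over.w (P₀ * (t₀ ≫ i))⟩
  · obtain ⟨g, hg⟩ := hq (ψ ξ)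
    obtain ⟨z, -, -⟩ := Scheme.Pullback.exists_preimage_pullback (f := U.ι ≫ ψ) (g := q.left) ⟨ξ, hU⟩ g hg.symm
    exact ⟨(h' z).1, (h' z).2⟩
  · have : IsLocallyNoetherian G''.left := LocallyOfFiniteType.isLocallyNoetherian G''.hom
    have : LocallyOfFinitePresentation q.left := inferInstance
    have hd : DenseRange (U.ι ≫ ψ) := by
      have hι : DenseRange U.ι := by
        show Dense (Set.range U.ι)
        rw [Scheme.Opens.range_ι]
        exact U.isOpen.dense ⟨ξ, hU⟩
      exact hdense.comp hι ψ.continuous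
    refine Dense.mono ?_ (hd.preimage q.left.isOpenMap)
    rintro g ⟨u', hu'⟩
    obtain ⟨z, -, rfl⟩ := Scheme.Pullback.exists_preimage_pullback (f := U.ι ≫ ψ) (g := q.left) u' g hu'
    exact ⟨h' z, by rw [← Scheme.Hom.comp_apply, hh']⟩

end Groth.Agent.S20000
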