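import Groth.Statements.S20004
import Groth.Agent.Lib.WildAS.Extend
import Mathlib.LinearAlgebra.Dimension.Localization
import Mathlib.RingTheory.Algebraic.Basic
import Mathlib.RingTheory.DedekindDomain.IntegralClosure
import Mathlib.RingTheory.Localization.BaseChange

set_option autoImplicit false
universe u v w
open WildQuot

namespace Groth.Agent.S20004

/-- Let `A` be a complete regular local ring of Krull dimension at least `2` and prime characteristic
`p`; let `k` be a field with `k → A` mapping onto the residue field, such that `k` has no Galois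
extension of degree `p`; let `G` be a group of order `p` acting on `A` by `k`-algebra automorphisms,
ramified precisely at the origin (for every non-maximal prime `P`, the inertia subgroup of `P` is
trivial). Let `R` be a `k`-algebra with an injective structure map `R → A` whose image is fixed by
`G` (so `R ⊆ A^G`), with `A` finite over `R`. Galois extensions of fraction fields are expressed
through automorphism counts: since `A` and `A^G` are normal domains finite over `R`,
`Frac(A^G)/Frac(R)` is Galois exactly when `p` times the number of `k`-algebra automorphisms of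
`A^G` fixing the image of `R` equals the rank `[Frac A : Frac R]` of `A` over `R`, and
`Frac(A)/Frac(R)` is Galois exactly when the number of `R`-algebra automorphisms of `A` equals that
rank. The row: the first equality implies the second. (The published statement assumes `R ⊆ A^G`
finite with `Frac(A^G)/Frac(R)` Galois and concludes that `Frac(A)/Frac(R)` is Galois; here `R` is
taken to contain `k`, as the norm subrings of the source do.) -/
theorem result
    (p : ℕ) [Fact p.Prime] (A : Type u) [CommRing A] [IsRegularLocalRing A] [CharP A p]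
    [IsAdicComplete (IsLocalRing.maximalIdeal A) A] (hdim : 2 ≤ ringKrullDim A)
    (k : Type v) [Field k] [Algebra k A]
    (hk : Function.Surjective (IsLocalRing.residue A ∘ algebraMap k A))
    (hkp : ∀ (L : Type v) [Field L] [Algebra k L], IsGalois k L → Module.finrank k L ≠ p)
    (G : Type w) [Group G] [Finite G] [MulSemiringAction G A] (hcard : Nat.card G = p)
    [SMulCommClass G k A]
    (hram : ∀ P : Ideal A, P.IsPrime → P ≠ IsLocalRing.maximalIdeal A → P.inertia G = ⊥)
    (R : Type v) [CommRing R] [Algebra k R] [Algebra R A] [IsScalarTower k R A] [Module.Finite R A]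
    (hRinj : Function.Injective (algebraMap R A))
    (hRG : ∀ (σ : G) (r : R), σ • algebraMap R A r = algebraMap R A r)
    (hgal : p * Nat.card {φ : FixedPoints.subalgebra k A G ≃ₐ[k] FixedPoints.subalgebra k A G //
        ∀ b : FixedPoints.subalgebra k A G, (b : A) ∈ Set.range (algebraMap R A) → (φ b : A) = b} =
      Module.finrank R A) :
    Nat.card (A ≃ₐ[R] A) = Module.finrank R A := by
  classical
  haveI := Groth.Agent.Lib.Regular.Quotient.isDomain A
  haveI : IsDomain R := hRinj.isDomain (algebraMap R A)
  haveI : FaithfulSMul R A := (faithfulSMul_iff_algebraMap_injective R A).mpr hRinj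
  let B := FixedPoints.subalgebra k A G
  let S := {φ : B ≃ₐ[k] B // ∀ b : B, (b : A) ∈ Set.range (algebraMap R A) → (φ b : A) = b}
  have hfaith : ∀ g : G, (∀ x : A, g • x = x) → g = 1 := by
    intro g hg
    have hne : (⊥ : Ideal A) ≠ IsLocalRing.maximalIdeal A := by
      intro h
      have hf : IsField A := IsLocalRing.isField_iff_maximalIdeal_eq.mpr h.symm
      rw [ringKrullDim_eq_zero_of_isField hf] at hdim
      exact absurd hdim (by decide)
    have := hram ⊥ Ideal.isPrime_bot hne
    rw [← Subgroup.mem_bot, ← this]
    intro x
    rw [hg x, sub_self]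
    exact zero_mem _
  -- the upper bound
  let FR := FractionRing R
  let K := FractionRing A
  letI : Algebra FR K := FractionRing.liftAlgebra R (FractionRing A)
  haveI : Algebra.IsIntegral R A := Algebra.IsIntegral.of_finite R A
  haveI := Groth.Agent.Lib.Regular.UFD.isIntegrallyClosed A
  haveI : IsIntegralClosure A R K := IsIntegralClosure.of_isIntegrallyClosed A R K
  haveI : Algebra.IsAlgebraic FR K := ⟨fun x => by
    obtain ⟨a, d, hd, rfl⟩ := IsFractionRing.div_surjective A x
    have h : ∀ t : A, IsAlgebraic FR (algebraMap A K t) := fun t =>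
      (((Algebra.IsIntegral.isIntegral (R := R) t).map (IsScalarTower.toAlgHom R A K)).tower_top).isAlgebraic
    exact (h a).mul (h d).inv⟩
  haveI : IsLocalization (Algebra.algebraMapSubmonoid A (nonZeroDivisors R)) K :=
    IsIntegralClosure.isLocalization R FR K A
  haveI : IsLocalizedModule (nonZeroDivisors R) (IsScalarTower.toAlgHom R A K).toLinearMap :=
    isLocalizedModule_iff_isLocalization.mpr ‹_›
  have hrank : Module.finrank FR K = Module.finrank R A :=
    (IsLocalization.finrank_eq FR (nonZeroDivisors R) le_rfl).trans
      (IsLocalizedModule.finrank_eq (nonZeroDivisors R) (IsScalarTower.toAlgHom R A K).toLinearMap le_rfl)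
  haveI : Module.Finite FR K := Module.Finite.of_isLocalizedModule (S := nonZeroDivisors R)
    (Rₚ := FR) (IsScalarTower.toAlgHom R A K).toLinearMap
  let up : (A ≃ₐ[R] A) → (K ≃ₐ[FR] K) := IsFractionRing.fieldEquivOfAlgEquivHom FR K
  have hup : Function.Injective up := IsFractionRing.fieldEquivOfAlgEquivHom_injective R A FR K
  refine le_antisymm ?_ ?_
  · rw [← hrank]
    refine le_trans (Nat.card_le_card_of_injective up hup) ?_
    rw [Nat.card_eq_fintype_card]
    exact AlgEquiv.card_le
  · rw [← hgal, ← hcard, ← Nat.card_prod]
    haveI : Finite (A ≃ₐ[R] A) := Finite.of_injective up hup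
    have hext : ∀ φ : S, ∃ ψ : A ≃ₐ[R] A, ∀ b : B, ψ b = (φ.1 b : A) := by
      intro φ
      obtain ⟨ψ, hψ⟩ := Groth.Agent.Lib.WildAS.Extend.exists_extend hcard hdim hk hkp hram φ.1
      refine ⟨AlgEquiv.ofRingEquiv (f := ψ.toRingEquiv) fun r => ?_, hψ⟩
      exact (hψ ⟨algebraMap R A r, fun g => hRG g r⟩).trans (φ.2 _ ⟨r, rfl⟩)
    choose ext hext using hext
    refine Nat.card_le_card_of_injective (fun x : G × S =>
      (ext x.2).trans (AlgEquiv.ofRingEquiv (f := MulSemiringAction.toRingEquiv G A x.1)
        fun r => hRG x.1 r)) ?_
    rintro ⟨g, φ⟩ ⟨g', φ'⟩ h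
    have h1 : ∀ x : A, g • ext φ x = g' • ext φ' x := fun x => AlgEquiv.congr_fun h x
    have hφ : φ = φ' := Subtype.ext (AlgEquiv.ext fun b => Subtype.ext (by
      have := h1 b
      rw [hext, hext, (φ.1 b).2 g, (φ'.1 b).2 g'] at this
      exact this))
    subst hφ
    refine Prod.ext ?_ rfl
    change g = g'
    refine (inv_mul_eq_one.mp (hfaith (g'⁻¹ * g) fun x => ?_)).symm
    obtain ⟨z, rfl⟩ := (ext φ).surjective x
    rw [mul_smul, h1, inv_smul_smul]

end Groth.Agent.S20004
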