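import Groth.Statements.S2001
import Groth.Agent.H48.Glue

set_option autoImplicit false
set_option linter.style.haveILetI false
universe u
open TensorProduct
open EtAlg

namespace Groth.Agent.S2001

/-- Let (R -> R', f) be a glueing pair and M, N R-modules glueable for it. Given an R'-linear map φ' :
R' ⊗_R M -> R' ⊗_R N and an R-linear map φ₁ : M_f -> N_f which induce the same map into (R' ⊗_R N)_f
on elements of M, there is a unique R-linear map ψ : M -> N whose base change to R' is φ' and whose
localization is φ₁. -/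
theorem result (R R' : Type u) [CommRing R] [CommRing R'] [Algebra R R'] (f : R)
    (hRR : EtGlue.IsGlueingPair R R' f) (M N : Type u) [AddCommGroup M] [Module R M] [AddCommGroup N] [Module R N]
    (hM : EtGlue.IsGlueable R R' f M) (hN : EtGlue.IsGlueable R R' f N)
    (φ' : R' ⊗[R] M →ₗ[R'] R' ⊗[R] N)
    (φ₁ : LocalizedModule (Submonoid.powers f) M →ₗ[R] LocalizedModule (Submonoid.powers f) N)
    (hc : ∀ m : M, EtGlue.locOfTensor R R' f N (φ' ((1 : R') ⊗ₜ[R] m)) =
      EtGlue.tensorOfLoc R R' f N (φ₁ (LocalizedModule.mkLinearMap (Submonoid.powers f) M m))) :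
    ∃! ψ : M →ₗ[R] N, ψ.baseChange R' = φ' ∧
      IsLocalizedModule.map (Submonoid.powers f) (LocalizedModule.mkLinearMap (Submonoid.powers f) M)
        (LocalizedModule.mkLinearMap (Submonoid.powers f) N) ψ = φ₁ := by
  have h2 := fun m : M => hN.2 (φ' ((1 : R') ⊗ₜ[R] m))
    (φ₁ (LocalizedModule.mkLinearMap (Submonoid.powers f) M m)) (hc m)
  choose g hg₁ hg₂ using h2
  have huniq : ∀ a b : N, (1 : R') ⊗ₜ[R] a = (1 : R') ⊗ₜ[R] b →
      LocalizedModule.mkLinearMap (Submonoid.powers f) N a =
        LocalizedModule.mkLinearMap (Submonoid.powers f) N b → a = b :=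
    fun a b h1 h2 => hN.1 (Prod.ext h1 h2)
  let ψ : M →ₗ[R] N :=
    { toFun := g
      map_add' := fun a b => huniq _ _
        (by rw [tmul_add, hg₁, hg₁, hg₁, tmul_add, map_add])
        (by rw [map_add, hg₂, hg₂, hg₂, map_add, map_add])
      map_smul' := fun c a => huniq _ _
        (by rw [RingHom.id_apply, tmul_smul, hg₁, hg₁, tmul_smul, LinearMap.map_smul_of_tower])
        (by rw [RingHom.id_apply, map_smul, hg₂, hg₂, map_smul, map_smul]) }
  refine ⟨ψ, ⟨?_, ?_⟩, ?_⟩
  · refine TensorProduct.AlgebraTensorModule.ext fun r m => ?_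
    rw [LinearMap.baseChange_tmul, show r ⊗ₜ[R] m = r • ((1 : R') ⊗ₜ[R] m) by
      rw [smul_tmul', smul_eq_mul, mul_one], map_smul, ← hg₁, smul_tmul', smul_eq_mul, mul_one]
    rfl
  · refine IsLocalizedModule.linearMap_ext (Submonoid.powers f)
      (LocalizedModule.mkLinearMap (Submonoid.powers f) M)
      (LocalizedModule.mkLinearMap (Submonoid.powers f) N) (LinearMap.ext fun m => ?_)
    rw [LinearMap.comp_apply, IsLocalizedModule.map_apply, LinearMap.comp_apply, ← hg₂ m]
    rfl
  · rintro ψ' ⟨h1, h2⟩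
    refine LinearMap.ext fun m => huniq _ _ ?_ ?_
    · show _ = (1 : R') ⊗ₜ[R] g m
      rw [hg₁, ← h1, LinearMap.baseChange_tmul]
    · show _ = LocalizedModule.mkLinearMap (Submonoid.powers f) N (g m)
      rw [hg₂, ← h2, IsLocalizedModule.map_apply]

end Groth.Agent.S2001
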