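import Groth.Statements.S20012
import Groth.Agent.H69.IdealLP
import Groth.Agent.H69.ImageSystem
import Groth.Agent.Lib.Lim.Approx.Rel
import Groth.Agent.Lib.AlmostBlowUp.Basic
-- import your own Groth.Agent.* helpers here

set_option autoImplicit false
universe u
open CategoryTheory CategoryTheory.Limits AlgebraicGeometry TopologicalSpace
open ModPair Opposite Groth.Agent.Lib.Lim.Approx Groth.Agent.Lib.Lim Groth.Agent.Lib

namespace Groth.Agent.S20012
set_option backward.isDefEq.respectTransparency false

/-- Let (S, I_S) be a modulus pair — a scheme with the quasi-coherent ideal sheaf of an effective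
Cartier divisor — with S quasi-compact and quasi-separated, and let (X, I_X) be a modulus pair with
an ambient morphism f : X ⟶ S (modulus condition I_X ≤ I_S.comap f) which is quasi-compact and
separated. Then (X, I_X) is a limit of finite-type S-pairs along affine, minimal,
scheme-theoretically dominant transitions: there are a cofiltered system D of S-schemes with limit X
(as an S-scheme) and quasi-coherent ideal sheaves J_i of effective Cartier divisors on its members
such that every X_i ⟶ S is separated and of finite type and satisfies the modulus condition J_i ≥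
I_S pulled back, every transition morphism is affine, minimal (J_i is the pull-back of J_j) and
scheme-theoretically dominant, and I_X is the pull-back of J_i along the projection for every i.
(The full faithfulness half of the published statement is the hom formula for such systems and is
not part of this row.) -/
theorem result
    {X S : Scheme.{u}} [CompactSpace S] [QuasiSeparatedSpace S]
    (IS : S.IdealSheafData) (hS : BlowUp.IsEffCartierIdeal IS)
    (IX : X.IdealSheafData) (hX : BlowUp.IsEffCartierIdeal IX)
    (f : X ⟶ S) [QuasiCompact f] [IsSeparated f] (hf : ModPair.IsAmbient IX IS f) :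
    ∃ (I : Type u) (_ : SmallCategory I) (_ : IsCofiltered I) (D : I ⥤ Over S) (c : Cone D)
      (_ : IsLimit c) (e : c.pt ≅ Over.mk f) (J : ∀ i, (D.obj i).left.IdealSheafData),
      (∀ i, BlowUp.IsEffCartierIdeal (J i)) ∧
      (∀ i, LocallyOfFiniteType (D.obj i).hom ∧ QuasiCompact (D.obj i).hom ∧ IsSeparated (D.obj i).hom) ∧
      (∀ i, ModPair.IsAmbient (J i) IS (D.obj i).hom) ∧
      (∀ (i j : I) (t : i ⟶ j), IsAffineHom (D.map t).left ∧ ModPair.IsMinimal (J i) (J j) (D.map t).left ∧
          IsSchemeTheoreticallyDominant (D.map t).left) ∧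
      (∀ i, IX = (J i).comap (e.inv.left ≫ (c.π.app i).left)) := by
  classical
  have : CompactSpace X := QuasiCompact.compactSpace_of_compactSpace f
  have : QuasiSeparatedSpace X := quasiSeparatedSpace_of_quasiSeparated f
  obtain ⟨R⟩ := Rel.exists_relApprox f
  obtain ⟨i₀⟩ := IsCofiltered.nonempty (C := R.Kᵒᵖ)
  have : IsSeparated (R.cone.π.app i₀ ≫ R.t.app i₀) := by rw [R.w]; infer_instance
  obtain ⟨k₀, hk₀⟩ := Valuative.exists_isSeparated R.isLimit R.t i₀
  let F := Over.forget k₀
  let D₀ := F ⋙ R.D
  let c₀ : Cone D₀ := R.cone.whisker F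
  have hc₀ : IsLimit c₀ := (Functor.Initial.isLimitWhiskerEquiv F R.cone).symm R.isLimit
  have : ∀ {i j : Over k₀} (a : i ⟶ j), IsAffineHom (D₀.map a) := fun a => R.affine _
  have hw : ∀ {i j : R.Kᵒᵖ} (a : i ⟶ j), R.D.map a ≫ R.t.app j = R.t.app i :=
    fun a => (R.t.naturality a).trans (Category.comp_id _)
  let E := H69.ImageSystem.diagram c₀
  let cE := H69.ImageSystem.cone c₀
  have hcE : IsLimit cE := H69.ImageSystem.isLimitCone c₀ hc₀
  let tE : E ⟶ (Functor.const _).obj S :=
    H69.ImageSystem.incl c₀ ≫ Functor.whiskerLeft F R.t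
  have hwE : ∀ {i j : Over k₀} (a : i ⟶ j), E.map a ≫ tE.app j = tE.app i :=
    fun a => (tE.naturality a).trans (Category.comp_id _)
  have hfE : ∀ j, cE.π.app j ≫ tE.app j = f := fun j => by
    show (R.π.app j.left).toImage ≫ (R.π.app j.left).imageι ≫ R.t.app j.left = f
    rw [Scheme.Hom.toImage_imageι_assoc]
    exact R.w _
  have hsep : ∀ j : Over k₀, IsSeparated (R.t.app j.left) := fun j => by
    rw [← hw j.hom]; infer_instance
  have hft : ∀ j : Over k₀, LocallyOfFiniteType (tE.app j) ∧ QuasiCompact (tE.app j) ∧
      IsSeparated (tE.app j) := fun j => by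
    have := hsep j
    show LocallyOfFiniteType ((R.π.app j.left).imageι ≫ R.t.app j.left) ∧
      QuasiCompact ((R.π.app j.left).imageι ≫ R.t.app j.left) ∧
      IsSeparated ((R.π.app j.left).imageι ≫ R.t.app j.left)
    exact ⟨inferInstance, inferInstance, inferInstance⟩
  have : ∀ j, CompactSpace (E.obj j) := fun j =>
    have := (hft j).2.1
    QuasiCompact.compactSpace_of_compactSpace (show E.obj j ⟶ S from tE.app j)
  have : ∀ j, QuasiSeparatedSpace (E.obj j) := fun j =>
    have := (hft j).2.2
    quasiSeparatedSpace_of_quasiSeparated (show E.obj j ⟶ S from tE.app j)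
  have hXlp : ∀ x : X, ∃ U : X.affineOpens, x ∈ U.1 ∧
      ∃ g : Γ(X, U.1), IX.ideal U = Ideal.span {g} := fun x => by
    obtain ⟨U, hx, g, -, hg⟩ := hX x
    exact ⟨U, hx, g, hg⟩
  obtain ⟨k₁, J₀, hfg, hlp, hJ₀⟩ := H69.IdealLP.exists_locPrincipal hcE IX hXlp
  obtain ⟨k₂, a, ha⟩ := H69.IdealStage.exists_comap_le_comap hcE J₀
    (IS.comap (tE.app k₁)) hfg (by
      rw [hJ₀, ← Scheme.IdealSheafData.comap_comp]
      exact hf.trans_eq (congrArg IS.comap (hfE k₁).symm))
  rw [← Scheme.IdealSheafData.comap_comp, hwE a] at ha
  let G := Over.forget k₂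
  let DS : Over k₂ ⥤ Over S :=
    { obj := fun i => Over.mk (tE.app i.left)
      map := fun b => Over.homMk (E.map b.left) (hwE b.left)
      map_id := fun i => by
        ext
        exact E.map_id _
      map_comp := fun b b' => by
        ext
        exact E.map_comp _ _ }
  let cS : Cone DS :=
    { pt := Over.mk f
      π :=
        { app := fun i => Over.homMk (cE.π.app i.left) (hfE i.left)
          naturality := fun i j b => by
            ext
            exact cE.π.naturality b.left } }
  have hcS : IsLimit cS := by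
    have : IsConnected (Over k₂) := IsCofiltered.isConnected _
    exact isLimitOfReflects (Over.forget S)
      (IsLimit.ofIsoLimit ((Functor.Initial.isLimitWhiskerEquiv G cE).symm hcE)
        (Cone.ext (Iso.refl _) fun k => (Category.id_comp _).symm))
  let ai : ∀ i : Over k₂, i.left ⟶ k₁ := fun i => i.hom ≫ a
  let J : ∀ i : Over k₂, (E.obj i.left).IdealSheafData := fun i => J₀.comap (E.map (ai i))
  have hJX : ∀ i, (J i).comap (cE.π.app i.left) = IX := fun i => by
    rw [← Scheme.IdealSheafData.comap_comp, cE.w]
    exact hJ₀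
  have hJeff : ∀ i, BlowUp.IsEffCartierIdeal (J i) := fun i => by
    have : IsSchemeTheoreticallyDominant (_root_.ModPair.interior (J i)).ι := by
      have hd := H69.ImageSystem.std_π c₀ hc₀ i.left
      have := Lib.ModPair.std_interior hX
      have hr : Set.range ((_root_.ModPair.interior IX).ι ≫ cE.π.app i.left) ⊆
          Set.range (_root_.ModPair.interior (J i)).ι := by
        rintro _ ⟨x, rfl⟩
        rw [Scheme.Opens.range_ι]
        obtain ⟨x, hx⟩ := x
        have h := Lib.ModPair.interior_comap (cE.π.app i.left) (J i)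
        rw [hJX i] at h
        exact (congrArg (x ∈ ·) h).mp hx
      refine ⟨le_bot_iff.mp ?_⟩
      have h := (IsOpenImmersion.lift _ _ hr).le_ker_comp (_root_.ModPair.interior (J i)).ι
      rw [IsOpenImmersion.lift_fac] at h
      refine h.trans (le_of_eq ?_)
      rw [Scheme.Hom.ker_comp, Scheme.Hom.ker_eq_bot, Scheme.IdealSheafData.map_bot]
      exact hd.ker_eq_bot
    exact Lib.ModPair.effCartier_of_std fun x =>
      AlmostBlowUp.Basic.isLocPrincipal_comap (E.map (ai i)) hlp x
  refine ⟨Over k₂, inferInstance, inferInstance, DS, cS, hcS, Iso.refl _, J, hJeff,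
    fun i => hft i.left, fun i => ?_, fun i j b => ⟨?_, ?_, ?_⟩, fun i => ?_⟩
  · show J₀.comap (E.map (ai i)) ≤ IS.comap (tE.app i.left)
    rw [← hwE i.hom, Scheme.IdealSheafData.comap_comp]
    show J₀.comap (E.map (i.hom ≫ a)) ≤ _
    rw [E.map_comp, Scheme.IdealSheafData.comap_comp]
    exact (Scheme.IdealSheafData.map_gc (E.map i.hom)).monotone_l ha
  · exact H69.ImageSystem.isAffineHom_map c₀ b.left
  · show J₀.comap (E.map (ai i)) = (J₀.comap (E.map (ai j))).comap (E.map b.left)
    rw [← Scheme.IdealSheafData.comap_comp, ← E.map_comp]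
    congr 2
    exact (Over.w b ▸ (Category.assoc b.left j.hom a)).symm ▸ rfl
  · exact H69.ImageSystem.std_map c₀ hc₀ b.left
  · show IX = (J i).comap (𝟙 X ≫ cE.π.app i.left)
    rw [Category.id_comp]
    exact (hJX i).symm

end Groth.Agent.S20012
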