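import Groth.Statements.S20016
import Groth.Agent.Lib.ModPair.Basic
import Mathlib.RingTheory.Smooth.IntegralClosure
import Mathlib.AlgebraicGeometry.Morphisms.Etale
import Mathlib.RingTheory.Localization.BaseChange

set_option autoImplicit false
universe u
open CategoryTheory AlgebraicGeometry TopologicalSpace Opposite
open ModPair

namespace Groth.Agent.S20016
open TensorProduct in
theorem mem_range_of_isIntegral {A S Af Sf : Type u} [CommRing A] [CommRing S] [CommRing Af]
    [CommRing Sf] [Algebra A S] [Algebra A Af] [Algebra S Sf] [Algebra.Smooth A S] (f : A)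
    [IsLocalization.Away f Af] [IsLocalization.Away (algebraMap A S f) Sf]
    (hA : ∀ b : Af, IsIntegral A b → b ∈ Set.range (algebraMap A Af)) {t : Sf}
    (ht : IsIntegral S t) : t ∈ Set.range (algebraMap S Sf) := by
  let e : S ⊗[A] Af ≃ₐ[S] Sf :=
    IsLocalization.algEquiv (Submonoid.powers (algebraMap A S f)) _ _
  obtain ⟨x, hx⟩ := (TensorProduct.toIntegralClosure_bijective_of_smooth (R := A) (S := S)
    (B := Af)).2 ⟨e.symm t, ht.map e.symm.toAlgHom⟩
  suffices h : ∀ z, (TensorProduct.toIntegralClosure A S Af z : S ⊗[A] Af) ∈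
      Set.range (algebraMap S (S ⊗[A] Af)) by
    obtain ⟨r, hr⟩ := h x
    rw [hx] at hr
    refine ⟨r, ?_⟩
    rw [← e.commutes r, hr, AlgEquiv.apply_symm_apply]
  intro z
  induction z with
  | zero => exact ⟨0, by simp⟩
  | add a b ha hb =>
    obtain ⟨r, hr⟩ := ha
    obtain ⟨r', hr'⟩ := hb
    exact ⟨r + r', by rw [map_add, map_add, hr, hr']; rfl⟩
  | tmul s b =>
    obtain ⟨a, ha⟩ := hA b.1 b.2
    refine ⟨a • s, ?_⟩
    change _ = s ⊗ₜ[A] (b : Af)
    rw [← ha, Algebra.algebraMap_eq_smul_one a, TensorProduct.tmul_smul, TensorProduct.smul_tmul']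
    rfl

theorem inj_res {Y : Scheme.{u}} {J : Y.IdealSheafData} (hJ : BlowUp.IsEffCartierIdeal J)
    {W W' : Y.Opens} (h : W' ≤ W) (hW : W ⊓ ModPair.interior J ≤ W') (a b : Γ(Y, W))
    (he : Y.presheaf.map (homOfLE h).op a = Y.presheaf.map (homOfLE h).op b) : a = b := by
  rw [← sub_eq_zero]
  refine Lib.Ideal.EffCartier.eq_zero_of_germ_eq_zero_off hJ _ fun x hx hxs => ?_
  rw [map_sub, sub_eq_zero, ← Y.presheaf.germ_res_apply (homOfLE h) x (hW ⟨hx, hxs⟩) a, he,
    Y.presheaf.germ_res_apply]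


/-- Let (X, I_X) be a modulus pair — a scheme X with the quasi-coherent ideal sheaf I_X of an effective
Cartier divisor — with interior X° (the open complement of the support of I_X), and suppose O_X is
integrally closed in O_{X°}: for every affine open U of X, every section of O_X over U ∩ X° which is
integral over Γ(U, O_X) along the restriction map is the restriction of a section over U. Let g : Y
⟶ X be an étale morphism and Y° = g⁻¹(X°). Then O_Y is integrally closed in O_{Y°}: for every affine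
open V of Y, every section of O_Y over V ∩ Y° which is integral over Γ(V, O_Y) along the restriction
map is the restriction of a section over V. (The text does not spell out the phrase integrally
closed for sheaves; it is rendered here affine-locally through restriction maps.) -/
theorem result {X Y : Scheme.{u}}
    (IX : X.IdealSheafData) (hX : BlowUp.IsEffCartierIdeal IX)
    (hint : ∀ U ∈ X.affineOpens, ∀ s : Γ(X, U ⊓ ModPair.interior IX),
      (X.presheaf.map (homOfLE (inf_le_left : U ⊓ ModPair.interior IX ≤ U)).op).hom.IsIntegralElem s →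
        s ∈ Set.range (X.presheaf.map (homOfLE (inf_le_left : U ⊓ ModPair.interior IX ≤ U)).op).hom)
    (g : Y ⟶ X) [Etale g] :
    ∀ V ∈ Y.affineOpens, ∀ t : Γ(Y, V ⊓ g ⁻¹ᵁ ModPair.interior IX),
      (Y.presheaf.map (homOfLE (inf_le_left : V ⊓ g ⁻¹ᵁ ModPair.interior IX ≤ V)).op).hom.IsIntegralElem t →
        t ∈ Set.range (Y.presheaf.map (homOfLE (inf_le_left : V ⊓ g ⁻¹ᵁ ModPair.interior IX ≤ V)).op).hom := by
  intro V hV t ht
  have hJ := Lib.Ideal.EffCartier.isEffCartier_comap_of_flat g hX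
  have hint' := Lib.ModPair.interior_comap g IX
  let O := ModPair.interior IX
  have key : ∀ y : V, ∃ (W : Y.Opens) (hW : W ≤ V) (_ : y.1 ∈ W) (s : Γ(Y, W)),
      Y.presheaf.map (homOfLE (inf_le_left : W ⊓ g ⁻¹ᵁ O ≤ W)).op s =
        Y.presheaf.map (homOfLE (inf_le_inf_right (g ⁻¹ᵁ O) hW)).op t := by
    intro y
    obtain ⟨U, hyU, f, hf, hIf⟩ := hX (g y.1)
    obtain ⟨W, hW, hyW, hWle⟩ := exists_isAffineOpen_mem_and_subset
      (show y.1 ∈ V ⊓ g ⁻¹ᵁ U.1 from ⟨y.2, hyU⟩)
    have hWV : W ≤ V := fun z hz => (hWle hz).1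
    have hWU : W ≤ g ⁻¹ᵁ U.1 := fun z hz => (hWle hz).2
    refine ⟨W, hWV, hyW, ?_⟩
    let φ := g.appLE U.1 W hWU
    have hbase : U.1 ⊓ O = X.basicOpen f := by
      ext x
      constructor
      · rintro ⟨hxU, hxO⟩
        exact (X.mem_basicOpen f x hxU).2 (Lib.ModPair.isUnit_germ_gen hIf hxU hxO)
      · intro hx
        refine ⟨X.basicOpen_le f hx, fun hs => ?_⟩
        exact (X.mem_zeroLocus_iff _ _).mp
          ((Scheme.IdealSheafData.mem_support_iff_of_mem (X.basicOpen_le f hx)).mp hs) f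
          (hIf ▸ Ideal.mem_span_singleton_self f) hx
    have hbase' : W ⊓ g ⁻¹ᵁ O = Y.basicOpen (φ.hom f) := by
      rw [Scheme.basicOpen_appLE, ← hbase]
      ext z
      exact ⟨fun h => ⟨h.1, hWU h.1, h.2⟩, fun h => ⟨h.1, h.2.2⟩⟩
    letI : Algebra Γ(X, U.1) Γ(Y, W) := φ.hom.toAlgebra
    letI : Algebra Γ(X, U.1) Γ(X, U.1 ⊓ O) :=
      (X.presheaf.map (homOfLE (inf_le_left : U.1 ⊓ O ≤ U.1)).op).hom.toAlgebra
    letI : Algebra Γ(Y, W) Γ(Y, W ⊓ g ⁻¹ᵁ O) :=
      (Y.presheaf.map (homOfLE (inf_le_left : W ⊓ g ⁻¹ᵁ O ≤ W)).op).hom.toAlgebra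
    haveI : IsLocalization.Away f Γ(X, U.1 ⊓ O) :=
      U.2.isLocalization_of_eq_basicOpen f (homOfLE inf_le_left) hbase
    haveI : IsLocalization.Away (algebraMap Γ(X, U.1) Γ(Y, W) f) Γ(Y, W ⊓ g ⁻¹ᵁ O) :=
      hW.isLocalization_of_eq_basicOpen _ (homOfLE inf_le_left) hbase'
    have het : φ.hom.Etale := HasRingHomProperty.appLE @Etale g inferInstance U ⟨W, hW⟩ hWU
    haveI : Algebra.Etale Γ(X, U.1) Γ(Y, W) := het
    obtain ⟨s, hs⟩ := mem_range_of_isIntegral f (fun b hb => hint U.1 U.2 b hb)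
      (t := Y.presheaf.map (homOfLE (inf_le_inf_right (g ⁻¹ᵁ O) hWV)).op t) (S := Γ(Y, W)) (by
        obtain ⟨p, hp, hp0⟩ := ht
        refine ⟨p.map (Y.presheaf.map (homOfLE hWV).op).hom, hp.map _, ?_⟩
        have h2 := congrArg (Y.presheaf.map (homOfLE (inf_le_inf_right (g ⁻¹ᵁ O) hWV)).op).hom hp0
        rw [Polynomial.hom_eval₂, map_zero] at h2
        rw [Polynomial.eval₂_map]
        refine Eq.trans ?_ h2
        congr 1
        rw [RingHom.algebraMap_toAlgebra, ← CommRingCat.hom_comp, ← CommRingCat.hom_comp,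
          ← Functor.map_comp, ← Functor.map_comp]
        rfl)
    exact ⟨s, hs⟩
  choose W hW hyW s hs using key
  have hcov : V ≤ iSup W := fun y hy => TopologicalSpace.Opens.mem_iSup.2 ⟨⟨y, hy⟩, hyW ⟨y, hy⟩⟩
  obtain ⟨gl, hgl, -⟩ := TopCat.Sheaf.existsUnique_gluing' Y.sheaf W V (fun y => homOfLE (hW y)) hcov s
    (fun a b => by
      refine inj_res hJ (inf_le_left : W a ⊓ W b ⊓ g ⁻¹ᵁ O ≤ W a ⊓ W b) (by rw [hint']) _ _ ?_
      have ha := congrArg (Y.presheaf.map (homOfLE (inf_le_inf_right (g ⁻¹ᵁ O)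
        (inf_le_left : W a ⊓ W b ≤ W a))).op).hom (hs a)
      have hb := congrArg (Y.presheaf.map (homOfLE (inf_le_inf_right (g ⁻¹ᵁ O)
        (inf_le_right : W a ⊓ W b ≤ W b))).op).hom (hs b)
      change Y.presheaf.map _ (Y.presheaf.map (homOfLE inf_le_left).op (s a)) = Y.presheaf.map _ (Y.presheaf.map (homOfLE inf_le_right).op (s b))
      simp only [← CommRingCat.comp_apply, ← Functor.map_comp] at ha hb ⊢
      exact ha.trans hb.symm)
  refine ⟨gl, TopCat.Presheaf.section_ext Y.sheaf _ _ _ fun x hx => ?_⟩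
  obtain ⟨a, ha⟩ := TopologicalSpace.Opens.mem_iSup.1 (hcov hx.1)
  have hxa : x ∈ W a ⊓ g ⁻¹ᵁ O := ⟨ha, hx.2⟩
  have h1 := congrArg (Y.presheaf.germ (W a ⊓ g ⁻¹ᵁ O) x hxa) (hs a)
  rw [← hgl a] at h1
  change Y.presheaf.germ _ x hxa (Y.presheaf.map (homOfLE _).op
      (Y.presheaf.map (homOfLE (hW a)).op gl)) = _ at h1
  rw [TopCat.Presheaf.germ_res_apply, TopCat.Presheaf.germ_res_apply,
    TopCat.Presheaf.germ_res_apply] at h1
  exact (TopCat.Presheaf.germ_res_apply _ _ _ _ _).trans h1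

end Groth.Agent.S20016
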