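import Groth.Statements.S20017
import Groth.Agent.Lib.TorsorSch.Classes
import Groth.Agent.Lib.TorsorSch.ExtFinite

set_option autoImplicit false
universe u
open CategoryTheory AlgebraicGeometry
open NonAbH1

namespace Groth.Agent.S20017

/-- Let X be a normal integral scheme (integral, with every local ring integrally closed), G a group
scheme over X whose structure morphism is finite and flat, and U ⊆ X a dense open subscheme. Then
the restriction map H¹(X, G) → H¹(U, G|_U) on classes of fppf G-torsors — X-schemes with a G-action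
which are pseudo-torsors and acquire sections on the members of some fppf covering family, up to
equivariant isomorphism — given by base change along the open immersion U → X, is injective. (G is
not assumed commutative; injectivity is that of a map of pointed sets.) -/
theorem result
    (X : Scheme.{u}) [AlgebraicGeometry.IsIntegral X] (hX : Pi1.IsNormalScheme X)
    (G : Over X) [GrpObj G] [IsFinite G.hom] [Flat G.hom]
    (U : X.Opens) (hU : Dense (U : Set X)) :
    Function.Injective (NonAbH1.H1Sch.bcMap U.ι G Scheme.fppfPrecoverage) := by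
  intro c c' hcc
  obtain ⟨P, rfl⟩ := Quot.exists_rep c
  obtain ⟨P', rfl⟩ := Quot.exists_rep c'
  obtain ⟨e⟩ := (Groth.Agent.Lib.TorsorSch.Classes.cl_eq_iff (P.bc U.ι) (P'.bc U.ι)).mp hcc
  obtain ⟨h, hh⟩ := Groth.Agent.Lib.TorsorSch.Ext.exists_equivariantOver U.ι e
  have hne : Nonempty (U : Scheme.{u}) := by
    obtain ⟨x, hx⟩ := hU.nonempty
    exact ⟨⟨x, hx⟩⟩
  obtain ⟨d, -, hd⟩ := Groth.Agent.Lib.TorsorSch.RatSection.exists_fac_fromSpecStalk U.ι
  let v : Groth.Agent.Lib.TorsorSch.Ext.genOver X ⟶ Over.mk U.ι := Over.homMk d hd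
  have hK := Scheme.fppfPrecoverage_le_fpqcPrecoverage
  exact Quot.sound (Groth.Agent.Lib.TorsorSch.ExtFinite.nonempty_equivIso hX
    (Groth.Agent.Lib.TorsorSch.Descent.isTorsorFor_mono hK P.isTorsor)
    (Groth.Agent.Lib.TorsorSch.Descent.isTorsorFor_mono hK P'.isTorsor) (hh.comp v))

end Groth.Agent.S20017
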