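import Groth.Statements.S20018
import Mathlib.RingTheory.PowerSeries.Trunc

set_option autoImplicit false
open CAlg

namespace Groth.Agent.S20018

open PowerSeries in
/-- Product expansion of big Witt vectors: let R be a commutative ring and x ∈ 1 + tR[[t]] a formal
power series with constant term 1. Then x can be written uniquely as an infinite product ∏_{i ≥ 1}
(1 - α_i t^i) with α_i ∈ R. The infinite product is expressed through its truncations: there is a
unique sequence α : ℕ → R (α i standing for the coefficient attached to t^{i+1}) such that for every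
N the series x and the finite product ∏_{i=0}^{N} (1 - α_i t^{i+1}) agree modulo t^{N+2}. -/
theorem result
    (R : Type*) [CommRing R] (x : PowerSeries R) (hx : PowerSeries.constantCoeff x = 1) :
    ∃! α : ℕ → R, ∀ N : ℕ,
      PowerSeries.trunc (N + 2) x =
        PowerSeries.trunc (N + 2) (∏ i ∈ Finset.range (N + 1),
          (1 - PowerSeries.C (α i) * PowerSeries.X ^ (i + 1) : PowerSeries R)) := by
  classical
  have hcoeff : ∀ (P : PowerSeries R) (c : R) (n j : ℕ),
      coeff j (P * (1 - C c * X ^ (n + 1))) =
        coeff j P - (if n + 1 ≤ j then c * coeff (j - (n + 1)) P else 0) := by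
    intro P c n j
    rw [mul_sub, mul_one, map_sub, ← mul_assoc, mul_comm P (C c), mul_assoc, coeff_C_mul,
      coeff_mul_X_pow']
    split_ifs <;> simp
  let P : ℕ → PowerSeries R := fun n => Nat.rec 1
    (fun n Q => Q * (1 - C (coeff (n + 1) Q - coeff (n + 1) x) * X ^ (n + 1))) n
  let α : ℕ → R := fun n => coeff (n + 1) (P n) - coeff (n + 1) x
  have hP : ∀ n, P n = ∏ i ∈ Finset.range n, (1 - C (α i) * X ^ (i + 1)) := by
    intro n
    induction n with
    | zero => simp [P]
    | succ n ih => rw [Finset.prod_range_succ, ← ih]
  have hprod0 : ∀ (β : ℕ → R) (n : ℕ),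
      coeff 0 (∏ i ∈ Finset.range n, (1 - C (β i) * X ^ (i + 1))) = 1 := by
    intro β n
    simp [coeff_zero_eq_constantCoeff_apply, map_prod]
  have hinv : ∀ n, ∀ j ≤ n, coeff j (P n) = coeff j x := by
    intro n
    induction n with
    | zero =>
      intro j hj
      obtain rfl := Nat.le_zero.mp hj
      simp [P, hx, coeff_zero_eq_constantCoeff_apply]
    | succ n ih =>
      intro j hj
      change coeff j (P n * (1 - C (α n) * X ^ (n + 1))) = _
      rw [hcoeff]
      rcases Nat.lt_or_ge j (n + 1) with h | h
      · rw [if_neg (by omega), sub_zero, ih j (by omega)]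
      · obtain rfl : j = n + 1 := by omega
        rw [if_pos le_rfl, Nat.sub_self, hP n, hprod0, mul_one, ← hP n]
        simp [α]
  have htr : ∀ (N : ℕ) (y : PowerSeries R),
      trunc (N + 2) x = trunc (N + 2) y ↔ ∀ j ≤ N + 1, coeff j x = coeff j y := by
    intro N y
    constructor
    · intro h j hj
      have h' := congrArg (fun p => Polynomial.coeff p j) h
      simpa [coeff_trunc, show j < N + 2 by omega] using h'
    · intro h
      ext j
      simp only [coeff_trunc]
      split_ifs with hj
      · exact h j (by omega)
      · rfl
  refine ⟨α, fun N => (htr N _).mpr fun j hj => ?_, fun β hβ => ?_⟩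
  · rw [← hP, hinv (N + 1) j hj]
  · funext n
    induction n using Nat.strong_induction_on with
    | h n ih =>
      have h := (htr n _).mp (hβ n) (n + 1) le_rfl
      rw [Finset.prod_range_succ, hcoeff, if_pos le_rfl, Nat.sub_self, hprod0, mul_one,
        Finset.prod_congr rfl (fun i hi => by rw [ih i (Finset.mem_range.mp hi)]), ← hP] at h
      show β n = coeff (n + 1) (P n) - coeff (n + 1) x
      rw [h, sub_sub_cancel]

end Groth.Agent.S20018
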