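import Groth.Statements.S20019
import Groth.Agent.H66.CharFinite
import Groth.Agent.S16480
import Mathlib.Analysis.Complex.Polynomial.Basic

set_option autoImplicit false
open scoped TensorProduct
open HopfRep

namespace Groth.Agent.S20019

theorem chars_eq (B : Type) [CommRing B] [HopfAlgebra ℂ B] :
    Set.range (fun p : (Σ d : ℕ, HopfRep.Comod ℂ B (Fin d → ℂ)) =>
        ∑ i : Fin p.1, TensorProduct.lid ℂ B (LinearMap.rTensor B (LinearMap.proj i)
          (@HopfRep.Comod.coact ℂ B _ _ _ _ (Fin p.1 → ℂ) _ _ p.2 (Pi.single i 1)))) =
      H66.CharFinite.chars ℂ B := by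
  ext x
  constructor
  · rintro ⟨⟨d, c⟩, rfl⟩
    letI := c
    refine ⟨d, H66.MatComod.ofBasis (A := B) (Pi.basisFun ℂ (Fin d)), H66.MatComod.isMat_ofBasis _, ?_⟩
    refine Finset.sum_congr rfl fun i _ => ?_
    simp only [Matrix.diag_apply, H66.MatComod.ofBasis, H66.Coeff.coeff_apply, Pi.basisFun_apply]
    rfl
  · rintro ⟨d, Q, hQ, rfl⟩
    refine ⟨⟨d, H66.MatComod.comod hQ⟩, ?_⟩
    refine Finset.sum_congr rfl fun i _ => ?_
    change TensorProduct.lid ℂ B (LinearMap.rTensor B (LinearMap.proj i)
      (H66.MatComod.coactFun Q (Pi.single i 1))) = Q i i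
    rw [H66.MatComod.coactFun_single, map_sum, map_sum, Finset.sum_eq_single i]
    · simp
    · intro j _ hj
      simp [hj.symm]
    · simp


/-- Let A → B be a surjective homomorphism of finitely generated commutative Hopf algebras over the
complex numbers, that is a closed embedding H ↪ G of complex linear algebraic groups with G = Spec A
and H = Spec B. For a comodule structure on the coordinate space ℂ^d with coaction e_i ↦ Σ_j e_j ⊗
a_ji, its character is Σ_i a_ii. Then R(H) is a finite R(G)-module, with the complexified
representation rings realised inside the coordinate rings by characters: there are finitely many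
characters f_1, …, f_r of H-comodule structures such that every ℂ-linear combination of characters
of H-comodule structures on coordinate spaces is of the form Σ_j s_j f_j with each s_j in the
ℂ-subalgebra of B generated by the images of the characters of G-comodule structures on coordinate
spaces. (The representation rings of the published statement are rendered through characters; over
the complex numbers the characters of pairwise non-isomorphic simple comodules are linearly
independent, so the span of characters is the complexified representation ring.) -/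
theorem result
    (A B : Type) [CommRing A] [HopfAlgebra ℂ A] [Algebra.FiniteType ℂ A]
    [CommRing B] [HopfAlgebra ℂ B] [Algebra.FiniteType ℂ B]
    (π : A →ₐc[ℂ] B) (hπ : Function.Surjective π) :
    ∃ F : Finset B,
      (↑F : Set B) ⊆ Set.range (fun p : (Σ d : ℕ, HopfRep.Comod ℂ B (Fin d → ℂ)) =>
          ∑ i : Fin p.1, TensorProduct.lid ℂ B (LinearMap.rTensor B (LinearMap.proj i)
            (@HopfRep.Comod.coact ℂ B _ _ _ _ (Fin p.1 → ℂ) _ _ p.2 (Pi.single i 1)))) ∧
      (↑(Submodule.span ℂ (Set.range (fun p : (Σ d : ℕ, HopfRep.Comod ℂ B (Fin d → ℂ)) =>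
          ∑ i : Fin p.1, TensorProduct.lid ℂ B (LinearMap.rTensor B (LinearMap.proj i)
            (@HopfRep.Comod.coact ℂ B _ _ _ _ (Fin p.1 → ℂ) _ _ p.2 (Pi.single i 1)))))) : Set B) ⊆
        ↑(Submodule.span (Algebra.adjoin ℂ (π '' Set.range (fun p : (Σ d : ℕ, HopfRep.Comod ℂ A (Fin d → ℂ)) =>
          ∑ i : Fin p.1, TensorProduct.lid ℂ A (LinearMap.rTensor A (LinearMap.proj i)
            (@HopfRep.Comod.coact ℂ A _ _ _ _ (Fin p.1 → ℂ) _ _ p.2 (Pi.single i 1))))))
          (↑F : Set B)) := by
  obtain ⟨n, φ, hφ⟩ := Groth.Agent.S16480.result ℂ A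
  rw [chars_eq B, chars_eq A]
  exact H66.CharFinite.main π φ hφ hπ

end Groth.Agent.S20019
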