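import Groth.Statements.S20021
import Groth.Agent.H60.StabLocus
-- import your own Groth.Agent.* helpers here

set_option autoImplicit false
universe u
open GIT

namespace Groth.Agent.S20021

/-- Let k be an algebraically closed field of arbitrary characteristic, A a reduced commutative Hopf
algebra of finite type over k all of whose finite-dimensional comodules are semisimple (a linearly
reductive affine algebraic group G = Spec A, an affine variety), and R a reduced commutative
k-algebra of finite type carrying an A-comodule structure whose coaction is an algebra map (an
action of G on the affine variety X = Spec R, which may be reducible). Call a k-point x of X stable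
when the image of its orbit morphism Spec A → Spec R is closed and A modulo the stabiliser ideal of
x is a finite k-module (closed orbit and zero-dimensional stabiliser). Then there is a set S of
invariant elements of R such that x is stable if and only if some member of S does not vanish at x;
in particular the stable locus is a union of basic open sets X_f with f invariant, hence open. (The
further assertion that the quotient map restricted to the stable locus is a geometric quotient onto
an open subset of Spec R^G is not part of this row. No hypothesis on the characteristic of k.) -/
theorem result (k : Type u) [Field k]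
    [IsAlgClosed k] (A : Type u) [CommRing A] [HopfAlgebra k A] [Algebra.FiniteType k A] [IsReduced A]
    (hG : HopfRep.IsLinearlyReductive k A)
    (R : Type u) [CommRing R] [IsReduced R] [Algebra k R] [Algebra.FiniteType k R]
    [HopfRep.Comod k A R] [GLin.IsCoactAlg k A R] :
    ∃ S : Set R, S ⊆ (GLin.invariants k A R : Set R) ∧
      ∀ x : R →ₐ[k] k, GLin.IsStablePt k A x ↔ ∃ f ∈ S, x f ≠ 0 := by
  refine ⟨{f | f ∈ GLin.invariants k A R ∧ ∀ z : R →ₐ[k] k, z f ≠ 0 → GLin.IsStablePt k A z},
    fun f hf => hf.1, fun x => ⟨fun hx => ?_, fun ⟨f, hf, hxf⟩ => hf.2 x hxf⟩⟩
  obtain ⟨f, hf, hxf, hS⟩ := Groth.Agent.H60.StabLocus.exists_invariant_stable hG x hx.1 hx.2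
  exact ⟨f, ⟨hf, hS⟩, hxf⟩

end Groth.Agent.S20021
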