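import Groth.Statements.S20022
import Groth.Agent.Lib.Graded.Basic
import Mathlib.LinearAlgebra.Basis.VectorSpace


set_option autoImplicit false
universe u
open GrLC
open Groth.Agent.Lib.Graded.Basic

namespace Groth.Agent.S20022

/-- Let R be a commutative ℤ-graded ring whose degree-zero subring R_0 is a field k and which is the
Laurent polynomial ring k[T, T⁻¹] on a homogeneous invertible element T of positive degree d, in the
following intrinsic sense: T is a unit lying in R_d, and every nonzero homogeneous element of degree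
n equals a·T^j for some a ∈ R_0 and some integer j with j·d = n (so R_n = 0 unless d divides n, and
R_{jd} = k·T^j). Then every graded R-module M is free in the graded sense: M has an R-basis
consisting of homogeneous elements. (The other case of condition (2), R = k concentrated in degree
zero, is not included.) -/
theorem result (R : Type u) [CommRing R]
    (𝒜 : ℤ → AddSubgroup R) [GradedRing 𝒜] (h0 : IsField (GrLC.deg0 𝒜))
    (d : ℤ) (hd : 0 < d) (T : Rˣ) (hT : (T : R) ∈ 𝒜 d)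
    (hA : ∀ (n : ℤ) (x : R), x ∈ 𝒜 n → x ≠ 0 →
      ∃ j : ℤ, ∃ a ∈ 𝒜 0, j * d = n ∧ x = a * ((T ^ j : Rˣ) : R))
    (M : Type u) [AddCommGroup M] [Module R M] (ℳ : ℤ → AddSubgroup M)
    [DirectSum.Decomposition ℳ] [SetLike.GradedSMul 𝒜 ℳ] :
    ∃ (κ : Type u) (b : Module.Basis κ R M), ∀ i : κ, SetLike.IsHomogeneousElem ℳ (b i) := by
  classical
  letI := h0.toField
  have hTinv : ((T⁻¹ : Rˣ) : R) ∈ 𝒜 (-d) := by
    have h := proj_smul_of_mem 𝒜 𝒜 hT 0 ((T⁻¹ : Rˣ) : R)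
    rw [smul_eq_mul, T.mul_inv, proj_of_mem 𝒜 (SetLike.one_mem_graded 𝒜), smul_eq_mul, zero_sub] at h
    rw [T.inv_eq_of_mul_eq_one_right h.symm]
    exact proj_mem 𝒜 _ _
  have hTpow : ∀ j : ℤ, ((T ^ j : Rˣ) : R) ∈ 𝒜 (j * d) := fun j ↦ by
    induction j using Int.induction_on with
    | zero => simpa using SetLike.one_mem_graded 𝒜
    | succ k ih =>
      rw [zpow_add_one, Units.val_mul, add_mul, one_mul]
      exact SetLike.mul_mem_graded ih hT
    | pred k ih =>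
      rw [zpow_sub_one, Units.val_mul, sub_mul, one_mul, sub_eq_add_neg]
      exact SetLike.mul_mem_graded ih hTinv
  let B := fun r : Fin d.toNat ↦ Module.Basis.ofVectorSpace (GrLC.deg0 𝒜) (GrLC.comp 𝒜 ℳ (r : ℤ))
  let κ := Σ r : Fin d.toNat, ↥(Module.Basis.ofVectorSpaceIndex (GrLC.deg0 𝒜) (GrLC.comp 𝒜 ℳ (r : ℤ)))
  let v : κ → M := fun i ↦ ((B i.1 i.2 : GrLC.comp 𝒜 ℳ (i.1 : ℤ)) : M)
  have hv : ∀ i : κ, v i ∈ ℳ ((i.1 : ℕ) : ℤ) := fun i ↦ (B i.1 i.2).2
  have hli : LinearIndependent R v := by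
    rw [linearIndependent_iff']
    intro s g hsum
    suffices key : ∀ (n : ℤ) (r : Fin d.toNat), ∀ i ∈ s, i.1 = r → proj 𝒜 n (g i) = 0 by
      intro i hi
      rw [← sum_proj 𝒜 (g i)]
      exact Finset.sum_eq_zero fun n _ ↦ key n i.1 i hi rfl
    intro n r i hi hir
    by_contra hne
    obtain ⟨j, a, ha, hjn, -⟩ := hA n _ (proj_mem 𝒜 n (g i)) hne
    have hN := congrArg (proj ℳ (n + ((r : ℕ) : ℤ))) hsum
    rw [map_sum, map_zero, Finset.sum_congr rfl fun l _ ↦ (show proj ℳ (n + ((r : ℕ) : ℤ)) (g l • v l) =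
        proj 𝒜 (n + ((r : ℕ) : ℤ) - ((l.1 : ℕ) : ℤ)) (g l) • v l from proj_smul_mem 𝒜 ℳ (hv l) _)] at hN
    rw [← Finset.sum_filter_add_sum_filter_not s (fun l ↦ l.1 = r),
      Finset.sum_eq_zero (s := s.filter (fun l ↦ ¬ l.1 = r)) fun l hl ↦ by
        rw [show proj 𝒜 (n + ((r : ℕ) : ℤ) - ((l.1 : ℕ) : ℤ)) (g l) = 0 from ?_, zero_smul]
        by_contra hne'
        obtain ⟨j', -, -, hj', -⟩ := hA _ _ (proj_mem 𝒜 _ (g l)) hne'
        refine (Finset.mem_filter.1 hl).2 (Fin.ext ?_)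
        have h1 : d ∣ ((r : ℕ) : ℤ) - ((l.1 : ℕ) : ℤ) :=
          ⟨j' - j, by rw [mul_sub, mul_comm d j', mul_comm d j, hj', hjn]; ring⟩
        have h2 := Int.eq_zero_of_abs_lt_dvd h1 (abs_lt.2 ⟨by omega, by omega⟩)
        omega, add_zero] at hN
    let c : ↥(Module.Basis.ofVectorSpaceIndex (GrLC.deg0 𝒜) (GrLC.comp 𝒜 ℳ (r : ℤ))) → GrLC.deg0 𝒜 := fun b ↦
      ⟨((T ^ (-j) : Rˣ) : R) * proj 𝒜 n (g ⟨r, b⟩), by
        have := SetLike.mul_mem_graded (hTpow (-j)) (proj_mem 𝒜 n (g ⟨r, b⟩))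
        rwa [show -j * d + n = 0 by rw [← hjn]; ring] at this⟩
    let S := s.preimage (Sigma.mk r) sigma_mk_injective.injOn
    have hsum' : ∑ b ∈ S, c b • B r b = 0 := by
      refine Subtype.ext ?_
      rw [Submodule.coe_sum, ZeroMemClass.coe_zero, show (0 : M) = ((T ^ (-j) : Rˣ) : R) • 0 from
        (smul_zero _).symm, ← hN, Finset.smul_sum]
      refine Finset.sum_bij (fun b _ ↦ ⟨r, b⟩) (fun b hb ↦ Finset.mem_filter.2 ⟨Finset.mem_preimage.1 hb, rfl⟩)
        (fun b _ b' _ h ↦ eq_of_heq (Sigma.mk.inj h).2) (fun l hl ↦ ?_) fun b _ ↦ ?_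
      · obtain ⟨l1, l2⟩ := l
        obtain ⟨hls, rfl : l1 = r⟩ := Finset.mem_filter.1 hl
        exact ⟨l2, Finset.mem_preimage.2 hls, rfl⟩
      · rw [add_sub_cancel_right, ← mul_smul]
        rfl
    obtain ⟨i1, i2⟩ := i
    obtain rfl : i1 = r := hir
    have h0c := congrArg Subtype.val (linearIndependent_iff'.1 (B i1).linearIndependent S c hsum' i2 (Finset.mem_preimage.2 hi))
    exact hne ((Units.mul_right_eq_zero _).1 h0c)
  refine ⟨κ, Module.Basis.mk hli fun x _ ↦ ?_, fun i ↦ ⟨_, by rw [Module.Basis.mk_apply]; exact hv i⟩⟩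
  induction x using induction_hom ℳ with
  | zero => exact zero_mem _
  | add x y hx hy => exact add_mem (hx trivial) (hy trivial)
  | hom n x hx =>
    have hr : (n % d).toNat < d.toNat := by
      have := Int.emod_lt_of_pos n hd; have := Int.emod_nonneg n hd.ne'; omega
    have hy : ((T ^ (-(n / d)) : Rˣ) : R) • x ∈ GrLC.comp 𝒜 ℳ (((⟨_, hr⟩ : Fin d.toNat) : ℕ) : ℤ) := by
      have h := SetLike.GradedSMul.smul_mem (A := 𝒜) (B := ℳ) (hTpow (-(n / d))) hx
      show _ ∈ ℳ _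
      rw [show (((⟨_, hr⟩ : Fin d.toNat) : ℕ) : ℤ) = -(n / d) * d +ᵥ n by
        rw [vadd_eq_add, Int.toNat_of_nonneg (Int.emod_nonneg n hd.ne'), Int.emod_def]; ring]
      exact h
    have hspan : ∀ z : GrLC.comp 𝒜 ℳ (((⟨_, hr⟩ : Fin d.toNat) : ℕ) : ℤ),
        (z : M) ∈ Submodule.span R (Set.range v) := fun z ↦ by
      rw [← (B ⟨_, hr⟩).linearCombination_repr z, Finsupp.linearCombination_apply, Finsupp.sum,
        Submodule.coe_sum]
      exact sum_mem fun b _ ↦ Submodule.smul_mem _ ((B ⟨_, hr⟩).repr z b : R)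
        (Submodule.subset_span ⟨⟨_, b⟩, rfl⟩)
    have h := Submodule.smul_mem _ ((T ^ (n / d) : Rˣ) : R) (hspan ⟨_, hy⟩)
    rwa [smul_smul, ← Units.val_mul, ← zpow_add, add_neg_cancel, zpow_zero, Units.val_one, one_smul] at h


end Groth.Agent.S20022
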