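import Groth.Statements.S20025
import Groth.Agent.H83.Elem.BinaryQuartic
import Mathlib.LinearAlgebra.Matrix.NonsingularInverse
-- import your own Groth.Agent.* helpers here

set_option autoImplicit false
universe u
open InvQ Groth.Agent.H83.BinaryQuartic

namespace Groth.Agent.S20025

/-- For the special fibre of the invariant map, over a field in which 2 and 3 are nonzero, consider a
split binary quartic f = ∏_i (μ_i X₀ − λ_i X₁) given by four root points (λ_i, μ_i) ≠ (0, 0), with a
double zero (vanishing discriminant ∏_{i<j} (λ_j μ_i − λ_i μ_j)²) and no triple zero (no three root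
points pairwise proportional); these are the forms of the fibre over the special point P³/Q² = 6 of
the invariant map. Then exactly one of the two alternatives holds: f is a nonzero constant times the
form X₀² X₁ (X₀ − X₁) after an invertible linear substitution of the variables, or f is a nonzero
constant times X₀² X₁² after such a substitution. So this fibre consists of exactly two classes
under substitutions and scalars (one double zero and two simple zeros; two double zeros). (The
dimensions of the two orbits and which of them is open or closed in the fibre are not part of this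
row; stated for split forms over any such field.) -/
theorem result (k : Type u) [Field k]
    (h2 : (2 : k) ≠ 0) (h3 : (3 : k) ≠ 0) (la mu : Fin 4 → k)
    (hne : ∀ i, la i ≠ 0 ∨ mu i ≠ 0) (hd : W4c6intromoduli.disc la mu = 0)
    (h3z : ∀ i j l : Fin 4, i ≠ j → j ≠ l → i ≠ l →
      ¬ (la i * mu j = la j * mu i ∧ la j * mu l = la l * mu j)) :
    Xor
      (∃ (M : Matrix (Fin 2) (Fin 2) k) (c : k), IsUnit M.det ∧ c ≠ 0 ∧
        W4c6intromoduli.binForm la mu =
          MvPolynomial.C c * W4c6intromoduli.subst M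
            (MvPolynomial.X 0 ^ 2 * MvPolynomial.X 1 * (MvPolynomial.X 0 - MvPolynomial.X 1)))
      (∃ (M : Matrix (Fin 2) (Fin 2) k) (c : k), IsUnit M.det ∧ c ≠ 0 ∧
        W4c6intromoduli.binForm la mu =
          MvPolynomial.C c * W4c6intromoduli.subst M
            (MvPolynomial.X 0 ^ 2 * MvPolynomial.X 1 ^ 2)) := by
  classical
  have hbr3 : ∀ i j l : Fin 4, i ≠ j → j ≠ l → i ≠ l → br la mu i j = 0 → br la mu j l ≠ 0 :=
    fun i j l a b c h h' => h3z i j l a b c ⟨sub_eq_zero.1 h, sub_eq_zero.1 h'⟩
  have excl : ∀ (M M' : Matrix (Fin 2) (Fin 2) k) (c c' : k), IsUnit M.det → IsUnit M'.det →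
      c ≠ 0 → c' ≠ 0 →
      MvPolynomial.C c * W4c6intromoduli.subst M
        (MvPolynomial.X 0 ^ 2 * MvPolynomial.X 1 * (MvPolynomial.X 0 - MvPolynomial.X 1)) =
      MvPolynomial.C c' * W4c6intromoduli.subst M'
        (MvPolynomial.X 0 ^ 2 * MvPolynomial.X 1 ^ 2) → False := by
    intro M M' c c' hM hM' hc hc' h
    have hN : (M' * M⁻¹).det ≠ 0 := by
      rw [Matrix.det_mul, Matrix.det_nonsing_inv, Ring.inverse_eq_inv']
      exact mul_ne_zero hM'.ne_zero (inv_ne_zero hM.ne_zero)
    set N := M' * M⁻¹ with hN'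
    have hM'' : M' = N * M := by
      rw [hN', Matrix.mul_assoc, Matrix.nonsing_inv_mul _ hM, Matrix.mul_one]
    have key : ∀ x y : k, x ^ 2 * y * (x - y) = 0 →
        (N 0 0 * x + N 0 1 * y) * (N 1 0 * x + N 1 1 * y) = 0 := by
      intro x y hxy
      let v : Fin 2 → k := M⁻¹.mulVec ![x, y]
      have e : ∀ i, M i 0 * v 0 + M i 1 * v 1 = ![x, y] i := by
        intro i
        have : (M.mulVec v) i = ![x, y] i := by
          simp only [v, Matrix.mulVec_mulVec, Matrix.mul_nonsing_inv _ hM, Matrix.one_mulVec]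
        rw [← this]; simp [Matrix.mulVec, dotProduct, Fin.sum_univ_two]
      have e' : ∀ i, M' i 0 * v 0 + M' i 1 * v 1 = N i 0 * x + N i 1 * y := by
        intro i
        simp only [hM'', Matrix.mul_apply, Fin.sum_univ_two]
        have e0 := e 0
        have e1 := e 1
        simp only [Matrix.cons_val_zero, Matrix.cons_val_one, Matrix.cons_val_fin_one] at e0 e1
        linear_combination N i 0 * e0 + N i 1 * e1
      have hv := congrArg (MvPolynomial.eval v) h
      simp only [W4c6intromoduli.subst, map_mul, map_pow, map_sub, MvPolynomial.aeval_X,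
        Fin.sum_univ_two, map_add, MvPolynomial.eval_C, MvPolynomial.eval_X, e, e',
        Matrix.cons_val_zero, Matrix.cons_val_one, Matrix.cons_val_fin_one] at hv
      rw [hxy, mul_zero] at hv
      exact sq_eq_zero_iff.1 ((mul_eq_zero.1 (show c' * ((N 0 0 * x + N 0 1 * y) *
        (N 1 0 * x + N 1 1 * y)) ^ 2 = 0 by linear_combination -hv)).resolve_left hc')
    have k1 := key 1 0 (by ring)
    have k2 := key 0 1 (by ring)
    have k3 := key 1 1 (by ring)
    rw [Matrix.det_fin_two] at hN
    simp only [mul_one, mul_zero, add_zero, zero_add, mul_eq_zero] at k1 k2 k3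
    apply hN
    rcases k1 with a | a <;> rcases k2 with b | b <;> rcases k3 with d | d
    all_goals first
      | linear_combination N 1 1 * a - N 1 0 * b
      | linear_combination N 1 1 * a - N 1 0 * d + N 1 0 * a
      | linear_combination N 1 1 * a - N 0 1 * d + N 0 1 * b
      | linear_combination N 1 1 * d - N 1 1 * b - N 0 1 * a
      | linear_combination N 0 0 * d - N 0 0 * a - N 0 1 * a
      | linear_combination N 0 0 * b - N 0 1 * a
  obtain ⟨σ, h01⟩ : ∃ σ : Equiv.Perm (Fin 4), br (la ∘ σ) (mu ∘ σ) 0 1 = 0 := by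
    rw [W4c6intromoduli.disc, Finset.prod_eq_zero_iff] at hd
    obtain ⟨⟨i, j⟩, hm, hp⟩ := hd
    have hij : i ≠ j := ne_of_lt (Finset.mem_filter.1 hm).2
    obtain ⟨σ, hs0, hs1⟩ := (by decide : ∀ i j : Fin 4, i ≠ j →
      ∃ σ : Equiv.Perm (Fin 4), σ 0 = i ∧ σ 1 = j) i j hij
    refine ⟨σ, ?_⟩
    rw [sq_eq_zero_iff] at hp
    simp only [br, Function.comp_apply, hs0, hs1]
    linear_combination -hp
  rw [← binForm_perm la mu σ]
  have H3 : ∀ i j l : Fin 4, i ≠ j → j ≠ l → i ≠ l → br (la ∘ σ) (mu ∘ σ) i j = 0 →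
      br (la ∘ σ) (mu ∘ σ) j l ≠ 0 :=
    fun i j l a b c => hbr3 _ _ _ (σ.injective.ne a) (σ.injective.ne b) (σ.injective.ne c)
  have Hne : ∀ i, (la ∘ σ) i ≠ 0 ∨ (mu ∘ σ) i ≠ 0 := fun i => hne (σ i)
  generalize la ∘ σ = l at h01 H3 Hne ⊢
  generalize mu ∘ σ = m at h01 H3 Hne ⊢
  clear hbr3 h3z hd hne
  have prop : ∀ i j, br l m i j = 0 → ∃ e : k, e ≠ 0 ∧ l j = e * l i ∧ m j = e * m i := by
    intro i j h
    simp only [br] at h
    rcases Hne i with hl | hm
    · refine ⟨l j / l i, fun h0 => ?_, by field_simp, by field_simp; linear_combination h⟩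
      rw [div_eq_zero_iff, or_iff_left hl] at h0
      rw [h0] at h
      rcases Hne j with q | q
      · exact q h0
      · exact q ((mul_eq_zero.1 (by linear_combination h : l i * m j = 0)).resolve_left hl)
    · refine ⟨m j / m i, fun h0 => ?_, by field_simp; linear_combination -h, by field_simp⟩
      rw [div_eq_zero_iff, or_iff_left hm] at h0
      rw [h0] at h
      rcases Hne j with q | q
      · exact q ((mul_eq_zero.1 (by linear_combination -h : l j * m i = 0)).resolve_right hm)
      · exact q h0
  obtain ⟨e, he, el, em⟩ := prop 0 1 h01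
  have n02 : br l m 0 2 ≠ 0 := H3 1 0 2 (by decide) (by decide) (by decide) (br_symm_zero h01)
  have n03 : br l m 0 3 ≠ 0 := H3 1 0 3 (by decide) (by decide) (by decide) (br_symm_zero h01)
  by_cases h23 : br l m 2 3 = 0
  · obtain ⟨e', he', el', em'⟩ := prop 2 3 h23
    have E2 : ∃ (M : Matrix (Fin 2) (Fin 2) k) (c : k), IsUnit M.det ∧ c ≠ 0 ∧
        W4c6intromoduli.binForm l m =
          MvPolynomial.C c * W4c6intromoduli.subst M
            (MvPolynomial.X 0 ^ 2 * MvPolynomial.X 1 ^ 2) := by
      refine ⟨!![m 0, -l 0; m 2, -l 2], e * e', isUnit_iff_ne_zero.2 ?_, mul_ne_zero he he', ?_⟩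
      · rw [Matrix.det_fin_two_of]
        intro h; apply n02; simp only [br]; linear_combination h
      · simp only [W4c6intromoduli.binForm, Fin.prod_univ_four, el, em, el', em', map_mul,
          W4c6intromoduli.subst, map_pow, MvPolynomial.aeval_X, Fin.sum_univ_two, Matrix.of_apply,
          Matrix.cons_val_zero, Matrix.cons_val_one, Matrix.cons_val_fin_one, map_neg]
        ring
    refine Or.inr ⟨E2, ?_⟩
    rintro ⟨M, c, hM, hc, h⟩
    obtain ⟨M', c', hM', hc', h'⟩ := E2
    exact excl M M' c c' hM hM' hc hc' (h.symm.trans h')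
  · set u := br l m 2 3 with hu
    set v := br l m 0 2 with hv
    set w := br l m 0 3 with hw
    have E1 : ∃ (M : Matrix (Fin 2) (Fin 2) k) (c : k), IsUnit M.det ∧ c ≠ 0 ∧
        W4c6intromoduli.binForm l m =
          MvPolynomial.C c * W4c6intromoduli.subst M
            (MvPolynomial.X 0 ^ 2 * MvPolynomial.X 1 * (MvPolynomial.X 0 - MvPolynomial.X 1)) := by
      refine ⟨!![u * m 0, -(u * l 0); -(v * m 3), v * l 3], e * (-(u ^ 2 * v * w))⁻¹,
        isUnit_iff_ne_zero.2 ?_, mul_ne_zero he (inv_ne_zero (neg_ne_zero.2 ?_)), ?_⟩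
      · rw [Matrix.det_fin_two_of]
        have : u * v * w ≠ 0 := mul_ne_zero (mul_ne_zero h23 n02) n03
        intro h; apply this
        simp only [hw, br] at h ⊢
        linear_combination -h
      · exact mul_ne_zero (mul_ne_zero (pow_ne_zero 2 h23) n02) n03
      · have id0 : u * m 0 + v * m 3 = w * m 2 := by simp only [hu, hv, hw, br]; ring
        have id1 : u * l 0 + v * l 3 = w * l 2 := by simp only [hu, hv, hw, br]; ring
        have hs : W4c6intromoduli.subst !![u * m 0, -(u * l 0); -(v * m 3), v * l 3]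
            (MvPolynomial.X 0 ^ 2 * MvPolynomial.X 1 * (MvPolynomial.X 0 - MvPolynomial.X 1)) =
            MvPolynomial.C (-(u ^ 2 * v * w)) *
              ((MvPolynomial.C (m 0) * MvPolynomial.X 0 - MvPolynomial.C (l 0) * MvPolynomial.X 1) ^ 2 *
              (MvPolynomial.C (m 3) * MvPolynomial.X 0 - MvPolynomial.C (l 3) * MvPolynomial.X 1) *
              (MvPolynomial.C (m 2) * MvPolynomial.X 0 - MvPolynomial.C (l 2) * MvPolynomial.X 1)) := by
          have i0 := congrArg (MvPolynomial.C (σ := Fin 2)) id0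
          have i1 := congrArg (MvPolynomial.C (σ := Fin 2)) id1
          simp only [map_add, map_mul] at i0 i1
          simp only [W4c6intromoduli.subst, map_mul, map_pow, map_sub, MvPolynomial.aeval_X,
            Fin.sum_univ_two, Matrix.of_apply, Matrix.cons_val', Matrix.cons_val_zero,
            Matrix.cons_val_one, Matrix.cons_val_fin_one, Matrix.empty_val', map_neg]
          linear_combination (-(MvPolynomial.C u ^ 2 * MvPolynomial.C v *
            (MvPolynomial.C (m 0) * MvPolynomial.X 0 - MvPolynomial.C (l 0) * MvPolynomial.X 1) ^ 2 *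
            (MvPolynomial.C (m 3) * MvPolynomial.X 0 - MvPolynomial.C (l 3) * MvPolynomial.X 1))) *
            ((MvPolynomial.X 0) * i0 - MvPolynomial.X 1 * i1)
        rw [hs, ← _root_.mul_assoc, ← map_mul, _root_.mul_assoc e, inv_mul_cancel₀
          (neg_ne_zero.2 (mul_ne_zero (mul_ne_zero (pow_ne_zero 2 h23) n02) n03)), _root_.mul_one]
        simp only [W4c6intromoduli.binForm, Fin.prod_univ_four, el, em, map_mul]
        ring
    refine Or.inl ⟨E1, ?_⟩
    rintro ⟨M', c', hM', hc', h'⟩
    obtain ⟨M, c, hM, hc, h⟩ := E1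
    exact excl M M' c c' hM hM' hc hc' (h.symm.trans h')

end Groth.Agent.S20025
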