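import Groth.Statements.S20027
import Groth.Agent.H84.GrLC.PolyRing
import Groth.Agent.H19.Veronese.Standard
import Groth.Agent.S18644
import Groth.Agent.S18655

set_option autoImplicit false
set_option linter.style.haveILetI false
universe u
open GrLC

namespace Groth.Agent.S20027

/-- Let k be a field, s ≥ 1, d ≥ 1, and R = k[X_1, …, X_s] graded with every variable in degree 1.
Present the Veronese subring R^(d) = ⊕_j R_{jd} as a commutative ring R' with an injective ring
homomorphism φ : R' → R whose image is the set of polynomials whose homogeneous components in all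
degrees not divisible by d are zero, and let m' be the maximal ideal of R' that is the preimage of
the ideal of polynomials with zero constant term (the irrelevant ideal of R^(d)). Let n be the least
integer such that n ≥ s and d divides n. Then the type of R^(d), namely the Bass number μ_s(m', R')
= dim over the residue field of Ext^s over the local ring R'_{m'} from its residue field to R'_{m'}
(here s = dim R'), equals the binomial coefficient (n − 1 choose s − 1). -/
theorem result (k : Type u) [Field k] (s d : ℕ) (hs : 1 ≤ s)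
    (hd : 1 ≤ d) (R' : Type u) [CommRing R'] (φ : R' →+* MvPolynomial (Fin s) k)
    (hφ : Function.Injective φ)
    (hrange : ∀ p : MvPolynomial (Fin s) k, p ∈ φ.range ↔
      ∀ j : ℕ, ¬ d ∣ j → MvPolynomial.homogeneousComponent j p = 0)
    (m' : Ideal R') [m'.IsMaximal]
    (hm' : m' = Ideal.comap φ (RingHom.ker (MvPolynomial.constantCoeff : MvPolynomial (Fin s) k →+* k)))
    (n : ℕ) (hsn : s ≤ n) (hdn : d ∣ n) (hmin : ∀ n' : ℕ, s ≤ n' → d ∣ n' → n ≤ n') :
    GrLC.bassNum m' R' s = (Nat.choose (n - 1) (s - 1) : ℕ∞) := by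
  open Groth.Agent.H84.GrLC Groth.Agent.Lib.Graded Groth.Agent.Lib.Graded.Basic in
  obtain ⟨t, rfl⟩ : ∃ t, s = t + 1 := ⟨s - 1, by omega⟩
  obtain ⟨hG, hdeg⟩ := PolyRing.exists_grading φ d hd hφ hrange
  letI := hG
  haveI := PolyRing.gorenstein k (t + 1)
  haveI := PolyRing.cohenMacaulay k (t + 1)
  obtain ⟨I⟩ := Res.nonempty_starInjRes (PolyRing.gr k (t + 1)) (PolyRing.gr k (t + 1))
  have hpos := PolyRing.pos k (t + 1)
  have h0 := PolyRing.isField k (t + 1)
  have hm := PolyRing.isStarLocal k (t + 1)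
  have ha := (Groth.Agent.S18644.result _ (PolyRing.gr k (t + 1)) hpos h0 _ hm rfl
    (PolyRing.standard k (t + 1)) (t + 1) (PolyRing.dim k (t + 1)) I).2 (PolyRing.nonempty_ringEquiv k (t + 1))
  have hV : Groth.Agent.H19.Veronese.IsVeronese (PolyRing.gr k (t + 1)) (PolyRing.vgr φ d) d φ :=
    ⟨hd, hφ, hdeg⟩
  let M : HomogeneousIdeal (PolyRing.vgr φ d) :=
    ⟨Ideal.span (⋃ j ∈ Set.Ioi (0 : ℤ), (PolyRing.vgr φ d j : Set R')),
      Ideal.homogeneous_span _ _ fun x hx => by
        obtain ⟨j, -, hj⟩ := Set.mem_iUnion₂.1 hx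
        exact ⟨j, hj⟩⟩
  haveI hMmax : M.toIdeal.IsMaximal :=
    FieldDeg0.isMaximal (hV.eq_zero_of_neg hpos) (hV.isField_deg0 h0) (m := M) rfl
  have hle : M.toIdeal ≤ m' := by
    refine Ideal.span_le.2 fun x hx => ?_
    obtain ⟨j, hj, hxj⟩ := Set.mem_iUnion₂.1 hx
    rw [hm', SetLike.mem_coe, Ideal.mem_comap, RingHom.mem_ker]
    have h1 : φ x ∈ PolyRing.gr k (t + 1) (j * d) := hxj
    by_contra hne
    have h2 := Poly.degree_eq_of_mem h1 (MvPolynomial.mem_support_iff.2 hne)
    have h3 : (0 : ℤ) < j * d := mul_pos (Set.mem_Ioi.1 hj) (by exact_mod_cast hd)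
    simp only [map_zero, Nat.cast_zero] at h2
    omega
  have hMm : M.toIdeal = m' := hMmax.eq_of_le (‹m'.IsMaximal›).ne_top hle
  have key := Groth.Agent.S18655.result _ (PolyRing.gr k (t + 1)) hpos h0 _ hm rfl
    (PolyRing.standard k (t + 1)) (t + 1) (PolyRing.dim k (t + 1)) I _ ha d hd R' (PolyRing.vgr φ d)
    φ hφ hdeg M rfl ((n - (t + 1) : ℕ) : ℤ) (Int.natCast_nonneg _)
    (by
      by_contra hc
      have hge : t + 1 + d ≤ n := by omega
      have := hmin (n - d) (by omega) (Nat.dvd_sub hdn dvd_rfl)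
      omega)
    (by
      have : (d : ℤ) ∣ (n : ℤ) := by exact_mod_cast hdn
      rw [Nat.cast_sub hsn]
      rw [show (-((t + 1 : ℕ) : ℤ)) - ((n : ℤ) - ((t + 1 : ℕ) : ℤ)) = -(n : ℤ) by ring]
      exact this.neg_right)
  subst hMm
  rw [key, PolyRing.finrank_comp k t (n - (t + 1)), show n - 1 = t + (n - (t + 1)) by omega,
    Nat.add_sub_cancel]

end Groth.Agent.S20027
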