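import Groth.Statements.S20029
import Groth.Agent.H95.AbsOmega
import Groth.Agent.H2.Omega.Frob

set_option autoImplicit false
universe u
open CategoryTheory CategoryTheory.Limits AlgebraicGeometry
open Coh

namespace Groth.Agent.S20029

/-- Let k be a field of characteristic p > 0 whose Frobenius endomorphism is finite, X a scheme smooth
and proper over k of relative dimension N, and 𝓘 a quasi-coherent ideal of X whose ideal module is
invertible with an ample tensor-inverse L, such that the closed subscheme Y defined by 𝓘, with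
inclusion i : Y → X, is smooth over k (a smooth hypersurface section; no boundary divisor). Suppose
Y is sufficiently ample with respect to X: for every q ≥ 0 and every O_X-module Ω which is a q-th
exterior power of the sheaf of absolute differentials Ω_{X/ℤ}, one has H^i(X, 𝓘^{⊗ n} ⊗ Ω) = 0 for
all n ≥ 1 and all i with i + q ≤ N − 1. Then the analogous vanishing holds on Y one degree lower:
for every q ≥ 0 and every O_Y-module Ω' which is a q-th exterior power of the absolute differentials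
Ω_{Y/ℤ}, H^i(Y, (i^*𝓘)^{⊗ n} ⊗ Ω') = 0 for all n ≥ 1 and all i with i + q ≤ N − 2, where i^*𝓘 is the
module pullback of the ideal module along i (the conormal sheaf O_Y(−Y)). -/
theorem result
    (k : Type u) [Field k] (p : ℕ) [Fact p.Prime] [CharP k p] (hF : (frobenius k p).Finite)
    (X : Scheme.{u}) (f : X ⟶ Spec (CommRingCat.of k)) [IsProper f] (N : ℕ)
    [SmoothOfRelativeDimension N f]
    (𝓘 : X.IdealSheafData) (L : X.Modules) (hL : ClSub.IsInverseOf L (ClSub.idealMod 𝓘)) (hamp : CohB1.IsAmple L)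
    [Smooth (𝓘.subschemeι ≫ f)]
    (hsa : ∀ (q : ℕ) (Ω : X.Modules), ExtPow.IsExtPow q (Omega.sheaf (specULiftZIsTerminal.from X)) Ω → ∀ n i : ℕ, 1 ≤ n → i + q + 1 ≤ N → Subsingleton (Coh.HH X (CohB1.tensorMod (CohB1.tensorPow (ClSub.idealMod 𝓘) n) Ω) i)) :
    ∀ (q : ℕ) (Ω' : (𝓘.subscheme).Modules),
      ExtPow.IsExtPow q (Omega.sheaf (specULiftZIsTerminal.from 𝓘.subscheme)) Ω' →
      ∀ n i : ℕ, 1 ≤ n → i + q + 2 ≤ N →
        Subsingleton (Coh.HH 𝓘.subscheme
          (CohB1.tensorMod (CohB1.tensorPow ((Scheme.Modules.pullback 𝓘.subschemeι).obj (ClSub.idealMod 𝓘)) n) Ω') i) := by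
  intro q Ω' hΩ' n a hn ha
  letI : X.Over (Spec (CommRingCat.of k)) := ⟨f⟩
  letI : 𝓘.subscheme.Over (Spec (CommRingCat.of k)) := ⟨𝓘.subschemeι ≫ f⟩
  haveI : Smooth f := SmoothOfRelativeDimension.smooth N f
  let b := specULiftZIsTerminal.{u}.from (Spec (CommRingCat.of k))
  have hX : specULiftZIsTerminal.{u}.from X = f ≫ b := specULiftZIsTerminal.hom_ext _ _
  have hY : specULiftZIsTerminal.{u}.from 𝓘.subscheme = 𝓘.subschemeι ≫ f ≫ b := specULiftZIsTerminal.hom_ext _ _
  rw [hY] at hΩ'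
  rw [hX] at hsa
  obtain ⟨eL⟩ := hL
  have hI : PicF.IsInvertible (_root_.ClSub.idealMod 𝓘) := Lib.TensorMod.TensorInv.isInvertible_of_tensor_iso
    (Lib.TensorMod.Basic.comm (_root_.ClSub.idealMod 𝓘) L ≪≫ eL)
  have hfin : letI := ((b.appTop ≫ (Scheme.ΓSpecIso (CommRingCat.of k)).hom).hom).toAlgebra
      Module.Finite k Ω[k⁄Γ(Spec (CommRingCat.of (ULift.{u} ℤ)), ⊤)] := by
    letI := ((b.appTop ≫ (Scheme.ΓSpecIso (CommRingCat.of k)).hom).hom).toAlgebra
    haveI := H2.Omega.Frob.finite_kaehler_int p hF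
    haveI : IsScalarTower ℤ Γ(Spec (CommRingCat.of (ULift.{u} ℤ)), ⊤) k := .of_algebraMap_eq' (RingHom.ext_int _ _)
    exact Module.Finite.of_surjective (KaehlerDifferential.map ℤ Γ(Spec (CommRingCat.of (ULift.{u} ℤ)), ⊤) k k)
      (KaehlerDifferential.map_surjective ℤ Γ(Spec (CommRingCat.of (ULift.{u} ℤ)), ⊤) k)
  haveI : QuasiSeparated (f ≫ b) := inferInstance
  haveI : QuasiSeparated (𝓘.subschemeι ≫ f ≫ b) := inferInstance
  haveI : QuasiSeparated ((𝓘.subschemeι ≫ f) ≫ b) := inferInstance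
  have hΩX := H95.AbsOmega.isFinLocFree f b (isAffineOpen_top _) hfin
  have hΩY : FlatMod.IsFinLocFree (Omega.sheaf (𝓘.subschemeι ≫ f ≫ b)) := by
    have h := H95.AbsOmega.isFinLocFree (𝓘.subschemeι ≫ f) b (isAffineOpen_top _) hfin
    simpa only [Category.assoc] using h
  obtain ⟨φ, c, w, hseq⟩ := H95.AbsOmega.exists_seq f b 𝓘.subschemeι
  exact H95.AbsOmega.subsingleton_divisor k 𝓘 hI (n := N - 1) hΩX hΩY hseq
    (fun r s j hj hrs E hE => by
      haveI := hsa r E hE j s hj (by omega)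
      exact (Lib.Curves.LES.isoK k (Lib.TensorMod.Basic.comm E _) s).toEquiv.subsingleton)
    q a n (by omega) hn Ω' hΩ'

end Groth.Agent.S20029
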