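import Groth.Statements.S2003
import Groth.Agent.H48.GlueFlat
import Mathlib.RingTheory.Finiteness.Projective
import Mathlib.Algebra.Module.FinitePresentation
import Mathlib.RingTheory.Flat.EquationalCriterion
import Mathlib.RingTheory.LocalProperties.Projective
import Mathlib.LinearAlgebra.TensorProduct.RightExactness

set_option autoImplicit false
set_option linter.style.haveILetI false
universe u
open TensorProduct
open EtAlg

namespace Groth.Agent.S2003

open Groth.Agent.H48 in
theorem finitePresentation_of_glue {R R' : Type u} [CommRing R] [CommRing R'] [Algebra R R'] {f : R}
    (hRR : EtGlue.IsGlueingPair R R' f) (M : Type u) [AddCommGroup M] [Module R M]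
    [Module.Finite R M] [Module.Flat R M]
    [Module.FinitePresentation R' (R' ⊗[R] M)]
    [Module.FinitePresentation (Localization.Away f) (LocalizedModule (Submonoid.powers f) M)] :
    Module.FinitePresentation R M := by
  obtain ⟨n, p, hp⟩ := Module.Finite.exists_fin' R M
  let K := LinearMap.ker p
  have hinj : Function.Injective (K.subtype.baseChange R') :=
    LinearMap.lTensor_injective_of_exact_of_flat (M := K) (N := Fin n → R) (P := M) p hp K.subtype
      K.injective_subtype (p.exact_subtype_ker_map) R'
  haveI : Module.Finite R' (R' ⊗[R] K) := by
    have h1 : (LinearMap.ker (p.baseChange R')).FG :=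
      Module.FinitePresentation.fg_ker _ (LinearMap.lTensor_surjective R' hp)
    have h2 : LinearMap.range (K.subtype.baseChange R') = LinearMap.ker (p.baseChange R') := by
      refine ((LinearMap.exact_iff (f := K.subtype.baseChange R') (g := p.baseChange R')).1 ?_).symm
      exact lTensor_exact R' (p.exact_subtype_ker_map) hp
    haveI : Module.Finite R' (LinearMap.range (K.subtype.baseChange R')) :=
      Module.Finite.iff_fg.2 (h2 ▸ h1)
    exact Module.Finite.equiv (LinearEquiv.ofInjective _ hinj).symm
  haveI : Module.Finite (Localization.Away f) (LocalizedModule (Submonoid.powers f) K) := by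
    let S := Submonoid.powers f
    let g := LocalizedModule.map S K.subtype
    let h := LocalizedModule.map S p
    have hh : Function.Surjective h := LocalizedModule.map_surjective S _ hp
    have hg : Function.Injective g := LocalizedModule.map_injective S _ K.injective_subtype
    have hex : Function.Exact g h := LocalizedModule.map_exact S _ _ p.exact_subtype_ker_map
    have h1 : (LinearMap.ker h).FG := Module.FinitePresentation.fg_ker _ hh
    haveI : Module.Finite (Localization.Away f) (LinearMap.range g) :=
      Module.Finite.iff_fg.2 ((LinearMap.exact_iff.1 hex) ▸ h1)
    exact Module.Finite.equiv (LinearEquiv.ofInjective g hg).symm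
  haveI : Module.Finite R K := Glue.finite_of_glue (R' := R') hRR.1
  exact Module.finitePresentation_of_surjective p hp (Module.Finite.iff_fg.1 this)

/-- Let (R -> R', f) be a glueing pair and M any R-module. Then M is finite projective over R exactly
when both of its base changes are: R' ⊗_R M over R', and M_f over R_f. -/
theorem result (R R' : Type u) [CommRing R] [CommRing R'] [Algebra R R'] (f : R)
    (hRR : EtGlue.IsGlueingPair R R' f) (M : Type u) [AddCommGroup M] [Module R M] :
    (Module.Finite R M ∧ Module.Projective R M) ↔
      (Module.Finite R' (R' ⊗[R] M) ∧ Module.Projective R' (R' ⊗[R] M)) ∧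
      (Module.Finite (Localization.Away f) (LocalizedModule (Submonoid.powers f) M) ∧
        Module.Projective (Localization.Away f) (LocalizedModule (Submonoid.powers f) M)) := by
  constructor
  · rintro ⟨h1, h2⟩
    exact ⟨⟨inferInstance, inferInstance⟩, inferInstance,
      Module.projective_of_isLocalizedModule (Submonoid.powers f)
        (LocalizedModule.mkLinearMap (Submonoid.powers f) M)⟩
  · rintro ⟨⟨h1, h2⟩, h3, h4⟩
    haveI := Module.finitePresentation_of_projective R' (R' ⊗[R] M)
    haveI := Module.finitePresentation_of_projective (Localization.Away f)
      (LocalizedModule (Submonoid.powers f) M)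
    haveI : Module.Finite R M := H48.Glue.finite_of_glue (R' := R') hRR.1
    haveI : Module.Flat R (Localization.Away f) := IsLocalization.flat _ (Submonoid.powers f)
    haveI : Module.Flat R (LocalizedModule (Submonoid.powers f) M) :=
      Module.Flat.trans R (Localization.Away f) _
    haveI : Module.Flat R M :=
      H48.Glue.flat_of_glue hRR.1 (H48.Glue.torsionBij_of_isGlueingPair hRR)
    haveI : Module.FinitePresentation R M := finitePresentation_of_glue hRR M
    exact ⟨inferInstance, Module.Flat.projective_of_finitePresentation⟩

end Groth.Agent.S2003
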