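import Groth.Statements.S2004
import Groth.Agent.H48.Glue

set_option autoImplicit false
set_option linter.style.haveILetI false
universe u
open TensorProduct
open EtAlg

namespace Groth.Agent.S2004

/-- Let R -> R' induce bijections R/f^n R -> R'/f^n R' for all n > 0. Then (R -> R', f) is a glueing
pair if and only if R -> R' maps the f-power torsion of R bijectively onto the f-power torsion of R'
(stated as: injective on f-power torsion elements, and every f-power torsion element of R' is the
image of one of R). -/
theorem result (R R' : Type u) [CommRing R] [CommRing R'] [Algebra R R'] (f : R)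
    (hq : EtGlue.QuotPowBijective R R' f) :
    EtGlue.IsGlueingPair R R' f ↔
      ((∀ x : R, (∃ n : ℕ, f ^ n * x = 0) → algebraMap R R' x = 0 → x = 0) ∧
       (∀ x' : R', (∃ n : ℕ, algebraMap R R' f ^ n * x' = 0) →
          ∃ x : R, (∃ n : ℕ, f ^ n * x = 0) ∧ algebraMap R R' x = x')) := by
  have hmap : ∀ a : R, Localization.awayMap (algebraMap R R') f (algebraMap R _ a) =
      algebraMap R' (Localization.Away (algebraMap R R' f)) (algebraMap R R' a) :=
    fun a => IsLocalization.map_eq _ a
  refine ⟨fun h => H48.Glue.torsionBij_of_isGlueingPair h, fun ht => ⟨hq, ?_, ?_, ?_⟩⟩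
  · intro a b hab
    simp only [Prod.mk.injEq] at hab
    rw [← sub_eq_zero]
    refine ht.1 _ ?_ (by rw [map_sub, hab.1, sub_self])
    obtain ⟨⟨_, k, rfl⟩, hk⟩ := (IsLocalization.map_eq_zero_iff (Submonoid.powers f)
      (Localization.Away f) (a - b)).1 (by rw [map_sub, hab.2, sub_self])
    exact ⟨k, hk⟩
  · intro x y hxy
    obtain ⟨n, a, ha⟩ := IsLocalization.Away.surj f y
    have h1 : algebraMap R' (Localization.Away (algebraMap R R' f)) (x * algebraMap R R' f ^ n) =
        algebraMap R' _ (algebraMap R R' a) := by
      rw [map_mul, hxy, map_pow, ← hmap f, ← map_pow, ← map_mul, ha, hmap]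
    obtain ⟨⟨_, k, rfl⟩, hk⟩ := (IsLocalization.eq_iff_exists
      (Submonoid.powers (algebraMap R R' f)) _).1 h1
    obtain ⟨d, rfl, hd⟩ := H48.Glue.exists_eq_of_mul_eq hq ht (n := k + n) (k := f ^ k * a) (z := x)
      (by simp only [map_mul, map_pow] at hk ⊢; linear_combination hk)
    refine ⟨d, rfl, ?_⟩
    apply ((IsLocalization.Away.algebraMap_isUnit (S := Localization.Away f) f).pow (k + n)).mul_left_injective
    simp only
    rw [← map_pow, ← map_mul, mul_comm d, hd, map_mul, ← ha, map_pow, map_pow]
    ring
  · intro z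
    obtain ⟨n, x0, hx0⟩ := IsLocalization.Away.surj (algebraMap R R' f) z
    obtain ⟨a, s, rfl⟩ := H48.Glue.exists_approx hq n x0
    refine ⟨s, -IsLocalization.mk' _ a (H48.Glue.pw f n), ?_⟩
    apply ((IsLocalization.Away.algebraMap_isUnit (S := Localization.Away (algebraMap R R' f))
      (algebraMap R R' f)).pow n).mul_left_injective
    simp only
    rw [hx0, map_neg, sub_neg_eq_add, add_mul, map_add, map_mul, map_pow,
      ← hmap f, ← hmap a]
    rw [← IsLocalization.mk'_spec (Localization.Away f) a (H48.Glue.pw f n), map_mul, map_pow,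
      map_pow]
    ring

end Groth.Agent.S2004
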