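import Groth.Statements.S2007
import Groth.Agent.H48.FormalGlue

set_option autoImplicit false
set_option linter.style.haveILetI false
universe u
open TensorProduct
open EtAlg

namespace Groth.Agent.S2007

/-- Let R -> S be a flat ring map and I a finitely generated ideal of R such that R/I -> S/IS is
bijective. Let N be an R-module, M' an S-module and φ : M' -> S ⊗_R N an S-linear map whose kernel
and cokernel are I-power torsion (every element of the kernel, resp. of the target modulo the image,
is killed by some power of I). Then there are an R-module M, an R-linear map ψ : M -> N and an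
S-isomorphism S ⊗_R M ≅ M' identifying φ with the base change of ψ. -/
theorem result (R S : Type u) [CommRing R] [CommRing S] [Algebra R S] [Module.Flat R S] (I : Ideal R)
    (hI : I.FG) (hq : Function.Bijective (Ideal.quotientMap (I.map (algebraMap R S)) (algebraMap R S) Ideal.le_comap_map))
    (N : Type u) [AddCommGroup N] [Module R N] (M' : Type u) [AddCommGroup M'] [Module S M'] (φ : M' →ₗ[S] S ⊗[R] N)
    (hker : ∀ x : M', φ x = 0 → ∃ n : ℕ, ∀ a ∈ I ^ n, algebraMap R S a • x = 0)
    (hcoker : ∀ y : S ⊗[R] N, ∃ n : ℕ, ∀ a ∈ I ^ n, algebraMap R S a • y ∈ LinearMap.range φ) :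
    ∃ (M : Type u) (_ : AddCommGroup M) (_ : Module R M) (ψ : M →ₗ[R] N) (e : S ⊗[R] M ≃ₗ[S] M'),
      φ ∘ₗ e.toLinearMap = ψ.baseChange S := by
  classical
  letI : Module R M' := Module.compHom M' (algebraMap R S)
  haveI : IsScalarTower R S M' := .of_algebraMap_smul fun _ _ => rfl
  let φR : M' →ₗ[R] S ⊗[R] N := φ.restrictScalars R
  let P : Submodule R (M' × N) :=
    LinearMap.ker (φR.comp (LinearMap.fst R M' N) - (TensorProduct.mk R S N 1).comp (LinearMap.snd R M' N))
  have hP : ∀ z : P, φ (z : M' × N).1 = (1 : S) ⊗ₜ[R] (z : M' × N).2 := fun z =>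
    sub_eq_zero.1 (LinearMap.mem_ker.1 z.2)
  let π₁ : P →ₗ[R] M' := (LinearMap.fst R M' N).comp P.subtype
  let ψ : P →ₗ[R] N := (LinearMap.snd R M' N).comp P.subtype
  let e₀ : S ⊗[R] P →ₗ[S] M' := LinearMap.liftBaseChange S π₁
  have key : φ ∘ₗ e₀ = ψ.baseChange S := by
    refine TensorProduct.AlgebraTensorModule.ext fun s z => ?_
    simp only [LinearMap.comp_apply, e₀, LinearMap.liftBaseChange_tmul, map_smul,
      LinearMap.baseChange_tmul]
    rw [show φ (π₁ z) = (1 : S) ⊗ₜ[R] ψ z from hP z, TensorProduct.smul_tmul', smul_eq_mul, mul_one]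
  have hK : Groth.Agent.H48.FG.IsITors I (LinearMap.ker ψ) := by
    intro z
    have h2 : ((z : P) : M' × N).2 = 0 := LinearMap.mem_ker.1 z.2
    obtain ⟨n, hn⟩ := hker ((z : P) : M' × N).1 (by rw [hP, h2, TensorProduct.tmul_zero])
    refine ⟨n, fun a ha => Subtype.ext (Subtype.ext (Prod.ext ?_ ?_))⟩
    · show a • ((z : P) : M' × N).1 = 0
      exact hn a ha
    · show a • ((z : P) : M' × N).2 = 0
      rw [h2, smul_zero]
  have hbij : Function.Bijective e₀ := by
    refine ⟨(injective_iff_map_eq_zero _).2 fun w hw => ?_, fun x => ?_⟩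
    · have h0 : ψ.lTensor S w = 0 := by
        rw [← LinearMap.baseChange_eq_ltensor, ← key, LinearMap.comp_apply, hw, map_zero]
      have hex : Function.Exact (LinearMap.ker ψ).subtype ψ := ψ.exact_subtype_ker_map
      obtain ⟨y, rfl⟩ := ((@Module.Flat.lTensor_exact R S _ _ _ _ (LinearMap.ker ψ) P N
        _ _ _ _ _ _ (LinearMap.ker ψ).subtype ψ hex) _).1 h0
      obtain ⟨k, rfl⟩ := (Groth.Agent.H48.FG.mk_bijective_of_torsion hq hK).2 y
      rw [TensorProduct.mk_apply, LinearMap.lTensor_tmul, Submodule.subtype_apply] at hw ⊢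
      rw [LinearMap.liftBaseChange_one_tmul] at hw
      rw [show (k : P) = 0 from Subtype.ext (Prod.ext hw (LinearMap.mem_ker.1 k.2)),
        TensorProduct.tmul_zero]
    · let C := (S ⊗[R] N) ⧸ LinearMap.range φ
      let c : N →ₗ[R] C := (LinearMap.range φ).mkQ.restrictScalars R ∘ₗ TensorProduct.mk R S N 1
      have hc : LinearMap.range ψ = LinearMap.ker c := by
        refine le_antisymm ?_ fun n hn => ?_
        · rintro _ ⟨z, rfl⟩
          rw [LinearMap.mem_ker]
          exact (Submodule.Quotient.mk_eq_zero _).2 ⟨_, hP z⟩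
        · obtain ⟨y, hy⟩ := (Submodule.Quotient.mk_eq_zero _).1 (LinearMap.mem_ker.1 hn)
          exact ⟨⟨(y, n), LinearMap.mem_ker.2 (sub_eq_zero.2 hy)⟩, rfl⟩
      let κ : (N ⧸ LinearMap.range ψ) →ₗ[R] C := (LinearMap.range ψ).liftQ c hc.le
      have hκ : Function.Injective κ := by
        rw [← LinearMap.ker_eq_bot, Submodule.ker_liftQ, hc, Submodule.mkQ_map_self]
      have hQ : Groth.Agent.H48.FG.IsITors I (N ⧸ LinearMap.range ψ) := by
        intro q
        obtain ⟨y, hy⟩ := Submodule.Quotient.mk_surjective _ (κ q)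
        obtain ⟨n, hn⟩ := hcoker y
        refine ⟨n, fun a ha => hκ ?_⟩
        rw [map_smul, map_zero, ← hy, ← IsScalarTower.algebraMap_smul S a (Submodule.Quotient.mk y : C),
          ← Submodule.Quotient.mk_smul, Submodule.Quotient.mk_eq_zero]
        exact hn a ha
      obtain ⟨q, hq'⟩ := (Groth.Agent.H48.FG.mk_bijective_of_torsion hq hQ).2
        ((LinearMap.range ψ).mkQ.lTensor S (φ x))
      have hμ : ∀ y : S ⊗[R] N, LinearMap.liftBaseChange S κ ((LinearMap.range ψ).mkQ.lTensor S y) =
          (LinearMap.range φ).mkQ y := by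
        intro y
        induction y using TensorProduct.induction_on with
        | zero => simp
        | tmul s n =>
          rw [LinearMap.lTensor_tmul, LinearMap.liftBaseChange_tmul]
          show s • (LinearMap.range φ).mkQ ((1 : S) ⊗ₜ[R] n) = _
          rw [← map_smul, TensorProduct.smul_tmul', smul_eq_mul, mul_one]
        | add a b ha hb => simp only [map_add, ha, hb]
      have hq0 : q = 0 := hκ (by
        have := hμ (φ x)
        rw [← hq', TensorProduct.mk_apply, LinearMap.liftBaseChange_one_tmul] at this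
        rw [this, map_zero, Submodule.mkQ_apply]
        exact (Submodule.Quotient.mk_eq_zero _).2 ⟨x, rfl⟩)
      rw [hq0, map_zero] at hq'
      obtain ⟨z, hz⟩ := (Module.Flat.lTensor_exact S (LinearMap.exact_map_mkQ_range ψ) _).1 hq'.symm
      have hd : φ (x - e₀ z) = 0 := by
        rw [map_sub, ← LinearMap.comp_apply, key, LinearMap.baseChange_eq_ltensor, hz, sub_self]
      refine ⟨z + (1 : S) ⊗ₜ[R] (⟨(x - e₀ z, 0), LinearMap.mem_ker.2 (sub_eq_zero.2
        (hd.trans (TensorProduct.tmul_zero _ _).symm))⟩ : P), ?_⟩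
      rw [map_add, LinearMap.liftBaseChange_one_tmul]
      show e₀ z + (x - e₀ z) = x
      abel
  exact ⟨P, inferInstance, inferInstance, ψ, LinearEquiv.ofBijective e₀ hbij, key⟩

end Groth.Agent.S2007
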