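import Groth.Statements.S2008
import Mathlib

set_option autoImplicit false
universe u
open TensorProduct
open EtAlg

namespace Groth.Agent.S2008

/-- For a ring map R -> S and an ideal I of R the following are equivalent: (1) S is flat over R and
S/IS is faithfully flat over R/I; (2) S is flat over R and Spec(S/IS) -> Spec(R/I) is surjective;
(3) S is flat over R and S ⊗_R M is nonzero for every nonzero R-module M killed by I; (4) S is flat
over R and S ⊗_R M is nonzero for every nonzero I-power torsion R-module M. (Faithfulness of base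
change on these subcategories is stated as detection of nonzero objects, which is equivalent for an
exact functor.) -/
theorem result (R S : Type u) [CommRing R] [CommRing S] [Algebra R S] (I : Ideal R) :
    List.TFAE [
      Module.Flat R S ∧ Module.FaithfullyFlat (R ⧸ I) (S ⧸ I.map (algebraMap R S)),
      Module.Flat R S ∧ Function.Surjective (PrimeSpectrum.comap (Ideal.quotientMap (I.map (algebraMap R S)) (algebraMap R S) Ideal.le_comap_map)),
      Module.Flat R S ∧ ∀ (M : Type u) [AddCommGroup M] [Module R M], (∀ (a : R) (m : M), a ∈ I → a • m = 0) →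
        Nontrivial M → Nontrivial (S ⊗[R] M),
      Module.Flat R S ∧ ∀ (M : Type u) [AddCommGroup M] [Module R M], (∀ m : M, ∃ n : ℕ, ∀ a ∈ I ^ n, a • m = 0) →
        Nontrivial M → Nontrivial (S ⊗[R] M)] := by
  classical
  tfae_have 1 → 2 := by
    rintro ⟨h, hff⟩
    have := hff
    exact ⟨h, PrimeSpectrum.comap_surjective_of_faithfullyFlat⟩
  tfae_have 2 → 1 := by
    rintro ⟨h, hs⟩
    have := h
    have hflat : Module.Flat (R ⧸ I) (S ⧸ I.map (algebraMap R S)) := by
      let e := (Algebra.TensorProduct.quotIdealMapEquivTensorQuot S I).restrictScalars R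
      let e' : (R ⧸ I) ⊗[R] S ≃ₐ[R] S ⧸ I.map (algebraMap R S) :=
        (Algebra.TensorProduct.comm R (R ⧸ I) S).trans e.symm
      have hlin : ∀ (c : R ⧸ I) z, e' (c • z) = c • e' z := by
        intro c z
        obtain ⟨r, rfl⟩ := Ideal.Quotient.mk_surjective c
        rw [← Ideal.Quotient.algebraMap_eq, IsScalarTower.algebraMap_smul,
          IsScalarTower.algebraMap_smul, map_smul]
      exact Module.Flat.of_linearEquiv
        ({ e'.toLinearEquiv with map_smul' := hlin } : (R ⧸ I) ⊗[R] S ≃ₗ[R ⧸ I] _).symm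
    exact ⟨h, Module.FaithfullyFlat.of_comap_surjective hs⟩
  tfae_have 2 → 4 := by
    rintro ⟨h, hs⟩
    have := h
    refine ⟨h, fun M _ _ hM hne => ?_⟩
    -- a nonzero element killed by `I`
    obtain ⟨m, hm⟩ := exists_ne (0 : M)
    obtain ⟨x, hx0, hx⟩ : ∃ x : M, x ≠ 0 ∧ ∀ a ∈ I, a • x = 0 := by
      obtain ⟨n, hn⟩ := hM m
      induction n generalizing m with
      | zero => exact absurd (by simpa using hn 1 (by simp)) hm
      | succ n ih =>
        by_cases hc : ∀ a ∈ I ^ n, a • m = 0
        · exact ih m hm hc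
        · push Not at hc
          obtain ⟨a, ha, hne'⟩ := hc
          refine ⟨a • m, hne', fun b hb => ?_⟩
          rw [← mul_smul]
          exact hn _ (by rw [pow_succ']; exact Ideal.mul_mem_mul hb ha)
    let J : Ideal R := LinearMap.ker (LinearMap.toSpanSingleton R M x)
    have hJ1 : J ≠ ⊤ := fun h1 => hx0 (by
      have : (1 : R) ∈ J := h1 ▸ trivial
      simpa [J] using this)
    have hIJ : I ≤ J := fun a ha => by simpa [J] using hx a ha
    obtain ⟨p, hp, hJp⟩ := Ideal.exists_le_maximal J hJ1
    have hker : RingHom.ker (Ideal.Quotient.mk I) ≤ p := by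
      rw [Ideal.mk_ker]; exact hIJ.trans hJp
    obtain ⟨q, hq⟩ := hs ⟨p.map (Ideal.Quotient.mk I),
      Ideal.map_isPrime_of_surjective Ideal.Quotient.mk_surjective hker⟩
    let q' : Ideal S := q.asIdeal.comap (Ideal.Quotient.mk _)
    have hpq : ∀ a ∈ J, algebraMap R S a ∈ q' := by
      intro a ha
      have hmem : Ideal.Quotient.mk I a ∈ p.map (Ideal.Quotient.mk I) :=
        Ideal.mem_map_of_mem _ (hJp ha)
      have hq' := (congrArg PrimeSpectrum.asIdeal hq).symm
      simp only at hq'
      rw [hq', PrimeSpectrum.comap_asIdeal, Ideal.mem_comap, Ideal.quotientMap_mk] at hmem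
      exact hmem
    let γ : (R ⧸ J) →ₗ[R] S ⧸ q' := Submodule.liftQ J
      (IsScalarTower.toAlgHom R R (S ⧸ q')).toLinearMap (fun a ha => by
        rw [LinearMap.mem_ker]
        change algebraMap R (S ⧸ q') a = 0
        rw [IsScalarTower.algebraMap_apply R S (S ⧸ q'), Ideal.Quotient.algebraMap_eq,
          Ideal.Quotient.eq_zero_iff_mem]
        exact hpq a ha)
    have : q'.IsPrime := inferInstanceAs (Ideal.comap _ _).IsPrime
    have h1 : ((1 : S) ⊗ₜ[R] Submodule.Quotient.mk (p := J) (1 : R) : S ⊗[R] (R ⧸ J)) ≠ 0 := by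
      intro h0
      have := congrArg (LinearMap.liftBaseChange S γ) h0
      rw [LinearMap.liftBaseChange_one_tmul, map_zero] at this
      change algebraMap R (S ⧸ q') 1 = 0 at this
      rw [map_one] at this
      exact one_ne_zero this
    let κ : (R ⧸ J) →ₗ[R] M := Submodule.liftQ J (LinearMap.toSpanSingleton R M x) le_rfl
    have hκ : Function.Injective κ := LinearMap.ker_eq_bot.1 (Submodule.ker_liftQ_eq_bot _ _ _ le_rfl)
    refine ⟨⟨_, 0, fun h0 => h1 (Module.Flat.lTensor_preserves_injective_linearMap (M := S) κ hκ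
      (h0.trans (map_zero (κ.lTensor S)).symm))⟩⟩
  tfae_have 4 → 3 := by
    rintro ⟨h, hM⟩
    exact ⟨h, fun M _ _ hI => hM M fun m => ⟨1, fun a ha => hI a m (by rwa [pow_one] at ha)⟩⟩
  tfae_have 3 → 2 := by
    rintro ⟨h, hM⟩
    refine ⟨h, fun P => ?_⟩
    let p : PrimeSpectrum R := PrimeSpectrum.comap (Ideal.Quotient.mk I) P
    have hIp : I ≤ p.asIdeal := fun a ha => by
      show Ideal.Quotient.mk I a ∈ P.asIdeal
      rw [Ideal.Quotient.eq_zero_iff_mem.2 ha]
      exact P.asIdeal.zero_mem
    have := hM p.asIdeal.ResidueField (fun a m ha => by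
      rw [Algebra.smul_def, (Ideal.algebraMap_residueField_eq_zero).2 (hIp ha), zero_mul])
      inferInstance
    have hnt : Nontrivial (p.asIdeal.ResidueField ⊗[R] S) :=
      (TensorProduct.comm R p.asIdeal.ResidueField S).toEquiv.nontrivial
    obtain ⟨q, hq⟩ := p.nontrivial_iff_mem_rangeComap.1 hnt
    have hIq : I.map (algebraMap R S) ≤ q.asIdeal := Ideal.map_le_iff_le_comap.2
      (hIp.trans (congrArg PrimeSpectrum.asIdeal hq).ge)
    refine ⟨⟨q.asIdeal.map (Ideal.Quotient.mk _),
      Ideal.map_isPrime_of_surjective Ideal.Quotient.mk_surjective (by rwa [Ideal.mk_ker])⟩, ?_⟩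
    ext1
    apply Ideal.comap_injective_of_surjective (Ideal.Quotient.mk I) Ideal.Quotient.mk_surjective
    rw [PrimeSpectrum.comap_asIdeal, Ideal.comap_comap, Ideal.quotientMap_comp_mk, ← Ideal.comap_comap,
      Ideal.comap_map_of_surjective _ Ideal.Quotient.mk_surjective, ← RingHom.ker_eq_comap_bot,
      Ideal.mk_ker, sup_eq_left.2 hIq]
    exact congrArg PrimeSpectrum.asIdeal hq
  tfae_finish

end Groth.Agent.S2008
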