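import Groth.Statements.S2009
import Groth.Agent.H48.FormalGlue

set_option autoImplicit false
set_option linter.style.haveILetI false
universe u
open TensorProduct
open EtAlg

namespace Groth.Agent.S2009

/-- Let R -> S be flat with S/IS faithfully flat over R/I. Then the natural map M -> S ⊗_R M is
bijective for every I-power torsion R-module M if and only if R/I -> S/IS is bijective. -/
theorem result (R S : Type u) [CommRing R] [CommRing S] [Algebra R S] (I : Ideal R)
    [Module.Flat R S] [Module.FaithfullyFlat (R ⧸ I) (S ⧸ I.map (algebraMap R S))] :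
    (∀ (M : Type u) [AddCommGroup M] [Module R M], (∀ m : M, ∃ n : ℕ, ∀ a ∈ I ^ n, a • m = 0) →
      Function.Bijective (TensorProduct.mk R S M 1)) ↔
    Function.Bijective (Ideal.quotientMap (I.map (algebraMap R S)) (algebraMap R S) Ideal.le_comap_map) := by
  refine ⟨fun h => ?_, fun hq M _ _ hM => Groth.Agent.H48.FG.mk_bijective_of_torsion hq hM⟩
  refine Groth.Agent.H48.FG.quotBij_of_mk_bijective (h (R ⧸ I) fun q => ⟨1, fun a ha => ?_⟩)
  obtain ⟨r, rfl⟩ := Ideal.Quotient.mk_surjective q
  rw [pow_one] at ha
  rw [← Ideal.Quotient.mk_eq_mk, ← Submodule.Quotient.mk_smul, Submodule.Quotient.mk_eq_zero]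
  exact Ideal.mul_mem_right r I ha

end Groth.Agent.S2009
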