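import Groth.Statements.S2010
import Groth.Agent.H48.FormalExt

set_option autoImplicit false
universe u
open TensorProduct
open EtAlg

namespace Groth.Agent.S2010

/-- Let R -> S be flat and I a finitely generated ideal with R/I -> S/IS bijective; let N be an R-module
and M an I-power torsion R-module. For every short exact sequence 0 -> S ⊗_R N -> E' -> S ⊗_R M -> 0
of S-modules there are a short exact sequence 0 -> N -> E -> M -> 0 of R-modules and an R-linear map
E -> E' making the two squares with the maps n ↦ 1 ⊗ n and m ↦ 1 ⊗ m commute. -/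
theorem result (R S : Type u) [CommRing R] [CommRing S] [Algebra R S] [Module.Flat R S] (I : Ideal R)
    (hI : I.FG) (hq : Function.Bijective (Ideal.quotientMap (I.map (algebraMap R S)) (algebraMap R S) Ideal.le_comap_map))
    (N M : Type u) [AddCommGroup N] [Module R N] [AddCommGroup M] [Module R M]
    (hM : ∀ m : M, ∃ n : ℕ, ∀ a ∈ I ^ n, a • m = 0)
    (E' : Type u) [AddCommGroup E'] [Module S E'] [Module R E'] [IsScalarTower R S E'] (i' : S ⊗[R] N →ₗ[S] E') (p' : E' →ₗ[S] S ⊗[R] M)
    (hi' : Function.Injective i') (hp' : Function.Surjective p') (hex' : LinearMap.range i' = LinearMap.ker p') :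
    ∃ (E : Type u) (_ : AddCommGroup E) (_ : Module R E) (i : N →ₗ[R] E) (p : E →ₗ[R] M) (g : E →ₗ[R] E'),
      Function.Injective i ∧ Function.Surjective p ∧ LinearMap.range i = LinearMap.ker p ∧
      (∀ n : N, g (i n) = i' ((1 : S) ⊗ₜ[R] n)) ∧ (∀ e : E, p' (g e) = (1 : S) ⊗ₜ[R] p e) := by
  classical
  obtain ⟨t, f, hf⟩ := Submodule.fg_iff_exists_fin_generating_family.1 hI
  have hIf : I = Ideal.span (Set.range f) := hf.symm
  subst hIf
  let Ni := fun i : Fin t => LocalizedModule (Submonoid.powers (f i)) N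
  let ψ : N →ₗ[R] (∀ i, Ni i) := LinearMap.pi fun i => LocalizedModule.mkLinearMap _ N
  let ι : N →ₗ[R] E' := (i'.restrictScalars R).comp (TensorProduct.mk R S N 1)
  let Q : Submodule R (E' × (∀ i, Ni i)) :=
    { carrier := {v | ∃ (k : ℕ) (h : Fin t → N), (∀ i j, f j ^ k • h i = f i ^ k • h j) ∧
        (∀ j, f j ^ k • v.1 = ι (h j)) ∧ ∀ j, f j ^ k • v.2 j = ψ (h j) j}
      zero_mem' := ⟨0, 0, by simp, by simp, by simp⟩
      add_mem' := by
        rintro v w ⟨k, h, h1, h2, h3⟩ ⟨l, g, g1, g2, g3⟩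
        refine ⟨k + l, fun j => f j ^ l • h j + f j ^ k • g j, fun i j => ?_, fun j => ?_, fun j => ?_⟩
        · have e1 : f j ^ (k + l) • f i ^ l • h i = f i ^ (k + l) • f j ^ l • h j := by
            have := congrArg ((f i ^ l * f j ^ l) • ·) (h1 i j)
            simp only [smul_smul] at this ⊢
            convert this using 2 <;> ring
          have e2 : f j ^ (k + l) • f i ^ k • g i = f i ^ (k + l) • f j ^ k • g j := by
            have := congrArg ((f i ^ k * f j ^ k) • ·) (g1 i j)
            simp only [smul_smul] at this ⊢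
            convert this using 2 <;> ring
          show f j ^ (k + l) • (f i ^ l • h i + f i ^ k • g i) =
            f i ^ (k + l) • (f j ^ l • h j + f j ^ k • g j)
          rw [smul_add, smul_add, e1, e2]
        · rw [map_add, map_smul, map_smul, ← h2, ← g2, Prod.fst_add, smul_add, smul_smul, smul_smul,
            ← pow_add, ← pow_add, Nat.add_comm l k]
        · rw [map_add, map_smul, map_smul, Pi.add_apply, Pi.smul_apply, Pi.smul_apply, ← h3, ← g3,
            Prod.snd_add, Pi.add_apply, smul_add, smul_smul, smul_smul, ← pow_add, ← pow_add,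
            Nat.add_comm l k]
      smul_mem' := by
        rintro r v ⟨k, h, h1, h2, h3⟩
        refine ⟨k, r • h, fun i j => ?_, fun j => ?_, fun j => ?_⟩
        · simp only [Pi.smul_apply]
          rw [smul_comm, h1 i j, smul_comm]
        · rw [Prod.smul_fst, Pi.smul_apply, smul_comm, h2, map_smul]
        · rw [Prod.smul_snd, Pi.smul_apply, Pi.smul_apply, smul_comm, h3, map_smul, Pi.smul_apply] }
  let mkM := LinearEquiv.ofBijective (TensorProduct.mk R S M 1)
    (Groth.Agent.H48.FG.mk_bijective_of_torsion hq hM)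
  let g : Q →ₗ[R] E' := (LinearMap.fst R E' (∀ i, Ni i)).comp Q.subtype
  let p : Q →ₗ[R] M := mkM.symm.toLinearMap.comp ((p'.restrictScalars R).comp g)
  have hp1 : ∀ e : Q, p' (g e) = (1 : S) ⊗ₜ[R] p e := fun e => (mkM.apply_symm_apply _).symm
  let i : N →ₗ[R] Q := (ι.prod ψ).codRestrict Q fun n =>
    ⟨0, fun _ => n, by simp, by simp, by simp⟩
  have hpi : ∀ n, p' (g (i n)) = 0 := fun n => by
    have : i' ((1 : S) ⊗ₜ[R] n) ∈ LinearMap.ker p' := hex' ▸ ⟨_, rfl⟩
    exact this
  refine ⟨Q, inferInstance, inferInstance, i, p, g, ?_, ?_, ?_, fun n => rfl, hp1⟩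
  · rw [injective_iff_map_eq_zero]
    intro n hn
    have h1 : i' ((1 : S) ⊗ₜ[R] n) = 0 := congrArg (fun v : Q => (v : E' × (∀ i, Ni i)).1) hn
    have h2 : ψ n = 0 := congrArg (fun v : Q => (v : E' × (∀ i, Ni i)).2) hn
    have hk : ∀ j, ∃ k : ℕ, f j ^ k • n = 0 := fun j => by
      obtain ⟨⟨_, k, rfl⟩, hk⟩ := (IsLocalizedModule.eq_zero_iff (Submonoid.powers (f j))
        (LocalizedModule.mkLinearMap _ N)).1 (congrFun h2 j)
      exact ⟨k, hk⟩
    choose k hk using hk
    have hk' : ∀ j, f j ^ (Finset.univ.sup k) • n = 0 := fun j => by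
      obtain ⟨d, hd⟩ := Nat.exists_eq_add_of_le (Finset.le_sup (f := k) (Finset.mem_univ j))
      rw [hd, pow_add, mul_comm, mul_smul, hk, smul_zero]
    have hker : Groth.Agent.H48.FG.IsITors (Ideal.span (Set.range f))
        (Submodule.span R ({n} : Set N)) := Groth.Agent.H48.FG.isITors_of_kill fun y j => by
      obtain ⟨r, hr⟩ := Submodule.mem_span_singleton.1 y.2
      exact ⟨k j, Subtype.ext (by show f j ^ k j • (y : N) = 0; rw [← hr, smul_comm, hk, smul_zero])⟩
    have h3 : (1 : S) ⊗ₜ[R] n = 0 := hi' (h1.trans (map_zero _).symm)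
    have h4 := Module.Flat.lTensor_preserves_injective_linearMap (M := S)
      (Submodule.span R ({n} : Set N)).subtype (Submodule.span R ({n} : Set N)).subtype_injective
      (show (Submodule.span R ({n} : Set N)).subtype.lTensor S
        ((1 : S) ⊗ₜ[R] (⟨n, Submodule.mem_span_singleton_self n⟩ : Submodule.span R ({n} : Set N))) =
        (Submodule.span R ({n} : Set N)).subtype.lTensor S 0 by simpa using h3)
    exact congrArg Subtype.val
      ((Groth.Agent.H48.FG.mk_bijective_of_torsion hq hker).1 (h4.trans (map_zero _).symm))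
  · intro m
    obtain ⟨e, he⟩ := hp' ((1 : S) ⊗ₜ[R] m)
    obtain ⟨k, hk⟩ := hM m
    have hmem : ∀ j, f j ^ k • e ∈ LinearMap.range i' := fun j => by
      rw [hex', LinearMap.mem_ker, ← IsScalarTower.algebraMap_smul S, map_smul, he,
        IsScalarTower.algebraMap_smul, ← TensorProduct.tmul_smul,
        hk _ (Ideal.pow_mem_pow (Ideal.subset_span (Set.mem_range_self j)) k), TensorProduct.tmul_zero]
    choose x hx using hmem
    have hc : ∀ a b, f b ^ k • x a = f a ^ k • x b := fun a b => hi' <| by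
      rw [← IsScalarTower.algebraMap_smul S (f b ^ k) (x a),
        ← IsScalarTower.algebraMap_smul S (f a ^ k) (x b), map_smul, map_smul, hx, hx,
        IsScalarTower.algebraMap_smul, IsScalarTower.algebraMap_smul, smul_comm]
    obtain ⟨h, z, hh, hz⟩ := Groth.Agent.H48.FG.exists_decomp_family hq k x hc
    let y : ∀ j, Ni j := fun j => LocalizedModule.mk (h j)
      ⟨f j ^ k, Submonoid.pow_mem _ (Submonoid.mem_powers (f j)) k⟩
    have hQ : ((e - i' z, y) : E' × (∀ i, Ni i)) ∈ Q := by
      refine ⟨k, h, hh, fun j => ?_, fun j => ?_⟩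
      · show f j ^ k • (e - i' z) = i' ((1 : S) ⊗ₜ[R] h j)
        rw [smul_sub, ← hx j, hz j, map_add, ← IsScalarTower.algebraMap_smul S (f j ^ k) z, map_smul,
          IsScalarTower.algebraMap_smul]
        abel
      · show f j ^ k • y j = LocalizedModule.mk (h j) 1
        rw [LocalizedModule.smul'_mk]
        exact LocalizedModule.mk_cancel
          (⟨f j ^ k, Submonoid.pow_mem _ (Submonoid.mem_powers (f j)) k⟩ : Submonoid.powers (f j)) (h j)
    refine ⟨⟨_, hQ⟩, mkM.injective ?_⟩
    show mkM (mkM.symm (p' (e - i' z))) = mkM m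
    have h0 : p' (i' z) = 0 := LinearMap.mem_ker.1 (hex' ▸ ⟨z, rfl⟩)
    rw [mkM.apply_symm_apply, map_sub, he, h0, sub_zero]
    rfl
  · refine le_antisymm ?_ fun v hv => ?_
    · rintro _ ⟨n, rfl⟩
      rw [LinearMap.mem_ker]
      show mkM.symm (p' (g (i n))) = 0
      rw [hpi, map_zero]
    · have h0 : p' (g v) = 0 := by rw [hp1, LinearMap.mem_ker.1 hv, TensorProduct.tmul_zero]
      obtain ⟨x, hx⟩ : g v ∈ LinearMap.range i' := hex' ▸ h0
      obtain ⟨k, h, hh, h2, h3⟩ := v.2
      have hxk : ∀ j, f j ^ k • x = (1 : S) ⊗ₜ[R] h j := fun j => hi' <| by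
        rw [← IsScalarTower.algebraMap_smul S (f j ^ k) x, map_smul, hx,
          IsScalarTower.algebraMap_smul]
        exact h2 j
      obtain ⟨n, hn, hn'⟩ := Groth.Agent.H48.FG.exists_of_pow_smul hq k x h hh hxk
      refine ⟨n, Subtype.ext (Prod.ext ?_ (funext fun j => ?_))⟩
      · show i' ((1 : S) ⊗ₜ[R] n) = g v
        rw [hn, hx]
      · show ψ n j = (v : E' × (∀ i, Ni i)).2 j
        refine (Module.End.isUnit_iff _).1 (IsLocalizedModule.map_units
          (LocalizedModule.mkLinearMap (Submonoid.powers (f j)) N)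
          (⟨f j ^ k, Submonoid.pow_mem _ (Submonoid.mem_powers (f j)) k⟩ :
            Submonoid.powers (f j))) |>.1 ?_
        show f j ^ k • ψ n j = f j ^ k • (v : E' × (∀ i, Ni i)).2 j
        rw [h3, ← hn', map_smul, Pi.smul_apply]

end Groth.Agent.S2010
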