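import Groth.Statements.S2011
import Mathlib.RingTheory.Ideal.KrullsHeightTheorem
import Mathlib.RingTheory.Jacobson.Ring
import Mathlib.RingTheory.Localization.Away.Basic

set_option autoImplicit false
universe u
open EtAlg

namespace Groth.Agent.S2011

lemma not_lt_lt {D : Type u} [CommRing D] [IsDomain D] [IsNoetherianRing D] {x : D} {p q : Ideal D}
    [p.IsPrime] [q.IsPrime] (hp : p ≠ ⊥) (hpq : p < q) :
    q ∉ (Ideal.span {x}).minimalPrimes := by
  intro hmin
  have h1 := Ideal.height_le_one_of_isPrincipal_of_mem_minimalPrimes (Ideal.span {x}) q hmin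
  have h2 : p.height + 1 ≤ q.height := Ideal.height_add_one_le_of_lt_of_isPrime hpq
  have h3 : p.height ≠ 0 := fun h => hp (Ideal.height_eq_zero_iff_eq_bot.1 h)
  have h4 : 1 ≤ p.height := Order.one_le_iff_ne_zero.2 h3
  have : (2 : ℕ∞) ≤ 1 := le_trans (le_trans (by norm_num) (add_le_add_left h4 1)) (h2.trans h1)
  norm_num at this

lemma exists_prime {D : Type u} [CommRing D] [IsDomain D] [IsNoetherianRing D] (g : D) (hg : g ≠ 0)
    (p m : Ideal D) [p.IsPrime] [m.IsPrime] (hp : p ≠ ⊥) (hpm : p < m) :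
    ∃ Q : Ideal D, Q.IsPrime ∧ Q ≠ ⊥ ∧ g ∉ Q := by
  classical
  have hfin := Ideal.finite_minimalPrimes_of_isNoetherianRing D (Ideal.span {g})
  have hnle : ¬ (m : Set D) ⊆ ⋃ q ∈ ((insert ⊥ hfin.toFinset : Finset (Ideal D)) : Set (Ideal D)), (q : Set D) := by
    rw [Ideal.subset_union_prime ⊥ ⊥ (fun q hq _ _ => ?_)]
    · rintro ⟨q, hq, hmq⟩
      rcases Finset.mem_insert.1 hq with rfl | hq
      · exact not_lt_of_ge hmq (lt_of_le_of_lt bot_le hpm)
      have hq' := (Set.Finite.mem_toFinset hfin).1 hq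
      have := hq'.1.1
      exact not_lt_lt hp (lt_of_lt_of_le hpm hmq) hq'
    · rcases Finset.mem_insert.1 hq with rfl | hq
      · exact Ideal.isPrime_bot
      · exact ((Set.Finite.mem_toFinset hfin).1 hq).1.1
  obtain ⟨b, hbm, hb⟩ := Set.not_subset.1 hnle
  simp only [Set.mem_iUnion, Finset.coe_insert, Set.mem_insert_iff, Finset.mem_coe, Set.Finite.mem_toFinset,
    SetLike.mem_coe, not_exists] at hb
  have hspan : Ideal.span {b} ≤ m := by rwa [Ideal.span_singleton_le_iff_mem]
  obtain ⟨Q, hQ, hQm⟩ := Ideal.exists_minimalPrimes_le hspan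
  have := hQ.1.1
  refine ⟨Q, hQ.1.1, fun h => hb ⊥ (Or.inl rfl) (h ▸ hQ.1.2 (Ideal.mem_span_singleton_self b)),
    fun hgQ => ?_⟩
  obtain ⟨q, hq, hqQ⟩ := Ideal.exists_minimalPrimes_le (J := Q) (I := Ideal.span {g})
    (by rwa [Ideal.span_singleton_le_iff_mem])
  have := hq.1.1
  rcases hqQ.eq_or_lt with rfl | hlt
  · exact hb q (Or.inr hq) (hQ.1.2 (Ideal.mem_span_singleton_self b))
  · refine not_lt_lt ?_ hlt hQ
    rintro rfl
    exact hg (by simpa using hq.1.2 (Ideal.mem_span_singleton_self g))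

/-- Let A be a Noetherian ring and I an ideal contained in the Jacobson radical of A (a Zariski pair).
Then for every f in I the localization A_f is a Jacobson ring. -/
theorem result (A : Type u) [CommRing A] [IsNoetherianRing A] (I : Ideal A)
    (hI : I ≤ (⊥ : Ideal A).jacobson) (f : A) (hf : f ∈ I) : IsJacobsonRing (Localization.Away f) := by
  classical
  have hnoe : IsNoetherianRing (Localization.Away f) :=
    IsLocalization.isNoetherianRing (Submonoid.powers f) _ inferInstance
  rw [isJacobsonRing_iff_prime_eq]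
  intro Q
  induction Q using WellFoundedGT.induction with
  | ind Q ih =>
    intro hQ
    by_cases hmax : Q.IsMaximal
    · exact Ideal.jacobson_eq_self_of_isMaximal
    refine le_antisymm (fun x hx => ?_) Ideal.le_jacobson
    by_contra hxQ
    suffices ∃ Q' : Ideal (Localization.Away f), Q'.IsPrime ∧ Q < Q' ∧ x ∉ Q' by
      obtain ⟨Q', hQ', hlt, hxQ'⟩ := this
      exact hxQ' (ih Q' hlt hQ' ▸ Ideal.jacobson_mono hlt.le hx)
    obtain ⟨M, hM, hQM⟩ := Ideal.exists_le_maximal Q hQ.ne_top
    have hQM' : Q < M := lt_of_le_of_ne hQM fun h => hmax (h ▸ hM)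
    obtain ⟨a, s, rfl⟩ := IsLocalization.exists_mk'_eq (Submonoid.powers f) x
    let e := IsLocalization.orderIsoOfPrime (Submonoid.powers f) (Localization.Away f)
    obtain ⟨hP, hPd⟩ := (e ⟨Q, hQ⟩).2
    obtain ⟨hP'', hP''d⟩ := (e ⟨M, hM.isPrime⟩).2
    set P := Q.comap (algebraMap A (Localization.Away f)) with hPdef
    set P'' := M.comap (algebraMap A (Localization.Away f)) with hP''def
    change P.IsPrime at hP
    change Disjoint (Submonoid.powers f : Set A) P at hPd
    change P''.IsPrime at hP''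
    change Disjoint (Submonoid.powers f : Set A) P'' at hP''d
    have hlt : P < P'' := e.strictMono (show (⟨Q, hQ⟩ : {p : Ideal (Localization.Away f) // p.IsPrime}) < ⟨M, hM.isPrime⟩ from hQM')
    obtain ⟨m, hm, hP''m⟩ := Ideal.exists_le_maximal P'' hP''.ne_top
    have hfm : f ∈ m := Ideal.mem_sInf.1 (hI hf) ⟨bot_le, hm⟩
    have hfP : f ∉ P := Set.disjoint_left.1 hPd (Submonoid.mem_powers f)
    have hfP'' : f ∉ P'' := Set.disjoint_left.1 hP''d (Submonoid.mem_powers f)
    have haP : a ∉ P := by
      intro h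
      rw [hPdef, Ideal.mem_comap, ← IsLocalization.mk'_spec (Localization.Away f) a s] at h
      exact hxQ ((hQ.mem_or_mem h).resolve_right fun h' => hQ.ne_top
        (Ideal.eq_top_of_isUnit_mem _ h' (IsLocalization.map_units _ s)))
    have hker : RingHom.ker (Ideal.Quotient.mk P) ≤ P'' := by rw [Ideal.mk_ker]; exact hlt.le
    have hkerm : RingHom.ker (Ideal.Quotient.mk P) ≤ m := hker.trans hP''m
    have hp1 : (P''.map (Ideal.Quotient.mk P)).IsPrime :=
      Ideal.map_isPrime_of_surjective Ideal.Quotient.mk_surjective hker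
    have hm1 : (m.map (Ideal.Quotient.mk P)).IsPrime := by
      have := hm.isPrime
      exact Ideal.map_isPrime_of_surjective Ideal.Quotient.mk_surjective hkerm
    have hcomap : ∀ J : Ideal A, P ≤ J → (J.map (Ideal.Quotient.mk P)).comap (Ideal.Quotient.mk P) = J :=
      fun J hJ => by
        rw [Ideal.comap_map_of_surjective' _ Ideal.Quotient.mk_surjective, Ideal.mk_ker, sup_eq_left.2 hJ]
    obtain ⟨R, hR, hR0, hgR⟩ := exists_prime (Ideal.Quotient.mk P (f * a))
      (fun h => (hP.mem_or_mem (Ideal.Quotient.eq_zero_iff_mem.1 h)).elim hfP haP)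
      (P''.map (Ideal.Quotient.mk P)) (m.map (Ideal.Quotient.mk P))
      (fun h => by
        have := congrArg (Ideal.comap (Ideal.Quotient.mk P)) h
        rw [hcomap P'' hlt.le, ← RingHom.ker_eq_comap_bot, Ideal.mk_ker] at this
        exact hlt.ne this.symm)
      (lt_of_le_of_ne (Ideal.map_mono hP''m) fun h => by
        have := congrArg (Ideal.comap (Ideal.Quotient.mk P)) h
        rw [hcomap P'' hlt.le, hcomap m (hlt.le.trans hP''m)] at this
        exact hfP'' (this ▸ hfm))
    set P' := R.comap (Ideal.Quotient.mk P) with hP'def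
    have hPP' : P < P' := lt_of_le_of_ne (fun y hy => by
        rw [hP'def, Ideal.mem_comap, Ideal.Quotient.eq_zero_iff_mem.2 hy]; exact R.zero_mem)
      fun h => hR0 (by
        have := congrArg (Ideal.map (Ideal.Quotient.mk P)) h
        rwa [Ideal.map_quotient_self, hP'def, Ideal.map_comap_of_surjective _ Ideal.Quotient.mk_surjective,
          eq_comm] at this)
    have hd : Disjoint (Submonoid.powers f : Set A) P' := by
      refine Set.disjoint_left.2 fun y hy hyP' => ?_
      obtain ⟨k, rfl⟩ := hy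
      apply hgR
      rw [map_mul]
      exact R.mul_mem_right _ ((Ideal.IsPrime.mem_of_pow_mem (I := P') inferInstance k hyP'))
    let Q' := e.symm ⟨P', inferInstance, hd⟩
    have hQ'c : Q'.1.comap (algebraMap A (Localization.Away f)) = P' :=
      congrArg Subtype.val (e.apply_symm_apply ⟨P', inferInstance, hd⟩)
    refine ⟨Q'.1, Q'.2, ?_, fun h => ?_⟩
    · have : (⟨Q, hQ⟩ : {p : Ideal (Localization.Away f) // p.IsPrime}) < Q' := by
        rw [← e.lt_iff_lt, e.apply_symm_apply]
        exact hPP'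
      exact this
    · apply hgR
      rw [map_mul]
      refine R.mul_mem_left _ ?_
      rw [← Ideal.mem_comap, ← hP'def, ← hQ'c, Ideal.mem_comap, ← IsLocalization.mk'_spec (Localization.Away f) a s]
      exact Q'.1.mul_mem_right _ h

end Groth.Agent.S2011
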