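import Groth.Statements.S2012
import Mathlib.RingTheory.Finiteness.ModuleFinitePresentation
import Mathlib.RingTheory.Flat.EquationalCriterion
import Mathlib.RingTheory.Nakayama
import Mathlib.RingTheory.Finiteness.Ideal

set_option autoImplicit false
universe u
open EtAlg

namespace Groth.Agent.S2012

/-- Let A be a ring and I an ideal contained in its Jacobson radical. Let B be an A-algebra which is
flat, integral and of finite presentation over A and such that A/I -> B/IB is bijective. Then A -> B
is bijective. -/
theorem result (A B : Type u) [CommRing A] [CommRing B] [Algebra A B]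
    (I : Ideal A) (hI : I ≤ (⊥ : Ideal A).jacobson) [Module.Flat A B] [Algebra.IsIntegral A B] [Algebra.FinitePresentation A B]
    (hq : Function.Bijective (Ideal.quotientMap (I.map (algebraMap A B)) (algebraMap A B) Ideal.le_comap_map)) :
    Function.Bijective (algebraMap A B) := by
  classical
  have hfin : Module.Finite A B := Algebra.IsIntegral.finite
  have : Module.FinitePresentation A B := Module.FinitePresentation.of_finite_of_finitePresentation A B
  have hproj : Module.Projective A B := Module.Flat.projective_of_finitePresentation
  have hsurj : Function.Surjective (algebraMap A B) := by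
    have h : (⊤ : Submodule A B) ≤ LinearMap.range (Algebra.linearMap A B) := by
      refine Submodule.le_of_le_smul_of_le_jacobson_bot (I := I) Module.Finite.fg_top hI fun b _ => ?_
      obtain ⟨q, hq'⟩ := hq.2 (Ideal.Quotient.mk _ b)
      obtain ⟨a, rfl⟩ := Ideal.Quotient.mk_surjective q
      rw [Ideal.quotientMap_mk, Ideal.Quotient.eq] at hq'
      refine Submodule.mem_sup.2 ⟨algebraMap A B a, ⟨a, rfl⟩, b - algebraMap A B a, ?_, by abel⟩
      have hneg := (I.map (algebraMap A B)).neg_mem hq'
      rw [neg_sub] at hneg
      rw [Ideal.smul_top_eq_map]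
      exact hneg
    exact fun b => h Submodule.mem_top
  refine ⟨(injective_iff_map_eq_zero _).2 fun a ha => ?_, hsurj⟩
  obtain ⟨σ, hσ⟩ := Module.projective_lifting_property (Algebra.linearMap A B)
    (LinearMap.id (R := A) (M := B)) hsurj
  let e := 1 - σ 1
  have he1 : algebraMap A B (σ 1) = 1 := LinearMap.congr_fun hσ 1
  have hidem : σ 1 * σ 1 = σ 1 := by
    have h := σ.map_smul (σ 1) 1
    rw [Algebra.smul_def, he1, one_mul, smul_eq_mul] at h
    exact h.symm
  have heI : e ∈ I := by
    rw [← Ideal.Quotient.eq_zero_iff_mem]
    refine hq.1 ?_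
    rw [Ideal.quotientMap_mk, map_sub, map_one, he1, sub_self, map_zero, map_zero]
  have hu : IsUnit (σ 1) := by
    refine Ideal.isUnit_of_sub_one_mem_jacobson_bot _ ?_
    have := neg_mem (hI heI)
    rwa [neg_sub] at this
  have h1 : σ 1 = 1 := hu.mul_left_cancel (hidem.trans (mul_one _).symm)
  have h := σ.map_smul a 1
  rw [Algebra.smul_def, ha, zero_mul, map_zero, h1, smul_eq_mul, mul_one] at h
  exact h.symm

end Groth.Agent.S2012
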