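import Groth.Statements.S2014
import Mathlib.RingTheory.Length
import Mathlib.RingTheory.HopkinsLevitzki
import Mathlib.RingTheory.Ideal.MinimalPrime.Noetherian
import Mathlib.RingTheory.KrullDimension.Basic
import Mathlib.RingTheory.KrullDimension.Zero
import Mathlib.LinearAlgebra.Pi
import Mathlib.RingTheory.Finiteness.Prod

set_option autoImplicit false
universe u
open EtAlg

namespace Groth.Agent.S2014

/-- Let R be a Noetherian local ring of Krull dimension 1 and x an element of the maximal ideal
contained in no minimal prime of R. Then the number of minimal prime ideals of R is at most the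
length of R/xR as an R-module. -/
theorem result (R : Type u) [CommRing R] [IsNoetherianRing R] [IsLocalRing R]
    (hdim : ringKrullDim R = 1) (x : R) (hx : x ∈ IsLocalRing.maximalIdeal R) (hmin : ∀ p ∈ minimalPrimes R, x ∉ p) :
    (Set.ncard (minimalPrimes R) : ℕ∞) ≤ Module.length R (R ⧸ Ideal.span {x}) := by
  classical
  have hfinP : (minimalPrimes R).Finite := minimalPrimes.finite_of_isNoetherianRing R
  let P := {q : Ideal R // q ∈ minimalPrimes R}
  have : Finite P := hfinP.to_subtype
  let : Fintype P := Fintype.ofFinite P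
  have hpr : ∀ q : P, q.1.IsPrime := fun q => q.2.isPrime
  let S := ∀ q : P, R ⧸ q.1
  let φ : R →ₗ[R] S := LinearMap.pi fun q => q.1.mkQ
  let μ : S →ₗ[R] S := x • LinearMap.id
  have hμ : Function.Injective μ := by
    refine (injective_iff_map_eq_zero _).2 fun v hv => funext fun q => ?_
    obtain ⟨r, hr⟩ := Submodule.Quotient.mk_surjective _ (v q)
    have h0 : x • v q = 0 := congrFun hv q
    rw [← hr, ← Submodule.Quotient.mk_smul, Submodule.Quotient.mk_eq_zero] at h0
    rw [← hr]
    exact (Submodule.Quotient.mk_eq_zero _).2 (((hpr q).mem_or_mem h0).resolve_left (hmin _ q.2))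
  let N := LinearMap.range φ
  let xN := N.map μ
  let xS := LinearMap.range μ
  have hxNN : xN ≤ N := by
    rintro _ ⟨v, hv, rfl⟩
    exact N.smul_mem x hv
  -- an element in no minimal prime killing `S ⧸ N`
  have hT : ∃ T : R, (∀ q : P, T ∉ q.1) ∧ ∀ v : S, T • v ∈ N := by
    have ht : ∀ q : P, ∃ t, t ∉ q.1 ∧ ∀ q' : P, q' ≠ q → t ∈ q'.1 := by
      intro q
      have h : ¬ (Finset.univ.erase q).inf (fun q' : P => q'.1) ≤ q.1 := by
        intro h
        obtain ⟨q', hq', hle⟩ := (Ideal.IsPrime.inf_le' (hpr q)).1 h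
        exact (Finset.ne_of_mem_erase hq') (Subtype.ext (le_antisymm hle
          (q.2.2 ⟨hpr q', bot_le⟩ hle)))
      obtain ⟨t, ht, htq⟩ := SetLike.not_le_iff_exists.1 h
      exact ⟨t, htq, fun q' hq' => Finset.inf_le (f := fun q' : P => q'.1)
        (Finset.mem_erase.2 ⟨hq', Finset.mem_univ _⟩) ht⟩
    choose t htq ht' using ht
    refine ⟨∑ q, t q, fun q hq => ?_, fun v => ?_⟩
    · refine htq q ?_
      have h2 : (∑ q' ∈ Finset.univ.erase q, t q') ∈ q.1 :=
        Ideal.sum_mem _ fun q' hq' => ht' q' q (Finset.ne_of_mem_erase hq').symm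
      have h3 : t q = (∑ q', t q') - ∑ q' ∈ Finset.univ.erase q, t q' := by
        rw [Finset.sum_erase_eq_sub (Finset.mem_univ q)]; abel
      exact h3 ▸ sub_mem hq h2
    · choose r hr using fun q : P => Submodule.Quotient.mk_surjective q.1 (v q)
      refine ⟨∑ q, t q * r q, funext fun q => ?_⟩
      show Submodule.Quotient.mk (∑ q', t q' * r q') = (∑ q', t q') • v q
      rw [← hr q, ← Submodule.Quotient.mk_smul, Submodule.Quotient.eq, smul_eq_mul, Finset.sum_mul,
        ← Finset.sum_sub_distrib]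
      refine Ideal.sum_mem _ fun q' _ => ?_
      by_cases h : q' = q
      · subst h; simp
      · rw [← mul_sub]
        exact Ideal.mul_mem_right _ _ (ht' q' q (Ne.symm h))
  obtain ⟨T, hTq, hTN⟩ := hT
  have hdim1 : Ring.KrullDimLE 1 R := Ring.krullDimLE_iff.2 (by rw [hdim]; rfl)
  have hA : IsArtinianRing (R ⧸ Ideal.span {T}) := by
    have : Ring.KrullDimLE 0 (R ⧸ Ideal.span {T}) := Ring.KrullDimLE.mk₀ fun Q hQ => by
      have hQ' : (Q.comap (Ideal.Quotient.mk (Ideal.span {T}))).IsPrime := hQ.comap _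
      have hTQ : T ∈ Q.comap (Ideal.Quotient.mk (Ideal.span {T})) := by
        rw [Ideal.mem_comap, Ideal.Quotient.eq_zero_iff_mem.2 (Ideal.mem_span_singleton_self T)]
        exact Q.zero_mem
      rcases Ring.krullDimLE_one_iff.1 hdim1 _ hQ' with h | h
      · exact absurd hTQ (hTq ⟨_, h⟩)
      · rw [← Ideal.map_comap_of_surjective _ Ideal.Quotient.mk_surjective Q]
        exact Ideal.IsMaximal.map_of_surjective_of_ker_le Ideal.Quotient.mk_surjective
          (Ideal.ker_le_comap _)
    have : IsNoetherianRing (R ⧸ Ideal.span {T}) := isNoetherianRing_of_surjective R _ (Ideal.Quotient.mk _) Ideal.Quotient.mk_surjective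
    exact IsNoetherianRing.isArtinianRing_of_krullDimLE_zero
  have hfinC : Module.length R (S ⧸ N) ≠ ⊤ := by
    have hk : Module.IsTorsionBySet R (S ⧸ N) (Ideal.span {T} : Ideal R) := by
      rw [Module.isTorsionBySet_iff_subset_annihilator, SetLike.coe_subset_coe,
        Ideal.span_singleton_le_iff_mem, Module.mem_annihilator]
      intro c
      obtain ⟨v, rfl⟩ := Submodule.Quotient.mk_surjective _ c
      rw [← Submodule.Quotient.mk_smul, Submodule.Quotient.mk_eq_zero]
      exact hTN v
    let := hk.module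
    have : IsScalarTower R (R ⧸ Ideal.span {T}) (S ⧸ N) := hk.isScalarTower
    have : Module.Finite (R ⧸ Ideal.span {T}) (S ⧸ N) := Module.Finite.of_restrictScalars_finite R _ _
    rw [Module.length_ne_top_iff, isFiniteLength_iff_isNoetherian_isArtinian]
    refine ⟨inferInstance, ?_⟩
    have : IsArtinian (R ⧸ Ideal.span {T}) (S ⧸ N) := inferInstance
    exact isArtinian_of_surjective_algebraMap (R := R ⧸ Ideal.span {T}) Ideal.Quotient.mk_surjective
  -- the two exact sequences
  have e₁ : Module.length R (S ⧸ xN) =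
      Module.length R (N ⧸ xN.comap N.subtype) + Module.length R (S ⧸ N) := by
    refine Module.length_eq_add_of_exact (Submodule.mapQ (xN.comap N.subtype) xN N.subtype le_rfl)
      (Submodule.factor hxNN) ?_ (Submodule.factor_surjective hxNN) ?_
    · rw [← LinearMap.ker_eq_bot, Submodule.mapQ, Submodule.ker_liftQ_eq_bot]
      rw [LinearMap.ker_comp, Submodule.ker_mkQ]
    · intro z
      obtain ⟨z, rfl⟩ := Submodule.Quotient.mk_surjective _ z
      refine ⟨fun h => ⟨Submodule.Quotient.mk ⟨z, (Submodule.Quotient.mk_eq_zero N).1 h⟩, rfl⟩, ?_⟩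
      rintro ⟨w, hw⟩
      obtain ⟨w, rfl⟩ := Submodule.Quotient.mk_surjective _ w
      rw [← hw]
      exact (Submodule.Quotient.mk_eq_zero N).2 w.2
  have hxNS : xN ≤ xS := LinearMap.map_le_range
  have e₂ : Module.length R (S ⧸ xN) = Module.length R (S ⧸ N) + Module.length R (S ⧸ xS) := by
    refine Module.length_eq_add_of_exact (Submodule.mapQ N xN μ (Submodule.le_comap_map μ N))
      (Submodule.factor hxNS) ?_ (Submodule.factor_surjective hxNS) ?_
    · refine (injective_iff_map_eq_zero _).2 fun z hz => ?_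
      obtain ⟨z, rfl⟩ := Submodule.Quotient.mk_surjective _ z
      obtain ⟨w, hw, hwz⟩ := (Submodule.Quotient.mk_eq_zero xN).1 hz
      exact (Submodule.Quotient.mk_eq_zero N).2 (hμ hwz ▸ hw)
    · intro z
      obtain ⟨z, rfl⟩ := Submodule.Quotient.mk_surjective _ z
      refine ⟨fun h => ?_, ?_⟩
      · obtain ⟨w, hw⟩ := (Submodule.Quotient.mk_eq_zero xS).1 h
        exact ⟨Submodule.Quotient.mk w, congrArg Submodule.Quotient.mk hw⟩
      · rintro ⟨w, hw⟩
        obtain ⟨w, rfl⟩ := Submodule.Quotient.mk_surjective _ w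
        rw [← hw]
        exact (Submodule.Quotient.mk_eq_zero xS).2 ⟨w, rfl⟩
  have heq : Module.length R (N ⧸ xN.comap N.subtype) = Module.length R (S ⧸ xS) := by
    rw [e₁, add_comm (Module.length R (S ⧸ N))] at e₂
    exact WithTop.add_right_cancel hfinC e₂
  have hle : Module.length R (N ⧸ xN.comap N.subtype) ≤ Module.length R (R ⧸ Ideal.span {x}) := by
    refine Module.length_le_of_surjective (Submodule.mapQ (Ideal.span {x}) _ φ.rangeRestrict ?_) ?_
    · rw [Ideal.span, Submodule.span_le, Set.singleton_subset_iff]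
      refine ⟨φ 1, ⟨1, rfl⟩, ?_⟩
      show x • φ 1 = φ x
      rw [← map_smul, smul_eq_mul, mul_one]
    · intro z
      obtain ⟨z, rfl⟩ := Submodule.Quotient.mk_surjective _ z
      obtain ⟨r, hr⟩ := φ.surjective_rangeRestrict z
      exact ⟨Submodule.Quotient.mk r, congrArg Submodule.Quotient.mk hr⟩
  refine le_trans ?_ (heq ▸ hle)
  let π : S →ₗ[R] ∀ q : P, R ⧸ (q.1 ⊔ Ideal.span {x}) :=
    LinearMap.pi fun q => (Submodule.factor (le_sup_left : q.1 ≤ q.1 ⊔ Ideal.span {x})).comp
      (LinearMap.proj q)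
  have hπ : Function.Surjective π := fun v => by
    choose r hr using fun q : P => Submodule.factor_surjective (le_sup_left : q.1 ≤ q.1 ⊔ Ideal.span {x}) (v q)
    exact ⟨r, funext hr⟩
  have hπ0 : xS ≤ LinearMap.ker π := by
    rintro _ ⟨v, rfl⟩
    refine LinearMap.mem_ker.2 (funext fun q => ?_)
    obtain ⟨r, hr⟩ := Submodule.Quotient.mk_surjective _ (v q)
    show Submodule.factor (le_sup_left : q.1 ≤ q.1 ⊔ Ideal.span {x}) (x • v q) = 0
    rw [← hr, ← Submodule.Quotient.mk_smul]
    exact (Submodule.Quotient.mk_eq_zero _).2 (Ideal.mem_sup_right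
      (Ideal.mul_mem_right r _ (Ideal.mem_span_singleton_self x)))
  refine le_trans ?_ (Module.length_le_of_surjective (xS.liftQ π hπ0) fun v => by
    obtain ⟨w, hw⟩ := hπ v
    exact ⟨Submodule.Quotient.mk w, hw⟩)
  rw [Module.length_pi_of_fintype, ← Nat.card_coe_set_eq, Nat.card_eq_fintype_card,
    Finset.card_univ.symm, Finset.card_eq_sum_ones, Nat.cast_sum]
  refine Finset.sum_le_sum fun q _ => ?_
  have hne : q.1 ⊔ Ideal.span {x} ≠ ⊤ := ne_top_of_le_ne_top
    (IsLocalRing.maximalIdeal.isMaximal R).ne_top (sup_le (IsLocalRing.le_maximalIdeal (hpr q).ne_top)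
      ((Ideal.span_singleton_le_iff_mem _).2 hx))
  have : Nontrivial (R ⧸ (q.1 ⊔ Ideal.span {x})) := Ideal.Quotient.nontrivial_iff.2 hne
  exact Order.one_le_iff_pos.2 Module.length_pos

end Groth.Agent.S2014
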