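import Groth.Statements.S2015
import Mathlib.Algebra.Module.FinitePresentation
import Mathlib.Tactic.LinearCombination
import Mathlib.Tactic.Ring
import Mathlib.LinearAlgebra.Pi

set_option autoImplicit false
universe u
open EtAlg

namespace Groth.Agent.S2015

lemma exists_dvd_all {R : Type u} [CommRing R] (h : ∀ a b : R, a ∣ b ∨ b ∣ a) (t : Finset R) :
    ∃ a, (a = 0 ∨ a ∈ t) ∧ ∀ b ∈ t, a ∣ b := by
  classical
  induction t using Finset.induction with
  | empty => exact ⟨0, Or.inl rfl, by simp⟩
  | insert x s _ ih =>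
    obtain ⟨a, ha, hall⟩ := ih
    rcases h a x with hax | hxa
    · refine ⟨a, ha.imp_right (fun h => Finset.mem_insert_of_mem h), fun b hb => ?_⟩
      rcases Finset.mem_insert.1 hb with rfl | hb
      exacts [hax, hall b hb]
    · refine ⟨x, Or.inr (Finset.mem_insert_self _ _), fun b hb => ?_⟩
      rcases Finset.mem_insert.1 hb with rfl | hb
      exacts [dvd_rfl, hxa.trans (hall b hb)]

lemma aux {R : Type u} [CommRing R] (h : ∀ a b : R, a ∣ b ∨ b ∣ a) : ∀ (n : ℕ)
    (K : Submodule R (Fin n → R)), K.FG →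
    ∃ f : Fin n → R, Nonempty (((Fin n → R) ⧸ K) ≃ₗ[R] ((i : Fin n) → R ⧸ Ideal.span {f i})) := by
  classical
  intro n
  induction n with
  | zero => exact fun K _ => ⟨0, ⟨LinearEquiv.ofSubsingleton _ _⟩⟩
  | succ n ih =>
    intro K hK
    obtain ⟨s, hs⟩ := hK
    obtain ⟨a, ha, hall⟩ := exists_dvd_all h ((s ×ˢ (Finset.univ : Finset (Fin (n + 1)))).image fun p => p.1 p.2)
    obtain ⟨i₀, w, hw, haw⟩ : ∃ (i₀ : Fin (n + 1)) (w : Fin (n + 1) → R), w i₀ = 1 ∧ a • w ∈ K := by
      rcases ha with rfl | ha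
      · exact ⟨0, Pi.single 0 1, by simp, by simp⟩
      · obtain ⟨⟨v, i₀⟩, hv, rfl⟩ := Finset.mem_image.1 ha
        rw [Finset.mem_product] at hv
        have hd : ∀ i, v i₀ ∣ v i := fun i =>
          hall _ (Finset.mem_image.2 ⟨(v, i), Finset.mem_product.2 ⟨hv.1, Finset.mem_univ _⟩, rfl⟩)
        choose w hw using hd
        refine ⟨i₀, Function.update w i₀ 1, by simp, ?_⟩
        have : v i₀ • Function.update w i₀ 1 = v := by
          funext i
          rcases eq_or_ne i i₀ with rfl | hne
          · simp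
          · simp [Function.update_of_ne hne, ← hw i]
        simp only [this]
        exact hs ▸ Submodule.subset_span hv.1
    have hcoord : ∀ x ∈ K, ∀ i, a ∣ x i := by
      intro x hx i
      have hle : K ≤ Submodule.comap (LinearMap.proj i : (Fin (n + 1) → R) →ₗ[R] R) (Ideal.span {a}) := by
        rw [← hs, Submodule.span_le]
        intro v hv
        exact Ideal.mem_span_singleton.2 (hall _ (Finset.mem_image.2
          ⟨(v, i), Finset.mem_product.2 ⟨hv, Finset.mem_univ _⟩, rfl⟩))
      exact Ideal.mem_span_singleton.1 (hle hx)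
    let ψ : (Fin (n + 1) → R) →ₗ[R] (Fin n → R) :=
      LinearMap.pi fun j => LinearMap.proj (i₀.succAbove j) - (w (i₀.succAbove j)) • LinearMap.proj i₀
    obtain ⟨f, ⟨e⟩⟩ := ih (K.map ψ) (Submodule.FG.map _ ⟨s, hs⟩)
    let g : Fin (n + 1) → R := Fin.cons a f
    let F : (Fin (n + 1) → R) →ₗ[R] (R ⧸ Ideal.span {a}) × ((Fin n → R) ⧸ K.map ψ) :=
      ((Submodule.mkQ (Ideal.span {a})).comp (LinearMap.proj i₀)).prod ((K.map ψ).mkQ.comp ψ)
    have hF : Function.Surjective F := by
      rintro ⟨x, y⟩
      obtain ⟨x, rfl⟩ := Submodule.mkQ_surjective _ x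
      obtain ⟨y, rfl⟩ := Submodule.mkQ_surjective _ y
      refine ⟨x • w + i₀.insertNth 0 y, Prod.ext ?_ ?_⟩
      · simp [F, hw]
      · change (K.map ψ).mkQ (ψ _) = _
        congr 1
        funext j
        simp [ψ, hw, mul_comm]
    have hker : LinearMap.ker F = K := by
      ext x
      simp only [F, LinearMap.ker_prod, Submodule.mem_inf, LinearMap.mem_ker, LinearMap.comp_apply,
        LinearMap.proj_apply, Submodule.mkQ_apply, Submodule.Quotient.mk_eq_zero]
      constructor
      · rintro ⟨h1, k, hk, hkx⟩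
        obtain ⟨c, hc⟩ := Ideal.mem_span_singleton.1 h1
        obtain ⟨d, hd⟩ := hcoord k hk i₀
        have hx : x = k + (c - d) • (a • w) := by
          funext i
          simp only [Pi.add_apply, Pi.smul_apply, smul_eq_mul]
          rcases Fin.eq_self_or_eq_succAbove i₀ i with rfl | ⟨j, rfl⟩
          · rw [hw, hc, hd]; ring
          · have := congrFun hkx j
            simp only [ψ, LinearMap.pi_apply, LinearMap.sub_apply, LinearMap.smul_apply,
              LinearMap.proj_apply, smul_eq_mul, hc, hd] at this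
            linear_combination -this
        rw [hx]
        exact K.add_mem hk (K.smul_mem _ haw)
      · exact fun hx => ⟨Ideal.mem_span_singleton.2 (hcoord x hx i₀), x, hx, rfl⟩
    refine ⟨g, ⟨(Submodule.quotEquivOfEq _ _ hker.symm).trans ((F.quotKerEquivOfSurjective hF).trans
      (((LinearEquiv.refl R _).prodCongr e).trans
        (Fin.consLinearEquiv R fun i => R ⧸ Ideal.span {g i})))⟩⟩

/-- Let R be a nonzero ring such that for all a, b in R either a divides b or b divides a. Then each
finitely presented R-module decomposes as a direct sum of finitely many cyclic modules R/fR. -/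
theorem result (R : Type u) [CommRing R] [Nontrivial R] (h : ∀ a b : R, a ∣ b ∨ b ∣ a)
    (M : Type u) [AddCommGroup M] [Module R M] [Module.FinitePresentation R M] :
    ∃ (n : ℕ) (f : Fin n → R), Nonempty (M ≃ₗ[R] ((i : Fin n) → R ⧸ Ideal.span {f i})) := by
  obtain ⟨n, K, e, hK⟩ := Module.FinitePresentation.exists_fin R M
  obtain ⟨f, ⟨e'⟩⟩ := aux h n K hK
  exact ⟨n, f, ⟨e.trans e'⟩⟩

end Groth.Agent.S2015
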