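import Groth.Statements.S2016
import Groth.Agent.S2015
import Mathlib.Algebra.Module.FinitePresentation
import Mathlib.RingTheory.Localization.AtPrime.Basic

set_option autoImplicit false
universe u
open EtAlg

namespace Groth.Agent.S2016

/-- `s • id` factors through a finite product of cyclically presented modules. -/
def G {R : Type u} [CommRing R] (M : Type u) [AddCommGroup M] [Module R M] (s : R) : Prop :=
  ∃ (ι : Type) (_ : Fintype ι) (f : ι → R) (φ : ((i : ι) → R ⧸ Ideal.span {f i}) →ₗ[R] M)
    (ψ : M →ₗ[R] ((i : ι) → R ⧸ Ideal.span {f i})), φ ∘ₗ ψ = s • LinearMap.id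

/-- The ideal of elements factoring. -/
def gIdeal {R : Type u} [CommRing R] (M : Type u) [AddCommGroup M] [Module R M] : Ideal R where
  carrier := {s | G M s}
  zero_mem' := ⟨Fin 0, inferInstance, 0, 0, 0, by simp⟩
  add_mem' := by
    rintro a b ⟨ι, _, f, φ, ψ, h⟩ ⟨κ, _, g, φ', ψ', h'⟩
    let e : ((k : ι ⊕ κ) → R ⧸ Ideal.span {Sum.elim f g k}) ≃ₗ[R]
        ((i : ι) → R ⧸ Ideal.span {f i}) × ((i : κ) → R ⧸ Ideal.span {g i}) :=
      LinearEquiv.sumPiEquivProdPi R ι κ (fun k => R ⧸ Ideal.span {Sum.elim f g k})
    refine ⟨ι ⊕ κ, inferInstance, Sum.elim f g, (φ.coprod φ').comp e.toLinearMap,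
      e.symm.toLinearMap.comp (ψ.prod ψ'), ?_⟩
    ext x
    have h1 := LinearMap.congr_fun h x
    have h2 := LinearMap.congr_fun h' x
    simp only [LinearMap.comp_apply, LinearMap.smul_apply, LinearMap.id_apply] at h1 h2 ⊢
    rw [LinearEquiv.coe_coe, LinearEquiv.coe_coe, e.apply_symm_apply]
    simp [h1, h2, add_smul]
  smul_mem' := by
    rintro r a ⟨ι, _, f, φ, ψ, h⟩
    exact ⟨ι, inferInstance, f, φ, r • ψ, by rw [LinearMap.comp_smul, h, smul_smul]; rfl⟩

lemma exists_notMem {R : Type u} [CommRing R] (m : Ideal R) [m.IsMaximal]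
    (h : ∀ a b : Localization.AtPrime m, a ∣ b ∨ b ∣ a)
    (M : Type u) [AddCommGroup M] [Module R M] [Module.FinitePresentation R M] :
    ∃ s, s ∉ m ∧ G M s := by
  classical
  have : Module.FinitePresentation (Localization.AtPrime m) (LocalizedModule m.primeCompl M) :=
    inferInstanceAs (Module.FinitePresentation (Localization m.primeCompl) (LocalizedModule m.primeCompl M))
  obtain ⟨n, K, e₀, hK⟩ := Module.FinitePresentation.exists_fin (Localization.AtPrime m) (LocalizedModule m.primeCompl M)
  obtain ⟨f, ⟨e₁⟩⟩ := Groth.Agent.S2015.aux h n K hK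
  let e := e₀.trans e₁
  choose pr hrw using fun i => IsLocalization.surj m.primeCompl (f i)
  let r : Fin n → R := fun i => (pr i).1
  let w : Fin n → m.primeCompl := fun i => (pr i).2
  replace hrw : ∀ i, f i * algebraMap R (Localization.AtPrime m) (w i) = algebraMap R _ (r i) := hrw
  have hbasis : ∀ i, f i • e.symm (Pi.single i (Submodule.Quotient.mk 1)) = 0 := by
    intro i
    rw [← map_smul, ← Pi.single_smul, ← Submodule.Quotient.mk_smul]
    rw [(Submodule.Quotient.mk_eq_zero _).2 (by simp [Ideal.mem_span_singleton]), Pi.single_zero, map_zero]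
  choose y hy using fun i => IsLocalizedModule.surj m.primeCompl
    (LocalizedModule.mkLinearMap m.primeCompl M) (e.symm (Pi.single i (Submodule.Quotient.mk 1)))
  have ht : ∀ i, ∃ t : m.primeCompl, t • r i • (y i).1 = 0 := by
    intro i
    refine (IsLocalizedModule.eq_zero_iff m.primeCompl (LocalizedModule.mkLinearMap m.primeCompl M)).1 ?_
    rw [map_smul, ← hy i, ← algebraMap_smul (Localization.AtPrime m) (r i), ← hrw i, Submonoid.smul_def,
      ← algebraMap_smul (Localization.AtPrime m) ((y i).2 : R), smul_smul, mul_comm, ← smul_smul,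
      mul_comm (f i), ← smul_smul, hbasis i, smul_zero, smul_zero]
  choose t ht using ht
  let z : Fin n → M := fun i => (t i : R) • (y i).1
  let φ : ((i : Fin n) → R ⧸ Ideal.span {r i}) →ₗ[R] M :=
    ∑ i, (Submodule.liftQ (Ideal.span {r i}) (LinearMap.toSpanSingleton R M (z i))
      (by rw [Ideal.span, Submodule.span_le, Set.singleton_subset_iff, SetLike.mem_coe, LinearMap.mem_ker,
            LinearMap.toSpanSingleton_apply]
          change r i • (t i : R) • (y i).1 = 0
          rw [smul_comm]
          exact ht i)).comp (LinearMap.proj i)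
  let P := (i : Fin n) → R ⧸ Ideal.span {r i}
  let ε : Fin n → P := fun i => Pi.single i (Submodule.Quotient.mk 1)
  have hφε : ∀ i, φ (ε i) = z i := by
    intro i
    simp only [φ, ε, LinearMap.sum_apply, LinearMap.comp_apply, LinearMap.proj_apply]
    rw [Finset.sum_eq_single i (fun j _ hj => by simp [Pi.single_eq_of_ne hj]) (by simp)]
    rw [Pi.single_eq_same, Submodule.liftQ_apply, LinearMap.toSpanSingleton_apply, one_smul]
  let fP := LocalizedModule.mkLinearMap m.primeCompl P
  let fM := LocalizedModule.mkLinearMap m.primeCompl M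
  let c : Fin n → LocalizedModule m.primeCompl P := fun i =>
    (IsLocalization.mk' (Localization.AtPrime m) (1 : R) (t i * (y i).2)) • fP (ε i)
  let τ : ((i : Fin n) → Localization.AtPrime m ⧸ Ideal.span {f i}) →ₗ[Localization.AtPrime m]
      LocalizedModule m.primeCompl P :=
    ∑ i, (Submodule.liftQ (Ideal.span {f i}) (LinearMap.toSpanSingleton _ _ (c i))
      (by rw [Ideal.span, Submodule.span_le, Set.singleton_subset_iff, SetLike.mem_coe, LinearMap.mem_ker,
            LinearMap.toSpanSingleton_apply]
          have hu : IsUnit (algebraMap R (Localization.AtPrime m) (w i)) := IsLocalization.map_units _ _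
          apply hu.smul_left_cancel.1
          rw [smul_zero, smul_smul, mul_comm, hrw i, algebraMap_smul, smul_comm, ← map_smul]
          have : r i • ε i = 0 := by
            simp only [ε]
            rw [← Pi.single_smul, ← Submodule.Quotient.mk_smul,
              (Submodule.Quotient.mk_eq_zero _).2 (by simp [Ideal.mem_span_singleton]), Pi.single_zero]
          rw [this, map_zero, smul_zero])).comp (LinearMap.proj i)
  let L := IsLocalizedModule.map m.primeCompl fP fM φ
  have hLS : ∀ (a : Localization.AtPrime m) (x : LocalizedModule m.primeCompl P), L (a • x) = a • L x :=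
    fun a x => LinearMap.map_smul_of_tower (IsLocalizedModule.mapExtendScalars m.primeCompl fP fM
      (Localization.AtPrime m) φ) a x
  have hτ : ∀ v, L (τ v) = e.symm v := by
    intro v
    conv_rhs => rw [← Finset.univ_sum_single v, map_sum]
    simp only [τ, LinearMap.sum_apply, map_sum, LinearMap.comp_apply, LinearMap.proj_apply]
    refine Finset.sum_congr rfl fun i _ => ?_
    obtain ⟨a, ha⟩ := Submodule.Quotient.mk_surjective _ (v i)
    rw [← ha, Submodule.liftQ_apply, LinearMap.toSpanSingleton_apply,
      show (Submodule.Quotient.mk a : Localization.AtPrime m ⧸ Ideal.span {f i}) =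
        a • Submodule.Quotient.mk 1 by rw [← Submodule.Quotient.mk_smul, smul_eq_mul, mul_one]]
    have hsingle : (Pi.single i (a • Submodule.Quotient.mk 1) :
        (j : Fin n) → Localization.AtPrime m ⧸ Ideal.span {f j}) = a • Pi.single i (Submodule.Quotient.mk 1) := by
      funext j
      rcases eq_or_ne j i with rfl | hne
      · simp only [Pi.smul_apply, Pi.single_eq_same]
      · simp only [Pi.smul_apply, Pi.single_eq_of_ne hne, smul_zero]
    rw [hsingle, hLS, hLS, LinearEquiv.map_smul]
    congr 1
    rw [show L (fP (ε i)) = fM (φ (ε i)) from IsLocalizedModule.map_apply _ _ _ _ _, hφε,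
      show fM (z i) = (t i : R) • fM (y i).1 from map_smul _ _ _, ← hy i, Submonoid.smul_def, smul_smul,
      ← Submonoid.coe_mul, ← algebraMap_smul (Localization.AtPrime m) ((t i * (y i).2 : m.primeCompl) : R),
      smul_smul, IsLocalization.mk'_spec, map_one, one_smul]
  obtain ⟨g, s, hg⟩ := Module.FinitePresentation.exists_lift_of_isLocalizedModule m.primeCompl fP
    ((τ.restrictScalars R).comp ((e.toLinearMap.restrictScalars R).comp fM))
  have hD : ∀ x, ∃ u : m.primeCompl, u • (φ (g x) - (s : R) • x) = 0 := by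
    intro x
    refine (IsLocalizedModule.eq_zero_iff m.primeCompl fM).1 ?_
    rw [map_sub, ← IsLocalizedModule.map_apply m.primeCompl fP fM φ (g x)]
    have h1 : fP (g x) = (s : R) • τ (e (fM x)) := LinearMap.congr_fun hg x
    rw [h1, map_smul, show L (τ (e (fM x))) = _ from hτ _, e.symm_apply_apply, map_smul, sub_self]
  choose u hu using hD
  obtain ⟨gens, hgens⟩ := Module.Finite.fg_top (R := R) (M := M)
  refine ⟨((∏ x ∈ gens, u x : m.primeCompl) : R) * s, ?_, Fin n, inferInstance, r, φ,
    ((∏ x ∈ gens, u x : m.primeCompl) : R) • g, ?_⟩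
  · exact fun hm => (((∏ x ∈ gens, u x) * s : m.primeCompl)).2 hm
  · refine LinearMap.ext_on hgens fun x hx => ?_
    simp only [LinearMap.comp_apply, LinearMap.smul_apply, LinearMap.id_apply, map_smul, mul_smul]
    rw [← sub_eq_zero, ← smul_sub, ← Finset.prod_erase_mul _ _ hx, Submonoid.coe_mul, mul_smul,
      show (u x : R) • (φ (g x) - (s : R) • x) = 0 from hu x, smul_zero]

/-- Let R be a ring such that for every maximal ideal m and all a, b in R_m, either a divides b or b
divides a in R_m. Then each finitely presented R-module is a direct summand of a direct sum of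
finitely many cyclic modules R/fR. -/
theorem result (R : Type u) [CommRing R]
    (h : ∀ (m : Ideal R) [m.IsMaximal], ∀ a b : Localization.AtPrime m, a ∣ b ∨ b ∣ a)
    (M : Type u) [AddCommGroup M] [Module R M] [Module.FinitePresentation R M] :
    ∃ (n : ℕ) (f : Fin n → R) (N : Type u) (_ : AddCommGroup N) (_ : Module R N),
      Nonempty ((M × N) ≃ₗ[R] ((i : Fin n) → R ⧸ Ideal.span {f i})) := by
  classical
  have htop : gIdeal (R := R) M = ⊤ := by
    by_contra hne
    obtain ⟨m, hm, hle⟩ := Ideal.exists_le_maximal _ hne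
    obtain ⟨s, hs, hG⟩ := exists_notMem m (h m) M
    exact hs (hle hG)
  obtain ⟨ι, _, f, φ, ψ, hc⟩ : G M (1 : R) := (Ideal.eq_top_iff_one _).1 htop
  have hc' : ∀ x, φ (ψ x) = x := fun x => by simpa using LinearMap.congr_fun hc x
  let σ := (Fintype.equivFin ι).symm
  have e2 : (M × LinearMap.ker φ) ≃ₗ[R] ((i : ι) → R ⧸ Ideal.span {f i}) := LinearEquiv.ofLinear (ψ.coprod (LinearMap.ker φ).subtype)
    (φ.prod ((LinearMap.id - ψ ∘ₗ φ).codRestrict _ fun x => by simp [hc']))
    (by ext x; simp)
    (by
      refine LinearMap.ext fun p => ?_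
      obtain ⟨x, k, hk⟩ := p
      rw [LinearMap.mem_ker] at hk
      refine Prod.ext ?_ (Subtype.ext ?_) <;> simp [hc', hk])
  exact ⟨Fintype.card ι, fun k => f (σ k), LinearMap.ker φ, inferInstance, inferInstance,
    ⟨e2.trans (LinearEquiv.piCongrLeft R (fun i => R ⧸ Ideal.span {f i}) σ).symm⟩⟩

end Groth.Agent.S2016
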