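import Groth.Statements.S2017
import Mathlib.RingTheory.Adjoin.Tower
import Mathlib.RingTheory.FiniteType
import Mathlib.RingTheory.Finiteness.Prod

set_option autoImplicit false
universe u
open EtAlg

namespace Groth.Agent.S2017

/-- Let R be a Noetherian ring, A, B, C R-algebras of finite type, f : A -> B a surjective R-algebra map
and g : C -> B an R-algebra map making B a finite C-module. Then the fibre product A ×_B C (the
equalizer of f ∘ pr₁ and g ∘ pr₂ in A × C) is an R-algebra of finite type. -/
theorem result (R A B C : Type u) [CommRing R] [IsNoetherianRing R] [CommRing A] [CommRing B]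
    [CommRing C] [Algebra R A] [Algebra R B] [Algebra R C] [Algebra.FiniteType R A] [Algebra.FiniteType R B]
    [Algebra.FiniteType R C] (f : A →ₐ[R] B) (hf : Function.Surjective f) (g : C →ₐ[R] B)
    (hg : (g.toRingHom).Finite) :
    Algebra.FiniteType R ↥(AlgHom.equalizer (f.comp (AlgHom.fst R A C)) (g.comp (AlgHom.snd R A C))) := by
  classical
  let P := AlgHom.equalizer (f.comp (AlgHom.fst R A C)) (g.comp (AlgHom.snd R A C))
  have : Algebra.FiniteType R (A × C) := inferInstance
  have hfin : Module.Finite P (A × C) := by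
    obtain ⟨T, hT⟩ : ∃ T : Finset B, ∀ b : B, ∃ c : B → C, b = ∑ t ∈ T, g (c t) * t := by
      let := g.toRingHom.toAlgebra
      have : Module.Finite C B := hg
      obtain ⟨T, hT⟩ := Module.Finite.fg_top (R := C) (M := B)
      refine ⟨T, fun b => ?_⟩
      have hb : b ∈ Submodule.span C (T : Set B) := hT ▸ Submodule.mem_top
      obtain ⟨c, -, hc⟩ := Submodule.mem_span_finset.1 hb
      exact ⟨c, hc.symm.trans (Finset.sum_congr rfl fun t _ => Algebra.smul_def (c t) t)⟩
    choose s hs using hf
    refine ⟨⟨{((1 : A), (0 : C)), ((0 : A), (1 : C))} ∪ T.image fun t => (s t, (0 : C)),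
      eq_top_iff.2 fun x _ => ?_⟩⟩
    set W := Submodule.span P (({((1 : A), (0 : C)), ((0 : A), (1 : C))} ∪ T.image fun t => (s t, (0 : C)) :
      Finset (A × C)) : Set (A × C))
    have h10 : ((1 : A), (0 : C)) ∈ W := Submodule.subset_span (by simp)
    have h01 : ((0 : A), (1 : C)) ∈ W := Submodule.subset_span (by simp)
    obtain ⟨c, hc⟩ := hT (f x.1)
    have hp : ∀ c : C, (s (g c), c) ∈ P := fun c => hs (g c)
    let a₀ : A := x.1 - ∑ t ∈ T, s (g (c t)) * s t
    have ha₀ : (a₀, (0 : C)) ∈ P := by
      show f a₀ = g 0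
      simp only [a₀, map_sub, map_sum, map_mul, hs, map_zero]
      rw [← hc, sub_self]
    have e : x = (∑ t ∈ T, (⟨_, hp (c t)⟩ : P) • ((s t, (0 : C)) : A × C)) +
        (⟨_, ha₀⟩ : P) • ((1 : A), (0 : C)) + (⟨_, hp x.2⟩ : P) • ((0 : A), (1 : C)) := by
      refine Prod.ext ?_ ?_
      · simp [Subalgebra.smul_def, a₀, Prod.fst_sum]
      · simp [Subalgebra.smul_def, Prod.snd_sum]
    rw [e]
    exact W.add_mem (W.add_mem (W.sum_mem fun t ht => W.smul_mem _ (Submodule.subset_span
      (by simp only [Finset.coe_union, Set.mem_union, Finset.coe_image]; exact Or.inr ⟨t, ht, rfl⟩)))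
      (W.smul_mem _ h10)) (W.smul_mem _ h01)
  exact ⟨fg_of_fg_of_fg R P (A × C) Algebra.FiniteType.out Module.Finite.fg_top Subtype.val_injective⟩

end Groth.Agent.S2017
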