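import Groth.Statements.S2033
import Groth.Agent.Lib.Smoothing.Delocalize

set_option autoImplicit false
universe u
open Smoothing

namespace Groth.Agent.S2033

open TensorProduct in
/-- Let `R` be Noetherian, `A → Λ` an `R`-algebra map with `A` finitely presented, `𝔮 ⊆ Λ` a prime
minimal over the radical of the extended singular ideal of `A`, and `𝔭` its contraction to `R`. If
the localized problem `R_𝔭 → R_𝔭 ⊗ A → Λ_𝔮` can be resolved at `𝔮Λ_𝔮`, then `A → Λ` factors through
a finitely presented `R`-algebra `C` whose singular ideal over `R` does not extend into `𝔮`. -/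
theorem result {R A Λ Rₚ Λq : Type u} [CommRing R] [IsNoetherianRing R] [CommRing A]
    [Algebra R A] [Algebra.FinitePresentation R A] [CommRing Λ] [Algebra R Λ] (φ : A →ₐ[R] Λ)
    (𝔮 : Ideal Λ) [𝔮.IsPrime] (hmin : 𝔮 ∈ (Smoothing.singRad R φ).minimalPrimes)
    [CommRing Rₚ] [Algebra R Rₚ] [IsLocalization.AtPrime Rₚ (𝔮.comap (algebraMap R Λ))]
    [CommRing Λq] [Algebra Λ Λq] [IsLocalization.AtPrime Λq 𝔮] [Algebra R Λq] [IsScalarTower R Λ Λq]
    [Algebra Rₚ Λq] [IsScalarTower R Rₚ Λq]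
    (hres : Smoothing.Resolvable Rₚ
      (Algebra.TensorProduct.lift (Algebra.ofId Rₚ Λq) ((IsScalarTower.toAlgHom R Λ Λq).comp φ)
        (fun _ _ => Commute.all _ _) : Rₚ ⊗[R] A →ₐ[Rₚ] Λq) (𝔮.map (algebraMap Λ Λq))) :
    ∃ (C : Type u) (_ : CommRing C) (_ : Algebra R C), Algebra.FinitePresentation R C ∧
      ∃ (g : A →ₐ[R] C) (h : C →ₐ[R] Λ), h.comp g = φ ∧
        ¬ (Smoothing.singularIdeal R C).map h ≤ 𝔮 := by
  open Groth.Agent.Lib.Smoothing in
  obtain ⟨B', _, _, hB', g', h', hgh, -, hnle⟩ := hres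
  let _ : Algebra R B' := ((algebraMap Rₚ B').comp (algebraMap R Rₚ)).toAlgebra
  have : IsScalarTower R Rₚ B' := IsScalarTower.of_algebraMap_eq' rfl
  have hm : (𝔮.map (algebraMap Λ Λq)).IsPrime := IsLocalization.isPrime_of_isPrime_disjoint
    𝔮.primeCompl Λq 𝔮 inferInstance (Set.disjoint_left.2 fun z hz hzq => hz hzq)
  obtain ⟨C, _, _, hC, α, β, hαβ, hnot⟩ := Delocalize.exists_delocalized φ 𝔮 (Rp := Rₚ) (Λq := Λq)
    (B' := B') ((g'.restrictScalars R).comp Algebra.TensorProduct.includeRight) h' (fun a => by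
      show h' (g' (1 ⊗ₜ a)) = _
      rw [show h' (g' (1 ⊗ₜ a)) = _ from DFunLike.congr_fun hgh (1 ⊗ₜ a)]
      simp [IsScalarTower.coe_toAlgHom'])
    (fun P hP hPp => by
      by_contra hns
      refine hnle (Ideal.IsPrime.radical_le_iff hm |>.2 (Ideal.map_le_iff_le_comap.2 fun b hb => ?_))
      rw [← hP]
      by_contra hbP
      exact hns (SingularComp.mem_singularIdeal_iff.1 hb P hbP))
  exact ⟨C, inferInstance, inferInstance, hC, α, β, hαβ, hnot⟩

end Groth.Agent.S2033
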