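import Groth.Statements.S2034
import Groth.Agent.S2033
import Groth.Agent.Lib.Smoothing.ResolveDimZero
import Mathlib.RingTheory.KrullDimension.Zero

set_option autoImplicit false
universe u
open Smoothing

namespace Groth.Agent.S2034

open TensorProduct in
/-- Let `R` be a Noetherian ring, `A` a finitely presented `R`-algebra, `R → A → Λ` ring maps and `𝔮 ⊆
Λ` a prime minimal over the radical of the extended singular ideal of `R → A`; let `𝔭` be the prime
of `R` under `𝔮` and suppose the localized problem `R_𝔭 → R_𝔭 ⊗_R A → Λ_𝔮 ⊇ 𝔮Λ_𝔮` can be resolved.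
If moreover `Λ_𝔮` has Krull dimension zero, then the problem `R → A → Λ ⊇ 𝔮` itself can be resolved. -/
theorem result {R A Λ Rₚ Λq : Type u} [CommRing R] [IsNoetherianRing R] [CommRing A]
    [Algebra R A] [Algebra.FinitePresentation R A] [CommRing Λ] [Algebra R Λ] (φ : A →ₐ[R] Λ)
    (𝔮 : Ideal Λ) [𝔮.IsPrime] (hmin : 𝔮 ∈ (Smoothing.singRad R φ).minimalPrimes)
    [CommRing Rₚ] [Algebra R Rₚ] [IsLocalization.AtPrime Rₚ (𝔮.comap (algebraMap R Λ))]
    [CommRing Λq] [Algebra Λ Λq] [IsLocalization.AtPrime Λq 𝔮] [Algebra R Λq] [IsScalarTower R Λ Λq]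
    [Algebra Rₚ Λq] [IsScalarTower R Rₚ Λq] (hdim : ringKrullDim Λq = 0)
    (hres : Smoothing.Resolvable Rₚ
      (Algebra.TensorProduct.lift (Algebra.ofId Rₚ Λq) ((IsScalarTower.toAlgHom R Λ Λq).comp φ)
        (fun _ _ => Commute.all _ _) : Rₚ ⊗[R] A →ₐ[Rₚ] Λq) (𝔮.map (algebraMap Λ Λq))) :
    Smoothing.Resolvable R φ 𝔮 := by
  open Groth.Agent.Lib.Smoothing in
  obtain ⟨C, _, _, hC, α, β, hαβ, hnot⟩ := Groth.Agent.S2033.result φ 𝔮 hmin (Rₚ := Rₚ) (Λq := Λq) hres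
  refine ResolveDimZero.exists_glue φ α β hαβ 𝔮 hnot fun a ha => ?_
  have : IsLocalRing Λq := IsLocalization.AtPrime.isLocalRing Λq 𝔮
  have : Ring.KrullDimLE 0 Λq := (Order.krullDimLE_iff _ _).2 (by
    show ringKrullDim Λq ≤ ((0 : ℕ) : WithBot ℕ∞)
    rw [hdim]; exact le_rfl)
  have haq : φ a ∈ 𝔮 := hmin.1.2 (Ideal.le_radical (Ideal.mem_map_of_mem φ ha))
  have hnil : IsNilpotent (algebraMap Λ Λq (φ a)) := by
    rw [← mem_nilradical, nilradical_eq_sInf, Submodule.mem_sInf]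
    intro P hP
    have : Ideal.IsPrime P := hP
    have hPm : Ideal.IsMaximal P := Ideal.isMaximal_of_isPrime P
    rw [IsLocalRing.eq_maximalIdeal hPm]
    exact (IsLocalization.AtPrime.to_map_mem_maximal_iff Λq 𝔮 (φ a) inferInstance).2 haq
  obtain ⟨N, hN⟩ := hnil
  rw [← map_pow] at hN
  obtain ⟨⟨s, hs⟩, hsN⟩ := (IsLocalization.map_eq_zero_iff 𝔮.primeCompl Λq _).1 hN
  exact ⟨N, s, hs, hsN⟩

end Groth.Agent.S2034
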