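import Groth.Statements.S2035
import Groth.Agent.S2453
import Mathlib.RingTheory.Smooth.Field

set_option autoImplicit false
universe u
open CAlg

namespace Groth.Agent.S2035

/-- Let `k` be a field of characteristic zero and `A` a Noetherian local `k`-algebra. Then `A` is a
regular local ring if and only if `k → A` is formally smooth for the adic topology of the maximal
ideal. -/
theorem result {k A : Type u} [Field k] [CharZero k]
    [CommRing A] [IsLocalRing A] [IsNoetherianRing A] [Algebra k A] :
    IsRegularLocalRing A ↔ CAlgX.IsAdicFormallySmooth k A (IsLocalRing.maximalIdeal A) := by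
  haveI : Algebra.IsGeometricallyReduced k (IsLocalRing.ResidueField A) := by
    refine Algebra.IsGeometricallyReduced.of_forall_fg fun B hB => ?_
    obtain ⟨s, hs⟩ := hB
    let F := IntermediateField.adjoin k (↑s : Set (IsLocalRing.ResidueField A))
    haveI : Algebra.EssFiniteType k F :=
      IntermediateField.essFiniteType_iff.mpr (IntermediateField.fg_adjoin_finset s)
    haveI : Algebra.IsGeometricallyReduced k F :=
      Groth.Agent.Lib.PBasis.FieldSmooth.formallySmooth_iff_isGeometricallyReduced.1 inferInstance
    have hle : B ≤ F.toSubalgebra := by
      rw [← hs]
      exact IntermediateField.algebra_adjoin_le_adjoin k _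
    exact Algebra.IsGeometricallyReduced.of_injective (Subalgebra.inclusion hle)
      (Subalgebra.inclusion_injective hle)
  exact (Groth.Agent.S2453.result (k := k) (A := A)).out 3 0

end Groth.Agent.S2035
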