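import Groth.Statements.S2040
import Groth.Agent.H68.FlatLift

set_option autoImplicit false
universe u
open CAlg

namespace Groth.Agent.S2040

/-- For a complete Noetherian local ring `A` with residue field `k`, and a complete Noetherian local
`k`-algebra `B` which is formally smooth over `k` for the adic topology of its maximal ideal, there
is a Noetherian complete local ring `C` with a local homomorphism `A → C`, formally smooth for the
adic topology of the maximal ideal of `C`, whose special fibre `C ⊗ k` is isomorphic to `B` over
`k`. -/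
theorem result {A B : Type u} [CommRing A] [IsLocalRing A]
    [IsNoetherianRing A] [IsAdicComplete (IsLocalRing.maximalIdeal A) A] [CommRing B] [IsLocalRing B]
    [IsNoetherianRing B] [IsAdicComplete (IsLocalRing.maximalIdeal B) B]
    [Algebra (IsLocalRing.maximalIdeal A).ResidueField B]
    (hB : CAlgX.IsAdicFormallySmooth (IsLocalRing.maximalIdeal A).ResidueField B (IsLocalRing.maximalIdeal B)) :
    ∃ (C : Type u) (_ : CommRing C) (_ : IsLocalRing C) (_ : Algebra A C),
      IsNoetherianRing C ∧ IsAdicComplete (IsLocalRing.maximalIdeal C) C ∧ IsLocalHom (algebraMap A C) ∧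
        CAlgX.IsAdicFormallySmooth A C (IsLocalRing.maximalIdeal C) ∧
        Nonempty ((IsLocalRing.maximalIdeal A).Fiber C ≃ₐ[(IsLocalRing.maximalIdeal A).ResidueField] B) := by
  let k := (IsLocalRing.maximalIdeal A).ResidueField
  letI : Algebra A B := ((algebraMap k B).comp (algebraMap A k)).toAlgebra
  haveI : IsScalarTower A k B := IsScalarTower.of_algebraMap_eq fun _ => rfl
  haveI : IsLocalHom (algebraMap A B) := ⟨fun a ha => by
    by_contra hna
    have h0 : algebraMap A k a = 0 :=
      Ideal.algebraMap_residueField_eq_zero.mpr ((IsLocalRing.mem_maximalIdeal a).mpr hna)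
    rw [IsScalarTower.algebraMap_apply A k B, h0, map_zero] at ha
    exact not_isUnit_zero ha⟩
  have hm : (IsLocalRing.maximalIdeal A).map (algebraMap A B) = ⊥ := by
    refine eq_bot_iff.mpr (Ideal.map_le_iff_le_comap.mpr fun a ha => ?_)
    show algebraMap k B (algebraMap A k a) = 0
    rw [Ideal.algebraMap_residueField_eq_zero.mpr ha, map_zero]
  haveI := H68.FlatLift.isRegularLocalRing_of_adic hB
  obtain ⟨C, _, _, _, π, hN, hC, hloc, hflat, hπ, hker⟩ := H68.FlatLift.exists_flat_lift (A := A) (B := B) hm
  haveI := hN
  haveI := hloc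
  haveI := hflat
  refine ⟨C, inferInstance, inferInstance, inferInstance, hN, hC, hloc, ?_, ?_⟩
  · exact H68.FlatLift.adic_of_flat_of_surjective (𝔞 := IsLocalRing.maximalIdeal A)
      (((IsLocalRing.local_hom_TFAE _).out 0 2).mp hloc)
      (Ideal.algebraMap_residueField_surjective _)
      (fun a ha => Ideal.algebraMap_residueField_eq_zero.mp ha) π hπ hker.le hB
  · exact ⟨H68.FlatLift.fiberEquiv π hπ hker⟩

end Groth.Agent.S2040
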