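import Groth.Statements.S2042
import Mathlib
import Groth.Agent.Lib.Henselian.PairHenselization

set_option autoImplicit false
universe u
open CAlg

namespace Groth.Agent.S2042

open Polynomial in
/-- Let `I ⊆ A` be an ideal and `f ∈ A[X]` monic whose image in `(A/I)[X]` factors as a product of two
monic polynomials generating the unit ideal. Then over some étale `A`-algebra `A'` with `A/I →
A'/IA'` bijective, `f` factors as a product of two monic polynomials lifting the given factors. -/
theorem result {A : Type u} [CommRing A] (I : Ideal A) (f : A[X])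
    (hf : f.Monic) (g h : (A ⧸ I)[X]) (hg : g.Monic) (hh : h.Monic) (hcop : IsCoprime g h)
    (hfgh : f.map (Ideal.Quotient.mk I) = g * h) :
    ∃ (A' : Type u) (_ : CommRing A') (_ : Algebra A A'), Algebra.Etale A A' ∧
      Function.Bijective (algebraMap (A ⧸ I) (A' ⧸ I.map (algebraMap A A'))) ∧
      ∃ g' h' : A'[X], g'.Monic ∧ h'.Monic ∧ f.map (algebraMap A A') = g' * h' ∧
        g'.map (Ideal.Quotient.mk (I.map (algebraMap A A'))) =
          g.map (algebraMap (A ⧸ I) (A' ⧸ I.map (algebraMap A A'))) ∧
        h'.map (Ideal.Quotient.mk (I.map (algebraMap A A'))) =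
          h.map (algebraMap (A ⧸ I) (A' ⧸ I.map (algebraMap A A'))) := by
  rcases subsingleton_or_nontrivial (A ⧸ I) with hsub | hnt
  · refine ⟨A, inferInstance, Algebra.id A, inferInstance, ?_, f, 1, hf, monic_one, by simp, ?_, ?_⟩
    · have hmap : I.map (algebraMap A A) = I := Ideal.map_id I
      haveI : Subsingleton (A ⧸ I.map (algebraMap A A)) := by rw [hmap]; exact hsub
      exact ⟨fun _ _ _ => Subsingleton.elim _ _, fun y => ⟨0, Subsingleton.elim _ _⟩⟩
    all_goals
      have hmap : I.map (algebraMap A A) = I := Ideal.map_id I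
      haveI : Subsingleton (A ⧸ I.map (algebraMap A A)) := by rw [hmap]; exact hsub
      exact Subsingleton.elim _ _
  have hdeg : f.natDegree = g.natDegree + h.natDegree := by
    rw [← hg.natDegree_mul hh, ← hfgh, hf.natDegree_map]
  let p : MonicDegreeEq A (g.natDegree + h.natDegree) := MonicDegreeEq.mk f hf hdeg
  let σ := (UniversalCoprimeFactorizationRing.homEquiv (A ⧸ I) g.natDegree h.natDegree rfl p).symm
    ⟨(MonicDegreeEq.mk g hg rfl, MonicDegreeEq.mk h hh rfl), hfgh.symm, hcop⟩
  obtain ⟨C, _, _, _, ρ, hC, δ, hδ⟩ := Groth.Agent.Lib.Henselian.PairHenselization.exists_isNbhd σ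
  let q := UniversalCoprimeFactorizationRing.homEquiv C g.natDegree h.natDegree rfl p ρ
  have hkey : ∀ c : C, Ideal.Quotient.mk (I.map (algebraMap A C)) c =
      algebraMap (A ⧸ I) (C ⧸ I.map (algebraMap A C)) (δ c) := by
    intro c
    obtain ⟨a, ha⟩ := Groth.Agent.Lib.Henselian.PairHenselization.exists_sub_mem_of_isNbhd hC c
    have hker : I.map (algebraMap A C) ≤ RingHom.ker (δ : C →+* A ⧸ I) := Ideal.map_le_iff_le_comap.mpr fun b hb => by
      show δ (algebraMap A C b) = 0
      rw [δ.commutes]
      exact Ideal.Quotient.eq_zero_iff_mem.mpr hb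
    have h1 : δ c = Ideal.Quotient.mk I a := by
      have := hker ha
      rw [RingHom.mem_ker, map_sub, sub_eq_zero] at this
      exact this.trans (δ.commutes a)
    rw [h1]
    exact Ideal.Quotient.eq.mpr ha
  have hcomp : (algebraMap (A ⧸ I) (C ⧸ I.map (algebraMap A C))).comp (δ : C →+* A ⧸ I) =
      Ideal.Quotient.mk (I.map (algebraMap A C)) := RingHom.ext fun c => (hkey c).symm
  have h1 := congrArg Subtype.val
    (UniversalCoprimeFactorizationRing.homEquiv_comp_fst (S := C) g.natDegree h.natDegree rfl p ρ δ)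
  have h2 := congrArg Subtype.val
    (UniversalCoprimeFactorizationRing.homEquiv_comp_snd (S := C) g.natDegree h.natDegree rfl p ρ δ)
  rw [hδ, Equiv.apply_symm_apply] at h1 h2
  refine ⟨C, inferInstance, inferInstance, inferInstance, hC, q.1.1.1, q.1.2.1, q.1.1.monic, q.1.2.monic,
    q.2.1.symm, ?_, ?_⟩
  · rw [← hcomp, ← Polynomial.map_map]
    exact congrArg _ h1.symm
  · rw [← hcomp, ← Polynomial.map_map]
    exact congrArg _ h2.symm

end Groth.Agent.S2042
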