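import Groth.Statements.S2048
import Groth.Agent.H68.FTDerivation
import Groth.Agent.Lib.Cohen.CompleteNagata
import Groth.Agent.Lib.Cohen.PSDerivation
import Groth.Agent.Lib.Adic.Complete

set_option autoImplicit false
universe u
open CAlg

namespace Groth.Agent.S2048

/-- Let `p` be a prime and `B` a domain of characteristic `p`, finitely generated as an algebra over
some complete Noetherian local ring. If `f ∈ B` has no `p`-th root in the fraction field of `B`,
then some derivation `D : B → B` has `D(f) ≠ 0`. -/
theorem result {R B : Type u} [CommRing R] [IsLocalRing R]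
    [IsNoetherianRing R] [IsAdicComplete (IsLocalRing.maximalIdeal R) R] [CommRing B] [IsDomain B]
    [Algebra R B] [Algebra.FiniteType R B] (p : ℕ) [Fact p.Prime] [CharP B p] (f : B)
    (hf : ∀ x : FractionRing B, x ^ p ≠ algebraMap B (FractionRing B) f) :
    ∃ D : Derivation ℤ B B, D f ≠ 0 := by
  let q := RingHom.ker (algebraMap R B)
  haveI : q.IsPrime := RingHom.ker_isPrime _
  let R' := R ⧸ q
  haveI : IsDomain R' := Ideal.Quotient.isDomain q
  haveI : IsLocalRing R' := IsLocalRing.of_surjective' _ Ideal.Quotient.mk_surjective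
  haveI : IsAdicComplete (IsLocalRing.maximalIdeal R') R' := by
    have e : (IsLocalRing.maximalIdeal R).map (Ideal.Quotient.mk q) = IsLocalRing.maximalIdeal R' := by
      haveI : IsLocalHom (Ideal.Quotient.mk q) := IsLocalHom.of_surjective _ Ideal.Quotient.mk_surjective
      rw [← IsLocalRing.maximalIdeal_comap (Ideal.Quotient.mk q),
        Ideal.map_comap_of_surjective _ Ideal.Quotient.mk_surjective]
    rw [← e]
    exact Groth.Agent.Lib.Adic.Complete.isAdicComplete_quotient q
  letI : Algebra R' B := (RingHom.kerLift (algebraMap R B)).toAlgebra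
  haveI : IsScalarTower R R' B := .of_algebraMap_eq fun _ => rfl
  haveI : Algebra.FiniteType R' B := Algebra.FiniteType.of_restrictScalars_finiteType R R' B
  obtain ⟨Λ, _, n, g, hΛ, hginj, hgfin, -⟩ :=
    Groth.Agent.Lib.Cohen.CompleteNagata.exists_finite_injective R'
  let S := MvPowerSeries (Fin n) Λ
  letI : Algebra S R' := g.toAlgebra
  haveI : Module.Finite S R' := hgfin
  letI : Algebra S B := ((algebraMap R' B).comp g).toAlgebra
  haveI : IsScalarTower S R' B := .of_algebraMap_eq' rfl
  haveI : Algebra.FiniteType S B :=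
    Algebra.FiniteType.trans (inferInstance : Algebra.FiniteType S R') ‹Algebra.FiniteType R' B›
  haveI : FaithfulSMul S B := (faithfulSMul_iff_algebraMap_injective _ _).2
    ((RingHom.kerLift_injective (algebraMap R B)).comp hginj)
  have hinjS : Function.Injective (algebraMap S B) := FaithfulSMul.algebraMap_injective S B
  haveI : IsDomain S := Function.Injective.isDomain (algebraMap S B) hinjS
  haveI : CharP S p := (RingHom.charP_iff (algebraMap S B) hinjS p).2 ‹_›
  rcases hΛ with hΛ | hΛ
  · letI := hΛ.toField
    haveI : CharP Λ p := (RingHom.charP_iff (MvPowerSeries.C (σ := Fin n) (R := Λ))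
      MvPowerSeries.C_injective p).2 ‹_›
    obtain ⟨ι, i1, i2, i3, F, hanti, hfin, hpow, hint⟩ :=
      Groth.Agent.Lib.Cohen.CofiniteSubfields.exists_family p Λ
    refine Groth.Agent.H68.FTDerivation.exists_derivation S ?_ B (FractionRing B) f hf
    refine ⟨ι, i1, i2, i3, fun i => Groth.Agent.Lib.Cohen.PSDerivation.restricted (F i) p n,
      fun i j hij w hw m => ⟨hanti i j hij (hw m).1, (hw m).2⟩, fun i => ?_,
      fun i r => Groth.Agent.Lib.Cohen.PSDerivation.pow_mem_restricted (hpow i) r,
      fun i w z hz hz0 hwz => Groth.Agent.Lib.Cohen.PSDerivation.mem_restricted_of_mul hz hz0 hwz,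
      fun w hw => Groth.Agent.Lib.Cohen.PSDerivation.exists_pow_of_forall F hint hw⟩
    haveI := hfin i
    exact Groth.Agent.Lib.Cohen.PSDerivation.finite_restricted (F i)
  · obtain ⟨_, _, -, l, hl, hmax⟩ := hΛ
    refine absurd ?_ (Fact.out : p.Prime).ne_zero
    haveI : CharZero Λ := by
      refine charZero_of_inj_zero fun m hm => ?_
      by_contra h0
      obtain ⟨e, m', hm', rfl⟩ := Nat.exists_eq_pow_mul_and_not_dvd h0 l hl.ne_one
      have hirr : Irreducible (l : Λ) := (IsDiscreteValuationRing.irreducible_iff_uniformizer _).2 hmax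
      rw [Nat.cast_mul, Nat.cast_pow] at hm
      have hm0 : (m' : Λ) = 0 := (mul_eq_zero.1 hm).resolve_left (pow_ne_zero _ hirr.ne_zero)
      obtain ⟨a, b, hab⟩ := Int.isCoprime_iff_gcd_eq_one.2
        (show Int.gcd (l : ℤ) (m' : ℤ) = 1 from (Nat.Prime.coprime_iff_not_dvd hl).2 hm')
      refine hirr.not_isUnit (IsUnit.of_mul_eq_one (b := (a : Λ)) ?_)
      have := congrArg (Int.cast : ℤ → Λ) hab
      push_cast at this
      rw [hm0, mul_zero, add_zero] at this
      rw [mul_comm]
      exact this
    haveI : CharZero S := charZero_of_injective_ringHom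
      (f := (MvPowerSeries.C : Λ →+* MvPowerSeries (Fin n) Λ)) MvPowerSeries.C_injective
    exact CharP.eq S ‹CharP S p› (CharP.ofCharZero S)

end Groth.Agent.S2048
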