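import Groth.Statements.S2052
import Groth.Agent.Lib.Unram.BranchHenselian
import Groth.Agent.Lib.Unram.OneBranch

set_option autoImplicit false
universe u
open CAlg

namespace Groth.Agent.S2052

/-- A local ring `A` is unibranch (its reduction is a domain with local integral closure) if and only if
the henselization of `A` has a unique minimal prime ideal. -/
theorem result {A Ah : Type u} [CommRing A] [IsLocalRing A]
    [CommRing Ah] [IsLocalRing Ah] [Algebra A Ah] [IsLocalHom (algebraMap A Ah)]
    [Hensel.IsHenselization A Ah] :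
    CAlg2.IsUnibranch A ↔ CAlgX.HasUniqueMinimalPrime Ah := by
  rw [← Lib.Unram.OneBranch.numBranches_eq_one_iff, ← Lib.Unram.BranchHenselian.card_minimalPrimes_henselization A Ah]
  rw [ENat.card_eq_one_iff_unique]
  constructor
  · rintro ⟨h⟩
    exact ⟨h.default.1, h.default.2, fun q hq => congrArg Subtype.val (h.eq_default ⟨q, hq⟩)⟩
  · rintro ⟨q, hq, hu⟩
    exact ⟨⟨⟨q, hq⟩⟩, fun a => Subtype.ext (hu a.1 a.2)⟩

end Groth.Agent.S2052
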