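import Groth.Statements.S2054
import Groth.Agent.H18.SerreCrit
import Groth.Agent.Lib.QDepth.Reflexive
import Groth.Agent.H20.CMDim

set_option autoImplicit false
universe u
open CAlg

namespace Groth.Agent.S2054

/-- Let `R` be a Noetherian normal domain and `M` a finite `R`-module. Then `M` is reflexive (the map to
its double dual is bijective) if and only if `M` is torsion free and satisfies Serre's condition
`(S_2)`. -/
theorem result {R M : Type u} [CommRing R] [IsDomain R] [IsNoetherianRing R]
    [IsIntegrallyClosed R] [AddCommGroup M] [Module R M] [Module.Finite R M] :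
    Module.IsReflexive R M ↔ NoZeroSMulDivisors R M ∧ LocCoh.HasSk 2 R M := by
  classical
  have hloc : ∀ (p : Ideal R) [p.IsPrime], IsDomain (Localization.AtPrime p) ∧
      IsIntegrallyClosed (Localization.AtPrime p) := fun p _ =>
    ⟨inferInstance, isIntegrallyClosed_of_isLocalization _ p.primeCompl p.primeCompl_le_nonZeroDivisors⟩
  obtain ⟨hR1, hS2⟩ := Groth.Agent.H18.SerreCrit.normal_iff.mp hloc
  constructor
  · intro h
    refine ⟨⟨fun {c x} hcx => ?_⟩, Groth.Agent.Lib.QDepth.hasSk_of_isReflexive M le_rfl hS2⟩
    by_contra! hne
    refine hne.2 ((Module.bijective_dual_eval R M).injective ?_)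
    rw [map_zero]
    ext φ
    have : c * φ x = 0 := by rw [← smul_eq_mul, ← map_smul, hcx, map_zero]
    simpa using (mul_eq_zero.mp this).resolve_left hne.1
  · rintro ⟨htf, hS⟩
    have htfl : ∀ (p : Ideal R) [p.IsPrime],
        Module.IsTorsionFree (Localization.AtPrime p) (LocalizedModule p.primeCompl M) := by
      intro p _
      rw [Module.isTorsionFree_iff_smul_eq_zero]
      intro c x hcx
      obtain ⟨a, s, rfl⟩ := IsLocalization.exists_mk'_eq p.primeCompl c
      induction x with | h m t =>
      by_cases ha : a = 0
      · exact Or.inl (by rw [ha, IsLocalization.mk'_zero])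
      refine Or.inr ?_
      rw [← Localization.mk_eq_mk', LocalizedModule.mk_smul_mk, ← LocalizedModule.zero_mk 1,
        LocalizedModule.mk_eq] at hcx
      obtain ⟨u, hu⟩ := hcx
      simp only [one_smul, smul_zero, Submonoid.smul_def, smul_smul] at hu
      have hm : m = 0 := by
        rcases smul_eq_zero.mp hu with h | h
        · rcases mul_eq_zero.mp h with h | h
          · exact absurd (h ▸ p.zero_mem) u.2
          · exact absurd h ha
        · exact h
      rw [hm, LocalizedModule.zero_mk]
    have hgood : ∀ (p : Ideal R) [p.IsPrime], ringKrullDim (Localization.AtPrime p) ≤ 1 →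
        Module.IsReflexive (Localization.AtPrime p) (LocalizedModule p.primeCompl M) := by
      intro p _ hd
      have := htfl p
      obtain ⟨_, _⟩ := hloc p
      have := Groth.Agent.H18.SerreCrit.isRegularLocalRing_of_normal hd
      have hpid : IsPrincipalIdealRing (Localization.AtPrime p) := by
        suffices h4 : IsIntegrallyClosed (Localization.AtPrime p) ∧
            ∀ P : Ideal (Localization.AtPrime p), P ≠ ⊥ → P.IsPrime →
              P = IsLocalRing.maximalIdeal (Localization.AtPrime p) from
          ((tfae_of_isNoetherianRing_of_isLocalRing_of_isDomain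
            (Localization.AtPrime p)).out 3 0).mp h4
        refine ⟨inferInstance, fun P hP _ => ?_⟩
        by_contra hne
        have h1 := Ideal.height_add_one_le_of_lt_of_isPrime (lt_of_le_of_ne
          (IsLocalRing.le_maximalIdeal (Ideal.IsPrime.ne_top' (I := P))) hne)
        have h2 := Ideal.height_add_one_le_of_lt_of_isPrime (bot_lt_iff_ne_bot.mpr hP)
        rw [← IsLocalRing.maximalIdeal_height_eq_ringKrullDim] at hd
        have h3 : (IsLocalRing.maximalIdeal (Localization.AtPrime p)).height ≤ 1 := by exact_mod_cast hd
        have h6 : (1 : ℕ∞) + 1 ≤ 1 := (add_le_add le_add_self le_rfl).trans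
          (((add_le_add h2 le_rfl).trans h1).trans h3)
        exact absurd h6 (by norm_num)
      have : Module.Free (Localization.AtPrime p) (LocalizedModule p.primeCompl M) :=
        Module.free_of_finite_type_torsion_free'
      infer_instance
    let ev := Module.Dual.eval R M
    have hinj : Function.Injective ev := by
      rw [injective_iff_map_eq_zero]
      intro m hm
      have h0 : ringKrullDim (Localization.AtPrime (⊥ : Ideal R)) ≤ 1 := by
        rw [IsLocalization.AtPrime.ringKrullDim_eq_height (⊥ : Ideal R), Ideal.height_bot]
        simp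
      obtain ⟨r, hr, hr0⟩ := (Groth.Agent.Lib.QDepth.eval_bijective_at (⊥ : Ideal R) (hgood ⊥ h0)).1 m hm
      exact (smul_eq_zero.mp hr0).resolve_left hr
    refine ⟨⟨hinj, fun Φ => ?_⟩⟩
    by_contra hΦ
    have hne : (Submodule.Quotient.mk Φ : _ ⧸ LinearMap.range ev) ≠ 0 := by
      rwa [Ne, Submodule.Quotient.mk_eq_zero]
    obtain ⟨P, hP, hle⟩ := exists_le_isAssociatedPrime_of_isNoetherianRing R _ hne
    have := IsAssociatedPrime.isPrime hP
    let A := Localization.AtPrime P
    have hd : ¬ ringKrullDim A ≤ 1 := by
      intro hd
      obtain ⟨r, hr, g, hg⟩ := (Groth.Agent.Lib.QDepth.eval_bijective_at P (hgood P hd)).2 Φ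
      refine hr (hle ?_)
      rw [Submodule.mem_colon_singleton, Submodule.mem_bot, ← Submodule.Quotient.mk_smul,
        Submodule.Quotient.mk_eq_zero]
      exact ⟨g, hg⟩
    have h2 : ((2 : ℕ) : WithBot ℕ∞) ≤ ringKrullDim A :=
      Groth.Agent.H18.SerreCrit.succ_le_of_not_le 1 hd
    have hMntl : Module.support A (LocalizedModule P.primeCompl M) = Set.univ := by
      have hMnt : Nontrivial M := by
        by_contra hM
        have := not_nontrivial_iff_subsingleton.mp hM
        have : Subsingleton (Module.Dual R M) := ⟨fun a b => LinearMap.ext fun x => by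
          rw [Subsingleton.elim x 0, map_zero, map_zero]⟩
        have : Subsingleton (Module.Dual R (Module.Dual R M)) := ⟨fun a b => LinearMap.ext fun x => by
          rw [Subsingleton.elim x 0, map_zero, map_zero]⟩
        exact hne (by rw [Subsingleton.elim Φ 0, Submodule.Quotient.mk_zero])
      refine Groth.Agent.H20.CMDim.support_localized_eq_univ ?_ P
      refine Set.eq_univ_of_forall fun q => Module.mem_support_iff_of_finite.mpr ?_
      have : Module.annihilator R M = ⊥ := by
        rw [eq_bot_iff]
        intro r hr
        obtain ⟨x, hx⟩ := exists_ne (0 : M)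
        exact (smul_eq_zero.mp (Module.mem_annihilator.mp hr x)).resolve_right hx
      rw [this]
      exact bot_le
    have hMd : ((2 : ℕ) : ℕ∞) ≤ LocCoh.depth A (LocalizedModule P.primeCompl M) :=
      Groth.Agent.Lib.QDepth.le_depth_of_hasSk hS P le_rfl (by
        rw [Groth.Agent.H20.CMDim.supportDim_of_support_eq_univ hMntl]
        exact_mod_cast h2)
    have hRd : ((1 : ℕ) : ℕ∞) ≤ LocCoh.depth A (LocalizedModule P.primeCompl R) :=
      Groth.Agent.Lib.QDepth.le_depth_of_hasSk hS2 P (by norm_num) (by
        rw [Groth.Agent.H18.SerreCrit.supportDim_localized_self]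
        exact le_trans (by norm_num) h2)
    obtain ⟨n, π, hπ⟩ := Module.Finite.exists_fin' R (Module.Dual R M)
    let emb : Module.Dual R (Module.Dual R M) →ₗ[R] (Fin n → R) :=
      (LinearEquiv.piRing R R (Fin n) R).toLinearMap ∘ₗ π.dualMap
    have hemb : Function.Injective emb :=
      (LinearEquiv.piRing R R (Fin n) R).injective.comp (LinearMap.dualMap_injective_of_surjective hπ)
    have hDD : ((1 : ℕ) : ℕ∞) ≤ LocCoh.depth A
        (LocalizedModule P.primeCompl (Module.Dual R (Module.Dual R M))) := by
      have : Module.Finite R (Module.Dual R (Module.Dual R M)) :=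
        Groth.Agent.Lib.QDepth.finite_dual
      have : Module.Finite A (LocalizedModule P.primeCompl (Module.Dual R (Module.Dual R M))) :=
        Groth.Agent.Lib.QDepth.finite_localized P _
      let eA : LocalizedModule P.primeCompl (Module.Dual R (Module.Dual R M)) →ₗ[A]
          LocalizedModule P.primeCompl (Fin n → R) := LocalizedModule.map P.primeCompl emb
      have := Groth.Agent.Lib.QDepth.one_le_of_injective (R := A)
        (M := LocalizedModule P.primeCompl (Module.Dual R (Module.Dual R M)))
        (N := LocalizedModule P.primeCompl (Fin n → R)) (IsLocalRing.maximalIdeal A) (f := eA)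
        (LocalizedModule.map_injective P.primeCompl emb hemb)
        (by simpa [LocCoh.depth] using Groth.Agent.Lib.QDepth.le_depth_localized_pi P (j := 1) hRd n)
      simpa [LocCoh.depth] using this
    have hC := Groth.Agent.Lib.Depth.SES.le_idealDepth_right (IsLocalRing.maximalIdeal A)
      (f := LocalizedModule.map P.primeCompl ev)
      (g := LocalizedModule.map P.primeCompl (LinearMap.range ev).mkQ) (n := 1)
      (LocalizedModule.map_injective P.primeCompl ev hinj)
      (LocalizedModule.map_exact P.primeCompl _ _ (by rw [LinearMap.exact_iff, Submodule.ker_mkQ]))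
      (LocalizedModule.map_surjective P.primeCompl _ (Submodule.mkQ_surjective _)) hDD hMd
    have hmem := Module.associatedPrimes.mem_associatedPrimes_atPrime_of_mem_associatedPrimes hP
    have : Nontrivial (LocalizedModule P.primeCompl (_ ⧸ LinearMap.range ev)) := by
      refine not_subsingleton_iff_nontrivial.mp fun hs => ?_
      rw [associatedPrimes.eq_empty_of_subsingleton] at hmem
      exact hmem
    rw [show LocCoh.idealDepth (IsLocalRing.maximalIdeal A) _ = LocCoh.depth A
      (LocalizedModule P.primeCompl (_ ⧸ LinearMap.range ev)) from rfl,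
      (Groth.Agent.Lib.Depth.Assoc.depth_eq_zero_iff _).mpr hmem] at hC
    simp at hC

end Groth.Agent.S2054
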