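import Groth.Statements.S2058
import Mathlib
import Groth.Agent.Lib.Depth.Assoc

set_option autoImplicit false
universe u
open CAlg

namespace Groth.Agent.S2058

open IsLocalRing in
theorem case_zero {R : Type u} [CommRing R] [IsLocalRing R] [IsNoetherianRing R]
    (h1 : ¬ IsArtinianRing R) (hm : maximalIdeal R ∈ associatedPrimes R R) :
    ∃ H : Ideal R, H ≠ ⊤ ∧ H ≠ ⊥ ∧ (∃ n : ℕ, ∀ x ∈ H, ∀ a ∈ maximalIdeal R ^ n, a * x = 0) ∧
      (∀ y : R, (∀ a ∈ maximalIdeal R, a * y ∈ H) → y ∈ H) := by
  let f : ℕ →o Submodule R R := ⟨fun k => Submodule.annihilator (maximalIdeal R ^ k),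
    fun i j hij => Submodule.annihilator_mono (Ideal.pow_le_pow_right hij)⟩
  obtain ⟨n, hn⟩ := monotone_stabilizes_iff_noetherian.mpr (inferInstance : IsNoetherian R R) f
  have hmem : ∀ k (y : R), y ∈ f k ↔ ∀ a ∈ maximalIdeal R ^ k, a * y = 0 := by
    intro k y
    change y ∈ Submodule.annihilator (maximalIdeal R ^ k) ↔ _
    rw [Submodule.mem_annihilator]
    refine forall₂_congr fun a _ => ?_
    rw [smul_eq_mul, mul_comm]
  refine ⟨f n, ?_, ?_, ⟨n, fun x hx => (hmem n x).mp hx⟩, ?_⟩
  · intro htop
    refine h1 ((isArtinianRing_iff_isNilpotent_maximalIdeal R).mpr ⟨n, ?_⟩)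
    rw [Ideal.zero_eq_bot, eq_bot_iff]
    intro a ha
    have := (hmem n 1).mp (htop ▸ Submodule.mem_top) a ha
    simpa using this
  · intro hbot
    obtain ⟨hp, x, hx⟩ := isAssociatedPrime_iff.mp hm
    have hx0 : x ≠ 0 := by
      rintro rfl
      refine hp.ne_top ((Ideal.eq_top_iff_one _).mpr ?_)
      rw [hx, Submodule.mem_colon_singleton]; simp
    have : x ∈ f (n + 1) := by
      rw [hmem]
      intro a ha
      have ha' : a ∈ maximalIdeal R := Ideal.pow_le_self (Nat.succ_ne_zero n) ha
      rw [hx, Submodule.mem_colon_singleton] at ha'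
      simpa using ha'
    rw [← hn (n + 1) (Nat.le_succ n), hbot] at this
    exact hx0 ((Submodule.mem_bot R).mp this)
  · intro y hy
    rw [hn (n + 1) (Nat.le_succ n)]
    rw [hmem]
    intro a ha
    rw [pow_succ] at ha
    refine Submodule.mul_induction_on ha ?_ ?_
    · intro b hb c hc
      rw [mul_assoc]
      exact (hmem n _).mp (hy c hc) b hb
    · intro b c hb hc
      rw [add_mul, hb, hc, add_zero]

open IsLocalRing in
theorem case_one_data {R : Type u} [CommRing R] [IsLocalRing R] [IsNoetherianRing R]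
    (h3 : LocCoh.depth R R ≤ 1) (hm : maximalIdeal R ∉ associatedPrimes R R) :
    ∃ x y : R, x ∈ maximalIdeal R ∧ IsSMulRegular R x ∧ (∀ r, x * r ≠ y) ∧
      ∀ a ∈ maximalIdeal R, ∃ r, x * r = a * y := by
  classical
  obtain ⟨x, hxm, hx⟩ := (Groth.Agent.Lib.Depth.Assoc.exists_isSMulRegular_iff (maximalIdeal R) R).mpr
    (fun p hp hle => hm
      ((maximalIdeal.isMaximal R).eq_of_le (IsAssociatedPrime.isPrime hp).ne_top hle ▸ hp))
  have hq : maximalIdeal R ∈ associatedPrimes R (QuotSMulTop x R) := by
    by_contra hc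
    obtain ⟨w, hwm, hw⟩ :=
      (Groth.Agent.Lib.Depth.Assoc.exists_isSMulRegular_iff (maximalIdeal R) (QuotSMulTop x R)).mpr
      (fun p hp hle => hc
        ((maximalIdeal.isMaximal R).eq_of_le (IsAssociatedPrime.isPrime hp).ne_top hle ▸ hp))
    have hreg : RingTheory.Sequence.IsWeaklyRegular R [x, w] := by
      rw [RingTheory.Sequence.isWeaklyRegular_cons_iff, RingTheory.Sequence.isWeaklyRegular_cons_iff]
      exact ⟨hx, hw, RingTheory.Sequence.IsWeaklyRegular.nil _ _⟩
    have h2 : ((2 : ℕ) : ℕ∞) ≤ LocCoh.depth R R :=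
      Groth.Agent.Lib.Depth.Basic.length_le_idealDepth hreg (by
        intro r hr
        simp only [List.mem_cons, List.not_mem_nil, or_false] at hr
        rcases hr with rfl | rfl
        · exact hxm
        · exact hwm)
    have := h2.trans h3
    norm_cast at this
  obtain ⟨hp, v, hv⟩ := isAssociatedPrime_iff.mp hq
  obtain ⟨y, rfl⟩ := Submodule.Quotient.mk_surjective _ v
  refine ⟨x, y, hxm, hx, ?_, ?_⟩
  · intro r hr
    refine hp.ne_top ((Ideal.eq_top_iff_one _).mpr ?_)
    rw [hv, Submodule.mem_colon_singleton, one_smul, Submodule.mem_bot, Submodule.Quotient.mk_eq_zero,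
      Submodule.mem_smul_pointwise_iff_exists]
    exact ⟨r, trivial, hr⟩
  · intro a ha
    rw [hv, Submodule.mem_colon_singleton, Submodule.mem_bot, ← Submodule.Quotient.mk_smul,
      Submodule.Quotient.mk_eq_zero, Submodule.mem_smul_pointwise_iff_exists] at ha
    obtain ⟨r, -, hr⟩ := ha
    exact ⟨r, hr⟩

open IsLocalRing in
theorem mem_of_mul_eq {R : Type u} [CommRing R] [IsLocalRing R] [IsNoetherianRing R]
    (h1 : ¬ IsArtinianRing R) (h2 : ¬ (IsRegularLocalRing R ∧ ringKrullDim R = 1))
    {x y : R} (hx : IsSMulRegular R x) (hy : ∀ a ∈ maximalIdeal R, ∃ r, x * r = a * y)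
    {a r : R} (ha : a ∈ maximalIdeal R) (hr : x * r = a * y) : r ∈ maximalIdeal R := by
  by_contra hu
  obtain ⟨u, rfl⟩ : IsUnit r := not_not.mp fun h => hu ((mem_maximalIdeal r).mpr h)
  have hspan : maximalIdeal R = Ideal.span {a} := by
    refine le_antisymm (fun b hb => ?_) ((Ideal.span_singleton_le_iff_mem _).mpr ha)
    obtain ⟨s, hs⟩ := hy b hb
    have hxx : x * (s * a) = x * (b * (u : R)) := by
      linear_combination a * hs - b * hr
    rw [Ideal.mem_span_singleton']
    refine ⟨s * (u⁻¹ : Rˣ), ?_⟩
    calc s * (u⁻¹ : Rˣ) * a = (s * a) * (u⁻¹ : Rˣ) := by ring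
      _ = b * (u : R) * (u⁻¹ : Rˣ) := by rw [hx hxx]
      _ = b := by rw [mul_assoc, Units.mul_inv, mul_one]
  have hle : (maximalIdeal R).spanFinrank ≤ 1 := by
    rw [hspan]
    exact (Submodule.spanFinrank_span_le_ncard_of_finite (Set.finite_singleton a)).trans
      (le_of_eq (Set.ncard_singleton a))
  have hdle : ringKrullDim R ≤ 1 :=
    (ringKrullDim_le_spanFinrank_maximalIdeal R).trans (by exact_mod_cast hle)
  have hdge : 1 ≤ ringKrullDim R := by
    by_contra hlt
    apply h1
    rw [isArtinianRing_iff_krullDimLE_zero]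
    rw [Ring.krullDimLE_iff, Nat.cast_zero]
    rcases hd : ringKrullDim R with _ | d
    · exact bot_le
    · rw [hd] at hlt
      have hlt' : ¬ ((1 : ℕ∞) ≤ d) := fun h => hlt (WithBot.coe_le_coe.mpr h)
      rw [not_le, ENat.lt_one_iff_eq_zero] at hlt'
      rw [hlt']
      rfl
  refine h2 ⟨?_, le_antisymm hdle hdge⟩
  exact IsRegularLocalRing.of_spanFinrank_maximalIdeal_le R
    (le_trans (by exact_mod_cast hle) hdge)

/-- The subring of `L` of the elements carrying the image of the maximal ideal into itself. -/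
def endSub (R : Type u) [CommRing R] [IsLocalRing R] (L : Type u) [CommRing L] [Algebra R L] :
    Subalgebra R L where
  carrier := {w | ∀ a ∈ IsLocalRing.maximalIdeal R, ∃ b ∈ IsLocalRing.maximalIdeal R,
    w * algebraMap R L a = algebraMap R L b}
  mul_mem' {v w} hv hw a ha := by
    obtain ⟨b, hb, hwb⟩ := hw a ha
    obtain ⟨c, hc, hvc⟩ := hv b hb
    exact ⟨c, hc, by rw [mul_assoc, hwb, hvc]⟩
  add_mem' {v w} hv hw a ha := by
    obtain ⟨b, hb, hvb⟩ := hv a ha
    obtain ⟨c, hc, hwc⟩ := hw a ha
    exact ⟨b + c, add_mem hb hc, by rw [add_mul, hvb, hwc, map_add]⟩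
  algebraMap_mem' r a ha := ⟨r * a, Ideal.mul_mem_left _ r ha, by rw [map_mul]⟩

/-- Let R be a Noetherian local ring which is not Artinian, is not a regular local ring of dimension
one, and has depth at most one. Then there is a finite ring map R → R' with R' ≠ 0, not bijective,
whose kernel and cokernel are killed by a power of the maximal ideal of R, such that the maximal
ideal of R is not an associated prime of the R-module R'. (This says that the four cases for a
Noetherian local ring — Artinian, regular of dimension one, depth at least two, or admitting such a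
map — cover everything; that they are mutually exclusive is not asserted.) -/
theorem result {R : Type u} [CommRing R] [IsLocalRing R] [IsNoetherianRing R]
    (h1 : ¬ IsArtinianRing R) (h2 : ¬ (IsRegularLocalRing R ∧ ringKrullDim R = 1))
    (h3 : LocCoh.depth R R ≤ 1) :
    ∃ (R' : Type u) (_ : CommRing R') (_ : Algebra R R'), Nontrivial R' ∧ Module.Finite R R' ∧
      ¬ Function.Bijective (algebraMap R R') ∧
      (∃ n : ℕ, (∀ x : R, algebraMap R R' x = 0 → ∀ a ∈ IsLocalRing.maximalIdeal R ^ n, a * x = 0) ∧
        (∀ y : R', ∀ a ∈ IsLocalRing.maximalIdeal R ^ n, a • y ∈ Set.range (algebraMap R R'))) ∧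
      IsLocalRing.maximalIdeal R ∉ associatedPrimes R R' := by
  classical
  by_cases hm : IsLocalRing.maximalIdeal R ∈ associatedPrimes R R
  · obtain ⟨H, hHtop, hHbot, ⟨n, hn⟩, hsat⟩ := case_zero h1 hm
    have : Nontrivial (R ⧸ H) := Ideal.Quotient.nontrivial_iff.mpr hHtop
    refine ⟨R ⧸ H, inferInstance, inferInstance, inferInstance, inferInstance, ?_, ⟨n, ?_, ?_⟩, ?_⟩
    · intro hb
      refine hHbot (eq_bot_iff.mpr fun x hx => ?_)
      exact hb.1 (by rw [map_zero, Ideal.Quotient.algebraMap_eq, Ideal.Quotient.eq_zero_iff_mem]; exact hx)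
    · intro x hx
      rw [Ideal.Quotient.algebraMap_eq, Ideal.Quotient.eq_zero_iff_mem] at hx
      exact hn x hx
    · intro y a _
      exact ⟨_, (Ideal.Quotient.mk_surjective (a • y)).choose_spec⟩
    · intro hmem
      obtain ⟨hp, v, hv⟩ := isAssociatedPrime_iff.mp hmem
      obtain ⟨y, rfl⟩ := Ideal.Quotient.mk_surjective v
      refine hp.ne_top ((Ideal.eq_top_iff_one _).mpr ?_)
      have hy : y ∈ H := hsat y fun a ha => by
        rw [hv, Submodule.mem_colon_singleton, Submodule.mem_bot, Algebra.smul_def,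
          Ideal.Quotient.algebraMap_eq, ← map_mul, Ideal.Quotient.eq_zero_iff_mem] at ha
        exact ha
      rw [hv, Submodule.mem_colon_singleton, one_smul, Submodule.mem_bot,
        Ideal.Quotient.eq_zero_iff_mem]
      exact hy
  · obtain ⟨x, y, hxm, hx, hne, hy⟩ := case_one_data h3 hm
    let L := Localization.Away x
    have hnzd : x ∈ nonZeroDivisors R := by
      rw [mem_nonZeroDivisors_iff_right]
      intro c hc
      exact hx (show x * c = x * 0 by rw [mul_zero, mul_comm, hc])
    have hinj : Function.Injective (algebraMap R L) :=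
      IsLocalization.injective L (Submonoid.powers_le.mpr hnzd)
    have hux : IsUnit (algebraMap R L x) := IsLocalization.Away.algebraMap_isUnit x
    let ix : L := IsLocalization.Away.invSelf x
    have hix : algebraMap R L x * ix = 1 := IsLocalization.Away.mul_invSelf x
    let z : L := algebraMap R L y * ix
    have hz : z ∈ endSub R L := by
      intro a ha
      obtain ⟨r, hr⟩ := hy a ha
      refine ⟨r, mem_of_mul_eq h1 h2 hx hy ha hr, ?_⟩
      calc z * algebraMap R L a = algebraMap R L (a * y) * ix := by rw [map_mul]; simp only [z]; ring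
        _ = algebraMap R L r * (algebraMap R L x * ix) := by rw [← hr, map_mul]; ring
        _ = algebraMap R L r := by rw [hix, mul_one]
    have hfin : Module.Finite R (endSub R L) := by
      have hle : Subalgebra.toSubmodule (endSub R L) ≤ Submodule.span R {ix} := by
        intro w hw
        obtain ⟨b, -, hb⟩ := hw x hxm
        rw [Submodule.mem_span_singleton]
        refine ⟨b, ?_⟩
        rw [Algebra.smul_def, ← hb, mul_assoc, hix, mul_one]
      have : Module.Finite R (Submodule.span R ({ix} : Set L)) :=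
        Module.Finite.span_of_finite R (Set.finite_singleton ix)
      exact Module.Finite.of_injective (Submodule.inclusion hle) (Submodule.inclusion_injective hle)
    have : Nontrivial L := hinj.nontrivial
    have hinjS : Function.Injective (algebraMap R (endSub R L)) := fun a b hab =>
      hinj (congrArg Subtype.val hab)
    refine ⟨endSub R L, inferInstance, inferInstance, hinjS.nontrivial, hfin, ?_, ⟨1, ?_, ?_⟩, ?_⟩
    · intro hb
      obtain ⟨r, hr⟩ := hb.2 ⟨z, hz⟩
      have hr' : algebraMap R L r = z := congrArg Subtype.val hr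
      refine hne r (hinj ?_)
      rw [map_mul, hr']
      calc algebraMap R L x * z = algebraMap R L y * (algebraMap R L x * ix) := by simp only [z]; ring
        _ = algebraMap R L y := by rw [hix, mul_one]
    · intro w hw a _
      rw [hinjS (hw.trans (map_zero _).symm), mul_zero]
    · intro w a ha
      rw [pow_one] at ha
      obtain ⟨b, -, hb⟩ := w.2 a ha
      exact ⟨b, Subtype.ext (by rw [Subalgebra.coe_smul, Algebra.smul_def, mul_comm, hb]; rfl)⟩
    · intro hmem
      obtain ⟨hp, w, hw⟩ := isAssociatedPrime_iff.mp hmem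
      have hxw := hxm
      rw [hw, Submodule.mem_colon_singleton, Submodule.mem_bot] at hxw
      have h0 : algebraMap R L x * (w : L) = 0 := by
        rw [← Algebra.smul_def, ← Subalgebra.coe_smul, hxw]; rfl
      have hw0 : w = 0 := Subtype.ext (hux.mul_right_eq_zero.mp h0)
      refine hp.ne_top ((Ideal.eq_top_iff_one _).mpr ?_)
      rw [hw, Submodule.mem_colon_singleton, hw0, smul_zero]
      exact zero_mem _

end Groth.Agent.S2058
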