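import Groth.Statements.S2059
import Mathlib

set_option autoImplicit false
universe u
open CAlg

namespace Groth.Agent.S2059

theorem isAlgebraic_of_gen_small (k : Type u) [Field k] (L : Type u) [Field L] [Algebra k L] (t : Set L)
    (ht : Algebra.adjoin k t = ⊤) (hc : t.Finite ∨ Cardinal.mk t < Cardinal.mk k) : Algebra.IsAlgebraic k L := by
  by_cases hfin : t.Finite
  · haveI : Algebra.FiniteType k L := ⟨⟨hfin.toFinset, by rw [Set.Finite.coe_toFinset, ht]⟩⟩
    haveI := finite_of_finite_type_of_isJacobsonRing k L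
    exact Algebra.IsAlgebraic.of_finite k L
  have hlt := hc.resolve_left hfin
  haveI : Infinite t := Set.infinite_coe_iff.2 hfin
  refine ⟨fun x => ?_⟩
  by_contra hx
  have h1 := (Transcendental.linearIndependent_sub_inv (F := k) hx).cardinal_le_rank
  have h2 : Module.rank k L ≤ Cardinal.mk t := by
    have htop : Submodule.span k (Submonoid.closure t : Set L) = ⊤ := by
      rw [← Algebra.adjoin_eq_span, ht, Algebra.top_toSubmodule]
    rw [← rank_top k L, ← htop]
    refine (rank_span_le _).trans ?_
    have : (Submonoid.closure t : Set L) = Set.range (FreeMonoid.lift ((↑) : t → L)) := by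
      rw [Submonoid.closure_eq_mrange, MonoidHom.coe_mrange]
    rw [this]
    refine Cardinal.mk_range_le.trans ((Cardinal.mk_list_eq_max_mk_aleph0 t).le.trans ?_)
    exact max_le le_rfl (Cardinal.aleph0_le_mk t)
  exact absurd (h1.trans h2) (not_le.2 hlt)

/-- Let `k` be a field and `S` a `k`-algebra generated by a set of cardinality smaller than that of `k`.
Then for every maximal ideal `𝔪` of `S` the residue field `S/𝔪` is algebraic over `k`, and `S` is a
Jacobson ring. -/
theorem result {k S : Type u} [Field k] [CommRing S] [Algebra k S]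
    (s : Set S) (hs : Algebra.adjoin k s = ⊤) (hcard : Cardinal.mk s < Cardinal.mk k) :
    (∀ (m : Ideal S) [m.IsMaximal], Algebra.IsAlgebraic k (S ⧸ m)) ∧ IsJacobsonRing S := by
  classical
  have img : ∀ (L : Type u) [Field L] [Algebra k L] (φ : S →ₐ[k] L) (T : Set L), T.Finite →
      Algebra.adjoin k (φ '' s ∪ T) = ⊤ → Algebra.IsAlgebraic k L := by
    intro L _ _ φ T hT htop
    refine isAlgebraic_of_gen_small k L _ htop ?_
    by_cases hs' : s.Finite
    · exact Or.inl ((hs'.image _).union hT)
    · right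
      haveI : Infinite s := Set.infinite_coe_iff.2 hs'
      refine (Cardinal.mk_union_le _ _).trans_lt ?_
      have hinf : Cardinal.aleph0 ≤ Cardinal.mk k := (Cardinal.aleph0_le_mk s).trans hcard.le
      exact Cardinal.add_lt_of_lt hinf ((Cardinal.mk_image_le).trans_lt hcard) (hT.lt_aleph0.trans_le hinf)
  refine ⟨fun m hm => ?_, ?_⟩
  · letI := Ideal.Quotient.field m
    refine img (S ⧸ m) (Ideal.Quotient.mkₐ k m) ∅ Set.finite_empty ?_
    rw [Set.union_empty, ← AlgHom.map_adjoin, hs, Algebra.map_top, AlgHom.range_eq_top]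
    exact Ideal.Quotient.mkₐ_surjective k m
  rw [isJacobsonRing_iff_prime_eq]
  intro P hP
  refine le_antisymm (fun f hf => ?_) Ideal.le_jacobson
  by_contra hfP
  let S' := Localization.Away f
  have hdisj : Disjoint (Submonoid.powers f : Set S) (P : Set S) := by
    rw [Set.disjoint_left]
    rintro _ ⟨i, rfl⟩ hi
    exact hfP (hP.mem_of_pow_mem i hi)
  have hne : P.map (algebraMap S S') ≠ ⊤ := (IsLocalization.isPrime_of_isPrime_disjoint (Submonoid.powers f) S' P hP hdisj).ne_top
  obtain ⟨N, hN, hle⟩ := Ideal.exists_le_maximal _ hne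
  haveI := hN
  letI := Ideal.Quotient.field N
  let φ : S →ₐ[k] (S' ⧸ N) := (Ideal.Quotient.mkₐ k N).comp (IsScalarTower.toAlgHom k S S')
  let iv : S' ⧸ N := Ideal.Quotient.mk N (IsLocalization.Away.invSelf f)
  haveI : Algebra.IsAlgebraic k (S' ⧸ N) := by
    refine img _ φ {iv} (Set.finite_singleton _) ?_
    rw [eq_top_iff]
    intro z _
    obtain ⟨z, rfl⟩ := Ideal.Quotient.mk_surjective z
    obtain ⟨n, a, ha⟩ := IsLocalization.Away.surj f z
    have hz : z = algebraMap S S' a * IsLocalization.Away.invSelf f ^ n := by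
      rw [← ha, mul_assoc, ← mul_pow, IsLocalization.Away.mul_invSelf, one_pow, mul_one]
    rw [hz, map_mul, map_pow]
    refine mul_mem ?_ (pow_mem ?_ n)
    swap
    · exact Algebra.subset_adjoin (Or.inr rfl)
    have ha' : φ a ∈ (Algebra.adjoin k s).map φ := ⟨a, by rw [hs]; trivial, rfl⟩
    rw [AlgHom.map_adjoin] at ha'
    exact Algebra.adjoin_mono Set.subset_union_left ha'
  have hker : (RingHom.ker φ.toRingHom).IsMaximal := by
    rw [Ideal.Quotient.maximal_ideal_iff_isField_quotient]
    have hfield : IsField φ.range := Subalgebra.isField_of_algebraic φ.range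
    exact ((Ideal.quotientKerEquivRange φ).toRingEquiv.toMulEquiv).isField hfield
  have hfN : f ∈ RingHom.ker φ.toRingHom := by
    refine (Submodule.mem_sInf.1 hf) _ ⟨fun x hx => ?_, hker⟩
    rw [RingHom.mem_ker]
    exact Ideal.Quotient.eq_zero_iff_mem.2 (hle (Ideal.mem_map_of_mem _ hx))
  have : algebraMap S S' f ∈ N := Ideal.Quotient.eq_zero_iff_mem.1 hfN
  exact hN.ne_top (N.eq_top_of_isUnit_mem this (IsLocalization.map_units S' ⟨f, Submonoid.mem_powers f⟩))

end Groth.Agent.S2059
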