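import Groth.Statements.S2061
import Groth.Agent.Lib.Regular.Serre
import Mathlib.RingTheory.Regular.ProjectiveDimension

set_option autoImplicit false
universe u
open CategoryTheory
open CAlg

namespace Groth.Agent.S2061

/-- For a Noetherian local ring `R` write `𝔪` for its maximal ideal and `κ` for its residue field. The
projective dimension of `κ` as an `R`-module is at least the `κ`-dimension of `𝔪/𝔪²`: if `κ` has
projective dimension less than `d` then `dim_κ 𝔪/𝔪² < d`. -/
theorem result {R : Type u} [CommRing R] [IsLocalRing R]
    [IsNoetherianRing R] (d : ℕ)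
    (hd : HasProjectiveDimensionLT (ModuleCat.of R (IsLocalRing.ResidueField R)) d) :
    Module.finrank (IsLocalRing.ResidueField R) (IsLocalRing.CotangentSpace R) < d := by
  have hge : CategoryTheory.HasProjectiveDimensionLT (ModuleCat.of R (IsLocalRing.ResidueField R)) (d + 1) :=
    CategoryTheory.hasProjectiveDimensionLT_of_ge _ d (d + 1) d.le_succ
  have : IsRegularLocalRing R := Lib.Regular.Serre.of_pdle_residue d hge
  rw [← IsLocalRing.spanFinrank_maximalIdeal_eq_finrank_cotangentSpace]
  set m := IsLocalRing.maximalIdeal R
  have hfg : Submodule.FG m := Ideal.fg_of_isNoetherianRing _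
  have hfin : (Submodule.generators m).Finite := Submodule.FG.finite_generators hfg
  set rs := hfin.toFinset.toList
  have hlen : rs.length = m.spanFinrank := by
    rw [Finset.length_toList, ← Set.ncard_eq_toFinset_card _ hfin]
    exact Submodule.FG.generators_ncard hfg
  have hrs : Ideal.ofList rs = m := by
    rw [Ideal.ofList]
    simp only [rs, Finset.mem_toList, Set.Finite.mem_toFinset, Set.setOf_mem_eq]
    exact Submodule.span_generators _
  have hreg := Lib.Regular.Quotient.isRegular_of_span_eq_maximalIdeal rs hrs hlen
  have hpd := ModuleCat.projectiveDimension_quotient_eq_length.{u} rs hreg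
  rw [hrs] at hpd
  rw [← hlen]
  let e : ModuleCat.of R (IsLocalRing.ResidueField R) ≅ ModuleCat.of R (Shrink.{u} (R ⧸ m)) :=
    (Shrink.linearEquiv R (R ⧸ m)).symm.toModuleIso
  rw [← CategoryTheory.projectiveDimension_eq_of_iso e] at hpd
  have := (CategoryTheory.projectiveDimension_lt_iff (n := d)).mpr hd
  rw [hpd] at this
  exact_mod_cast this

end Groth.Agent.S2061
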