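import Groth.Statements.S2063
import Groth.Agent.H20.KaehlerGens
import Groth.Agent.Lib.Dim.LocalDim
import Groth.Agent.Lib.Kaehler.SmoothDim
import Mathlib.RingTheory.LocalRing.Module

set_option autoImplicit false
universe u
open CAlg

namespace Groth.Agent.S2063

open TensorProduct in
theorem mk_ker_of_span {S : Type u} [CommRing S] {M : Type u} [AddCommGroup M] [Module S M]
    [Module.Finite S M] (q : Ideal S) [q.IsPrime] {d : ℕ} (w : Fin d → M)
    (hw : Submodule.span q.ResidueField (Set.range fun i => (1 : q.ResidueField) ⊗ₜ[S] w i) = ⊤) :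
    ∃ g : S, g ∉ q ∧ ∀ x : M, g • x ∈ Submodule.span S (Set.range w) := by
  let C := M ⧸ Submodule.span S (Set.range w)
  let π := (Submodule.span S (Set.range w)).mkQ
  have h0 : ∀ z : q.ResidueField ⊗[S] C, z = 0 := by
    intro z
    obtain ⟨y, rfl⟩ := (show Function.Surjective (π.baseChange q.ResidueField) from
      LinearMap.lTensor_surjective q.ResidueField (Submodule.mkQ_surjective _)) z
    have hy : y ∈ Submodule.span q.ResidueField (Set.range fun i => (1 : q.ResidueField) ⊗ₜ[S] w i) :=
      hw ▸ trivial
    induction hy using Submodule.span_induction with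
    | mem v hv =>
      obtain ⟨i, rfl⟩ := hv
      rw [LinearMap.baseChange_tmul, show π (w i) = 0 from
        (Submodule.Quotient.mk_eq_zero _).mpr (Submodule.subset_span ⟨i, rfl⟩), TensorProduct.tmul_zero]
    | zero => simp
    | add a b _ _ ha hb => rw [map_add, ha, hb, add_zero]
    | smul c a _ ha => rw [map_smul, ha, smul_zero]
  have : Subsingleton (q.ResidueField ⊗[S] C) := ⟨fun a b => (h0 a).trans (h0 b).symm⟩
  obtain ⟨g, hg, hgq⟩ : ∃ g ∈ Module.annihilator S C, g ∉ q := by
    by_contra! hle
    have hsupp : (⟨q, inferInstance⟩ : PrimeSpectrum S) ∈ Module.support S C := by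
      rw [Module.support_eq_zeroLocus]
      exact hle
    rw [Module.mem_support_iff_nontrivial_residueField_tensorProduct] at hsupp
    exact false_of_nontrivial_of_subsingleton (q.ResidueField ⊗[S] C)
  exact ⟨g, hgq, fun x => (Submodule.Quotient.mk_eq_zero _).mp
    ((Submodule.Quotient.mk_smul _ g x).trans (Module.mem_annihilator.mp hg (π x)))⟩

open TensorProduct in
/-- Let `S` be of finite type over a field `k` and `𝔮` a prime of `S`. Smoothness of `S` over `k` at `𝔮`
holds exactly when the `κ(𝔮)`-dimension of `Ω_{S/k} ⊗ κ(𝔮)` is at most the local dimension of `Spec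
S` at `𝔮`. -/
theorem result {k S : Type u} [Field k] [CommRing S] [Algebra k S]
    [Algebra.FiniteType k S] (q : Ideal S) [q.IsPrime] :
    Algebra.IsSmoothAt k q ↔
      ((Module.finrank q.ResidueField (q.ResidueField ⊗[S] Ω[S⁄k]) : ℕ∞) : WithBot ℕ∞) ≤
        FlatMor.localDim (PrimeSpectrum S) ⟨q, inferInstance⟩ := by
  have : Algebra.FinitePresentation k S := Algebra.FinitePresentation.of_finiteType.mp ‹_›
  have hloc : FlatMor.localDim (PrimeSpectrum S) ⟨q, inferInstance⟩ =
      ((Groth.Agent.Lib.Dim.Local.dimAt k q : ℕ) : WithBot ℕ∞) :=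
    Groth.Agent.Lib.Dim.LocalDim.localDim_eq_dimAt k q
  rw [hloc]
  suffices Algebra.IsSmoothAt k q ↔
      Module.finrank q.ResidueField (q.ResidueField ⊗[S] Ω[S⁄k]) ≤
        Groth.Agent.Lib.Dim.Local.dimAt k q by
    rw [this]; exact_mod_cast Iff.rfl
  constructor
  · intro _
    obtain ⟨f, hf, hs⟩ := Algebra.IsSmoothAt.exists_notMem_isStandardSmooth k q
    let T := Localization.Away f
    obtain ⟨ι, σ, h1, h2, ⟨Q⟩⟩ := hs.out
    have hn : Algebra.IsStandardSmoothOfRelativeDimension Q.dimension k T := ⟨ι, σ, h1, h2, Q, rfl⟩
    have hu : IsUnit (algebraMap S q.ResidueField f) :=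
      Ne.isUnit fun h => hf (Ideal.algebraMap_residueField_eq_zero.mp h)
    let algT : Algebra T q.ResidueField := (IsLocalization.Away.lift f hu).toAlgebra
    have : IsScalarTower S T q.ResidueField := IsScalarTower.of_algebraMap_eq fun x => by
      rw [RingHom.algebraMap_toAlgebra, IsLocalization.Away.lift_eq]
    have : Nontrivial T := RingHom.domain_nontrivial (algebraMap T q.ResidueField)
    have : Algebra.FormallyEtale S T := .of_isLocalization (Submonoid.powers f)
    have hr := Algebra.IsStandardSmoothOfRelativeDimension.rank_kaehlerDifferential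
      (R := k) (S := T) Q.dimension
    let e := (TensorProduct.AlgebraTensorModule.cancelBaseChange S T q.ResidueField q.ResidueField
      Ω[S⁄k]).symm.trans
      (LinearEquiv.baseChange T q.ResidueField _ _
        (KaehlerDifferential.tensorKaehlerEquivOfFormallyEtale k S T))
    rw [e.finrank_eq, Module.finrank_baseChange, Module.finrank_eq_of_rank_eq hr]
    obtain ⟨P', hP'⟩ : ∃ P' : PrimeSpectrum T,
        PrimeSpectrum.comap (algebraMap S T) P' = ⟨q, inferInstance⟩ := by
      have : (⟨q, inferInstance⟩ : PrimeSpectrum S) ∈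
          Set.range (PrimeSpectrum.comap (algebraMap S T)) := by
        rw [PrimeSpectrum.localization_away_comap_range T f]
        exact hf
      exact this
    have h := Groth.Agent.Lib.JacCrit.Minimal.dimAt_away k f T P'
    rw [hP', Groth.Agent.Lib.Kaehler.SmoothDim.dimAt_eq (n := Q.dimension) k P'.asIdeal] at h
    exact h.ge
  · intro h
    classical
    obtain ⟨b, hbs, hbspan, hbli⟩ := exists_linearIndependent q.ResidueField
      (Set.range fun x : Ω[S⁄k] => (1 : q.ResidueField) ⊗ₜ[S] x)
    have htop : Submodule.span q.ResidueField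
        (Set.range fun x : Ω[S⁄k] => (1 : q.ResidueField) ⊗ₜ[S] x) = ⊤ := by
      have := Submodule.baseChange_span (R := S) (M := Ω[S⁄k]) (A := q.ResidueField) Set.univ
      rw [Submodule.span_univ, Submodule.baseChange_top, Set.image_univ] at this
      exact this.symm
    rw [htop] at hbspan
    let B := Module.Basis.mk hbli (by rw [Subtype.range_coe, hbspan])
    have : Finite b := Module.Finite.finite_basis B
    have : Fintype b := Fintype.ofFinite b
    let d := Fintype.card b
    have hd : Module.finrank q.ResidueField (q.ResidueField ⊗[S] Ω[S⁄k]) = d :=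
      Module.finrank_eq_card_basis B
    choose w hw using fun i : Fin d => hbs ((Fintype.equivFin b).symm i).2
    have hwspan : Submodule.span q.ResidueField
        (Set.range fun i => (1 : q.ResidueField) ⊗ₜ[S] w i) = ⊤ := by
      rw [eq_top_iff, ← hbspan, Submodule.span_le]
      intro x hx
      refine Submodule.subset_span ⟨Fintype.equivFin b ⟨x, hx⟩, ?_⟩
      simp only [hw, Equiv.symm_apply_apply]
    obtain ⟨g, hg, hgw⟩ := mk_ker_of_span q w hwspan
    let T := Localization.Away g
    have : Algebra.FormallyEtale S T := .of_isLocalization (Submonoid.powers g)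
    let wT : Fin d → Ω[T⁄k] := fun i =>
      KaehlerDifferential.tensorKaehlerEquivOfFormallyEtale k S T (1 ⊗ₜ w i)
    have h1 : Submodule.span T (Set.range fun i => (1 : T) ⊗ₜ[S] w i) = ⊤ := by
      rw [eq_top_iff]
      rintro z -
      induction z using TensorProduct.induction_on with
      | zero => exact zero_mem _
      | add x y hx hy => exact add_mem hx hy
      | tmul c x =>
        have hx : (1 : T) ⊗ₜ[S] (g • x) ∈
            Submodule.span T (Set.range fun i => (1 : T) ⊗ₜ[S] w i) := by
          have hmem := hgw x
          generalize g • x = y at hmem ⊢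
          induction hmem using Submodule.span_induction with
          | mem v hv => obtain ⟨i, rfl⟩ := hv; exact Submodule.subset_span ⟨i, rfl⟩
          | zero => simp
          | add a b _ _ ha hb => rw [TensorProduct.tmul_add]; exact add_mem ha hb
          | smul a v _ hv => rw [TensorProduct.tmul_smul]; exact Submodule.smul_of_tower_mem _ a hv
        obtain ⟨u, hu⟩ := IsLocalization.Away.algebraMap_isUnit (S := T) g
        have heq : c ⊗ₜ[S] x = (c * (↑u⁻¹ : T)) • ((1 : T) ⊗ₜ[S] (g • x)) := by
          rw [TensorProduct.tmul_smul, ← algebraMap_smul T g, ← hu, smul_smul, mul_assoc,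
            Units.inv_mul, mul_one, TensorProduct.smul_tmul', smul_eq_mul, mul_one]
        rw [heq]
        exact Submodule.smul_mem _ _ hx
    have hspanT : Submodule.span T (Set.range wT) = ⊤ := by
      rw [show wT = (KaehlerDifferential.tensorKaehlerEquivOfFormallyEtale k S T) ∘
        (fun i => (1 : T) ⊗ₜ[S] w i) from rfl, Set.range_comp]
      exact (Submodule.map_span (KaehlerDifferential.tensorKaehlerEquivOfFormallyEtale k S T).toLinearMap
        _).symm.trans (by rw [h1, Submodule.map_top, LinearEquiv.range])
    obtain ⟨P', hP'⟩ : ∃ P' : PrimeSpectrum T,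
        PrimeSpectrum.comap (algebraMap S T) P' = ⟨q, inferInstance⟩ := by
      have : (⟨q, inferInstance⟩ : PrimeSpectrum S) ∈
          Set.range (PrimeSpectrum.comap (algebraMap S T)) := by
        rw [PrimeSpectrum.localization_away_comap_range T g]
        exact hg
      exact this
    have hdimP := Groth.Agent.Lib.JacCrit.Minimal.dimAt_away k g T P'
    rw [hP'] at hdimP
    change Groth.Agent.Lib.Dim.Local.dimAt k q = _ at hdimP
    have hsm : Algebra.IsSmoothAt k P'.asIdeal :=
      Groth.Agent.H20.KaehlerGens.isSmoothAt_of_span k wT hspanT P'.asIdeal (by omega)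
    have hloc := Algebra.smoothLocus_comap_of_isLocalization (R := k) (A := S) (Af := T) g
    have : P' ∈ PrimeSpectrum.comap (algebraMap S T) ⁻¹' Algebra.smoothLocus k S := hloc ▸ hsm
    rw [Set.mem_preimage, hP'] at this
    exact this

end Groth.Agent.S2063
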