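import Groth.Statements.S2066
import Groth.Agent.Lib.DR.Representative
-- import your own Groth.Agent.* helpers here

set_option autoImplicit false
universe u
open CategoryTheory
attribute [local instance] HasDerivedCategory.standard
open CAlg

namespace Groth.Agent.S2066

open Groth.Agent.Lib.DR.Basic Groth.Agent.Lib.DR.FiniteComplex Groth.Agent.Lib.DR.PseudoCoherent
open Groth.Agent.Lib.DR.TopCohomology Groth.Agent.Lib.DR.Representative

/-- An object `K` of `D(A)` is `m`-pseudo-coherent for every integer `m` if and only if some bounded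
above complex of finite free modules represents it in `D(A)` ((1) iff (2)), and also if and only if
some bounded above complex of finite projective modules represents it ((2) iff (3)). -/
theorem result {A : Type u} [CommRing A] (K : Dual.D A) :
    ((∀ m : ℤ, DRing.IsPseudoCoherent A m K) ↔ DRing.IsPseudoCoherent' A K) ∧
      ((∀ m : ℤ, DRing.IsPseudoCoherent A m K) ↔ ∃ (E : DRing.Cx A) (b : ℤ), DRing.VanishesAbove E b ∧
        DRing.TermwiseFiniteProjective E ∧ Nonempty (DRing.toD E ≅ K)) := by
  have h1 : (∀ m : ℤ, DRing.IsPseudoCoherent A m K) ↔ DRing.IsPseudoCoherent' A K := by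
    rw [isPseudoCoherent'_iff_forall]
    exact forall_congr' fun m => isPseudoCoherent_iff m K
  refine ⟨h1, fun h => ?_, fun ⟨E, b, hb, hp, ⟨e⟩⟩ m => ?_⟩
  · obtain ⟨b, E, hE, hp, he⟩ := (isPseudoCoherent'_iff K).1 (h1.1 h)
    exact ⟨E, b, hE, fun i => fproj_of_ff _ (hp i), he⟩
  · rw [isPseudoCoherent_iff, pcn_ff_iff_fproj]
    exact BA.pcn good_fproj ⟨E, hb, hp, ⟨e⟩⟩ m

end Groth.Agent.S2066
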