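import Groth.Statements.S2071
import Mathlib.NumberTheory.NumberField.InfinitePlace.Embeddings
import Mathlib.FieldTheory.PurelyInseparable.Basic
import Mathlib.FieldTheory.IsAlgClosed.AlgebraicClosure
import Mathlib.FieldTheory.Finite.Basic
import Mathlib.Analysis.Complex.Polynomial.Basic

set_option autoImplicit false
universe u
open CAlg

namespace Groth.Agent.S2071

open Polynomial

section

variable {k k' Ω : Type u} [Field k] [Field k'] [Algebra k k'] [Field Ω] [Algebra k' Ω] [Algebra k Ω]
  [IsScalarTower k k' Ω]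

/-- The root of unity comparing `y + c` with its conjugate. -/
lemma exists_ratio (h : ∀ x : k', ∃ n : ℕ, 0 < n ∧ x ^ n ∈ Set.range (algebraMap k k')) (y : k')
    (hy : y ∉ Set.range (algebraMap k k')) (y' : Ω) (hy' : aeval y' (minpoly k y) = 0) (c : k) :
    ∃ ζ : Ω, (∃ n : ℕ, 0 < n ∧ ζ ^ n = 1) ∧
      y' + algebraMap k Ω c = ζ * (algebraMap k' Ω y + algebraMap k Ω c) := by
  have hne : y + algebraMap k k' c ≠ 0 := fun h0 => hy ⟨-c, by rw [map_neg]; exact (eq_neg_of_add_eq_zero_left h0).symm⟩
  have hne' : algebraMap k' Ω y + algebraMap k Ω c ≠ 0 := by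
    rw [IsScalarTower.algebraMap_apply k k' Ω, ← map_add]
    exact fun h0 => hne ((algebraMap k' Ω).injective (h0.trans (map_zero _).symm))
  obtain ⟨n, hn, a, ha⟩ := h (y + algebraMap k k' c)
  obtain ⟨q, hq⟩ : minpoly k y ∣ (X + C c) ^ n - C a := minpoly.dvd k y (by simp [ha])
  have h1 : (y' + algebraMap k Ω c) ^ n = algebraMap k Ω a := by
    have := congrArg (aeval y') hq
    simp only [map_sub, map_pow, map_add, aeval_X, aeval_C, map_mul, hy', zero_mul] at this
    exact sub_eq_zero.1 this
  have h2 : (algebraMap k' Ω y + algebraMap k Ω c) ^ n = algebraMap k Ω a := by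
    rw [IsScalarTower.algebraMap_apply k k' Ω, ← map_add, ← map_pow, ← ha, ← IsScalarTower.algebraMap_apply]
  refine ⟨(y' + algebraMap k Ω c) / (algebraMap k' Ω y + algebraMap k Ω c), ⟨n, hn, ?_⟩, (div_mul_cancel₀ _ hne').symm⟩
  rw [div_pow, h1, h2, div_self]
  rw [← h2]
  exact pow_ne_zero _ hne'

/-- A separable element outside `k` is integral over every subfield. -/
lemma isIntegral_of_ne_conj (P : Type*) [Field P] [Algebra P Ω]
    (h : ∀ x : k', ∃ n : ℕ, 0 < n ∧ x ^ n ∈ Set.range (algebraMap k k')) (y : k')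
    (hy : y ∉ Set.range (algebraMap k k')) (y' : Ω) (hy' : aeval y' (minpoly k y) = 0)
    (hne : y' ≠ algebraMap k' Ω y) :
    IsIntegral P (algebraMap k' Ω y) ∧ IsIntegral P y' := by
  obtain ⟨ζ₀, ⟨n₀, hn₀, h₀⟩, e₀⟩ := exists_ratio h y hy y' hy' 0
  obtain ⟨ζ₁, ⟨n₁, hn₁, h₁⟩, e₁⟩ := exists_ratio h y hy y' hy' 1
  rw [map_zero, add_zero, add_zero] at e₀
  rw [map_one] at e₁
  have hi₀ : IsIntegral P ζ₀ := IsIntegral.of_pow hn₀ (h₀ ▸ isIntegral_one)
  have hi₁ : IsIntegral P ζ₁ := IsIntegral.of_pow hn₁ (h₁ ▸ isIntegral_one)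
  have hd : ζ₀ - ζ₁ ≠ 0 := by
    intro hd
    rw [sub_eq_zero] at hd
    subst hd
    have h1 : ζ₀ = 1 := by linear_combination e₀ - e₁
    exact hne (by rw [e₀, h1, one_mul])
  have heq : algebraMap k' Ω y = (ζ₁ - 1) * (ζ₀ - ζ₁)⁻¹ := by
    rw [eq_mul_inv_iff_mul_eq₀ hd]
    linear_combination e₁ - e₀
  have hy1 : IsIntegral P (algebraMap k' Ω y) := by
    rw [heq]
    exact (hi₁.sub isIntegral_one).mul (IsIntegral.inv (hi₀.sub hi₁))
  exact ⟨hy1, e₀ ▸ hi₀.mul hy1⟩

lemma exists_conj [IsAlgClosed Ω] (y : k') (hy : y ∉ Set.range (algebraMap k k')) (hsep : IsSeparable k y) :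
    ∃ y' : Ω, aeval y' (minpoly k y) = 0 ∧ y' ≠ algebraMap k' Ω y := by
  classical
  have hi := hsep.isIntegral
  have hdeg : 1 < (minpoly k y).natDegree := by
    rcases Nat.lt_or_ge 1 (minpoly k y).natDegree with h | h
    · exact h
    · exact absurd (minpoly.natDegree_eq_one_iff.1 (le_antisymm h (minpoly.natDegree_pos hi))) hy
  have hcard : Fintype.card ((minpoly k y).rootSet Ω) = (minpoly k y).natDegree :=
    Polynomial.card_rootSet_eq_natDegree hsep (IsAlgClosed.splits _)
  obtain ⟨⟨y', hy'⟩, hne⟩ := Fintype.exists_ne_of_one_lt_card (hcard ▸ hdeg)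
    ⟨algebraMap k' Ω y, mem_rootSet.2 ⟨minpoly.ne_zero hi, by rw [aeval_algebraMap_apply, minpoly.aeval, map_zero]⟩⟩
  exact ⟨y', (mem_rootSet.1 hy').2, fun e => hne (Subtype.ext e)⟩

end

/-- For a field extension `k'/k`, every element of `k'` has a positive power in `k` if and only if
either `k' = k`, or the characteristic is a prime `p` and either `k'/k` is purely inseparable or
`k'` is algebraic over its prime field. -/
theorem result {k k' : Type u} [Field k] [Field k'] [Algebra k k'] :
    (∀ x : k', ∃ n : ℕ, 0 < n ∧ x ^ n ∈ Set.range (algebraMap k k')) ↔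
      Function.Surjective (algebraMap k k') ∨
        ∃ p : ℕ, p.Prime ∧ CharP k' p ∧
          (IsPurelyInseparable k k' ∨ Algebra.IsAlgebraic (⊥ : Subfield k') k') := by
  classical
  constructor
  · intro h
    by_cases hsurj : Function.Surjective (algebraMap k k')
    · exact Or.inl hsurj
    refine Or.inr ?_
    let Ω := AlgebraicClosure k'
    haveI : Algebra.IsIntegral k k' := ⟨fun x => by
      obtain ⟨n, hn, a, ha⟩ := h x
      exact IsIntegral.of_pow hn (ha ▸ isIntegral_algebraMap)⟩
    haveI : Algebra.IsAlgebraic k k' := Algebra.IsIntegral.isAlgebraic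
    rcases CharP.exists k' with ⟨p, hp⟩
    rcases CharP.char_is_prime_or_zero k' p with hpp | hp0
    · refine ⟨p, hpp, hp, or_iff_not_imp_left.2 fun hPI => ?_⟩
      obtain ⟨y, hys, hy⟩ : ∃ y : k', IsSeparable k y ∧ y ∉ Set.range (algebraMap k k') := by
        by_contra hall
        push_neg at hall
        refine hPI ((separableClosure.eq_bot_iff (F := k) (E := k')).1 (eq_bot_iff.2 fun y hy => ?_))
        obtain ⟨a, rfl⟩ := hall y (mem_separableClosure_iff.1 hy)
        exact IntermediateField.algebraMap_mem _ a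
      let P := (⊥ : Subfield k')
      have hsepint : ∀ w : k', IsSeparable k w → w ∉ Set.range (algebraMap k k') → IsIntegral P w := by
        intro w hw hw'
        obtain ⟨w', hw'', hne⟩ := exists_conj (Ω := Ω) w hw' hw
        exact (isIntegral_algebraMap_iff (algebraMap k' Ω).injective).1
          (isIntegral_of_ne_conj P h w hw' w' hw'' hne).1
      have hk : ∀ z : k, IsIntegral P (algebraMap k k' z) := by
        intro z
        have hsum : IsSeparable k (y + algebraMap k k' z) :=
          mem_separableClosure_iff.1 (add_mem (mem_separableClosure_iff.2 hys) (IntermediateField.algebraMap_mem _ z))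
        have hnot : y + algebraMap k k' z ∉ Set.range (algebraMap k k') := fun ⟨b, hb⟩ =>
          hy ⟨b - z, by rw [map_sub, hb, add_sub_cancel_right]⟩
        simpa using (hsepint _ hsum hnot).sub (hsepint y hys hy)
      refine ⟨fun x => IsIntegral.isAlgebraic ?_⟩
      obtain ⟨n, hn, a, ha⟩ := h x
      exact IsIntegral.of_pow hn (ha ▸ hk a)
    · exfalso
      subst hp0
      haveI : CharZero k' := CharP.charP_to_charZero k'
      haveI : CharZero k := (algebraMap k k').charZero
      haveI : CharZero Ω := charZero_of_injective_algebraMap (algebraMap k' Ω).injective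
      obtain ⟨y, hy⟩ := not_forall.1 hsurj
      obtain ⟨y', hy', hne⟩ := exists_conj (Ω := Ω) y hy (Algebra.IsSeparable.isSeparable k y)
      obtain ⟨hi, hi'⟩ := isIntegral_of_ne_conj ℚ h y hy y' hy' hne
      let L : IntermediateField ℚ Ω := IntermediateField.adjoin ℚ {algebraMap k' Ω y, y'}
      haveI : FiniteDimensional ℚ L := IntermediateField.finiteDimensional_adjoin (fun x hx => by
        rcases hx with rfl | rfl
        · exact hi
        · exact hi')
      haveI : NumberField L := {}
      have hfin := NumberField.Embeddings.finite_of_norm_le L ℂ 1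
      choose ζ hζ he using fun c : ℕ => exists_ratio h y hy y' hy' (c : k)
      have hmemy : algebraMap k' Ω y ∈ L := IntermediateField.subset_adjoin _ _ (Or.inl rfl)
      have hmemy' : y' ∈ L := IntermediateField.subset_adjoin _ _ (Or.inr rfl)
      have hne0 : ∀ c : ℕ, algebraMap k' Ω y + (c : Ω) ≠ 0 := fun c h0 =>
        hy ⟨-(c : k), by
          rw [map_neg, map_natCast]
          apply (algebraMap k' Ω).injective
          rw [map_neg, map_natCast]
          exact (eq_neg_of_add_eq_zero_left h0).symm⟩
      have hζ' : ∀ c, ζ c = (y' + (c : Ω)) / (algebraMap k' Ω y + (c : Ω)) := fun c => by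
        rw [eq_div_iff (hne0 c)]
        simpa [mul_comm] using (he c).symm
      have hζL : ∀ c, ζ c ∈ L := fun c => by
        rw [hζ']
        exact div_mem (add_mem hmemy' (natCast_mem L c)) (add_mem hmemy (natCast_mem L c))
      let g : ℕ → L := fun c => ⟨ζ c, hζL c⟩
      have hginj : Function.Injective g := by
        intro c d hcd
        have hcd' : ζ c = ζ d := congrArg Subtype.val hcd
        by_contra hne'
        have e₁ := he c
        have e₂ := he d
        rw [map_natCast] at e₁ e₂
        rw [← hcd'] at e₂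
        have h1 : (ζ c - 1) * ((c : Ω) - d) = 0 := by linear_combination e₂ - e₁
        rcases mul_eq_zero.1 h1 with h2 | h2
        · rw [sub_eq_zero] at h2
          rw [h2, one_mul] at e₁
          exact hne (add_right_cancel e₁)
        · exact hne' (Nat.cast_injective (sub_eq_zero.1 h2))
      refine Set.infinite_range_of_injective hginj (hfin.subset ?_)
      rintro _ ⟨c, rfl⟩
      obtain ⟨n, hn, hpow⟩ := hζ c
      have hpow' : g c ^ n = 1 := Subtype.ext hpow
      refine ⟨IsIntegral.of_pow hn (by rw [hpow']; exact isIntegral_one), fun φ => le_of_eq ?_⟩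
      refine Complex.norm_eq_one_of_pow_eq_one ?_ hn.ne'
      rw [← map_pow, hpow', map_one]
  · rintro (hsurj | ⟨p, hp, hcp, hPI | halg⟩) x
    · exact ⟨1, one_pos, by rw [pow_one]; exact hsurj x⟩
    · haveI : Fact p.Prime := ⟨hp⟩
      haveI : CharP k p := (RingHom.charP_iff (algebraMap k k') (algebraMap k k').injective p).2 hcp
      haveI : ExpChar k p := ExpChar.prime hp
      obtain ⟨n, hn⟩ := IsPurelyInseparable.pow_mem k p x
      exact ⟨p ^ n, pow_pos hp.pos n, hn⟩
    · rcases eq_or_ne x 0 with rfl | hx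
      · exact ⟨1, one_pos, 0, by simp⟩
      haveI : Fact p.Prime := ⟨hp⟩
      let f : ZMod p →+* k' := ZMod.castHom dvd_rfl k'
      have hbot : (⊥ : Subfield k') ≤ f.fieldRange := bot_le
      haveI : Finite (⊥ : Subfield k') := by
        have hfin : Set.Finite (f.fieldRange : Set k') := by
          rw [RingHom.coe_fieldRange]; exact Set.finite_range f
        exact (hfin.subset hbot).to_subtype
      let P := (⊥ : Subfield k')
      let L : IntermediateField P k' := IntermediateField.adjoin P {x}
      haveI : FiniteDimensional P L := IntermediateField.adjoin.finiteDimensional (halg.isAlgebraic x).isIntegral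
      haveI : Finite L := Module.finite_of_finite P
      haveI : Fintype L := Fintype.ofFinite L
      let xL : L := ⟨x, IntermediateField.mem_adjoin_simple_self P x⟩
      have h1 := FiniteField.pow_card_sub_one_eq_one xL (fun h0 => hx (congrArg Subtype.val h0))
      refine ⟨Fintype.card L - 1, by have := Fintype.one_lt_card (α := L); omega, 1, ?_⟩
      rw [map_one]
      exact (congrArg Subtype.val h1).symm

end Groth.Agent.S2071
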