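import Groth.Statements.S2072
import Groth.Agent.Lib.Cohen.Unramified
import Mathlib.RingTheory.Flat.FaithfullyFlat.Algebra
import Mathlib.RingTheory.Localization.BaseChange
import Mathlib.RingTheory.LocalProperties.Reduced
import Mathlib.RingTheory.AdicCompletion.AsTensorProduct

set_option autoImplicit false
set_option linter.style.haveILetI false
universe u
open CAlg

namespace Groth.Agent.S2072

/-- A Noetherian local domain whose completion with respect to the maximal ideal is reduced (an
analytically unramified local domain) is N-1: its integral closure in its fraction field is a finite
module. -/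
theorem result {R : Type u} [CommRing R] [IsDomain R] [IsLocalRing R]
    [IsNoetherianRing R] [IsReduced (AdicCompletion (IsLocalRing.maximalIdeal R) R)] : CAlg.IsN1 R := by
  let C := AdicCompletion (IsLocalRing.maximalIdeal R) R
  let K := FractionRing R
  haveI : Module.FaithfullyFlat R C := Module.FaithfullyFlat.of_flat_of_isLocalHom
  haveI : IsLocalization (Algebra.algebraMapSubmonoid C (nonZeroDivisors R)) (TensorProduct R C K) :=
    inferInstance
  haveI : IsReduced (TensorProduct R C K) :=
    isReduced_localizationPreserves (R := C) (Algebra.algebraMapSubmonoid C (nonZeroDivisors R))
      (TensorProduct R C K) inferInstance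
  exact Groth.Agent.Lib.Cohen.Unramified.finite_of_isReduced_tensor C
    (Groth.Agent.Lib.Cohen.Unramified.isNagata_completion R) K K inferInstance

end Groth.Agent.S2072
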