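import Groth.Statements.S2073
import Mathlib.RingTheory.NoetherNormalization
import Mathlib.RingTheory.Localization.FractionRing
import Mathlib.RingTheory.Polynomial.ScaleRoots
import Mathlib.Algebra.Polynomial.Lifts
import Mathlib.RingTheory.AlgebraicIndependent.Basic
import Mathlib.RingTheory.IntegralClosure.IsIntegralClosure.Basic

set_option autoImplicit false
universe u
open CAlg

namespace Groth.Agent.S2073

/-- Let `R` be a domain and `R → S` an injective ring map of finite type. Then there are elements `y_1,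
…, y_d` of `S` algebraically independent over `R`, a finitely generated `R`-subalgebra `S'` of `S`
containing them and integral over `R[y_1, …, y_d]`, and a nonzero `f ∈ R` such that every element of
`S` lands in `S'` after multiplication by a power of `f`. -/
theorem result {R S : Type u} [CommRing R] [IsDomain R] [CommRing S] [Algebra R S]
    [Algebra.FiniteType R S] (hinj : Function.Injective (algebraMap R S)) :
    ∃ (d : ℕ) (y : Fin d → S) (S' : Subalgebra R S), AlgebraicIndependent R y ∧ (∀ i, y i ∈ S') ∧ S'.FG ∧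
      (∀ s ∈ S', IsIntegral (Algebra.adjoin R (Set.range y)) s) ∧
      ∃ f : R, f ≠ 0 ∧ ∀ s : S, ∃ n : ℕ, (f ^ n) • s ∈ S' := by
  classical
  let M : Submonoid S := Algebra.algebraMapSubmonoid S (nonZeroDivisors R)
  let Q := Localization M
  let K := FractionRing R
  let ι : S →ₐ[R] Q := IsScalarTower.toAlgHom R S Q
  have hu : ∀ r : nonZeroDivisors R, IsUnit (algebraMap R Q r) := fun r => by
    rw [IsScalarTower.algebraMap_apply R S Q]
    exact IsLocalization.map_units Q (⟨_, (r : R), r.2, rfl⟩ : M)
  letI : Algebra K Q := (IsLocalization.lift hu).toAlgebra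
  haveI : IsScalarTower R K Q := IsScalarTower.of_algebraMap_eq fun r =>
    (IsLocalization.lift_eq hu r).symm
  have hker : ∀ z : S, ι z = 0 → ∃ r : R, r ≠ 0 ∧ r • z = 0 := by
    intro z hz
    obtain ⟨⟨_, r, hr, rfl⟩, hm⟩ := (IsLocalization.map_eq_zero_iff M Q z).1 hz
    exact ⟨r, nonZeroDivisors.ne_zero hr, by rw [Algebra.smul_def]; exact hm⟩
  have hsurj : ∀ q : Q, ∃ (r : R) (s : S), r ≠ 0 ∧ algebraMap R Q r * q = ι s := by
    intro q
    obtain ⟨⟨s, ⟨_, r, hr, rfl⟩⟩, hq⟩ := IsLocalization.surj M q
    refine ⟨r, s, nonZeroDivisors.ne_zero hr, ?_⟩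
    rw [mul_comm, IsScalarTower.algebraMap_apply R S Q]
    exact hq
  haveI : Nontrivial Q := by
    refine ⟨⟨1, 0, fun h => ?_⟩⟩
    obtain ⟨r, hr, hr'⟩ := hker 1 (by rw [map_one]; exact h)
    refine hr (hinj ?_)
    rw [map_zero, ← hr', Algebra.smul_def, mul_one]
  obtain ⟨G, hG⟩ := (Algebra.FiniteType.out : (⊤ : Subalgebra R S).FG)
  have hK : ∀ r : R, r ≠ 0 → algebraMap R K r ≠ 0 := fun r hr =>
    IsFractionRing.to_map_ne_zero_of_mem_nonZeroDivisors (mem_nonZeroDivisors_of_ne_zero hr)
  haveI : Algebra.FiniteType K Q := by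
    refine ⟨⟨G.image ι, ?_⟩⟩
    rw [eq_top_iff]
    intro q _
    obtain ⟨r, s, hr, hq⟩ := hsurj q
    have hs : ι s ∈ Algebra.adjoin K ((G.image ι : Finset Q) : Set Q) := by
      have h1 : ι s ∈ (Algebra.adjoin R (G : Set S)).map ι := ⟨s, hG ▸ Algebra.mem_top, rfl⟩
      rw [← Algebra.adjoin_image] at h1
      rw [Finset.coe_image]
      exact Algebra.adjoin_le (S := (Algebra.adjoin K (ι '' (G : Set S))).restrictScalars R)
        Algebra.subset_adjoin h1
    have hq' : q = (algebraMap R K r)⁻¹ • ι s := by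
      rw [← hq, IsScalarTower.algebraMap_apply R K Q r, ← Algebra.smul_def, smul_smul,
        inv_mul_cancel₀ (hK r hr), one_smul]
    rw [hq']
    exact Subalgebra.smul_mem _ hs _
  obtain ⟨d, g, hg, hgfin⟩ := exists_finite_inj_algHom_of_fg K Q
  choose m y hm hy using fun i => hsurj (g (MvPolynomial.X i))
  let T : Subalgebra R S := Algebra.adjoin R (Set.range y)
  -- `y` is algebraically independent
  have hind : AlgebraicIndependent R y := by
    let sc : MvPolynomial (Fin d) K →ₐ[K] MvPolynomial (Fin d) K :=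
      MvPolynomial.aeval fun i => MvPolynomial.C (algebraMap R K (m i)) * MvPolynomial.X i
    let sc' : MvPolynomial (Fin d) K →ₐ[K] MvPolynomial (Fin d) K :=
      MvPolynomial.aeval fun i => MvPolynomial.C (algebraMap R K (m i))⁻¹ * MvPolynomial.X i
    have hsc : Function.Injective sc := by
      have : sc'.comp sc = AlgHom.id K _ := MvPolynomial.algHom_ext fun i => by
        simp only [sc, sc', AlgHom.comp_apply, MvPolynomial.aeval_X, map_mul, MvPolynomial.aeval_C,
          MvPolynomial.algebraMap_eq, AlgHom.id_apply]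
        rw [← mul_assoc, ← map_mul, mul_inv_cancel₀ (hK _ (hm i)), map_one, one_mul]
      exact Function.LeftInverse.injective (g := sc') (AlgHom.congr_fun this)
    let mp : MvPolynomial (Fin d) R →ₐ[R] MvPolynomial (Fin d) K :=
      MvPolynomial.mapAlgHom (Algebra.ofId R K)
    have hmp : Function.Injective mp :=
      MvPolynomial.map_injective _ (IsFractionRing.injective R K)
    have heq : ι.comp (MvPolynomial.aeval y) =
        ((g.comp sc).restrictScalars R).comp mp := MvPolynomial.algHom_ext fun i => by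
      simp only [AlgHom.comp_apply, MvPolynomial.aeval_X, AlgHom.restrictScalars_apply]
      rw [← hy, show mp (MvPolynomial.X i) = MvPolynomial.X i from MvPolynomial.map_X _ i,
        MvPolynomial.aeval_X, map_mul, ← MvPolynomial.algebraMap_eq, AlgHom.commutes,
        IsScalarTower.algebraMap_apply R K Q]
    intro p q hpq
    exact hmp (hsc (hg ((AlgHom.congr_fun heq p).symm.trans
      ((congrArg ι hpq).trans (AlgHom.congr_fun heq q)))))
  -- coefficients
  let j : T →+* Q := ι.toRingHom.comp T.val.toRingHom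
  have hcoef : ∀ c ∈ g.range, ∃ r : R, r ≠ 0 ∧ ∃ t : T, j t = algebraMap R Q r * c := by
    rintro _ ⟨p, rfl⟩
    induction p using MvPolynomial.induction_on with
    | C a =>
      obtain ⟨⟨r, s⟩, hrs⟩ := IsLocalization.surj (nonZeroDivisors R) a
      refine ⟨s, nonZeroDivisors.ne_zero s.2, algebraMap R T r, ?_⟩
      show ι (algebraMap R S r) = _
      rw [AlgHom.commutes, AlgHom.toRingHom_eq_coe, RingHom.coe_coe, ← MvPolynomial.algebraMap_eq,
        AlgHom.commutes, IsScalarTower.algebraMap_apply R K Q, IsScalarTower.algebraMap_apply R K Q,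
        ← map_mul, mul_comm, hrs]
    | add p q hp hq =>
      obtain ⟨r, hr, t, ht⟩ := hp
      obtain ⟨r', hr', t', ht'⟩ := hq
      refine ⟨r * r', mul_ne_zero hr hr', algebraMap R T r' * t + algebraMap R T r * t', ?_⟩
      have hjr : ∀ a, j (algebraMap R T a) = algebraMap R Q a := fun a => ι.commutes a
      simp only [map_add, map_mul, ht, ht', hjr]
      ring
    | mul_X p i hp =>
      obtain ⟨r, hr, t, ht⟩ := hp
      refine ⟨r * m i, mul_ne_zero hr (hm i), t * ⟨y i, Algebra.subset_adjoin ⟨i, rfl⟩⟩, ?_⟩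
      simp only [map_mul, ht]
      show algebraMap R Q r * _ * ι (y i) = _
      rw [← hy]
      simp only [map_mul, AlgHom.toRingHom_eq_coe, RingHom.coe_coe]
      ring
  have hmul : ∀ z : S, ∃ r : R, r ≠ 0 ∧ IsIntegral T (r • z) := by
    intro z
    obtain ⟨P, hP, hPz⟩ := hgfin.to_isIntegral (ι z)
    have hPz' : Polynomial.eval₂ (g : MvPolynomial (Fin d) K →+* Q) (ι z) P = 0 := hPz
    choose r hr t ht using fun i => hcoef (g (P.coeff i)) ⟨P.coeff i, rfl⟩
    let c : R := ∏ i ∈ Finset.range P.natDegree, r i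
    have hc : c ≠ 0 := Finset.prod_ne_zero_iff.2 fun i _ => hr i
    let P₁ := (P.map (g : MvPolynomial (Fin d) K →+* Q)).scaleRoots (algebraMap R Q c)
    have hmon : P₁.Monic := (Polynomial.monic_scaleRoots_iff _).2 (hP.map _)
    have hdeg : (P.map (g : MvPolynomial (Fin d) K →+* Q)).natDegree = P.natDegree :=
      hP.natDegree_map _
    have hlift : P₁ ∈ Polynomial.lifts j := by
      rw [Polynomial.lifts_iff_coeff_lifts]
      intro i
      rw [Polynomial.coeff_scaleRoots, hdeg, Polynomial.coeff_map]
      rcases lt_trichotomy i P.natDegree with hi | hi | hi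
      · refine ⟨algebraMap R T ((∏ x ∈ (Finset.range P.natDegree).erase i, r x) *
          c ^ (P.natDegree - i - 1)) * t i, ?_⟩
        rw [map_mul, ht, show ∀ a, j (algebraMap R T a) = algebraMap R Q a from fun a => ι.commutes a,
          map_mul, ← map_pow (algebraMap R Q)]
        have hce : c = r i * ∏ x ∈ (Finset.range P.natDegree).erase i, r x :=
          (Finset.mul_prod_erase _ _ (Finset.mem_range.2 hi)).symm
        have hpow : c ^ (P.natDegree - i) = c * c ^ (P.natDegree - i - 1) := by
          rw [← pow_succ']; congr 1; omega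
        rw [hpow, map_mul, hce, map_mul]
        simp only [RingHom.coe_coe]
        ring
      · refine ⟨1, ?_⟩
        rw [hi, hP.coeff_natDegree, Nat.sub_self, pow_zero, map_one, map_one, one_mul]
      · refine ⟨0, ?_⟩
        rw [Polynomial.coeff_eq_zero_of_natDegree_lt hi, map_zero, map_zero, zero_mul]
    obtain ⟨q, hq, -, hqm⟩ := Polynomial.lifts_and_natDegree_eq_and_monic hlift hmon
    have hev : ι (q.eval₂ T.val.toRingHom (c • z)) = 0 := by
      have h0 := Polynomial.scaleRoots_eval₂_eq_zero (RingHom.id Q) (s := algebraMap R Q c)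
        (r := ι z) (p := P.map (g : MvPolynomial (Fin d) K →+* Q))
        (by rw [Polynomial.eval₂_map, RingHom.id_comp]; exact hPz')
      have h2 : ι.toRingHom (q.eval₂ T.val.toRingHom (c • z)) = q.eval₂ j (ι (c • z)) :=
        Polynomial.hom_eval₂ q T.val.toRingHom ι.toRingHom (c • z)
      rw [show ι (q.eval₂ T.val.toRingHom (c • z)) = q.eval₂ j (ι (c • z)) from h2, map_smul,
        Algebra.smul_def, ← RingHom.id_comp j, ← Polynomial.eval₂_map, hq]
      exact h0
    obtain ⟨e, he, he'⟩ := hker _ hev
    by_cases hd : q.natDegree = 0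
    · exfalso
      rw [hqm.natDegree_eq_zero.1 hd, Polynomial.eval₂_one,
        Algebra.smul_def, mul_one] at he'
      exact he (hinj (he'.trans (map_zero _).symm))
    refine ⟨e * c, mul_ne_zero he hc, q.scaleRoots (algebraMap R T e),
      (Polynomial.monic_scaleRoots_iff _).2 hqm, ?_⟩
    show Polynomial.eval₂ T.val.toRingHom ((e * c) • z) (q.scaleRoots (algebraMap R T e)) = 0
    have h1 : (e * c) • z = T.val.toRingHom (algebraMap R T e) * (c • z) := by
      rw [mul_smul, Algebra.smul_def]
      rfl
    rw [h1, Polynomial.scaleRoots_eval₂_mul,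
      show q.natDegree = q.natDegree - 1 + 1 by omega, pow_succ, mul_assoc]
    have : T.val.toRingHom (algebraMap R T e) * q.eval₂ T.val.toRingHom (c • z) = 0 := by
      rw [Algebra.smul_def] at he'
      exact he'
    rw [this, mul_zero]
  choose f hf hfint using hmul
  let F : R := ∏ s ∈ G, f s
  let S' : Subalgebra R S := Algebra.adjoin R (Set.range y ∪ (fun s => f s • s) '' (G : Set S))
  refine ⟨d, y, S', hind, fun i => Algebra.subset_adjoin (Or.inl ⟨i, rfl⟩),
    Subalgebra.fg_def.2 ⟨_, (Set.finite_range y).union (G.finite_toSet.image _), rfl⟩, ?_,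
    F, Finset.prod_ne_zero_iff.2 fun s _ => hf s, ?_⟩
  · intro s hs
    have hle : S' ≤ (integralClosure T S).restrictScalars R := by
      refine Algebra.adjoin_le ?_
      rintro x (⟨i, rfl⟩ | ⟨s, -, rfl⟩)
      · exact isIntegral_algebraMap (x := (⟨y i, Algebra.subset_adjoin ⟨i, rfl⟩⟩ : T))
      · exact hfint s
    exact hle hs
  · intro s
    have hs : s ∈ Algebra.adjoin R (G : Set S) := hG ▸ Algebra.mem_top
    induction hs using Algebra.adjoin_induction with
    | mem x hx =>
      refine ⟨1, ?_⟩
      rw [pow_one, show F = (∏ s ∈ G.erase x, f s) * f x from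
        (Finset.prod_erase_mul _ _ hx).symm, mul_smul]
      exact S'.smul_mem (Algebra.subset_adjoin (Or.inr ⟨x, hx, rfl⟩)) _
    | algebraMap r => exact ⟨0, by rw [pow_zero, one_smul]; exact S'.algebraMap_mem r⟩
    | add a b _ _ ha hb =>
      obtain ⟨n, hn⟩ := ha
      obtain ⟨k, hk⟩ := hb
      refine ⟨n + k, ?_⟩
      rw [smul_add]
      refine S'.add_mem ?_ ?_
      · rw [add_comm n k, pow_add, mul_smul]; exact S'.smul_mem hn _
      · rw [pow_add, mul_smul]; exact S'.smul_mem hk _
    | mul a b _ _ ha hb =>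
      obtain ⟨n, hn⟩ := ha
      obtain ⟨k, hk⟩ := hb
      exact ⟨n + k, by rw [pow_add, ← smul_mul_smul_comm]; exact S'.mul_mem hn hk⟩

end Groth.Agent.S2073
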