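import Groth.Statements.S2076
import Groth.Agent.Lib.Lim.Eventual
-- import your own Groth.Agent.* helpers here

set_option autoImplicit false
universe u
open CategoryTheory AlgebraicGeometry
open Lim

namespace Groth.Agent.S2076
set_option backward.isDefEq.respectTransparency false

/-- Let `X = lim X_i` be a cofiltered limit of quasi-compact schemes over `S` with affine transition
morphisms and `h : Y → X` a closed immersion with `Y → S` locally of finite type. Then `Y → X_i` is
a closed immersion for some `i`. -/
theorem result {I : Type u} [SmallCategory I] [IsCofiltered I] (S : Scheme.{u})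
    (D : I ⥤ Over S) (c : Limits.Cone D) (hc : Limits.IsLimit c)
    [∀ (i j : I) (f : i ⟶ j), IsAffineHom (D.map f).left] [∀ i, CompactSpace (D.obj i).left]
    {Y : Scheme.{u}} (h : Y ⟶ c.pt.left) [IsClosedImmersion h] [LocallyOfFiniteType (h ≫ c.pt.hom)] :
    ∃ i : I, IsClosedImmersion (h ≫ (c.π.app i).left) := by
  have : ∀ {i j : I} (f : i ⟶ j), IsAffineHom ((D ⋙ Over.forget S).map f) := fun {i j} f => inferInstanceAs (IsAffineHom (D.map f).left)
  let t : D ⋙ Over.forget S ⟶ (Functor.const I).obj S :=
    { app := fun i => (D.obj i).hom, naturality := fun i j f => by simp }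
  have : IsConnected I := IsCofiltered.isConnected I
  have hc' := Limits.isLimitOfPreserves (Over.forget S) hc
  obtain ⟨i₀⟩ := IsCofiltered.nonempty (C := I)
  have hi₀ : c.pt.hom = (c.π.app i₀).left ≫ (D.obj i₀).hom := (Over.w (c.π.app i₀)).symm
  have : ∀ i, CompactSpace ((D ⋙ Over.forget S).obj i) := fun i => inferInstanceAs (CompactSpace (D.obj i).left)
  have : LocallyOfFiniteType (h ≫ ((Over.forget S).mapCone c).π.app i₀ ≫ t.app i₀) := by
    change LocallyOfFiniteType (h ≫ (c.π.app i₀).left ≫ (D.obj i₀).hom)
    rw [← hi₀]; infer_instance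
  have : IsClosedImmersion (show Y ⟶ ((Over.forget S).mapCone c).pt from h) := ‹IsClosedImmersion h›
  exact Groth.Agent.Lib.Lim.Eventual.exists_isClosedImmersion_comp t hc' h i₀

end Groth.Agent.S2076
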