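import Groth.Statements.S2083
import Groth.Agent.Lib.Depth.CM
import Mathlib.RingTheory.Support

set_option autoImplicit false
universe u
open CAlg

namespace Groth.Agent.S2083

/-- Let `R` be a Noetherian local ring, `M` a finite Cohen–Macaulay `R`-module and `g` a member of the
maximal ideal for which the support of `M/gM` has dimension exactly one less than that of `M`. Then
`g` is a nonzerodivisor on `M`, and the quotient `M/gM` is again Cohen–Macaulay, with depth one
smaller than that of `M`. -/
theorem result {R M : Type u} [CommRing R] [IsLocalRing R] [IsNoetherianRing R]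
    [AddCommGroup M] [Module R M] [Module.Finite R M] (hM : LocCoh.IsCohenMacaulayModule R M) (g : R)
    (hg : g ∈ IsLocalRing.maximalIdeal R)
    (hdim : Module.supportDim R (M ⧸ Ideal.span {g} • (⊤ : Submodule R M)) + 1 = Module.supportDim R M) :
    IsSMulRegular M g ∧ LocCoh.IsCohenMacaulayModule R (M ⧸ Ideal.span {g} • (⊤ : Submodule R M)) ∧
      LocCoh.depth R (M ⧸ Ideal.span {g} • (⊤ : Submodule R M)) + 1 = LocCoh.depth R M := by
  classical
  have hnt := Lib.Depth.CM.nontrivial_of_isCohenMacaulayModule hM
  let M' := M ⧸ Ideal.span {g} • (⊤ : Submodule R M)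
  have hreg : IsSMulRegular M g := by
    by_contra hc
    obtain ⟨p, hp, hgp⟩ : ∃ p ∈ associatedPrimes R M, g ∈ p := by
      have h : g ∈ ⋃ p ∈ associatedPrimes R M, (p : Set R) := by
        rw [biUnion_associatedPrimes_eq_compl_regular R M]; exact hc
      simpa using h
    have hpp := IsAssociatedPrime.isPrime hp
    have hsupp : (⟨p, hpp⟩ : PrimeSpectrum R) ∈ Module.support R M' := by
      rw [Module.support_quotient]
      refine ⟨?_, ?_⟩
      · rw [Module.mem_support_iff_of_finite]
        have h := IsAssociatedPrime.annihilator_le hp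
        rwa [Submodule.annihilator_top] at h
      · rw [PrimeSpectrum.mem_zeroLocus, SetLike.coe_subset_coe, Ideal.span_le]
        exact Set.singleton_subset_iff.2 hgp
    rw [Module.mem_support_iff_of_finite] at hsupp
    have h1 : ringKrullDim (R ⧸ p) ≤ Module.supportDim R M' := by
      rw [Module.supportDim_eq_ringKrullDim_quotient_annihilator]
      exact ringKrullDim_le_of_surjective (Ideal.Quotient.factor hsupp)
        (Ideal.Quotient.factor_surjective hsupp)
    rw [Lib.Depth.CM.ringKrullDim_quotient_eq hM hp] at h1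
    obtain ⟨d, hd⟩ := Lib.Depth.CM.supportDim_eq_nat (R := R) M
    rw [← hdim] at h1 hd
    cases hx : Module.supportDim R M' with
    | bot => simp [M', hx] at hd
    | coe e =>
      cases e with
      | top =>
        change Module.supportDim R (M ⧸ Ideal.span {g} • (⊤ : Submodule R M)) = _ at hx
        rw [hx] at hd
        change ((⊤ : ℕ∞) : WithBot ℕ∞) + ((1 : ℕ∞) : WithBot ℕ∞) = ((d : ℕ∞) : WithBot ℕ∞) at hd
        rw [← WithBot.coe_add, top_add, WithBot.coe_inj] at hd
        exact (ENat.coe_ne_top d) hd.symm
      | coe e =>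
        change Module.supportDim R (M ⧸ Ideal.span {g} • (⊤ : Submodule R M)) = _ at hx
        rw [hx] at h1
        change ((e : ℕ∞) : WithBot ℕ∞) + ((1 : ℕ∞) : WithBot ℕ∞) ≤ ((e : ℕ∞) : WithBot ℕ∞) at h1
        rw [← WithBot.coe_add, WithBot.coe_le_coe] at h1
        norm_cast at h1
        omega
  let e : QuotSMulTop g M ≃ₗ[R] M' :=
    Submodule.quotEquivOfEq _ _ (Submodule.ideal_span_singleton_smul g ⊤).symm
  refine ⟨hreg, (Lib.Depth.CM.isCohenMacaulayModule_congr e).1
    ((Lib.Depth.CM.isCohenMacaulayModule_quotSMulTop_iff hg hreg).2 hM), ?_⟩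
  rw [← Lib.Depth.Basic.depth_congr e]
  exact Lib.Depth.SES.idealDepth_quotSMulTop _ hg hreg

end Groth.Agent.S2083
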