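import Groth.Statements.S2088
import Mathlib
import Groth.Agent.H24.Gonflement

set_option autoImplicit false
universe u
open CAlg

namespace Groth.Agent.S2088

/-- Let `(R, 𝔪, k)` be a local ring and `K/k` a field extension. Then there is a flat local homomorphism
of local rings `R → R'` with `𝔪R' = 𝔪_{R'}` whose residue field is isomorphic to `K` over `k`. -/
theorem result {R K : Type u} [CommRing R] [IsLocalRing R] [Field K]
    [Algebra (IsLocalRing.ResidueField R) K] :
    ∃ (R' : Type u) (_ : CommRing R') (_ : IsLocalRing R') (_ : Algebra R R') (_ : IsLocalHom (algebraMap R R')),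
      Module.Flat R R' ∧ (IsLocalRing.maximalIdeal R).map (algebraMap R R') = IsLocalRing.maximalIdeal R' ∧
      Nonempty (IsLocalRing.ResidueField R' ≃ₐ[IsLocalRing.ResidueField R] K) := by
  obtain ⟨D, _, _, _, hloc, hflat, hmax, e, he⟩ :=
    Groth.Agent.H24.Gonflement.exists_flat_extension (algebraMap (IsLocalRing.ResidueField R) K)
  refine ⟨D, inferInstance, inferInstance, inferInstance, hloc, hflat, hmax,
    ⟨AlgEquiv.ofRingEquiv (f := e) fun x => ?_⟩⟩
  obtain ⟨r, rfl⟩ := IsLocalRing.residue_surjective x
  exact he r

end Groth.Agent.S2088
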