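import Groth.Statements.S2093
import Groth.Agent.Lib.Excellent.QuotientFibre
import Groth.Agent.Lib.Excellent.CompletionNoetherian
import Groth.Agent.Lib.Regular.Descent
import Mathlib.RingTheory.Ideal.AssociatedPrime.Finiteness
import Mathlib.RingTheory.Ideal.KrullsHeightTheorem

set_option autoImplicit false
universe u
open CAlg

namespace Groth.Agent.S2093

open IsLocalRing in
/-- In a Noetherian local ring with a non-zero-divisor `x` in the maximal ideal, a nilpotent that lies in
`x R` whenever it is nilpotent vanishes. -/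
theorem isReduced_of_nilpotent_mem {C : Type*} [CommRing C] [IsLocalRing C] [IsNoetherianRing C]
    (x : C) (hxm : x ∈ maximalIdeal C) (hx : IsSMulRegular C x)
    (h : ∀ z : C, IsNilpotent z → z ∈ Ideal.span {x}) : IsReduced C := by
  refine ⟨fun z hz => ?_⟩
  have key : ∀ n : ℕ, ∀ z : C, IsNilpotent z → z ∈ Ideal.span {x} ^ n := by
    intro n
    induction n with
    | zero => intro z _; simp
    | succ n ih =>
      intro z hz
      obtain ⟨w, rfl⟩ := Ideal.mem_span_singleton'.1 (h z hz)
      obtain ⟨k, hk⟩ := hz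
      have hw : IsNilpotent w := by
        refine ⟨k, ?_⟩
        rw [mul_pow, mul_comm] at hk
        exact hx.pow k (by simpa [smul_eq_mul] using hk)
      rw [pow_succ]
      exact Ideal.mul_mem_mul (ih w hw) (Ideal.mem_span_singleton_self x)
  have hmem : z ∈ ⨅ n : ℕ, maximalIdeal C ^ n :=
    Ideal.mem_iInf.2 fun n =>
      Ideal.pow_right_mono ((Ideal.span_singleton_le_iff_mem _).2 hxm) n (key n z hz)
  rwa [Ideal.iInf_pow_eq_bot_of_isLocalRing _ (maximalIdeal.isMaximal C).ne_top, Ideal.mem_bot]
    at hmem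

open IsLocalRing in
/-- Reducedness from the localizations at the associated primes of `C / x C`. -/
theorem isReduced_of_associatedPrimes {C : Type u} [CommRing C] [IsLocalRing C] [IsNoetherianRing C]
    (x : C) (hxm : x ∈ maximalIdeal C) (hx : IsSMulRegular C x)
    (h : ∀ P ∈ associatedPrimes C (C ⧸ Ideal.span {x}), ∀ _ : P.IsPrime,
      IsReduced (Localization.AtPrime P)) : IsReduced C := by
  refine isReduced_of_nilpotent_mem x hxm hx fun z hz => ?_
  by_contra hzx
  have hne : (Ideal.Quotient.mk (Ideal.span {x}) z) ≠ 0 := by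
    rwa [Ne, Ideal.Quotient.eq_zero_iff_mem]
  obtain ⟨P, hP, hle⟩ := exists_le_isAssociatedPrime_of_isNoetherianRing C _ hne
  haveI := hP.isPrime
  haveI := h P hP inferInstance
  have h0 : algebraMap C (Localization.AtPrime P) z = 0 :=
    (hz.map (algebraMap C (Localization.AtPrime P))).eq_zero
  obtain ⟨s, hs⟩ := (IsLocalization.map_eq_zero_iff P.primeCompl (Localization.AtPrime P) z).1 h0
  refine s.2 (hle ?_)
  rw [Submodule.mem_colon_singleton, Submodule.mem_bot, Algebra.smul_def,
    Ideal.Quotient.algebraMap_eq, ← map_mul, hs, map_zero]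

open IsLocalRing in
/-- A flat local-ring step: if `p` is locally principal and `p C` is radical then `C_P` is reduced. -/
theorem isReduced_localization_of_radical {C : Type u} [CommRing C] [IsNoetherianRing C]
    (P : Ideal C) [P.IsPrime] (J : Ideal C) (hJ : J.IsRadical) (x a : C) (n : ℕ)
    (haJ : a ∈ J) (hloc : ∀ y ∈ J, ∃ s ∉ P, s * y ∈ Ideal.span {a})
    (hxa : ∃ u v : C, u ∉ P ∧ v ∉ P ∧ u * x = v * a ^ n)
    (hreg : IsSMulRegular C a) (hP : P ∈ associatedPrimes C (C ⧸ Ideal.span {x})) :
    IsReduced (Localization.AtPrime P) := by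
  classical
  let L := Localization.AtPrime P
  let f := algebraMap C L
  haveI : IsNoetherianRing L := IsLocalization.isNoetherianRing P.primeCompl L inferInstance
  haveI : Module.Flat C L := IsLocalization.flat L P.primeCompl
  have hunit : ∀ s ∉ P, IsUnit (f s) := fun s hs => IsLocalization.map_units L (⟨s, hs⟩ : P.primeCompl)
  have haL : IsSMulRegular L (f a) := by
    have h1 : IsSMulRegular L a := (LinearEquiv.isSMulRegular_congr (TensorProduct.rid C L) a).1 (hreg.lTensor L)
    intro u w huw
    exact h1 (by simpa [Algebra.smul_def, f] using huw)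
  have hrad : ∀ z : L, z * z ∈ Ideal.span {f a} → z ∈ Ideal.span {f a} := by
    intro z hz
    obtain ⟨c, s, rfl⟩ := IsLocalization.exists_mk'_eq P.primeCompl z
    have hcc : f (c * c) ∈ Ideal.span {f a} := by
      have := Ideal.mul_mem_left _ (f s * f s) hz
      rwa [show f s * f s * (IsLocalization.mk' L c s * IsLocalization.mk' L c s) = f (c * c) by
        rw [map_mul, mul_mul_mul_comm, IsLocalization.mk'_spec'_mk, ]] at this
    rw [← Set.image_singleton, ← Ideal.map_span,
      IsLocalization.algebraMap_mem_map_algebraMap_iff P.primeCompl] at hcc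
    obtain ⟨t, ht, htcc⟩ := hcc
    have htc : t * c ∈ J := hJ ⟨2, by
      rw [show (t * c) ^ 2 = t * (t * (c * c)) by ring]
      exact J.mul_mem_left _ ((Ideal.span_singleton_le_iff_mem _).2 haJ htcc)⟩
    obtain ⟨s', hs', hs'c⟩ := hloc _ htc
    have hfc : f c ∈ Ideal.span {f a} := by
      rw [← Set.image_singleton, ← Ideal.map_span,
        IsLocalization.algebraMap_mem_map_algebraMap_iff P.primeCompl]
      exact ⟨s' * t, fun hmem => (‹P.IsPrime›.mem_or_mem hmem).elim hs' ht, by rwa [mul_assoc]⟩
    rw [IsLocalization.mk'_eq_mul_mk'_one]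
    exact Ideal.mul_mem_right _ _ hfc
  obtain ⟨u, v, hu, hv, huv⟩ := hxa
  have hxL : Ideal.span {f x} = Ideal.span {f a ^ n} := by
    rw [← map_pow, ← Ideal.span_singleton_mul_left_unit (hunit u hu) (f x),
      ← Ideal.span_singleton_mul_left_unit (hunit v hv) (f (a ^ n)), ← map_mul, ← map_mul, huv]
  obtain ⟨-, c', hc'⟩ := isAssociatedPrime_iff.1 hP
  obtain ⟨c, rfl⟩ := Ideal.Quotient.mk_surjective c'
  have hc : ∀ y, y ∈ P ↔ y * c ∈ Ideal.span {x} := by
    intro y
    rw [hc', Submodule.mem_colon_singleton, Submodule.mem_bot, Algebra.smul_def,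
      Ideal.Quotient.algebraMap_eq, ← map_mul, Ideal.Quotient.eq_zero_iff_mem]
  have hcn : f c ∉ Ideal.span {f a} ^ n := by
    rw [Ideal.span_singleton_pow, ← hxL]
    intro hmem
    rw [← Set.image_singleton, ← Ideal.map_span,
      IsLocalization.algebraMap_mem_map_algebraMap_iff P.primeCompl] at hmem
    obtain ⟨t, ht, htc⟩ := hmem
    exact ht ((hc t).2 htc)
  -- the last power of `a` dividing `c`
  have hex : ∃ i, f c ∉ Ideal.span {f a} ^ i := ⟨n, hcn⟩
  have hi0 : Nat.find hex ≠ 0 := by
    intro h0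
    exact Nat.find_spec hex (by rw [h0]; simp)
  obtain ⟨i, hi⟩ := Nat.exists_eq_succ_of_ne_zero hi0
  have hin : i < n := by
    have := Nat.find_min' hex hcn
    omega
  have hci : f c ∈ Ideal.span {f a} ^ i :=
    not_not.1 (Nat.find_min hex (by omega))
  rw [Ideal.span_singleton_pow, Ideal.mem_span_singleton'] at hci
  obtain ⟨d, hd⟩ := hci
  have hd1 : d ∉ Ideal.span {f a} := by
    intro hmem
    obtain ⟨e, rfl⟩ := Ideal.mem_span_singleton'.1 hmem
    refine Nat.find_spec hex ?_
    rw [hi, Ideal.span_singleton_pow, Ideal.mem_span_singleton']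
    exact ⟨e, by rw [← hd, pow_succ]; ring⟩
  have hmd : ∀ z ∈ IsLocalRing.maximalIdeal L, z * d ∈ Ideal.span {f a} := by
    intro z hz
    obtain ⟨y, s, rfl⟩ := IsLocalization.exists_mk'_eq P.primeCompl z
    have hy : y ∈ P := (IsLocalization.AtPrime.mk'_mem_maximal_iff L P y s).1 hz
    have h1 : f y * f c ∈ Ideal.span {f a ^ n} := by
      rw [← hxL, ← map_mul, ← Set.image_singleton, ← Ideal.map_span]
      exact Ideal.mem_map_of_mem f ((hc y).1 hy)
    obtain ⟨e, he⟩ := Ideal.mem_span_singleton'.1 h1
    obtain ⟨m, hm⟩ : ∃ m, n = i + (m + 1) := ⟨n - i - 1, by omega⟩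
    have h2 : f y * d = e * f a ^ m * f a := by
      apply haL.pow i
      simp only [smul_eq_mul]
      rw [← hd, hm, pow_add, pow_succ] at he
      linear_combination -he
    rw [IsLocalization.mk'_eq_mul_mk'_one]
    rw [mul_right_comm]
    exact Ideal.mul_mem_right _ _ (Ideal.mem_span_singleton'.2 ⟨_, h2.symm⟩)
  have hdu : IsUnit d := by
    by_contra hdu
    exact hd1 (hrad d (hmd d ((IsLocalRing.mem_maximalIdeal d).2 hdu)))
  have haP : a ∈ P := by
    by_contra haP
    exact hd1 (by
      rw [Ideal.span_singleton_eq_top.2 (hunit a haP)]; trivial)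
  refine isReduced_of_nilpotent_mem (f a)
    ((IsLocalization.AtPrime.to_map_mem_maximal_iff L P a).2 haP) haL fun z hz => ?_
  have h1 := hmd z ((IsLocalRing.mem_maximalIdeal z).2 fun hu => by
    obtain ⟨k, hk⟩ := hz
    exact (hu.pow k).ne_zero hk)
  obtain ⟨e, he⟩ := hdu
  rw [← he] at h1
  simpa using Ideal.mul_mem_right (↑e⁻¹ : L) _ h1

open IsLocalRing in
/-- The contraction of an associated prime of `B / x B` to `R` for flat `B`. -/
theorem comap_mem_associatedPrimes {R B : Type u} [CommRing R] [CommRing B] [IsNoetherianRing R]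
    [IsNoetherianRing B] [Algebra R B] [Module.Flat R B] (x : R)
    (hemb : ∀ p ∈ associatedPrimes R (R ⧸ Ideal.span {x}), p ∈ (Ideal.span {x}).minimalPrimes)
    (P : Ideal B) (hP : P ∈ associatedPrimes B (B ⧸ Ideal.span {algebraMap R B x})) :
    P.comap (algebraMap R B) ∈ associatedPrimes R (R ⧸ Ideal.span {x}) := by
  obtain ⟨hPp, c', hc'⟩ := isAssociatedPrime_iff.1 hP
  obtain ⟨c, rfl⟩ := Ideal.Quotient.mk_surjective c'
  have hc : ∀ y, y ∈ P ↔ y * c ∈ Ideal.span {algebraMap R B x} := by
    intro y
    rw [hc', Submodule.mem_colon_singleton, Submodule.mem_bot, Algebra.smul_def,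
      Ideal.Quotient.algebraMap_eq, ← map_mul, Ideal.Quotient.eq_zero_iff_mem]
  have hcx : c ∉ Ideal.span {algebraMap R B x} := fun h =>
    hPp.ne_top ((Ideal.eq_top_iff_one _).2 ((hc 1).2 (by simpa using h)))
  have hxp : x ∈ P.comap (algebraMap R B) :=
    (hc _).2 (Ideal.mul_mem_right _ _ (Ideal.mem_span_singleton_self _))
  have hsub : ((P.comap (algebraMap R B) : Ideal R) : Set R) ⊆
      ⋃ q ∈ associatedPrimes R (R ⧸ Ideal.span {x}), (q : Set R) := by
    rw [biUnion_associatedPrimes_eq_zero_divisors]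
    intro t ht
    by_contra hnz
    simp only [Set.mem_ofPred_eq, not_exists, not_and] at hnz
    have hreg : IsSMulRegular (R ⧸ Ideal.span {x}) t :=
      isSMulRegular_iff_right_eq_zero_of_smul.2 fun w hw => by_contra fun h0 => hnz w h0 hw
    have h2 := hreg.lTensor B
    have e := ((Algebra.TensorProduct.quotIdealMapEquivTensorQuot B
      (Ideal.span {x})).toLinearEquiv.restrictScalars R)
    have h3 := (e.isSMulRegular_congr t).2 h2
    have hmem : algebraMap R B t * c ∈ Ideal.span {algebraMap R B x} := (hc _).1 ht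
    have h4 : t • (Ideal.Quotient.mk ((Ideal.span {x}).map (algebraMap R B)) c) = 0 := by
      rw [Algebra.smul_def, IsScalarTower.algebraMap_apply R B, Ideal.Quotient.algebraMap_eq,
        ← map_mul, Ideal.Quotient.eq_zero_iff_mem, Ideal.map_span, Set.image_singleton]
      exact hmem
    have h5 := isSMulRegular_iff_right_eq_zero_of_smul.1 h3 _ h4
    rw [Ideal.Quotient.eq_zero_iff_mem, Ideal.map_span, Set.image_singleton] at h5
    exact hcx h5
  obtain ⟨q, hq, hle⟩ := (Ideal.subset_union_prime_finite (_root_.associatedPrimes.finite R _) ⊥ ⊥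
    fun q hq _ _ => IsAssociatedPrime.isPrime hq).1 hsub
  have : q ≤ P.comap (algebraMap R B) :=
    (hemb q hq).2 ⟨Ideal.IsPrime.comap _, (Ideal.span_singleton_le_iff_mem _).2 hxp⟩ hle
  rwa [← le_antisymm this hle]

open IsLocalRing in
theorem isRadical_map {R : Type u} [CommRing R] [IsLocalRing R] [IsNoetherianRing R]
    (p : Ideal R) [p.IsPrime]
    (h : IsReduced (AdicCompletion ((maximalIdeal R).map (Ideal.Quotient.mk p)) (R ⧸ p))) :
    (p.map (algebraMap R (AdicCompletion (maximalIdeal R) R))).IsRadical := by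
  haveI := h
  obtain ⟨e⟩ := Groth.Agent.Lib.Excellent.QuotientFibre.exists_cplEquiv R p
  have hm := Groth.Agent.Lib.Excellent.QuotientFibre.map_maximalIdeal R p
  rw [Ideal.Quotient.algebraMap_eq] at hm
  haveI : IsReduced (EGA4.Cpl (R ⧸ p)) := by
    change IsReduced (AdicCompletion (maximalIdeal (R ⧸ p)) (R ⧸ p))
    rw [← hm]; exact h
  haveI : IsReduced (AdicCompletion (maximalIdeal R) R ⧸
      p.map (algebraMap R (AdicCompletion (maximalIdeal R) R))) :=
    isReduced_of_injective
      ((Algebra.TensorProduct.quotIdealMapEquivQuotTensor (AdicCompletion (maximalIdeal R) R) p).trans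
        e) (AlgEquiv.injective _)
  exact Ideal.isRadical_iff_quotient_reduced _ |>.2 inferInstance


/-- Let `(R, 𝔪)` be a Noetherian local domain and `x ∈ 𝔪` nonzero such that `R/xR` has no embedded
associated primes, and for every associated prime `𝔭` of `R/xR` the local ring `R_𝔭` is regular and
the completion of `R/𝔭` is reduced. Then the completion of `R` is reduced. -/
theorem result {R : Type u} [CommRing R] [IsDomain R] [IsLocalRing R]
    [IsNoetherianRing R] (x : R) (hx : x ≠ 0) (hxm : x ∈ IsLocalRing.maximalIdeal R)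
    (hemb : ∀ p ∈ associatedPrimes R (R ⧸ Ideal.span {x}), p ∈ (Ideal.span {x}).minimalPrimes)
    (hreg : ∀ p ∈ associatedPrimes R (R ⧸ Ideal.span {x}), ∀ (_ : p.IsPrime),
      IsRegularLocalRing (Localization.AtPrime p) ∧
        IsReduced (AdicCompletion ((IsLocalRing.maximalIdeal R).map (Ideal.Quotient.mk p)) (R ⧸ p))) :
    IsReduced (AdicCompletion (IsLocalRing.maximalIdeal R) R) := by
  classical
  haveI : IsNoetherianRing (AdicCompletion (IsLocalRing.maximalIdeal R) R) := inferInstance
  have hxreg : IsSMulRegular R x := fun a b hab => mul_left_cancel₀ hx hab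
  have flatreg : ∀ a : R, a ≠ 0 → IsSMulRegular (AdicCompletion (IsLocalRing.maximalIdeal R) R)
      (algebraMap R (AdicCompletion (IsLocalRing.maximalIdeal R) R) a) := by
    intro a ha
    have h1 : IsSMulRegular R a := fun u v huv => mul_left_cancel₀ ha huv
    have h2 := (LinearEquiv.isSMulRegular_congr (TensorProduct.rid R _) a).1 (h1.lTensor (AdicCompletion (IsLocalRing.maximalIdeal R) R))
    intro u w huw
    exact h2 (by simpa [Algebra.smul_def] using huw)
  refine isReduced_of_associatedPrimes (algebraMap R _ x) ?_ (flatreg x hx) fun P hP hPp => ?_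
  · rw [AdicCompletion.maximalIdeal_eq_map]
    exact Ideal.mem_map_of_mem _ hxm
  haveI := hPp
  let p := P.comap (algebraMap R (AdicCompletion (IsLocalRing.maximalIdeal R) R))
  have hp : p ∈ associatedPrimes R (R ⧸ Ideal.span {x}) := comap_mem_associatedPrimes x hemb P hP
  obtain ⟨hregp, hredp⟩ := hreg p hp inferInstance
  haveI := hregp
  have hxp : x ∈ p := (Ideal.span_singleton_le_iff_mem _).1 (hemb p hp).1.2
  have hd : ringKrullDim (Localization.AtPrime p) = 1 := by
    rw [IsLocalization.AtPrime.ringKrullDim_eq_height p]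
    have h1 : p.height ≤ 1 :=
      Ideal.height_le_one_of_isPrincipal_of_mem_minimalPrimes (Ideal.span {x}) p (hemb p hp)
    have h2 : p.height ≠ 0 := by
      intro h0
      rw [Ideal.height_eq_zero_iff, IsDomain.minimalPrimes_eq_singleton_bot,
        Set.mem_singleton_iff] at h0
      exact hx (by simpa [h0] using hxp)
    rw [le_antisymm h1 (Order.one_le_iff_pos.2 (pos_iff_ne_zero.2 h2))]
    rfl
  haveI : IsDiscreteValuationRing (Localization.AtPrime p) :=
    ((Groth.Agent.Lib.Regular.Descent.isDiscreteValuationRing_iff (R := Localization.AtPrime p)).2 ⟨inferInstance, hd⟩).2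
  obtain ⟨π0, hπ0⟩ := IsDiscreteValuationRing.exists_irreducible (Localization.AtPrime p)
  obtain ⟨π, s0, rfl⟩ := IsLocalization.exists_mk'_eq p.primeCompl π0
  have hπmax := (IsDiscreteValuationRing.irreducible_iff_uniformizer _).1 hπ0
  have hassoc : Associated (algebraMap R (Localization.AtPrime p) π)
      (IsLocalization.mk' (Localization.AtPrime p) π s0) := by
    rw [IsLocalization.mk'_eq_mul_mk'_one π s0]
    exact associated_mul_unit_right _ _ (IsUnit.of_mul_eq_one _
      ((IsLocalization.mk'_spec (Localization.AtPrime p) 1 s0).trans (map_one _)))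
  have hπmax' : IsLocalRing.maximalIdeal (Localization.AtPrime p) =
      Ideal.span {algebraMap R (Localization.AtPrime p) π} := by
    rw [hπmax]; exact Ideal.span_singleton_eq_span_singleton.2 hassoc.symm
  have hπp : π ∈ p := (IsLocalization.AtPrime.to_map_mem_maximal_iff (Localization.AtPrime p) p π).1
    (hπmax' ▸ Ideal.mem_span_singleton_self _)
  have hπ0' : π ≠ 0 := by
    rintro rfl
    exact hπ0.ne_zero (IsLocalization.mk'_zero _)
  have hx0 : algebraMap R (Localization.AtPrime p) x ≠ 0 := by
    simpa [map_eq_zero_iff _ (IsLocalization.injective (Localization.AtPrime p)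
      (p.primeCompl_le_nonZeroDivisors))] using hx
  obtain ⟨n, w, hw⟩ := IsDiscreteValuationRing.eq_unit_mul_pow_irreducible hx0
    (hassoc.irreducible_iff.2 hπ0)
  obtain ⟨v, s, hvs⟩ := IsLocalization.exists_mk'_eq p.primeCompl (w : Localization.AtPrime p)
  have hv : v ∉ p := (IsLocalization.AtPrime.isUnit_mk'_iff (Localization.AtPrime p) p v s).1
    (hvs ▸ w.isUnit)
  have hrel : (s : R) * x = v * π ^ n := by
    apply IsLocalization.injective (Localization.AtPrime p) p.primeCompl_le_nonZeroDivisors
    rw [map_mul, map_mul, map_pow, hw, ← hvs, ← mul_assoc, IsLocalization.mk'_spec']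
  refine isReduced_localization_of_radical P (p.map (algebraMap R _)) (isRadical_map p hredp)
    (algebraMap R _ x) (algebraMap R _ π) n (Ideal.mem_map_of_mem _ hπp) ?_
    ⟨algebraMap R _ s, algebraMap R _ v, s.2, hv, by rw [← map_mul, hrel, map_mul, map_pow]⟩
    (flatreg π hπ0') hP
  intro y hy
  refine Submodule.span_induction ?_ ⟨1, P.primeCompl.one_mem, by simp⟩ ?_ ?_ hy
  · rintro _ ⟨r, hr, rfl⟩
    have := (IsLocalization.AtPrime.to_map_mem_maximal_iff (Localization.AtPrime p) p r).2 hr
    rw [hπmax', ← Set.image_singleton, ← Ideal.map_span,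
      IsLocalization.algebraMap_mem_map_algebraMap_iff p.primeCompl] at this
    obtain ⟨t, ht, htr⟩ := this
    refine ⟨algebraMap R _ t, ht, ?_⟩
    rw [← map_mul, ← Set.image_singleton, ← Ideal.map_span]
    exact Ideal.mem_map_of_mem _ htr
  · rintro y z _ _ ⟨t, ht, hty⟩ ⟨t', ht', htz⟩
    refine ⟨t * t', P.primeCompl.mul_mem ht ht', ?_⟩
    rw [mul_add]
    exact add_mem (by rw [mul_comm t, mul_assoc]; exact Ideal.mul_mem_left _ _ hty)
      (by rw [mul_assoc]; exact Ideal.mul_mem_left _ _ htz)
  · rintro c y _ ⟨t, ht, hty⟩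
    refine ⟨t, ht, ?_⟩
    rw [smul_eq_mul, mul_left_comm]
    exact Ideal.mul_mem_left _ _ hty

end Groth.Agent.S2093
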