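import Groth.Statements.S2094
import Groth.Agent.Lib.Smoothing.SymSmooth
import Mathlib

set_option autoImplicit false
universe u
open CAlg

namespace Groth.Agent.S2094

/-- The symmetric algebra of an `A`-module is a smooth `A`-algebra exactly when the module is finite
projective. -/
theorem result {A M : Type u} [CommRing A] [AddCommGroup M] [Module A M] :
    Algebra.Smooth A (SymmetricAlgebra A M) ↔ Module.Finite A M ∧ Module.Projective A M := by
  classical
  constructor
  swap
  · rintro ⟨hf, hp⟩
    obtain ⟨n, π, ι, -, -, hπι⟩ := Module.Finite.exists_comp_eq_id_of_projective A M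
    exact Groth.Agent.Lib.Smoothing.SymSmooth.smooth ι π hπι
  intro hS
  refine ⟨?_, ?_⟩
  · obtain ⟨s, hs⟩ := (inferInstance : Algebra.FiniteType A (SymmetricAlgebra A M)).out
    have hall : ∀ z : SymmetricAlgebra A M, ∃ T : Finset M, z ∈ Algebra.adjoin A (SymmetricAlgebra.ι A M '' T) := by
      intro z
      induction z using SymmetricAlgebra.induction with
      | algebraMap r => exact ⟨∅, Subalgebra.algebraMap_mem _ r⟩
      | ι m => exact ⟨{m}, Algebra.subset_adjoin ⟨m, by simp, rfl⟩⟩
      | mul a b ha hb =>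
        obtain ⟨S, hS⟩ := ha
        obtain ⟨T, hT⟩ := hb
        exact ⟨S ∪ T, mul_mem (Algebra.adjoin_mono (Set.image_mono (by simp)) hS)
          (Algebra.adjoin_mono (Set.image_mono (by simp)) hT)⟩
      | add a b ha hb =>
        obtain ⟨S, hS⟩ := ha
        obtain ⟨T, hT⟩ := hb
        exact ⟨S ∪ T, add_mem (Algebra.adjoin_mono (Set.image_mono (by simp)) hS)
          (Algebra.adjoin_mono (Set.image_mono (by simp)) hT)⟩
    choose T hT using hall
    refine ⟨⟨s.biUnion T, eq_top_iff.2 fun m _ => ?_⟩⟩
    letI : Module Aᵐᵒᵖ M := Module.compHom M ((RingHom.id A).fromOpposite mul_comm)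
    haveI : IsCentralScalar A M := ⟨fun _ _ => rfl⟩
    let F : SymmetricAlgebra A M →ₐ[A] TrivSqZeroExt A M :=
      SymmetricAlgebra.lift (TrivSqZeroExt.inrHom A M)
    have hle : ∀ z ∈ Algebra.adjoin A (SymmetricAlgebra.ι A M '' (s.biUnion T : Set M)),
        TrivSqZeroExt.snd (F z) ∈ Submodule.span A (s.biUnion T : Set M) := by
      intro z hz
      induction hz using Algebra.adjoin_induction with
      | mem x hx =>
        obtain ⟨y, hy, rfl⟩ := hx
        simpa [F] using Submodule.subset_span hy
      | algebraMap r => rw [AlgHom.commutes]; simp [TrivSqZeroExt.algebraMap_eq_inl]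
      | add x y _ _ hx hy => rw [map_add, TrivSqZeroExt.snd_add]; exact add_mem hx hy
      | mul x y _ _ hx hy =>
        rw [map_mul, TrivSqZeroExt.snd_mul]
        exact add_mem (Submodule.smul_mem _ _ hy) (Submodule.smul_mem _ _ hx)
    have hmem : SymmetricAlgebra.ι A M m ∈ Algebra.adjoin A (SymmetricAlgebra.ι A M '' (s.biUnion T : Set M)) := by
      refine Algebra.adjoin_le ?_ (hs ▸ Algebra.mem_top : SymmetricAlgebra.ι A M m ∈ Algebra.adjoin A (s : Set _))
      intro z hz
      exact Algebra.adjoin_mono (Set.image_mono (Finset.coe_subset.2 (Finset.subset_biUnion_of_mem T hz))) (hT z)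
    simpa [F] using hle _ hmem
  · refine Module.Projective.of_lifting_property'' ?_
    intro p hp
    let P := M →₀ A
    letI : Module Aᵐᵒᵖ M := Module.compHom M ((RingHom.id A).fromOpposite mul_comm)
    haveI : IsCentralScalar A M := ⟨fun _ _ => rfl⟩
    let g := TrivSqZeroExt.map (R' := A) p
    have hg : Function.Surjective g := fun z => by
      obtain ⟨y, hy⟩ := hp z.snd
      exact ⟨TrivSqZeroExt.inl z.fst + TrivSqZeroExt.inr y, by ext <;> simp [g, hy]⟩
    have hnil : IsNilpotent (RingHom.ker (g : TrivSqZeroExt A (M →₀ A) →+* TrivSqZeroExt A M)) := by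
      refine ⟨2, ?_⟩
      rw [Ideal.zero_eq_bot, eq_bot_iff, Submodule.pow_succ, Submodule.pow_one, Ideal.mul_le]
      intro x hx y hy
      have hx0 : x.fst = 0 := by simpa [g] using congrArg TrivSqZeroExt.fst (RingHom.mem_ker.1 hx)
      have hy0 : y.fst = 0 := by simpa [g] using congrArg TrivSqZeroExt.fst (RingHom.mem_ker.1 hy)
      rw [Ideal.mem_bot]
      ext <;> simp [hx0, hy0]
    let f0 : SymmetricAlgebra A M →ₐ[A] TrivSqZeroExt A M := SymmetricAlgebra.lift (TrivSqZeroExt.inrHom A M)
    let F := Algebra.FormallySmooth.liftOfSurjective f0 g hg hnil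
    refine ⟨TrivSqZeroExt.sndHom A (M →₀ A) ∘ₗ F.toLinearMap ∘ₗ SymmetricAlgebra.ι A M, LinearMap.ext fun m => ?_⟩
    have := Algebra.FormallySmooth.liftOfSurjective_apply f0 g hg hnil (SymmetricAlgebra.ι A M m)
    have h2 := congrArg TrivSqZeroExt.snd this
    rw [TrivSqZeroExt.snd_map] at h2
    exact h2.trans (by simp [f0])

end Groth.Agent.S2094
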