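import Groth.Statements.S2095
import Mathlib.RingTheory.TensorProduct.Maps
import Mathlib.Algebra.MvPolynomial.CommRing
import Mathlib.RingTheory.Ideal.Quotient.Operations
import Mathlib.LinearAlgebra.TensorProduct.RightExactness
import Mathlib.Tactic.LinearCombination

set_option autoImplicit false
universe u
open CAlg

namespace Groth.Agent.S2095

open TensorProduct in
/-- Let `R → S` be a ring map, `𝔫 ⊆ S` an ideal and `R → R'` a ring map admitting an `R`-linear
retraction. If `R' → R' ⊗ S` is formally smooth for the adic topology of the extension of `𝔫`, then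
`R → S` is formally smooth for the `𝔫`-adic topology. -/
theorem result {R S R' : Type u} [CommRing R] [CommRing S] [Algebra R S]
    (𝔫 : Ideal S) [CommRing R'] [Algebra R R'] (ρ : R' →ₗ[R] R) (hρ : ∀ r : R, ρ (algebraMap R R' r) = r)
    (h : CAlgX.IsAdicFormallySmooth R' (R' ⊗[R] S)
      (𝔫.map (Algebra.TensorProduct.includeRight : S →ₐ[R] R' ⊗[R] S))) :
    CAlgX.IsAdicFormallySmooth R S 𝔫 := by
  classical
  intro Q _ _ J hJ ψ hψ
  let P := MvPolynomial S R
  let π : P →ₐ[R] S := MvPolynomial.aeval id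
  have hπ : Function.Surjective π := fun s => ⟨MvPolynomial.X s, MvPolynomial.aeval_X _ s⟩
  let L : P →ₐ[R] Q := MvPolynomial.aeval fun s => Function.surjInv Ideal.Quotient.mk_surjective (ψ s)
  have hL : ∀ x, Ideal.Quotient.mk J (L x) = ψ (π x) := by
    intro x
    have : (Ideal.Quotient.mkₐ R J).comp L = ψ.comp π := MvPolynomial.algHom_ext fun s => by
      show Ideal.Quotient.mk J (L (MvPolynomial.X s)) = ψ (π (MvPolynomial.X s))
      rw [MvPolynomial.aeval_X, MvPolynomial.aeval_X, Function.surjInv_eq Ideal.Quotient.mk_surjective]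
      rfl
    exact AlgHom.congr_fun this x
  let incl : Q →ₐ[R] R' ⊗[R] Q := Algebra.TensorProduct.includeRight
  let inclS : S →ₐ[R] R' ⊗[R] S := Algebra.TensorProduct.includeRight
  let J' : Ideal (R' ⊗[R] Q) := J.map incl.toRingHom
  have hJ' : J' ^ 2 = ⊥ := by rw [← Ideal.map_pow, hJ, Ideal.map_bot]
  let ι : Q ⧸ J →ₐ[R] (R' ⊗[R] Q) ⧸ J' :=
    Ideal.Quotient.liftₐ J ((Ideal.Quotient.mkₐ R J').comp incl)
      fun x hx => Ideal.Quotient.eq_zero_iff_mem.mpr (Ideal.mem_map_of_mem _ hx)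
  let ψ' : R' ⊗[R] S →ₐ[R'] (R' ⊗[R] Q) ⧸ J' :=
    Algebra.TensorProduct.lift (Algebra.ofId R' _) (ι.comp ψ) fun _ _ => mul_comm _ _
  have hψ' : ∀ s : S, ψ' (inclS s) = ι (ψ s) := fun s => by
    show ψ' (1 ⊗ₜ[R] s) = _
    rw [Algebra.TensorProduct.lift_tmul, map_one, one_mul]
    rfl
  obtain ⟨k, hk⟩ := hψ
  obtain ⟨χ, hχ⟩ := h (R' ⊗[R] Q) J' hJ' ψ' ⟨k, fun x hx => by
    rw [← Ideal.map_pow] at hx
    have hle : Ideal.map (Algebra.TensorProduct.includeRight : S →ₐ[R] R' ⊗[R] S) (𝔫 ^ k) ≤ RingHom.ker ψ' :=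
      Ideal.map_le_iff_le_comap.mpr fun y hy => by
        show ψ' (inclS y) = 0
        rw [hψ', hk y hy, map_zero]
    exact hle hx⟩
  -- the difference of the two lifts
  let τ : P →ₐ[R] R' ⊗[R] Q := (χ.restrictScalars R).comp (inclS.comp π)
  have hdiff : ∀ x, incl (L x) - τ x ∈ J' := fun x => by
    rw [← Ideal.Quotient.eq_zero_iff_mem, map_sub, sub_eq_zero]
    have h1 : Ideal.Quotient.mk J' (χ (inclS (π x))) = ψ' (inclS (π x)) := AlgHom.congr_fun hχ _
    show _ = Ideal.Quotient.mk J' (χ (inclS (π x)))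
    rw [h1, hψ', ← hL]
    rfl
  have hsq : ∀ a b, a ∈ J' → b ∈ J' → a * b = 0 := fun a b ha hb => by
    have h2 : a * b ∈ J' ^ 2 := by rw [pow_two J']; exact Ideal.mul_mem_mul ha hb
    rwa [hJ', Ideal.mem_bot] at h2
  let e : R' ⊗[R] Q →ₗ[R] Q := (TensorProduct.lid R Q).toLinearMap ∘ₗ ρ.rTensor Q
  have he : ∀ (q : Q) (z : R' ⊗[R] Q), e (incl q * z) = q * e z := fun q z => by
    induction z using TensorProduct.induction_on with
    | zero => simp
    | tmul r w =>
      show e ((1 ⊗ₜ[R] q) * (r ⊗ₜ[R] w)) = q * e (r ⊗ₜ[R] w)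
      rw [Algebra.TensorProduct.tmul_mul_tmul, one_mul]
      simp [e]
    | add z w hz hw => rw [mul_add, map_add, map_add, hz, hw, mul_add]
  have heincl : ∀ q, e (incl q) = q := fun q => by
    have h1 : ρ 1 = 1 := by simpa using hρ 1
    show e (1 ⊗ₜ[R] q) = q
    simp [e, h1]
  have heJ : ∀ z ∈ J', e z ∈ J := fun z hz => by
    obtain ⟨w, rfl⟩ : ∃ w : R' ⊗[R] J, LinearMap.lTensor R' (J.subtype.restrictScalars R) w = z := by
      have := Ideal.map_includeRight_eq (R := R) (A := R') J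
      exact (this.le hz)
    clear hz
    induction w using TensorProduct.induction_on with
    | zero => simp
    | tmul r j =>
      simp only [LinearMap.lTensor_tmul, e, LinearMap.comp_apply, LinearMap.rTensor_tmul,
        LinearEquiv.coe_coe, TensorProduct.lid_tmul]
      exact Submodule.smul_of_tower_mem J _ j.2
    | add z w hz hw => rw [map_add, map_add]; exact add_mem hz hw
  have hd0 : ∀ x y : P, e (incl (L (x * y)) - τ (x * y)) =
      L x * e (incl (L y) - τ y) + L y * e (incl (L x) - τ x) := fun x y => by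
    rw [← he, ← he, ← map_add]
    congr 1
    simp only [map_mul]
    linear_combination -(hsq _ _ (hdiff x) (hdiff y))
  let dl : P →ₗ[R] Q := e ∘ₗ ((incl.comp L).toLinearMap - τ.toLinearMap)
  have hdl : ∀ x, dl x = e (incl (L x) - τ x) := fun _ => rfl
  have hd1 : dl 1 = 0 := by rw [hdl, map_one, map_one, map_one, sub_self, map_zero]
  have hdJ : ∀ x, dl x ∈ J := fun x => heJ _ (hdiff x)
  let ψ₁ : P →ₐ[R] Q := AlgHom.ofLinearMap (L.toLinearMap - dl)
    (by show L 1 - dl 1 = 1; rw [hd1, map_one, sub_zero])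
    (fun x y => by
      show L (x * y) - dl (x * y) = (L x - dl x) * (L y - dl y)
      have h2 : dl x * dl y ∈ J ^ 2 := by rw [pow_two J]; exact Ideal.mul_mem_mul (hdJ x) (hdJ y)
      rw [hJ, Ideal.mem_bot] at h2
      rw [map_mul, hdl, hd0, ← hdl, ← hdl]
      linear_combination -h2)
  have hker : ∀ x ∈ RingHom.ker π.toRingHom, ψ₁ x = 0 := fun x hx => by
    show L x - dl x = 0
    have hx' : π x = 0 := hx
    rw [hdl, show τ x = χ (inclS (π x)) from rfl, hx', map_zero, map_zero, sub_zero, heincl, sub_self]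
  refine ⟨AlgHom.liftOfSurjective π hπ ψ₁ hker, AlgHom.ext fun s => ?_⟩
  obtain ⟨x, rfl⟩ := hπ s
  show Ideal.Quotient.mk J (AlgHom.liftOfSurjective π hπ ψ₁ hker (π x)) = ψ (π x)
  rw [AlgHom.liftOfSurjective_apply, ← hL]
  show Ideal.Quotient.mk J (L x - dl x) = _
  rw [map_sub, Ideal.Quotient.eq_zero_iff_mem.mpr (hdJ x), sub_zero]

end Groth.Agent.S2095
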