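import Groth.Statements.S2096
import Groth.Agent.Lib.Henselian.RegularFibres
import Mathlib.RingTheory.Unramified.Field

set_option autoImplicit false
set_option linter.style.haveILetI false
universe u
open CAlg

namespace Groth.Agent.S2096

/-- Let `B` be a Noetherian ind-étale `A`-algebra (a filtered colimit of étale algebras) and `𝔭` a prime
of `A`. Then only finitely many primes of `B` lie over `𝔭`, the fibre ring `B ⊗ κ(𝔭)` is reduced of
dimension zero, and each residue field extension `κ(𝔮)/κ(𝔭)` is separable algebraic. -/
theorem result {A B : Type u} [CommRing A] [CommRing B] [Algebra A B] (hB : EtPBC.IsIndEtale A B)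
    [IsNoetherianRing B] (p : Ideal A) [p.IsPrime] :
    {q : PrimeSpectrum B | q.asIdeal.LiesOver p}.Finite ∧ IsReduced (p.Fiber B) ∧ ringKrullDim (p.Fiber B) ≤ 0 ∧
      ∀ (q : Ideal B) [q.IsPrime] [q.LiesOver p],
        @Algebra.IsSeparable p.ResidueField q.ResidueField _ _
          (Ideal.ResidueField.mapₐ p q (Algebra.ofId A B) (q.over_def p)).toRingHom.toAlgebra := by
  have hfp : Lib.Excellent.FormalFibre.IsFinPoint A p.ResidueField :=
    Lib.Excellent.FormalFibre.isFinPoint_of_finite p p.ResidueField
  obtain ⟨hart, hred⟩ := Lib.Henselian.RegularFibres.isArtinianRing_tensor hB hfp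
  haveI : IsArtinianRing (p.Fiber B) := hart
  refine ⟨?_, hred, ?_, ?_⟩
  · have : Finite (PrimeSpectrum (p.Fiber B)) := inferInstance
    let P : PrimeSpectrum A := ⟨p, inferInstance⟩
    have e := PrimeSpectrum.preimageEquivFiber A B P
    haveI : Finite ↥(PrimeSpectrum.comap (algebraMap A B) ⁻¹' {P}) := Finite.of_equiv _ e.symm
    refine Set.Finite.subset (Set.toFinite (PrimeSpectrum.comap (algebraMap A B) ⁻¹' {P})) (fun q hq => ?_)
    refine Set.mem_singleton_iff.mpr (PrimeSpectrum.ext ?_)
    exact hq.over.symm
  · have h : Ring.KrullDimLE 0 (p.Fiber B) := inferInstance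
    simpa using Ring.krullDimLE_iff.mp h
  · intro q _ _
    let φ := Ideal.ResidueField.mapₐ p q (Algebra.ofId A B) (q.over_def p)
    letI : Algebra p.ResidueField q.ResidueField := φ.toRingHom.toAlgebra
    haveI : IsScalarTower A p.ResidueField q.ResidueField :=
      IsScalarTower.of_algebraMap_eq fun a => (φ.commutes a).symm
    have hgen : ∀ s : B, IsSeparable p.ResidueField (algebraMap B q.ResidueField s) := by
      intro s
      obtain ⟨E, _, _, hE, v, hv⟩ := Lib.IndEtale.Basic.exists_lift (Lib.IndEtale.Basic.factors hB) {s}
      obtain ⟨z, rfl⟩ := hv (Finset.mem_singleton_self s)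
      have := hE
      haveI : Module.Finite p.ResidueField (TensorProduct A p.ResidueField E) :=
        Algebra.FormallyUnramified.finite_of_free _ _
      let w : TensorProduct A p.ResidueField E →ₐ[p.ResidueField] q.ResidueField :=
        Algebra.TensorProduct.lift (Algebra.ofId p.ResidueField q.ResidueField)
          ((IsScalarTower.toAlgHom A B q.ResidueField).comp v) (fun _ _ => Commute.all _ _)
      haveI : Algebra.IsIntegral p.ResidueField w.range :=
        ⟨fun x => by
          obtain ⟨y, hy⟩ := w.rangeRestrict_surjective x
          exact hy ▸ (Algebra.IsIntegral.isIntegral y).map w.rangeRestrict⟩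
      letI : Field w.range :=
        (isField_of_isIntegral_of_isField' (R := p.ResidueField) (Field.toIsField _)).toField
      haveI : Algebra.FormallyUnramified p.ResidueField w.range :=
        Algebra.FormallyUnramified.of_surjective w.rangeRestrict w.rangeRestrict_surjective
      haveI : Module.Finite p.ResidueField w.range :=
        Module.Finite.of_surjective w.rangeRestrict.toLinearMap w.rangeRestrict_surjective
      haveI : Algebra.IsSeparable p.ResidueField w.range :=
        Algebra.FormallyUnramified.isSeparable _ _
      have hs : w (TensorProduct.tmul A (1 : p.ResidueField) z) = algebraMap B q.ResidueField (v z) := by simp [w]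
      have h1 := Algebra.IsSeparable.isSeparable p.ResidueField (w.rangeRestrict (TensorProduct.tmul A (1 : p.ResidueField) z))
      unfold IsSeparable at h1 ⊢
      rw [← minpoly.algHom_eq w.range.val Subtype.val_injective] at h1
      rw [← hs]
      exact h1
    refine ⟨fun x => ?_⟩
    obtain ⟨a, b, hab, rfl⟩ := IsFractionRing.div_surjective (A := B ⧸ q) x
    obtain ⟨a, rfl⟩ := Ideal.Quotient.mk_surjective a
    obtain ⟨b, rfl⟩ := Ideal.Quotient.mk_surjective b
    have h1 : ∀ c : B, algebraMap (B ⧸ q) q.ResidueField (Ideal.Quotient.mk q c) = algebraMap B q.ResidueField c :=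
      fun c => (IsScalarTower.algebraMap_apply B (B ⧸ q) q.ResidueField c).symm
    rw [h1, h1, ← mem_separableClosure_iff]
    exact div_mem (mem_separableClosure_iff.mpr (hgen a)) (mem_separableClosure_iff.mpr (hgen b))

end Groth.Agent.S2096
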