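import Groth.Statements.S2097
import Mathlib.RingTheory.Smooth.Basic
import Mathlib.RingTheory.Noetherian.Nilpotent
import Mathlib.RingTheory.FinitePresentation

set_option autoImplicit false
universe u
open CAlg

namespace Groth.Agent.S2097

/-- Let `R → S` be smooth, `A` an `R`-algebra and `I ⊆ A` an ideal all of whose elements are nilpotent.
Every `R`-algebra map `S → A/I` lifts to an `R`-algebra map `S → A`. -/
theorem result {R S A : Type u} [CommRing R] [CommRing S] [Algebra R S] [Algebra.Smooth R S]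
    [CommRing A] [Algebra R A] (I : Ideal A) (hI : ∀ x ∈ I, IsNilpotent x) (g : S →ₐ[R] A ⧸ I) :
    ∃ f : S →ₐ[R] A, (Ideal.Quotient.mkₐ R I).comp f = g := by
  classical
  obtain ⟨n, φ, hφ, hker⟩ := Algebra.FinitePresentation.out (R := R) (A := S)
  choose a ha using fun i => Ideal.Quotient.mk_surjective (g (φ (MvPolynomial.X i)))
  let h : MvPolynomial (Fin n) R →ₐ[R] A := MvPolynomial.aeval a
  have hg : (Ideal.Quotient.mkₐ R I).comp h = g.comp φ := MvPolynomial.algHom_ext fun i => by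
    simp [h, ha]
  let I₀ : Ideal A := (RingHom.ker φ).map h
  have hI₀ : I₀ ≤ I := Ideal.map_le_iff_le_comap.2 fun p hp => by
    have h1 := AlgHom.congr_fun hg p
    simp only [AlgHom.comp_apply, (RingHom.mem_ker).1 hp, map_zero, Ideal.Quotient.mkₐ_eq_mk] at h1
    exact (Ideal.Quotient.eq_zero_iff_mem.1 h1 : h p ∈ I)
  have hnil : IsNilpotent I₀ :=
    (Ideal.FG.isNilpotent_iff_le_nilradical (hker.map _)).2 fun x hx =>
      mem_nilradical.2 (hI x (hI₀ hx))
  let g₀ : S →ₐ[R] A ⧸ I₀ :=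
    (Ideal.Quotient.liftₐ (RingHom.ker φ) ((Ideal.Quotient.mkₐ R I₀).comp h)
      (fun p hp => Ideal.Quotient.eq_zero_iff_mem.2 (Ideal.mem_map_of_mem _ hp))).comp
      (Ideal.quotientKerAlgEquivOfSurjective hφ).symm.toAlgHom
  obtain ⟨f, hf⟩ := Algebra.FormallySmooth.exists_lift I₀ hnil g₀
  refine ⟨f, AlgHom.ext fun s => ?_⟩
  obtain ⟨p, rfl⟩ := hφ s
  have h2 : g₀ (φ p) = Ideal.Quotient.mk I₀ (h p) := by
    have : (Ideal.quotientKerAlgEquivOfSurjective hφ).symm (φ p) = Ideal.Quotient.mk _ p := by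
      rw [AlgEquiv.symm_apply_eq]
      rfl
    simp only [g₀, AlgHom.comp_apply]
    erw [this]
    rfl
  have h3 : f (φ p) - h p ∈ I₀ := by
    rw [← Ideal.Quotient.eq, ← h2, ← hf]
    rfl
  have h4 : Ideal.Quotient.mk I (f (φ p)) = Ideal.Quotient.mk I (h p) :=
    Ideal.Quotient.eq.2 (hI₀ h3)
  exact h4.trans (AlgHom.congr_fun hg p)

end Groth.Agent.S2097
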