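import Groth.Statements.S2098
import Mathlib.RingTheory.Filtration
import Mathlib.RingTheory.Noetherian.Basic
-- import your own Groth.Agent.* helpers here

set_option autoImplicit false
universe u
open CAlg

namespace Groth.Agent.S2098

theorem pi_mem_smul {R : Type*} [CommRing R] {ι : Type*} [Fintype ι] [DecidableEq ι] {N : ι → Type*}
    [∀ i, AddCommGroup (N i)] [∀ i, Module R (N i)] (J : Ideal R) (v : ∀ i, N i)
    (h : ∀ i, v i ∈ J • (⊤ : Submodule R (N i))) : v ∈ J • (⊤ : Submodule R (∀ i, N i)) := by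
  rw [← Finset.univ_sum_single v]
  refine Submodule.sum_mem _ fun i _ => ?_
  have := Submodule.mem_map_of_mem (f := LinearMap.single R N i) (h i)
  rw [Submodule.map_smul''] at this
  exact Submodule.smul_mono le_rfl le_top this

/-- Let `R` be Noetherian, `I` an ideal inside the Jacobson radical and `u : N → M` a map of finite
`R`-modules. If for arbitrarily large `n` the induced map `N/IⁿN → M/IⁿM` has a left inverse, then
`u` has a left inverse. -/
theorem result {R M N : Type u} [CommRing R] [IsNoetherianRing R] (I : Ideal R)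
    (hI : I ≤ (⊥ : Ideal R).jacobson) [AddCommGroup M] [Module R M] [Module.Finite R M] [AddCommGroup N] [Module R N]
    [Module.Finite R N] (u : N →ₗ[R] M)
    (h : ∀ n₀ : ℕ, ∃ n, n₀ ≤ n ∧ ∃ s : (M ⧸ (I ^ n) • (⊤ : Submodule R M)) →ₗ[R] (N ⧸ (I ^ n) • (⊤ : Submodule R N)),
      ∀ x : N, s (Submodule.Quotient.mk (u x)) = Submodule.Quotient.mk x) :
    ∃ s : M →ₗ[R] N, s.comp u = LinearMap.id := by
  classical
  obtain ⟨a, π, hπ⟩ := Module.Finite.exists_fin' R M
  obtain ⟨K, k, hk⟩ := Submodule.fg_iff_exists_fin_generating_family.mp (IsNoetherian.noetherian (LinearMap.ker π))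
  obtain ⟨b, y, hy⟩ := Module.Finite.exists_fin (R := R) (M := N)
  choose c hc using fun i => hπ (u (y i))
  let lc : (Fin a → R) → ((Fin a → N) →ₗ[R] N) := fun v =>
    { toFun := fun φ => ∑ l, v l • φ l
      map_add' := fun φ ψ => by simp [smul_add, Finset.sum_add_distrib]
      map_smul' := fun r φ => by simp [Finset.smul_sum, smul_comm r] }
  let Φ : (Fin a → N) →ₗ[R] (Fin K ⊕ Fin b → N) :=
    LinearMap.pi (Sum.elim (fun j => lc (k j)) (fun i => lc (c i)))
  let q : Fin K ⊕ Fin b → N := Sum.elim (fun _ => 0) y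
  have hexp : ∀ v : Fin a → R, π v = ∑ l, v l • π (Pi.single l 1) := by
    intro v
    conv_lhs => rw [pi_eq_sum_univ' v]
    simp [map_sum, map_smul]
  suffices hq : q ∈ LinearMap.range Φ by
    obtain ⟨φ, hφ⟩ := hq
    let ψ : (Fin a → R) →ₗ[R] N := Fintype.linearCombination R φ
    have hker : LinearMap.ker π ≤ LinearMap.ker ψ := by
      rw [← hk, Submodule.span_le]
      rintro _ ⟨j, rfl⟩
      exact congrFun hφ (Sum.inl j)
    refine ⟨((LinearMap.ker π).liftQ ψ hker).comp (π.quotKerEquivOfSurjective hπ).symm.toLinearMap,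
      LinearMap.ext_on_range hy fun i => ?_⟩
    simp only [LinearMap.comp_apply, LinearMap.id_apply, LinearEquiv.coe_coe]
    rw [← hc i, show (π.quotKerEquivOfSurjective hπ).symm (π (c i)) = Submodule.Quotient.mk (c i) from
      (LinearEquiv.symm_apply_eq _).mpr (by simp)]
    exact congrFun hφ (Sum.inr i)
  suffices h0 : (LinearMap.range Φ).mkQ q = 0 from (Submodule.Quotient.mk_eq_zero _).mp h0
  rw [← Submodule.mem_bot R,
    ← Ideal.iInf_pow_smul_eq_bot_of_le_jacobson (M := (Fin K ⊕ Fin b → N) ⧸ LinearMap.range Φ) I hI,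
    Submodule.mem_iInf]
  intro n₀
  obtain ⟨n, hn, s, hs⟩ := h n₀
  choose φ hφ using fun l : Fin a => Submodule.Quotient.mk_surjective _ (s (Submodule.Quotient.mk (π (Pi.single l 1))))
  have hval : ∀ v : Fin a → R, Submodule.Quotient.mk (lc v φ) = s (Submodule.Quotient.mk (π v)) := by
    intro v
    show Submodule.mkQ _ (∑ l, v l • φ l) = s (Submodule.mkQ _ (π v))
    rw [hexp v]
    simp only [map_sum, map_smul, Submodule.mkQ_apply, hφ]
  have hd : q - Φ φ ∈ I ^ n • (⊤ : Submodule R (Fin K ⊕ Fin b → N)) := by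
    refine pi_mem_smul _ _ fun i => ?_
    rw [← Submodule.Quotient.mk_eq_zero]
    cases i with
    | inl j =>
      show Submodule.Quotient.mk (0 - lc (k j) φ) = _
      have hkj : π (k j) = 0 := hk.le (Submodule.subset_span ⟨j, rfl⟩)
      rw [Submodule.Quotient.mk_sub, hval, hkj]
      simp
    | inr i =>
      show Submodule.Quotient.mk (y i - lc (c i) φ) = _
      rw [Submodule.Quotient.mk_sub, hval, hc, hs, sub_self]
  have h1 := Submodule.mem_map_of_mem (f := (LinearMap.range Φ).mkQ) hd
  rw [Submodule.map_smul''] at h1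
  have h2 : (LinearMap.range Φ).mkQ (q - Φ φ) = (LinearMap.range Φ).mkQ q := by
    rw [map_sub, sub_eq_self, Submodule.mkQ_apply, Submodule.Quotient.mk_eq_zero]
    exact ⟨φ, rfl⟩
  rw [h2] at h1
  exact Submodule.smul_mono (Ideal.pow_le_pow_right hn) le_top h1

end Groth.Agent.S2098
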