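import Groth.Statements.S2099
import Groth.Agent.H24.SmoothSection

set_option autoImplicit false
universe u
open CAlg

namespace Groth.Agent.S2099

/-- An algebra map inducing isomorphisms on all truncations induces one on completions. -/
theorem exists_completion_equiv {R P S : Type u} [CommRing R] [CommRing P] [CommRing S] [Algebra R P]
    [Algebra R S] (J : Ideal P) (I : Ideal S) (φ : P →ₐ[R] S)
    (hle : ∀ n, J ^ n ≤ (I ^ n).comap φ) (hsurj : ∀ n (s : S), ∃ p, s - φ p ∈ I ^ n)
    (hinj : ∀ n p, φ p ∈ I ^ n → p ∈ J ^ n) :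
    Nonempty (AdicCompletion I S ≃ₐ[R] AdicCompletion J P) := by
  let f : ∀ n, P ⧸ J ^ n →ₐ[R] S ⧸ I ^ n := fun n => Ideal.quotientMapₐ _ φ (hle n)
  have hf : ∀ n, Function.Bijective (f n) := fun n => by
    refine ⟨Ideal.quotientMap_injective' (H := hle n) (fun p hp => hinj n p hp), fun s => ?_⟩
    obtain ⟨s, rfl⟩ := Ideal.Quotient.mk_surjective s
    obtain ⟨p, hp⟩ := hsurj n s
    exact ⟨Ideal.Quotient.mk _ p, (Ideal.Quotient.eq.mpr hp).symm⟩
  let F := fun n => AlgEquiv.ofBijective (f n) (hf n)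
  have hnat : ∀ {m n : ℕ} (h : m ≤ n) (y : P ⧸ J ^ n),
      Ideal.Quotient.factorPow I h (F n y) = F m (Ideal.Quotient.factorPow J h y) := by
    intro m n h y
    obtain ⟨y, rfl⟩ := Ideal.Quotient.mk_surjective y
    rfl
  have hev : ∀ {A : Type u} [CommRing A] (K : Ideal A) {m n : ℕ} (h : m ≤ n) (x : AdicCompletion K A),
      Ideal.Quotient.factorPow K h (AdicCompletion.evalₐ K n x) = AdicCompletion.evalₐ K m x := by
    intro A _ K m n h x
    induction x using AdicCompletion.induction_on with | _ a => ?_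
    rw [AdicCompletion.evalₐ_mk, AdicCompletion.evalₐ_mk]
    show Ideal.Quotient.factor (Ideal.pow_le_pow_right h) _ = _
    rw [Ideal.Quotient.factor_mk]
    exact AdicCompletion.Ideal.mk_eq_mk _ h a
  let g : ∀ n, AdicCompletion J P →+* S ⧸ I ^ n := fun n =>
    (F n).toAlgHom.toRingHom.comp (AdicCompletion.evalₐ J n).toRingHom
  let g' : ∀ n, AdicCompletion I S →+* P ⧸ J ^ n := fun n =>
    (F n).symm.toAlgHom.toRingHom.comp (AdicCompletion.evalₐ I n).toRingHom
  have hg : ∀ {m n : ℕ} (h : m ≤ n), (Ideal.Quotient.factorPow I h).comp (g n) = g m :=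
    fun h => RingHom.ext fun x => (hnat h _).trans (congrArg (F _) (hev J h x))
  have hg' : ∀ {m n : ℕ} (h : m ≤ n), (Ideal.Quotient.factorPow J h).comp (g' n) = g' m :=
    fun {m n} h => RingHom.ext fun x => (F m).injective (by
      show F m (Ideal.Quotient.factorPow J h ((F n).symm (AdicCompletion.evalₐ I n x))) =
        F m ((F m).symm (AdicCompletion.evalₐ I m x))
      rw [← hnat h, AlgEquiv.apply_symm_apply, AlgEquiv.apply_symm_apply, hev])
  let Φ := AdicCompletion.liftRingHom I g hg
  let Ψ := AdicCompletion.liftRingHom J g' hg'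
  have h1 : ∀ x, Φ (Ψ x) = x := fun x => AdicCompletion.ext_evalₐ fun n => by
    rw [AdicCompletion.evalₐ_liftRingHom]
    show F n (AdicCompletion.evalₐ J n (Ψ x)) = _
    rw [AdicCompletion.evalₐ_liftRingHom]
    exact (F n).apply_symm_apply _
  have h2 : ∀ x, Ψ (Φ x) = x := fun x => AdicCompletion.ext_evalₐ fun n => by
    rw [AdicCompletion.evalₐ_liftRingHom]
    show (F n).symm (AdicCompletion.evalₐ I n (Φ x)) = _
    rw [AdicCompletion.evalₐ_liftRingHom]
    exact (F n).symm_apply_apply _
  refine ⟨{ toFun := Ψ, invFun := Φ, left_inv := h1, right_inv := h2,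
            map_mul' := map_mul Ψ, map_add' := map_add Ψ, commutes' := fun r => ?_ }⟩
  refine AdicCompletion.ext_evalₐ fun n => (F n).injective ?_
  show F n (AdicCompletion.evalₐ J n (Ψ _)) = _
  rw [AdicCompletion.evalₐ_liftRingHom]
  show F n ((F n).symm (AdicCompletion.evalₐ I n (algebraMap R (AdicCompletion I S) r))) = _
  rw [AlgEquiv.apply_symm_apply, IsScalarTower.algebraMap_apply R S (AdicCompletion I S),
    IsScalarTower.algebraMap_apply R P (AdicCompletion J P), AlgHom.commutes, AlgHom.commutes]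
  exact (φ.commutes r).symm.trans rfl |> congrArg (Ideal.Quotient.mk _)


/-- Let `R → S` be smooth with an `R`-algebra retraction `σ : S → R` and `I = ker σ`. If `I/I²` is free
of rank `d` over `R`, then the `I`-adic completion of `S` is isomorphic as an `R`-algebra to the
power series ring in `d` variables over `R`. -/
theorem result {R S : Type u} [CommRing R] [CommRing S] [Algebra R S]
    [Algebra.Smooth R S] (σ : S →ₐ[R] R) (d : ℕ)
    (e : (RingHom.ker σ.toRingHom).Cotangent ≃ₗ[R] (Fin d → R)) :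
    Nonempty (AdicCompletion (RingHom.ker σ.toRingHom) S ≃ₐ[R] MvPowerSeries (Fin d) R) := by
  obtain ⟨φ, h1, h2, h3⟩ := H24.SmoothSection.exists_equivs σ e
  obtain ⟨E⟩ := exists_completion_equiv _ _ φ h1 h2 h3
  exact ⟨E.trans ((MvPowerSeries.toAdicCompletionAlgEquiv (Fin d) R).restrictScalars R).symm⟩

end Groth.Agent.S2099
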