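import Groth.Statements.S2100
import Groth.Agent.H19.NoetherInt
import Groth.Agent.Lib.Dim.Basic

set_option autoImplicit false
universe u
open CAlg

namespace Groth.Agent.S2100

theorem isIntegral_of_subalgebra {k A : Type u} [Field k] [CommRing A] [Algebra k A] (S T : Subalgebra k A)
    (h : ∀ s ∈ S, IsIntegral T s) {x : A} (hx : IsIntegral S x) : IsIntegral T x := by
  obtain ⟨p, hp, hp0⟩ := hx
  let φ : S →+* integralClosure T A :=
    (S.val : S →+* A).codRestrict (integralClosure T A).toSubring fun s => h s s.2
  refine isIntegral_trans (A := integralClosure T A) x ⟨p.map φ, hp.map φ, ?_⟩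
  rw [Polynomial.eval₂_map]
  exact hp0

/-- The Nagata step: a dependent family can be replaced by one with one member less. -/
theorem step {k A : Type u} [Field k] [CommRing A] [Algebra k A] {n : ℕ} (v : Fin (n + 1) → A)
    (hv : ¬ AlgebraicIndependent k v) :
    ∃ e : Fin n → ℕ, (∀ i, e i ≠ 0) ∧
      ∀ i, IsIntegral (Algebra.adjoin k (Set.range fun i => v i.succ - v 0 ^ e i)) (v i) := by
  rw [algebraicIndependent_iff] at hv
  push Not at hv
  obtain ⟨F, hF0, hF⟩ := hv
  let e : Fin n → ℕ := fun i => (2 + F.totalDegree) ^ (i.succ : Fin (n + 1)).1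
  refine ⟨e, fun i => pow_ne_zero _ (by omega), ?_⟩
  set v' : Fin n → A := fun i => v i.succ - v 0 ^ e i
  set T := Algebra.adjoin k (Set.range v')
  have h0 : IsIntegral T (v 0) := by
    let w : Fin (n + 1) → A := Fin.cons (v 0) v'
    have hw : MvPolynomial.aeval w (H19.NoetherInt.T F F) = 0 := by
      rw [AlgEquiv.ofAlgHom_apply]
      have : (MvPolynomial.aeval w).comp (H19.NoetherInt.T1 F 1) = MvPolynomial.aeval v := by
        rw [MvPolynomial.comp_aeval]
        congr 1
        funext i
        cases i using Fin.cases with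
        | zero => simp [w]
        | succ i => simp [w, v', e, Fin.succ_ne_zero]
      exact (congrArg (fun g => g F) this).trans hF0
    let ev : MvPolynomial (Fin n) k →ₐ[k] T :=
      (MvPolynomial.aeval v').codRestrict T fun p => by
        rw [show T = (MvPolynomial.aeval (R := k) v').range from Algebra.adjoin_range_eq_range_aeval k v']
        exact ⟨p, rfl⟩
    set P := MvPolynomial.finSuccEquiv k n (H19.NoetherInt.T F F)
    have hev : ∀ Q, (Q.map ev.toRingHom).eval₂ (algebraMap T A) (v 0) =
        MvPolynomial.aeval w ((MvPolynomial.finSuccEquiv k n).symm Q) := by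
      intro Q
      rw [Polynomial.eval₂_map]
      have : (Polynomial.eval₂RingHom ((algebraMap T A).comp ev.toRingHom) (v 0)) =
          (MvPolynomial.aeval w).toRingHom.comp (MvPolynomial.finSuccEquiv k n).symm.toRingEquiv.toRingHom := by
        refine Polynomial.ringHom_ext' (MvPolynomial.ringHom_ext (fun c => ?_) fun i => ?_) ?_
        · have : (MvPolynomial.finSuccEquiv k n).symm (Polynomial.C (MvPolynomial.C c)) = MvPolynomial.C c := by
            rw [AlgEquiv.symm_apply_eq]; simp [MvPolynomial.finSuccEquiv_apply]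
          simp [ev, this]
        · have : (MvPolynomial.finSuccEquiv k n).symm (Polynomial.C (MvPolynomial.X i)) = MvPolynomial.X i.succ := by
            rw [AlgEquiv.symm_apply_eq, MvPolynomial.finSuccEquiv_X_succ]
          simp [ev, w, this]
        · have : (MvPolynomial.finSuccEquiv k n).symm Polynomial.X = MvPolynomial.X 0 := by
            rw [AlgEquiv.symm_apply_eq, MvPolynomial.finSuccEquiv_X_zero]
          simp [w, this]
      exact congrArg (fun g : _ →+* A => g Q) this
    obtain hu := H19.NoetherInt.T_leadingcoeff_isUnit F hF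
    refine ⟨(hu.unit⁻¹ • P).map ev.toRingHom, (Polynomial.monic_of_isUnit_leadingCoeff_inv_smul hu).map _, ?_⟩
    rw [Units.smul_def, Polynomial.smul_eq_C_mul, Polynomial.map_mul, Polynomial.eval₂_mul, hev P, show (MvPolynomial.finSuccEquiv k n).symm P = H19.NoetherInt.T F F from AlgEquiv.symm_apply_apply _ _, hw, mul_zero]
  intro i
  cases i using Fin.cases with
  | zero => exact h0
  | succ i =>
    have : v i.succ = v' i + v 0 ^ e i := by simp [v']
    rw [this]
    exact (isIntegral_algebraMap (x := (⟨v' i, Algebra.subset_adjoin ⟨i, rfl⟩⟩ : T))).add (h0.pow _)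

/-- Let `k` be a field, `𝔮` a prime of `k[x_1, …, x_n]` and `r` the transcendence degree of `κ(𝔮)` over
`k`. Then there is a finite `k`-algebra map `φ : k[y_1, …, y_n] → k[x_1, …, x_n]` with `φ⁻¹(𝔮) =
(y_{r+1}, …, y_n)`. -/
theorem result {k : Type u} [Field k] (n r : ℕ) (q : Ideal (MvPolynomial (Fin n) k))
    [q.IsPrime] (hr : Algebra.trdeg k q.ResidueField = r) :
    ∃ φ : MvPolynomial (Fin n) k →ₐ[k] MvPolynomial (Fin n) k, φ.toRingHom.Finite ∧
      q.comap φ = Ideal.span (Set.range fun i : {i : Fin n // r ≤ (i : ℕ)} => MvPolynomial.X (i : Fin n)) := by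
  set A := MvPolynomial (Fin n) k
  obtain ⟨s, g, hg, hgf, htr, -⟩ := Lib.Dim.Basic.exists_noether k (A ⧸ q)
  have hsr : s = r := by
    have h1 := Lib.Dim.Basic.trdeg_residueField k q
    rw [← Lib.Dim.Basic.trdeg_quotient, htr, hr] at h1
    exact_mod_cast h1.symm
  subst hsr
  obtain ⟨z, hz⟩ : ∃ z : Fin s → A, ∀ i, Ideal.Quotient.mk q (z i) = g (MvPolynomial.X i) :=
    ⟨fun i => (Ideal.Quotient.mk_surjective (g (MvPolynomial.X i))).choose,
      fun i => (Ideal.Quotient.mk_surjective (g (MvPolynomial.X i))).choose_spec⟩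
  have hindep : ∀ z' : Fin s → A, (∀ i, z' i - z i ∈ q) → AlgebraicIndependent k z' := fun z' hz' => by
    rw [algebraicIndependent_iff_injective_aeval]
    have h : (Ideal.Quotient.mkₐ k q).comp (MvPolynomial.aeval z') = g := by
      refine MvPolynomial.algHom_ext fun i => ?_
      rw [AlgHom.comp_apply, MvPolynomial.aeval_X, Ideal.Quotient.mkₐ_eq_mk, ← hz i]
      exact Ideal.Quotient.eq.2 (hz' i)
    intro a b hab
    exact hg (by rw [← h, AlgHom.comp_apply, AlgHom.comp_apply, hab])
  have hA : Algebra.trdeg k A = n := by simp [A, MvPolynomial.trdeg_of_isDomain]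
  have hsn : s ≤ n := by
    have := (hindep z (fun i => by simp)).lift_cardinalMk_le_trdeg
    simpa [hA] using this
  -- descending induction
  have key : ∀ m, n ≤ s + m → ∀ (Z : Fin s → A) (W : Fin m → A), (∀ i, Z i - z i ∈ q) → (∀ i, W i ∈ q) →
      (∀ x : A, IsIntegral (Algebra.adjoin k (Set.range (Fin.append Z W))) x) →
      ∃ (Z : Fin s → A) (W : Fin (n - s) → A), (∀ i, Z i - z i ∈ q) ∧ (∀ i, W i ∈ q) ∧
        ∀ x : A, IsIntegral (Algebra.adjoin k (Set.range (Fin.append Z W))) x := by
    intro m
    induction m with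
    | zero =>
      intro hm Z W h1 h2 h3
      obtain rfl : n = s := by omega
      rw [Nat.sub_self]
      exact ⟨Z, W, h1, h2, h3⟩
    | succ m ih =>
      intro hm Z W h1 h2 h3
      rcases eq_or_lt_of_le hm with heq | hlt
      · have : n - s = m + 1 := by omega
        rw [this]
        exact ⟨Z, W, h1, h2, h3⟩
      let W' : Fin m → A := fun i => W i.succ
      let v : Fin (s + m + 1) → A := Fin.cons (W 0) (Fin.append Z W')
      have hv : ¬ AlgebraicIndependent k v := fun h => by
        have := h.lift_cardinalMk_le_trdeg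
        simp [hA] at this
        norm_cast at this
        omega
      obtain ⟨e, he, hint⟩ := step v hv
      let Z₁ : Fin s → A := fun i => Z i - W 0 ^ e (Fin.castAdd m i)
      let W₁ : Fin m → A := fun i => W' i - W 0 ^ e (Fin.natAdd s i)
      have hv' : (fun i => v i.succ - v 0 ^ e i) = Fin.append Z₁ W₁ := by
        funext i
        cases i using Fin.addCases <;> simp [v, Z₁, W₁]
      rw [hv'] at hint
      refine ih (by omega) Z₁ W₁ (fun i => ?_) (fun i => q.sub_mem (h2 _) (q.pow_mem_of_mem (h2 0) _ (Nat.pos_of_ne_zero (he _))))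
        fun x => isIntegral_of_subalgebra _ _ ?_ (h3 x)
      · rw [show Z₁ i - z i = (Z i - z i) - W 0 ^ e (Fin.castAdd m i) by simp only [Z₁]; ring]
        exact q.sub_mem (h1 i) (q.pow_mem_of_mem (h2 0) _ (Nat.pos_of_ne_zero (he _)))
      · intro y hy
        induction hy using Algebra.adjoin_induction with
        | mem y hy =>
          obtain ⟨i, rfl⟩ := hy
          cases i using Fin.addCases with
          | left i => simpa [v] using hint (Fin.castAdd m i).succ
          | right i =>
            rw [Fin.append_right]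
            cases i using Fin.cases with
            | zero => simpa [v] using hint 0
            | succ i => simpa [v, W'] using hint (Fin.natAdd s i).succ
        | algebraMap c => exact isIntegral_algebraMap (x := algebraMap k (Algebra.adjoin k (Set.range (Fin.append Z₁ W₁))) c)
        | add a b _ _ ha hb => exact ha.add hb
        | mul a b _ _ ha hb => exact ha.mul hb
  -- the starting family
  obtain ⟨Z, W, hZ, hW, hint⟩ : ∃ (Z : Fin s → A) (W : Fin (n - s) → A), (∀ i, Z i - z i ∈ q) ∧ (∀ i, W i ∈ q) ∧
      ∀ x : A, IsIntegral (Algebra.adjoin k (Set.range (Fin.append Z W))) x := by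
    -- monic equations of the variables modulo `q`
    let f : MvPolynomial (Fin s) k →ₐ[k] A := MvPolynomial.aeval z
    have hX : ∀ i : Fin n, ∃ P : Polynomial (MvPolynomial (Fin s) k), P.Monic ∧
        P.eval₂ f.toRingHom (MvPolynomial.X i) ∈ q := fun i => by
      obtain ⟨P, hP, hP0⟩ := hgf.to_isIntegral (Ideal.Quotient.mk q (MvPolynomial.X i))
      refine ⟨P, hP, Ideal.Quotient.eq_zero_iff_mem.1 ?_⟩
      rw [Polynomial.hom_eval₂]
      rw [show (Ideal.Quotient.mk q).comp f.toRingHom = g.toRingHom from MvPolynomial.ringHom_ext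
        (fun c => (congrArg (Ideal.Quotient.mk q) (f.commutes c)).trans (g.commutes c).symm) (fun j => by simpa [f] using hz j)]
      exact hP0
    choose P hP hPq using hX
    let W : Fin n → A := fun i => (P i).eval₂ f.toRingHom (MvPolynomial.X i)
    refine key n (Nat.le_add_left _ _) z W (fun i => by simp) hPq fun x => ?_
    set T := Algebra.adjoin k (Set.range (Fin.append z W))
    have hXi : ∀ i, IsIntegral T (MvPolynomial.X i : A) := fun i => by
      have hfT : ∀ p, f p ∈ T := fun p => Algebra.adjoin_mono
        (Set.range_subset_range_iff_exists_comp.2 ⟨Fin.castAdd n, by funext j; simp⟩ :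
          Set.range z ⊆ Set.range (Fin.append z W))
        (by rw [Algebra.adjoin_range_eq_range_aeval]; exact ⟨p, rfl⟩)
      rcases Nat.eq_zero_or_pos (P i).natDegree with h0 | hpos
      · exfalso
        have h1 := hPq i
        rw [(hP i).natDegree_eq_zero.1 h0, Polynomial.eval₂_one] at h1
        exact Ideal.IsPrime.ne_top' ((Ideal.eq_top_iff_one q).2 h1)
      have hWT : W i ∈ T := Algebra.subset_adjoin ⟨Fin.natAdd s i, by simp⟩
      let P' := (P i).map (f.toRingHom.codRestrict T.toSubring hfT)
      refine ⟨P' - Polynomial.C (⟨W i, hWT⟩ : T), ?_, ?_⟩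
      · refine ((hP i).map _).sub_of_left (lt_of_le_of_lt Polynomial.degree_C_le ?_)
        rw [(hP i).degree_map, Polynomial.degree_eq_natDegree (hP i).ne_zero]
        exact_mod_cast hpos
      · rw [Polynomial.eval₂_sub, Polynomial.eval₂_map, Polynomial.eval₂_C]
        exact sub_eq_zero.2 rfl
    induction x using MvPolynomial.induction_on with
    | C c => exact isIntegral_algebraMap (x := algebraMap k T c)
    | add a b ha hb => exact ha.add hb
    | mul_X a i ha => exact ha.mul (hXi i)
  let v : Fin n → A := fun i => Fin.append Z W (Fin.cast (by omega) i)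
  let φ : A →ₐ[k] A := MvPolynomial.aeval v
  refine ⟨φ, ?_, ?_⟩
  · refine RingHom.IsIntegral.to_finite ?_ ?_
    · intro x
      obtain ⟨P, hP, hP0⟩ := hint x
      have hr' : ∀ a : Algebra.adjoin k (Set.range (Fin.append Z W)), ∃ b, φ b = (a : A) := fun a => by
        have : Algebra.adjoin k (Set.range (Fin.append Z W)) = φ.range := by
          rw [← Algebra.adjoin_range_eq_range_aeval]
          congr 1
          exact ((Fin.castOrderIso (by omega : n = s + (n - s))).toEquiv.surjective.range_comp (Fin.append Z W)).symm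
        exact (show (a : A) ∈ φ.range from this ▸ a.2)
      choose b hb using fun a => hr' a
      obtain ⟨Q, hQ, -, hQm⟩ := Polynomial.lifts_and_degree_eq_and_monic
        (f := φ.rangeRestrict.toRingHom) (p := P.map
          ((Subalgebra.inclusion (show Algebra.adjoin k (Set.range (Fin.append Z W)) ≤ φ.range from
            fun a ha => ⟨b ⟨a, ha⟩, hb _⟩)).toRingHom)) (by
          rw [Polynomial.lifts_iff_coeff_lifts]
          exact fun j => φ.rangeRestrict_surjective _) (hP.map _)
      refine ⟨Q, hQm, ?_⟩
      rw [← hP0, show φ.toRingHom = (φ.range.val.toRingHom).comp φ.rangeRestrict.toRingHom from rfl,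
        ← Polynomial.eval₂_map, hQ, Polynomial.eval₂_map]
      rfl
    · exact RingHom.FiniteType.of_comp_finiteType (f := algebraMap k A) (by rw [show φ.toRingHom.comp (algebraMap k A) = algebraMap k A from φ.comp_algebraMap]; exact RingHom.finiteType_algebraMap.2 inferInstance)
  · have hJ : Ideal.span (Set.range fun i : {i : Fin n // s ≤ (i : ℕ)} => MvPolynomial.X (i : Fin n)) ≤ q.comap φ := by
      rw [Ideal.span_le]
      rintro _ ⟨⟨i, hi⟩, rfl⟩
      show φ (MvPolynomial.X i) ∈ q
      rw [MvPolynomial.aeval_X]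
      show Fin.append Z W _ ∈ q
      rw [show Fin.cast (by omega : n = s + (n - s)) i = Fin.natAdd s ⟨i.1 - s, by omega⟩ from Fin.ext (by simp; omega),
        Fin.append_right]
      exact hW _
    refine le_antisymm (fun p hp => ?_) hJ
    let π : A →ₐ[k] MvPolynomial (Fin s) k :=
      MvPolynomial.aeval fun i => if h : i.1 < s then MvPolynomial.X ⟨i.1, h⟩ else 0
    let ι : MvPolynomial (Fin s) k →ₐ[k] A := MvPolynomial.rename (Fin.castLE hsn)
    set J : Ideal A := Ideal.span (Set.range fun i : {i : Fin n // s ≤ (i : ℕ)} => (MvPolynomial.X (i : Fin n) : MvPolynomial (Fin n) k))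
    have hdiff : ∀ a, a - ι (π a) ∈ J := by
      intro a
      rw [← Ideal.Quotient.eq, ← Ideal.Quotient.mkₐ_eq_mk k, ← AlgHom.comp_apply, ← AlgHom.comp_apply]
      refine DFunLike.congr_fun (MvPolynomial.algHom_ext fun i => ?_ : Ideal.Quotient.mkₐ k J = (Ideal.Quotient.mkₐ k J).comp (ι.comp π)) a
      simp only [AlgHom.comp_apply, π, MvPolynomial.aeval_X]
      split_ifs with h
      · exact congrArg (Ideal.Quotient.mk J) (MvPolynomial.rename_X (Fin.castLE hsn) (⟨i.1, h⟩ : Fin s)).symm
      · rw [map_zero, map_zero, Ideal.Quotient.mkₐ_eq_mk, Ideal.Quotient.eq_zero_iff_mem]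
        exact Ideal.subset_span ⟨⟨i, by omega⟩, rfl⟩
    have h1 : φ (ι (π p)) ∈ q := by
      have h2 : φ (p - ι (π p)) ∈ q := hJ (hdiff p)
      rw [map_sub] at h2
      exact (q.sub_mem_iff_right hp).1 h2
    have h3 : (Ideal.Quotient.mkₐ k q).comp (φ.comp ι) = g := by
      refine MvPolynomial.algHom_ext fun i => ?_
      show Ideal.Quotient.mk q (MvPolynomial.aeval v (MvPolynomial.rename (Fin.castLE hsn) (MvPolynomial.X i))) = _
      rw [MvPolynomial.rename_X, MvPolynomial.aeval_X]
      show Ideal.Quotient.mk q (Fin.append Z W _) = _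
      rw [show Fin.cast (by omega : n = s + (n - s)) (Fin.castLE hsn i) = Fin.castAdd (n - s) i from Fin.ext rfl,
        Fin.append_left, ← hz i]
      exact Ideal.Quotient.eq.2 (hZ i)
    have h4 : π p = 0 := hg (by
      rw [map_zero, ← h3]
      exact Ideal.Quotient.eq_zero_iff_mem.2 h1)
    simpa [h4] using hdiff p

end Groth.Agent.S2100
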