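import Groth.Statements.S2101
import Mathlib.RingTheory.Regular.RegularSequence
import Mathlib.RingTheory.MvPolynomial.Ideal
import Mathlib.Data.Fin.Tuple.Sort
import Mathlib.Data.Finset.Max
import Mathlib.Tactic.LinearCombination

set_option autoImplicit false
universe u
open CAlg

namespace Groth.Agent.S2101

open MvPolynomial RingTheory.Sequence

variable {A : Type*} [CommRing A] {r : ℕ}

/-- `f j` is a nonzerodivisor modulo the `f i`, `i ∈ S`. -/
def NZ (f : Fin r → A) (S : Finset (Fin r)) (j : Fin r) : Prop :=
  ∀ y, f j * y ∈ Ideal.span (f '' ↑S) → y ∈ Ideal.span (f '' ↑S)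

lemma isWeaklyRegular_ofFn_iff (g : Fin r → A) :
    IsWeaklyRegular A (List.ofFn g) ↔ ∀ j, NZ g (Finset.univ.filter (· < j)) j := by
  rw [isWeaklyRegular_iff_Fin]
  have e : ∀ i : ℕ, (Ideal.ofList ((List.ofFn g).take i) • (⊤ : Submodule A A)) =
      Ideal.span (g '' {l : Fin r | (l : ℕ) < i}) := by
    intro i
    rw [smul_eq_mul, Ideal.mul_top, Ideal.ofList]
    congr 1
    ext a
    simp only [Set.mem_ofPred_eq, List.mem_take_iff_getElem, List.length_ofFn, List.getElem_ofFn,
      Set.mem_image]
    constructor
    · rintro ⟨l, hl, rfl⟩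
      exact ⟨⟨l, by omega⟩, (by omega : l < i), rfl⟩
    · rintro ⟨l, hl, rfl⟩
      exact ⟨l, lt_min hl l.2, rfl⟩
  constructor
  · intro h j y hy
    have hj := h ⟨j, by simp⟩
    rw [isSMulRegular_quotient_iff_mem_of_smul_mem, e] at hj
    simp only [Fin.getElem_fin, List.getElem_ofFn, smul_eq_mul] at hj
    simp only [Finset.coe_filter, Finset.mem_univ, true_and] at hy ⊢
    exact hj y hy
  · intro h i
    rw [isSMulRegular_quotient_iff_mem_of_smul_mem, e]
    simp only [Fin.getElem_fin, List.getElem_ofFn, smul_eq_mul]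
    intro y hy
    have := h ⟨i, by simpa using i.2⟩ y
    simp only [Finset.coe_filter, Finset.mem_univ, true_and] at this
    exact this hy

lemma swap {I : Ideal A} {a b : A} (ha : ∀ y, a * y ∈ I → y ∈ I)
    (hb : ∀ y, b * y ∈ I ⊔ Ideal.span {a} → y ∈ I ⊔ Ideal.span {a}) :
    ∀ y, a * y ∈ I ⊔ Ideal.span {b} → y ∈ I ⊔ Ideal.span {b} := by
  intro y hy
  obtain ⟨i, hi, z, hz, he⟩ := Submodule.mem_sup.mp hy
  obtain ⟨c, rfl⟩ := Ideal.mem_span_singleton'.mp hz
  have h1 : b * c ∈ I ⊔ Ideal.span {a} := Submodule.mem_sup.mpr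
    ⟨-i, neg_mem hi, a * y, Ideal.mul_mem_right _ _ (Ideal.mem_span_singleton_self a),
      by linear_combination -he⟩
  obtain ⟨i', hi', z', hz', he'⟩ := Submodule.mem_sup.mp (hb c h1)
  obtain ⟨c', rfl⟩ := Ideal.mem_span_singleton'.mp hz'
  have h2 : a * (y - c' * b) ∈ I := by
    have : a * (y - c' * b) = i + i' * b := by linear_combination -he - b * he'
    rw [this]; exact add_mem hi (Ideal.mul_mem_right _ _ hi')
  exact Submodule.mem_sup.mpr ⟨y - c' * b, ha _ h2, c' * b,
    Ideal.mul_mem_left _ _ (Ideal.mem_span_singleton_self b), sub_add_cancel _ _⟩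

lemma span_insert (f : Fin r → A) (S : Finset (Fin r)) (i : Fin r) :
    Ideal.span (f '' ↑(insert i S)) = Ideal.span (f '' ↑S) ⊔ Ideal.span {f i} := by
  rw [Finset.coe_insert, Set.image_insert_eq, Ideal.span_insert, sup_comm]

lemma NZ_of_increasing (f : Fin r → A) (h : ∀ j (S : Finset (Fin r)), (∀ i ∈ S, i < j) → NZ f S j) :
    ∀ (S : Finset (Fin r)) (j : Fin r), j ∉ S → NZ f S j := by
  intro S
  refine Finset.induction_on_max S (fun j _ => h j ∅ (by simp)) ?_
  intro m S hm ih j hj
  ·
    simp only [Finset.mem_insert, not_or] at hj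
    rcases lt_or_ge m j with hmj | hmj
    · exact h j _ fun i hi => by
        rcases Finset.mem_insert.mp hi with rfl | hi
        · exact hmj
        · exact (hm i hi).trans hmj
    · have hjm : j < m := lt_of_le_of_ne hmj hj.1
      have hb := h m (insert j S) fun i hi => by
        rcases Finset.mem_insert.mp hi with rfl | hi
        · exact hjm
        · exact hm i hi
      intro y hy
      rw [span_insert] at hy ⊢
      refine swap (ih j hj.2) (fun z hz => ?_) y hy
      rw [← span_insert] at hz ⊢
      exact hb z hz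

lemma mem_span_CX_iff (f : Fin r → A) (T : Finset (Fin r)) (p : MvPolynomial (Fin r) A) :
    p ∈ Ideal.span ((fun i => C (f i) * X i) '' ↑T) ↔
      ∀ m, coeff m p ∈ Ideal.span (f '' ↑(T.filter fun i => m i ≠ 0)) := by
  classical
  constructor
  · intro hp
    induction hp using Submodule.span_induction with
    | mem x hx =>
      obtain ⟨i, hi, rfl⟩ := hx
      intro m
      rw [coeff_C_mul, coeff_X']
      split_ifs with h
      · subst h
        exact Ideal.mul_mem_right _ _ (Ideal.subset_span ⟨i, by simp_all, rfl⟩)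
      · simp
    | zero => intro m; simp
    | add x y _ _ hx hy => intro m; rw [coeff_add]; exact add_mem (hx m) (hy m)
    | smul a x _ hx =>
      intro m
      rw [smul_eq_mul, coeff_mul]
      refine Ideal.sum_mem _ fun u hu => Ideal.mul_mem_left _ _ ?_
      refine Ideal.span_mono (Set.image_mono ?_) (hx u.2)
      intro i hi
      simp only [Finset.coe_filter, Set.mem_ofPred_eq] at hi ⊢
      refine ⟨hi.1, ?_⟩
      rw [← Finset.mem_antidiagonal.mp hu, Finsupp.add_apply]
      omega
  · intro h
    rw [← support_sum_monomial_coeff p]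
    refine Ideal.sum_mem _ fun m _ => ?_
    have hc : ∀ c ∈ Ideal.span (f '' ↑(T.filter fun i => m i ≠ 0)),
        monomial m c ∈ Ideal.span ((fun i => C (f i) * X i) '' ↑T) := by
      intro c hc
      induction hc using Submodule.span_induction with
      | mem x hx =>
        obtain ⟨i, hi, rfl⟩ := hx
        simp only [Finset.coe_filter, Set.mem_ofPred_eq] at hi
        have e : monomial m (f i) = monomial (m - Finsupp.single i 1) 1 * (C (f i) * X i) := by
          rw [X, C_mul_monomial, mul_one, monomial_mul, one_mul,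
            tsub_add_cancel_of_le (Finsupp.single_le_iff.mpr (by omega))]
        rw [e]
        exact Ideal.mul_mem_left _ _ (Ideal.subset_span ⟨i, hi.1, rfl⟩)
      | zero => simp
      | add x y _ _ hx hy => rw [map_add]; exact add_mem hx hy
      | smul a x _ hx =>
        rw [smul_eq_mul, ← C_mul_monomial]
        exact Ideal.mul_mem_left _ _ hx
    exact hc _ (h m)

lemma weaklyRegular_CX_iff (f : Fin r → A) :
    IsWeaklyRegular (MvPolynomial (Fin r) A) (List.ofFn fun i => C (f i) * X i) ↔
      ∀ j (S : Finset (Fin r)), (∀ i ∈ S, i < j) → NZ f S j := by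
  classical
  rw [isWeaklyRegular_ofFn_iff]
  constructor
  · intro h j S hS y hy
    set m : Fin r →₀ ℕ := Finsupp.indicator S (fun _ _ => 1) with hm
    have hms : (Finset.univ.filter (· < j)).filter (fun i => m i ≠ 0) = S := by
      ext i
      simp only [hm, Finset.mem_filter, Finset.mem_univ, true_and, Finsupp.indicator_apply]
      by_cases hi : i ∈ S <;> simp [hi, hS i]
    have hmj : (Finset.univ.filter (· < j)).filter (fun i => (Finsupp.single j (1 : ℕ) + m : Fin r →₀ ℕ) i ≠ 0) = S := by
      rw [← hms]
      refine Finset.filter_congr fun i hi => ?_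
      simp only [Finset.mem_filter, Finset.mem_univ, true_and] at hi
      simp [ne_of_lt hi]
    have h1 := h j (monomial m y) (by
      rw [mem_span_CX_iff]
      intro n
      beta_reduce
      rw [X, C_mul_monomial, mul_one, monomial_mul, coeff_monomial]
      split_ifs with hn
      · rw [← hn, hmj]; exact hy
      · exact zero_mem _)
    have := (mem_span_CX_iff f _ _).mp h1 m
    rwa [hms, coeff_monomial, if_pos rfl] at this
  · intro h j p hp
    rw [mem_span_CX_iff] at hp ⊢
    intro m
    have := hp (Finsupp.single j 1 + m)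
    beta_reduce at this
    rw [mul_assoc, coeff_C_mul, coeff_X_mul] at this
    have e : (Finset.univ.filter (· < j)).filter (fun i => (Finsupp.single j (1 : ℕ) + m : Fin r →₀ ℕ) i ≠ 0) =
        (Finset.univ.filter (· < j)).filter (fun i => m i ≠ 0) := by
      refine Finset.filter_congr fun i hi => ?_
      simp only [Finset.mem_filter, Finset.mem_univ, true_and] at hi
      simp [ne_of_lt hi]
    rw [e] at this
    exact h j _ (fun i hi => by simp at hi; exact hi.1) _ this

lemma weaklyRegular_perm_iff (f : Fin r → A) :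
    (∀ σ : Equiv.Perm (Fin r), IsWeaklyRegular A (List.ofFn (f ∘ σ))) ↔
      ∀ (S : Finset (Fin r)) (j : Fin r), j ∉ S → NZ f S j := by
  classical
  have e : ∀ (σ : Equiv.Perm (Fin r)) (q : Fin r),
      (f ∘ σ) '' ↑(Finset.univ.filter (· < q)) = f '' ↑((Finset.univ.filter (· < q)).image σ) := by
    intro σ q
    rw [Finset.coe_image, Set.image_image]
    rfl
  constructor
  · intro h S j hj
    let key : Fin r → ℕ := fun i => if i ∈ S then 0 else if i = j then 1 else 2
    let σ := Tuple.sort key
    have hmono : Monotone (key ∘ σ) := Tuple.monotone_sort key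
    have him : (Finset.univ.filter (· < σ.symm j)).image σ = S := by
      ext i
      simp only [Finset.mem_image, Finset.mem_filter, Finset.mem_univ, true_and]
      constructor
      · rintro ⟨l, hl, rfl⟩
        have := hmono hl.le
        have hne : σ l ≠ j := fun h => hl.ne (by rw [← h, Equiv.symm_apply_apply])
        simp [key, hj, hne] at this
        by_contra hc
        simp [hc] at this
      · intro hi
        refine ⟨σ.symm i, ?_, Equiv.apply_symm_apply _ _⟩
        by_contra hc
        have := hmono (not_lt.mp hc)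
        simp [key, hi, hj] at this
    have := (isWeaklyRegular_ofFn_iff _).mp (h σ) (σ.symm j)
    intro y hy
    have h2 := this y
    rw [e, him, Function.comp_apply, Equiv.apply_symm_apply] at h2
    exact h2 hy
  · intro h σ
    rw [isWeaklyRegular_ofFn_iff]
    intro q y hy
    rw [e] at hy ⊢
    exact h _ _ (by simp) y hy


/-- For elements `f_1, …, f_r` generating a proper ideal, all reorderings are regular sequences in `R`
if and only if the products `f_i x_i` form a regular sequence in `R[x_1, …, x_r]`. -/
theorem result {R : Type u} [CommRing R] {r : ℕ} (f : Fin r → R)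
    (hf : Ideal.span (Set.range f) ≠ ⊤) :
    (∀ σ : Equiv.Perm (Fin r), RingTheory.Sequence.IsRegular R (List.ofFn (f ∘ σ))) ↔
      RingTheory.Sequence.IsRegular (MvPolynomial (Fin r) R)
        (List.ofFn fun i => MvPolynomial.C (f i) * MvPolynomial.X i) := by
  classical
  have htopR : ∀ σ : Equiv.Perm (Fin r),
      (⊤ : Submodule R R) ≠ Ideal.ofList (List.ofFn (f ∘ σ)) • ⊤ := by
    intro σ h
    apply hf
    rw [smul_eq_mul, Ideal.mul_top] at h
    rw [h, Ideal.ofList]
    congr 1
    ext a
    simp only [Set.mem_ofPred_eq, List.mem_ofFn, Set.mem_range, Function.comp_apply]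
    exact ⟨fun ⟨i, hi⟩ => ⟨σ.symm i, by simpa using hi⟩, fun ⟨i, hi⟩ => ⟨σ i, hi⟩⟩
  have htopP : (⊤ : Submodule (MvPolynomial (Fin r) R) (MvPolynomial (Fin r) R)) ≠
      Ideal.ofList (List.ofFn fun i => C (f i) * X i) • ⊤ := by
    intro h
    rw [smul_eq_mul, Ideal.mul_top, Ideal.ofList] at h
    have h1 : (1 : MvPolynomial (Fin r) R) ∈ Ideal.span ((fun i => C (f i) * X i) '' ↑(Finset.univ : Finset (Fin r))) := by
      have hs : {a | a ∈ List.ofFn fun i => C (f i) * X i} =
          (fun i => C (f i) * X i) '' ↑(Finset.univ : Finset (Fin r)) := by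
        ext a; simp
      rw [← hs, ← h]; trivial
    have h2 := (mem_span_CX_iff f _ _).mp h1 0
    simp at h2
    apply hf
    have := subsingleton_of_zero_eq_one h2.symm
    exact Subsingleton.elim _ _
  constructor
  · intro h
    exact ⟨(weaklyRegular_CX_iff f).mpr fun j S hS => (weaklyRegular_perm_iff f).mp
      (fun σ => (h σ).toIsWeaklyRegular) S j fun hj => lt_irrefl j (hS j hj), htopP⟩
  · intro h σ
    exact ⟨(weaklyRegular_perm_iff f).mpr
      (NZ_of_increasing f ((weaklyRegular_CX_iff f).mp h.toIsWeaklyRegular)) σ, htopR σ⟩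

end Groth.Agent.S2101
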