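import Groth.Statements.S2106
import Groth.Agent.H21.EssFP.Model
import Groth.Agent.Lib.Flat55.Localized

set_option autoImplicit false
universe u
open CAlg

namespace Groth.Agent.S2106

/-- Let `R → S → S'` be local homomorphisms of local rings with `S` and `S'` essentially of finite
presentation over `R`, and `M` a nonzero finitely presented `S'`-module which is flat over `R` and
such that `M/𝔪_R M` is flat over `S/𝔪_R S`. Then `S` is flat over `R` and `M` is flat over `S`. -/
theorem result {R S S' M : Type u} [CommRing R] [CommRing S] [CommRing S']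
    [IsLocalRing R] [IsLocalRing S] [IsLocalRing S'] [Algebra R S] [Algebra S S'] [Algebra R S'] [IsScalarTower R S S']
    [IsLocalHom (algebraMap R S)] [IsLocalHom (algebraMap S S')]
    (hS : CAlgX.IsEssFinitePresentation R S) (hS' : CAlgX.IsEssFinitePresentation R S')
    [AddCommGroup M] [Module S' M] [Module S M] [Module R M] [IsScalarTower S S' M] [IsScalarTower R S' M]
    [IsScalarTower R S M] [Module.FinitePresentation S' M] [Nontrivial M] [Module.Flat R M]
    (hfib : Module.Flat (S ⧸ (IsLocalRing.maximalIdeal R).map (algebraMap R S))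
      (M ⧸ (IsLocalRing.maximalIdeal R).map (algebraMap R S) • (⊤ : Submodule S M))) :
    Module.Flat R S ∧ Module.Flat S M := by
  obtain ⟨S₀, _, _, _, _, M₀, hfp₀, hloc₀⟩ := hS
  obtain ⟨S₁, _, _, _, _, M₁, hfp₁, hloc₁⟩ := hS'
  haveI := hfp₀; haveI := hfp₁; haveI := hloc₀; haveI := hloc₁
  obtain ⟨C, _, _, _, _, _, W, hfpC, hW, hcompat⟩ :=
    Groth.Agent.H21.EssFP.Model.exists_model (R := R) (S := S) (S' := S') S₀ S₁ M₁
  haveI := hfpC; haveI := hW
  let P : Ideal C := (IsLocalRing.maximalIdeal S').comap (algebraMap C S')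
  haveI : P.IsPrime := Ideal.IsPrime.comap _
  have hWP : W ≤ P.primeCompl := fun w hw h =>
    (IsLocalRing.mem_maximalIdeal _).1 h (IsLocalization.map_units S' (⟨w, hw⟩ : W))
  haveI hP : IsLocalization P.primeCompl S' := IsLocalization.of_le W _ hWP fun r hr =>
    IsLocalRing.notMem_maximalIdeal.1 hr
  haveI : IsLocalization.AtPrime S' P := hP
  letI : Module C M := Module.compHom M (algebraMap C S')
  haveI : IsScalarTower C S' M := IsScalarTower.of_algebraMap_smul fun _ _ => rfl
  obtain ⟨N, _, _, l, hN, hl⟩ :=
    Groth.Agent.H21.EssFP.Model.exists_module_model (C := C) (S' := S') P.primeCompl M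
  haveI := hN; haveI := hl
  haveI : IsLocalHom (algebraMap R S') := by
    rw [IsScalarTower.algebraMap_eq R S S']
    exact ⟨fun a ha => isUnit_of_map_unit (algebraMap R S) a (isUnit_of_map_unit (algebraMap S S') _ ha)⟩
  haveI : IsLocalization (⊥ : Submonoid R) R := IsLocalization.self (fun x hx => by
    rw [Submonoid.mem_bot] at hx; rw [hx]; exact isUnit_one)
  haveI : Module.Finite S' M := inferInstance
  haveI h2 : Module.Flat S M := Groth.Agent.Lib.Flat55.Localized.flat_of_flat_fibre (R := R) (B := S₀) (C := C)
    (R' := R) (B' := S) (C' := S') (⊥ : Submonoid R) M₀ P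
    (fun r => by rw [← IsScalarTower.algebraMap_apply R S₀ S, Algebra.algebraMap_self, RingHom.id_apply])
    (fun x => (hcompat x).symm) l hfib
  exact ⟨Groth.Agent.Lib.Flat55.Localized.flat_base_of_flat (R' := R) (B' := S) (C' := S') (X := M), h2⟩

end Groth.Agent.S2106
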