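import Groth.Statements.S2112
import Groth.Agent.H20.GeomIrred

set_option autoImplicit false
universe u
open CAlg

namespace Groth.Agent.S2112

theorem iff_irreducible (A : Type u) [CommRing A] :
    CAlgX.HasUniqueMinimalPrime A ↔ IrreducibleSpace (PrimeSpectrum A) := by
  rw [PrimeSpectrum.irreducibleSpace_iff_isPrime_nilradical]
  constructor
  · rintro ⟨P, hP, hu⟩
    have : nilradical A = P := by
      rw [nilradical, show (0 : Ideal A) = ⊥ from rfl, ← Ideal.sInf_minimalPrimes]
      refine le_antisymm (sInf_le hP) (le_sInf fun Q hQ => (hu Q hQ).ge)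
    rw [this]
    exact hP.1.1
  · intro h
    exact ⟨nilradical A, ⟨⟨h, bot_le⟩, fun Q hQ _ => by haveI := hQ.1; exact nilradical_le_prime Q⟩,
      fun Q hQ => by haveI := hQ.1.1; exact le_antisymm (hQ.2 ⟨h, bot_le⟩ (nilradical_le_prime Q)) (nilradical_le_prime Q)⟩

open TensorProduct in
/-- Let `k` be a separably closed field and `R`, `S` two `k`-algebras each having exactly one minimal
prime ideal. Then `R ⊗_k S` has exactly one minimal prime ideal. -/
theorem result {k R S : Type u} [Field k] [IsSepClosed k] [CommRing R] [CommRing S]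
    [Algebra k R] [Algebra k S] (hR : CAlgX.HasUniqueMinimalPrime R) (hS : CAlgX.HasUniqueMinimalPrime S) :
    CAlgX.HasUniqueMinimalPrime (R ⊗[k] S) := by
  haveI := (iff_irreducible R).1 hR
  haveI := (iff_irreducible S).1 hS
  exact (iff_irreducible _).2 (Groth.Agent.H20.GeomIrred.sepClosed_tensor k R S)

end Groth.Agent.S2112
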