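import Groth.Statements.S2113
import Mathlib.RingTheory.Ideal.KrullsHeightTheorem
import Mathlib.RingTheory.Jacobson.Ring
import Mathlib.RingTheory.Ideal.MinimalPrime.Noetherian
-- import your own Groth.Agent.* helpers here

set_option autoImplicit false
universe u
open CAlg

namespace Groth.Agent.S2113

/-- A Noetherian ring in which each prime is maximal or else lies below infinitely many primes is a
Jacobson ring. -/
theorem result {R : Type u} [CommRing R] [IsNoetherianRing R]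
    (h : ∀ (p : Ideal R) [p.IsPrime], p.IsMaximal ∨ {q : PrimeSpectrum R | p ≤ q.asIdeal}.Infinite) :
    IsJacobsonRing R := by
  rw [isJacobsonRing_iff_prime_eq]
  intro p hp
  refine le_antisymm (fun x hx => ?_) Ideal.le_jacobson
  by_contra hxp
  obtain ⟨q, ⟨hq, hpq, hxq⟩, hqmax⟩ : ∃ q : Ideal R, (q.IsPrime ∧ p ≤ q ∧ x ∉ q) ∧
      ∀ Q : Ideal R, (Q.IsPrime ∧ p ≤ Q ∧ x ∉ Q) → ¬ q < Q :=
    set_has_maximal_iff_noetherian.mpr ‹IsNoetherianRing R›
      {q : Ideal R | q.IsPrime ∧ p ≤ q ∧ x ∉ q} ⟨p, hp, le_rfl, hxp⟩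
  have hnm : ¬ q.IsMaximal := fun hm => hxq (Submodule.mem_sInf.mp hx q ⟨hpq, hm⟩)
  have hbig : ∀ Q : Ideal R, Q.IsPrime → q < Q → x ∈ Q := fun Q hQ hlt => by
    by_contra hxQ
    exact hqmax Q ⟨hQ, hpq.trans hlt.le, hxQ⟩ hlt
  have hfin := (q ⊔ Ideal.span {x}).finite_minimalPrimes_of_isNoetherianRing R
  have hall : ∀ Q : Ideal R, Q.IsPrime → q < Q → Q ∈ (q ⊔ Ideal.span {x}).minimalPrimes := by
    intro Q hQ hlt
    have hJ : q ⊔ Ideal.span {x} ≤ Q :=
      sup_le hlt.le ((Ideal.span_singleton_le_iff_mem Q).mpr (hbig Q hQ hlt))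
    obtain ⟨m₀, hm₀, hm₀Q⟩ := Ideal.exists_minimalPrimes_le hJ
    by_contra hQm
    obtain ⟨y, hyQ, hy⟩ : ∃ y ∈ Q, ∀ m ∈ (q ⊔ Ideal.span {x}).minimalPrimes, y ∉ m := by
      by_contra hno
      push Not at hno
      obtain ⟨m, hm, hQm'⟩ := (Ideal.subset_union_prime (s := hfin.toFinset) (f := id) m₀ m₀
        (fun i hi _ _ => ((Set.Finite.mem_toFinset hfin).mp hi).isPrime) (I := Q)).mp
        (fun z hz => by
          obtain ⟨m, hm, hzm⟩ := hno z hz
          exact Set.mem_iUnion₂.mpr ⟨m, (Set.Finite.mem_toFinset hfin).mpr hm, hzm⟩)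
      rw [Set.Finite.mem_toFinset] at hm
      exact hQm (le_antisymm hQm' (hm.2 ⟨hQ, hJ⟩ hQm') ▸ hm)
    obtain ⟨P, hP, hPQ⟩ := Ideal.exists_minimalPrimes_le
      (show q ⊔ Ideal.span {y} ≤ Q from sup_le hlt.le ((Ideal.span_singleton_le_iff_mem Q).mpr hyQ))
    have hPp := hP.isPrime
    have hyP : y ∈ P := hP.1.2 (Submodule.mem_sup_right (Ideal.mem_span_singleton_self y))
    have hqP : q < P := lt_of_le_of_ne (le_sup_left.trans hP.1.2) fun h =>
      hy m₀ hm₀ ((le_sup_left.trans hm₀.1.2 : q ≤ m₀) (h ▸ hyP))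
    obtain ⟨m₁, hm₁, hm₁P⟩ := Ideal.exists_minimalPrimes_le
      (show q ⊔ Ideal.span {x} ≤ P from sup_le hqP.le ((Ideal.span_singleton_le_iff_mem P).mpr (hbig P hPp hqP)))
    have := hm₁.isPrime
    have hker : ∀ I : Ideal R, q ≤ I → (I.map (Ideal.Quotient.mk q)).comap (Ideal.Quotient.mk q) = I := fun I hI => by
      rw [Ideal.comap_map_of_surjective _ Ideal.Quotient.mk_surjective, ← RingHom.ker_eq_comap_bot, Ideal.mk_ker, sup_eq_left.mpr hI]
    have hqm₁ : q ≤ m₁ := le_sup_left.trans hm₁.1.2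
    have hlt₁ : m₁.map (Ideal.Quotient.mk q) < P.map (Ideal.Quotient.mk q) := by
      refine lt_of_le_of_ne (Ideal.map_mono hm₁P) fun h => hy m₁ hm₁ ?_
      have := congrArg (Ideal.comap (Ideal.Quotient.mk q)) h
      rw [hker _ hqm₁, hker _ hqP.le] at this
      exact this ▸ hyP
    have hp1 := Ideal.map_isPrime_of_surjective (f := Ideal.Quotient.mk q) Ideal.Quotient.mk_surjective
      (I := P) (by rw [Ideal.mk_ker]; exact hqP.le)
    have hp2 := Ideal.map_isPrime_of_surjective (f := Ideal.Quotient.mk q) Ideal.Quotient.mk_surjective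
      (I := m₁) (by rw [Ideal.mk_ker]; exact hqm₁)
    have h0 := (Ideal.height_le_iff (n := 1)).mp (Ideal.map_height_le_one_of_mem_minimalPrimes hP) _ hp2 hlt₁
    rw [Nat.cast_one, Order.lt_one_iff, Ideal.height_eq_zero_iff_eq_bot] at h0
    have hqeq : m₁ = q := by rw [← hker _ hqm₁, h0, ← RingHom.ker_eq_comap_bot, Ideal.mk_ker]
    exact hxq (hqeq ▸ hm₁.1.2 (Submodule.mem_sup_right (Ideal.mem_span_singleton_self x)))
  rcases h q with hm | hinf
  · exact hnm hm
  · refine hinf (Set.Finite.subset (((hfin.insert q)).preimage (fun a _ b _ hab => PrimeSpectrum.ext hab)) ?_)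
    intro Q hQ
    rcases eq_or_lt_of_le (show q ≤ Q.asIdeal from hQ) with h | h
    · exact Set.mem_insert_iff.mpr (Or.inl h.symm)
    · exact Set.mem_insert_of_mem _ (hall _ Q.isPrime h)

end Groth.Agent.S2113
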