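import Groth.Statements.S2114
import Groth.Agent.H18.NagataLocal
import Groth.Agent.Lib.Cohen.CompleteNagata
import Mathlib.RingTheory.ZariskisMainTheorem

set_option autoImplicit false
set_option linter.style.haveILetI false
universe u
open CAlg

namespace Groth.Agent.S2114

/-- Let `R ⊆ S` be an extension of domains which is of finite type and quasi-finite, with `R` Noetherian
and N-2 (integral closures in finite extensions of the fraction field are finite). Then `S` is N-2. -/
theorem result {R S : Type u} [CommRing R] [IsDomain R] [IsNoetherianRing R] [CommRing S]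
    [IsDomain S] [Algebra R S] (hinj : Function.Injective (algebraMap R S)) [Algebra.FiniteType R S]
    [Algebra.QuasiFinite R S] (hR : CAlg.IsN2 R) : CAlg.IsN2 S := by
  classical
  let G : Set S := {g | g ≠ 0 ∧ ∃ (R' : Type u) (_ : CommRing R') (_ : IsDomain R') (_ : Algebra S R'),
    IsLocalization.Away g R' ∧ CAlg.IsN2 R'}
  have hG : Ideal.span G = ⊤ := by
    by_contra hne
    obtain ⟨M, hM, hle⟩ := Ideal.exists_le_maximal _ hne
    obtain ⟨S', hfg, r, hr, hbij⟩ :=
      Algebra.QuasiFiniteAt.exists_fg_and_exists_notMem_and_awayMap_bijective (R := R) M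
    haveI : Module.Finite R S' := Module.Finite.iff_fg.2 hfg
    have hr0 : (r : S') ≠ 0 := fun h => hr (by rw [h]; exact M.zero_mem)
    have hr0' : (r : S) ≠ 0 := fun h => hr (by rw [h]; exact M.zero_mem)
    refine hr (hle (Ideal.subset_span ⟨hr0', Localization.Away (r : S), inferInstance,
      IsLocalization.isDomain_localization (powers_le_nonZeroDivisors_of_noZeroDivisors hr0'),
      inferInstance, inferInstance, ?_⟩))
    haveI : IsDomain (Localization.Away (r : S)) :=
      IsLocalization.isDomain_localization (powers_le_nonZeroDivisors_of_noZeroDivisors hr0')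
    haveI : IsDomain (Localization.Away r) :=
      IsLocalization.isDomain_localization (powers_le_nonZeroDivisors_of_noZeroDivisors hr0)
    have h1 : CAlg.IsN2 S' := Groth.Agent.Lib.Cohen.CompleteNagata.isN2_of_finite (algebraMap R S')
      (fun a b h => hinj (congrArg Subtype.val h)) (RingHom.finite_algebraMap.2 inferInstance) hR
    exact Groth.Agent.Lib.Excellent.Nagata.isN2_of_ringEquiv
      (RingEquiv.ofBijective (Localization.awayMap S'.val.toRingHom r) hbij)
      (Groth.Agent.Lib.Excellent.Nagata.isN2_of_isLocalization (Submonoid.powers r) h1)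
  obtain ⟨T, hT, hspan⟩ := Submodule.mem_span_finite_of_mem_span (hG ▸ Submodule.mem_top :
    (1 : S) ∈ Ideal.span G)
  refine Groth.Agent.H18.NagataLocal.isN2_of_cover' (fun i : T => (i : S)) ?_ fun i hi => (hT i.2).2
  rw [Ideal.eq_top_iff_one]
  convert hspan using 2
  simp

end Groth.Agent.S2114
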