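import Groth.Statements.S2115
import Groth.Agent.Lib.CohDelta.FPApprox.Approx
import Groth.Agent.H26.FreeCrit

set_option autoImplicit false
set_option linter.style.haveILetI false
universe u
open CategoryTheory AlgebraicGeometry
open Mor

namespace Groth.Agent.S2115

open Groth.Agent.Lib Groth.Agent.Lib.CohDelta Groth.Agent.Lib.CohDelta.FPApprox.Sections
  Groth.Agent.Lib.CohDelta.FPApprox.Approx Groth.Agent.Lib.CohDelta.IdealMul.Sec

/-- Let `X` be quasi-compact and quasi-separated, `F` a quasi-coherent `O_X`-module, `U ⊆ X` a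
quasi-compact open and `G` a finitely presented `O_U`-module with a map `φ : G → F|_U`. Then there
are a finitely presented `O_X`-module `G'` with a map `φ' : G' → F` and an isomorphism `G'|_U ≅ G`
identifying `φ'|_U` with `φ`. -/
theorem result (X : Scheme.{u}) [CompactSpace X] [QuasiSeparatedSpace X]
    (F : X.Modules) (hF : Coh.IsQCoh F) (U : X.Opens) (hU : IsCompact (U : Set X)) (G : (U : Scheme.{u}).Modules)
    (hG : CohB1.IsFP G) (φ : G ⟶ F.restrict U.ι) :
    ∃ (G' : X.Modules) (φ' : G' ⟶ F) (e : G'.restrict U.ι ≅ G), CohB1.IsFP G' ∧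
      e.hom ≫ φ = (Scheme.Modules.restrictFunctor U.ι).map φ' := by
  classical
  haveI : F.IsQuasicoherent := hF
  haveI := Groth.Agent.H26.FreeCrit.isQuasicoherent_of_isFP hG
  haveI : QuasiCompact U.ι := by
    refine ⟨fun D hDo hD => ?_⟩
    rw [U.ι.isOpenEmbedding.isInducing.isCompact_iff, Set.image_preimage_eq_inter_range,
      Scheme.Opens.range_ι, Set.inter_comm]
    exact QuasiSeparatedSpace.inter_isCompact _ _ U.2 hU hDo hD
  obtain ⟨H, π, e, hHq, he, -⟩ := exists_lift_module U.ι F G φ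
  haveI := hHq
  obtain ⟨s, hsU, hs⟩ := exists_cover (U := U) hU
  have hHU : CohB1.IsFP (H.restrict U.ι) := (SheafOfModules.isFinitePresentation (U : Scheme.{u}).ringCatSheaf).prop_of_iso e.symm hG
  have hfp : ∀ W ∈ s, FPAt H W.1 := fun W hW => by
    have hW2 : IsAffineOpen W.1 := W.2
    have h1 : U.ι ''ᵁ (U.ι ⁻¹ᵁ W.1) = W.1 := by
      rw [Scheme.Hom.image_preimage_eq_opensRange_inf, Scheme.Opens.opensRange_ι, inf_eq_right]
      exact hsU W hW
    have h2 : IsAffineOpen (U.ι ⁻¹ᵁ W.1) :=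
      (U.ι.isAffineOpen_iff_of_isOpenImmersion).mp (h1.symm ▸ hW2)
    exact (fp_restrict_iff U.ι H _ h1).mp (fpAt_of_isFP hHU h2)
  obtain ⟨S, i, -, hSq, hSf, hSb⟩ :=
    exists_ft_sub_all H s fun W hW => finite_of_fpAt (hfp W hW)
  haveI := hSq
  obtain ⟨G', ψ, hGq, hG'fp, hψ⟩ :=
    exists_fp_map S hSf s fun W hW => (fpAt_of_bijective i (hSb W hW)).mpr (hfp W hW)
  haveI := hGq
  haveI : IsIso ((Scheme.Modules.restrictFunctor U.ι).map (ψ ≫ i)) :=
    IdealMul.DevExt.isIso_restrict (ψ ≫ i) fun x hx => by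
      obtain ⟨W, hW, hxW⟩ := hs x hx
      have hW2 : IsAffineOpen W.1 := W.2
      refine stalk_bijective (ψ ≫ i) hW2 ?_ hxW
      rw [appL_comp, LinearMap.coe_comp]
      exact (hSb W hW).comp (hψ W hW)
  refine ⟨G', (ψ ≫ i) ≫ π,
    asIso ((Scheme.Modules.restrictFunctor U.ι).map (ψ ≫ i)) ≪≫ e, hG'fp, ?_⟩
  rw [Iso.trans_hom, asIso_hom, Category.assoc, he, ← Functor.map_comp]

end Groth.Agent.S2115
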