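import Groth.Statements.S2119
import Mathlib.Tactic.LinearCombination
import Mathlib.RingTheory.UniqueFactorizationDomain.Basic

set_option autoImplicit false
universe u
open CAlg

namespace Groth.Agent.S2119

/-- Nagata's criterion for factoriality, final assertion: let `A` be a domain in which every nonzero
nonunit factors into irreducibles, and `S` the multiplicative subset generated by a set of prime
elements. If the localization `S⁻¹A` is a unique factorization domain, then so is `A`. -/
theorem result {A : Type u} [CommRing A] [IsDomain A]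
    (hfac : ∀ a : A, a ≠ 0 → ¬ IsUnit a → ∃ f : Multiset A, (∀ b ∈ f, Irreducible b) ∧ Associated f.prod a) (P : Set A)
    (hP : ∀ p ∈ P, Prime p) [IsDomain (Localization (Submonoid.closure P))]
    (hS : UniqueFactorizationMonoid (Localization (Submonoid.closure P))) : UniqueFactorizationMonoid A := by
  classical
  set S := Submonoid.closure P
  set L := Localization S
  rw [UniqueFactorizationMonoid.iff_exists_prime_factors]
  have key : ∀ q : A, Irreducible q → Prime q := by
    intro q hq
    by_cases hP' : ∃ p ∈ P, p ∣ q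
    · obtain ⟨p, hp, hdvd⟩ := hP'
      exact ((hP p hp).irreducible.associated_of_dvd hq hdvd).prime (hP p hp)
    push Not at hP'
    have hS0 : (0 : A) ∉ S := by
      intro h
      obtain ⟨l, hl, hprod⟩ := Submonoid.exists_multiset_of_mem_closure h
      exact Multiset.prod_ne_zero (fun h0 => (hP _ (hl 0 h0)).ne_zero rfl) hprod
    have hinj : Function.Injective (algebraMap A L) := IsLocalization.injective L (le_nonZeroDivisors_of_noZeroDivisors hS0)
    have L1 : ∀ s ∈ S, ∀ a, q ∣ s * a → q ∣ a := by
      intro s hs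
      induction hs using Submonoid.closure_induction with
      | mem p hp =>
        rintro a ⟨c, hc⟩
        obtain ⟨c', rfl⟩ := ((hP p hp).dvd_or_dvd ⟨a, hc.symm⟩).resolve_left (hP' p hp)
        exact ⟨c', mul_left_cancel₀ (hP p hp).ne_zero (by linear_combination hc)⟩
      | one => intro a h; rwa [one_mul] at h
      | mul x y _ _ hx hy => intro a h; rw [mul_assoc] at h; exact hy a (hx _ h)
    have L2 : ∀ s ∈ S, ∀ w x y : A, w * s = x * y → ∃ u ∈ S, ∃ v ∈ S, ∃ x' y', x = u * x' ∧ y = v * y' ∧ w = x' * y' := by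
      intro s hs
      induction hs using Submonoid.closure_induction with
      | mem p hp =>
        intro w x y h
        have hp0 := (hP p hp).ne_zero
        rcases (hP p hp).dvd_or_dvd (Dvd.intro_left w h) with ⟨c, rfl⟩ | ⟨c, rfl⟩
        · exact ⟨p, Submonoid.subset_closure hp, 1, S.one_mem, c, y, rfl, (one_mul y).symm, mul_left_cancel₀ hp0 (by linear_combination h)⟩
        · exact ⟨1, S.one_mem, p, Submonoid.subset_closure hp, x, c, (one_mul x).symm, rfl, mul_left_cancel₀ hp0 (by linear_combination h)⟩
      | one => intro w x y h; exact ⟨1, S.one_mem, 1, S.one_mem, x, y, (one_mul x).symm, (one_mul y).symm, by simpa using h⟩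
      | mul a b _ _ ha hb =>
        intro w x y h
        obtain ⟨u, hu, v, hv, x', y', rfl, rfl, h'⟩ := hb (w * a) x y (by rw [mul_assoc]; exact h)
        obtain ⟨u', hu', v', hv', x'', y'', rfl, rfl, h''⟩ := ha w x' y' h'
        exact ⟨u * u', S.mul_mem hu hu', v * v', S.mul_mem hv hv', x'', y'', by ring, by ring, h''⟩
    have hunit : ¬ IsUnit (algebraMap A L q) := by
      intro h
      obtain ⟨m, hm, ⟨c, hc⟩⟩ := (IsLocalization.algebraMap_isUnit_iff S).1 h
      exact hq.not_isUnit (isUnit_of_dvd_one (L1 m hm 1 (by rw [mul_one]; exact ⟨c, hc⟩)))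
    have hirr : Irreducible (algebraMap A L q) := by
      refine irreducible_iff.2 ⟨hunit, fun a b hab => ?_⟩
      obtain ⟨⟨x, s⟩, hx⟩ := IsLocalization.surj S a
      obtain ⟨⟨y, t⟩, hy⟩ := IsLocalization.surj S b
      have he : q * ((s : A) * t) = x * y := hinj (by
        simp only [map_mul, hab, ← hx, ← hy]; ring)
      obtain ⟨u, hu, v, hv, x', y', hxe, hye, hw⟩ := L2 _ (S.mul_mem s.2 t.2) q x y he
      have mkunit : ∀ {a' : L} {x₀ x₁ u₀ : A} (s₀ : S), a' * algebraMap A L s₀ = algebraMap A L x₀ → x₀ = u₀ * x₁ → u₀ ∈ S → IsUnit x₁ → IsUnit a' := by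
        intro a' x₀ x₁ u₀ s₀ ha' hx0 hu0 hx1
        refine isUnit_of_mul_isUnit_left (y := algebraMap A L s₀) ?_
        rw [ha', hx0, map_mul]
        exact (IsLocalization.map_units L ⟨u₀, hu0⟩).mul (hx1.map _)
      exact (hq.isUnit_or_isUnit hw).imp (mkunit s hx hxe hu) (mkunit t hy hye hv)
    have hprime := (UniqueFactorizationMonoid.irreducible_iff_prime (α := L)).1 hirr
    refine ⟨hq.ne_zero, hq.not_isUnit, fun a b hab => ?_⟩
    have := hprime.dvd_or_dvd (a := algebraMap A L a) (b := algebraMap A L b) (by rw [← map_mul]; exact map_dvd _ hab)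
    refine this.imp ?_ ?_ <;>
    · rintro ⟨c, hc⟩
      obtain ⟨⟨z, s⟩, hz⟩ := IsLocalization.surj S c
      refine L1 s s.2 _ ⟨z, hinj ?_⟩
      rw [map_mul, map_mul, hc, ← hz]; ring
  intro a ha
  by_cases hu : IsUnit a
  · exact ⟨0, by simp, by simpa using (associated_one_iff_isUnit.2 hu).symm⟩
  obtain ⟨f, hf1, hf2⟩ := hfac a ha hu
  exact ⟨f, fun b hb => key b (hf1 b hb), hf2⟩

end Groth.Agent.S2119
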