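import Groth.Statements.S2120
import Mathlib.AlgebraicGeometry.Morphisms.Immersion
import Mathlib.AlgebraicGeometry.Morphisms.UniversallyClosed
import Mathlib.AlgebraicGeometry.Morphisms.Separated
import Mathlib.AlgebraicGeometry.Morphisms.QuasiSeparated

set_option autoImplicit false
universe u
open CategoryTheory AlgebraicGeometry
open Mor

namespace Groth.Agent.S2120

/-- Let `f : X → Y` be surjective and universally closed. If `X` is quasi-separated then so is `Y`; if
`X` is separated then so is `Y`. -/
theorem result {X Y : Scheme.{u}} (f : X ⟶ Y) [Surjective f] [UniversallyClosed f] :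
    (QuasiSeparatedSpace X → QuasiSeparatedSpace Y) ∧ (X.IsSeparated → Y.IsSeparated) := by
  constructor
  · intro hX
    refine ⟨fun U V hU hUc hV hVc => ?_⟩
    have hqc : AlgebraicGeometry.QuasiCompact f := inferInstance
    have h1 := QuasiSeparatedSpace.inter_isCompact (f ⁻¹' U) (f ⁻¹' V) (hU.preimage f.continuous)
      (f.isCompact_preimage (U := ⟨U, hU⟩) hUc) (hV.preimage f.continuous) (f.isCompact_preimage (U := ⟨V, hV⟩) hVc)
    rw [← Set.preimage_inter] at h1
    have := h1.image f.continuous
    rwa [Set.image_preimage_eq _ f.surjective] at this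
  · intro hX
    constructor
    constructor
    apply IsClosedImmersion.of_isPreimmersion
    set tX := CategoryTheory.Limits.terminal.from X
    set tY := CategoryTheory.Limits.terminal.from Y
    have h2 : f ≫ tY = tX := CategoryTheory.Limits.terminal.hom_ext _ _
    let m : CategoryTheory.Limits.pullback tX tX ⟶ CategoryTheory.Limits.pullback tY tY :=
      CategoryTheory.Limits.pullback.map _ _ _ _ f f (CategoryTheory.CategoryStruct.id _)
        (by simp [h2]) (by simp [h2])
    have hm : UniversallyClosed m :=
      CategoryTheory.MorphismProperty.pullbackMap (P := @UniversallyClosed) ‹_› ‹_› h2.symm h2.symm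
    have e : CategoryTheory.Limits.pullback.diagonal tX ≫ m = f ≫ CategoryTheory.Limits.pullback.diagonal tY := by
      apply CategoryTheory.Limits.pullback.hom_ext <;> simp only [m, CategoryTheory.Limits.pullback.map, CategoryTheory.Category.assoc] <;> simp [CategoryTheory.Limits.pullback.lift_fst, CategoryTheory.Limits.pullback.lift_snd]
    have hc : IsClosed (Set.range (CategoryTheory.Limits.pullback.diagonal tX ≫ m)) := by
      rw [Scheme.Hom.comp_base, TopCat.coe_comp, Set.range_comp]
      exact m.isClosedMap _ (CategoryTheory.Limits.pullback.diagonal tX).isClosedEmbedding.isClosed_range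
    rwa [e, Scheme.Hom.comp_base, TopCat.coe_comp, Set.range_comp, f.surjective.range_eq,
      Set.image_univ] at hc

end Groth.Agent.S2120
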