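import Groth.Statements.S2121
import Mathlib

set_option autoImplicit false
universe u
open CategoryTheory AlgebraicGeometry
open Mor

namespace Groth.Agent.S2121

/-- Let `f : X → Y` be quasi-compact and `z` a point in the closure of `f(X)` (the underlying set of the
scheme theoretic image). Then there are a valuation ring `A` with fraction field `K` and morphisms
`Spec K → X`, `Spec A → Y` forming a commutative square with `f` and `Spec K → Spec A`, such that
the closed point of `Spec A` maps to `z`. -/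
theorem result {X Y : Scheme.{u}} (f : X ⟶ Y) [QuasiCompact f] (z : Y)
    (hz : z ∈ closure (Set.range f.base)) :
    ∃ (A : Type u) (_ : CommRing A) (_ : IsDomain A) (_ : ValuationRing A)
      (x : Spec (CommRingCat.of (FractionRing A)) ⟶ X) (y : Spec (CommRingCat.of A) ⟶ Y),
      x ≫ f = Spec.map (CommRingCat.ofHom (algebraMap A (FractionRing A))) ≫ y ∧
      y.base (IsLocalRing.closedPoint A) = z := by
  obtain ⟨x', h⟩ : ∃ x' : X, f.base x' ⤳ z := by
    obtain ⟨V, hV, hzV, -⟩ := exists_isAffineOpen_mem_and_subset (X := Y) (x := z) (U := ⊤) trivial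
    obtain ⟨R, g, hg⟩ := isCompact_iff_exists.mp (f.isCompact_preimage hV.isCompact)
    have hsub : Set.range (g ≫ f).base ⊆ Set.range hV.fromSpec.base := by
      rw [IsAffineOpen.range_fromSpec]
      rintro _ ⟨r, rfl⟩
      exact (hg.le ⟨r, rfl⟩ : g r ∈ (f ⁻¹ᵁ V : Set X))
    let h' := IsOpenImmersion.lift hV.fromSpec (g ≫ f) hsub
    obtain ⟨φ, hφ⟩ : ∃ φ, Spec.map φ = h' := ⟨_, Spec.map_preimage h'⟩
    obtain ⟨p, rfl⟩ : z ∈ Set.range hV.fromSpec.base := by rw [IsAffineOpen.range_fromSpec]; exact hzV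
    have hp0 : p ∈ closure (Set.range h'.base) := by
      rw [hV.fromSpec.isOpenEmbedding.isInducing.closure_eq_preimage_closure_image]
      have hz2 : hV.fromSpec.base p ∈ closure (Set.range f.base ∩ (V : Set Y)) :=
        by
        rw [Set.inter_comm]
        exact V.isOpen.inter_closure ⟨hzV, hz⟩
      refine closure_mono ?_ hz2
      rintro _ ⟨⟨a, rfl⟩, haV⟩
      obtain ⟨r, rfl⟩ := hg.ge (haV : a ∈ (f ⁻¹ᵁ V : Set X))
      refine ⟨h'.base r, ⟨r, rfl⟩, ?_⟩
      rw [← Scheme.Hom.comp_apply, IsOpenImmersion.lift_fac, Scheme.Hom.comp_apply]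
    rw [← hφ] at hp0
    have hp : (p : PrimeSpectrum Γ(Y, V)) ∈ closure (Set.range (PrimeSpectrum.comap φ.hom)) := hp0
    rw [PrimeSpectrum.closure_range_comap] at hp
    haveI : (p.asIdeal).IsPrime := p.2
    obtain ⟨q, hq, hqp⟩ := Ideal.exists_minimalPrimes_le (I := RingHom.ker φ.hom) (J := p.asIdeal) hp
    haveI := hq.1.1
    obtain ⟨r, hr, -, hrq⟩ := Ideal.exists_comap_eq_of_mem_minimalPrimes φ.hom (I := ⊥) q hq
    let r' : ↥(Spec R) := ⟨r, hr⟩
    refine ⟨g.base r', ?_⟩
    show f.base (g.base r') ⤳ _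
    rw [← Scheme.Hom.comp_apply g f r', ← IsOpenImmersion.lift_fac hV.fromSpec (g ≫ f) hsub, Scheme.Hom.comp_apply]
    refine Specializes.map ?_ hV.fromSpec.continuous
    show h'.base ⟨r, hr⟩ ⤳ p
    rw [← hφ]
    show PrimeSpectrum.comap φ.hom ⟨r, hr⟩ ⤳ p
    refine (PrimeSpectrum.le_iff_specializes (PrimeSpectrum.comap φ.hom ⟨r, hr⟩) p).mp ?_
    show r.comap φ.hom ≤ p.asIdeal
    rw [hrq]
    exact hqp
  let stalk_y_to_residue_x' : Y.presheaf.stalk z ⟶ X.residueField x' :=
    Y.presheaf.stalkSpecializes h ≫ f.stalkMap x' ≫ X.residue x'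
  obtain ⟨A, hA, hA_local⟩ := IsLocalRing.exists_factor_valuationRing stalk_y_to_residue_x'.hom
  let stalk_y_to_A : Y.presheaf.stalk z ⟶ .of A :=
    CommRingCat.ofHom (stalk_y_to_residue_x'.hom.codRestrict _ hA)
  have w : X.fromSpecResidueField x' ≫ f =
      Spec.map (CommRingCat.ofHom (algebraMap A (X.residueField x'))) ≫
        Spec.map stalk_y_to_A ≫ Y.fromSpecStalk z := by
    rw [Scheme.fromSpecResidueField, Category.assoc, ← Scheme.SpecMap_stalkMap_fromSpecStalk,
      ← Scheme.SpecMap_stalkSpecializes_fromSpecStalk h]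
    simp_rw [← Spec.map_comp_assoc]
    rfl
  let e : FractionRing A ≃ₐ[A] X.residueField x' := IsLocalization.algEquiv (nonZeroDivisors A) _ _
  let ε : X.residueField x' ⟶ CommRingCat.of (FractionRing A) := CommRingCat.ofHom e.symm.toAlgHom.toRingHom
  refine ⟨A, inferInstance, inferInstance, inferInstance, Spec.map ε ≫ X.fromSpecResidueField x',
    Spec.map stalk_y_to_A ≫ Y.fromSpecStalk z, ?_, ?_⟩
  · rw [Category.assoc, w, ← Spec.map_comp_assoc]
    congr 2
    ext a
    exact e.symm.commutes a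
  · show (Y.fromSpecStalk z).base ((Spec.map stalk_y_to_A).base (IsLocalRing.closedPoint A)) = z
    have : Spec.map stalk_y_to_A (IsLocalRing.closedPoint A) = IsLocalRing.closedPoint (Y.presheaf.stalk z) :=
      IsLocalRing.comap_closedPoint (S := A) (stalk_y_to_residue_x'.hom.codRestrict A.toSubring hA)
    rw [this, Scheme.fromSpecStalk_closedPoint]

end Groth.Agent.S2121
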