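import Groth.Statements.S2123
import Mathlib

set_option autoImplicit false
universe u
open CategoryTheory AlgebraicGeometry
open Mor

namespace Groth.Agent.S2123

/-- Let `X` be an integral separated scheme and `x, y` points such that the closure of `x` is not
contained in the closure of `y`. Then, inside the function field of `X`, the local ring at `x` is
not contained in the local ring at `y`. -/
theorem result (X : Scheme.{u}) [IsIntegral X] [X.IsSeparated] (x y : X)
    (h : ¬ closure ({x} : Set X) ⊆ closure {y}) :
    ¬ Set.range (X.presheaf.stalkSpecializes (genericPoint_specializes x)) ⊆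
        Set.range (X.presheaf.stalkSpecializes (genericPoint_specializes y)) := by
  intro hsub
  let φx := (X.presheaf.stalkSpecializes (genericPoint_specializes x)).hom
  let φy := (X.presheaf.stalkSpecializes (genericPoint_specializes y)).hom
  have hinj : Function.Injective φy := by
    letI := φy.toAlgebra
    exact IsFractionRing.injective (X.presheaf.stalk y) X.functionField
  have hr : ∀ a, φx a ∈ φy.range := fun a => by
    obtain ⟨b, hb⟩ := hsub ⟨a, rfl⟩
    exact ⟨b, hb⟩
  let e := RingEquiv.ofBijective φy.rangeRestrict ⟨fun a b hab => hinj (congrArg Subtype.val hab), φy.rangeRestrict_surjective⟩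
  let ψ : X.presheaf.stalk x ⟶ X.presheaf.stalk y :=
    CommRingCat.ofHom (e.symm.toRingHom.comp (φx.codRestrict φy.range hr))
  have hψ : ψ ≫ X.presheaf.stalkSpecializes (genericPoint_specializes y) =
      X.presheaf.stalkSpecializes (genericPoint_specializes x) := by
    ext a
    show φy (e.symm _) = φx a
    exact congrArg Subtype.val (e.apply_symm_apply ⟨φx a, hr a⟩)
  haveI : Nontrivial (X.presheaf.stalk y) := inferInstance
  haveI : IsReduced (Spec (X.presheaf.stalk y)) := inferInstance
  haveI : IsDominant (Spec.map (X.presheaf.stalkSpecializes (genericPoint_specializes y))) := by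
    constructor
    show DenseRange (PrimeSpectrum.comap φy)
    exact (PrimeSpectrum.denseRange_comap_iff_ker_le_nilRadical φy).mpr (by rw [(RingHom.injective_iff_ker_eq_bot φy).mp hinj]; exact bot_le)
  have heq : X.fromSpecStalk y = Spec.map ψ ≫ X.fromSpecStalk x := by
    refine ext_of_isDominant (Spec.map (X.presheaf.stalkSpecializes (genericPoint_specializes y))) ?_
    rw [← Category.assoc, ← Spec.map_comp, hψ, Scheme.SpecMap_stalkSpecializes_fromSpecStalk,
      Scheme.SpecMap_stalkSpecializes_fromSpecStalk]
  have hy : y ∈ Set.range (X.fromSpecStalk x).base := ⟨(Spec.map ψ).base (IsLocalRing.closedPoint _), by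
    rw [← Scheme.Hom.comp_apply, ← heq, Scheme.fromSpecStalk_closedPoint]⟩
  rw [Scheme.range_fromSpecStalk] at hy
  exact h (closure_minimal (Set.singleton_subset_iff.mpr hy.mem_closure) isClosed_closure)

end Groth.Agent.S2123
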