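import Groth.Statements.S2126
import Groth.Agent.Lib.Ample.Basis
import Groth.Agent.Lib.Ample.RelAmple

set_option autoImplicit false
universe u
open CategoryTheory AlgebraicGeometry
open Mor

namespace Groth.Agent.S2126

/-- Let `X` be a quasi-compact scheme and `L` an invertible `O_X`-module. Then `L` is ample if and only
if the opens `X_s`, for `s` a global section of some positive tensor power of `L`, form a basis for
the topology of `X`. -/
theorem result {X : Scheme.{u}} [CompactSpace X] (L : X.Modules) (hL : PicF.IsInvertible L) :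
    CohB1.IsAmple L ↔
      TopologicalSpace.Opens.IsBasis
        {U : X.Opens | ∃ (n : ℕ) (s : Coh.structureModule X ⟶ CohB1.tensorPow L (n + 1)), U = CohB1.genLocus _ s} := by
  open Groth.Agent.Lib Groth.Agent.Lib.Ample in
  constructor
  · intro h
    haveI := Pullback.quasiSeparatedSpace_of_isAmple h
    refine TopologicalSpace.Opens.isBasis_iff_nbhd.2 fun {U x} hx => ?_
    obtain ⟨n, hn, s, hxs, hsU, -⟩ := Basis.exists_locus_subset h hx
    obtain ⟨m, rfl⟩ : ∃ m, n = m + 1 := ⟨n - 1, by omega⟩
    exact ⟨_, ⟨m, s, rfl⟩, hxs, hsU⟩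
  · intro hB
    refine Pow.isAmple_iff.2 ⟨hL, inferInstance, fun x => ?_⟩
    obtain ⟨V, hV, hxV, -⟩ := exists_isAffineOpen_mem_and_subset (X := X) (x := x) (U := ⊤) (GG.memTop _)
    obtain ⟨_, ⟨n, s, rfl⟩, hxs, hsV⟩ := TopologicalSpace.Opens.isBasis_iff_nbhd.1 hB hxV
    refine ⟨n + 1, n.succ_pos, s, hxs, ?_⟩
    have h := Basis.isAffineOpen_genLocus_inf (TensorMod.Invertible.isInvertible_tensorPow hL (n + 1)) s hV
    rwa [inf_eq_left.2 hsV] at h

end Groth.Agent.S2126
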