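import Groth.Statements.S2127
import Groth.Agent.Lib.Ample.Basis
import Groth.Agent.Lib.Ample.QAffCrit

set_option autoImplicit false
universe u
open CategoryTheory AlgebraicGeometry
open Mor

namespace Groth.Agent.S2127

open Groth.Agent.Lib Groth.Agent.Lib.TensorMod Groth.Agent.Lib.TensorMod.Basic Groth.Agent.Lib.TensorMod.Gen
  Groth.Agent.Lib.TensorMod.Dual Groth.Agent.Lib.Ample Groth.Agent.Lib.Ample.GenLocus Opposite TopologicalSpace

/-- On a quasi-affine scheme, small affine basic opens are loci of sections of an invertible module. -/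
theorem exists_sec {X : Scheme.{u}} [X.IsQuasiAffine] (L : X.Modules) (hL : PicF.IsInvertible L) {x : X}
    {U : X.Opens} (hx : x ∈ U) :
    ∃ s : Coh.structureModule X ⟶ L, x ∈ CohB1.genLocus L s ∧ CohB1.genLocus L s ≤ U ∧
      IsAffineOpen (CohB1.genLocus L s) := by
  obtain ⟨U₀, e₀, hxU₀, he₀⟩ := isInvertible_iff.1 hL x
  obtain ⟨_, ⟨_, ⟨r, hr, rfl⟩, rfl⟩, hxr, hrU⟩ := (Scheme.IsQuasiAffine.isBasis_basicOpen X).exists_subset_of_mem_open
    (show x ∈ U ⊓ U₀ from ⟨hx, hxU₀⟩) (U ⊓ U₀).isOpen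
  have hle : X.basicOpen r ≤ U₀ := fun y hy => (hrU hy).2
  haveI := QCohInv.isQCoh_of_isInvertible hL
  obtain ⟨n, g, hg⟩ := (QCoh.Localizing.localizes_of_qcqs L isCompact_univ
    ((isQuasiSeparated_univ_iff).2 inferInstance) r).ext' (rs L hle e₀)
  obtain ⟨s, hs⟩ := exists_hom_of_sec (L := L) (r • g)
  have heq : CohB1.genLocus L s = X.basicOpen r := by
    refine le_antisymm (fun y hy => ?_) (le_genLocus ?_)
    · obtain ⟨U₁, e₁, hyU₁, he₁⟩ := isInvertible_iff.1 hL y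
      obtain ⟨c, hc⟩ := exists_coord he₁ (rs L (le_top : U₁ ≤ ⊤) g)
      have h1 : sv s U₁ = (rf (le_top : U₁ ≤ ⊤) r * c) • e₁ := by
        rw [← rs_sv s (le_top : U₁ ≤ ⊤), hs, rs_smul, hc, smul_smul]
      have h2 := (genLocus_inf_eq he₁ s h1).le ⟨hy, hyU₁⟩
      rw [Scheme.basicOpen_mul] at h2
      have h3 := h2.1
      erw [Scheme.basicOpen_res] at h3
      exact h3.2
    · have h1 : sv s (X.basicOpen r) = rf (X.basicOpen_le r) r ^ (n + 1) • rs L hle e₀ := by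
        rw [← rs_sv s (le_top : X.basicOpen r ≤ ⊤), hs, rs_smul, pow_succ', mul_smul]
        exact congrArg _ hg
      rw [h1]
      exact IsGen_smul_isUnit (he₀.res hle) ((X.toRingedSpace.isUnit_res_basicOpen r).pow _)
  rw [← heq] at hxr hr hrU
  exact ⟨s, hxr, fun y hy => (hrU hy).1, hr⟩

/-- Let `X` be a quasi-affine scheme, `L` an invertible `O_X`-module, `W ⊆ X` open and `E ⊆ W` finite.
Then there is a global section `s` of `L` with `X_s` affine and `E ⊆ X_s ⊆ W`. -/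
theorem result {X : Scheme.{u}} [X.IsQuasiAffine] (L : X.Modules) (hL : PicF.IsInvertible L)
    (W : X.Opens) (E : Set X) (hE : E.Finite) (hEW : E ⊆ W) :
    ∃ s : Coh.structureModule X ⟶ L, IsAffineOpen (CohB1.genLocus L s) ∧ E ⊆ CohB1.genLocus L s ∧
      CohB1.genLocus L s ≤ W := by
  open Groth.Agent.Lib Groth.Agent.Lib.Ample in
  classical
  let Z₀ : Set X := {z ∈ E | ∀ z' ∈ E, z ⤳ z' → z' = z}
  have hmin : ∀ z ∈ E, ∃ z' ∈ Z₀, z ⤳ z' := by
    intro z hz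
    obtain ⟨z', ⟨hz', hzz'⟩, hmax⟩ := (hE.subset (Set.sep_subset E (z ⤳ ·))).exists_minimalFor
      (fun w => closure ({w} : Set X)) {w ∈ E | z ⤳ w} ⟨z, hz, specializes_rfl⟩
    refine ⟨z', ⟨hz', fun w hw hzw => ?_⟩, hzz'⟩
    have h1 : closure ({w} : Set X) ⊆ closure {z'} := specializes_iff_closure_subset.1 hzw
    have h2 := hmax ⟨hw, hzz'.trans hzw⟩ h1
    exact (Inseparable.eq ((specializes_iff_closure_subset.2 h2).antisymm hzw))
  haveI : Fintype Z₀ := (hE.subset (Set.sep_subset _ _)).fintype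
  have hsel : ∀ z : Z₀, ∃ s : Coh.structureModule X ⟶ L,
      (z : X) ∈ CohB1.genLocus _ s ∧ CohB1.genLocus _ s ≤ W ∧ IsAffineOpen (CohB1.genLocus _ s) ∧
        ∀ z' : Z₀, z' ≠ z → (z' : X) ∉ CohB1.genLocus _ s := by
    intro z
    let C : Set X := ⋃ z' : {z' : Z₀ // z' ≠ z}, closure {(z'.1 : X)}
    have hC : IsClosed C := isClosed_iUnion_of_finite fun _ => isClosed_closure
    have hzC : (z : X) ∉ C := fun h => by
      obtain ⟨⟨z', hne⟩, hz'⟩ := Set.mem_iUnion.1 h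
      exact hne (Subtype.ext ((z'.2.2 z z.2.1 (specializes_iff_mem_closure.2 hz')).symm))
    obtain ⟨s, hzs, hsU, hsa⟩ := exists_sec L hL (U := W ⊓ ⟨Cᶜ, hC.isOpen_compl⟩)
      (x := (z : X)) ⟨hEW z.2.1, hzC⟩
    exact ⟨s, hzs, hsU.trans inf_le_left, hsa, fun z' hne hz' =>
      (hsU hz').2 (Set.mem_iUnion.2 ⟨⟨z', hne⟩, subset_closure rfl⟩)⟩
  choose s hzs hsU hsa hoth using hsel
  refine ⟨∑ z, s z, Basis.isAffineOpen_genLocus_sum hL s hsa, fun z hz => ?_, fun x hx => ?_⟩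
  · obtain ⟨z', hz', hzz'⟩ := hmin z hz
    exact hzz'.mem_open (CohB1.genLocus _ _).isOpen (Basis.mem_genLocus_sum hL
      _ s (Finset.mem_univ ⟨z', hz'⟩) (hzs _) fun w _ hne => hoth w ⟨z', hz'⟩ hne.symm)
  · obtain ⟨z, -, hxz⟩ := Basis.exists_mem_of_mem_genLocus_sum hL _ s hx
    exact hsU z hxz

end Groth.Agent.S2127
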