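import Groth.Statements.S2131
import Groth.Agent.H20.LocalSurj
import Mathlib.Algebra.Module.FinitePresentation

set_option autoImplicit false
universe u
open CAlg

namespace Groth.Agent.S2131

/-- For an `R`-linear map from a finite module to a finitely presented module, the primes at which its
localization is bijective form an open subset of `Spec R`. -/
theorem result {R M N : Type u} [CommRing R] [AddCommGroup M] [Module R M] [Module.Finite R M]
    [AddCommGroup N] [Module R N] [Module.FinitePresentation R N] (φ : M →ₗ[R] N) :
    IsOpen {p : PrimeSpectrum R | Function.Bijective (LocalizedModule.map p.asIdeal.primeCompl φ)} := by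
  rw [isOpen_iff_forall_mem_open]
  intro p hp
  obtain ⟨g, hg, hbij⟩ := Module.FinitePresentation.exists_notMem_bijective φ p.asIdeal
    (LocalizedModule.mkLinearMap p.asIdeal.primeCompl M) (LocalizedModule.mkLinearMap p.asIdeal.primeCompl N) hp
  refine ⟨PrimeSpectrum.basicOpen g, fun q hq => ?_, (PrimeSpectrum.basicOpen g).2, hg⟩
  have hex : ∀ S : Submonoid R, Function.Exact (LocalizedModule.map S (LinearMap.ker φ).subtype)
      (LocalizedModule.map S φ) := fun S =>
    LocalizedModule.map_exact _ _ _ (LinearMap.exact_subtype_ker_map φ)
  have hK : Subsingleton (LocalizedModule (Submonoid.powers g) (LinearMap.ker φ)) := ⟨fun a b => by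
    apply LocalizedModule.map_injective (Submonoid.powers g) (LinearMap.ker φ).subtype (Submodule.injective_subtype _)
    apply hbij.1
    rw [(hex _).apply_apply_eq_zero, (hex _).apply_apply_eq_zero]⟩
  have hC := (Groth.Agent.H20.LocalSurj.surjective_localized_iff φ _).mp hbij.2
  rw [LocalizedModule.subsingleton_iff_support_subset] at hK hC
  have hKq : Subsingleton (LocalizedModule q.asIdeal.primeCompl (LinearMap.ker φ)) :=
    Module.notMem_support_iff.mp fun h => hq (by simpa using hK h)
  refine ⟨(injective_iff_map_eq_zero _).mpr fun x hx => ?_,
    (Groth.Agent.H20.LocalSurj.surjective_localized_atPrime_iff φ q).mpr fun h => hq (by simpa using hC h)⟩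
  obtain ⟨y, rfl⟩ := (hex _ x).mp hx
  rw [Subsingleton.elim y 0, map_zero]

end Groth.Agent.S2131
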