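import Groth.Statements.S2132
import Groth.Agent.H20.DescentCat
import Mathlib.RingTheory.Henselian
import Mathlib.Algebra.Polynomial.Lifts
import Mathlib.Algebra.Polynomial.Derivative

set_option autoImplicit false
universe u
open CategoryTheory
open CAlg

namespace Groth.Agent.S2132

/-- Let `F : J ⥤ CommRingCat` be a filtered diagram of henselian local rings with local transition maps
and `c` a colimit cocone. Then the colimit is a henselian local ring. -/
theorem result {J : Type u} [SmallCategory J] [IsFiltered J] (F : J ⥤ CommRingCat.{u})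
    (hF : ∀ j, HenselianLocalRing (F.obj j)) (hloc : ∀ (i j : J) (a : i ⟶ j), IsLocalHom (F.map a).hom)
    (c : Limits.Cocone F) (hc : Limits.IsColimit c) : HenselianLocalRing c.pt := by
  haveI := IsFiltered.nonempty (C := J)
  have H := Groth.Agent.H20.Descent.isColim_cocone F c hc
  haveI : ∀ j, IsLocalRing (F.obj j) := fun j => (hF j).toIsLocalRing
  haveI : ∀ j, IsLocalHom (c.ι.app j).hom := fun j =>
    Groth.Agent.H20.Descent.isLocalHom_cocone F hloc c hc j
  haveI : IsLocalRing c.pt := by
    haveI : Nontrivial c.pt := by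
      refine nontrivial_of_ne 0 1 fun h01 => ?_
      obtain ⟨i⟩ := IsFiltered.nonempty (C := J)
      have h0 : IsUnit ((c.ι.app i).hom 0) := by rw [map_zero, h01]; exact isUnit_one
      exact not_isUnit_zero ((isUnit_map_iff (c.ι.app i).hom 0).mp h0)
    refine IsLocalRing.of_isUnit_or_isUnit_one_sub_self fun a => ?_
    obtain ⟨i, x, hx⟩ := H.surj a
    have hx' : (c.ι.app i).hom x = a := hx
    exact (IsLocalRing.isUnit_or_isUnit_one_sub_self x).imp (fun h => hx' ▸ h.map _)
      fun h => by rw [← hx']; simpa using h.map (c.ι.app i).hom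
  refine ⟨fun f hf a₀ h₁ h₂ => ?_⟩
  classical
  obtain ⟨j, -, -, hj⟩ := H.exists_lift (Classical.arbitrary J) (insert a₀ f.coeffs)
  obtain ⟨x₀, hx₀⟩ := hj a₀ (Finset.mem_insert_self _ _)
  have hlift : f ∈ Polynomial.lifts (c.ι.app j).hom :=
    (Polynomial.lifts_iff_coeff_lifts _).mpr fun n => by
      by_cases hn : f.coeff n = 0
      · exact ⟨0, by rw [hn]; exact map_zero _⟩
      · exact hj _ (Finset.mem_insert_of_mem (Polynomial.coeff_mem_coeffs hn))
  obtain ⟨q, hq, -, hmon⟩ := Polynomial.lifts_and_natDegree_eq_and_monic hlift hf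
  have hx₀' : (c.ι.app j).hom x₀ = a₀ := hx₀
  subst hq
  rw [← hx₀', Polynomial.eval_map, Polynomial.eval₂_at_apply] at h₁
  rw [← hx₀', Polynomial.derivative_map, Polynomial.eval_map,
    Polynomial.eval₂_at_apply] at h₂
  obtain ⟨a, ha, hax⟩ := (hF j).is_henselian q hmon x₀ (fun hu => h₁ (hu.map (c.ι.app j).hom))
    ((isUnit_map_iff (c.ι.app j).hom _).mp h₂)
  refine ⟨(c.ι.app j).hom a, ?_, ?_⟩
  · rw [Polynomial.IsRoot, Polynomial.eval_map, Polynomial.eval₂_at_apply]
    exact (congrArg _ ha).trans (map_zero _)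
  · rw [← hx₀', ← map_sub]
    exact fun hu => hax ((isUnit_map_iff (c.ι.app j).hom _).mp hu)

end Groth.Agent.S2132
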