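import Groth.Statements.S2133
import Mathlib.RingTheory.Localization.Away.Basic
import Mathlib.Algebra.TrivSqZeroExt.Basic


set_option autoImplicit false
universe u
open CAlg

namespace Groth.Agent.S2133

/-- Let `R → R'` be an injective ring map of finite type and `g ∈ R` a nonzerodivisor on `R'` such that
every element of `R'` lands in `R` after multiplication by a power of `g` (so `R_g = R'_g`). Then
for every derivation `D` of `R` there is `N` such that `g^N D` extends to a derivation of `R'`. -/
theorem result {R R' : Type u} [CommRing R] [CommRing R'] [Algebra R R'] [Algebra.FiniteType R R']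
    (hinj : Function.Injective (algebraMap R R')) (g : R) (hg : IsSMulRegular R' (algebraMap R R' g))
    (hloc : ∀ x : R', ∃ n : ℕ, (algebraMap R R' g) ^ n * x ∈ Set.range (algebraMap R R')) (D : Derivation ℤ R R) :
    ∃ (N : ℕ) (D' : Derivation ℤ R' R'), ∀ r : R, D' (algebraMap R R' r) = algebraMap R R' (g ^ N * D r) := by
  classical
  let g' := algebraMap R R' g
  let L := Localization.Away g'
  let L₀ := Localization.Away g
  let φ : L₀ →+* L := Localization.awayMap (algebraMap R R') g
  have hφ : ∀ r : R, φ (algebraMap R L₀ r) = algebraMap R' L (algebraMap R R' r) := fun r => IsLocalization.map_eq _ r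
  have hbij : Function.Bijective φ := by
    refine ⟨IsLocalization.map_injective_of_injective _ _ _ hinj, fun z => ?_⟩
    obtain ⟨n, b, hb⟩ := IsLocalization.Away.surj g' z
    obtain ⟨m, r, hr⟩ := hloc b
    refine ⟨algebraMap R L₀ r * IsLocalization.Away.invSelf g ^ (n + m), ?_⟩
    refine ((IsLocalization.Away.algebraMap_isUnit (S := L) g').pow (n + m)).mul_left_inj.mp ?_
    rw [map_mul, map_pow, mul_assoc, ← mul_pow, show algebraMap R' L g' = φ (algebraMap R L₀ g) from (hφ g).symm,
      ← map_mul φ, mul_comm (IsLocalization.Away.invSelf g), IsLocalization.Away.mul_invSelf, map_one, one_pow,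
      mul_one, hφ, hφ, hr, map_mul, map_pow, ← hb, pow_add]
    ring
  let Φ : R →+* TrivSqZeroExt L L :=
    { toFun := fun r => ⟨algebraMap R L r, algebraMap R L (D r)⟩
      map_one' := TrivSqZeroExt.ext (map_one _) (by simp)
      map_zero' := TrivSqZeroExt.ext (map_zero _) (by simp)
      map_add' := fun a b => TrivSqZeroExt.ext (map_add _ _ _) (by simp)
      map_mul' := fun a b => TrivSqZeroExt.ext (map_mul _ _ _) (by
        show algebraMap R L (D (a * b)) =
          algebraMap R L a • algebraMap R L (D b) + MulOpposite.op (algebraMap R L b) • algebraMap R L (D a)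
        rw [Derivation.leibniz, map_add, smul_eq_mul, smul_eq_mul, map_mul, map_mul, op_smul_eq_smul, smul_eq_mul, smul_eq_mul]) }
  have hu : IsUnit (Φ g) := by
    rw [TrivSqZeroExt.isUnit_iff_isUnit_fst]
    show IsUnit (algebraMap R L g)
    rw [IsScalarTower.algebraMap_apply R R' L]
    exact IsLocalization.Away.algebraMap_isUnit g'
  let Φ₀ : L₀ →+* TrivSqZeroExt L L := IsLocalization.Away.lift g hu
  let E := RingEquiv.ofBijective φ hbij
  let Ψ : R' →+* TrivSqZeroExt L L := Φ₀.comp (E.symm.toRingHom.comp (algebraMap R' L))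
  have hΨR : ∀ r, Ψ (algebraMap R R' r) = Φ r := fun r => by
    show Φ₀ (E.symm (algebraMap R' L (algebraMap R R' r))) = _
    rw [show algebraMap R' L (algebraMap R R' r) = E (algebraMap R L₀ r) from (hφ r).symm, E.symm_apply_apply]
    exact IsLocalization.Away.lift_eq g hu r
  have hfst : ∀ y, (Ψ y).fst = algebraMap R' L y := by
    have h1 : (TrivSqZeroExt.fstHom L L L).toRingHom.comp Φ₀ = φ := by
      refine IsLocalization.ringHom_ext (Submonoid.powers g) (RingHom.ext fun r => ?_)
      show (Φ₀ (algebraMap R L₀ r)).fst = φ (algebraMap R L₀ r)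
      rw [IsLocalization.Away.lift_eq g hu r, hφ, ← IsScalarTower.algebraMap_apply]
      rfl
    intro y
    show (TrivSqZeroExt.fstHom L L L).toRingHom.comp Φ₀ (E.symm (algebraMap R' L y)) = _
    rw [h1]
    exact E.apply_symm_apply _
  let δ : R' → L := fun y => (Ψ y).snd
  have hmul : ∀ a b, δ (a * b) = algebraMap R' L a * δ b + algebraMap R' L b * δ a := fun a b => by
    show (Ψ (a * b)).snd = _
    rw [map_mul, TrivSqZeroExt.snd_mul, hfst, hfst, op_smul_eq_smul, smul_eq_mul, smul_eq_mul]
  obtain ⟨t, ht⟩ := (Algebra.FiniteType.out : (⊤ : Subalgebra R R').FG)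
  have hex : ∀ y, ∃ n : ℕ, ∃ b, algebraMap R' L g' ^ n * δ y = algebraMap R' L b := fun y => by
    obtain ⟨n, b, hb⟩ := IsLocalization.Away.surj g' (δ y)
    exact ⟨n, b, by rw [mul_comm]; exact hb⟩
  choose n b hb using hex
  let N := t.sup n
  have hN : ∀ y : R', ∃ c, algebraMap R' L g' ^ N * δ y = algebraMap R' L c := by
    intro y
    have hy : y ∈ Algebra.adjoin R (t : Set R') := ht ▸ Algebra.mem_top
    induction hy using Algebra.adjoin_induction with
    | mem x hx =>
      refine ⟨g' ^ (N - n x) * b x, ?_⟩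
      rw [map_mul, map_pow, ← hb x, ← mul_assoc, ← pow_add, Nat.sub_add_cancel (Finset.le_sup hx)]
    | algebraMap r =>
      refine ⟨g' ^ N * algebraMap R R' (D r), ?_⟩
      rw [show δ (algebraMap R R' r) = algebraMap R L (D r) by show (Ψ _).snd = _; rw [hΨR]; rfl,
        map_mul, map_pow, ← IsScalarTower.algebraMap_apply R R' L (D r)]
    | add y z _ _ hy hz =>
      obtain ⟨c, hc⟩ := hy
      obtain ⟨c', hc'⟩ := hz
      refine ⟨c + c', ?_⟩
      rw [show δ (y + z) = δ y + δ z by show (Ψ (y + z)).snd = _; rw [map_add]; rfl, mul_add, hc, hc', map_add]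
    | mul y z _ _ hy hz =>
      obtain ⟨c, hc⟩ := hy
      obtain ⟨c', hc'⟩ := hz
      refine ⟨y * c' + z * c, ?_⟩
      rw [hmul, map_add, map_mul, map_mul, ← hc, ← hc']
      ring
  choose c hc using hN
  have hinjL : Function.Injective (algebraMap R' L) := by
    refine IsLocalization.injective (M := Submonoid.powers g') L ?_
    rintro _ ⟨m, rfl⟩
    exact mem_nonZeroDivisors_iff_right.mpr fun a ha => (hg.pow m) (show g' ^ m • a = g' ^ m • (0 : R') by rw [smul_zero, smul_eq_mul, mul_comm]; exact ha)
  let Dl : R' →+ R' :=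
    { toFun := c
      map_zero' := hinjL (by rw [← hc, map_zero]; show _ * (Ψ 0).snd = 0; rw [map_zero]; exact mul_zero _)
      map_add' := fun a b => hinjL (by
        rw [map_add, ← hc, ← hc, ← hc, ← mul_add]; show _ * (Ψ (a + b)).snd = _; rw [map_add]; rfl) }
  refine ⟨N, Derivation.mk' Dl.toIntLinearMap fun a b => hinjL ?_, fun r => hinjL ?_⟩
  · show algebraMap R' L (c (a * b)) = algebraMap R' L (a * c b + b * c a)
    rw [map_add, map_mul, map_mul, ← hc, ← hc, ← hc, hmul]
    ring
  · show algebraMap R' L (c (algebraMap R R' r)) = _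
    rw [← hc, show δ (algebraMap R R' r) = algebraMap R L (D r) by show (Ψ _).snd = _; rw [hΨR]; rfl,
      map_mul, map_pow, map_mul, map_pow, ← IsScalarTower.algebraMap_apply R R' L (D r)]

end Groth.Agent.S2133
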