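import Groth.Statements.S2134


set_option autoImplicit false
universe u
open CAlg

namespace Groth.Agent.S2134

/-- Let `K/k` be a field extension and `(K_α)` a nonempty family of intermediate fields, directed
downwards, with intersection `k`. For a `K`-subspace `V` of `K^n` (`n ≥ 1`), `V` contains a nonzero
vector with all coordinates in `k` if and only if for every `α` it contains a nonzero vector with
all coordinates in `K_α`. -/
theorem result {k K : Type u} [Field k] [Field K] [Algebra k K] {ι : Type u} [Nonempty ι]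
    (F : ι → IntermediateField k K) (hdir : ∀ a b : ι, ∃ c, F c ≤ F a ⊓ F b) (hinf : ⨅ a, F a = ⊥) (n : ℕ) (hn : 1 ≤ n)
    (V : Submodule K (Fin n → K)) :
    (∃ v ∈ V, v ≠ 0 ∧ ∀ i, v i ∈ Set.range (algebraMap k K)) ↔
      ∀ a, ∃ v ∈ V, v ≠ 0 ∧ ∀ i, v i ∈ F a := by
  classical
  constructor
  · rintro ⟨v, hv, hv0, hvi⟩ a
    exact ⟨v, hv, hv0, fun i => by obtain ⟨c, hc⟩ := hvi i; rw [← hc]; exact (F a).algebraMap_mem c⟩
  intro h
  let T : ι → Set (Fin n → K) := fun a => {v | v ∈ V ∧ ∀ i, v i ∈ F a}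
  let W : ι → Submodule K (Fin n → K) := fun a => Submodule.span K (T a)
  have hmono : ∀ {c a}, F c ≤ F a → W c ≤ W a := fun hca => Submodule.span_mono fun v hv =>
    ⟨hv.1, fun i => hca (hv.2 i)⟩
  obtain ⟨a₀, ha₀⟩ : ∃ a₀, ∀ a, Module.finrank K (W a₀) ≤ Module.finrank K (W a) :=
    ⟨Function.argmin (fun a => Module.finrank K (W a)), fun a => Function.argmin_le (fun a => Module.finrank K (W a)) a⟩
  have hW0 : W a₀ ≠ ⊥ := by
    obtain ⟨v, hv, hv0, hvi⟩ := h a₀
    exact fun hb => hv0 ((Submodule.mem_bot K).mp (hb ▸ Submodule.subset_span ⟨hv, hvi⟩))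
  obtain ⟨w₁, hw₁, hw₁0⟩ := Submodule.exists_mem_ne_zero_of_ne_bot hW0
  let P : ℕ → Prop := fun m => ∃ w ∈ W a₀, w ≠ 0 ∧ (Finset.univ.filter fun i => w i ≠ 0).card = m
  have hP : ∃ m, P m := ⟨_, w₁, hw₁, hw₁0, rfl⟩
  obtain ⟨w, hw, hw0, hwc⟩ := Nat.find_spec hP
  obtain ⟨i₀, hi₀⟩ := Function.ne_iff.mp hw0
  let u := (w i₀)⁻¹ • w
  have hu : u ∈ W a₀ := Submodule.smul_mem _ _ hw
  have hui : u i₀ = 1 := inv_mul_cancel₀ hi₀
  have hVle : W a₀ ≤ V := Submodule.span_le.mpr fun v hv => hv.1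
  refine ⟨u, hVle hu, fun hz => one_ne_zero (hui.symm.trans (congrFun hz i₀)), fun i => ?_⟩
  have hmem : u i ∈ (⨅ a, F a : IntermediateField k K) := by
    rw [← SetLike.mem_coe, IntermediateField.coe_iInf, Set.mem_iInter]
    intro a
    obtain ⟨c, hc⟩ := hdir a a₀
    have hWc : W c = W a₀ := Submodule.eq_of_le_of_finrank_le (hmono (hc.trans inf_le_right)) (ha₀ c)
    refine (hc.trans inf_le_left : F c ≤ F a) ?_
    obtain ⟨π, hπ⟩ := LinearMap.exists_leftInverse_of_injective (Algebra.linearMap (F c) K)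
      (LinearMap.ker_eq_bot.mpr (algebraMap (F c) K).injective)
    have hπ1 : ∀ x : F c, π (x : K) = x := fun x => LinearMap.congr_fun hπ x
    have key : ∀ v ∈ W c, ∃ v' ∈ W c, ∀ j, v' j = (π (v j) : K) := by
      intro v hv
      obtain ⟨N, lam, g, rfl⟩ := Submodule.mem_span_set'.mp hv
      refine ⟨∑ l, (π (lam l) : K) • (g l : Fin n → K),
        sum_mem fun l _ => Submodule.smul_mem _ _ (Submodule.subset_span (g l).2), fun j => ?_⟩
      simp only [Finset.sum_apply, Pi.smul_apply, smul_eq_mul, map_sum]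
      rw [AddSubmonoidClass.coe_finsetSum]
      refine Finset.sum_congr rfl fun l _ => ?_
      rw [show lam l * (g l : Fin n → K) j = (⟨_, (g l).2.2 j⟩ : F c) • lam l by
        rw [IntermediateField.smul_def, smul_eq_mul, mul_comm], map_smul, smul_eq_mul, MulMemClass.coe_mul, mul_comm]
    obtain ⟨u', hu', hu'j⟩ := key u (hWc ▸ hu)
    have hdiff : u - u' = 0 := by
      by_contra hne
      have hlt : (Finset.univ.filter fun j => (u - u') j ≠ 0).card < Nat.find hP := by
        rw [← hwc]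
        refine Finset.card_lt_card (Finset.ssubset_iff_of_subset ?_ |>.mpr ⟨i₀, by simpa using hi₀, ?_⟩)
        · intro j hj
          simp only [Finset.mem_filter, Finset.mem_univ, true_and, Pi.sub_apply] at hj ⊢
          intro hwj
          apply hj
          rw [hu'j, show u j = 0 by simp [u, hwj], map_zero, ZeroMemClass.coe_zero, sub_zero]
        · simp only [Finset.mem_filter, Finset.mem_univ, true_and, Pi.sub_apply, not_not]
          rw [hu'j, hui, show π (1 : K) = 1 from hπ1 1, OneMemClass.coe_one, sub_self]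
      exact Nat.find_min hP hlt ⟨u - u', sub_mem hu (hWc ▸ hu'), hne, rfl⟩
    rw [sub_eq_zero] at hdiff
    rw [hdiff, hu'j]
    exact (π (u i)).2
  rw [hinf] at hmem
  exact IntermediateField.mem_bot.mp hmem

end Groth.Agent.S2134
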