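import Groth.Statements.S2135
import Groth.Agent.Lib.Unram.UnibranchEtaleLocal

set_option autoImplicit false
universe u
open CAlg

namespace Groth.Agent.S2135

/-- A local ring `A` is geometrically unibranch if and only if a strict henselization of `A` has a
unique minimal prime ideal. -/
theorem result {A Ash : Type u} [CommRing A] [IsLocalRing A]
    [CommRing Ash] [IsLocalRing Ash] [Algebra A Ash] [IsLocalHom (algebraMap A Ash)]
    [Hensel.IsStrictHenselization A Ash] :
    CAlg2.IsGeomUnibranch A ↔ CAlgX.HasUniqueMinimalPrime Ash := by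
  rw [← Groth.Agent.Lib.Unram.OneBranch.numGeomBranches_eq_one_iff,
    ← Groth.Agent.Lib.Unram.BranchHenselian.card_minimalPrimes_strictHenselization A Ash, ENat.card_coe_set_eq,
    Set.encard_eq_one]
  exact ⟨fun ⟨P, hP⟩ => ⟨P, show P ∈ minimalPrimes Ash from hP ▸ rfl, fun Q hQ => (Set.ext_iff.mp hP Q).mp hQ⟩,
    fun ⟨P, hP, hu⟩ => ⟨P, Set.ext fun Q => ⟨hu Q, fun h => (Set.mem_singleton_iff.mp h).symm ▸ hP⟩⟩⟩

end Groth.Agent.S2135
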