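import Groth.Statements.S2137
import Groth.Agent.Lib.DR.BaseChange
-- import your own Groth.Agent.* helpers here

set_option autoImplicit false
universe u
open CategoryTheory
attribute [local instance] HasDerivedCategory.standard
open CAlg

namespace Groth.Agent.S2137

open CategoryTheory CategoryTheory.Limits CategoryTheory.Pretriangulated
open Groth.Agent.Lib.DR.Basic Groth.Agent.Lib.DR.FiniteComplex Groth.Agent.Lib.DR.PseudoCoherent
open Groth.Agent.Lib.DR.Representative Groth.Agent.Lib.DR.BaseChange Groth.Agent.Lib.DR.Derived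

/-- Let `A → B` be a ring map and `K` an `m`-pseudo-coherent object of `D(A)`. Then `K ⊗^L_A B` is
`m`-pseudo-coherent in `D(B)`. (Stated assuming the total left derived functor of base change exists
on `D(A)`, a fact not available as a library result here.) -/
theorem result {A B : Type u} [CommRing A] [CommRing B] (φ : A →+* B) [DRing.HasLBaseChange φ]
    (K : Dual.D A) (m : ℤ) (hK : DRing.IsPseudoCoherent A m K) :
    DRing.IsPseudoCoherent B m ((DRing.LBaseChange φ).obj K) := by
  rw [isPseudoCoherent_iff] at hK ⊢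
  obtain ⟨b₀, hb₀⟩ := hK.exists_isLE
  obtain ⟨G, hG, hGp, ⟨e⟩⟩ := ba_free hb₀
  obtain ⟨E, b, g, -, hE, hEp, hg⟩ := hK.exists_truncated good_ff
  have := isKProjective_of_bounds projective_of_ff (fun i hi => hE i (Or.inr hi)) hEp
  obtain ⟨f, hf⟩ := exists_Q_map_eq (g ≫ e.inv)
  let C := CochainComplex.mappingCone f
  let c := max b₀ b
  have hC : ∀ i, c < i → IsZero (C.X i) := fun i hi => by
    refine IsZero.of_iso ?_ (HomologicalComplex.homotopyCofiber.XIsoBiprod f i (i + 1) rfl)
    rw [biprod_isZero_iff]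
    exact ⟨hE _ (Or.inr (by omega)), hG _ (by omega)⟩
  have hCp : ∀ i, flat A (C.X i) := fun i =>
    good_flat.iso (HomologicalComplex.homotopyCofiber.XIsoBiprod f i (i + 1) rfl).symm
      (good_flat.biprod (flat_of_fproj _ (fproj_of_ff _ (hEp (i + 1)))) (flat_of_free _ (hGp i)))
  have hf' : ConeLE (DerivedCategory.Q.map f) (m - 1) := by
    rw [hf]
    exact hg.comp (coneLE_of_isIso e.inv (m - 1))
  have hCle : (DerivedCategory.Q.obj C).IsLE (m - 1) :=
    isLE_obj₃_of_coneLE _ (DerivedCategory.mappingCone_triangle_distinguished f) hf'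
  have hext : (DerivedCategory.Q.obj ((ext φ).obj C)).IsLE (m - 1) := by
    have h1 : ((DRing.LBaseChange φ).obj (DerivedCategory.Q.obj C)).IsLE (m - 1) :=
      (ba_LBaseChange φ flat_of_free (ext_free φ) (ba_free hCle)).isLE
    exact isLE_of_iso' (bcFlat φ C c hC hCp) h1
  have hcone : ConeLE (DerivedCategory.Q.map ((ext φ).map f)) (m - 1) :=
    coneLE_of_triangle _ (DerivedCategory.mappingCone_triangle_distinguished ((ext φ).map f))
      (isLE_of_iso' (DerivedCategory.Q.mapIso
        (CochainComplex.mappingCone.mapHomologicalComplexIso f (ModuleCat.extendScalars.{u, u, u} φ))) hext)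
  refine ((Bdd.pcn ⟨(ext φ).obj E, fun i hi => (ModuleCat.extendScalars.{u, u, u} φ).map_isZero (hE i hi),
    fun i => ext_ff φ _ (hEp i), ⟨Iso.refl _⟩⟩ m).trans hcone).of_iso
      ((bcFlat φ G b₀ hG fun i => flat_of_free _ (hGp i)).symm ≪≫ (DRing.LBaseChange φ).mapIso e)

end Groth.Agent.S2137
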