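import Groth.Statements.S2138
import Mathlib.RingTheory.LocalRing.ResidueField.Ideal
import Mathlib.LinearAlgebra.TensorProduct.RightExactness
import Mathlib.LinearAlgebra.DirectSum.Finsupp
import Mathlib.LinearAlgebra.TensorProduct.Quotient
import Mathlib.Algebra.Module.Torsion.Basic
import Mathlib.LinearAlgebra.Basis.VectorSpace
-- import your own Groth.Agent.* helpers here

set_option autoImplicit false
universe u
open CAlg

namespace Groth.Agent.S2138

open scoped TensorProduct

variable {R S : Type u} [CommRing R] [CommRing S] [Algebra R S]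

/-- `t` acts injectively on `S ⊗ X`. -/
def Reg (t : S) (X : Type u) [AddCommGroup X] [Module R X] : Prop :=
  ∀ x : S ⊗[R] X, t • x = 0 → x = 0

lemma map_tensor_smul {X Y : Type u} [AddCommGroup X] [Module R X] [AddCommGroup Y] [Module R Y]
    (f : X →ₗ[R] Y) (t : S) (x : S ⊗[R] X) : f.lTensor S (t • x) = t • f.lTensor S x := by
  induction x using TensorProduct.induction_on with
  | zero => simp
  | tmul a b => simp [TensorProduct.smul_tmul']
  | add a b ha hb => simp only [smul_add, map_add, ha, hb]

lemma reg_of_injective [Module.Flat R S] (t : S) {X Y : Type u} [AddCommGroup X] [Module R X] [AddCommGroup Y]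
    [Module R Y] (f : X →ₗ[R] Y) (hf : Function.Injective f) (h : Reg (R := R) t Y) : Reg (R := R) t X := by
  intro x hx
  apply Module.Flat.lTensor_preserves_injective_linearMap f hf
  rw [map_zero]
  exact h _ (by rw [← map_tensor_smul, hx, map_zero])

lemma reg_of_exact [Module.Flat R S] (t : S) {X Y Z : Type u} [AddCommGroup X] [Module R X] [AddCommGroup Y]
    [Module R Y] [AddCommGroup Z] [Module R Z] (f : X →ₗ[R] Y) (g : Y →ₗ[R] Z) (hf : Function.Injective f)
    (hg : Function.Surjective g) (hfg : Function.Exact f g) (h1 : Reg (R := R) t X) (h3 : Reg (R := R) t Z) :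
    Reg (R := R) t Y := by
  intro y hy
  obtain ⟨x, rfl⟩ := (lTensor_exact S hfg hg y).mp (h3 _ (by rw [← map_tensor_smul, hy, map_zero]))
  rw [← map_tensor_smul] at hy
  rw [h1 x (Module.Flat.lTensor_preserves_injective_linearMap f hf (hy.trans (map_zero _).symm)), map_zero]

lemma reg_finsupp (t : S) (κ : Type u) [AddCommGroup κ] [Module R κ] (ι : Type u) (h : Reg (R := R) t κ) :
    Reg (R := R) t (ι →₀ κ) := by
  classical
  intro x hx
  apply (TensorProduct.finsuppRight R R S κ ι).injective
  rw [map_zero]
  ext i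
  refine h _ ?_
  have key : ∀ y : S ⊗[R] (ι →₀ κ), TensorProduct.finsuppRight R R S κ ι (t • y) i =
      t • TensorProduct.finsuppRight R R S κ ι y i := fun y => by
    induction y using TensorProduct.induction_on with
    | zero => simp
    | tmul a b => simp [TensorProduct.smul_tmul', TensorProduct.finsuppRight_apply_tmul_apply]
    | add a b ha hb => simp only [smul_add, map_add, Finsupp.add_apply, ha, hb]
  rw [← key, hx]
  simp

variable (p : Ideal R) [p.IsPrime] [hq : (p.map (algebraMap R S)).IsPrime] [Module.Flat R S]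

omit [p.IsPrime] hq [Module.Flat R S] in
lemma one_tmul_eq_zero_iff (J : Ideal R) (σ : S) :
    σ ⊗ₜ[R] Submodule.Quotient.mk (p := J) 1 = 0 ↔ σ ∈ J.map (algebraMap R S) := by
  rw [← LinearEquiv.map_eq_zero_iff (TensorProduct.tensorQuotEquivQuotSMul S J)]
  rw [show Submodule.Quotient.mk (p := J) (1 : R) = Ideal.Quotient.mk J 1 from rfl,
    TensorProduct.tensorQuotEquivQuotSMul_tmul_mk, one_smul, Submodule.Quotient.mk_eq_zero,
    Ideal.smul_top_eq_map, Submodule.restrictScalars_mem]

omit [p.IsPrime] hq [Module.Flat R S] in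
lemma exists_tmul_one (J : Ideal R) (x : S ⊗[R] (R ⧸ J)) : ∃ σ : S, x = σ ⊗ₜ[R] Submodule.Quotient.mk (p := J) 1 := by
  induction x using TensorProduct.induction_on with
  | zero => exact ⟨0, by simp⟩
  | tmul a b =>
    obtain ⟨r, rfl⟩ := Submodule.Quotient.mk_surjective J b
    exact ⟨r • a, by rw [TensorProduct.smul_tmul, ← Submodule.Quotient.mk_smul, smul_eq_mul, mul_one]⟩
  | add a b ha hb =>
    obtain ⟨σ, rfl⟩ := ha
    obtain ⟨σ', rfl⟩ := hb
    exact ⟨σ + σ', (TensorProduct.add_tmul _ _ _).symm⟩

omit [p.IsPrime] [Module.Flat R S] in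
lemma reg_quot (t : S) (ht : t ∉ p.map (algebraMap R S)) : Reg (R := R) t (R ⧸ p) := by
  intro x hx
  obtain ⟨σ, rfl⟩ := exists_tmul_one p x
  rw [TensorProduct.smul_tmul', smul_eq_mul, one_tmul_eq_zero_iff] at hx
  rw [one_tmul_eq_zero_iff]
  exact (hq.mem_or_mem hx).resolve_left ht

/-- `R/p → κ(p)`. -/
noncomputable def toκ : (R ⧸ p) →ₗ[R] p.ResidueField :=
  Submodule.liftQ p (Algebra.linearMap R p.ResidueField) (fun x hx => by
    rw [LinearMap.mem_ker, Algebra.linearMap_apply, Ideal.algebraMap_residueField_eq_zero]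
    exact hx)

omit hq [Module.Flat R S] in
lemma toκ_injective : Function.Injective (toκ p) := by
  rw [← LinearMap.ker_eq_bot]
  refine Submodule.ker_liftQ_eq_bot _ _ _ fun x hx => ?_
  rwa [LinearMap.mem_ker, Algebra.linearMap_apply, Ideal.algebraMap_residueField_eq_zero] at hx

omit hq [Module.Flat R S] in
lemma exists_smul (x : S ⊗[R] p.ResidueField) :
    ∃ s ∉ p, ∃ y, s • x = (toκ p).lTensor S y := by
  induction x using TensorProduct.induction_on with
  | zero => exact ⟨1, p.primeCompl.one_mem, 0, by simp⟩
  | tmul a b =>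
    obtain ⟨b', rfl⟩ := IsLocalRing.residue_surjective b
    obtain ⟨r, s, rfl⟩ := IsLocalization.exists_mk'_eq p.primeCompl b'
    refine ⟨s.1, s.2, a ⊗ₜ Submodule.Quotient.mk r, ?_⟩
    rw [← TensorProduct.tmul_smul, LinearMap.lTensor_tmul]
    congr 1
    change (s : R) • _ = algebraMap R p.ResidueField r
    rw [Algebra.smul_def, IsScalarTower.algebraMap_apply R (Localization.AtPrime p) p.ResidueField,
      IsScalarTower.algebraMap_apply R (Localization.AtPrime p) p.ResidueField,
      IsLocalRing.ResidueField.algebraMap_eq, ← map_mul, IsLocalization.mk'_spec']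
  | add a b ha hb =>
    obtain ⟨s, hs, y, hy⟩ := ha
    obtain ⟨s', hs', y', hy'⟩ := hb
    refine ⟨s * s', fun h => ((‹p.IsPrime›.mem_or_mem h).elim hs hs'), s' • y + s • y', ?_⟩
    rw [map_add, map_smul, map_smul, ← hy, ← hy', smul_add, smul_smul, smul_smul, mul_comm s' s]

lemma reg_residueField (t : S) (ht : t ∉ p.map (algebraMap R S)) : Reg (R := R) t p.ResidueField := by
  intro x hx
  obtain ⟨s, hs, y, hy⟩ := exists_smul (S := S) p x
  have h1 : t • y = 0 := by
    apply Module.Flat.lTensor_preserves_injective_linearMap (toκ p) (toκ_injective p)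
    rw [map_zero, map_tensor_smul, ← hy, smul_comm, hx, smul_zero]
  rw [reg_quot p t ht y h1, map_zero] at hy
  have hu : IsUnit (algebraMap R p.ResidueField s) :=
    isUnit_iff_ne_zero.mpr fun h => hs (Ideal.algebraMap_residueField_eq_zero.mp h)
  have hmul : ∀ (c : p.ResidueField) (z : S ⊗[R] p.ResidueField),
      ((LinearMap.mulLeft R c).lTensor S) ((LinearMap.mulLeft R (algebraMap R p.ResidueField s)).lTensor S z) =
        (LinearMap.mulLeft R (c * algebraMap R p.ResidueField s)).lTensor S z := fun c z => by
    rw [← LinearMap.comp_apply, ← LinearMap.lTensor_comp, ← LinearMap.mulLeft_mul]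
  have hsx : (LinearMap.mulLeft R (algebraMap R p.ResidueField s)).lTensor S x = s • x := by
    clear hx hy
    induction x using TensorProduct.induction_on with
    | zero => simp
    | tmul a b => rw [LinearMap.lTensor_tmul, LinearMap.mulLeft_apply, ← Algebra.smul_def, TensorProduct.tmul_smul]
    | add a b ha hb => rw [map_add, ha, hb, smul_add]
  have := hmul (↑hu.unit⁻¹) x
  rw [hsx, hy, map_zero, IsUnit.val_inv_mul, LinearMap.mulLeft_one, LinearMap.lTensor_id] at this
  exact this.symm

lemma reg_of_pow (t : S) (ht : t ∉ p.map (algebraMap R S)) :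
    ∀ (n : ℕ) (X : Type u) [AddCommGroup X] [Module R X] [Module (Localization.AtPrime p) X]
      [IsScalarTower R (Localization.AtPrime p) X],
      (∀ a ∈ IsLocalRing.maximalIdeal (Localization.AtPrime p) ^ n, ∀ x : X, a • x = 0) → Reg (R := R) t X
  | 0, X, _, _, _, _, h => fun z _ => by
    have : Subsingleton X := subsingleton_of_forall_eq 0 fun x => by
      simpa using h 1 (by simp) x
    induction z using TensorProduct.induction_on with
    | zero => rfl
    | tmul a b => rw [Subsingleton.elim b 0, TensorProduct.tmul_zero]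
    | add a b ha hb =>
      have h0 : ∀ c : S ⊗[R] X, c = 0 := fun c => by
        induction c using TensorProduct.induction_on with
        | zero => rfl
        | tmul a b => rw [Subsingleton.elim b 0, TensorProduct.tmul_zero]
        | add a b ha hb => rw [ha, hb, add_zero]
      exact h0 _
  | n + 1, X, _, _, _, _, h => by
    let m := IsLocalRing.maximalIdeal (Localization.AtPrime p)
    let Y : Submodule (Localization.AtPrime p) X := m • ⊤
    refine reg_of_exact t ((Y.subtype).restrictScalars R) (Y.mkQ.restrictScalars R) Y.injective_subtype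
      Y.mkQ_surjective (LinearMap.exact_subtype_mkQ Y) (reg_of_pow t ht n Y fun a ha y => Subtype.ext ?_) ?_
    · rw [Submodule.coe_smul, ZeroMemClass.coe_zero]
      refine Submodule.smul_induction_on (p := fun x => a • x = 0) y.2 (fun b hb x _ => ?_) (fun x x' hx hx' => ?_)
      · rw [← mul_smul]
        exact h _ (by rw [pow_succ]; exact Ideal.mul_mem_mul ha hb) x
      · rw [smul_add, hx, hx', add_zero]
    · have htor : Module.IsTorsionBySet (Localization.AtPrime p) (X ⧸ Y) m := by
        rintro q ⟨a, ha⟩
        obtain ⟨x, rfl⟩ := Y.mkQ_surjective q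
        change a • Y.mkQ x = 0
        rw [← map_smul, Submodule.mkQ_apply, Submodule.Quotient.mk_eq_zero]
        exact Submodule.smul_mem_smul ha Submodule.mem_top
      let : Module p.ResidueField (X ⧸ Y) := htor.module
      have hκ : ∀ (a : Localization.AtPrime p) (q : X ⧸ Y),
          algebraMap (Localization.AtPrime p) p.ResidueField a • q = a • q := fun a q => rfl
      have : IsScalarTower R p.ResidueField (X ⧸ Y) :=
        IsScalarTower.of_algebraMap_smul fun r q => by
          rw [IsScalarTower.algebraMap_apply R (Localization.AtPrime p) p.ResidueField, hκ, algebraMap_smul]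
      let b := Module.Free.chooseBasis p.ResidueField (X ⧸ Y)
      exact reg_of_injective t (b.repr.toLinearMap.restrictScalars R) b.repr.injective
        (reg_finsupp t p.ResidueField _ (reg_residueField p t ht))

/-- Let `R → S` be flat and `𝔭` a prime of `R` whose extension `𝔮 = 𝔭S` is prime. Then for every `n` the
extension to `S` of the symbolic power `𝔭^{(n)}` (the contraction of `𝔭ⁿR_𝔭`) equals the symbolic
power `𝔮^{(n)}`. -/
theorem result {R S : Type u} [CommRing R] [CommRing S] [Algebra R S] [Module.Flat R S]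
    (p : Ideal R) [p.IsPrime] [(p.map (algebraMap R S)).IsPrime] (n : ℕ) :
    (((p ^ n).map (algebraMap R (Localization.AtPrime p))).comap (algebraMap R (Localization.AtPrime p))).map
        (algebraMap R S) =
      (((p.map (algebraMap R S)) ^ n).map (algebraMap S (Localization.AtPrime (p.map (algebraMap R S))))).comap
        (algebraMap S (Localization.AtPrime (p.map (algebraMap R S)))) := by
  set Rp := Localization.AtPrime p
  set q := p.map (algebraMap R S) with hqdef
  set P := ((p ^ n).map (algebraMap R Rp)).comap (algebraMap R Rp)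
  refine le_antisymm (Ideal.map_le_iff_le_comap.mpr fun x hx => ?_) fun y hy => ?_
  · obtain ⟨⟨⟨a, ha⟩, s⟩, hs⟩ := (IsLocalization.mem_map_algebraMap_iff p.primeCompl Rp).mp hx
    have hs' : algebraMap R Rp (x * s) = algebraMap R Rp a := by rw [map_mul]; exact hs
    obtain ⟨c, hc⟩ := (IsLocalization.eq_iff_exists p.primeCompl Rp).mp hs'
    have hreg : ∀ r : R, r ∉ p → algebraMap R S r ∉ q := fun r hr hrq => by
      have hinj : Function.Injective (r • (LinearMap.id : (R ⧸ p) →ₗ[R] R ⧸ p)) := by
        rw [← LinearMap.ker_eq_bot, eq_bot_iff]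
        intro z hz
        obtain ⟨z, rfl⟩ := Submodule.Quotient.mk_surjective _ z
        have hz' : r * z ∈ p := (Submodule.Quotient.mk_eq_zero _).mp hz
        exact (Submodule.Quotient.mk_eq_zero _).mpr ((‹p.IsPrime›.mem_or_mem hz').resolve_left hr)
      have h0 := Module.Flat.lTensor_preserves_injective_linearMap (M := S) _ hinj
        (a₁ := (1 : S) ⊗ₜ Submodule.Quotient.mk 1) (a₂ := 0) (by
          rw [map_zero, LinearMap.lTensor_tmul, LinearMap.smul_apply, LinearMap.id_apply,
            ← TensorProduct.smul_tmul, one_tmul_eq_zero_iff, Algebra.smul_def, mul_one]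
          exact hrq)
      rw [one_tmul_eq_zero_iff] at h0
      exact Ideal.IsPrime.ne_top (inferInstance : (p.map (algebraMap R S)).IsPrime) ((Ideal.eq_top_iff_one _).mpr h0)
    rw [Ideal.mem_comap, Ideal.mem_comap]
    have hmem : algebraMap R S (c * s) * algebraMap R S x ∈ q ^ n := by
      rw [← map_mul, hqdef, ← Ideal.map_pow, show (c : R) * s * x = c * a by rw [← hc]; ring]
      exact Ideal.mem_map_of_mem _ (Ideal.mul_mem_left _ _ ha)
    have h1 := Ideal.mem_map_of_mem (algebraMap S (Localization.AtPrime q)) hmem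
    rw [map_mul] at h1
    exact (Ideal.unit_mul_mem_iff_mem _ (IsLocalization.map_units (Localization.AtPrime q)
      (⟨algebraMap R S (c * s), hreg _ (fun h => ((‹p.IsPrime›.mem_or_mem h).elim c.2 s.2))⟩ : q.primeCompl))).mp h1
  · obtain ⟨⟨⟨b, hb⟩, t⟩, ht⟩ := (IsLocalization.mem_map_algebraMap_iff q.primeCompl (Localization.AtPrime q)).mp hy
    have ht' : algebraMap S (Localization.AtPrime q) (y * t) = algebraMap S (Localization.AtPrime q) b := by
      rw [map_mul]; exact ht
    obtain ⟨c, hc⟩ := (IsLocalization.eq_iff_exists q.primeCompl (Localization.AtPrime q)).mp ht'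
    have hty : (c : S) * t * y ∈ (p ^ n).map (algebraMap R S) := by
      rw [Ideal.map_pow, ← hqdef, show (c : S) * t * y = c * b by rw [← hc]; ring]
      exact Ideal.mul_mem_left _ _ hb
    have htq : (c : S) * t ∉ p.map (algebraMap R S) := fun h =>
      ((inferInstance : (p.map (algebraMap R S)).IsPrime).mem_or_mem h).elim c.2 t.2
    let I := (p ^ n).map (algebraMap R Rp)
    let j : (R ⧸ P) →ₗ[R] (Rp ⧸ I) := Submodule.liftQ P
      ((I.mkQ.restrictScalars R) ∘ₗ Algebra.linearMap R Rp) (fun z hz => (Submodule.Quotient.mk_eq_zero I).mpr hz)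
    have hj : Function.Injective j := by
      rw [← LinearMap.ker_eq_bot]
      exact Submodule.ker_liftQ_eq_bot _ _ _ fun z hz => (Submodule.Quotient.mk_eq_zero I).mp hz
    have hreg := reg_of_injective ((c : S) * t) j hj (reg_of_pow p _ htq n (Rp ⧸ I) fun a ha z => by
      obtain ⟨z, rfl⟩ := Submodule.Quotient.mk_surjective I z
      rw [← Submodule.Quotient.mk_smul, Submodule.Quotient.mk_eq_zero, smul_eq_mul]
      rw [← Localization.AtPrime.map_eq_maximalIdeal, ← Ideal.map_pow] at ha
      exact Ideal.mul_mem_right _ _ ha)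
    rw [← one_tmul_eq_zero_iff]
    refine hreg _ ?_
    rw [TensorProduct.smul_tmul', smul_eq_mul, one_tmul_eq_zero_iff]
    exact Ideal.map_mono Ideal.le_comap_map hty

end Groth.Agent.S2138
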