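import Groth.Statements.S6278
import Mathlib.RingTheory.IntegralClosure.IntegrallyClosed
import Mathlib.RingTheory.Localization.FractionRing
import Mathlib.RingTheory.Localization.AtPrime.Basic
import Mathlib.RingTheory.Ideal.Colon

set_option autoImplicit false
universe u
open CAlg

namespace Groth.Agent.S6278

/-- A ring whose local rings are normal domains is integrally closed in its total fraction ring. -/
theorem aux {R K : Type u} [CommRing R] [CommRing K] [Algebra R K] [IsFractionRing R K]
    (hR : ∀ (p : Ideal R) [p.IsPrime], IsDomain (Localization.AtPrime p) ∧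
      IsIntegrallyClosed (Localization.AtPrime p)) : IsIntegrallyClosedIn R K := by
  rw [isIntegrallyClosedIn_iff]
  refine ⟨IsFractionRing.injective R (K), fun {x} hx => ?_⟩
  obtain ⟨b, ⟨a, ha⟩, rfl⟩ := IsLocalization.exists_mk'_eq (nonZeroDivisors R) x
  let I : Ideal R := (Ideal.span {a}).colon {b}
  suffices htop : I = ⊤ by
    have h1 : (1 : R) ∈ I := htop ▸ Submodule.mem_top
    obtain ⟨c, hc⟩ := Ideal.mem_span_singleton'.mp (Submodule.mem_colon_singleton.mp h1)
    refine ⟨c, IsLocalization.eq_mk'_iff_mul_eq.mpr ?_⟩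
    rw [← map_mul, hc, one_smul]
  by_contra htop
  obtain ⟨m, hm, hIm⟩ := Ideal.exists_le_maximal I htop
  let A := Localization.AtPrime m
  obtain ⟨_, _⟩ := hR m
  let L := FractionRing A
  let g : R →+* L := (algebraMap A L).comp (algebraMap R A)
  have hg : ∀ c : nonZeroDivisors R, IsUnit (g c) := by
    intro c
    refine isUnit_iff_ne_zero.mpr fun h => ?_
    have h0 : algebraMap R A (c : R) = 0 :=
      IsFractionRing.injective A L ((show algebraMap A L (algebraMap R A c) = 0 from h).trans (map_zero _).symm)
    obtain ⟨⟨s, hs⟩, hs0⟩ := (IsLocalization.map_eq_zero_iff m.primeCompl A _).mp h0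
    exact hs ((show s = 0 from (mem_nonZeroDivisors_iff.mp c.2).2 s hs0).symm ▸ m.zero_mem)
  obtain ⟨ψ, hψ⟩ : ∃ ψ : K →+* L, ∀ r, ψ (algebraMap R K r) = g r :=
    ⟨IsLocalization.lift hg, fun r => IsLocalization.lift_eq hg r⟩
  have hcomp : (algebraMap A L).comp (algebraMap R A) = ψ.comp (algebraMap R K) :=
    RingHom.ext fun y => (hψ y).symm
  have hint : IsIntegral A (ψ (IsLocalization.mk' K b (⟨a, ha⟩ : nonZeroDivisors R))) :=
    IsIntegral.map_of_comp_eq (algebraMap R A) ψ hcomp hx
  obtain ⟨y, hy⟩ := IsIntegrallyClosed.algebraMap_eq_of_integral hint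
  obtain ⟨c, s, rfl⟩ := IsLocalization.exists_mk'_eq m.primeCompl y
  have h1 : algebraMap R A b = algebraMap R A a * IsLocalization.mk' A c s := by
    refine IsFractionRing.injective A L ?_
    rw [map_mul, hy, eq_comm]
    have := congrArg ψ (IsLocalization.mk'_spec' K b (⟨a, ha⟩ : nonZeroDivisors R))
    rw [map_mul, hψ, hψ] at this
    exact this
  have h2 : algebraMap R A (b * s) = algebraMap R A (a * c) := by
    rw [map_mul, map_mul, h1, mul_assoc, IsLocalization.mk'_spec]
  obtain ⟨⟨t, ht⟩, ht'⟩ := (IsLocalization.eq_iff_exists m.primeCompl A).mp h2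
  refine (m.primeCompl.mul_mem ht s.2) (hIm (Submodule.mem_colon_singleton.mpr ?_))
  exact Ideal.mem_span_singleton'.mpr ⟨t * c, by simp only [smul_eq_mul] at ht' ⊢; linear_combination -ht'⟩


/-- A normal ring R (all localizations at primes are integrally closed domains) is integrally closed in
its total ring of fractions. -/
theorem result (R : Type u) [CommRing R] (hR : EGA4.IsNormalRing R) : IsIntegrallyClosedIn R (FractionRing R) := by
  exact aux hR

end Groth.Agent.S6278
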