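import Groth.Statements.S2140
import Mathlib.RingTheory.AlgebraicIndependent.TranscendenceBasis
import Mathlib.RingTheory.Localization.Module
import Mathlib.RingTheory.Localization.Away.AdjoinRoot
import Mathlib.RingTheory.Finiteness.ModuleFinitePresentation
import Mathlib.RingTheory.Algebraic.Integral

set_option autoImplicit false
universe u
open CAlg

namespace Groth.Agent.S2140

/-- Let `R → S` be an injective ring map of finite type between domains. Then there are nonzero `f ∈ R`
and `g ∈ S` such that `S_{fg}` is a finitely presented `R_f`-algebra. -/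
theorem result {R S : Type u} [CommRing R] [IsDomain R] [CommRing S] [IsDomain S]
    [Algebra R S] [Algebra.FiniteType R S] (hinj : Function.Injective (algebraMap R S)) :
    ∃ (f : R) (g : S), f ≠ 0 ∧ g ≠ 0 ∧
      ∀ (Rf Sfg : Type u) [CommRing Rf] [CommRing Sfg] [Algebra R Rf] [IsLocalization.Away f Rf]
        [Algebra S Sfg] [IsLocalization.Away (algebraMap R S f * g) Sfg] [Algebra Rf Sfg] [Algebra R Sfg]
        [IsScalarTower R S Sfg] [IsScalarTower R Rf Sfg], Algebra.FinitePresentation Rf Sfg := by
  classical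
  obtain ⟨G, hG⟩ := (Algebra.FiniteType.out : (⊤ : Subalgebra R S).FG)
  haveI : FaithfulSMul R S := (faithfulSMul_iff_algebraMap_injective R S).2 hinj
  haveI : Algebra.IsAlgebraic (Algebra.adjoin R (G : Set S)) S :=
    ⟨fun x => isAlgebraic_algebraMap (⟨x, hG ▸ Algebra.mem_top⟩ : Algebra.adjoin R (G : Set S))⟩
  obtain ⟨u, huG, hu⟩ := exists_isTranscendenceBasis_subset (R := R) (G : Set S)
  haveI : Finite u := (G.finite_toSet.subset huG).to_subtype
  let T : Subalgebra R S := Algebra.adjoin R (Set.range ((↑) : u → S))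
  haveI : Algebra.IsAlgebraic T S := hu.isAlgebraic
  haveI : Algebra.FinitePresentation R T :=
    Algebra.FinitePresentation.equiv hu.1.aevalEquiv
  choose a ha haint using fun s : S => (Algebra.IsAlgebraic.isAlgebraic (R := T) s).exists_integral_multiple
  let S₀ : Subalgebra T S := Algebra.adjoin T ((fun s => a s • s) '' (G : Set S))
  obtain ⟨F, hF⟩ : (Subalgebra.toSubmodule S₀).FG :=
    fg_adjoin_of_finite (G.finite_toSet.image _) (by rintro _ ⟨s, -, rfl⟩; exact haint s)
  obtain ⟨b, hb, hbmax⟩ := exists_maximal_linearIndepOn T (fun i : F => (i : S))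
  have hmax : ∀ i : F, ∃ c : T, c ≠ 0 ∧ c • (i : S) ∈ Submodule.span T ((fun i : F => (i : S)) '' b) := by
    intro i
    by_cases hi : i ∈ b
    · exact ⟨1, one_ne_zero, by rw [one_smul]; exact Submodule.subset_span ⟨i, hi, rfl⟩⟩
    · exact hbmax i hi
  choose c hc hcmem using hmax
  let H : T := (∏ s ∈ G, a s) * ∏ i, c i
  have hH : H ≠ 0 := mul_ne_zero (Finset.prod_ne_zero_iff.2 fun s _ => ha s)
    (Finset.prod_ne_zero_iff.2 fun i _ => hc i)
  have hHS : (H : S) ≠ 0 := fun h => hH (Subtype.ext h)
  let N := Submodule.span T ((fun i : F => (i : S)) '' b)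
  have hS₀ : ∀ z ∈ S₀, H • z ∈ N := by
    intro z hz
    have hz' : z ∈ Submodule.span T (F : Set S) := hF.ge hz
    refine Submodule.span_induction (p := fun z _ => H • z ∈ N) (fun x hx => ?_) ?_ ?_ ?_ hz'
    · rw [show H = ((∏ s ∈ G, a s) * ∏ i ∈ Finset.univ.erase (⟨x, hx⟩ : F), c i) * c ⟨x, hx⟩ by
        rw [mul_assoc, Finset.prod_erase_mul _ _ (Finset.mem_univ _)], mul_smul]
      exact N.smul_mem _ (hcmem ⟨x, hx⟩)
    · rw [smul_zero]; exact N.zero_mem
    · intro x y _ _ hx hy; rw [smul_add]; exact N.add_mem hx hy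
    · intro r x _ hx; rw [smul_comm]; exact N.smul_mem r hx
  have hS : ∀ s : S, ∃ n : ℕ, H ^ n • s ∈ N := by
    have h1 : ∀ s : S, ∃ n : ℕ, H ^ n • s ∈ S₀ := by
      intro s
      have hs : s ∈ Algebra.adjoin R (G : Set S) := hG ▸ Algebra.mem_top
      induction hs using Algebra.adjoin_induction with
      | mem x hx =>
        refine ⟨1, ?_⟩
        rw [pow_one, show H = ((∏ s ∈ G.erase x, a s) * ∏ i, c i) * a x by
          rw [mul_right_comm, Finset.prod_erase_mul _ _ hx], mul_smul]
        exact S₀.smul_mem (Algebra.subset_adjoin ⟨x, hx, rfl⟩) _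
      | algebraMap r =>
        refine ⟨0, ?_⟩
        rw [pow_zero, one_smul, IsScalarTower.algebraMap_apply R T S]
        exact S₀.algebraMap_mem _
      | add x y _ _ hx hy =>
        obtain ⟨n, hn⟩ := hx
        obtain ⟨m, hm⟩ := hy
        refine ⟨n + m, ?_⟩
        rw [smul_add]
        refine S₀.add_mem ?_ ?_
        · rw [add_comm n m, pow_add, mul_smul]; exact S₀.smul_mem hn _
        · rw [pow_add, mul_smul]; exact S₀.smul_mem hm _
      | mul x y _ _ hx hy =>
        obtain ⟨n, hn⟩ := hx
        obtain ⟨m, hm⟩ := hy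
        exact ⟨n + m, by rw [pow_add, ← smul_mul_smul_comm]; exact S₀.mul_mem hn hm⟩
    intro s
    obtain ⟨n, hn⟩ := h1 s
    exact ⟨n + 1, by rw [pow_succ', mul_smul]; exact hS₀ _ hn⟩
  refine ⟨1, (H : S), one_ne_zero, hHS, ?_⟩
  intro Rf Sfg _ _ _ _ _ _ _ _ _ _
  haveI : IsLocalization.Away (H : S) Sfg := by
    have h : algebraMap R S 1 * (H : S) = H := by rw [map_one, one_mul]
    rw [← h]; infer_instance
  let TH := Localization.Away H
  haveI : IsScalarTower R T Sfg := IsScalarTower.of_algebraMap_eq fun r => by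
    rw [IsScalarTower.algebraMap_apply R S Sfg]
    rfl
  have hunit : IsUnit (algebraMap T Sfg H) := IsLocalization.Away.algebraMap_isUnit (H : S)
  letI : Algebra TH Sfg := (IsLocalization.Away.lift H hunit).toAlgebra
  haveI : IsScalarTower T TH Sfg := IsScalarTower.of_algebraMap_eq fun t =>
    (IsLocalization.Away.lift_eq H hunit t).symm
  haveI : IsScalarTower R TH Sfg := IsScalarTower.of_algebraMap_eq fun r => by
    rw [IsScalarTower.algebraMap_apply R T Sfg, IsScalarTower.algebraMap_apply R T TH,
      ← IsScalarTower.algebraMap_apply T TH Sfg]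
  let φ : S →ₗ[T] Sfg := (IsScalarTower.toAlgHom T S Sfg).toLinearMap
  have hφ : Function.Injective φ := IsLocalization.injective Sfg
    (powers_le_nonZeroDivisors_of_noZeroDivisors hHS)
  let v : b → Sfg := fun i => φ ((i : F) : S)
  have hli : LinearIndependent TH v :=
    LinearIndependent.localization TH (Submonoid.powers H)
      (hb.map' φ (LinearMap.ker_eq_bot.2 hφ))
  have hspan : ⊤ ≤ Submodule.span TH (Set.range v) := by
    intro z _
    obtain ⟨n, s, hs⟩ := IsLocalization.Away.surj (H : S) z
    obtain ⟨m, hm⟩ := hS s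
    have h1 : φ (H ^ m • s) ∈ Submodule.span TH (Set.range v) := by
      have h2 : φ (H ^ m • s) ∈ Submodule.map φ N := ⟨_, hm, rfl⟩
      rw [show N = Submodule.span T ((fun i : F => (i : S)) '' b) from rfl, Submodule.map_span,
        ← Set.image_comp, Set.image_eq_range] at h2
      exact Submodule.span_le_restrictScalars T TH _ h2
    have h3 : φ (H ^ m • s) = algebraMap T TH (H ^ (n + m)) • z := by
      rw [algebraMap_smul, map_smul, Algebra.smul_def, Algebra.smul_def]
      show algebraMap T Sfg (H ^ m) * algebraMap S Sfg s = _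
      rw [← hs, pow_add, map_mul, map_pow, map_pow,
        show algebraMap T Sfg H = algebraMap S Sfg (H : S) from rfl]
      ring
    obtain ⟨w, hw⟩ := (IsLocalization.map_units TH (⟨H ^ (n + m), _, rfl⟩ : Submonoid.powers H))
    have h4 := Submodule.smul_mem _ (↑w⁻¹ : TH) h1
    rwa [h3, ← hw, smul_smul, Units.inv_mul, one_smul] at h4
  haveI : Module.Free TH Sfg := Module.Free.of_basis (Module.Basis.mk hli hspan)
  haveI : Module.Finite TH Sfg := Module.Finite.of_basis (Module.Basis.mk hli hspan)
  haveI : Module.FinitePresentation TH Sfg := Module.finitePresentation_of_projective TH Sfg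
  haveI : Algebra.FinitePresentation T TH := IsLocalization.Away.finitePresentation H
  haveI : Algebra.FinitePresentation R TH := Algebra.FinitePresentation.trans R T TH
  haveI : Algebra.FinitePresentation R Sfg := Algebra.FinitePresentation.trans R TH Sfg
  haveI : Algebra.FinitePresentation R Rf := IsLocalization.Away.finitePresentation (1 : R)
  exact Algebra.FinitePresentation.of_restrict_scalars_finitePresentation R Rf Sfg

end Groth.Agent.S2140
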