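import Groth.Statements.S2143
import Groth.Agent.Lib.Dim.LocalDim

set_option autoImplicit false
universe u
open CAlg

namespace Groth.Agent.S2143

/-- (1) = (3): let `S` be of finite type over a field `k` and `𝔭` a prime of `S`. The local dimension of
`Spec S` at `𝔭` is the infimum of `dim S_𝔪` over the maximal ideals `𝔪 ⊇ 𝔭`. -/
theorem result {k S : Type u} [Field k] [CommRing S] [Algebra k S] [Algebra.FiniteType k S]
    (p : Ideal S) [p.IsPrime] :
    FlatMor.localDim (PrimeSpectrum S) ⟨p, inferInstance⟩ =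
      ⨅ m : {m : Ideal S // m.IsMaximal ∧ p ≤ m}, ringKrullDim (Localization.AtPrime (hp := m.2.1.isPrime') m.1) := by
  classical
  open Groth.Agent.Lib.Dim in
  have hh : ∀ (m : Ideal S) [m.IsMaximal],
      ringKrullDim (Localization.AtPrime m) = (Local.dimAt k m : WithBot ℕ∞) := fun m _ => by
    rw [IsLocalization.AtPrime.ringKrullDim_eq_height m, Local.height_maximal_eq_dimAt k m]
    rfl
  rw [Groth.Agent.Lib.Dim.LocalDim.localDim_eq_dimAt k p]
  open Groth.Agent.Lib.Dim in
  refine le_antisymm (le_iInf fun m => ?_) ?_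
  · obtain ⟨m, hm, hpm⟩ := m
    rw [hh m]
    exact_mod_cast Groth.Agent.Lib.Dim.Local.dimAt_mono k hpm
  · obtain ⟨g, hg, hsep, -⟩ := Groth.Agent.Lib.Dim.LocalDim.exists_notMem_ringKrullDim_away_le k p
    obtain ⟨m, hm, hpm, hgm⟩ := Groth.Agent.Lib.Dim.Local.exists_isMaximal_ge_notMem k p hg
    refine iInf_le_of_le ⟨m, hm, hpm⟩ ?_
    rw [hh m]
    refine Nat.cast_le.mpr ((Groth.Agent.Lib.Dim.Local.dimAt_le_iff k m _).mpr fun q hq hle => ?_)
    have : q.IsPrime := hq.1.1
    exact Groth.Agent.Lib.Dim.Local.dimQ_le_dimAt_of_le k (hsep q hq fun h => hgm (hle h))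

end Groth.Agent.S2143
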