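import Groth.Statements.S2145
import Groth.Agent.H20.SpreadIso

set_option autoImplicit false
universe u
open CAlg

namespace Groth.Agent.S2145

open Groth.Agent.H20.SpreadIso

theorem exists_unit {S : Type u} [CommRing S] (q : Ideal S) [q.IsPrime] {g : S} (hg : g ∉ q)
    (x : Localization.Away g) (hx : IsUnit (toLoc q hg x)) :
    ∃ (a : S) (n : ℕ), a ∉ q ∧ x * algebraMap S _ (g ^ n) = algebraMap S _ a := by
  obtain ⟨a, ⟨_, n, rfl⟩, rfl⟩ := IsLocalization.exists_mk'_eq (Submonoid.powers g) x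
  refine ⟨a, n, fun ha => ?_, IsLocalization.mk'_spec _ a _⟩
  have h := congrArg (toLoc q hg) (IsLocalization.mk'_spec (Localization.Away g) a
      (⟨g ^ n, n, rfl⟩ : Submonoid.powers g))
  rw [map_mul, AlgHom.commutes, AlgHom.commutes] at h
  have hu : IsUnit (algebraMap S (Localization.AtPrime q) a) := h ▸ hx.mul
    (IsLocalization.map_units _ (⟨g ^ n, fun hh => hg (‹q.IsPrime›.mem_of_pow_mem n hh)⟩ : q.primeCompl))
  exact (IsLocalization.AtPrime.isUnit_to_map_iff (Localization.AtPrime q) q a).mp hu ha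

theorem isUnit_res {S : Type u} [CommRing S] {g : S} {x : Localization.Away g} {a : S} {n : ℕ}
    (hx : x * algebraMap S _ (g ^ n) = algebraMap S _ a) {h : S} (hgh : g ∣ h) (hah : a ∣ h) :
    IsUnit (res hgh x) := by
  have h1 := congrArg (res hgh) hx
  rw [map_mul, AlgHom.commutes, AlgHom.commutes] at h1
  exact isUnit_of_mul_isUnit_left (y := algebraMap S _ (g ^ n)) (h1 ▸
    isUnit_of_dvd_unit (map_dvd _ hah) (IsLocalization.Away.algebraMap_isUnit h))

theorem res_res {S : Type u} [CommRing S] {g h k : S} (h1 : g ∣ h) (h2 : h ∣ k)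
    (x : Localization.Away g) : res h2 (res h1 x) = res (h1.trans h2) x :=
  DFunLike.congr_fun (away_algHom_ext ((res h2).comp (res h1)) (res (h1.trans h2))) x

noncomputable def extend {R S T : Type u} [CommRing R] [CommRing S] [CommRing T] [Algebra R S]
    [Algebra R T] {g : S} (f : S →ₐ[R] T) (hf : IsUnit (f g)) : Localization.Away g →ₐ[R] T :=
  IsLocalization.liftAlgHom (M := Submonoid.powers g) (f := f) fun y => by
    obtain ⟨_, n, rfl⟩ := y
    exact (map_pow f g n).symm ▸ hf.pow n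

theorem extend_algebraMap {R S T : Type u} [CommRing R] [CommRing S] [CommRing T] [Algebra R S]
    [Algebra R T] {g : S} (f : S →ₐ[R] T) (hf : IsUnit (f g)) (s : S) :
    extend f hf (algebraMap S _ s) = f s :=
  IsLocalization.lift_eq _ s

theorem algHom_ext' {R S T : Type u} [CommRing R] [CommRing S] [CommRing T] [Algebra R S]
    [Algebra R T] {g : S} (f₁ f₂ : Localization.Away g →ₐ[R] T)
    (h : ∀ s, f₁ (algebraMap S _ s) = f₂ (algebraMap S _ s)) : f₁ = f₂ :=
  IsLocalization.algHom_ext (Submonoid.powers g) (AlgHom.ext h)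

/-- Let `S`, `S'` be finitely presented `R`-algebras and `𝔮 ⊆ S`, `𝔮' ⊆ S'` primes with `S_𝔮 ≅ S'_{𝔮'}`
as `R`-algebras. Then `S_g ≅ S'_{g'}` as `R`-algebras for some `g ∉ 𝔮`, `g' ∉ 𝔮'`. -/
theorem result {R S S' : Type u} [CommRing R] [CommRing S] [CommRing S'] [Algebra R S]
    [Algebra R S'] [Algebra.FinitePresentation R S] [Algebra.FinitePresentation R S'] (q : Ideal S) [q.IsPrime]
    (q' : Ideal S') [q'.IsPrime] (e : Localization.AtPrime q ≃ₐ[R] Localization.AtPrime q') :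
    ∃ (g : S) (g' : S'), g ∉ q ∧ g' ∉ q' ∧ Nonempty (Localization.Away g ≃ₐ[R] Localization.Away g') := by
  obtain ⟨g, hg, α₀, hα₀⟩ := exists_lift q (e.symm.toAlgHom.comp
    (IsScalarTower.toAlgHom R S' (Localization.AtPrime q')))
  obtain ⟨g', hg', φ, hφ⟩ := exists_lift q' (e.toAlgHom.comp
    (IsScalarTower.toAlgHom R S (Localization.AtPrime q)))
  have hα₀' : ∀ s', toLoc q hg (α₀ s') = e.symm (algebraMap S' _ s') := hα₀
  have hφ' : ∀ s, toLoc q' hg' (φ s) = e (algebraMap S _ s) := hφ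
  obtain ⟨a, n, ha, hxa⟩ := exists_unit q hg (α₀ g') (by
    rw [hα₀']
    exact (IsLocalization.map_units _ (⟨g', hg'⟩ : q'.primeCompl)).map e.symm)
  -- first stage
  have hd₁ : g ∣ g * a := dvd_mul_right g a
  have hg₁ : g * a ∉ q := ‹q.IsPrime›.mul_notMem hg ha
  let α₁ : Localization.Away g' →ₐ[R] Localization.Away (g * a) :=
    extend (((res hd₁).restrictScalars R).comp α₀) (isUnit_res hxa hd₁ (dvd_mul_left a g))
  have hα₁c : ∀ s, α₁ (algebraMap S' _ s) = res hd₁ (α₀ s) := fun s => extend_algebraMap _ _ s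
  have hα₁ : ∀ y, toLoc q hg₁ (α₁ y) = e.symm (toLoc q' hg' y) := by
    refine DFunLike.congr_fun (algHom_ext' (((toLoc q hg₁).restrictScalars R).comp α₁)
      (e.symm.toAlgHom.comp ((toLoc q' hg').restrictScalars R)) fun s => ?_)
    show toLoc q hg₁ (α₁ (algebraMap S' _ s)) = e.symm (toLoc q' hg' (algebraMap S' _ s))
    rw [hα₁c, AlgHom.commutes]
    exact (toLoc_res q hd₁ hg hg₁ _).trans (hα₀' s)
  obtain ⟨g₂, hd₂, hg₂, heq⟩ := exists_res_eq q hg₁ (α₁.comp φ)
    (IsScalarTower.toAlgHom R S (Localization.Away (g * a))) fun s => by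
      rw [AlgHom.comp_apply, hα₁, hφ', IsScalarTower.toAlgHom_apply, AlgHom.commutes]
      exact e.symm_apply_apply _
  let α₂ : Localization.Away g' →ₐ[R] Localization.Away g₂ := ((res hd₂).restrictScalars R).comp α₁
  have hα₂φ : ∀ s, α₂ (φ s) = algebraMap S _ s := fun s => (heq s).trans (AlgHom.commutes _ s)
  have hα₂ : ∀ y, toLoc q hg₂ (α₂ y) = e.symm (toLoc q' hg' y) := fun y =>
    (toLoc_res q hd₂ hg₁ hg₂ _).trans (hα₁ y)
  -- second stage
  obtain ⟨b, m, hb, hxb⟩ := exists_unit q' hg' (φ g₂) (by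
    rw [hφ']
    exact (IsLocalization.map_units _ (⟨g₂, hg₂⟩ : q.primeCompl)).map e)
  have hd₃ : g' ∣ g' * b := dvd_mul_right g' b
  have hg₃ : g' * b ∉ q' := ‹q'.IsPrime›.mul_notMem hg' hb
  let β₃ : Localization.Away g₂ →ₐ[R] Localization.Away (g' * b) :=
    extend (((res hd₃).restrictScalars R).comp φ) (isUnit_res hxb hd₃ (dvd_mul_left b g'))
  have hβ₃c : ∀ s, β₃ (algebraMap S _ s) = res hd₃ (φ s) := fun s => extend_algebraMap _ _ s
  have hβ₃ : ∀ z, toLoc q' hg₃ (β₃ z) = e (toLoc q hg₂ z) := by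
    refine DFunLike.congr_fun (algHom_ext' (((toLoc q' hg₃).restrictScalars R).comp β₃)
      (e.toAlgHom.comp ((toLoc q hg₂).restrictScalars R)) fun s => ?_)
    show toLoc q' hg₃ (β₃ (algebraMap S _ s)) = e (toLoc q hg₂ (algebraMap S _ s))
    rw [hβ₃c, AlgHom.commutes]
    exact (toLoc_res q' hd₃ hg' hg₃ _).trans (hφ' s)
  obtain ⟨g₄, hd₄, hg₄, heq'⟩ := exists_res_eq q' hg₃
    (β₃.comp (α₂.comp (IsScalarTower.toAlgHom R S' (Localization.Away g'))))
    (IsScalarTower.toAlgHom R S' (Localization.Away (g' * b))) fun s => by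
      rw [AlgHom.comp_apply, AlgHom.comp_apply, hβ₃, hα₂, IsScalarTower.toAlgHom_apply,
        IsScalarTower.toAlgHom_apply, AlgHom.commutes, AlgHom.commutes]
      exact e.apply_symm_apply _
  let β₄ : Localization.Away g₂ →ₐ[R] Localization.Away g₄ := ((res hd₄).restrictScalars R).comp β₃
  have hβ₄ : ∀ s', β₄ (α₂ (algebraMap S' _ s')) = algebraMap S' _ s' := fun s' =>
    (heq' s').trans (AlgHom.commutes _ s')
  -- final stage
  obtain ⟨c, k, hc, hxc⟩ := exists_unit q hg₂ (α₂ (algebraMap S' _ g₄)) (by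
    rw [hα₂, AlgHom.commutes]
    exact (IsLocalization.map_units _ (⟨g₄, hg₄⟩ : q'.primeCompl)).map e.symm)
  have hd₅ : g₂ ∣ g₂ * c := dvd_mul_right g₂ c
  let α₅₀ : S' →ₐ[R] Localization.Away (g₂ * c) :=
    ((res hd₅).restrictScalars R).comp (α₂.comp (IsScalarTower.toAlgHom R S' (Localization.Away g')))
  let α₅ : Localization.Away g₄ →ₐ[R] Localization.Away (g₂ * c) :=
    extend α₅₀ (isUnit_res hxc hd₅ (dvd_mul_left c g₂))
  have hα₅c : ∀ s', α₅ (algebraMap S' _ s') = res hd₅ (α₂ (algebraMap S' _ s')) := fun s' =>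
    extend_algebraMap _ _ s'
  have hu : IsUnit ((β₄.comp (IsScalarTower.toAlgHom R S (Localization.Away g₂))) (g₂ * c)) := by
    rw [map_mul]
    show IsUnit (β₄ (algebraMap S (Localization.Away g₂) g₂) * β₄ (algebraMap S (Localization.Away g₂) c))
    refine ((IsLocalization.Away.algebraMap_isUnit g₂).map β₄).mul ?_
    rw [← hxc, map_mul, hβ₄, map_pow]
    exact (IsLocalization.Away.algebraMap_isUnit g₄).mul
      (((IsLocalization.Away.algebraMap_isUnit g₂).pow k).map β₄)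
  let β₅ : Localization.Away (g₂ * c) →ₐ[R] Localization.Away g₄ := extend _ hu
  have hβ₅c : ∀ s, β₅ (algebraMap S _ s) = β₄ (algebraMap S _ s) := fun s => extend_algebraMap _ _ s
  have hβ₅ : ∀ z, β₅ (res hd₅ z) = β₄ z := by
    refine DFunLike.congr_fun (algHom_ext' (β₅.comp ((res hd₅).restrictScalars R)) β₄ fun s => ?_)
    show β₅ (res hd₅ (algebraMap S _ s)) = β₄ (algebraMap S _ s)
    rw [AlgHom.commutes, hβ₅c]
  have hα₅ : ∀ y, α₅ (res (hd₃.trans hd₄) y) = res hd₅ (α₂ y) := by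
    refine DFunLike.congr_fun (algHom_ext' (α₅.comp ((res (hd₃.trans hd₄)).restrictScalars R))
      (((res hd₅).restrictScalars R).comp α₂) fun s => ?_)
    show α₅ (res (hd₃.trans hd₄) (algebraMap S' _ s)) = res hd₅ (α₂ (algebraMap S' _ s))
    rw [AlgHom.commutes, hα₅c]
  refine ⟨g₂ * c, g₄, ‹q.IsPrime›.mul_notMem hg₂ hc, hg₄, ⟨AlgEquiv.ofAlgHom β₅ α₅ ?_ ?_⟩⟩
  · refine algHom_ext' _ _ fun s' => ?_
    rw [AlgHom.comp_apply, hα₅c, AlgHom.id_apply]
    exact (hβ₅ _).trans (hβ₄ s')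
  · refine algHom_ext' _ _ fun s => ?_
    rw [AlgHom.comp_apply, hβ₅c, AlgHom.id_apply]
    have h1 : β₄ (algebraMap S _ s) = res (hd₃.trans hd₄) (φ s) := by
      show res hd₄ (β₃ (algebraMap S _ s)) = _
      rw [hβ₃c]
      exact res_res hd₃ hd₄ _
    rw [h1, hα₅, hα₂φ, AlgHom.commutes]

end Groth.Agent.S2145
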