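import Groth.Statements.S2146
import Mathlib.RingTheory.FinitePresentation
import Mathlib.RingTheory.Localization.Away.Basic
import Mathlib.RingTheory.Ideal.Quotient.Operations
-- import your own Groth.Agent.* helpers here

set_option autoImplicit false
universe u
open CAlg

namespace Groth.Agent.S2146

/-- Let `S` be a finitely presented `R`-algebra and `𝔮` a prime of `S` over `𝔭` such that the induced
map `R_𝔭 → S_𝔮` is bijective. Then for some `f ∉ 𝔭` there is an `R_f`-algebra `C` with `S_f ≅ R_f ×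
C` as `R_f`-algebras. -/
theorem result {R S : Type u} [CommRing R] [CommRing S] [Algebra R S]
    [Algebra.FinitePresentation R S] (q : Ideal S) [q.IsPrime] (p : Ideal R) [p.IsPrime] [q.LiesOver p]
    (h : Function.Bijective (Localization.localRingHom p q (algebraMap R S) (q.over_def p))) :
    ∃ f : R, f ∉ p ∧ ∀ (Rf Sf : Type u) [CommRing Rf] [CommRing Sf] [Algebra R Rf] [IsLocalization.Away f Rf]
      [Algebra S Sf] [IsLocalization.Away (algebraMap R S f) Sf] [Algebra Rf Sf] [Algebra R Sf] [IsScalarTower R S Sf]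
      [IsScalarTower R Rf Sf],
      ∃ (C : Type u) (_ : CommRing C) (_ : Algebra Rf C), Nonempty (Sf ≃ₐ[Rf] (Rf × C)) := by
  classical
  obtain ⟨n, π, hπ, hker⟩ := (inferInstance : Algebra.FinitePresentation R S).out
  obtain ⟨G, hG⟩ := hker
  set loc := Localization.localRingHom p q (algebraMap R S) (q.over_def p) with hloc
  let eq' := RingEquiv.ofBijective loc h
  let ψ : S →+* Localization.AtPrime p :=
    eq'.symm.toRingHom.comp (algebraMap S (Localization.AtPrime q))
  have hψ : ∀ r, ψ (algebraMap R S r) = algebraMap R (Localization.AtPrime p) r := by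
    intro r
    apply eq'.injective
    show eq' (eq'.symm _) = loc _
    rw [eq'.apply_symm_apply]
    exact (Localization.localRingHom_to_map p q (algebraMap R S) (q.over_def p) r).symm
  let ψA : S →ₐ[R] Localization.AtPrime p := { ψ with commutes' := hψ }
  obtain ⟨t, ht⟩ := IsLocalization.exist_integer_multiples p.primeCompl Finset.univ
    (fun i => ψ (π (MvPolynomial.X i)))
  choose r hr using fun i => ht i (Finset.mem_univ i)
  have htu : IsUnit (algebraMap R (Localization.AtPrime p) t) :=
    IsLocalization.map_units (Localization.AtPrime p) t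
  let R₀ := Localization.Away (t : R)
  let j : R₀ →ₐ[R] Localization.AtPrime p :=
    { IsLocalization.Away.lift (S := R₀) (t : R) htu with
      commutes' := fun r => IsLocalization.Away.lift_eq (S := R₀) (t : R) htu r }
  let a : Fin n → R₀ := fun i => algebraMap R R₀ (r i) * IsLocalization.Away.invSelf (t : R)
  let σ₀ : MvPolynomial (Fin n) R →ₐ[R] R₀ := MvPolynomial.aeval a
  have hj : j.comp σ₀ = ψA.comp π := by
    refine MvPolynomial.algHom_ext fun i => htu.mul_left_cancel ?_
    show algebraMap R _ (t : R) * j (σ₀ (MvPolynomial.X i)) = algebraMap R _ (t : R) * ψ (π (MvPolynomial.X i))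
    rw [show σ₀ (MvPolynomial.X i) = a i from MvPolynomial.aeval_X a i, map_mul, j.commutes, ← mul_assoc,
      mul_comm (algebraMap R _ (t : R)), mul_assoc, ← j.commutes (t : R), ← map_mul,
      IsLocalization.Away.mul_invSelf, map_one, mul_one, j.commutes, ← Algebra.smul_def]
    exact hr i
  -- vanishing of the relations
  have hrel : ∀ G₁ ∈ G, ∃ c : R, c ∉ p ∧ algebraMap R R₀ c * σ₀ G₁ = 0 := by
    intro G₁ hG₁
    have hz : π G₁ = 0 := by
      have : G₁ ∈ RingHom.ker π.toRingHom := hG ▸ Ideal.subset_span hG₁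
      exact this
    have h0 : j (σ₀ G₁) = 0 := by
      rw [← AlgHom.comp_apply, hj, AlgHom.comp_apply, hz, map_zero]
    obtain ⟨k, w, hw⟩ := IsLocalization.Away.surj (t : R) (σ₀ G₁)
    have hw0 : algebraMap R (Localization.AtPrime p) w = 0 := by
      rw [← j.commutes, ← hw, map_mul, h0, zero_mul]
    obtain ⟨c, hc⟩ := (IsLocalization.map_eq_zero_iff p.primeCompl _ w).1 hw0
    refine ⟨(t : R) ^ k * c, fun hmem => ?_, ?_⟩
    · rcases (‹p.IsPrime›).mem_or_mem hmem with h1 | h1
      · exact t.2 ((‹p.IsPrime›).mem_of_pow_mem k h1)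
      · exact c.2 h1
    · rw [map_mul, map_pow, mul_comm _ (algebraMap R R₀ (c : R)), mul_assoc,
        mul_comm ((algebraMap R R₀ (t : R)) ^ k), hw, ← map_mul, hc, map_zero]
  choose c hcp hc using hrel
  -- the element killing `t x - r`
  let y : Fin n → S := fun i => algebraMap R S t * π (MvPolynomial.X i) - algebraMap R S (r i)
  have hy : ∀ i, algebraMap S (Localization.AtPrime q) (y i) = 0 := by
    intro i
    have : ψ (y i) = 0 := by
      rw [map_sub, map_mul, hψ, hψ, ← Algebra.smul_def, sub_eq_zero]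
      exact (hr i).symm
    have := congrArg eq' this
    rw [map_zero] at this
    rwa [show eq' (ψ (y i)) = algebraMap S (Localization.AtPrime q) (y i) from eq'.apply_symm_apply _] at this
  choose gi hgi using fun i => (IsLocalization.map_eq_zero_iff q.primeCompl _ (y i)).1 (hy i)
  let g : S := ∏ i, (gi i : S)
  have hgq : g ∉ q := fun hm => by
    obtain ⟨i, -, hi⟩ := (‹q.IsPrime›).prod_mem_iff.1 hm
    exact (gi i).2 hi
  have hgy : ∀ i, g * y i = 0 := by
    intro i
    show (∏ l, (gi l : S)) * y i = 0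
    rw [← Finset.prod_erase_mul _ _ (Finset.mem_univ i), mul_assoc, hgi, mul_zero]
  obtain ⟨G₀, hG₀⟩ := hπ g
  obtain ⟨k, u, hu⟩ := IsLocalization.Away.surj (t : R) (σ₀ G₀)
  have hup : u ∉ p := by
    have hgu : IsUnit (ψ g) :=
      (IsLocalization.map_units (Localization.AtPrime q) (⟨g, hgq⟩ : q.primeCompl)).map eq'.symm.toRingHom
    have : IsUnit (algebraMap R (Localization.AtPrime p) u) := by
      rw [← j.commutes, ← hu, map_mul, ← AlgHom.comp_apply, hj, map_pow, j.commutes, AlgHom.comp_apply, hG₀]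
      exact hgu.mul (htu.pow k)
    exact (IsLocalization.AtPrime.isUnit_to_map_iff (Localization.AtPrime p) p u).1 this
  let f : R := (t : R) * ((∏ G₁ ∈ G.attach, c G₁.1 G₁.2) * u)
  refine ⟨f, ?_, ?_⟩
  · intro hm
    rcases (‹p.IsPrime›).mem_or_mem hm with h1 | h1
    · exact t.2 h1
    rcases (‹p.IsPrime›).mem_or_mem h1 with h2 | h2
    · obtain ⟨G₁, -, h3⟩ := (‹p.IsPrime›).prod_mem_iff.1 h2
      exact hcp G₁.1 G₁.2 h3
    · exact hup h2
  intro Rf Sf _ _ _ _ _ _ _ _ _ _
  have hfu : IsUnit (algebraMap R Rf f) := IsLocalization.Away.algebraMap_isUnit f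
  have hdvd : ∀ d, d ∣ f → IsUnit (algebraMap R Rf d) := fun d hd =>
    isUnit_of_dvd_unit (map_dvd _ hd) hfu
  have htR : IsUnit (algebraMap R Rf (t : R)) := hdvd _ (Dvd.intro _ rfl)
  let i₀ : R₀ →ₐ[R] Rf :=
    { IsLocalization.Away.lift (S := R₀) (t : R) htR with
      commutes' := fun r => IsLocalization.Away.lift_eq (S := R₀) (t : R) htR r }
  let τ : MvPolynomial (Fin n) R →ₐ[R] Rf := i₀.comp σ₀
  have hτ : RingHom.ker π.toRingHom ≤ RingHom.ker τ.toRingHom := by
    rw [← hG, Submodule.span_le]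
    intro G₁ hG₁
    show τ G₁ = 0
    have := congrArg i₀ (hc G₁ hG₁)
    rw [map_mul, map_zero, i₀.commutes] at this
    refine (hdvd (c G₁ hG₁) ?_).mul_right_eq_zero.1 this
    exact ((Finset.dvd_prod_of_mem (fun x : {x // x ∈ G} => c x.1 x.2) (Finset.mem_attach G ⟨G₁, hG₁⟩)).trans
      (dvd_mul_right _ u)).trans (dvd_mul_left _ _)
  let σS : S →+* Rf := RingHom.liftOfSurjective π.toRingHom hπ ⟨τ.toRingHom, hτ⟩
  have hσS : ∀ x, σS (π x) = τ x := fun x =>
    RingHom.liftOfRightInverse_comp_apply π.toRingHom _ _ ⟨τ.toRingHom, hτ⟩ x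
  have hσR : ∀ x, σS (algebraMap R S x) = algebraMap R Rf x := by
    intro x; rw [← π.commutes, hσS, τ.commutes]
  have hfS : IsUnit (σS (algebraMap R S f)) := by rw [hσR]; exact hfu
  let σ : Sf →+* Rf := IsLocalization.Away.lift (S := Sf) (algebraMap R S f) hfS
  have hσ : ∀ x, σ (algebraMap S Sf x) = σS x := fun x =>
    IsLocalization.Away.lift_eq (S := Sf) (algebraMap R S f) hfS x
  have hRSf : ∀ x, algebraMap Rf Sf (algebraMap R Rf x) = algebraMap S Sf (algebraMap R S x) := by
    intro x; rw [← IsScalarTower.algebraMap_apply, ← IsScalarTower.algebraMap_apply]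
  have hσid : ∀ x, σ (algebraMap Rf Sf x) = x := by
    have : σ.comp (algebraMap Rf Sf) = RingHom.id Rf := by
      refine IsLocalization.ringHom_ext (Submonoid.powers f) (RingHom.ext fun x => ?_)
      simp [hRSf, hσ, hσR]
    exact fun x => RingHom.congr_fun this x
  have hgu : IsUnit (σS g) := by
    rw [← hG₀, hσS]
    have := congrArg i₀ hu
    rw [map_mul, map_pow, i₀.commutes, i₀.commutes] at this
    have huu : IsUnit (algebraMap R Rf u) :=
      hdvd u ((dvd_mul_left u _).trans (dvd_mul_left _ _))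
    rw [← this] at huu
    exact (IsUnit.mul_iff.1 huu).1
  obtain ⟨v, hv⟩ := hgu.exists_right_inv
  obtain ⟨e, he⟩ : ∃ e : Sf, e = algebraMap S Sf g * algebraMap Rf Sf v := ⟨_, rfl⟩
  have hσe : σ e = 1 := by rw [he, map_mul, hσ, hσid, hv]
  have heS : ∀ x : S, e * algebraMap S Sf x = e * algebraMap Rf Sf (σS x) := by
    intro x
    obtain ⟨F, rfl⟩ := hπ x
    induction F using MvPolynomial.induction_on with
    | C b => rw [show π (MvPolynomial.C b) = algebraMap R S b from π.commutes b, hσR, hRSf]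
    | add F₁ F₂ h₁ h₂ => simp only [map_add, mul_add, h₁, h₂]
    | mul_X F₁ i h₁ =>
      have hX : e * algebraMap S Sf (π (MvPolynomial.X i)) =
          e * algebraMap Rf Sf (σS (π (MvPolynomial.X i))) := by
        have htS : IsUnit (algebraMap S Sf (algebraMap R S t)) := by
          rw [← hRSf]; exact htR.map _
        refine htS.mul_left_cancel ?_
        have h1 : algebraMap Rf Sf (σS (π (MvPolynomial.X i))) * algebraMap S Sf (algebraMap R S t) =
            algebraMap S Sf (algebraMap R S (r i)) := by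
          rw [← hRSf, ← hRSf, ← map_mul, hσS]
          congr 1
          show i₀ (σ₀ (MvPolynomial.X i)) * _ = _
          rw [show σ₀ (MvPolynomial.X i) = a i from MvPolynomial.aeval_X a i, ← i₀.commutes (t : R), ← map_mul,
            mul_assoc, mul_comm (IsLocalization.Away.invSelf (t : R)),
            IsLocalization.Away.mul_invSelf, mul_one, i₀.commutes]
        rw [mul_left_comm _ e (algebraMap Rf Sf _), mul_comm (algebraMap S Sf (algebraMap R S t)) (algebraMap Rf Sf _), h1,
          ← sub_eq_zero, mul_left_comm, ← mul_sub, ← map_mul, ← map_sub]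
        rw [he]
        show algebraMap S Sf g * algebraMap Rf Sf v * algebraMap S Sf (y i) = 0
        rw [mul_right_comm, ← map_mul, hgy, map_zero, zero_mul]
      rw [map_mul, map_mul (algebraMap S Sf), map_mul σS, map_mul (algebraMap Rf Sf), ← mul_assoc, h₁,
        mul_right_comm, hX]
      ring
  have hez : ∀ z : Sf, e * z = e * algebraMap Rf Sf (σ z) := by
    intro z
    obtain ⟨k, x, hx⟩ := IsLocalization.Away.surj (algebraMap R S f) z
    have hfu' : IsUnit ((algebraMap S Sf (algebraMap R S f)) ^ k) :=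
      (IsLocalization.Away.algebraMap_isUnit (algebraMap R S f)).pow k
    refine hfu'.mul_right_cancel ?_
    have hx' := congrArg σ hx
    rw [map_mul, map_pow, hσ, hσ, hσR] at hx'
    rw [mul_assoc, hx, heS, ← hx', map_mul, map_pow, hRSf, mul_assoc]
  have hee : e * e = e := by rw [hez e, hσe, map_one, mul_one]
  let I : Ideal Sf := Ideal.span {e}
  let σA : Sf →ₐ[Rf] Rf := { σ with commutes' := hσid }
  let Φ : Sf →ₐ[Rf] Rf × (Sf ⧸ I) := σA.prod (Ideal.Quotient.mkₐ Rf I)
  refine ⟨Sf ⧸ I, inferInstance, inferInstance, ⟨AlgEquiv.ofBijective Φ ⟨?_, ?_⟩⟩⟩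
  · rw [injective_iff_map_eq_zero]
    intro z hz
    obtain ⟨h1, h2⟩ := Prod.ext_iff.1 hz
    obtain ⟨w, hw⟩ := Ideal.mem_span_singleton'.1 (Ideal.Quotient.eq_zero_iff_mem.1 h2)
    have h1' : σ z = 0 := h1
    rw [← hw, map_mul, hσe, mul_one] at h1'
    rw [← hw, mul_comm, hez, h1', map_zero, mul_zero]
  · rintro ⟨x, c'⟩
    obtain ⟨w, rfl⟩ := Ideal.Quotient.mk_surjective c'
    refine ⟨e * algebraMap Rf Sf x + (1 - e) * w, Prod.ext ?_ ?_⟩
    · show σ _ = x
      rw [map_add, map_mul, map_mul, map_sub, hσe, map_one, hσid]; ring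
    · show Ideal.Quotient.mk I _ = Ideal.Quotient.mk I w
      rw [Ideal.Quotient.eq]
      refine Ideal.mem_span_singleton'.2 ⟨algebraMap Rf Sf x - w, ?_⟩
      ring

end Groth.Agent.S2146
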