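import Groth.Statements.S2148
import Mathlib
import Groth.Agent.Lib.PBasis.Perfect
import Groth.Agent.Lib.PBasis.Field

set_option autoImplicit false
universe u
open CAlg

namespace Groth.Agent.S2148

/-- Let `k` be a perfect field of characteristic `p > 0` and `K` an extension field of `k`. For `a ∈ K`,
the differential `da` vanishes in `Ω_{K/k}` if and only if `a` is a `p`-th power in `K`. -/
theorem result {k K : Type u} [Field k] [Field K] [Algebra k K] (p : ℕ) [Fact p.Prime]
    [CharP k p] [PerfectRing k p] (a : K) :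
    KaehlerDifferential.D k K a = 0 ↔ ∃ b : K, b ^ p = a := by
  haveI : CharP K p := charP_of_injective_algebraMap (algebraMap k K).injective p
  haveI : ExpChar K p := ExpChar.prime Fact.out
  constructor
  · intro h
    by_contra hne
    push Not at hne
    have hroot : ∀ y ∈ EGA41.pPowerSubalgebra p k K, ∃ b : K, b ^ p = y := fun y hy =>
      Groth.Agent.Lib.PBasis.Perfect.exists_root ⟨y, hy⟩
    have hind : EGA41.IsPIndependent p k (Subtype.val : ({a} : Set K) → K) := by
      rw [Groth.Agent.Lib.PBasis.Field.isPIndependent_set_iff]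
      intro b hb hmem
      rw [Set.mem_singleton_iff] at hb
      subst hb
      rw [Set.sdiff_self, ← SetLike.mem_coe, Groth.Agent.Lib.PBasis.Field.coe_FF, Algebra.adjoin_empty, SetLike.mem_coe,
        Algebra.mem_bot] at hmem
      obtain ⟨⟨y, hy⟩, rfl⟩ := hmem
      obtain ⟨c, hc⟩ := hroot y hy
      exact hne c hc
    obtain ⟨B, haB, -, hB⟩ := Groth.Agent.Lib.PBasis.Field.exists_pBasis (p := p) (k := k) (Set.univ : Set K) {a}
      (Set.subset_univ _) Groth.Agent.Lib.PBasis.Field.isPGenerating_univ hind
    obtain ⟨b, hb⟩ := Groth.Agent.Lib.PBasis.Deriv.exists_basis_kaehler hB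
    exact b.ne_zero ⟨a, haB rfl⟩ ((hb _).trans h)
  · rintro ⟨b, rfl⟩
    rw [Derivation.leibniz_pow, ← Nat.cast_smul_eq_nsmul K, CharP.cast_eq_zero, zero_smul]

end Groth.Agent.S2148
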