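import Groth.Statements.S2149
import Groth.Agent.Lib.Pure.UI
import Mathlib.RingTheory.LocalProperties.Exactness
import Mathlib.LinearAlgebra.TensorProduct.Tower
import Mathlib.RingTheory.Localization.BaseChange

set_option autoImplicit false
universe u
open CAlg
open Groth.Agent.Lib.Pure

namespace Groth.Agent.S2149

variable {R S M M' : Type u} [CommRing R] [CommRing S] [Algebra R S]
    [AddCommGroup M] [Module S M] [Module R M] [IsScalarTower R S M] [AddCommGroup M'] [Module S M']
    [Module R M'] [IsScalarTower R S M'] (u : M →ₗ[S] M')

theorem map_rTensor_eq (p : Submonoid S) (Q : Type u) [AddCommGroup Q] [Module R Q] :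
    IsLocalizedModule.map p
        (TensorProduct.AlgebraTensorModule.rTensor R Q (LocalizedModule.mkLinearMap p M))
        (TensorProduct.AlgebraTensorModule.rTensor R Q (LocalizedModule.mkLinearMap p M'))
        (TensorProduct.AlgebraTensorModule.rTensor R Q u)
      = TensorProduct.AlgebraTensorModule.rTensor R Q
          ((LocalizedModule.map p u).restrictScalars S) := by
  apply IsLocalizedModule.linearMap_ext p
    (TensorProduct.AlgebraTensorModule.rTensor R Q (LocalizedModule.mkLinearMap p M))
    (TensorProduct.AlgebraTensorModule.rTensor R Q (LocalizedModule.mkLinearMap p M'))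
  rw [IsLocalizedModule.map_comp]
  ext a b
  simp [TensorProduct.AlgebraTensorModule.rTensor, LocalizedModule.mkLinearMap]

theorem localized_injective (p : Submonoid S) (Q : Type u) [AddCommGroup Q] [Module R Q]
    (h : Function.Injective ((u.restrictScalars R).rTensor Q)) :
    Function.Injective (((LocalizedModule.map p u).restrictScalars R).rTensor Q) := by
  have := IsLocalizedModule.map_injective p
    (TensorProduct.AlgebraTensorModule.rTensor R Q (LocalizedModule.mkLinearMap p M))
    (TensorProduct.AlgebraTensorModule.rTensor R Q (LocalizedModule.mkLinearMap p M'))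
    (TensorProduct.AlgebraTensorModule.rTensor R Q u) h
  rw [map_rTensor_eq] at this
  exact this

theorem injective_of_localized (Q : Type u) [AddCommGroup Q] [Module R Q]
    (h : ∀ (m : Ideal S) [m.IsMaximal],
      Function.Injective (((LocalizedModule.map m.primeCompl u).restrictScalars R).rTensor Q)) :
    Function.Injective ((u.restrictScalars R).rTensor Q) := by
  refine injective_of_isLocalized_maximal
    (fun (P : Ideal S) [P.IsMaximal] => TensorProduct R (LocalizedModule P.primeCompl M) Q)
    (fun (P : Ideal S) [P.IsMaximal] =>
      TensorProduct.AlgebraTensorModule.rTensor R Q (LocalizedModule.mkLinearMap P.primeCompl M))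
    (fun (P : Ideal S) [P.IsMaximal] => TensorProduct R (LocalizedModule P.primeCompl M') Q)
    (fun (P : Ideal S) [P.IsMaximal] =>
      TensorProduct.AlgebraTensorModule.rTensor R Q (LocalizedModule.mkLinearMap P.primeCompl M'))
    (TensorProduct.AlgebraTensorModule.rTensor R Q u) fun P _ => ?_
  rw [map_rTensor_eq]
  exact h P


/-- Let `R → S` be a ring map and `u : M → M'` a map of `S`-modules. Then `u`, viewed as an `R`-linear
map, is universally injective exactly when, for every maximal ideal `𝔪` of `S`, the localized map
`M_𝔪 → M'_𝔪` is also universally injective as an `R`-linear map. -/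
theorem result {R S M M' : Type u} [CommRing R] [CommRing S] [Algebra R S]
    [AddCommGroup M] [Module S M] [Module R M] [IsScalarTower R S M] [AddCommGroup M'] [Module S M'] [Module R M']
    [IsScalarTower R S M'] (u : M →ₗ[S] M') :
    CAlgX.UniversallyInjective R (u.restrictScalars R) ↔
      ∀ (m : Ideal S) [m.IsMaximal],
        CAlgX.UniversallyInjective R ((LocalizedModule.map m.primeCompl u).restrictScalars R) := by
  constructor
  · intro h m _ Q _ _
    exact localized_injective u m.primeCompl Q (h Q)
  · intro h Q _ _
    exact injective_of_localized u Q fun m _ => h m Q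

end Groth.Agent.S2149
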