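import Groth.Statements.S2157
import Groth.Agent.Lib.Kaehler.AffineUniv
import Groth.Agent.Lib.Kaehler.DOmega

set_option autoImplicit false
universe u
open CategoryTheory AlgebraicGeometry
open Mor

namespace Groth.Agent.S2157

theorem kaehler_eq (R A : Type u) [CommRing R] [CommRing A] (f : R →+* A) :
    CommRingCat.KaehlerDifferential (CommRingCat.ofHom f) =
      (letI := f.toAlgebra; ModuleCat.of (CommRingCat.of A) (Ω[A⁄R])) := rfl

theorem algebra_congr (R A : Type u) [CommRing R] [CommRing A] (i j : Algebra R A) (h : i = j) :
    (letI := i; ModuleCat.of (CommRingCat.of A) (Ω[A⁄R])) =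
      (letI := j; ModuleCat.of (CommRingCat.of A) (Ω[A⁄R])) := by
  subst h; rfl

noncomputable def kaehlerIso (R A : Type u) [CommRing R] [CommRing A] [inst : Algebra R A] :
    CommRingCat.KaehlerDifferential (CommRingCat.ofHom (algebraMap R A)) ≅
      ModuleCat.of (CommRingCat.of A) (Ω[A⁄R]) :=
  eqToIso ((kaehler_eq R A (algebraMap R A)).trans
    (algebra_congr R A _ inst (Algebra.algebra_ext _ _ fun _ => rfl)))

/-- For a ring map `R → A`, the sheaf of differentials of `Spec A → Spec R`, defined as the conormal
sheaf of the diagonal, is isomorphic as an `O_{Spec A}`-module to the sheaf associated with the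
module of Kähler differentials `Ω_{A/R}` (the source also pins the isomorphism down by compatibility
with the universal derivations, which is not restated here). -/
theorem result (R A : Type u) [CommRing R] [CommRing A] [Algebra R A] :
    Nonempty (Omega.sheaf (Spec.map (CommRingCat.ofHom (algebraMap R A))) ≅
      tilde (R := CommRingCat.of A) (ModuleCat.of A (Ω[A⁄R]))) := by
  obtain ⟨e⟩ := Groth.Agent.Lib.Kaehler.AffineUniv.nonempty_iso_omegaAff
    (CommRingCat.ofHom (algebraMap R A))
    (Groth.Agent.Lib.Kaehler.DOmega.isUniversal_dOmega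
      (Spec.map (CommRingCat.ofHom (algebraMap R A))))
  exact ⟨e ≪≫ (tilde.functor (CommRingCat.of A)).mapIso (kaehlerIso R A)⟩

end Groth.Agent.S2157
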