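import Groth.Statements.S2158
import Groth.Agent.Lib.Kaehler.Chart
import Groth.Agent.Lib.Kaehler.DOmega
import Mathlib.RingTheory.Unramified.LocalRing

set_option autoImplicit false
universe u
open CategoryTheory AlgebraicGeometry
open Mor

namespace Groth.Agent.S2158

open TopologicalSpace Opposite

theorem stalk_subsingleton_iff {X S : Scheme.{u}} (f : X ⟶ S) [QuasiSeparated f] {U : X.Opens} {V : S.Opens}
    (hU : IsAffineOpen U) (hV : IsAffineOpen V) (e : U ≤ f ⁻¹ᵁ V) (x : X) (hxU : x ∈ U) :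
    Subsingleton ((Omega.sheaf f).presheaf.stalk x) ↔
      (letI := (f.appLE V U e).hom.toAlgebra
       Algebra.IsUnramifiedAt Γ(S, V) (hU.primeIdealOf ⟨x, hxU⟩).asIdeal) := by
  letI := (f.appLE V U e).hom.toAlgebra
  obtain ⟨i⟩ := Groth.Agent.Lib.Kaehler.Chart.nonempty_restrict_iso f hU hV e
    (Groth.Agent.Lib.Kaehler.DOmega.isUniversal_dOmega f)
  let y := hU.primeIdealOf ⟨x, hxU⟩
  have hy : hU.fromSpec y = x := hU.fromSpec_primeIdealOf ⟨x, hxU⟩
  let e₁ := ((Groth.Agent.Lib.Modules.Local.restrictStalkIso hU.fromSpec y).app (Omega.sheaf f)).symm ≪≫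
    (Groth.Agent.Lib.Modules.Stalk.stalkFunctor (Spec Γ(X, U)) y).mapIso i
  have h1 : Subsingleton ((Omega.sheaf f).presheaf.stalk x) ↔
      Subsingleton ((Groth.Agent.Lib.Kaehler.AffineUniv.omegaAff (f.appLE V U e)).presheaf.stalk y) := by
    rw [← hy]
    exact (Equiv.ofBijective _ (ConcreteCategory.bijective_of_isIso e₁.hom)).subsingleton_congr
  rw [h1]
  let M := CommRingCat.KaehlerDifferential (f.appLE V U e)
  have h2 := (IsLocalizedModule.iso y.asIdeal.primeCompl (tilde.toStalk M y).hom).subsingleton_congr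
  rw [Algebra.IsUnramifiedAt, Algebra.formallyUnramified_iff]
  exact h2.symm.trans (IsLocalizedModule.iso y.asIdeal.primeCompl
    (KaehlerDifferential.map Γ(S, V) Γ(S, V) Γ(X, U) (Localization.AtPrime y.asIdeal))).subsingleton_congr

theorem main {X S : Scheme.{u}} (f : X ⟶ S) [LocallyOfFiniteType f] [QuasiSeparated f] {U : X.Opens}
    {V : S.Opens} (hU : IsAffineOpen U) (hV : IsAffineOpen V) (e : U ≤ f ⁻¹ᵁ V) (x : X) (hxU : x ∈ U) :
    Subsingleton ((Omega.sheaf f).presheaf.stalk x) ↔
      ((IsLocalRing.maximalIdeal (S.presheaf.stalk (f.base x))).map (f.stalkMap x).hom =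
          IsLocalRing.maximalIdeal (X.presheaf.stalk x) ∧
        (f.residueFieldMap x).hom.Finite ∧
        @Algebra.IsSeparable (S.residueField (f.base x)) (X.residueField x) _ _ (f.residueFieldMap x).hom.toAlgebra) := by
  rw [stalk_subsingleton_iff f hU hV e x hxU]
  have hft := HasRingHomProperty.appLE @LocallyOfFiniteType f inferInstance ⟨V, hV⟩ ⟨U, hU⟩ e
  letI aAB : Algebra Γ(S, V) Γ(X, U) := (f.appLE V U e).hom.toAlgebra
  haveI : Algebra.FiniteType Γ(S, V) Γ(X, U) := hft
  let Rs := S.presheaf.stalk (f x)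
  let Sx := X.presheaf.stalk x
  let y := hU.primeIdealOf ⟨x, hxU⟩
  let s := hV.primeIdealOf ⟨f x, e hxU⟩
  letI aBS : Algebra Γ(X, U) Sx := TopCat.Presheaf.algebra_section_stalk X.presheaf (⟨x, hxU⟩ : U)
  haveI : IsLocalization.AtPrime Sx y.asIdeal := hU.isLocalization_stalk ⟨x, hxU⟩
  letI aAR : Algebra Γ(S, V) Rs := TopCat.Presheaf.algebra_section_stalk S.presheaf (⟨f x, e hxU⟩ : V)
  haveI : IsLocalization.AtPrime Rs s.asIdeal := hV.isLocalization_stalk ⟨f x, e hxU⟩
  letI aRS : Algebra Rs Sx := (f.stalkMap x).hom.toAlgebra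
  letI aAS : Algebra Γ(S, V) Sx := ((algebraMap Γ(X, U) Sx).comp (algebraMap Γ(S, V) Γ(X, U))).toAlgebra
  haveI : IsScalarTower Γ(S, V) Γ(X, U) Sx := .of_algebraMap_eq fun _ => rfl
  haveI : IsScalarTower Γ(S, V) Rs Sx := .of_algebraMap_eq fun a => by
    change X.presheaf.germ U x hxU ((X.presheaf.map (homOfLE e).op) (f.app V a)) =
      f.stalkMap x (S.presheaf.germ V (f x) (e hxU) a)
    rw [Scheme.Hom.germ_stalkMap_apply, TopCat.Presheaf.germ_res_apply]
  haveI : Algebra.EssFiniteType Γ(X, U) Sx := Algebra.EssFiniteType.of_isLocalization _ y.asIdeal.primeCompl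
  haveI : Algebra.EssFiniteType Γ(S, V) Sx := Algebra.EssFiniteType.comp Γ(S, V) Γ(X, U) Sx
  haveI : Algebra.EssFiniteType Rs Sx := .of_comp Γ(S, V) _ _
  haveI : IsLocalHom (algebraMap Rs Sx) := f.toLRSHom.prop x
  haveI : Algebra.FormallyUnramified Γ(S, V) Rs :=
    Algebra.FormallyUnramified.of_isLocalization s.asIdeal.primeCompl
  have h1 : Algebra.IsUnramifiedAt Γ(S, V) y.asIdeal ↔ Algebra.FormallyUnramified Rs Sx :=
    (Algebra.FormallyUnramified.iff_of_equiv
      ((IsLocalization.algEquiv y.asIdeal.primeCompl (Localization.AtPrime y.asIdeal) Sx).restrictScalars Γ(S, V))).trans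
      ⟨fun _ => .of_restrictScalars Γ(S, V) _ _, fun _ => Algebra.FormallyUnramified.comp _ Rs _⟩
  rw [h1]
  have hres : (f.residueFieldMap x).hom =
      algebraMap (IsLocalRing.ResidueField Rs) (IsLocalRing.ResidueField Sx) := by
    refine RingHom.ext fun r => ?_
    obtain ⟨a, rfl⟩ := S.residue_surjective (f x) r
    exact congr($(Scheme.residue_residueFieldMap f x) a)
  constructor
  · intro hu
    refine ⟨Algebra.FormallyUnramified.map_maximalIdeal, ?_, ?_⟩
    · rw [hres]
      exact (RingHom.finite_algebraMap (A := IsLocalRing.ResidueField Rs) (B := IsLocalRing.ResidueField Sx)).2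
        (inferInstance : Module.Finite (IsLocalRing.ResidueField Rs) (IsLocalRing.ResidueField Sx))
    · convert! (inferInstance : Algebra.IsSeparable (IsLocalRing.ResidueField Rs) (IsLocalRing.ResidueField Sx)) using 1
      exact Algebra.algebra_ext _ _ fun r => congr($hres r)
  · rintro ⟨h1, h2, h3⟩
    refine Algebra.FormallyUnramified.iff_map_maximalIdeal_eq.2 ⟨?_, h1⟩
    convert! h3 using 1
    exact Algebra.algebra_ext _ _ fun r => congr($hres.symm r)

/-- Let `f : X → S` be locally of finite type and quasi-separated (so that the diagonal is quasi-compact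
and the prelude's sheaf of differentials is the conormal sheaf of the diagonal near every point), `x
∈ X`, `s = f(x)`. Then the stalk `Ω_{X/S,x}` vanishes if and only if `𝔪_s O_{X,x} = 𝔪_x` and
`κ(x)/κ(s)` is a finite separable extension. -/
theorem result {X S : Scheme.{u}} (f : X ⟶ S) [LocallyOfFiniteType f] [QuasiSeparated f] (x : X) :
    Subsingleton ((Omega.sheaf f).presheaf.stalk x) ↔
      ((IsLocalRing.maximalIdeal (S.presheaf.stalk (f.base x))).map (f.stalkMap x).hom =
          IsLocalRing.maximalIdeal (X.presheaf.stalk x) ∧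
        (f.residueFieldMap x).hom.Finite ∧
        @Algebra.IsSeparable (S.residueField (f.base x)) (X.residueField x) _ _ (f.residueFieldMap x).hom.toAlgebra) := by
  obtain ⟨V, U, hV, hU, hxU, e⟩ := Groth.Agent.Lib.Kaehler.Chart.exists_chart f x
  exact main f hU hV e x hxU

end Groth.Agent.S2158
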