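import Groth.Statements.S2159


set_option autoImplicit false
universe u
open CAlg

namespace Groth.Agent.S2159

/-- Given surjections `p₁ : P₁ → M` and `p₂ : P₂ → M` from projective modules, with kernels `K` and `L`,
there is an isomorphism `K ⊕ P₂ ≅ L ⊕ P₁`. -/
theorem result {R M P₁ P₂ : Type u} [CommRing R] [AddCommGroup M] [Module R M] [AddCommGroup P₁] [Module R P₁]
    [Module.Projective R P₁] [AddCommGroup P₂] [Module R P₂] [Module.Projective R P₂] (p₁ : P₁ →ₗ[R] M) (p₂ : P₂ →ₗ[R] M)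
    (h₁ : Function.Surjective p₁) (h₂ : Function.Surjective p₂) :
    Nonempty ((LinearMap.ker p₁ × P₂) ≃ₗ[R] (LinearMap.ker p₂ × P₁)) := by
  let X : Submodule R (P₁ × P₂) := LinearMap.eqLocus (p₁ ∘ₗ LinearMap.fst R P₁ P₂)
    (p₂ ∘ₗ LinearMap.snd R P₁ P₂)
  let π₂ : X →ₗ[R] P₂ := LinearMap.snd R P₁ P₂ ∘ₗ X.subtype
  let π₁ : X →ₗ[R] P₁ := LinearMap.fst R P₁ P₂ ∘ₗ X.subtype
  obtain ⟨s₂, hs₂⟩ := Module.projective_lifting_property p₁ p₂ h₁
  obtain ⟨s₁, hs₁⟩ := Module.projective_lifting_property p₂ p₁ h₂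
  have h21 : ∀ y, p₁ (s₂ y) = p₂ y := LinearMap.congr_fun hs₂
  have h12 : ∀ y, p₂ (s₁ y) = p₁ y := LinearMap.congr_fun hs₁
  let e₂ : (LinearMap.ker p₁ × P₂) ≃ₗ[R] X :=
    { toFun := fun x => ⟨((x.1 : P₁) + s₂ x.2, x.2), by
        simp [X, LinearMap.mem_ker.1 x.1.2, h21]⟩
      map_add' := fun a b => by ext <;> simp <;> abel
      map_smul' := fun r a => by ext <;> simp
      invFun := fun x => (⟨x.1.1 - s₂ x.1.2, by
        have := x.2
        simp only [X, LinearMap.mem_eqLocus, LinearMap.comp_apply, LinearMap.fst_apply,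
          LinearMap.snd_apply] at this
        simp [this, h21]⟩, x.1.2)
      left_inv := fun x => by ext <;> simp
      right_inv := fun x => by ext <;> simp }
  let e₁ : (LinearMap.ker p₂ × P₁) ≃ₗ[R] X :=
    { toFun := fun x => ⟨(x.2, (x.1 : P₂) + s₁ x.2), by
        simp [X, LinearMap.mem_ker.1 x.1.2, h12]⟩
      map_add' := fun a b => by ext <;> simp <;> abel
      map_smul' := fun r a => by ext <;> simp
      invFun := fun x => (⟨x.1.2 - s₁ x.1.1, by
        have := x.2
        simp only [X, LinearMap.mem_eqLocus, LinearMap.comp_apply, LinearMap.fst_apply,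
          LinearMap.snd_apply] at this
        simp [this, h12]⟩, x.1.1)
      left_inv := fun x => by ext <;> simp
      right_inv := fun x => by ext <;> simp }
  exact ⟨e₂ ≪≫ₗ e₁.symm⟩

end Groth.Agent.S2159
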