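import Groth.Statements.S2160
import Mathlib.RingTheory.Ideal.KrullsHeightTheorem
import Mathlib.RingTheory.Spectrum.Prime.Topology
import Mathlib.RingTheory.Ideal.MinimalPrime.Noetherian

set_option autoImplicit false
universe u
open CAlg

namespace Groth.Agent.S2160

/-- Let `R` be a Noetherian local domain of Krull dimension at least `2`. Then every nonempty open
subset of `Spec R` is infinite. -/
theorem result {R : Type u} [CommRing R] [IsDomain R] [IsLocalRing R] [IsNoetherianRing R]
    (hdim : 2 ≤ ringKrullDim R) (U : Set (PrimeSpectrum R)) (hU : IsOpen U) (hne : U.Nonempty) : U.Infinite := by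
  classical
  let H : Set (PrimeSpectrum R) := {p | p.asIdeal.height ≤ 1}
  have hinf : H.Infinite := by
    intro hfin
    have hm : (IsLocalRing.maximalIdeal R).height ≥ 2 := by
      rw [ge_iff_le, ← WithBot.coe_le_coe, IsLocalRing.maximalIdeal_height_eq_ringKrullDim]
      exact_mod_cast hdim
    have hnle : ¬ ((IsLocalRing.maximalIdeal R : Set R) ⊆
        ⋃ p ∈ (↑hfin.toFinset : Set (PrimeSpectrum R)), (p.asIdeal : Set R)) := by
      intro h
      obtain ⟨p, hp, hle⟩ := (Ideal.subset_union_prime (f := fun p : PrimeSpectrum R => p.asIdeal)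
        ⟨⊥, Ideal.isPrime_bot⟩ ⟨⊥, Ideal.isPrime_bot⟩ (fun p _ _ _ => p.2)).mp h
      have := (hm.trans (Ideal.height_mono hle)).trans (hfin.mem_toFinset.mp hp)
      exact absurd this (by decide)
    obtain ⟨x, hx, hx'⟩ := Set.not_subset.mp hnle
    obtain ⟨q, hq, -⟩ := Ideal.exists_minimalPrimes_le
      ((Ideal.span_singleton_le_iff_mem _).mpr hx)
    have := hq.isPrime
    have hqh : q.height ≤ 1 :=
      Ideal.height_le_one_of_isPrincipal_of_mem_minimalPrimes (Ideal.span {x}) q hq
    exact hx' (Set.mem_biUnion (hfin.mem_toFinset.mpr (show (⟨q, this⟩ : PrimeSpectrum R) ∈ H from hqh))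
      (hq.1.2 (Ideal.mem_span_singleton_self x)))
  obtain ⟨p, hp⟩ := hne
  obtain ⟨t, ⟨f, rfl⟩, hpf, hsub⟩ :=
    PrimeSpectrum.isTopologicalBasis_basic_opens.exists_subset_of_mem_open hp hU
  have hf : f ≠ 0 := fun h => hpf (h ▸ p.asIdeal.zero_mem)
  have hbad : {q : PrimeSpectrum R | q ∈ H ∧ f ∈ q.asIdeal}.Finite := by
    refine ((Ideal.finite_minimalPrimes_of_isNoetherianRing R (Ideal.span {f})).preimage
      (fun a _ b _ h => PrimeSpectrum.ext h)).subset fun q ⟨hq, hfq⟩ => ?_
    refine Ideal.mem_minimalPrimes_of_height_le ((Ideal.span_singleton_le_iff_mem _).mpr hfq) ?_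
    refine hq.trans ?_
    exact Order.one_le_iff_ne_zero.mpr fun h => hf (Ideal.span_singleton_eq_bot.mp
      (Ideal.height_eq_zero_iff_eq_bot.mp h))
  refine (hinf.sdiff hbad).mono ?_
  rintro q ⟨hqH, hq⟩
  exact hsub fun hfq => hq ⟨hqH, hfq⟩

end Groth.Agent.S2160
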