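import Groth.Statements.S2161
import Mathlib
-- import your own Groth.Agent.* helpers here

set_option autoImplicit false
universe u
open CAlg

namespace Groth.Agent.S2161


/-- Let R → S be a ring map whose kernel consists of nilpotent elements, and suppose S is generated as
an R-algebra by elements x for which some power (T − x)ⁿ, n > 0, is the image of a polynomial over
R. Then Spec S → Spec R is a homeomorphism, and for every prime 𝔮 of S over 𝔭 the extension
κ(𝔮)/κ(𝔭) is purely inseparable. -/
theorem result {R S : Type u} [CommRing R] [CommRing S] [Algebra R S]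
    (hker : ∀ r : R, algebraMap R S r = 0 → IsNilpotent r) (G : Set S) (hG : Algebra.adjoin R G = ⊤)
    (hpow : ∀ x ∈ G, ∃ (n : ℕ) (P : Polynomial R), 0 < n ∧
      Polynomial.map (algebraMap R S) P = (Polynomial.X - Polynomial.C x) ^ n) :
    IsHomeomorph (PrimeSpectrum.comap (algebraMap R S)) ∧
      ∀ (q : Ideal S) [q.IsPrime] (p : Ideal R) [p.IsPrime] [q.LiesOver p],
        @IsPurelyInseparable p.ResidueField q.ResidueField _ _
          (Ideal.ResidueField.mapₐ p q (Algebra.ofId R S) (q.over_def p)).toRingHom.toAlgebra := by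
  set_option synthInstance.maxHeartbeats 400000 in
  classical
  have hroot : ∀ (Ω : Type u) [Field Ω] (φ : S →+* Ω), ∀ x ∈ G, ∃ (n : ℕ) (P : Polynomial R), 0 < n ∧
      P.map (φ.comp (algebraMap R S)) = (Polynomial.X - Polynomial.C (φ x)) ^ n := by
    intro Ω _ φ x hx
    obtain ⟨n, P, hn, hP⟩ := hpow x hx
    refine ⟨n, P, hn, ?_⟩
    rw [← Polynomial.map_map, hP]
    simp
  have hext : ∀ (Ω : Type u) [Field Ω] (φ φ' : S →+* Ω), φ.comp (algebraMap R S) = φ'.comp (algebraMap R S) → φ = φ' := by
    intro Ω _ φ φ' h
    letI : Algebra R Ω := (φ.comp (algebraMap R S)).toAlgebra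
    let f : S →ₐ[R] Ω := { φ with commutes' := fun r => rfl }
    let f' : S →ₐ[R] Ω := { φ' with commutes' := fun r => (RingHom.congr_fun h r).symm }
    suffices f = f' from RingHom.ext fun x => AlgHom.congr_fun this x
    refine AlgHom.ext_of_adjoin_eq_top hG fun x hx => ?_
    obtain ⟨n, P, hn, hP⟩ := hpow x hx
    have h1 : P.map (φ.comp (algebraMap R S)) = (Polynomial.X - Polynomial.C (φ x)) ^ n := by
      rw [← Polynomial.map_map, hP]; simp
    have h2 : P.map (φ'.comp (algebraMap R S)) = (Polynomial.X - Polynomial.C (φ' x)) ^ n := by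
      rw [← Polynomial.map_map, hP]; simp
    rw [h, h2] at h1
    have h3 := congrArg (Polynomial.eval (φ' x)) h1
    simp [zero_pow hn.ne'] at h3
    exact (sub_eq_zero.1 ((pow_eq_zero_iff hn.ne').1 h3.symm)).symm
  haveI hint : Algebra.IsIntegral R S := by
    refine ⟨fun s => ?_⟩
    have hs : s ∈ Algebra.adjoin R G := hG ▸ trivial
    induction hs using Algebra.adjoin_induction with
    | mem x hx =>
      obtain ⟨n, P, hn, hP⟩ := hpow x hx
      refine IsIntegral.of_pow hn ?_
      have h0 := congrArg (fun q => Polynomial.coeff q 0) hP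
      simp only [Polynomial.coeff_map, Polynomial.coeff_zero_eq_eval_zero, Polynomial.eval_pow, Polynomial.eval_sub, Polynomial.eval_X, Polynomial.eval_C, zero_sub] at h0
      rw [Polynomial.eval_zero_map, neg_pow] at h0
      have hunit : ((-1 : S) ^ n) * (-1) ^ n = 1 := by rw [← mul_pow]; norm_num
      have : x ^ n = (-1 : S) ^ n * algebraMap R S (P.eval 0) := by rw [h0, ← mul_assoc, hunit, one_mul]
      rw [this]
      exact ((isIntegral_one.neg).pow n).mul isIntegral_algebraMap
    | algebraMap r => exact isIntegral_algebraMap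
    | add _ _ _ _ a b => exact a.add b
    | mul _ _ _ _ a b => exact a.mul b
  have hpi : ∀ (q : Ideal S) [q.IsPrime] (p : Ideal R) [p.IsPrime] [q.LiesOver p],
      @IsPurelyInseparable p.ResidueField q.ResidueField _ _
        (Ideal.ResidueField.mapₐ p q (Algebra.ofId R S) (q.over_def p)).toRingHom.toAlgebra := by
    intro q _ p _ _
    letI := (Ideal.ResidueField.mapₐ p q (Algebra.ofId R S) (q.over_def p)).toRingHom.toAlgebra
    rw [isPurelyInseparable_iff_perfectClosure_eq_top, eq_top_iff]
    intro z _
    have hS : ∀ s : S, algebraMap S q.ResidueField s ∈ perfectClosure p.ResidueField q.ResidueField := by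
      intro s
      have hs : s ∈ Algebra.adjoin R G := hG ▸ trivial
      induction hs using Algebra.adjoin_induction with
      | algebraMap r =>
        rw [← IsScalarTower.algebraMap_apply]
        have : algebraMap R q.ResidueField r = algebraMap p.ResidueField q.ResidueField (algebraMap R p.ResidueField r) :=
          ((Ideal.ResidueField.mapₐ p q (Algebra.ofId R S) (q.over_def p)).commutes r).symm
        rw [this]
        exact IntermediateField.algebraMap_mem _ _
      | add _ _ _ _ a b => rw [map_add]; exact add_mem a b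
      | mul _ _ _ _ a b => rw [map_mul]; exact mul_mem a b
      | mem x hx =>
        rw [mem_perfectClosure_iff_natSepDegree_eq_one]
        let Ω := AlgebraicClosure q.ResidueField
        obtain ⟨n, P, hn, hP⟩ := hroot q.ResidueField (algebraMap S q.ResidueField) x hx
        have hcomp : (algebraMap p.ResidueField q.ResidueField).comp (algebraMap R p.ResidueField) = (algebraMap S q.ResidueField).comp (algebraMap R S) := by
          rw [← IsScalarTower.algebraMap_eq R S q.ResidueField]
          exact RingHom.ext fun r => (Ideal.ResidueField.mapₐ p q (Algebra.ofId R S) (q.over_def p)).commutes r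
        rw [← hcomp, ← Polynomial.map_map] at hP
        set y := algebraMap S q.ResidueField x
        set Pb := P.map (algebraMap R p.ResidueField)
        have hP0 : Polynomial.aeval y Pb = 0 := by
          rw [Polynomial.aeval_def, ← Polynomial.eval_map, hP]; simp [zero_pow hn.ne']
        have hne : Pb ≠ 0 := fun h0 => by
          rw [h0, Polynomial.map_zero] at hP
          exact pow_ne_zero n (Polynomial.X_sub_C_ne_zero y) hP.symm
        have hy : IsIntegral p.ResidueField y := IsAlgebraic.isIntegral ⟨Pb, hne, hP0⟩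
        rw [Polynomial.natSepDegree_eq_of_isAlgClosed Ω, Finset.card_eq_one]
        refine ⟨algebraMap _ Ω y, Finset.eq_singleton_iff_unique_mem.2 ⟨?_, fun w hw => ?_⟩⟩
        · rw [Multiset.mem_toFinset, Polynomial.mem_aroots]
          exact ⟨minpoly.ne_zero hy, by rw [Polynomial.aeval_algebraMap_apply, minpoly.aeval, map_zero]⟩
        · rw [Multiset.mem_toFinset, Polynomial.mem_aroots] at hw
          obtain ⟨d, hd⟩ := minpoly.dvd p.ResidueField y hP0
          have h4 : Polynomial.aeval w Pb = 0 := by rw [hd, map_mul, hw.2, zero_mul]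
          rw [← Polynomial.aeval_map_algebraMap q.ResidueField, hP, map_pow, map_sub, Polynomial.aeval_X, Polynomial.aeval_C] at h4
          exact sub_eq_zero.1 (pow_eq_zero_iff hn.ne' |>.1 h4)
    obtain ⟨a, b, -, rfl⟩ := IsFractionRing.div_surjective (A := S ⧸ q) z
    obtain ⟨a, rfl⟩ := Ideal.Quotient.mk_surjective a
    obtain ⟨b, rfl⟩ := Ideal.Quotient.mk_surjective b
    exact div_mem (hS a) (hS b)
  refine ⟨isHomeomorph_iff_continuous_isClosedMap_bijective.2 ⟨PrimeSpectrum.continuous_comap _,
    PrimeSpectrum.isClosedMap_comap_of_isIntegral _ Algebra.IsIntegral.isIntegral, fun Q Q' hQ => ?_, fun P => ?_⟩, hpi⟩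
  · -- injectivity
    set p := Q.asIdeal.comap (algebraMap R S) with hp
    haveI : Q.asIdeal.LiesOver p := ⟨rfl⟩
    haveI : Q'.asIdeal.LiesOver p := ⟨congrArg PrimeSpectrum.asIdeal hQ⟩
    let Ω := AlgebraicClosure p.ResidueField
    have mk : ∀ (q : Ideal S) [q.IsPrime] [q.LiesOver p], ∃ φ : S →+* Ω, RingHom.ker φ = q ∧ φ.comp (algebraMap R S) = algebraMap R Ω := by
      intro q _ _
      letI := (Ideal.ResidueField.mapₐ p q (Algebra.ofId R S) (q.over_def p)).toRingHom.toAlgebra
      haveI := hpi q p
      let e : q.ResidueField →ₐ[p.ResidueField] Ω := IsAlgClosed.lift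
      refine ⟨(e : q.ResidueField →+* Ω).comp (algebraMap S q.ResidueField), ?_, ?_⟩
      · rw [RingHom.ker_comp_of_injective _ (e : q.ResidueField →+* Ω).injective]
        ext s; simp [RingHom.mem_ker]
      · ext r
        show e (algebraMap S q.ResidueField (algebraMap R S r)) = _
        rw [← IsScalarTower.algebraMap_apply, ← (Ideal.ResidueField.mapₐ p q (Algebra.ofId R S) (q.over_def p)).commutes r,
          IsScalarTower.algebraMap_apply R p.ResidueField Ω]
        exact e.commutes _
    obtain ⟨φ, hφ, hφR⟩ := mk Q.asIdeal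
    obtain ⟨φ', hφ', hφR'⟩ := mk Q'.asIdeal
    refine PrimeSpectrum.ext ?_
    rw [← hφ, ← hφ', hext Ω φ φ' (hφR.trans hφR'.symm)]
  · obtain ⟨Q, -, hQ, hQP⟩ := Ideal.exists_ideal_over_prime_of_isIntegral P.asIdeal (⊥ : Ideal S) (fun r hr => by
      have hr' : algebraMap R S r = 0 := hr
      obtain ⟨m, hm⟩ := hker r hr'
      exact P.2.mem_of_pow_mem m (hm ▸ zero_mem _))
    exact ⟨⟨Q, hQ⟩, PrimeSpectrum.ext hQP⟩

end Groth.Agent.S2161
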