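import Groth.Statements.S2162
import Groth.Agent.H21.SepGen
import Mathlib.RingTheory.Smooth.Basic

set_option autoImplicit false
universe u
open CAlg

namespace Groth.Agent.S2162

/-- Let `R → S` be an injective ring map of finite type between domains, with fraction fields `K ⊆ L`.
Then `R → S` is smooth at the zero ideal of `S` if and only if `L` is geometrically reduced over `K`
(the published statement phrases the condition as `L/K` being separable; here separability is
expressed as geometric reducedness). -/
theorem result {R S K L : Type u} [CommRing R] [IsDomain R] [CommRing S]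
    [IsDomain S] [Algebra R S] [FaithfulSMul R S] [Algebra.FiniteType R S] [Field K] [Field L] [Algebra R K] [IsFractionRing R K]
    [Algebra S L] [IsFractionRing S L] [Algebra K L] [Algebra R L] [IsScalarTower R S L] [IsScalarTower R K L] :
    Algebra.IsSmoothAt R (⊥ : Ideal S) ↔ Algebra.IsGeometricallyReduced K L := by
  rw [← Groth.Agent.Lib.PBasis.FieldSmooth.formallySmooth_iff_isGeometricallyReduced]
  let e := (Groth.Agent.H21.SepGen.atBotEquiv S L).restrictScalars R
  have h1 : Algebra.IsSmoothAt R (⊥ : Ideal S) ↔ Algebra.FormallySmooth R L :=
    ⟨fun h => haveI : Algebra.FormallySmooth R (Localization.AtPrime (⊥ : Ideal S)) := h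
      Algebra.FormallySmooth.of_equiv e,
     fun h => haveI := h; Algebra.FormallySmooth.of_equiv e.symm⟩
  rw [h1]
  refine ⟨fun h => ?_, fun h => ?_⟩
  · haveI := h
    exact Algebra.FormallySmooth.localization_base (R := R) (Rₘ := K) (nonZeroDivisors R)
  · haveI := h
    haveI : Algebra.FormallySmooth R K := Algebra.FormallySmooth.of_isLocalization (nonZeroDivisors R)
    exact Algebra.FormallySmooth.comp R K L

end Groth.Agent.S2162
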