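import Groth.Statements.S2163
import Mathlib

set_option autoImplicit false
universe u
open CAlg

namespace Groth.Agent.S2163

/-- A ring `R` is coherent — every finitely generated ideal is a finitely presented module — if and only
if for every index set `A` (in the same universe) the product module `R^A` is flat. -/
theorem result {R : Type u} [CommRing R] :
    (∀ I : Ideal R, I.FG → Module.FinitePresentation R I) ↔ ∀ (A : Type u), Module.Flat R (A → R) := by
  constructor
  · intro hcoh A
    rw [Module.Flat.iff_forall_isTrivialRelation]
    intro l f x hx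
    let φ : (Fin l → R) →ₗ[R] R := Fintype.linearCombination R f
    have hsum : ∀ k, φ k = ∑ i, k i * f i := fun k => by simp [φ, Fintype.linearCombination_apply]
    let I : Ideal R := LinearMap.range φ
    have hI : I.FG := Module.Finite.iff_fg.mp (Module.Finite.range φ)
    haveI := hcoh I hI
    haveI : Module.FinitePresentation R ↥(LinearMap.range φ) := hcoh I hI
    have hk : (LinearMap.ker φ).FG := by
      have := Module.FinitePresentation.fg_ker φ.rangeRestrict φ.surjective_rangeRestrict
      rwa [LinearMap.ker_rangeRestrict] at this
    obtain ⟨m, k, hks⟩ := Submodule.fg_iff_exists_fin_generating_family.mp hk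
    have hmem : ∀ a, ∃ y : Fin m → R, ∑ j, y j • k j = fun i => x i a := fun a => by
      rw [← Submodule.mem_span_range_iff_exists_fun, hks, LinearMap.mem_ker, hsum]
      have := congrFun hx a
      simpa [mul_comm] using this
    choose y hy using hmem
    refine ⟨m, fun i j => k j i, fun j a => y a j, fun i => funext fun a => ?_, fun j => ?_⟩
    · have := congrFun (hy a) i
      simp only [Finset.sum_apply, Pi.smul_apply, smul_eq_mul] at this
      simp only [Finset.sum_apply, Pi.smul_apply, smul_eq_mul]
      rw [← this]; exact Finset.sum_congr rfl fun j _ => mul_comm _ _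
    · have := LinearMap.mem_ker.mp (hks ▸ Submodule.subset_span ⟨j, rfl⟩ : k j ∈ LinearMap.ker φ)
      rw [hsum] at this
      rw [← this]; exact Finset.sum_congr rfl fun i _ => mul_comm _ _
  · intro hflat I hI
    obtain ⟨l, f, hf⟩ := Submodule.fg_iff_exists_fin_generating_family.mp hI
    let φ : (Fin l → R) →ₗ[R] R := Fintype.linearCombination R f
    have hsum : ∀ k, φ k = ∑ i, k i * f i := fun k => by simp [φ, Fintype.linearCombination_apply]
    have hr : LinearMap.range φ = I := by rw [Fintype.range_linearCombination, hf]
    suffices h : Module.FinitePresentation R ↥(LinearMap.range φ) by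
      haveI := h
      exact Module.FinitePresentation.of_equiv (LinearEquiv.ofEq _ _ hr)
    refine Module.finitePresentation_of_surjective φ.rangeRestrict φ.surjective_rangeRestrict ?_
    rw [LinearMap.ker_rangeRestrict]
    let A := ↥(LinearMap.ker φ)
    let x : Fin l → A → R := fun i a => a.1 i
    have hx : ∑ i, f i • x i = 0 := funext fun a => by
      have := LinearMap.mem_ker.mp a.2
      rw [hsum] at this
      simpa [x, mul_comm] using this
    obtain ⟨m, c, y, hxy, hc⟩ := Module.Flat.iff_forall_isTrivialRelation.mp (hflat A) hx
    refine Submodule.fg_iff_exists_fin_generating_family.mpr ⟨m, fun j i => c i j, le_antisymm ?_ fun k hk => ?_⟩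
    · rw [Submodule.span_le]
      rintro _ ⟨j, rfl⟩
      rw [SetLike.mem_coe, LinearMap.mem_ker, hsum, ← hc j]
      exact Finset.sum_congr rfl fun i _ => mul_comm _ _
    · rw [Submodule.mem_span_range_iff_exists_fun]
      refine ⟨fun j => y j ⟨k, hk⟩, funext fun i => ?_⟩
      have := congrFun (hxy i) ⟨k, hk⟩
      simp only [x, Finset.sum_apply, Pi.smul_apply, smul_eq_mul] at this ⊢
      rw [this]; exact Finset.sum_congr rfl fun j _ => mul_comm _ _

end Groth.Agent.S2163
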