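import Groth.Statements.S2167
import Groth.Agent.Lib.Synt92.CIInv
import Mathlib.RingTheory.Nakayama
import Mathlib.RingTheory.Finiteness.Ideal

set_option autoImplicit false
universe u
open LCI

namespace Groth.Agent.S2167

/-- Equivalence of (2) and (3), special case with R already a regular local ring: for a regular local
ring R and a proper ideal I, the ideal I is generated by a regular sequence if and only if the
conormal module I/I^2 can be generated by (dim R - dim R/I) elements, the inequality below being the
additive form of that count. -/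
theorem result {R : Type u} [CommRing R] [IsRegularLocalRing R]
    (I : Ideal R) (hI : I ≠ ⊤) :
    (∃ rs : List R, Ideal.ofList rs = I ∧ RingTheory.Sequence.IsRegular R rs) ↔
      (((⊤ : Submodule (R ⧸ I) I.Cotangent).spanFinrank : WithBot ℕ∞) + ringKrullDim (R ⧸ I)
        ≤ ringKrullDim R) := by
  classical
  haveI : Module.Finite (R ⧸ I) I.Cotangent := @Module.Finite.of_restrictScalars_finite R (R ⧸ I) I.Cotangent _ _ _ _ _ _ _ (Module.Finite.of_surjective I.toCotangent I.toCotangent_surjective)
  have h : (⊤ : Submodule (R ⧸ I) I.Cotangent).spanFinrank = I.spanFinrank := by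
    refine le_antisymm ?_ ?_
    · obtain ⟨s, hs, hspan⟩ := Submodule.FG.exists_span_set_encard_eq_spanFinrank (I.fg_of_isNoetherianRing)
      have hfin : s.Finite := Set.encard_lt_top_iff.1 (by rw [hs]; exact ENat.coe_lt_top _)
      have hsub : s ⊆ (I : Set R) := hspan ▸ Submodule.subset_span
      let T : Finset I := hfin.toFinset.attach.image fun x => ⟨x.1, hsub (hfin.mem_toFinset.1 x.2)⟩
      have hT : Submodule.span (R ⧸ I) (I.toCotangent '' (T : Set I)) = ⊤ := by
        refine top_le_iff.1 fun z _ => ?_
        obtain ⟨⟨y, hy⟩, rfl⟩ := I.toCotangent_surjective z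
        have hy' : y ∈ Submodule.span R s := hspan.symm ▸ hy
        induction hy' using Submodule.span_induction with
        | mem x hx => exact Submodule.subset_span ⟨⟨x, hy⟩, by
            simp only [T, Finset.coe_image, Set.mem_image, Finset.mem_coe]
            exact ⟨⟨x, hfin.mem_toFinset.2 hx⟩, Finset.mem_attach _ _, rfl⟩, rfl⟩
        | zero => rw [show (⟨0, hy⟩ : I) = 0 from rfl, map_zero]; exact Submodule.zero_mem _
        | add a b ha hb h1 h2 =>
            rw [show (⟨a + b, hy⟩ : I) = ⟨a, hspan ▸ ha⟩ + ⟨b, hspan ▸ hb⟩ from rfl, map_add]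
            exact Submodule.add_mem _ (h1 _ trivial) (h2 _ trivial)
        | smul c a ha h1 =>
            rw [show (⟨c • a, hy⟩ : I) = c • ⟨a, hspan ▸ ha⟩ from rfl, map_smul,
              ← algebraMap_smul (R ⧸ I) c (I.toCotangent _)]
            exact Submodule.smul_mem _ _ (h1 _ trivial)
      rw [← hT]
      refine (Submodule.spanFinrank_span_le_ncard_of_finite (T.finite_toSet.image _)).trans ?_
      refine (Set.ncard_image_le T.finite_toSet).trans ?_
      rw [Set.ncard_coe_finset]
      refine Finset.card_image_le.trans ?_
      rw [Finset.card_attach]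
      have : (hfin.toFinset.card : ℕ∞) = I.spanFinrank := by rw [← hs, hfin.encard_eq_coe_toFinset_card]
      exact (ENat.coe_le_coe).1 this.le
    · obtain ⟨s, hs, hspan⟩ := Submodule.FG.exists_span_set_encard_eq_spanFinrank
        (Module.Finite.fg_top (R := R ⧸ I) (M := I.Cotangent))
      choose g hg using fun z : I.Cotangent => I.toCotangent_surjective z
      have hfin : s.Finite := Set.encard_lt_top_iff.1 (by rw [hs]; exact ENat.coe_lt_top _)
      have hle : I ≤ Submodule.span R ((fun z => (g z : R)) '' s) ⊔ I • I := by
        intro y hy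
        have hmem : I.toCotangent ⟨y, hy⟩ ∈ Submodule.span R s := by
          have : I.toCotangent ⟨y, hy⟩ ∈ (Submodule.span (R ⧸ I) s).restrictScalars R := by
            rw [hspan]; trivial
          rwa [Submodule.restrictScalars_span R (R ⧸ I) Ideal.Quotient.mk_surjective] at this
        rw [← Submodule.map_id (Submodule.span R s)] at hmem
        have key : ∀ z ∈ Submodule.span R s, ∃ w : I, I.toCotangent w = z ∧
            (w : R) ∈ Submodule.span R ((fun z => (g z : R)) '' s) := by
          intro z hz
          induction hz using Submodule.span_induction with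
          | mem x hx => exact ⟨g x, hg x, Submodule.subset_span ⟨x, hx, rfl⟩⟩
          | zero => exact ⟨0, map_zero _, Submodule.zero_mem _⟩
          | add a b _ _ h1 h2 =>
              obtain ⟨u, rfl, hu⟩ := h1
              obtain ⟨v, rfl, hv⟩ := h2
              exact ⟨u + v, map_add _ _ _, Submodule.add_mem _ hu hv⟩
          | smul c a _ h1 =>
              obtain ⟨u, rfl, hu⟩ := h1
              exact ⟨c • u, map_smul _ _ _, Submodule.smul_mem _ _ hu⟩
        obtain ⟨w, hw, hw'⟩ := key _ (by simpa using hmem)
        rw [← add_sub_cancel (w : R) y]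
        refine Submodule.add_mem_sup hw' ?_
        rw [smul_eq_mul, ← pow_two]
        exact (Ideal.toCotangent_eq I).1 hw.symm
      have heq : I = Submodule.span R ((fun z => (g z : R)) '' s) :=
        le_antisymm (Submodule.le_of_le_smul_of_le_jacobson_bot I.fg_of_isNoetherianRing
          ((IsLocalRing.le_maximalIdeal hI).trans (IsLocalRing.maximalIdeal_le_jacobson ⊥)) hle)
          (Submodule.span_le.2 (by rintro _ ⟨z, -, rfl⟩; exact (g z).2))
      conv_lhs => rw [heq]
      refine (Submodule.spanFinrank_span_le_ncard_of_finite (hfin.image _)).trans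
        ((Set.ncard_image_le hfin).trans ?_)
      have : (s.ncard : ℕ∞) = ((⊤ : Submodule (R ⧸ I) I.Cotangent).spanFinrank : ℕ∞) := by
        rw [← hs, hfin.cast_ncard_eq]
      exact (ENat.coe_le_coe).1 this.le
  rw [h, add_comm, ← Groth.Agent.Lib.Synt92.CIInv.regular_iff I hI]
  exact ⟨fun ⟨rs, a, b⟩ => ⟨rs, b, a.symm⟩, fun ⟨rs, a, b⟩ => ⟨rs, b.symm, a⟩⟩

end Groth.Agent.S2167
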