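import Groth.Statements.S2170
import Groth.Agent.Lib.NumType.Form

set_option autoImplicit false
open Finset
open Models

namespace Groth.Agent.S2170

/-- Let A be a symmetric real n × n matrix with non-negative off-diagonal entries and m a vector with
positive entries such that for every i, ∑_{j ≠ i} A_{ij} m_j ≤ −A_{ii} m_i. Then the kernel of A is
the span of the vectors equal to m on an index set I and zero off I, for those I such that A_{ij} =
0 whenever i ∈ I and j ∉ I and such that equality holds in the above inequality for every i ∈ I. The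
published statement omits the symmetry of A (without which it fails) and applies it only to
symmetric matrices; stated here with A symmetric. -/
theorem result {n : ℕ} (A : Matrix (Fin n) (Fin n) ℝ) (m : Fin n → ℝ)
    (hsymm : A.IsSymm) (hA : ∀ i j, i ≠ j → 0 ≤ A i j) (hm : ∀ i, 0 < m i)
    (hle : ∀ i, ∑ j ∈ univ.erase i, A i j * m j ≤ -(A i i * m i)) :
    LinearMap.ker (Matrix.mulVecLin A) = Submodule.span ℝ
      {x : Fin n → ℝ | ∃ I : Finset (Fin n), (∀ i ∈ I, ∀ j ∉ I, A i j = 0) ∧
        (∀ i ∈ I, ∑ j ∈ univ.erase i, A i j * m j = -(A i i * m i)) ∧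
        x = fun i => if i ∈ I then m i else 0} := by
  classical
  have hle' : ∀ i, A.mulVec m i ≤ 0 := fun i => by
    have := hle i
    rw [Matrix.mulVec, dotProduct, ← Finset.add_sum_erase _ _ (mem_univ i)]
    linarith
  apply le_antisymm
  · intro x hx
    have hx0 : A.mulVec x = 0 := hx
    obtain ⟨y, hy⟩ : ∃ y : Fin n → ℝ, x = fun i => y i * m i :=
      ⟨fun i => x i / m i, funext fun i => (div_mul_cancel₀ _ (hm i).ne').symm⟩
    subst hy
    obtain ⟨h1, h2⟩ := (Groth.Agent.Lib.NumType.Form.quadForm_nonpos A hsymm hA m hm hle' y).2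
      (by rw [hx0, dotProduct_zero])
    have hdec : (fun i => y i * m i) = ∑ c ∈ (univ.image y).filter (· ≠ 0),
        c • (fun i => if i ∈ univ.filter (fun k => y k = c) then m i else 0) := by
      funext i
      rw [Finset.sum_apply]
      simp only [Pi.smul_apply, smul_eq_mul, mul_ite, mul_zero, mem_filter, mem_univ, true_and]
      rw [Finset.sum_ite_eq]
      by_cases h0 : y i = 0 <;> simp [h0]
    rw [hdec]
    refine Submodule.sum_mem _ fun c hc => Submodule.smul_mem _ _ (Submodule.subset_span ?_)
    refine ⟨univ.filter (fun k => y k = c), ?_, ?_, rfl⟩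
    · intro i hi j hj
      simp only [mem_filter, mem_univ, true_and] at hi hj
      by_contra hne
      exact hj ((h2 i j hne) ▸ hi)
    · intro i hi
      simp only [mem_filter, mem_univ, true_and] at hi hc
      have := h1 i (hi ▸ hc.2)
      rw [Matrix.mulVec, dotProduct, ← Finset.add_sum_erase _ _ (mem_univ i)] at this
      linarith
  · rw [Submodule.span_le]
    rintro x ⟨I, hI, hI', rfl⟩
    show A.mulVec _ = 0
    funext i
    simp only [Matrix.mulVec, dotProduct, Pi.zero_apply, mul_ite, mul_zero]
    by_cases hi : i ∈ I
    · have h1 : ∀ j, (if j ∈ I then A i j * m j else 0) = A i j * m j := fun j => by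
        by_cases hj : j ∈ I <;> simp [hj, hI i hi]
      simp only [h1]
      rw [← Finset.add_sum_erase _ _ (mem_univ i), hI' i hi]
      ring
    · refine Finset.sum_eq_zero fun j _ => ?_
      by_cases hj : j ∈ I
      · rw [if_pos hj, ← hsymm.apply i j, hI j hj i hi, zero_mul]
      · simp [hj]

end Groth.Agent.S2170
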