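import Groth.Statements.S2171
import Groth.Agent.Lib.NumType.Form

set_option autoImplicit false
open Finset
open Models

namespace Groth.Agent.S2171

/-- Let A be a symmetric real n by n matrix with non-negative off-diagonal entries, m a vector with
positive entries such that A m = 0, and assume no proper non-empty index set I has A i j = 0 for all
i in I and j outside I. Then x^t A x is at most 0 for every real vector x, with equality exactly
when x is a real multiple of m. -/
theorem result {n : ℕ} (A : Matrix (Fin n) (Fin n) ℝ)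
    (m : Fin n → ℝ) (hsymm : A.IsSymm) (hA : ∀ i j, i ≠ j → 0 ≤ A i j) (hm : ∀ i, 0 < m i)
    (hAm : A.mulVec m = 0)
    (hconn : ∀ I : Finset (Fin n), I.Nonempty → I ≠ univ → ∃ i ∈ I, ∃ j ∉ I, A i j ≠ 0)
    (x : Fin n → ℝ) :
    dotProduct x (A.mulVec x) ≤ 0 ∧ (dotProduct x (A.mulVec x) = 0 ↔ ∃ q : ℝ, x = q • m) := by
  classical
  obtain ⟨y, rfl⟩ : ∃ y : Fin n → ℝ, x = fun i => y i * m i :=
    ⟨fun i => x i / m i, funext fun i => (div_mul_cancel₀ _ (hm i).ne').symm⟩
  have h := Groth.Agent.Lib.NumType.Form.quadForm_nonpos A hsymm hA m hm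
    (fun i => by rw [hAm]; exact le_rfl) y
  refine ⟨h.1, fun h0 => ?_, ?_⟩
  · obtain ⟨-, h2⟩ := h.2 h0
    rcases Nat.eq_zero_or_pos n with rfl | hn
    · exact ⟨0, funext fun i => i.elim0⟩
    · exact ⟨y ⟨0, hn⟩, funext fun i => by
        simp [Groth.Agent.Lib.NumType.Form.eq_of_connected A hconn y h2 i ⟨0, hn⟩]⟩
  · rintro ⟨q, hq⟩
    rw [hq, Matrix.mulVec_smul, hAm, smul_zero, dotProduct_zero]

end Groth.Agent.S2171
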