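import Groth.Statements.S2182
import Groth.Agent.Lib.NumType.Basic

set_option autoImplicit false
open Finset
open Models Models.NumericalType

namespace Groth.Agent.S2182

/-- In a numerical type, whenever a i j > 0 one has m i * a i j at most m j * |a j j| and m i * w i at
most m j * |a j j|. -/
theorem result {n : ℕ} (T : Models.NumericalType n) (i j : Fin n) (hij : 0 < T.a i j) :
    T.m i * T.a i j ≤ T.m j * |T.a j j| ∧ T.m i * T.w i ≤ T.m j * |T.a j j| := by
  have hne : i ≠ j := by
    rintro rfl
    have := Groth.Agent.Lib.NumType.Basic.diag_nonpos T i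
    omega
  have h := Groth.Agent.Lib.NumType.Basic.off_mul_le T hne
  have h0 := Groth.Agent.Lib.NumType.Basic.diag_nonpos T j
  have hw := (Groth.Agent.Lib.NumType.Basic.w_le T hij).1
  rw [abs_of_nonpos h0]
  constructor <;> nlinarith [T.m_pos i]

end Groth.Agent.S2182
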