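import Groth.Statements.S2183
import Groth.Agent.Lib.NumType.Basic

set_option autoImplicit false
open Finset
open Models Models.NumericalType

namespace Groth.Agent.S2183

open Classical in
/-- Let T be a minimal numerical type with n > 1 indices and genus g at least 2, and let J be the set of
indices which are not (-2)-indices. Then J has at most 2g - 2 elements, and for j in J one has g j <
g, m j * |a j j| at most 6g - 6, and m i * a i j at most 6g - 6 for every index i. -/
theorem result {n : ℕ} (T : Models.NumericalType n) (hmin : T.IsMinimal) (hn : 1 < n) (hg : 2 ≤ T.genus) :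
    ((univ.filter fun j => ¬T.IsMinusTwo j).card : ℤ) ≤ 2 * T.genus - 2 ∧
      ∀ j, ¬T.IsMinusTwo j →
        T.g j < T.genus ∧ T.m j * |T.a j j| ≤ 6 * T.genus - 6 ∧
          ∀ i, T.m i * T.a i j ≤ 6 * T.genus - 6 := by
  have hc0 := Groth.Agent.Lib.NumType.Basic.contrib_nonneg T hmin hn
  have hsum := Groth.Agent.Lib.NumType.Basic.sum_contrib T
  have hle : ∀ j, Groth.Agent.Lib.NumType.Basic.contrib T j ≤ 2 * T.genus - 2 := fun j => by
    rw [← hsum]
    exact Finset.single_le_sum (fun k _ => hc0 k) (mem_univ j)
  refine ⟨?_, fun j hj => ?_⟩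
  · rw [← hsum, Finset.card_eq_sum_ones, Nat.cast_sum, Nat.cast_one, Finset.sum_filter]
    refine Finset.sum_le_sum fun j _ => ?_
    by_cases h : T.IsMinusTwo j
    · simpa [h] using hc0 j
    · simp only [h, not_false_eq_true, if_true]
      refine lt_of_le_of_ne (hc0 j) fun he => h ?_
      exact Groth.Agent.Lib.NumType.Basic.isMinusTwo_of_contrib_zero T hn j he.symm
  · obtain ⟨k, hk, he⟩ := Groth.Agent.Lib.NumType.Basic.diag_eq T hn j
    have hm := T.m_pos j
    have hw := T.w_pos j
    have hg0 := T.g_nonneg j
    have hmw : 1 ≤ T.m j * T.w j := mul_pos hm hw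
    have hc : Groth.Agent.Lib.NumType.Basic.contrib T j = T.m j * T.w j * (2 * T.g j - 2 + k) := by
      unfold Groth.Agent.Lib.NumType.Basic.contrib; rw [he]; ring
    have hbig : T.m j * |T.a j j| ≤ 6 * T.genus - 6 := by
      have habs : T.m j * |T.a j j| = T.m j * T.w j * k := by
        rw [abs_of_neg (Groth.Agent.Lib.NumType.Basic.diag_neg T hn j), he]; ring
      rw [habs]
      rcases hg0.eq_or_lt with h0 | h0
      · have hk3 : 3 ≤ k := by
          by_contra h3
          obtain rfl | rfl : k = 1 ∨ k = 2 := by omega
          · exact hmin j ⟨h0.symm, by rw [he]; ring⟩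
          · exact hj ⟨h0.symm, by rw [he]; ring⟩
        rw [← h0] at hc
        have := hle j
        nlinarith
      · have := hle j
        nlinarith
    refine ⟨?_, hbig, fun i => ?_⟩
    · have := hle j
      have h2 : 2 * T.g j - 1 ≤ 2 * T.genus - 2 := by
        by_cases h1 : T.g j = 0
        · omega
        · nlinarith [mul_le_mul_of_nonneg_right hmw (show (0:ℤ) ≤ 2 * T.g j - 2 + k by omega)]
      omega
    · rcases eq_or_ne i j with rfl | hne
      · nlinarith [Groth.Agent.Lib.NumType.Basic.diag_nonpos T i]
      · have := Groth.Agent.Lib.NumType.Basic.off_mul_le T hne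
        rw [abs_of_neg (Groth.Agent.Lib.NumType.Basic.diag_neg T hn j)] at hbig
        linarith

end Groth.Agent.S2183
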