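import Groth.Statements.S2187
import Groth.Agent.Lib.Vasconcelos.Core

set_option autoImplicit false
universe u
open CategoryTheory
open LCI

namespace Groth.Agent.S2187

/-- Let R be a Noetherian local ring and I an ideal of finite projective dimension as an R-module. If F
is a direct summand of the conormal module I/I^2 which is isomorphic to R/I, then there is a
nonzerodivisor x in I whose class in I/I^2 generates F. -/
theorem result {R : Type u} [CommRing R]
    [IsNoetherianRing R] [IsLocalRing R] (I : Ideal R) (n : ℕ)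
    (hpd : HasProjectiveDimensionLT (ModuleCat.of R I) n)
    (F G : Submodule (R ⧸ I) I.Cotangent) (hFG : IsCompl F G) (e : F ≃ₗ[R ⧸ I] (R ⧸ I)) :
    ∃ (x : R) (hx : x ∈ I), x ∈ nonZeroDivisors R ∧
      Submodule.span (R ⧸ I) {I.toCotangent ⟨x, hx⟩} = F := by
  haveI : IsLocalRing R := inferInstance
  by_cases hI : I = ⊤
  · subst hI
    refine ⟨1, trivial, one_mem _, ?_⟩
    haveI : Subsingleton (R ⧸ (⊤ : Ideal R)) := Ideal.Quotient.subsingleton_iff.2 rfl
    haveI := Module.subsingleton (R ⧸ (⊤ : Ideal R)) (Ideal.Cotangent (⊤ : Ideal R))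
    exact Subsingleton.elim _ _
  obtain ⟨y, hy⟩ := I.toCotangent_surjective (e.symm 1 : F)
  let c : I →ₗ[R] R ⧸ I :=
    ((e.toLinearMap.comp (Submodule.projectionOnto F G hFG)).restrictScalars R).comp I.toCotangent
  have hc : c y = 1 := by
    simp [c, hy, Submodule.projectionOnto_apply_left]
  obtain ⟨x, hxy, hx⟩ := Lib.Vasconcelos.Core.exists_regular_lift hI
    (n := n) (show Lib.Regular.PD.PDle R I n from
      hasProjectiveDimensionLT_of_ge (ModuleCat.of R I) n (n + 1) (Nat.le_succ n)) y c hc
  have hxI : x ∈ I := by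
    have := add_mem (Ideal.pow_le_self two_ne_zero hxy) y.2
    rwa [sub_add_cancel] at this
  refine ⟨x, hxI, ?_, ?_⟩
  · exact mem_nonZeroDivisors_iff_right.2 fun z hz => hx.right_eq_zero_of_smul (by rwa [smul_eq_mul, mul_comm])
  · rw [show I.toCotangent ⟨x, hxI⟩ = (e.symm 1 : F) from hy ▸ I.toCotangent_eq.2 hxy]
    refine le_antisymm (Submodule.span_le.2 (by simp)) fun z hz => Submodule.mem_span_singleton.2 ⟨e ⟨z, hz⟩, ?_⟩
    rw [← Submodule.coe_smul, ← map_smul, smul_eq_mul, mul_one, LinearEquiv.symm_apply_apply]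

end Groth.Agent.S2187
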