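import Groth.Statements.S2188
import Groth.Agent.Lib.Vasconcelos.Core

set_option autoImplicit false
universe u
open CategoryTheory
open LCI

namespace Groth.Agent.S2188

/-- Let R be a Noetherian local ring and I an ideal of finite projective dimension as an R-module. If F
is a direct summand of I/I^2 which is free of rank r over R/I, then there is a regular sequence x_1,
..., x_r of R inside I whose classes in I/I^2 generate F. -/
theorem result {R : Type u} [CommRing R]
    [IsNoetherianRing R] [IsLocalRing R] (I : Ideal R) (hI : I ≠ ⊤) (n : ℕ)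
    (hpd : HasProjectiveDimensionLT (ModuleCat.of R I) n)
    (F G : Submodule (R ⧸ I) I.Cotangent) (hFG : IsCompl F G) (r : ℕ)
    (e : F ≃ₗ[R ⧸ I] (Fin r → R ⧸ I)) :
    ∃ (x : Fin r → R) (hx : ∀ i, x i ∈ I), RingTheory.Sequence.IsRegular R (List.ofFn x) ∧
      Submodule.span (R ⧸ I) (Set.range fun i => I.toCotangent ⟨x i, hx i⟩) = F := by
  classical
  choose y hy using fun i : Fin r => I.toCotangent_surjective (e.symm (Pi.single i 1) : F)
  let c : I →ₗ[R] (Fin r → R ⧸ I) :=
    ((e.toLinearMap.comp (Submodule.projectionOnto F G hFG)).restrictScalars R).comp I.toCotangent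
  have hc : ∀ i, c (y i) = Pi.single i 1 := fun i => by
    simp [c, hy, Submodule.projectionOnto_apply_left]
  obtain ⟨x, hxy, hreg⟩ := Lib.Vasconcelos.Core.exists_isRegular_lift r I hI n
    (show Lib.Regular.PD.PDle R I n from
      hasProjectiveDimensionLT_of_ge (ModuleCat.of R I) n (n + 1) (Nat.le_succ n)) y c hc
  have hxI : ∀ i, x i ∈ I := fun i => by
    have := add_mem (Ideal.pow_le_self two_ne_zero (hxy i)) (y i).2
    rwa [sub_add_cancel] at this
  refine ⟨x, hxI, hreg, ?_⟩
  have hx : (fun i => I.toCotangent ⟨x i, hxI i⟩) = F.subtype ∘ e.symm ∘ fun i => Pi.single i 1 :=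
    funext fun i => (I.toCotangent_eq.2 (hxy i)).trans (hy i)
  rw [hx, Set.range_comp, Set.range_comp, Submodule.span_image,
    show (e.symm : (Fin r → R ⧸ I) → F) = e.symm.toLinearMap from rfl, Submodule.span_image]
  rw [show (fun i => Pi.single i (1 : R ⧸ I)) = ⇑(Pi.basisFun (R ⧸ I) (Fin r)) from
    funext fun i => (Pi.basisFun_apply _ _ i).symm, Module.Basis.span_eq, Submodule.map_top,
    LinearEquiv.range, Submodule.map_subtype_top]

end Groth.Agent.S2188
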