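import Groth.Statements.S2190
import Groth.Agent.Lib.NumType.Basic

set_option autoImplicit false
open Finset
open Models Models.NumericalType

namespace Groth.Agent.S2190

/-- A minimal numerical type of genus zero has a single index, with m = 1, a = 0, w = 1 and g = 0. -/
theorem result {n : ℕ} (T : Models.NumericalType n) (hmin : T.IsMinimal) (hg : T.genus = 0) :
    n = 1 ∧ ∀ i, T.m i = 1 ∧ T.a i i = 0 ∧ T.w i = 1 ∧ T.g i = 0 := by
  have hn : n = 1 := by
    by_contra hne
    have := Groth.Agent.Lib.NumType.Basic.one_le_genus T hmin (by have := T.pos; omega)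
    omega
  subst hn
  refine ⟨rfl, fun i => ?_⟩
  rw [Subsingleton.elim i 0]
  have h0 := Groth.Agent.Lib.NumType.Basic.diag_zero_of_one T
  have h1 : T.m 0 * T.w 0 * (1 - T.g 0) = 1 := by
    simp [Models.NumericalType.genus, h0] at hg
    linarith
  have hm := T.m_pos 0
  have hw := T.w_pos 0
  have hg0 := T.g_nonneg 0
  have hmw : 1 ≤ T.m 0 * T.w 0 := mul_pos hm hw
  have hgz : T.g 0 = 0 := by
    by_contra hne
    have : 1 - T.g 0 ≤ 0 := by omega
    nlinarith
  rw [hgz, sub_zero, mul_one] at h1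
  rcases Int.mul_eq_one_iff_eq_one_or_neg_one.1 h1 with ⟨ha, hb⟩ | ⟨ha, hb⟩
  · exact ⟨ha, h0, hb, hgz⟩
  · omega

end Groth.Agent.S2190
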