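import Groth.Statements.S2195
import Groth.Agent.Lib.Disc.Unram
import Mathlib.RingTheory.Finiteness.ModuleFinitePresentation
import Mathlib.RingTheory.Smooth.Fiber

set_option autoImplicit false
universe u v
open Disc

namespace Groth.Agent.S2195

/-- Ring form of the statement: let B be an A-algebra which is finite free as an A-module with basis b.
Then A -> B is etale if and only if the discriminant of b (the determinant of the matrix of traces
Tr(b_i b_j)) is a unit of A, i.e. the discriminant locus is empty. -/
theorem result {A : Type u} {B : Type v} [CommRing A] [CommRing B]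
    [Algebra A B] {ι : Type} [Fintype ι] [DecidableEq ι] (b : Module.Basis ι A B) :
    Algebra.Etale A B ↔ IsUnit (Algebra.discr A b) := by
  haveI : Module.Free A B := Module.Free.of_basis b
  haveI : Module.Finite A B := Module.Finite.of_basis b
  haveI : Module.FinitePresentation A B := Module.finitePresentation_of_projective A B
  haveI : Algebra.FinitePresentation A B := inferInstance
  have h1 : (1 : B) ∈ Disc.differentSet A B ↔ IsUnit (Algebra.discr A b) := by
    constructor
    · intro h
      have := Groth.Agent.Lib.Disc.Different.norm_mem_span_discr b h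
      rw [map_one, Ideal.mem_span_singleton] at this
      exact isUnit_of_dvd_one this
    · intro h φ
      obtain ⟨v, hv⟩ : ∃ v : ι → A, Matrix.vecMul v (Algebra.traceMatrix A b) = fun j => φ (b j) :=
        ⟨Matrix.vecMul (fun j => φ (b j)) (Algebra.traceMatrix A b)⁻¹, by
          rw [Matrix.vecMul_vecMul, Matrix.nonsing_inv_mul _ h, Matrix.vecMul_one]⟩
      refine ⟨∑ i, v i • b i, fun x => ?_⟩
      rw [one_mul]
      have he : φ = (Algebra.traceForm A B) (∑ i, v i • b i) := b.ext fun j => by
        have := congrFun hv j
        simp only [Matrix.vecMul, dotProduct, Algebra.traceMatrix_apply] at this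
        simp [← this, LinearMap.sum_apply]
      rw [he, Algebra.traceForm_apply]
  constructor
  · intro h
    refine h1.1 ?_
    by_contra hne
    have hD : ¬ Disc.noetherDifferent A B = ⊤ := fun hD =>
      hne (Groth.Agent.Lib.Disc.Unram.noetherDifferent_subset_differentSet (hD ▸ Submodule.mem_top))
    obtain ⟨q, hq, hle⟩ := Ideal.exists_le_maximal _ hD
    haveI := hq.isPrime
    haveI := h
    exact (Groth.Agent.Lib.Disc.Unram.noetherDifferent_le_iff q).1 hle inferInstance
  · intro h
    haveI : Algebra.FormallyUnramified A B := Algebra.formallyUnramified_iff_forall.2 fun q => by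
      by_contra hq
      have := (Groth.Agent.Lib.Disc.Unram.differentSet_subset_iff (A := A) q.asIdeal).2
        ((Groth.Agent.Lib.Disc.Unram.noetherDifferent_le_iff q.asIdeal).2 hq) (h1.2 h)
      exact q.isPrime.ne_top ((Ideal.eq_top_iff_one _).2 this)
    exact Algebra.Etale.of_formallyUnramified_of_flat

end Groth.Agent.S2195
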