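import Groth.Statements.S2203
import Mathlib.Algebra.Category.ModuleCat.Biproducts
import Mathlib.LinearAlgebra.Span.Basic
import Mathlib.CategoryTheory.Preadditive.AdditiveFunctor
import Mathlib.CategoryTheory.Preadditive.Biproducts


set_option autoImplicit false
universe u
open CategoryTheory
open QCohCat

namespace Groth.Agent.S2203

/-- Ring-isomorphism part of the statement: let A and B be commutative rings whose categories of modules
are equivalent. Then A and B are isomorphic as rings. (The source moreover describes the equivalence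
as base change followed by tensoring with an invertible module.) -/
theorem result (A B : Type u) [CommRing A] [CommRing B]
    (F : ModuleCat.{u} A ≌ ModuleCat.{u} B) : Nonempty (A ≃+* B) := by
  classical
  haveI := Limits.preservesBinaryBiproducts_of_preservesBinaryProducts F.functor
  haveI : F.functor.Additive := Functor.additive_of_preservesBinaryBiproducts _
  haveI := Limits.preservesBinaryBiproducts_of_preservesBinaryProducts F.inverse
  haveI : F.inverse.Additive := Functor.additive_of_preservesBinaryBiproducts _
  let G := F.inverse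
  have center : ∀ (d : ∀ M : ModuleCat.{u} A, M ⟶ M),
      (∀ {M N : ModuleCat.{u} A} (g : M ⟶ N), g ≫ d N = d M ≫ g) →
        ∃ a : A, ∀ M, d M = a • 𝟙 M := by
    intro d hd
    refine ⟨(d (ModuleCat.of A A)).hom (1 : A), fun M => ?_⟩
    ext m
    have := congr((ModuleCat.Hom.hom $(hd (ModuleCat.ofHom (LinearMap.toSpanSingleton A M m)))) (1 : A))
    simpa using this
  have hinj : ∀ (R : Type u) [CommRing R] (r r' : R),
      r • 𝟙 (ModuleCat.of R R) = r' • 𝟙 (ModuleCat.of R R) → r = r' := by
    intro R _ r r' h
    simpa using congr((ModuleCat.Hom.hom $h) (1 : R))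
  have tot : ∀ b : B, ∃ a : A, ∀ N, G.map (b • 𝟙 N) = a • 𝟙 (G.obj N) := by
    intro b
    obtain ⟨a, ha⟩ := center
      (fun M => F.unitIso.hom.app M ≫ G.map (b • 𝟙 (F.functor.obj M)) ≫ F.unitIso.inv.app M)
      (fun {M N} g => by
        have h1 := F.unitIso.hom.naturality g
        have h2 := F.unitIso.inv.naturality g
        dsimp at h1 h2 ⊢
        simp only [Category.assoc, reassoc_of% h1, G, ← h2]
        rw [← F.inverse.map_comp_assoc, ← F.inverse.map_comp_assoc]
        simp)
    refine ⟨a, fun N => ?_⟩
    have hF : ∀ M, G.map (b • 𝟙 (F.functor.obj M)) = a • 𝟙 (G.obj (F.functor.obj M)) := by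
      intro M
      rw [← cancel_epi (F.unitIso.hom.app M), ← cancel_mono (F.unitIso.inv.app M), Category.assoc,
        ha M, Linear.comp_smul, Linear.smul_comp, Category.assoc]
      simp [G]
    let i : F.functor.obj (G.obj N) ≅ N := F.counitIso.app N
    have : b • 𝟙 N = i.inv ≫ (b • 𝟙 _) ≫ i.hom := by simp
    rw [this, G.map_comp, G.map_comp, hF, Linear.smul_comp, Category.id_comp, Linear.comp_smul,
      ← G.map_comp, i.inv_hom_id, G.map_id]
  choose ψ hψ using tot
  have huniq : ∀ (b : B) (a : A), (∀ N, G.map (b • 𝟙 N) = a • 𝟙 (G.obj N)) → ψ b = a := by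
    intro b a ha
    let i : G.obj (F.functor.obj (ModuleCat.of A A)) ≅ ModuleCat.of A A := (F.unitIso.app _).symm
    apply hinj A
    have h := (hψ b _).symm.trans (ha (F.functor.obj (ModuleCat.of A A)))
    have h' := congr(i.inv ≫ $h ≫ i.hom)
    simpa using h'
  let ψh : B →+* A :=
    { toFun := ψ
      map_one' := huniq _ _ fun N => by simp
      map_zero' := huniq _ _ fun N => by simp
      map_add' := fun x y => huniq _ _ fun N => by rw [add_smul, G.map_add, hψ, hψ, add_smul]
      map_mul' := fun x y => huniq _ _ fun N => by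
        have : (x * y) • 𝟙 N = (y • 𝟙 N) ≫ (x • 𝟙 N) := by simp [smul_smul]
        rw [this, G.map_comp, hψ, hψ]
        simp [smul_smul] }
  refine ⟨(RingEquiv.ofBijective ψh ⟨fun x y h => hinj B x y (G.map_injective ?_), fun a => ?_⟩).symm⟩
  · rw [hψ, hψ]
    exact congrArg (fun t : A => t • 𝟙 _) h
  · have hnat : ∀ {N N' : ModuleCat.{u} B} (g : N ⟶ N'),
        g ≫ G.preimage (a • 𝟙 (G.obj N')) = G.preimage (a • 𝟙 (G.obj N)) ≫ g := by
      intro N N' g
      apply G.map_injective
      simp
    refine ⟨(G.preimage (a • 𝟙 (G.obj (ModuleCat.of B B)))).hom (1 : B), huniq _ _ fun N => ?_⟩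
    have : G.preimage (a • 𝟙 (G.obj N)) =
        (G.preimage (a • 𝟙 (G.obj (ModuleCat.of B B)))).hom (1 : B) • 𝟙 N := by
      ext m
      have := congr((ModuleCat.Hom.hom $(hnat (ModuleCat.ofHom (LinearMap.toSpanSingleton B N m)))) (1 : B))
      simpa using this
    rw [← this, Functor.map_preimage]

end Groth.Agent.S2203
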