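import Groth.Statements.S2207
import Mathlib.Tactic.LinearCombination
import Mathlib.Algebra.Ring.GeomSum
-- import your own Groth.Agent.* helpers here

set_option autoImplicit false
universe u v
open DPow

namespace Groth.Agent.S2207

/-- Existence in case (2): let I = (x) be a principal ideal of A with a divided power structure and B
any A-algebra. Then there is a divided power structure on I B for which A -> B is a homomorphism of
divided power rings. -/
theorem result {A : Type u} {B : Type v} [CommRing A] [CommRing B] [Algebra A B]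
    (x : A) (γ : DividedPowers (Ideal.span {x})) :
    ∃ δ : DividedPowers ((Ideal.span {x}).map (algebraMap A B)), γ.IsDPMorphism δ (algebraMap A B) := by
  classical
  let φ := algebraMap A B
  have hJ : ∀ y, y ∈ (Ideal.span {x}).map φ ↔ ∃ b, y = b * φ x := fun y => by
    rw [Ideal.map_span, Set.image_singleton, Ideal.mem_span_singleton']
    exact ⟨fun ⟨b, h⟩ => ⟨b, h.symm⟩, fun ⟨b, h⟩ => ⟨b, h.symm⟩⟩
  have hx : x ∈ Ideal.span {x} := Ideal.mem_span_singleton_self x
  have hc : ∀ n, n ≠ 0 → ∃ c : A, c * x = γ.dpow n x := fun n hn =>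
    Ideal.mem_span_singleton'.1 (γ.dpow_mem hn hx)
  -- `b ^ n * γ_n x` depends only on `b * x`
  have hwd : ∀ (n : ℕ) (b b' : B), b * φ x = b' * φ x → b ^ n * φ (γ.dpow n x) = b' ^ n * φ (γ.dpow n x) := by
    intro n b b' h
    rcases eq_or_ne n 0 with rfl | hn
    · simp
    obtain ⟨c, hc⟩ := hc n hn
    rw [← hc, map_mul]
    obtain ⟨q, hq⟩ := sub_dvd_pow_sub_pow b b' n
    linear_combination φ c * (φ x) * hq + φ c * q * h
  let d : ℕ → B → B := fun n y => if h : ∃ b, y = b * φ x then h.choose ^ n * φ (γ.dpow n x) else 0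
  have hd : ∀ n b, d n (b * φ x) = b ^ n * φ (γ.dpow n x) := fun n b => by
    have h : ∃ b', b * φ x = b' * φ x := ⟨b, rfl⟩
    simp only [d, dif_pos h]
    exact hwd n _ _ h.choose_spec.symm
  let δ : DividedPowers ((Ideal.span {x}).map φ) :=
  { dpow := d
    dpow_null := fun {n y} hy => dif_neg (fun h => hy ((hJ y).2 h))
    dpow_zero := fun {y} hy => by
      obtain ⟨b, rfl⟩ := (hJ y).1 hy
      simp [hd, γ.dpow_zero hx]
    dpow_one := fun {y} hy => by
      obtain ⟨b, rfl⟩ := (hJ y).1 hy
      simp [hd, γ.dpow_one hx]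
    dpow_mem := fun {n y} hn hy => by
      obtain ⟨b, rfl⟩ := (hJ y).1 hy
      rw [hd]
      exact Ideal.mul_mem_left _ _ (Ideal.mem_map_of_mem φ (γ.dpow_mem hn hx))
    dpow_add := fun {n y z} hy hz => by
      obtain ⟨b, rfl⟩ := (hJ y).1 hy
      obtain ⟨c, rfl⟩ := (hJ z).1 hz
      rw [← add_mul, hd, Commute.add_pow' (Commute.all b c), Finset.sum_mul]
      refine Finset.sum_congr rfl fun k hk => ?_
      rw [Finset.HasAntidiagonal.mem_antidiagonal] at hk
      rw [hd, hd, nsmul_eq_mul, ← hk]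
      have h := congrArg φ (γ.mul_dpow (m := k.1) (n := k.2) hx)
      rw [map_mul, map_mul, map_natCast] at h
      linear_combination (-(b ^ k.1 * c ^ k.2)) * h
    dpow_mul := fun {n a y} hy => by
      obtain ⟨b, rfl⟩ := (hJ y).1 hy
      rw [← mul_assoc, hd, hd, mul_pow]
      ring
    mul_dpow := fun {m n y} hy => by
      obtain ⟨b, rfl⟩ := (hJ y).1 hy
      have h := congrArg φ (γ.mul_dpow (m := m) (n := n) hx)
      rw [map_mul, map_mul, map_natCast] at h
      rw [hd, hd, hd, pow_add]
      linear_combination (b ^ m * b ^ n) * h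
    dpow_comp := fun {m n y} hn hy => by
      obtain ⟨b, rfl⟩ := (hJ y).1 hy
      obtain ⟨c, hcx⟩ := hc n hn
      have h := congrArg φ (γ.dpow_comp (m := m) hn hx)
      rw [map_mul, map_natCast, ← hcx, γ.dpow_mul hx, map_mul, map_pow] at h
      rw [hd, hd, ← hcx, map_mul, ← mul_assoc, hd, mul_pow, ← pow_mul, mul_comm n m]
      linear_combination (b ^ (m * n)) * h }
  refine ⟨δ, ⟨le_rfl, fun {n} a ha => ?_⟩⟩
  obtain ⟨c, rfl⟩ := Ideal.mem_span_singleton'.1 ha
  show d n (φ (c * x)) = φ (γ.dpow n (c * x))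
  rw [map_mul, hd, γ.dpow_mul hx, map_mul, map_pow]

end Groth.Agent.S2207
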