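import Groth.Statements.S2211
import Mathlib.Data.Nat.Choose.Lucas
-- import your own Groth.Agent.* helpers here

set_option autoImplicit false
universe u
open DPow

namespace Groth.Agent.S2211

/-- First part: let p be a prime and A a ring in which every integer prime to p is invertible, I an
ideal of A. Two divided power structures on I coincide exactly when their p-th divided power maps
agree on I. -/
theorem result {A : Type u} [CommRing A] (p : ℕ) (hp : p.Prime)
    (hA : ∀ n : ℕ, ¬ p ∣ n → IsUnit (n : A)) {I : Ideal A} (γ γ' : DividedPowers I) :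
    γ = γ' ↔ ∀ x ∈ I, γ.dpow p x = γ'.dpow p x := by
  refine ⟨fun h _ _ => by rw [h], fun h => ?_⟩
  haveI := Fact.mk hp
  -- binomial coefficients `C(a * p^j, p^j)` and the Bell numbers
  have hLucas : ∀ (j a b c : ℕ), b < p ^ j → c < p ^ j →
      ∀ a', (a * p ^ j + b).choose (a' * p ^ j + c) ≡ a.choose a' * b.choose c [MOD p] := by
    intro j
    induction j with
    | zero => intro a b c hb hc a'; simp_all [Nat.lt_one_iff, Nat.ModEq.refl]
    | succ j ih =>
      intro a b c hb hc a'
      refine Choose.choose_modEq_choose_mod_mul_choose_div_nat.trans ?_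
      have hmod : ∀ (a b : ℕ), (a * p ^ (j + 1) + b) % p = b % p := fun a b => by
        rw [show a * p ^ (j + 1) + b = b + p * (a * p ^ j) by ring, Nat.add_mul_mod_self_left]
      have hdiv : ∀ (a b : ℕ), (a * p ^ (j + 1) + b) / p = a * p ^ j + b / p := fun a b => by
        rw [show a * p ^ (j + 1) + b = b + p * (a * p ^ j) by ring, Nat.add_mul_div_left _ _ hp.pos,
          add_comm]
      rw [hmod, hmod, hdiv, hdiv]
      have hb' : b / p < p ^ j := Nat.div_lt_of_lt_mul (by rw [← pow_succ']; exact hb)
      have hc' : c / p < p ^ j := Nat.div_lt_of_lt_mul (by rw [← pow_succ']; exact hc)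
      refine ((ih a (b / p) (c / p) hb' hc' a').mul_left _).trans ?_
      refine Nat.ModEq.trans (congrArg (· % p) (mul_left_comm _ _ _))
        ((Choose.choose_modEq_choose_mod_mul_choose_div_nat (n := b) (k := c) (p := p)).symm.mul_left _)
  have hunit : ∀ m : ℕ, m ≡ 1 [MOD p] → IsUnit (m : A) := fun m hm => hA m fun hd => by
    have h1 := Nat.ModEq.symm hm |>.trans (Nat.modEq_zero_iff_dvd.2 hd)
    exact hp.not_dvd_one (Nat.modEq_zero_iff_dvd.1 h1)
  ext n x hx
  induction n using Nat.strong_induction_on generalizing x with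
  | _ n ih =>
    rcases Nat.eq_zero_or_pos n with rfl | hn
    · rw [γ.dpow_zero hx, γ'.dpow_zero hx]
    obtain ⟨j, m, hm, rfl⟩ := Nat.exists_eq_pow_mul_and_not_dvd hn.ne' p hp.ne_one
    rcases Nat.lt_or_ge 1 m with hm1 | hm1
    · -- `n` is not a power of `p`
      have hpos : 0 < p ^ j := pow_pos hp.pos j
      have hsum : p ^ j + (m - 1) * p ^ j = p ^ j * m := by
        rw [show p ^ j * m = (1 + (m - 1)) * p ^ j by rw [mul_comm]; congr 1; omega]; ring
      have h1 := γ.mul_dpow (m := p ^ j) (n := (m - 1) * p ^ j) hx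
      have h2 := γ'.mul_dpow (m := p ^ j) (n := (m - 1) * p ^ j) hx
      rw [hsum] at h1 h2
      rw [ih _ (by rw [← hsum]; exact Nat.lt_add_of_pos_right (Nat.mul_pos (by omega) hpos)) hx,
        ih _ (by rw [← hsum]; exact Nat.lt_add_of_pos_left hpos) hx, h2] at h1
      refine ((hA _ fun hd => hm ?_).mul_right_inj.1 h1).symm
      have h3 := hLucas j m 0 0 hpos hpos 1
      rw [add_zero, add_zero, one_mul, Nat.choose_one_right, Nat.choose_zero_right, mul_one, mul_comm] at h3
      exact Nat.modEq_zero_iff_dvd.1 (h3.symm.trans (Nat.modEq_zero_iff_dvd.2 hd))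
    obtain rfl : m = 1 := by
      rcases m with _ | m
      · simp at hn
      · omega
    rw [mul_one] at hn ⊢
    rcases j with _ | j
    · rw [pow_zero, γ.dpow_one hx, γ'.dpow_one hx]
    have hpos : p ^ j ≠ 0 := (pow_pos hp.pos j).ne'
    have hlt : p ^ j < p ^ (j + 1) := Nat.pow_lt_pow_right hp.one_lt (Nat.lt_succ_self j)
    have h1 := γ.dpow_comp (m := p) hpos hx
    have h2 := γ'.dpow_comp (m := p) hpos hx
    rw [ih _ (by simpa using hlt) hx, h _ (γ'.dpow_mem hpos hx), h2, ← pow_succ'] at h1
    refine ((hunit _ ?_).mul_right_inj.1 h1).symm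
    rw [Nat.uniformBell_eq, Nat.ModEq, Finset.prod_nat_mod]
    have key : ∀ i ∈ Finset.range p, Nat.choose (i * p ^ j + p ^ j - 1) (p ^ j - 1) % p = 1 := by
      intro i _
      have hb : p ^ j - 1 < p ^ j := by omega
      have h3 := hLucas j i (p ^ j - 1) (p ^ j - 1) hb hb 0
      rw [zero_mul, zero_add, Nat.choose_zero_right, Nat.choose_self, mul_one,
        show i * p ^ j + (p ^ j - 1) = i * p ^ j + p ^ j - 1 by omega] at h3
      rw [h3, Nat.one_mod_eq_one.2 hp.ne_one]
    rw [Finset.prod_congr rfl key, Finset.prod_const_one]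

end Groth.Agent.S2211
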