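import Groth.Statements.S2217
import Groth.Agent.Lib.Disc.QFInv
import Groth.Agent.Lib.Disc.FieldGor
import Groth.Agent.Lib.Goren.Rings

set_option autoImplicit false
universe u
open Disc

namespace Groth.Agent.S2217

open CategoryTheory
attribute [local instance] Algebra.TensorProduct.rightAlgebra

/-- Equivalence of (2) and (4) in the affine finite free case: let A be a Noetherian ring and B an
A-algebra which is finite free as an A-module (so A -> B is flat and quasi-finite). Then all fibre
rings kappa(p) tensor_A B are Gorenstein if and only if omega_{B/A} = Hom_A(B, A), with its B-module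
structure through the argument, is an invertible B-module. -/
theorem result {A B : Type u} [CommRing A] [CommRing B]
    [Algebra A B] [IsNoetherianRing A] [Module.Finite A B] [Module.Free A B] :
    (∀ (p : Ideal A) [p.IsPrime], LocCoh.IsGorensteinRing (p.Fiber B)) ↔
      Module.Invertible B (Disc.Omega A B) := by
  haveI : Module.Flat A B := inferInstance
  haveI : IsNoetherianRing B := IsNoetherianRing.of_finite A B
  have hopen : AlgebraicGeometry.IsOpenImmersion
      (AlgebraicGeometry.Spec.map (CommRingCat.ofHom (algebraMap B B))) := by
    rw [show CommRingCat.ofHom (algebraMap B B) = 𝟙 (CommRingCat.of B) from rfl,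
      AlgebraicGeometry.Spec.map_id]
    infer_instance
  constructor
  · intro H
    haveI : Module.Invertible B (QFDual.omega A B B) :=
      Groth.Agent.Lib.Disc.QFInv.invertible_of_fibres hopen fun p hp B'₁ B₁ _ _ _ _ _ _ _ _ _ _ _ _ _ _ _ _ _ h hB => by
        haveI := hp
        haveI := h
        haveI := H p
        let ε := Algebra.IsPushout.equiv A p.ResidueField B B'₁
        haveI : Module.Finite p.ResidueField B'₁ := Module.Finite.equiv ε.toLinearEquiv
        haveI : LocCoh.IsGorensteinRing B'₁ :=
          Groth.Agent.Lib.Goren.Rings.isGorensteinRing_of_ringEquiv (ε.toRingEquiv : p.Fiber B ≃+* B'₁)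
        haveI : Module.Invertible B'₁ (Disc.Omega p.ResidueField B'₁) :=
          Groth.Agent.Lib.Disc.FieldGor.field_iff.1 ‹_›
        exact inferInstance
    exact Module.Invertible.congr (TensorProduct.lid B (Disc.Omega A B))
  · intro hinv p hp
    haveI := hinv
    haveI : Module.Invertible B (QFDual.omega A B B) :=
      Module.Invertible.congr (TensorProduct.lid B (Disc.Omega A B)).symm
    haveI : Module.Invertible (p.Fiber B) (QFDual.omega p.ResidueField (p.Fiber B) (p.Fiber B)) :=
      Groth.Agent.Lib.Disc.QFInv.invertible_fibre (A := A) (B' := B) (B := B) (A₁ := p.ResidueField) (B'₁ := p.Fiber B) (B₁ := p.Fiber B)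
        hopen inferInstance inferInstance
    exact Groth.Agent.Lib.Disc.FieldGor.field_iff.2
      (Module.Invertible.congr (TensorProduct.lid (p.Fiber B) (Disc.Omega p.ResidueField (p.Fiber B))))

end Groth.Agent.S2217
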