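import Groth.Statements.S2219
import Groth.Agent.Lib.DiffTame.TraceFiltration
import Mathlib.RingTheory.SimpleModule.Basic
import Mathlib.Algebra.CharP.Lemmas
import Mathlib.RingTheory.Artinian.Module

set_option autoImplicit false
set_option backward.isDefEq.respectTransparency false
universe u
open Disc

namespace Groth.Agent.S2219

open IsLocalRing

variable {k A : Type u} [Field k] [CommRing A] [Algebra k A] [FiniteDimensional k A] [IsLocalRing A]

theorem trace_smul : ∀ (n : ℕ) (M : Type u) [AddCommGroup M] [Module A M] [Module k M]
    [IsScalarTower k A M] [FiniteDimensional k M], Module.length A M = n → ∀ a : A,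
    LinearMap.trace k M ((LinearMap.lsmul A M a).restrictScalars k) =
      (n : k) * Algebra.trace k (ResidueField A) (residue A a) := by
  intro n
  induction n with
  | zero =>
    intro M _ _ _ _ _ hlen a
    haveI := Module.length_eq_zero_iff.mp hlen
    rw [Nat.cast_zero, zero_mul, show (LinearMap.lsmul A M a).restrictScalars k = 0 from
      LinearMap.ext fun x => Subsingleton.elim _ _, map_zero]
  | succ n ih =>
    intro M _ _ _ _ _ hlen a
    haveI : IsArtinian A M := isArtinian_of_tower k inferInstance
    haveI : Nontrivial M := Module.length_pos_iff.mp (by rw [hlen]; exact_mod_cast n.succ_pos)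
    obtain ⟨N, hN, -⟩ := (eq_bot_or_exists_atom_le (⊤ : Submodule A M)).resolve_left (top_ne_bot)
    haveI : IsSimpleModule A N := isSimpleModule_iff_isAtom.mpr hN
    obtain ⟨I, hI, ⟨e⟩⟩ := isSimpleModule_iff_quot_maximal.mp ‹IsSimpleModule A N›
    obtain rfl := IsLocalRing.eq_maximalIdeal hI
    have h1 : Module.length A N = 1 := Module.length_eq_one A N
    have hadd := Module.length_eq_add_of_exact N.subtype N.mkQ Subtype.val_injective
      N.mkQ_surjective (LinearMap.exact_subtype_mkQ N)
    rw [hlen, h1, Nat.cast_succ, add_comm (1 : ℕ∞)] at hadd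
    have hq : Module.length A (M ⧸ N) = n := ((WithTop.add_right_inj ENat.one_ne_top).mp hadd).symm
    haveI : FiniteDimensional k N := inferInstanceAs (FiniteDimensional k (N.restrictScalars k))
    haveI : FiniteDimensional k (M ⧸ N) :=
      Module.Finite.of_surjective (N.mkQ.restrictScalars k) N.mkQ_surjective
    rw [Groth.Agent.DiffTame.trace_eq_add_of_exact (N.subtype.restrictScalars k) (N.mkQ.restrictScalars k)
      Subtype.val_injective N.mkQ_surjective (LinearMap.exact_subtype_mkQ N)
      ((LinearMap.lsmul A N a).restrictScalars k) ((LinearMap.lsmul A M a).restrictScalars k)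
      ((LinearMap.lsmul A (M ⧸ N) a).restrictScalars k) (fun _ => rfl) (fun _ => rfl),
      ih (M ⧸ N) hq a]
    let e' : (N : Submodule A M) ≃ₗ[k] ResidueField A := e.restrictScalars k
    rw [← LinearMap.trace_conj' _ e', show e'.conj ((LinearMap.lsmul A N a).restrictScalars k) =
      Algebra.lmul k (ResidueField A) (residue A a) from ?_, ← Algebra.trace_apply]
    · push_cast
      ring
    ext y
    rw [LinearEquiv.conj_apply_apply]
    change e (a • e.symm y) = residue A a * y
    rw [map_smul, LinearEquiv.apply_symm_apply, Algebra.smul_def]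
    rfl

/-- Equivalence of (1) and (3): let k be a field and A a finite-dimensional local k-algebra with residue
field k'. Then the trace map Tr_{A/k} is not identically zero if and only if k' is separable over k
and the length of A as a module over itself is not divisible by the characteristic of k (no
condition in characteristic zero). -/
theorem result (k A : Type u) [Field k] [CommRing A]
    [Algebra k A] [FiniteDimensional k A] [IsLocalRing A] :
    Algebra.trace k A ≠ 0 ↔
      (Algebra.IsSeparable k (IsLocalRing.ResidueField A) ∧
        ∀ p : ℕ, p.Prime → CharP k p → ¬ p ∣ (Module.length A A).toNat) := by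
  haveI : IsNoetherianRing A := isNoetherian_of_tower k inferInstance
  haveI : IsArtinianRing A := isArtinian_of_tower k inferInstance
  obtain ⟨n, hn⟩ := ENat.ne_top_iff_exists.mp (Module.length_ne_top (R := A) (M := A))
  have htr : ∀ a, Algebra.trace k A a =
      (n : k) * Algebra.trace k (IsLocalRing.ResidueField A) (IsLocalRing.residue A a) := fun a => by
    rw [← trace_smul n A hn.symm a, Algebra.trace_apply]
    rfl
  rw [← hn, ENat.toNat_natCast]
  have hn0 : n ≠ 0 := by
    rintro rfl
    exact not_subsingleton A (Module.length_eq_zero_iff.mp (hn.symm.trans Nat.cast_zero))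
  have hdiv : (n : k) ≠ 0 ↔ ∀ p : ℕ, p.Prime → CharP k p → ¬ p ∣ n := by
    refine ⟨fun h p _ hc hd => h ((CharP.cast_eq_zero_iff k p n).mpr hd), fun h h0 => ?_⟩
    obtain ⟨p, hp⟩ := CharP.exists k
    rcases CharP.char_is_prime_or_zero k p with hp' | rfl
    · exact h p hp' hp ((CharP.cast_eq_zero_iff k p n).mp h0)
    · exact hn0 (zero_dvd_iff.mp ((CharP.cast_eq_zero_iff k 0 n).mp h0))
  haveI : Module.Finite k (IsLocalRing.ResidueField A) :=
    Module.Finite.of_surjective (IsScalarTower.toAlgHom k A (IsLocalRing.ResidueField A)).toLinearMap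
      IsLocalRing.residue_surjective
  rw [← hdiv]
  constructor
  · intro h
    refine ⟨by_contra fun hs => h ?_, fun h0 => h ?_⟩
    · exact LinearMap.ext fun a => by
        rw [htr, Algebra.trace_eq_zero_of_not_isSeparable hs]; simp
    · exact LinearMap.ext fun a => by rw [htr, h0]; simp
  · rintro ⟨hs, h0⟩ h
    refine Algebra.trace_ne_zero k (IsLocalRing.ResidueField A) (LinearMap.ext fun y => ?_)
    obtain ⟨a, rfl⟩ := IsLocalRing.residue_surjective y
    have := htr a
    rw [h, LinearMap.zero_apply, eq_comm] at this
    exact (mul_eq_zero.mp this).resolve_left h0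

end Groth.Agent.S2219
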