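import Groth.Statements.S2220
import Groth.Agent.Lib.Disc.Transfer
import Mathlib.AlgebraicGeometry.Morphisms.Flat
import Mathlib.Algebra.Category.Ring.Epi

set_option autoImplicit false
universe u
open AlgebraicGeometry
open Disc

open scoped TensorProduct

namespace Groth.Agent.S2220

/-- Part (2): for ring maps A -> B' -> B with B' of finite type over A and Spec B -> Spec B' an open
immersion, the Noether different of B over A is the ideal generated by the image of that of B'. -/
theorem result {A B' B : Type u} [CommRing A] [CommRing B']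
    [CommRing B] [Algebra A B'] [Algebra A B] [Algebra B' B] [IsScalarTower A B' B]
    [Algebra.FiniteType A B']
    (h : IsOpenImmersion (Spec.map (CommRingCat.ofHom (algebraMap B' B)))) :
    Disc.noetherDifferent A B = (Disc.noetherDifferent A B').map (algebraMap B' B) := by
  haveI := h
  have hflat : (algebraMap B' B).Flat :=
    (AlgebraicGeometry.HasRingHomProperty.Spec_iff (P := @AlgebraicGeometry.Flat)
      (φ := CommRingCat.ofHom (algebraMap B' B))).1 inferInstance
  let f := CommRingCat.ofHom (algebraMap B' B)
  haveI : CategoryTheory.Mono (AlgebraicGeometry.Scheme.Spec.map f.op) :=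
    (inferInstance : CategoryTheory.Mono (AlgebraicGeometry.Spec.map f))
  haveI : CategoryTheory.Mono f.op :=
    AlgebraicGeometry.Scheme.Spec.mono_of_mono_map (f := f.op) inferInstance
  haveI hepi : CategoryTheory.Epi f := CategoryTheory.unop_epi_of_mono f.op
  let ι : B' →ₐ[A] B := IsScalarTower.toAlgHom A B' B
  let φ : B' ⊗[A] B' →ₐ[A] B ⊗[A] B := Algebra.TensorProduct.map ι ι
  refine Groth.Agent.Lib.Disc.Transfer.noetherDifferent_map φ.toRingHom
    (RingHom.Flat.tensorProductMap hflat hflat) _ (fun z => ?_) (fun s => ?_)
  · induction z using TensorProduct.induction_on with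
    | zero => simp
    | tmul x y => simp [φ, ι]
    | add x y hx hy => simp only [map_add, hx, hy]
  · set J := (RingHom.ker (Algebra.TensorProduct.lmul' (S := B') A)).map φ.toRingHom
    let l : B →+* (B ⊗[A] B) ⧸ J :=
      (Ideal.Quotient.mk J).comp (Algebra.TensorProduct.includeLeft : B →ₐ[A] B ⊗[A] B).toRingHom
    let r : B →+* (B ⊗[A] B) ⧸ J :=
      (Ideal.Quotient.mk J).comp (Algebra.TensorProduct.includeRight : B →ₐ[A] B ⊗[A] B).toRingHom
    have hlr : CommRingCat.ofHom r = CommRingCat.ofHom l := by
      refine (CategoryTheory.cancel_epi f).1 (CommRingCat.hom_ext (RingHom.ext fun b => ?_))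
      refine (Ideal.Quotient.eq (I := J)).2 ?_
      have hb : (1 : B') ⊗ₜ[A] b - b ⊗ₜ[A] (1 : B') ∈
          RingHom.ker (Algebra.TensorProduct.lmul' (S := B') A) := by simp [RingHom.mem_ker]
      have := Ideal.mem_map_of_mem φ.toRingHom hb
      simp only [map_sub, φ, ι, AlgHom.toRingHom_eq_coe, RingHom.coe_coe, Algebra.TensorProduct.map_tmul, map_one] at this
      exact this
    exact Ideal.Quotient.eq.1 (RingHom.congr_fun (congrArg CommRingCat.Hom.hom hlr) s)

end Groth.Agent.S2220
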