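import Groth.Statements.S2224
import Groth.Agent.Lib.SchColim29.FlatKernel

set_option autoImplicit false
set_option linter.style.haveILetI false
universe u
open CategoryTheory AlgebraicGeometry
attribute [local instance] HasDerivedCategory.standard
open QCohCat

namespace Groth.Agent.S2224

/-- Case (2) with the kernel a single coherent module: let S be a Noetherian scheme, X -> S and Y -> S
of finite type, and K a coherent module on X x_S Y which is flat over X and whose support is proper
over Y. Assuming the derived functors L pr_1^*, - tensor^L K and R pr_2,* exist (assumed as unproved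
hypotheses), the Fourier-Mukai transform R pr_2,* (L pr_1^* M tensor^L K) of any bounded object M of
D(O_X) with coherent cohomology sheaves is a bounded object of D(O_Y) with coherent cohomology
sheaves. -/
theorem result {S X Y : Scheme.{u}} [IsNoetherian S]
    (a : X ⟶ S) (b : Y ⟶ S) [LocallyOfFiniteType a] [QuasiCompact a] [LocallyOfFiniteType b]
    [QuasiCompact b] (K : (Limits.pullback a b).Modules) (hK : Coh.IsCoh K)
    (hflat : FlatMod.IsFlatOver (Limits.pullback.fst a b) K)
    (hsupp : ClSub.IsProperOver (Limits.pullback.snd a b) (CohB1.support K))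
    [DCoh.HasLpull (Limits.pullback.fst a b)] [DCoh.HasLTensorMod K]
    [DCoh.HasRpush (Limits.pullback.snd a b)]
    (M : DCoh.D X) (hM : DCoh.IsCohD M) (m n : ℤ) (hMge : DerivedCategory.IsGE M m)
    (hMle : DerivedCategory.IsLE M n) :
    DCoh.IsCohD ((DCoh.Rpush (Limits.pullback.snd a b)).obj
        ((DCoh.LTensorMod K).obj ((DCoh.Lpull (Limits.pullback.fst a b)).obj M))) ∧
      ∃ m' n' : ℤ, DerivedCategory.IsGE ((DCoh.Rpush (Limits.pullback.snd a b)).obj
          ((DCoh.LTensorMod K).obj ((DCoh.Lpull (Limits.pullback.fst a b)).obj M))) m' ∧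
        DerivedCategory.IsLE ((DCoh.Rpush (Limits.pullback.snd a b)).obj
          ((DCoh.LTensorMod K).obj ((DCoh.Lpull (Limits.pullback.fst a b)).obj M))) n' := by
  haveI : IsLocallyNoetherian Y := LocallyOfFiniteType.isLocallyNoetherian b
  haveI : CompactSpace Y := QuasiCompact.compactSpace_of_compactSpace b
  let p := Limits.pullback.fst a b
  let q := Limits.pullback.snd a b
  haveI : LocallyOfFiniteType q := inferInstance
  let E := (DCoh.LTensorMod K).obj ((DCoh.Lpull p).obj M)
  haveI := hMge
  haveI := hMle
  have θ := fun i => (Groth.Agent.Lib.SchColim29.FlatKernel.nonempty_HD_iso p K hflat M i).some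
  haveI : E.IsGE m := (DerivedCategory.isGE_iff _ _).2 fun i hi =>
    ((Groth.Agent.Lib.SchColim29.FlatKernel.T p K).map_isZero
      (DerivedCategory.isZero_of_isGE M m i hi)).of_iso (θ i)
  haveI : E.IsLE n := (DerivedCategory.isLE_iff _ _).2 fun i hi =>
    ((Groth.Agent.Lib.SchColim29.FlatKernel.T p K).map_isZero
      (DerivedCategory.isZero_of_isLE M n i hi)).of_iso (θ i)
  have hE : Groth.Agent.Lib.WayOut.Bounded.HasP (Groth.Agent.Lib.SchColim29.CohPush.PS q) E := fun i => by
    have hc := Groth.Agent.Lib.SchColim29.FlatKernel.isCoh_obj p K hK (hM i)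
    haveI := hc.1
    haveI := hc.2
    exact (Groth.Agent.Lib.SchColim29.CohPush.PS q).prop_of_iso (θ i).symm ⟨hc,
      _root_.ZarCoh.ProperOver.isProperOver_of_subset q hsupp
        (Groth.Agent.Lib.Modules.Support.isClosed_support _)
        (Groth.Agent.Lib.SchColim29.FlatKernel.support_subset p K _)⟩
  obtain ⟨n', hn'⟩ := Groth.Agent.Lib.SchColim29.CohPush.exists_isLE_Rpush q E hE m n
  exact ⟨Groth.Agent.Lib.SchColim29.CohPush.isCohD_Rpush q E hE m, m, n',
    Groth.Agent.Lib.SchColim29.CohPush.Rpush_isGE q E m, hn'⟩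

end Groth.Agent.S2224
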