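import Groth.Statements.S2225
import Groth.Agent.Lib.ModelFibre.Chart
import Groth.Agent.Lib.ModelFibre.GorensteinQuot

set_option autoImplicit false
universe u
open CategoryTheory AlgebraicGeometry
open Models

namespace Groth.Agent.S2225

/-- Part (1), for the closed fibre: let R be a discrete valuation ring with fraction field K, C a smooth
proper curve over K and X a regular model of C over R (flat, of finite type, all local rings
regular). Then every local ring of the special fibre X_k is a Gorenstein local ring; together with
flatness and regularity of the generic fibre this says X -> Spec R is a Gorenstein morphism. -/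
theorem result (R : Type u) [CommRing R] [IsDomain R]
    [IsDiscreteValuationRing R] (C X : Scheme.{u})
    (f : C ⟶ Spec (CommRingCat.of (FractionRing R))) (p : X ⟶ Spec (CommRingCat.of R))
    (hC : Curve.IsSmoothProperCurve (FractionRing R) C f) (hX : Models.IsModel R X p C f)
    (hreg : Models.IsRegularScheme X) (x : ↥(Models.specialFibre R X p)) :
    LocCoh.IsGorensteinLocalRing ((Models.specialFibre R X p).presheaf.stalk x) := by
  obtain ⟨hflat, -, -, -⟩ := hX
  set φk : R →+* IsLocalRing.ResidueField R := algebraMap R (IsLocalRing.ResidueField R) with hφk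
  have hs : IsPullback (Limits.pullback.fst p (Spec.map (CommRingCat.ofHom φk)))
      (Limits.pullback.snd p (Spec.map (CommRingCat.ofHom φk))) p (Spec.map (CommRingCat.ofHom φk)) :=
    IsPullback.of_hasPullback _ _
  have hφ : Function.Surjective φk := IsLocalRing.residue_surjective
  have hker : RingHom.ker φk = IsLocalRing.maximalIdeal R := IsLocalRing.ker_residue
  set gs := Limits.pullback.fst p (Spec.map (CommRingCat.ofHom φk)) with hgs
  have hk := Groth.Agent.Lib.ModelFibre.Stalk.ker_stalkMap φk hφ hs x
  obtain ⟨π, hπ⟩ := IsDiscreteValuationRing.exists_irreducible R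
  rw [hker, (IsDiscreteValuationRing.irreducible_iff_uniformizer π).mp hπ, Ideal.map_span,
    Set.image_singleton] at hk
  have hreg' : IsRegularLocalRing (X.presheaf.stalk (gs x)) := hreg (gs x)
  have hgor := Groth.Agent.Lib.ModelFibre.GorensteinQuot.isGorenstein_of_isRegular
    (X.presheaf.stalk (gs x))
  have : IsClosedImmersion (Spec.map (CommRingCat.ofHom φk)) :=
    IsClosedImmersion.spec_of_surjective _ hφ
  have : IsClosedImmersion gs := MorphismProperty.of_isPullback hs.flip inferInstance
  let alg : Algebra (X.presheaf.stalk (gs x)) ((Models.specialFibre R X p).presheaf.stalk x) :=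
    (gs.stalkMap x).hom.toAlgebra
  refine Groth.Agent.Lib.ModelFibre.GorensteinQuot.isGorenstein_quotient
    (A := X.presheaf.stalk (gs x)) (gs.stalkMap_surjective x) hk ?_
  exact Groth.Agent.Lib.ModelFibre.Chart.isSMulRegular_baseHom p (gs x) (IsRegular.of_ne_zero hπ.ne_zero)

end Groth.Agent.S2225
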