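import Groth.Statements.S2231
import Groth.Agent.Lib.SchColim29.RpushPerfect
import Groth.Agent.Lib.Perfect.Tensor
import Groth.Agent.S0921

set_option autoImplicit false
universe u
open CategoryTheory AlgebraicGeometry
attribute [local instance] HasDerivedCategory.standard
open QCohCat

namespace Groth.Agent.S2231

/-- Case (3): let X -> S be proper, flat and of finite presentation, Y -> S arbitrary, and K a complex
of modules on X x_S Y which is perfect. Assuming the derived functors L pr_1^*, - tensor^L K and R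
pr_2,* exist (unproved hypotheses carried as binders), the Fourier-Mukai transform of a perfect
object of D(O_X) is a perfect object of D(O_Y). -/
theorem result {S X Y : Scheme.{u}} (a : X ⟶ S)
    (b : Y ⟶ S) [IsProper a] [Flat a] [LocallyOfFinitePresentation a]
    (K : CochainComplex (Limits.pullback a b).Modules ℤ)
    (hK : DCoh.IsPerfect (DCoh.toD (Limits.pullback a b) K))
    [DCoh.HasLpull (Limits.pullback.fst a b)] [DCoh.HasLTensorCx K]
    [DCoh.HasRpush (Limits.pullback.snd a b)] (M : DCoh.D X) (hM : DCoh.IsPerfect M) :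
    DCoh.IsPerfect ((DCoh.Rpush (Limits.pullback.snd a b)).obj
        ((DCoh.LTensorCx K).obj ((DCoh.Lpull (Limits.pullback.fst a b)).obj M))) := by
  haveI : IsProper (Limits.pullback.snd a b) := inferInstance
  haveI : Flat (Limits.pullback.snd a b) := inferInstance
  haveI : LocallyOfFinitePresentation (Limits.pullback.snd a b) :=
    inferInstance
  refine Groth.Agent.Lib.SchColim29.RpushPerfect.isPerfect_Rpush (Limits.pullback.snd a b) ?_
  have hN := Groth.Agent.S0921.result (Limits.pullback.fst a b) M hM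
  obtain ⟨P, hP, ⟨eP⟩⟩ := Groth.Agent.Lib.DerivedOX.QCohLocal.exists_kflat
    ((DCoh.Lpull (Limits.pullback.fst a b)).obj M)
  haveI : QuasiIso ((Groth.Agent.Lib.DerivedOX.KFlat.aug _).app K) := Groth.Agent.Lib.DerivedOX.KFlat.quasiIso_aug K
  have hK' : DCoh.IsKFlat ((Groth.Agent.Lib.DerivedOX.KFlat.res _).obj K) := Groth.Agent.Lib.DerivedOX.KFlat.isKFlat_res K
  haveI := Groth.Agent.Lib.DerivedOX.LeftExists.hasLTensorCx
    ((Groth.Agent.Lib.DerivedOX.KFlat.res _).obj K)
  let eK : DerivedCategory.Q.obj ((Groth.Agent.Lib.DerivedOX.KFlat.res _).obj K) ≅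
      DerivedCategory.Q.obj K :=
    asIso (DerivedCategory.Q.map ((Groth.Agent.Lib.DerivedOX.KFlat.aug _).app K))
  obtain ⟨s⟩ := Groth.Agent.Lib.DerivedOX.QCohLocal.nonempty_LTensorCx_iso K hP
  obtain ⟨s'⟩ := Groth.Agent.Lib.DerivedOX.QCohLocal.nonempty_LTensorCx_iso
    ((Groth.Agent.Lib.DerivedOX.KFlat.res _).obj K) hP
  obtain ⟨c⟩ := Groth.Agent.Lib.DerivedOX.QCohLocal.nonempty_tensor_iso hP eK
  refine Groth.Agent.Lib.Perfect.Triangle.isPerfect_of_iso
    (s' ≪≫ c ≪≫ s.symm ≪≫ (DCoh.LTensorCx K).mapIso eP)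
    (Groth.Agent.Lib.Perfect.Tensor.isPerfect_LTensorCx _ hK'
      (Groth.Agent.Lib.Perfect.Triangle.isPerfect_of_iso eK.symm hK)
      (Groth.Agent.Lib.Perfect.Triangle.isPerfect_of_iso eP.symm hN))

end Groth.Agent.S2231
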