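import Groth.Statements.S2232
import Groth.Agent.Lib.SchColim29.PerfTensor
import Groth.Agent.Lib.SchColim29.CohPush
import Groth.Agent.S1005
import Groth.Agent.S0921

set_option autoImplicit false
set_option linter.style.haveILetI false
universe u
open CategoryTheory AlgebraicGeometry
attribute [local instance] HasDerivedCategory.standard
open QCohCat

namespace Groth.Agent.S2232

/-- Case (3): let S be Noetherian, X -> S and Y -> S of finite type with all local rings of X regular,
and K a bounded complex of modules on X x_S Y with coherent cohomology sheaves whose supports are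
proper over Y. Assuming the derived functors L pr_1^*, - tensor^L K and R pr_2,* exist (unproved
hypotheses carried as binders), the Fourier-Mukai transform of a bounded object of D(O_X) with
coherent cohomology sheaves is a bounded object of D(O_Y) with coherent cohomology sheaves. -/
theorem result {S X Y : Scheme.{u}} [IsNoetherian S]
    (a : X ⟶ S) (b : Y ⟶ S) [LocallyOfFiniteType a] [QuasiCompact a] [LocallyOfFiniteType b]
    [QuasiCompact b] (hreg : Models.IsRegularScheme X)
    (K : CochainComplex (Limits.pullback a b).Modules ℤ)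
    (hKcoh : DCoh.IsCohD (DCoh.toD (Limits.pullback a b) K)) (kₗ kᵤ : ℤ)
    (hKge : DerivedCategory.IsGE (DCoh.toD (Limits.pullback a b) K) kₗ)
    (hKle : DerivedCategory.IsLE (DCoh.toD (Limits.pullback a b) K) kᵤ)
    (hsupp : ∀ i : ℤ, ClSub.IsProperOver (Limits.pullback.snd a b)
      (CohB1.support (DCoh.HD (DCoh.toD (Limits.pullback a b) K) i)))
    [DCoh.HasLpull (Limits.pullback.fst a b)] [DCoh.HasLTensorCx K]
    [DCoh.HasRpush (Limits.pullback.snd a b)]
    (M : DCoh.D X) (hM : DCoh.IsCohD M) (m n : ℤ) (hMge : DerivedCategory.IsGE M m)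
    (hMle : DerivedCategory.IsLE M n) :
    DCoh.IsCohD ((DCoh.Rpush (Limits.pullback.snd a b)).obj
        ((DCoh.LTensorCx K).obj ((DCoh.Lpull (Limits.pullback.fst a b)).obj M))) ∧
      ∃ m' n' : ℤ, DerivedCategory.IsGE ((DCoh.Rpush (Limits.pullback.snd a b)).obj
        ((DCoh.LTensorCx K).obj ((DCoh.Lpull (Limits.pullback.fst a b)).obj M))) m' ∧
        DerivedCategory.IsLE ((DCoh.Rpush (Limits.pullback.snd a b)).obj
        ((DCoh.LTensorCx K).obj ((DCoh.Lpull (Limits.pullback.fst a b)).obj M))) n' := by
  haveI : IsLocallyNoetherian X := LocallyOfFiniteType.isLocallyNoetherian a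
  haveI : IsLocallyNoetherian Y := LocallyOfFiniteType.isLocallyNoetherian b
  haveI : CompactSpace X := QuasiCompact.compactSpace_of_compactSpace a
  haveI : CompactSpace Y := QuasiCompact.compactSpace_of_compactSpace b
  haveI : IsLocallyNoetherian (Limits.pullback a b) :=
    LocallyOfFiniteType.isLocallyNoetherian (Limits.pullback.snd a b)
  haveI : CompactSpace (Limits.pullback a b : Scheme.{u}) :=
    QuasiCompact.compactSpace_of_compactSpace (Limits.pullback.snd a b)
  haveI := hKge
  haveI := hKle
  haveI := hMge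
  haveI := hMle
  let p := Limits.pullback.fst a b
  let q := Limits.pullback.snd a b
  have hMp : DCoh.IsPerfect M := Groth.Agent.S1005.result X hreg M m n hM
  obtain ⟨hc, ⟨c, d, hge, hle⟩, hs⟩ := Groth.Agent.Lib.SchColim29.PerfTensor.tensor_perfect K kₗ kᵤ hKcoh
    (Groth.Agent.S0921.result p M hMp)
  haveI := hge
  haveI := hle
  let R := (DCoh.LTensorCx K).obj ((DCoh.Lpull p).obj M)
  have hR : Groth.Agent.Lib.WayOut.Bounded.HasP (Groth.Agent.Lib.SchColim29.CohPush.PS q) R := fun i =>
    ⟨hc i, _root_.ZarCoh.ProperOver.isProperOver_of_subset_iUnion q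
      (fun k : Set.Icc kₗ kᵤ => CohB1.support (DCoh.HD (DCoh.toD _ K) k)) (fun k => hsupp k)
      (haveI := (hc i).2; Groth.Agent.Lib.Modules.Support.isClosed_support _) (hs i)⟩
  obtain ⟨d', hd⟩ := Groth.Agent.Lib.SchColim29.CohPush.exists_isLE_Rpush q R hR c d
  exact ⟨Groth.Agent.Lib.SchColim29.CohPush.isCohD_Rpush q R hR c, c, d',
    Groth.Agent.Lib.SchColim29.CohPush.Rpush_isGE q R c, hd⟩

end Groth.Agent.S2232
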