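import Groth.Statements.S2233
import Groth.Agent.H56.PSup.Main
import Groth.Agent.H56.PSup.Termwise

set_option autoImplicit false
universe u
open CategoryTheory AlgebraicGeometry
attribute [local instance] HasDerivedCategory.standard
open QCohCat

namespace Groth.Agent.S2233

/-- Case (2): let X -> S be quasi-compact, quasi-separated and locally of finite presentation, Y -> S
arbitrary, and K a bounded complex of finitely presented modules on X x_S Y, each flat over Y and
with support proper over Y. Assuming the derived functors L pr_1^*, - tensor^L K and R pr_2,* exist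
(unproved hypotheses carried as binders), the Fourier-Mukai transform of a perfect object of D(O_X)
is a perfect object of D(O_Y). -/
theorem result {S X Y : Scheme.{u}} (a : X ⟶ S)
    (b : Y ⟶ S) [QuasiCompact a] [QuasiSeparated a] [LocallyOfFinitePresentation a]
    (K : CochainComplex (Limits.pullback a b).Modules ℤ) (kₗ kᵤ : ℤ)
    (hKb : DCoh.VanishesOutside K kₗ kᵤ) (hKfp : ∀ i : ℤ, CohB1.IsFP (K.X i))
    (hKflat : ∀ i : ℤ, FlatMod.IsFlatOver (Limits.pullback.snd a b) (K.X i))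
    (hKsupp : ∀ i : ℤ, ClSub.IsProperOver (Limits.pullback.snd a b) (CohB1.support (K.X i)))
    [DCoh.HasLpull (Limits.pullback.fst a b)] [DCoh.HasLTensorCx K]
    [DCoh.HasRpush (Limits.pullback.snd a b)] (M : DCoh.D X) (hM : DCoh.IsPerfect M) :
    DCoh.IsPerfect ((DCoh.Rpush (Limits.pullback.snd a b)).obj
        ((DCoh.LTensorCx K).obj ((DCoh.Lpull (Limits.pullback.fst a b)).obj M))) := by
  let f := Limits.pullback.snd a b
  obtain ⟨D, hDk, ⟨eD⟩⟩ := Groth.Agent.Lib.DerivedOX.QCohLocal.exists_kflat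
    ((DCoh.Lpull (Limits.pullback.fst a b)).obj M)
  haveI := Groth.Agent.Lib.DerivedOX.LeftExists.hasLTensorCx D
  have hD : DCoh.IsPerfect (DerivedCategory.Q.obj D) :=
    Groth.Agent.Lib.Perfect.Triangle.isPerfect_of_iso eD.symm (Groth.Agent.S0921.result _ _ hM)
  obtain ⟨P', hP', ⟨eP'⟩⟩ := Groth.Agent.Lib.DerivedOX.QCohLocal.exists_kflat (DerivedCategory.Q.obj K)
  obtain ⟨t⟩ := Groth.Agent.Lib.DerivedOX.QCohLocal.nonempty_LTensorCx_iso K hDk
  obtain ⟨s⟩ := Groth.Agent.Lib.DerivedOX.QCohLocal.nonempty_LTensorCx_iso D hP'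
  obtain ⟨c⟩ := Groth.Agent.Lib.DerivedOX.QCohLocal.nonempty_tensor_iso hDk eP'
  let eW : (DCoh.LTensorCx D).obj (DerivedCategory.Q.obj K) ≅
      (DCoh.LTensorCx K).obj ((DCoh.Lpull (Limits.pullback.fst a b)).obj M) :=
    (DCoh.LTensorCx D).mapIso eP'.symm ≪≫ s ≪≫
      DerivedCategory.Q.mapIso (Groth.Agent.Lib.DerivedOX.TensorSymm.commCx _ _) ≪≫ c ≪≫ t.symm ≪≫
        (DCoh.LTensorCx K).mapIso eD
  let Pf : ObjectProperty (DCoh.D Y) := fun L => DCoh.IsPerfect L
  haveI : Pf.IsTriangulated := inferInstanceAs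
    (ObjectProperty.IsTriangulated fun L : DCoh.D Y => DCoh.IsPerfect L)
  haveI : Pf.IsClosedUnderIsomorphisms :=
    ⟨fun e h => Groth.Agent.Lib.Perfect.Triangle.isPerfect_of_iso e h⟩
  haveI : (Groth.Agent.H56.PSup.Triangle.pre D (DCoh.Rpush f) Pf).IsTriangulated :=
    Groth.Agent.H56.PSup.Triangle.pre_isTriangulated D (DCoh.Rpush f) Pf
  exact Groth.Agent.Lib.Perfect.Triangle.isPerfect_of_iso ((DCoh.Rpush f).mapIso eW)
    (Groth.Agent.H56.PSup.Termwise.prop_of_termwise
      (Groth.Agent.H56.PSup.Triangle.pre D (DCoh.Rpush f) Pf) K kₗ kᵤ hKb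
      fun i _ _ => Groth.Agent.H56.PSup.Main.isPerfect_Rpush f D hDk hD (K.X i) (hKfp i) (hKflat i) (hKsupp i))

end Groth.Agent.S2233
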