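import Groth.Statements.S2234
import Groth.Agent.H54.NLPerfect
import Groth.Agent.Lib.LCI5.TwoTermFlat
import Groth.Agent.Lib.LCI5.ConormalFlat
import Groth.Agent.Lib.LCI5.FieldLCI
import Groth.Agent.Lib.LCI5.SyntField
import Groth.Agent.Lib.Synt92.CritLocal
import Groth.Agent.S9287
import Mathlib.RingTheory.TensorProduct.MvPolynomial

set_option autoImplicit false
universe u
attribute [local instance] HasDerivedCategory.standard
open LCI

namespace Groth.Agent.S2234

open scoped TensorProduct

theorem nonempty_tensor_ker {A B : Type u} [CommRing A] [CommRing B] [Algebra A B]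
    (P : Algebra.Extension.{u} A B) : Nonempty (B ⊗[P.Ring] P.ker ≃ₗ[B] P.Cotangent) := by
  have hs : Function.Surjective (algebraMap P.Ring B) := fun b => ⟨P.σ b, P.algebraMap_σ b⟩
  let q : (P.Ring ⧸ P.ker) ≃ₗ[P.Ring] B :=
    (Ideal.quotientKerAlgEquivOfSurjective (f := Algebra.ofId P.Ring B) hs).toLinearEquiv
  let e : B ⊗[P.Ring] P.ker ≃ₗ[P.Ring] P.Cotangent :=
    ((TensorProduct.congr q.symm (LinearEquiv.refl _ _)).trans
      (TensorProduct.quotTensorEquivQuotSMul P.ker P.ker)).trans P.cotangentEquivCotangentKer.symm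
  exact ⟨{ e.toAddEquiv with
    map_smul' := fun c x => by
      obtain ⟨r, rfl⟩ := hs c
      change e (algebraMap P.Ring B r • x) = algebraMap P.Ring B r • e x
      rw [algebraMap_smul, algebraMap_smul, map_smul] }⟩

attribute [local instance] MvPolynomial.algebraMvPolynomial in
/-- A flat algebra with flat conormal module has syntomic fibres. -/
theorem isSyntomic_of_flat {A B : Type u} [CommRing A] [CommRing B] [Algebra A B]
    [Module.Flat A B] [Algebra.FinitePresentation A B] {n : ℕ}
    [Algebra (MvPolynomial (Fin n) A) B] [IsScalarTower A (MvPolynomial (Fin n) A) B]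
    (hs : Function.Surjective (algebraMap (MvPolynomial (Fin n) A) B))
    (I : Ideal (MvPolynomial (Fin n) A))
    (hI : RingHom.ker (algebraMap (MvPolynomial (Fin n) A) B) = I)
    [Module.Flat B (B ⊗[MvPolynomial (Fin n) A] I)] : Synt.IsSyntomic A B := by
  refine ⟨inferInstance, inferInstance, fun p => ?_⟩
  haveI : Algebra.FiniteType A B := inferInstance
  obtain ⟨φ, hφ, hker, -⟩ := Lib.Synt92.CritLocal.exists_fibre_hom
    (IsScalarTower.toAlgHom A (MvPolynomial (Fin n) A) B) hs p.asIdeal
  haveI : Module.Flat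
      (MvPolynomial (Fin n) p.asIdeal.ResidueField ⧸
        I.map (algebraMap (MvPolynomial (Fin n) A) (MvPolynomial (Fin n) p.asIdeal.ResidueField)))
      (I.map (algebraMap (MvPolynomial (Fin n) A)
        (MvPolynomial (Fin n) p.asIdeal.ResidueField)) : Ideal _).Cotangent :=
    Lib.LCI5.ConormalFlat.flat_cotangent_map (A := A) (K := p.asIdeal.ResidueField) (B := B) hs I hI
  have hkr := Lib.LCI5.FieldLCI.isKoszulRegularIdeal
    (I.map (algebraMap (MvPolynomial (Fin n) A) (MvPolynomial (Fin n) p.asIdeal.ResidueField)))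
  refine Lib.LCI5.SyntField.isLCIOver ((Groth.Agent.S9287.result _ _).2
    ⟨inferInstance, inferInstance, n, φ, hφ, ?_⟩)
  rw [hker]
  exact hI ▸ hkr

/-- Equivalence of (1) and (4): take a ring map A -> B that is flat and of finite presentation. The
naive cotangent complex NL_{B/A} has tor-amplitude in [-1, 0] (it is isomorphic in D(B) to a
two-term complex of flat modules in those degrees) if and only if A -> B is a local complete
intersection homomorphism (some presentation has Koszul-regular kernel ideal). -/
theorem result {A B : Type u} [CommRing A] [CommRing B] [Algebra A B]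
    [Module.Flat A B] [Algebra.FinitePresentation A B] :
    DRing.HasTorAmplitudeIn B (-1) 0 (LCI.NL A B) ↔ LCI.IsLCI A B := by
  refine ⟨fun hamp => ?_, fun h => (Groth.Agent.H54.NLPerfect.isPerfect_NL h).2⟩
  obtain ⟨n, ψ, hψ, -⟩ := (inferInstance : Algebra.FinitePresentation A B).out
  have hv : MvPolynomial.aeval (R := A) (fun i => ψ (MvPolynomial.X i)) = ψ :=
    MvPolynomial.algHom_ext fun i => by simp
  let G : Algebra.Generators A B (Fin n) :=
    Algebra.Generators.ofSurjective (fun i => ψ (MvPolynomial.X i)) (hv.symm ▸ hψ)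
  let P := G.toExtension
  obtain ⟨e⟩ := Groth.Agent.H54.NLPerfect.nonempty_iso_presentations P
    (Algebra.Generators.self A B).toExtension
    (G.defaultHom (Algebra.Generators.self A B)).toExtensionHom
    ((Algebra.Generators.self A B).defaultHom G).toExtensionHom
  have : Module.Projective B P.CotangentSpace := Module.Projective.of_basis G.cotangentSpaceBasis
  haveI : Module.Flat B P.Cotangent := by
    obtain ⟨E, hE, hflat, ⟨e'⟩⟩ := hamp
    exact Lib.LCI5.TwoTermFlat.flat_of_torAmplitude (ModuleCat.ofHom P.cotangentComplex)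
      ⟨E, hE, hflat, ⟨e' ≪≫ e.symm⟩⟩
  obtain ⟨e₂⟩ := nonempty_tensor_ker P
  haveI : Module.Flat B (B ⊗[P.Ring] P.ker) := Module.Flat.of_linearEquiv e₂
  exact ((Groth.Agent.S9287.result A B).1 (@isSyntomic_of_flat A B _ _ _ _ _ n P.algebra₂
    P.isScalarTower (fun b => ⟨P.σ b, P.algebraMap_σ b⟩) P.ker rfl ‹_›)).2

end Groth.Agent.S2234
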