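import Groth.Statements.S2235
import Groth.Agent.Lib.Wiebe.Bridge
import Mathlib.RingTheory.Flat.Stability
import Mathlib.RingTheory.TensorProduct.Quotient

set_option autoImplicit false
universe u
open TensorProduct
open Disc

namespace Groth.Agent.S2235

open Groth.Agent.Lib.Wiebe Groth.Agent.Lib.Wiebe.Link in
/-- The abstract form: the annihilator of the image of `(g)` in `Q / (F)` is generated by `det c`. -/
theorem annihilator_span_image {Q R : Type u} [CommRing Q] [CommRing R] {n : ℕ}
    (F g : Fin n → Q) (c : Matrix (Fin n) (Fin n) Q) (hc : ∀ i, F i = ∑ j, c i j * g j)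
    (hF : Acyc F) (μ : Q →+* R) (hμ : Function.Surjective μ)
    (hker : RingHom.ker μ = Ideal.span (Set.range F)) :
    Submodule.annihilator (Ideal.map μ (Ideal.span (Set.range g))) = Ideal.span {μ c.det} := by
  rw [Ideal.map_span]
  apply le_antisymm
  · intro r hr
    obtain ⟨y, rfl⟩ := hμ r
    have hy : ∀ j, y * g j ∈ Ideal.span (Set.range F) := by
      intro j
      rw [← hker, RingHom.mem_ker, map_mul]
      have h : μ y • μ (g j) = 0 :=
        (Submodule.mem_annihilator.1 hr) _ (Ideal.subset_span ⟨g j, ⟨j, rfl⟩, rfl⟩)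
      exact h
    obtain ⟨a, ha, b, hb, hab⟩ := Submodule.mem_sup.1 (Link.mem_of_mul_mem F g c hc hF hy)
    rw [← hker, RingHom.mem_ker] at hb
    obtain ⟨t, rfl⟩ := Ideal.mem_span_singleton'.1 ha
    rw [← hab, map_add, hb, add_zero, map_mul]
    exact Ideal.mul_mem_left _ _ (Ideal.mem_span_singleton_self _)
  · rw [Ideal.span_le, Set.singleton_subset_iff, SetLike.mem_coe,
      Submodule.mem_annihilator_span]
    rintro ⟨_, _, ⟨j, rfl⟩, rfl⟩
    rw [smul_eq_mul, ← map_mul, ← RingHom.mem_ker, hker]
    have h : c.det • g = Matrix.mulVec c.adjugate F := by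
      have hF' : F = Matrix.mulVec c g := funext fun i => by rw [hc i]; rfl
      rw [hF', Matrix.mulVec_mulVec, Matrix.adjugate_mul, Matrix.smul_mulVec, Matrix.one_mulVec]
    have hj := congr_fun h j
    rw [Pi.smul_apply, smul_eq_mul] at hj
    rw [hj]
    change ∑ i, c.adjugate j i * F i ∈ Ideal.span (Set.range F)
    exact Ideal.sum_mem _ fun i _ => Ideal.mul_mem_left _ _ (Ideal.subset_span (Set.mem_range_self i))

/-- Let A -> P be a ring map, f_1, ..., f_n a Koszul-regular sequence in P with B = P/(f_1, ..., f_n)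
flat over A, and g_1, ..., g_n a Koszul-regular sequence in P tensor_A B generating the kernel of
the multiplication map P tensor_A B -> B. Write f_i tensor 1 = sum_j c_ij g_j. Then the annihilator
of the kernel of B tensor_A B -> B is the principal ideal generated by the image of det(c_ij). -/
theorem result {A P : Type u} [CommRing A] [CommRing P] [Algebra A P]
    {n : ℕ} (f : Fin n → P) (hf : LCI.IsKoszulRegularSeq P (List.ofFn f))
    [Module.Flat A (P ⧸ Ideal.span (Set.range f))]
    (g : Fin n → P ⊗[A] (P ⧸ Ideal.span (Set.range f)))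
    (hg : LCI.IsKoszulRegularSeq (P ⊗[A] (P ⧸ Ideal.span (Set.range f))) (List.ofFn g))
    (hgker : Ideal.span (Set.range g) = RingHom.ker (Algebra.TensorProduct.productMap
      (Ideal.Quotient.mkₐ A (Ideal.span (Set.range f))) (AlgHom.id A (P ⧸ Ideal.span (Set.range f)))))
    (c : Matrix (Fin n) (Fin n) (P ⊗[A] (P ⧸ Ideal.span (Set.range f))))
    (hc : ∀ i, f i ⊗ₜ[A] (1 : P ⧸ Ideal.span (Set.range f)) = ∑ j, c i j * g j) :
    Submodule.annihilator (RingHom.ker
        (Algebra.TensorProduct.lmul' (S := P ⧸ Ideal.span (Set.range f)) A)) =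
      Ideal.span {Algebra.TensorProduct.map (Ideal.Quotient.mkₐ A (Ideal.span (Set.range f)))
        (AlgHom.id A (P ⧸ Ideal.span (Set.range f))) (Matrix.det c)} := by
  set B := P ⧸ Ideal.span (Set.range f) with hB
  let π : P →ₐ[A] B := Ideal.Quotient.mkₐ A (Ideal.span (Set.range f))
  let μ : P ⊗[A] B →ₐ[A] B ⊗[A] B := Algebra.TensorProduct.map π (AlgHom.id A B)
  have hπ : Function.Surjective π := Ideal.Quotient.mkₐ_surjective A _
  have hμ : Function.Surjective μ := by
    intro x
    induction x using TensorProduct.induction_on with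
    | zero => exact ⟨0, map_zero _⟩
    | tmul a b =>
        obtain ⟨p, rfl⟩ := hπ a
        exact ⟨p ⊗ₜ b, rfl⟩
    | add x y hx hy =>
        obtain ⟨x, rfl⟩ := hx
        obtain ⟨y, rfl⟩ := hy
        exact ⟨x + y, map_add _ _ _⟩
  have hker : RingHom.ker μ.toRingHom =
      Ideal.span (Set.range fun i => algebraMap P (P ⊗[A] B) (f i)) := by
    have h := Algebra.TensorProduct.map_ker π (AlgHom.id A B) hπ Function.surjective_id
    have h0 : RingHom.ker (AlgHom.id A B) = ⊥ :=
      (RingHom.injective_iff_ker_eq_bot _).1 Function.injective_id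
    rw [h0, Ideal.map_bot, sup_bot_eq] at h
    rw [show RingHom.ker μ.toRingHom = RingHom.ker μ from rfl, h,
      show RingHom.ker π = Ideal.span (Set.range f) from Ideal.mk_ker, Ideal.map_span,
      ← Set.range_comp]
    rfl
  have hI : RingHom.ker (Algebra.TensorProduct.lmul' (S := B) A) =
      Ideal.map μ.toRingHom (Ideal.span (Set.range g)) := by
    have hcomp : (Algebra.TensorProduct.lmul' (S := B) A).comp μ =
        Algebra.TensorProduct.productMap π (AlgHom.id A B) := by
      ext x <;> simp [μ]
    rw [hgker, ← hcomp]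
    exact (Ideal.map_comap_of_surjective μ.toRingHom hμ _).symm
  have hF := Groth.Agent.Lib.Wiebe.Bridge.acyc_flat (B := P ⊗[A] B) f
    (Groth.Agent.Lib.Wiebe.Bridge.acyc_of_isKoszulRegularSeq f hf)
  rw [hI]
  exact annihilator_span_image _ g c hc hF μ.toRingHom hμ hker


end Groth.Agent.S2235
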