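import Groth.Statements.S2236
import Groth.Agent.H54.NLPerfect
import Groth.Agent.H54.SmoothPerf
import Groth.Agent.H25.DiagTor.PD
import Groth.Agent.Lib.LCI5.TwoTermFlat
import Groth.Agent.Lib.LCI5.ConormalFlat
import Groth.Agent.Lib.Vasconcelos.Global
import Groth.Agent.S15821
import Mathlib.RingTheory.Polynomial.Basic

set_option autoImplicit false
universe u
attribute [local instance] HasDerivedCategory.standard
open LCI

namespace Groth.Agent.S2236

open CategoryTheory Groth.Agent.Lib.DR Groth.Agent.Lib.DR.Basic Groth.Agent.Lib.DR.TorAmp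
open Groth.Agent.Lib.DR.FiniteComplex Groth.Agent.Lib.DR.PseudoCoherent Groth.Agent.Lib.DR.BaseChange
open Groth.Agent.H54.PCRestrict Groth.Agent.Lib.Regular.PD
open scoped TensorProduct

/-- Finite tor dimension passes to a polynomial algebra over the base. -/
theorem hasFiniteTorDim_mv {R B : Type u} [CommRing R] [CommRing B] {n : ℕ}
    [Algebra (MvPolynomial (Fin n) R) B] [Algebra R B] [IsScalarTower R (MvPolynomial (Fin n) R) B]
    (h : DRing.HasFiniteTorDim R B) : DRing.HasFiniteTorDim (MvPolynomial (Fin n) R) B := by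
  let γ : MvPolynomial (Fin n) R →+* B := algebraMap _ B
  have hγ : γ.comp MvPolynomial.C = algebraMap R B :=
    (IsScalarTower.algebraMap_eq R (MvPolynomial (Fin n) R) B).symm
  obtain ⟨d, hd⟩ := h
  have h1 : Bdd (flat R) (-(d : ℤ)) 0
      ((sgl R 0).obj ((res (γ.comp MvPolynomial.C)).obj (ModuleCat.of B B))) :=
    ((TorDim.hasTorDimLE_iff B d).1 hd).of_iso ((sgl R 0).mapIso
      ((eqToIso (congrArg (fun f => (res f).obj (ModuleCat.of B B)) hγ)) ≪≫
        (FlatBC.resEquiv R B).toModuleIso).symm)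
  have h2 : Bdd (flat (MvPolynomial (Fin n) R)) (-(d : ℤ) - n) 0 (Dual.inD (MvPolynomial (Fin n) R) B) :=
    (H54.TorPoly.bdd_flat_mv γ (ModuleCat.of B B) _ h1).of_iso
      ((sgl _ 0).mapIso (FlatBC.resEquiv (MvPolynomial (Fin n) R) B).toModuleIso)
  exact ⟨d + n, (TorDim.hasTorDimLE_iff B _).2 (h2.mono (by lia) le_rfl)⟩

theorem nonempty_tensor_ker {A B : Type u} [CommRing A] [CommRing B] [Algebra A B]
    (P : Algebra.Extension.{u} A B) : Nonempty ((P.Ring ⧸ P.ker) ⊗[P.Ring] P.ker ≃ₗ[P.Ring] P.Cotangent) :=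
  ⟨(TensorProduct.quotTensorEquivQuotSMul P.ker P.ker).trans P.cotangentEquivCotangentKer.symm⟩

/-- The kernel of a presentation with finite tor dimension and flat conormal module is Koszul-regular. -/
theorem isKoszulRegularIdeal {P B : Type u} [CommRing P] [IsNoetherianRing P] [CommRing B] [Algebra P B]
    (hs : Function.Surjective (algebraMap P B)) (I : Ideal P) (hI : RingHom.ker (algebraMap P B) = I)
    (htor : DRing.HasFiniteTorDim P B) [Module.Flat B (B ⊗[P] I)] : LCI.IsKoszulRegularIdeal I := by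
  obtain ⟨d, hd⟩ := htor
  haveI : Module.Finite P B := Module.Finite.of_surjective (Algebra.linearMap P B) hs
  have hpd : PDle P B (d + 1) :=
    pdle_mono (Groth.Agent.H25.DiagTor.pdle_of_torLE d B
      (Groth.Agent.H25.DiagTor.torLE_of_hasTorDimLE hd)) (Nat.le_succ d)
  have hI' : LinearMap.ker (Algebra.linearMap P B) = I := hI
  have hpd' : PDle P I d := hI' ▸ (pdle_succ_iff (f := Algebra.linearMap P B) hs d).1 hpd
  obtain ⟨e⟩ := Lib.LCI5.ConormalFlat.nonempty_cotangent I
  let g₀ : { g : P →+* P ⧸ I // RingHom.ker (algebraMap P B) ≤ RingHom.ker g } :=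
    ⟨Ideal.Quotient.mk I, by rw [hI, Ideal.mk_ker]⟩
  let f : B →+* P ⧸ I := (algebraMap P B).liftOfSurjective hs g₀
  letI : Algebra B (P ⧸ I) := f.toAlgebra
  haveI : IsScalarTower P B (P ⧸ I) := IsScalarTower.of_algebraMap_eq (R := P) (S := B) (A := P ⧸ I)
    fun x => (RingHom.liftOfSurjective_comp_apply (algebraMap P B) hs g₀ x).symm
  haveI : Module.Flat (P ⧸ I) ((P ⧸ I) ⊗[B] (B ⊗[P] I)) := inferInstance
  haveI : Module.Flat (P ⧸ I) I.Cotangent := Module.Flat.of_linearEquiv
    ((TensorProduct.AlgebraTensorModule.cancelBaseChange P B (P ⧸ I) (P ⧸ I) I).trans e).symm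
  haveI : Module.Finite (P ⧸ I) I.Cotangent :=
    @Module.Finite.of_restrictScalars_finite P (P ⧸ I) I.Cotangent
      _ _ _ _ _ _ _ (Module.Finite.of_surjective I.toCotangent I.toCotangent_surjective)
  haveI : Module.FinitePresentation (P ⧸ I) I.Cotangent := Module.finitePresentation_of_finite _ _
  haveI : Module.Projective (P ⧸ I) I.Cotangent := Module.Flat.projective_of_finitePresentation
  intro p hp
  obtain ⟨g, hg, rs, hreg, hrs⟩ := Lib.Vasconcelos.Global.isRegularIdeal I d hpd' p.asIdeal hp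
  exact ⟨g, hg, rs, (Groth.Agent.S15821.result _ rs hreg.toIsWeaklyRegular).1, hrs.symm⟩

/-- Equivalence of (1) and (3): let A be a Noetherian ring and B an A-algebra of finite type which has
finite Tor-dimension as an A-module (so that A -> B is a perfect ring map). Then NL_{B/A} has
tor-amplitude in [-1, 0] if and only if A -> B is a local complete intersection homomorphism (some
presentation has Koszul-regular kernel ideal). -/
theorem result {A B : Type u} [CommRing A] [CommRing B]
    [Algebra A B] [IsNoetherianRing A] [Algebra.FiniteType A B] (hB : DRing.HasFiniteTorDim A B) :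
    DRing.HasTorAmplitudeIn B (-1) 0 (LCI.NL A B) ↔ LCI.IsLCI A B := by
  refine ⟨fun hamp => ?_, fun h => (Groth.Agent.H54.NLPerfect.isPerfect_NL h).2⟩
  obtain ⟨n, ψ, hψ⟩ := Algebra.FiniteType.iff_quotient_mvPolynomial''.1
    (inferInstance : Algebra.FiniteType A B)
  have hv : MvPolynomial.aeval (R := A) (fun i => ψ (MvPolynomial.X i)) = ψ :=
    MvPolynomial.algHom_ext fun i => by simp
  let G : Algebra.Generators A B (Fin n) :=
    Algebra.Generators.ofSurjective (fun i => ψ (MvPolynomial.X i)) (hv.symm ▸ hψ)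
  let P := G.toExtension
  obtain ⟨e⟩ := Groth.Agent.H54.NLPerfect.nonempty_iso_presentations P
    (Algebra.Generators.self A B).toExtension
    (G.defaultHom (Algebra.Generators.self A B)).toExtensionHom
    ((Algebra.Generators.self A B).defaultHom G).toExtensionHom
  have : Module.Projective B P.CotangentSpace := Module.Projective.of_basis G.cotangentSpaceBasis
  have : Module.Flat B P.Cotangent := by
    obtain ⟨E, hE, hflat, ⟨e'⟩⟩ := hamp
    exact Lib.LCI5.TwoTermFlat.flat_of_torAmplitude (ModuleCat.ofHom P.cotangentComplex)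
      ⟨E, hE, hflat, ⟨e' ≪≫ e.symm⟩⟩
  have hs : Function.Surjective (algebraMap P.Ring B) := fun b => ⟨P.σ b, P.algebraMap_σ b⟩
  obtain ⟨e₁⟩ := nonempty_tensor_ker P
  let q : (P.Ring ⧸ P.ker) ≃ₗ[P.Ring] B :=
    (Ideal.quotientKerAlgEquivOfSurjective (f := Algebra.ofId P.Ring B) hs).toLinearEquiv
  have : Module.Flat B (B ⊗[P.Ring] P.ker) :=
    Module.Flat.of_linearEquiv (LinearEquiv.extendScalarsOfSurjective hs
      ((TensorProduct.congr q.symm (LinearEquiv.refl _ _)).trans e₁))
  refine ⟨inferInstance, n, ψ, hψ, ?_⟩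
  have htor := @hasFiniteTorDim_mv A B _ _ n P.algebra₂ _ P.isScalarTower hB
  have key := @isKoszulRegularIdeal (MvPolynomial (Fin n) A) B _ MvPolynomial.isNoetherianRing _ P.algebra₂ hs P.ker rfl htor ‹_›
  have hk : P.ker = RingHom.ker ψ.toRingHom := by
    show RingHom.ker (algebraMap P.Ring B) = _
    ext x
    exact RingHom.mem_ker.trans
      ((iff_of_eq (congrArg (· = 0) (DFunLike.congr_fun hv x))).trans RingHom.mem_ker.symm)
  exact hk ▸ key

end Groth.Agent.S2236
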