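import Groth.Statements.S2237
import Groth.Agent.S9287
import Groth.Agent.Lib.Synt92.CritLocal
import Groth.Agent.Lib.Synt92.FiniteGCI

set_option autoImplicit false
universe u
attribute [local instance] HasDerivedCategory.standard
open LCI

namespace Groth.Agent.S2237

/-- Implication (2) to (5), affine form: let A -> B be flat, quasi-finite and a local complete
intersection homomorphism (finite type with a Koszul-regular presentation). Then for every prime q
of B there are g in B outside q, a natural number n and polynomials f_1, ..., f_n in A[x_1, ...,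
x_n] such that B_g is isomorphic as an A-algebra to A[x_1, ..., x_n]/(f_1, ..., f_n). -/
theorem result {A B : Type u} [CommRing A]
    [CommRing B] [Algebra A B] [Module.Flat A B] [Algebra.QuasiFinite A B] (hlci : LCI.IsLCI A B)
    (q : Ideal B) [q.IsPrime] :
    ∃ g : B, g ∉ q ∧ ∃ (n : ℕ) (f : Fin n → MvPolynomial (Fin n) A),
      Nonempty (Localization.Away g ≃ₐ[A]
        (MvPolynomial (Fin n) A ⧸ Ideal.span (Set.range f))) := by
  classical
  haveI := Classical.propDecidable
  obtain ⟨hflat, hfp, hci⟩ :=
    Groth.Agent.Lib.Synt92.MorAlg.isSyntomic_iff.1 ((Groth.Agent.S9287.result A B).2 ⟨inferInstance, hlci⟩)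
  obtain ⟨n, ψ, hψ, hI⟩ := hfp.out
  let p : PrimeSpectrum A := PrimeSpectrum.comap (algebraMap A B) ⟨q, inferInstance⟩
  let a := PrimeSpectrum.preimageEquivFiber A B p ⟨⟨q, inferInstance⟩, rfl⟩
  have ha : a.asIdeal.comap Algebra.TensorProduct.includeRight.toRingHom = q :=
    congrArg (fun z => z.1.asIdeal)
      ((PrimeSpectrum.preimageEquivFiber A B p).symm_apply_apply ⟨⟨q, inferInstance⟩, rfl⟩)
  haveI : Module.Flat A (Localization.AtPrime q) := Module.Flat.trans A B _
  obtain ⟨g, hg, m, c, F, hF, ⟨e⟩⟩ :=
    Groth.Agent.Lib.Synt92.CritLocal.exists_relGCI ψ hψ hI q p.asIdeal rfl a.asIdeal ha (hci p a)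
  haveI : Algebra.QuasiFinite A (Localization.Away g) := Algebra.QuasiFinite.trans A B _
  haveI : Algebra.QuasiFinite A (Synt.RelGCIRing A m c F) :=
    Algebra.QuasiFinite.of_surjective_algHom e.toAlgHom e.surjective
  haveI hp' : (q.map (algebraMap B (Localization.Away g))).IsPrime :=
    IsLocalization.isPrime_of_isPrime_disjoint (Submonoid.powers g) _ q inferInstance
      ((Ideal.disjoint_powers_iff_notMem_of_isPrime g).2 hg)
  let Q : Ideal (Synt.RelGCIRing A m c F) := (q.map (algebraMap B (Localization.Away g))).comap e.symm.toRingHom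
  haveI : Q.IsPrime := Ideal.IsPrime.comap _
  have hQ : Q.under A = p.asIdeal := by
    change ((q.map (algebraMap B (Localization.Away g))).comap e.symm.toRingHom).comap (algebraMap A _) = _
    rw [Ideal.comap_comap, show e.symm.toRingHom.comp (algebraMap A (Synt.RelGCIRing A m c F)) =
      algebraMap A (Localization.Away g) from e.symm.toAlgHom.comp_algebraMap,
      IsScalarTower.algebraMap_eq A B (Localization.Away g), ← Ideal.comap_comap,
      show (q.map (algebraMap B (Localization.Away g))).comap (algebraMap B (Localization.Away g)) = q from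
        IsLocalization.under_map_of_isPrime_disjoint (Submonoid.powers g) _ inferInstance
          ((Ideal.disjoint_powers_iff_notMem_of_isPrime g).2 hg)]
    rfl
  haveI : Nontrivial (p.asIdeal.Fiber (Synt.RelGCIRing A m c F)) :=
    (PrimeSpectrum.preimageEquivFiber A (Synt.RelGCIRing A m c F) p
      ⟨⟨Q, inferInstance⟩, PrimeSpectrum.ext hQ⟩).nontrivial
  obtain ⟨hcm, hdim⟩ := hF p inferInstance
  haveI : Module.Finite p.asIdeal.ResidueField (p.asIdeal.Fiber (Synt.RelGCIRing A m c F)) :=
    inferInstance
  have h1 := hdim.symm.trans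
    (Groth.Agent.Lib.Synt92.FiniteGCI.ringKrullDim_of_finite p.asIdeal.ResidueField
      (B := p.asIdeal.Fiber (Synt.RelGCIRing A m c F)))
  have h0 : m - c = 0 := by exact_mod_cast h1
  obtain rfl : c = m := le_antisymm hcm (Nat.sub_eq_zero_iff_le.1 h0)
  exact ⟨g, hg, c, F, ⟨e⟩⟩

end Groth.Agent.S2237
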