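import Groth.Statements.S2326
import Groth.Agent.Lib.Ample.IdealCrit

set_option autoImplicit false
universe u
open CategoryTheory CategoryTheory.Limits AlgebraicGeometry
open EGA2

namespace Groth.Agent.S2326

/-- Let X be a quasi-compact separated scheme (the source also allows a prescheme with Noetherian
underlying space) and L an invertible module. Suppose that for every quasi-coherent ideal sheaf I of
finite type there are n > 0 and k > 0 with I ⊗ L^{⊗n} a quotient of O_X^k. Then L is ample. -/
theorem result (X : Scheme.{u}) [CompactSpace X] [X.IsSeparated] (L : X.Modules) (hL : PicF.IsInvertible L)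
    (h : ∀ I : X.IdealSheafData, BlowUp.IsFiniteTypeIdeal I →
      ∃ (n k : ℕ) (p : FlatMod.freeMod X k ⟶ CohB1.tensorMod (ClSub.idealMod I) (CohB1.tensorPow L (n + 1))), 0 < k ∧ Epi p) :
    CohB1.IsAmple L := by
  refine Groth.Agent.Lib.Ample.IdealCrit.isAmple L hL fun I hI => ?_
  obtain ⟨n, k, p, -, hp⟩ := h I hI
  let e : (∐ fun _ : ULift.{u} (Fin k) => Coh.structureModule X) ≅ FlatMod.freeMod X k :=
    Sigma.whiskerEquiv (f := fun _ : ULift.{u} (Fin k) => Coh.structureModule X) (g := fun _ : Fin k => Coh.structureModule X) Equiv.ulift fun _ => Iso.refl _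
  exact ⟨n, ULift.{u} (Fin k), e.hom ≫ p, @epi_comp _ _ _ _ _ e.hom inferInstance p hp⟩

end Groth.Agent.S2326
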