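import Groth.Statements.S2334
import Groth.Agent.Lib.DvrCrit.Abstract
-- import your own Groth.Agent.* helpers here

set_option autoImplicit false
universe u
open CategoryTheory CategoryTheory.Limits AlgebraicGeometry
open EGA2

namespace Groth.Agent.S2334
set_option backward.isDefEq.respectTransparency false

/-- Locally Noetherian case of the valuative criterion of separatedness: let Y be a locally Noetherian
scheme and f : X → Y locally of finite type. Then f is separated if and only if for every discrete
valuation ring A with fraction field K, any two morphisms Spec A → X with the same composite to Y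
which agree on Spec K are equal. (In the general criterion the diagonal must be assumed
quasi-compact; that is automatic here.) -/
theorem result {X Y : Scheme.{u}} [IsLocallyNoetherian Y] (f : X ⟶ Y) [LocallyOfFiniteType f] :
    IsSeparated f ↔ ∀ (A : Type u) [CommRing A] [IsDomain A] [IsDiscreteValuationRing A] (g₁ g₂ : (Spec (CommRingCat.of A)) ⟶ X),
      g₁ ≫ f = g₂ ≫ f → (Spec.map (CommRingCat.ofHom (algebraMap A (FractionRing A)))) ≫ g₁ = (Spec.map (CommRingCat.ofHom (algebraMap A (FractionRing A)))) ≫ g₂ → g₁ = g₂ := by
  constructor
  · intro hs A _ _ _ g₁ g₂ e e'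
    exact Lib.DvrCrit.uniqueness_apply (Lib.DvrCrit.uniqueness_of_isSeparated f) g₁ g₂ e e'
  · intro H
    refine Lib.DvrCrit.isSeparated_of_dvr f (𝟙 X) (fun _ => True) (fun x => ⟨x, trivial, specializes_rfl⟩)
      fun z _ W hW l₁ l₂ h₁ h₂ e => ?_
    haveI := hW
    exact H W l₁ l₂ e ((Lib.DvrCrit.fracOut_comp W _ l₁ h₁).trans (Lib.DvrCrit.fracOut_comp W _ l₂ h₂).symm)

end Groth.Agent.S2334
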