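import Groth.Statements.S2335
import Groth.Agent.Lib.DvrCrit.Abstract
-- import your own Groth.Agent.* helpers here

set_option autoImplicit false
universe u
open CategoryTheory CategoryTheory.Limits AlgebraicGeometry
open EGA2

namespace Groth.Agent.S2335
set_option backward.isDefEq.respectTransparency false

/-- Let Y be locally Noetherian and f : X → Y of finite type. Then f is proper if and only if for every
discrete valuation ring A with fraction field K and every commutative square Spec K → X, Spec A → Y,
there is exactly one morphism Spec A → X making both triangles commute. -/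
theorem result {X Y : Scheme.{u}} [IsLocallyNoetherian Y] (f : X ⟶ Y) [LocallyOfFiniteType f] [QuasiCompact f] :
    IsProper f ↔ ∀ (A : Type u) [CommRing A] [IsDomain A] [IsDiscreteValuationRing A] (x : (Spec (CommRingCat.of (FractionRing A))) ⟶ X) (y : (Spec (CommRingCat.of A)) ⟶ Y),
      x ≫ f = (Spec.map (CommRingCat.ofHom (algebraMap A (FractionRing A)))) ≫ y → ∃! l : (Spec (CommRingCat.of A)) ⟶ X, l ≫ f = y ∧ (Spec.map (CommRingCat.ofHom (algebraMap A (FractionRing A)))) ≫ l = x := by
  constructor
  · intro hp A _ _ _ x y w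
    obtain ⟨l, h1, h2⟩ := Lib.DvrCrit.existence_apply (Lib.DvrCrit.existence_of_universallyClosed f) x y w
    exact ⟨l, ⟨h1, h2⟩, fun l' hl' => Lib.DvrCrit.uniqueness_apply
      (K := FractionRing A) (Lib.DvrCrit.uniqueness_of_isSeparated f) l' l (hl'.1.trans h1.symm) (hl'.2.trans h2.symm)⟩
  · intro H
    have hsep : IsSeparated f := by
      refine Lib.DvrCrit.isSeparated_of_dvr f (𝟙 X) (fun _ => True) (fun x => ⟨x, trivial, specializes_rfl⟩)
        fun z _ W hW l₁ l₂ h₁ h₂ e => ?_
      haveI := hW
      have e₁ := Lib.DvrCrit.fracOut_comp W _ l₁ h₁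
      exact (H W _ (l₁ ≫ f) ((congrArg (· ≫ f) e₁.symm).trans (Category.assoc _ _ _))).unique ⟨rfl, e₁⟩
        ⟨e.symm, Lib.DvrCrit.fracOut_comp W _ l₂ h₂⟩
    have huc : UniversallyClosed f := by
      refine Lib.DvrCrit.universallyClosed_of_dvr f fun x W hW φ w => ?_
      haveI := hW
      simpa using Lib.DvrCrit.exists_lift_of_abstract W f (X.fromSpecResidueField x) (𝟙 X) φ
        (by simpa using w) (fun u hu => by
          obtain ⟨l, hl, -⟩ := H W u φ (by simpa using hu)
          exact ⟨l, hl.1, by simpa using hl.2⟩)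
    exact { }

end Groth.Agent.S2335
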