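import Groth.Statements.S2338
import Groth.Agent.Lib.Ample.RelAmple
-- import your own Groth.Agent.* helpers here

set_option autoImplicit false
universe u
open CategoryTheory CategoryTheory.Limits AlgebraicGeometry
open EGA2

namespace Groth.Agent.S2338

/-- The composite of two quasi-affine morphisms is quasi-affine. -/
theorem result {X Y Z : Scheme.{u}} (f : X ⟶ Y) (g : Y ⟶ Z) (hf : Mor2.IsQuasiAffine f) (hg : Mor2.IsQuasiAffine g) :
    Mor2.IsQuasiAffine (f ≫ g) := by
  haveI := hf.1
  haveI := hg.1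
  refine ⟨inferInstance, fun W hW => ?_⟩
  rw [Scheme.Hom.comp_preimage]
  haveI := hg.2 W hW
  exact Lib.Ample.RelAmple.isQuasiAffine_of_isAmple_structure (Lib.Ample.Pow.isAmple_of_iso (PicLoc.pullbackStructureIso _)
    (Lib.Ample.Pullback.isAmple_pullback (f ∣_ (g ⁻¹ᵁ W)) (Lib.Ample.RelAmple.isQuasiAffine_morphismRestrict f hf _)
      (Lib.Ample.RelAmple.isAmple_of_isQuasiAffine (PicLoc.isInvertible_structureModule _))))

end Groth.Agent.S2338
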