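import Groth.Statements.S2342
import Groth.Agent.Lib.SchLoc.Allied
import Mathlib.RingTheory.Valuation.LocalSubring
import Mathlib.AlgebraicGeometry.ResidueField

set_option autoImplicit false
universe u
open CategoryTheory CategoryTheory.Limits AlgebraicGeometry
open EGA2

namespace Groth.Agent.S2342

open IsLocalRing

/-- Localizations of valuation rings are valuation rings. -/
theorem valuationRing_stalk (A : Type u) [CommRing A] [IsDomain A] [ValuationRing A]
    (p : Spec (CommRingCat.of A)) : ValuationRing ((Spec (CommRingCat.of A)).presheaf.stalk p) := by
  let S := (Spec (CommRingCat.of A)).presheaf.stalk p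
  letI : Algebra A S := (StructureSheaf.toStalk A p).hom.toAlgebra
  haveI : IsLocalization.AtPrime S (PrimeSpectrum.asIdeal p) := StructureSheaf.IsLocalization.to_stalk A p
  refine ValuationRing.iff_dvd_total.2 ⟨fun a b => ?_⟩
  obtain ⟨a', s, rfl⟩ := IsLocalization.exists_mk'_eq (PrimeSpectrum.asIdeal p).primeCompl a
  obtain ⟨b', t, rfl⟩ := IsLocalization.exists_mk'_eq (PrimeSpectrum.asIdeal p).primeCompl b
  have key : ∀ (x y : A) (u v : (PrimeSpectrum.asIdeal p).primeCompl), x ∣ y →
      IsLocalization.mk' S x u ∣ IsLocalization.mk' S y v := by
    rintro x _ u v ⟨c, rfl⟩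
    refine ⟨IsLocalization.mk' S (c * u) v, ?_⟩
    rw [← IsLocalization.mk'_mul, IsLocalization.mk'_eq_iff_eq]
    congr 1
    push_cast
    ring
  rcases (ValuationRing.iff_dvd_total.1 inferInstance).1 a' b' with h | h
  exacts [Or.inl (key _ _ _ _ h), Or.inr (key _ _ _ _ h)]

/-- Let A be a valuation ring with Y = Spec A, X an integral separated scheme and f : X → Y a morphism
which is closed as a map of topological spaces, such that the fibre over the generic point of Y
consists of exactly one point x and the induced map from the residue field of the generic point of Y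
to that of x is bijective. Then f is an isomorphism. -/
theorem result (A : Type u) [CommRing A] [IsDomain A] [ValuationRing A]
    (X : Scheme.{u}) [IsIntegral X] [X.IsSeparated] (f : X ⟶ Spec (CommRingCat.of A)) (hf : IsClosedMap f.base)
    (x : X) (hx : f.base ⁻¹' {genericPoint (Spec (CommRingCat.of A))} = {x})
    (hres : Function.Bijective (f.residueFieldMap x).hom) : IsIso f := by
  let S := Spec (CommRingCat.of A)
  let η := genericPoint X
  have hfx : f.base x = genericPoint S := hx.ge (Set.mem_singleton x)
  have hη : x = η := by
    have h1 : f.base η ⤳ f.base x := ((genericPoint_spec X).specializes (Set.mem_univ x)).map f.continuous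
    have h2 : f.base η = genericPoint S :=
      ((hfx ▸ h1).antisymm ((genericPoint_spec S).specializes (Set.mem_univ _))).eq
    exact (hx.le (show η ∈ f.base ⁻¹' {genericPoint S} from h2)).symm
  subst hη
  have hbij : Function.Bijective (f.stalkMap η).hom := by
    have hF : IsField (S.presheaf.stalk (f.base η)) := by
      rw [hfx]; exact Field.toIsField S.functionField
    letI := hF.toField
    refine ⟨RingHom.injective _, fun b => ?_⟩
    obtain ⟨r, hr⟩ := hres.2 (X.residue η b)
    obtain ⟨a, rfl⟩ := Ideal.Quotient.mk_surjective r
    refine ⟨a, (RingHom.injective (IsLocalRing.residue X.functionField)) ?_⟩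
    exact (ConcreteCategory.congr_hom (Scheme.residue_residueFieldMap f η) a).symm.trans hr
  let θ : S.functionField →+* X.functionField :=
    (f.stalkMap η).hom.comp (S.presheaf.stalkSpecializes (Inseparable.of_eq hfx).specializes).hom
  have hθ : Function.Bijective θ := by
    refine hbij.comp ?_
    have key : ∀ (a b : S) (e : a = b), Function.Bijective (S.presheaf.stalkSpecializes (Inseparable.of_eq e).specializes).hom := by
      rintro a b rfl
      simp only [TopCat.Presheaf.stalkSpecializes_refl]
      exact Function.bijective_id
    exact key _ _ hfx
  let eθ := RingEquiv.ofBijective θ hθ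
  have hcompat : ∀ z : X, (algebraMap (X.presheaf.stalk z) X.functionField).comp (f.stalkMap z).hom =
      θ.comp (algebraMap (S.presheaf.stalk (f.base z)) S.functionField) := fun z => by
    have h := Scheme.Hom.stalkSpecializes_stalkMap f η z ((genericPoint_spec X).specializes (Set.mem_univ z))
    refine (congrArg CommRingCat.Hom.hom h).symm.trans ?_
    simp only [θ, CommRingCat.hom_comp, RingHom.comp_assoc]
    congr 1
    rw [show algebraMap (S.presheaf.stalk (f.base z)) S.functionField =
      (S.presheaf.stalkSpecializes ((genericPoint_spec S).specializes (Set.mem_univ (f.base z)))).hom from rfl,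
      ← CommRingCat.hom_comp, TopCat.Presheaf.stalkSpecializes_comp]
  have hst : ∀ z : X, Function.Bijective (f.stalkMap z).hom ∧
      (algebraMap (X.presheaf.stalk z) X.functionField).range =
        (θ.comp (algebraMap (S.presheaf.stalk (f.base z)) S.functionField)).range := fun z => by
    haveI := valuationRing_stalk A (f.base z)
    let g : X.presheaf.stalk z →+* S.functionField :=
      eθ.symm.toRingHom.comp (algebraMap (X.presheaf.stalk z) X.functionField)
    have hgc : g.comp (f.stalkMap z).hom = algebraMap (S.presheaf.stalk (f.base z)) S.functionField := by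
      refine RingHom.ext fun a => eθ.injective ?_
      simp only [g, RingHom.comp_apply, RingEquiv.toRingHom_eq_coe, RingHom.coe_coe, RingEquiv.apply_symm_apply]
      exact RingHom.congr_fun (hcompat z) a
    have hb := bijective_rangeRestrict_comp_of_valuationRing (f.stalkMap z).hom g hgc
    have hg : Function.Injective g := eθ.symm.injective.comp (IsFractionRing.injective _ _)
    have hstalk : Function.Bijective (f.stalkMap z).hom := by
      refine ⟨Function.Injective.of_comp (f := g.rangeRestrict) (g := (f.stalkMap z).hom) hb.1, fun b => ?_⟩
      obtain ⟨a, ha⟩ := hb.2 (g.rangeRestrict b)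
      exact ⟨a, hg (congrArg Subtype.val ha)⟩
    refine ⟨hstalk, ?_⟩
    rw [← hcompat z]
    exact SetLike.coe_injective (by
      rw [RingHom.coe_range, RingHom.coe_range, RingHom.coe_comp, Set.range_comp, hstalk.2.range_eq, Set.image_univ])
  have hinj : Function.Injective f.base := fun z w hzw => by
    refine Groth.Agent.Lib.SchLoc.eq_of_range_le (Q := LocalSubring.range (algebraMap (X.presheaf.stalk z) X.functionField))
      le_rfl ?_
    have hrange : (algebraMap (X.presheaf.stalk w) X.functionField).range =
        (algebraMap (X.presheaf.stalk z) X.functionField).range := by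
      rw [(hst w).2, (hst z).2]
      have key : ∀ (a b : S) (_ : a = b), (θ.comp (algebraMap (S.presheaf.stalk a) S.functionField)).range =
          (θ.comp (algebraMap (S.presheaf.stalk b) S.functionField)).range := by rintro a b rfl; rfl
      exact key _ _ hzw.symm
    exact le_of_eq (LocalSubring.toSubring_injective hrange)
  have hsurj : Function.Surjective f.base := fun y => by
    have hcl : IsClosed (Set.range f.base) := hf.isClosed_range
    have h1 : genericPoint S ∈ Set.range f.base := ⟨η, hfx⟩
    exact ((genericPoint_spec S).specializes (Set.mem_univ y)).mem_closed hcl h1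
  haveI : IsOpenImmersion f := IsOpenImmersion.iff_isIso_stalkMap.2
    ⟨(Equiv.toHomeomorphOfIsInducing (Equiv.ofBijective f.base ⟨hinj, hsurj⟩)
      (Topology.IsClosedEmbedding.of_continuous_injective_isClosedMap f.continuous hinj hf).isInducing).isOpenEmbedding,
      fun z => (ConcreteCategory.isIso_iff_bijective _).2 (hst z).1⟩
  exact isIso_of_isOpenImmersion_of_opensRange_eq_top f (top_le_iff.1 fun y _ => hsurj y)

end Groth.Agent.S2342
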