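import Groth.Statements.S2343
import Groth.Agent.Lib.Henselian.FinitePart
import Mathlib.AlgebraicGeometry.ZariskisMainTheorem

set_option autoImplicit false
universe u
open CategoryTheory CategoryTheory.Limits AlgebraicGeometry
open EGA2

namespace Groth.Agent.S2343

/-- Let A be a complete Noetherian local ring, X a separated scheme locally of finite type over Spec A,
and x a point of X over the closed point which is isolated in its fibre. Then the local ring of X at
x is a finite A-module and the canonical morphism Spec O_{X,x} → X is both an open and a closed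
immersion (X is the disjoint sum of Spec O_{X,x} and another open subscheme). -/
theorem result (A : Type u) [CommRing A] [IsLocalRing A] [IsNoetherianRing A]
    [IsAdicComplete (IsLocalRing.maximalIdeal A) A] (X : Scheme.{u}) (f : X ⟶ Spec (CommRingCat.of A)) [LocallyOfFiniteType f] [IsSeparated f]
    (x : X) (hx : f.base x = IsLocalRing.closedPoint A)
    (hisol : IsOpen ((Subtype.val : (f.base ⁻¹' {IsLocalRing.closedPoint A}) → X) ⁻¹' {x})) :
    ((Scheme.ΓSpecIso (CommRingCat.of A)).inv ≫ f.appTop ≫ X.presheaf.germ ⊤ x trivial).hom.Finite ∧ IsOpenImmersion (X.fromSpecStalk x) ∧ IsClosedImmersion (X.fromSpecStalk x) := by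
  haveI : HenselianLocalRing A :=
    { is_henselian := fun f hf a₀ h₁ h₂ =>
        HenselianRing.is_henselian (I := IsLocalRing.maximalIdeal A) f hf a₀ h₁ (h₂.map (Ideal.Quotient.mk _)) }
  have hqf : f.QuasiFiniteAt x := by
    rw [Scheme.Hom.quasiFiniteAt_iff_isOpen_singleton_asFiber, ← (f.fiberHomeo (f x)).isOpen_image]
    simp only [Set.image_singleton, Scheme.Hom.asFiber, Homeomorph.apply_symm_apply]
    have key : ∀ (y : _) (hy : f.base x = y),
        IsOpen ((Subtype.val : (f.base ⁻¹' {y}) → X) ⁻¹' {x}) → IsOpen {(⟨x, hy⟩ : (f.base ⁻¹' {y}))} := by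
      intro y hy h
      convert h using 1
      exact Set.ext fun z => Subtype.ext_iff
    have h2 : ∀ (y : _), y = f.base x →
        IsOpen ((Subtype.val : (f.base ⁻¹' {y}) → X) ⁻¹' {x}) → IsOpen {(⟨x, rfl⟩ : (f.base ⁻¹' {f.base x}))} := by
      rintro y rfl h
      exact key _ rfl h
    exact h2 _ hx.symm hisol
  -- an affine neighbourhood inside the quasi-finite locus meeting the fibre only at `x`
  obtain ⟨T, hT, hT'⟩ := isOpen_induced_iff.1 hisol
  have hxT : x ∈ T := by
    have h := (Set.ext_iff.1 hT' ⟨x, hx⟩).2 rfl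
    exact h
  obtain ⟨U, hU, hxU, hUsub⟩ := exists_isAffineOpen_mem_and_subset (X := X) (x := x)
    (U := f.quasiFiniteLocus ⊓ ⟨T, hT⟩) ⟨hqf, hxT⟩
  have hsingle : ∀ z ∈ U, f.base z = IsLocalRing.closedPoint A → z = x := fun z hz hzc =>
    (Set.ext_iff.1 hT' ⟨z, hzc⟩).1 (hUsub hz).2
  haveI : IsAffine (U : Scheme.{u}) := hU
  haveI : QuasiCompact (U.ι ≫ f) := inferInstance
  haveI : LocallyQuasiFinite (U.ι ≫ f) := by
    have hle : U ≤ f.quasiFiniteLocus := fun z hz => (hUsub hz).1
    rw [← X.homOfLE_ι hle, Category.assoc]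
    infer_instance
  obtain ⟨W₀, ⟨-, hfin, hW₀⟩, -⟩ := Groth.Agent.Lib.Henselian.FinitePart.existsUnique_finitePart (U.ι ≫ f)
  let W : X.Opens := U.ι ''ᵁ W₀
  have hxW : x ∈ W := ⟨⟨x, hxU⟩, hW₀ ⟨x, hxU⟩ hx, rfl⟩
  have hWU : W ≤ U := by
    rintro _ ⟨z, -, rfl⟩
    exact z.2
  haveI hWfin : IsFinite (W.ι ≫ f) := by
    rw [← Scheme.Hom.isoImage_inv_ι U.ι W₀, Category.assoc, Category.assoc]
    infer_instance
  haveI : IsAffine (W : Scheme.{u}) := isAffine_of_isAffineHom (W.ι ≫ f)
  have hW : IsAffineOpen W := ‹IsAffine (W : Scheme.{u})›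
  have hgood : ∀ V : X.Opens, x ∈ V → W ≤ V := fun V hxV z hz =>
    Groth.Agent.Lib.Henselian.FinitePart.mem_of_finite (W.ι ≫ f) (U := W.ι.base ⁻¹' V)
      (V.isOpen.preimage W.ι.continuous) (fun w hw => by
        show W.ι w ∈ V
        rw [hsingle (W.ι w) (hWU w.2) hw]
        exact hxV) ⟨z, hz⟩
  -- the ring of `W` is the local ring at `x`
  letI := TopCat.Presheaf.algebra_section_stalk X.presheaf ⟨x, hxW⟩
  haveI := hW.isLocalization_stalk ⟨x, hxW⟩
  have hunits : ∀ a ∈ (hW.primeIdealOf ⟨x, hxW⟩).asIdeal.primeCompl, IsUnit a := fun a ha => by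
    have h1 : IsUnit (algebraMap Γ(X, W) (X.presheaf.stalk x) a) :=
      IsLocalization.map_units (X.presheaf.stalk x) ⟨a, ha⟩
    change IsUnit (X.presheaf.germ W x hxW a) at h1
    rw [← Scheme.mem_basicOpen] at h1
    have h2 : X.basicOpen a = W := le_antisymm (X.basicOpen_le a) (hgood _ h1)
    exact Ideal.span_singleton_eq_top.1 ((hW.iSup_basicOpen_eq_self_iff (s := {a})).1 (by simp [h2]))
  have hbij : Function.Bijective (X.presheaf.germ W x hxW).hom := by
    have h := (IsLocalization.atUnits Γ(X, W) (hW.primeIdealOf ⟨x, hxW⟩).asIdeal.primeCompl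
      (S := X.presheaf.stalk x) hunits).bijective
    exact h
  haveI : IsIso (X.presheaf.germ W x hxW) := (ConcreteCategory.isIso_iff_bijective _).2 hbij
  have hspec : X.fromSpecStalk x = Spec.map (X.presheaf.germ W x hxW) ≫ hW.fromSpec :=
    (hW.fromSpecStalk_eq_fromSpecStalk hxW).symm.trans rfl
  haveI hopen : IsOpenImmersion (X.fromSpecStalk x) := by rw [hspec]; infer_instance
  refine ⟨?_, hopen, ?_⟩
  · have h1 : ((W.ι ≫ f).app ⊤).hom.Finite :=
      IsFinite.finite_app (W.ι ≫ f) ⊤ (isAffineOpen_top (Spec (CommRingCat.of A)))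
    have he : (Scheme.ΓSpecIso (CommRingCat.of A)).inv ≫ f.appTop ≫ X.presheaf.germ ⊤ x trivial =
        (Scheme.ΓSpecIso (CommRingCat.of A)).inv ≫ (W.ι ≫ f).appTop ≫ W.topIso.hom ≫ X.presheaf.germ W x hxW := by
      congr 1
      rw [Scheme.Hom.comp_appTop, Category.assoc]
      congr 1
      rw [Scheme.Opens.ι_appTop, Scheme.Opens.topIso_hom]
      refine ((congrArg (_ ≫ ·) (X.presheaf.germ_res' _ x _)).trans ?_).symm
      exact X.presheaf.germ_res' _ x _
    rw [he, CommRingCat.hom_comp, CommRingCat.hom_comp, CommRingCat.hom_comp]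
    have h2 : ((X.presheaf.germ W x hxW).hom.comp W.topIso.hom.hom).Finite :=
      RingHom.Finite.of_surjective _ (hbij.2.comp (ConcreteCategory.bijective_of_isIso W.topIso.hom).2)
    exact (h2.comp h1).comp
      (RingHom.Finite.of_surjective _ (ConcreteCategory.bijective_of_isIso (Scheme.ΓSpecIso (CommRingCat.of A)).inv).2)
  · refine IsClosedImmersion.of_isPreimmersion _ ?_
    have hrange : Set.range (X.fromSpecStalk x) = Set.range W.ι := by
      rw [hspec, Scheme.Hom.comp_base, TopCat.coe_comp, Set.range_comp, Set.range_eq_univ.2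
        (Spec.map (X.presheaf.germ W x hxW)).surjective, Set.image_univ, hW.range_fromSpec, Scheme.Opens.range_ι]
    rw [hrange]
    haveI : IsProper W.ι := IsProper.of_comp W.ι f
    exact W.ι.isClosedMap.isClosed_range

end Groth.Agent.S2343
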