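import Groth.Statements.S2344
import Groth.Agent.H18.SerreCrit
import Groth.Agent.S4440
import Mathlib.AlgebraicGeometry.Morphisms.Separated
import Mathlib.Topology.JacobsonSpace

set_option autoImplicit false
universe u
open CategoryTheory CategoryTheory.Limits AlgebraicGeometry
open EGA2

namespace Groth.Agent.S2344

/-- Let X be a normal algebraic curve over k (separated, of finite type, nonempty, local rings at closed
points of dimension one, all local rings integrally closed domains), Y proper over k, U a dense open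
of X and g : U → Y a k-morphism. Then g extends uniquely to a k-morphism X → Y. -/
theorem result (k : Type u) [Field k] (X Y : Scheme.{u}) [X.Over (Spec (CommRingCat.of k))] [Y.Over (Spec (CommRingCat.of k))]
    [LocallyOfFiniteType (X ↘ (Spec (CommRingCat.of k)))] [QuasiCompact (X ↘ (Spec (CommRingCat.of k)))] [IsSeparated (X ↘ (Spec (CommRingCat.of k)))] [Nonempty X] (hcurve : (∀ x : X, IsClosed ({x} : Set X) → ringKrullDim (X.presheaf.stalk x) = 1)) (hnorm : Pi1.IsNormalScheme X)
    [IsProper (Y ↘ (Spec (CommRingCat.of k)))] (U : X.Opens) (hU : Dense (U : Set X)) (g : (U : Scheme.{u}) ⟶ Y)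
    (hg : g ≫ (Y ↘ (Spec (CommRingCat.of k))) = U.ι ≫ (X ↘ (Spec (CommRingCat.of k)))) :
    ∃! g' : X ⟶ Y, U.ι ≫ g' = g ∧ g' ≫ (Y ↘ (Spec (CommRingCat.of k))) = X ↘ (Spec (CommRingCat.of k)) := by
  haveI : IsLocallyNoetherian X :=
    LocallyOfFiniteType.isLocallyNoetherian (X ↘ (Spec (CommRingCat.of k)))
  haveI : JacobsonSpace X := LocallyOfFiniteType.jacobsonSpace (X ↘ (Spec (CommRingCat.of k)))
  haveI : ∀ x : X, _root_.IsReduced (X.presheaf.stalk x) := fun x => by
    haveI := (hnorm x).1; infer_instance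
  haveI : IsReduced X := isReduced_of_isReduced_stalk X
  have hdim : ∀ x : X, ringKrullDim (X.presheaf.stalk x) ≤ 1 := by
    intro x
    obtain ⟨y, hy, hyc⟩ := nonempty_inter_closedPoints (Z := closure {x})
      ⟨x, subset_closure rfl⟩ isClosed_closure.isLocallyClosed
    have h : x ⤳ y := specializes_iff_mem_closure.2 hy
    have hσ := Scheme.SpecMap_stalkSpecializes_fromSpecStalk h
    have hind : Topology.IsInducing (Spec.map (X.presheaf.stalkSpecializes h)) := by
      refine Topology.IsInducing.of_comp (g := X.fromSpecStalk y) (Scheme.Hom.continuous _)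
        (Scheme.Hom.continuous _) ?_
      have h1 := (X.fromSpecStalk x).isEmbedding.isInducing
      rw [← hσ] at h1
      exact h1
    rw [← hcurve y (mem_closedPoints_iff.1 hyc), ← PrimeSpectrum.topologicalKrullDim_eq_ringKrullDim,
      ← PrimeSpectrum.topologicalKrullDim_eq_ringKrullDim]
    exact hind.topologicalKrullDim_le
  have hreg : ∀ x : X, ringKrullDim (X.presheaf.stalk x) ≤ 1 →
      IsRegularLocalRing (X.presheaf.stalk x) := fun x hx => by
    haveI := (hnorm x).1
    haveI := (hnorm x).2
    exact Groth.Agent.H18.SerreCrit.isRegularLocalRing_of_normal hx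
  obtain ⟨W, hUW, g', hg', hres, hW⟩ := Groth.Agent.S4440.result (Y ↘ (Spec (CommRingCat.of k)))
    (X ↘ (Spec (CommRingCat.of k))) hreg U hU g hg
  have hWtop : W = ⊤ := eq_top_iff.2 fun x _ => hW x (hdim x)
  subst hWtop
  have hι : U.ι ≫ X.topIso.inv = X.homOfLE hUW := by
    rw [Iso.comp_inv_eq, Scheme.topIso_hom, Scheme.homOfLE_ι]
  refine ⟨X.topIso.inv ≫ g', ⟨?_, ?_⟩, fun h hh => ?_⟩
  · rw [← Category.assoc, hι, hres]
  · rw [Category.assoc, hg', ← Scheme.topIso_hom, Iso.inv_hom_id_assoc]
  · haveI : IsDominant U.ι := ⟨by simpa [DenseRange, Scheme.Opens.range_ι] using hU⟩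
    refine ext_of_isDominant_of_isSeparated (Y ↘ (Spec (CommRingCat.of k))) ?_ U.ι ?_
    · rw [hh.2, Category.assoc, hg', ← Scheme.topIso_hom, Iso.inv_hom_id_assoc]
    · rw [hh.1, ← Category.assoc, hι, hres]

end Groth.Agent.S2344
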