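import Groth.Statements.S2346
import Groth.Agent.Lib.CurvePts.Basic
import Mathlib

set_option autoImplicit false
universe u
open CategoryTheory CategoryTheory.Limits AlgebraicGeometry
open EGA2

namespace Groth.Agent.S2346

/-- Let X and Y be irreducible algebraic curves over k (separated, of finite type, local rings at closed
points one-dimensional) and f : X → Y a k-morphism. Then f is dominant if and only if every fibre
f⁻¹(y) is a finite set. -/
theorem result (k : Type u) [Field k] (X Y : Scheme.{u}) [X.Over (Spec (CommRingCat.of k))] [Y.Over (Spec (CommRingCat.of k))]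
    [LocallyOfFiniteType (X ↘ (Spec (CommRingCat.of k)))] [QuasiCompact (X ↘ (Spec (CommRingCat.of k)))] [IsSeparated (X ↘ (Spec (CommRingCat.of k)))] [LocallyOfFiniteType (Y ↘ (Spec (CommRingCat.of k)))] [QuasiCompact (Y ↘ (Spec (CommRingCat.of k)))] [IsSeparated (Y ↘ (Spec (CommRingCat.of k)))] [IrreducibleSpace X] [IrreducibleSpace Y]
    (hX : (∀ x : X, IsClosed ({x} : Set X) → ringKrullDim (X.presheaf.stalk x) = 1)) (hY : (∀ x : Y, IsClosed ({x} : Set Y) → ringKrullDim (Y.presheaf.stalk x) = 1))
    (f : X ⟶ Y) (hf : f ≫ (Y ↘ (Spec (CommRingCat.of k))) = X ↘ (Spec (CommRingCat.of k))) :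
    IsDominant f ↔ ∀ y : Y, (f.base ⁻¹' {y}).Finite := by
  haveI : JacobsonSpace X := LocallyOfFiniteType.jacobsonSpace (X ↘ (Spec (CommRingCat.of k)))
  haveI : JacobsonSpace Y := LocallyOfFiniteType.jacobsonSpace (Y ↘ (Spec (CommRingCat.of k)))
  haveI : LocallyOfFiniteType (f ≫ Y ↘ (Spec (CommRingCat.of k))) := hf ▸ inferInstance
  haveI : LocallyOfFiniteType f := locallyOfFiniteType_of_comp f (Y ↘ (Spec (CommRingCat.of k)))
  haveI : IsLocallyNoetherian X := LocallyOfFiniteType.isLocallyNoetherian (X ↘ (Spec (CommRingCat.of k)))
  haveI : CompactSpace X := QuasiCompact.compactSpace_of_compactSpace (X ↘ (Spec (CommRingCat.of k)))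
  haveI : IsNoetherian X := {}
  have hη := Lib.CurvePts.not_isClosed_generic hY
  constructor
  · intro hd y
    have hgen : f.base (genericPoint X) = genericPoint Y := by
      have h1 := ((genericPoint_spec X).image f.continuous)
      rw [Set.image_univ, hd.denseRange.closure_range] at h1
      exact h1.eq (genericPoint_spec Y)
    rcases Lib.CurvePts.closed_or_generic hY y with hy | rfl
    · obtain ⟨T, hTf, hTc, hTi, hT⟩ := TopologicalSpace.NoetherianSpace.exists_finite_set_isClosed_irreducible
        (hy.preimage f.continuous)
      rw [hT, Set.sUnion_eq_biUnion]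
      refine hTf.biUnion fun Z hZ => ?_
      obtain ⟨ξ, hξ⟩ := QuasiSober.sober (hTi Z hZ) (hTc Z hZ)
      have hξy : f.base ξ = y := by
        have hm : ξ ∈ f.base ⁻¹' {y} := hT ▸ Set.mem_sUnion_of_mem (hξ.mem) hZ
        exact hm
      rcases Lib.CurvePts.closed_or_generic hX ξ with hc | rfl
      · rw [← hξ.def, hc.closure_eq]
        exact Set.finite_singleton _
      · rw [hgen] at hξy
        exact absurd (hξy ▸ hy) hη
    · refine (Set.finite_singleton (genericPoint X)).subset fun x hx => ?_
      rcases Lib.CurvePts.closed_or_generic hX x with hc | h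
      · have hfx : IsClosed ({f.base x} : Set Y) := f.closePoints_subset_preimage_closedPoints hc
        rw [show f.base x = genericPoint Y from hx] at hfx
        exact absurd hfx hη
      · exact h
  · intro hfin
    refine ⟨?_⟩
    rcases Lib.CurvePts.closed_or_generic hY (f.base (genericPoint X)) with hc | hc
    · exfalso
      have hall : f.base ⁻¹' {f.base (genericPoint X)} = Set.univ := Set.eq_univ_of_forall fun x => by
        have h := ((genericPoint_spec X).specializes (Set.mem_univ x)).map f.continuous
        exact hc.closure_subset_iff.mpr subset_rfl h.mem_closure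
      have hX' : (Set.univ : Set X).Finite := hall ▸ hfin _
      haveI : Finite X := Set.finite_univ_iff.mp hX'
      exact Lib.CurvePts.not_isClosed_generic hX (isClosed_singleton (x := genericPoint X))
    · rw [DenseRange, Dense]
      intro y
      have hy : y ∈ closure ({genericPoint Y} : Set Y) := by
        rw [(genericPoint_spec Y).def]; trivial
      exact closure_mono (show ({genericPoint Y} : Set Y) ⊆ Set.range f.base from Set.singleton_subset_iff.mpr ⟨_, hc⟩) hy

end Groth.Agent.S2346
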