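import Groth.Statements.S2347
import Groth.Agent.Lib.FEt.NormalCover

set_option autoImplicit false
universe u
open CategoryTheory CategoryTheory.Limits AlgebraicGeometry
open EGA2

namespace Groth.Agent.S2347

/-- Let X be an integral normal scheme, X' an integral scheme and g : X' → X an integral morphism. If g
has a rational section (a morphism s from a dense open U of X to X' with g ∘ s the inclusion of U),
then g is an isomorphism. -/
theorem result {X X' : Scheme.{u}} [IsIntegral X] [IsIntegral X'] (hX : Pi1.IsNormalScheme X)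
    (g : X' ⟶ X) [IsIntegralHom g] (U : X.Opens) (hU : Dense (U : Set X)) (s : (U : Scheme.{u}) ⟶ X') (hs : s ≫ g = U.ι) :
    IsIso g := by
  let η := genericPoint X
  have hηU : η ∈ U := ((genericPoint_spec X).mem_open_set_iff U.isOpen).2 (by
    simpa using hU.nonempty)
  have hrange : Set.range (X.fromSpecStalk η) ⊆ Set.range U.ι := by
    rw [Scheme.Opens.range_ι, Scheme.range_fromSpecStalk]
    exact fun z hz => (hz : z ⤳ η).mem_open U.isOpen hηU
  let t := IsOpenImmersion.lift U.ι (X.fromSpecStalk η) hrange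
  let ψ : Spec X.functionField ⟶ X' := t ≫ s
  have hψ : ψ ≫ g = X.fromSpecStalk η := by
    rw [Category.assoc, hs, IsOpenImmersion.lift_fac]
  have key : ∀ (V : X.Opens), IsAffineOpen V → (V : Set X).Nonempty → IsIso (g.app V) := by
    intro V hV hne
    haveI : Nonempty V := hne.to_subtype
    have hηV : η ∈ V := ((genericPoint_spec X).mem_open_set_iff V.isOpen).2 (by simpa using hne)
    have hle : ⊤ ≤ ψ ⁻¹ᵁ (g ⁻¹ᵁ V) := fun z _ => by
      show (ψ ≫ g) z ∈ V
      rw [hψ]
      have hz : X.fromSpecStalk η z ∈ Set.range (X.fromSpecStalk η) := ⟨z, rfl⟩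
      rw [Scheme.range_fromSpecStalk] at hz
      exact (hz : _ ⤳ η).mem_open V.isOpen hηV
    let φ := ψ.appLE (g ⁻¹ᵁ V) ⊤ hle ≫ (Scheme.ΓSpecIso X.functionField).hom
    haveI : Nonempty (g ⁻¹ᵁ V) := by
      obtain ⟨z⟩ : Nonempty (Spec X.functionField) := inferInstance
      exact ⟨⟨ψ z, hle trivial⟩⟩
    have hφ : g.app V ≫ φ = X.germToFunctionField V := by
      simp only [φ, Scheme.Hom.app_eq_appLE, Scheme.Hom.appLE_comp_appLE_assoc, hψ]
      rw [Scheme.Hom.appLE, Scheme.fromSpecStalk_app hηV]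
      simp only [Category.assoc]
      rw [← CategoryTheory.Functor.map_comp_assoc]
      erw [CategoryTheory.Functor.map_id, Category.id_comp, Iso.inv_hom_id, Category.comp_id]
    haveI : IsFractionRing Γ(X, V) X.functionField := functionField_isFractionRing_of_isAffineOpen X V hV
    haveI : IsIntegrallyClosed Γ(X, V) := Lib.FEt.NormalCover.isIntegrallyClosed_sections hX
    letI : Algebra Γ(X, V) Γ(X', g ⁻¹ᵁ V) := (g.app V).hom.toAlgebra
    haveI : Algebra.IsIntegral Γ(X, V) Γ(X', g ⁻¹ᵁ V) := ⟨IsIntegralHom.isIntegral_app (f := g) V hV⟩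
    let φa : Γ(X', g ⁻¹ᵁ V) →ₐ[Γ(X, V)] X.functionField :=
      { φ.hom with commutes' := fun a => congr($hφ a) }
    have hinj0 : Function.Injective (algebraMap Γ(X, V) X.functionField) := IsFractionRing.injective _ _
    have hinjφ : Function.Injective φa := by
      refine (RingHom.injective_iff_ker_eq_bot φa.toRingHom).2 ?_
      refine Ideal.eq_bot_of_comap_eq_bot (R := Γ(X, V)) ?_
      ext a
      simp only [Ideal.mem_comap, RingHom.mem_ker, AlgHom.toRingHom_eq_coe, RingHom.coe_coe, AlgHom.commutes,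
        Ideal.mem_bot]
      exact map_eq_zero_iff _ hinj0
    rw [ConcreteCategory.isIso_iff_bijective]
    refine ⟨fun a b hab => hinj0 ?_, fun b => ?_⟩
    · rw [← φa.commutes a, ← φa.commutes b]
      exact congrArg φa hab
    · obtain ⟨a, ha⟩ := IsIntegrallyClosed.isIntegral_iff.1 ((Algebra.IsIntegral.isIntegral (R := Γ(X, V)) b).map φa)
      exact ⟨a, hinjφ ((φa.commutes a).trans ha)⟩
  have hcov : ⨆ V : {V : X.Opens // IsAffineOpen V ∧ (V : Set X).Nonempty}, V.1 = ⊤ := by
    refine top_le_iff.1 fun x _ => ?_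
    obtain ⟨V, hV, hxV, -⟩ := exists_isAffineOpen_mem_and_subset (X := X) (x := x) (U := ⊤) trivial
    exact TopologicalSpace.Opens.mem_iSup.2 ⟨⟨V, hV, x, hxV⟩, hxV⟩
  refine IsZariskiLocalAtTarget.of_iSup_eq_top (P := MorphismProperty.isomorphisms Scheme) _ hcov fun V => ?_
  show IsIso (g ∣_ V.1)
  haveI : IsAffine V.1.toScheme := V.2.1
  haveI : IsAffine (g ⁻¹ᵁ V.1).toScheme := V.2.1.preimage g
  have e := key (V.1.ι ''ᵁ ⊤) (by simpa using V.2.1) (by simpa using V.2.2)
  haveI : IsIso (g ∣_ V.1).appTop := by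
    rw [morphismRestrict_appTop]
    exact @IsIso.comp_isIso _ _ _ _ _ _ _ e (@CategoryTheory.Functor.map_isIso _ _ _ _ _ _ _ _ (isIso_op _))
  exact (MorphismProperty.arrow_mk_iso_iff (MorphismProperty.isomorphisms Scheme)
    (arrowIsoSpecΓOfIsAffine (g ∣_ V.1))).2 (inferInstanceAs (IsIso (Spec.map _)))

end Groth.Agent.S2347
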