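import Groth.Statements.S2349
-- import your own Groth.Agent.* helpers here

set_option autoImplicit false
universe u
open CategoryTheory CategoryTheory.Limits AlgebraicGeometry
open EGA2

namespace Groth.Agent.S2349

/-- Let f : X → Y be separated and of finite type, and let j_i : X_i → X and h_i : Y_i → Y (i in a
finite index type) be closed immersions with morphisms f_i : X_i → Y_i satisfying j_i ≫ f = f_i ≫
h_i, such that the images of the j_i cover X. Then f is proper if and only if every f_i is proper. -/
theorem result {X Y : Scheme.{u}} (f : X ⟶ Y) [IsSeparated f] [LocallyOfFiniteType f] [QuasiCompact f]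
    (ι : Type u) [Finite ι] (Xi Yi : ι → Scheme.{u}) (j : ∀ i, Xi i ⟶ X) (h : ∀ i, Yi i ⟶ Y) (fi : ∀ i, Xi i ⟶ Yi i)
    [∀ i, IsClosedImmersion (j i)] [∀ i, IsClosedImmersion (h i)] (hcomm : ∀ i, j i ≫ f = fi i ≫ h i)
    (hcov : ∀ x : X, ∃ i, x ∈ Set.range (j i).base) : IsProper f ↔ ∀ i, IsProper (fi i) := by
  constructor
  · intro hf i
    haveI : IsProper (fi i ≫ h i) := hcomm i ▸ inferInstance
    exact IsProper.of_comp _ (h i)
  · intro hfi
    haveI : ∀ i, UniversallyClosed (j i ≫ f) := fun i => by
      haveI := hfi i
      rw [hcomm i]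
      infer_instance
    haveI : UniversallyClosed f := ⟨fun P Y' a g b hP C hC => by
      let c : ∀ i, pullback a (j i) ⟶ P := fun i => pullback.fst _ _
      have hr : ∀ i, Set.range (c i) = a ⁻¹' Set.range (j i) := fun i => Scheme.Pullback.range_fst _ _
      have hcl : ∀ i, IsClosed (b '' (C ∩ Set.range (c i))) := fun i => by
        have h1 : IsClosedMap (c i ≫ b) :=
          UniversallyClosed.universally_isClosedMap (f := j i ≫ f) _ _ _ ((IsPullback.of_hasPullback a (j i)).paste_horiz hP)
        have h2 := h1 (c i ⁻¹' C) (hC.preimage (c i).continuous)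
        rw [← Set.image_preimage_eq_inter_range, ← Set.image_comp]
        exact h2
      have he : (b '' C) = ⋃ i, b '' (C ∩ Set.range (c i)) := by
        rw [← Set.image_iUnion, ← Set.inter_iUnion]
        refine congrArg (fun D => b '' D) (Set.inter_eq_left.2 fun x _ => ?_).symm
        obtain ⟨i, hi⟩ := hcov (a x)
        exact Set.mem_iUnion.2 ⟨i, (hr i).ge hi⟩
      rw [he]
      exact isClosed_iUnion_of_finite hcl⟩
    exact {}

end Groth.Agent.S2349
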