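import Groth.Statements.S2353
import Groth.Agent.Lib.DvrCrit.Birational
-- import your own Groth.Agent.* helpers here

set_option autoImplicit false
universe u
open CategoryTheory CategoryTheory.Limits AlgebraicGeometry
open EGA2

namespace Groth.Agent.S2353
set_option backward.isDefEq.respectTransparency false

/-- Let Y be an integral separated locally Noetherian scheme, X an integral separated scheme and f : X →
Y dominant and of finite type, with generic point ξ of X. Suppose that for every discrete valuation
subring R of the function field K(X) and every point y of Y such that R dominates the local ring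
O_{Y,y} (through O_{Y,y} → O_{Y,f(ξ)} → K(X): the image lies in R and the maximal ideal maps into
the maximal ideal of R), there is a point x of X whose local ring is dominated by R (through O_{X,x}
→ K(X)). Then f is proper. -/
theorem result {X Y : Scheme.{u}} [IsIntegral X] [IsIntegral Y] [X.IsSeparated] [Y.IsSeparated]
    [IsLocallyNoetherian Y] (f : X ⟶ Y) [IsDominant f] [LocallyOfFiniteType f] [QuasiCompact f]
    (h : ∀ (R : ValuationSubring X.functionField), IsDiscreteValuationRing R →
      ∀ (y : Y) (hy : f.base (genericPoint X) ⤳ y), ((∀ a : (Y.presheaf.stalk y), (Y.presheaf.stalkSpecializes hy ≫ f.stalkMap (genericPoint X)).hom a ∈ R) ∧ ∀ a ∈ IsLocalRing.maximalIdeal (Y.presheaf.stalk y), R.valuation ((Y.presheaf.stalkSpecializes hy ≫ f.stalkMap (genericPoint X)).hom a) < 1) →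
        ∃ x : X, ((∀ a : (X.presheaf.stalk x), algebraMap (X.presheaf.stalk x) X.functionField a ∈ R) ∧ ∀ a ∈ IsLocalRing.maximalIdeal (X.presheaf.stalk x), R.valuation (algebraMap (X.presheaf.stalk x) X.functionField a) < 1)) :
    IsProper f := by
  have hsep : IsSeparated f := by
    haveI : IsSeparated (f ≫ Limits.terminal.from Y) := by
      rw [Limits.terminalIsTerminal.hom_ext (f ≫ Limits.terminal.from Y) (Limits.terminal.from X)]
      infer_instance
    exact IsSeparated.of_comp f (Limits.terminal.from Y)
  have huc : UniversallyClosed f := by
    refine Lib.DvrCrit.universallyClosed_of_dvr_of_generizations f (𝟙 X) (fun z => z = genericPoint X)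
      (fun x => ⟨_, rfl, genericPoint_specializes x⟩) fun z hz W hW φ w => ?_
    subst hz
    rw [Category.id_comp] at w
    haveI := Lib.DvrCrit.down_isDVR W
    have hy := Lib.DvrCrit.gen_specializes W φ _ w
    have hy' : f.base (genericPoint X) ⤳ φ (IsLocalRing.closedPoint W) :=
      Lib.DvrCrit.fromSpecResidueField_point (genericPoint X) f _ ▸ hy
    obtain ⟨x, h1, h2⟩ := h (Lib.DvrCrit.down W) inferInstance _ hy'
      (Lib.DvrCrit.dominates_of_morphism f W φ w _ rfl hy')
    rw [Category.comp_id]
    exact Lib.DvrCrit.exists_lift_of_dominates f W φ w x h1 h2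
  exact { }

end Groth.Agent.S2353
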