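import Groth.Statements.S4390
import Groth.Agent.H83.Elem.NaturalGraded

set_option autoImplicit false
universe u
open EGA2

namespace Groth.Agent.S4390

/-- Let S be a ring graded in nonnegative degrees. Then the irrelevant ideal S_+ is a finitely generated
ideal if and only if S is an S_0-algebra of finite type. -/
theorem result {R A : Type u} [CommRing R] [CommRing A] [Algebra R A] (𝒜 : ℕ → Submodule R A) [GradedAlgebra 𝒜] :
    (HomogeneousIdeal.irrelevant 𝒜).toIdeal.FG ↔ Algebra.FiniteType (𝒜 0) A := by
  classical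
  constructor
  · intro h
    obtain ⟨G⟩ := Groth.Agent.H83.NaturalGraded.gens_of_fg 𝒜 h
    exact Groth.Agent.H83.NaturalGraded.finiteType_of_gens 𝒜 G
  · intro h
    obtain ⟨G⟩ := Groth.Agent.H83.NaturalGraded.gens_of_finiteType 𝒜 h
    refine ⟨G.F.image Prod.snd, le_antisymm ?_ ?_⟩
    · rw [Ideal.span_le]
      intro x hx
      obtain ⟨f, hf, rfl⟩ := Finset.mem_image.1 (Finset.mem_coe.1 hx)
      exact HomogeneousIdeal.mem_irrelevant_of_mem 𝒜 (G.mem f hf).2 (G.mem f hf).1
    · rw [HomogeneousIdeal.irrelevant_eq_span, Ideal.span_le]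
      intro x hx
      simp only [Set.mem_iUnion] at hx
      obtain ⟨m, hm, hx⟩ := hx
      rw [Finset.coe_image]
      exact G.span m x hm hx

end Groth.Agent.S4390
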