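import Groth.Statements.S2358
import Groth.Agent.S2347
import Groth.Agent.H75.RedKer
import Groth.Agent.H75.RedSub

set_option autoImplicit false
universe u
open CategoryTheory CategoryTheory.Limits AlgebraicGeometry
open EGA2

namespace Groth.Agent.S2358

/-- Let X be an integral normal scheme, g : X' → X an integral morphism, U a dense open of X and s : U →
X' a section of g over U. Then there is a section of g over all of X extending s. -/
theorem result {X X' : Scheme.{u}} [IsIntegral X] (hX : Pi1.IsNormalScheme X)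
    (g : X' ⟶ X) [IsIntegralHom g] (U : X.Opens) (hU : Dense (U : Set X)) (s : (U : Scheme.{u}) ⟶ X') (hs : s ≫ g = U.ι) :
    ∃ s' : X ⟶ X', s' ≫ g = 𝟙 X ∧ U.ι ≫ s' = s := by
  haveI : Nonempty U := hU.nonempty.to_subtype
  haveI : IsIntegral (U : Scheme.{u}) := isIntegral_of_isOpenImmersion U.ι
  let T : TopologicalSpace.Closeds X' := ⟨closure (Set.range s), isClosed_closure⟩
  let I := Scheme.IdealSheafData.vanishingIdeal T
  have hirr : IsIrreducible (T : Set X') := by
    refine IsIrreducible.closure ?_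
    rw [← Set.image_univ]
    exact (irreducibleSpace_def _ |>.1 inferInstance).image _ s.continuous.continuousOn
  haveI : IrreducibleSpace I.subscheme := by
    have hr : Set.range I.subschemeι = (T : Set X') := by
      rw [Scheme.IdealSheafData.range_subschemeι, Scheme.IdealSheafData.coe_support_vanishingIdeal]
    have he : Topology.IsEmbedding I.subschemeι := I.subschemeι.isClosedEmbedding.isEmbedding
    haveI : Nonempty I.subscheme := by
      obtain ⟨y, hy⟩ := hirr.nonempty
      exact ⟨(hr ▸ hy : y ∈ Set.range I.subschemeι).choose⟩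
    refine @IrreducibleSpace.mk _ _ ⟨?_⟩ inferInstance
    intro u v hu hv ⟨a, _, ha⟩ ⟨b, _, hb⟩
    obtain ⟨u', hu', rfl⟩ := he.isInducing.isOpen_iff.1 hu
    obtain ⟨v', hv', rfl⟩ := he.isInducing.isOpen_iff.1 hv
    obtain ⟨z, hzT, hzu, hzv⟩ := hirr.2 u' v' hu' hv' ⟨_, hr ▸ ⟨a, rfl⟩, ha⟩ ⟨_, hr ▸ ⟨b, rfl⟩, hb⟩
    obtain ⟨c, rfl⟩ := (hr ▸ hzT : z ∈ Set.range I.subschemeι)
    exact ⟨c, trivial, hzu, hzv⟩
  haveI : IsReduced I.subscheme := H75.RedSub.isReduced_vanishingIdeal T
  haveI : IsIntegral I.subscheme := isIntegral_of_irreducibleSpace_of_isReduced _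
  have hle : I.subschemeι.ker ≤ s.ker := by
    rw [I.ker_subschemeι, H75.RedKer.ker_eq_vanishingIdeal]
  let s0 := IsClosedImmersion.lift I.subschemeι s hle
  have h0 : s0 ≫ I.subschemeι ≫ g = U.ι := by rw [IsClosedImmersion.lift_fac_assoc, hs]
  haveI : IsIso (I.subschemeι ≫ g) := S2347.result hX (I.subschemeι ≫ g) U hU s0 h0
  refine ⟨inv (I.subschemeι ≫ g) ≫ I.subschemeι, ?_, ?_⟩
  · rw [Category.assoc, IsIso.inv_hom_id]
  · rw [← h0]
    simp only [Category.assoc, IsIso.hom_inv_id_assoc]
    exact IsClosedImmersion.lift_fac _ _ hle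

end Groth.Agent.S2358
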