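import Groth.Statements.S4499
import Groth.Agent.H25.TorLES
import Mathlib.LinearAlgebra.TensorProduct.RightExactness

set_option autoImplicit false
universe u
attribute [local instance] HasDerivedCategory.standard
open FlatCx

namespace Groth.Agent.S4499

section
open CategoryTheory CategoryTheory.Limits MonoidalCategory
open scoped TensorProduct
open Groth.Agent.H25.TorLES

variable {A : Type u} [CommRing A] (M : ModuleCat.{u} A) {S : ShortComplex (ModuleCat.{u} A)}
  (hS : S.ShortExact) [Module.Flat A S.X₂]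

include hS in
theorem nonempty_succ (n : ℕ) :
    Nonempty (((T M (n + 2)).obj S.X₃) ≃ₗ[A] ((T M (n + 1)).obj S.X₁)) := by
  have h2 := Groth.Agent.Lib.Tor.Balance.isZero_tor_succ_of_flat_right M S.X₂ (n + 1)
  have h1 := Groth.Agent.Lib.Tor.Balance.isZero_tor_succ_of_flat_right M S.X₂ n
  have : Mono (δ (M := M) hS (n + 1)) := (exact₃ (M := M) hS (n + 1)).mono_g (h2.eq_of_src _ _)
  have : Epi (δ (M := M) hS (n + 1)) := (exact₁ (M := M) hS (n + 1)).epi_f (h1.eq_of_tgt _ _)
  have := isIso_of_mono_of_epi (δ (M := M) hS (n + 1))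
  exact ⟨(asIso (δ (M := M) hS (n + 1))).toLinearEquiv⟩

include hS in
theorem nonempty_one :
    Nonempty (((T M 1).obj S.X₃) ≃ₗ[A] LinearMap.ker (S.f.hom.rTensor M)) := by
  have h1 := Groth.Agent.Lib.Tor.Balance.isZero_tor_succ_of_flat_right M S.X₂ 0
  have : Mono (δ (M := M) hS 0) := (exact₃ (M := M) hS 0).mono_g (h1.eq_of_src _ _)
  have hinj := (ModuleCat.mono_iff_injective (δ (M := M) hS 0)).1 inferInstance
  have hex := (ShortComplex.ShortExact.moduleCat_exact_iff_function_exact _).1 (exact₁ (M := M) hS 0)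
  let a : ∀ X : ModuleCat.{u} A, (T M 0).obj X ≃ₗ[A] X ⊗[A] M := fun X =>
    ((zeroIso M).app X).toLinearEquiv.trans (TensorProduct.comm A M X)
  have ha : ∀ x, a S.X₂ (((T M 0).map S.f).hom x) = S.f.hom.rTensor M (a S.X₁ x) := fun x => by
    have := congrArg (fun φ => φ.hom x) ((zeroIso M).hom.naturality S.f)
    show TensorProduct.comm A M S.X₂ (((zeroIso M).hom.app S.X₂).hom (((T M 0).map S.f).hom x)) = _
    refine (congrArg (TensorProduct.comm A M S.X₂) this).trans ?_
    exact (LinearMap.congr_fun (TensorProduct.map_comp_comm_eq S.f.hom LinearMap.id).symm _)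
  have hmem : ∀ z, a S.X₁ ((δ (M := M) hS 0).hom z) ∈ LinearMap.ker (S.f.hom.rTensor M) := fun z => by
    rw [LinearMap.mem_ker, ← ha,
      show ((T M 0).map S.f).hom ((δ (M := M) hS 0).hom z) = 0 from (hex _).2 ⟨z, rfl⟩, map_zero]
  refine ⟨LinearEquiv.ofBijective (((a S.X₁).toLinearMap ∘ₗ (δ (M := M) hS 0).hom).codRestrict _ hmem)
    ⟨fun x y h => hinj ((a S.X₁).injective (congrArg Subtype.val h)), fun ⟨w, hw⟩ => ?_⟩⟩
  obtain ⟨z, hz⟩ := (hex ((a S.X₁).symm w)).1 ((a S.X₂).injective (by
    refine ((ha _).trans ?_).trans (map_zero _).symm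
    rw [LinearEquiv.apply_symm_apply]; exact hw))
  exact ⟨z, Subtype.ext ((congrArg (a S.X₁) hz).trans ((a S.X₁).apply_symm_apply w))⟩

/-- The short complex of a submodule. -/
noncomputable abbrev sc {X : Type u} [AddCommGroup X] [Module A X] (N : Submodule A X) :
    ShortComplex (ModuleCat.{u} A) :=
  ShortComplex.mk (ModuleCat.ofHom N.subtype) (ModuleCat.ofHom N.mkQ)
    (by ext x; exact (Submodule.Quotient.mk_eq_zero N).2 x.2)

theorem sc_shortExact {X : Type u} [AddCommGroup X] [Module A X] (N : Submodule A X) :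
    (sc (A := A) N).ShortExact where
  exact := (ShortComplex.ShortExact.moduleCat_exact_iff_function_exact _).2
    (LinearMap.exact_subtype_mkQ N)
  mono_f := (ModuleCat.mono_iff_injective _).2 N.injective_subtype
  epi_g := (ModuleCat.epi_iff_surjective _).2 N.mkQ_surjective

theorem quot_general {X Y Z W : Type u} [AddCommGroup X] [Module A X] [AddCommGroup Y] [Module A Y]
    [AddCommGroup Z] [Module A Z] [AddCommGroup W] [Module A W] (f : X →ₗ[A] Y) (g : Y →ₗ[A] Z)
    (h : Z →ₗ[A] W) (c : Y →ₗ[A] W) (hc : c = h ∘ₗ g) (hex : Function.Exact f g)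
    (hg : Function.Surjective g) :
    Nonempty ((↥(LinearMap.ker c) ⧸
      Submodule.comap (LinearMap.ker c).subtype (LinearMap.range f)) ≃ₗ[A] LinearMap.ker h) := by
  subst hc
  let φ : LinearMap.ker (h ∘ₗ g) →ₗ[A] LinearMap.ker h :=
    (g ∘ₗ (LinearMap.ker (h ∘ₗ g)).subtype).codRestrict _ fun x => x.2
  have hφ : Function.Surjective φ := fun ⟨z, hz⟩ => by
    obtain ⟨y, rfl⟩ := hg z
    exact ⟨⟨y, hz⟩, rfl⟩
  have hker : Submodule.comap (LinearMap.ker (h ∘ₗ g)).subtype (LinearMap.range f) = LinearMap.ker φ := by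
    ext x
    exact (hex x.1).symm.trans ⟨fun e => Subtype.ext e, fun e => congrArg Subtype.val e⟩
  exact ⟨(Submodule.quotEquivOfEq _ _ hker).trans (φ.quotKerEquivOfSurjective hφ)⟩

variable {P₁ P₀ : Type u} [AddCommGroup P₁] [Module A P₁] [AddCommGroup P₀] [Module A P₀]
  [Module.Flat A P₁] [Module.Flat A P₀] (d : P₁ →ₗ[A] P₀) (k : Type u) [AddCommGroup k] [Module A k]

omit [Module.Flat A P₁] [Module.Flat A P₀] in
theorem exact_range : Function.Exact (LinearMap.ker d).subtype d.rangeRestrict := fun y =>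
    ⟨fun h => ⟨⟨y, congrArg Subtype.val h⟩, rfl⟩, by rintro ⟨x, rfl⟩; exact Subtype.ext x.2⟩

/-- The first short exact sequence. -/
noncomputable abbrev sc₁ : ShortComplex (ModuleCat.{u} A) :=
  ShortComplex.mk (ModuleCat.ofHom (LinearMap.ker d).subtype)
    (ModuleCat.ofHom d.rangeRestrict) (by ext x; exact x.2)

theorem sc₁_shortExact : (sc₁ d).ShortExact where
  exact := (ShortComplex.ShortExact.moduleCat_exact_iff_function_exact _).2 (exact_range d)
  mono_f := (ModuleCat.mono_iff_injective _).2 (LinearMap.ker d).injective_subtype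
  epi_g := (ModuleCat.epi_iff_surjective _).2 (LinearMap.surjective_rangeRestrict d)

theorem tor_two : Nonempty (LinearMap.ker ((LinearMap.ker d).subtype.rTensor k) ≃ₗ[A]
        DRing.Tor A 2 (P₀ ⧸ LinearMap.range d) k) := by
  have : Module.Flat A (sc (A := A) (LinearMap.range d)).X₂ := ‹Module.Flat A P₀›
  have : Module.Flat A (sc₁ d).X₂ := ‹Module.Flat A P₁›
  obtain ⟨e₂⟩ := nonempty_succ (ModuleCat.of A k) (sc_shortExact (A := A) (LinearMap.range d)) 0
  obtain ⟨e₃⟩ := nonempty_one (ModuleCat.of A k) (sc₁_shortExact d)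
  exact ⟨LinearEquiv.trans e₃.symm (LinearEquiv.trans e₂.symm
    (Groth.Agent.Lib.Tor.Balance.torFlipIso (ModuleCat.of A k)
      (ModuleCat.of A (P₀ ⧸ LinearMap.range d)) 2).toLinearEquiv)⟩

omit [Module.Flat A P₁] [Module.Flat A P₀] in
theorem rTensor_comp_eq :
    d.rTensor k = (LinearMap.range d).subtype.rTensor k ∘ₗ d.rangeRestrict.rTensor k := by
  rw [← LinearMap.rTensor_comp]; rfl

omit [Module.Flat A P₁] [Module.Flat A P₀] in
theorem range_le : LinearMap.range ((LinearMap.ker d).subtype.rTensor k) ≤ LinearMap.ker (d.rTensor k) := by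
  rintro _ ⟨x, rfl⟩
  rw [LinearMap.mem_ker, rTensor_comp_eq, LinearMap.comp_apply,
    ((rTensor_exact k (exact_range d) (LinearMap.surjective_rangeRestrict d)) _).2 ⟨x, rfl⟩, map_zero]

omit [Module.Flat A P₁] [Module.Flat A P₀] in
theorem quot_equiv : Nonempty ((↥(LinearMap.ker (d.rTensor k)) ⧸
          Submodule.comap (LinearMap.ker (d.rTensor k)).subtype
            (LinearMap.range ((LinearMap.ker d).subtype.rTensor k))) ≃ₗ[A]
        LinearMap.ker ((LinearMap.range d).subtype.rTensor k)) :=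
  quot_general ((LinearMap.ker d).subtype.rTensor k) (d.rangeRestrict.rTensor k)
    ((LinearMap.range d).subtype.rTensor k) (d.rTensor k) (rTensor_comp_eq d k)
    (rTensor_exact k (exact_range d) (LinearMap.surjective_rangeRestrict d))
    (LinearMap.rTensor_surjective k (LinearMap.surjective_rangeRestrict d))

theorem tor_one : Nonempty (LinearMap.ker ((LinearMap.range d).subtype.rTensor k) ≃ₗ[A]
        DRing.Tor A 1 (P₀ ⧸ LinearMap.range d) k) := by
  have : Module.Flat A (sc (A := A) (LinearMap.range d)).X₂ := ‹Module.Flat A P₀›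
  obtain ⟨e₁⟩ := nonempty_one (ModuleCat.of A k) (sc_shortExact (A := A) (LinearMap.range d))
  exact ⟨LinearEquiv.trans e₁.symm
    (Groth.Agent.Lib.Tor.Balance.torFlipIso (ModuleCat.of A k)
      (ModuleCat.of A (P₀ ⧸ LinearMap.range d)) 1).toLinearEquiv⟩

end

/-- Let A be a Noetherian local ring with residue field k, and d : P₁ → P₀ an A-linear map between flat
A-modules, viewed as a two-term chain complex, so that H₁ = Ker d, H₀ = Coker d and H₁ of the
complex tensored with k is Ker(d ⊗ 1_k). Let α : (Ker d) ⊗_A k → P₁ ⊗_A k be the map induced by the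
inclusion Ker d → P₁; its image lies in Ker(d ⊗ 1_k). Then there is an exact sequence 0 →
Tor₂^A(Coker d, k) → (Ker d) ⊗_A k → Ker(d ⊗ 1_k) → Tor₁^A(Coker d, k) → 0 with middle map α, stated
here as: Ker α is isomorphic to Tor₂^A(Coker d, k), and the quotient of Ker(d ⊗ 1_k) by the image of
α is isomorphic to Tor₁^A(Coker d, k) (existence of A-linear isomorphisms only; Tor is Mathlib's,
left derived in the second variable). (In the published statement the cokernel is printed without
its prime, as the module of 0-cycles; the proof is about the cokernel of d.) -/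
theorem result {A : Type u} [CommRing A] [IsNoetherianRing A]
    [IsLocalRing A] {P₁ P₀ : Type u} [AddCommGroup P₁] [Module A P₁] [AddCommGroup P₀] [Module A P₀]
    [Module.Flat A P₁] [Module.Flat A P₀] (d : P₁ →ₗ[A] P₀) :
    Nonempty (LinearMap.ker ((LinearMap.ker d).subtype.rTensor (IsLocalRing.ResidueField A)) ≃ₗ[A]
        DRing.Tor A 2 (P₀ ⧸ LinearMap.range d) (IsLocalRing.ResidueField A)) ∧
      LinearMap.range ((LinearMap.ker d).subtype.rTensor (IsLocalRing.ResidueField A)) ≤
        LinearMap.ker (d.rTensor (IsLocalRing.ResidueField A)) ∧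
      Nonempty ((↥(LinearMap.ker (d.rTensor (IsLocalRing.ResidueField A))) ⧸
          Submodule.comap (LinearMap.ker (d.rTensor (IsLocalRing.ResidueField A))).subtype
            (LinearMap.range ((LinearMap.ker d).subtype.rTensor (IsLocalRing.ResidueField A)))) ≃ₗ[A]
        DRing.Tor A 1 (P₀ ⧸ LinearMap.range d) (IsLocalRing.ResidueField A)) := by
  obtain ⟨e⟩ := quot_equiv d (IsLocalRing.ResidueField A)
  obtain ⟨e'⟩ := tor_one d (IsLocalRing.ResidueField A)
  exact ⟨tor_two d _, range_le d _, ⟨e.trans e'⟩⟩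

end Groth.Agent.S4499
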