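import Groth.Statements.S2455
import Groth.Agent.H68.FlatLift

set_option autoImplicit false
universe u
open EGA41

namespace Groth.Agent.S2455

open IsLocalRing in
/-- Let A be a Noetherian local ring with residue field k and K a separable extension field of k. Then
there is a Cohen A-algebra B whose residue field is k-isomorphic to K; and two Cohen A-algebras
whose residue fields are k-isomorphic to K are isomorphic as A-algebras. -/
theorem result {A : Type u} [CommRing A] [IsLocalRing A] [IsNoetherianRing A]
    (K : Type u) [Field K] [Algebra (ResidueField A) K] [Algebra.IsGeometricallyReduced (ResidueField A) K] :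
    (∃ (B : Type u) (_ : CommRing B) (_ : IsLocalRing B) (_ : Algebra A B) (_ : IsLocalHom (algebraMap A B)),
      EGA41.IsCohenAlgebra A B ∧ Nonempty (ResidueField B ≃ₐ[ResidueField A] K)) ∧
    ∀ (B B' : Type u) [CommRing B] [IsLocalRing B] [Algebra A B] [IsLocalHom (algebraMap A B)]
      [CommRing B'] [IsLocalRing B'] [Algebra A B'] [IsLocalHom (algebraMap A B')],
      EGA41.IsCohenAlgebra A B → EGA41.IsCohenAlgebra A B' →
      Nonempty (ResidueField B ≃ₐ[ResidueField A] K) → Nonempty (ResidueField B' ≃ₐ[ResidueField A] K) →
      Nonempty (B ≃ₐ[A] B') := by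
  constructor
  · letI : Algebra A K := ((algebraMap (ResidueField A) K).comp (residue A)).toAlgebra
    haveI : IsLocalHom (algebraMap A K) := ⟨fun a ha => by
      by_contra hna
      have h0 : residue A a = 0 := (residue_eq_zero_iff a).mpr ((mem_maximalIdeal a).mpr hna)
      rw [show algebraMap A K a = algebraMap (ResidueField A) K (residue A a) from rfl, h0, map_zero] at ha
      exact not_isUnit_zero ha⟩
    haveI : IsRegularLocalRing K := IsRegularLocalRing.of_spanFinrank_maximalIdeal_le _ (by
      rw [show maximalIdeal K = ⊥ from Ideal.eq_bot_of_prime _, Submodule.spanFinrank_bot, Nat.cast_zero]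
      exact ringKrullDim_nonneg_of_nontrivial)
    haveI : IsAdicComplete (maximalIdeal K) K := by
      rw [show maximalIdeal K = ⊥ from Ideal.eq_bot_of_prime _]; infer_instance
    have hm : (maximalIdeal A).map (algebraMap A K) = ⊥ := by
      refine eq_bot_iff.mpr (Ideal.map_le_iff_le_comap.mpr fun a ha => ?_)
      show algebraMap (ResidueField A) K (residue A a) = 0
      rw [(residue_eq_zero_iff a).mpr ha, map_zero]
    obtain ⟨C, iC, jC, kC, π, hN, hC, hloc, hflat, hπ, hker⟩ :=
      H68.FlatLift.exists_flat_lift' (A := A) (B := K) hm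
    haveI := hloc
    have hmax : (maximalIdeal A).map (algebraMap A C) = maximalIdeal C := by
      rw [← hker]
      exact IsLocalRing.eq_maximalIdeal (RingHom.ker_isMaximal_of_surjective _ hπ)
    have hk0 : ∀ x ∈ maximalIdeal C, π x = 0 := fun x hx => by
      rw [← hmax, ← hker] at hx
      exact hx
    let e : ResidueField C →ₐ[ResidueField A] K :=
      { Ideal.Quotient.lift (maximalIdeal C) π.toRingHom hk0 with
        commutes' := fun a => by
          obtain ⟨a, rfl⟩ := residue_surjective a
          exact π.commutes a }
    have he : Function.Bijective e := ⟨RingHom.injective e.toRingHom, fun z => by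
      obtain ⟨c, rfl⟩ := hπ z
      exact ⟨residue C c, rfl⟩⟩
    refine ⟨C, iC, jC, kC, hloc, ⟨‹IsNoetherianRing A›, hN, hC, hflat, hmax, ?_⟩, ⟨AlgEquiv.ofBijective e he⟩⟩
    exact Algebra.IsGeometricallyReduced.of_injective e he.1
  · intro B B' _ _ _ _ _ _ _ _ hB hB' eB eB'
    obtain ⟨eB⟩ := eB
    obtain ⟨eB'⟩ := eB'
    haveI := hB.2.1
    haveI := hB'.2.1
    haveI := hB.2.2.1
    haveI := hB'.2.2.1
    haveI := hB'.2.2.2.1
    have hm := hB.2.2.2.2.1
    have hm' := hB'.2.2.2.2.1
    let e := eB.trans eB'.symm
    let q : ResidueField B' ≃+* B' ⧸ (maximalIdeal A).map (algebraMap A B') :=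
      Ideal.quotEquivOfEq hm'.symm
    let u : B →ₐ[A] B' ⧸ (maximalIdeal A).map (algebraMap A B') :=
      { (q.toRingHom.comp e.toRingEquiv.toRingHom).comp (residue B) with
        commutes' := fun a => (congrArg q (e.commutes (residue A a))).trans rfl }
    obtain ⟨v, -⟩ := H68.FlatLift.exists_algEquiv_lift (maximalIdeal A) (maximalIdeal B) (maximalIdeal B')
      hm.le le_rfl hm'.le le_rfl
      (H68.FlatFibre.isFormallySmoothAdic_of_adic _ (H68.FlatFibre.adic_of_isCohenAlgebra hB)) u
      (fun z => by
        obtain ⟨b, hb⟩ := residue_surjective (e.symm (q.symm z))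
        exact ⟨b, by show q (e (residue B b)) = z; rw [hb, AlgEquiv.apply_symm_apply, RingEquiv.apply_symm_apply]⟩)
      (fun b hb => by
        rw [hm]
        refine (residue_eq_zero_iff b).mp (e.injective ((q.injective ?_).trans (map_zero e).symm))
        rw [map_zero]
        exact hb)
      ⟨1, Ideal.map_le_iff_le_comap.mpr fun b hb => by
        rw [pow_one] at hb
        have h1 : u.toRingHom b = 0 := by
          show q (e (residue B b)) = 0
          rw [(residue_eq_zero_iff b).mpr hb, map_zero, map_zero]
        rw [Ideal.mem_comap, h1]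
        exact zero_mem _⟩
    exact ⟨v⟩

end Groth.Agent.S2455
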