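import Groth.Statements.S2457
import Groth.Agent.H68.CohenFS
import Mathlib.RingTheory.AdicCompletion.Functoriality
import Mathlib.RingTheory.DiscreteValuationRing.Basic

set_option autoImplicit false
universe u
open EGA41

namespace Groth.Agent.S2457

open IsLocalRing in
/-- Let W and W' be Cohen rings with residue fields K and K' and u : K ≅ K' an isomorphism. Then u is
induced by some isomorphism v : W ≅ W'. -/
theorem result {W W' : Type u} [CommRing W] [IsLocalRing W] [CommRing W'] [IsLocalRing W']
    (hW : EGA41.IsCohenRingEGA W) (hW' : EGA41.IsCohenRingEGA W') (u : ResidueField W ≃+* ResidueField W') :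
    ∃ v : W ≃+* W', ∀ x : W, residue W' (v x) = u (residue W x) := by
  rcases hW' with ⟨hf, hc⟩ | hC
  · letI := hf.toField
    haveI : CharZero (ResidueField W') := (residue W').charZero_iff (RingHom.injective _) |>.mp hc
    rcases hW with ⟨hfW, -⟩ | ⟨_, _, _, p, hp, hm⟩
    · letI := hfW.toField
      let e := RingEquiv.ofBijective (residue W) ⟨RingHom.injective _, residue_surjective⟩
      let e' := RingEquiv.ofBijective (residue W') ⟨RingHom.injective _, residue_surjective⟩
      exact ⟨(e.trans u).trans e'.symm, fun x => e'.apply_symm_apply _⟩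
    · exfalso
      have h0 : (p : ResidueField W) = 0 := by
        rw [← map_natCast (residue W), residue_eq_zero_iff, hm]
        exact Ideal.mem_span_singleton_self _
      have h1 := congrArg u h0
      rw [map_natCast, map_zero] at h1
      exact hp.ne_zero (Nat.cast_eq_zero.mp h1)
  · obtain ⟨_, _, hcompl, p, hp, hm⟩ := hC
    let f : W →+* W' ⧸ maximalIdeal W' := u.toRingHom.comp (residue W)
    haveI : IsLocalHom f := ⟨fun x hx => by
      by_contra hu
      have h1 : residue W x = 0 := (residue_eq_zero_iff x).mpr hu
      exact hx.ne_zero (by show u (residue W x) = 0; rw [h1, map_zero])⟩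
    haveI : IsLocalRing (W' ⧸ maximalIdeal W') := inferInstanceAs (IsLocalRing (ResidueField W'))
    obtain ⟨v, -, hv⟩ := H68.CohenFS.exists_lift hW (C := W') (maximalIdeal W')
      (maximalIdeal.isMaximal W').ne_top f
    have hv' : ∀ x, residue W' (v x) = u (residue W x) := fun x => RingHom.congr_fun hv x
    have hp0 : (p : W') ≠ 0 := fun h0 =>
      IsDiscreteValuationRing.not_a_field W' (by rw [hm, h0, Ideal.span_singleton_eq_bot.mpr rfl])
    have hpW : (p : W) ∈ maximalIdeal W := by
      rw [← residue_eq_zero_iff, map_natCast]
      apply u.injective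
      rw [map_natCast, map_zero, ← map_natCast (residue W'), residue_eq_zero_iff, hm]
      exact Ideal.mem_span_singleton_self _
    obtain ⟨_, _, _, q, hq, hmW⟩ : CAlg.IsCohenRing W := hW.resolve_left fun hW0 => by
      letI := hW0.1.toField
      haveI := hW0.2
      rw [show maximalIdeal W = ⊥ from Ideal.eq_bot_of_prime _, Ideal.mem_bot, Nat.cast_eq_zero] at hpW
      exact hp.ne_zero hpW
    have hvp : (maximalIdeal W).map v = maximalIdeal W' := by
      have hqp : q = p := by
        have h1 : CharP (ResidueField W) p := (CharP.charP_iff_prime_eq_zero hp).mpr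
          (by rw [← map_natCast (residue W), residue_eq_zero_iff]; exact hpW)
        have h2 : CharP (ResidueField W) q := (CharP.charP_iff_prime_eq_zero hq).mpr
          (by rw [← map_natCast (residue W), residue_eq_zero_iff, hmW]; exact Ideal.mem_span_singleton_self _)
        exact CharP.eq (ResidueField W) h2 h1
      rw [hmW, hm, Ideal.map_span, Set.image_singleton, map_natCast, hqp]
    have hsurj : Function.Surjective v := by
      haveI : IsHausdorff ((maximalIdeal W).map v) W' := by rw [hvp]; infer_instance
      refine surjective_of_mk_map_comp_surjective (I := maximalIdeal W) v fun y => ?_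
      obtain ⟨y, rfl⟩ := Ideal.Quotient.mk_surjective y
      obtain ⟨r, hr⟩ := u.surjective (residue W' y)
      obtain ⟨x, rfl⟩ := residue_surjective r
      refine ⟨x, Ideal.Quotient.eq.mpr ?_⟩
      rw [hvp, ← residue_eq_zero_iff, map_sub, hv', hr, sub_self]
    have hinj : Function.Injective v := by
      rw [injective_iff_map_eq_zero]
      intro x hx
      by_contra hx0
      obtain ⟨n, ϖu, hn⟩ := IsDiscreteValuationRing.eq_unit_mul_pow_irreducible hx0
        (IsDiscreteValuationRing.irreducible_of_span_eq_maximalIdeal _ (by
          intro h0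
          exact IsDiscreteValuationRing.not_a_field W (by rw [hmW, h0, Ideal.span_singleton_eq_bot.mpr rfl])) hmW)
      rw [hn, map_mul, map_pow, map_natCast, mul_eq_zero] at hx
      refine hp0 ?_
      have hqp : q = p := by
        have h1 : CharP (ResidueField W) p := (CharP.charP_iff_prime_eq_zero hp).mpr
          (by rw [← map_natCast (residue W), residue_eq_zero_iff]; exact hpW)
        have h2 : CharP (ResidueField W) q := (CharP.charP_iff_prime_eq_zero hq).mpr
          (by rw [← map_natCast (residue W), residue_eq_zero_iff, hmW]; exact Ideal.mem_span_singleton_self _)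
        exact CharP.eq (ResidueField W) h2 h1
      rw [← hqp]
      exact eq_zero_of_pow_eq_zero (hx.resolve_left (ϖu.isUnit.map v).ne_zero)
    exact ⟨RingEquiv.ofBijective v ⟨hinj, hsurj⟩, hv'⟩

end Groth.Agent.S2457
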