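import Groth.Statements.S2458
import Groth.Agent.Lib.Cohen.Presentation
import Groth.Agent.Lib.Regular.Quotient
import Mathlib.RingTheory.Artinian.Ring

set_option autoImplicit false
universe u
open EGA41

namespace Groth.Agent.S2458

open IsLocalRing in
theorem shrink_presentation {A : Type u} [CommRing A] [IsLocalRing A] (h : maximalIdeal A ^ 2 = ⊥) :
    ∀ (d : ℕ) (B : Type u) [CommRing B] [IsRegularLocalRing B] (g : B →+* A),
      ringKrullDim B = d → Function.Surjective g →
      ∃ (C : Type u) (_ : CommRing C) (_ : IsRegularLocalRing C), Nonempty (A ≃+* C ⧸ IsLocalRing.maximalIdeal C ^ 2) := by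
  intro d
  induction d using Nat.strong_induction_on with
  | _ d ih =>
    intro B _ _ g hd hg
    haveI : IsLocalHom g := hg.isLocalHom
    have hm : (maximalIdeal B).map g ≤ maximalIdeal A :=
      Ideal.map_le_iff_le_comap.2 fun a ha => map_nonunit g a ha
    by_cases hK : RingHom.ker g ≤ maximalIdeal B ^ 2
    · have heq : RingHom.ker g = maximalIdeal B ^ 2 := by
        refine le_antisymm hK fun x hx => ?_
        have : g x ∈ maximalIdeal A ^ 2 :=
          Ideal.pow_right_mono hm 2 ((Ideal.map_pow g _ 2) ▸ Ideal.mem_map_of_mem g hx)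
        rwa [h, Ideal.mem_bot] at this
      exact ⟨B, inferInstance, inferInstance,
        ⟨((RingHom.quotientKerEquivOfSurjective hg).symm.trans (Ideal.quotEquivOfEq heq))⟩⟩
    · obtain ⟨x, hxK, hx2⟩ := SetLike.not_le_iff_exists.1 hK
      have hxm : x ∈ maximalIdeal B := (mem_maximalIdeal x).2 fun hu => (hu.map g).ne_zero hxK
      obtain ⟨hreg, hdim, -⟩ := Groth.Agent.Lib.Regular.Quotient.quotient_singleton hxm hx2
      haveI := hreg
      obtain ⟨e, he, -⟩ := Groth.Agent.Lib.Regular.Quotient.exists_dim_eq (R := B ⧸ Ideal.span {x})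
      refine ih e ?_ (B ⧸ Ideal.span {x})
        (Ideal.Quotient.lift _ g fun a ha => ?_) he (Ideal.Quotient.lift_surjective_of_surjective _ _ hg)
      · rw [he, hd] at hdim
        have : e + 1 = d := by exact_mod_cast hdim
        omega
      · obtain ⟨c, rfl⟩ := Ideal.mem_span_singleton'.1 ha
        rw [map_mul, RingHom.mem_ker.1 hxK, mul_zero]


open IsLocalRing in
/-- Let A be an Artinian local ring whose maximal ideal 𝔪 satisfies 𝔪² = 0. Then there is a regular
local ring B with maximal ideal 𝔫 such that A ≅ B/𝔫². -/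
theorem result {A : Type u} [CommRing A] [IsLocalRing A] [IsArtinianRing A]
    (h : maximalIdeal A ^ 2 = ⊥) :
    ∃ (B : Type u) (_ : CommRing B) (_ : IsRegularLocalRing B), Nonempty (A ≃+* B ⧸ IsLocalRing.maximalIdeal B ^ 2) := by
  have hbot : ∀ n : ℕ, 2 ≤ n → IsLocalRing.maximalIdeal A ^ n = ⊥ := fun n hn =>
    le_bot_iff.1 (h ▸ Ideal.pow_le_pow_right hn)
  haveI : IsAdicComplete (IsLocalRing.maximalIdeal A) A :=
    { haus' := fun x hx => by
        have := hx 2
        rw [hbot 2 le_rfl, Submodule.bot_smul, SModEq.bot] at this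
        exact this
      prec' := fun f hf => ⟨f 2, fun n => by
        rcases Nat.le_total n 2 with hn | hn
        · exact hf hn
        · have := (hf hn).symm
          rw [hbot 2 le_rfl, Submodule.bot_smul, SModEq.bot] at this
          rw [this]⟩ }
  obtain ⟨Λ, _, n, g, -, hreg, hg⟩ := Groth.Agent.Lib.Cohen.Presentation.exists_surjective_mvPowerSeries A
  haveI := hreg
  obtain ⟨d, hd, -⟩ := Groth.Agent.Lib.Regular.Quotient.exists_dim_eq (R := MvPowerSeries (Fin n) Λ)
  exact shrink_presentation h d _ g hd hg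

end Groth.Agent.S2458
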