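import Groth.Statements.S2459
import Groth.Agent.Lib.Cohen.Exists
import Groth.Agent.Lib.Adic.Transfer
import Mathlib.RingTheory.HopkinsLevitzki

set_option autoImplicit false
universe u
open EGA41

namespace Groth.Agent.S2459

open IsLocalRing in
/-- Let A be an Artinian local ring with maximal ideal 𝔪 and residue field of characteristic p (p = 0
allowed). Then A is isomorphic to a quotient of a Cohen ring if and only if 𝔪 is generated by p·1. -/
theorem result {A : Type u} [CommRing A] [IsLocalRing A] [IsArtinianRing A]
    (p : ℕ) [CharP (ResidueField A) p] :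
    (∃ (W : Type u) (_ : CommRing W) (I : Ideal W), EGA41.IsCohenRingEGA W ∧ Nonempty (A ≃+* W ⧸ I)) ↔
      maximalIdeal A = Ideal.span {(p : A)} := by
  constructor
  · have hcp : CharP (ResidueField A) p := inferInstance
    rintro ⟨W, _, I, hW, ⟨e⟩⟩
    haveI : IsLocalRing W := by
      rcases hW with ⟨hf, -⟩ | ⟨_, _, _⟩
      · letI := hf.toField; infer_instance
      · infer_instance
    let f : W →+* A := e.symm.toRingHom.comp (Ideal.Quotient.mk I)
    have hf : Function.Surjective f := e.symm.surjective.comp Ideal.Quotient.mk_surjective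
    haveI : IsLocalHom f := IsLocalHom.of_surjective f hf
    have hmax : maximalIdeal A = (maximalIdeal W).map f :=
      (IsLocalRing.map_maximalIdeal_of_surjective f hf).symm
    have hpA : (p : A) ∈ maximalIdeal A := by
      rw [← residue_eq_zero_iff, map_natCast, CharP.cast_eq_zero]
    refine le_antisymm ?_ ((Ideal.span_singleton_le_iff_mem _).mpr hpA)
    rw [hmax, Ideal.map_le_iff_le_comap]
    intro x hx
    rcases hW with ⟨hF, -⟩ | ⟨_, _, _, q, hq, hm⟩
    · letI := hF.toField
      rw [show maximalIdeal W = ⊥ from Ideal.eq_bot_of_prime _, Ideal.mem_bot] at hx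
      rw [hx]; exact zero_mem _
    · rw [hm, Ideal.mem_span_singleton'] at hx
      obtain ⟨c, rfl⟩ := hx
      have hqA : (q : A) ∈ maximalIdeal A := by
        rw [hmax, ← map_natCast f]
        exact Ideal.mem_map_of_mem f (hm ▸ Ideal.mem_span_singleton_self _)
      have hqp : q = p := by
        have h1 : CharP (ResidueField A) q := (CharP.charP_iff_prime_eq_zero hq).mpr
          (by rw [← map_natCast (residue A), residue_eq_zero_iff]; exact hqA)
        exact CharP.eq (ResidueField A) h1 hcp
      rw [Ideal.mem_comap, map_mul, map_natCast, hqp]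
      exact Ideal.mul_mem_left _ _ (Ideal.mem_span_singleton_self _)
  · intro hm
    obtain ⟨N, hN⟩ := (isArtinianRing_iff_isNilpotent_maximalIdeal (R := A)).mp inferInstance
    haveI : IsAdicComplete (maximalIdeal A) A :=
      Lib.Adic.Transfer.isAdicComplete_of_le (I := (⊥ : Ideal A)) bot_le (N := N) hN.le
    obtain hp' | hp' := CharP.char_is_prime_or_zero (ResidueField A) p
    · haveI := Fact.mk hp'
      have hpm : (p : A) ∈ maximalIdeal A := hm ▸ Ideal.mem_span_singleton_self _
      obtain ⟨Λ, _, _, hΛ, -, f, hfm, hfs⟩ := Lib.Cohen.Exists.exists_cohenRing_hom A p hpm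
      have hsurj : Function.Surjective f := by
        have key : ∀ (j : ℕ) (a : A), ∃ l, a - f l ∈ maximalIdeal A ^ j := by
          intro j
          induction j with
          | zero => exact fun a => ⟨0, by simp⟩
          | succ j ih =>
            intro a
            obtain ⟨l, hl⟩ := ih a
            rw [hm, Ideal.span_singleton_pow, Ideal.mem_span_singleton'] at hl
            obtain ⟨c, hc⟩ := hl
            obtain ⟨d, hd⟩ := hfs (residue A c)
            refine ⟨l + d * (p : Λ) ^ j, ?_⟩
            rw [map_add, map_mul, map_pow, map_natCast, ← sub_sub, ← hc, ← sub_mul, pow_succ',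
              hm, Ideal.span_singleton_pow]
            refine Ideal.mul_mem_mul ?_ (Ideal.mem_span_singleton_self _)
            rw [← hm, ← residue_eq_zero_iff, map_sub, sub_eq_zero]
            exact hd.symm
        intro a
        obtain ⟨l, hl⟩ := key N a
        rw [hN] at hl
        exact ⟨l, (sub_eq_zero.mp (Ideal.mem_bot.mp hl)).symm⟩
      exact ⟨Λ, inferInstance, RingHom.ker f, Or.inr hΛ,
        ⟨(RingHom.quotientKerEquivOfSurjective hsurj).symm⟩⟩
    · subst hp'
      haveI := CharP.charP_to_charZero (ResidueField A)
      rw [Nat.cast_zero, Ideal.span_singleton_eq_bot.mpr rfl] at hm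
      have hf : IsField A := IsLocalRing.isField_iff_maximalIdeal_eq.mpr hm
      have hc : CharZero A := by
        refine ⟨fun a b hab => ?_⟩
        have := congrArg (residue A) hab
        rw [map_natCast, map_natCast] at this
        exact Nat.cast_injective this
      exact ⟨A, inferInstance, ⊥, Or.inl ⟨hf, hc⟩, ⟨(RingEquiv.quotientBot A).symm⟩⟩

end Groth.Agent.S2459
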