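import Groth.Statements.S2463
import Groth.Agent.Lib.PBasis.SmoothQuot
-- import your own Groth.Agent.* helpers here

set_option autoImplicit false
universe u
open EGA41

namespace Groth.Agent.S2463

open TensorProduct KaehlerDifferential in
/-- Let B be a formally smooth A-algebra (discrete topologies), B → C a surjection with kernel J such
that J/J² is a finitely generated module (over B, equivalently over C), and p a prime of C. The
following are equivalent: the local ring C_p is formally smooth over A; the map κ(p) ⊗ J/J² → κ(p) ⊗
(C ⊗_B Ω_{B/A}) induced by d is injective (tensor products over B, which agree with those over C =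
B/J); there is f ∈ C outside p with C_f formally smooth over A. -/
theorem result {A B C : Type u} [CommRing A] [CommRing B] [CommRing C] [Algebra A B] [Algebra B C] [Algebra A C]
    [IsScalarTower A B C] [Algebra.FormallySmooth A B] (hsurj : Function.Surjective (algebraMap B C))
    [Module.Finite B (RingHom.ker (algebraMap B C)).Cotangent] (p : Ideal C) [p.IsPrime] :
    [Algebra.FormallySmooth A (Localization.AtPrime p),
     Function.Injective ((kerCotangentToTensor A B C).lTensor p.ResidueField),
     ∃ f : C, f ∉ p ∧ Algebra.FormallySmooth A (Localization.Away f)].TFAE := by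
  tfae_have 1 → 2 := fun h =>
    Groth.Agent.Lib.PBasis.SmoothQuot.injective_of_formallySmooth hsurj p.primeCompl
      (Localization.AtPrime p) p.ResidueField
  tfae_have 2 → 3 := fun h => by
    obtain ⟨r, x, D, s, hs, hspan, hdet⟩ :=
      Groth.Agent.Lib.PBasis.SmoothQuot.exists_derivations (A := A) hsurj p h
    have hsplit := Groth.Agent.Lib.PBasis.SmoothQuot.hasSplit_of_derivations x D s hspan
    refine ⟨algebraMap B C (s * (Matrix.of fun i j => D j (x i : B)).det), fun hmem => ?_,
      Groth.Agent.Lib.PBasis.SmoothQuot.formallySmooth_of_hasSplit hsurj
        (Submonoid.powers (algebraMap B C (s * (Matrix.of fun i j => D j (x i : B)).det))) _ ?_ hsplit⟩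
    · rw [map_mul] at hmem
      exact (‹p.IsPrime›.mem_or_mem hmem).elim hs hdet
    · rw [IsScalarTower.algebraMap_apply B C (Localization.Away _)]
      exact IsLocalization.map_units _
        (⟨_, Submonoid.mem_powers _⟩ : Submonoid.powers (algebraMap B C (s * (Matrix.of fun i j => D j (x i : B)).det)))
  tfae_have 3 → 1 := fun ⟨f, hf, hfs⟩ => by
    haveI := hfs
    letI : Algebra (Localization.Away f) (Localization.AtPrime p) :=
      IsLocalization.localizationAlgebraOfSubmonoidLe _ _ (Submonoid.powers f) p.primeCompl
        (Submonoid.powers_le.2 hf)
    haveI : IsScalarTower C (Localization.Away f) (Localization.AtPrime p) :=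
      IsLocalization.localization_isScalarTower_of_submonoid_le _ _ (Submonoid.powers f) p.primeCompl
        (Submonoid.powers_le.2 hf)
    haveI : IsScalarTower A (Localization.Away f) (Localization.AtPrime p) :=
      IsScalarTower.of_algebraMap_eq fun a => by
        rw [IsScalarTower.algebraMap_apply A C (Localization.AtPrime p),
          IsScalarTower.algebraMap_apply A C (Localization.Away f),
          ← IsScalarTower.algebraMap_apply C (Localization.Away f) (Localization.AtPrime p)]
    haveI := IsLocalization.isLocalization_of_submonoid_le (Localization.Away f)
      (Localization.AtPrime p) (Submonoid.powers f) p.primeCompl (Submonoid.powers_le.2 hf)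
    haveI : Algebra.FormallySmooth (Localization.Away f) (Localization.AtPrime p) :=
      Algebra.FormallySmooth.of_isLocalization (p.primeCompl.map (algebraMap C (Localization.Away f)))
    exact Algebra.FormallySmooth.comp A (Localization.Away f) (Localization.AtPrime p)
  tfae_finish

end Groth.Agent.S2463
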