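import Groth.Statements.S2464
import Groth.Agent.Lib.PBasis.Deriv
import Mathlib.Algebra.CharP.Lemmas

set_option autoImplicit false
universe u
open EGA41

namespace Groth.Agent.S2464

/-- Let p be a prime, B a ring of characteristic p and A → B an injective ring map whose image contains
every p-th power, and (x_α) a p-basis of B over A. Let E be an A-algebra and q : E → B a surjective
A-algebra homomorphism whose kernel K has K^p = 0. (i) q admits an A-algebra right inverse if and
only if, for all z ∈ E and a ∈ A with a ↦ q(z)^p in B, the image of a in E is z^p. (ii) When this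
holds, for every family (z_α) in E with q(z_α) = x_α there is a unique A-algebra homomorphism v : B
→ E with v(x_α) = z_α for all α, and q ∘ v is the identity. -/
theorem result (p : ℕ) [Fact p.Prime] {A B : Type u} [CommRing A] [CommRing B] [Algebra A B] [CharP B p]
    (hinj : Function.Injective (algebraMap A B)) (hpow : ∀ b : B, b ^ p ∈ Set.range (algebraMap A B))
    {ι : Type u} (x : ι → B) (hx : EGA41.IsPBasis p A x)
    {E : Type u} [CommRing E] [Algebra A E] (q : E →ₐ[A] B) (hq : Function.Surjective q) (hK : RingHom.ker q.toRingHom ^ p = ⊥) :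
    ((∃ v : B →ₐ[A] E, q.comp v = AlgHom.id A B) ↔ ∀ (z : E) (a : A), algebraMap A B a = q z ^ p → algebraMap A E a = z ^ p) ∧
    ((∀ (z : E) (a : A), algebraMap A B a = q z ^ p → algebraMap A E a = z ^ p) →
      ∀ z : ι → E, (∀ i, q (z i) = x i) →
        (∃! v : B →ₐ[A] E, ∀ i, v (x i) = z i) ∧ ∀ v : B →ₐ[A] E, (∀ i, v (x i) = z i) → q.comp v = AlgHom.id A B) := by
  have hp : 1 < p := (Fact.out : p.Prime).one_lt
  obtain ⟨hli, hsp⟩ := Groth.Agent.Lib.PBasis.Basic.monos_basis_of_pBasis p hinj hpow hx
  choose c hc using fun i => hpow (x i)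
  have main : (∀ (z : E) (a : A), algebraMap A B a = q z ^ p → algebraMap A E a = z ^ p) →
      ∀ z : ι → E, (∀ i, q (z i) = x i) →
        (∃! v : B →ₐ[A] E, ∀ i, v (x i) = z i) ∧
          ∀ v : B →ₐ[A] E, (∀ i, v (x i) = z i) → q.comp v = AlgHom.id A B := by
    intro h z hz
    refine ⟨Groth.Agent.Lib.PBasis.Basic.existsUnique_algHom hp x c hc hli hsp z
      (fun i => h (z i) (c i) (by rw [hz i, hc i])), fun v hv => ?_⟩
    exact (Groth.Agent.Lib.PBasis.Basic.existsUnique_algHom hp x c hc hli hsp x hc).unique
      (fun i => by simp [hv i, hz i]) fun i => rfl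
  refine ⟨⟨?_, fun h => ?_⟩, main⟩
  · rintro ⟨v, hv⟩ z a ha
    haveI : CharP E p ∨ Subsingleton E := by
      rcases subsingleton_or_nontrivial E with hE | hE
      · exact Or.inr hE
      · left
        refine (CharP.charP_iff_prime_eq_zero (Fact.out : p.Prime)).2 ?_
        rw [← map_natCast v, CharP.cast_eq_zero, map_zero]
    rcases this with hc' | hs
    · have hq : ∀ b, q (v b) = b := fun b => AlgHom.congr_fun hv b
      have hk : z - v (q z) ∈ RingHom.ker q.toRingHom := by
        simp [RingHom.mem_ker, hq]
      have hkp : (z - v (q z)) ^ p = 0 := by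
        have := Ideal.pow_mem_pow hk p
        rwa [hK] at this
      rw [sub_pow_char, sub_eq_zero, ← map_pow, ← ha, v.commutes] at hkp
      exact hkp.symm
    · exact Subsingleton.elim _ _
  · choose z hz using fun i => hq (x i)
    obtain ⟨⟨v, hv, -⟩, hsec⟩ := main h z hz
    exact ⟨v, hsec v hv⟩

end Groth.Agent.S2464
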