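import Groth.Statements.S2470
import Groth.Agent.Lib.JacCrit.FlatRegular
import Groth.Agent.Lib.EGA75.DepthFlat
import Groth.Agent.Lib.Regular.Descent
-- import your own Groth.Agent.* helpers here

set_option autoImplicit false
universe u
open EGA41

namespace Groth.Agent.S2470

open IsLocalRing in
/-- Let A → B be a local homomorphism of Noetherian local rings with maximal ideals 𝔪, 𝔫 and residue
fields k, k', and let B₀ = B/𝔪B be the closed fibre. The following are equivalent: (a) B is regular
and the canonical map (𝔪/𝔪²) ⊗_k k' → 𝔫/𝔫² is injective — stated here through dimensions, as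
rank_{k'} 𝔫/𝔫² = rank_k 𝔪/𝔪² + rank_{k'} of the cotangent space of B₀, which is equivalent since the
cokernel of that map is the cotangent space of B₀; (c) B and B₀ are regular and B is flat over A;
(d) A and B₀ are regular and B is flat over A; (e) A and B₀ are regular and dim B = dim A + dim B₀.
(Condition (b) of the source, on regular systems of parameters, is not stated.) -/
theorem result {A B : Type u} [CommRing A] [IsLocalRing A] [IsNoetherianRing A] [CommRing B] [IsLocalRing B] [IsNoetherianRing B]
    [Algebra A B] [IsLocalHom (algebraMap A B)] [IsLocalRing (B ⧸ (maximalIdeal A).map (algebraMap A B))] :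
    [IsRegularLocalRing B ∧
       Module.finrank (ResidueField B) (CotangentSpace B) =
         Module.finrank (ResidueField A) (CotangentSpace A) +
           Module.finrank (ResidueField (B ⧸ (maximalIdeal A).map (algebraMap A B))) (CotangentSpace (B ⧸ (maximalIdeal A).map (algebraMap A B))),
     IsRegularLocalRing B ∧ IsRegularLocalRing (B ⧸ (maximalIdeal A).map (algebraMap A B)) ∧ Module.Flat A B,
     IsRegularLocalRing A ∧ IsRegularLocalRing (B ⧸ (maximalIdeal A).map (algebraMap A B)) ∧ Module.Flat A B,
     IsRegularLocalRing A ∧ IsRegularLocalRing (B ⧸ (maximalIdeal A).map (algebraMap A B)) ∧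
       ringKrullDim B = ringKrullDim A + ringKrullDim (B ⧸ (maximalIdeal A).map (algebraMap A B))].TFAE := by
  have hdimle : ringKrullDim B ≤ ringKrullDim A + ringKrullDim (B ⧸ (maximalIdeal A).map (algebraMap A B)) := by
    haveI : (maximalIdeal B).LiesOver (maximalIdeal A) :=
      ⟨(IsLocalRing.maximalIdeal_comap (algebraMap A B)).symm⟩
    have h := Ideal.height_le_height_add_of_liesOver (maximalIdeal A) (maximalIdeal B)
    rw [map_maximalIdeal_of_surjective _ Ideal.Quotient.mk_surjective] at h
    rw [← maximalIdeal_height_eq_ringKrullDim, ← maximalIdeal_height_eq_ringKrullDim,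
      ← maximalIdeal_height_eq_ringKrullDim, ← WithBot.coe_add]
    exact WithBot.coe_le_coe.2 h
  tfae_have 1 → 4 := by
    rintro ⟨hB, he⟩
    have hB' := (IsRegularLocalRing.iff_finrank_cotangentSpace B).1 hB
    have hA := ringKrullDim_le_spanFinrank_maximalIdeal A
    have hF := ringKrullDim_le_spanFinrank_maximalIdeal (B ⧸ (maximalIdeal A).map (algebraMap A B))
    obtain ⟨a, ha⟩ := ENat.ne_top_iff_exists.mp (Ideal.height_ne_top
      (IsLocalRing.maximalIdeal.isMaximal A).ne_top)
    obtain ⟨c, hc⟩ := ENat.ne_top_iff_exists.mp (Ideal.height_ne_top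
      (IsLocalRing.maximalIdeal.isMaximal (B ⧸ (maximalIdeal A).map (algebraMap A B))).ne_top)
    have ha' : ringKrullDim A = ((a : ℕ∞) : WithBot ℕ∞) := by
      rw [← maximalIdeal_height_eq_ringKrullDim, ha]
    have hc' : ringKrullDim (B ⧸ (maximalIdeal A).map (algebraMap A B)) = ((c : ℕ∞) : WithBot ℕ∞) := by
      rw [← maximalIdeal_height_eq_ringKrullDim, hc]
    rw [spanFinrank_maximalIdeal_eq_finrank_cotangentSpace, ha'] at hA
    rw [spanFinrank_maximalIdeal_eq_finrank_cotangentSpace, hc'] at hF
    rw [IsRegularLocalRing.iff_finrank_cotangentSpace, IsRegularLocalRing.iff_finrank_cotangentSpace,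
      ← hB', he, ha', hc']
    rw [← hB', he, ha', hc'] at hdimle
    norm_cast at *
    omega
  tfae_have 4 → 1 := by
    rintro ⟨hA, hF, he⟩
    haveI := hA
    haveI := hF
    have hB : IsRegularLocalRing B :=
      Groth.Agent.Lib.JacCrit.FlatRegular.isRegularLocalRing (A := A) (B := B)
        (by rw [he, add_comm])
    refine ⟨hB, ?_⟩
    rw [← (IsRegularLocalRing.iff_finrank_cotangentSpace B).1 hB,
      ← (IsRegularLocalRing.iff_finrank_cotangentSpace A).1 hA,
      ← (IsRegularLocalRing.iff_finrank_cotangentSpace (B ⧸ (maximalIdeal A).map (algebraMap A B))).1 hF] at he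
    exact_mod_cast he
  tfae_have 4 → 3 := by
    rintro ⟨hA, hF, he⟩
    haveI := hA
    haveI := hF
    exact ⟨hA, hF, Groth.Agent.Lib.JacCrit.FlatRegular.flat (A := A) (B := B)
      (by rw [he, add_comm])⟩
  tfae_have 3 → 4 := by
    rintro ⟨hA, hF, hfl⟩
    exact ⟨hA, hF, Groth.Agent.Lib.EGA75.DepthFlat.ringKrullDim_eq_add A B⟩
  tfae_have 3 → 2 := by
    rintro ⟨hA, hF, hfl⟩
    haveI := hA
    haveI := hF
    exact ⟨Groth.Agent.Lib.JacCrit.FlatRegular.isRegularLocalRing (A := A) (B := B)
      (by rw [Groth.Agent.Lib.EGA75.DepthFlat.ringKrullDim_eq_add A B, add_comm]), hF, hfl⟩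
  tfae_have 2 → 3 := by
    rintro ⟨hB, hF, hfl⟩
    haveI := hB
    exact ⟨Groth.Agent.Lib.Regular.Descent.isRegularLocalRing_of_flat B, hF, hfl⟩
  tfae_finish

end Groth.Agent.S2470
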