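import Groth.Statements.S2473
import Groth.Agent.Lib.PBasis.PEquations
-- import your own Groth.Agent.* helpers here

set_option autoImplicit false
universe u
open EGA41

namespace Groth.Agent.S2473

open IsLocalRing TensorProduct in
/-- Let A be a regular local ring whose residue field K has characteristic p > 0; for 1 ≤ i ≤ r let F_i
= T_i^p + p Σ_{j=1}^{p-1} c_{ij} T_i^{p-j} − f_i with c_{ij}, f_i ∈ A, and let B be the quotient of
A[T_1, …, T_r] by the ideal generated by the F_i. Then B is a local ring, and B is regular if and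
only if the elements d f_i ⊗ 1 of Ω_{A/ℤ} ⊗_A K are linearly independent over K. Assumed in
addition: p lies in the square of the maximal ideal of A (which covers the case where A has
characteristic p); the printed statement omits this, and the equivalence can fail for A absolutely
unramified, e.g. A = ℤ_(p), r = 1, f_1 = p. (Condition (c) of the source, on the characteristic
homomorphism Ξ, is not stated.) -/
theorem result {A : Type u} [CommRing A] [IsRegularLocalRing A] (p : ℕ) [Fact p.Prime] [CharP (ResidueField A) p]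
    {r : ℕ} (c : Fin r → Fin p → A) (f : Fin r → A)
    (hp : (p : A) ∈ maximalIdeal A ^ 2) :
    let F : Fin r → MvPolynomial (Fin r) A := fun i =>
      MvPolynomial.X i ^ p + (p : MvPolynomial (Fin r) A) * (Finset.univ.sum fun j : Fin p =>
        if (j : ℕ) = 0 then 0 else MvPolynomial.C (c i j) * MvPolynomial.X i ^ (p - (j : ℕ))) - MvPolynomial.C (f i)
    IsLocalRing (MvPolynomial (Fin r) A ⧸ Ideal.span (Set.range F)) ∧
      (IsRegularRing (MvPolynomial (Fin r) A ⧸ Ideal.span (Set.range F)) ↔
        LinearIndependent (ResidueField A) (fun i => (1 : ResidueField A) ⊗ₜ[A] KaehlerDifferential.D ℤ A (f i))) := by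
  intro F
  have hId : Groth.Agent.Lib.PBasis.LocalQuot.eqIdeal
      (fun i => Groth.Agent.Lib.PBasis.PEquations.poly p (c i) (f i)) = Ideal.span (Set.range F) := by
    unfold Groth.Agent.Lib.PBasis.LocalQuot.eqIdeal
    congr 2
    funext i
    rw [Groth.Agent.Lib.PBasis.PEquations.aeval_poly]
  have hfacts := Groth.Agent.Lib.PBasis.PEquations.facts c f
  obtain ⟨hloc, hlh, hfin, hinj, -, -⟩ := hfacts
  rw [hId] at hloc hlh hfin hinj
  generalize hJ : Ideal.span (Set.range F) = J at hloc hlh hfin hinj hId ⊢
  haveI : IsLocalRing (MvPolynomial (Fin r) A ⧸ J) := hloc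
  haveI : IsLocalHom (algebraMap A (MvPolynomial (Fin r) A ⧸ J)) := hlh
  haveI : Module.Finite A (MvPolynomial (Fin r) A ⧸ J) := hfin
  refine ⟨hloc, ?_⟩
  have key := Groth.Agent.Lib.PBasis.JacobianIndex.finrank_cotangent_eq_iff (p := p) hp
    (π := Ideal.Quotient.mkₐ A J) (Ideal.Quotient.mkₐ_surjective A _)
    (F := fun i => Polynomial.aeval (MvPolynomial.X i)
      (Groth.Agent.Lib.PBasis.PEquations.poly p (c i) (f i)))
    ((Ideal.Quotient.mkₐ_ker A _).trans hId.symm)
    (Groth.Agent.Lib.PBasis.PEquations.diffEq c f)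
  rw [← key]
  haveI : FaithfulSMul A (MvPolynomial (Fin r) A ⧸ J) :=
    (faithfulSMul_iff_algebraMap_injective _ _).2 hinj
  haveI : Algebra.IsIntegral A (MvPolynomial (Fin r) A ⧸ J) := Algebra.IsIntegral.of_finite A _
  have hdim := Groth.Agent.Lib.Dim.Integral.ringKrullDim_eq_of_isIntegral
    (R := A) (A := MvPolynomial (Fin r) A ⧸ J)
  have hA := (IsRegularLocalRing.iff_finrank_cotangentSpace _).1 (inferInstance : IsRegularLocalRing A)
  constructor
  · intro h
    haveI := IsRegularLocalRing.of_isRegularRing_of_isLocalRing (R := MvPolynomial (Fin r) A ⧸ J)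
    have hB := (IsRegularLocalRing.iff_finrank_cotangentSpace _).1
      (inferInstance : IsRegularLocalRing (MvPolynomial (Fin r) A ⧸ J))
    rw [← hA, ← hB] at hdim
    exact_mod_cast hdim.symm
  · intro h
    haveI : IsRegularLocalRing (MvPolynomial (Fin r) A ⧸ J) :=
      (IsRegularLocalRing.iff_finrank_cotangentSpace _).2 (by rw [← h, hA, hdim])
    infer_instance

end Groth.Agent.S2473
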