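import Groth.Statements.S2475
import Groth.Agent.Lib.PBasis.EventualIF

set_option autoImplicit false
universe u
open EGA41

namespace Groth.Agent.S2475

/-- Let K be a field of characteristic p > 0, k₀ ⊆ K a subfield and (k_α) a decreasing filtered family
of subfields of K containing k₀. Then ⋂_α k_α(K^p) = k₀(K^p) if and only if the canonical map
Ω_{K/k₀} → lim_α Ω_{K/k_α} is injective (an element of Ω_{K/k₀} whose image in every Ω_{K/k_α}
vanishes is zero). (Conditions (b), (b') of the source, on admissible subfields, are not stated.) -/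
theorem result (p : ℕ) [Fact p.Prime] {k₀ K : Type u} [Field k₀] [Field K] [Algebra k₀ K] [CharP K p]
    {ι : Type u} [Preorder ι] [IsDirected ι (· ≤ ·)] [Nonempty ι] (k : ι → IntermediateField k₀ K) (hk : Antitone k) :
    (⨅ i, k i ⊔ IntermediateField.adjoin k₀ (Set.range fun y : K => y ^ p)) = IntermediateField.adjoin k₀ (Set.range fun y : K => y ^ p) ↔
      ∀ ω : Ω[K⁄k₀], (∀ i, KaehlerDifferential.map k₀ (k i) K K ω = 0) → ω = 0 := by
  constructor
  · intro h ω hω
    obtain ⟨i₀, hi₀⟩ := Lib.PBasis.Eventual.eventually_ker_inf_eq_bot (p := p) (P₀ := k₀)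
      (fun i => k i) (Lib.PBasis.EventualIF.hanti_iff p k hk) (Lib.PBasis.EventualIF.hint_iff p k h)
      (fun i => (KaehlerDifferential.map k₀ (k i) K K).restrictScalars K)
      (fun i y => by simp) (Submodule.span K {(1 : K) ⊗ₜ[K] ω})
    have h1 := hi₀ i₀ le_rfl _ (Submodule.subset_span rfl) (by
      rw [LinearMap.baseChange_tmul, LinearMap.restrictScalars_apply, hω, TensorProduct.tmul_zero])
    simpa using congr_arg (TensorProduct.lid K (Ω[K⁄k₀])) h1
  · intro h
    refine le_antisymm (fun y hy => ?_) (le_iInf fun i => le_sup_right)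
    rw [← Lib.PBasis.EventualIF.mem_pPower_base_iff]
    refine Lib.PBasis.Eventual.mem_pPowerSubalgebra_of_D_eq_zero (h _ fun i => ?_)
    rw [KaehlerDifferential.map_D]
    exact Lib.PBasis.EventualIF.map_D_eq_zero p k ((iInf_le _ i : _ ≤ k i ⊔ _) hy)

end Groth.Agent.S2475
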