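import Groth.Statements.S2477
import Groth.Agent.Lib.Adic.Complete
import Groth.Agent.H24.PowerSeries
import Mathlib.RingTheory.AdicCompletion.Functoriality
import Mathlib.RingTheory.MvPowerSeries.Derivative
import Mathlib.RingTheory.Kaehler.Basic

set_option autoImplicit false
universe u
open EGA41

namespace Groth.Agent.S2477

open IsLocalRing in
/-- Let k be a field and A = k[[T_1, …, T_r]] with its usual k-algebra structure. Then the adic
completion Ω̂_{A/k} of Ω_{A/k} is a free A-module of rank r. -/
theorem result (k : Type u) [Field k] (r : ℕ) :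
    Module.Finite (MvPowerSeries (Fin r) k) (AdicCompletion (maximalIdeal (MvPowerSeries (Fin r) k)) (Ω[MvPowerSeries (Fin r) k⁄k])) ∧
    Module.Free (MvPowerSeries (Fin r) k) (AdicCompletion (maximalIdeal (MvPowerSeries (Fin r) k)) (Ω[MvPowerSeries (Fin r) k⁄k])) ∧
      Module.finrank (MvPowerSeries (Fin r) k) (AdicCompletion (maximalIdeal (MvPowerSeries (Fin r) k)) (Ω[MvPowerSeries (Fin r) k⁄k])) = r := by
  classical
  let A := MvPowerSeries (Fin r) k
  let m := IsLocalRing.maximalIdeal A
  let D := KaehlerDifferential.D k A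
  let e : Fin r → Ω[A⁄k] := fun i => D (MvPowerSeries.X i)
  let f : (Fin r → A) →ₗ[A] Ω[A⁄k] := Fintype.linearCombination A e
  let d : Ω[A⁄k] →ₗ[A] (Fin r → A) :=
    LinearMap.pi fun i => (MvPowerSeries.pderiv k i).liftKaehlerDifferential
  have hdf : ∀ x, d (f x) = x := fun x => by
    funext i
    simp only [d, f, e, LinearMap.pi_apply, Fintype.linearCombination_apply, map_sum, map_smul,
      smul_eq_mul, D, Derivation.liftKaehlerDifferential_comp_D, Finset.sum_apply, Pi.smul_apply]
    rw [Finset.sum_eq_single i (fun j _ hj => by rw [Derivation.liftKaehlerDifferential_comp_D, MvPowerSeries.pderiv_X_of_ne hj, mul_zero])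
      (fun h => absurd (Finset.mem_univ i) h), Derivation.liftKaehlerDifferential_comp_D, MvPowerSeries.pderiv_X_self, mul_one]
  have htop : ∀ y : Ω[A⁄k], y ∈ LinearMap.range f ⊔ (m • ⊤ : Submodule A (Ω[A⁄k])) := by
    intro y
    have hy : y ∈ Submodule.span A (Set.range D) := by
      rw [KaehlerDifferential.span_range_derivation]; trivial
    refine (Submodule.span_le.2 ?_) hy
    rintro _ ⟨a, rfl⟩
    have hm : a - algebraMap k A (MvPowerSeries.constantCoeff a) ∈ m := by
      rw [IsLocalRing.mem_maximalIdeal, mem_nonunits_iff, MvPowerSeries.isUnit_iff_constantCoeff]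
      simp [A, MvPowerSeries.algebraMap_apply]
    have hm' := hm
    rw [show m = _ from Groth.Agent.H24.PowerSeries.maximalIdeal_eq k (Fin r)] at hm
    obtain ⟨c, hc⟩ := Ideal.mem_span_range_iff_exists_fun.1 hm
    rw [SetLike.mem_coe, show D a = D (a - algebraMap k A (MvPowerSeries.constantCoeff a)) by
      rw [map_sub, Derivation.map_algebraMap, sub_zero], ← hc, map_sum]
    refine Submodule.sum_mem _ fun i _ => ?_
    rw [Derivation.leibniz]
    refine add_mem (Submodule.mem_sup_left ?_) (Submodule.mem_sup_right ?_)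
    · refine Submodule.smul_mem _ _ ⟨Pi.single i 1, ?_⟩
      simp only [f, e]
      rw [Fintype.linearCombination_apply_single, one_smul]
    · exact Submodule.smul_mem_smul (Groth.Agent.H24.PowerSeries.X_mem k i) Submodule.mem_top
  have hsurj : Function.Surjective (Submodule.mkQ (m • ⊤) ∘ₗ f) := fun z => by
    obtain ⟨y, rfl⟩ := Submodule.mkQ_surjective _ z
    obtain ⟨_, ⟨x, rfl⟩, b, hb, rfl⟩ := Submodule.mem_sup.1 (htop y)
    refine ⟨x, ?_⟩
    rw [LinearMap.comp_apply, map_add, Submodule.mkQ_apply _ b, (Submodule.Quotient.mk_eq_zero _).2 hb, add_zero]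
  haveI : IsAdicComplete m A := Groth.Agent.H24.PowerSeries.isAdicComplete k (Fin r)
  haveI : IsAdicComplete m (Fin r → A) := Groth.Agent.Lib.Adic.Complete.isAdicComplete_of_finite
  let F : (Fin r → A) →ₗ[A] AdicCompletion m (Ω[A⁄k]) :=
    ((AdicCompletion.map m f).restrictScalars A) ∘ₗ (AdicCompletion.ofLinearEquiv m (Fin r → A)).toLinearMap
  let G : AdicCompletion m (Ω[A⁄k]) →ₗ[A] (Fin r → A) :=
    (AdicCompletion.ofLinearEquiv m (Fin r → A)).symm.toLinearMap ∘ₗ ((AdicCompletion.map m d).restrictScalars A)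
  have hGF : ∀ x, G (F x) = x := fun x => by
    simp only [F, G, LinearMap.comp_apply, LinearEquiv.coe_coe, LinearMap.restrictScalars_apply]
    rw [show AdicCompletion.ofLinearEquiv m (Fin r → A) x = AdicCompletion.of m (Fin r → A) x from rfl,
      AdicCompletion.map_of, AdicCompletion.map_of, hdf, AdicCompletion.ofLinearEquiv_symm_of]
  have hF : Function.Bijective F :=
    ⟨Function.LeftInverse.injective hGF,
      (AdicCompletion.map_surjective_of_mkQ_comp_surjective hsurj).comp (AdicCompletion.ofLinearEquiv m _).surjective⟩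
  let E := LinearEquiv.ofBijective F hF
  exact ⟨Module.Finite.equiv E, Module.Free.of_equiv E, by rw [← E.finrank_eq]; exact Module.finrank_fin_fun A⟩

end Groth.Agent.S2477
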