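import Groth.Statements.S2481
import Groth.Agent.H68.SmallExt
import Groth.Agent.Lib.FSAdic.Basic

set_option autoImplicit false
universe u
open EGA41

namespace Groth.Agent.S2481

open IsLocalRing in
/-- Let A → B be a local homomorphism of Noetherian local rings with the adic topologies, K the residue
field of B. Then B is formally smooth over A if and only if: for every Artinian local ring C with a
local homomorphism A → C, every nilpotent ideal J of C and every local A-algebra homomorphism u : B
→ C/J inducing a bijection of residue fields (so that C has residue field K and u induces the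
identity on it), u is induced by a local A-algebra homomorphism B → C. -/
theorem result {A B : Type u} [CommRing A] [IsLocalRing A] [IsNoetherianRing A] [CommRing B] [IsLocalRing B] [IsNoetherianRing B]
    [Algebra A B] [IsLocalHom (algebraMap A B)] :
    EGA41.IsFormallySmoothAdic A (maximalIdeal A) B (maximalIdeal B) ↔
      ∀ (C : Type u) [CommRing C] [IsLocalRing C] [IsArtinianRing C] [Algebra A C] [IsLocalHom (algebraMap A C)]
        (J : Ideal C), IsNilpotent J → ∀ [IsLocalRing (C ⧸ J)] (u : B →ₐ[A] C ⧸ J) [IsLocalHom u.toRingHom],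
        Function.Bijective (ResidueField.map u.toRingHom) →
        ∃ f : B →ₐ[A] C, IsLocalHom f.toRingHom ∧ (Ideal.Quotient.mkₐ A J).comp f = u := by
  constructor
  · intro h C _ _ _ _ _ J hJ _ u _ hu
    obtain ⟨ka, hka⟩ := H68.SmallExt.exists_pow_kills (algebraMap A C)
    obtain ⟨kb, hkb⟩ := H68.SmallExt.exists_pow_kills u.toRingHom
    obtain ⟨f, hf⟩ := h C J hJ ⟨ka, hka⟩ u
      ⟨kb, fun x hx => Ideal.mem_bot.mp (hkb ▸ Ideal.mem_map_of_mem u.toRingHom hx)⟩
    refine ⟨f, ⟨fun b hb => isUnit_of_map_unit u.toRingHom b ?_⟩, hf⟩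
    show IsUnit (u b)
    rw [← hf]
    exact hb.map (Ideal.Quotient.mk J)
  · intro h
    apply Lib.FSAdic.Basic.of_sqZero
    intro C _ _ J hJ _ u hu
    refine H68.SmallExt.isAdicFormallySmooth (H68.SmallExt.smallLifts_of_local ?_) C J hJ u hu
    intro C' _ _ _ _ _ J' hJ' _ _ ψ _ hψ
    obtain ⟨f, -, hf⟩ := h C' J' ⟨2, hJ'⟩ ψ hψ
    exact ⟨f, hf⟩

end Groth.Agent.S2481
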