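import Groth.Statements.S2482
import Groth.Agent.H68.FlatLift
import Mathlib.RingTheory.Flat.TorsionFree

set_option autoImplicit false
universe u
open EGA41

namespace Groth.Agent.S2482

open IsLocalRing in
/-- (a) ⟹ (b): let A, B be complete discrete valuation rings and u : A → B a ring homomorphism with
u(𝔪_A)B = 𝔪_B, such that the residue field L of B is separable over the residue field K of A. Then
for every complete discrete valuation ring B', every homomorphism u' : A → B' with u'(𝔪_A)B' =
𝔪_{B'} and every isomorphism σ of residue fields L ≅ L' compatible with the maps from K, there is an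
isomorphism w : B ≅ B' with u' = w ∘ u inducing σ on residue fields. -/
theorem result {A B B' : Type u} [CommRing A] [IsDomain A] [IsDiscreteValuationRing A] [IsAdicComplete (maximalIdeal A) A]
    [CommRing B] [IsDomain B] [IsDiscreteValuationRing B] [IsAdicComplete (maximalIdeal B) B]
    [CommRing B'] [IsDomain B'] [IsDiscreteValuationRing B'] [IsAdicComplete (maximalIdeal B') B']
    (u : A →+* B) [IsLocalHom u] (hu : (maximalIdeal A).map u = maximalIdeal B)
    (hsep : letI := (ResidueField.map u).toAlgebra; Algebra.IsGeometricallyReduced (ResidueField A) (ResidueField B))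
    (u' : A →+* B') [IsLocalHom u'] (hu' : (maximalIdeal A).map u' = maximalIdeal B')
    (σ : ResidueField B ≃+* ResidueField B') (hσ : (σ : ResidueField B →+* ResidueField B').comp (ResidueField.map u) = ResidueField.map u') :
    ∃ w : B ≃+* B', (w : B →+* B').comp u = u' ∧ ∀ b : B, residue B' (w b) = σ (residue B b) := by
  letI : Algebra A B := u.toAlgebra
  letI : Algebra A B' := u'.toAlgebra
  haveI : IsLocalHom (algebraMap A B) := ‹IsLocalHom u›
  haveI : IsLocalHom (algebraMap A B') := ‹IsLocalHom u'›
  have hinj : ∀ {C : Type u} [CommRing C] [IsDomain C] [IsDiscreteValuationRing C] (w : A →+* C),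
      (maximalIdeal A).map w = maximalIdeal C → Function.Injective w := fun {C} _ _ _ w hw => by
    rw [RingHom.injective_iff_ker_eq_bot]
    by_contra h0
    have hk : RingHom.ker w = maximalIdeal A :=
      IsLocalRing.eq_maximalIdeal ((RingHom.ker_isPrime w).isMaximal h0)
    exact IsDiscreteValuationRing.not_a_field C (hw.symm.trans ((Ideal.map_eq_bot_iff_le_ker w).mpr hk.ge))
  haveI : Module.IsTorsionFree A B' := by
    haveI : FaithfulSMul A B' := (faithfulSMul_iff_algebraMap_injective _ _).2 (hinj u' hu')
    infer_instance
  haveI : Module.Flat A B' := inferInstance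
  haveI : Module.Flat A B := by
    haveI : FaithfulSMul A B := (faithfulSMul_iff_algebraMap_injective _ _).2 (hinj u hu)
    haveI : Module.IsTorsionFree A B := inferInstance
    infer_instance
  have he : (ResidueField.map u).toAlgebra =
      (inferInstance : Algebra (ResidueField A) (ResidueField B)) := Algebra.algebra_ext _ _ fun r => by
    obtain ⟨a, rfl⟩ := residue_surjective r
    rfl
  rw [he] at hsep
  have hC : EGA41.IsCohenAlgebra A B := ⟨inferInstance, inferInstance, inferInstance, inferInstance, hu, hsep⟩
  let J : Ideal B' := (maximalIdeal A).map (algebraMap A B')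
  let q : ResidueField B' ≃+* B' ⧸ J := Ideal.quotEquivOfEq hu'.symm
  let u₀ : B →ₐ[A] B' ⧸ J :=
    { (q.toRingHom.comp σ.toRingHom).comp (residue B) with
      commutes' := fun a => by
        show q (σ (residue B (u a))) = _
        have h1 : σ (residue B (u a)) = residue B' (u' a) := by
          have h2 := RingHom.congr_fun hσ (residue A a)
          rw [RingHom.comp_apply, ResidueField.map_residue, ResidueField.map_residue] at h2
          exact h2
        rw [h1]
        rfl }
  have hq : ∀ b, q (residue B' b) = Ideal.Quotient.mk J b := fun _ => rfl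
  obtain ⟨v, hv⟩ := H68.FlatLift.exists_algEquiv_lift (maximalIdeal A) (maximalIdeal B) (maximalIdeal B')
    hu.le le_rfl hu'.le le_rfl
    (H68.FlatFibre.isFormallySmoothAdic_of_adic _ (H68.FlatFibre.adic_of_isCohenAlgebra hC)) u₀
    (fun z => by
      obtain ⟨b, hb⟩ := residue_surjective (σ.symm (q.symm z))
      exact ⟨b, by show q (σ (residue B b)) = z; rw [hb, RingEquiv.apply_symm_apply, RingEquiv.apply_symm_apply]⟩)
    (fun b hb => by
      refine hu.ge ((residue_eq_zero_iff b).mp (σ.injective ((q.injective ?_).trans (map_zero σ).symm)))
      rw [map_zero]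
      exact hb)
    ⟨1, Ideal.map_le_iff_le_comap.mpr fun b hb => by
      rw [pow_one] at hb
      have h1 : u₀.toRingHom b = 0 := by
        show q (σ (residue B b)) = 0
        rw [(residue_eq_zero_iff b).mpr hb, map_zero, map_zero]
      rw [Ideal.mem_comap, h1]
      exact zero_mem _⟩
  refine ⟨v.toRingEquiv, RingHom.ext v.commutes, fun b => q.injective ?_⟩
  rw [hq]
  exact hv b

end Groth.Agent.S2482
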