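import Groth.Statements.S2483
import Groth.Agent.Lib.PBasis.FieldSmooth
import Groth.Agent.Lib.FSAdic.Basic
-- import your own Groth.Agent.* helpers here

set_option autoImplicit false
universe u
open EGA41

namespace Groth.Agent.S2483

open IsLocalRing in
/-- Let C be a complete Noetherian local ring with maximal ideal 𝔍 ≠ 0 and residue field K, and u : K →
C a ring homomorphism which is a section of the residue map. Then u is the only such section if and
only if Ω_{K/ℤ} = 0. -/
theorem result {C : Type u} [CommRing C] [IsLocalRing C] [IsNoetherianRing C] [IsAdicComplete (maximalIdeal C) C]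
    (hm : maximalIdeal C ≠ ⊥) (u : ResidueField C →+* C) (hu : ∀ x, residue C (u x) = x) :
    (∀ v : ResidueField C →+* C, (∀ x, residue C (v x) = x) → v = u) ↔ Subsingleton (Ω[ResidueField C⁄ℤ]) := by
  constructor
  · intro hu'
    by_contra hns
    rw [not_subsingleton_iff_nontrivial] at hns
    obtain ⟨ω, hω⟩ := exists_ne (0 : Ω[ResidueField C⁄ℤ])
    obtain ⟨f, hf⟩ := Module.Projective.exists_dual_ne_zero (ResidueField C) hω
    have hf0 : ∃ x, f (KaehlerDifferential.D ℤ (ResidueField C) x) ≠ 0 := by
      by_contra h0
      push Not at h0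
      have : f = 0 := by
        exact LinearMap.ext_on (KaehlerDifferential.span_range_derivation ℤ _)
          fun _ ⟨x, hx⟩ => hx ▸ h0 x
      exact hf (by rw [this]; rfl)
    obtain ⟨t, htm, ht⟩ : ∃ t ∈ maximalIdeal C, t ∉ (maximalIdeal C) ^ 2 := by
      by_contra h0
      push Not at h0
      refine hm (Submodule.eq_bot_of_le_smul_of_le_jacobson_bot (maximalIdeal C) _
        (IsNoetherian.noetherian _) ?_ (maximalIdeal_le_jacobson _))
      rwa [Ideal.smul_eq_mul, ← pow_two]
    let P : Subfield (ResidueField C) := ⊥
    have hP : ∀ {M : Type u} [AddCommGroup M] [Module (ResidueField C) M]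
        (D : Derivation ℤ (ResidueField C) M) (a : P), D (a : ResidueField C) = 0 := by
      intro M _ _ D a
      let S : Subfield (ResidueField C) :=
        { carrier := {y | D y = 0}
          mul_mem' := fun {a b} (ha : D a = 0) (hb : D b = 0) => show D (a * b) = 0 by
            rw [Derivation.leibniz, ha, hb, smul_zero, smul_zero, add_zero]
          one_mem' := D.map_one_eq_zero
          add_mem' := fun {a b} (ha : D a = 0) (hb : D b = 0) => show D (a + b) = 0 by
            rw [map_add, ha, hb, add_zero]
          zero_mem' := map_zero D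
          neg_mem' := fun {a} (ha : D a = 0) => show D (-a) = 0 by rw [map_neg, ha, neg_zero]
          inv_mem' := fun a (ha : D a = 0) => show D a⁻¹ = 0 by
            rcases eq_or_ne a 0 with rfl | ha0
            · rw [inv_zero, map_zero]
            · have h1 := congr_arg D (mul_inv_cancel₀ ha0)
              rw [Derivation.leibniz, ha, smul_zero, add_zero, D.map_one_eq_zero] at h1
              exact (smul_eq_zero.1 h1).resolve_left ha0 }
      exact (bot_le : P ≤ S) a.2
    have hPΩ : Subsingleton (Ω[P⁄ℤ]) := by
      refine ⟨fun a b => ?_⟩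
      have key : ∀ z : P, KaehlerDifferential.D ℤ P z = 0 := by
        intro z
        let S : Subfield P :=
          { carrier := {y | KaehlerDifferential.D ℤ P y = 0}
            mul_mem' := fun {a b} (ha : KaehlerDifferential.D ℤ P a = 0)
                (hb : KaehlerDifferential.D ℤ P b = 0) => show KaehlerDifferential.D ℤ P (a * b) = 0 by
              rw [Derivation.leibniz, ha, hb, smul_zero, smul_zero, add_zero]
            one_mem' := Derivation.map_one_eq_zero _
            add_mem' := fun {a b} (ha : KaehlerDifferential.D ℤ P a = 0)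
                (hb : KaehlerDifferential.D ℤ P b = 0) => show KaehlerDifferential.D ℤ P (a + b) = 0 by
              rw [map_add, ha, hb, add_zero]
            zero_mem' := map_zero _
            neg_mem' := fun {a} (ha : KaehlerDifferential.D ℤ P a = 0) =>
              show KaehlerDifferential.D ℤ P (-a) = 0 by rw [map_neg, ha, neg_zero]
            inv_mem' := fun a (ha : KaehlerDifferential.D ℤ P a = 0) =>
              show KaehlerDifferential.D ℤ P a⁻¹ = 0 by
              rcases eq_or_ne a 0 with rfl | ha0
              · rw [inv_zero, map_zero]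
              · have h1 := congr_arg (KaehlerDifferential.D ℤ P) (mul_inv_cancel₀ ha0)
                rw [Derivation.leibniz, ha, smul_zero, add_zero, Derivation.map_one_eq_zero] at h1
                exact (smul_eq_zero.1 h1).resolve_left ha0 }
        obtain ⟨y, hy, hyz⟩ := (bot_le : P ≤ S.map P.subtype) z.2
        have : y = z := Subtype.ext hyz
        exact this ▸ hy
      have hall : ∀ c : Ω[P⁄ℤ], c = 0 := fun c => by
        have hc : c ∈ Submodule.span P (Set.range (KaehlerDifferential.D ℤ P)) := by
          rw [KaehlerDifferential.span_range_derivation]; trivial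
        induction hc using Submodule.span_induction with
        | mem x hx => obtain ⟨z, rfl⟩ := hx; exact key z
        | zero => rfl
        | add x y _ _ hx hy => rw [hx, hy, add_zero]
        | smul r x _ hx => rw [hx, smul_zero]
      rw [hall a, hall b]
    haveI : Algebra.FormallySmooth P (ResidueField C) :=
      Groth.Agent.Lib.PBasis.FieldSmooth.formallySmooth_iff_injective_int.2
        (Function.injective_of_subsingleton _)
    letI : Algebra P C := (u.comp P.subtype).toAlgebra
    let e : ResidueField C → C := fun x =>
      u x + t * u (f (KaehlerDifferential.D ℤ (ResidueField C) x))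
    have hmk : ∀ c ∈ (maximalIdeal C) ^ 2, Ideal.Quotient.mk ((maximalIdeal C) ^ 2) c = 0 :=
      fun c hc => Ideal.Quotient.eq_zero_iff_mem.2 hc
    have htt : t * t ∈ (maximalIdeal C) ^ 2 := by rw [pow_two]; exact Ideal.mul_mem_mul htm htm
    let w : ResidueField C →ₐ[P] C ⧸ (maximalIdeal C) ^ 2 :=
      { toFun := fun x => Ideal.Quotient.mk _ (e x)
        map_one' := by simp [e]
        map_mul' := fun x y => by
          rw [← map_mul, Ideal.Quotient.eq]
          have h : e (x * y) - e x * e y =
              t * t * (-(u (f (KaehlerDifferential.D ℤ _ x)) * u (f (KaehlerDifferential.D ℤ _ y)))) := by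
            simp only [e, Derivation.leibniz, map_add, map_smul, smul_eq_mul, map_mul]
            ring
          rw [h]
          exact Ideal.mul_mem_right _ _ htt
        map_zero' := by simp [e]
        map_add' := fun x y => by simp [e, mul_add]; abel
        commutes' := fun a => by
          change Ideal.Quotient.mk _ (e (a : ResidueField C)) = Ideal.Quotient.mk _ (u a)
          have h0 : KaehlerDifferential.D ℤ (ResidueField C) (a : ResidueField C) = 0 := hP _ a
          dsimp only [e]
          rw [h0, map_zero, map_zero, mul_zero, add_zero] }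
    haveI : Nontrivial (C ⧸ (maximalIdeal C) ^ 2) :=
      Ideal.Quotient.nontrivial_iff.2 fun h => ht (h ▸ Submodule.mem_top)
    haveI : IsHausdorff ((maximalIdeal C).map (Ideal.Quotient.mk ((maximalIdeal C) ^ 2)))
        (C ⧸ (maximalIdeal C) ^ 2) := by
      refine ⟨fun x hx => ?_⟩
      have h2 := hx 2
      rwa [SModEq.zero, ← Ideal.map_pow, Ideal.map_quotient_self, Submodule.bot_smul,
        Submodule.mem_bot] at h2
    obtain ⟨v, -, hv⟩ := Groth.Agent.Lib.FSAdic.Basic.exists_lift_complete
      (Groth.Agent.Lib.FSAdic.Basic.of_formallySmooth (𝔞 := (⊥ : Ideal P))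
        (𝔟 := (⊥ : Ideal (ResidueField C))))
      (maximalIdeal C) ⟨1, by simp⟩ ((maximalIdeal C) ^ 2) ⟨1, by
        rw [pow_one]; exact Ideal.pow_le_self two_ne_zero⟩ w ⟨1, by simp⟩
    have hve : ∀ x, v x - e x ∈ (maximalIdeal C) ^ 2 := fun x =>
      Ideal.Quotient.eq.1 (AlgHom.congr_fun hv x)
    have h := hu' v.toRingHom fun x => by
      have h1 : residue C (v x) = residue C (e x) := by
        rw [← sub_eq_zero, ← map_sub, residue_eq_zero_iff]
        exact Ideal.pow_le_self two_ne_zero (hve x)
      change residue C (v x) = x
      simp [h1, e, hu, (residue_eq_zero_iff t).2 htm]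
    obtain ⟨x, hx⟩ := hf0
    have h1 := hve x
    have hvx : v x = u x := RingHom.congr_fun h x
    rw [hvx] at h1
    simp only [e, sub_add_cancel_left, neg_mem_iff] at h1
    exact ht ((Ideal.mul_unit_mem_iff_mem _ ((IsUnit.mk0 _ hx).map u)).1 h1)
  · intro h v hv
    haveI : Algebra.FormallyUnramified ℤ (ResidueField C) :=
      (Algebra.formallyUnramified_iff ℤ _).2 h
    have hfu : @Algebra.FormallyUnramified ℤ (ResidueField C) _ _ (Ring.toIntAlgebra _) := by
      convert (inferInstance : Algebra.FormallyUnramified ℤ (ResidueField C)) using 2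
      exact Subsingleton.elim _ _
    have := @Algebra.FormallyUnramified.ext_of_iInf _ _ _ _ (Ring.toIntAlgebra _) _ _ _
      (maximalIdeal C) hfu
      (Ideal.iInf_pow_eq_bot_of_isLocalRing _ (maximalIdeal.isMaximal C).ne_top)
      v.toIntAlgHom u.toIntAlgHom fun x => (hv x).trans (hu x).symm
    exact RingHom.ext fun x => AlgHom.congr_fun this x

end Groth.Agent.S2483
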