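import Groth.Statements.S2486
import Groth.Agent.Lib.PBasis.Unramified
import Groth.Agent.Lib.PBasis.Deriv

set_option autoImplicit false
universe u
open EGA41

namespace Groth.Agent.S2486

/-- Let p be a prime, B an A-algebra of characteristic p and (x_α) a family of elements of B. Then (a) B
is generated as an A[B^p]-algebra by the x_α if and only if (b) (x_α) is a system of p-generators of
B over A; these imply (c) Ω_{B/A} is generated by the d x_α; and if B is an A[B^p]-algebra of finite
type, (c) implies (a). -/
theorem result (p : ℕ) [Fact p.Prime] {A B : Type u} [CommRing A] [CommRing B] [Algebra A B] [CharP B p]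
    {ι : Type u} (x : ι → B) :
    (Algebra.adjoin (EGA41.pPowerSubalgebra p A B) (Set.range x) = ⊤ ↔ EGA41.IsPGenerating p A x) ∧
    (EGA41.IsPGenerating p A x → Submodule.span B (Set.range fun i => KaehlerDifferential.D A B (x i)) = ⊤) ∧
    (Algebra.FiniteType (EGA41.pPowerSubalgebra p A B) B →
      Submodule.span B (Set.range fun i => KaehlerDifferential.D A B (x i)) = ⊤ → EGA41.IsPGenerating p A x) := by
  have hp : 1 < p := (Fact.out : p.Prime).one_lt
  have h1 := Groth.Agent.Lib.PBasis.Basic.isPGenerating_iff (A := A) p hp x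
  refine ⟨h1.symm, fun h => Groth.Agent.Lib.PBasis.Deriv.span_D_eq_top (h1.1 h), fun hft hspan => ?_⟩
  refine h1.2 ?_
  let C := Algebra.adjoin (EGA41.pPowerSubalgebra p A B) (Set.range x)
  haveI : Algebra.FiniteType C B :=
    Algebra.FiniteType.of_restrictScalars_finiteType (EGA41.pPowerSubalgebra p A B) C B
  haveI : IsScalarTower A C B := IsScalarTower.of_algebraMap_eq fun _ => rfl
  haveI : Algebra.FormallyUnramified C B := by
    refine ⟨subsingleton_of_forall_eq 0 fun ω => ?_⟩
    obtain ⟨η, rfl⟩ := KaehlerDifferential.map_surjective A C B ω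
    have hz : KaehlerDifferential.map A C B B = 0 := by
      refine LinearMap.ext_on hspan ?_
      rintro _ ⟨i, rfl⟩
      rw [KaehlerDifferential.map_D, LinearMap.zero_apply]
      exact Derivation.map_algebraMap (KaehlerDifferential.D C B)
        (⟨x i, Algebra.subset_adjoin ⟨i, rfl⟩⟩ : C)
    rw [hz]
    rfl
  refine top_le_iff.1 fun b _ => ?_
  obtain ⟨c, hc⟩ := Groth.Agent.Lib.PBasis.Unramified.surjective (p := p) (A := C) 1 (fun b => by
    rw [pow_one]
    exact ⟨⟨b ^ p, C.algebraMap_mem
      ⟨b ^ p, Groth.Agent.Lib.PBasis.Basic.pow_mem_pPower p b⟩⟩, rfl⟩) b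
  exact hc ▸ c.2

end Groth.Agent.S2486
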