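import Groth.Statements.S2487
import Groth.Agent.H68.FlatLift

set_option autoImplicit false
universe u
open EGA41

namespace Groth.Agent.S2487

open IsLocalRing TensorProduct in
/-- Let A be a Noetherian local ring, J an ideal contained in the maximal ideal, A₀ = A/J, and B₀ a
complete Noetherian local ring with a local homomorphism A₀ → B₀ making B₀ formally smooth over A₀
(adic topologies). Then (existence) there are a complete Noetherian local ring B, a local
homomorphism A → B making B a flat A-module, and an A₀-algebra isomorphism u : A₀ ⊗_A B ≅ B₀;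
(uniqueness) if (B', u') is another such pair, there is an A-algebra isomorphism v : B ≅ B' with u'
∘ (1 ⊗ v) = u. -/
theorem result {A : Type u} [CommRing A] [IsLocalRing A] [IsNoetherianRing A]
    (J : Ideal A) (hJ : J ≤ maximalIdeal A) [IsLocalRing (A ⧸ J)]
    (B₀ : Type u) [CommRing B₀] [IsLocalRing B₀] [IsNoetherianRing B₀] [IsAdicComplete (maximalIdeal B₀) B₀]
    [Algebra (A ⧸ J) B₀] [IsLocalHom (algebraMap (A ⧸ J) B₀)]
    (hfs : EGA41.IsFormallySmoothAdic (A ⧸ J) (maximalIdeal (A ⧸ J)) B₀ (maximalIdeal B₀)) :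
    (∃ (B : Type u) (_ : CommRing B) (_ : IsLocalRing B) (_ : IsNoetherianRing B) (_ : Algebra A B) (_ : IsLocalHom (algebraMap A B)),
      IsAdicComplete (maximalIdeal B) B ∧ Module.Flat A B ∧ Nonempty ((A ⧸ J) ⊗[A] B ≃ₐ[A ⧸ J] B₀)) ∧
    ∀ (B B' : Type u) [CommRing B] [IsLocalRing B] [IsNoetherianRing B] [Algebra A B] [IsLocalHom (algebraMap A B)]
      [CommRing B'] [IsLocalRing B'] [IsNoetherianRing B'] [Algebra A B'] [IsLocalHom (algebraMap A B')],
      IsAdicComplete (maximalIdeal B) B → Module.Flat A B → IsAdicComplete (maximalIdeal B') B' → Module.Flat A B' →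
      ∀ (u : (A ⧸ J) ⊗[A] B ≃ₐ[A ⧸ J] B₀) (u' : (A ⧸ J) ⊗[A] B' ≃ₐ[A ⧸ J] B₀),
      ∃ v : B ≃ₐ[A] B', (u' : (A ⧸ J) ⊗[A] B' →ₐ[A ⧸ J] B₀).comp
          (Algebra.TensorProduct.map (AlgHom.id (A ⧸ J) (A ⧸ J)) (v : B →ₐ[A] B')) = (u : (A ⧸ J) ⊗[A] B →ₐ[A ⧸ J] B₀) := by
  letI : Algebra A B₀ := ((algebraMap (A ⧸ J) B₀).comp (Ideal.Quotient.mk J)).toAlgebra
  haveI : IsScalarTower A (A ⧸ J) B₀ := IsScalarTower.of_algebraMap_eq fun _ => rfl
  haveI : IsLocalHom (Ideal.Quotient.mk J) := IsLocalHom.of_surjective _ Ideal.Quotient.mk_surjective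
  haveI : IsLocalHom (algebraMap A B₀) := ⟨fun a ha =>
    isUnit_of_map_unit (Ideal.Quotient.mk J) a (isUnit_of_map_unit (algebraMap (A ⧸ J) B₀) _ ha)⟩
  have hadic := H68.FlatLift.adic_of_isFormallySmoothAdic (IsLocalRing.map_maximalIdeal_le _) hfs
  have hker0 : RingHom.ker (algebraMap A (A ⧸ J)) ≤ J := Ideal.mk_ker.le
  constructor
  · -- the closed fibre of `B₀`
    let I : Ideal B₀ := (maximalIdeal A).map (algebraMap A B₀)
    have hI : I ≤ maximalIdeal B₀ := IsLocalRing.map_maximalIdeal_le _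
    let F := B₀ ⧸ I
    haveI : Nontrivial F := Ideal.Quotient.nontrivial_iff.mpr fun h =>
      (maximalIdeal.isMaximal B₀).ne_top (top_le_iff.mp (h.ge.trans hI))
    haveI : IsLocalRing F := IsLocalRing.of_surjective' _ Ideal.Quotient.mk_surjective
    haveI : IsLocalHom (Ideal.Quotient.mk I) := IsLocalHom.of_surjective _ Ideal.Quotient.mk_surjective
    have hmF : (maximalIdeal B₀).map (Ideal.Quotient.mk I) = maximalIdeal F :=
      IsLocalRing.map_maximalIdeal_of_surjective _ Ideal.Quotient.mk_surjective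
    haveI : IsAdicComplete (maximalIdeal F) F := hmF ▸ H68.FlatLift.complete_quotient I
    let k := A ⧸ maximalIdeal A
    letI : Field k := Ideal.Quotient.field _
    have hFadic : CAlgX.IsAdicFormallySmooth k F (maximalIdeal F) := by
      intro D _ _ K hK ψ ⟨t, ht⟩
      letI : Algebra (A ⧸ J) D := ((algebraMap k D).comp (Ideal.Quotient.factor hJ)).toAlgebra
      let ψ' : B₀ →ₐ[A ⧸ J] D ⧸ K :=
        { ψ.toRingHom.comp (Ideal.Quotient.mk I) with
          commutes' := fun r => by
            obtain ⟨a, rfl⟩ := Ideal.Quotient.mk_surjective r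
            exact ψ.commutes (Ideal.Quotient.mk (maximalIdeal A) a) }
      obtain ⟨χ, hχ⟩ := hadic D K hK ψ' ⟨t, fun x hx => ht _ (by
        rw [← hmF, ← Ideal.map_pow]
        exact Ideal.mem_map_of_mem _ hx)⟩
      have hχ0 : ∀ x ∈ I, χ x = 0 := fun x hx => by
        refine Submodule.span_induction (p := fun x _ => χ x = 0) ?_ (map_zero χ) ?_ ?_ hx
        · rintro _ ⟨a, ha, rfl⟩
          show χ (algebraMap (A ⧸ J) B₀ (Ideal.Quotient.mk J a)) = 0
          rw [χ.commutes]
          show algebraMap k D (Ideal.Quotient.mk (maximalIdeal A) a) = 0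
          rw [Ideal.Quotient.eq_zero_iff_mem.mpr ha, map_zero]
        · intro x y _ _ hx hy; rw [map_add, hx, hy, add_zero]
        · intro r x _ hx; rw [smul_eq_mul, map_mul, hx, mul_zero]
      refine ⟨{ Ideal.Quotient.lift I χ.toRingHom hχ0 with
        commutes' := fun r => by
          obtain ⟨a, rfl⟩ := Ideal.Quotient.mk_surjective r
          exact χ.commutes (Ideal.Quotient.mk J a) }, AlgHom.ext fun x => ?_⟩
      obtain ⟨b, rfl⟩ := Ideal.Quotient.mk_surjective x
      exact AlgHom.congr_fun hχ b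
    haveI := H68.FlatLift.isRegularLocalRing_of_adic hFadic
    have hm : (maximalIdeal A).map (algebraMap A F) = ⊥ := Ideal.map_quotient_self I ▸ (Ideal.map_map _ _).symm
    haveI : IsLocalHom (algebraMap A F) := ((local_hom_TFAE _).out 2 0).mp (hm.le.trans bot_le)
    obtain ⟨C, iC, jC, kC, π, hN, hC, hloc, hflat, hπ, hker⟩ :=
      H68.FlatLift.exists_flat_lift' (A := A) (B := F) hm
    haveI := hN
    haveI := hC
    haveI := hloc
    haveI := hflat
    have hCadic : CAlgX.IsAdicFormallySmooth A C (maximalIdeal C) :=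
      H68.FlatLift.adic_of_flat_of_surjective (R' := k) (𝔞 := maximalIdeal A)
        (IsLocalRing.map_maximalIdeal_le _) Ideal.Quotient.mk_surjective Ideal.mk_ker.le π hπ hker.le hFadic
    haveI : IsLocalHom π.toRingHom := IsLocalHom.of_surjective _ hπ
    obtain ⟨v, hv, hvπ⟩ := H68.FlatLift.exists_surjective_lift (maximalIdeal A) (maximalIdeal C)
      (maximalIdeal B₀) (IsLocalRing.map_maximalIdeal_le _) le_rfl (IsLocalRing.map_maximalIdeal_le _) le_rfl
      (H68.FlatFibre.isFormallySmoothAdic_of_adic _ hCadic) π hπ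
      ⟨1, by
        rw [pow_one, hmF]
        exact IsLocalRing.map_maximalIdeal_le π.toRingHom⟩
    have hv0 : ∀ x ∈ J.map (algebraMap A C), v x = 0 := fun x hx => by
      refine Submodule.span_induction (p := fun x _ => v x = 0) ?_ (map_zero v) ?_ ?_ hx
      · rintro _ ⟨a, ha, rfl⟩
        rw [v.commutes]
        show algebraMap (A ⧸ J) B₀ (Ideal.Quotient.mk J a) = 0
        rw [Ideal.Quotient.eq_zero_iff_mem.mpr ha, map_zero]
      · intro x y _ _ hx hy; rw [map_add, hx, hy, add_zero]
      · intro r x _ hx; rw [smul_eq_mul, map_mul, hx, mul_zero]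
    haveI : Module.Flat (A ⧸ J) B₀ := H68.AdicFlat.flat hadic
    let E := C ⧸ J.map (algebraMap A C)
    have hJC : J.map (algebraMap A C) ≤ maximalIdeal C :=
      (Ideal.map_mono hJ).trans (IsLocalRing.map_maximalIdeal_le _)
    haveI : Nontrivial E := Ideal.Quotient.nontrivial_iff.mpr fun h =>
      (maximalIdeal.isMaximal C).ne_top (top_le_iff.mp (h.ge.trans hJC))
    haveI : IsLocalRing E := IsLocalRing.of_surjective' _ Ideal.Quotient.mk_surjective
    let v' : E →ₐ[A ⧸ J] B₀ :=
      { Ideal.Quotient.lift _ v.toRingHom hv0 with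
        commutes' := fun r => by
          obtain ⟨a, rfl⟩ := Ideal.Quotient.mk_surjective r
          exact v.commutes a }
    have hmE : (maximalIdeal (A ⧸ J)).map (algebraMap (A ⧸ J) E) =
        ((maximalIdeal A).map (algebraMap A C)).map (Ideal.Quotient.mk _) := by
      rw [← IsLocalRing.map_maximalIdeal_of_surjective (Ideal.Quotient.mk J) Ideal.Quotient.mk_surjective,
        Ideal.map_map, Ideal.map_map]
      rfl
    have hinj : Function.Injective v' := by
      refine H68.FlatLift.injective_of_flat v' (fun b => ?_) (maximalIdeal (A ⧸ J)) ?_ ?_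
      · obtain ⟨c, rfl⟩ := hv b
        exact ⟨Ideal.Quotient.mk _ c, rfl⟩
      · rw [hmE, ← IsLocalRing.map_maximalIdeal_of_surjective
          (Ideal.Quotient.mk (J.map (algebraMap A C))) Ideal.Quotient.mk_surjective]
        exact Ideal.map_mono (IsLocalRing.map_maximalIdeal_le _)
      · intro z hz
        obtain ⟨c, rfl⟩ := Ideal.Quotient.mk_surjective z
        rw [hmE]
        refine Ideal.mem_map_of_mem _ ?_
        rw [← hker]
        show π c = 0
        rw [← hvπ c, show v c = 0 from hz, map_zero]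
    refine ⟨C, iC, jC, hN, kC, hloc, hC, hflat, ⟨H68.FlatLift.baseEquiv J v hv fun c hc => ?_⟩⟩
    exact Ideal.Quotient.eq_zero_iff_mem.mp (hinj (hc.trans (map_zero v').symm))
  · intro B B' _ _ _ _ _ _ _ _ _ _ hB hflat hB' hflat' u u'
    haveI := hB
    haveI := hB'
    haveI := hflat
    haveI := hflat'
    let p : B →ₐ[A] B₀ := (u.toAlgHom.restrictScalars A).comp Algebra.TensorProduct.includeRight
    let p' : B' →ₐ[A] B₀ := (u'.toAlgHom.restrictScalars A).comp Algebra.TensorProduct.includeRight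
    have hp := H68.FlatLift.base_surjective_ker J u
    have hp' := H68.FlatLift.base_surjective_ker J u'
    have hJB : J.map (algebraMap A B) ≤ maximalIdeal B :=
      (Ideal.map_mono hJ).trans (IsLocalRing.map_maximalIdeal_le _)
    have hJB' : J.map (algebraMap A B') ≤ maximalIdeal B' :=
      (Ideal.map_mono hJ).trans (IsLocalRing.map_maximalIdeal_le _)
    have hBadic : CAlgX.IsAdicFormallySmooth A B (maximalIdeal B) :=
      H68.FlatLift.adic_of_flat_of_surjective (R' := A ⧸ J) hJB Ideal.Quotient.mk_surjective hker0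
        p hp.1 hp.2.le hadic
    let e : (B' ⧸ J.map (algebraMap A B')) ≃ₐ[A] B₀ :=
      (Ideal.quotientEquivAlgOfEq A hp'.2.symm).trans (Ideal.quotientKerAlgEquivOfSurjective hp'.1)
    let u₀ : B →ₐ[A] B' ⧸ J.map (algebraMap A B') := e.symm.toAlgHom.comp p
    haveI : Nontrivial (B' ⧸ J.map (algebraMap A B')) := Ideal.Quotient.nontrivial_iff.mpr fun h =>
      (maximalIdeal.isMaximal B').ne_top (top_le_iff.mp (h.ge.trans hJB'))
    haveI : IsLocalRing (B' ⧸ J.map (algebraMap A B')) :=
      IsLocalRing.of_surjective' _ Ideal.Quotient.mk_surjective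
    have hu₀ : Function.Surjective u₀ := e.symm.surjective.comp hp.1
    haveI : IsLocalHom u₀.toRingHom := IsLocalHom.of_surjective _ hu₀
    obtain ⟨v, hv⟩ := H68.FlatLift.exists_algEquiv_lift J (maximalIdeal B) (maximalIdeal B') hJB le_rfl hJB'
      le_rfl (H68.FlatFibre.isFormallySmoothAdic_of_adic _ hBadic) u₀ hu₀
      (fun b hb => hp.2.le (e.symm.injective (hb.trans (map_zero e.symm).symm)))
      ⟨1, by
        rw [pow_one, IsLocalRing.map_maximalIdeal_of_surjective (Ideal.Quotient.mk (J.map (algebraMap A B')))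
          Ideal.Quotient.mk_surjective]
        exact IsLocalRing.map_maximalIdeal_le u₀.toRingHom⟩
    refine ⟨v, Algebra.TensorProduct.ext (Subsingleton.elim _ _) (AlgHom.ext fun b => ?_)⟩
    show u' ((1 : A ⧸ J) ⊗ₜ[A] v b) = u (1 ⊗ₜ[A] b)
    have h1 := congrArg e (hv b)
    rw [show e (u₀ b) = p b from e.apply_symm_apply _] at h1
    exact h1

end Groth.Agent.S2487
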