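import Groth.Statements.S2551
import Groth.Agent.H46.FibreProf.Equidim
import Groth.Agent.H46.FibreProf.Unit
-- import your own Groth.Agent.* helpers here

set_option autoImplicit false
open CategoryTheory AlgebraicGeometry
universe u
open EGA43

namespace Groth.Agent.S2551

open Groth.Agent.H46.FibreProf Groth.Agent.H46.FibreProf.Basic Groth.Agent.H46.FibreProf.Open in
/-- Let f : X ⟶ Y be flat and locally of finite presentation and k a natural number. The set of points x
of X such that the local ring at x of the fibre of f through x satisfies Serre's condition (S_k) is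
open in X. -/
theorem result {X Y : Scheme.{u}} (f : X ⟶ Y) [Flat f] [LocallyOfFinitePresentation f]
    (k : ℕ) :
    IsOpen {x : X | LocCoh.HasSk k ((f.fiber (f.base x)).presheaf.stalk (f.asFiber x))
      ((f.fiber (f.base x)).presheaf.stalk (f.asFiber x))} := by
  haveI := Unit.isFP_structureModule X
  haveI := Groth.Agent.H26.FreeCrit.isQuasicoherent_of_isFP (Unit.isFP_structureModule X)
  convert isOpen_sk f (Coh.structureModule X) (Unit.isFP_structureModule X) ⊤
    (fun x _ => (Unit.isFlatOverAt_structureModule f x).2 (Flat.stalkMap f x)) k using 1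
  ext x
  refine (Unit.hasSk_iff f (f.base x) (f.asFiber x) k).trans ?_
  rw [f.fiberι_asFiber]
  exact ⟨fun h => ⟨trivial, h⟩, And.right⟩

end Groth.Agent.S2551
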