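import Groth.Statements.S2552
import Groth.Agent.H46.FibreProf.Equidim
import Groth.Agent.H46.FibreProf.Unit
-- import your own Groth.Agent.* helpers here

set_option autoImplicit false
open CategoryTheory AlgebraicGeometry
universe u
open EGA43

namespace Groth.Agent.S2552

open Groth.Agent.H46.FibreProf Groth.Agent.H46.FibreProf.Basic Groth.Agent.H46.FibreProf.Open in
/-- Let f : X → Y be a morphism locally of finite presentation and F a finitely presented O_X-module
which is flat over Y. Then the set of points x ∈ X such that the stalk at x of the restriction of F
to the fibre X_{f(x)} is either zero or a Cohen–Macaulay module over the local ring of X_{f(x)} at x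
is open in X. (A zero stalk counts as Cohen–Macaulay, as in the published statement, which is why
the condition is stated as a disjunction; the published statement also has further parts, which are
not asserted here.) -/
theorem result {X Y : Scheme.{u}} (f : X ⟶ Y) [LocallyOfFinitePresentation f]
    (F : X.Modules) (hF : CohB1.IsFP F) (hflat : FlatMod.IsFlatOver f F) :
    IsOpen {x : X |
      Subsingleton (((Scheme.Modules.pullback (f.fiberι (f.base x))).obj F).presheaf.stalk (f.asFiber x)) ∨
      LocCoh.IsCohenMacaulayModule ((f.fiber (f.base x)).presheaf.stalk (f.asFiber x))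
        (((Scheme.Modules.pullback (f.fiberι (f.base x))).obj F).presheaf.stalk (f.asFiber x))} := by
  haveI := hF
  haveI := Groth.Agent.H26.FreeCrit.isQuasicoherent_of_isFP hF
  convert isOpen_cop f F hF ⊤ (fun x _ => hflat x) 0 using 1
  ext x
  have h := cop_iff f F (f.base x) (f.asFiber x) 0
  rw [Nat.cast_zero, add_zero] at h
  refine Iff.trans ?_ (h.trans (by rw [f.fiberι_asFiber]; exact ⟨fun h => ⟨trivial, h⟩, And.right⟩))
  exact isZeroOrCM_iff f F _ _

end Groth.Agent.S2552
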