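import Groth.Statements.S2555
import Groth.Agent.H46.FibreProf.Equidim
import Groth.Agent.H46.FibreProf.Unit
-- import your own Groth.Agent.* helpers here

set_option autoImplicit false
open CategoryTheory AlgebraicGeometry
universe u
open EGA43

namespace Groth.Agent.S2555

open Groth.Agent.H46.FibreProf Groth.Agent.H46.FibreProf.Basic Groth.Agent.H46.FibreProf.Open in
/-- Let f : X ⟶ Y be proper, flat and locally of finite presentation and k ≥ 1. The set of points y of Y
such that every local ring of the fibre X_y satisfies Serre's condition (S_k) is open in Y. -/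
theorem result {X Y : Scheme.{u}} (f : X ⟶ Y) [IsProper f]
    [Flat f] [LocallyOfFinitePresentation f] (k : ℕ) (hk : 1 ≤ k) :
    IsOpen {y : Y | ∀ x : ↥(f.fiber y), LocCoh.HasSk k ((f.fiber y).presheaf.stalk x) ((f.fiber y).presheaf.stalk x)} := by
  haveI := Unit.isFP_structureModule X
  haveI := Groth.Agent.H26.FreeCrit.isQuasicoherent_of_isFP (Unit.isFP_structureModule X)
  have h := Equidim.isOpen_forall_fiber f
    (isOpen_sk f (Coh.structureModule X) (Unit.isFP_structureModule X) ⊤
      (fun x _ => (Unit.isFlatOverAt_structureModule f x).2 (Flat.stalkMap f x)) k)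
  convert h using 1
  ext y
  exact forall_congr' fun a =>
    (Unit.hasSk_iff f y a k).trans ⟨fun h => ⟨trivial, h⟩, And.right⟩

end Groth.Agent.S2555
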