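import Groth.Statements.S2556
import Groth.Agent.H46.UnibranchCrit

set_option autoImplicit false
open CategoryTheory AlgebraicGeometry
universe u
open EGA43

namespace Groth.Agent.S2556

/-- Suppose Y is a locally Noetherian scheme whose local rings are all geometrically unibranch, and f :
X ⟶ Y is locally of finite type. Then f is universally open exactly when its underlying map of
spaces is open. -/
theorem result {X Y : Scheme.{u}} [IsLocallyNoetherian Y]
    (hY : ∀ y : Y, CAlg2.IsGeomUnibranch (Y.presheaf.stalk y)) (f : X ⟶ Y) [LocallyOfFiniteType f] :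
    UniversallyOpen f ↔ IsOpenMap f.base := by
  refine ⟨fun _ => f.isOpenMap, fun h => ?_⟩
  refine Groth.Agent.H46.UnivOpen.universallyOpen_of_forall f fun x => ?_
  obtain ⟨ζ, hζ, hζx, hmax, he⟩ := Groth.Agent.H46.FibreTrdeg.exists_isMaxFib_trd_eq f x
  exact Groth.Agent.H46.UnibranchCrit.isUnivOpenAt_of_isOpenAt f hζ hζx hmax he
    (Groth.Agent.H46.OpenAt.isOpenAt_of_isOpenMap h ζ) (hY _)

end Groth.Agent.S2556
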