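import Groth.Statements.S2558
import Groth.Agent.Lib.LimSub.Descend
import Groth.Agent.H75.RedSub
import Mathlib

set_option autoImplicit false
open CategoryTheory AlgebraicGeometry
universe u
open EGA43

namespace Groth.Agent.S2558
open TensorProduct

theorem exists_relation {R C V : Type u} [CommRing R] [CommRing C] [CommRing V] [Algebra R C]
    [Algebra R V] [IsDomain V] (P : Ideal (C ⊗[R] V)) [P.IsPrime]
    (h : ∀ Q : Ideal (C ⊗[R] V), Q.IsPrime → Q ≤ P →
      Q.comap (Algebra.TensorProduct.includeRight : V →ₐ[R] C ⊗[R] V) ≠ ⊥) :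
    ∃ V' : Subalgebra R V, V'.FG ∧ ∃ (s : C ⊗[R] V') (t : V'), t ≠ 0 ∧
      s ∉ P.comap (Algebra.TensorProduct.map (AlgHom.id R C) V'.val) ∧ s * (1 ⊗ₜ t) = 0 := by
  classical
  let M : Submonoid (C ⊗[R] V) :=
    (nonZeroDivisors V).map (Algebra.TensorProduct.includeRight : V →ₐ[R] C ⊗[R] V) ⊔ P.primeCompl
  have h0 : (0 : C ⊗[R] V) ∈ M := by
    by_contra hM
    obtain ⟨Q, hQ, -, hd⟩ := Ideal.exists_le_prime_disjoint (⊥ : Ideal (C ⊗[R] V)) M
      (Set.disjoint_left.mpr fun a ha hb => hM (by rwa [← (Ideal.mem_bot.mp ha : a = 0)]))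
    refine h Q hQ (fun a ha => ?_) (le_bot_iff.mp fun v hv => ?_)
    · by_contra hP
      exact Set.disjoint_left.mp hd ha (SetLike.mem_coe.mpr (Submonoid.mem_sup_right hP))
    · by_contra hne
      exact Set.disjoint_left.mp hd hv (SetLike.mem_coe.mpr (Submonoid.mem_sup_left
        ⟨v, mem_nonZeroDivisors_of_ne_zero hne, rfl⟩))
  obtain ⟨_, ⟨t, ht, rfl⟩, s, hs, hst⟩ := Submonoid.mem_sup.mp h0
  obtain ⟨S, hS⟩ := TensorProduct.exists_finset s
  let N : Submodule R V := Submodule.span R ((S.image fun i => t * i.2 : Finset V) : Set V)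
  have hN : N.FG := Submodule.fg_span (Finset.finite_toSet _)
  let x : N ⊗[R] C := ∑ i ∈ S.attach,
    (⟨t * i.1.2, Submodule.subset_span (Finset.mem_coe.mpr (Finset.mem_image_of_mem _ i.2))⟩ : N) ⊗ₜ i.1.1
  have hxs : TensorProduct.comm R V C (LinearMap.rTensor C N.subtype x) = ((1 : C) ⊗ₜ[R] t) * s := by
    rw [hS, map_sum, map_sum, Finset.mul_sum, ← Finset.sum_attach S]
    refine Finset.sum_congr rfl fun i _ => ?_
    simp [Algebra.TensorProduct.tmul_mul_tmul]
  have hx : LinearMap.rTensor C N.subtype x = LinearMap.rTensor C N.subtype 0 := by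
    rw [map_zero]
    exact (TensorProduct.comm R V C).map_eq_zero_iff.mp (hxs.trans hst)
  obtain ⟨N', hN', hle, hN0⟩ := hN.exists_rTensor_fg_inclusion_eq hx
  obtain ⟨G, hG⟩ := hN'
  let V' : Subalgebra R V :=
    Algebra.adjoin R ((G ∪ S.image Prod.snd ∪ {t} : Finset V) : Set V)
  have hmem : ∀ v ∈ (G ∪ S.image Prod.snd ∪ {t} : Finset V), v ∈ V' := fun v hv => Algebra.subset_adjoin hv
  have hN'V : N' ≤ Subalgebra.toSubmodule V' := hG ▸ Submodule.span_le.mpr fun v hv =>
    hmem v (Finset.mem_union_left _ (Finset.mem_union_left _ hv))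
  let t' : V' := ⟨t, hmem t (by simp)⟩
  let s' : C ⊗[R] V' := ∑ i ∈ S.attach, i.1.1 ⊗ₜ[R] (⟨i.1.2,
    hmem _ (Finset.mem_union_left _ (Finset.mem_union_right _ (Finset.mem_image_of_mem _ i.2)))⟩ : V')
  refine ⟨V', Subalgebra.fg_adjoin_finset _, s', t', fun h => nonZeroDivisors.ne_zero ht (congrArg Subtype.val h),
    fun hmem' => hs ?_, ?_⟩
  · have he : Algebra.TensorProduct.map (AlgHom.id R C) V'.val s' = s := by
      rw [hS, map_sum, ← Finset.sum_attach S]
      rfl
    rw [← he]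
    exact hmem'
  · have h1 := congrArg (fun y => TensorProduct.comm R _ C
      (LinearMap.rTensor C (Submodule.inclusion hN'V) y)) hN0
    simp only [map_zero] at h1
    rw [← h1, map_sum, map_sum, map_sum, Finset.sum_mul]
    refine Finset.sum_congr rfl fun i _ => ?_
    simp only [LinearMap.rTensor_tmul, TensorProduct.comm_tmul, Algebra.TensorProduct.tmul_mul_tmul, mul_one]
    congr 1
    exact Subtype.ext (mul_comm _ _)

/-- Extending an affine scheme of finite type over an affine open to a quasi-compact one over the base. -/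
theorem exists_closure {Y : Scheme.{u}} {U : Y.Opens} (hU : IsAffineOpen U) (A : Type u) [CommRing A]
    [IsDomain A] [Algebra Γ(Y, U) A] [Algebra.FiniteType Γ(Y, U) A] :
    ∃ (Z : Scheme.{u}) (q : Z ⟶ Y) (j : Spec (CommRingCat.of A) ⟶ Z), IrreducibleSpace Z ∧
      LocallyOfFiniteType q ∧ QuasiCompact q ∧ IsOpenImmersion j ∧
      j ≫ q = Spec.map (CommRingCat.ofHom (algebraMap Γ(Y, U) A)) ≫ hU.fromSpec := by
  obtain ⟨n, ψ, hψ⟩ := Algebra.FiniteType.iff_quotient_mvPolynomial''.mp ‹Algebra.FiniteType Γ(Y, U) A›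
  let π : MvPolynomial (ULift.{u} (Fin n)) Γ(Y, U) →ₐ[Γ(Y, U)] A :=
    ψ.comp (MvPolynomial.renameEquiv Γ(Y, U) Equiv.ulift).toAlgHom
  have hπ : Function.Surjective π := hψ.comp (MvPolynomial.renameEquiv Γ(Y, U) Equiv.ulift).surjective
  let c : Spec (CommRingCat.of A) ⟶ 𝔸(ULift.{u} (Fin n); Spec Γ(Y, U)) :=
    Spec.map (CommRingCat.ofHom π.toRingHom) ≫ (AffineSpace.SpecIso _ Γ(Y, U)).inv
  haveI : IsClosedImmersion (Spec.map (CommRingCat.ofHom π.toRingHom)) :=
    IsClosedImmersion.spec_of_surjective _ hπ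
  haveI : IsClosedImmersion c := inferInstance
  let o : 𝔸(ULift.{u} (Fin n); Spec Γ(Y, U)) ⟶ 𝔸(ULift.{u} (Fin n); Y) := AffineSpace.map _ hU.fromSpec
  haveI : IsOpenImmersion o :=
    MorphismProperty.of_isPullback (AffineSpace.isPullback_map hU.fromSpec).flip inferInstance
  let k := c ≫ o
  haveI : IsImmersion k := by dsimp [k]; infer_instance
  obtain ⟨W, j, i, hj', hi, -, hrange, hj⟩ := H75.RedSub.exists_factor k
  haveI := hj'
  haveI := hi
  refine ⟨W, i ≫ 𝔸(ULift.{u} (Fin n); Y) ↘ Y, j, ?_, inferInstance, inferInstance,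
    inferInstance, ?_⟩
  · haveI : Nonempty ↥W := ⟨j (Nonempty.some inferInstance)⟩
    refine { toPreirreducibleSpace := ⟨fun u v hu hv hu' hv' => ?_⟩, toNonempty := inferInstance }
    obtain ⟨u', hu'o, rfl⟩ := i.isClosedEmbedding.isInducing.isOpen_iff.mp hu
    obtain ⟨v', hv'o, rfl⟩ := i.isClosedEmbedding.isInducing.isOpen_iff.mp hv
    have hirr : IsIrreducible (Set.range i) := by
      rw [hrange, ← Set.image_univ]
      exact ((IrreducibleSpace.isIrreducible_univ _).image k k.continuous.continuousOn).closure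
    obtain ⟨x, hx, _⟩ := hu'
    obtain ⟨y, hy, _⟩ := hv'
    obtain ⟨_, ⟨z, rfl⟩, hz⟩ := hirr.2 u' v' hu'o hv'o ⟨_, ⟨x, rfl⟩, by assumption⟩ ⟨_, ⟨y, rfl⟩, by assumption⟩
    exact ⟨z, trivial, hz⟩
  · rw [reassoc_of% hj, Category.assoc, AffineSpace.map_over, Category.assoc,
      AffineSpace.SpecIso_inv_over_assoc, ← Spec.map_comp_assoc]
    congr 2
    ext a
    exact π.commutes a


open CategoryTheory.Limits in
/-- Let f : X ⟶ Y be locally of finite presentation. Suppose that for every irreducible scheme Y' and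
every morphism of finite type g : Y' ⟶ Y, each irreducible component of X ×_Y Y' has dense image in
Y'. Then f is universally open. -/
theorem result {X Y : Scheme.{u}} (f : X ⟶ Y) [LocallyOfFinitePresentation f]
    (h : ∀ (Y' : Scheme.{u}) (g : Y' ⟶ Y) [IrreducibleSpace Y'] [LocallyOfFiniteType g] [QuasiCompact g],
      ∀ Z ∈ irreducibleComponents (↥(pullback f g) : Type u), Dense ((pullback.snd f g).base '' Z)) :
    UniversallyOpen f := by
  refine Lib.LimSub.Descend.universallyOpen_of_generizes f fun V _ _ _ g w hw => ?_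
  obtain ⟨U, hU, hgU, -⟩ := exists_isAffineOpen_mem_and_subset (X := Y)
    (x := g (Lib.Subtrusive.Valuation.clPt V)) (U := ⊤) trivial
  have hgr : Set.range g ⊆ Set.range hU.fromSpec := by
    rw [hU.range_fromSpec]
    rintro _ ⟨p, rfl⟩
    exact ((Lib.Subtrusive.Valuation.specializes_clPt p).map g.continuous).mem_open U.isOpen hgU
  let φ := Spec.preimage (IsOpenImmersion.lift hU.fromSpec g hgr)
  letI : Algebra Γ(Y, U) V := φ.hom.toAlgebra
  have hg : Spec.map (CommRingCat.ofHom (algebraMap Γ(Y, U) V)) ≫ hU.fromSpec = g := by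
    show Spec.map φ ≫ _ = g
    rw [Spec.map_preimage, IsOpenImmersion.lift_fac]
  have hfw : f (Limits.pullback.fst f g w) ∈ U := by
    rw [← Scheme.Hom.comp_apply, Limits.pullback.condition, Scheme.Hom.comp_apply, hw]
    exact hgU
  obtain ⟨W, hW, hwW, hWU⟩ := exists_isAffineOpen_mem_and_subset (X := X)
    (x := Limits.pullback.fst f g w) (U := f ⁻¹ᵁ U) hfw
  letI : Algebra Γ(Y, U) Γ(X, W) := (f.appLE U W hWU).hom.toAlgebra
  have hfW : Spec.map (CommRingCat.ofHom (algebraMap Γ(Y, U) Γ(X, W))) ≫ hU.fromSpec = hW.fromSpec ≫ f :=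
    IsAffineOpen.SpecMap_appLE_fromSpec f hU hW hWU
  -- the affine piece of the base change
  let M := Limits.pullback.map (Spec.map (CommRingCat.ofHom (algebraMap Γ(Y, U) Γ(X, W))))
    (Spec.map (CommRingCat.ofHom (algebraMap Γ(Y, U) V))) f g hW.fromSpec (𝟙 _) hU.fromSpec hfW
    (by rw [Category.id_comp]; exact hg)
  haveI : IsOpenImmersion M := by dsimp [M]; infer_instance
  obtain ⟨w₁, hw₁⟩ : w ∈ Set.range M := by
    show w ∈ Set.range (Limits.pullback.map _ _ _ _ _ _ _ hfW _)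
    rw [Scheme.Pullback.range_map]
    exact ⟨by show _ ∈ Set.range hW.fromSpec; rw [hW.range_fromSpec]; exact hwW, ⟨_, rfl⟩⟩
  let e := pullbackSpecIso Γ(Y, U) Γ(X, W) V
  let P : PrimeSpectrum (Γ(X, W) ⊗[Γ(Y, U)] V) := e.hom w₁
  by_cases hQ : ∃ Q : Ideal (Γ(X, W) ⊗[Γ(Y, U)] V), Q.IsPrime ∧ Q ≤ P.asIdeal ∧
      Q.comap (Algebra.TensorProduct.includeRight : V →ₐ[Γ(Y, U)] Γ(X, W) ⊗[Γ(Y, U)] V) = ⊥
  · obtain ⟨Q, hQp, hQP, hQV⟩ := hQ
    refine ⟨(e.inv ≫ M) ⟨Q, hQp⟩, ?_, ?_⟩
    · have hsp : (⟨Q, hQp⟩ : PrimeSpectrum _) ⤳ P := (PrimeSpectrum.le_iff_specializes _ _).mp hQP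
      have := hsp.map (e.inv ≫ M).continuous
      rwa [show (e.inv ≫ M) P = w by rw [← hw₁, ← Scheme.Hom.comp_apply, e.hom_inv_id_assoc]] at this
    · rw [← Scheme.Hom.comp_apply, Category.assoc, Limits.pullback.lift_snd, Category.comp_id,
        pullbackSpecIso_inv_snd]
      exact PrimeSpectrum.ext hQV
  exfalso
  push Not at hQ
  obtain ⟨V', hV', s, t, ht, hs, hst⟩ := exists_relation P.asIdeal fun Q hQp hQP => hQ Q hQp hQP
  haveI : Algebra.FiniteType Γ(Y, U) V' := (Subalgebra.fg_iff_finiteType V').mp hV'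
  obtain ⟨Z, q, j, hZ, hq, hqc, hjo, hjq⟩ := exists_closure hU V'
  haveI := hjo
  let M' := Limits.pullback.map (Spec.map (CommRingCat.ofHom (algebraMap Γ(Y, U) Γ(X, W))))
    (Spec.map (CommRingCat.ofHom (algebraMap Γ(Y, U) V'))) f q hW.fromSpec j hU.fromSpec hfW hjq.symm
  haveI : IsOpenImmersion M' := by dsimp [M']; infer_instance
  let e' := pullbackSpecIso Γ(Y, U) Γ(X, W) V'
  let P' : PrimeSpectrum (Γ(X, W) ⊗[Γ(Y, U)] V') :=
    ⟨P.asIdeal.comap (Algebra.TensorProduct.map (AlgHom.id Γ(Y, U) Γ(X, W)) V'.val), inferInstance⟩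
  set z := (e'.inv ≫ M') P'
  have hzc : z ∈ irreducibleComponent z := mem_irreducibleComponent
  have hd := h Z q (irreducibleComponent z) (irreducibleComponent_mem_irreducibleComponents z)
  obtain ⟨ζ, hζ⟩ := QuasiSober.sober (isIrreducible_irreducibleComponent (x := z)) (isClosed_irreducibleComponent (x := z))
  have hgen : Limits.pullback.snd f q ζ = genericPoint Z := by
    have h1 := (hζ.def.symm.le.trans subset_rfl : irreducibleComponent z ⊆ closure {ζ})
    have h2 : closure ({Limits.pullback.snd f q ζ} : Set Z) = Set.univ := by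
      refine Set.eq_univ_of_univ_subset ?_
      rw [← hd.closure_eq]
      refine closure_minimal ?_ isClosed_closure
      rintro _ ⟨a, ha, rfl⟩
      exact ((specializes_iff_mem_closure.mpr (h1 ha)).map (Limits.pullback.snd f q).continuous).mem_closure
    exact (show IsGenericPoint _ (Set.univ : Set Z) from h2).eq (genericPoint_spec Z)
  have hζz : ζ ⤳ z := specializes_iff_mem_closure.mpr (hζ.def.symm ▸ hzc)
  obtain ⟨Q', hQ'⟩ : ζ ∈ Set.range (e'.inv ≫ M') :=
    hζz.mem_open (e'.inv ≫ M').isOpenEmbedding.isOpen_range ⟨P', rfl⟩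
  have hQP : Q' ⤳ P' := (e'.inv ≫ M').isOpenEmbedding.isInducing.specializes_iff.mp (by rw [hQ']; exact hζz)
  have hle : (Q' : PrimeSpectrum _).asIdeal ≤ P'.asIdeal := (PrimeSpectrum.le_iff_specializes _ _).mpr hQP
  have hbot : (Q' : PrimeSpectrum _).asIdeal.comap
      (Algebra.TensorProduct.includeRight : V' →ₐ[Γ(Y, U)] Γ(X, W) ⊗[Γ(Y, U)] V') = ⊥ := by
    have h3 : j (Spec.map (CommRingCat.ofHom (Algebra.TensorProduct.includeRight :
        V' →ₐ[Γ(Y, U)] Γ(X, W) ⊗[Γ(Y, U)] V').toRingHom) Q') = genericPoint Z := by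
      rw [← hgen, ← hQ']
      simp only [← Scheme.Hom.comp_apply]
      congr 1
      rw [Category.assoc, Limits.pullback.lift_snd, pullbackSpecIso_inv_snd_assoc]
      rfl
    rw [← genericPoint_eq_of_isOpenImmersion j] at h3
    have h4 := j.isOpenEmbedding.injective h3
    rw [genericPoint_eq_bot_of_affine] at h4
    exact congrArg PrimeSpectrum.asIdeal h4
  have h5 : (1 : Γ(X, W)) ⊗ₜ[Γ(Y, U)] t ∈ (Q' : PrimeSpectrum _).asIdeal :=
    ((Q' : PrimeSpectrum _).2.mem_or_mem (hst ▸ Ideal.zero_mem _)).resolve_left fun h6 => hs (hle h6)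
  exact ht ((Ideal.mem_bot).mp (hbot ▸ h5))

end Groth.Agent.S2558
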