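import Groth.Statements.S5223
import Groth.Agent.Lib.Flat55.FlatDescend
import Groth.Agent.Lib.AlgSpThick.FlatAt
import Groth.Agent.H56.SpecStalk
-- import your own Groth.Agent.* helpers here

set_option autoImplicit false
open CategoryTheory CategoryTheory.Limits AlgebraicGeometry
universe u
open GrpQ

namespace Groth.Agent.S5223
open Groth.Agent.Lib.AlgSpThick.FlatAt
open Groth.Agent.Lib.Flat55.FlatDescend

/-- In a cartesian square of schemes `F₂ = F₁ ×_{X₀} X₁` whose bottom map `u : X₁ ⟶ X₀` is flat, the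
base-changed map `d' : F₂ ⟶ X₁` is flat at a point `x` if and only if `d : F₁ ⟶ X₀` is flat at the
image of `x` in `F₁`. -/
theorem result {F₂ F₁ X₁ X₀ : Scheme.{u}}
    {v : F₂ ⟶ F₁} {d' : F₂ ⟶ X₁} {d : F₁ ⟶ X₀} {u : X₁ ⟶ X₀}
    (h : IsPullback v d' d u) [Flat u] (x : F₂) :
    (d'.stalkMap x).hom.Flat ↔ (d.stalkMap (v.base x)).hom.Flat := by
  open Groth.Agent.Lib.Flat55.FlatDescend Groth.Agent.Lib.AlgSpThick.FlatAt in
  have : Flat v := MorphismProperty.of_isPullback h.flip ‹Flat u›
  constructor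
  · intro hx
    have h1 : ((d' ≫ u).stalkMap x).hom.Flat := flat_stalkMap_comp d' u x hx (Flat.stalkMap u _)
    rw [← h.w] at h1
    exact flat_stalkMap_of_comp v d x (Flat.stalkMap v x) h1
  · intro hx
    let ι := F₁.fromSpecStalk (v.base x)
    have : Flat (Spec.map (d.stalkMap (v.base x))) := Flat.SpecMap_iff.2 hx
    have : Flat (X₀.fromSpecStalk (d (v.base x))) := Groth.Agent.H56.SpecStalk.flat_fromSpecStalk _
    have : Flat (ι ≫ d) := by
      rw [← Scheme.SpecMap_stalkMap_fromSpecStalk]; infer_instance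
    have : Flat ι := Groth.Agent.H56.SpecStalk.flat_fromSpecStalk _
    have hs : IsPullback (pullback.fst ι v) (pullback.snd ι v ≫ d') (ι ≫ d) u :=
      (IsPullback.of_hasPullback ι v).paste_vert h
    have : Flat (pullback.snd ι v ≫ d') := MorphismProperty.of_isPullback hs ‹Flat (ι ≫ d)›
    obtain ⟨p, -, hp⟩ := Scheme.Pullback.exists_preimage_pullback (f := ι) (g := v)
      (IsLocalRing.closedPoint _) x Scheme.fromSpecStalk_closedPoint
    have key := flat_stalkMap_of_comp (pullback.snd ι v) d' p (Flat.stalkMap _ p) (Flat.stalkMap _ p)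
    exact hp ▸ key

end Groth.Agent.S5223
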