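import Groth.Statements.S2562
import Groth.Agent.H47.FlatValuative
import Groth.Agent.H47.FlatChartModel
import Groth.Agent.Lib.Flat55.FlatOverAt
import Groth.Agent.H56.SpecStalk
import Groth.Agent.S5223

set_option autoImplicit false
open CategoryTheory AlgebraicGeometry
universe u
open EGA43

namespace Groth.Agent.S2562

attribute [local instance] Algebra.TensorProduct.rightAlgebra

set_option backward.isDefEq.respectTransparency false in
open CategoryTheory.Limits in
/-- Let f : X ⟶ Y be locally of finite presentation, x a point of X, y = f x, and suppose the local ring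
O_{Y,y} is reduced and Noetherian. Then O_{Y,y} ⟶ O_{X,x} is flat if and only if, for every discrete
valuation ring A' and every local homomorphism O_{Y,y} ⟶ A', the base change X' = X ×_Y Spec A' ⟶
Spec A' is flat at every point of X' lying over x and over the closed point of Spec A'. -/
theorem result {X Y : Scheme.{u}} (f : X ⟶ Y) [LocallyOfFinitePresentation f]
    (x : X) [IsNoetherianRing (Y.presheaf.stalk (f.base x))] [_root_.IsReduced (Y.presheaf.stalk (f.base x))] :
    (f.stalkMap x).hom.Flat ↔
      ∀ (A' : Type u) [CommRing A'] [IsDomain A'] [IsDiscreteValuationRing A']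
        (φ : (Y.presheaf.stalk (f.base x) : Type u) →+* A') [IsLocalHom φ],
        ∀ x' : ↥(pullback f (Spec.map (CommRingCat.ofHom φ) ≫ Y.fromSpecStalk (f.base x))),
          (pullback.fst f _).base x' = x →
          (pullback.snd f _).base x' = IsLocalRing.closedPoint A' →
          ((pullback.snd f (Spec.map (CommRingCat.ofHom φ) ≫ Y.fromSpecStalk (f.base x))).stalkMap x').hom.Flat := by
  constructor
  · intro h A' _ _ _ φ _ x' hx' _
    refine Groth.Agent.Lib.Flat55.FlatOverAt.flat_stalkMap_snd f _ x' ?_
    rw [hx']
    exact h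
  · intro h
    let u := Y.fromSpecStalk (f.base x)
    haveI : Flat u := Groth.Agent.H56.SpecStalk.flat_fromSpecStalk _
    let g : pullback f u ⟶ Spec (CommRingCat.of (Y.presheaf.stalk (f.base x))) := pullback.snd f u
    haveI hg : LocallyOfFinitePresentation g :=
      inferInstanceAs (LocallyOfFinitePresentation (pullback.snd f u))
    obtain ⟨z₀, hz₁, hz₂⟩ := Scheme.Pullback.exists_preimage_pullback (f := f) (g := u) x
      (IsLocalRing.closedPoint (Y.presheaf.stalk (f.base x))) Scheme.fromSpecStalk_closedPoint.symm
    have key : (g.stalkMap z₀).hom.Flat := by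
      obtain ⟨R₀, _, B₀, _, _, _, j, _, z, hj, hz⟩ :=
        Groth.Agent.H47.FlatChartModel.exists_model (A := Y.presheaf.stalk (f.base x)) g z₀
      refine Groth.Agent.H47.FlatChartModel.flat_of_chart g j hj z _ hz ?_
      refine Groth.Agent.H47.FlatValuative.flat_of_dvr B₀ z
        (Groth.Agent.H47.FlatChartModel.comap_eq_maximalIdeal g j hj z (by rw [hz]; exact hz₂)) ?_
      intro V _ _ _ _ _ _ _ q' hq' hm'
      obtain ⟨w, h1, h2, h3⟩ := Groth.Agent.H47.FlatChartModel.exists_point (A' := V) g j hj z q' hq'
      let φ := algebraMap (Y.presheaf.stalk (f.base x)) V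
      let m := pullbackLeftPullbackSndIso f u (Spec.map (CommRingCat.ofHom φ))
      have e1 : pullback.fst f (Spec.map (CommRingCat.ofHom φ) ≫ u) (m.hom w) = x := by
        rw [← Scheme.Hom.comp_apply, pullbackLeftPullbackSndIso_hom_fst, Scheme.Hom.comp_apply]
        rw [h1, hz]
        exact hz₁
      have e2 : pullback.snd f (Spec.map (CommRingCat.ofHom φ) ≫ u) (m.hom w) =
          IsLocalRing.closedPoint V := by
        rw [← Scheme.Hom.comp_apply, pullbackLeftPullbackSndIso_hom_snd]
        exact h2.trans (PrimeSpectrum.ext hm')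
      exact h3 (Groth.Agent.Lib.Flat55.FlatOverAt.flat_stalkMap_iso_comp m.hom _ _
        (pullbackLeftPullbackSndIso_hom_snd f u _) w (h V φ (m.hom w) e1 e2))
    have h5 := (Groth.Agent.S5223.result (IsPullback.of_hasPullback f u) z₀).1 key
    rw [hz₁] at h5
    exact h5

end Groth.Agent.S2562
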