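import Groth.Statements.S2564
import Groth.Agent.H47.FlatIntegralInj
import Mathlib.RingTheory.Extension.Presentation.Core

set_option autoImplicit false
open CategoryTheory AlgebraicGeometry
universe u
open EGA43

namespace Groth.Agent.S2564

attribute [local instance] Algebra.TensorProduct.rightAlgebra

open TensorProduct in
/-- Flatness of the stalk maps of a morphism of affine schemes. -/
theorem flat_stalkMap_spec {A B : Type u} [CommRing A] [CommRing B] [Algebra A B] (p : PrimeSpectrum B) :
    ((Spec.map (CommRingCat.ofHom (algebraMap A B))).stalkMap p).hom.Flat ↔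
      Module.Flat A (LocalizedModule p.asIdeal.primeCompl B) := by
  let q := p.asIdeal.comap (algebraMap A B)
  let φ := Localization.localRingHom q p.asIdeal (algebraMap A B) rfl
  have h1 : ((Spec.map (CommRingCat.ofHom (algebraMap A B))).stalkMap p).hom.Flat ↔ φ.Flat :=
    RingHom.Flat.respectsIso.arrow_mk_iso_iff
      (Scheme.arrowStalkMapSpecIso (CommRingCat.ofHom (algebraMap A B)) p)
  letI : Algebra (Localization.AtPrime q) (Localization.AtPrime p.asIdeal) := φ.toAlgebra
  haveI : IsScalarTower A (Localization.AtPrime q) (Localization.AtPrime p.asIdeal) :=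
    IsScalarTower.of_algebraMap_eq fun a => by
      show algebraMap A (Localization.AtPrime p.asIdeal) a = φ (algebraMap A (Localization.AtPrime q) a)
      rw [Localization.localRingHom_to_map, ← IsScalarTower.algebraMap_apply]
  rw [h1]
  refine (Module.flat_iff_of_isLocalization (Localization.AtPrime q) q.primeCompl
    (Localization.AtPrime p.asIdeal)).trans ?_
  let e := (IsLocalizedModule.iso p.asIdeal.primeCompl
    (Algebra.linearMap B (Localization.AtPrime p.asIdeal))).restrictScalars A
  exact ⟨fun _ => Module.Flat.of_linearEquiv e, fun _ => Module.Flat.of_linearEquiv e.symm⟩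

open CategoryTheory.Limits in
/-- Descent on a chart with a Noetherian model. -/
theorem flat_of_chart {A A' R₀ B₀ : Type u} [CommRing A] [CommRing A'] [CommRing R₀] [IsNoetherianRing R₀]
    [Algebra A A'] [Algebra.IsIntegral A A'] [Algebra R₀ A] [Algebra R₀ A'] [IsScalarTower R₀ A A']
    (hinj : Function.Injective (algebraMap A A')) [CommRing B₀] [Algebra R₀ B₀]
    [Algebra.FinitePresentation R₀ B₀] {X : Scheme.{u}} (f : X ⟶ Spec (CommRingCat.of A))
    (j : Spec (CommRingCat.of (TensorProduct R₀ A B₀)) ⟶ X) [IsOpenImmersion j]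
    (hj : j ≫ f = Spec.map (CommRingCat.ofHom (algebraMap A (TensorProduct R₀ A B₀))))
    (z : PrimeSpectrum (TensorProduct R₀ A B₀)) (x : X) (hz : j z = x)
    (h : ∀ x' : ↥(pullback f (Spec.map (CommRingCat.ofHom (algebraMap A A')))),
      (pullback.fst f _).base x' = x →
      ((pullback.snd f (Spec.map (CommRingCat.ofHom (algebraMap A A')))).stalkMap x').hom.Flat) :
    (f.stalkMap x).hom.Flat := by
  have hflat : Module.Flat A (LocalizedModule z.asIdeal.primeCompl (TensorProduct R₀ A B₀)) := by
    refine Groth.Agent.H47.FlatIntegralInj.flat_of_integral_injective (R₀ := R₀) (A' := A') hinj B₀ z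
      fun q' hq' => ?_
    let π : (TensorProduct R₀ A B₀) →+* (TensorProduct R₀ A' B₀) :=
      (Groth.Agent.H47.FlatLocusColim.stageMap (S₀ := B₀) (IsScalarTower.toAlgHom R₀ A A')).toRingHom
    let g := Spec.map (CommRingCat.ofHom (algebraMap A A'))
    let k : Spec (CommRingCat.of (TensorProduct R₀ A' B₀)) ⟶ pullback f g :=
      pullback.lift (Spec.map (CommRingCat.ofHom π) ≫ j) (Spec.map (CommRingCat.ofHom (algebraMap A' (TensorProduct R₀ A' B₀))))
        (by
          rw [Category.assoc, hj, ← Spec.map_comp, ← Spec.map_comp]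
          refine congrArg Spec.map (CommRingCat.hom_ext (RingHom.ext fun a => ?_))
          show π (algebraMap A (TensorProduct R₀ A B₀) a) = algebraMap A' (TensorProduct R₀ A' B₀) (algebraMap A A' a)
          show π (a ⊗ₜ[R₀] 1) = _
          rfl)
    letI : Algebra (TensorProduct R₀ A B₀) (TensorProduct R₀ A' B₀) := π.toAlgebra
    haveI : IsScalarTower A (TensorProduct R₀ A B₀) (TensorProduct R₀ A' B₀) :=
      IsScalarTower.of_algebraMap_eq (R := A) (S := (TensorProduct R₀ A B₀)) (A := (TensorProduct R₀ A' B₀)) fun a => rfl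
    haveI : IsScalarTower B₀ (TensorProduct R₀ A B₀) (TensorProduct R₀ A' B₀) :=
      IsScalarTower.of_algebraMap_eq (R := B₀) (S := (TensorProduct R₀ A B₀)) (A := (TensorProduct R₀ A' B₀)) fun b => by
      show (1 : A') ⊗ₜ[R₀] b = (IsScalarTower.toAlgHom R₀ A A') 1 ⊗ₜ[R₀] b
      rw [map_one]
    haveI : IsScalarTower R₀ (TensorProduct R₀ A B₀) (TensorProduct R₀ A' B₀) :=
      IsScalarTower.of_algebraMap_eq (R := R₀) (S := (TensorProduct R₀ A B₀)) (A := (TensorProduct R₀ A' B₀)) fun a => by
      show algebraMap R₀ A' a ⊗ₜ[R₀] (1 : B₀) = algebraMap A A' (algebraMap R₀ A a) ⊗ₜ[R₀] (1 : B₀)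
      rw [← IsScalarTower.algebraMap_apply]
    haveI : Algebra.IsPushout A A' (TensorProduct R₀ A B₀) (TensorProduct R₀ A' B₀) :=
      (Algebra.IsPushout.comp_iff R₀ A B₀ (TensorProduct R₀ A B₀)).1 inferInstance
    have sq : IsPullback (Spec.map (CommRingCat.ofHom (algebraMap (TensorProduct R₀ A B₀) (TensorProduct R₀ A' B₀))))
        (Spec.map (CommRingCat.ofHom (algebraMap A' (TensorProduct R₀ A' B₀))))
        (Spec.map (CommRingCat.ofHom (algebraMap A (TensorProduct R₀ A B₀)))) g :=
      (isPullback_SpecMap_of_isPushout _ _ _ _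
        (CommRingCat.isPushout_iff_isPushout.mpr (inferInstance : Algebra.IsPushout A A' (TensorProduct R₀ A B₀) (TensorProduct R₀ A' B₀)))).flip
    have hk : IsOpenImmersion k := by
      rw [← hj] at sq
      have sq' : IsPullback k (Spec.map (CommRingCat.ofHom π)) (pullback.fst f g) j := by
        refine IsPullback.of_right (h₁₂ := pullback.snd f g) (v₁₃ := g) ?_ ?_
          (IsPullback.of_hasPullback f g).flip
        · rw [pullback.lift_snd]
          exact sq.flip
        · exact pullback.lift_fst _ _ _
      exact MorphismProperty.of_isPullback sq'.flip inferInstance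
    let w : ↥(Spec (CommRingCat.of (TensorProduct R₀ A' B₀))) := q'
    have h1 : pullback.fst f g (k w) = x := by
      rw [← Scheme.Hom.comp_apply, pullback.lift_fst, Scheme.Hom.comp_apply, ← hz]
      exact congrArg (fun t => j t) hq'
    have h2 := h (k w) h1
    have h3 : ((k ≫ pullback.snd f g).stalkMap w).hom.Flat := by
      rw [Scheme.Hom.stalkMap_comp]
      exact RingHom.Flat.comp h2 (Flat.stalkMap k w)
    have e1 : k ≫ pullback.snd f g = Spec.map (CommRingCat.ofHom (algebraMap A' (TensorProduct R₀ A' B₀))) :=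
      pullback.lift_snd _ _ _
    rw [e1] at h3
    exact (flat_stalkMap_spec q').1 h3
  let w : ↥(Spec (CommRingCat.of (TensorProduct R₀ A B₀))) := z
  have h4 : ((Spec.map (CommRingCat.ofHom (algebraMap A (TensorProduct R₀ A B₀)))).stalkMap w).hom.Flat :=
    (flat_stalkMap_spec z).2 hflat
  rw [← hj, Scheme.Hom.stalkMap_comp] at h4
  have hb : Function.Bijective (j.stalkMap w).hom := ConcreteCategory.bijective_of_isIso _
  have h5 : (f.stalkMap (j w)).hom.Flat := by
    have e2 : (f.stalkMap (j w)).hom =
        (RingEquiv.ofBijective _ hb).symm.toRingHom.comp ((j.stalkMap w).hom.comp (f.stalkMap (j w)).hom) :=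
      RingHom.ext fun a => ((RingEquiv.ofBijective _ hb).symm_apply_apply _).symm
    rw [e2]
    exact RingHom.Flat.comp h4 (RingHom.Flat.of_bijective (RingEquiv.ofBijective _ hb).symm.bijective)
  rw [show j w = x from hz] at h5
  exact h5


open CategoryTheory.Limits in
/-- Let A ⟶ A' be an injective ring homomorphism making A' integral over A, f : X ⟶ Spec A locally of
finite presentation, x a point of X, and X' = X ×_{Spec A} Spec A'. If X' ⟶ Spec A' is flat at every
point of X' lying over x, then f is flat at x. -/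
theorem result {A A' : Type u} [CommRing A] [CommRing A']
    [Algebra A A'] [Algebra.IsIntegral A A'] (hinj : Function.Injective (algebraMap A A'))
    {X : Scheme.{u}} (f : X ⟶ Spec (CommRingCat.of A)) [LocallyOfFinitePresentation f] (x : X)
    (h : ∀ x' : ↥(pullback f (Spec.map (CommRingCat.ofHom (algebraMap A A')))),
      (pullback.fst f _).base x' = x →
      ((pullback.snd f (Spec.map (CommRingCat.ofHom (algebraMap A A')))).stalkMap x').hom.Flat) :
    (f.stalkMap x).hom.Flat := by
  classical
  obtain ⟨U, hU, hxU, -⟩ := exists_isAffineOpen_mem_and_subset (X := X) (x := x) (U := ⊤) trivial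
  let φ : CommRingCat.of A ⟶ Γ(X, U) := Spec.preimage (hU.fromSpec ≫ f)
  let B : Type u := Γ(X, U)
  letI : Algebra A B := φ.hom.toAlgebra
  haveI : Algebra.FinitePresentation A B := by
    have h1 : LocallyOfFinitePresentation (Spec.map φ) := by
      rw [Spec.map_preimage]
      infer_instance
    exact (HasRingHomProperty.Spec_iff (P := @LocallyOfFinitePresentation)).1 h1
  -- a Noetherian model
  let P := Algebra.Presentation.ofFinitePresentation A B
  let R₀ := Algebra.adjoin ℤ P.coeffs
  haveI : P.HasCoeffs R₀ := ⟨by simp [R₀]⟩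
  haveI : Algebra.FiniteType ℤ R₀ :=
    R₀.fg_iff_finiteType.1 ⟨P.finite_coeffs.toFinset, by simp [R₀]⟩
  haveI : IsNoetherianRing R₀ := Algebra.FiniteType.isNoetherianRing ℤ R₀
  let B₀ : Type u := P.ModelOfHasCoeffs R₀
  let e : TensorProduct R₀ A B₀ ≃ₐ[A] B := P.tensorModelOfHasCoeffsEquiv R₀
  -- the chart
  let T : Type u := TensorProduct R₀ A B₀
  let T' : Type u := TensorProduct R₀ A' B₀
  let θ : B →+* T := e.symm.toAlgHom.toRingHom
  let θc : Γ(X, U) ⟶ CommRingCat.of T := CommRingCat.ofHom θ
  let j : Spec (CommRingCat.of T) ⟶ X := Spec.map θc ≫ hU.fromSpec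
  haveI : IsIso θc := by
    rw [ConcreteCategory.isIso_iff_bijective]
    exact e.symm.bijective
  haveI : IsOpenImmersion j := by
    dsimp only [j]
    infer_instance
  have hj : j ≫ f = Spec.map (CommRingCat.ofHom (algebraMap A T)) := by
    rw [Category.assoc, ← Spec.map_preimage (hU.fromSpec ≫ f), ← Spec.map_comp]
    refine congrArg Spec.map (CommRingCat.hom_ext (RingHom.ext fun a => ?_))
    exact e.symm.commutes a
  obtain ⟨z, hz⟩ : ∃ z : PrimeSpectrum T, j z = x := by
    have hx : x ∈ Set.range hU.fromSpec := by rw [hU.range_fromSpec]; exact hxU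
    obtain ⟨w, hw⟩ := hx
    obtain ⟨z, rfl⟩ := (asIso (Spec.map θc)).schemeIsoToHomeo.surjective w
    exact ⟨z, hw⟩
  exact flat_of_chart hinj f j hj z x hz h

end Groth.Agent.S2564
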