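import Groth.Statements.S2565
import Groth.Agent.H91.GeomFlat.Main
import Groth.Agent.H47.FlatChartModel
-- import your own Groth.Agent.* helpers here

set_option autoImplicit false
open CategoryTheory AlgebraicGeometry
universe u
open EGA43

namespace Groth.Agent.S2565

attribute [local instance] Algebra.TensorProduct.rightAlgebra

open Groth.Agent.H47

open CategoryTheory.Limits in
/-- A flat point of the base change lies on the base change of the chart. -/
theorem exists_point_of_mem {A A' R₀ B₀ : Type u} [CommRing A] [CommRing A'] [CommRing R₀] [Algebra A A']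
    [Algebra R₀ A] [Algebra R₀ A'] [IsScalarTower R₀ A A'] [CommRing B₀] [Algebra R₀ B₀]
    {X : Scheme.{u}} (f : X ⟶ Spec (CommRingCat.of A))
    (j : Spec (CommRingCat.of (TensorProduct R₀ A B₀)) ⟶ X) [IsOpenImmersion j]
    (hj : j ≫ f = Spec.map (CommRingCat.ofHom (algebraMap A (TensorProduct R₀ A B₀))))
    (z : PrimeSpectrum (TensorProduct R₀ A B₀))
    (x' : ↥(pullback f (Spec.map (CommRingCat.ofHom (algebraMap A A')))))
    (hx' : pullback.fst f (Spec.map (CommRingCat.ofHom (algebraMap A A'))) x' = j z) :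
    ∃ q' : PrimeSpectrum (TensorProduct R₀ A' B₀),
      q'.comap (FlatLocusColim.stageMap (S₀ := B₀) (IsScalarTower.toAlgHom R₀ A A')).toRingHom = z ∧
      pullback.snd f (Spec.map (CommRingCat.ofHom (algebraMap A A'))) x' =
        (q'.comap (algebraMap A' (TensorProduct R₀ A' B₀)) : PrimeSpectrum A') ∧
      (((pullback.snd f (Spec.map (CommRingCat.ofHom (algebraMap A A')))).stalkMap x').hom.Flat →
        Module.Flat A' (LocalizedModule q'.asIdeal.primeCompl (TensorProduct R₀ A' B₀))) := by
  let π : (TensorProduct R₀ A B₀) →+* (TensorProduct R₀ A' B₀) :=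
    (FlatLocusColim.stageMap (S₀ := B₀) (IsScalarTower.toAlgHom R₀ A A')).toRingHom
  let g := Spec.map (CommRingCat.ofHom (algebraMap A A'))
  have hπ : π.comp (algebraMap A (TensorProduct R₀ A B₀)) =
      (algebraMap A' (TensorProduct R₀ A' B₀)).comp (algebraMap A A') := RingHom.ext fun a => by
    show π (a ⊗ₜ[R₀] 1) = _
    simp [π, FlatLocusColim.stageMap]
  let k : Spec (CommRingCat.of (TensorProduct R₀ A' B₀)) ⟶ pullback f g :=
    pullback.lift (Spec.map (CommRingCat.ofHom π) ≫ j)
      (Spec.map (CommRingCat.ofHom (algebraMap A' (TensorProduct R₀ A' B₀))))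
      (by
        rw [Category.assoc, hj, ← Spec.map_comp, ← Spec.map_comp, ← CommRingCat.ofHom_comp,
          ← CommRingCat.ofHom_comp, hπ])
  letI : Algebra (TensorProduct R₀ A B₀) (TensorProduct R₀ A' B₀) := π.toAlgebra
  haveI : IsScalarTower A (TensorProduct R₀ A B₀) (TensorProduct R₀ A' B₀) :=
    IsScalarTower.of_algebraMap_eq (R := A) (S := (TensorProduct R₀ A B₀))
      (A := (TensorProduct R₀ A' B₀)) fun a => rfl
  haveI : IsScalarTower B₀ (TensorProduct R₀ A B₀) (TensorProduct R₀ A' B₀) :=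
    IsScalarTower.of_algebraMap_eq (R := B₀) (S := (TensorProduct R₀ A B₀))
      (A := (TensorProduct R₀ A' B₀)) fun b => by
    show (1 : A') ⊗ₜ[R₀] b = (IsScalarTower.toAlgHom R₀ A A') 1 ⊗ₜ[R₀] b
    rw [map_one]
  haveI : IsScalarTower R₀ (TensorProduct R₀ A B₀) (TensorProduct R₀ A' B₀) :=
    IsScalarTower.of_algebraMap_eq (R := R₀) (S := (TensorProduct R₀ A B₀))
      (A := (TensorProduct R₀ A' B₀)) fun a => by
    show algebraMap R₀ A' a ⊗ₜ[R₀] (1 : B₀) = algebraMap A A' (algebraMap R₀ A a) ⊗ₜ[R₀] (1 : B₀)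
    rw [← IsScalarTower.algebraMap_apply]
  haveI : Algebra.IsPushout A A' (TensorProduct R₀ A B₀) (TensorProduct R₀ A' B₀) :=
    (Algebra.IsPushout.comp_iff R₀ A B₀ (TensorProduct R₀ A B₀)).1 inferInstance
  have sq : IsPullback (Spec.map (CommRingCat.ofHom (algebraMap (TensorProduct R₀ A B₀) (TensorProduct R₀ A' B₀))))
      (Spec.map (CommRingCat.ofHom (algebraMap A' (TensorProduct R₀ A' B₀))))
      (Spec.map (CommRingCat.ofHom (algebraMap A (TensorProduct R₀ A B₀)))) g :=
    (isPullback_SpecMap_of_isPushout _ _ _ _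
      (CommRingCat.isPushout_iff_isPushout.mpr
        (inferInstance : Algebra.IsPushout A A' (TensorProduct R₀ A B₀) (TensorProduct R₀ A' B₀)))).flip
  rw [← hj] at sq
  have sq' : IsPullback k (Spec.map (CommRingCat.ofHom π)) (pullback.fst f g) j := by
    refine IsPullback.of_right (h₁₂ := pullback.snd f g) (v₁₃ := g) ?_ ?_
      (IsPullback.of_hasPullback f g).flip
    · rw [pullback.lift_snd]
      exact sq.flip
    · exact pullback.lift_fst _ _ _
  have hk : IsOpenImmersion k := MorphismProperty.of_isPullback sq'.flip inferInstance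
  obtain ⟨w, hw₁, hw₂⟩ := Scheme.Pullback.exists_preimage_pullback (f := pullback.fst f g) (g := j)
    (x' : ↥(pullback f g)) z hx'
  let q' : ↥(Spec (CommRingCat.of (TensorProduct R₀ A' B₀))) := sq'.isoPullback.inv w
  have hkq : k q' = x' := by
    rw [← Scheme.Hom.comp_apply, IsPullback.isoPullback_inv_fst, hw₁]
  have hπq : Spec.map (CommRingCat.ofHom π) q' = z := by
    rw [← Scheme.Hom.comp_apply, IsPullback.isoPullback_inv_snd, hw₂]
  have e1 : k ≫ pullback.snd f g = Spec.map (CommRingCat.ofHom (algebraMap A' (TensorProduct R₀ A' B₀))) :=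
    pullback.lift_snd _ _ _
  refine ⟨q', hπq, ?_, fun h2 => ?_⟩
  · rw [← hkq, ← Scheme.Hom.comp_apply, e1]
    rfl
  · have h2' : ((pullback.snd f g).stalkMap (k q')).hom.Flat := by
      rw [hkq]
      exact h2
    have h3 : ((k ≫ pullback.snd f g).stalkMap q').hom.Flat := by
      rw [Scheme.Hom.stalkMap_comp]
      exact RingHom.Flat.comp h2' (Flat.stalkMap k q')
    rw [e1] at h3
    exact (FlatChartModel.flat_stalkMap_spec q').1 h3

/-- The normalisation as the integral closure in the fraction field. -/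
theorem exists_normRed {A : Type u} [CommRing A] [IsDomain A] :
    ∃ g : CAlg2.normRed A →+* integralClosure A (FractionRing A), Function.Surjective g ∧
      ∀ a, g (algebraMap (CAlg2.red A) _ (Ideal.Quotient.mk (nilradical A) a)) = algebraMap A _ a := by
  have h0 : nilradical A = ⊥ := nilradical_eq_zero A
  haveI : (nilradical A).IsPrime := h0 ▸ Ideal.isPrime_bot
  let e : CAlg2.red A ≃+* A := (Ideal.quotEquivOfEq h0).trans (RingEquiv.quotientBot A)
  let E : FractionRing (CAlg2.red A) ≃+* FractionRing A := IsFractionRing.ringEquivOfRingEquiv e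
  have hE : ∀ r, E (algebraMap (CAlg2.red A) _ r) = algebraMap A (FractionRing A) (e r) := fun r =>
    IsFractionRing.ringEquivOfRingEquiv_algebraMap e r
  have hfwd : ∀ x : FractionRing (CAlg2.red A), IsIntegral (CAlg2.red A) x → IsIntegral A (E x) := by
    rintro x ⟨p, hp, hpx⟩
    refine ⟨p.map e.toRingHom, hp.map _, ?_⟩
    rw [Polynomial.eval₂_map]
    have he : (algebraMap A (FractionRing A)).comp e.toRingHom =
        E.toRingHom.comp (algebraMap (CAlg2.red A) _) := RingHom.ext fun r => (hE r).symm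
    rw [he]
    refine (Polynomial.hom_eval₂ p _ E.toRingHom x).symm.trans ?_
    rw [hpx, map_zero]
  have hbwd : ∀ y : FractionRing A, IsIntegral A y → IsIntegral (CAlg2.red A) (E.symm y) := by
    rintro y ⟨p, hp, hpy⟩
    refine ⟨p.map e.symm.toRingHom, hp.map _, ?_⟩
    rw [Polynomial.eval₂_map]
    have he : (algebraMap (CAlg2.red A) (FractionRing (CAlg2.red A))).comp e.symm.toRingHom =
        E.symm.toRingHom.comp (algebraMap A _) := RingHom.ext fun r => by
      refine E.injective ?_
      show E (algebraMap (CAlg2.red A) _ (e.symm r)) = E (E.symm (algebraMap A (FractionRing A) r))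
      rw [hE, e.apply_symm_apply, E.apply_symm_apply]
    rw [he]
    refine (Polynomial.hom_eval₂ p _ E.symm.toRingHom y).symm.trans ?_
    rw [hpy, map_zero]
  let g : CAlg2.normRed A →+* integralClosure A (FractionRing A) :=
    (E.toRingHom.comp (algebraMap (CAlg2.normRed A) _)).codRestrict _ fun x => hfwd _ x.2
  exact ⟨g, fun y => ⟨⟨E.symm y, hbwd _ y.2⟩, Subtype.ext (E.apply_symm_apply y.1)⟩,
    fun a => Subtype.ext ((hE _).trans rfl)⟩


open CategoryTheory.Limits in
/-- Let A be a local domain which is geometrically unibranch, A' a local ring and A ⟶ A' an injective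
local homomorphism. Let f : X ⟶ Spec A be locally of finite presentation, x a point of X over the
closed point, and X' = X ×_{Spec A} Spec A'. If there is a point x' of X' lying over x and over the
closed point of Spec A' at which X' ⟶ Spec A' is flat, then f is flat at x. -/
theorem result {A A' : Type u} [CommRing A] [IsDomain A] [IsLocalRing A]
    (hA : CAlg2.IsGeomUnibranch A) [CommRing A'] [IsLocalRing A'] [Algebra A A'] [IsLocalHom (algebraMap A A')]
    (hinj : Function.Injective (algebraMap A A'))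
    {X : Scheme.{u}} (f : X ⟶ Spec (CommRingCat.of A)) [LocallyOfFinitePresentation f] (x : X)
    (hx : f.base x = IsLocalRing.closedPoint A)
    (h : ∃ x' : ↥(pullback f (Spec.map (CommRingCat.ofHom (algebraMap A A')))),
      (pullback.fst f _).base x' = x ∧
      (pullback.snd f (Spec.map (CommRingCat.ofHom (algebraMap A A')))).base x' = IsLocalRing.closedPoint A' ∧
      ((pullback.snd f (Spec.map (CommRingCat.ofHom (algebraMap A A')))).stalkMap x').hom.Flat) :
    (f.stalkMap x).hom.Flat := by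
  obtain ⟨⟨hdom, hloc⟩, hins⟩ := hA
  haveI := hloc
  obtain ⟨g, hg, hgA⟩ := exists_normRed (A := A)
  haveI hloc₁ : IsLocalRing (integralClosure A (FractionRing A)) := IsLocalRing.of_surjective' g hg
  haveI : IsLocalHom g := IsLocalHom.of_surjective g hg
  have hpi : ∀ (Ω : Type u) [Field Ω] (χ₁ χ₂ : integralClosure A (FractionRing A) →+* Ω),
      (∀ a : A, χ₁ (algebraMap A _ a) = χ₂ (algebraMap A _ a)) →
      (∀ x, ¬ IsUnit x → χ₁ x = 0) → (∀ x, ¬ IsUnit x → χ₂ x = 0) → χ₁ = χ₂ := by
    intro Ω _ χ₁ χ₂ hA h₁ h₂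
    let m := IsLocalRing.maximalIdeal (CAlg2.normRed A)
    have hm : ∀ χ : integralClosure A (FractionRing A) →+* Ω, (∀ x, ¬ IsUnit x → χ x = 0) →
        ∀ x ∈ m, χ (g x) = 0 := fun χ hχ x hx =>
      hχ _ fun hu => (IsLocalRing.mem_maximalIdeal x).1 hx (IsLocalHom.map_nonunit x hu)
    let φ₁ := Ideal.Quotient.lift m (χ₁.comp g) (hm χ₁ h₁)
    let φ₂ := Ideal.Quotient.lift m (χ₂.comp g) (hm χ₂ h₂)
    letI := Ideal.Quotient.field m
    obtain ⟨p, hp⟩ : ∃ p, ExpChar (CAlg2.normRed A ⧸ m) p := ExpChar.exists _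
    haveI := hp
    haveI : ExpChar Ω p := expChar_of_injective_ringHom φ₁.injective p
    refine RingHom.ext fun y => ?_
    obtain ⟨x, rfl⟩ := hg y
    obtain ⟨n, a, ha⟩ := hins m (Ideal.Quotient.mk m x)
    rw [ringExpChar.eq (CAlg2.normRed A ⧸ m) p] at ha
    apply iterateFrobenius_inj Ω p n
    show χ₁ (g x) ^ p ^ n = χ₂ (g x) ^ p ^ n
    have e1 : χ₁ (g x) ^ p ^ n = φ₁ (Ideal.Quotient.mk m x ^ p ^ n) := by rw [map_pow]; rfl
    have e2 : χ₂ (g x) ^ p ^ n = φ₂ (Ideal.Quotient.mk m x ^ p ^ n) := by rw [map_pow]; rfl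
    rw [e1, e2, ← ha]
    show χ₁ (g (algebraMap (CAlg2.red A) _ (Ideal.Quotient.mk (nilradical A) a))) =
      χ₂ (g (algebraMap (CAlg2.red A) _ (Ideal.Quotient.mk (nilradical A) a)))
    rw [hgA]
    exact hA a
  obtain ⟨x', hx₁, hx₂, hflat⟩ := h
  obtain ⟨R₀, _, B₀, _, _, _, j, _, z, hj, hz⟩ := FlatChartModel.exists_model f x
  subst hz
  obtain ⟨q', hq', hm', hfl⟩ := exists_point_of_mem (A' := A') f j hj z x' hx₁
  refine FlatChartModel.flat_of_chart f j hj z _ rfl ?_
  refine Groth.Agent.H91.GeomFlat.flat_of_point B₀ (A' := A') hloc₁ hpi hinj z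
    (FlatChartModel.comap_eq_maximalIdeal f j hj z hx) q' hq' ?_ (hfl hflat)
  exact congrArg PrimeSpectrum.asIdeal (hm'.symm.trans hx₂)

end Groth.Agent.S2565
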