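import Groth.Statements.S2566
import Groth.Agent.H47.FlatValuative
import Groth.Agent.H47.FlatChartModel

set_option autoImplicit false
open CategoryTheory AlgebraicGeometry
universe u
open EGA43

namespace Groth.Agent.S2566

attribute [local instance] Algebra.TensorProduct.rightAlgebra

/-- The normalisation of a unibranch domain is local. -/
theorem isLocalRing_normalisation {A : Type u} [CommRing A] [IsDomain A] [IsLocalRing A]
    (hA : CAlg2.IsUnibranch A) : IsLocalRing (integralClosure A (FractionRing A)) := by
  obtain ⟨hdom, hloc⟩ := hA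
  haveI := hdom
  haveI := hloc
  have h0 : nilradical A = ⊥ := nilradical_eq_zero A
  let e : CAlg2.red A ≃+* A := (Ideal.quotEquivOfEq h0).trans (RingEquiv.quotientBot A)
  let E : FractionRing (CAlg2.red A) ≃+* FractionRing A := IsFractionRing.ringEquivOfRingEquiv e
  have hE : ∀ r, E (algebraMap (CAlg2.red A) _ r) = algebraMap A (FractionRing A) (e r) := fun r =>
    IsFractionRing.ringEquivOfRingEquiv_algebraMap e r
  have hfwd : ∀ x : FractionRing (CAlg2.red A), IsIntegral (CAlg2.red A) x → IsIntegral A (E x) := by
    rintro x ⟨p, hp, hpx⟩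
    refine ⟨p.map e.toRingHom, hp.map _, ?_⟩
    rw [Polynomial.eval₂_map]
    have he : (algebraMap A (FractionRing A)).comp e.toRingHom =
        E.toRingHom.comp (algebraMap (CAlg2.red A) _) := RingHom.ext fun r => (hE r).symm
    rw [he]
    refine (Polynomial.hom_eval₂ p _ E.toRingHom x).symm.trans ?_
    rw [hpx, map_zero]
  have hbwd : ∀ y : FractionRing A, IsIntegral A y → IsIntegral (CAlg2.red A) (E.symm y) := by
    rintro y ⟨p, hp, hpy⟩
    refine ⟨p.map e.symm.toRingHom, hp.map _, ?_⟩
    rw [Polynomial.eval₂_map]
    have he : (algebraMap (CAlg2.red A) (FractionRing (CAlg2.red A))).comp e.symm.toRingHom =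
        E.symm.toRingHom.comp (algebraMap A _) := RingHom.ext fun r => by
      refine E.injective ?_
      show E (algebraMap (CAlg2.red A) _ (e.symm r)) = E (E.symm (algebraMap A (FractionRing A) r))
      rw [hE, e.apply_symm_apply, E.apply_symm_apply]
    rw [he]
    refine (Polynomial.hom_eval₂ p _ E.symm.toRingHom y).symm.trans ?_
    rw [hpy, map_zero]
  let g : CAlg2.normRed A →+* integralClosure A (FractionRing A) :=
    (E.toRingHom.comp (algebraMap (CAlg2.normRed A) _)).codRestrict _ fun x => hfwd _ x.2
  exact IsLocalRing.of_surjective' g fun y =>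
    ⟨⟨E.symm y, hbwd _ y.2⟩, Subtype.ext (E.apply_symm_apply y.1)⟩

open CategoryTheory.Limits in
/-- Let A be a local domain which is unibranch, A' a local ring and A ⟶ A' an injective local
homomorphism. Let f : X ⟶ Spec A be locally of finite presentation, x a point of X over the closed
point, and X' = X ×_{Spec A} Spec A'. If X' ⟶ Spec A' is flat at every point of X' lying over x and
over the closed point of Spec A', then f is flat at x. -/
theorem result {A A' : Type u} [CommRing A] [IsDomain A] [IsLocalRing A]
    (hA : CAlg2.IsUnibranch A) [CommRing A'] [IsLocalRing A'] [Algebra A A'] [IsLocalHom (algebraMap A A')]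
    (hinj : Function.Injective (algebraMap A A'))
    {X : Scheme.{u}} (f : X ⟶ Spec (CommRingCat.of A)) [LocallyOfFinitePresentation f] (x : X)
    (hx : f.base x = IsLocalRing.closedPoint A)
    (h : ∀ x' : ↥(pullback f (Spec.map (CommRingCat.ofHom (algebraMap A A')))),
      (pullback.fst f _).base x' = x →
      (pullback.snd f (Spec.map (CommRingCat.ofHom (algebraMap A A')))).base x' = IsLocalRing.closedPoint A' →
      ((pullback.snd f (Spec.map (CommRingCat.ofHom (algebraMap A A')))).stalkMap x').hom.Flat) :
    (f.stalkMap x).hom.Flat := by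
  obtain ⟨R₀, _, B₀, _, _, _, j, _, z, hj, hz⟩ := Groth.Agent.H47.FlatChartModel.exists_model f x
  subst hz
  refine Groth.Agent.H47.FlatChartModel.flat_of_chart f j hj z _ rfl ?_
  refine Groth.Agent.H47.FlatValuative.flat_of_unibranch B₀ (A' := A') (isLocalRing_normalisation hA) hinj z
    (Groth.Agent.H47.FlatChartModel.comap_eq_maximalIdeal f j hj z hx) fun q' hq' hm' => ?_
  obtain ⟨w, h1, h2, h3⟩ := Groth.Agent.H47.FlatChartModel.exists_point (A' := A') f j hj z q' hq'
  refine h3 (h w h1 ?_)
  exact h2.trans (PrimeSpectrum.ext hm')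

end Groth.Agent.S2566
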