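import Groth.Statements.S2567
import Groth.Agent.H46.NoethModel

set_option autoImplicit false
open CategoryTheory AlgebraicGeometry
universe u
open EGA43 CategoryTheory.Limits TensorProduct

namespace Groth.Agent.S2567

/-- Reduced case (the source only needs f flat and of finite presentation at the point x): let f : X ⟶ Y
be flat and locally of finite presentation, x a point of X with y = f x. If the local ring of Y at y
is reduced and the fibre of f over y is geometrically reduced at x, then the local ring of X at x is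
reduced. -/
theorem result {X Y : Scheme.{u}} (f : X ⟶ Y) [Flat f]
    [LocallyOfFinitePresentation f] (x : X) (hy : FBase.IsReducedAt Y (f.base x))
    (hx : FBase.IsGeomReducedAt (f.fiberToSpecResidueField (f.base x)) (f.asFiber x)) :
    FBase.IsReducedAt X x := by
  show _root_.IsReduced (X.presheaf.stalk x)
  obtain ⟨R, A, R₀, A₀, _, _, _, _, j, v, f₁, q, hj, hv, ⟨u, rfl⟩, hfac, hq, _, _, hfl₀, hfp, -, -⟩ :=
    Groth.Agent.H46.NoethModel.exists_model_alg f x (Flat.stalkMap f x)
  haveI := hfl₀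
  haveI := hfp
  have hgr : Groth.Agent.H46.GRAt.GRAt f₁ u := by
    rw [← Groth.Agent.H46.NoethModel.grAt_iff_of_mono v, ← hfac,
      Groth.Agent.H46.GRAt.openImmersion_iff]
    exact (Groth.Agent.H46.GRAt.grAt_iff f _).2 hx
  have hfu : f (j u) = v (f₁ u) := by
    rw [← Scheme.Hom.comp_apply, hfac, Scheme.Hom.comp_apply]
  let C : Type u := (Spec R).presheaf.stalk (f₁ u)
  haveI : _root_.IsReduced C := Groth.Agent.H46.GRAt.isReduced_stalk_of_iso v (f₁ u)
    (by rw [← hfu]; exact hy)
  let t : Spec (CommRingCat.of C) ⟶ Spec R := (Spec R).fromSpecStalk (f₁ u)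
  obtain ⟨u', hu', -⟩ := Scheme.Pullback.exists_preimage_pullback (f := f₁) (g := t) u
    (IsLocalRing.closedPoint C) (Scheme.fromSpecStalk_closedPoint).symm
  let ψ : R₀ →+* C :=
    (Spec.preimage (t ≫ Spec.map (CommRingCat.ofHom (algebraMap R₀ R)))).hom
  letI : Algebra R₀ C := ψ.toAlgebra
  have hψ : Spec.map (CommRingCat.ofHom (algebraMap R₀ C)) =
      t ≫ Spec.map (CommRingCat.ofHom (algebraMap R₀ R)) := Spec.map_preimage _
  have sq₁ := (IsPullback.of_hasPullback f₁ t).paste_horiz hq
  rw [← hψ] at sq₁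
  let e := sq₁.isoIsPullback _ _ (Groth.Agent.H46.UnivOpenFinite.isPullback_pr (R₀ := R₀) (A := A₀) C)
  let Q : PrimeSpectrum (C ⊗[R₀] A₀) := e.hom u'
  have hQ : Groth.Agent.H46.GRAt.GRAt (Groth.Agent.H46.UnivOpenFinite.sm C (C ⊗[R₀] A₀)) Q := by
    refine (Groth.Agent.H46.GRAt.openImmersion_iff _ e.hom u').1 ?_
    rw [IsPullback.isoIsPullback_hom_snd]
    exact Groth.Agent.H46.GRAt.baseChange (IsPullback.of_hasPullback f₁ t) u' (hu'.symm ▸ hgr)
  have hred := Groth.Agent.H46.NoethModel.isReduced_stalk_tensor C Q hQ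
  let S := (Spec (CommRingCat.of (C ⊗[R₀] A₀))).presheaf.stalk Q
  haveI : _root_.IsReduced S := by
    haveI := hred
    let ε := (StructureSheaf.stalkIso (C ⊗[R₀] A₀) Q).symm
    exact isReduced_of_injective (R := S) ε.toRingEquiv.toRingHom ε.injective
  have h1 : _root_.IsReduced ((pullback f₁ t).presheaf.stalk u') :=
    Groth.Agent.H46.GRAt.isReduced_stalk_of_iso e.hom u' ‹_›
  haveI : Flat t := Groth.Agent.H52.FBase.StalkBC.flat_fromSpecStalk (f₁ u)
  rw [← hu']
  exact Groth.Agent.H46.GRAt.isReduced_stalk_of_iso' j _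
    (Groth.Agent.H46.GRAt.isReduced_stalk_of_flat (pullback.fst f₁ t) u' h1)

end Groth.Agent.S2567
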