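import Groth.Statements.S2569
import Groth.Agent.H46.ProperAt.Uses

set_option autoImplicit false
open CategoryTheory CategoryTheory.Limits AlgebraicGeometry
universe u
open EGA43

namespace Groth.Agent.S2569

/-- Let Y be locally Noetherian and f : X ⟶ Y separated, of finite type and universally submersive
(every base change is a topological quotient map onto its target), with all fibres geometrically
connected. If the fibre over a point y is proper over the residue field of y, then f is proper over
some open neighbourhood of y. -/
theorem result {X Y : Scheme.{u}} [IsLocallyNoetherian Y] (f : X ⟶ Y)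
    [IsSeparated f] [LocallyOfFiniteType f] [QuasiCompact f]
    (hsub : MorphismProperty.universally (topologically fun g => Topology.IsQuotientMap g) f)
    (hconn : ∀ y : Y, GeometricallyConnected (f.fiberToSpecResidueField y))
    (y : Y) (hy : IsProper (f.fiberToSpecResidueField y)) :
    ∃ U : Y.Opens, y ∈ U ∧ IsProper (f ∣_ U) := by
  haveI : IsLocallyNoetherian X := LocallyOfFiniteType.isLocallyNoetherian f
  obtain ⟨U, hyU, hC, hP⟩ := H46.ProperAt.main f (Z := (Set.univ : Set X)) .univ
    (fun _ _ R => IsDiscreteValuationRing R) (fun z c h hne => H46.ProperAt.center_dvr z c h hne)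
    (H46.ProperAt.closure_proper_dvr f .univ)
    (fun y' _ => by
      rw [Set.univ_inter]
      exact H46.ProperAt.gConn_of_geometricallyConnected f y' (hconn y'))
    (fun y' _ => ⟨Set.univ, isOpen_univ, rfl⟩) (fun _ _ => Set.subset_univ _)
    (by rw [Set.univ_inter]; exact H46.ProperAt.propSet_fibre_self f y hy)
    fun L _ R hR φ _ => by
      haveI := hR
      refine H46.ProperAt.link_dvr f φ Set.univ fun ⟨W, hW, hWE⟩ => ?_
      rw [Set.preimage_univ, Set.inter_univ, Set.inter_univ] at hWE
      refine H46.ProperAt.not_isOpen_closedPoint R ?_
      exact ((hsub _ _ _ (IsPullback.of_hasPullback f φ).flip).isOpen_preimage).1 (hWE ▸ hW)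
  exact ⟨U, hyU, H46.ProperAt.isProper_restrict_of_univ f hC hP⟩

end Groth.Agent.S2569
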