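import Groth.Statements.S2570
import Groth.Agent.H46.LocSec.Global

set_option autoImplicit false
open CategoryTheory AlgebraicGeometry
universe u
open EGA43

namespace Groth.Agent.S2570

open CategoryTheory.Limits in
/-- Let Y be a Noetherian scheme and f : X ⟶ Y a universally open, surjective morphism locally of finite
type. Then there is a finite surjective morphism g : Y' ⟶ Y such that the base change X ×_Y Y' ⟶ Y'
admits a section over some open neighbourhood of every point of Y'. -/
theorem result {X Y : Scheme.{u}} [IsNoetherian Y] (f : X ⟶ Y)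
    [UniversallyOpen f] [Surjective f] [LocallyOfFiniteType f] :
    ∃ (Y' : Scheme.{u}) (g : Y' ⟶ Y), IsFinite g ∧ Surjective g ∧
      ∀ y' : Y', ∃ U : Y'.Opens, y' ∈ U ∧
        ∃ s : (↑U : Scheme.{u}) ⟶ pullback f g, s ≫ pullback.snd f g = U.ι := by
  obtain ⟨Y', g, hg, hgs, hsec⟩ := H46.LocSec.Global.exists_global f
  refine ⟨Y', g, hg, hgs, fun y' => ?_⟩
  obtain ⟨W, j, hj, hy, t, ht⟩ := hsec y'
  refine ⟨j.opensRange, hy, pullback.lift (j.isoOpensRange.inv ≫ t) j.opensRange.ι ?_, pullback.lift_snd _ _ _⟩
  rw [Category.assoc, ht, ← Category.assoc, Scheme.Hom.isoOpensRange_inv_comp]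

end Groth.Agent.S2570
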