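import Groth.Statements.S2572
import Groth.Agent.H46.UnibranchDim1

set_option autoImplicit false
open CategoryTheory AlgebraicGeometry
universe u
open EGA43

namespace Groth.Agent.S2572

/-- Let Y be an irreducible locally Noetherian scheme whose local rings are regular of dimension at most
one, f : X ⟶ Y locally of finite type, and y a point of Y. If every irreducible component of X
meeting the fibre over y has dense image in Y, then there is an open subset U of X containing that
fibre such that the restriction of f to U is universally open. -/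
theorem result {X Y : Scheme.{u}} [IsLocallyNoetherian Y]
    [IrreducibleSpace Y]
    (hY : ∀ y : Y, IsRegularLocalRing (Y.presheaf.stalk y) ∧ ringKrullDim (Y.presheaf.stalk y) ≤ 1)
    (f : X ⟶ Y) [LocallyOfFiniteType f] (y : Y)
    (h : ∀ Z ∈ irreducibleComponents (X : Type u), (Z ∩ f.base ⁻¹' {y}).Nonempty → Dense (f.base '' Z)) :
    ∃ U : X.Opens, f.base ⁻¹' {y} ⊆ (U : Set X) ∧ UniversallyOpen (U.ι ≫ f) := by
  obtain ⟨U, hU, hgen⟩ := Groth.Agent.H46.UnibranchDim1.exists_open_dominant f hY y h
  refine ⟨U, hU, Groth.Agent.H46.UnivOpen.universallyOpen_of_forall _ fun u =>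
    Groth.Agent.H46.UnibranchDim1.isUnivOpenAt_of_dominant (U.ι ≫ f) hY fun w hw _ => ?_⟩
  rw [Scheme.Hom.comp_apply]
  refine hgen _ (fun a ha => ?_) w.2
  obtain ⟨v, rfl⟩ : a ∈ Set.range U.ι := by
    rw [Scheme.Opens.range_ι]; exact ha.mem_open U.2 w.2
  rw [hw v (U.ι.isEmbedding.isInducing.specializes_iff.1 ha)]

end Groth.Agent.S2572
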