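import Groth.Statements.S2574
import Groth.Agent.H47.FlatAdic

set_option autoImplicit false
open TensorProduct
universe u
open EGA43

namespace Groth.Agent.S2574

/-- Let A be a Noetherian ring, J a nilpotent ideal of A and M an A-module. Then M is flat over A if and
only if (A/J) ⊗_A M is flat over A/J and, for every associated prime p of A, the localization M_p is
flat over A_p. -/
theorem result {A : Type u} [CommRing A] [IsNoetherianRing A]
    (J : Ideal A) (hJ : IsNilpotent J) (M : Type u) [AddCommGroup M] [Module A M] :
    Module.Flat A M ↔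
      Module.Flat (A ⧸ J) ((A ⧸ J) ⊗[A] M) ∧
        ∀ p : associatedPrimes A A,
          haveI : p.1.IsPrime := IsAssociatedPrime.isPrime p.2
          Module.Flat (Localization.AtPrime p.1) (LocalizedModule p.1.primeCompl M) := by
  classical
  constructor
  · intro h
    exact ⟨inferInstance, fun p ↦
      haveI : p.1.IsPrime := IsAssociatedPrime.isPrime p.2
      Groth.Agent.H47.FlatAdic.flat_localizedModule p.1⟩
  rintro ⟨hJM, hloc⟩
  have := (associatedPrimes.finite A A).to_subtype
  haveI : ∀ p : associatedPrimes A A, p.1.IsPrime := fun p ↦ IsAssociatedPrime.isPrime p.2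
  refine Groth.Agent.H47.FlatFamily.flat_of_finite_family
    (B := fun p : associatedPrimes A A ↦ Localization.AtPrime p.1) hJ (fun a ha ↦ ?_)
    fun p ↦ Groth.Agent.H47.FlatAdic.flat_localization p.1 (hloc p)
  refine Groth.Agent.H47.FlatAdic.eq_zero_of_forall_associatedPrimes (R := A) (N := A) a fun q hq ↦ ?_
  have : q.IsPrime := hq.isPrime
  obtain ⟨⟨u, hu⟩, h⟩ := (IsLocalization.map_eq_zero_iff q.primeCompl (Localization.AtPrime q) a).1
    (ha ⟨q, hq⟩)
  exact ⟨u, hu, h⟩

end Groth.Agent.S2574
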