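import Groth.Statements.S2594
import Groth.Agent.H46.DimData
import Groth.Agent.H2.FibreDimPullback
import Mathlib.AlgebraicGeometry.Morphisms.UniversallyOpen

set_option autoImplicit false
open CategoryTheory AlgebraicGeometry
universe u
open EGA43 Groth.Agent.Lib.Cyc Groth.Agent.H46

namespace Groth.Agent.S2594

open CategoryTheory.Limits in
/-- Let f : X ⟶ Y be locally of finite type and equidimensional at a point x, and g : Y' ⟶ Y a flat
morphism with Y' locally Noetherian (the source states this for arbitrary Y', but its proof reduces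
to the case where every irreducible component passes through the point, which needs the irreducible
components to be locally finite). Then the base change X ×_Y Y' ⟶ Y' is equidimensional at every
point lying over x. -/
theorem result {X Y Y' : Scheme.{u}} (f : X ⟶ Y) [LocallyOfFiniteType f] (g : Y' ⟶ Y) [Flat g] [IsLocallyNoetherian Y']
    (x : X) (h : EGA43.IsEquidimAt f x) (x' : ↥(pullback f g)) (hx' : (pullback.fst f g).base x' = x) :
    EGA43.IsEquidimAt (pullback.snd f g) x' := by
  refine DimData.isEquidimAt_of_components (pullback.snd f g) x' fun ξ' hξ' hs => ?_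
  let a := pullback.fst f g
  let f' := pullback.snd f g
  have hz : ∀ w, w ⤳ a ξ' → w = a ξ' := fun w hw => by
    obtain ⟨w', hw', rfl⟩ := Flat.generalizingMap a hw
    rw [hξ' w' hw']
  have hzx : a ξ' ⤳ x := hx' ▸ hs.map a.continuous
  obtain ⟨e, U, hxU, hdom, hdim⟩ := Groth.Agent.H46.Equidim.exists_of_isEquidimAt f h
  have hzU := hzx.mem_open U.2 hxU
  have he := Equidim.fibreDimAt_eq_of_data f hdim hxU
  rw [DimData.fibreDimAt_eq, Nat.cast_inj] at he
  obtain ⟨hη, htrd⟩ : DimFun.IsMaxPt (f (a ξ')) ∧ Groth.Agent.H46.FibreTrdeg.trd f (a ξ') = DimData.fe f x :=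
    ⟨(hdom _ hzU hz).1, by rw [he]; exact hdim _ hzU (Equidim.isMaxFib_of_isMaxPt f hz)⟩
  refine ⟨fun η'' hη'' => ?_, ?_⟩
  · let η := f (a ξ')
    have e1 : g (f' ξ') = η := by
      show (pullback.snd f g ≫ g) ξ' = (pullback.fst f g ≫ f) ξ'
      rw [pullback.condition]
    have e2 : g η'' = η := hη _ ((hη''.map g.continuous).trans (specializes_of_eq e1))
    let P := pullback (f.fiberToSpecResidueField η) (g.fiberToSpecResidueField η)
    let l : P ⟶ pullback f g := pullback.lift (pullback.fst _ _ ≫ f.fiberι η)
      (pullback.snd _ _ ≫ g.fiberι η) (by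
        have c₁ : f.fiberι η ≫ f = f.fiberToSpecResidueField η ≫ Y.fromSpecResidueField η :=
          pullback.condition
        have c₂ : g.fiberι η ≫ g = g.fiberToSpecResidueField η ≫ Y.fromSpecResidueField η :=
          pullback.condition
        rw [Category.assoc, Category.assoc, c₁, c₂, pullback.condition_assoc])
    have sq : IsPullback l (pullback.snd (f.fiberToSpecResidueField η) (g.fiberToSpecResidueField η))
        f' (g.fiberι η) := by
      refine IsPullback.of_right ?_ (pullback.lift_snd _ _ _) (IsPullback.of_hasPullback f g)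
      have h₁ : IsPullback (f.fiberι η) (f.fiberToSpecResidueField η) f (Y.fromSpecResidueField η) :=
        IsPullback.of_hasPullback f _
      have h₂ : g.fiberι η ≫ g = g.fiberToSpecResidueField η ≫ Y.fromSpecResidueField η :=
        pullback.condition
      rw [pullback.lift_fst, h₂]
      exact (IsPullback.of_hasPullback _ _).paste_horiz h₁
    obtain ⟨w', hw'⟩ : f' ξ' ∈ Set.range (g.fiberι η) := by
      rw [Scheme.Hom.range_fiberι]; exact e1
    obtain ⟨w'', hw''⟩ : η'' ∈ Set.range (g.fiberι η) := by
      rw [Scheme.Hom.range_fiberι]; exact e2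
    obtain ⟨q, hq₁, hq₂⟩ :=
      Scheme.Pullback.exists_preimage_pullback (f := f') (g := g.fiberι η) ξ' w' hw'.symm
    let p := sq.isoPullback.inv q
    have hp₁ : l p = ξ' := by
      rw [← Scheme.Hom.comp_apply, sq.isoPullback_inv_fst]; exact hq₁
    have hp₂ : pullback.snd (f.fiberToSpecResidueField η) (g.fiberToSpecResidueField η) p = w' := by
      rw [← Scheme.Hom.comp_apply, sq.isoPullback_inv_snd]; exact hq₂
    haveI : Flat (f.fiberToSpecResidueField η) := inferInstance
    have hww : w'' ⤳ w' := by
      rw [← (g.fiberι η).isEmbedding.isInducing.specializes_iff, hw', hw'']; exact hη''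
    obtain ⟨p'', hp'', hpw⟩ := Flat.generalizingMap
      (pullback.snd (f.fiberToSpecResidueField η) (g.fiberToSpecResidueField η)) (hp₂.symm ▸ hww)
    have := hξ' (l p'') (hp₁ ▸ hp''.map l.continuous)
    have key : f' (l p'') = η'' := by
      rw [← Scheme.Hom.comp_apply, sq.w, Scheme.Hom.comp_apply, hpw, hw'']
    rw [← key, this]
  · have e1 := Groth.Agent.H2.FibreDimPullback.fibreDimAt_of_isPullback
      (IsPullback.of_hasPullback f g) ξ'
    have e2 := Groth.Agent.H2.FibreDimPullback.fibreDimAt_of_isPullback
      (IsPullback.of_hasPullback f g) x'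
    rw [DimData.fibreDimAt_eq, DimData.fibreDimAt_eq, Nat.cast_inj] at e1 e2
    rw [DimData.fe_of_isMaxFib _ (Equidim.isMaxFib_of_isMaxPt _ hξ'),
      DimData.fe_of_isMaxFib _ (Equidim.isMaxFib_of_isMaxPt _ hz)] at e1
    rw [e1, e2, htrd]
    exact congrArg _ hx'.symm

end Groth.Agent.S2594
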