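import Groth.Statements.S2595
import Groth.Agent.H46.DimData
import Groth.Agent.H46.CMChain
import Groth.Agent.H46.FiberStalk
-- import your own Groth.Agent.* helpers here

set_option autoImplicit false
open CategoryTheory AlgebraicGeometry
universe u
open EGA43

namespace Groth.Agent.S2595

open IsLocalRing Groth.Agent.Lib.Cyc Groth.Agent.H46 in
theorem comap_spec {X Y : Scheme.{u}} (f : X ⟶ Y) (x : X) (P : PrimeSpectrum (X.presheaf.stalk x)) :
    f (X.fromSpecStalk x P) = Y.fromSpecStalk (f x) (PrimeSpectrum.comap (f.stalkMap x).hom P) := by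
  exact (congrArg (fun φ : Spec (X.presheaf.stalk x) ⟶ Y => φ P)
    (Scheme.SpecMap_stalkMap_fromSpecStalk (f := f) (x := x))).symm

open IsLocalRing Groth.Agent.Lib.Cyc Groth.Agent.H46 in
theorem trd_eq {X Y : Scheme.{u}} [IsLocallyNoetherian Y] (f : X ⟶ Y)
    [LocallyOfFiniteType f] (x : X) (hflat : (f.stalkMap x).hom.Flat)
    (hCM : LocCoh.IsCohenMacaulayLocalRing ((f.fiber (f.base x)).presheaf.stalk (f.asFiber x)))
    (ξ : X) (hξ : DimFun.IsMaxPt ξ) (hξx : ξ ⤳ x) :
    DimFun.IsMaxPt (f ξ) ∧ FibreTrdeg.trd f ξ = DimData.fe f x := by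
  haveI := LocallyOfFiniteType.isLocallyNoetherian f
  let O := Y.presheaf.stalk (f x)
  let S₀ := X.presheaf.stalk x
  letI := (f.stalkMap x).hom.toAlgebra
  haveI : Module.Flat O S₀ := hflat
  haveI : IsLocalHom (algebraMap O S₀) := f.toLRSHom.prop x
  let P₀ := DimFun.genPrime x ξ hξx
  have hP₀ : P₀.asIdeal ∈ minimalPrimes S₀ := by
    rw [DimData.minimalPrimes_iff, DimFun.fromSpecStalk_genPrime]; exact hξ
  let p := PrimeSpectrum.comap (f.stalkMap x).hom P₀
  have hfξ : f ξ = Y.fromSpecStalk (f x) p := by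
    rw [← comap_spec, DimFun.fromSpecStalk_genPrime]
  have hη : DimFun.IsMaxPt (f ξ) := by
    intro b hb
    have hbx : b ⤳ f x := hb.trans (hξx.map f.continuous)
    have hle : DimFun.genPrime (f x) b hbx ≤ p := by
      rw [← DimFun.fromSpecStalk_specializes_iff, DimFun.fromSpecStalk_genPrime, ← hfξ]; exact hb
    obtain ⟨q, hq, hqe⟩ := (RingHom.Flat.generalizingMap_comap hflat)
      ((PrimeSpectrum.le_iff_specializes _ _).1 hle)
    have : q = P₀ := le_antisymm ((PrimeSpectrum.le_iff_specializes _ _).2 hq)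
      (hP₀.2 ⟨q.2, bot_le⟩ ((PrimeSpectrum.le_iff_specializes _ _).2 hq))
    rw [hfξ, show p = DimFun.genPrime (f x) b hbx by rw [← hqe, this], DimFun.fromSpecStalk_genPrime]
  refine ⟨hη, le_antisymm (DimData.trd_le_fe f hξx) ?_⟩
  have hpJ : p.asIdeal.map (algebraMap O S₀) ≤ P₀.asIdeal := Ideal.map_comap_le
  let R := O ⧸ p.asIdeal
  let S := S₀ ⧸ p.asIdeal.map (algebraMap O S₀)
  haveI : IsLocalRing R := IsLocalRing.of_surjective' _ Ideal.Quotient.mk_surjective
  haveI : Nontrivial S := Ideal.Quotient.nontrivial_iff.2 (ne_top_of_le_ne_top P₀.2.ne_top hpJ)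
  haveI : IsLocalRing S := IsLocalRing.of_surjective' _ Ideal.Quotient.mk_surjective
  haveI : IsLocalHom (algebraMap R S) := by
    refine ⟨fun a ha => ?_⟩
    obtain ⟨a, rfl⟩ := Ideal.Quotient.mk_surjective a
    have : IsLocalHom (Ideal.Quotient.mk (p.asIdeal.map (algebraMap O S₀))) :=
      IsLocalHom.of_surjective _ Ideal.Quotient.mk_surjective
    have ha' : IsUnit (Ideal.Quotient.mk (p.asIdeal.map (algebraMap O S₀)) (algebraMap O S₀ a)) := ha
    exact (IsUnit.of_map (algebraMap O S₀) a (IsUnit.of_map _ _ ha')).map _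
  haveI : Module.Flat R S :=
    Module.Flat.of_linearEquiv
      ((Algebra.TensorProduct.quotIdealMapEquivQuotTensor S₀ p.asIdeal).toLinearEquiv :
        S ≃ₗ[R] TensorProduct O R S₀)
  have hJ : (maximalIdeal R).map (algebraMap R S) =
      ((maximalIdeal O).map (algebraMap O S₀)).map (Ideal.Quotient.mk _) := by
    haveI : IsLocalHom (Ideal.Quotient.mk p.asIdeal) :=
      IsLocalHom.of_surjective _ Ideal.Quotient.mk_surjective
    rw [← Ideal.map_comap_of_surjective (Ideal.Quotient.mk p.asIdeal) Ideal.Quotient.mk_surjective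
      (maximalIdeal R), IsLocalRing.maximalIdeal_comap, Ideal.map_map, Ideal.map_map]
    rfl
  let ee : S ⧸ (maximalIdeal R).map (algebraMap R S) ≃+*
      (f.fiber (f x)).presheaf.stalk (f.asFiber x) :=
    ((Ideal.quotEquivOfEq hJ).trans (DoubleQuot.quotQuotEquivQuotOfLE
      (Ideal.map_mono (le_maximalIdeal p.2.ne_top)))).trans (FiberStalk.quotientEquiv f x)
  have hne : (maximalIdeal R).map (algebraMap R S) ≠ ⊤ := by
    refine ne_top_of_le_ne_top (maximalIdeal.isMaximal S).ne_top ?_
    exact ((local_hom_TFAE (algebraMap R S)).out 0 2).mp ‹_›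
  haveI : Nontrivial (S ⧸ (maximalIdeal R).map (algebraMap R S)) := Ideal.Quotient.nontrivial_iff.2 hne
  haveI : IsLocalRing (S ⧸ (maximalIdeal R).map (algebraMap R S)) :=
    IsLocalRing.of_surjective' _ Ideal.Quotient.mk_surjective
  haveI := hCM
  have hCM' : LocCoh.IsCohenMacaulayLocalRing (S ⧸ (maximalIdeal R).map (algebraMap R S)) :=
    Groth.Agent.Lib.Excellent.Transport.isCohenMacaulayLocalRing_of_ringEquiv ee.symm
  have hdim : ringKrullDim (S ⧸ (maximalIdeal R).map (algebraMap R S)) =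
      (DimData.fd f x : WithBot ℕ∞) :=
    (ringKrullDim_eq_of_ringEquiv ee).trans (DimData.ringKrullDim_fiber f x)
  haveI : (P₀.asIdeal.map (Ideal.Quotient.mk (p.asIdeal.map (algebraMap O S₀)))).IsPrime :=
    Ideal.map_isPrime_of_surjective Ideal.Quotient.mk_surjective (Ideal.mk_ker.le.trans hpJ)
  let P : PrimeSpectrum S :=
    ⟨P₀.asIdeal.map (Ideal.Quotient.mk (p.asIdeal.map (algebraMap O S₀))), inferInstance⟩
  have hPc : PrimeSpectrum.comap (Ideal.Quotient.mk (p.asIdeal.map (algebraMap O S₀))) P = P₀ := by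
    apply PrimeSpectrum.ext
    show (P₀.asIdeal.map (Ideal.Quotient.mk _)).comap (Ideal.Quotient.mk _) = P₀.asIdeal
    rw [Ideal.comap_map_of_surjective _ Ideal.Quotient.mk_surjective]
    exact sup_eq_left.2 (Ideal.mk_ker.le.trans hpJ)
  have hPmin : P.asIdeal ∈ minimalPrimes S := by
    refine ⟨⟨P.2, bot_le⟩, fun q hq hle => ?_⟩
    haveI := hq.1
    have h1 := hP₀.2 (y := q.comap (Ideal.Quotient.mk _)) ⟨inferInstance, bot_le⟩
      ((Ideal.comap_mono hle).trans (congrArg PrimeSpectrum.asIdeal hPc).le)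
    exact (Ideal.map_mono h1).trans Ideal.map_comap_le
  obtain ⟨l, hlen, hhead, hbot, hlast⟩ := CMChain.exists_chain R (DimData.fd f x) S hCM' hdim P
    (Module.associatedPrimes.minimalPrimes_annihilator_subset_associatedPrimes S S (by
      rw [Module.annihilator_eq_bot.2 inferInstance]; exact hPmin))
  let pt : PrimeSpectrum S → X := fun Q =>
    X.fromSpecStalk x (PrimeSpectrum.comap (Ideal.Quotient.mk _) Q)
  have hfpt : ∀ i, f (pt (l i)) = f ξ := by
    intro i
    rw [hfξ, comap_spec]
    congr 1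
    refine PrimeSpectrum.ext ?_
    ext a
    have := congrArg (fun I : Ideal R => Ideal.Quotient.mk p.asIdeal a ∈ I) (hbot i)
    simp only [Ideal.mem_bot, Ideal.Quotient.eq_zero_iff_mem, eq_iff_iff] at this
    exact this
  have key : ∀ (j : ℕ) (hj : j < l.length + 1),
      FibreTrdeg.trd f (pt (l ⟨j, hj⟩)) + j ≤ FibreTrdeg.trd f ξ := by
    intro j
    induction j with
    | zero =>
      intro hj
      have e : pt (l ⟨0, hj⟩) = ξ := by
        show X.fromSpecStalk x (PrimeSpectrum.comap _ (l ⟨0, hj⟩)) = ξ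
        rw [show l ⟨0, hj⟩ = P from hhead, hPc, DimFun.fromSpecStalk_genPrime]
      rw [e, add_zero]
    | succ j ih =>
      intro hj
      have h1 := ih (by omega)
      have hlt : l ⟨j, by omega⟩ < l ⟨j + 1, hj⟩ := l.strictMono (by simp)
      have h2 := FibreTrdeg.trd_lt f
        (x := pt (l ⟨j + 1, hj⟩)) (x' := pt (l ⟨j, by omega⟩))
        ((DimFun.fromSpecStalk_specializes_iff x _ _).2 (Ideal.comap_mono hlt.le))
        ((hfpt _).trans (hfpt _).symm)
        (fun e => hlt.ne (PrimeSpectrum.ext (Ideal.comap_injective_of_surjective _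
          Ideal.Quotient.mk_surjective (congrArg PrimeSpectrum.asIdeal
            (DimFun.fromSpecStalk_injective x e)))))
      omega
  have h1 := key (DimData.fd f x) (by omega)
  set ζ := pt (l ⟨DimData.fd f x, by omega⟩) with hζdef
  have hζx : ζ ⤳ x := DimFun.fromSpecStalk_specializes_self x _
  have elast : l.last = l ⟨DimData.fd f x, by omega⟩ := congrArg l.toFun (Fin.ext hlen)
  have hkerζ : RingHom.ker (Cyc.specMap x ζ hζx) =
      l.last.asIdeal.comap (Ideal.Quotient.mk (p.asIdeal.map (algebraMap O S₀))) := by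
    rw [elast]
    exact OpenDim.ker_specMap_eq x (PrimeSpectrum.comap (Ideal.Quotient.mk _) _)
  have hker : RingHom.ker (Cyc.specMap (f x) (f ζ) (hζx.map f.continuous)) = p.asIdeal := by
    have e : f ζ = Y.fromSpecStalk (f x) p := (hfpt _).trans hfξ
    have : DimFun.genPrime (f x) (f ζ) (hζx.map f.continuous) = p := by
      apply DimFun.fromSpecStalk_injective (f x)
      rw [DimFun.fromSpecStalk_genPrime, e]
    exact congrArg PrimeSpectrum.asIdeal this
  letI := (f.residueFieldMap x).hom.toAlgebra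
  obtain ⟨B, hB⟩ := exists_isTranscendenceBasis (Y.residueField (f x)) (X.residueField x)
  have hcardB : Cardinal.mk B = (FibreTrdeg.trd f x : Cardinal) :=
    hB.cardinalMk_eq_trdeg.trans (FibreTrdeg.trdegAt_eq f x)
  obtain ⟨e⟩ : Nonempty (Fin (FibreTrdeg.trd f x) ≃ B) := by
    have := Cardinal.mk_eq_nat_iff.1 hcardB
    exact ⟨this.some.symm⟩
  choose T₀ hT₀ using fun i => X.residue_surjective x (e i : X.residueField x)
  have hindep : AlgebraicIndependent (Y.residueField (f x)) fun i => X.residue x (T₀ i) := by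
    simp only [hT₀]
    exact hB.1.comp _ e.injective
  have haev : ∀ g₀ : MvPolynomial (Fin (FibreTrdeg.trd f x)) O,
      X.residue x (MvPolynomial.aeval T₀ g₀) = MvPolynomial.aeval (fun i => X.residue x (T₀ i))
        (MvPolynomial.map (Y.residue (f x)).hom g₀) := by
    intro g₀
    rw [MvPolynomial.aeval_def, MvPolynomial.aeval_def, MvPolynomial.eval₂_map, MvPolynomial.eval₂_comp_left]
    congr 1
  have hT : ∀ g : MvPolynomial (Fin (FibreTrdeg.trd f x)) R,
      MvPolynomial.aeval (fun i => Ideal.Quotient.mk (p.asIdeal.map (algebraMap O S₀)) (T₀ i)) g ∈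
        maximalIdeal S → g ∈ (maximalIdeal R).map MvPolynomial.C := by
    intro g hg
    obtain ⟨g₀, rfl⟩ := MvPolynomial.map_surjective (Ideal.Quotient.mk p.asIdeal)
      Ideal.Quotient.mk_surjective g
    rw [MvPolynomial.aeval_def, MvPolynomial.eval₂_map] at hg
    have h2 : MvPolynomial.aeval T₀ g₀ ∈ maximalIdeal S₀ := by
      haveI : IsLocalHom (Ideal.Quotient.mk (p.asIdeal.map (algebraMap O S₀))) :=
        IsLocalHom.of_surjective _ Ideal.Quotient.mk_surjective
      rw [← IsLocalRing.maximalIdeal_comap (Ideal.Quotient.mk (p.asIdeal.map (algebraMap O S₀))),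
        Ideal.mem_comap, MvPolynomial.aeval_def, MvPolynomial.eval₂_comp_left]
      exact hg
    have h3 : MvPolynomial.map (Y.residue (f x)).hom g₀ = 0 := by
      refine hindep.eq_zero_of_aeval_eq_zero _ ?_
      rw [← haev]
      exact (IsLocalRing.residue_eq_zero_iff _).2 h2
    rw [MvPolynomial.mem_map_C_iff]
    intro m
    rw [MvPolynomial.coeff_map]
    have h5 : MvPolynomial.coeff m g₀ ∈ maximalIdeal O := by
      refine (IsLocalRing.residue_eq_zero_iff _).1 ?_
      have := congrArg (MvPolynomial.coeff m) h3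
      rw [MvPolynomial.coeff_map, MvPolynomial.coeff_zero] at this
      exact this
    haveI : IsLocalHom (Ideal.Quotient.mk p.asIdeal) :=
      IsLocalHom.of_surjective _ Ideal.Quotient.mk_surjective
    rw [← IsLocalRing.maximalIdeal_comap (Ideal.Quotient.mk p.asIdeal)] at h5
    exact h5
  let RQ := Cyc.LocQuot (f x) (f ζ) (hζx.map f.continuous)
  letI : Algebra (Y.residueField (f ζ)) (X.residueField ζ) := (f.residueFieldMap ζ).hom.toAlgebra
  letI : Algebra RQ (X.residueField ζ) :=
    ((f.residueFieldMap ζ).hom.comp (algebraMap RQ (Y.residueField (f ζ)))).toAlgebra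
  haveI : IsScalarTower RQ (Y.residueField (f ζ)) (X.residueField ζ) :=
    IsScalarTower.of_algebraMap_eq fun _ => rfl
  haveI : Algebra.IsAlgebraic RQ (Y.residueField (f ζ)) :=
    IsLocalization.isAlgebraic _ (nonZeroDivisors RQ)
  haveI : FaithfulSMul RQ (Y.residueField (f ζ)) :=
    (faithfulSMul_iff_algebraMap_injective _ _).2 (Ord.algebraMap_injective _ _ _)
  have hindep' : AlgebraicIndependent RQ fun i => Cyc.specMap x ζ hζx (T₀ i) := by
    rw [algebraicIndependent_iff]
    intro g hg
    obtain ⟨g₀, rfl⟩ := MvPolynomial.map_surjective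
      (Ideal.Quotient.mk (RingHom.ker (Cyc.specMap (f x) (f ζ) (hζx.map f.continuous))))
      Ideal.Quotient.mk_surjective g
    have h2 : MvPolynomial.aeval T₀ g₀ ∈ RingHom.ker (Cyc.specMap x ζ hζx) := by
      rw [RingHom.mem_ker, MvPolynomial.aeval_def, MvPolynomial.eval₂_comp_left]
      rw [MvPolynomial.aeval_def, MvPolynomial.eval₂_map] at hg
      refine Eq.trans ?_ hg
      congr 1
      ext r
      exact InducedDimFun.specMap_stalkMap f ζ x hζx r
    rw [hkerζ, Ideal.mem_comap] at h2
    have h3 := hlast _ (fun i => Ideal.Quotient.mk (p.asIdeal.map (algebraMap O S₀)) (T₀ i)) hT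
      (MvPolynomial.map (Ideal.Quotient.mk p.asIdeal) g₀) (by
        rw [MvPolynomial.aeval_def, MvPolynomial.eval₂_map]
        rw [MvPolynomial.aeval_def, MvPolynomial.eval₂_comp_left] at h2
        exact h2)
    ext m
    have h4 := congrArg (MvPolynomial.coeff m) h3
    rw [MvPolynomial.coeff_map, MvPolynomial.coeff_zero, Ideal.Quotient.eq_zero_iff_mem] at h4
    rw [MvPolynomial.coeff_map, MvPolynomial.coeff_zero, Ideal.Quotient.eq_zero_iff_mem, hker]
    exact h4
  have h3 : FibreTrdeg.trd f x ≤ FibreTrdeg.trd f ζ := by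
    have hc := hindep'.lift_cardinalMk_le_trdeg
    have hadd := trdeg_add_eq RQ (Y.residueField (f ζ)) (A := X.residueField ζ)
    rw [trdeg_eq_zero (R := RQ), zero_add] at hadd
    rw [← hadd, show Algebra.trdeg (Y.residueField (f ζ)) (X.residueField ζ) =
      (FibreTrdeg.trd f ζ : Cardinal) from FibreTrdeg.trdegAt_eq f ζ] at hc
    simpa using hc
  have h4 := DimData.fd_add_trd f x
  omega

/-- Let Y be locally Noetherian, f : X ⟶ Y locally of finite type and x a point of X. If O_{Y,f x} ⟶
O_{X,x} is flat and the local ring at x of the fibre through x is Cohen–Macaulay, then f is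
equidimensional at x. -/
theorem result {X Y : Scheme.{u}} [IsLocallyNoetherian Y] (f : X ⟶ Y)
    [LocallyOfFiniteType f] (x : X) (hflat : (f.stalkMap x).hom.Flat)
    (hCM : LocCoh.IsCohenMacaulayLocalRing ((f.fiber (f.base x)).presheaf.stalk (f.asFiber x))) :
    EGA43.IsEquidimAt f x := by
  exact Groth.Agent.H46.DimData.isEquidimAt_of_components f x fun ξ hξ hs =>
    trd_eq f x hflat hCM ξ hξ hs

end Groth.Agent.S2595
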