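import Groth.Statements.S6279
import Mathlib.RingTheory.Spectrum.Prime.RingHom

set_option autoImplicit false
universe u
open CAlg

namespace Groth.Agent.S6279

/-- A finite product of normal rings is normal (a ring is normal when every localization at a prime is
an integrally closed domain). -/
theorem result {ι : Type u} [Finite ι] (A : ι → Type u) [∀ i, CommRing (A i)] (hA : ∀ i, EGA4.IsNormalRing (A i)) : EGA4.IsNormalRing (∀ i, A i) := by
  intro p _
  obtain ⟨i, q, hq⟩ := PrimeSpectrum.exists_comap_evalRingHom_eq (⟨p, inferInstance⟩ : PrimeSpectrum (∀ i, A i))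
  obtain rfl : q.asIdeal.comap (Pi.evalRingHom A i) = p := congrArg PrimeSpectrum.asIdeal hq
  obtain ⟨h1, h2⟩ := hA i q.asIdeal
  let e := (RingEquiv.ofBijective _ (Localization.AtPrime.mapPiEvalRingHom_bijective q.asIdeal)).symm
  have := e.isDomain_iff.mp h1
  exact ⟨this, IsIntegrallyClosed.of_equiv e⟩

end Groth.Agent.S6279
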