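import Groth.Statements.S4725


set_option autoImplicit false
set_option linter.style.haveILetI false
universe u
open EGA4

namespace Groth.Agent.S4725

/-- The direct limit of a nonempty directed system of commutative integral domains is an integral domain
(no injectivity of the transition maps is assumed). -/
theorem result (ι : Type u) [Preorder ι] [Nonempty ι] [IsDirectedOrder ι] (G : ι → Type u)
    [∀ i, CommRing (G i)] (f : ∀ i j, i ≤ j → G i →+* G j) [DirectedSystem G (fun i j h ↦ f i j h)]
    [∀ i, IsDomain (G i)] : IsDomain (Ring.DirectLimit G (fun i j h ↦ f i j h)) := by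
  have hne : (1 : Ring.DirectLimit G (fun i j h ↦ f i j h)) ≠ 0 := fun h => by
    obtain ⟨i⟩ := ‹Nonempty ι›
    rw [← map_one (Ring.DirectLimit.of G (fun i j h ↦ f i j h) i)] at h
    obtain ⟨j, hij, hj⟩ := Ring.DirectLimit.of.zero_exact (f' := f) h
    rw [map_one] at hj
    exact one_ne_zero hj
  haveI : Nontrivial (Ring.DirectLimit G (fun i j h ↦ f i j h)) := ⟨⟨1, 0, hne⟩⟩
  haveI : NoZeroDivisors (Ring.DirectLimit G (fun i j h ↦ f i j h)) := ⟨fun {a b} hab => by
    obtain ⟨i, a, rfl⟩ := Ring.DirectLimit.exists_of a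
    obtain ⟨j, b, rfl⟩ := Ring.DirectLimit.exists_of b
    obtain ⟨k, hik, hjk⟩ := exists_ge_ge i j
    rw [← Ring.DirectLimit.of_f hik, ← Ring.DirectLimit.of_f hjk, ← map_mul] at hab
    obtain ⟨l, hkl, hl⟩ := Ring.DirectLimit.of.zero_exact (f' := f) hab
    rw [map_mul, mul_eq_zero] at hl
    rcases hl with h | h
    · exact Or.inl (by rw [← Ring.DirectLimit.of_f hik, ← Ring.DirectLimit.of_f hkl, h, map_zero])
    · exact Or.inr (by rw [← Ring.DirectLimit.of_f hjk, ← Ring.DirectLimit.of_f hkl, h, map_zero])⟩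
  exact NoZeroDivisors.to_isDomain _

end Groth.Agent.S4725
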