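import Groth.Statements.S2906

import Groth.Agent.Lib.FFDesc.Lqf
import Groth.Agent.Lib.TorsorSch.NormalBase
import Mathlib.AlgebraicGeometry.Morphisms.LocalFlatDescent

set_option autoImplicit false
open CategoryTheory CategoryTheory.Limits AlgebraicGeometry Opposite
universe u
open SGA1

open CategoryTheory AlgebraicGeometry Groth.Agent.Lib.FFDesc

namespace Groth.Agent.S2906

/-- Let g : S' ⟶ S be flat, surjective and quasi-compact. Then every descent datum relative to g whose
underlying scheme is etale, separated and quasi-compact over S' is isomorphic to the canonical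
descent datum of a scheme etale, separated and quasi-compact over S. (Descent data relative to g are
taken in functor-of-points form.) -/
theorem result {S' S : Scheme.{u}} (g : S' ⟶ S) [Flat g] [Surjective g] [QuasiCompact g]
    (D : Desc.SchDD g) [QuasiCompact D.obj.hom] [IsSeparated D.obj.hom] [Etale D.obj.hom] :
    ∃ U : Over S, QuasiCompact U.hom ∧ IsSeparated U.hom ∧ Etale U.hom ∧ Nonempty ((Desc.toDD g).obj U ≅ D) := by
  obtain ⟨U, q, hq, hqa, -⟩ := exists_isDescended (fpqcCover_of_quasiCompact g) (D := D) (isQuasiAffine_of_lqf D.obj.hom)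
  have hg : (@Surjective ⊓ @Flat ⊓ @QuasiCompact : MorphismProperty Scheme.{u}) g :=
    ⟨⟨‹Surjective g›, ‹Flat g›⟩, ‹QuasiCompact g›⟩
  have h := hq.isPullback
  exact ⟨U, hqa.1,
    MorphismProperty.of_isPullback_of_descendsAlong (P := @IsSeparated) h hg ‹IsSeparated D.obj.hom›,
    MorphismProperty.of_isPullback_of_descendsAlong (P := @Etale) h hg ‹Etale D.obj.hom›, ⟨hq.iso⟩⟩

end Groth.Agent.S2906
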