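import Groth.Statements.S2912

import Groth.Agent.Lib.FFDesc.OpensCover
import Mathlib.AlgebraicGeometry.Morphisms.UniversallyInjective

set_option autoImplicit false
open CategoryTheory CategoryTheory.Limits AlgebraicGeometry Opposite
universe u
open SGA1

open CategoryTheory CategoryTheory.Limits AlgebraicGeometry Groth.Agent.Lib.FFDesc

namespace Groth.Agent.S2912


section
variable {X S : Scheme.{u}} {p : X ⟶ S}

theorem isSeparated_of_univInj (f : X ⟶ S) [UniversallyInjective f] : IsSeparated f := by
  have h : Surjective (pullback.diagonal f) := (UniversallyInjective.iff_diagonal f).1 ‹_›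
  exact ⟨IsClosedImmersion.of_isPreimmersion _ (by rw [h.1.range_eq]; exact isClosed_univ)⟩

/-- all opens are invariant -/
theorem invariant_all (D : Desc.SchDD p) [UniversallyInjective p] (O : D.obj.left.Opens) : Invariant D O := by
  have hinj : UniversallyInjective (pr D) :=
    MorphismProperty.of_isPullback (P := @UniversallyInjective) (IsPullback.of_hasPullback _ p).flip ‹_›
  unfold Invariant
  ext t
  let δ : D.obj.left ⟶ V₂ D := pullback.lift (𝟙 _) D.obj.hom (by rw [Category.id_comp])
  have ht : t = δ (pr D t) := by
    refine (pr D).injective ?_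
    show pr D t = pr D (δ (pr D t))
    rw [← Scheme.Hom.comp_apply δ (pr D), pullback.lift_fst]
    rfl
  have ha : δ ≫ act D = 𝟙 _ := by
    have := lift_self_act D (𝟙 D.obj.left)
    convert this using 3
    simp
  have : act D t = pr D t := by
    conv_lhs => rw [ht, ← Scheme.Hom.comp_apply, ha]
    rfl
  show pr D t ∈ O ↔ act D t ∈ O
  rw [this]

theorem effective_of_affine (hp : fpqcCover p) [X.IsSeparated] (D : Desc.SchDD p) [IsAffine D.obj.left] :
    ∃ (U : Over S) (q : D.obj.left ⟶ U.left), IsDescended D U q := by
  have h : IsAffineHom D.obj.hom := by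
    have : IsAffineHom (D.obj.hom ≫ terminal.from X) := by
      rw [terminal.comp_from]; infer_instance
    exact IsAffineHom.of_comp D.obj.hom (terminal.from X)
  obtain ⟨U, q, hq, -⟩ := exists_isDescended hp (D := D) ⟨inferInstance, fun V hV => by
    have : IsAffine (D.obj.hom ⁻¹ᵁ V : Scheme.{u}) := hV.preimage D.obj.hom
    infer_instance⟩
  exact ⟨U, q, hq⟩

variable [Flat p] [Surjective p] [QuasiCompact p] [UniversallyInjective p]

theorem effective_of_separated [X.IsSeparated] (D : Desc.SchDD p) [D.obj.left.IsSeparated] :
    ∃ (U : Over S) (q : D.obj.left ⟶ U.left), IsDescended D U q := by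
  refine Cover.exists_isDescended_of_cover D (fun O => IsAffineOpen O) (fun O O' h h' => h.inf h')
    (fun O _ => invariant_all D O) (fun v => ?_) (fun O hO => ?_)
  · obtain ⟨O, hO, hv, -⟩ := exists_isAffineOpen_mem_and_subset (X := D.obj.left) (x := v) (U := ⊤) trivial
    exact ⟨O, hO, hv⟩
  · have : IsAffine (subDatum D (invariant_all D O)).obj.left := hO
    exact effective_of_affine (fpqcCover_of_quasiCompact p) (subDatum D (invariant_all D O))

theorem effective [X.IsSeparated] (D : Desc.SchDD p) :
    ∃ (U : Over S) (q : D.obj.left ⟶ U.left), IsDescended D U q := by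
  refine Cover.exists_isDescended_of_cover D (fun O => ∃ A, IsAffineOpen A ∧ O ≤ A) ?_
    (fun O _ => invariant_all D O) (fun v => ?_) (fun O hO => ?_)
  · rintro O O' ⟨A, hA, hle⟩ -
    exact ⟨A, hA, inf_le_left.trans hle⟩
  · obtain ⟨A, hA, hv, -⟩ := exists_isAffineOpen_mem_and_subset (X := D.obj.left) (x := v) (U := ⊤) trivial
    exact ⟨A, ⟨A, hA, le_rfl⟩, hv⟩
  · obtain ⟨A, hA, hle⟩ := hO
    have : IsAffine (A : Scheme.{u}) := hA
    have h1 : IsSeparated (terminal.from (A : Scheme.{u})) := inferInstance
    have : (subDatum D (invariant_all D O)).obj.left.IsSeparated := by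
      show (O : Scheme.{u}).IsSeparated
      refine ⟨?_⟩
      have : IsSeparated (D.obj.left.homOfLE hle ≫ terminal.from (A : Scheme.{u})) := inferInstance
      rwa [terminal.comp_from] at this
    exact effective_of_separated (subDatum D (invariant_all D O))

end

/-- Let g : S' ⟶ S be flat, surjective, quasi-compact and universally injective. Then every descent
datum relative to g (on an arbitrary S'-scheme) is isomorphic to the canonical descent datum of some
S-scheme. (Descent data relative to g are taken in functor-of-points form.) -/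
theorem result {S' S : Scheme.{u}} (g : S' ⟶ S) [Flat g] [Surjective g] [QuasiCompact g]
    [UniversallyInjective g] (D : Desc.SchDD g) : ∃ U : Over S, Nonempty ((Desc.toDD g).obj U ≅ D) := by
  have hp : fpqcCover g := fpqcCover_of_quasiCompact g
  have hW : ∀ W : S.affineOpens, ∃ (U : Over (W.1 : Scheme.{u}))
      (q : pullback D.obj.hom (pullback.fst g W.1.ι) ⟶ U.left), IsDescended (piece D W.1) U q := by
    intro W
    have : IsAffine (W.1 : Scheme.{u}) := W.2
    have : UniversallyInjective (pullback.snd g W.1.ι) :=
      MorphismProperty.of_isPullback (P := @UniversallyInjective) (IsPullback.of_hasPullback _ _) ‹UniversallyInjective g›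
    have := isSeparated_of_univInj (pullback.snd g W.1.ι)
    have : (pullback g W.1.ι).IsSeparated := ⟨by
      have : IsSeparated (pullback.snd g W.1.ι ≫ terminal.from (W.1 : Scheme.{u})) := inferInstance
      rwa [terminal.comp_from] at this⟩
    exact effective (piece D W.1)
  choose UW qW HW using hW
  obtain ⟨U, q, hq, -⟩ := exists_isDescended_of_pieces D hp UW qW HW
  exact hq.exists_iso


end Groth.Agent.S2912
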