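import Groth.Statements.S2914
import Groth.Agent.Lib.SchQuot.Desc

set_option autoImplicit false
open CategoryTheory CategoryTheory.Limits AlgebraicGeometry Opposite
universe u
open SGA1

namespace Groth.Agent.S2914

/-- Let g : S' ⟶ S be a morphism of schemes whose underlying map is a quotient map, and such that for
every open U of S the sequence O_S(U) → O_{S'}(g⁻¹U) ⇉ O_{S''}(h⁻¹U) is an equalizer, where S'' = S'
×_S S' with structure map h and the two arrows are restriction along the projections. Then g is an
effective epimorphism in the category of schemes. -/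
theorem result {S' S : Scheme.{u}} (g : S' ⟶ S) (hq : Topology.IsQuotientMap g.base)
    (hinj : ∀ U : S.Opens, Function.Injective (g.app U).hom)
    (heq : ∀ (U : S.Opens) (s' : Γ(S', g ⁻¹ᵁ U)), (SGA1.overlapFstApp g U).hom s' = (SGA1.overlapSndApp g U).hom s' →
      s' ∈ Set.range (g.app U).hom) :
    EffectiveEpi g := by
  have key : ∀ {W : Scheme.{u}} (e : S' ⟶ W),
      pullback.fst g g ≫ e = pullback.snd g g ≫ e → ∃! d : S ⟶ W, g ≫ d = e := by
    intro W e he
    refine Groth.Agent.Lib.SchQuot.Desc.existsUnique_desc g hq hinj e (fun x x' hxx => ?_)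
      (fun V U hle s => heq U _ ?_)
    · obtain ⟨z, rfl, rfl⟩ := Scheme.Pullback.exists_preimage_pullback (f := g) (g := g) x x' hxx
      rw [← Scheme.Hom.comp_apply, ← Scheme.Hom.comp_apply, he]
    · have h1 : e.appLE V (g ⁻¹ᵁ U) hle ≫ overlapFstApp g U =
          e.appLE V (g ⁻¹ᵁ U) hle ≫ overlapSndApp g U := by
        rw [overlapFstApp, overlapSndApp, Scheme.Hom.app_eq_appLE, Scheme.Hom.appLE_comp_appLE,
          Scheme.Hom.appLE_comp_appLE]
        simp only [he]
      exact congr($h1 s)
  exact ⟨⟨{ desc := fun {W} e h => (key e (h _ _ pullback.condition)).choose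
            fac := fun {W} e h => (key e (h _ _ pullback.condition)).choose_spec.1
            uniq := fun {W} e h m hm => (key e (h _ _ pullback.condition)).choose_spec.2 m hm }⟩⟩

end Groth.Agent.S2914
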