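import Groth.Statements.S2916
import Groth.Agent.S3707
import Groth.Agent.S3709
import Groth.Agent.Lib.AlgSpace.Props
import Groth.Agent.Lib.Subtrusive.Submersive
import Mathlib.AlgebraicGeometry.AlgClosed.Basic
import Mathlib.AlgebraicGeometry.Morphisms.QuasiFinite
import Mathlib.Topology.Connected.Clopen

set_option autoImplicit false
open CategoryTheory CategoryTheory.Limits AlgebraicGeometry Opposite
universe u
open SGA1

namespace Groth.Agent.S2916

theorem exists_geometric_point (W : Scheme.{u}) (w : W) :
    ∃ (K : Type u) (_ : Field K) (_ : IsAlgClosed K) (ω : Spec (CommRingCat.of K) ⟶ W),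
      ω (IsLocalRing.closedPoint K) = w :=
  ⟨AlgebraicClosure (W.residueField w), inferInstance, inferInstance,
    Spec.map (CommRingCat.ofHom
      (algebraMap (W.residueField w) (AlgebraicClosure (W.residueField w)))) ≫
      W.fromSpecResidueField w, by
    rw [Scheme.Hom.comp_apply]
    exact Scheme.fromSpecResidueField_apply _ _⟩

/-- Let g : S' ⟶ S be universally submersive with geometrically connected fibres (the base change of S'
to any algebraically closed field valued point of S is connected). Then S' is connected whenever S
is, and for schemes X, Y etale over S every S'-morphism between their base changes comes from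
exactly one S-morphism X ⟶ Y. -/
theorem result {S' S : Scheme.{u}} (g : S' ⟶ S)
    (hg : SGA1.UnivSubmersive g)
    (hconn : ∀ (K : Type u) [Field K] [IsAlgClosed K] (ξ : Spec (CommRingCat.of K) ⟶ S), ConnectedSpace ↑(pullback g ξ)) :
    (ConnectedSpace S → ConnectedSpace S') ∧
    ∀ (X Y : Over S) [Etale X.hom] [Etale Y.hom], Function.Bijective ((Over.pullback g).map : (X ⟶ Y) → _) := by
  have hq := Lib.Subtrusive.Submersive.isQuotientMap_of_univSubmersive hg
  have : Surjective g := ⟨hq.surjective⟩
  refine ⟨fun _ => ?_, fun X Y _ _ => ⟨fun u v huv => ?_, fun f' => ?_⟩⟩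
  · have hfib : ∀ s : S, _root_.IsConnected (g ⁻¹' {s}) := fun s => by
      let K := AlgebraicClosure (S.residueField s)
      let ξ : Spec (CommRingCat.of K) ⟶ S :=
        Spec.map (CommRingCat.ofHom (algebraMap (S.residueField s) K)) ≫ S.fromSpecResidueField s
      have := hconn K ξ
      have e : g ⁻¹' {s} = Set.range (pullback.fst g ξ) := by
        rw [Scheme.Pullback.range_fst]
        congr 1
        rw [Scheme.Hom.comp_base, TopCat.coe_comp, Set.range_comp]
        symm
        refine Set.eq_singleton_iff_unique_mem.mpr ⟨⟨_, ⟨IsLocalRing.closedPoint K, rfl⟩,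
          Scheme.fromSpecResidueField_apply _ _⟩, ?_⟩
        rintro _ ⟨_, -, rfl⟩
        exact Scheme.fromSpecResidueField_apply _ _
      rw [e, ← Set.image_univ]
      exact isConnected_univ.image _ (pullback.fst g ξ).continuous.continuousOn
    have h := hq.isCoinducing.isConnected_preimage_of_isClosed hfib isClosed_univ isConnected_univ
    exact connectedSpace_iff_univ.mpr h
  · have h := congrArg (fun m => m.left ≫ pullback.fst _ _) huv
    simp only [Over.pullback_map_left, pullback.lift_fst] at h
    refine Over.OverMorphism.ext (Groth.Agent.S3707.result g X.hom Y.hom u.left v.left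
      (by rw [Category.comp_id]; exact (Over.w u).symm)
      (by rw [Category.comp_id]; exact (Over.w v).symm) ?_)
    refine pullback.hom_ext ?_ ?_
    · rw [pullback.map, pullback.map, pullback.lift_fst, pullback.lift_fst, h]
    · rw [pullback.map, pullback.map, pullback.lift_snd, pullback.lift_snd]
  · let p := X.hom
    let q := Y.hom
    have hf' : (f'.left : pullback p g ⟶ pullback q g) ≫ pullback.snd q g = pullback.snd p g :=
      Over.w f'
    let m₁ : pullback p (pullback.fst g g ≫ g) ⟶ Y.left :=
      pullback.map p (pullback.fst g g ≫ g) p g (𝟙 _) (pullback.fst g g) (𝟙 S)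
        ((Category.comp_id _).trans (Category.id_comp _).symm) (Category.comp_id _) ≫
      (f'.left : pullback p g ⟶ pullback q g) ≫ pullback.fst q g
    let m₂ : pullback p (pullback.fst g g ≫ g) ⟶ Y.left :=
      pullback.map p (pullback.fst g g ≫ g) p g (𝟙 _) (pullback.snd g g) (𝟙 S)
        ((Category.comp_id _).trans (Category.id_comp _).symm)
        ((Category.comp_id _).trans pullback.condition) ≫
      (f'.left : pullback p g ⟶ pullback q g) ≫ pullback.fst q g
    have hfq : (f'.left : pullback p g ⟶ pullback q g) ≫ pullback.fst q g ≫ q =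
        pullback.fst p g ≫ p := by
      rw [pullback.condition, reassoc_of% hf', pullback.condition]
    have hm : m₁ ≫ q = pullback.fst _ _ ≫ p ∧ m₂ ≫ q = pullback.fst _ _ ≫ p := by
      constructor <;>
      · simp only [m₁, m₂, Category.assoc]
        rw [hfq, pullback.map, pullback.lift_fst_assoc, Category.assoc, Category.id_comp]
    have : FormallyUnramified q := inferInstance
    let Δ : pullback p (pullback.fst g g ≫ g) ⟶ pullback q q :=
      pullback.lift m₁ m₂ (hm.1.trans hm.2.symm)
    have key : ∀ (K : Type u) [Field K] [IsAlgClosed K]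
        (ω : Spec (CommRingCat.of K) ⟶ pullback p (pullback.fst g g ≫ g)), ω ≫ m₁ = ω ≫ m₂ := by
      intro K _ _ ω
      let ξ : Spec (CommRingCat.of K) ⟶ S := ω ≫ pullback.fst _ _ ≫ p
      have := hconn K ξ
      let j : pullback g ξ ⟶ pullback p g :=
        pullback.lift (pullback.snd g ξ ≫ ω ≫ pullback.fst _ _) (pullback.fst g ξ)
          (by rw [pullback.condition (f := g) (g := ξ)]; simp only [ξ, Category.assoc])
      let n : pullback g ξ ⟶ Y.left := j ≫ f'.left ≫ pullback.fst q g
      have hn : n ≫ q = pullback.snd g ξ ≫ ξ := by
        simp only [n, Category.assoc]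
        rw [hfq, pullback.lift_fst_assoc]
        simp only [ξ, Category.assoc]
      let n₀ : pullback g ξ ⟶ pullback q ξ := pullback.lift n (pullback.snd g ξ) hn
      have e₁ : (ω ≫ pullback.snd _ _ ≫ pullback.fst g g) ≫ g = 𝟙 _ ≫ ξ := by
        rw [Category.id_comp]; simp only [ξ, Category.assoc]; rw [← pullback.condition]
      have e₂ : (ω ≫ pullback.snd _ _ ≫ pullback.snd g g) ≫ g = 𝟙 _ ≫ ξ := by
        rw [← e₁]; simp only [Category.assoc, pullback.condition]
      let a₁ : Spec (CommRingCat.of K) ⟶ pullback g ξ := pullback.lift _ (𝟙 _) e₁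
      let a₂ : Spec (CommRingCat.of K) ⟶ pullback g ξ := pullback.lift _ (𝟙 _) e₂
      have ha : a₁ ≫ n = ω ≫ m₁ ∧ a₂ ≫ n = ω ≫ m₂ := by
        constructor <;> simp only [n, m₁, m₂, ← Category.assoc] <;> congr 2 <;>
          refine pullback.hom_ext ?_ ?_ <;>
          simp only [j, a₁, a₂, pullback.map, Category.assoc, pullback.lift_fst, pullback.lift_snd,
            Category.comp_id, pullback.lift_snd_assoc, Category.id_comp, pullback.lift_fst_assoc]
      have hd : DiscreteTopology ↥(pullback q ξ) := by
        have : LocallyQuasiFinite (pullback.snd q ξ) :=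
          Lib.AlgSpace.locallyQuasiFinite_of_etale _
        have h := (pullback.snd q ξ).isDiscrete_preimage_singleton (IsLocalRing.closedPoint K)
        refine isDiscrete_univ_iff.mp (h.mono ?_)
        exact fun a _ => Set.mem_preimage.mpr (Set.mem_singleton_iff.mpr (Subsingleton.elim
          (α := PrimeSpectrum K) _ _))
      have := ext_of_apply_closedPoint_eq (f := a₁ ≫ n₀) (g := a₂ ≫ n₀) (pullback.snd q ξ)
        (by simp only [n₀, a₁, Category.assoc, pullback.lift_snd])
        (by simp only [n₀, a₂, Category.assoc, pullback.lift_snd])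
        (PreconnectedSpace.constant (inferInstance : PreconnectedSpace ↥(pullback g ξ))
          n₀.continuous)
      rw [← ha.1, ← ha.2]
      have := congrArg (· ≫ pullback.fst q ξ) this
      simpa only [n₀, Category.assoc, pullback.lift_fst] using this
    have : Surjective (pullback.fst Δ (pullback.diagonal q)) := ⟨fun w => by
      obtain ⟨K, _, _, ω, hω⟩ := exists_geometric_point _ w
      let l : Spec (CommRingCat.of K) ⟶ pullback Δ (pullback.diagonal q) :=
        pullback.lift ω (ω ≫ m₁) (by
          refine pullback.hom_ext ?_ ?_
          · simp only [Δ, Category.assoc, pullback.lift_fst, pullback.diagonal_fst, Category.comp_id]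
          · simp only [Δ, Category.assoc, pullback.lift_snd, pullback.diagonal_snd, Category.comp_id]
            exact (key K ω).symm)
      refine ⟨l (IsLocalRing.closedPoint K), ?_⟩
      rw [← Scheme.Hom.comp_apply, pullback.lift_fst]
      exact hω⟩
    have : IsOpenImmersion (pullback.fst Δ (pullback.diagonal q)) :=
      MorphismProperty.pullback_fst _ _ inferInstance
    have : IsIso (pullback.fst Δ (pullback.diagonal q)) :=
      (isIso_iff_isOpenImmersion_and_surjective _).mpr ⟨inferInstance, inferInstance⟩
    have hm12 : m₁ = m₂ := by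
      have h := pullback.condition (f := Δ) (g := pullback.diagonal q)
      have h1 := congrArg (· ≫ pullback.fst q q) h
      have h2 := congrArg (· ≫ pullback.snd q q) h
      simp only [Δ, Category.assoc, pullback.lift_fst, pullback.diagonal_fst, Category.comp_id,
        pullback.lift_snd, pullback.diagonal_snd] at h1 h2
      exact (cancel_epi (pullback.fst Δ (pullback.diagonal q))).mp (h1.trans h2.symm)
    obtain ⟨u, ⟨hu1, hu2⟩, -⟩ :=
      Groth.Agent.S3709.result g hg p q f'.left hf' hm12
    refine ⟨Over.homMk u hu1, Over.OverMorphism.ext ?_⟩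
    simp only [Over.pullback_map_left]
    refine pullback.hom_ext ?_ ?_
    · rw [pullback.lift_fst]; exact hu2.symm
    · rw [pullback.lift_snd]; exact hf'.symm

end Groth.Agent.S2916
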