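import Groth.Statements.S2919
import Groth.Agent.Lib.SchQuot.FreeScheme

set_option autoImplicit false
open CategoryTheory CategoryTheory.Limits AlgebraicGeometry
universe u
open SGA1

namespace Groth.Agent.S2919

/-- Let a finite group G act on X, p : X ⟶ Y a quotient with Y locally Noetherian and p finite, G acting
freely on geometric points, and suppose p has a section. Then the morphism from the disjoint union
of copies of Y indexed by G to X which is s followed by the action of g on the g-th copy is an
isomorphism. -/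
theorem result {X Y : Scheme.{u}} {G : Type u} [Group G] [Finite G] (ρ : G →* Aut X)
    (p : X ⟶ Y) (hp : SGA1.IsQuot ρ p) [IsLocallyNoetherian Y] [IsFinite p]
    (hfree : (∀ (K : Type u) [Field K] [IsAlgClosed K] (ξ : Spec (CommRingCat.of K) ⟶ X) (g : G), ξ ≫ (ρ g).hom = ξ → g = 1)) (s : Y ⟶ X) (hs : s ≫ p = 𝟙 Y) :
    IsIso (Sigma.desc (fun g : G => s ≫ (ρ g).hom) : (∐ fun _ : G => Y) ⟶ X) := by
  have := Groth.Agent.Lib.SchQuot.FreeScheme.etale hp hfree
  have hsec : ∀ g : G, (s ≫ (ρ g).hom) ≫ p = 𝟙 Y := fun g => by rw [Category.assoc, hp.inv, hs]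
  refine Groth.Agent.Lib.SchQuot.FreeScheme.isIso_sigmaDesc p _ hsec (fun K _ _ ω g h e => ?_) (fun K _ _ ω => ?_)
  · exact Groth.Agent.Lib.SchQuot.FreeScheme.eq_of_fixed hfree (ω ≫ s) (by simpa only [Category.assoc] using e)
  · obtain ⟨g, hg⟩ := Groth.Agent.Lib.SchQuot.FreeScheme.exists_translate_hom hp hfree (ω ≫ p ≫ s) ω
      (by simp only [Category.assoc, hs, Category.comp_id])
    exact ⟨g, by simpa only [Category.assoc] using hg⟩

end Groth.Agent.S2919
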