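import Groth.Statements.S2920
import Groth.Agent.Lib.SchQuot.FreeScheme

set_option autoImplicit false
open CategoryTheory CategoryTheory.Limits AlgebraicGeometry
universe u
open SGA1

namespace Groth.Agent.S2920

/-- (i) ⇒ (iii): Let a finite group G act on X, p : X ⟶ Y a quotient with Y locally Noetherian and p
finite, G acting freely on geometric points. Then the morphism from the disjoint union of copies of
X indexed by G to X ×_Y X given on the g-th copy by (id, g) is an isomorphism, and p is flat and
surjective. -/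
theorem result {X Y : Scheme.{u}} {G : Type u} [Group G] [Finite G] (ρ : G →* Aut X)
    (p : X ⟶ Y) (hp : SGA1.IsQuot ρ p) [IsLocallyNoetherian Y] [IsFinite p] (hfree : (∀ (K : Type u) [Field K] [IsAlgClosed K] (ξ : Spec (CommRingCat.of K) ⟶ X) (g : G), ξ ≫ (ρ g).hom = ξ → g = 1)) :
    IsIso (Sigma.desc (fun g : G => pullback.lift (𝟙 X) (ρ g).hom ((Category.id_comp p).trans (hp.inv g).symm)) :
      (∐ fun _ : G => X) ⟶ pullback p p) ∧ Flat p ∧ Surjective p := by
  have := Groth.Agent.Lib.SchQuot.FreeScheme.etale hp hfree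
  refine ⟨?_, inferInstance, ⟨Groth.Agent.Lib.SchQuot.IsQuot.surjective hp⟩⟩
  refine Groth.Agent.Lib.SchQuot.FreeScheme.isIso_sigmaDesc (pullback.fst p p) _ (fun g => pullback.lift_fst _ _ _)
    (fun K _ _ ω g h e => ?_) (fun K _ _ ω => ?_)
  · have e' := congrArg (· ≫ pullback.snd p p) e
    simp only [Category.assoc, pullback.lift_snd] at e'
    exact Groth.Agent.Lib.SchQuot.FreeScheme.eq_of_fixed hfree ω e'
  · obtain ⟨g, hg⟩ := Groth.Agent.Lib.SchQuot.FreeScheme.exists_translate_hom hp hfree (ω ≫ pullback.fst p p) (ω ≫ pullback.snd p p)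
      (by simp only [Category.assoc, pullback.condition])
    refine ⟨g, pullback.hom_ext ?_ ?_⟩
    · simp only [Category.assoc, pullback.lift_fst, Category.comp_id]
    · rw [← hg]; simp only [Category.assoc, pullback.lift_snd]

end Groth.Agent.S2920
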