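import Groth.Statements.S2921
import Groth.Agent.Lib.Kummer.Alg

set_option autoImplicit false
universe u
open IsLocalRing
open SGA1

namespace Groth.Agent.S2921

/-- Regularity and etaleness; the tameness assertion is not stated: Let A be a regular local ring, f_1,
…, f_r elements of the maximal ideal whose images in the cotangent space are linearly independent
(part of a regular system of parameters), and n_1, …, n_r ≥ 1. Then A' = A[T_1, …, T_r]/(T_i^{n_i} −
f_i) is a regular local ring; and if each n_i is invertible in the residue field of A, then A'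
becomes etale over A after inverting f_1 ⋯ f_r. -/
theorem result (A : Type u) [CommRing A] [IsRegularLocalRing A] (r : ℕ) (f : Fin r → A)
    (hm : ∀ i, f i ∈ maximalIdeal A)
    (hf : LinearIndependent (ResidueField A) (fun i => (maximalIdeal A).toCotangent ⟨f i, hm i⟩))
    (n : Fin r → ℕ) (hn : ∀ i, 1 ≤ n i) :
    IsRegularLocalRing (SGA1.kummerAlg A f n) ∧
    ((∀ i, IsUnit ((n i : ℕ) : ResidueField A)) →
      letI := (Localization.awayMap (algebraMap A (SGA1.kummerAlg A f n)) (∏ i, f i)).toAlgebra
      Algebra.Etale (Localization.Away (∏ i, f i)) (Localization.Away (algebraMap A (SGA1.kummerAlg A f n) (∏ i, f i)))) := by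
  refine ⟨Groth.Agent.Lib.Kummer.Alg.isRegularLocalRing f n hn hm hf, fun hu => ?_⟩
  letI := (Localization.awayMap (algebraMap A (SGA1.kummerAlg A f n)) (∏ i, f i)).toAlgebra
  have : IsScalarTower A (Localization.Away (∏ i, f i))
      (Localization.Away (algebraMap A (SGA1.kummerAlg A f n) (∏ i, f i))) :=
    .of_algebraMap_eq fun a => by
      rw [RingHom.algebraMap_toAlgebra, Localization.awayMap, IsLocalization.Away.map,
        IsLocalization.map_eq, ← IsScalarTower.algebraMap_apply]
  refine Groth.Agent.Lib.Kummer.Alg.etale f n (∏ i, f i) _ _ (fun i => ?_) (fun i => ?_) hn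
  · refine IsUnit.map _ ?_
    by_contra h
    have h' : ((n i : ℕ) : A) ∈ maximalIdeal A := h
    have := (hu i).ne_zero
    rw [← map_natCast (residue A), (residue_eq_zero_iff _).2 h'] at this
    exact this rfl
  · exact IsLocalization.Away.isUnit_of_dvd (∏ i, f i) (Finset.dvd_prod_of_mem f (Finset.mem_univ i))

end Groth.Agent.S2921
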