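import Groth.Statements.S2922
import Groth.Agent.Lib.Abhyankar.Extend
import Mathlib.AlgebraicGeometry.Morphisms.Etale
import Mathlib.AlgebraicGeometry.Morphisms.Finite
import Mathlib.AlgebraicGeometry.Pullbacks
import Mathlib.Algebra.Category.Ring.Constructions
import Mathlib.RingTheory.Localization.BaseChange

set_option autoImplicit false
universe u
open IsLocalRing
open SGA1

namespace Groth.Agent.S2922

open AlgebraicGeometry CategoryTheory CategoryTheory.Limits in
/-- Absolute Abhyankar lemma, in the form that suitable exponents exist. Let A be a regular local ring,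
f_1, …, f_r elements of the maximal ideal that are part of a regular system of parameters (each
generating a prime ideal), X = Spec A, U the open subset where f_1 ⋯ f_r is invertible, and V a
finite étale cover of U which is tamely ramified along each f_i (at every point of its generic
fibre, with respect to the discrete valuation rings A_{(f_i)}). Then there are exponents n_i ≥ 1,
invertible in the residue field of A, such that the pullback of V to the Kummer covering X' = Spec
A[T_1, …, T_r]/(T_i^{n_i} − f_i) extends to a finite étale cover of X'. The published statement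
takes n_i to be the least common multiple of the inertia orders along f_i = 0; here only the
existence of suitable exponents is asserted. -/
theorem result (A : Type u) [CommRing A] [IsRegularLocalRing A] [IsDomain A] (r : ℕ) (f : Fin r → A)
    (hm : ∀ i, f i ∈ maximalIdeal A)
    (hf : LinearIndependent (ResidueField A) (fun i => (maximalIdeal A).toCotangent ⟨f i, hm i⟩))
    [∀ i, (Ideal.span {f i}).IsPrime]
    (V : FEt.Cat ((SGA1.specBasicOpen A (∏ i, f i)) : Scheme.{u})) (htame : SGA1.IsTameAlong f (((V.hom ≫ ((SGA1.specBasicOpen A (∏ i, f i))).ι).appTop).hom.comp (Scheme.ΓSpecIso (CommRingCat.of A)).inv.hom)) :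
    ∃ n : Fin r → ℕ, (∀ i, 1 ≤ n i) ∧ (∀ i, IsUnit ((n i : ℕ) : ResidueField A)) ∧
      ∃ W : FEt.Cat (Spec (CommRingCat.of (SGA1.kummerAlg A f n))),
        Nonempty ((FEt.restrict ((Spec.map (CommRingCat.ofHom (algebraMap A (SGA1.kummerAlg A f n)))) ⁻¹ᵁ (SGA1.specBasicOpen A (∏ i, f i))).ι).obj W ≅ (FEt.restrict ((Spec.map (CommRingCat.ofHom (algebraMap A (SGA1.kummerAlg A f n)))) ∣_ (SGA1.specBasicOpen A (∏ i, f i)))).obj V) := by
  classical
  have : IsIntegrallyClosed A := Groth.Agent.Lib.Regular.UFD.isIntegrallyClosed A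
  let F := ∏ i, f i
  let Af := Localization.Away F
  let U := SGA1.specBasicOpen A F
  let iU : (U : Scheme.{u}) ≅ Spec (CommRingCat.of Af) := basicOpenIsoSpecAway (R := CommRingCat.of A) F
  have hiU : iU.hom ≫ Spec.map (CommRingCat.ofHom (algebraMap A Af)) = U.ι :=
    basicOpenIsoSpecAway_hom_SpecMap (R := CommRingCat.of A) F
  let h : V.left ⟶ Spec (CommRingCat.of Af) := V.hom ≫ iU.hom
  have hVf : IsFinite V.hom := V.prop.1
  have hVe : Etale V.hom := V.prop.2
  have : IsFinite h := MorphismProperty.comp_mem _ _ _ hVf inferInstance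
  have : Etale h := MorphismProperty.comp_mem _ _ _ hVe inferInstance
  have : IsAffine V.left := isAffine_of_isAffineHom h
  let B := Γ(V.left, ⊤)
  let χ₀ : CommRingCat.of Af ⟶ B := (Scheme.ΓSpecIso (CommRingCat.of Af)).inv ≫ h.appTop
  have hfin : χ₀.hom.Finite := by
    obtain ⟨-, hh⟩ := HasAffineProperty.iff_of_isAffine (P := @IsFinite) |>.1 (inferInstance : IsFinite h)
    exact hh.comp (RingHom.Finite.of_surjective _ (Scheme.ΓSpecIso (CommRingCat.of Af)).symm.commRingCatIsoToRingEquiv.surjective)
  have het : χ₀.hom.Etale := by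
    have hh : h.appTop.hom.Etale := HasRingHomProperty.iff_of_isAffine (P := @Etale) |>.1 inferInstance
    exact RingHom.Etale.stableUnderComposition _ _
      (RingHom.Etale.of_bijective (Scheme.ΓSpecIso (CommRingCat.of Af)).symm.commRingCatIsoToRingEquiv.bijective) hh
  let φA : A →+* B := ((V.hom ≫ U.ι).appTop).hom.comp (Scheme.ΓSpecIso (CommRingCat.of A)).inv.hom
  let _ : Algebra Af B := χ₀.hom.toAlgebra
  let _ : Algebra A B := φA.toAlgebra
  have hcomp : φA = χ₀.hom.comp (algebraMap A Af) := by
    have e1 : V.hom ≫ U.ι = h ≫ Spec.map (CommRingCat.ofHom (algebraMap A Af)) := by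
      rw [Category.assoc, hiU]
    have e2 : (Scheme.ΓSpecIso (CommRingCat.of A)).inv ≫ (V.hom ≫ U.ι).appTop =
        CommRingCat.ofHom (algebraMap A Af) ≫ χ₀ := by
      rw [e1, Scheme.Hom.comp_appTop, ← Category.assoc, ← Category.assoc,
        Scheme.ΓSpecIso_inv_naturality]
    exact congrArg CommRingCat.Hom.hom e2
  have : IsScalarTower A Af B := IsScalarTower.of_algebraMap_eq fun a => RingHom.congr_fun hcomp a
  have : Module.Finite Af B := hfin
  have : Algebra.Etale Af B := het
  obtain ⟨n, hn, hu, W₀, hWet, hWfin, hWloc⟩ :=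
    Groth.Agent.Lib.Abhyankar.Extend.exists_extension hm hf B htame
  refine ⟨n, hn, hu, ?_⟩
  let K := SGA1.kummerAlg A f n
  let Kg := Localization.Away (algebraMap A K F)
  let B' := TensorProduct Af Kg B
  let p := Spec.map (CommRingCat.ofHom (algebraMap A K))
  let jg : Spec (CommRingCat.of Kg) ⟶ Spec (CommRingCat.of K) :=
    Spec.map (CommRingCat.ofHom (algebraMap K Kg))
  have hrange : Set.range (p ⁻¹ᵁ U).ι = Set.range jg := by
    rw [Scheme.Opens.range_ι]
    exact (PrimeSpectrum.localization_away_comap_range Kg (algebraMap A K F)).symm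
  let eP := IsOpenImmersion.isoOfRangeEq (p ⁻¹ᵁ U).ι jg hrange
  have heP : eP.hom ≫ jg = (p ⁻¹ᵁ U).ι := IsOpenImmersion.isoOfRangeEq_hom_fac _ _ _
  let wHom : Spec (CommRingCat.of W₀) ⟶ Spec (CommRingCat.of K) :=
    Spec.map (CommRingCat.ofHom (algebraMap K W₀))
  have hw1 : IsFinite wHom := (IsFinite.SpecMap_iff _).2 (RingHom.finite_algebraMap.2 hWfin)
  have hw2 : Etale wHom := HasRingHomProperty.Spec_iff.2 (RingHom.etale_algebraMap.2 hWet)
  let W : FEt.Cat (Spec (CommRingCat.of K)) := MorphismProperty.Over.mk ⊤ wHom ⟨hw1, hw2⟩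
  refine ⟨W, ?_⟩
  -- the two squares
  have hpushW : Algebra.IsPushout K W₀ Kg B' :=
    Algebra.isPushout_of_isLocalization (Submonoid.powers (algebraMap A K F)) _ _ _
  let _ : Algebra B B' := Algebra.TensorProduct.rightAlgebra
  have : IsScalarTower Af B B' := IsScalarTower.of_algebraMap_eq fun x =>
    (Algebra.TensorProduct.tmul_one_eq_one_tmul x)
  have hpushB : Algebra.IsPushout Af Kg B B' := inferInstance
  have := hpushB.symm
  let toU : Spec (CommRingCat.of B') ⟶ ((p ⁻¹ᵁ U) : Scheme.{u}) :=
    Spec.map (CommRingCat.ofHom (algebraMap Kg B')) ≫ eP.inv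
  have hW2 : IsPullback (Spec.map (CommRingCat.ofHom (algebraMap W₀ B'))) toU wHom (p ⁻¹ᵁ U).ι :=
    (isPullback_SpecMap_of_isPushout _ _ _ _ (CommRingCat.isPushout_of_isPushout K W₀ Kg B')).of_iso
      (Iso.refl _) (Iso.refl _) eP.symm (Iso.refl _) (by simp) (by simp [toU]) (by simp [wHom])
      (by simp [← heP, jg])
  have hiso : Spec.map (CommRingCat.ofHom (algebraMap Af B)) ≫ iU.inv = V.left.isoSpec.inv ≫ V.hom := by
    rw [Iso.comp_inv_eq, Category.assoc]
    have e3 : V.left.isoSpec.inv ≫ h = Spec.map χ₀ := by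
      refine (Scheme.isoSpec_inv_naturality (X := V.left) h).symm.trans ?_
      rw [Spec.map_comp, Scheme.isoSpec_Spec_inv]
    exact e3.symm
  have hKU : Spec.map (CommRingCat.ofHom (algebraMap Af Kg)) ≫ iU.inv = eP.inv ≫ (p ∣_ U) := by
    rw [← cancel_mono U.ι, Category.assoc, Category.assoc, morphismRestrict_ι, ← hiU, Iso.inv_hom_id_assoc,
      ← heP, Category.assoc, Iso.inv_hom_id_assoc, ← Spec.map_comp, ← Spec.map_comp]
    congr 1
    refine CommRingCat.hom_ext (RingHom.ext fun a => ?_)
    show algebraMap Af Kg (algebraMap A Af a) = algebraMap K Kg (algebraMap A K a)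
    rw [← IsScalarTower.algebraMap_apply A Af Kg, ← IsScalarTower.algebraMap_apply A K Kg]
  have hV2 : IsPullback (Spec.map (CommRingCat.ofHom (algebraMap B B')) ≫ V.left.isoSpec.inv) toU V.hom (p ∣_ U) :=
    (isPullback_SpecMap_of_isPushout _ _ _ _ (CommRingCat.isPushout_of_isPushout Af B Kg B')).of_iso
      (Iso.refl _) V.left.isoSpec.symm eP.symm iU.symm (by simp) (by simp [toU]) hiso hKU
  refine ⟨MorphismProperty.Over.isoMk (hW2.isoPullback.symm ≪≫ hV2.isoPullback) ?_⟩
  show (hW2.isoPullback.symm ≪≫ hV2.isoPullback).hom ≫ pullback.snd _ _ = pullback.snd _ _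
  rw [Iso.trans_hom, Iso.symm_hom, Category.assoc, IsPullback.isoPullback_hom_snd, IsPullback.isoPullback_inv_snd]

end Groth.Agent.S2922
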