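import Groth.Statements.S2923
import Groth.Agent.Lib.Abhyankar.Cover
import Mathlib.AlgebraicGeometry.Morphisms.Etale
import Mathlib.AlgebraicGeometry.Morphisms.Finite
import Mathlib.RingTheory.Ideal.GoingUp

set_option autoImplicit false
universe u
open IsLocalRing
open SGA1

namespace Groth.Agent.S2923

open AlgebraicGeometry CategoryTheory CategoryTheory.Limits in
/-- The Kummer coverings are cofinal among tame covers: let A be a strictly henselian regular local ring
(henselian with separably closed residue field), f_1, …, f_r part of a regular system of parameters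
with each (f_i) a prime ideal, U ⊆ X = Spec A the open where f_1 ⋯ f_r is invertible, and V a
connected finite etale cover of U tamely ramified along each f_i. Then for some exponents n_i ≥ 1
invertible in the residue field there is a surjective U-morphism from the restriction to U of the
Kummer covering Spec A[T_1, …, T_r]/(T_i^{n_i} − f_i) onto V. -/
theorem result (A : Type u) [CommRing A] [IsRegularLocalRing A] [IsDomain A] (r : ℕ) (f : Fin r → A)
    (hm : ∀ i, f i ∈ maximalIdeal A)
    (hf : LinearIndependent (ResidueField A) (fun i => (maximalIdeal A).toCotangent ⟨f i, hm i⟩))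
    [∀ i, (Ideal.span {f i}).IsPrime]
    [HenselianLocalRing A] [IsSepClosed (ResidueField A)]
    (V : FEt.Cat ((SGA1.specBasicOpen A (∏ i, f i)) : Scheme.{u})) [ConnectedSpace V.left] (htame : SGA1.IsTameAlong f (((V.hom ≫ ((SGA1.specBasicOpen A (∏ i, f i))).ι).appTop).hom.comp (Scheme.ΓSpecIso (CommRingCat.of A)).inv.hom)) :
    ∃ n : Fin r → ℕ, (∀ i, 1 ≤ n i) ∧ (∀ i, IsUnit ((n i : ℕ) : ResidueField A)) ∧
      ∃ φ : (↑((Spec.map (CommRingCat.ofHom (algebraMap A (SGA1.kummerAlg A f n)))) ⁻¹ᵁ (SGA1.specBasicOpen A (∏ i, f i))) : Scheme.{u}) ⟶ V.left, φ ≫ V.hom = (Spec.map (CommRingCat.ofHom (algebraMap A (SGA1.kummerAlg A f n)))) ∣_ (SGA1.specBasicOpen A (∏ i, f i)) ∧ Surjective φ := by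

  classical
  open AlgebraicGeometry CategoryTheory CategoryTheory.Limits in
  have : IsIntegrallyClosed A := Groth.Agent.Lib.Regular.UFD.isIntegrallyClosed A
  let F := ∏ i, f i
  let Af := Localization.Away F
  let U := SGA1.specBasicOpen A F
  let iU : (U : Scheme.{u}) ≅ Spec (CommRingCat.of Af) := basicOpenIsoSpecAway (R := CommRingCat.of A) F
  have hiU : iU.hom ≫ Spec.map (CommRingCat.ofHom (algebraMap A Af)) = U.ι :=
    basicOpenIsoSpecAway_hom_SpecMap (R := CommRingCat.of A) F
  let h : V.left ⟶ Spec (CommRingCat.of Af) := V.hom ≫ iU.hom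
  have hVf : IsFinite V.hom := V.prop.1
  have hVe : Etale V.hom := V.prop.2
  have : IsFinite h := MorphismProperty.comp_mem _ _ _ hVf inferInstance
  have : Etale h := MorphismProperty.comp_mem _ _ _ hVe inferInstance
  have : IsAffine V.left := isAffine_of_isAffineHom h
  let B := Γ(V.left, ⊤)
  let χ₀ : CommRingCat.of Af ⟶ B := (Scheme.ΓSpecIso (CommRingCat.of Af)).inv ≫ h.appTop
  have hfin : χ₀.hom.Finite := by
    obtain ⟨-, hh⟩ := HasAffineProperty.iff_of_isAffine (P := @IsFinite) |>.1 (inferInstance : IsFinite h)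
    exact hh.comp (RingHom.Finite.of_surjective _ (Scheme.ΓSpecIso (CommRingCat.of Af)).symm.commRingCatIsoToRingEquiv.surjective)
  have het : χ₀.hom.Etale := by
    have hh : h.appTop.hom.Etale := HasRingHomProperty.iff_of_isAffine (P := @Etale) |>.1 inferInstance
    exact RingHom.Etale.stableUnderComposition _ _
      (RingHom.Etale.of_bijective (Scheme.ΓSpecIso (CommRingCat.of Af)).symm.commRingCatIsoToRingEquiv.bijective) hh
  let φA : A →+* B := ((V.hom ≫ U.ι).appTop).hom.comp (Scheme.ΓSpecIso (CommRingCat.of A)).inv.hom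
  let _ : Algebra Af B := χ₀.hom.toAlgebra
  let _ : Algebra A B := φA.toAlgebra
  have hcomp : φA = χ₀.hom.comp (algebraMap A Af) := by
    have e1 : V.hom ≫ U.ι = h ≫ Spec.map (CommRingCat.ofHom (algebraMap A Af)) := by
      rw [Category.assoc, hiU]
    have e2 : (Scheme.ΓSpecIso (CommRingCat.of A)).inv ≫ (V.hom ≫ U.ι).appTop =
        CommRingCat.ofHom (algebraMap A Af) ≫ χ₀ := by
      rw [e1, Scheme.Hom.comp_appTop, ← Category.assoc, ← Category.assoc,
        Scheme.ΓSpecIso_inv_naturality]
    exact congrArg CommRingCat.Hom.hom e2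
  have : IsScalarTower A Af B := IsScalarTower.of_algebraMap_eq fun a => RingHom.congr_fun hcomp a
  have : Module.Finite Af B := hfin
  have : Algebra.Etale Af B := het
  have : ConnectedSpace (PrimeSpectrum B) :=
    V.left.isoSpec.hom.homeomorph.surjective.connectedSpace V.left.isoSpec.hom.continuous
  obtain ⟨n, hn, hu, χ, hχ⟩ := Groth.Agent.Lib.Abhyankar.Cover.exists_algHom f hm hf B htame
  refine ⟨n, hn, hu, ?_⟩
  let K := SGA1.kummerAlg A f n
  let Kg := Localization.Away (algebraMap A K F)
  let p := Spec.map (CommRingCat.ofHom (algebraMap A K))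
  let jg : Spec (CommRingCat.of Kg) ⟶ Spec (CommRingCat.of K) :=
    Spec.map (CommRingCat.ofHom (algebraMap K Kg))
  have hrange : Set.range (p ⁻¹ᵁ U).ι = Set.range jg := by
    rw [Scheme.Opens.range_ι]
    exact (PrimeSpectrum.localization_away_comap_range Kg (algebraMap A K F)).symm
  let eP := IsOpenImmersion.isoOfRangeEq (p ⁻¹ᵁ U).ι jg hrange
  have heP : eP.hom ≫ jg = (p ⁻¹ᵁ U).ι := IsOpenImmersion.isoOfRangeEq_hom_fac _ _ _
  refine ⟨eP.hom ≫ Spec.map (CommRingCat.ofHom χ.toRingHom) ≫ V.left.isoSpec.inv, ?_, ?_⟩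
  · rw [← cancel_mono U.ι, morphismRestrict_ι, ← heP]
    simp only [Category.assoc]
    congr 1
    have e3 : V.left.isoSpec.inv ≫ V.hom ≫ U.ι = Spec.map (CommRingCat.ofHom φA) := by
      refine (Scheme.isoSpec_inv_naturality (X := V.left) (V.hom ≫ U.ι)).symm.trans ?_
      have : CommRingCat.ofHom φA = (Scheme.ΓSpecIso (CommRingCat.of A)).inv ≫ (V.hom ≫ U.ι).appTop := rfl
      rw [this, Spec.map_comp, Scheme.isoSpec_Spec_inv]
    rw [e3, ← Spec.map_comp, ← Spec.map_comp]
    congr 1
    refine CommRingCat.hom_ext (RingHom.ext fun a => ?_)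
    show χ (algebraMap A B a) = algebraMap K Kg (algebraMap A K a)
    rw [χ.commutes, IsScalarTower.algebraMap_apply A K Kg]
  · have hsurj : Surjective (Spec.map (CommRingCat.ofHom χ.toRingHom)) := ⟨by
      let _ : Algebra B Kg := χ.toRingHom.toAlgebra
      have : FaithfulSMul B Kg := (faithfulSMul_iff_algebraMap_injective _ _).2 hχ
      have hKA : Algebra.IsIntegral A K := Groth.Agent.Lib.Kummer.Alg.isIntegral f n hn
      have : Algebra.IsIntegral B Kg := by
        refine ⟨fun x => ?_⟩
        obtain ⟨⟨a, s⟩, hs⟩ := IsLocalization.surj (Submonoid.powers (algebraMap A K F)) x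
        obtain ⟨k, hk⟩ := s.2
        have hFu : IsUnit (algebraMap A B F) := by
          rw [IsScalarTower.algebraMap_apply A Af B]
          exact (IsLocalization.Away.algebraMap_isUnit F).map _
        have : IsScalarTower A B Kg := IsScalarTower.of_algebraMap_eq fun a => (χ.commutes a).symm
        have ha : IsIntegral B (algebraMap K Kg a) :=
          ((hKA.isIntegral a).map (IsScalarTower.toAlgHom A K Kg)).tower_top
        have : x = algebraMap K Kg a * algebraMap B Kg ((hFu.unit⁻¹ : Bˣ) ^ k : Bˣ) := by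
          rw [← hs, show (s : K) = algebraMap A K F ^ k from hk.symm, map_pow,
            ← IsScalarTower.algebraMap_apply A K Kg, IsScalarTower.algebraMap_apply A B Kg, ← map_pow,
            mul_assoc, ← map_mul, Units.val_pow_eq_pow_val, ← mul_pow, IsUnit.mul_val_inv, one_pow, map_one,
            mul_one]
        rw [this]
        exact ha.mul isIntegral_algebraMap
      intro q
      obtain ⟨Q, hQ1, hQ2⟩ := Ideal.nonempty_primesOver (S := Kg) (q : PrimeSpectrum B).asIdeal |>.some
      exact ⟨(⟨Q, hQ1⟩ : PrimeSpectrum Kg), PrimeSpectrum.ext hQ2.over.symm⟩⟩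
    infer_instance

end Groth.Agent.S2923
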