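import Groth.Statements.S2924
import Groth.Agent.Lib.Kummer.Alg
import Groth.Agent.Lib.Kummer.Tame

set_option autoImplicit false
universe u
open IsLocalRing
open SGA1

namespace Groth.Agent.S2924

/-- Let A be a regular local ring, f_1, …, f_r part of a regular system of parameters and n_i ≥ 1
invertible in the residue field. Then the Kummer algebra A[T_1, …, T_r]/(T_i^{n_i} − f_i) is tamely
ramified along each f_i (at every point of its generic fibre, with respect to the discrete valuation
rings A_{(f_i)}). -/
theorem result (A : Type u) [CommRing A] [IsRegularLocalRing A] [IsDomain A] (r : ℕ) (f : Fin r → A)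
    (hm : ∀ i, f i ∈ maximalIdeal A)
    (hf : LinearIndependent (ResidueField A) (fun i => (maximalIdeal A).toCotangent ⟨f i, hm i⟩))
    [∀ i, (Ideal.span {f i}).IsPrime] (n : Fin r → ℕ) (hn : ∀ i, 1 ≤ n i) (hu : ∀ i, IsUnit ((n i : ℕ) : ResidueField A)) :
    SGA1.IsTameAlong f (algebraMap A (SGA1.kummerAlg A f n)) := by
  intro i q _ hq
  let φ := algebraMap A (SGA1.kummerAlg A f n)
  let P : Ideal A := Ideal.span {f i}
  let R := Localization.AtPrime P
  let g : R →+* q.ResidueField := SGA1.genericResidueMap φ P q hq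
  let ψ : SGA1.kummerAlg A f n →+* q.ResidueField := algebraMap _ q.ResidueField
  have hgA : ∀ a, g (algebraMap A R a) = ψ (φ a) := fun a =>
    IsLocalization.lift_eq (M := P.primeCompl) (SGA1.isUnit_genericResidue φ P q hq) a
  have hψ : ∀ a, ψ (φ a) = 0 → a = 0 := fun a h => by
    rw [← RingHom.mem_ker, Ideal.ker_algebraMap_residueField] at h
    have h' : a ∈ Ideal.comap φ q := h
    rwa [hq, Ideal.mem_bot] at h'
  have hginj : Function.Injective g := by
    refine (injective_iff_map_eq_zero g).2 fun r hr => ?_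
    obtain ⟨⟨a, s⟩, ha⟩ := IsLocalization.surj P.primeCompl r
    have hga := congrArg g ha
    rw [map_mul, hr, zero_mul, hgA] at hga
    simp only [hψ a hga.symm, map_zero] at ha
    exact (IsUnit.mul_left_eq_zero (IsLocalization.map_units R s)).1 ha
  have hf0 : f i ≠ 0 := fun h => hf.ne_zero i (by
    rw [show (⟨f i, hm i⟩ : maximalIdeal A) = 0 from Subtype.ext h, map_zero])
  have hnotmem : ∀ j, j ≠ i → f j ∉ P := by
    intro j hj hmem
    obtain ⟨a, ha⟩ := Ideal.mem_span_singleton'.1 hmem
    refine hf.notMem_span_image (s := {i}) (x := j) (by simpa using hj) ?_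
    have : (maximalIdeal A).toCotangent ⟨f j, hm j⟩ =
        (residue A a) • (maximalIdeal A).toCotangent ⟨f i, hm i⟩ := by
      rw [show (⟨f j, hm j⟩ : maximalIdeal A) = a • ⟨f i, hm i⟩ from Subtype.ext ha.symm, map_smul]
      rfl
    rw [this, Set.image_singleton]
    exact Submodule.smul_mem _ _ (Submodule.subset_span rfl)
  refine Groth.Agent.Lib.Kummer.Tame.isTamelyRamified hginj (algebraMap A R (f i)) ?_ ?_
    (fun j => ψ (Groth.Agent.Lib.Kummer.Alg.t f n j)) (fun j => algebraMap A R (f j)) n i hn
    (fun j => ?_) (fun j hj => IsLocalization.map_units R (⟨f j, hnotmem j hj⟩ : P.primeCompl)) rfl (fun j => ?_) ?_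
  · intro h
    exact hf0 (IsLocalization.injective R P.primeCompl_le_nonZeroDivisors (h.trans (map_zero _).symm))
  · rw [← Localization.AtPrime.map_eq_maximalIdeal, Ideal.map_span, Set.image_singleton]
  · rw [← map_natCast (algebraMap A R)]
    refine IsUnit.map _ ?_
    by_contra h
    have h' : ((n j : ℕ) : A) ∈ maximalIdeal A := h
    have := (hu j).ne_zero
    rw [← map_natCast (residue A), (residue_eq_zero_iff _).2 h'] at this
    exact this rfl
  · rw [← map_pow, Groth.Agent.Lib.Kummer.Alg.t_pow, hgA]
  · refine top_unique fun y _ => ?_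
    let F := Subfield.closure (Set.range g ∪ Set.range fun j => ψ (Groth.Agent.Lib.Kummer.Alg.t f n j))
    have hB : ∀ b, ψ b ∈ F := by
      intro b
      have hb : b ∈ Algebra.adjoin A (Set.range (Groth.Agent.Lib.Kummer.Alg.t f n)) :=
        Groth.Agent.Lib.Kummer.Alg.adjoin_eq_top f n ▸ Algebra.mem_top
      induction hb using Algebra.adjoin_induction with
      | mem x hx => obtain ⟨j, rfl⟩ := hx; exact Subfield.subset_closure (Or.inr ⟨j, rfl⟩)
      | algebraMap a => exact Subfield.subset_closure (Or.inl ⟨algebraMap A R a, hgA a⟩)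
      | add a b _ _ ha hb => rw [map_add]; exact add_mem ha hb
      | mul a b _ _ ha hb => rw [map_mul]; exact mul_mem ha hb
    obtain ⟨a, s, hs, rfl⟩ := IsFractionRing.div_surjective (A := SGA1.kummerAlg A f n ⧸ q) y
    obtain ⟨a, rfl⟩ := Ideal.Quotient.mk_surjective a
    obtain ⟨s, rfl⟩ := Ideal.Quotient.mk_surjective s
    rw [Ideal.algebraMap_quotient_residueField_mk, Ideal.algebraMap_quotient_residueField_mk]
    exact F.div_mem (hB a) (hB s)

end Groth.Agent.S2924
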