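import Groth.Statements.S2929
import Groth.Agent.Lib.LCFin.TotalCx.Final
import Groth.Agent.Lib.LCFin.Gorenstein
-- import your own Groth.Agent.* helpers here

set_option autoImplicit false
universe u
open LocCoh CategoryTheory

namespace Groth.Agent.S2929

/-- Let A be a Noetherian ring which is a quotient of a regular ring, I an ideal, M a finite A-module
and i ≥ 0. For a prime p write c(p) for the codimension of V(p) ∩ V(I) in V(p). Suppose that for
every prime p not containing I with c(p) finite, the local cohomology H^{i−c(p)} of M_p with support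
in the maximal ideal of A_p vanishes (no condition when c(p) > i). Then the local cohomology module
H^i_I(M) is a finite A-module. -/
theorem result (R : Type u) [CommRing R] [IsRegularRing R] (A : Type u) [CommRing A] [IsNoetherianRing A] (π : R →+* A) (hπ : Function.Surjective π) (I : Ideal A) (M : Type u) [AddCommGroup M] [Module A M] [Module.Finite A M] (i : ℕ) (h : ∀ p : PrimeSpectrum A, ¬ I ≤ p.asIdeal → ∀ (c j : ℕ), SGA2.relCodim I p = c → j + c = i → Subsingleton (LocCoh.H (IsLocalRing.maximalIdeal (Localization.AtPrime p.asIdeal)) j (LocalizedModule p.asIdeal.primeCompl M))) : Module.Finite A (LocCoh.H I i M) := by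
  cases i with
  | zero => exact Groth.Agent.Lib.LCFin.Faltings.finite_H_zero I M
  | succ i =>
    algebraize [π]
    letI : Module R M := Module.compHom M π
    haveI : IsScalarTower R A M := ⟨fun r a m => by
      rw [Algebra.smul_def, mul_smul]; rfl⟩
    haveI : Module.Finite R A := Module.Finite.of_surjective (Algebra.linearMap R A) hπ
    haveI : Module.Finite R M := Module.Finite.trans A M
    have hfin := Groth.Agent.Lib.LCFin.TotalCx.finite_H_succ (R := R) (A := A) hπ I M i h
    obtain ⟨c⟩ := Groth.Agent.Lib.LocalCoh.nonempty_lcRestrictIso A (I.comap (algebraMap R A))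
      (ModuleCat.of A M) (i + 1)
    rw [Ideal.map_comap_of_surjective (algebraMap R A) hπ I] at c
    obtain ⟨e, he⟩ := Groth.Agent.Lib.LCFin.Gorenstein.exists_addEquiv_of_iso (algebraMap R A) _ _
      (c ≪≫ (localCohomology _ (i + 1)).mapIso (Groth.Agent.Lib.LocalCoh.resObjIso A M))
    obtain ⟨s, hs⟩ := hfin.fg_top
    classical
    refine ⟨⟨s.image e.symm, Submodule.eq_top_iff'.2 fun z => ?_⟩⟩
    suffices hz : ∀ w ∈ Submodule.span R (s : Set _), e.symm w ∈ Submodule.span A ((s.image e.symm : Finset _) : Set _) from
      e.symm_apply_apply z ▸ hz (e z) (hs ▸ Submodule.mem_top)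
    intro w hw
    induction hw using Submodule.span_induction with
    | mem w hw => exact Submodule.subset_span (Finset.mem_image_of_mem _ hw)
    | zero => rw [map_zero]; exact zero_mem _
    | add w w' _ _ h1 h2 => rw [map_add]; exact add_mem h1 h2
    | smul r w _ h1 =>
      rw [show e.symm (r • w) = algebraMap R A r • e.symm w from
        e.injective (by rw [he, e.apply_symm_apply, e.apply_symm_apply])]
      exact Submodule.smul_mem _ _ h1


end Groth.Agent.S2929
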