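import Groth.Statements.S2931
import Groth.Agent.Lib.LCFin.FinitenessThm
import Mathlib.RingTheory.Ideal.AssociatedPrime.Localization
import Groth.Agent.Lib.Depth.Assoc
-- import your own Groth.Agent.* helpers here

set_option autoImplicit false
universe u
open LocCoh

namespace Groth.Agent.S2931

/-- Affine form (coherence of R^p i_*(F) for p < n being finiteness of H^i_I for i ≤ n). Let A be a
Noetherian ring which is a quotient of a regular ring, I an ideal and M a finite A-module such that
M_p is zero or Cohen–Macaulay for every prime p not containing I. Then H^i_I(M) is a finite A-module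
for every i ≤ n if and only if for every prime p not containing I which is minimal in the support of
M, the codimension of V(p) ∩ V(I) in V(p) is greater than n. -/
theorem result (R : Type u) [CommRing R] [IsRegularRing R] (A : Type u) [CommRing A] [IsNoetherianRing A] (π : R →+* A) (hπ : Function.Surjective π) (I : Ideal A) (M : Type u) [AddCommGroup M] [Module A M] [Module.Finite A M] (hCM : ∀ p : PrimeSpectrum A, ¬ I ≤ p.asIdeal → Subsingleton (LocalizedModule p.asIdeal.primeCompl M) ∨ LocCoh.IsCohenMacaulayModule (Localization.AtPrime p.asIdeal) (LocalizedModule p.asIdeal.primeCompl M)) (n : ℕ) : (∀ i : ℕ, i ≤ n → Module.Finite A (LocCoh.H I i M)) ↔ ∀ p : PrimeSpectrum A, ¬ I ≤ p.asIdeal → p.asIdeal ∈ (Module.annihilator A M).minimalPrimes → (n : ℕ∞) < SGA2.relCodim I p := by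
  constructor
  · intro h p hp hmin
    rw [Lib.LCFin.FinitenessThm.finite_iff_lt_finDimRel I M n,
      le_antisymm (S11653.result A I I M) (S11660.result R A π hπ I I M)] at h
    have h1 := h.trans_le (iInf₂_le p hp)
    rw [Lib.LCFin.FinitenessThm.adjDepth_eq] at h1
    have hass := Module.associatedPrimes.minimalPrimes_annihilator_subset_associatedPrimes A M hmin
    have : Module.Finite (Localization.AtPrime p.asIdeal) (LocalizedModule p.asIdeal.primeCompl M) :=
      Module.Finite.of_isLocalizedModule p.asIdeal.primeCompl (LocalizedModule.mkLinearMap p.asIdeal.primeCompl M)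
    have hassP : IsLocalRing.maximalIdeal (Localization.AtPrime p.asIdeal) ∈
        associatedPrimes (Localization.AtPrime p.asIdeal) (LocalizedModule p.asIdeal.primeCompl M) := by
      refine Module.associatedPrimes.mem_associatedPrimes_of_comap_mem_associatedPrimes_of_isLocalizedModule
        p.asIdeal.primeCompl (LocalizedModule.mkLinearMap p.asIdeal.primeCompl M) _ ?_
      rwa [show (IsLocalRing.maximalIdeal (Localization.AtPrime p.asIdeal)).comap
        (algebraMap A (Localization.AtPrime p.asIdeal)) = p.asIdeal from Localization.AtPrime.under_maximalIdeal]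
    have : Nontrivial (LocalizedModule p.asIdeal.primeCompl M) :=
      Module.mem_support_iff.1 (Module.mem_support_iff_of_finite.2 hmin.1.2)
    rw [(Lib.Depth.Assoc.depth_eq_zero_iff _).2 hassP, zero_add] at h1
    exact h1
  · intro h
    rw [Lib.LCFin.FinitenessThm.finite_iff π hπ I M n]
    intro p hp hc
    obtain ⟨q, hq, hpq⟩ := (Lib.LCFin.FinitenessThm.relCodim_eq_one_iff I hp).1 hc
    rcases hCM p hp with hs | hs
    · rw [LocCoh.depth, Lib.Depth.Basic.idealDepth_subsingleton]
      exact le_top
    rcases subsingleton_or_nontrivial (LocalizedModule p.asIdeal.primeCompl M) with hs' | hs'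
    · rw [LocCoh.depth, Lib.Depth.Basic.idealDepth_subsingleton]
      exact le_top
    have hmem : p ∈ Module.support A M := Module.mem_support_iff.2 hs'
    obtain ⟨P₀, hP₀, hle⟩ := Ideal.exists_minimalPrimes_le (Module.mem_support_iff_of_finite.1 hmem)
    let P : PrimeSpectrum A := ⟨P₀, hP₀.1.1⟩
    have hPp : P ≤ p := hle
    have hIP : ¬ I ≤ P.asIdeal := fun h => hp (h.trans hle)
    have h1 : (n : ℕ∞) < (p.asIdeal.map (Ideal.Quotient.mk P.asIdeal)).height + 1 := by
      refine lt_of_lt_of_le (h P hIP hP₀) ?_
      refine le_trans ?_ (Lib.LCFin.FinitenessThm.height_le_add_one π hπ hPp hpq)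
      rw [Lib.LCFin.FinitenessThm.height_map_mk_eq P q (hPp.trans hpq.le)]
      exact iInf_le (fun z : {z : PrimeSpectrum A // P ≤ z ∧ I ≤ z.asIdeal} =>
        Order.height (⟨z.1, z.2.1⟩ : Set.Ici P)) ⟨q, hPp.trans hpq.le, hq⟩
    have h2 : ((p.asIdeal.map (Ideal.Quotient.mk P.asIdeal)).height : WithBot ℕ∞) ≤
        Module.supportDim (Localization.AtPrime p.asIdeal) (LocalizedModule p.asIdeal.primeCompl M) := by
      rw [Lib.DMod.SupportDim.supportDim_localized p M,
        Lib.LCFin.FinitenessThm.height_map_mk_eq P p hPp, Order.height_eq_krullDim_Iic]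
      refine Order.krullDim_le_of_strictMono (fun z => ⟨z.1.1, Module.mem_support_mono
        (show P ≤ z.1.1 from z.1.2) (Module.mem_support_iff_of_finite.2 hP₀.1.2), z.2⟩) fun a b h => h
    have h3 : Module.supportDim (Localization.AtPrime p.asIdeal) (LocalizedModule p.asIdeal.primeCompl M) =
        ((LocCoh.depth (Localization.AtPrime p.asIdeal) (LocalizedModule p.asIdeal.primeCompl M) : ℕ∞) : WithBot ℕ∞) := hs
    rw [h3] at h2
    exact (Order.le_of_lt_add_one h1).trans (WithBot.coe_le_coe.1 h2)


end Groth.Agent.S2931
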