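import Groth.Statements.S2932
import Groth.Agent.H80.Divisor.CI
import Groth.Agent.H80.Divisor.Bridge
import Groth.Agent.H78.ParaF.UFD

set_option autoImplicit false
set_option backward.isDefEq.respectTransparency false
universe u
open ParaF

namespace Groth.Agent.S2932

open IsLocalRing RingTheory.Sequence AlgebraicGeometry CategoryTheory

theorem exists_localization_equiv {S : Type u} [CommRing S] [IsRegularLocalRing S] (ts : List S)
    (hregts : IsWeaklyRegular S ts) (q : Ideal (S ⧸ Ideal.ofList ts)) [q.IsPrime] :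
    ∃ (R : Type u) (_ : CommRing R) (_ : IsRegularLocalRing R) (us : List R),
      (∀ r ∈ us, r ∈ maximalIdeal R) ∧ IsWeaklyRegular R us ∧
        Nonempty ((R ⧸ Ideal.ofList us) ≃+* Localization.AtPrime q) := by
  let A := S ⧸ Ideal.ofList ts
  let Q := q.comap (Ideal.Quotient.mk (Ideal.ofList ts))
  have hle : Ideal.ofList ts ≤ Q := fun r hr => by
    rw [Ideal.mem_comap, Ideal.Quotient.eq_zero_iff_mem.mpr hr]; exact zero_mem _
  let R := Localization.AtPrime Q
  have : IsRegularLocalRing R := Lib.Regular.Serre.isRegularLocalRing_localization Q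
  let R' := R ⧸ (Ideal.ofList ts).map (algebraMap S R)
  have hsub : Algebra.algebraMapSubmonoid A Q.primeCompl = q.primeCompl := by
    ext z
    obtain ⟨z, rfl⟩ := Ideal.Quotient.mk_surjective z
    refine ⟨?_, fun hz => ⟨z, hz, rfl⟩⟩
    rintro ⟨w, hw, hwz⟩ hz
    exact hw (show algebraMap S A w ∈ q from hwz ▸ hz)
  have : IsLocalization.AtPrime R' q := by
    have h : IsLocalization (Algebra.algebraMapSubmonoid A Q.primeCompl) R' := inferInstance
    rwa [hsub] at h
  refine ⟨R, inferInstance, inferInstance, ts.map (algebraMap S R), fun r hr => ?_,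
    hregts.of_isLocalization R Q.primeCompl, ⟨(Ideal.quotEquivOfEq (Ideal.map_ofList _ _).symm).trans
      (IsLocalization.algEquiv q.primeCompl R' (Localization.AtPrime q)).toRingEquiv⟩⟩
  obtain ⟨r₀, hr₀, rfl⟩ := List.mem_map.mp hr
  exact (IsLocalization.AtPrime.to_map_mem_maximal_iff R Q r₀).mpr (hle (Ideal.subset_span hr₀))

theorem main : ∀ (n : ℕ) (A : Type u) [CommRing A] [IsLocalRing A] [IsNoetherianRing A],
    SGA2.IsAbsCompleteIntersection A → ringKrullDim A < (n : WithBot ℕ∞) →
    (∀ p : PrimeSpectrum A, ringKrullDim (Localization.AtPrime p.asIdeal) ≤ 3 →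
      IsDomain (Localization.AtPrime p.asIdeal) ∧ UniqueFactorizationMonoid (Localization.AtPrime p.asIdeal)) →
    IsDomain A ∧ UniqueFactorizationMonoid A := by
  intro n
  induction n with
  | zero =>
    intro A _ _ _ _ hd _
    exact absurd (hd.trans_le (by simp)) ringKrullDim_nonneg_of_nontrivial.not_gt
  | succ n ih =>
    intro A _ _ _ hA hn h
    let eA : A ≃+* Localization.AtPrime (maximalIdeal A) :=
      (IsLocalization.atUnits A (maximalIdeal A).primeCompl fun x hx => by
        by_contra hu
        exact hx hu).toRingEquiv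
    by_cases h3 : ringKrullDim A ≤ 3
    · obtain ⟨h1, h2⟩ := h (closedPoint A) (by
        change ringKrullDim (Localization.AtPrime (maximalIdeal A)) ≤ 3
        rwa [← ringKrullDim_eq_of_ringEquiv eA])
      have : IsDomain (Localization.AtPrime (maximalIdeal A)) := h1
      have : IsDomain A := eA.toMulEquiv.isDomain_iff.mpr h1
      exact ⟨this, eA.symm.toMulEquiv.uniqueFactorizationMonoid h2⟩
    obtain ⟨B, _, _, rs, hmem, hreg, ⟨e⟩⟩ := hA
    have := H80.Divisor.isLocalRing_ci rs hmem
    have e' : (B ⧸ Ideal.ofList rs) ≃+* A := e.symm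
    have hcm := H80.Divisor.isCohenMacaulay_ci rs hmem hreg.toIsWeaklyRegular
    have := Lib.Excellent.Transport.isCohenMacaulayLocalRing_of_ringEquiv e'
    have h4 : (4 : WithBot ℕ∞) ≤ ringKrullDim A := by
      rw [Lib.Depth.CM.ringKrullDim_eq_depth] at h3 ⊢
      have h3' : ¬ LocCoh.depth A A ≤ 3 := fun hh => h3 (WithBot.coe_le_coe.mpr hh)
      rw [not_le] at h3'
      exact WithBot.coe_le_coe.mpr (Order.add_one_le_of_lt h3')
    have hd : (2 : ℕ∞) ≤ LocCoh.depth A A := by
      rw [Lib.Depth.CM.ringKrullDim_eq_depth] at h4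
      exact le_trans (by norm_num) (WithBot.coe_le_coe.mp h4)
    have key : ∀ q : Ideal A, [q.IsPrime] → q ≠ maximalIdeal A →
        IsDomain (Localization.AtPrime q) ∧ UniqueFactorizationMonoid (Localization.AtPrime q) := by
      intro q _ hq
      let L := Localization.AtPrime q
      let q' := q.comap e'.toRingHom
      obtain ⟨R, _, _, us, hmu, hru, ⟨eq⟩⟩ := exists_localization_equiv rs hreg.toIsWeaklyRegular q'
      let eq' : Localization.AtPrime q' ≃+* L :=
        IsLocalization.ringEquivOfRingEquiv (M := q'.primeCompl) (T := q.primeCompl) _ _ e' (by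
          ext z
          constructor
          · rintro ⟨w, hw, rfl⟩; exact hw
          · exact fun hz => ⟨e'.symm z, (fun hh => hz (by simpa [q'] using hh)), e'.apply_symm_apply z⟩)
      have hR := H80.Divisor.isLocalRing_ci us hmu
      have hA' : SGA2.IsAbsCompleteIntersection L :=
        ⟨R, inferInstance, inferInstance, us, hmu,
          (IsLocalRing.isRegular_iff_isWeaklyRegular_of_subset_maximalIdeal hmu).mpr hru,
          ⟨(eq.trans eq').symm⟩⟩
      refine ih L hA' ?_ fun p hp => ?_
      · rw [IsLocalization.AtPrime.ringKrullDim_eq_height q L]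
        have hlt := Ideal.height_strict_mono_of_isPrime
          (lt_of_le_of_ne (le_maximalIdeal (Ideal.IsPrime.ne_top ‹_›)) hq)
        rw [← IsLocalRing.maximalIdeal_height_eq_ringKrullDim] at hn
        have hn' : (maximalIdeal A).height < ((n + 1 : ℕ) : ℕ∞) := WithBot.coe_lt_coe.mp hn
        exact WithBot.coe_lt_coe.mpr (hlt.trans_le (ENat.lt_natCast_add_one_iff.mp (by exact_mod_cast hn')))
      · have hPc : (p.asIdeal.comap (algebraMap A L)).IsPrime := Ideal.IsPrime.comap _
        have : IsLocalization.AtPrime (Localization.AtPrime p.asIdeal) (p.asIdeal.comap (algebraMap A L)) :=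
          IsLocalization.isLocalization_isLocalization_atPrime_isLocalization q.primeCompl
            (Localization.AtPrime p.asIdeal) p.asIdeal
        let e₂ := (IsLocalization.algEquiv (p.asIdeal.comap (algebraMap A L)).primeCompl
          (Localization.AtPrime (p.asIdeal.comap (algebraMap A L))) (Localization.AtPrime p.asIdeal)).toRingEquiv
        rw [← ringKrullDim_eq_of_ringEquiv e₂] at hp
        obtain ⟨h1, h2⟩ := h ⟨p.asIdeal.comap (algebraMap A L), hPc⟩ hp
        exact ⟨e₂.toMulEquiv.isDomain_iff.mp h1, e₂.toMulEquiv.uniqueFactorizationMonoid h2⟩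
    have key' : ∀ y : ↥(Spec (CommRingCat.of A)), y ∈ FEt.puncturedSpec A →
        IsDomain ((Spec (CommRingCat.of A)).presheaf.stalk y) ∧
          UniqueFactorizationMonoid ((Spec (CommRingCat.of A)).presheaf.stalk y) := by
      intro y hy
      let q : PrimeSpectrum A := y
      obtain ⟨h1, h2⟩ := key q.asIdeal fun hh => hy (PrimeSpectrum.ext hh)
      let e₂ : (Spec.structureSheaf A).presheaf.stalk q ≃+* Localization.AtPrime q.asIdeal :=
        (IsLocalization.algEquiv q.asIdeal.primeCompl _ (Localization.AtPrime q.asIdeal)).toRingEquiv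
      exact ⟨e₂.toMulEquiv.isDomain_iff.mpr h1, e₂.symm.toMulEquiv.uniqueFactorizationMonoid h2⟩
    obtain ⟨hdA, hiA⟩ := H78.ParaF.UFD.normal_of_punctured A hd fun y hy => by
      obtain ⟨h1, h2⟩ := key' y hy
      exact ⟨h1, inferInstance⟩
    have hpara : H80.Divisor.IdealPara A := H80.Divisor.IdealPara.of_ringEquiv e'
      (H80.Divisor.idealPara_ci _ B rs rfl hmem hreg.toIsWeaklyRegular
        (by rwa [ringKrullDim_eq_of_ringEquiv e']))
    exact ⟨hdA, H78.ParaF.UFD.ufd_of_picTrivial A (fun y hy => (key' y hy).2)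
      (H80.Divisor.picTrivial_of_idealPara hd hpara)⟩

/-- Let A be a Noetherian local ring which is a complete intersection (a quotient of a regular local
ring by a regular sequence) and which is factorial in codimension ≤ 3: for every prime p with dim
A_p ≤ 3 the local ring A_p is a factorial domain. Then A is a factorial domain. -/
theorem result (A : Type u) [CommRing A] [IsLocalRing A] [IsNoetherianRing A] (hA : SGA2.IsAbsCompleteIntersection A) (h : ∀ p : PrimeSpectrum A, ringKrullDim (Localization.AtPrime p.asIdeal) ≤ 3 → IsDomain (Localization.AtPrime p.asIdeal) ∧ UniqueFactorizationMonoid (Localization.AtPrime p.asIdeal)) : IsDomain A ∧ UniqueFactorizationMonoid A := by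
  obtain ⟨d, hd⟩ := Lib.Depth.CM.supportDim_eq_nat (R := A) A
  rw [Module.supportDim_self_eq_ringKrullDim] at hd
  exact main (d + 1) A hA (by rw [hd]; exact_mod_cast Nat.lt_succ_self d) h

end Groth.Agent.S2932
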