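import Groth.Statements.S2933
import Groth.Agent.Lib.FEt.DepthTwo
-- import your own Groth.Agent.* helpers here

set_option autoImplicit false
universe u
open LocCoh

namespace Groth.Agent.S2933

/-- Let A be a Noetherian ring with connected spectrum and d ≥ 1 an integer such that every prime p with
dim A_p ≥ d has depth A_p ≥ 2. Then for any two minimal primes p', p'' of A there is a finite
sequence of minimal primes starting at p' and ending at p'' such that any two consecutive members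
are both contained in some prime of height at most d − 1 (Spec A is connected in codimension d − 1). -/
theorem result (A : Type u) [CommRing A] [IsNoetherianRing A] [ConnectedSpace (PrimeSpectrum A)] (d : ℕ) (hd : 1 ≤ d) (h : ∀ p : PrimeSpectrum A, (d : ℕ∞) ≤ p.asIdeal.height → (2 : ℕ∞) ≤ LocCoh.depth (Localization.AtPrime p.asIdeal) (Localization.AtPrime p.asIdeal)) (p' p'' : PrimeSpectrum A) (hp' : p'.asIdeal ∈ minimalPrimes A) (hp'' : p''.asIdeal ∈ minimalPrimes A) : ∃ l : List (PrimeSpectrum A), l.head? = some p' ∧ l.getLast? = some p'' ∧ (∀ p ∈ l, p.asIdeal ∈ minimalPrimes A) ∧ List.IsChain (fun p q => ∃ r : PrimeSpectrum A, p ≤ r ∧ q ≤ r ∧ r.asIdeal.height ≤ (d - 1 : ℕ)) l := by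
  classical
  let M := {p : PrimeSpectrum A // p.asIdeal ∈ minimalPrimes A}
  let step : M → M → Prop := fun p q =>
    ∃ r : PrimeSpectrum A, p.1 ≤ r ∧ q.1 ≤ r ∧ r.asIdeal.height ≤ (d - 1 : ℕ)
  suffices h : Relation.ReflTransGen step ⟨p', hp'⟩ ⟨p'', hp''⟩ by
    obtain ⟨l, hl, hlast⟩ := List.exists_isChain_cons_of_relationReflTransGen h
    refine ⟨((⟨p', hp'⟩ : M) :: l).map Subtype.val, rfl, ?_, fun p hp => ?_, ?_⟩
    · rw [List.getLast?_map, List.getLast?_eq_getLast_of_ne_nil (List.cons_ne_nil _ _), hlast]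
      rfl
    · obtain ⟨q, -, rfl⟩ := List.mem_map.mp hp
      exact q.2
    · rw [List.isChain_map]
      exact hl
  by_contra hno
  let S : Set M := {m | Relation.ReflTransGen step ⟨p', hp'⟩ m}
  have hMfin : {p : PrimeSpectrum A | p.asIdeal ∈ minimalPrimes A}.Finite :=
    (minimalPrimes.finite_of_isNoetherianRing A).preimage
      (f := PrimeSpectrum.asIdeal) fun a _ b _ h => PrimeSpectrum.ext h
  haveI : Finite M := hMfin.to_subtype
  let Y : Set M → Set (PrimeSpectrum A) := fun T => ⋃ m ∈ T, PrimeSpectrum.zeroLocus (m.1.asIdeal : Set A)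
  have hYc : ∀ T, IsClosed (Y T) := fun T =>
    T.toFinite.isClosed_biUnion fun m _ => PrimeSpectrum.isClosed_zeroLocus _
  have hmem : ∀ (T : Set M) (q : PrimeSpectrum A), q ∈ Y T ↔ ∃ m ∈ T, m.1 ≤ q := fun T q => by
    simp only [Y, Set.mem_iUnion₂]
    exact ⟨fun ⟨m, hm, hq⟩ => ⟨m, hm, hq⟩, fun ⟨m, hm, hq⟩ => ⟨m, hm, hq⟩⟩
  have hcov : ∀ q : PrimeSpectrum A, q ∈ Y S ∨ q ∈ Y Sᶜ := fun q => by
    obtain ⟨P, hP, hPq⟩ := Ideal.exists_minimalPrimes_le (I := ⊥) (J := q.asIdeal) bot_le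
    let m : M := ⟨⟨P, hP.1.1⟩, hP⟩
    by_cases hm : m ∈ S
    · exact Or.inl ((hmem _ _).mpr ⟨m, hm, hPq⟩)
    · exact Or.inr ((hmem _ _).mpr ⟨m, hm, hPq⟩)
  have hne : (Y S ∩ Y Sᶜ).Nonempty := by
    have := isPreconnected_closed_iff.mp (isPreconnected_univ (α := PrimeSpectrum A)) (Y S) (Y Sᶜ)
      (hYc _) (hYc _) (fun q _ => hcov q) ⟨p', trivial, (hmem _ _).mpr ⟨⟨p', hp'⟩, .refl, le_rfl⟩⟩
      ⟨p'', trivial, (hmem _ _).mpr ⟨⟨p'', hp''⟩, hno, le_rfl⟩⟩
    simpa using this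
  obtain ⟨r, hr, hrmin⟩ := WellFounded.has_min
    (InvImage.wf (fun x : PrimeSpectrum A => x.asIdeal.height) wellFounded_lt)
    (Y S ∩ Y Sᶜ) hne
  obtain ⟨a, haS, har⟩ := (hmem _ _).mp hr.1
  obtain ⟨b, hbS, hbr⟩ := (hmem _ _).mp hr.2
  have hht : (d : ℕ∞) ≤ r.asIdeal.height := by
    by_contra hlt
    refine hbS (Relation.ReflTransGen.tail haS ⟨r, har, hbr, ?_⟩)
    rw [not_le] at hlt
    obtain ⟨j, hj⟩ : ∃ j : ℕ, r.asIdeal.height = j :=
      ⟨_, (ENat.natCast_toNat hlt.ne_top).symm⟩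
    rw [hj] at hlt ⊢
    norm_cast at hlt ⊢
    omega
  obtain ⟨-, hpre⟩ := Groth.Agent.Lib.FEt.DepthTwo.isConnected_punctured (h r hht)
  let L := Localization.AtPrime r.asIdeal
  let φ : PrimeSpectrum L → PrimeSpectrum A := PrimeSpectrum.comap (algebraMap A L)
  have hφle : ∀ x : PrimeSpectrum L, φ x ≤ r := fun x => by
    show x.asIdeal.comap (algebraMap A L) ≤ r.asIdeal
    refine (Ideal.comap_mono (IsLocalRing.le_maximalIdeal x.isPrime.ne_top)).trans (le_of_eq ?_)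
    exact IsLocalization.AtPrime.under_maximalIdeal L r.asIdeal
  have hgen : ∀ (T : Set M) (m : M), m ∈ T → m.1 ≤ r →
      ∃ x : PrimeSpectrum L, x.asIdeal ≠ IsLocalRing.maximalIdeal L ∧ φ x ∈ Y T := fun T m hm hmr => by
    have hd' : Disjoint (r.asIdeal.primeCompl : Set A) (m.1.asIdeal : Set A) :=
      Set.disjoint_left.mpr fun c hc hc' => hc (hmr hc')
    let x : PrimeSpectrum L := ⟨m.1.asIdeal.map (algebraMap A L),
      IsLocalization.isPrime_of_isPrime_disjoint r.asIdeal.primeCompl L _ m.1.isPrime hd'⟩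
    have hx : φ x = m.1 := PrimeSpectrum.ext
      (IsLocalization.comap_map_of_isPrime_disjoint r.asIdeal.primeCompl L m.1.isPrime hd')
    refine ⟨x, fun hmax => ?_, (hmem _ _).mpr ⟨m, hm, hx.ge⟩⟩
    have e : m.1.asIdeal = r.asIdeal := by
      rw [← IsLocalization.AtPrime.under_maximalIdeal L r.asIdeal, ← hmax]
      exact (congrArg PrimeSpectrum.asIdeal hx).symm
    have h0 : r.asIdeal.height = 0 := e ▸ Ideal.height_eq_zero_iff.mpr m.2
    rw [h0] at hht
    exact absurd (by exact_mod_cast hht : d ≤ 0) (by omega)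
  have hcont : Continuous φ := PrimeSpectrum.continuous_comap _
  obtain ⟨xa, hxa, hxaY⟩ := hgen S a haS har
  obtain ⟨xb, hxb, hxbY⟩ := hgen Sᶜ b hbS hbr
  obtain ⟨x, hx, hxS, hxSc⟩ := isPreconnected_closed_iff.mp hpre (φ ⁻¹' Y S) (φ ⁻¹' Y Sᶜ)
    ((hYc _).preimage hcont) ((hYc _).preimage hcont) (fun x _ => hcov (φ x))
    ⟨xa, hxa, hxaY⟩ ⟨xb, hxb, hxbY⟩
  refine hrmin (φ x) ⟨hxS, hxSc⟩ (Ideal.height_strict_mono_of_isPrime
    (lt_of_le_of_ne (hφle x) fun e => hx ?_))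
  show x.asIdeal = IsLocalRing.maximalIdeal L
  refine IsLocalRing.eq_maximalIdeal (x.isPrime.ne_top |> fun hne => ?_)
  refine ⟨⟨hne, fun J hJ => ?_⟩⟩
  by_contra hJt
  have h1 : J.comap (algebraMap A L) ≤ r.asIdeal :=
    (Ideal.comap_mono (IsLocalRing.le_maximalIdeal hJt)).trans
      (le_of_eq (IsLocalization.AtPrime.under_maximalIdeal L r.asIdeal))
  refine hJ.not_ge ?_
  rw [← IsLocalization.map_comap r.asIdeal.primeCompl L J,
    ← IsLocalization.map_comap r.asIdeal.primeCompl L x.asIdeal]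
  exact Ideal.map_mono (h1.trans (e.ge))


end Groth.Agent.S2933
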