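import Groth.Statements.S2934
import Groth.Agent.Lib.LCFin.Finite
-- import your own Groth.Agent.* helpers here

set_option autoImplicit false
universe u
open LocCoh

namespace Groth.Agent.S2934

/-- Let A be a Noetherian local ring which is a quotient of a regular local ring, m its maximal ideal, M
a finite A-module and i ≥ 0. Then H^i_m(M) is an A-module of finite length if and only if for every
prime p ≠ m, writing e = dim A/p, the local cohomology H^{i−e} of M_p with support in the maximal
ideal of A_p vanishes (no condition when e > i). -/
theorem result (R : Type u) [CommRing R] [IsRegularLocalRing R] (A : Type u) [CommRing A] [IsLocalRing A] [IsNoetherianRing A] (π : R →+* A) (hπ : Function.Surjective π) (M : Type u) [AddCommGroup M] [Module A M] [Module.Finite A M] (i : ℕ) : IsFiniteLength A (LocCoh.H (IsLocalRing.maximalIdeal A) i M) ↔ ∀ p : PrimeSpectrum A, p.asIdeal ≠ IsLocalRing.maximalIdeal A → ∀ (e j : ℕ), ringKrullDim (A ⧸ p.asIdeal) = e → j + e = i → Subsingleton (LocCoh.H (IsLocalRing.maximalIdeal (Localization.AtPrime p.asIdeal)) j (LocalizedModule p.asIdeal.primeCompl M))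 := by
  letI : Algebra R A := π.toAlgebra
  letI : Module R M := Module.compHom M π
  haveI : IsScalarTower R A M := ⟨fun a b m => by rw [Algebra.smul_def, mul_smul]; rfl⟩
  haveI := Groth.Agent.Lib.Goren.Basic.isGorensteinLocalRing_of_isRegular R
  rw [Groth.Agent.Lib.LCFin.Finite.isFiniteLength_H_iff,
    Groth.Agent.Lib.LCFin.Annihilator.le_radical_iff_of_quotient (R := R) hπ M _ i]
  refine forall_congr' fun p => imp_congr_left ?_
  exact ⟨fun h e => h e.ge, fun h hle => h (le_antisymm
    (IsLocalRing.le_maximalIdeal p.2.ne_top) hle)⟩


end Groth.Agent.S2934
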