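import Groth.Statements.S2936
import Groth.Agent.Lib.LCFin.HLVT3
-- import your own Groth.Agent.* helpers here

set_option autoImplicit false
universe u
open LocCoh

namespace Groth.Agent.S2936

/-- (iii), for a complete local ring. Let A be a complete Noetherian local ring with maximal ideal m, κ
→ E an injective hull of the residue field, and M a nonzero finite A-module whose support has
dimension n. Then for every i the A-module Hom_A(H^i_m(M), E) is finite with support of dimension at
most i; for i = n its support has dimension exactly n and its associated primes are exactly the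
associated primes p of M with dim A/p = n. -/
theorem result (A : Type u) [CommRing A] [IsLocalRing A] [IsNoetherianRing A] [IsAdicComplete (IsLocalRing.maximalIdeal A) A] (E : Type u) [AddCommGroup E] [Module A E] (f : IsLocalRing.ResidueField A →ₗ[A] E) (hf : InjHull.IsInjectiveHull f) (M : Type u) [AddCommGroup M] [Module A M] [Module.Finite A M] [Nontrivial M] (n : ℕ) (hn : Module.supportDim A M = n) : (∀ i : ℕ, Module.Finite A (LocCoh.H (IsLocalRing.maximalIdeal A) i M →ₗ[A] E) ∧ Module.supportDim A (LocCoh.H (IsLocalRing.maximalIdeal A) i M →ₗ[A] E) ≤ (i : WithBot ℕ∞)) ∧ Module.supportDim A (LocCoh.H (IsLocalRing.maximalIdeal A) n M →ₗ[A] E) = n ∧ associatedPrimes A (LocCoh.H (IsLocalRing.maximalIdeal A) n M →ₗ[A] E) = {p | p ∈ associatedPrimes A M ∧ ringKrullDim (A ⧸ p) = n} := by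
  have hart : ∀ i, IsArtinian A (LocCoh.H (IsLocalRing.maximalIdeal A) i M) := fun i =>
    Lib.LCFin.Artinian.isArtinian_H (R := A) i M
  have hfin : ∀ i, Module.Finite A (LocCoh.H (IsLocalRing.maximalIdeal A) i M →ₗ[A] E) := fun i =>
    (Lib.InjHull.Complete.finite_dual_of_isArtinian hf _).1
  have hle : ∀ i, Module.supportDim A (LocCoh.H (IsLocalRing.maximalIdeal A) i M →ₗ[A] E) ≤
      (i : WithBot ℕ∞) := fun i => by
    have := hfin i
    refine Lib.LCFin.CanonBasic.supportDim_le_of_primes fun q hq hann => ?_
    rw [← Lib.InjHull.Matlis.annihilator_dual hf] at hann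
    exact Lib.LCFin.HLVT.dim_le_of_annihilator_le hann
  have hass : associatedPrimes A (LocCoh.H (IsLocalRing.maximalIdeal A) n M →ₗ[A] E) =
      {p | p ∈ associatedPrimes A M ∧ ringKrullDim (A ⧸ p) = n} := by
    rw [Lib.LCFin.HLVT.associatedPrimes_dual_eq hf _ hn.le]
    ext p
    refine ⟨fun ⟨hp, hle', hdim, _⟩ => ⟨?_, hdim⟩, fun ⟨hp, hdim⟩ => ⟨hp.isPrime, ?_, hdim, ?_⟩⟩
    · refine Module.associatedPrimes.minimalPrimes_annihilator_subset_associatedPrimes A M
        ⟨⟨hp, hle'⟩, fun q ⟨hq, hMq⟩ hqp => ?_⟩
      by_contra hne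
      have h1 := Lib.Depth.Assoc.ringKrullDim_quotient_add_one_le_of_lt
        (lt_of_le_not_ge hqp hne : q < p)
      have h2 := h1.trans ((ringKrullDim_le_of_surjective (Ideal.Quotient.factor hMq)
        (Ideal.Quotient.factor_surjective _)).trans
          (le_of_eq ((Module.supportDim_eq_ringKrullDim_quotient_annihilator (R := A) (M := M)).symm.trans hn)))
      rw [hdim] at h2
      exact absurd h2 (not_le.2 (by exact_mod_cast n.lt_succ_self))
    · have h := IsAssociatedPrime.annihilator_le hp
      rwa [Submodule.annihilator_top] at h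
    · rw [sup_eq_left.2 (IsLocalRing.le_maximalIdeal hp.isPrime.ne_top)]
      exact (IsLocalRing.maximalIdeal.isMaximal A).isPrime.radical
  refine ⟨fun i => ⟨hfin i, hle i⟩, le_antisymm (hle n) ?_, hass⟩
  have := hfin n
  have : Nontrivial (LocCoh.H (IsLocalRing.maximalIdeal A) n M →ₗ[A] E) := by
    have hnt := (Lib.LCFin.Nonvanishing.nontrivial_and_not_finite n M hn).1
    obtain ⟨z, hz⟩ := exists_ne (0 : LocCoh.H (IsLocalRing.maximalIdeal A) n M)
    by_contra hD
    rw [not_nontrivial_iff_subsingleton] at hD
    exact hz (Lib.InjHull.Matlis.eq_zero_of_forall_dual hf fun φ => by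
      rw [hD.elim φ 0, LinearMap.zero_apply])
  obtain ⟨p, hp⟩ := associatedPrimes.nonempty A (LocCoh.H (IsLocalRing.maximalIdeal A) n M →ₗ[A] E)
  have hp' := hp
  rw [hass] at hp'
  have hann := IsAssociatedPrime.annihilator_le hp
  rw [Submodule.annihilator_top] at hann
  rw [← hp'.2, Module.supportDim_eq_ringKrullDim_quotient_annihilator]
  exact ringKrullDim_le_of_surjective (Ideal.Quotient.factor hann) (Ideal.Quotient.factor_surjective _)


end Groth.Agent.S2936
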