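import Groth.Statements.S2937
import Groth.Agent.H80.Extend.Pure

set_option autoImplicit false
set_option backward.isDefEq.respectTransparency false
universe u
open CategoryTheory AlgebraicGeometry
open Pi1

namespace Groth.Agent.S2937

/-- Let X be a locally Noetherian scheme and U an open subscheme such that O_X → i_*O_U is an
isomorphism, equivalently, every local ring of X at a point outside U has depth ≥ 2. Let f : X_1 → X
be faithfully flat and quasi-compact. If the pair (X_1, X_1 − f⁻¹U) is pure (restriction of finite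
étale covers from every open V to V ∩ f⁻¹U is an equivalence), then so is (X, X − U). -/
theorem result (X X₁ : Scheme.{u}) [IsLocallyNoetherian X] (U : X.Opens) (hU : ∀ x : X, x ∉ U → (2 : ℕ∞) ≤ LocCoh.depth (X.presheaf.stalk x) (X.presheaf.stalk x)) (f : X₁ ⟶ X) [Flat f] [Surjective f] [QuasiCompact f] (h : SGA2.IsPurePair X₁ (f ⁻¹ᵁ U)) : SGA2.IsPurePair X U := by
  intro V
  let f' := f ∣_ V
  have : Flat f' := IsZariskiLocalAtTarget.restrict (P := @Flat) inferInstance V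
  have : Surjective f' := IsZariskiLocalAtTarget.restrict (P := @Surjective) inferInstance V
  have : QuasiCompact f' := IsZariskiLocalAtTarget.restrict (P := @QuasiCompact) inferInstance V
  -- the open `V ⊓ U` inside `V`
  have key : ∀ {Y : Scheme.{u}} (A B : Y.Opens), ∃ e : ((A ⊓ B : Y.Opens) : Scheme.{u}) ≅
      ((A.ι ⁻¹ᵁ B : (A : Scheme.{u}).Opens) : Scheme.{u}),
      e.hom ≫ (A.ι ⁻¹ᵁ B).ι = Y.homOfLE inf_le_left := fun {Y} A B => by
    refine ⟨IsOpenImmersion.isoOfRangeEq (Y.homOfLE inf_le_left) (A.ι ⁻¹ᵁ B).ι ?_,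
      IsOpenImmersion.isoOfRangeEq_hom_fac _ _ _⟩
    rw [Scheme.Opens.range_ι]
    ext a
    constructor
    · rintro ⟨b, rfl⟩
      change A.ι (Y.homOfLE inf_le_left b) ∈ B
      rw [← Scheme.Hom.comp_apply, Scheme.homOfLE_ι]
      exact b.2.2
    · intro ha
      refine ⟨⟨a.1, a.2, ha⟩, A.ι.isOpenEmbedding.injective ?_⟩
      rw [← Scheme.Hom.comp_apply, Scheme.homOfLE_ι]
      rfl
  obtain ⟨e, he⟩ := key V U
  obtain ⟨e₁, he₁⟩ := key (f ⁻¹ᵁ V) (f ⁻¹ᵁ U)
  have hpre : f' ⁻¹ᵁ (V.ι ⁻¹ᵁ U) = (f ⁻¹ᵁ V).ι ⁻¹ᵁ (f ⁻¹ᵁ U) := by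
    rw [← Scheme.Hom.comp_preimage, ← Scheme.Hom.comp_preimage, morphismRestrict_ι]
  have hess : (FEt.restrict (f' ⁻¹ᵁ (V.ι ⁻¹ᵁ U)).ι).EssSurj := by
    rw [hpre, ← Iso.inv_hom_id_assoc e₁ ((f ⁻¹ᵁ V).ι ⁻¹ᵁ (f ⁻¹ᵁ U)).ι, he₁]
    exact Groth.Agent.H80.UnivHomeo.ES.comp (Groth.Agent.H80.UnivHomeo.ES.of_isIso e₁.inv)
      (h (f ⁻¹ᵁ V)).essSurj
  have hdepth := Groth.Agent.H80.Extend.depth_preimage U hU V.ι
  have := Groth.Agent.H80.Extend.isEquivalence_of_flat (V.ι ⁻¹ᵁ U) hdepth f' hess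
  have := (Groth.Agent.S0283.result e.hom).1
  have := (Groth.Agent.S0283.result e.hom).2
  have : (FEt.restrict e.hom).EssSurj := Groth.Agent.H80.UnivHomeo.ES.of_isIso e.hom
  have : (FEt.restrict e.hom).IsEquivalence := { }
  rw [← he]
  exact Functor.isEquivalence_of_iso
    (Groth.Agent.H80.UnivHomeo.restrictComp e.hom (V.ι ⁻¹ᵁ U).ι).symm

end Groth.Agent.S2937
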