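import Groth.Statements.S2942
import Groth.Agent.Lib.DepthTwist.Zero
import Groth.Agent.S8914

set_option autoImplicit false
universe u
open CategoryTheory AlgebraicGeometry
open Lef

namespace Groth.Agent.S2942

/-- Over a field and for the structure sheaf. Let k be a field and X a proper k-scheme; let 𝓘 be a
quasi-coherent ideal sheaf whose ideal module is invertible with an ample inverse L (so 𝓘 defines an
effective Cartier divisor Y with O_X(Y) = L ample), and suppose that at every closed point x the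
local ring O_{X,x} has depth greater than n. Then there is m₀ such that for all m ≥ m₀ the map
H^i(X, O_X) → H^i(X, O_X/𝓘^{m+1}) induced by the quotient map is bijective for every i < n and
injective for i = n. -/
theorem result (k : Type u) [Field k] (X : Scheme.{u}) [X.Over (Spec (CommRingCat.of k))] [IsProper (X ↘ (Spec (CommRingCat.of k)))] (𝓘 : X.IdealSheafData) (L : X.Modules) (hL : ClSub.IsInverseOf L (ClSub.idealMod 𝓘)) (hamp : CohB1.IsAmple L) (n : ℕ) (hdepth : ∀ x : X, IsClosed ({x} : Set X) → (n : ℕ∞) < LocCoh.depth (X.presheaf.stalk x) (X.presheaf.stalk x)) : ∃ m₀ : ℕ, ∀ m : ℕ, m₀ ≤ m → (∀ i : ℕ, i < n → Function.Bijective (Sheaf.H.map ((SheafOfModules.toSheaf X.ringCatSheaf).map (ClSub.toSubscheme (𝓘 ^ (m + 1)))) i)) ∧ Function.Injective (Sheaf.H.map ((SheafOfModules.toSheaf X.ringCatSheaf).map (ClSub.toSubscheme (𝓘 ^ (m + 1)))) n) := by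
  haveI := Lib.Curves.GlobalSections.isNoetherian_of_proper k X
  obtain ⟨eD⟩ := hL
  have hMi : PicF.IsInvertible (ClSub.idealMod 𝓘) :=
    Lib.TensorMod.TensorInv.isInvertible_of_tensor_iso
      ((Lib.TensorMod.Basic.comm _ L) ≪≫ eD)
  have hD : BlowUp.IsEffCartierIdeal 𝓘 := (S8914.result 𝓘).1 hMi
  have hO : Coh.IsCoh (Coh.structureModule X) :=
    Lib.Ample.GG.isCoh_of_isInvertible (_root_.PicLoc.isInvertible_structureModule X)
  obtain ⟨m₀, hv⟩ := Lib.DepthTwist.Basic.exists_vanish k hamp ⟨eD⟩ hO n fun x hx => by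
    rw [Lib.Depth.Basic.depth_congr (Lib.SurfInt.Stalk.oStalk x)]
    exact hdepth x hx
  refine ⟨m₀, fun m hm => ?_⟩
  obtain ⟨eP⟩ := Lib.DepthTwist.Zero.nonempty_tensorPow_idealMod hD m
  have hvE : ∀ i ≤ n, Subsingleton (Coh.HH X (ClSub.idealMod (𝓘 ^ (m + 1))) i) := fun i hi =>
    Lib.ProjKoszul.Chase.subsingleton_of_iso k
      ((Lib.TensorMod.Basic.leftUnit _) ≪≫ eP) (hv (m + 1) (by omega) i hi)
  have hs := Lib.ClSub.Quot.idealSeq_shortExact (𝓘 ^ (m + 1))
  have hinj : ∀ i ≤ n, Function.Injective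
      (Lib.Curves.LES.mapK k (Lib.ClSub.Quot.idealSeq (𝓘 ^ (m + 1))).g i) := fun i hi a b hab => by
    refine sub_eq_zero.1 ?_
    obtain ⟨z, hz⟩ := (Lib.Curves.LES.exactK₂ k hs i (a - b)).1 (by rw [map_sub, hab, sub_self])
    rw [← hz, @Subsingleton.elim _ (hvE i hi) z 0]
    exact map_zero _
  exact ⟨fun i hi => ⟨hinj i hi.le, fun z =>
    (Lib.Curves.LES.exactK₃ k hs i (i + 1) rfl z).1 (@Subsingleton.elim _ (hvE (i + 1) hi) _ _)⟩,
    hinj n le_rfl⟩

end Groth.Agent.S2942
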