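import Groth.Statements.S5195
import Groth.Agent.H63.CartierInverse
import Groth.Agent.H97.GenLocusAffine
import Groth.Agent.S14104
import Groth.Agent.Lib.SchTopo.Basic
import Groth.Agent.S8914
import Groth.Agent.Lib.TensorMod.TensorInv

set_option autoImplicit false
universe u
open CategoryTheory CategoryTheory.Limits AlgebraicGeometry
open Lef

namespace Groth.Agent.S5195
section
open AlgebraicGeometry CategoryTheory

theorem isInvertible_of_inverse {X : Scheme.{u}} {L M : X.Modules} (hL : CohB1.IsAmple L)
    (h : ClSub.IsInverseOf L M) : PicF.IsInvertible M := by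
  obtain ⟨e⟩ := h
  exact Groth.Agent.Lib.TensorMod.TensorInv.isInvertible_of_tensor_iso (Groth.Agent.Lib.TensorMod.Basic.comm _ _ ≪≫ e)

end


/-- For the structure sheaf, with the key step of its proof made explicit. Let A be a Noetherian ring, X
a proper A-scheme and 𝓘 a quasi-coherent ideal whose ideal module is invertible with ample inverse L
(Y = V(𝓘) is an ample effective Cartier divisor), and let Z be a closed subset of X not meeting Y.
Then (1) every point of Z is closed in its fibre over Spec A (indeed Z is finite over A, being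
proper and contained in the affine X − Y); and (2) if moreover X is flat over A and for every s the
fibre X_s has depth ≥ n at each of its closed points, then the local ring O_{X,z} has depth ≥ n at
every point z of Z. (The published statement allows any coherent module flat over the base whose
fibres have depth ≥ n at closed points; this row takes the structure sheaf.) -/
theorem result (A : Type u) [CommRing A] [IsNoetherianRing A] (X : Scheme.{u}) [X.Over (Spec (CommRingCat.of A))] [IsProper (X ↘ Spec (CommRingCat.of A))] (𝓘 : X.IdealSheafData) (L : X.Modules) (hL : ClSub.IsInverseOf L (ClSub.idealMod 𝓘)) (hamp : CohB1.IsAmple L) (Z : Set X) (hZ : IsClosed Z) (hZY : Disjoint Z (𝓘.support : Set X)) (n : ℕ) : (∀ z : X, z ∈ Z → IsClosed ({((X ↘ Spec (CommRingCat.of A))).asFiber z} : Set ↥(((X ↘ Spec (CommRingCat.of A))).fiber (((X ↘ Spec (CommRingCat.of A))).base z)))) ∧ (Flat (X ↘ Spec (CommRingCat.of A)) → (∀ x : X, IsClosed ({((X ↘ Spec (CommRingCat.of A))).asFiber x} : Set ↥(((X ↘ Spec (CommRingCat.of A))).fiber (((X ↘ Spec (CommRingCat.of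 A))).base x))) → (n : ℕ∞) ≤ LocCoh.depth ↑(CInt.fiberStalk (X ↘ Spec (CommRingCat.of A)) x) ↑(CInt.fiberStalk (X ↘ Spec (CommRingCat.of A)) x)) → ∀ z : X, z ∈ Z → (n : ℕ∞) ≤ LocCoh.depth (X.presheaf.stalk z) (X.presheaf.stalk z)) := by
  let p := X ↘ Spec (CommRingCat.of A)
  haveI : IsLocallyNoetherian X := LocallyOfFiniteType.isLocallyNoetherian p
  have hfin : ∀ z : X, z ∈ Z → IsClosed ({p.asFiber z} : Set ↥(p.fiber (p.base z))) := by
    intro z hz
    obtain ⟨s, hs⟩ := Groth.Agent.H63.CartierInverse.exists_section 𝓘
      ((Groth.Agent.S8914.result 𝓘).1 (isInvertible_of_inverse hamp hL)) L hamp.1 hL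
    let U := CohB1.genLocus L s
    have hU : IsAffineOpen U := Groth.Agent.H97.GenLocusAffine.isAffineOpen_genLocus p hamp s
    let W := Scheme.IdealSheafData.vanishingIdeal (⟨Z, hZ⟩ : TopologicalSpace.Closeds X)
    let i := W.subschemeι
    have hr : Set.range i = Z := by
      simp [i, W, Scheme.IdealSheafData.range_subschemeι]
    have hpre : i ⁻¹ᵁ U = ⊤ := top_le_iff.1 fun w _ => by
      have hw : i w ∈ Z := hr ▸ Set.mem_range_self w
      exact (hs _).2 fun h => Set.disjoint_left.1 hZY hw h
    haveI : IsAffine W.subscheme := by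
      have h := hU.preimage i
      rw [hpre] at h
      haveI : IsAffine ((⊤ : W.subscheme.Opens) : Scheme.{u}) := h
      exact IsAffine.of_isIso W.subscheme.topIso.inv
    haveI : IsAffineHom (i ≫ p) := inferInstance
    haveI : IsFinite (i ≫ p) := (IsFinite.iff_isProper_and_isAffineHom).2 ⟨inferInstance, inferInstance⟩
    have key : closure ({z} : Set X) ∩ p ⁻¹' {p z} = {z} := by
      refine subset_antisymm ?_ (Set.singleton_subset_iff.2 ⟨subset_closure rfl, rfl⟩)
      rintro y ⟨hy, hpy⟩
      have hyZ : y ∈ Z := closure_minimal (Set.singleton_subset_iff.2 hz) hZ hy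
      obtain ⟨w, hw⟩ : z ∈ Set.range i := hr.symm ▸ hz
      obtain ⟨w', hw'⟩ : y ∈ Set.range i := hr.symm ▸ hyZ
      have hsp : w ⤳ w' := i.isClosedEmbedding.isInducing.specializes_iff.1
        (by rw [hw, hw']; exact specializes_iff_mem_closure.2 hy)
      have he : (i ≫ p) w = (i ≫ p) w' := by
        simp only [Scheme.Hom.comp_apply, hw, hw']; exact hpy.symm
      exact (hw'.symm.trans ((congrArg i (Groth.Agent.Lib.SchTopo.Basic.isIntegralHom_eq_of_specializes (i ≫ p) hsp he)).symm.trans hw) : y = z)
    have h2 : ({p.asFiber z} : Set ↥(p.fiber (p.base z))) = p.fiberι (p z) ⁻¹' closure {z} := by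
      ext y
      constructor
      · intro hy
        rw [Set.mem_singleton_iff.1 hy, Set.mem_preimage, Scheme.Hom.fiberι_asFiber]
        exact subset_closure rfl
      · intro hy
        have h3 : p.fiberι (p z) y ∈ p ⁻¹' {p z} := by
          rw [← p.range_fiberι]; exact ⟨y, rfl⟩
        have h4 : p.fiberι (p z) y ∈ closure ({z} : Set X) ∩ p ⁻¹' {p z} := ⟨hy, h3⟩
        rw [key] at h4
        exact Set.mem_singleton_iff.2 ((p.fiberι (p z)).isEmbedding.injective
          (h4.trans (p.fiberι_asFiber z).symm))
    rw [h2]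
    exact isClosed_closure.preimage (p.fiberι (p z)).continuous
  refine ⟨hfin, fun hflat hdepth z hz => ?_⟩
  exact Groth.Agent.S14104.result p Z hZ n (fun y hy => hdepth y (hfin y hy)) z hz

end Groth.Agent.S5195
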