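import Groth.Statements.S2944
import Groth.Agent.Lib.LefAmple.Main
import Groth.Agent.S5195
import Groth.Agent.Lib.DepthTwist.Basic
import Groth.Agent.Lib.SurfInt.Stalk

set_option autoImplicit false
universe u
open CategoryTheory CategoryTheory.Limits AlgebraicGeometry
open Lef

namespace Groth.Agent.S2944

/-- Case 'resp.', over S = Spec k: Let k be a field, X a proper k-scheme and 𝓘 a quasi-coherent ideal
sheaf whose ideal module is invertible with an ample inverse L (𝓘 defines an effective Cartier
divisor Y with O_X(Y) ample). If O_{X,x} has depth ≥ 2 at every closed point x, then Lef(X, Y)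
holds: for every open U ⊇ Y and every finite locally free O_U-module D, the map Hom(D, O_U) → lim_n
Hom(D, O_U/𝓘^{n+1}) is bijective (equivalently Γ(U, E) ≅ Γ(X̂, Ê) for every finite locally free E on
U). -/
theorem result (k : Type u) [Field k] (X : Scheme.{u}) [X.Over (Spec (CommRingCat.of k))] [IsProper (X ↘ (Spec (CommRingCat.of k)))] (𝓘 : X.IdealSheafData) (L : X.Modules) (hL : ClSub.IsInverseOf L (ClSub.idealMod 𝓘)) (hamp : CohB1.IsAmple L) (hdepth : ∀ x : X, IsClosed ({x} : Set X) → (2 : ℕ∞) ≤ LocCoh.depth (X.presheaf.stalk x) (X.presheaf.stalk x)) : Lef.LefCond X 𝓘 := by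
  haveI := Lib.Curves.GlobalSections.isNoetherian_of_proper k X
  let p := X ↘ Spec (CommRingCat.of k)
  refine Lib.LefAmple.lefCond_of_vanish k 𝓘 L hL hamp (fun n => ?_) fun Z hZ hZY z hz => hdepth z ?_
  · have hLn := Lib.TensorMod.Invertible.isInvertible_tensorPow hamp.1 n
    obtain ⟨m₀, h⟩ := Lib.DepthTwist.Basic.exists_vanish k hamp hL
      (Lib.Ample.GG.isCoh_of_isInvertible hLn) 1 fun x hx => by
        rw [← Lib.Depth.Basic.depth_congr (Lib.Modules.StalkModule.stalkLinearEquiv
          (Lib.TensorMod.Basic.leftUnit (CohB1.tensorPow L n)) x),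
          Lib.DepthTwist.Basic.depth_tensor_invertible hLn,
          Lib.Depth.Basic.depth_congr (Lib.SurfInt.Stalk.oStalk x)]
        exact lt_of_lt_of_le (by norm_num) (hdepth x hx)
    exact ⟨m₀, h⟩
  · have h1 := (Groth.Agent.S5195.result k X 𝓘 L hL hamp Z hZ hZY 2).1 z hz
    have hr : IsClosed (Set.range (p.fiberι (p.base z))) := by
      rw [p.range_fiberι]
      exact (isClosed_discrete _).preimage p.continuous
    have h2 := (⟨(p.fiberι (p.base z)).isEmbedding, hr⟩ : Topology.IsClosedEmbedding (p.fiberι (p.base z))).isClosedMap _ h1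
    rwa [Set.image_singleton, p.fiberι_asFiber] at h2

end Groth.Agent.S2944
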