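import Groth.Statements.S2954
import Groth.Agent.Lib.RootDatum.Weyl
import Groth.Agent.H84.BaseBridge
import Groth.Agent.H84.ActImage

set_option autoImplicit false
open RootPairing
open scoped Pointwise
universe u
open RootD

namespace Groth.Agent.S2954

/-- For a finite crystallographic reduced root pairing (over a domain of characteristic zero), the Weyl
group acts freely and transitively on bases: for two bases b, b' there is exactly one element of the
Weyl group carrying the set of simple roots of b onto that of b'. -/
theorem result {ι R M N : Type*} [CommRing R] [CharZero R] [IsDomain R] [AddCommGroup M] [Module R M]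
    [AddCommGroup N] [Module R N] (P : RootPairing ι R M N) [Finite ι] [P.IsCrystallographic] [P.IsReduced]
    (b b' : P.Base) :
    ∃! g : P.weylGroup, (fun i : ι => (g : P.Aut) • i) '' (b.support : Set ι) = (b'.support : Set ι) := by
  have hb := Groth.Agent.H84.BaseBridge.isSimpleSys b
  have hb' := Groth.Agent.H84.BaseBridge.isSimpleSys b'
  obtain ⟨g, hg, h⟩ := Groth.Agent.Lib.RootDatum.Weyl.exists_smul_simpleSys_eq P hb hb'
  refine ⟨⟨g, hg⟩, h, fun w hw => ?_⟩
  have h2 : (fun i : ι => (g⁻¹ * (w : P.Aut)) • i) '' (b.support : Set ι) = b.support := by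
    replace hw : (fun i : ι => (w : P.Aut) • i) '' (b.support : Set ι) = b'.support := hw
    rw [Groth.Agent.H84.ActImage.image_mul, hw, ← h, Groth.Agent.H84.ActImage.image_inv]
  have h3 := Groth.Agent.Lib.RootDatum.Weyl.eq_one_of_image_eq hb (mul_mem (inv_mem hg) w.2) h2
  exact Subtype.ext (inv_mul_eq_one.mp h3).symm

end Groth.Agent.S2954
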