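import Groth.Statements.S2955
import Groth.Agent.Lib.RootDatum.Length
import Groth.Agent.H84.BaseBridge

set_option autoImplicit false
open RootPairing
open scoped Pointwise Classical
universe u
open RootD Groth.Agent.Lib.RootDatum Groth.Agent.Lib.RootDatum.Basic Groth.Agent.Lib.RootDatum.PosSys

namespace Groth.Agent.S2955

/-- Let P be a finite crystallographic reduced root pairing over a domain of characteristic zero, with a
base b, and write 2ρ for the sum of the positive roots with respect to b. Then for every simple root
β (an index in the support of b) the reflection in β sends 2ρ to 2ρ − 2β (equivalently, the coroot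
of β pairs to 1 with ρ; only the reflection identity is asserted). -/
theorem result {ι R M N : Type*} [CommRing R] [CharZero R] [IsDomain R] [AddCommGroup M] [Module R M]
    [AddCommGroup N] [Module R N] (P : RootPairing ι R M N) [Finite ι] [P.IsCrystallographic] [P.IsReduced]
    [Fintype ι] (b : P.Base) (j : ι) (hj : j ∈ b.support) :
    P.reflection j (∑ i, if b.IsPos i then P.root i else 0) =
      (∑ i, if b.IsPos i then P.root i else 0) - (2 : R) • P.root j := by
  classical
  have hΔ := Groth.Agent.H84.BaseBridge.isSimpleSys b
  haveI := isAddTorsionFree_weight P
  rw [← Finset.sum_filter]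
  have he : Finset.univ.filter (fun i => b.IsPos i) =
      insert j (Length.others P (b.support : Set ι) j) := by
    ext k
    simp only [Length.others, Finset.mem_filter, Finset.mem_univ, true_and, Finset.mem_insert,
      ← Groth.Agent.H84.BaseBridge.isPos_iff_mem]
    constructor
    · intro hk
      by_cases h : k = j
      · exact Or.inl h
      · exact Or.inr ⟨hk, h, fun e => P.nsmul_notMem_range_root (n := 2) ⟨k, e⟩⟩
    · rintro (rfl | h)
      · exact RootPairing.Base.isPos_of_mem_support hj
      · exact h.1
  have hsum : ((∑ k ∈ Finset.univ.filter (fun i => b.IsPos i), pz P k j : ℤ) : R) = 2 := by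
    rw [he, Finset.sum_insert (by simp [Length.others]), Length.sum_others_left P hΔ (a := j) hj,
      pz_self, add_zero]
    norm_num
  rw [P.reflection_apply, map_sum]
  simp only [coroot'_root]
  rw [← Int.cast_sum, hsum]

end Groth.Agent.S2955
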