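import Groth.Statements.S2956
import Groth.Agent.H82.Coxeter.Weyl
import Groth.Agent.H84.BaseBridge
-- import your own Groth.Agent.* helpers here

set_option autoImplicit false
open RootPairing
open scoped Pointwise
universe u
open RootD

namespace Groth.Agent.S2956

/-- For a finite crystallographic reduced root pairing with a base b: the Weyl group is presented by the
simple reflections s_i (i in the base) subject to the relations (s_i s_j)^{n_{ij}} = 1, where n_{ij}
is the order of s_i s_j; i.e. it carries a Coxeter system whose simple reflections are the s_i and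
whose Coxeter matrix is (n_{ij}). -/
theorem result {ι R M N : Type*} [CommRing R] [CharZero R] [IsDomain R] [AddCommGroup M] [Module R M]
    [AddCommGroup N] [Module R N] (P : RootPairing ι R M N) [Finite ι] [P.IsCrystallographic] [P.IsReduced]
    (b : P.Base) :
    ∃ (C : CoxeterMatrix ↥b.support) (cs : CoxeterSystem C P.weylGroup),
      (∀ j : ↥b.support, ((cs.simple j : P.weylGroup) : P.Aut) = Equiv.reflection P (j : ι)) ∧
      ∀ j k : ↥b.support, C.M j k = orderOf (Equiv.reflection P (j : ι) * Equiv.reflection P (k : ι)) := by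
  classical
  have hΔ := Groth.Agent.H84.BaseBridge.isSimpleSys b
  let s : ↥b.support → P.Aut := fun j => RootPairing.Equiv.reflection P (j : ι)
  have hs : ∀ a, s a * s a = 1 := fun a => Groth.Agent.Lib.RootDatum.Basic.reflection_mul_self P (a : ι)
  have hinj : Function.Injective s := Groth.Agent.H82.Coxeter.simp'_injective hΔ
  have hD : Groth.Agent.H82.Coxeter.Deletion s := Groth.Agent.H82.Coxeter.deletion hΔ
  let C : CoxeterMatrix ↥b.support :=
    { M := Matrix.of fun j k => orderOf (s j * s k)
      isSymm := Matrix.IsSymm.ext fun j k => by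
        simp only [Matrix.of_apply]
        rw [← orderOf_inv, mul_inv_rev, inv_eq_of_mul_eq_one_right (hs j), inv_eq_of_mul_eq_one_right (hs k)]
      diagonal := fun j => by rw [Matrix.of_apply, hs, orderOf_one]
      off_diagonal := fun j k hjk h => hjk (hinj (by
        rw [Matrix.of_apply, orderOf_eq_one_iff] at h
        rw [eq_inv_of_mul_eq_one_left h, inv_eq_of_mul_eq_one_right (hs k)])) }
  have hlift : C.IsLiftable fun j => (⟨s j, P.reflection_mem_weylGroup (j : ι)⟩ : P.weylGroup) := fun j k =>
    Subtype.ext (pow_orderOf_eq_one (s j * s k))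
  let cs₀ := C.toCoxeterSystem
  let φ : C.Group →* P.weylGroup := cs₀.lift ⟨_, hlift⟩
  have hφ : ∀ l, ((φ (cs₀.wordProd l) : P.weylGroup) : P.Aut) = Groth.Agent.H82.Coxeter.val s l := by
    intro l
    induction l with
    | nil => simp
    | cons a l ih =>
      rw [cs₀.wordProd_cons, map_mul, Subgroup.coe_mul, ih, Groth.Agent.H82.Coxeter.val_cons]
      exact congrArg (fun z : P.weylGroup => (z : P.Aut) * _) (cs₀.lift_apply_simple hlift a)
  have hbij : Function.Bijective φ := by
    constructor
    · rw [injective_iff_map_eq_one]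
      intro x hx
      obtain ⟨l, rfl⟩ := cs₀.wordProd_surjective x
      refine Groth.Agent.H82.Coxeter.lift_eq_one hD hs hinj (f := cs₀.simple)
        (fun j k => cs₀.simple_mul_simple_pow j k) l ?_
      rw [← hφ, hx]
      rfl
    · rintro ⟨g, hg⟩
      rw [← Groth.Agent.Lib.RootDatum.Weyl.genBy_simple hΔ] at hg
      obtain ⟨l, hl, rfl⟩ := Groth.Agent.Lib.RootDatum.Weyl.exists_word P hg
      refine ⟨cs₀.wordProd (l.pmap (fun a h => (⟨a, h⟩ : ↥b.support)) fun a ha => hl a ha), Subtype.ext ?_⟩
      rw [hφ]
      simp [Groth.Agent.H82.Coxeter.val, Groth.Agent.Lib.RootDatum.Weyl.wordProd, List.map_pmap, s]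
  let cs := cs₀.map (MulEquiv.ofBijective φ hbij)
  refine ⟨C, cs, fun j => ?_, fun j k => rfl⟩
  show ((MulEquiv.ofBijective φ hbij (cs₀.simple j) : P.weylGroup) : P.Aut) = _
  exact congrArg Subtype.val (cs₀.lift_apply_simple hlift j)

end Groth.Agent.S2956
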