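import Groth.Statements.S2957
import Groth.Agent.Lib.RootDatum.Weyl
import Groth.Agent.H84.BaseBridge

set_option autoImplicit false
open RootPairing
open scoped Pointwise
universe u
open RootD

namespace Groth.Agent.S2957

section
open Groth.Agent.Lib.RootDatum Groth.Agent.Lib.RootDatum.Basic Groth.Agent.Lib.RootDatum.PosSys

variable {ι R M N : Type*} [CommRing R] [CharZero R] [IsDomain R] [AddCommGroup M] [Module R M]
    [AddCommGroup N] [Module R N] (P : RootPairing ι R M N) [Finite ι] [P.IsCrystallographic] [P.IsReduced]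
    (b : P.Base)

/-- the inversions -/
def inv (g : P.Aut) : Set ι := {k | b.IsPos k ∧ ¬ b.IsPos (g • k)}

lemma inv_mul_refl_lt {g : P.Aut} {a : ι} (ha : a ∈ b.support) (hga : ¬ b.IsPos (g • a)) :
    (inv P b (g * RootPairing.Equiv.reflection P a)).ncard < (inv P b g).ncard := by
  have hap := RootPairing.Base.isPos_of_mem_support ha
  have hsub : inv P b (g * RootPairing.Equiv.reflection P a) ⊆
      P.reflectionPerm a '' (inv P b g \ {a}) := by
    rintro k ⟨hk, hk'⟩
    rw [mul_smul] at hk'
    change ¬ b.IsPos (g • P.reflectionPerm a k) at hk'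
    have hne : k ≠ a := by
      rintro rfl
      apply hk'
      change b.IsPos (g • negIdx P k)
      rw [smul_negIdx]
      exact (RootPairing.Base.IsPos.neg_iff_not b (g • k)).mpr hga
    refine ⟨P.reflectionPerm a k, ⟨⟨hk.reflectionPerm ha hne, hk'⟩, ?_⟩, P.reflectionPerm_self a k⟩
    intro e
    rw [Set.mem_singleton_iff] at e
    have e2 : k = negIdx P a := by rw [← P.reflectionPerm_self a k, e]
    rw [e2] at hk
    exact (RootPairing.Base.IsPos.neg_iff_not b a).mp hk hap
  refine lt_of_le_of_lt (Set.ncard_le_ncard hsub (Set.toFinite _)) ?_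
  rw [Set.ncard_image_of_injective _ (P.reflectionPerm a).injective]
  exact Set.ncard_sdiff_singleton_lt_of_mem ⟨hap, hga⟩ (Set.toFinite _)

lemma main (α β : ι) (hα : α ∈ b.support) (hβ : β ∈ b.support) (w : P.Aut) (hw : w ∈ P.weylGroup)
    (hwα : w • α = β) :
    ∃ (m : ℕ) (a : Fin (m + 1) → ι) (ws : Fin m → P.Aut),
      (∀ i, a i ∈ b.support) ∧ a 0 = α ∧ a (Fin.last m) = β ∧
      (∀ i, ws i ∈ P.weylGroup) ∧
      w = (List.ofFn fun i : Fin m => ws (Fin.rev i)).prod ∧
      (∀ i : Fin m, ws i • a (Fin.castSucc i) = a (Fin.succ i)) ∧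
      ∀ i : Fin m, ∃ γ ∈ b.support,
        ws i ∈ Subgroup.closure {RootPairing.Equiv.reflection P (a (Fin.castSucc i)), RootPairing.Equiv.reflection P γ} ∧
        (a (Fin.castSucc i) ≠ a (Fin.succ i) → γ = a (Fin.succ i)) := by
  classical
  induction hN : (inv P b w).ncard using Nat.strong_induction_on generalizing α w with
  | h n ih =>
    have hΔ := Groth.Agent.H84.BaseBridge.isSimpleSys b
    by_cases hall : ∀ k, b.IsPos k → b.IsPos (w • k)
    · have hw1 : w = 1 := Weyl.eq_one_of_mapsTo hΔ hw fun k hk =>
        (Groth.Agent.H84.BaseBridge.isPos_iff_mem b _).mp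
          (hall k ((Groth.Agent.H84.BaseBridge.isPos_iff_mem b k).mpr hk))
      subst hw1
      rw [one_smul] at hwα
      exact ⟨0, fun _ => α, Fin.elim0, fun _ => hα, rfl, hwα, fun i => i.elim0, by simp,
        fun i => i.elim0, fun i => i.elim0⟩
    · obtain ⟨γ, hγ, hwγ⟩ : ∃ γ ∈ b.support, ¬ b.IsPos (w • γ) := by
        by_contra! h
        refine hall fun k hk => hk.induction_on_add h fun i j l e hi hj => hi.add (h j hj) ?_
        rw [root_smul, root_smul, root_smul, e, smul_add]
      have hαγ : α ≠ γ := by
        rintro rfl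
        exact hwγ (hwα ▸ RootPairing.Base.isPos_of_mem_support hβ)
      set T : Set ι := {α, γ}
      let C : Set ℕ := {c | ∃ v, w⁻¹ * v ∈ Weyl.genBy P T ∧ (inv P b v).ncard = c}
      have hC : C.Nonempty := ⟨_, w, by rw [inv_mul_cancel]; exact one_mem _, rfl⟩
      obtain ⟨v, hv, hvc⟩ := Nat.sInf_mem hC
      have hlt : (inv P b v).ncard < n := by
        rw [hvc, ← hN]
        refine lt_of_le_of_lt (Nat.sInf_le ⟨w * RootPairing.Equiv.reflection P γ, ?_, rfl⟩)
          (inv_mul_refl_lt P b hγ hwγ)
        rw [← mul_assoc, inv_mul_cancel, one_mul]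
        exact Weyl.refl_mem_genBy P (by simp [T])
      have hpos : ∀ t ∈ T, b.IsPos (v • t) := by
        intro t ht
        by_contra hneg
        have hts : t ∈ b.support := by rcases ht with rfl | rfl <;> assumption
        have := inv_mul_refl_lt P b hts hneg
        have h2 : sInf C ≤ (inv P b (v * RootPairing.Equiv.reflection P t)).ncard :=
          Nat.sInf_le ⟨v * RootPairing.Equiv.reflection P t,
            by rw [← mul_assoc]; exact mul_mem hv (Weyl.refl_mem_genBy P ht), rfl⟩
        omega
      set u := v⁻¹ * w with hu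
      have huT : u ∈ Weyl.genBy P T := by
        have := inv_mem hv
        rwa [mul_inv_rev, inv_inv] at this
      have huW : u ∈ P.weylGroup := Weyl.genBy_le P T huT
      have hvW : v ∈ P.weylGroup := by
        have := mul_mem hw (inv_mem huW)
        rwa [hu, mul_inv_rev, inv_inv, ← mul_assoc, mul_inv_cancel, one_mul] at this
      have hvu : v • (u • α) = β := by rw [← mul_smul, hu, ← mul_assoc, mul_inv_cancel, one_mul, hwα]
      -- the image of `α` under `u` is `α` or `γ`
      have hmem := Weyl.smul_sub_mem_spanZ_of_genBy P huT α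
      simp only [T, Set.image_pair] at hmem
      obtain ⟨x, y, hxy⟩ := Submodule.mem_span_pair.mp hmem
      have hroot : P.root (u • α) = (x + 1) • P.root α + y • P.root γ := by
        rw [add_smul, one_smul, add_right_comm, hxy, sub_add_cancel]
      have hc1 : coeff hΔ (u • α) = Finsupp.single α (x + 1) + Finsupp.single γ y := by
        refine coeff_eq hΔ ?_ (by rw [map_add, Finsupp.linearCombination_single, Finsupp.linearCombination_single, hroot])
        exact Submodule.add_mem _ (Finsupp.single_mem_supported ℤ _ (Finset.mem_coe.mpr hα))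
          (Finsupp.single_mem_supported ℤ _ (Finset.mem_coe.mpr hγ))
      have hsign : (0 ≤ x + 1 ∧ 0 ≤ y) ∨ (x + 1 ≤ 0 ∧ y ≤ 0) := by
        have e1 : coeff hΔ (u • α) α = x + 1 := by rw [hc1]; simp [hαγ]
        have e2 : coeff hΔ (u • α) γ = y := by rw [hc1]; simp [hαγ]
        rcases hΔ.mem_or_neg_mem (u • α) with h | h
        · left
          rw [← e1, ← e2]
          exact ⟨(mem_posOf_iff hΔ).mp h α, (mem_posOf_iff hΔ).mp h γ⟩
        · right
          have h' : negIdx P (u • α) ∈ RootD.posOf P (b.support : Set ι) := by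
            change P.root _ ∈ RootD.natSpan P _
            rwa [root_negIdx]
          have f1 := (mem_posOf_iff hΔ).mp h' α
          have f2 := (mem_posOf_iff hΔ).mp h' γ
          rw [coeff_negIdx, Finsupp.neg_apply] at f1 f2
          omega
      have hht : (1 : ℤ) = (x + 1) * ht hΔ (v • α) + y * ht hΔ (v • γ) := by
        have hc : coeff hΔ β = (x + 1) • coeff hΔ (v • α) + y • coeff hΔ (v • γ) := by
          refine coeff_eq hΔ ?_ ?_
          · exact Submodule.add_mem (Finsupp.supported ℤ ℤ _) (Submodule.smul_mem _ _ (coeff_support hΔ _))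
              (Submodule.smul_mem _ _ (coeff_support hΔ _))
          · rw [map_add, map_zsmul, map_zsmul, comb_coeff, comb_coeff, ← hvu, root_smul, root_smul,
              root_smul, hroot, smul_add, smul_comm, smul_comm v y]
        have := congrArg (Finsupp.liftAddHom fun _ : ι => AddMonoidHom.id ℤ) hc
        rw [map_add, map_zsmul, map_zsmul, coeff_self hΔ (Finset.mem_coe.mpr hβ), Finsupp.liftAddHom_apply_single] at this
        simp [smul_eq_mul] at this
        exact this
      have H1 := ht_pos hΔ ((Groth.Agent.H84.BaseBridge.isPos_iff_mem b _).mp (hpos α (by simp [T])))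
      have H2 := ht_pos hΔ ((Groth.Agent.H84.BaseBridge.isPos_iff_mem b _).mp (hpos γ (by simp [T])))
      have hxy' : (x + 1 = 1 ∧ y = 0) ∨ (x + 1 = 0 ∧ y = 1) := by
        rcases hsign with ⟨p1, p2⟩ | ⟨p1, p2⟩
        · rcases p1.lt_or_eq with p | p
          · have hy : y = 0 := by nlinarith
            have hx : x + 1 = 1 := by
              subst hy
              rw [zero_mul, add_zero] at hht
              exact Int.eq_one_of_mul_eq_one_right p.le hht.symm
            exact Or.inl ⟨hx, hy⟩
          · rw [← p, zero_mul, zero_add] at hht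
            exact Or.inr ⟨p.symm, Int.eq_one_of_mul_eq_one_right p2 hht.symm⟩
        · nlinarith
      obtain ⟨hmem1, himp⟩ : u • α ∈ b.support ∧ (α ≠ u • α → γ = u • α) := by
        rcases hxy' with ⟨h1, h2⟩ | ⟨h1, h2⟩
        · have e : u • α = α := P.root.injective (by rw [hroot, h1, h2, one_smul, zero_smul, add_zero])
          rw [e]; exact ⟨hα, fun h => absurd rfl h⟩
        · have e : u • α = γ := P.root.injective (by rw [hroot, h1, h2, one_smul, zero_smul, zero_add])
          rw [e]; exact ⟨hγ, fun _ => rfl⟩
      obtain ⟨m, a, ws, ha, ha0, hal, hws, hprod, hstep, hcl⟩ :=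
        ih _ hlt (u • α) hmem1 v hvW hvu rfl
      refine ⟨m + 1, Fin.cons α a, Fin.cons u ws, ?_, rfl, ?_, ?_, ?_, ?_, ?_⟩
      · intro i; refine Fin.cases ?_ ?_ i <;> simp [hα, ha]
      · rw [← Fin.succ_last, Fin.cons_succ, hal]
      · intro i; refine Fin.cases ?_ ?_ i <;> simp [huW, hws]
      · rw [List.ofFn_succ', List.concat_eq_append, List.prod_append, List.prod_singleton, Fin.rev_last,
          Fin.cons_zero]
        have : (fun i : Fin m => (Fin.cons u ws : Fin (m + 1) → P.Aut) (Fin.rev (Fin.castSucc i))) =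
            fun i => ws (Fin.rev i) := by
          funext i; rw [Fin.rev_castSucc, Fin.cons_succ]
        rw [this, ← hprod, hu, ← mul_assoc, mul_inv_cancel, one_mul]
      · intro i
        refine Fin.cases ?_ ?_ i
        · simp [ha0]
        · intro j
          rw [← Fin.succ_castSucc, Fin.cons_succ, Fin.cons_succ, Fin.cons_succ]
          exact hstep j
      · intro i
        refine Fin.cases ?_ ?_ i
        · refine ⟨γ, hγ, ?_, ?_⟩
          · simp only [Fin.castSucc_zero, Fin.cons_zero]
            simpa [T, Weyl.genBy, Set.image_pair] using huT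
          · simpa [ha0] using himp
        · intro j
          rw [← Fin.succ_castSucc]
          simp only [Fin.cons_succ]
          exact hcl j

end

/-- For a finite crystallographic reduced root pairing with a base b: let α, β be simple roots and w an
element of the Weyl group with w(α) = β. Then there are simple roots α = α_0, ..., α_m = β and Weyl
group elements w_0, ..., w_{m-1} with w = w_{m-1} ... w_0, w_i(α_i) = α_{i+1}, and each w_i lying in
the subgroup generated by the reflections in α_i and in a simple root γ_i, where γ_i = α_{i+1}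
whenever α_i ≠ α_{i+1}. -/
theorem result {ι R M N : Type*} [CommRing R] [CharZero R] [IsDomain R] [AddCommGroup M] [Module R M]
    [AddCommGroup N] [Module R N] (P : RootPairing ι R M N) [Finite ι] [P.IsCrystallographic] [P.IsReduced]
    (b : P.Base) (α β : ι) (hα : α ∈ b.support) (hβ : β ∈ b.support) (w : P.Aut) (hw : w ∈ P.weylGroup)
    (hwα : w • α = β) :
    ∃ (m : ℕ) (a : Fin (m + 1) → ι) (ws : Fin m → P.Aut),
      (∀ i, a i ∈ b.support) ∧ a 0 = α ∧ a (Fin.last m) = β ∧
      (∀ i, ws i ∈ P.weylGroup) ∧
      w = (List.ofFn fun i : Fin m => ws (Fin.rev i)).prod ∧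
      (∀ i : Fin m, ws i • a (Fin.castSucc i) = a (Fin.succ i)) ∧
      ∀ i : Fin m, ∃ γ ∈ b.support,
        ws i ∈ Subgroup.closure {Equiv.reflection P (a (Fin.castSucc i)), Equiv.reflection P γ} ∧
        (a (Fin.castSucc i) ≠ a (Fin.succ i) → γ = a (Fin.succ i)) := by
  exact main P b α β hα hβ w hw hwα

end Groth.Agent.S2957
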