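import Groth.Statements.S2962
import Groth.Agent.H82.Contract.Gen

set_option autoImplicit false
open CategoryTheory MonoidalCategory CartesianMonoidalCategory MonObj GrpObj AlgebraicGeometry
universe u
open RedX
open Groth.Agent.Lib.RedPts Groth.Agent.H82.Contract
open Groth.Agent.H82.RankOne (P P_eq)

namespace Groth.Agent.S2962

/-- Let G be a split reductive group scheme over S with splitting D (maximal torus T = D(M), roots in
M). A point g of G with values in X is central (commutes with every point of G after every base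
change X' -> X) if and only if it factors through T and every root, viewed as a character T -> G_m,
is trivial on it; i.e. the centre of G is the intersection of the kernels of the roots. -/
theorem result {S : Scheme.{u}} {G : Over S} [GrpObj G] (D : Red.SplitRed G)
    (X : Over S) (g : X ⟶ G) :
    (∀ (X' : Over S) (x : X' ⟶ X) (h : X' ⟶ G), (x ≫ g) * h = h * (x ≫ g)) ↔
      ∃ t : X ⟶ D.T, t ≫ D.i = g ∧ ∀ a : D.idx, t ≫ D.split.hom.hom.hom ≫ Red.chi S (D.P.root a) = 1 := by
  constructor
  · intro hc
    obtain ⟨t, ht⟩ := exists_torus_of_commute_torus (D := D) (g := g) fun Y f w => (hc Y f (w ≫ D.i)).symm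
    refine ⟨t, ht, fun a => ?_⟩
    apply Gm.gmFn_injective
    rw [Gm.gmFn_one]
    have h1 : (t ≫ D.i) * P (D.u a) (1 : Γ(X.left, ⊤)) = P (D.u a) (Red.gmFn (t ≫ chr D (D.P.root a)) * 1) * (t ≫ D.i) :=
      isRootPts D a t 1
    have h2 := hc X (𝟙 X) (P (D.u a) (1 : Γ(X.left, ⊤)))
    rw [Category.id_comp, ← ht] at h2
    rw [h2, _root_.mul_one] at h1
    have h3 := congrArg Red.gaFn ((cancel_mono (D.u a)).1 (mul_right_cancel h1))
    rw [Ga.gaFn_gaPt, Ga.gaFn_gaPt] at h3
    exact h3.symm
  · rintro ⟨t, rfl, ht⟩ X' x h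
    refine commute_all (D := D) (fun Y f w => ?_) (fun a Y f w => ?_) h
    · rw [← Category.assoc x, ← Category.assoc f, ← MonObj.mul_comp, ← MonObj.mul_comp, torus_comm D]
    · have e : ((f ≫ x) ≫ t) ≫ chr D (D.P.root a) = 1 := by
        rw [Category.assoc (f ≫ x), show t ≫ chr D (D.P.root a) = 1 from ht a, MonObj.comp_one]
      have h1 := isRootPts D a ((f ≫ x) ≫ t) (Red.gaFn w)
      rw [e, Gm.gmFn_one, _root_.one_mul, ← P_eq] at h1
      rw [← Category.assoc x, ← Category.assoc f, ← Category.assoc f]
      exact h1.symm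

end Groth.Agent.S2962
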