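import Groth.Statements.S2964
import Mathlib

set_option autoImplicit false
set_option backward.isDefEq.respectTransparency false
universe u
open scoped TensorProduct
open SGA3t2b

namespace Groth.Agent.S2964

open LieModule

variable {A : Type u} [CommRing A] {L : Type u} [LieRing L] [LieAlgebra A L]

theorem bracket_lcs_le {I : Ideal A} {N : ℕ} {W : Submodule A L}
    (h : (lowerCentralSeries A L L N).toSubmodule ≤ I • (⊤ : Submodule A L)) :
    ∀ (J : Ideal A) (M : ℕ), (lowerCentralSeries A L L M).toSubmodule ≤ J • (⊤ : Submodule A L) ⊔ W →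
      (∀ x : L, ∀ w ∈ W, ⁅x, w⁆ ∈ W) → (lowerCentralSeries A L L (N + M)).toSubmodule ≤
        J • (lowerCentralSeries A L L N).toSubmodule ⊔ W := by
  intro J M hM hW
  induction N generalizing I with
  | zero =>
    rw [zero_add]
    exact hM.trans (by simp)
  | succ N ih =>
    have ih' := ih (I := ⊤) (by simp)
    rw [show N + 1 + M = (N + M) + 1 by ring, LieModule.lowerCentralSeries_succ, lowerCentralSeries_succ,
      LieSubmodule.lieIdeal_oper_eq_linear_span', LieSubmodule.lieIdeal_oper_eq_linear_span', Submodule.span_le]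
    rintro _ ⟨x, hx, n, hn, rfl⟩
    have hmem := ih' hn
    obtain ⟨a, ha, w, hw, rfl⟩ := Submodule.mem_sup.mp hmem
    rw [lie_add, SetLike.mem_coe]
    refine Submodule.add_mem_sup ?_ (hW x w hw)
    clear hmem hn
    induction ha using Submodule.smul_induction_on' with
    | smul r hr y hy =>
      rw [lie_smul]
      exact Submodule.smul_mem_smul hr (Submodule.subset_span ⟨x, hx, y, hy, rfl⟩)
    | add y _ z _ hy hz => rw [lie_add]; exact add_mem hy hz

theorem lcs_mul_le {I J : Ideal A} {N M : ℕ}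
    (hI : (lowerCentralSeries A L L N).toSubmodule ≤ I • (⊤ : Submodule A L))
    (hJ : (lowerCentralSeries A L L M).toSubmodule ≤ J • (⊤ : Submodule A L)) :
    (lowerCentralSeries A L L (N + M)).toSubmodule ≤ (J * I) • (⊤ : Submodule A L) := by
  have h := bracket_lcs_le hI J M (W := ⊥) (by simpa using hJ) (fun x w hw => by
    rw [Submodule.mem_bot] at hw; simp [hw])
  rw [sup_bot_eq] at h
  refine h.trans ?_
  rw [Submodule.mul_smul]
  exact Submodule.smul_mono le_rfl hI

theorem lcs_fg [Module.Finite A L] : ∀ N, (lowerCentralSeries A L L N).toSubmodule.FG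
  | 0 => by simpa using Module.Finite.fg_top
  | N + 1 => by
    have h : (lowerCentralSeries A L L (N + 1)).toSubmodule =
        Submodule.map₂ (LieModule.toEnd A L L : L →ₗ[A] Module.End A L) (⊤ : Submodule A L) (lowerCentralSeries A L L N).toSubmodule := by
      rw [LieModule.lowerCentralSeries_succ, LieSubmodule.lieIdeal_oper_eq_linear_span', Submodule.map₂_eq_span_image2]
      congr 1
    rw [h]
    exact Submodule.FG.map₂ _ Module.Finite.fg_top (lcs_fg N)

theorem exists_den (p : Ideal A) [p.IsPrime] (z : p.ResidueField ⊗[A] L) :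
    ∃ (s : A) (x : L), s ∉ p ∧ algebraMap A p.ResidueField s • z = 1 ⊗ₜ x := by
  induction z using TensorProduct.induction_on with
  | zero => exact ⟨1, 0, fun h => Ideal.IsPrime.ne_top ‹_› ((Ideal.eq_top_iff_one _).mpr h), by simp⟩
  | tmul c y =>
    obtain ⟨a, s, hs, rfl⟩ := IsFractionRing.div_surjective (A ⧸ p) c
    obtain ⟨a, rfl⟩ := Ideal.Quotient.mk_surjective a
    obtain ⟨s, rfl⟩ := Ideal.Quotient.mk_surjective s
    have hs' : s ∉ p := fun h => nonZeroDivisors.ne_zero hs (Ideal.Quotient.eq_zero_iff_mem.mpr h)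
    refine ⟨s, a • y, hs', ?_⟩
    have e : ∀ b : A, algebraMap (A ⧸ p) p.ResidueField (Ideal.Quotient.mk p b) = algebraMap A p.ResidueField b :=
      fun b => (IsScalarTower.algebraMap_apply A (A ⧸ p) p.ResidueField b).symm
    have hs0 : algebraMap A p.ResidueField s ≠ 0 := fun h => hs' (Ideal.algebraMap_residueField_eq_zero.mp h)
    rw [TensorProduct.smul_tmul', TensorProduct.tmul_smul, TensorProduct.smul_tmul', e, e, smul_eq_mul,
      mul_div_cancel₀ _ hs0, Algebra.smul_def, mul_one]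
  | add u v hu hv =>
    obtain ⟨s, x, hs, hu⟩ := hu
    obtain ⟨t, y, ht, hv⟩ := hv
    refine ⟨s * t, t • x + s • y, fun h => (Ideal.IsPrime.mem_or_mem ‹_› h).elim hs ht, ?_⟩
    rw [smul_add, TensorProduct.tmul_add, TensorProduct.tmul_smul, TensorProduct.tmul_smul, ← hu, ← hv,
      ← algebraMap_smul p.ResidueField t, ← algebraMap_smul p.ResidueField s (_ • v), smul_smul, smul_smul,
      map_mul, mul_comm (algebraMap A p.ResidueField t)]

theorem exists_smul_mem (p : Ideal A) [p.IsPrime] (x : L)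
    (hx : (1 : p.ResidueField) ⊗ₜ[A] x = 0) : ∃ f ∉ p, f • x ∈ p • (⊤ : Submodule A L) := by
  let Q := (A ⧸ p) ⊗[A] L
  let e := TensorProduct.AlgebraTensorModule.cancelBaseChange A (A ⧸ p) (A ⧸ p) p.ResidueField L
  have h1 : (TensorProduct.mk (A ⧸ p) p.ResidueField Q) 1 (1 ⊗ₜ x) = 0 := by
    apply e.injective
    rw [map_zero]
    show e ((1 : p.ResidueField) ⊗ₜ[A ⧸ p] ((1 : A ⧸ p) ⊗ₜ[A] x)) = 0
    rw [TensorProduct.AlgebraTensorModule.cancelBaseChange_tmul, one_smul]
    exact hx
  haveI : IsLocalizedModule (nonZeroDivisors (A ⧸ p)) (TensorProduct.mk (A ⧸ p) p.ResidueField Q 1) :=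
    (isLocalizedModule_iff_isBaseChange (nonZeroDivisors (A ⧸ p)) p.ResidueField _).mpr
      (TensorProduct.isBaseChange (A ⧸ p) Q p.ResidueField)
  obtain ⟨⟨f, hf⟩, hfx⟩ := (IsLocalizedModule.eq_zero_iff (nonZeroDivisors (A ⧸ p))
    (TensorProduct.mk (A ⧸ p) p.ResidueField Q 1)).mp h1
  obtain ⟨f, rfl⟩ := Ideal.Quotient.mk_surjective f
  refine ⟨f, fun h => nonZeroDivisors.ne_zero hf (Ideal.Quotient.eq_zero_iff_mem.mpr h), ?_⟩
  have h2 := congrArg (TensorProduct.quotTensorEquivQuotSMul L p) hfx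
  rw [Submonoid.mk_smul, TensorProduct.smul_tmul', smul_eq_mul, mul_one, map_zero,
    TensorProduct.quotTensorEquivQuotSMul_mk_tmul, Submodule.Quotient.mk_eq_zero] at h2
  exact h2

theorem one_tmul_mem_lcs (p : Ideal A) [p.IsPrime] (N : ℕ) : ∀ x ∈ lowerCentralSeries A L L N,
    (1 : p.ResidueField) ⊗ₜ[A] x ∈
      lowerCentralSeries p.ResidueField (p.ResidueField ⊗[A] L) (p.ResidueField ⊗[A] L) N := by
  induction N with
  | zero => simp
  | succ N ih =>
    intro x hx
    rw [LieModule.lowerCentralSeries_succ, ← LieSubmodule.mem_toSubmodule, LieSubmodule.lieIdeal_oper_eq_linear_span'] at hx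
    induction hx using Submodule.span_induction with
    | mem z hz =>
      obtain ⟨a, -, n, hn, rfl⟩ := hz
      rw [LieModule.lowerCentralSeries_succ]
      have : (1 : p.ResidueField) ⊗ₜ[A] ⁅a, n⁆ = ⁅(1 : p.ResidueField) ⊗ₜ[A] a, (1 : p.ResidueField) ⊗ₜ[A] n⁆ := by
        rw [LieAlgebra.ExtendScalars.bracket_tmul, mul_one]
      rw [this]
      exact LieSubmodule.lie_mem_lie (LieSubmodule.mem_top _) (ih n hn)
    | zero => simp
    | add u v _ _ hu hv => rw [TensorProduct.tmul_add]; exact add_mem hu hv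
    | smul r u _ hu =>
      rw [TensorProduct.tmul_smul, ← algebraMap_smul p.ResidueField r]
      exact SMulMemClass.smul_mem _ hu

theorem isNilpotent_of_fibres [Module.Finite A L]
    (h : ∀ p : PrimeSpectrum A, LieRing.IsNilpotent (p.asIdeal.ResidueField ⊗[A] L)) : LieRing.IsNilpotent L := by
  let S : Set (Ideal A) := {J | ¬ ∃ N, (lowerCentralSeries A L L N).toSubmodule ≤ J • (⊤ : Submodule A L)}
  by_cases hbot : (⊥ : Ideal A) ∈ S
  swap
  · obtain ⟨N, hN⟩ := not_not.mp hbot
    refine (LieModule.isNilpotent_iff A L L).mpr ⟨N, ?_⟩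
    rw [← LieSubmodule.toSubmodule_eq_bot]
    simpa using hN
  exfalso
  obtain ⟨P, -, hP⟩ := zorn_le_nonempty₀ S (fun C hC hchain y hy => by
    refine ⟨sSup C, ?_, fun z hz => le_sSup hz⟩
    rintro ⟨N, hN⟩
    have : sSup C • (⊤ : Submodule A L) = ⨆ J : C, (J : Ideal A) • (⊤ : Submodule A L) := by
      rw [sSup_eq_iSup']
      exact Submodule.iSup_smul
    rw [this] at hN
    haveI : Nonempty C := ⟨⟨y, hy⟩⟩
    have hdir : Directed (· ≤ ·) fun J : C => (J : Ideal A) • (⊤ : Submodule A L) := fun a b => by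
      rcases hchain.total a.2 b.2 with hab | hab
      · exact ⟨b, Submodule.smul_mono_left hab, le_rfl⟩
      · exact ⟨a, le_rfl, Submodule.smul_mono_left hab⟩
    obtain ⟨_, ⟨J, rfl⟩, hJ⟩ := ((Submodule.fg_iff_compact _).mp (lcs_fg N)) _ _
      (Set.range_nonempty _) hdir.directedOn_range isLUB_iSup hN
    exact hC J.2 ⟨N, hJ⟩) ⊥ hbot
  have hmem : ∀ J, P < J → ∃ N, (lowerCentralSeries A L L N).toSubmodule ≤ J • (⊤ : Submodule A L) := fun J hJ =>
    not_not.mp fun hc => hJ.not_ge (hP.2 hc hJ.le)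
  have hprime : P.IsPrime := by
    refine ⟨fun htop => hP.1 ⟨0, by simp [htop]⟩, fun {a b} hab => ?_⟩
    by_contra hc
    rw [not_or] at hc
    obtain ⟨N, hN⟩ := hmem (P ⊔ Ideal.span {a}) (left_lt_sup.mpr (by simpa using hc.1))
    obtain ⟨M, hM⟩ := hmem (P ⊔ Ideal.span {b}) (left_lt_sup.mpr (by simpa using hc.2))
    refine hP.1 ⟨N + M, (lcs_mul_le hN hM).trans (Submodule.smul_mono_left ?_)⟩
    rw [Ideal.mul_le]
    rintro x hx y hy
    obtain ⟨p₁, hp₁, _, hc₁, rfl⟩ := Submodule.mem_sup.mp hx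
    obtain ⟨p₂, hp₂, _, hc₂, rfl⟩ := Submodule.mem_sup.mp hy
    obtain ⟨c₁, rfl⟩ := Ideal.mem_span_singleton'.mp hc₁
    obtain ⟨c₂, rfl⟩ := Ideal.mem_span_singleton'.mp hc₂
    rw [show (p₁ + c₁ * b) * (p₂ + c₂ * a) = p₁ * (p₂ + c₂ * a) + ((c₁ * b) * p₂ + c₁ * c₂ * (a * b)) by ring]
    exact add_mem (Ideal.mul_mem_right _ _ hp₁) (add_mem (Ideal.mul_mem_left _ _ hp₂) (Ideal.mul_mem_left _ _ hab))
  obtain ⟨N, hN⟩ := (LieModule.isNilpotent_iff P.ResidueField (P.ResidueField ⊗[A] L) (P.ResidueField ⊗[A] L)).mp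
    (h ⟨P, hprime⟩)
  obtain ⟨s, hs⟩ := lcs_fg (A := A) (L := L) N
  have hf : ∀ x ∈ s, ∃ f ∉ P, f • x ∈ P • (⊤ : Submodule A L) := fun x hx => by
    refine exists_smul_mem P x ?_
    have hx' : x ∈ (lowerCentralSeries A L L N).toSubmodule := hs ▸ Submodule.subset_span hx
    have := one_tmul_mem_lcs P N x hx'
    rwa [hN, LieSubmodule.mem_bot] at this
  choose! f hf hfx using hf
  set F := ∏ x ∈ s, f x with hFdef
  have hF : F ∉ P := fun hc => by
    obtain ⟨x, hx, hx'⟩ := hprime.prod_mem_iff.mp hc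
    exact hf x hx hx'
  have hFN : ∀ y ∈ (lowerCentralSeries A L L N).toSubmodule, F • y ∈ P • (⊤ : Submodule A L) := by
    intro y hy
    rw [← hs] at hy
    induction hy using Submodule.span_induction with
    | mem z hz =>
      obtain ⟨c, hc⟩ := Finset.dvd_prod_of_mem f hz
      rw [hFdef, hc, mul_comm, mul_smul]
      exact Submodule.smul_mem _ _ (hfx z hz)
    | zero => simp
    | add u v _ _ hu hv => rw [smul_add]; exact add_mem hu hv
    | smul r u _ hu => rw [smul_comm]; exact Submodule.smul_mem _ _ hu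
  obtain ⟨M, hM⟩ := hmem (P ⊔ Ideal.span {F}) (left_lt_sup.mpr (by simpa using hF))
  refine hP.1 ⟨N + M, ?_⟩
  have hW : ∀ x : L, ∀ w ∈ P • (⊤ : Submodule A L), ⁅x, w⁆ ∈ P • (⊤ : Submodule A L) := by
    intro x w hw
    induction hw using Submodule.smul_induction_on' with
    | smul r hr y hy => rw [lie_smul]; exact Submodule.smul_mem_smul hr trivial
    | add y _ z _ hy hz => rw [lie_add]; exact add_mem hy hz
  refine (bracket_lcs_le (I := ⊤) (N := N) (by simp) (Ideal.span {F}) M (W := P • ⊤)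
    (hM.trans (le_of_eq (by rw [Submodule.sup_smul, sup_comm]))) hW).trans (sup_le ?_ le_rfl)
  rw [Submodule.ideal_span_singleton_smul]
  rintro _ ⟨y, hy, rfl⟩
  exact hFN y hy

/-- (i) ⇒ (iii): let d be a Lie algebra over a commutative ring A which is finitely presented as an
A-module. If for every prime p of A the fibre Lie algebra κ(p) ⊗_A d is nilpotent, then d is
nilpotent (its lower central series vanishes, i.e. there is N with ad(x_1) ⋯ ad(x_N) = 0 for all
x_i); and the same conclusion holds if ad(x) is nilpotent for every x in d. -/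
theorem result {A : Type u} [CommRing A] {L : Type u} [LieRing L] [LieAlgebra A L]
    [Module.FinitePresentation A L] :
    ((∀ p : PrimeSpectrum A, LieRing.IsNilpotent (p.asIdeal.ResidueField ⊗[A] L)) → LieRing.IsNilpotent L) ∧
    ((∀ x : L, IsNilpotent (LieAlgebra.ad A L x)) → LieRing.IsNilpotent L) := by
  classical
  refine ⟨isNilpotent_of_fibres (A := A) (L := L), fun h => isNilpotent_of_fibres (A := A) (L := L) fun p => ?_⟩
  rw [LieAlgebra.isNilpotent_iff_forall (R := p.asIdeal.ResidueField)]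
  intro z
  obtain ⟨s, x, hs, hz⟩ := exists_den p.asIdeal z
  have hs0 : algebraMap A p.asIdeal.ResidueField s ≠ 0 := fun h0 => hs (Ideal.algebraMap_residueField_eq_zero.mp h0)
  have hz' : z = (algebraMap A p.asIdeal.ResidueField s)⁻¹ • ((1 : p.asIdeal.ResidueField) ⊗ₜ[A] x) := by
    rw [← hz, inv_smul_smul₀ hs0]
  rw [hz', map_smul]
  refine IsNilpotent.smul ?_ _
  obtain ⟨n, hn⟩ := h x
  refine ⟨n, LinearMap.ext fun w => ?_⟩
  induction w using TensorProduct.induction_on with
  | zero => simp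
  | add u v hu hv => rw [map_add, hu, hv]; simp
  | tmul c y =>
    have key : ∀ m : ℕ, ((LieAlgebra.ad p.asIdeal.ResidueField (p.asIdeal.ResidueField ⊗[A] L)
        ((1 : p.asIdeal.ResidueField) ⊗ₜ[A] x)) ^ m) (c ⊗ₜ y) = c ⊗ₜ ((LieAlgebra.ad A L x ^ m) y) := by
      intro m
      induction m with
      | zero => simp
      | succ m ih =>
        rw [pow_succ', pow_succ', Module.End.mul_apply, Module.End.mul_apply, ih, LieAlgebra.ad_apply,
          LieAlgebra.ad_apply, LieAlgebra.ExtendScalars.bracket_tmul, one_mul]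
    rw [key, hn]
    simp

end Groth.Agent.S2964
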