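import Groth.Statements.S2965
import Mathlib.LinearAlgebra.Charpoly.Basic
import Mathlib.RingTheory.Polynomial.Basic
-- import your own Groth.Agent.* helpers here

set_option autoImplicit false
universe u
open SGA3t2b

namespace Groth.Agent.S2965

open Polynomial in
/-- Implication (iv) ⇒ (i) (global form, finite free module): let u be an endomorphism of a finite free
module M over a commutative ring A whose characteristic polynomial is X^r · Q with Q(0) invertible.
Then M is the direct sum of two u-stable submodules M', M'' such that u is nilpotent on M' and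
bijective on M''. -/
theorem result {A : Type u} [CommRing A] {M : Type u} [AddCommGroup M] [Module A M]
    [Module.Free A M] [Module.Finite A M] (u : M →ₗ[A] M) (r : ℕ) (Q : A[X]) (hQ : IsUnit (Q.coeff 0))
    (h : u.charpoly = X ^ r * Q) :
    ∃ M' M'' : Submodule A M, IsCompl M' M'' ∧ (∀ x ∈ M', u x ∈ M') ∧ (∀ x ∈ M'', u x ∈ M'') ∧
      (∃ n : ℕ, ∀ x ∈ M', (u ^ n) x = 0) ∧ Set.BijOn u M'' M'' := by
  obtain ⟨q, hq⟩ := hQ
  have hcop : IsCoprime (X : A[X]) Q :=
    ⟨-(C (↑q⁻¹ : A) * Q.divX), C (↑q⁻¹ : A), by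
      have h1 : C (↑q⁻¹ : A) * C (Q.coeff 0) = 1 := by rw [← C_mul, ← hq, Units.inv_mul, C_1]
      nth_rewrite 2 [← Q.divX_mul_X_add]
      rw [mul_add, h1]
      ring⟩
  have hcop' : IsCoprime ((X : A[X]) ^ r) Q := hcop.pow_left
  refine ⟨LinearMap.ker (aeval u ((X : A[X]) ^ r)), LinearMap.ker (aeval u Q), ⟨?_, ?_⟩, ?_, ?_, ⟨r, ?_⟩, ?_⟩
  · exact disjoint_ker_aeval_of_isCoprime u hcop'
  · rw [codisjoint_iff, sup_ker_aeval_eq_ker_aeval_mul_of_coprime u hcop', ← h, LinearMap.aeval_self_charpoly,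
      LinearMap.ker_zero]
  · intro x hx
    have h2 := LinearMap.congr_fun ((Commute.all (X ^ r : A[X]) X).map (aeval u)).eq x
    simp only [Module.End.mul_apply, aeval_X] at h2
    rw [LinearMap.mem_ker, h2, LinearMap.mem_ker.1 hx, map_zero]
  · intro x hx
    have h2 := LinearMap.congr_fun ((Commute.all Q X).map (aeval u)).eq x
    simp only [Module.End.mul_apply, aeval_X] at h2
    rw [LinearMap.mem_ker, h2, LinearMap.mem_ker.1 hx, map_zero]
  · intro x hx
    simpa using hx
  · have hinv : ∀ x ∈ LinearMap.ker (aeval u Q), aeval u (-(C (↑q⁻¹ : A) * Q.divX)) (u x) = x ∧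
        u (aeval u (-(C (↑q⁻¹ : A) * Q.divX)) x) = x ∧
        aeval u (-(C (↑q⁻¹ : A) * Q.divX)) x ∈ LinearMap.ker (aeval u Q) := by
      intro x hx
      have e : -(C (↑q⁻¹ : A) * Q.divX) * X + C (↑q⁻¹ : A) * Q = 1 := by
        have h1 : C (↑q⁻¹ : A) * C (Q.coeff 0) = 1 := by rw [← C_mul, ← hq, Units.inv_mul, C_1]
        nth_rewrite 2 [← Q.divX_mul_X_add]
        rw [mul_add, h1]
        ring
      have e2 := LinearMap.congr_fun (congrArg (aeval u) e) x
      simp only [map_add, map_mul, map_one, LinearMap.add_apply, Module.End.mul_apply, aeval_X,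
        Module.End.one_apply, LinearMap.mem_ker.1 hx, map_zero, add_zero] at e2
      refine ⟨e2, ?_, ?_⟩
      · have h2 := LinearMap.congr_fun ((Commute.all X (-(C (↑q⁻¹ : A) * Q.divX))).map (aeval u)).eq x
        simp only [Module.End.mul_apply, aeval_X] at h2
        rw [h2]; exact e2
      · have h2 := LinearMap.congr_fun ((Commute.all Q (-(C (↑q⁻¹ : A) * Q.divX))).map (aeval u)).eq x
        simp only [Module.End.mul_apply] at h2
        rw [LinearMap.mem_ker, h2, LinearMap.mem_ker.1 hx, map_zero]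
    refine ⟨fun x hx => ?_, fun x hx y hy hxy => ?_, fun x hx => ⟨_, (hinv x hx).2.2, (hinv x hx).2.1⟩⟩
    · have h2 := LinearMap.congr_fun ((Commute.all Q X).map (aeval u)).eq x
      simp only [Module.End.mul_apply, aeval_X] at h2
      rw [SetLike.mem_coe, LinearMap.mem_ker, h2, LinearMap.mem_ker.1 hx, map_zero]
    · rw [← (hinv x hx).1, hxy, (hinv y hy).1]

end Groth.Agent.S2965
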