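import Groth.Statements.S2967
import Mathlib.LinearAlgebra.Dimension.Finite
-- import your own Groth.Agent.* helpers here

set_option autoImplicit false
universe u
open SGA3t2b

namespace Groth.Agent.S2967

/-- A commutative p-Lie algebra over a field k of characteristic p is recorded as a k-vector space g
together with its p-th power map φ, which is additive and Frobenius-semilinear. Let g be
finite-dimensional and non-zero, and assume every element of g is killed by some iterate of φ (g is
unipotent). Then the k-subspace of g spanned by the image φ(g) is a proper subspace. -/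
theorem result {k : Type u} [Field k] (p : ℕ) [Fact p.Prime] [CharP k p]
    {V : Type u} [AddCommGroup V] [Module k V] [FiniteDimensional k V] [Nontrivial V]
    (φ : V →ₛₗ[frobenius k p] V) (hφ : ∀ x : V, ∃ n : ℕ, φ^[n] x = 0) :
    Submodule.span k (Set.range φ) ≠ ⊤ := by
  intro htop
  classical
  have hsmul : ∀ (n : ℕ) (c : k) (x : V), φ^[n] x = 0 → φ^[n] (c • x) = 0 := by
    intro n
    induction n with
    | zero => intro c x hx; simp only [Function.iterate_zero, id] at hx ⊢; rw [hx, smul_zero]
    | succ n ih =>
      intro c x hx
      rw [Function.iterate_succ_apply, map_smulₛₗ]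
      exact ih _ _ hx
  have hzero : ∀ n : ℕ, φ^[n] 0 = 0 := fun n => Function.iterate_fixed (map_zero φ) n
  have hadd : ∀ (n : ℕ) (x y : V), φ^[n] (x + y) = φ^[n] x + φ^[n] y := by
    intro n
    induction n with
    | zero => simp
    | succ n ih => intro x y; rw [Function.iterate_succ_apply, map_add, ih]; rfl
  have hspan : ∀ n : ℕ, Submodule.span k (Set.range φ^[n]) = ⊤ := by
    intro n
    induction n with
    | zero => simp
    | succ n ih =>
      rw [eq_top_iff, ← htop, Submodule.span_le]
      rintro _ ⟨x, rfl⟩
      have hx : x ∈ Submodule.span k (Set.range φ^[n]) := ih ▸ Submodule.mem_top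
      show φ x ∈ Submodule.span k (Set.range φ^[n + 1])
      induction hx using Submodule.span_induction with
      | mem y hy =>
        obtain ⟨z, rfl⟩ := hy
        exact Submodule.subset_span ⟨z, Function.iterate_succ_apply' φ n z⟩
      | zero => rw [map_zero]; exact Submodule.zero_mem _
      | add a b _ _ ha hb => rw [map_add]; exact Submodule.add_mem _ ha hb
      | smul c a _ ha => rw [map_smulₛₗ]; exact Submodule.smul_mem _ _ ha
  obtain ⟨s, hs⟩ := Module.Finite.fg_top (R := k) (M := V)
  choose N hN using hφ
  have hall : ∀ x : V, φ^[s.sup N] x = 0 := by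
    intro x
    have hx : x ∈ Submodule.span k (s : Set V) := hs ▸ Submodule.mem_top
    induction hx using Submodule.span_induction with
    | mem y hy =>
      obtain ⟨d, hd⟩ := Nat.exists_eq_add_of_le (Finset.le_sup hy : N y ≤ s.sup N)
      rw [hd, add_comm, Function.iterate_add_apply, hN, hzero]
    | zero => exact hzero _
    | add a b _ _ ha hb => rw [hadd, ha, hb, add_zero]
    | smul c a _ ha => exact hsmul _ c a ha
  have h0 := hspan (s.sup N)
  rw [show Set.range φ^[s.sup N] = {0} from Set.eq_singleton_iff_unique_mem.2
    ⟨⟨0, hzero _⟩, fun y ⟨x, hx⟩ => hx ▸ hall x⟩, Submodule.span_singleton_eq_bot.2 rfl] at h0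
  exact bot_ne_top h0

end Groth.Agent.S2967
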