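import Groth.Statements.S2968
import Groth.Agent.H66.UnipConv
import Mathlib.Algebra.CharP.Algebra
import Mathlib.LinearAlgebra.TensorProduct.Map
-- import your own Groth.Agent.* helpers here

set_option autoImplicit false
universe u
open SGA3t2b

namespace Groth.Agent.S2968

/-- In characteristic p, in Hopf-algebra form (with unipotent in the representation-theoretic sense
`HopfRep.IsUnipotent`): let k be a field of characteristic p > 0 and A a finite-type commutative
Hopf algebra over k (the coordinate Hopf algebra of an affine algebraic k-group) which is unipotent.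
Then the Lie algebra of the group is a unipotent p-Lie algebra: for every ε-derivation D : A -> k
there is n > 0 such that the iterated p-operation of D, computed here as the p^n-fold convolution
power of D (this is how the p-operation is rendered in this statement; its axioms are not proved
here), vanishes. -/
theorem result {k : Type u} [Field k] (p : ℕ) [Fact p.Prime] [CharP k p] {A : Type u} [CommRing A]
    [HopfAlgebra k A] [Algebra.FiniteType k A] (hU : HopfRep.IsUnipotent k A) (D : LieHopf.Lie k A) :
    ∃ n : ℕ, 0 < n ∧ LieHopf.convPow (D.toLinearMap.restrictScalars k ∘ₗ LinearMap.id) (p ^ n) = 0 := by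
  classical
  let φ : A →ₗ[k] k := D.toLinearMap.restrictScalars k ∘ₗ LinearMap.id
  have hφ1 : φ 1 = 0 := D.map_one_eq_zero
  have hφmul : ∀ a b : A, φ (a * b) =
      CoalgebraStruct.counit (R := k) a * φ b + CoalgebraStruct.counit (R := k) b * φ a :=
    fun a b => D.leibniz a b
  let L : A →ₗ[k] A := Lib.Comod.Basic.dact A φ
  have hrid : ∀ a : A,
      Lib.Comod.Basic.contract A (CoalgebraStruct.counit (R := k) (A := A)) (CoalgebraStruct.comul a) = a :=
    fun a => Lib.Comod.Basic.dact_counit_apply A a
  have hmix : ∀ x y : TensorProduct k A A, Lib.Comod.Basic.contract A φ (x * y) =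
      Lib.Comod.Basic.contract A φ x *
          Lib.Comod.Basic.contract A (CoalgebraStruct.counit (R := k) (A := A)) y +
        Lib.Comod.Basic.contract A (CoalgebraStruct.counit (R := k) (A := A)) x *
          Lib.Comod.Basic.contract A φ y := by
    intro x y
    induction x using TensorProduct.induction_on with
    | zero => simp
    | add u v hu hv => simp only [add_mul, map_add, hu, hv]; ring
    | tmul a b =>
      induction y using TensorProduct.induction_on with
      | zero => simp
      | add u v hu hv => simp only [mul_add, map_add, hu, hv]; ring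
      | tmul c d =>
        simp only [Algebra.TensorProduct.tmul_mul_tmul, Lib.Comod.Basic.contract_tmul, hφmul, add_smul,
          mul_smul_comm, smul_mul_assoc, smul_smul]
        rw [add_comm]
        congr 1
        rw [mul_comm]
  have hLeib : L ∘ₗ LinearMap.mul' k A = LinearMap.mul' k A ∘ₗ (L.rTensor A + L.lTensor A) := by
    refine TensorProduct.ext' fun a b => ?_
    simp only [LinearMap.comp_apply, LinearMap.add_apply, LinearMap.rTensor_tmul, LinearMap.lTensor_tmul,
      map_add, LinearMap.mul'_apply]
    show Lib.Comod.Basic.contract A φ (CoalgebraStruct.comul (a * b)) = _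
    rw [Bialgebra.comul_mul, hmix, hrid, hrid]
    rfl
  have hiter : ∀ m : ℕ, (L ^ m) ∘ₗ LinearMap.mul' k A =
      LinearMap.mul' k A ∘ₗ ((L.rTensor A + L.lTensor A) ^ m) := by
    intro m
    induction m with
    | zero => simp [Module.End.one_eq_id]
    | succ m ih =>
      rw [pow_succ, pow_succ, Module.End.mul_eq_comp, Module.End.mul_eq_comp, LinearMap.comp_assoc,
        hLeib, ← LinearMap.comp_assoc, ih, LinearMap.comp_assoc]
  haveI : Nontrivial A := ⟨⟨1, 0, fun h => one_ne_zero (α := k) (by
    rw [← Bialgebra.counit_one (R := k) (A := A), h, map_zero])⟩⟩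
  have hinj : Function.Injective (algebraMap k (Module.End k (TensorProduct k A A))) := by
    intro c c' h
    have h1 := congrArg (fun f : Module.End k (TensorProduct k A A) =>
      LinearMap.mul' k k (TensorProduct.map (CoalgebraStruct.counit (R := k) (A := A))
        (CoalgebraStruct.counit (R := k) (A := A)) (f ((1 : A) ⊗ₜ[k] (1 : A))))) h
    simpa [Module.algebraMap_end_apply] using h1
  haveI := charP_of_injective_algebraMap hinj p
  have hder : ∀ (n : ℕ) (a b : A), (L ^ p ^ n) (a * b) =
      (L ^ p ^ n) a * b + a * (L ^ p ^ n) b := by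
    intro n a b
    have hc : Commute (L.rTensor A : Module.End k (TensorProduct k A A)) (L.lTensor A) := by
      refine TensorProduct.ext' fun x y => ?_
      simp [Module.End.mul_apply]
    have h := LinearMap.congr_fun (hiter (p ^ n)) (a ⊗ₜ[k] b)
    rw [add_pow_char_pow_of_commute p n hc] at h
    simpa [LinearMap.rTensor_pow, LinearMap.lTensor_pow] using h
  have hnil : ∀ (n : ℕ) (a : A), a ∈ H66.Unip.fil k A A n → (L ^ n) a = 0 := by
    intro n
    induction n with
    | zero =>
      intro a ha
      rw [H66.Unip.fil_zero, Submodule.mem_bot] at ha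
      simp [ha]
    | succ n ih =>
      intro a ha
      rw [pow_succ, Module.End.mul_apply]
      exact ih _ (H66.UnipConv.dact_mem_fil (H66.UnipConv.inL_one_iff.2 hφ1) n ha)
  obtain ⟨t, ht⟩ := (Algebra.FiniteType.out : (⊤ : Subalgebra k A).FG)
  have hmem := fun a : A => H66.Unip.mem_fil_exists hU a
  choose N hN using hmem
  obtain ⟨n, hn0, hn⟩ : ∃ n, 0 < n ∧ t.sup N ≤ p ^ n :=
    ⟨t.sup N + 1, Nat.succ_pos _, (Nat.le_succ _).trans (Nat.lt_pow_self (Fact.out : p.Prime).one_lt).le⟩
  have hzero : ∀ a : A, (L ^ p ^ n) a = 0 := by
    intro a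
    have ha : a ∈ Algebra.adjoin k (t : Set A) := ht ▸ Algebra.mem_top
    induction ha using Algebra.adjoin_induction with
    | mem x hx => exact hnil _ x (H66.Unip.fil_mono ((Finset.le_sup hx).trans hn) (hN x))
    | algebraMap c =>
      have h1 : (L ^ p ^ n) 1 = 0 := by
        have h := hder n 1 1
        simpa using h
      rw [Algebra.algebraMap_eq_smul_one, map_smul, h1, smul_zero]
    | add x y _ _ hx hy => rw [map_add, hx, hy, add_zero]
    | mul x y _ _ hx hy => rw [hder, hx, hy, zero_mul, mul_zero, add_zero]
  have hpow : ∀ (m : ℕ) (a : A), LieHopf.convPow φ m a = CoalgebraStruct.counit ((L ^ m) a) := by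
    intro m
    induction m with
    | zero => intro a; rfl
    | succ m ih =>
      intro a
      refine (H66.UnipConv.conv_apply_dact (LieHopf.convPow φ m) φ a).trans ?_
      rw [ih, pow_succ, Module.End.mul_apply]
  refine ⟨n, hn0, LinearMap.ext fun a => ?_⟩
  rw [hpow, hzero, map_zero]
  rfl

end Groth.Agent.S2968
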