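import Groth.Statements.S2970
import Mathlib
import Groth.Agent.H83.MultType.Lift

set_option autoImplicit false
universe u
open TensorProduct SGA3b
open SGA3b

namespace Groth.Agent.S2970

set_option synthInstance.maxHeartbeats 200000 in
set_option maxHeartbeats 1600000 in
/-- Let R be a ring, I an ideal consisting of nilpotent elements, and H = Spec A an R-group of
multiplicative type. If the base change of H to R/I is diagonalisable, then H is diagonalisable.
(Affine group schemes over an affine base are taken in Hopf-algebra form; base change is the tensor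
product.) -/
theorem result (R : Type u) [CommRing R] (A : Type u) [CommRing A] [HopfAlgebra R A] (I : Ideal R) (hI : ∀ x ∈ I, IsNilpotent x)
    (h : IsMultType R A) (h0 : IsDiag (R ⧸ I) ((R ⧸ I) ⊗[R] A)) : IsDiag R A := by
  classical
  obtain ⟨M, _, ⟨e₀⟩⟩ := h0
  let ρ : A →ₗ[R] (R ⧸ I) ⊗[R] A := TensorProduct.mk R (R ⧸ I) A 1
  have hρ : ∀ a : A, ρ a = 0 ↔ a ∈ I • (⊤ : Submodule R A) := fun a => by
    rw [← (TensorProduct.quotTensorEquivQuotSMul A I).map_eq_zero_iff, show ρ a = Ideal.Quotient.mk I 1 ⊗ₜ[R] a by simp [ρ],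
      TensorProduct.quotTensorEquivQuotSMul_mk_tmul, one_smul, Submodule.Quotient.mk_eq_zero]
  have hρsurj : ∀ w : (R ⧸ I) ⊗[R] A, ∃ a, ρ a = w := fun w =>
    TensorProduct.mk_surjective R A (R ⧸ I) Ideal.Quotient.mk_surjective w
  have hex : ∀ m : M, ∃ g : A, IsGroupLikeElem R g ∧ e₀ (ρ g) = MonoidAlgebra.single m 1 := by
    intro m
    obtain ⟨x, hx⟩ := hρsurj (e₀.symm (MonoidAlgebra.single m 1))
    have hm : IsGroupLikeElem (R ⧸ I) (MonoidAlgebra.single m (1 : R ⧸ I)) := ⟨by simp, by simp⟩
    have hgl : IsGroupLikeElem (R ⧸ I) (ρ x) := by rw [hx]; exact hm.map e₀.symm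
    have hc : CoalgebraStruct.counit (R := R) x - 1 ∈ I := by
      have h1 := hgl.counit_eq_one
      rw [TensorProduct.mk_apply, TensorProduct.counit_tmul, Bialgebra.counit_one, Algebra.smul_def, mul_one,
        Ideal.Quotient.algebraMap_eq, ← map_one (Ideal.Quotient.mk I), Ideal.Quotient.eq] at h1
      exact h1
    have hd : H83.MultType.glDefect (R := R) x ∈ I • (⊤ : Submodule R (A ⊗[R] A)) := by
      rw [← Submodule.Quotient.mk_eq_zero, ← (TensorProduct.quotTensorEquivQuotSMul (A ⊗[R] A) I).symm.map_eq_zero_iff,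
        TensorProduct.quotTensorEquivQuotSMul_symm_mk]
      let θ : ((R ⧸ I) ⊗[R] A) ⊗[R ⧸ I] ((R ⧸ I) ⊗[R] A) →ₗ[R ⧸ I] (R ⧸ I) ⊗[R] (A ⊗[R] A) :=
        (TensorProduct.AlgebraTensorModule.assoc R R (R ⧸ I) (R ⧸ I) A A).toLinearMap ∘ₗ
          (TensorProduct.AlgebraTensorModule.cancelBaseChange R (R ⧸ I) (R ⧸ I) ((R ⧸ I) ⊗[R] A) A).toLinearMap
      have h1 := congrArg θ hgl.comul_eq_tmul_self
      have h2 : θ (ρ x ⊗ₜ[R ⧸ I] ρ x) = (1 : R ⧸ I) ⊗ₜ[R] (x ⊗ₜ[R] x) := by simp [θ, ρ]
      have h3 : θ (CoalgebraStruct.comul (R := R ⧸ I) (ρ x)) = (1 : R ⧸ I) ⊗ₜ[R] CoalgebraStruct.comul (R := R) x := by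
        simp only [ρ, TensorProduct.mk_apply]
        rw [TensorProduct.comul_tmul, Bialgebra.comul_one]
        generalize CoalgebraStruct.comul (R := R) x = z
        induction z using TensorProduct.induction_on with
        | zero => simp
        | tmul a b => simp [θ, Algebra.TensorProduct.one_def, TensorProduct.smul_tmul']
        | add a b ha hb => simp only [TensorProduct.tmul_add, map_add, ha, hb]
      rw [h2, h3] at h1
      rw [H83.MultType.glDefect, TensorProduct.tmul_sub, h1, sub_self]
    obtain ⟨g, hg, hgx⟩ := H83.MultType.exists_groupLike h I hI hd hc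
    refine ⟨g, hg, ?_⟩
    have h1 : ρ g = ρ x := by rw [← sub_eq_zero, ← map_sub, hρ]; exact hgx
    rw [h1, hx]; exact e₀.apply_symm_apply _
  choose g hg hgm using hex
  have huniq : ∀ (a b : A), IsGroupLikeElem R a → IsGroupLikeElem R b → e₀ (ρ a) = e₀ (ρ b) → a = b := fun a b ha hb hab =>
    H83.MultType.groupLike_eq_of_sub_mem h I hI ha hb (by rw [← hρ, map_sub, EquivLike.injective e₀ hab, sub_self])
  have hρmul : ∀ a b : A, ρ (a * b) = ρ a * ρ b := fun a b => by simp [ρ]
  have hg1 : g 1 = 1 := huniq _ _ (hg 1) .one (by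
    rw [hgm, show ρ (1 : A) = 1 from rfl, map_one, MonoidAlgebra.one_def])
  let gh : M →* A :=
    { toFun := g
      map_one' := hg1
      map_mul' := fun m n => huniq _ _ (hg _) ((hg m).mul (hg n)) (by
        rw [hρmul, map_mul, hgm, hgm, hgm, MonoidAlgebra.single_mul_single, one_mul]) }
  let ψa : MonoidAlgebra R M →ₐ[R] A := MonoidAlgebra.lift R A M gh
  let ψ : MonoidAlgebra R M →ₐc[R] A := BialgHom.ofAlgHom ψa
    (by
      ext m
      simp [ψa, gh, (hg m).counit_eq_one])
    (by
      ext m
      simp [ψa, gh, (hg m).comul_eq_tmul_self])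
  obtain ⟨s, hs, ht⟩ := H83.MultType.exists_trivialisations h
  have hψsingle : ∀ (m : M) (r : R), ψ (MonoidAlgebra.single m r) = r • g m := fun m r => by
    show ψa _ = _; simp [ψa, gh]
  have hψρ : ∀ a : A, ∃ x, a - ψ x ∈ I • (⊤ : Submodule R A) := by
    intro a
    suffices ∀ w : MonoidAlgebra (R ⧸ I) M, ∃ x, e₀ (ρ (ψ x)) = w by
      obtain ⟨x, hx⟩ := this (e₀ (ρ a))
      exact ⟨x, by rw [← hρ, map_sub, EquivLike.injective e₀ hx, sub_self]⟩
    intro w
    induction w using MonoidAlgebra.induction_linear with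
    | zero => exact ⟨0, by simp⟩
    | add a b ha hb =>
      obtain ⟨x, hx⟩ := ha; obtain ⟨y, hy⟩ := hb
      exact ⟨x + y, by rw [map_add, map_add, map_add, hx, hy]⟩
    | single m r =>
      obtain ⟨r, rfl⟩ := Ideal.Quotient.mk_surjective r
      refine ⟨MonoidAlgebra.single m r, ?_⟩
      rw [hψsingle, map_smul, ← Ideal.Quotient.algebraMap_eq, ← algebraMap_smul (R ⧸ I) r (ρ (g m)), map_smul, hgm,
        MonoidAlgebra.smul_single, smul_eq_mul, mul_one]
  have hnil : ∀ (S : Type u) [CommRing S] [Algebra R S], ∀ r ∈ I.map (algebraMap R S), IsNilpotent r := fun S _ _ r hr =>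
    mem_nilradical.mp ((Ideal.map_le_iff_le_comap.mpr fun a ha => mem_nilradical.mpr ((hI a ha).map _) :
      I.map (algebraMap R S) ≤ nilradical S) hr)
  have hcoef : ∀ (m : M), m ≠ 1 → ∀ (S : Type u) [CommRing S] [Algebra R S] (P : Type u) [CommGroup P]
      (e : (S ⊗[R] A) ≃ₐc[S] MonoidAlgebra S P), Module.Flat R S →
      H83.MultType.coeffAt S 1 (e ((1 : S) ⊗ₜ[R] g m)) = 0 := by
    intro m hm S _ _ P _ e hflat
    haveI := hflat
    have hG := (H83.MultType.groupLike_baseChange S (hg m)).map e
    have hi := H83.MultType.groupLike_coeff_mul hG (1 : P) 1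
    rw [if_pos rfl] at hi
    set a := H83.MultType.coeffAt S 1 (e ((1 : S) ⊗ₜ[R] g m))
    have h0 := H83.MultType.groupLike_smul_coeff_one hG
    have ha : a ⊗ₜ[R] (g m - 1) = 0 := by
      apply EquivLike.injective e
      rw [show a ⊗ₜ[R] (g m - 1) = a • ((1 : S) ⊗ₜ[R] g m - 1) by
        rw [Algebra.TensorProduct.one_def, ← TensorProduct.tmul_sub, TensorProduct.smul_tmul', smul_eq_mul, mul_one],
        map_smul, map_sub, map_one, map_zero]
      exact h0
    have hmem := H83.MultType.mem_map_ker_of_tmul_eq_zero S ha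
    have hle : LinearMap.ker (LinearMap.toSpanSingleton R A (g m - 1)) ≤ I := by
      intro r hr
      have h1 : r • (g m - 1) = 0 := hr
      have h2 := congrArg (fun b => e₀ (ρ b)) h1
      simp only [map_smul, map_sub, map_zero] at h2
      rw [← algebraMap_smul (R ⧸ I) r, map_smul, map_sub, hgm,
        show ρ (1 : A) = 1 from rfl, map_one, MonoidAlgebra.one_def, smul_sub] at h2
      have h3 := congrArg (H83.MultType.coeffAt (R ⧸ I) m) h2
      rw [map_sub, map_smul, map_smul, H83.MultType.coeffAt_single, H83.MultType.coeffAt_single, if_pos rfl,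
        if_neg (Ne.symm hm), map_zero, smul_eq_mul, mul_one, smul_zero, sub_zero] at h3
      exact Ideal.Quotient.eq_zero_iff_mem.mp h3
    refine eq_of_isNilpotent_sub_of_isIdempotentElem hi IsIdempotentElem.zero ?_
    rw [sub_zero]
    exact hnil S a (Ideal.map_mono hle hmem)
  have hinj : Function.Injective ψ := by
    rw [injective_iff_map_eq_zero]
    intro x hx
    apply (MonoidAlgebra.coeffLinearEquiv R).injective
    rw [map_zero]
    ext q
    show x.coeff q = 0
    refine H83.MultType.eq_zero_of_forall_pow_smul hs (fun f hf => ?_)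
    obtain ⟨S, _, _, P, _, hflat, ⟨e⟩, hdet⟩ := ht f hf
    have h1 : e ((1 : S) ⊗ₜ[R] (ψ x * g q⁻¹)) = 0 := by rw [hx, zero_mul, TensorProduct.tmul_zero, map_zero]
    have h2 : ψ x * g q⁻¹ = x.coeff.sum fun p r => r • g (p * q⁻¹) := by
      show ψa x * gh q⁻¹ = _
      rw [MonoidAlgebra.lift_apply, Finsupp.sum_mul]
      simp only [smul_mul_assoc, ← map_mul]
      rfl
    rw [h2, Finsupp.sum, TensorProduct.tmul_sum, map_sum] at h1
    have h3 := congrArg (H83.MultType.coeffAt S 1) h1
    rw [map_zero, map_sum, Finset.sum_eq_single q] at h3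
    · rw [mul_inv_cancel, hg1, TensorProduct.tmul_smul, ← algebraMap_smul S (x.coeff q), map_smul, map_smul,
        ← Algebra.TensorProduct.one_def, map_one, MonoidAlgebra.one_def, H83.MultType.coeffAt_single, if_pos rfl,
        smul_eq_mul, mul_one] at h3
      refine hdet R _ ?_
      apply (TensorProduct.rid R S).injective
      rw [TensorProduct.rid_tmul, map_zero, ← h3, Algebra.smul_def, mul_one]
    · intro p _ hp
      rw [TensorProduct.tmul_smul, ← algebraMap_smul S (x.coeff p), map_smul, map_smul,
        hcoef _ (fun h4 => hp (mul_inv_eq_one.mp h4)) S P e hflat, smul_zero]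
    · intro hq
      rw [Finsupp.notMem_support_iff.mp hq, zero_smul, TensorProduct.tmul_zero, map_zero, map_zero]
  have hsurj : Function.Surjective ψ := by
    intro a
    suffices ha : a ∈ LinearMap.range (ψ : MonoidAlgebra R M →ₗ[R] A) from ha
    rw [← Submodule.Quotient.mk_eq_zero]
    set W := LinearMap.range (ψ : MonoidAlgebra R M →ₗ[R] A)
    refine H83.MultType.eq_zero_of_forall_pow_smul hs fun f hf => ?_
    obtain ⟨S, _, _, P, _, hflat, ⟨e⟩, hdet⟩ := ht f hf
    refine hdet _ _ ?_
    let el : (S ⊗[R] A) →ₗ[S] MonoidAlgebra S P := (e : (S ⊗[R] A) →ₐc[S] MonoidAlgebra S P)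
    let ei : MonoidAlgebra S P →ₗ[S] (S ⊗[R] A) := (e.symm : MonoidAlgebra S P →ₐc[S] (S ⊗[R] A))
    let κ : MonoidAlgebra S P →ₗ[S] S ⊗[R] (A ⧸ W) := W.mkQ.baseChange S ∘ₗ ei
    have hκψ : ∀ x, κ (el ((1 : S) ⊗ₜ[R] ψ x)) = 0 := fun x => by
      have h1 : ei (el ((1 : S) ⊗ₜ[R] ψ x)) = (1 : S) ⊗ₜ[R] ψ x := e.symm_apply_apply _
      simp only [κ, LinearMap.comp_apply, h1, LinearMap.baseChange_tmul, Submodule.mkQ_apply]
      rw [show (Submodule.Quotient.mk (ψ x) : A ⧸ W) = 0 from (Submodule.Quotient.mk_eq_zero W).mpr ⟨x, rfl⟩, TensorProduct.tmul_zero]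
    let J := I.map (algebraMap R S)
    let T : Submodule S (MonoidAlgebra S P) := Submodule.span S (Set.range fun m : M => el ((1 : S) ⊗ₜ[R] g m))
    have hspan : ∀ w : MonoidAlgebra S P, w ∈ T ⊔ J • (⊤ : Submodule S (MonoidAlgebra S P)) := by
      intro w
      rw [show w = el (ei w) from (e.apply_symm_apply w).symm]
      generalize ei w = z
      induction z using TensorProduct.induction_on with
      | zero => rw [map_zero]; exact zero_mem _
      | add z z' hz hz' => rw [map_add]; exact add_mem hz hz'
      | tmul t b =>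
        rw [show t ⊗ₜ[R] b = t • ((1 : S) ⊗ₜ[R] b) by rw [TensorProduct.smul_tmul', smul_eq_mul, mul_one], map_smul]
        refine Submodule.smul_mem _ t ?_
        obtain ⟨x, hx⟩ := hψρ b
        rw [show (1 : S) ⊗ₜ[R] b = (1 : S) ⊗ₜ[R] ψ x + (1 : S) ⊗ₜ[R] (b - ψ x) by
          rw [← TensorProduct.tmul_add, add_sub_cancel], map_add]
        refine add_mem (Submodule.mem_sup_left ?_) (Submodule.mem_sup_right ?_)
        · clear hx
          induction x using MonoidAlgebra.induction_linear with
          | zero => simp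
          | add a b ha hb => rw [map_add, TensorProduct.tmul_add, map_add]; exact add_mem ha hb
          | single m r =>
            rw [hψsingle, TensorProduct.tmul_smul, ← algebraMap_smul S r, map_smul]
            exact Submodule.smul_mem _ _ (Submodule.subset_span ⟨m, rfl⟩)
        · exact H83.MultType.map_mem_of_mem_smul el (H83.MultType.map_mem_smul (S := S) (TensorProduct.mk R S A 1) I hx)
    have hκ : κ = 0 := by
      have hsingle : ∀ (p : P) (r : S), MonoidAlgebra.single p r = r • MonoidAlgebra.single p (1 : S) := fun p r => by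
        rw [MonoidAlgebra.smul_single, smul_eq_mul, mul_one]
      have key : ∀ p : P, κ (MonoidAlgebra.single p (1 : S)) = 0 := by
        intro p
        set v := κ (MonoidAlgebra.single p (1 : S))
        let K : Ideal S := LinearMap.ker (LinearMap.toSpanSingleton S _ v)
        have hT : ∀ w ∈ T, H83.MultType.coeffAt S p w ∈ K := by
          intro w hw
          induction hw using Submodule.span_induction with
          | zero => rw [map_zero]; exact zero_mem _
          | add a b _ _ ha hb => rw [map_add]; exact add_mem ha hb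
          | smul t a _ ha => rw [map_smul, smul_eq_mul]; exact Ideal.mul_mem_left _ _ ha
          | mem w hw =>
            obtain ⟨m, rfl⟩ := hw
            set G := el ((1 : S) ⊗ₜ[R] g m)
            have hG : IsGroupLikeElem S G := (H83.MultType.groupLike_baseChange S (hg m)).map e
            have hGp : H83.MultType.coeffAt S p G • MonoidAlgebra.single p (1 : S) = H83.MultType.coeffAt S p G • G := by
              apply (MonoidAlgebra.coeffLinearEquiv S).injective
              ext q
              show H83.MultType.coeffAt S q (H83.MultType.coeffAt S p G • MonoidAlgebra.single p (1 : S)) =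
                H83.MultType.coeffAt S q (H83.MultType.coeffAt S p G • G)
              rw [map_smul, map_smul, H83.MultType.coeffAt_single, smul_eq_mul, smul_eq_mul,
                H83.MultType.groupLike_coeff_mul hG]
              split_ifs <;> simp
            show H83.MultType.coeffAt S p G • v = 0
            rw [← map_smul, hGp, map_smul]
            have h5 := hκψ (MonoidAlgebra.single m 1)
            rw [hψsingle, one_smul] at h5
            rw [h5, smul_zero]
        obtain ⟨t, htT, j, hj, hsum⟩ := Submodule.mem_sup.mp (hspan (MonoidAlgebra.single p (1 : S)))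
        have h1 : H83.MultType.coeffAt S p t + H83.MultType.coeffAt S p j = 1 := by
          rw [← map_add, hsum, H83.MultType.coeffAt_single, if_pos rfl]
        have hjn := hnil S _ (H83.MultType.coeffAt_mem_of_mem_smul hj p)
        have hu : IsUnit (H83.MultType.coeffAt S p t) := by
          have := hjn.isUnit_one_sub
          rwa [← eq_sub_of_add_eq h1] at this
        have h2 : H83.MultType.coeffAt S p t • v = 0 := hT t htT
        exact hu.smul_eq_zero.mp h2
      apply LinearMap.ext
      intro w
      induction w using MonoidAlgebra.induction_linear with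
      | zero => simp
      | add a b ha hb => rw [map_add, ha, hb, map_add]
      | single p r => rw [hsingle, map_smul, key, smul_zero, LinearMap.zero_apply]
    have h6 := LinearMap.congr_fun hκ (el ((1 : S) ⊗ₜ[R] a))
    have h7 : ei (el ((1 : S) ⊗ₜ[R] a)) = (1 : S) ⊗ₜ[R] a := e.symm_apply_apply _
    simp only [κ, LinearMap.comp_apply, h7, LinearMap.baseChange_tmul, Submodule.mkQ_apply, LinearMap.zero_apply] at h6
    exact h6
  exact ⟨M, inferInstance, ⟨(BialgEquiv.ofBijective ψ ⟨hinj, hsurj⟩).symm⟩⟩

end Groth.Agent.S2970
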