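import Groth.Statements.S2971
import Mathlib
import Groth.Agent.H83.MultType.BaseChange
import Groth.Agent.S2970
import Groth.Agent.H83.MultType.EtaleLift

set_option autoImplicit false
universe u
open TensorProduct SGA3b
open SGA3b

namespace Groth.Agent.S2971

/-- Let R be a ring, I an ideal consisting of nilpotent elements and H = Spec A an R-group of
multiplicative type. If the base change of H to R/I is isotrivial (resp. quasi-isotrivial), so is H.
(Affine group schemes over an affine base are taken in Hopf-algebra form; base change is the tensor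
product.) -/
theorem result (R : Type u) [CommRing R] (A : Type u) [CommRing A] [HopfAlgebra R A] (I : Ideal R) (hI : ∀ x ∈ I, IsNilpotent x) (h : IsMultType R A) :
    (IsIsotrivial (R ⧸ I) ((R ⧸ I) ⊗[R] A) → IsIsotrivial R A) ∧
    (IsQuasiIsotrivial (R ⧸ I) ((R ⧸ I) ⊗[R] A) → IsQuasiIsotrivial R A) := by
  have hdiag : ∀ (L : Type u) [CommRing L] [Algebra R L] [Module.Flat R L],
      IsDiag (L ⧸ I.map (algebraMap R L)) ((L ⧸ I.map (algebraMap R L)) ⊗[L] (L ⊗[R] A)) → IsDiag L (L ⊗[R] A) :=
    fun L _ _ _ hd => Groth.Agent.S2970.result L (L ⊗[R] A) (I.map (algebraMap R L))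
      (H83.MultType.isNilpotent_of_mem_map hI L) (H83.MultType.isMultType_baseChange L h) hd
  refine ⟨fun h0 => H83.MultType.exists_isotrivial_lift hI h0 hdiag, ?_⟩
  rintro ⟨s, hs, hsf⟩
  exact ⟨Ideal.Quotient.mk I ⁻¹' s, H83.MultType.span_preimage_eq_top hI hs,
    fun f hf => H83.MultType.exists_quasi_lift hI f (hsf _ hf) hdiag⟩

end Groth.Agent.S2971
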