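import Groth.Statements.S2978
import Mathlib

set_option autoImplicit false
universe u
open SGA3b

namespace Groth.Agent.S2978

/-- Let A be a Noetherian ring, M a set and a : M × M → A a family vanishing off the diagonal which is a
finite sum of decomposable families: a(m, m') = Σ_i b_i(m) c_i(m') for finitely many b_i, c_i : M →
A. Then a has finite support. -/
theorem result (A : Type u) [CommRing A] [IsNoetherianRing A] (M : Type u)
    (a : M × M → A) (hdiag : ∀ m m', m ≠ m' → a (m, m') = 0)
    (ι : Type u) [Fintype ι] (b c : ι → M → A) (hdec : ∀ m m', a (m, m') = ∑ i, b i m * c i m') :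
    Set.Finite {p : M × M | a p ≠ 0} := by
  classical
  let V : Submodule A (ι → A) := Submodule.span A (Set.range fun m' => fun i => c i m')
  obtain ⟨S, hS⟩ := (Submodule.fg_span_iff_fg_span_finset_subset _).1 (IsNoetherian.noetherian V)
  refine (((S.image (fun v => if h : ∃ m', (fun i => c i m') = v then some h.choose else none)).biUnion
    (fun o => o.toFinset)).image fun m => (m, m)).finite_toSet.subset ?_
  intro p hp
  have hpp : p.1 = p.2 := by by_contra h; exact hp (hdiag p.1 p.2 h)
  obtain ⟨m, m'⟩ := p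
  obtain rfl : m = m' := hpp
  simp only [Finset.coe_image, Set.mem_image, Finset.mem_coe, Finset.mem_biUnion, Finset.mem_image,
    Option.mem_toFinset]
  refine ⟨m, ?_, rfl⟩
  by_contra hm
  apply hp
  show a (m, m) = 0
  rw [hdec]
  let L : (ι → A) →ₗ[A] A := ∑ i, b i m • LinearMap.proj i
  have hL : ∀ v : ι → A, L v = ∑ i, b i m * v i := by intro v; simp [L]
  rw [← hL (fun i => c i m)]
  have hmem : (fun i => c i m) ∈ Submodule.span A (S : Set (ι → A)) := hS.2 ▸ Submodule.subset_span ⟨m, rfl⟩
  refine (Submodule.span_le (p := LinearMap.ker L)).2 (fun v hv => ?_) hmem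
  obtain ⟨m'', hm''⟩ := hS.1 hv
  have hne : ∃ m', (fun i => c i m') = v := ⟨m'', hm''⟩
  have hc := hne.choose_spec
  show L v = 0
  rw [← hc, hL, ← hdec]
  refine hdiag _ _ fun heq => hm ⟨_, ⟨v, hv, rfl⟩, ?_⟩
  rw [dif_pos hne, Option.mem_def, heq]

end Groth.Agent.S2978
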