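import Groth.Statements.S2983
import Mathlib
import Groth.Agent.H83.MultType.GroupLike

set_option autoImplicit false
universe u
open TensorProduct SGA3b
open SGA3b

namespace Groth.Agent.S2983

/-- Let R be a ring with connected spectrum (no idempotents other than 0 and 1), G = Spec A a
diagonalisable R-group of finite type, and H = Spec (A/J) a closed subgroup (J a Hopf ideal) which
is of multiplicative type. Then H is diagonalisable. (Affine group schemes over an affine base are
taken in Hopf-algebra form; base change is the tensor product.) -/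
theorem result (R : Type u) [CommRing R] (A : Type u) [CommRing A] [HopfAlgebra R A] [Nontrivial R] (hconn : ∀ e : R, IsIdempotentElem e → e = 0 ∨ e = 1)
    (hG : IsDiagFT R A) (J : Ideal A) [J.IsHopfIdeal R] (hH : IsMultType R (A ⧸ J)) : IsDiag R (A ⧸ J) := by
  classical
  obtain ⟨M, _, _, ⟨e⟩⟩ := hG
  let π : MonoidAlgebra R M →ₐc[R] A ⧸ J :=
    (Bialgebra.Quotient.mkBialgHom (R := R) J).comp (e.symm : MonoidAlgebra R M →ₐc[R] A)
  have hπs : Function.Surjective π := fun b => by
    obtain ⟨a, rfl⟩ := Ideal.Quotient.mk_surjective b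
    exact ⟨e a, congrArg (Ideal.Quotient.mk J) (e.symm_apply_apply a)⟩
  let g : M →* A ⧸ J := (π : MonoidAlgebra R M →ₐ[R] A ⧸ J).toMonoidHom.comp (MonoidAlgebra.of R M)
  let h : (M ⧸ MonoidHom.ker g) →* A ⧸ J := QuotientGroup.lift (MonoidHom.ker g) g le_rfl
  have hh : ∀ m : M, h (QuotientGroup.mk m) = g m := fun m => rfl
  have hgl : ∀ q : M ⧸ MonoidHom.ker g, IsGroupLikeElem R (h q) := by
    intro q
    induction q using QuotientGroup.induction_on with
    | H m =>
      rw [hh]
      refine IsGroupLikeElem.map π ⟨?_, ?_⟩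
      · simp [MonoidAlgebra.of_apply]
      · simp [MonoidAlgebra.of_apply]
  have hinj : ∀ q : M ⧸ MonoidHom.ker g, h q = 1 → q = 1 := by
    intro q
    induction q using QuotientGroup.induction_on with
    | H m => exact fun hm => (QuotientGroup.eq_one_iff m).mpr hm
  let ψa : MonoidAlgebra R (M ⧸ MonoidHom.ker g) →ₐ[R] A ⧸ J := MonoidAlgebra.lift R (A ⧸ J) _ h
  let ψ : MonoidAlgebra R (M ⧸ MonoidHom.ker g) →ₐc[R] A ⧸ J := BialgHom.ofAlgHom ψa
    (by
      ext q
      simp [ψa, (hgl q).counit_eq_one])
    (by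
      ext q
      simp [ψa, (hgl q).comul_eq_tmul_self])
  have hψs : Function.Surjective ψ := fun b => by
    obtain ⟨x, rfl⟩ := hπs b
    refine ⟨MonoidAlgebra.mapDomainAlgHom R R (QuotientGroup.mk' (MonoidHom.ker g)) x, ?_⟩
    show ψa _ = (π : MonoidAlgebra R M →ₐ[R] A ⧸ J) x
    rw [← AlgHom.comp_apply]
    congr 1
    ext m
    simp [ψa]
    first | rfl | exact hh m
  obtain ⟨s, hs, hC⟩ := H83.MultType.exists_charts hH
  let C := fun f hf => (hC f hf).some
  have hψi : Function.Injective ψ := by
    rw [injective_iff_map_eq_zero]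
    intro x hx
    apply (MonoidAlgebra.coeffLinearEquiv R).injective
    rw [map_zero]
    ext q
    show x.coeff q = 0
    refine H83.MultType.eq_zero_of_forall_pow_smul hs (fun f hf => ?_)
    have h0 : algebraMap R (C f hf).S (x.coeff q) = 0 := by
      have h1 : (C f hf).j (ψ x * h q⁻¹) = 0 := by rw [hx, zero_mul, map_zero]
      have h2 : ψ x * h q⁻¹ = x.coeff.sum fun p r => r • h (p * q⁻¹) := by
        show ψa x * h q⁻¹ = _
        rw [MonoidAlgebra.lift_apply, Finsupp.sum_mul]
        simp only [smul_mul_assoc, ← map_mul]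
      rw [h2, map_finsuppSum] at h1
      have h3 := congrArg (H83.MultType.coeffAt (C f hf).S 1) h1
      rw [map_zero, map_finsuppSum, Finsupp.sum_eq_single q] at h3
      · rw [(C f hf).j_smul, map_smul, mul_inv_cancel, map_one, map_one, MonoidAlgebra.one_def,
          H83.MultType.coeffAt_single, if_pos rfl, smul_eq_mul, mul_one] at h3
        exact h3
      · intro p _ hp
        rw [(C f hf).j_smul, map_smul, H83.MultType.coeff_one_eq_zero hconn hs C (hgl _)
          (fun h4 => hp (mul_inv_eq_one.mp (hinj _ h4))) f hf, smul_zero]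
      · intro _
        rw [zero_smul, map_zero, map_zero]
    obtain ⟨n, hn⟩ := (C f hf).mem_of_mem_map ⊥ (x.coeff q) (by rw [h0]; exact zero_mem _)
    exact ⟨n, by simpa using hn⟩
  exact ⟨M ⧸ MonoidHom.ker g, inferInstance, ⟨(BialgEquiv.ofBijective ψ ⟨hψi, hψs⟩).symm⟩⟩

end Groth.Agent.S2983
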