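import Groth.Statements.S2984
import Mathlib
import Groth.Agent.H83.MultType.Finite

set_option autoImplicit false
universe u
open TensorProduct SGA3b
open SGA3b

namespace Groth.Agent.S2984

/-- Let R be a ring and G = Spec A an R-group scheme of multiplicative type and of finite type, with A a
Hopf algebra over R. Then A is finite over R if and only if the n-th power map of G is trivial for
some n > 0 (the kernel ₙG is all of G). (Affine group schemes over an affine base are taken in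
Hopf-algebra form; base change is the tensor product.) -/
theorem result (R : Type u) [CommRing R] (A : Type u) [CommRing A] [HopfAlgebra R A] (hft : Algebra.FiniteType R A) (h : IsMultType R A) :
    Module.Finite R A ↔ ∃ n : ℕ, 0 < n ∧ torsionIdeal R A n = ⊥ := by
  classical
  constructor
  · intro hfin
    obtain ⟨s₀, hs₀, ht⟩ := H83.MultType.exists_trivialisations h
    obtain ⟨s, hsub, hs⟩ := (Ideal.span_eq_top_iff_finite s₀).mp hs₀
    choose S iR iA P iP hflat he hdet using fun f : s => ht f.1 (hsub f.2)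
    let c : s → ℕ := fun f => if Nat.card (P f) = 0 then 1 else Nat.card (P f)
    refine ⟨∏ f : s, c f, Finset.prod_pos fun f _ => by simp only [c]; split_ifs <;> omega, ?_⟩
    rw [torsionIdeal, Ideal.map_eq_bot_iff_le_ker]
    intro b hb
    rw [RingHom.mem_ker]
    refine H83.MultType.eq_zero_of_forall_pow_smul hs fun f hf => ?_
    letI := iR ⟨f, hf⟩; letI := iA ⟨f, hf⟩; letI := iP ⟨f, hf⟩
    obtain ⟨e⟩ := he ⟨f, hf⟩
    refine hdet ⟨f, hf⟩ _ _ ?_
    rcases subsingleton_or_nontrivial (S ⟨f, hf⟩) with hS | hS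
    · haveI := Module.subsingleton (S ⟨f, hf⟩) (S ⟨f, hf⟩ ⊗[R] A)
      exact Subsingleton.elim _ _
    apply EquivLike.injective e
    have hb0 : CoalgebraStruct.counit (R := S ⟨f, hf⟩) (e ((1 : S ⟨f, hf⟩) ⊗ₜ[R] b)) = 0 := by
      rw [CoalgHomClass.counit_comp_apply, TensorProduct.counit_tmul, show CoalgebraStruct.counit (R := R) b = 0 from hb, zero_smul]
    rw [map_zero]
    refine (H83.MultType.map_powConv (e : S ⟨f, hf⟩ ⊗[R] A →ₐc[S ⟨f, hf⟩] MonoidAlgebra (S ⟨f, hf⟩) (P ⟨f, hf⟩)) _ b).trans ?_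
    have hfin' : Finite (P ⟨f, hf⟩) := by
      let el : S ⟨f, hf⟩ ⊗[R] A →ₗ[S ⟨f, hf⟩] MonoidAlgebra (S ⟨f, hf⟩) (P ⟨f, hf⟩) :=
        (e : S ⟨f, hf⟩ ⊗[R] A →ₐc[S ⟨f, hf⟩] MonoidAlgebra (S ⟨f, hf⟩) (P ⟨f, hf⟩))
      haveI : Module.Finite (S ⟨f, hf⟩) (MonoidAlgebra (S ⟨f, hf⟩) (P ⟨f, hf⟩)) :=
        Module.Finite.equiv (LinearEquiv.ofBijective el (EquivLike.bijective e))
      exact Module.Finite.finite_basis (Finsupp.basisSingleOne.map (MonoidAlgebra.coeffLinearEquiv (S ⟨f, hf⟩)).symm)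
    have hpow : (powMonoidHom (∏ g : s, c g) : P ⟨f, hf⟩ →* P ⟨f, hf⟩) = 1 := by
      ext x
      have hdvd : Nat.card (P ⟨f, hf⟩) ∣ ∏ g : s, c g := by
        have h1 : c ⟨f, hf⟩ = Nat.card (P ⟨f, hf⟩) := if_neg Nat.card_pos.ne'
        rw [← h1]
        exact Finset.dvd_prod_of_mem _ (Finset.mem_univ _)
      obtain ⟨k, hk⟩ := hdvd
      show x ^ (∏ g : s, c g) = 1
      rw [hk, pow_mul, pow_card_eq_one', one_pow]
    have key : ∀ y : MonoidAlgebra (S ⟨f, hf⟩) (P ⟨f, hf⟩),
        MonoidAlgebra.mapDomainAlgHom (S ⟨f, hf⟩) (S ⟨f, hf⟩) (powMonoidHom (∏ g : s, c g) : P ⟨f, hf⟩ →* P ⟨f, hf⟩) y =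
          algebraMap (S ⟨f, hf⟩) _ (CoalgebraStruct.counit (R := S ⟨f, hf⟩) y) := by
      intro y
      rw [hpow]
      induction y using MonoidAlgebra.induction_linear with
      | zero => simp
      | add u v hu hv => simp only [map_add, hu, hv]
      | single p r => simp
    exact (key _).trans ((congrArg _ hb0).trans (map_zero _))
  · rintro ⟨n, hn, h0⟩
    haveI := H83.MultType.finite_quotient hft h n hn ⊥ h0.le
    exact Module.Finite.equiv (AlgEquiv.quotientBot R A).toLinearEquiv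

end Groth.Agent.S2984
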