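import Groth.Statements.S2989
import Groth.Agent.H1.Classical.CartanOpen
import Groth.Agent.H1.Classical.MaxTorusExists
import Groth.Agent.H1.Classical.CentralizerRed
import Groth.Agent.H1.Classical.TorusSplit
import Groth.Agent.S8392
import Groth.Agent.H1.GrpIrred

set_option autoImplicit false
open CategoryTheory MonoidalCategory CartesianMonoidalCategory MonObj GrpObj AlgebraicGeometry
universe u
open Red

open Groth.Agent.Lib.RedPts Groth.Agent.H1.Classical

namespace Groth.Agent.S2989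

/-- The additive group commutes with base change. -/
theorem exists_bc_Ga' {S S' : Scheme.{u}} (h : S' ⟶ S) :
    ∃ G' : Red.bc h (Red.Ga S) ≅ Red.Ga S', IsMonHom G'.hom :=
  ⟨Groth.Agent.Lib.Tori.BaseChange.overIso ((Groth.Agent.Lib.Tori.BaseChange.bcComp h
    (Limits.IsTerminal.from specULiftZIsTerminal S) Red.GaZ).symm ≪≫
    Groth.Agent.Lib.Tori.BaseChange.bcCongr (Limits.IsTerminal.hom_ext specULiftZIsTerminal _ _) Red.GaZ),
    inferInstance⟩

/-- Over an algebraically closed field. -/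
theorem aux {K : Type u} [Field K] [IsAlgClosed K] {H : Over (Spec (CommRingCat.of K))} [GrpObj H]
    (hH : Red.IsReductiveOver K H) (φ : H ⟶ Red.Ga (Spec (CommRingCat.of K))) [IsMonHom φ] : φ = 1 := by
  obtain ⟨h1, h2, h3, -⟩ := id hH
  haveI := h1
  haveI := h2
  haveI := h3
  obtain ⟨T, _, iT, hT⟩ := MaxTorusExists.exists_maxTorus H
  haveI := hT.1
  haveI := hT.2.1
  have hself := CentralizerRed.isCentralizerOf_self hH hT
  obtain ⟨U, ⟨u, hu⟩, hU⟩ := CartanOpen.exists_open hT hself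
  have hTφ : iT ≫ φ = 1 := Groth.Agent.S8392.result _ T (CentralizerScheme.isMultTypeFT_of_isTorus hT.2.2.1) (iT ≫ φ)
  have hpt : ∀ x : 𝟙_ (Over (Spec (CommRingCat.of K))) ⟶ H,
      x.left.base (IsLocalRing.closedPoint K) ∈ U → x ≫ φ = 1 := fun x hx => by
    obtain ⟨g, y, rfl⟩ := hU x hx
    let ev : (𝟙_ (Over (Spec (CommRingCat.of K))) ⟶ H) →* (𝟙_ (Over (Spec (CommRingCat.of K))) ⟶ Red.Ga _) :=
      MonoidHom.mk' (· ≫ φ) fun a b => MonObj.mul_comp a b φ
    show ev _ = 1
    rw [map_mul, map_mul, map_inv, show ev (y ≫ iT) = 1 from by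
      show (y ≫ iT) ≫ φ = 1
      rw [Category.assoc, hTφ, MonObj.comp_one], _root_.mul_one, mul_inv_cancel]
  haveI : IsIntegral H.left := Groth.Agent.H1.GrpIrred.isIntegral H
  refine Ga.gaFn_injective ?_
  rw [Ga.gaFn_one]
  refine (AlgebraicGeometry.basicOpen_eq_bot_iff (X := H.left) (Red.gaFn φ)).1 (TopologicalSpace.Opens.ext ?_)
  rw [TopologicalSpace.Opens.coe_bot]
  by_contra hne
  obtain ⟨z, hz⟩ := Set.nonempty_iff_ne_empty.2 hne
  obtain ⟨w, hw⟩ := nonempty_preirreducible_inter U.2 (H.left.basicOpen (Red.gaFn φ)).2 ⟨u, hu⟩ ⟨z, hz⟩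
  haveI : JacobsonSpace H.left := LocallyOfFiniteType.jacobsonSpace H.hom
  obtain ⟨c, hc, hc'⟩ := nonempty_inter_closedPoints (Z := (U : Set H.left) ∩ (H.left.basicOpen (Red.gaFn φ) : Set H.left))
    ⟨w, hw⟩ (U.2.inter (H.left.basicOpen (Red.gaFn φ)).2).isLocallyClosed
  let e := pointEquivClosedPoint H.hom
  obtain ⟨p, hp⟩ := e.surjective ⟨c, hc'⟩
  let x : 𝟙_ (Over (Spec (CommRingCat.of K))) ⟶ H := Over.homMk p.1 p.2
  have hxc : x.left.base (IsLocalRing.closedPoint K) = c := congrArg Subtype.val hp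
  have h0 := congrArg Red.gaFn (hpt x (hxc ▸ hc.1))
  rw [Ga.gaFn_comp, Ga.gaFn_one] at h0
  have hmem : IsLocalRing.closedPoint K ∈ x.left ⁻¹ᵁ H.left.basicOpen (Red.gaFn φ) :=
    show x.left.base (IsLocalRing.closedPoint K) ∈ (H.left.basicOpen (Red.gaFn φ) : Set H.left) by
      rw [hxc]; exact hc.2
  rw [Scheme.preimage_basicOpen_top, h0] at hmem
  rw [Scheme.basicOpen_zero] at hmem
  exact hmem

/-- First assertion (H¹(G, k) = 0 for k with trivial action). Let k be a field and G a reductive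
k-group. Then every homomorphism of k-groups from G to the additive group is trivial. -/
theorem result (k : Type u) [Field k] (G : Over (Spec (CommRingCat.of k))) [GrpObj G]
    (hG : Red.IsReductive G) (φ : G ⟶ Red.Ga (Spec (CommRingCat.of k))) [IsMonHom φ] :
    φ = toUnit G ≫ η[Red.Ga (Spec (CommRingCat.of k))] := by
  let s : ↥(Spec (CommRingCat.of k)) := IsLocalRing.closedPoint k
  obtain ⟨G', hG'⟩ := exists_bc_Ga' (Red.geomPt s)
  haveI := hG'
  have h1 := aux (hG.2.2 s) ((Over.pullback (Red.geomPt s)).map φ ≫ G'.hom)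
  have h0 : (Over.pullback (Red.geomPt s)).map φ = 1 := by
    rw [← cancel_mono G'.hom, h1, MonObj.one_comp]
  have h2 : BC.down (Red.geomPt s) (𝟙 (Red.bc (Red.geomPt s) G)) ≫ φ = 1 := by
    rw [← BC.down_map, Category.id_comp, h0, BC.down_one]
  haveI : Surjective (Red.geomPt s) := ⟨fun x => ⟨IsLocalRing.closedPoint _,
    Subsingleton.elim (α := PrimeSpectrum k) _ _⟩⟩
  haveI : Subsingleton ↥(Spec (CommRingCat.of k)) := inferInstanceAs (Subsingleton (PrimeSpectrum k))
  haveI : Flat (Red.geomPt s) := inferInstance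
  show φ = _
  rw [show toUnit G ≫ η[Red.Ga (Spec (CommRingCat.of k))] = 1 from rfl]
  refine Over.OverMorphism.ext ?_
  have h3 := congrArg (fun v => Over.Hom.left v) (h2.trans (MonObj.comp_one (BC.down (Red.geomPt s) (𝟙 (Red.bc (Red.geomPt s) G)))).symm)
  rw [Over.comp_left, Over.comp_left, BC.down_left] at h3
  haveI : Epi (Limits.pullback.fst G.hom (Red.geomPt s)) := AlgebraicGeometry.Flat.epi_of_flat_of_surjective _
  simp at h3
  exact (cancel_epi _).1 h3

end Groth.Agent.S2989
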