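import Groth.Statements.S3951
import Groth.Agent.H82.Contract.Range

set_option autoImplicit false
open CategoryTheory MonoidalCategory CartesianMonoidalCategory MonObj GrpObj AlgebraicGeometry
universe u
open RedSub

namespace Groth.Agent.S3951

/-- Let G be a split reductive S-group (splitting D) and b a system of simple roots of its root datum,
with positive roots R_+ and negative roots R_-. For enumerations e⁻ of R_- and e⁺ of R_+ in any
order, the morphism G_a^{R_-} x_S T x_S G_a^{R_+} ⟶ G given by the ordered product of the root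
homomorphisms and the torus is an open immersion, and its image (the big cell) does not depend on
the chosen orderings. -/
theorem result {S : Scheme.{u}} {G : Over S} [GrpObj G] (D : Red.SplitRed G) (b : D.P.Base)
    {n m : ℕ} (eneg : Fin n → D.idx) (epos : Fin m → D.idx)
    (hneg : RedSub.Enumerates (RedSub.negRoots D.P b) eneg) (hpos : RedSub.Enumerates (RedSub.posRoots D.P b) epos) :
    IsOpenImmersion (RedSub.cellMap D eneg epos).left ∧
      ∀ (eneg' : Fin n → D.idx) (epos' : Fin m → D.idx), RedSub.Enumerates (RedSub.negRoots D.P b) eneg' →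
        RedSub.Enumerates (RedSub.posRoots D.P b) epos' →
        Set.range (RedSub.cellMap D eneg' epos').left.base = Set.range (RedSub.cellMap D eneg epos).left.base := by
  obtain ⟨l, hlp, hln⟩ := Groth.Agent.H82.Contract.exists_regular (D := D) b
  have hopen : ∀ {n m : ℕ} (e : Fin n → D.idx) (e' : Fin m → D.idx),
      RedSub.Enumerates (RedSub.negRoots D.P b) e → RedSub.Enumerates (RedSub.posRoots D.P b) e' →
      (∀ k, l (D.P.root (e k)) < 0) ∧ (∀ k, 0 < l (D.P.root (e' k))) ∧
        IsOpenImmersion (RedSub.cellMap D e e').left := by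
    intro n m e e' he he'
    have hn : ∀ k, l (D.P.root (e k)) < 0 := fun k => hln _ (he.2 ▸ Set.mem_range_self k)
    have hp : ∀ k, 0 < l (D.P.root (e' k)) := fun k => hlp _ (he'.2 ▸ Set.mem_range_self k)
    refine ⟨hn, hp, Groth.Agent.H82.Contract.isOpenImmersion_cellMap he.1 he'.1 hn hp ?_⟩
    have hbij : Function.Bijective (Sum.elim e e') := by
      refine ⟨he.1.sumElim he'.1 fun a c hac => ?_, fun a => ?_⟩
      · have h1 := hn a
        rw [hac] at h1
        exact absurd (hp c) (not_lt.2 h1.le)
      · rcases b.root_mem_or_neg_mem a with h | h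
        · obtain ⟨k, hk⟩ : a ∈ Set.range e' := he'.2 ▸ h
          exact ⟨Sum.inr k, hk⟩
        · obtain ⟨k, hk⟩ : a ∈ Set.range e := he.2 ▸ h
          exact ⟨Sum.inl k, hk⟩
    have := Fintype.card_of_bijective hbij
    simpa using this
  obtain ⟨hn, hp, hO⟩ := hopen eneg epos hneg hpos
  refine ⟨hO, fun eneg' epos' hneg' hpos' => ?_⟩
  obtain ⟨hn', hp', hO'⟩ := hopen eneg' epos' hneg' hpos'
  exact (Groth.Agent.H82.Contract.range_cellMap_le hn' hp' hn hp).antisymm
    (Groth.Agent.H82.Contract.range_cellMap_le hn hp hn' hp')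

end Groth.Agent.S3951
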