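import Groth.Statements.S5509
import Groth.Agent.H82.Contract.Gen

set_option autoImplicit false
open CategoryTheory MonoidalCategory CartesianMonoidalCategory MonObj GrpObj AlgebraicGeometry
universe u
open RedSub
open Groth.Agent.H82.Contract

namespace Groth.Agent.S5509

/-- Let G be a split reductive S-group (splitting D), b a system of simple roots with enumerations of
the negative and positive roots, and x a point (with values in some X) of the big cell G_a^{R_-} x_S
T x_S G_a^{R_+}. If the image g of x in G satisfies g t g⁻¹ ∈ T for every point t of T (after every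
base change), then g lies in T: g is the image of the T-component of x (so the two unipotent
components of x are trivial). In other words the big cell meets the normaliser of T in T. -/
theorem result {S : Scheme.{u}} {G : Over S} [GrpObj G] (D : Red.SplitRed G)
    (b : D.P.Base) {n m : ℕ} (eneg : Fin n → D.idx) (epos : Fin m → D.idx)
    (hneg : RedSub.Enumerates (RedSub.negRoots D.P b) eneg) (hpos : RedSub.Enumerates (RedSub.posRoots D.P b) epos)
    (X : Over S) (x : X ⟶ RedSub.pow (Red.Ga S) n ⊗ (D.T ⊗ RedSub.pow (Red.Ga S) m))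
    (hnorm : ∀ (X' : Over S) (y : X' ⟶ X) (t : X' ⟶ D.T), ∃ t' : X' ⟶ D.T,
      (y ≫ x ≫ RedSub.cellMap D eneg epos) * (t ≫ D.i) * (y ≫ x ≫ RedSub.cellMap D eneg epos)⁻¹ = t' ≫ D.i) :
    x ≫ RedSub.cellMap D eneg epos = (x ≫ snd _ _ ≫ fst _ _) ≫ D.i := by
  obtain ⟨l, hlp, hln⟩ := exists_regular (D := D) b
  have he : ∀ k, l (D.P.root (eneg k)) < 0 := fun k => hln _ (hneg.2 ▸ Set.mem_range_self k)
  have he' : ∀ k, 0 < l (D.P.root (epos k)) := fun k => hlp _ (hpos.2 ▸ Set.mem_range_self k)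
  haveI := isAffineHom D
  refine (eq_torus_of_cell he he' x fun Y f z => ?_).symm
  let τ : Y ⟶ D.T := z ≫ cochar D l
  obtain ⟨τ', hτ'⟩ := hnorm Y f τ
  have hg := (Category.assoc f x _).symm.trans (comp_cellMap (e := eneg) epos (f ≫ x))
  obtain ⟨x', hx'⟩ := exists_conj_prod epos τ⁻¹ ((f ≫ x) ≫ snd _ _ ≫ snd _ _)
  obtain ⟨y', hy'⟩ := exists_conj_prod eneg τ' ((f ≫ x) ≫ fst _ _)
  rw [GrpObj.inv_comp] at hx'
  rw [mul_inv_eq_iff_eq_mul] at hτ'
  have hty := hτ'
  rw [hg] at hty
  have e1 : ∀ (A B C : Y ⟶ G), A * (B * C) * (τ ≫ D.i) = A * ((B * (τ ≫ D.i)) * ((τ ≫ D.i)⁻¹ * C * (τ ≫ D.i))) :=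
    fun A B C => by group
  rw [e1, hx', inv_mul_cancel_right, ← _root_.mul_assoc (τ' ≫ D.i), hy', _root_.mul_assoc (y' ≫ _) (τ' ≫ D.i), ← _root_.mul_assoc (τ' ≫ D.i),
    ← MonObj.mul_comp, ← MonObj.mul_comp] at hty
  have h := factors_unique (c := gcochar D l) (isLimPt_neg he _) (isLimPt_neg he _) (isLimPt_torus_pt (l := l) _)
    (isLimPt_torus_pt (l := l) _) (isLimPt_pos he' _) (isLimPt_pos he' _) hty
  have h2 : (f ≫ x ≫ snd _ _ ≫ fst _ _) * τ = τ' * (f ≫ x ≫ snd _ _ ≫ fst _ _) := by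
    have := (cancel_mono D.i).1 h.2.1
    simpa only [Category.assoc] using this
  rw [torus_comm D (f ≫ x ≫ snd _ _ ≫ fst _ _) τ] at h2
  rw [← mul_right_cancel h2] at hτ'
  rw [← Category.assoc z]
  exact hτ'.symm

end Groth.Agent.S5509
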