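import Groth.Statements.S2990
import Groth.Agent.S2962
import Groth.Agent.S3951
import Groth.Agent.S5509
import Groth.Agent.H82.Contract.Commute

set_option autoImplicit false
open CategoryTheory MonoidalCategory CartesianMonoidalCategory MonObj GrpObj AlgebraicGeometry
universe u
open Red
open Groth.Agent.Lib.RedPts Groth.Agent.H82.BigCell Groth.Agent.H82.Contract
open Groth.Agent.H82.RankOne (P P_eq)

namespace Groth.Agent.S2990

variable {S : Scheme.{u}} {G : Over S} [GrpObj G]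

instance isMonHom_chr (D : Red.SplitRed G) (m : D.M) : IsMonHom (chr D m) := by
  haveI : IsMonHom (show D.T ⟶ Red.DS S D.M from D.split.hom.hom.hom) := D.split.hom.hom.isMonHom_hom
  haveI : IsMonHom (Red.chi S m) := Groth.Agent.Lib.RedPts.Gm.isMonHom_chi m
  exact inferInstanceAs (IsMonHom ((show D.T ⟶ Red.DS S D.M from D.split.hom.hom.hom) ≫ Red.chi S m))

/-- Two torus points with the same values on the simple roots have the same values on all roots. -/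
theorem chr_eq_of_simple (D : Red.SplitRed G) (b : D.P.Base) {X : Over S} (t t' : X ⟶ D.T)
    (h : ∀ a ∈ b.support, t ≫ chr D (D.P.root a) = t' ≫ chr D (D.P.root a)) (c : D.idx) :
    t ≫ chr D (D.P.root c) = t' ≫ chr D (D.P.root c) := by
  have hadd : ∀ (s : X ⟶ D.T) (m k : D.M), s ≫ chr D (m + k) = (s ≫ chr D m) * (s ≫ chr D k) := fun s m k => by
    simp only [chr, ← Category.assoc]
    exact Gm.chi_add _ m k
  have hzero : ∀ s : X ⟶ D.T, s ≫ chr D (0 : D.M) = 1 := fun s => by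
    simp only [chr, ← Category.assoc]
    exact Gm.chi_zero _
  have hcl : ∀ m ∈ AddSubmonoid.closure (D.P.root '' (b.support : Set D.idx)), t ≫ chr D m = t' ≫ chr D m := by
    intro m hm
    induction hm using AddSubmonoid.closure_induction with
    | mem x hx =>
      obtain ⟨a, ha, rfl⟩ := hx
      exact h a ha
    | zero => rw [hzero, hzero]
    | add x y _ _ hx hy => rw [hadd, hadd, hx, hy]
  rcases b.root_mem_or_neg_mem c with h' | h'
  · exact hcl _ h'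
  · have e1 : ∀ s : X ⟶ D.T, s ≫ chr D (D.P.root c) = (s ≫ chr D (-D.P.root c))⁻¹ := fun s => by
      rw [eq_inv_iff_mul_eq_one, ← hadd, add_neg_cancel, hzero]
    rw [e1, e1, hcl _ h']

/-- Conjugation by a point normalising a cocharacter up to central elements respects limits. -/
theorem isLimPt_conj {c : Red.Gm S ⟶ G} {X : Over S} {g y L : X ⟶ G}
    (hg : ∀ (Y : Over S) (f : Y ⟶ X) (z : Y ⟶ Red.Gm S) (w : Y ⟶ G),
      (f ≫ g) * ((z ≫ c) * w * (z ≫ c)⁻¹) * (f ≫ g)⁻¹ = (z ≫ c) * ((f ≫ g) * w * (f ≫ g)⁻¹) * (z ≫ c)⁻¹)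
    (h : IsLimPt c y L) : IsLimPt c (g * y * g⁻¹) (g * L * g⁻¹) := fun Y f hY => by
  obtain ⟨a, ha, ha0⟩ := h Y f hY
  refine ⟨(polyHom Y ≫ f ≫ g) * a * (polyHom Y ≫ f ≫ g)⁻¹, ?_, ?_⟩
  · rw [MonObj.comp_mul, MonObj.comp_mul, GrpObj.comp_inv, toPoly_polyHom_assoc, ha, conjPt, conjPt]
    simp only [MonObj.comp_mul, GrpObj.comp_inv]
    simp only [← Category.assoc (laurHom Y)]
    exact hg (laur Y) (laurHom Y ≫ f) (Gm.gmPt (sU Y)) ((laurHom Y ≫ f) ≫ y)
  · simp only [MonObj.comp_mul, GrpObj.comp_inv, zeroSec_polyHom_assoc, ha0]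

theorem group_aux {H : Type*} [Group H] (γ y t x y' t' x' : H) (h : γ * (y * (t * x)) = y' * (t' * x')) :
    ((γ * y * γ⁻¹)⁻¹ * y') * ((t' * t⁻¹) * (t * (x' * x⁻¹) * t⁻¹)) = γ := by
  calc ((γ * y * γ⁻¹)⁻¹ * y') * ((t' * t⁻¹) * (t * (x' * x⁻¹) * t⁻¹))
      = γ * y⁻¹ * γ⁻¹ * (y' * (t' * x')) * x⁻¹ * t⁻¹ := by group
    _ = γ := by rw [← h]; group

/-- A point contracted by the opposite cocharacter is a product of root elements of negative degree. -/
theorem exists_prod_neg {D : Red.SplitRed G} {l : D.M →+ ℤ} {n m : ℕ} {e : Fin n → D.idx} {e' : Fin m → D.idx}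
    [IsOpenImmersion (RedSub.cellMap D e e').left] (he : ∀ k, l (D.P.root (e k)) < 0)
    (he' : ∀ k, 0 < l (D.P.root (e' k))) {X : Over S} {g : X ⟶ G}
    (hg : IsLimPt ((cochar D l)⁻¹ ≫ D.i) g 1) :
    ∃ z, z ≫ RedSub.prodMap (Red.Ga S) n (fun k => D.u (e k)) = g := by
  haveI := isAffineHom D
  have hsub : Set.range g.left ⊆ Set.range (RedSub.cellMap D e e').left := by
    rintro _ ⟨p, rfl⟩
    let Y := ptObj X p
    haveI : Subsingleton Y.left := inferInstanceAs (Subsingleton (PrimeSpectrum (X.left.residueField p)))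
    have h1 := hg.comp (ptHom X p)
    rw [MonObj.comp_one] at h1
    obtain ⟨z, hz⟩ := mem_range_of_isLimPt (e := e) (e' := e') (isField_ptObj X p) h1
    let p₀ : Y.left := IsLocalRing.closedPoint (X.left.residueField p)
    have h2 : (ptHom X p).left p₀ ∈ Set.range (X.left.fromSpecResidueField p) := ⟨_, rfl⟩
    rw [Scheme.range_fromSpecResidueField] at h2
    refine ⟨z.left p₀, ?_⟩
    rw [← Scheme.Hom.comp_apply, ← Over.comp_left, hz, Over.comp_left, Scheme.Hom.comp_apply]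
    exact congrArg g.left h2
  obtain ⟨z, hz⟩ := exists_factor _ g hsub
  rw [show (cochar D l)⁻¹ ≫ D.i = (gcochar D l)⁻¹ from GrpObj.inv_comp (cochar D l) D.i] at hg
  have h := factors_unique (c := gcochar D l) (y' := g) (t' := 1) (x' := 1) (isLimPt_neg he _) hg
    (isLimPt_torus_pt (l := l) _) isLimPt_one (isLimPt_pos he' _) isLimPt_one
    ((comp_cellMap e' z).symm.trans (hz.trans (by rw [_root_.mul_one, _root_.mul_one])))
  exact ⟨_, h.1⟩

/-- Let G be a reductive S-group scheme with a pinning (a split maximal torus T, a root datum with a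
chosen base, and root homomorphisms u_a), and let g be an S-point of G such that the inner
automorphism int(g) normalises T and commutes with the root homomorphism u_a of every simple root a.
Then int(g) is the identity: g centralises every point of G with values in any S-scheme. (This is
the case of an inner automorphism respecting the pinning without permuting the simple roots.) -/
theorem result {S : Scheme.{u}} {G : Over S} [GrpObj G] (D : Red.Pinning G)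
    (g : 𝟙_ (Over S) ⟶ G)
    (hT : ∀ (X : Over S) (t : X ⟶ D.T), ∃ t' : X ⟶ D.T, (toUnit X ≫ g) * (t ≫ D.i) * (toUnit X ≫ g)⁻¹ = t' ≫ D.i)
    (hu : ∀ a ∈ D.base.support, ∀ (X : Over S) (x : X ⟶ Red.Ga S),
      (toUnit X ≫ g) * (x ≫ D.u a) * (toUnit X ≫ g)⁻¹ = x ≫ D.u a) :
    ∀ (X : Over S) (y : X ⟶ G), (toUnit X ≫ g) * y * (toUnit X ≫ g)⁻¹ = y := by
  classical
  haveI := isAffineHom D.toSplitRed
  let D' := D.toSplitRed
  have hkey : ∀ (X : Over S) (τ : X ⟶ D'.T), ∃ τ' : X ⟶ D'.T,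
      (toUnit X ≫ g) * (τ ≫ D'.i) * (toUnit X ≫ g)⁻¹ = τ' ≫ D'.i ∧
        ∀ a, τ ≫ chr D' (D'.P.root a) = τ' ≫ chr D' (D'.P.root a) := by
    intro X τ
    obtain ⟨τ', hτ'⟩ := hT X τ
    refine ⟨τ', hτ', chr_eq_of_simple D' D.base τ τ' fun a ha => Gm.gmFn_injective ?_⟩
    have hfix : ∀ r : Γ(X.left, ⊤), (toUnit X ≫ g) * P (D'.u a) r * (toUnit X ≫ g)⁻¹ = P (D'.u a) r :=
      fun r => hu a ha X (Ga.gaPt r)
    have h1 := mul_inv_eq_iff_eq_mul.2 (isRootPts D' a τ (1 : Γ(X.left, ⊤)))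
    have h2 := mul_inv_eq_iff_eq_mul.2 (isRootPts D' a τ' (1 : Γ(X.left, ⊤)))
    rw [_root_.mul_one] at h1 h2
    have h3 := congrArg (fun w => (toUnit X ≫ g) * w * (toUnit X ≫ g)⁻¹) h1
    simp only [hfix] at h3
    have h4 : P (D'.u a) (Red.gmFn (τ ≫ chr D' (D'.P.root a))) = P (D'.u a) (Red.gmFn (τ' ≫ chr D' (D'.P.root a))) := by
      rw [← h2, ← hτ']
      refine h3.symm.trans ?_
      conv_rhs => rw [← hfix (1 : Γ(X.left, ⊤))]
      group
      rfl
    have h5 := congrArg Red.gaFn ((cancel_mono (D'.u a)).1 h4)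
    rwa [Ga.gaFn_gaPt, Ga.gaFn_gaPt] at h5
  have hconj : ∀ (ν : Red.Gm S ⟶ D'.T) (Y : Over S) (f : Y ⟶ 𝟙_ (Over S)) (z : Y ⟶ Red.Gm S) (w : Y ⟶ G),
      (f ≫ g) * ((z ≫ ν ≫ D'.i) * w * (z ≫ ν ≫ D'.i)⁻¹) * (f ≫ g)⁻¹ =
        (z ≫ ν ≫ D'.i) * ((f ≫ g) * w * (f ≫ g)⁻¹) * (z ≫ ν ≫ D'.i)⁻¹ := by
    intro ν Y f z w
    obtain rfl : f = toUnit Y := toUnit_unique _ _
    obtain ⟨τ', h1, h2⟩ := hkey Y (z ≫ ν)
    have hz : ∀ v : Y ⟶ G, ((τ' * (z ≫ ν)⁻¹) ≫ D'.i) * v = v * ((τ' * (z ≫ ν)⁻¹) ≫ D'.i) := fun v => by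
      have := (Groth.Agent.S2962.result D' Y ((τ' * (z ≫ ν)⁻¹) ≫ D'.i)).2 ⟨_, rfl, fun a => ?_⟩ Y (𝟙 Y) v
      · simpa using this
      · change (τ' * (z ≫ ν)⁻¹) ≫ chr D' (D'.P.root a) = 1
        rw [MonObj.mul_comp _ _ (chr D' (D'.P.root a)), GrpObj.inv_comp _ (chr D' (D'.P.root a)), mul_inv_eq_one]
        exact (h2 a).symm
    have hz' := hz ((toUnit Y ≫ g) * w * (toUnit Y ≫ g)⁻¹)
    rw [torus_comm D', MonObj.mul_comp _ _ D'.i, GrpObj.inv_comp _ D'.i] at hz'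
    rw [← Category.assoc z]
    calc (toUnit Y ≫ g) * (((z ≫ ν) ≫ D'.i) * w * ((z ≫ ν) ≫ D'.i)⁻¹) * (toUnit Y ≫ g)⁻¹
        = (τ' ≫ D'.i) * ((toUnit Y ≫ g) * w * (toUnit Y ≫ g)⁻¹) * (τ' ≫ D'.i)⁻¹ := by rw [← h1]; group
      _ = ((z ≫ ν) ≫ D'.i) * ((((z ≫ ν) ≫ D'.i)⁻¹ * (τ' ≫ D'.i)) * ((toUnit Y ≫ g) * w * (toUnit Y ≫ g)⁻¹) *
            (((z ≫ ν) ≫ D'.i)⁻¹ * (τ' ≫ D'.i))⁻¹) * ((z ≫ ν) ≫ D'.i)⁻¹ := by group
      _ = _ := by rw [hz', mul_inv_cancel_right]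
  obtain ⟨l, hlp, hln⟩ := exists_regular (D := D') D.base
  let A := {a : D'.idx // a ∈ RedSub.negRoots D'.P D.base}
  let B := {a : D'.idx // a ∈ RedSub.posRoots D'.P D.base}
  let e := fun k => ((Fintype.equivFin A).symm k).1
  let e' := fun k => ((Fintype.equivFin B).symm k).1
  have he : RedSub.Enumerates (RedSub.negRoots D'.P D.base) e :=
    ⟨Subtype.val_injective.comp (Equiv.injective _), by
      simp only [e]; rw [← Function.comp_def, Set.range_comp, Equiv.range_eq_univ, Set.image_univ, Subtype.range_val]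
      ⟩
  have he' : RedSub.Enumerates (RedSub.posRoots D'.P D.base) e' :=
    ⟨Subtype.val_injective.comp (Equiv.injective _), by
      simp only [e']; rw [← Function.comp_def, Set.range_comp, Equiv.range_eq_univ, Set.image_univ, Subtype.range_val]
      ⟩
  haveI := (Groth.Agent.S3951.result D' D.base e e' he he').1
  have hn : ∀ k, l (D'.P.root (e k)) < 0 := fun k => hln _ ((Fintype.equivFin A).symm k).2
  have hp : ∀ k, 0 < l (D'.P.root (e' k)) := fun k => hlp _ ((Fintype.equivFin B).symm k).2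
  have hrange : Set.range g.left ⊆ Set.range (RedSub.cellMap D' e e').left := by
    rintro _ ⟨p, rfl⟩
    let Y := ptObj (𝟙_ (Over S)) p
    let γ : Y ⟶ G := ptHom (𝟙_ (Over S)) p ≫ g
    obtain ⟨X', c, z, z', -, hsurj, hzz⟩ := exists_translate (D := D') (e := e) (e' := e') γ
    have hγ : c ≫ γ = toUnit X' ≫ g := by
      simp only [γ, ← Category.assoc]
      rw [toUnit_unique (c ≫ ptHom (𝟙_ (Over S)) p) (toUnit X')]
    have hconjγ : ∀ ν : Red.Gm S ⟶ D'.T, ∀ (Y' : Over S) (f : Y' ⟶ X') (w : Y' ⟶ Red.Gm S) (v : Y' ⟶ G),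
        (f ≫ c ≫ γ) * ((w ≫ ν ≫ D'.i) * v * (w ≫ ν ≫ D'.i)⁻¹) * (f ≫ c ≫ γ)⁻¹ =
          (w ≫ ν ≫ D'.i) * ((f ≫ c ≫ γ) * v * (f ≫ c ≫ γ)⁻¹) * (w ≫ ν ≫ D'.i)⁻¹ := fun ν Y' f w v => by
      rw [hγ, ← Category.assoc f, toUnit_unique (f ≫ toUnit X') (toUnit Y')]
      exact hconj ν Y' (toUnit Y') w v
    have e1 := (congrArg ((c ≫ γ) * ·) (comp_cellMap e' z)).symm.trans (hzz.trans (comp_cellMap e' z'))
    -- the negative part
    have hlneg : IsLimPt ((cochar D' l)⁻¹ ≫ D'.i)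
        (((c ≫ γ) * ((z ≫ fst _ _) ≫ RedSub.prodMap (Red.Ga S) _ fun k => D'.u (e k)) * (c ≫ γ)⁻¹)⁻¹ *
          ((z' ≫ fst _ _) ≫ RedSub.prodMap (Red.Ga S) _ fun k => D'.u (e k))) 1 := by
      have hl : ∀ w, IsLimPt ((cochar D' l)⁻¹ ≫ D'.i) (w ≫ RedSub.prodMap (Red.Ga S) _ fun k => D'.u (e k)) (1 : X' ⟶ G) :=
        fun w => by
          have := isLimPt_neg hn w
          rwa [show (gcochar D' l)⁻¹ = (cochar D' l)⁻¹ ≫ D'.i from (GrpObj.inv_comp (cochar D' l) D'.i).symm] at this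
      have := (isLimPt_conj (hconjγ _) (hl (z ≫ fst _ _))).inv.mul (hl (z' ≫ fst _ _))
      simpa using this
    obtain ⟨zn, hzn⟩ := exists_prod_neg hn hp hlneg
    -- the positive part
    have hlpos : IsLimPt (gcochar D' l)
        (((z ≫ snd _ _ ≫ fst _ _) ≫ D'.i) *
          (((z' ≫ snd _ _ ≫ snd _ _) ≫ RedSub.prodMap (Red.Ga S) _ fun k => D'.u (e' k)) *
            ((z ≫ snd _ _ ≫ snd _ _) ≫ RedSub.prodMap (Red.Ga S) _ fun k => D'.u (e' k))⁻¹) *
          ((z ≫ snd _ _ ≫ fst _ _) ≫ D'.i)⁻¹) 1 := by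
      have := ((isLimPt_torus_pt (l := l) (z ≫ snd _ _ ≫ fst _ _)).mul
        ((isLimPt_pos hp (z' ≫ snd _ _ ≫ snd _ _)).mul (isLimPt_pos hp (z ≫ snd _ _ ≫ snd _ _)).inv)).mul
          (isLimPt_torus_pt (l := l) (z ≫ snd _ _ ≫ fst _ _)).inv
      simpa using this
    obtain ⟨zp, hzp⟩ := exists_prod_of_isLimPt hn hp hlpos
    have key : lift zn (lift ((z' ≫ snd _ _ ≫ fst _ _) * (z ≫ snd _ _ ≫ fst _ _)⁻¹) zp) ≫
        RedSub.cellMap D' e e' = c ≫ γ := by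
      refine (comp_cellMap e' _).trans ?_
      rw [lift_fst, lift_snd_assoc, lift_fst, lift_snd_assoc, lift_snd, hzn, hzp, MonObj.mul_comp _ _ D'.i,
        GrpObj.inv_comp _ D'.i]
      exact group_aux _ _ _ _ _ _ _ e1
    obtain ⟨q, hq⟩ := hsurj.surj (IsLocalRing.closedPoint ((𝟙_ (Over S)).left.residueField p) : Y.left)
    have hp' : (ptHom (𝟙_ (Over S)) p).left (c.left q) = p := by
      have h2 : (ptHom (𝟙_ (Over S)) p).left (c.left q) ∈ Set.range ((𝟙_ (Over S)).left.fromSpecResidueField p) :=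
        ⟨_, rfl⟩
      rwa [Scheme.range_fromSpecResidueField] at h2
    rw [← hp', ← Scheme.Hom.comp_apply, ← Scheme.Hom.comp_apply, ← Over.comp_left, ← Over.comp_left,
      show c ≫ ptHom (𝟙_ (Over S)) p ≫ g = c ≫ γ from rfl, ← key, Over.comp_left, Scheme.Hom.comp_apply]
    exact ⟨_, rfl⟩
  obtain ⟨z, hz⟩ := exists_factor _ g hrange
  have hg5 := Groth.Agent.S5509.result D' D.base e e' he he' _ z (fun X' f w => by
    obtain ⟨w', hw'⟩ := hT X' w
    refine ⟨w', ?_⟩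
    rw [hz, toUnit_unique f (toUnit X')]
    exact hw')
  rw [hz] at hg5
  intro X y
  obtain ⟨t, ht⟩ : ∃ t : 𝟙_ (Over S) ⟶ D'.T, t ≫ D'.i = g := ⟨_, hg5.symm⟩
  have hroots : ∀ a, t ≫ chr D' (D'.P.root a) = 1 := by
    have h1 := chr_eq_of_simple D' D.base t 1 fun a ha => by
      rw [@MonObj.one_comp _ _ _ _ _ _ _ _ (chr D' (D'.P.root a)) (isMonHom_chr D' _)]
      apply Gm.gmFn_injective
      rw [Gm.gmFn_one]
      have h1 := isRootPts D' a t (1 : Γ((𝟙_ (Over S)).left, ⊤))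
      have h2 := hu a ha _ (Ga.gaPt (1 : Γ((𝟙_ (Over S)).left, ⊤)))
      rw [toUnit_unique (toUnit (𝟙_ (Over S))) (𝟙 _), Category.id_comp, ← ht] at h2
      rw [← mul_inv_eq_iff_eq_mul, _root_.mul_one] at h1
      have h3 := congrArg Red.gaFn ((cancel_mono (D'.u a)).1 (h1.symm.trans h2))
      rwa [Ga.gaFn_gaPt, Ga.gaFn_gaPt] at h3
    intro a
    rw [h1 a, @MonObj.one_comp _ _ _ _ _ _ _ _ (chr D' (D'.P.root a)) (isMonHom_chr D' _)]
  have := (Groth.Agent.S2962.result D' _ g).2 ⟨t, ht, hroots⟩ X (toUnit X) y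
  rw [this, mul_inv_cancel_right]

end Groth.Agent.S2990
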