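import Groth.Statements.S3003
import Groth.Agent.H87.EtaleSplitTorus
import Groth.Agent.H87.TorusIn
import Groth.Agent.H1.Classical.MaxTorusExists

set_option autoImplicit false
universe u
open CategoryTheory MonoidalCategory CartesianMonoidalCategory MonObj GrpObj AlgebraicGeometry
open Red

namespace Groth.Agent.S3003

/-- Let S be a scheme, G an S-group scheme which is smooth and affine over S with connected fibres, and
s₀ ∈ S such that every maximal torus of the geometric fibre G_{s̄₀} is its own centralizer (every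
point of G_{s̄₀} commuting with all points of the torus lies in it). Then there exist an étale
morphism v : Spec B → S whose image contains s₀ and a maximal torus of the base change of G to Spec
B which is split. -/
theorem result (S : Scheme.{u}) (G : Over S) [GrpObj G] [IsAffineHom G.hom] [Smooth G.hom] (hconn : ∀ s : S, _root_.IsConnected (G.hom.base ⁻¹' {s})) (s₀ : S) (hc : ∀ (T : Over (Spec (CommRingCat.of (AlgebraicClosure (S.residueField s₀))))) [GrpObj T] (i : T ⟶ Red.geomFibre s₀ G), Red.IsMaximalTorus i → ∀ (X : Over _) (g : X ⟶ Red.geomFibre s₀ G), (∀ (X' : Over _) (x : X' ⟶ X) (t : X' ⟶ T), (x ≫ g) * (t ≫ i) = (t ≫ i) * (x ≫ g)) → ∃ t : X ⟶ T, g = t ≫ i) : ∃ (B : Type u) (_ : CommRing B) (v : Spec (CommRingCat.of B) ⟶ S), Etale v ∧ s₀ ∈ Set.range v.base ∧ ∃ (T : Over (Spec (CommRingCat.of B))) (_ : GrpObj T) (i : T ⟶ Red.bc v G), Red.IsMaximalTorus i ∧ ∃ r : ℕ, Red.IsSplitTorusWith (Fin r → ℤ) T := by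
  haveI := Groth.Agent.Lib.SmWeil.CartanOpen.geometricallyConnected_of_fibres G hconn
  let g := Red.geomPt s₀
  haveI : Smooth (Red.geomFibre s₀ G).hom := MorphismProperty.pullback_snd (P := @Smooth) _ _ inferInstance
  haveI : IsAffineHom (Red.geomFibre s₀ G).hom := MorphismProperty.pullback_snd (P := @IsAffineHom) _ _ inferInstance
  haveI : IsAffine (Red.geomFibre s₀ G).left := isAffine_of_isAffineHom (Red.geomFibre s₀ G).hom
  haveI : ConnectedSpace (Red.geomFibre s₀ G).left :=
    GeometricallyConnected.geometrically_connectedSpace g (Limits.pullback.fst G.hom g) (Limits.pullback.snd G.hom g)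
      (IsPullback.of_hasPullback G.hom g)
  obtain ⟨T, _, iT, h1, h2, h3, h4⟩ := Groth.Agent.H1.Classical.MaxTorusExists.exists_maxTorus (Red.geomFibre s₀ G)
  haveI := h1
  haveI := h2
  have hT : Red.IsMaximalTorus iT := Groth.Agent.Lib.SmWeil.isMaximalTorus_of_maximal iT h3 h4
  obtain ⟨r, ⟨eT⟩⟩ := Groth.Agent.H87.TorusIn.exists_split T h3
  let e := Groth.Agent.Lib.Tori.BaseChange.overIso eT
  haveI : IsMonHom e.inv := Groth.Agent.Lib.SmWeil.CartanAux.isMonHom_inv e
    (Groth.Agent.Lib.Tori.BaseChange.isMonHom_overIso eT)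
  haveI : Mono (e.inv ≫ iT) := mono_comp _ _
  obtain ⟨B, _, v, hv, hs, i, hi⟩ := Groth.Agent.H87.EtaleSplitTorus.exists_etale g (e.inv ≫ iT)
    (fun Z z hz => by
      obtain ⟨t, ht⟩ := hc T iT hT Z z fun Z' x t => by
        simpa only [Category.assoc, Iso.hom_inv_id_assoc] using hz Z' x (t ≫ e.hom)
      exact ⟨t ≫ e.hom, by rw [Category.assoc, Iso.hom_inv_id_assoc]; exact ht⟩)
  refine ⟨B, inferInstance, v, hv, ?_, _, inferInstance, i, hi, r, ⟨Iso.refl _⟩⟩
  rwa [show g (IsLocalRing.closedPoint _) = s₀ from Scheme.fromSpecResidueField_apply s₀ _] at hs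

end Groth.Agent.S3003
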