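import Groth.Statements.S3004
import Groth.Agent.H82.R2.Iso.Equiv

set_option autoImplicit false
universe u
open CategoryTheory MonoidalCategory CartesianMonoidalCategory MonObj GrpObj AlgebraicGeometry
open Red

namespace Groth.Agent.S3004

/-- Let S be a non-empty scheme and G, G' two pinned reductive S-groups (this prelude's `Red.Pinning`: a
split maximal torus T ≅ D_S(M), the root datum, root homomorphisms u_a : 𝔾_a → G for all roots, and
a system of simple roots). Let h be an isomorphism from the root datum of G' to that of G (Mathlib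
`RootPairing.Equiv`, lattice map M' → M) carrying simple roots to simple roots. Then there is a
unique isomorphism of S-group schemes f : G ≅ G' which induces D_S(h) on the tori (through the
splittings) and satisfies f ∘ u_{h(a')} = u'_{a'} for every simple root a' of G'. -/
theorem result (S : Scheme.{u}) [Nonempty S] (G G' : Over S) [GrpObj G] [GrpObj G'] (D : Red.Pinning G) (D' : Red.Pinning G') (h : RootPairing.Equiv D'.P D.P) (hΔ : ∀ a' : D'.idx, a' ∈ D'.base.support ↔ h.indexEquiv a' ∈ D.base.support) : ∃! f : G ≅ G', IsMonHom f.hom ∧ D.i ≫ f.hom = D.split.hom.hom.hom ≫ Red.DSmap S h.weightMap.toAddMonoidHom ≫ D'.split.inv.hom.hom ≫ D'.i ∧ ∀ a' : D'.idx, a' ∈ D'.base.support → D.u (h.indexEquiv a') ≫ f.hom = D'.u a' := by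
  obtain ⟨m, hm, hd, hm1⟩ := H82.R2.Iso.exists_rescale D.toSplitRed D.base
  obtain ⟨m', hm', hd', hm1'⟩ := H82.R2.Iso.exists_rescale D'.toSplitRed D'.base
  let D₁ := H82.R2.Iso.rescale D.toSplitRed m hm
  let D₁' := H82.R2.Iso.rescale D'.toSplitRed m' hm'
  let L : D'.M ≃ₗ[ℤ] D.M := LinearEquiv.ofBijective h.weightMap h.bijective_weightMap
  have hroot : ∀ a, h.weightMap (D'.P.root a) = D.P.root (h.indexEquiv a) := fun a =>
    RootPairing.Hom.root_weightMap_apply D'.P D.P a h.toHom
  have hco : ∀ a, h.weightMap.dualMap (D.P.coroot a) = D'.P.coroot (h.indexEquiv.symm a) := fun a => by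
    have h1 := RootPairing.Hom.weight_coweight_transpose_apply D'.P D.P (D.P.coroot a) h.toHom
    have h2 := RootPairing.Hom.coroot_coweightMap_apply D'.P D.P a h.toHom
    refine LinearMap.ext fun x => ?_
    have h3 := LinearMap.congr_fun h1 x
    simp only [LinearMap.dualMap_apply] at h3
    rw [h2] at h3
    simpa [D.pairing_eq, D'.pairing_eq] using h3
  let Q : H82.R2.Iso.PMor D₁ D₁' := H82.R2.Iso.PMor.ofEquiv D.base D'.base hd hd' h.weightMap h.indexEquiv.symm
    (fun a => (hroot _).trans (congrArg D.P.root (h.indexEquiv.apply_symm_apply a)))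
    hco (fun a => ((hΔ (h.indexEquiv.symm a)).trans (Iff.of_eq (congrArg (· ∈ D.base.support) (h.indexEquiv.apply_symm_apply a)))).symm)
  have hco' : ∀ (a : D'.idx) (x : D.M), D'.P.coroot a (L.symm x) = D.P.coroot (h.indexEquiv a) x := fun a x => by
    have h1 := LinearMap.congr_fun (hco (h.indexEquiv a)) (L.symm x)
    rw [LinearMap.dualMap_apply, Equiv.symm_apply_apply] at h1
    exact h1.symm.trans (congrArg _ (L.apply_symm_apply x))
  let Q' : H82.R2.Iso.PMor D₁' D₁ := H82.R2.Iso.PMor.ofEquiv D'.base D.base hd' hd L.symm.toLinearMap h.indexEquiv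
    (fun a => L.injective ((L.apply_symm_apply (D.P.root (h.indexEquiv a))).trans (hroot a).symm))
    (fun a => LinearMap.ext fun x => hco' a x)
    hΔ
  have hL : ∀ x, h.weightMap (L.symm x) = x := L.apply_symm_apply
  obtain ⟨e, ⟨he, heT, heU⟩, huniq⟩ := H82.R2.Iso.existsUnique_iso Q Q' hL L.symm_apply_apply (fun _ => rfl)
    (fun _ => rfl) (fun a => h.indexEquiv.apply_symm_apply a) (fun a => h.indexEquiv.symm_apply_apply a) rfl rfl
  have hu : ∀ a ∈ D.base.support, D₁.u a = D.u a := fun a ha =>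
    H82.R2.Iso.u_rescale D.toSplitRed m hm (hm1 a ha)
  have hu' : ∀ a ∈ D'.base.support, D₁'.u a = D'.u a := fun a ha =>
    H82.R2.Iso.u_rescale D'.toSplitRed m' hm' (hm1' a ha)
  have hτ : H82.R2.Iso.τ Q ≫ D'.i =
      D.split.hom.hom.hom ≫ Red.DSmap S h.weightMap.toAddMonoidHom ≫ D'.split.inv.hom.hom ≫ D'.i :=
    (Category.assoc _ _ _).trans (congrArg _ (Category.assoc _ _ _))
  refine ⟨e, ⟨he, heT.trans hτ, fun a' ha' => ?_⟩, fun f ⟨hf, hfT, hfU⟩ => huniq f ⟨hf, hfT.trans hτ.symm, fun a ha => ?_⟩⟩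
  · have h1 := heU _ ((hΔ a').1 ha')
    rw [hu _ ((hΔ a').1 ha')] at h1
    refine h1.trans ?_
    change D₁'.u (h.indexEquiv.symm (h.indexEquiv a')) = D'.u a'
    rw [Equiv.symm_apply_apply]
    exact hu' a' ha'
  · obtain ⟨b, hb⟩ := h.indexEquiv.surjective a
    subst hb
    have hb' : b ∈ D'.base.support := (hΔ b).2 ha
    have h1 := ((congrArg (· ≫ f.hom) (hu _ ha)).trans (hfU b hb')).trans (hu' b hb').symm
    exact h1.trans (congrArg D₁'.u (h.indexEquiv.symm_apply_apply b).symm)

end Groth.Agent.S3004
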