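import Groth.Statements.S3005
import Groth.Agent.S3004
import Groth.Agent.H82.Roots.Base
import Groth.Agent.H82.Roots.Transport
import Groth.Agent.H82.Reduced.Main

set_option autoImplicit false
universe u
open CategoryTheory MonoidalCategory CartesianMonoidalCategory MonObj GrpObj AlgebraicGeometry
open Red

namespace Groth.Agent.S3005

/-- Let S be a scheme and G, G' two reductive S-groups each admitting a splitting (this prelude's
`Red.SplitRed`) whose root datum is isomorphic to a given root datum Q. Then G and G' are isomorphic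
as S-group schemes. -/
theorem result (S : Scheme.{u}) {ι' M' N' : Type} [AddCommGroup M'] [Module ℤ M'] [AddCommGroup N'] [Module ℤ N'] (Q : RootPairing ι' ℤ M' N') (G G' : Over S) [GrpObj G] [GrpObj G'] (hG : Red.IsSplitOfType Q G) (hG' : Red.IsSplitOfType Q G') : Nonempty (Grp.mk G ≅ Grp.mk G') := by
  rcases isEmpty_or_nonempty S with hS | hS
  · haveI : ∀ X : Over S, IsEmpty X.left := fun X => Function.isEmpty X.hom.base
    have hsub : ∀ (X Y : Over S) (f g : X ⟶ Y), f = g := fun X Y f g =>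
      Over.OverMorphism.ext (isInitialOfIsEmpty.hom_ext _ _)
    have hto : ∀ X Y : Over S, Nonempty (X ⟶ Y) := fun X Y =>
      ⟨Over.homMk (isInitialOfIsEmpty.to _) (isInitialOfIsEmpty.hom_ext _ _)⟩
    let e : G ≅ G' := ⟨(hto G G').some, (hto G' G).some, hsub _ _ _ _, hsub _ _ _ _⟩
    haveI : IsMonHom e.hom := ⟨hsub _ _ _ _, hsub _ _ _ _⟩
    exact ⟨Grp.mkIso' e⟩
  obtain ⟨D, ⟨eD⟩⟩ := hG
  obtain ⟨D', ⟨eD'⟩⟩ := hG'
  let h : RootPairing.Equiv D'.P D.P := (RootPairing.Equiv.symm D.P Q eD).comp eD'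
  haveI := Groth.Agent.H82.Reduced.isReduced D'
  obtain ⟨b'⟩ : Nonempty D'.P.Base := Groth.Agent.H82.Roots.nonempty_base
  obtain ⟨b, hb⟩ := Groth.Agent.H82.Roots.exists_base_of_equiv h b'
  obtain ⟨e, ⟨he, -, -⟩, -⟩ := Groth.Agent.S3004.result S G G' { D with base := b } { D' with base := b' } h hb
  haveI := he
  exact ⟨Grp.mkIso' e⟩

end Groth.Agent.S3005
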