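import Groth.Statements.S3014
import Groth.Agent.Lib.RedPts.AlgClosedDescend
import Mathlib.AlgebraicGeometry.ResidueField
import Mathlib.FieldTheory.IsAlgClosed.AlgebraicClosure

set_option autoImplicit false
universe u
open CategoryTheory MonoidalCategory CartesianMonoidalCategory MonObj GrpObj AlgebraicGeometry
open Red

namespace Groth.Agent.S3014

open Limits in
theorem aux {S S' : Scheme.{u}} (f : S' ⟶ S) (G G' : Over S) [GrpObj G] [GrpObj G']
    (E : Grp.mk (Red.bc f G) ≅ Grp.mk (Red.bc f G')) {k Ω : Type u} [Field k] [IsAlgClosed k] [Field Ω]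
    [Algebra k Ω] (pt : Spec (CommRingCat.of k) ⟶ S) (g : Spec (CommRingCat.of Ω) ⟶ S')
    (hcomm : Spec.map (CommRingCat.ofHom (algebraMap k Ω)) ≫ pt = g ≫ f)
    [IsAffine (Red.bc pt G).left] [IsAffine (Red.bc pt G').left]
    [LocallyOfFiniteType (Red.bc pt G).hom] [LocallyOfFiniteType (Red.bc pt G').hom] :
    Nonempty (Grp.mk (Red.bc pt G) ≅ Grp.mk (Red.bc pt G')) := by
  let a := Spec.map (CommRingCat.ofHom (algebraMap k Ω))
  let u : Red.bc f G ≅ Red.bc f G' := (Grp.forget _).mapIso E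
  haveI : IsMonHom u.hom := inferInstanceAs (IsMonHom E.hom.hom.hom)
  let c₁ := Groth.Agent.H69.GrpDescend.compIso a pt hcomm G
  let c₂ := Groth.Agent.H69.GrpDescend.compIso g f rfl G
  let c₃ := Groth.Agent.H69.GrpDescend.compIso g f rfl G'
  let c₄ := Groth.Agent.H69.GrpDescend.compIso a pt hcomm G'
  haveI : IsMonHom c₁.hom := Groth.Agent.Lib.RedPts.AlgClosedDescend.isMonHom_compIso _ _ _ G
  haveI : IsMonHom c₂.hom := Groth.Agent.Lib.RedPts.AlgClosedDescend.isMonHom_compIso _ _ _ G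
  haveI : IsMonHom c₃.hom := Groth.Agent.Lib.RedPts.AlgClosedDescend.isMonHom_compIso _ _ _ G'
  haveI : IsMonHom c₄.hom := Groth.Agent.Lib.RedPts.AlgClosedDescend.isMonHom_compIso _ _ _ G'
  haveI : IsMonHom c₂.inv := Groth.Agent.Lib.RedPts.AlgClosedDescend.isMonHom_inv c₂
  haveI : IsMonHom c₄.inv := Groth.Agent.Lib.RedPts.AlgClosedDescend.isMonHom_inv c₄
  haveI : IsMonHom ((Over.pullback g).map u.hom : Red.bc g (Red.bc f G) ⟶ Red.bc g (Red.bc f G')) :=
    Groth.Agent.Lib.RedPts.AlgClosedDescend.isMonHom_map g u.hom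
  let m := c₁ ≪≫ c₂.symm ≪≫ (Over.pullback g).mapIso u ≪≫ c₃ ≪≫ c₄.symm
  haveI : IsMonHom m.hom := by
    show IsMonHom (c₁.hom ≫ c₂.inv ≫ (Over.pullback g).map u.hom ≫ c₃.hom ≫ c₄.inv)
    infer_instance

  exact Groth.Agent.Lib.RedPts.AlgClosedDescend.nonempty_iso (Ω := Ω) (Red.bc pt G) (Red.bc pt G') m

/-- (i)⇒(ii): Let G and G' be reductive S-groups and f : S' → S a surjective morphism such that the base
changes of G and G' to S' are isomorphic as group schemes. Then for every s ∈ S the geometric fibres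
G_{s̄} and G'_{s̄} are isomorphic. -/
theorem result (S : Scheme.{u}) (G G' : Over S) [GrpObj G] [GrpObj G'] (hG : Red.IsReductive G) (hG' : Red.IsReductive G') (S' : Scheme.{u}) (f : S' ⟶ S) [Surjective f] (hiso : Nonempty (Grp.mk (Red.bc f G) ≅ Grp.mk (Red.bc f G'))) (s : S) : Nonempty (Grp.mk (Red.geomFibre s G) ≅ Grp.mk (Red.geomFibre s G')) := by
  obtain ⟨s', rfl⟩ := f.surjective s
  obtain ⟨E⟩ := hiso
  let K := S'.residueField s'
  let k₀ := S.residueField (f s')
  letI : Algebra k₀ K := (f.residueFieldMap s').hom.toAlgebra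
  let Ω := AlgebraicClosure K
  let σ : AlgebraicClosure k₀ →ₐ[k₀] Ω := IsAlgClosed.lift
  letI : Algebra (AlgebraicClosure k₀) Ω := σ.toRingHom.toAlgebra
  let a := Spec.map (CommRingCat.ofHom (algebraMap (AlgebraicClosure k₀) Ω))
  let g : Spec (CommRingCat.of Ω) ⟶ S' :=
    Spec.map (CommRingCat.ofHom (algebraMap K Ω)) ≫ S'.fromSpecResidueField s'
  have hcomm : a ≫ Red.geomPt (f s') = g ≫ f := by
    show Spec.map _ ≫ Spec.map _ ≫ _ = (Spec.map _ ≫ _) ≫ _
    rw [← Spec.map_comp_assoc, Category.assoc, ← Scheme.Hom.SpecMap_residueFieldMap_fromSpecResidueField,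
      ← Spec.map_comp_assoc]
    congr 2
    refine CommRingCat.hom_ext (RingHom.ext fun x => ?_)
    exact (σ.commutes x).trans (IsScalarTower.algebraMap_apply k₀ K Ω x)
  haveI : IsAffine (Red.geomFibre (f s') G).left := (hG.2.2 (f s')).1
  haveI : IsAffine (Red.geomFibre (f s') G').left := (hG'.2.2 (f s')).1
  haveI : Smooth (Red.geomFibre (f s') G).hom := (hG.2.2 (f s')).2.1
  haveI : Smooth (Red.geomFibre (f s') G').hom := (hG'.2.2 (f s')).2.1
  exact aux f G G' E (Ω := Ω) (Red.geomPt (f s')) g hcomm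

end Groth.Agent.S3014
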