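import Groth.Statements.S3015
import Groth.Agent.Lib.ActSep.DensePair
import Groth.Agent.H46.UnibranchSch

set_option autoImplicit false
universe u
open CategoryTheory MonoidalCategory CartesianMonoidalCategory MonObj GrpObj AlgebraicGeometry TensorProduct
open SGA3

namespace Groth.Agent.S3015

/-- Let A be a local artinian ring, G a group scheme over A, and U, V dense open subsets of G. Then U ·
V, the image of U ×_A V under the multiplication, is the whole underlying space of G: every point of
G is the product of a point of G ×_A G whose two projections lie in U and V. -/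
theorem result (A : Type u) [CommRing A] [IsArtinianRing A] [IsLocalRing A]
    (G : Over (Spec (CommRingCat.of A))) [GrpObj G] (U V : G.left.Opens)
    (hU : Dense (U : Set G.left)) (hV : Dense (V : Set G.left)) (g : G.left) :
    ∃ z : ↥(G ⊗ G).left, (fst G G).left.base z ∈ U ∧ (snd G G).left.base z ∈ V ∧ μ[G].left.base z = g := by
  let r : Spec (G.left.residueField g) ⟶ Spec (CommRingCat.of A) := G.left.fromSpecResidueField g ≫ G.hom
  let T : Over (Spec (CommRingCat.of A)) := Over.mk r
  let gT : T ⟶ G := Over.homMk (G.left.fromSpecResidueField g) rfl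
  have : UniversallyOpen r := by
    let c := Spec.map (CommRingCat.ofHom (IsLocalRing.residue A))
    have : IsClosedImmersion c := IsClosedImmersion.spec_of_surjective _ IsLocalRing.residue_surjective
    have : Surjective c :=
      ⟨fun x => ⟨IsLocalRing.closedPoint (IsLocalRing.ResidueField A),
        Subsingleton.elim (α := PrimeSpectrum A) _ _⟩⟩
    have := Groth.Agent.H46.UnibranchSch.universallyOpen_of_surjective_isClosedImmersion c
    obtain ⟨a, ha⟩ : ∃ a : Spec (G.left.residueField g) ⟶ Spec (CommRingCat.of (IsLocalRing.ResidueField A)), a ≫ c = r := by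
      obtain ⟨φ, hφ⟩ := Spec.map_surjective r
      have hk : ∀ m ∈ IsLocalRing.maximalIdeal A, φ.hom m = 0 := fun m hm => by
        have hp : RingHom.ker φ.hom = IsLocalRing.maximalIdeal A := by
          have : (RingHom.ker φ.hom).IsPrime := RingHom.ker_isPrime _
          exact IsLocalRing.eq_maximalIdeal (IsArtinianRing.isMaximal_of_isPrime _)
        exact RingHom.mem_ker.1 (hp.symm ▸ hm)
      refine ⟨Spec.map (CommRingCat.ofHom (Ideal.Quotient.lift _ φ.hom hk)), ?_⟩
      rw [← hφ, ← Spec.map_comp]
      congr 1
    have : Subsingleton ↥(Spec (CommRingCat.of (IsLocalRing.ResidueField A))) :=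
      inferInstanceAs (Subsingleton (PrimeSpectrum _))
    rw [← ha]
    infer_instance
  have : UniversallyOpen (fst G T).left :=
    inferInstanceAs (UniversallyOpen (Limits.pullback.fst G.hom r))
  obtain ⟨φ, hφ⟩ := Groth.Agent.Lib.ActSep.exists_flip G T gT
  have hU' := hU.preimage (fst G T).left.isOpenMap
  have hV' := (hV.preimage (fst G T).left.isOpenMap).preimage φ.isOpenMap
  have hne : Nonempty ↥(G ⊗ T).left :=
    ⟨(lift gT (𝟙 T)).left (IsLocalRing.closedPoint (G.left.residueField g))⟩
  obtain ⟨x, hx⟩ := (hU'.inter_of_isOpen_left hV' (U.2.preimage (fst G T).left.continuous)).nonempty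
  obtain ⟨z, h1, h2, h3⟩ := hφ x
  refine ⟨z, ?_, ?_, ?_⟩
  · show (fst G G).left z ∈ U
    rw [h1]; exact hx.1
  · show (snd G G).left z ∈ V
    rw [h2]; exact hx.2
  · show μ[G].left z = g
    rw [h3]
    exact G.left.fromSpecResidueField_apply g _

end Groth.Agent.S3015
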