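import Groth.Statements.S3016
import Groth.Agent.Lib.ActSep.GrpDim

set_option autoImplicit false
universe u
open CategoryTheory MonoidalCategory CartesianMonoidalCategory MonObj GrpObj AlgebraicGeometry TensorProduct
open SGA3

namespace Groth.Agent.S3016

open Groth.Agent.Lib Groth.Agent.Lib.ActSep Groth.Agent.Lib.GrpSch Groth.Agent.Lib.GrpQ.MonoClosed

/-- Let A be a local artinian ring and u : G → H a quasi-compact homomorphism between group schemes
locally of finite type over A. Then the image u(G) is a closed subset of H, and dim G = dim u(G) +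
dim Ker u (dimensions of the underlying topological spaces; Ker u is the fibre of u over the unit
section). -/
theorem result (A : Type u) [CommRing A] [IsArtinianRing A] [IsLocalRing A]
    (G H : Over (Spec (CommRingCat.of A))) [GrpObj G] [GrpObj H] [LocallyOfFiniteType G.hom] [LocallyOfFiniteType H.hom]
    (u : G ⟶ H) [IsMonHom u] [QuasiCompact u.left] :
    IsClosed (Set.range u.left.base) ∧
    topologicalKrullDim G.left =
      topologicalKrullDim (Set.range u.left.base) +
        topologicalKrullDim ↥(Limits.pullback u.left (η[H] : 𝟙_ (Over (Spec (CommRingCat.of A))) ⟶ H).left) := by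
  let t := geomPt A
  let K := AlgebraicClosure (IsLocalRing.ResidueField A)
  have : LocallyOfFiniteType ((Over.pullback t).obj G).hom :=
    bc_hom_of (P := @LocallyOfFiniteType) t G ‹_›
  have : LocallyOfFiniteType ((Over.pullback t).obj H).hom :=
    bc_hom_of (P := @LocallyOfFiniteType) t H ‹_›
  have : QuasiCompact ((Over.pullback t).map u).left := bc_map_left_of (P := @QuasiCompact) t u ‹_›
  let := ((Over.pullback t).mapGrp.obj ⟨G⟩).grp
  let := ((Over.pullback t).mapGrp.obj ⟨H⟩).grp
  have : IsMonHom ((Over.pullback t).map u) := inferInstance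
  have : IsIntegralHom (bcProj t H) := bcProj_of (P := @IsIntegralHom) t H isIntegralHom_geomPt
  have : IsIntegralHom (bcProj t G) := bcProj_of (P := @IsIntegralHom) t G isIntegralHom_geomPt
  have : Surjective (bcProj t G) := bcProj_of (P := @Surjective) t G surjective_geomPt
  have : Surjective (bcProj t H) := bcProj_of (P := @Surjective) t H surjective_geomPt
  let uT := ((Over.pullback t).map u).left
  have hT : IsClosed (Set.range uT) := isClosed_range (k := K) ((Over.pullback t).map u)
  have hproj : ∀ z, bcProj t H (uT z) = u.left (bcProj t G z) := fun z => by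
    show bcProj t H (((Over.pullback t).map u).left z) = _
    rw [← Scheme.Hom.comp_apply, bc_map_proj, Scheme.Hom.comp_apply]
  have hrange : Set.range u.left = bcProj t H '' Set.range uT := by
    ext y
    constructor
    · rintro ⟨x, rfl⟩
      obtain ⟨z, rfl⟩ := (bcProj t G).surjective x
      exact ⟨_, ⟨z, rfl⟩, hproj z⟩
    · rintro ⟨_, ⟨z, rfl⟩, rfl⟩
      exact ⟨_, (hproj z).symm⟩
  have hcl : IsClosed (Set.range u.left) := hrange ▸ (bcProj t H).isClosedMap _ hT
  refine ⟨hcl, ?_⟩
  have hpre : bcProj t H ⁻¹' Set.range u.left = Set.range uT := by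
    refine Set.Subset.antisymm (fun z hz => ?_) (fun z hz => ?_)
    · obtain ⟨x, hx⟩ := hz
      obtain ⟨o, ho, -⟩ := Scheme.exists_preimage_of_isPullback (isPullback_bc_map t u) z x hx.symm
      exact ⟨o, ho⟩
    · obtain ⟨o, rfl⟩ := hz
      exact ⟨_, (hproj o).symm⟩
  -- the neutral point
  let pt : ↥(𝟙_ (Over (Spec (CommRingCat.of A)))).left := IsLocalRing.closedPoint A
  let ptT : ↥(𝟙_ (Over (Spec (CommRingCat.of K)))).left := IsLocalRing.closedPoint K
  let e := η[H].left pt
  let gT := η[(Over.pullback t).obj G].left ptT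
  have hsub : Subsingleton ↥(𝟙_ (Over (Spec (CommRingCat.of A)))).left :=
    ⟨fun a b => Subsingleton.elim (α := PrimeSpectrum A) a b⟩
  have he : Set.range η[H].left = {e} := by
    ext y
    exact ⟨fun ⟨q, hq⟩ => hq ▸ congrArg η[H].left (Subsingleton.elim q pt), fun h => ⟨pt, h.symm⟩⟩
  have heT : bcProj t H ⁻¹' {e} = {uT gT} := by
    have hsubT : Subsingleton ↥((Over.pullback t).obj (𝟙_ (Over (Spec (CommRingCat.of A))))).left := by
      have : IsIso (Red.bc t (𝟙_ (Over (Spec (CommRingCat.of A))))).hom :=
        bc_hom_of (P := MorphismProperty.isomorphisms Scheme.{u}) t (𝟙_ _) (by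
          show IsIso (𝟙 (Spec (CommRingCat.of A))); infer_instance)
      exact (Red.bc t (𝟙_ (Over (Spec (CommRingCat.of A))))).hom.homeomorph.injective.subsingleton
    have h1 : bcProj t H ⁻¹' Set.range η[H].left = Set.range ((Over.pullback t).map η[H]).left := by
      refine Set.Subset.antisymm (fun z hz => ?_) (fun z hz => ?_)
      · obtain ⟨x, hx⟩ := hz
        obtain ⟨o, ho, -⟩ := Scheme.exists_preimage_of_isPullback (isPullback_bc_map t η[H]) z x hx.symm
        exact ⟨o, ho⟩
      · obtain ⟨o, rfl⟩ := hz
        refine ⟨bcProj t _ o, ?_⟩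
        rw [← Scheme.Hom.comp_apply, ← Scheme.Hom.comp_apply, bc_map_proj]
    have h2 : ∃ o, ((Over.pullback t).map η[H]).left o = uT gT := by
      have h3 : η[(Over.pullback t).obj G] ≫ (Over.pullback t).map u = η[(Over.pullback t).obj H] :=
        IsMonHom.one_hom _
      have h4 : η[(Over.pullback t).obj H] =
          Functor.LaxMonoidal.ε (Over.pullback t) ≫ (Over.pullback t).map η[H] := rfl
      refine ⟨(Functor.LaxMonoidal.ε (Over.pullback t)).left ptT, ?_⟩
      show _ = ((Over.pullback t).map u).left (η[(Over.pullback t).obj G].left ptT)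
      rw [← Scheme.Hom.comp_apply, ← Scheme.Hom.comp_apply, ← Over.comp_left, ← Over.comp_left, h3, h4]
    rw [← he, h1]
    obtain ⟨o, ho⟩ := h2
    ext y
    exact ⟨fun ⟨q, hq⟩ => hq ▸ ho ▸ congrArg _ (Subsingleton.elim q o), fun h => ⟨o, ho.trans h.symm⟩⟩
  -- the kernel
  have : IsSeparated H.hom := isSeparated_of_artinian
  have hη : η[H].left ≫ H.hom = 𝟙 (Spec (CommRingCat.of A)) := Over.w η[H]
  have h1 : IsClosedImmersion (𝟙 (Spec (CommRingCat.of A))) := inferInstance
  have : IsClosedImmersion (η[H].left ≫ H.hom) := by rw [hη]; exact h1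
  have : IsClosedImmersion η[H].left := IsClosedImmersion.of_comp η[H].left H.hom
  have hker : IsClosed (u.left ⁻¹' {e}) := (he ▸ η[H].left.isClosedEmbedding.isClosed_range).preimage u.left.continuous
  have hk : topologicalKrullDim ↥(Limits.pullback u.left η[H].left) = topologicalKrullDim ↥(u.left ⁻¹' {e}) := by
    let j := Limits.pullback.fst u.left η[H].left
    have hj : Set.range j = u.left ⁻¹' {e} := by
      show Set.range (Limits.pullback.fst u.left η[H].left) = _
      rw [Scheme.Pullback.range_fst, he]
    rw [← hj]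
    exact j.isEmbedding.toHomeomorph.isHomeomorph.topologicalKrullDim_eq
  have hG : topologicalKrullDim ↥((Over.pullback t).obj G).left = topologicalKrullDim ↥G.left := by
    have h := topologicalKrullDim_preimage_of_integral_surjective (bcProj t G) isClosed_univ
    rw [Set.preimage_univ] at h
    rw [← (Homeomorph.Set.univ ↥G.left).isHomeomorph.topologicalKrullDim_eq, ← h]
    exact ((Homeomorph.Set.univ _).isHomeomorph.topologicalKrullDim_eq).symm
  rw [hk, ← hG, ← topologicalKrullDim_preimage_of_integral_surjective (bcProj t H) hcl,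
    ← topologicalKrullDim_preimage_of_integral_surjective (bcProj t G) hker, hpre]
  have hset : bcProj t G ⁻¹' (u.left ⁻¹' {e}) = uT ⁻¹' {uT gT} := by
    rw [← heT]
    ext z
    show u.left (bcProj t G z) ∈ ({e} : Set H.left) ↔ bcProj t H (uT z) ∈ ({e} : Set H.left)
    rw [hproj]
  rw [hset]
  exact dim_eq_add (k := K) ((Over.pullback t).map u)

end Groth.Agent.S3016
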