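import Groth.Statements.S3019
import Groth.Agent.H66.Chevalley
import Groth.Agent.H66.MatPoints
-- import your own Groth.Agent.* helpers here

set_option autoImplicit false
universe u
open CategoryTheory MonoidalCategory CartesianMonoidalCategory MonObj GrpObj AlgebraicGeometry TensorProduct
open SGA3

namespace Groth.Agent.S3019

/-- Let A be a finitely generated commutative Hopf algebra over a field k (an affine algebraic k-group
G) and I a Hopf ideal (a closed subgroup scheme H). Then there are a finite-dimensional A-comodule V
and a nonzero vector v ∈ V such that, for every k-algebra R, an R-point of G kills I exactly when it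
carries v to an R-multiple of v: H is the stabilizer of the line through v. -/
theorem result (k : Type u) [Field k] (A : Type u) [CommRing A] [HopfAlgebra k A]
    [Algebra.FiniteType k A] (I : Ideal A) [I.IsHopfIdeal k] :
    ∃ (V : Type u) (_ : AddCommGroup V) (_ : Module k V) (_ : HopfRep.Comod k A V) (_ : Module.Finite k V) (v : V),
      v ≠ 0 ∧ Dyn.Represents k A I (fun R _ _ g => SGA3.StabilizesLine k A v R g) := by
  obtain ⟨J', _, _, P, d, s, hP, rfl⟩ := H66.Chevalley.exists_data (k := k) I
  exact ⟨(Fin d → J') → k, inferInstance, inferInstance, H66.MatComod.comod (H66.MatComod.isMat_pw hP d),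
    inferInstance, H66.Stab.lineVec k s, H66.Stab.lineVec_ne_zero s, H66.Stab.represents_line s hP⟩

end Groth.Agent.S3019
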