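import Groth.Statements.S3024
import Groth.Agent.Lib.ActSep.ImageSub
import Groth.Agent.Lib.ActSep.QCClosed

set_option autoImplicit false
universe u
open CategoryTheory MonoidalCategory CartesianMonoidalCategory MonObj GrpObj AlgebraicGeometry TensorProduct
open SGA3

namespace Groth.Agent.S3024

open Groth.Agent.Lib.ActSep

/-- Let f : H → G be a quasi-compact homomorphism of group schemes over a field k. Then f factors as a
homomorphism f' : H → H' followed by a homomorphism i : H' → G which is a closed immersion (H' is
the schematic image of f, a closed subgroup scheme of G), with f' schematically dominant,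
quasi-compact and surjective. -/
theorem result (k : Type u) [Field k] (H G : Over (Spec (CommRingCat.of k))) [GrpObj H] [GrpObj G]
    (f : H ⟶ G) [IsMonHom f] [QuasiCompact f.left] :
    ∃ (H' : Over (Spec (CommRingCat.of k))) (_ : GrpObj H') (i : H' ⟶ G) (f' : H ⟶ H'),
      IsMonHom i ∧ IsMonHom f' ∧ f' ≫ i = f ∧ IsClosedImmersion i.left ∧
      f'.left.ker = ⊥ ∧ QuasiCompact f'.left ∧ Surjective f'.left := by
  obtain ⟨H', hH', i, f', hi, hf', hf, hc, hd, hq, hr⟩ := exists_image_subgroup f
  refine ⟨H', hH', i, f', hi, hf', hf, hc, hd.ker_eq_bot, hq, ⟨fun y => ?_⟩⟩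
  have hy : i.left y ∈ Set.range f.left := by
    rw [← (isClosed_range_of_quasiCompact f).closure_eq, ← hr]
    exact ⟨y, rfl⟩
  obtain ⟨x, hx⟩ := hy
  refine ⟨x, i.left.isEmbedding.injective ?_⟩
  rw [← Scheme.Hom.comp_apply, ← Over.comp_left, hf]
  exact hx

end Groth.Agent.S3024
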