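import Groth.Statements.S3027
import Groth.Agent.Lib.GrpQ.AffKer
import Groth.Agent.S7519


set_option autoImplicit false
universe u
open CategoryTheory MonoidalCategory CartesianMonoidalCategory MonObj GrpObj AlgebraicGeometry TensorProduct
open SGA3

namespace Groth.Agent.S3027

/-- Let G be a connected group scheme of finite type over a field k. Then the centre of G (the
subfunctor of points g such that g commutes with every point of G after every base change) is
represented by a closed subgroup scheme Z of G, and the quotient G/Z is an affine k-group: there are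
an affine group scheme Q and a faithfully flat homomorphism q : G → Q with kernel Z. -/
theorem result (k : Type u) [Field k] (G : Over (Spec (CommRingCat.of k))) [GrpObj G]
    [LocallyOfFiniteType G.hom] [QuasiCompact G.hom] [ConnectedSpace G.left] :
    ∃ (Z : Over (Spec (CommRingCat.of k))) (_ : GrpObj Z) (i : Z ⟶ G), IsMonHom i ∧ IsClosedImmersion i.left ∧
      (∀ (T : Over (Spec (CommRingCat.of k))) (g : T ⟶ G),
        (∃ z : T ⟶ Z, z ≫ i = g) ↔ ∀ (T' : Over (Spec (CommRingCat.of k))) (t : T' ⟶ T) (h : T' ⟶ G), (t ≫ g) * h = h * (t ≫ g)) ∧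
      ∃ (Q : Over (Spec (CommRingCat.of k))) (_ : GrpObj Q) (q : G ⟶ Q), IsMonHom q ∧ IsAffine Q.left ∧ LocallyOfFiniteType Q.hom ∧
        Flat q.left ∧ Surjective q.left ∧ AlgGrp.IsKernel i q := by
  obtain ⟨Z, i, hi, hZ⟩ := Groth.Agent.S7519.result k G
  have : Mono i := Groth.Agent.Lib.GrpQ.mono_of_left i
  have hc : ∀ {T T' : Over (Spec (CommRingCat.of k))} (z : T ⟶ Z) (x : T' ⟶ T) (h : T' ⟶ G),
      (x ≫ z ≫ i) * h = h * (x ≫ z ≫ i) := fun z x h => (hZ _ (z ≫ i)).1 ⟨z, rfl⟩ _ x h
  obtain ⟨_, hmon⟩ := Groth.Agent.Lib.GrpQ.InfSub.exists_grpObj_of_mono i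
    ((hZ _ η[G]).2 fun T' x h => by
      rw [show η[G] = (1 : 𝟙_ _ ⟶ G) by rw [Hom.one_def, toUnit_unique (toUnit _) (𝟙 _), Category.id_comp],
        MonObj.comp_one, _root_.one_mul, _root_.mul_one])
    ((hZ _ ((fst Z Z ≫ i) * (snd Z Z ≫ i))).2 fun T' x h =>
      Commute.mul_left (a := x ≫ fst Z Z ≫ i) (b := x ≫ snd Z Z ≫ i) (hc (fst Z Z) x h) (hc (snd Z Z) x h) |>.eq
        |> fun e => by rw [MonObj.comp_mul]; exact e)
    ((hZ _ i⁻¹).2 fun T' x h => by
      rw [GrpObj.comp_inv]
      exact (Commute.inv_left (show Commute (x ≫ i) h by simpa [Commute, SemiconjBy] using hc (𝟙 Z) x h)).eq)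
  refine ⟨Z, inferInstance, i, hmon, hi, hZ, ?_⟩
  exact Groth.Agent.Lib.GrpQ.AffKer.exists_quotient i (fun T g n => ⟨n, by
      have h := hc n (𝟙 T) g
      simp only [Category.id_comp] at h
      rw [← h, mul_inv_cancel_right]⟩)
    fun T g hg => (hZ T g).2 fun T' t h => by
      simpa using Groth.Agent.Lib.GrpQ.AffKer.commute_of_killed (𝟙 G) (t ≫ g) (Groth.Agent.Lib.GrpQ.AffKer.killed_comp hg t) h

end Groth.Agent.S3027
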