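import Groth.Statements.S3033
import Groth.Agent.Lib.ActSep.HomogDim
-- import your own Groth.Agent.* helpers here

set_option autoImplicit false
set_option backward.isDefEq.respectTransparency false
set_option backward.isDefEq.respectTransparency.types false
universe u
open CategoryTheory MonoidalCategory CartesianMonoidalCategory MonObj GrpObj AlgebraicGeometry TensorProduct
open SGA3

namespace Groth.Agent.S3033

/-- Let A be a local artinian ring and G a group scheme locally of finite type over A acting on a
nonempty A-scheme X locally of finite type, such that the morphism G ×_A X → X ×_A X, (g, x) ↦ (g·x,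
x), is surjective. Then all connected components of X have the same dimension. The published
statement also asserts that the connected components are irreducible; that is not asserted here (it
is stated separately). -/
theorem result (A : Type u) [CommRing A] [IsArtinianRing A] [IsLocalRing A]
    (G X : Over (Spec (CommRingCat.of A))) [GrpObj G] [LocallyOfFiniteType G.hom] [LocallyOfFiniteType X.hom] [Nonempty X.left]
    (a : AlgGrp.Action G X) (hΦ : Surjective (lift a.act (snd G X)).left) (x y : X.left) :
    topologicalKrullDim ↥(connectedComponent x) = topologicalKrullDim ↥(connectedComponent y) := by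
  let k := IsLocalRing.ResidueField A
  let i : Spec (CommRingCat.of k) ⟶ Spec (CommRingCat.of A) := Spec.map (CommRingCat.ofHom (IsLocalRing.residue A))
  have : IsClosedImmersion i := IsClosedImmersion.spec_of_surjective _ IsLocalRing.residue_surjective
  have : Surjective i := ⟨fun x => ⟨IsLocalRing.closedPoint k, Subsingleton.elim (α := PrimeSpectrum A) _ _⟩⟩
  have : LocallyOfFiniteType (Red.bc i G).hom := MorphismProperty.pullback_snd (P := @LocallyOfFiniteType) _ _ ‹_›
  have : LocallyOfFiniteType (Red.bc i X).hom := MorphismProperty.pullback_snd (P := @LocallyOfFiniteType) _ _ ‹_›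
  have : IsClosedImmersion (Limits.pullback.fst X.hom i) := MorphismProperty.pullback_fst (P := @IsClosedImmersion) _ _ ‹_›
  let h : ↥(Red.bc i X).left ≃ₜ ↥X.left :=
    (Limits.pullback.fst X.hom i).isClosedEmbedding.toIsEmbedding.toHomeomorphOfSurjective (Limits.pullback.fst X.hom i).surjective
  have key : ∀ z : (Red.bc i X).left, h '' connectedComponent z = connectedComponent (h z) := fun z => by
    rw [← connectedComponentIn_univ, h.image_connectedComponentIn (Set.mem_univ z), Set.image_univ,
      EquivLike.range_eq_univ, connectedComponentIn_univ]
  have hd : ∀ v : X.left, topologicalKrullDim ↥(connectedComponent v) =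
      topologicalKrullDim ↥(connectedComponent (h.symm v)) := fun v => by
    conv_lhs => rw [← h.apply_symm_apply v, ← key]
    exact (IsHomeomorph.topologicalKrullDim_eq _ (h.image (connectedComponent (h.symm v))).isHomeomorph).symm
  rw [hd x, hd y]
  exact Groth.Agent.Lib.ActSep.HomogX.topologicalKrullDim_connectedComponent
    (Groth.Agent.Lib.ActSep.HomogX.bcAct i a) (Groth.Agent.Lib.ActSep.HomogX.surjective_bcAct i a hΦ) _ _

end Groth.Agent.S3033
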