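import Groth.Statements.S3034
import Groth.Agent.Lib.GrpQ.FfMonoGrp
import Groth.Agent.Lib.SpHomog.ArtQuot

set_option autoImplicit false
universe u
open CategoryTheory MonoidalCategory CartesianMonoidalCategory MonObj GrpObj AlgebraicGeometry TensorProduct
open SGA3

namespace Groth.Agent.S3034

/-- Let A be a local artinian ring and u : G → H a quasi-compact homomorphism between group schemes
locally of finite type over A, with G flat over A and the kernel of u flat over A. Then u factors as
a homomorphism p : G → C which is faithfully flat and locally of finite presentation followed by a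
homomorphism i : C → H which is a closed immersion. (Stated here for G flat over A; the published
statement also covers non-flat G.) -/
theorem result (A : Type u) [CommRing A] [IsArtinianRing A] [IsLocalRing A]
    (G H : Over (Spec (CommRingCat.of A))) [GrpObj G] [GrpObj H] [LocallyOfFiniteType G.hom] [LocallyOfFiniteType H.hom]
    [Flat G.hom] (u : G ⟶ H) [IsMonHom u] [QuasiCompact u.left]
    (hN : Flat (Limits.pullback.snd u.left (η[H] : 𝟙_ (Over (Spec (CommRingCat.of A))) ⟶ H).left)) :
    ∃ (C : Over (Spec (CommRingCat.of A))) (_ : GrpObj C) (p : G ⟶ C) (i : C ⟶ H), IsMonHom p ∧ IsMonHom i ∧ p ≫ i = u ∧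
      Flat p.left ∧ Surjective p.left ∧ LocallyOfFinitePresentation p.left ∧ IsClosedImmersion i.left := by
  haveI : LocallyOfFinitePresentation G.hom := LocallyOfFinitePresentation.iff_locallyOfFiniteType.2 ‹_›
  let k : Limits.pullback u η[H] ⟶ G := Limits.pullback.fst u η[H]
  have hk : AlgGrp.IsKernel k u := by
    have h := IsPullback.of_hasPullback u η[H]
    rwa [toUnit_unique (Limits.pullback.snd u η[H]) (toUnit _)] at h
  have hflat : Flat (Limits.pullback u η[H]).hom := by
    have sq := (IsPullback.of_hasPullback u η[H]).map (Over.forget (Spec (CommRingCat.of A)))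
    have h : Flat (Limits.pullback.snd u η[H]).left := by
      have e : sq.isoPullback.hom ≫ Limits.pullback.snd u.left (η[H]).left = (Limits.pullback.snd u η[H]).left :=
        sq.isoPullback_hom_snd
      rw [← e]
      haveI : MorphismProperty.RespectsIso (@Flat : MorphismProperty Scheme.{u}) := MorphismProperty.IsStableUnderBaseChange.respectsIso
      exact (MorphismProperty.cancel_left_of_respectsIso (@Flat : MorphismProperty Scheme.{u}) sq.isoPullback.hom _).2 hN
    rw [← Over.w (Limits.pullback.snd u η[H])]
    haveI : Flat (𝟙_ (Over (Spec (CommRingCat.of A)))).hom := inferInstanceAs (Flat (𝟙 (Spec (CommRingCat.of A))))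
    infer_instance
  obtain ⟨C, gC, p, i, hp, hi, hpi, hs, hf, hl, hm, hC, -, -⟩ :=
    Groth.Agent.Lib.GrpQ.FfMono.exists_quot_kernel u k hk hflat (Or.inl ‹_›)
  refine ⟨C, gC, p, i, hp, hi, hpi, hf, hs, hl, ?_⟩
  haveI := hm; haveI := hs; haveI := hi; haveI := hC
  haveI : QuasiCompact i.left := by
    haveI : QuasiCompact (p.left ≫ i.left) := by rw [← Over.comp_left, hpi]; infer_instance
    refine ⟨fun U hU hU' => ?_⟩
    rw [← Set.image_preimage_eq (i.left ⁻¹' U) p.left.surjective, ← Set.preimage_comp]
    exact (QuasiCompact.isCompact_preimage (f := p.left ≫ i.left) U hU hU').image p.left.continuous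
  exact Groth.Agent.Lib.SpHomog.isClosedImmersion_of_mono_artinian i

end Groth.Agent.S3034
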