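import Groth.Statements.S3035
import Groth.Agent.Lib.ActSep.GrpProper
import Groth.Agent.Lib.ActSep.KerPair
import Groth.Agent.Lib.ActSep.GrpArt

set_option autoImplicit false
universe u
open CategoryTheory MonoidalCategory CartesianMonoidalCategory MonObj GrpObj AlgebraicGeometry TensorProduct
open SGA3

namespace Groth.Agent.S3035

open Groth.Agent.Lib.ActSep Groth.Agent.Lib.GrpSch

/-- (i) ⟺ (iii): let A be a local artinian ring and u : G → H a quasi-compact homomorphism between group
schemes locally of finite type over A. Then u is proper if and only if the kernel of u (the fibre of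
u over the unit section) is proper over A. -/
theorem result (A : Type u) [CommRing A] [IsArtinianRing A] [IsLocalRing A]
    (G H : Over (Spec (CommRingCat.of A))) [GrpObj G] [GrpObj H] [LocallyOfFiniteType G.hom] [LocallyOfFiniteType H.hom]
    (u : G ⟶ H) [IsMonHom u] [QuasiCompact u.left] :
    IsProper u.left ↔ IsProper (Limits.pullback.snd u.left (η[H] : 𝟙_ (Over (Spec (CommRingCat.of A))) ⟶ H).left) := by
  refine ⟨fun h => MorphismProperty.pullback_snd _ _ h, fun h => ?_⟩
  have hk : UniversallyClosed (Limits.pullback.snd u.left u.left) :=
    snd_kernelPair_of_ker (P := @UniversallyClosed) u h.toUniversallyClosed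
  let t := geomPt A
  have : LocallyOfFiniteType ((Over.pullback t).obj G).hom :=
    bc_hom_of (P := @LocallyOfFiniteType) t G ‹_›
  have : LocallyOfFiniteType ((Over.pullback t).obj H).hom :=
    bc_hom_of (P := @LocallyOfFiniteType) t H ‹_›
  have : QuasiCompact ((Over.pullback t).map u).left := bc_map_left_of (P := @QuasiCompact) t u ‹_›
  let := ((Over.pullback t).mapGrp.obj ⟨G⟩).grp
  let := ((Over.pullback t).mapGrp.obj ⟨H⟩).grp
  have : IsMonHom ((Over.pullback t).map u) := inferInstance
  have : UniversallyClosed ((Over.pullback t).map u).left :=
    universallyClosed_of_kernelPair (G := (Over.pullback t).obj G) (H := (Over.pullback t).obj H) ((Over.pullback t).map u)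
      (kernelPair_of_isPullback (P := @UniversallyClosed) (isPullback_bc_map t u).flip hk)
  have : IsIntegralHom (bcProj t H) := bcProj_of (P := @IsIntegralHom) t H isIntegralHom_geomPt
  have : Surjective (bcProj t G) := bcProj_of (P := @Surjective) t G surjective_geomPt
  have : UniversallyClosed (bcProj t G ≫ u.left) := by rw [← bc_map_proj]; infer_instance
  have : UniversallyClosed u.left := UniversallyClosed.of_comp_surjective (bcProj t G) u.left
  have : LocallyOfFiniteType (u.left ≫ H.hom) := by rw [Over.w]; infer_instance
  have : LocallyOfFiniteType u.left := locallyOfFiniteType_of_comp u.left H.hom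
  have : IsSeparated (u.left ≫ H.hom) := by rw [Over.w]; exact isSeparated_of_artinian
  have : IsSeparated u.left := IsSeparated.of_comp u.left H.hom
  exact {}

end Groth.Agent.S3035
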