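import Groth.Statements.S3036
import Groth.Agent.Lib.GrpQ.MonoClosed


set_option autoImplicit false
universe u
open CategoryTheory MonoidalCategory CartesianMonoidalCategory MonObj GrpObj AlgebraicGeometry TensorProduct
open SGA3

namespace Groth.Agent.S3036

/-- Let A be a local artinian ring and u : G → H a homomorphism between group schemes locally of finite
type over A which is a quasi-compact monomorphism. Then u is a closed immersion. -/
theorem result (A : Type u) [CommRing A] [IsArtinianRing A] [IsLocalRing A]
    (G H : Over (Spec (CommRingCat.of A))) [GrpObj G] [GrpObj H] [LocallyOfFiniteType G.hom] [LocallyOfFiniteType H.hom]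
    (u : G ⟶ H) [IsMonHom u] [Mono u] [QuasiCompact u.left] : IsClosedImmersion u.left := by
  let r : Spec (CommRingCat.of (IsLocalRing.ResidueField A)) ⟶ Spec (CommRingCat.of A) :=
    Spec.map (CommRingCat.ofHom (IsLocalRing.residue A))
  have : IsClosedImmersion r := IsClosedImmersion.spec_of_surjective _ (IsLocalRing.residue_surjective)
  have : Surjective r := ⟨fun x => ⟨IsLocalRing.closedPoint (IsLocalRing.ResidueField A),
    Subsingleton.elim (α := PrimeSpectrum A) _ _⟩⟩
  have : LocallyOfFiniteType (Red.bc r G).hom :=
    Groth.Agent.Lib.GrpSch.bc_hom_of (P := @LocallyOfFiniteType) r G ‹_›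
  have : LocallyOfFiniteType (Red.bc r H).hom :=
    Groth.Agent.Lib.GrpSch.bc_hom_of (P := @LocallyOfFiniteType) r H ‹_›
  have : QuasiCompact ((Over.pullback r).map u).left :=
    Groth.Agent.Lib.GrpSch.bc_map_left_of (P := @QuasiCompact) r u ‹_›
  have : Mono ((Over.pullback r).map u) := inferInstance
  have : IsClosedImmersion ((Over.pullback r).map u).left :=
    Groth.Agent.Lib.GrpQ.MonoClosed.isClosedImmersion_of_mono ((Over.pullback r).map u)
  have : IsClosedImmersion (Groth.Agent.Lib.GrpSch.bcProj r H) :=
    Groth.Agent.Lib.GrpSch.bcProj_of (P := @IsClosedImmersion) r H ‹_›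
  have : Surjective (Groth.Agent.Lib.GrpSch.bcProj r G) :=
    Groth.Agent.Lib.GrpSch.bcProj_of (P := @Surjective) r G ‹_›
  have : UniversallyClosed (Groth.Agent.Lib.GrpSch.bcProj r G ≫ u.left) := by
    rw [← Groth.Agent.Lib.GrpSch.bc_map_proj]; infer_instance
  have : UniversallyClosed u.left := UniversallyClosed.of_comp_surjective (Groth.Agent.Lib.GrpSch.bcProj r G) u.left
  have : Mono u.left := (Over.forget _).map_mono u
  have : LocallyOfFiniteType (u.left ≫ H.hom) := by rw [Over.w]; infer_instance
  have : LocallyOfFiniteType u.left := locallyOfFiniteType_of_comp u.left H.hom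
  exact (IsClosedImmersion.iff_isProper_and_mono u.left).2 ⟨{}, inferInstance⟩

end Groth.Agent.S3036
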