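import Groth.Statements.S3037
import Groth.Agent.Lib.ActSep.GrpArt

set_option autoImplicit false
universe u
open CategoryTheory MonoidalCategory CartesianMonoidalCategory MonObj GrpObj AlgebraicGeometry TensorProduct
open SGA3

namespace Groth.Agent.S3037

/-- (iii) ⟺ (v): let A be a local artinian ring and u : G → H a quasi-compact homomorphism between group
schemes locally of finite type over A. Then u is finite if and only if the kernel of u (the fibre of
u over the unit section) is a discrete space. -/
theorem result (A : Type u) [CommRing A] [IsArtinianRing A] [IsLocalRing A]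
    (G H : Over (Spec (CommRingCat.of A))) [GrpObj G] [GrpObj H] [LocallyOfFiniteType G.hom] [LocallyOfFiniteType H.hom]
    (u : G ⟶ H) [IsMonHom u] [QuasiCompact u.left] :
    IsFinite u.left ↔ DiscreteTopology ↥(Limits.pullback u.left (η[H] : 𝟙_ (Over (Spec (CommRingCat.of A))) ⟶ H).left) := by
  have : Subsingleton ↥(𝟙_ (Over (Spec (CommRingCat.of A)))).left := inferInstanceAs (Subsingleton (PrimeSpectrum A))
  have : DiscreteTopology ↥(𝟙_ (Over (Spec (CommRingCat.of A)))).left := Subsingleton.discreteTopology
  have : LocallyOfFiniteType (u.left ≫ H.hom) := by rw [Over.w]; infer_instance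
  have : LocallyOfFiniteType u.left := locallyOfFiniteType_of_comp u.left H.hom
  let p := Limits.pullback.snd u.left (η[H] : 𝟙_ (Over (Spec (CommRingCat.of A))) ⟶ H).left
  have key : LocallyQuasiFinite p ↔ DiscreteTopology ↥(Limits.pullback u.left (η[H] : 𝟙_ (Over (Spec (CommRingCat.of A))) ⟶ H).left) := by
    rw [locallyQuasiFinite_iff_isDiscrete_preimage_singleton]
    refine ⟨fun h => ?_, fun h x => isDiscrete_iff_discreteTopology.2 inferInstance⟩
    obtain ⟨pt⟩ : Nonempty ↥(𝟙_ (Over (Spec (CommRingCat.of A)))).left := inferInstanceAs (Nonempty (PrimeSpectrum A))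
    have hu : p ⁻¹' {pt} = Set.univ := Set.eq_univ_of_forall fun x => Subsingleton.elim (p x) pt
    have := h pt
    rw [hu, isDiscrete_iff_discreteTopology] at this
    exact (Homeomorph.Set.univ _).symm.isEmbedding.discreteTopology
  rw [← key]
  exact ⟨fun _ => inferInstanceAs (LocallyQuasiFinite (Limits.pullback.snd u.left _)), fun h =>
    have := Groth.Agent.Lib.ActSep.locallyQuasiFinite_of_ker u
    Groth.Agent.Lib.ActSep.isFinite_of_locallyQuasiFinite u⟩


end Groth.Agent.S3037
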