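import Groth.Statements.S3038
import Groth.Agent.Lib.ActSep.GrpUnivOpen

set_option autoImplicit false
universe u
open CategoryTheory MonoidalCategory CartesianMonoidalCategory MonObj GrpObj AlgebraicGeometry TensorProduct
open SGA3

namespace Groth.Agent.S3038

open Groth.Agent.Lib.ActSep Groth.Agent.Lib.GrpSch

/-- (ii) ⇒ (i): let A be a local artinian ring and u : G → H a homomorphism between group schemes
locally of finite type over A. If the underlying map of u is open, then u is universally open. -/
theorem result (A : Type u) [CommRing A] [IsArtinianRing A] [IsLocalRing A]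
    (G H : Over (Spec (CommRingCat.of A))) [GrpObj G] [GrpObj H] [LocallyOfFiniteType G.hom] [LocallyOfFiniteType H.hom]
    (u : G ⟶ H) [IsMonHom u] (hu : IsOpenMap u.left.base) : UniversallyOpen u.left := by
  let t := geomPt A
  have : LocallyOfFiniteType ((Over.pullback t).obj G).hom :=
    bc_hom_of (P := @LocallyOfFiniteType) t G ‹_›
  have : LocallyOfFiniteType ((Over.pullback t).obj H).hom :=
    bc_hom_of (P := @LocallyOfFiniteType) t H ‹_›
  let := ((Over.pullback t).mapGrp.obj ⟨G⟩).grp
  let := ((Over.pullback t).mapGrp.obj ⟨H⟩).grp
  have : IsMonHom ((Over.pullback t).map u) := inferInstance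
  have : IsIntegralHom t := isIntegralHom_geomPt
  have : IsIntegralHom (bcProj t G) := bcProj_of (P := @IsIntegralHom) t G ‹_›
  have : Surjective (bcProj t G) := bcProj_of (P := @Surjective) t G surjective_geomPt
  have : UniversallyOpen t := by
    have : IsClosedImmersion (Spec.map (CommRingCat.ofHom (IsLocalRing.residue A))) :=
      IsClosedImmersion.spec_of_surjective _ IsLocalRing.residue_surjective
    have : Surjective (Spec.map (CommRingCat.ofHom (IsLocalRing.residue A))) :=
      ⟨fun x => ⟨IsLocalRing.closedPoint (IsLocalRing.ResidueField A),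
        Subsingleton.elim (α := PrimeSpectrum A) _ _⟩⟩
    have := Groth.Agent.H46.UnibranchSch.universallyOpen_of_surjective_isClosedImmersion
      (Spec.map (CommRingCat.ofHom (IsLocalRing.residue A)))
    have : Subsingleton ↥(Spec (CommRingCat.of (IsLocalRing.ResidueField A))) :=
      inferInstanceAs (Subsingleton (PrimeSpectrum _))
    show UniversallyOpen (_ ≫ _)
    infer_instance
  have : UniversallyOpen (bcProj t H) := bcProj_of (P := @UniversallyOpen) t H ‹_›
  obtain ⟨O, hO, heO, -⟩ := exists_isAffineOpen_mem_and_subset (X := G.left)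
    (x := η[G].left (IsLocalRing.closedPoint A)) (U := ⊤) trivial
  have hOT : IsAffineOpen (bcProj t G ⁻¹ᵁ O) := hO.preimage (bcProj t G)
  have hint : (interior (((Over.pullback t).map u).left '' ((bcProj t G ⁻¹ᵁ O : ((Over.pullback t).obj G).left.Opens) : Set ((Over.pullback t).obj G).left))).Nonempty := by
    have h := Scheme.image_preimage_eq_of_isPullback (isPullback_bc_map t u).flip (O : Set G.left)
    rw [show (((Over.pullback t).map u).left '' ((bcProj t G ⁻¹ᵁ O : ((Over.pullback t).obj G).left.Opens) : Set ((Over.pullback t).obj G).left)) = _ from h,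
      IsOpen.interior_eq ((hu (O : Set G.left) O.isOpen).preimage (bcProj t H).continuous)]
    obtain ⟨w, hw⟩ := (bcProj t G).surjective (η[G].left (IsLocalRing.closedPoint A))
    exact ⟨((Over.pullback t).map u).left w, h.le ⟨w, show bcProj t G w ∈ O from hw ▸ heO, rfl⟩⟩
  have : UniversallyOpen ((Over.pullback t).map u).left :=
    universallyOpen_of_interior (G := (Over.pullback t).obj G) (H := (Over.pullback t).obj H) ((Over.pullback t).map u) hOT hint
  have : UniversallyOpen (bcProj t G ≫ u.left) := by rw [← bc_map_proj]; infer_instance
  exact Groth.Agent.H54.ThickBasic.universallyOpen_of_comp_surjective (bcProj t G) u.left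

end Groth.Agent.S3038
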