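import Groth.Statements.S3042

import Groth.Agent.Lib.GrpSch.UnramifiedFibre

set_option autoImplicit false
universe u
open CategoryTheory MonoidalCategory CartesianMonoidalCategory MonObj GrpObj AlgebraicGeometry TensorProduct
open CategoryTheory.Limits SGA3

namespace Groth.Agent.S3042

/-- Let f : X → Y be a morphism of schemes locally of finite type. Then f is a monomorphism if and only
if, for every point y of Y, the fibre X_y → Spec κ(y) is a monomorphism. -/
theorem result (X Y : Scheme.{u}) (f : X ⟶ Y) [LocallyOfFiniteType f] :
    Mono f ↔ ∀ y : Y, Mono (f.fiberToSpecResidueField y) := by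
  constructor
  · intro _ y
    exact inferInstanceAs (Mono (pullback.snd f (Y.fromSpecResidueField y)))
  · intro h
    have : FormallyUnramified f :=
      Groth.Agent.Lib.GrpSch.formallyUnramified_of_fibres f fun y => by
        have := h y
        infer_instance
    have hs : Surjective (pullback.diagonal f) := ⟨fun z => by
      let P := pullback f f
      let a := P.fromSpecResidueField z ≫ pullback.fst f f
      let b := P.fromSpecResidueField z ≫ pullback.snd f f
      have hab : a ≫ f = b ≫ f := by simp only [a, b, Category.assoc, pullback.condition]
      obtain ⟨⟨y₀, φ⟩, hyφ⟩ := (Scheme.SpecToEquivOfField (P.residueField z) Y).symm.surjective (a ≫ f)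
      have hyφ' : a ≫ f = Spec.map φ ≫ Y.fromSpecResidueField y₀ := hyφ.symm
      have hm := h y₀
      let a' : Spec (P.residueField z) ⟶ f.fiber y₀ := pullback.lift a (Spec.map φ) hyφ'
      let b' : Spec (P.residueField z) ⟶ f.fiber y₀ := pullback.lift b (Spec.map φ) (by rw [← hab, hyφ'])
      have he : a' = b' := by
        rw [← cancel_mono (f.fiberToSpecResidueField y₀)]
        exact (pullback.lift_snd _ _ _).trans (pullback.lift_snd _ _ _).symm
      have hab' : a = b := by
        have := congrArg (· ≫ f.fiberι y₀) he
        exact ((pullback.lift_fst _ _ _).symm.trans this).trans (pullback.lift_fst _ _ _)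
      have hz : P.fromSpecResidueField z = a ≫ pullback.diagonal f :=
        pullback.hom_ext (by simp [a, P]) (by simp [P]; exact hab'.symm)
      refine ⟨a (IsLocalRing.closedPoint _), ?_⟩
      rw [← Scheme.Hom.comp_apply, ← hz, Scheme.fromSpecResidueField_apply]⟩
    have : IsIso (pullback.diagonal f) :=
      (isIso_iff_isOpenImmersion_and_epi_base (pullback.diagonal f)).2
        ⟨inferInstance, (TopCat.epi_iff_surjective _).2 hs.1⟩
    exact (pullback.isIso_diagonal_iff f).1 inferInstance

end Groth.Agent.S3042
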