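import Groth.Statements.S3043
import Mathlib.AlgebraicGeometry.Morphisms.Proper
import Mathlib.AlgebraicGeometry.Morphisms.UniversallyClosed

set_option autoImplicit false
universe u
open CategoryTheory MonoidalCategory CartesianMonoidalCategory MonObj GrpObj AlgebraicGeometry TensorProduct
open SGA3

namespace Groth.Agent.S3043

/-- Let π : X → S be a morphism of schemes admitting a section ε (ε followed by π is the identity). If π
is injective on underlying points, then π is an integral morphism. -/
theorem result (X S : Scheme.{u}) (π : X ⟶ S) (ε : S ⟶ X) (hε : ε ≫ π = 𝟙 S)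
    (hinj : Function.Injective π.base) : IsIntegralHom π := by
  have hπε : ∀ s, π (ε s) = s := fun s => by rw [← Scheme.Hom.comp_apply, hε]; rfl
  have hεπ : ∀ x, ε (π x) = x := fun x => hinj (hπε (π x))
  have : Surjective ε := ⟨fun x => ⟨π x, hεπ x⟩⟩
  let e : X ≃ₜ S := { toFun := π, invFun := ε, left_inv := hεπ, right_inv := hπε,
                      continuous_toFun := π.continuous, continuous_invFun := ε.continuous }
  have : IsAffineHom π := isAffineHom_of_isInducing π e.isInducing e.isClosedEmbedding.isClosed_range
  have : UniversallyClosed (ε ≫ π) := by rw [hε]; infer_instance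
  have : UniversallyClosed π := UniversallyClosed.of_comp_surjective ε π
  exact IsIntegralHom.iff_universallyClosed_and_isAffineHom.2 ⟨inferInstance, inferInstance⟩

end Groth.Agent.S3043
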