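import Groth.Statements.S3045
import Groth.Agent.Lib.Hopf.Conv3

set_option autoImplicit false
universe u
open TensorProduct
open SGA3

namespace Groth.Agent.S3045

open WithConv Groth.Agent.Lib.Hopf.Conv3

/-- Let A be a commutative Hopf algebra over a commutative ring k (the coordinate ring of an affine
group G = Spec A) and φ, ψ two k[ε]-valued points of G reducing to the unit point modulo ε (tangent
vectors at the identity). Then for every a ∈ A the ε-component of the product point φ · ψ at a — the
product of points being convolution, formed here as the triple convolution of φ, ψ and the unit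
point — is the sum of the ε-components of φ(a) and ψ(a): on tangent vectors at the identity the
group law of G induces addition. -/
theorem result (k : Type u) [CommRing k] (A : Type u) [CommRing A] [HopfAlgebra k A]
    (φ ψ : LieHopf.LiePts k A) (a : A) :
    TrivSqZeroExt.snd (Dyn.conv3 k A φ.1 ψ.1 ((Algebra.ofId k (DualNumber k)).comp (Bialgebra.counitAlgHom k A)) a) =
      LieHopf.LiePts.tangent k A φ a + LieHopf.LiePts.tangent k A ψ a := by
  let tl : LieHopf.LiePts k A → (A →ₗ[k] k) := fun φ =>
    { toFun := fun a => TrivSqZeroExt.snd (φ.1 a)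
      map_add' := fun a b => by simp
      map_smul' := fun r a => by simp }
  have hlin : ∀ φ : LieHopf.LiePts k A,
      toConv φ.1.toLinearMap = 1 + (DualNumber.eps : DualNumber k) • push (tl φ) := by
    intro φ
    apply WithConv.ofConv_injective
    ext c
    · show TrivSqZeroExt.fst (φ.1 c) = TrivSqZeroExt.fst
        (algebraMap k (DualNumber k) (Coalgebra.counit c) + DualNumber.eps * algebraMap k (DualNumber k) (tl φ c))
      rw [φ.2 c]
      simp [TrivSqZeroExt.algebraMap_eq_inl]
    · show TrivSqZeroExt.snd (φ.1 c) = TrivSqZeroExt.snd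
        (algebraMap k (DualNumber k) (Coalgebra.counit c) + DualNumber.eps * algebraMap k (DualNumber k) (tl φ c))
      simp [TrivSqZeroExt.algebraMap_eq_inl, tl]
  have h : toConv (Dyn.conv3 k A φ.1 ψ.1
      ((Algebra.ofId k (DualNumber k)).comp (Bialgebra.counitAlgHom k A))).toLinearMap =
      1 + (DualNumber.eps : DualNumber k) • (push (tl φ) + push (tl ψ)) := by
    have := congrArg (fun φ : WithConv (A →ₐ[k] DualNumber k) => toConv φ.ofConv.toLinearMap) (conv3_one φ.1 ψ.1)
    simp only [AlgHom.toLinearMap_convMul, ofConv_toConv] at this
    rw [this, hlin, hlin, add_mul, one_mul, mul_add, mul_one, smul_mul_smul_comm, DualNumber.eps_mul_eps,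
      zero_smul, add_zero, smul_add, add_assoc, add_comm _ (DualNumber.eps • push (tl φ))]
  have h2 := congrArg TrivSqZeroExt.snd (LinearMap.congr_fun (congrArg WithConv.ofConv h) a)
  refine h2.trans ?_
  show TrivSqZeroExt.snd (algebraMap k (DualNumber k) (Coalgebra.counit a) + DualNumber.eps *
    (algebraMap k (DualNumber k) (tl φ a) + algebraMap k (DualNumber k) (tl ψ a))) = _
  simp [TrivSqZeroExt.algebraMap_eq_inl, tl, LieHopf.LiePts.tangent]

end Groth.Agent.S3045
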