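import Groth.Statements.S3046
import Groth.Agent.Lib.Hopf.Conv3
import Mathlib.Tactic.NoncommRing

set_option autoImplicit false
universe u
open TensorProduct
open SGA3

namespace Groth.Agent.S3046

open WithConv Groth.Agent.Lib.Hopf.Conv3

/-- Let A be a commutative Hopf algebra over a commutative ring k, D and E two ε-derivations A → k
(tangent vectors at the identity of G = Spec A), R a commutative k-algebra and t, t' ∈ R with t² = 0
= t'². Let x = e + tD and y = e + t'E be the corresponding R-points of G. Then the commutator x y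
x⁻¹ y⁻¹ (product of points; the inverse of a point is its composite with the antipode) is the point
a ↦ ε(a) + [D, E](a) · t t', where [D, E] = D ⋆ E − E ⋆ D is the convolution commutator. -/
theorem result (k : Type u) [CommRing k] (A : Type u) [CommRing A] [HopfAlgebra k A]
    (D E : LieHopf.Lie k A) (R : Type u) [CommRing R] [Algebra k R] (t t' : R) (ht : t * t = 0) (ht' : t' * t' = 0)
    (a : A) :
    Dyn.conv3 k A
        (Dyn.conv3 k A (LieHopf.ptOfLie D R t ht) (LieHopf.ptOfLie E R t' ht')
          ((LieHopf.ptOfLie D R t ht).comp (HopfAlgebra.antipodeAlgHom k A)))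
        ((LieHopf.ptOfLie E R t' ht').comp (HopfAlgebra.antipodeAlgHom k A))
        ((Algebra.ofId k R).comp (Bialgebra.counitAlgHom k A)) a =
      algebraMap k R (Bialgebra.counitAlgHom k A a) + algebraMap k R (LieHopf.bracketLin D E a) * (t * t') := by
  have e := conv3_one (Dyn.conv3 k A (LieHopf.ptOfLie D R t ht) (LieHopf.ptOfLie E R t' ht')
      ((LieHopf.ptOfLie D R t ht).comp (HopfAlgebra.antipodeAlgHom k A)))
    ((LieHopf.ptOfLie E R t' ht').comp (HopfAlgebra.antipodeAlgHom k A))
  rw [conv3_eq (LieHopf.ptOfLie D R t ht) (LieHopf.ptOfLie E R t' ht')] at e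
  have h := congrArg (fun φ : WithConv (A →ₐ[k] R) => toConv φ.ofConv.toLinearMap) e
  simp only [AlgHom.toLinearMap_convMul, ofConv_toConv] at h
  rw [lin_ptOfLie, lin_ptOfLie, lin_ptOfLie_inv, lin_ptOfLie_inv] at h
  set a' : WithConv (A →ₗ[k] R) := t • push (LieHopf.dlin D) with ha
  set b' : WithConv (A →ₗ[k] R) := t' • push (LieHopf.dlin E) with hb
  have haa : a' * a' = 0 := smul_push_sq D t ht
  have hbb : b' * b' = 0 := smul_push_sq E t' ht'
  have haba : a' * b' * a' = 0 := by
    rw [ha, hb, smul_mul_smul_comm, smul_mul_smul_comm, mul_right_comm, ht, zero_mul, zero_smul]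
  have hbab : b' * a' * b' = 0 := by
    rw [ha, hb, smul_mul_smul_comm, smul_mul_smul_comm, mul_right_comm, ht', zero_mul, zero_smul]
  have key : (1 + a') * (1 + b') * (1 - a') * (1 - b') = 1 + (a' * b' - b' * a') := by
    calc _ = 1 + (a' * b' - b' * a') - a' * a' + a' * a' * b' - b' * b' - a' * b' * a' - a' * (b' * b')
          + b' * a' * b' + a' * b' * a' * b' := by noncomm_ring
      _ = _ := by rw [haba, hbab, haa, hbb]; simp
  rw [key, ha, hb, smul_mul_smul_comm, smul_mul_smul_comm, mul_comm t' t, ← smul_sub, push_mul_push,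
    push_mul_push] at h
  refine (LinearMap.congr_fun (congrArg WithConv.ofConv h) a).trans ?_
  show algebraMap k R (Coalgebra.counit a) + (t * t') *
    (algebraMap k R (LieHopf.conv (LieHopf.dlin D) (LieHopf.dlin E) a) -
      algebraMap k R (LieHopf.conv (LieHopf.dlin E) (LieHopf.dlin D) a)) = _
  rw [← map_sub, mul_comm (t * t')]
  rfl

end Groth.Agent.S3046
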