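import Groth.Statements.S3047
import Groth.Agent.Lib.EtSite.Pull

set_option autoImplicit false
open CategoryTheory CategoryTheory.Limits AlgebraicGeometry Opposite
universe u
open EtDesc

namespace Groth.Agent.S3047

/-- For a surjective morphism of schemes f : X' -> X, the inverse image functor f^* on sheaves of sets
for the small etale sites is faithful and reflects isomorphisms. -/
theorem result {X' X : Scheme.{u}} (f : X' ⟶ X) [Surjective f] :
    (EtDesc.pullSh f).Faithful ∧ (EtDesc.pullSh f).ReflectsIsomorphisms := by
  have key : ∀ x : X, ∃ x' : X', (Groth.Agent.Lib.EtSite.Basic.geomPoint X' x' ≫ f).base default = x := by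
    intro x
    obtain ⟨x', rfl⟩ := f.surjective x
    exact ⟨x', by rw [Scheme.Hom.comp_apply, Groth.Agent.Lib.EtSite.Basic.geomPoint_apply]⟩
  constructor
  · constructor
    intro F G a b hab
    ext U : 3
    ext s
    refine Groth.Agent.Lib.EtSite.Stalk.sections_ext_of_germ G _ _ fun x => ?_
    obtain ⟨x', hx'⟩ := key x
    refine ⟨_, inferInstance, inferInstance, _, hx', fun p => ?_⟩
    have h := NatIso.naturality_1 (Groth.Agent.Lib.EtSite.Pull.stalkPullSh f
      (Groth.Agent.Lib.EtSite.Basic.geomPoint X' x')) a
    have h' := NatIso.naturality_1 (Groth.Agent.Lib.EtSite.Pull.stalkPullSh f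
      (Groth.Agent.Lib.EtSite.Basic.geomPoint X' x')) b
    rw [Functor.comp_map, hab] at h
    have e := h.symm.trans h'
    have ha := GrothendieckTopology.Point.toPresheafFiber_naturality_apply
      (Scheme.pointSmallEtale (Groth.Agent.Lib.EtSite.Basic.geomPoint X' x' ≫ f)) a.hom U.unop p s
    have hb := GrothendieckTopology.Point.toPresheafFiber_naturality_apply
      (Scheme.pointSmallEtale (Groth.Agent.Lib.EtSite.Basic.geomPoint X' x' ≫ f)) b.hom U.unop p s
    exact ha.symm.trans ((ConcreteCategory.congr_hom e _).trans hb)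
  · constructor
    intro F G a ha
    refine Groth.Agent.Lib.EtSite.Stalk.isIso_of_stalks a fun x => ?_
    obtain ⟨x', hx'⟩ := key x
    refine ⟨_, inferInstance, inferInstance, _, hx', (isIso_iff_bijective _).1 ?_⟩
    exact ((MorphismProperty.isomorphisms _).arrow_mk_iso_iff
      (((Functor.mapArrowFunctor _ _).mapIso (Groth.Agent.Lib.EtSite.Pull.stalkPullSh f
        (Groth.Agent.Lib.EtSite.Basic.geomPoint X' x'))).app (Arrow.mk a))).1
      (inferInstanceAs (IsIso ((Scheme.pointSmallEtale
        (Groth.Agent.Lib.EtSite.Basic.geomPoint X' x')).sheafFiber.map ((EtDesc.pullSh f).map a))))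

end Groth.Agent.S3047
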