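import Groth.Statements.S3048
import Groth.Agent.Lib.EtSite.SubDescent

set_option autoImplicit false
open CategoryTheory CategoryTheory.Limits AlgebraicGeometry Opposite
universe u
open EtDesc

namespace Groth.Agent.S3048

/-- Let f : X' -> X be universally submersive. For sheaves of sets F, G on X_et, every morphism a : f^*
F -> f^* G compatible with the canonical descent data (pr_1^* a and pr_2^* a agree under the
canonical identifications on X' x_X X') is f^* b for exactly one b : F -> G; that is, f^* is fully
faithful into sheaves with descent data. -/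
theorem result {X' X : Scheme.{u}} (f : X' ⟶ X)
    (hf : EtDesc.IsUnivSubmersive f) (F G : EtDesc.Sh X) (a : (EtDesc.pullSh f).obj F ⟶ (EtDesc.pullSh f).obj G)
    (ha : (EtDesc.canIso f F).hom ≫ (EtDesc.pullSh (pullback.snd f f)).map a =
      (EtDesc.pullSh (pullback.fst f f)).map a ≫ (EtDesc.canIso f G).hom) :
    ∃! b : F ⟶ G, (EtDesc.pullSh f).map b = a := by
  open Groth.Agent.Lib.EtSite Groth.Agent.Lib.EtSite.SubDescent in
  classical
  have key : ∀ (V : X.Etale) (s : EtDesc.sect F V),
      ∃ r : EtDesc.sect G V, unitSh f G V r =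
        a.hom.app (op ((EtCoh.bc f).obj V)) (unitSh f F V s) := by
    intro V s
    refine exists_unitSh_eq f hf G V _ fun Ω _ _ η ξ₁ ξ₂ h₁ h₂ p c e => ?_
    let cF := germ η F p s
    have e' : ∀ (ξ : Spec (CommRingCat.of Ω) ⟶ X') (h : ξ ≫ f = η),
        germ ξ _ (PushStalk.liftPt f h V p) (a.hom.app (op ((EtCoh.bc f).obj V)) (unitSh f F V s)) =
          stalkMap ξ a (germUnit f F h cF) := fun ξ h => by
      rw [germUnit_germ, stalkMap_germ]
    rw [e'] at e ⊢
    let ζ : Spec (CommRingCat.of Ω) ⟶ EtDesc.X2 f := pullback.lift ξ₁ ξ₂ (h₁.trans h₂.symm)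
    have k₁ : ζ ≫ pullback.fst f f = ξ₁ := pullback.lift_fst _ _ _
    have k₂ : ζ ≫ pullback.snd f f = ξ₂ := pullback.lift_snd _ _ _
    apply (bijective_germUnit (pullback.snd f f) ((EtDesc.pullSh f).obj G) k₂).1
    rw [← canIso_germUnit f G k₁ k₂ h₁ h₂ c, ← e, ← germUnit_naturality, ← germUnit_naturality,
      ← stalkMap_comp, ← ha, stalkMap_comp, canIso_germUnit f F k₁ k₂ h₁ h₂]
  choose b hb using key
  let bn : F ⟶ G :=
    { hom :=
        { app := fun V => TypeCat.ofHom (b V.unop)
          naturality := fun V W g => by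
            ext s
            apply unitSh_injective f hf G W.unop
            change unitSh f G _ (b W.unop (F.obj.map g.unop.op s)) =
              unitSh f G _ (G.obj.map g.unop.op (b V.unop s))
            rw [hb, unitSh_map, unitSh_map, hb]
            exact NatTrans.naturality_apply a.hom ((EtCoh.bc f).map g.unop).op _ } }
  have hbn : ∀ b' : F ⟶ G, (EtDesc.pullSh f).map b' = a ↔ ∀ (V : X.Etale) (s : EtDesc.sect F V),
      unitSh f G V (b'.hom.app (op V) s) = a.hom.app (op ((EtCoh.bc f).obj V)) (unitSh f F V s) := by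
    intro b'
    have hn : (EtDesc.adjSh f).unit.app F ≫ (EtDesc.pushSh f).map ((EtDesc.pullSh f).map b') =
        b' ≫ (EtDesc.adjSh f).unit.app G := ((EtDesc.adjSh f).unit.naturality b').symm
    rw [← ((EtDesc.adjSh f).homEquiv _ _).injective.eq_iff, Adjunction.homEquiv_unit,
      Adjunction.homEquiv_unit, hn]
    constructor
    · intro h V s
      exact congrArg (fun ψ : F ⟶ (EtDesc.pushSh f).obj ((EtDesc.pullSh f).obj G) =>
        ψ.hom.app (op V) s) h
    · intro h
      ext V s
      exact h V.unop s
  refine ⟨bn, (hbn bn).2 fun V s => hb V s, fun b' hb' => ?_⟩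
  ext V s
  exact unitSh_injective f hf G V.unop (((hbn b').1 hb' V.unop s).trans (hb V.unop s).symm)

end Groth.Agent.S3048
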