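import Groth.Statements.S3049
import Groth.Agent.Lib.EtSite.SubDescent

set_option autoImplicit false
open CategoryTheory CategoryTheory.Limits AlgebraicGeometry Opposite
universe u
open EtDesc

namespace Groth.Agent.S3049

/-- Let f : X' -> X be universally submersive and F a sheaf of sets on X_et, with inverse images F' on
X' and F'' on X'' = X' x_X X'. Then Gamma(X, F) -> Gamma(X', F') is injective with image the
sections whose two pullbacks to X'' agree (under the canonical identification pr_1^* F' = pr_2^*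
F'); i.e. the sequence Gamma(X, F) -> Gamma(X', F') => Gamma(X'', F'') is exact. -/
theorem result {X' X : Scheme.{u}} (f : X' ⟶ X)
    (hf : EtDesc.IsUnivSubmersive f) (F : EtDesc.Sh X) :
    Function.Injective (EtDesc.secPull f F) ∧
    Set.range (EtDesc.secPull f F) =
      {s' | (EtDesc.canIso f F).hom.hom.app (op (EtCoh.top (EtDesc.X2 f)))
          (EtDesc.secPull (pullback.fst f f) ((EtDesc.pullSh f).obj F) s') =
        EtDesc.secPull (pullback.snd f f) ((EtDesc.pullSh f).obj F) s'} := by
  open Groth.Agent.Lib.EtSite Groth.Agent.Lib.EtSite.SubDescent in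
  classical
  have hsurj : Function.Surjective f.base := fun s => by
    obtain ⟨y, hy⟩ := (hf X (𝟙 X)).1 s
    exact ⟨(pullback.fst f (𝟙 X)).base y,
      (congrArg (fun q : pullback f (𝟙 X) ⟶ X => q.base y) pullback.condition).trans hy⟩
  refine ⟨fun a a' e => ?_, Set.Subset.antisymm ?_ ?_⟩
  · refine Stalk.sections_ext_of_germ F a a' fun x => ?_
    obtain ⟨x', rfl⟩ := hsurj x
    refine ⟨_, inferInstance, inferInstance, Push.algPoint X' x' ≫ f,
      congrArg f.base (Push.algPoint_apply X' x' default), fun p => ?_⟩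
    rw [eq_topPt _ p]
    apply (bijective_germUnit f F (rfl : Push.algPoint X' x' ≫ f = _)).1
    exact (germ_secPull f F _ a).symm.trans
      ((congrArg (germ (Push.algPoint X' x') _ _) e).trans (germ_secPull f F _ a'))
  · rintro _ ⟨s, rfl⟩
    refine app_eq_of_germ' (EtDesc.canIso f F).hom (EtCoh.top (EtDesc.X2 f)) (top_X2 f) _ _
      (EtDesc.secPull (pullback.fst f f) ((EtDesc.pullSh f).obj F) (EtDesc.secPull f F s))
      (EtDesc.secPull (pullback.snd f f) ((EtDesc.pullSh f).obj F) (EtDesc.secPull f F s))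
      HEq.rfl HEq.rfl fun z => ?_
    refine ⟨_, inferInstance, inferInstance, Push.algPoint (EtDesc.X2 f) z,
      Push.algPoint_apply _ z default, ?_⟩
    have h₂ : (Push.algPoint (EtDesc.X2 f) z ≫ pullback.snd f f) ≫ f =
        (Push.algPoint (EtDesc.X2 f) z ≫ pullback.fst f f) ≫ f := by
      rw [Category.assoc, Category.assoc, pullback.condition]
    rw [germ_secPull (pullback.fst f f) _ rfl, germ_secPull f F rfl s,
      germ_secPull (pullback.snd f f) _ rfl, germ_secPull f F h₂ s]
    exact canIso_germUnit f F rfl rfl rfl h₂ _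
  · intro s' hs'
    obtain ⟨s, hs⟩ := exists_unitSh_eq f hf F (EtCoh.top X)
      (((EtDesc.pullSh f).obj F).obj.map (EtCore.bcTopIso f).hom.op s')
      fun Ω _ _ η ξ₁ ξ₂ h₁ h₂ p c e => by
      rw [germ_map_bcTop] at e ⊢
      have k₁ : pullback.lift ξ₁ ξ₂ (h₁.trans h₂.symm) ≫ pullback.fst f f = ξ₁ :=
        pullback.lift_fst _ _ _
      have k₂ : pullback.lift ξ₁ ξ₂ (h₁.trans h₂.symm) ≫ pullback.snd f f = ξ₂ :=
        pullback.lift_snd _ _ _
      apply (bijective_germUnit (pullback.snd f f) ((EtDesc.pullSh f).obj F) k₂).1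
      rw [← canIso_germUnit f F k₁ k₂ h₁ h₂ c, ← e,
        ← germ_secPull (pullback.fst f f) _ k₁ s', ← germ_secPull (pullback.snd f f) _ k₂ s']
      exact (stalkMap_germ_eq' (EtDesc.canIso f F).hom (EtCoh.top (EtDesc.X2 f)) (top_X2 f) _ _
        (EtDesc.secPull (pullback.fst f f) ((EtDesc.pullSh f).obj F) s')
        (EtDesc.secPull (pullback.snd f f) ((EtDesc.pullSh f).obj F) s') HEq.rfl HEq.rfl hs' _).symm
    refine ⟨s, ?_⟩
    exact (congrArg (((EtDesc.pullSh f).obj F).obj.map (EtCore.bcTopIso f).inv.op) hs).trans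
      (map_bcTop_inv_hom f _ s')

end Groth.Agent.S3049
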