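import Groth.Statements.S3058
import Mathlib
import Groth.Agent.Lib.ToposFin.Alg

set_option autoImplicit false
open CategoryTheory CategoryTheory.Limits Opposite
universe u
open ToposFin

open Groth
namespace Groth.Agent.S3058

/-- For a topos of sheaves of sets on a small site: the coproduct of a small family of objects is
quasi-compact if and only if every member is quasi-compact and all but finitely many members are
initial (empty) objects. -/
theorem result {C : Type u} [SmallCategory C] {J : GrothendieckTopology C} {ι : Type u}
    (F : ι → ToposFin.Sh J) :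
    ToposFin.IsQC (∐ F) ↔ (∀ i, ToposFin.IsQC (F i)) ∧ {i | IsEmpty (F i ≅ ⊥_ (ToposFin.Sh J))}.Finite := by
    have hc := colimit.isColimit (Discrete.functor F)
    constructor
    · intro h
      refine ⟨fun i => TFin.qc_summand (c := Cofan.mk (∐ F) (Sigma.ι F)) (coproductIsCoproduct F) h i, ?_⟩
      obtain ⟨κ, hfin, e, he⟩ := TFin.IsQC.exists_finite h
        (TFin.ef_inj (c := Cofan.mk (∐ F) (Sigma.ι F)) (coproductIsCoproduct F))
      refine (Set.finite_range e).subset fun i hi => ?_
      by_contra hne
      refine hi.false ?_
      have hcov := he.pullback_snd (Sigma.ι F i)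
      have hI : IsInitial (F i) := by
        refine (TFin.isInitial_of_ef (ι := PEmpty.{u + 1}) (F := fun x => x.elim) (g := fun x => x.elim)
          fun Z a b _ => hcov Z a b fun k => ?_).some
        have hk : e k ≠ i := fun hh => hne ⟨k, hh⟩
        exact (TFin.isInitial_inter (coproductIsCoproduct F) hk
          (pullback.fst (Sigma.ι F (e k)) (Sigma.ι F i)) (pullback.snd _ _) pullback.condition).some.hom_ext _ _
      exact hI.uniqueUpToIso initialIsInitial
    · rintro ⟨hq, hfin⟩
      have := hfin.to_subtype
      refine TFin.qc_of_finite_cover (g := fun i : {i | IsEmpty (F i ≅ ⊥_ (ToposFin.Sh J))} => Sigma.ι F i.1)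
        (fun Z a b e => Sigma.hom_ext _ _ fun i => ?_) fun i => hq i.1
      by_cases hi : IsEmpty (F i ≅ ⊥_ (ToposFin.Sh J))
      · exact e ⟨i, hi⟩
      · obtain ⟨φ⟩ := not_isEmpty_iff.1 hi
        exact (initialIsInitial.ofIso φ.symm).hom_ext _ _

end Groth.Agent.S3058
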