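import Groth.Statements.S3063
import Mathlib
import Groth.Agent.Lib.ToposFin.Alg

set_option autoImplicit false
open CategoryTheory CategoryTheory.Limits Opposite
universe u
open ToposFin

open Groth
namespace Groth.Agent.S3063

/-- For a topos of sheaves of sets on a small site: suppose given a family of quasi-compact objects G_a
which is generating (every object receives a jointly epimorphic family from the G_a). Then f : X ->
Y is quasi-compact if and only if X x_Y G_a is quasi-compact for every a and every morphism G_a ->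
Y. -/
theorem result {C : Type u} [SmallCategory C] {J : GrothendieckTopology C} {α : Type u} (G : α → ToposFin.Sh J)
    (hG : ∀ a, ToposFin.IsQC (G a))
    (hgen : ∀ X : ToposFin.Sh J, ∃ (ι : Type u) (a : ι → α) (π : ∀ i, G (a i) ⟶ X), Epi (Sigma.desc π))
    {X Y : ToposFin.Sh J} (f : X ⟶ Y) :
    ToposFin.IsQCHom f ↔ ∀ (a : α) (s : G a ⟶ Y), ToposFin.IsQC (pullback f s) := by
    refine ⟨fun h a s => h _ s (hG a), fun h Y' g hY => ?_⟩
    obtain ⟨ι, a, π, hπ⟩ := hgen Y'
    obtain ⟨κ, hfin, e, he⟩ := TFin.IsQC.exists_finite hY ((TFin.ef_iff_epi π).2 hπ)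
    refine TFin.qc_pullback_of_covers f g (g := fun _ : PUnit.{u + 1} => 𝟙 X)
      (TFin.EF.of_isSplitEpi PUnit.unit) he fun _ k => ?_
    have := h (a (e k)) (π (e k) ≫ g)
    simpa using this

end Groth.Agent.S3063
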