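import Groth.Statements.S3068
import Mathlib
import Groth.Agent.Lib.ToposFin.Alg

set_option autoImplicit false
open CategoryTheory CategoryTheory.Limits Opposite
universe u
open ToposFin

open Groth
namespace Groth.Agent.S3068

/-- For a topos of sheaves of sets on a small site: given a generating family of quasi-compact objects
G_a, an object Y is quasi-separated if and only if every morphism G_a -> Y is quasi-compact. -/
theorem result {C : Type u} [SmallCategory C] {J : GrothendieckTopology C} {α : Type u} (G : α → ToposFin.Sh J) (hG : ∀ a, ToposFin.IsQC (G a))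
    (hgen : ∀ X : ToposFin.Sh J, ∃ (ι : Type u) (a : ι → α) (π : ∀ i, G (a i) ⟶ X), Epi (Sigma.desc π))
    (Y : ToposFin.Sh J) :
    ToposFin.IsQS Y ↔ ∀ (a : α) (s : G a ⟶ Y), ToposFin.IsQCHom s := by
    refine ⟨fun h a s => (TFin.qcp_iff s).2 ((TFin.qs_iff _).1 h s (hG a)), fun h K L a b hK hL => ?_⟩
    obtain ⟨ι, c, π, hπ⟩ := hgen K
    obtain ⟨κ, hfin, e, he⟩ := TFin.IsQC.exists_finite hK ((TFin.ef_iff_epi π).2 hπ)
    refine TFin.qc_pullback_of_covers a b he (h := fun _ : PUnit.{u + 1} => 𝟙 L)
      (TFin.EF.of_isSplitEpi PUnit.unit) fun k _ => ?_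
    have := h (c (e k)) (π (e k) ≫ a) L b hL
    simpa using this

end Groth.Agent.S3068
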