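import Groth.Statements.S3071
import Mathlib
import Groth.Agent.Lib.ToposFin.Alg

set_option autoImplicit false
open CategoryTheory CategoryTheory.Limits Opposite
universe u
open ToposFin

open Groth
namespace Groth.Agent.S3071

/-- Implication (ii bis) => (i bis), for a topos of sheaves of sets on a small site: suppose given a
generating family of coherent objects G_a such that every product G_a x G_b is quasi-separated. Then
for every morphism f : X -> Y with X quasi-separated, f is quasi-separated. -/
theorem result {C : Type u} [SmallCategory C] {J : GrothendieckTopology C} {α : Type u} (G : α → ToposFin.Sh J)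
    (hG : ∀ a, ToposFin.IsCoherent (G a))
    (hgen : ∀ X : ToposFin.Sh J, ∃ (ι : Type u) (a : ι → α) (π : ∀ i, G (a i) ⟶ X), Epi (Sigma.desc π))
    (hprod : ∀ a b, ToposFin.IsQS (G a ⨯ G b)) {X Y : ToposFin.Sh J} (f : X ⟶ Y) (hX : ToposFin.IsQS X) :
    ToposFin.IsQSHom f := by
    have hgen' : TFin.Gen J := fun X => by
      obtain ⟨ι, a, π, hπ⟩ := hgen X
      exact ⟨ι, _, π, fun i => (hG _).1, (TFin.ef_iff_epi π).2 hπ⟩
    obtain ⟨ι, a, π, hπ⟩ := hgen X
    refine (TFin.qsp_iff f).2 (TFin.qsp_of_cover hgen' f π ((TFin.ef_iff_epi π).2 hπ) (fun i => (hG _).1)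
      (fun i j => ?_) hX)
    have : Mono (prod.lift (pullback.fst (π i ≫ f) (π j ≫ f)) (pullback.snd (π i ≫ f) (π j ≫ f))) :=
      ⟨fun x y e => pullback.hom_ext (by simpa [prod.lift_fst] using congrArg (· ≫ prod.fst) e)
        (by simpa [prod.lift_snd] using congrArg (· ≫ prod.snd) e)⟩
    exact TFin.qs_of_mono (prod.lift (pullback.fst (π i ≫ f) (π j ≫ f)) (pullback.snd (π i ≫ f) (π j ≫ f))) (hprod _ _)

end Groth.Agent.S3071
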