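import Groth.Statements.S3082
import Mathlib.CategoryTheory.Sites.LocallyBijective
import Mathlib.CategoryTheory.Sites.LeftExact
import Mathlib.CategoryTheory.Sites.Whiskering
-- import your own Groth.Agent.* helpers here

set_option autoImplicit false
universe u
open CategoryTheory
open SGA4

namespace Groth.Agent.S3082

/-- Let (C, J) be a small site and G a set of objects of C such that each object of C has a covering
family whose members all lie in G. Then the sheafifications of the presheaves represented by the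
members of G form a detecting family in the category Sh(C, J) of set-valued sheaves on (C, J): any
morphism of sheaves that is bijective on sections over each member of G is an isomorphism. -/
theorem result {C : Type u} [SmallCategory C] (J : GrothendieckTopology C) (G : Set C)
    (hG : ∀ X : C, ∃ (ι : Type u) (Y : ι → C) (f : ∀ i, Y i ⟶ X), Sieve.ofArrows Y f ∈ J X ∧ ∀ i, Y i ∈ G) :
    (ObjectProperty.ofObj fun X : G => (presheafToSheaf J (Type u)).obj (yoneda.obj (X : C))).IsDetecting := by
  intro F H φ hφ
  let e (Z : C) (K : Sheaf J (Type u)) :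
      ((presheafToSheaf J (Type u)).obj (yoneda.obj Z) ⟶ K) ≃ K.obj.obj (Opposite.op Z) :=
    ((sheafificationAdjunction J (Type u)).homEquiv _ _).trans yonedaEquiv
  have he : ∀ (Z : C) (a : (presheafToSheaf J (Type u)).obj (yoneda.obj Z) ⟶ F),
      e Z H (a ≫ φ) = φ.hom.app _ (e Z F a) := fun Z a => by
    simp only [e, Equiv.trans_apply, Adjunction.homEquiv_naturality_right]
    rfl
  have hbij : ∀ Z ∈ G, Function.Bijective (φ.hom.app (Opposite.op Z)) := by
    intro Z hZ
    constructor
    · intro a b hab
      obtain ⟨a', rfl⟩ := (e Z F).surjective a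
      obtain ⟨b', rfl⟩ := (e Z F).surjective b
      rw [← he, ← he] at hab
      obtain ⟨w, -, hw⟩ := hφ _ ⟨⟨Z, hZ⟩⟩ (a' ≫ φ)
      rw [hw a' rfl, hw b' ((e Z H).injective hab).symm]
    · intro y
      obtain ⟨w, hw, -⟩ := hφ _ ⟨⟨Z, hZ⟩⟩ ((e Z H).symm y)
      exact ⟨e Z F w, by rw [← he, hw, Equiv.apply_symm_apply]⟩
  haveI : J.HasSheafCompose (forget (Type u)) := ⟨fun _ h => h⟩
  refine (Sheaf.isLocallyBijective_iff_isIso φ).1 ?_
  refine ⟨⟨fun {X} x y h => ?_⟩, ⟨fun {U} s => ?_⟩⟩
  · obtain ⟨ι, Y, f, hS, hY⟩ := hG X.unop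
    refine J.superset_covering ((Sieve.generate_le_iff _ _).2 ?_) hS
    rintro W g ⟨i⟩
    exact (hbij _ (hY i)).1 (by
      rw [NatTrans.naturality_apply, NatTrans.naturality_apply, h])
  · obtain ⟨ι, Y, f, hS, hY⟩ := hG U
    refine J.superset_covering ((Sieve.generate_le_iff _ _).2 ?_) hS
    rintro W g ⟨i⟩
    exact (hbij _ (hY i)).2 _

end Groth.Agent.S3082
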