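import Groth.Statements.S3089
import Groth.Agent.Lib.SiteCoh.TotAcyclic
import Mathlib.Algebra.Homology.Square
import Mathlib.CategoryTheory.Limits.Preserves.Shapes.Square
-- import your own Groth.Agent.* helpers here

set_option autoImplicit false
universe u
open CategoryTheory
open CohSite

namespace Groth.Agent.S3089
open CategoryTheory.Limits

open Opposite in
/-- For abelian sheaves on the topos of sheaves of sets on a small site: let F be an abelian sheaf which
is totally acyclic, i.e. H^q(X, F) = 0 for every sheaf of sets X and every q > 0, and let Y -> X be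
a monomorphism of sheaves of sets. Then the restriction map H^0(X, F) -> H^0(Y, F) is surjective. -/
theorem result {C : Type u} [SmallCategory C] {J : GrothendieckTopology C}
    (F : Sheaf J AddCommGrpCat.{u}) (hF : CohCx.IsTotallyAcyclic F) {Y X : Sheaf J (Type u)} (ι : Y ⟶ X) [Mono ι] :
    Function.Surjective ((CohCx.HK0Functor J F).map ι.op) := by
  intro s
  let Z := Lib.SiteCoh.FreeSheaf.freeSh J
  have : Mono (Z.map ι) := by
    have : Mono ι.hom := inferInstanceAs (Mono ((sheafToPresheaf J (Type u)).map ι))
    have : ∀ U, Mono ((Functor.whiskerRight ι.hom AddCommGrpCat.free.{u}).app U) := fun U =>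
      inferInstanceAs (Mono (AddCommGrpCat.free.{u}.map (ι.hom.app U)))
    have : Mono (Functor.whiskerRight ι.hom AddCommGrpCat.free.{u}) := NatTrans.mono_of_mono_app _
    exact inferInstanceAs (Mono ((presheafToSheaf J AddCommGrpCat.{u}).map
      (Functor.whiskerRight ι.hom AddCommGrpCat.free.{u})))
  have h := (IsPushout.of_hasPushout ι ι).map Z
  let S := ShortComplex.mk (Limits.biprod.lift (Z.map ι) (-Z.map ι))
    (Limits.biprod.desc (Z.map (Limits.pushout.inl ι ι)) (Z.map (Limits.pushout.inr ι ι)))
    (by simp [← Functor.map_comp, Limits.pushout.condition])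
  have hc := h.toCommSq.isColimitEquivIsColimitCokernelCofork h.isColimit
  have : Mono S.f := by
    have : Mono (S.f ≫ Limits.biprod.fst) := by simp only [S, Limits.biprod.lift_fst]; infer_instance
    exact mono_of_mono _ Limits.biprod.fst
  have hex : S.Exact := ShortComplex.exact_of_g_is_cokernel _ hc
  have : Epi S.g := Limits.Cofork.IsColimit.epi hc
  have hS : S.ShortExact := { exact := hex }
  have h0 : hS.extClass.comp (Abelian.Ext.mk₀ (show S.X₁ ⟶ F from s)) (add_zero 1) = 0 :=
    (hF (Limits.pushout ι ι) 0).elim _ _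
  obtain ⟨x, hx⟩ := Abelian.Ext.contravariant_sequence_exact₁ hS F
    (Abelian.Ext.mk₀ (show S.X₁ ⟶ F from s)) (add_zero 1) h0
  obtain ⟨w, rfl⟩ := (Abelian.Ext.mk₀_bijective _ _).2 x
  rw [Abelian.Ext.mk₀_comp_mk₀] at hx
  refine ⟨Limits.biprod.inl ≫ w - Limits.biprod.inr ≫ w, ?_⟩
  have e := (Abelian.Ext.mk₀_bijective _ _).1 hx
  change Z.map ι ≫ (Limits.biprod.inl ≫ w - Limits.biprod.inr ≫ w) = s
  rw [← e]
  have e2 : S.f = Z.map ι ≫ Limits.biprod.inl - Z.map ι ≫ Limits.biprod.inr := by
    apply Limits.biprod.hom_ext <;> simp [S]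
  rw [e2, Preadditive.comp_sub, Preadditive.sub_comp, Category.assoc, Category.assoc]

end Groth.Agent.S3089
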