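import Groth.Statements.S3103
import Groth.Agent.Lib.Kummer.Basic
import Groth.Agent.Lib.EtH1Gm.Class
import Groth.Agent.Lib.EtH1Gm.Pic
import Groth.Agent.Lib.PicGen.OpenUFD
import Groth.Agent.Lib.Regular.UFD
import Groth.Agent.Lib.EtMu36.Units
-- import your own Groth.Agent.* helpers here

set_option autoImplicit false
universe u
open CategoryTheory CategoryTheory.Limits AlgebraicGeometry Opposite
open EtDual

namespace Groth.Agent.S3103

open CategoryTheory.Abelian in
/-- `H¹(X, G_m) = 0` for the spectrum of a factorial domain. -/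
theorem subsingleton_H1_Gm (B : Type u) [CommRing B] [IsDomain B] [UniqueFactorizationMonoid B] :
    Subsingleton (EtCoh.H (Spec (CommRingCat.of B)) (EtCoh.Gm (Spec (CommRingCat.of B))) 1) := by
  refine ⟨fun c c' => ?_⟩
  let X := Spec (CommRingCat.of B)
  have htriv : ∀ L : X.Modules, PicF.IsInvertible L → Nonempty (L ≅ Coh.structureModule X) := by
    intro L hL
    let e := X.topIso
    obtain ⟨i⟩ := Lib.PicGen.OpenUFD.nonempty_iso (⊤ : X.Opens) _ (PicLoc.isInvertible_pullback e.hom hL)
    exact ⟨((Scheme.Modules.pullbackId X).app L).symm ≪≫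
      ((Scheme.Modules.pullbackCongr e.inv_hom_id).app L).symm ≪≫
      ((Scheme.Modules.pullbackComp e.inv e.hom).app L).symm ≪≫
      (Scheme.Modules.pullback e.inv).mapIso i ≪≫ PicLoc.pullbackStructureIso e.inv⟩
  obtain ⟨L, hL⟩ := Lib.EtH1Gm.Pic.exists_rel c
  obtain ⟨L', hL'⟩ := Lib.EtH1Gm.Pic.exists_rel c'
  obtain ⟨i⟩ := htriv L hL.isInvertible
  obtain ⟨j⟩ := htriv L' hL'.isInvertible
  exact (hL.eq_iff hL').2 ⟨i ≪≫ j.symm⟩

/-- Let A be a regular local ring which is strictly henselian, x an element of the maximal ideal not in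
its square, n an integer invertible in A, and U = Spec A[1/x]. Then H^1(U, mu_n) is isomorphic to
Z/n. (The source also computes H^0(U, mu_n) = mu_n(A) and gives a canonical isomorphism; only the
existence of an isomorphism is stated here.) -/
theorem result (A : Type u) [CommRing A] [IsRegularLocalRing A]
    (hA : EtCoh.IsStrictlyHenselianLocalRing A) (x : A) (hx : x ∈ IsLocalRing.maximalIdeal A)
    (hx2 : x ∉ (IsLocalRing.maximalIdeal A) ^ 2) (n : ℕ) (hn : IsUnit (n : A)) :
    Nonempty (EtCoh.H (Spec (CommRingCat.of (Localization.Away x)))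
      (EtCoh.mu (Spec (CommRingCat.of (Localization.Away x))) n) 1 ≃+ ZMod n) := by
    classical
  obtain ⟨hH, hsep⟩ := hA
  let _ := hH
  haveI : IsSepClosed (IsLocalRing.ResidueField A) := hsep
  haveI := Lib.Regular.Quotient.isDomain A
  haveI := Lib.Regular.UFD.uniqueFactorizationMonoid A
  have hn0 : 0 < n := Nat.pos_of_ne_zero fun h0 => by
    subst h0
    exact not_isUnit_zero (Nat.cast_zero (R := A) ▸ hn)
  have hp := Lib.EtMu36.Units.prime_of_regular hx hx2
  let B := Localization.Away x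
  haveI : IsDomain B :=
    IsLocalization.isDomain_localization (powers_le_nonZeroDivisors_of_noZeroDivisors hp.ne_zero)
  haveI : UniqueFactorizationMonoid B :=
    UniqueFactorizationMonoid.of_isLocalization (Submonoid.powers x) B
  haveI := subsingleton_H1_Gm B
  let X := Spec (CommRingCat.of B)
  have hX : Dix.InvertibleOn X n := fun y => by
    have h1 : IsUnit ((n : B)) := by rw [← map_natCast (algebraMap A B)]; exact hn.map _
    have h2 := h1.map ((Scheme.ΓSpecIso (CommRingCat.of B)).inv ≫ X.Γevaluation y).hom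
    rw [map_natCast] at h2
    exact h2.ne_zero
  have hS := Lib.Kummer.kummer_shortExact hn0 hX
  let δ := Lib.EtH1Gm.Class.δ hS
  -- sections of `G_m` are units
  let e : B ≃+* Γ(X, ⊤) := (Scheme.ΓSpecIso (CommRingCat.of B)).symm.commRingCatIsoToRingEquiv
  let mk : Bˣ → EtCoh.sect (EtCoh.Gm X) (EtCoh.top X) := fun w =>
    ULift.up (Additive.ofMul (Units.map e.toMonoidHom w))
  have mk_mul : ∀ a b : Bˣ, mk (a * b) = mk a + mk b := fun a b =>
    congrArg (fun z => ULift.up (Additive.ofMul z)) (map_mul (Units.map e.toMonoidHom) a b)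
  let M : Additive Bˣ →+ EtCoh.sect (EtCoh.Gm X) (EtCoh.top X) :=
    AddMonoidHom.mk' (fun w => mk (Additive.toMul w)) fun a b => mk_mul _ _
  have hMs : Function.Surjective M := fun q =>
    ⟨Additive.ofMul (Units.map e.symm.toMonoidHom (Additive.toMul (ULift.down q))),
      ULift.ext _ _ (Additive.toMul.injective (Units.ext (e.apply_symm_apply _)))⟩
  have hMi : Function.Injective M := fun a b h =>
    Additive.toMul.injective (Units.ext (e.injective
      (congrArg (fun z => (Additive.toMul (ULift.down z) : (Γ(X, ⊤))ˣ).val) h)))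
  let x' : Bˣ := (IsLocalization.Away.algebraMap_isUnit (S := B) x).unit
  let T : Additive Bˣ := Additive.ofMul x'
  let φ : ℤ →+ EtCoh.H X (EtCoh.mu X n) 1 := zmultiplesHom _ (δ (M T))
  have hδ0 : ∀ w, δ (M w) = 0 ↔ ∃ s, w = n • s := fun w => by
    refine (Lib.EtH1Gm.Class.δ_eq_zero_iff hS (M w)).trans ⟨?_, ?_⟩
    · rintro ⟨t, ht⟩
      obtain ⟨s, rfl⟩ := hMs t
      exact ⟨s, hMi (by
        rw [map_nsmul, ← ht]
        exact H88.MuLocal.powMap_app _ _)⟩
    · rintro ⟨s, rfl⟩
      exact ⟨M s, by rw [map_nsmul]; exact H88.MuLocal.powMap_app _ _⟩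
  have hδs : Function.Surjective δ := fun c => by
    obtain ⟨y, hy⟩ := CategoryTheory.Abelian.Ext.covariant_sequence_exact₁ _ hS c
      (Subsingleton.elim (α := EtCoh.H X (EtCoh.Gm X) 1) _ _) (zero_add 1)
    obtain ⟨ψ, rfl⟩ := (CategoryTheory.Abelian.Ext.mk₀_bijective _ _).2 y
    exact ⟨Lib.EtJ.PullSec.elem X _ ψ, by
      rw [Lib.EtH1Gm.Class.δ_apply, AddEquiv.symm_apply_apply]; exact hy⟩
  have hφs : Function.Surjective φ := fun c => by
    obtain ⟨q, rfl⟩ := hδs c
    obtain ⟨w, rfl⟩ := hMs q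
    obtain ⟨a, i, j, hw⟩ := Lib.EtMu36.Units.exists_decomp hp (Additive.toMul w)
    obtain ⟨y, hy⟩ := Lib.EtMu36.Units.exists_pow_eq hn0 hn a.isUnit
    have hyu : IsUnit y := (isUnit_pow_iff hn0.ne').mp (hy ▸ a.isUnit)
    let Y : Additive Bˣ := Additive.ofMul (Units.map (algebraMap A B).toMonoidHom hyu.unit)
    have h1 : w + j • T = n • Y + i • T := Additive.toMul.injective (Units.ext (by
      simp only [T, Y, toMul_add, toMul_nsmul, toMul_ofMul, Units.val_mul, Units.val_pow_eq_pow_val]
      rw [show ((Units.map (algebraMap A B).toMonoidHom hyu.unit : Bˣ) : B) = algebraMap A B y from rfl,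
        ← map_pow, hy]
      exact hw))
    refine ⟨(i : ℤ) - j, ?_⟩
    have h2 := congrArg (fun z => δ (M z)) h1
    simp only [map_add, map_nsmul, (hδ0 (n • Y)).mpr ⟨Y, rfl⟩] at h2
    have h3 : n • δ (M Y) = 0 := by rw [← map_nsmul, ← map_nsmul]; exact (hδ0 _).mpr ⟨Y, rfl⟩
    rw [h3, zero_add] at h2
    simp only [φ, zmultiplesHom_apply, sub_zsmul, natCast_zsmul]
    rw [← h2, ← sub_eq_add_neg, add_sub_cancel_right]
  have hker : φ.ker = AddSubgroup.zmultiples (n : ℤ) := by
    ext k
    rw [AddMonoidHom.mem_ker, Int.mem_zmultiples_iff]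
    simp only [φ, zmultiplesHom_apply]
    rw [← map_zsmul, ← map_zsmul, hδ0]
    constructor
    · rintro ⟨s, hs⟩
      obtain ⟨a, i, j, hw⟩ := Lib.EtMu36.Units.exists_decomp hp (Additive.toMul s)
      obtain ⟨p, q, rfl⟩ : ∃ p q : ℕ, k = (p : ℤ) - q := ⟨k.toNat, (-k).toNat, by omega⟩
      rw [sub_zsmul, natCast_zsmul, natCast_zsmul, ← sub_eq_add_neg, sub_eq_iff_eq_add] at hs
      have hv := congrArg (fun z : Additive Bˣ => ((Additive.toMul z : Bˣ) : B)) hs
      simp only [T, toMul_add, toMul_nsmul, toMul_ofMul, Units.val_mul, Units.val_pow_eq_pow_val] at hv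
      change algebraMap A B x ^ p = _ at hv
      have h4 : algebraMap A B (((1 : Aˣ) : A) * x ^ (p + j * n)) =
          algebraMap A B (((a ^ n : Aˣ) : A) * x ^ (i * n + q)) := by
        simp only [Units.val_one, one_mul, Units.val_pow_eq_pow_val, map_mul, map_pow, pow_add, pow_mul]
        rw [hv, show ((x' : Bˣ) : B) = algebraMap A B x from rfl, ← mul_assoc (algebraMap A B (a : A) ^ n),
          ← mul_pow, ← hw]
        ring
      have := Lib.EtMu36.Units.exponent_unique hp (IsLocalization.injective B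
        (powers_le_nonZeroDivisors_of_noZeroDivisors hp.ne_zero) h4)
      exact ⟨(i : ℤ) - j, by push_cast [← this]; linarith [show ((p + j * n : ℕ) : ℤ) = ((i * n + q : ℕ) : ℤ) from congrArg _ this]⟩
    · rintro ⟨m, rfl⟩
      exact ⟨m • T, by rw [mul_zsmul, ← natCast_zsmul]⟩
  exact ⟨((QuotientAddGroup.quotientKerEquivOfSurjective φ hφs).symm.trans
    (QuotientAddGroup.quotientAddEquivOfEq hker)).trans (Int.quotientZMultiplesNatEquivZMod n)⟩

end Groth.Agent.S3103
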