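import Groth.Statements.S3120
import Groth.Agent.Lib.EtJ.OpenZero

set_option autoImplicit false
universe u
open CategoryTheory CategoryTheory.Limits AlgebraicGeometry Opposite
open EtDual

namespace Groth.Agent.S3120

/-- Let f : X → Y be a morphism of schemes, j : V → Y an open immersion, and U = X ×_Y V with
projections f' : U → V and j' : U → X (an open immersion). Then for every abelian sheaf G on the
small étale site of V, the sheaves f^*(j_!G) and j'_!(f'^*G) on X are isomorphic. (The published
statement gives a unique isomorphism compatible with the base change map for j_*; only the existence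
of an isomorphism is stated here. The prelude's instances for the inverse image functors along f and
f' are carried as binders.) -/
theorem result {X Y V : Scheme.{u}} (f : X ⟶ Y) (j : V ⟶ Y) [IsOpenImmersion j]
    [EtCoh.BCCont f] [EtCoh.BCCont (pullback.snd f j)] (G : EtCoh.Ab V) :
    Nonempty ((EtCoh.pull f).obj ((EtShriek.extZero j).obj G) ≅
      (EtShriek.extZero (pullback.fst f j)).obj ((EtCoh.pull (pullback.snd f j)).obj G)) := by
  haveI : IsOpenImmersion (pullback.fst f j) := inferInstance
  let A := (EtCoh.pull f).obj ((EtShriek.extZero j).obj G)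
  have hsupp : ∀ x : X, x ∉ Set.range (pullback.fst f j).base →
      IsZero ((EtCoh.stalk (Groth.Agent.Lib.EtSite.Basic.geomPoint X x)).obj A) := by
    intro x hx
    refine (Groth.Agent.Lib.EtJ.OpenZero.isZero_stalk j
      (Groth.Agent.Lib.EtSite.Basic.geomPoint X x ≫ f) ?_ G).of_iso
        ((Groth.Agent.Lib.EtSite.Pull.stalkPull f (Groth.Agent.Lib.EtSite.Basic.geomPoint X x)).app
          ((EtShriek.extZero j).obj G))
    intro h
    rw [Scheme.Hom.comp_apply, Groth.Agent.Lib.EtSite.Basic.geomPoint_apply] at h
    apply hx
    rw [IsOpenImmersion.range_pullbackFst]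
    exact h
  haveI := Groth.Agent.Lib.EtJ.OpenZero.isIso_counit (pullback.fst f j) A hsupp
  haveI := Groth.Agent.Lib.EtJ.OpenZero.isIso_unit j G
  let e : (EtShriek.restrAlong (pullback.fst f j)).obj A ≅
      (EtCoh.pull (pullback.snd f j)).obj G :=
    (Groth.Agent.Lib.EtJ.Basic.pullIsoRestr (pullback.fst f j)).symm.app A ≪≫
      ((EtCore.pullComp (pullback.fst f j) f).symm ≪≫ EtCore.pullCongr pullback.condition ≪≫
        EtCore.pullComp (pullback.snd f j) j).app ((EtShriek.extZero j).obj G) ≪≫
      (EtCoh.pull (pullback.snd f j)).mapIso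
        ((Groth.Agent.Lib.EtJ.Basic.pullIsoRestr j).app _ ≪≫
          (asIso ((EtShriek.extZeroAdj j).unit.app G)).symm)
  exact ⟨(asIso ((EtShriek.extZeroAdj (pullback.fst f j)).counit.app A)).symm ≪≫
    (EtShriek.extZero (pullback.fst f j)).mapIso e⟩

end Groth.Agent.S3120
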