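import Groth.Statements.S3128
import Mathlib

set_option autoImplicit false
open BigOperators
open SGA4h

namespace Groth.Agent.S3128

open Polynomial UniqueFactorizationMonoid

noncomputable section

variable {F : Type} [Field F] [Fintype F] {R : Type} [CommRing R] [IsDomain R]

/-- The multiplicative weight of a monic polynomial. -/
def wt (χ : MulChar F R) (ψ : AddChar F R) (f : F[X]) : R :=
  χ ((-1) ^ f.natDegree * f.coeff 0) * ψ (-f.nextCoeff)

/-- Polynomial with prescribed lower coefficients. -/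
def toPoly (m : ℕ) (a : Fin m → F) : F[X] := X ^ m + ∑ i : Fin m, C (a i) * X ^ (i : ℕ)

theorem coeff_toPoly {m : ℕ} (a : Fin m → F) (i : Fin m) : (toPoly m a).coeff i = a i := by
  classical
  simp [toPoly, coeff_X_pow, i.2.ne, Fin.val_inj]

theorem monic_toPoly {m : ℕ} (a : Fin m → F) : (toPoly m a).Monic := by
  refine monic_X_pow_add ?_
  exact degree_sum_fin_lt _

theorem natDegree_toPoly {m : ℕ} (a : Fin m → F) : (toPoly m a).natDegree = m := by
  refine natDegree_eq_of_degree_eq_some ?_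
  rw [toPoly, degree_add_eq_left_of_degree_lt, degree_X_pow]
  rw [degree_X_pow]
  exact degree_sum_fin_lt _

theorem toPoly_injective (m : ℕ) : Function.Injective (toPoly (F := F) m) := fun a b h =>
  funext fun i => by rw [← coeff_toPoly a, h, coeff_toPoly]

open scoped Classical in
/-- Monic polynomials of degree `m`. -/
def mon (F : Type) [Field F] [Fintype F] (m : ℕ) : Finset F[X] := Finset.univ.image (toPoly m)

theorem mem_mon {m : ℕ} {f : F[X]} : f ∈ mon F m ↔ f.Monic ∧ f.natDegree = m := by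
  classical
  simp only [mon, Finset.mem_image, Finset.mem_univ, true_and]
  constructor
  · rintro ⟨a, rfl⟩; exact ⟨monic_toPoly a, natDegree_toPoly a⟩
  · rintro ⟨hf, rfl⟩
    refine ⟨fun i => f.coeff i, ?_⟩
    rw [toPoly, Fin.sum_univ_eq_sum_range (fun i => C (f.coeff i) * X ^ i)]
    exact hf.as_sum.symm

variable (χ : MulChar F R) (ψ : AddChar F R)

theorem wt_one : wt χ ψ (1 : F[X]) = 1 := by simp [wt, nextCoeff]

theorem wt_mul {f g : F[X]} (hf : f.Monic) (hg : g.Monic) : wt χ ψ (f * g) = wt χ ψ f * wt χ ψ g := by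
  rw [wt, wt, wt, hf.natDegree_mul hg, mul_coeff_zero, hf.nextCoeff_mul hg, neg_add, AddChar.map_add_eq_mul,
    pow_add, show (-1 : F) ^ f.natDegree * (-1) ^ g.natDegree * (f.coeff 0 * g.coeff 0) =
      ((-1) ^ f.natDegree * f.coeff 0) * ((-1) ^ g.natDegree * g.coeff 0) by ring, map_mul]
  ring

theorem wt_pow {f : F[X]} (hf : f.Monic) (e : ℕ) : wt χ ψ (f ^ e) = wt χ ψ f ^ e := by
  induction e with
  | zero => simp [wt_one]
  | succ e ih => rw [pow_succ, wt_mul χ ψ (hf.pow e) hf, ih, pow_succ]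

/-- Coefficients of the L-series. -/
def cc (m : ℕ) : R := ∑ f ∈ mon F m, wt χ ψ f

theorem cc_eq (m : ℕ) : cc χ ψ m = ∑ a : Fin m → F, wt χ ψ (toPoly m a) := by
  classical
  rw [cc, mon, Finset.sum_image (fun a _ b _ h => toPoly_injective m h)]

theorem cc_zero : cc χ ψ 0 = 1 := by
  rw [cc_eq, Finset.sum_unique_nonempty _ _ Finset.univ_nonempty]
  simp [toPoly, wt_one]

theorem cc_one : cc χ ψ 1 = ∑ x : F, χ x * ψ x := by
  rw [cc_eq]
  refine Fintype.sum_equiv ((Equiv.funUnique (Fin 1) F).trans (Equiv.neg F)) _ _ fun a => ?_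
  have h0 : (toPoly 1 a).coeff 0 = a 0 := coeff_toPoly a 0
  simp [wt, natDegree_toPoly, h0, nextCoeff_of_natDegree_pos]

theorem cc_two_le (hψ : ψ ≠ 1) (m : ℕ) : cc χ ψ (m + 2) = 0 := by
  obtain ⟨t, ht⟩ := AddChar.ne_one_iff.mp hψ
  rw [cc_eq]
  let δ : Fin (m + 2) → F := Pi.single (Fin.last (m + 1)) t
  have hw : ∀ a : Fin (m + 2) → F, wt χ ψ (toPoly (m + 2) a) =
      χ ((-1) ^ (m + 2) * a 0) * ψ (-a (Fin.last (m + 1))) := by
    intro a
    have h0 : (toPoly (m + 2) a).coeff 0 = a 0 := coeff_toPoly a 0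
    have h1 : (toPoly (m + 2) a).coeff (m + 1) = a (Fin.last (m + 1)) := coeff_toPoly a (Fin.last (m + 1))
    rw [wt, natDegree_toPoly, h0, nextCoeff_of_natDegree_pos (by rw [natDegree_toPoly]; omega),
      natDegree_toPoly, show m + 2 - 1 = m + 1 by omega, h1]
  simp only [hw]
  set S := ∑ a : Fin (m + 2) → F, χ ((-1) ^ (m + 2) * a 0) * ψ (-a (Fin.last (m + 1))) with hS
  have hshift : S = ψ t * S := by
    rw [hS, Finset.mul_sum]
    refine Fintype.sum_equiv (Equiv.addRight δ) _ _ fun a => ?_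
    simp only [Equiv.coe_addRight, Pi.add_apply, δ, Pi.single_eq_same,
      Pi.single_eq_of_ne (Fin.last_pos (n := m)).ne, add_zero]
    rw [mul_left_comm, ← AddChar.map_add_eq_mul]
    congr 2
    ring
  by_contra hne
  exact ht (mul_right_cancel₀ hne (by rw [one_mul]; exact hshift.symm))

open scoped Classical in
/-- Monic irreducibles of degree at most `m`. -/
def irr (F : Type) [Field F] [Fintype F] (m : ℕ) : Finset F[X] :=
  ((Finset.range (m + 1)).biUnion (mon F)).filter Irreducible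

theorem mem_irr {m : ℕ} {P : F[X]} : P ∈ irr F m ↔ P.Monic ∧ Irreducible P ∧ P.natDegree ≤ m := by
  simp only [irr, Finset.mem_filter, Finset.mem_biUnion, Finset.mem_range, mem_mon]
  exact ⟨fun ⟨⟨d, hd, hP, hPd⟩, hi⟩ => ⟨hP, hi, by omega⟩, fun ⟨hP, hi, hd⟩ => ⟨⟨_, by omega, hP, rfl⟩, hi⟩⟩

open scoped Classical in
/-- The power sums. -/
def SS (j : ℕ) : R :=
  ∑ P ∈ (irr F j).filter (fun P => P.natDegree ∣ j), (P.natDegree : R) * wt χ ψ P ^ (j / P.natDegree)

theorem SS_eq {j m : ℕ} (hj : 1 ≤ j) (hjm : j ≤ m) [DecidableEq F[X]] :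
    SS χ ψ j = ∑ P ∈ irr F m, if P.natDegree ∣ j then (P.natDegree : R) * wt χ ψ P ^ (j / P.natDegree) else 0 := by
  classical
  rw [← Finset.sum_filter, SS]
  refine Finset.sum_congr (Finset.ext fun P => ?_) fun P _ => rfl
  simp only [Finset.mem_filter, mem_irr]
  exact ⟨fun ⟨⟨h1, h2, h3⟩, h4⟩ => ⟨⟨h1, h2, h3.trans hjm⟩, h4⟩,
    fun ⟨⟨h1, h2, _⟩, h4⟩ => ⟨⟨h1, h2, Nat.le_of_dvd hj h4⟩, h4⟩⟩

open scoped Classical in
theorem natDegree_eq_sum {f : F[X]} (hf : f.Monic) {m : ℕ} (hfm : f.natDegree = m) :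
    m = ∑ j ∈ Finset.Icc 1 m, ∑ P ∈ irr F m,
      if P.natDegree ∣ j ∧ P ^ (j / P.natDegree) ∣ f then P.natDegree else 0 := by
  rw [Finset.sum_comm]
  have hmonic : ∀ P ∈ normalizedFactors f, P.Monic := fun P hP => by
    rw [← normalize_normalized_factor P hP]
    exact monic_normalize (irreducible_of_normalized_factor P hP).ne_zero
  have hprod : (normalizedFactors f).prod = f :=
    eq_of_monic_of_associated (monic_multiset_prod_of_monic _ id hmonic |> fun h => by simpa using h) hf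
      (prod_normalizedFactors hf.ne_zero)
  have hsub : (normalizedFactors f).toFinset ⊆ irr F m := by
    intro P hP
    rw [Multiset.mem_toFinset] at hP
    exact mem_irr.mpr ⟨hmonic P hP, irreducible_of_normalized_factor P hP,
      hfm ▸ natDegree_le_of_dvd (dvd_of_mem_normalizedFactors hP) hf.ne_zero⟩
  have hdeg : m = ∑ P ∈ irr F m, (normalizedFactors f).count P * P.natDegree := by
    conv_lhs => rw [← hfm, ← hprod, natDegree_multiset_prod_of_monic _ hmonic]
    rw [Finset.sum_multiset_map_count]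
    simp only [smul_eq_mul]
    exact Finset.sum_subset hsub fun P _ hP => by
      rw [Multiset.mem_toFinset, ← Multiset.count_eq_zero] at hP
      simp [hP]
  conv_lhs => rw [hdeg]
  refine Finset.sum_congr rfl fun P hP => ?_
  obtain ⟨hPm, hPi, -⟩ := mem_irr.mp hP
  have hd : 0 < P.natDegree := hPi.natDegree_pos
  have hdvd : ∀ e, P ^ e ∣ f ↔ e ≤ (normalizedFactors f).count P := fun e => by
    rw [dvd_iff_normalizedFactors_le_normalizedFactors (pow_ne_zero _ hPi.ne_zero) hf.ne_zero,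
      normalizedFactors_pow, normalizedFactors_irreducible hPi, hPm.normalize_eq_self, Multiset.nsmul_singleton,
      ← Multiset.le_count_iff_replicate_le]
  rw [← Finset.sum_filter, Finset.sum_const, smul_eq_mul]
  congr 1
  rw [show (normalizedFactors f).count P = (Finset.Icc 1 ((normalizedFactors f).count P)).card by
    rw [Nat.card_Icc]; omega]
  refine Finset.card_bij (fun e _ => P.natDegree * e) ?_ ?_ ?_
  · intro e he
    rw [Finset.mem_Icc] at he
    rw [Finset.mem_filter, Finset.mem_Icc, Nat.mul_div_cancel_left _ hd]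
    refine ⟨⟨by nlinarith, ?_⟩, dvd_mul_right _ _, (hdvd e).mpr he.2⟩
    have := natDegree_le_of_dvd ((hdvd e).mpr he.2) hf.ne_zero
    rw [natDegree_pow, hfm, mul_comm] at this
    exact this
  · intro a _ b _ h
    exact Nat.eq_of_mul_eq_mul_left hd h
  · intro j hj
    rw [Finset.mem_filter, Finset.mem_Icc] at hj
    obtain ⟨⟨hj1, -⟩, ⟨e, rfl⟩, hdv⟩ := hj
    rw [Nat.mul_div_cancel_left _ hd] at hdv
    refine ⟨e, Finset.mem_Icc.mpr ⟨Nat.pos_of_ne_zero fun h => ?_, (hdvd e).mp hdv⟩, rfl⟩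
    subst h; simp at hj1

open scoped Classical in
theorem sum_dvd {Q : F[X]} (hQ : Q.Monic) {m : ℕ} (hm : Q.natDegree ≤ m) :
    (∑ f ∈ mon F m, if Q ∣ f then wt χ ψ f else 0) = wt χ ψ Q * cc χ ψ (m - Q.natDegree) := by
  rw [← Finset.sum_filter, cc, Finset.mul_sum]
  symm
  refine Finset.sum_bij (fun g _ => Q * g) (fun g hg => ?_) (fun a _ b _ h => mul_left_cancel₀ hQ.ne_zero h)
    (fun f hf => ?_) (fun g hg => (wt_mul χ ψ hQ (mem_mon.mp hg).1).symm)
  · obtain ⟨hg, hgd⟩ := mem_mon.mp hg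
    rw [Finset.mem_filter, mem_mon]
    exact ⟨⟨hQ.mul hg, by rw [hQ.natDegree_mul hg, hgd]; omega⟩, dvd_mul_right _ _⟩
  · rw [Finset.mem_filter, mem_mon] at hf
    obtain ⟨⟨hf, hfd⟩, g, rfl⟩ := hf
    have hg := hQ.of_mul_monic_left hf
    exact ⟨g, mem_mon.mpr ⟨hg, by rw [← hfd, hQ.natDegree_mul hg]; omega⟩, rfl⟩

theorem newton (m : ℕ) : (m : R) * cc χ ψ m = ∑ j ∈ Finset.Icc 1 m, SS χ ψ j * cc χ ψ (m - j) := by
  classical
  calc (m : R) * cc χ ψ m = ∑ f ∈ mon F m, ((∑ j ∈ Finset.Icc 1 m, ∑ P ∈ irr F m,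
        if P.natDegree ∣ j ∧ P ^ (j / P.natDegree) ∣ f then P.natDegree else 0 : ℕ) : R) * wt χ ψ f := by
        rw [cc, Finset.mul_sum]
        refine Finset.sum_congr rfl fun f hf => ?_
        rw [← natDegree_eq_sum (mem_mon.mp hf).1 (mem_mon.mp hf).2]
    _ = ∑ j ∈ Finset.Icc 1 m, ∑ P ∈ irr F m, ∑ f ∈ mon F m,
          if P.natDegree ∣ j ∧ P ^ (j / P.natDegree) ∣ f then (P.natDegree : R) * wt χ ψ f else 0 := by
        simp only [Nat.cast_sum, Finset.sum_mul, Nat.cast_ite, Nat.cast_zero, ite_mul, zero_mul]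
        rw [Finset.sum_comm]
        exact Finset.sum_congr rfl fun j _ => Finset.sum_comm
    _ = _ := Finset.sum_congr rfl fun j hj => by
        rw [Finset.mem_Icc] at hj
        rw [SS_eq χ ψ hj.1 hj.2, Finset.sum_mul]
        refine Finset.sum_congr rfl fun P hP => ?_
        obtain ⟨hPm, hPi, -⟩ := mem_irr.mp hP
        by_cases hd : P.natDegree ∣ j
        · simp only [hd, true_and, if_true]
          have hdeg : (P ^ (j / P.natDegree)).natDegree = j := by
            rw [natDegree_pow, Nat.div_mul_cancel hd]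
          have := sum_dvd χ ψ (hPm.pow (j / P.natDegree)) (m := m) (by rw [hdeg]; exact hj.2)
          rw [hdeg, wt_pow χ ψ hPm] at this
          rw [mul_assoc, ← this, Finset.mul_sum]
          simp only [mul_ite, mul_zero]
        · simp [hd]

theorem SS_eq_pow (hψ : ψ ≠ 1) : ∀ n, 1 ≤ n → SS χ ψ n = -(-(∑ x : F, χ x * ψ x)) ^ n := by
  intro n hn
  induction n, hn using Nat.le_induction with
  | base =>
    have h := newton χ ψ 1
    simp only [Nat.cast_one, one_mul, Finset.Icc_self, Finset.sum_singleton, Nat.sub_self, cc_zero, mul_one,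
      cc_one] at h
    rw [← h, pow_one, neg_neg]
  | succ n hn ih =>
    obtain ⟨m, rfl⟩ : ∃ m, n = m + 1 := ⟨n - 1, by omega⟩
    have h := newton χ ψ (m + 2)
    rw [cc_two_le χ ψ hψ, mul_zero, Finset.sum_Icc_succ_top (by omega), Finset.sum_Icc_succ_top (by omega),
      Finset.sum_eq_zero, zero_add, Nat.sub_self, cc_zero, mul_one, show m + 2 - (m + 1) = 1 by omega, cc_one,
      ih] at h
    · rw [pow_succ] at h ⊢
      linear_combination -h
    · intro j hj
      rw [Finset.mem_Icc] at hj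
      obtain ⟨l, hl⟩ : ∃ l, m + 2 - j = l + 2 := ⟨m - j, by omega⟩
      rw [hl, cc_two_le χ ψ hψ, mul_zero]

theorem sum_ext (F' : Type) [Field F'] [Fintype F'] [Algebra F F'] :
    (∑ x : F', χ (Algebra.norm F x) * ψ (Algebra.trace F F' x)) = SS χ ψ (Module.finrank F F') := by
  classical
  set n := Module.finrank F F'
  have hn : 0 < n := Module.finrank_pos
  have hmem : ∀ x : F', minpoly F x ∈ (irr F n).filter (fun P => P.natDegree ∣ n) := fun x => by
    have hx : IsIntegral F x := .of_finite F x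
    rw [Finset.mem_filter, mem_irr]
    refine ⟨⟨minpoly.monic hx, minpoly.irreducible hx, minpoly.natDegree_le x⟩, ?_⟩
    rw [← IntermediateField.adjoin.finrank hx]
    exact ⟨_, (Module.finrank_mul_finrank F _ F').symm⟩
  rw [← Finset.sum_fiberwise_of_maps_to (fun x _ => hmem x), SS]
  refine Finset.sum_congr rfl fun P hP => ?_
  rw [Finset.mem_filter, mem_irr] at hP
  obtain ⟨⟨hPm, hPi, -⟩, hPn⟩ := hP
  have hterm : ∀ x ∈ Finset.univ.filter (fun x : F' => minpoly F x = P),
      χ (Algebra.norm F x) * ψ (Algebra.trace F F' x) = wt χ ψ P ^ (n / P.natDegree) := by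
    intro x hx
    rw [Finset.mem_filter] at hx
    have hint : IsIntegral F x := .of_finite F x
    have he : Module.finrank (IntermediateField.adjoin F {x}) F' = n / P.natDegree := by
      rw [← hx.2, ← IntermediateField.adjoin.finrank hint]
      exact (Nat.div_eq_of_eq_mul_right Module.finrank_pos (Module.finrank_mul_finrank F _ F').symm).symm
    have hN : Algebra.norm F x = ((-1) ^ P.natDegree * P.coeff 0) ^ (n / P.natDegree) := by
      rw [Algebra.norm_eq_norm_adjoin, he, ← IntermediateField.adjoin.powerBasis_gen hint,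
        Algebra.PowerBasis.norm_gen_eq_coeff_zero_minpoly, IntermediateField.adjoin.powerBasis_gen hint,
        IntermediateField.minpoly_gen, hx.2, IntermediateField.adjoin.powerBasis_dim, hx.2]
    have hT : Algebra.trace F F' x = (n / P.natDegree) • (-P.nextCoeff) := by
      rw [trace_eq_finrank_mul_minpoly_nextCoeff, he, hx.2, nsmul_eq_mul]
    rw [hN, hT, map_pow, AddChar.map_nsmul_eq_pow, ← mul_pow, wt]
  rw [Finset.sum_congr rfl hterm, Finset.sum_const, nsmul_eq_mul]
  congr 2
  haveI : Fact (Irreducible P) := ⟨hPi⟩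
  haveI : Finite (AdjoinRoot P) := by
    haveI : Module.Finite F (AdjoinRoot P) := (AdjoinRoot.powerBasis hPi.ne_zero).finite
    exact Module.finite_of_finite F
  obtain ⟨φ⟩ := FiniteField.nonempty_algHom_iff_finrank_dvd (F := F) (K := AdjoinRoot P) (L := F') |>.mpr
    (by rw [show Module.finrank F (AdjoinRoot P) = P.natDegree from finrank_quotient_span_eq_natDegree]; exact hPn)
  have hroot : aeval (φ (AdjoinRoot.root P)) P = 0 := by
    rw [aeval_algHom_apply, AdjoinRoot.aeval_eq, AdjoinRoot.mk_self, map_zero]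
  have hmin : P = minpoly F (φ (AdjoinRoot.root P)) := minpoly.eq_of_irreducible_of_monic hPi hroot hPm
  have hsplit : (P.map (algebraMap F F')).Splits := hmin ▸ Normal.splits inferInstance _
  rw [← card_rootSet_eq_natDegree (PerfectField.separable_of_irreducible hPi) hsplit, ← Set.toFinset_card]
  congr 1
  ext x
  rw [Finset.mem_filter, Set.mem_toFinset, mem_rootSet]
  refine ⟨fun h => ⟨hPi.ne_zero, h.2 ▸ minpoly.aeval F x⟩, fun h => ⟨Finset.mem_univ _, ?_⟩⟩
  exact (minpoly.eq_of_irreducible_of_monic hPi h.2 hPm).symm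

end

/-- Let F ⊂ F' be finite fields with [F' : F] = n, χ a multiplicative character of F and ψ a nontrivial
additive character of F, with values in a domain of characteristic zero. Writing τ(χ, ψ) = -Σ_x χ(x)
ψ(x), one has τ(χ ∘ N_{F'/F}, ψ ∘ Tr_{F'/F}) = τ(χ, ψ)^n. (The source writes χ⁻¹ inside τ; replacing
χ by χ⁻¹ gives the same family of identities.) -/
theorem result (F F' : Type) [Field F] [Fintype F] [Field F'] [Fintype F'] [Algebra F F']
    (R : Type) [CommRing R] [IsDomain R] [CharZero R] (χ : MulChar F R) (ψ : AddChar F R) (hψ : ψ ≠ 1) :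
    -(∑ x : F', χ (Algebra.norm F x) * ψ (Algebra.trace F F' x)) =
      (-(∑ x : F, χ x * ψ x)) ^ Module.finrank F F' := by
  rw [sum_ext, SS_eq_pow χ ψ hψ _ Module.finrank_pos, neg_neg]

end Groth.Agent.S3128
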