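import Groth.Statements.S3129
import Mathlib
-- import your own Groth.Agent.* helpers here

set_option autoImplicit false
open BigOperators
open SGA4h

namespace Groth.Agent.S3129


theorem addChar_sum {F R ι : Type*} [AddCommMonoid F] [CommMonoid R] (Ψ : AddChar F R) (s : Finset ι) (f : ι → F) :
    Ψ (∑ i ∈ s, f i) = ∏ i ∈ s, Ψ (f i) := by
  classical
  induction s using Finset.induction_on with
  | empty => simp
  | insert b t hb ih => rw [Finset.sum_insert hb, Finset.prod_insert hb, AddChar.map_add_eq_mul, ih]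

open Finset in
theorem sum_consFn {F R : Type*} [Fintype F] [AddCommMonoid R] {N : ℕ} (g : (Fin (N+1) → F) → R) :
    ∑ y, g y = ∑ a : F, ∑ x : Fin N → F, g (Fin.cons a x) := by
  rw [← Fintype.sum_prod_type']
  exact (Equiv.sum_comp (Fin.consEquiv fun _ : Fin (N+1) => F) g).symm


/-- Let F be a finite field with q elements, N ≥ 1, χ₀, …, χ_N multiplicative characters of F with
values in a domain, not all trivial and with product 1, and Ψ a nontrivial additive character of F.
Put τ(χ, Ψ) = −Σ_{x ∈ F} Ψ(x) χ⁻¹(x) and J(χ) = (−1)^{N−1} Σ χ₁⁻¹(x₁) ⋯ χ_N⁻¹(x_N), the sum over x₁,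
…, x_N ∈ F^* with x₁ + ⋯ + x_N = −1. Then q · J(χ) = τ(χ₀, Ψ) ⋯ τ(χ_N, Ψ). -/
theorem result (F : Type) [Field F] [Fintype F] [DecidableEq F] (R : Type) [CommRing R] [IsDomain R]
    (N : ℕ) (hN : 1 ≤ N) (χ : Fin (N + 1) → MulChar F R) (hprod : ∏ i, χ i = 1) (hnt : ∃ i, χ i ≠ 1)
    (Ψ : AddChar F R) (hΨ : Ψ ≠ 1) :
    (Fintype.card F : R) * ((-1) ^ (N - 1) *
        ∑ x ∈ (Finset.univ : Finset (Fin N → Fˣ)).filter (fun x => ∑ i, ((x i : Fˣ) : F) = -1),
          ∏ i : Fin N, (χ i.succ)⁻¹ ((x i : Fˣ) : F)) =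
      ∏ i : Fin (N + 1), (-(∑ y : F, Ψ y * (χ i)⁻¹ y)) := by
  classical
  set η : Fin (N+1) → MulChar F R := fun i => (χ i)⁻¹ with hη
  have hηprod : ∏ i, η i = 1 := by simp [hη, Finset.prod_inv_distrib, hprod]
  have hsucc : ∃ i : Fin N, η i.succ ≠ 1 := by
    by_contra h
    push_neg at h
    have h0 : η 0 = 1 := by
      rw [Fin.prod_univ_succ, Finset.prod_eq_one (fun i _ => h i), mul_one] at hηprod
      exact hηprod
    obtain ⟨i, hi⟩ := hnt
    apply hi
    have : η i = 1 := by
      refine Fin.cases h0 h i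
    simpa [hη] using this
  set P : (Fin N → F) → R := fun x => ∏ i, η i.succ (x i) with hP
  have hPsum : ∑ x, P x = 0 := by
    obtain ⟨i, hi⟩ := hsucc
    rw [hP, ← Fintype.prod_sum]
    exact Finset.prod_eq_zero (Finset.mem_univ i) (MulChar.sum_eq_zero_of_ne_one hi)
  have hΨp : Ψ.IsPrimitive := AddChar.IsPrimitive.of_ne_one hΨ
  have hLHS : ∑ x ∈ (Finset.univ : Finset (Fin N → Fˣ)).filter (fun x => ∑ i, ((x i : Fˣ) : F) = -1),
      ∏ i : Fin N, (χ i.succ)⁻¹ ((x i : Fˣ) : F) =
      ∑ x ∈ (Finset.univ : Finset (Fin N → F)).filter (fun x => ∑ i, x i = -1), P x := by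
    rw [← Finset.sum_image (f := P) (g := fun (x : Fin N → Fˣ) i => ((x i : Fˣ) : F))
      (fun x _ y _ h => funext fun i => Units.ext (congrFun h i))]
    refine Finset.sum_subset ?_ ?_
    · intro x hx
      obtain ⟨y, hy, rfl⟩ := Finset.mem_image.mp hx
      simpa using (Finset.mem_filter.mp hy).2
    · intro x hx hnot
      by_cases h : ∀ i, x i ≠ 0
      · exfalso
        apply hnot
        exact Finset.mem_image.mpr ⟨fun i => Units.mk0 (x i) (h i), by simpa using (Finset.mem_filter.mp hx).2, rfl⟩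
      · push_neg at h
        obtain ⟨i, hi⟩ := h
        refine Finset.prod_eq_zero (Finset.mem_univ i) ?_
        rw [hi]
        exact MulChar.map_zero _
  have hRHS : ∏ i : Fin (N + 1), (∑ y : F, Ψ y * η i y) =
      (Fintype.card F : R) * ∑ x ∈ (Finset.univ : Finset (Fin N → F)).filter (fun x => ∑ i, x i = -1), P x := by
    rw [Fintype.prod_sum, sum_consFn]
    have h1 : ∀ a : F, ∑ x : Fin N → F, ∏ i, (Ψ (Fin.cons (α := fun _ => F) a x i) * η i (Fin.cons (α := fun _ => F) a x i)) =
        ∑ x : Fin N → F, Ψ (a * (1 + ∑ i, x i)) * P x := by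
      intro a
      by_cases ha : a = 0
      · subst ha
        simp only [zero_mul, AddChar.map_zero_eq_one, one_mul, hPsum]
        refine Finset.sum_eq_zero fun x _ => Finset.prod_eq_zero (Finset.mem_univ 0) ?_
        simp [MulChar.map_zero]
      · rw [← (Equiv.piCongrRight fun _ : Fin N => Equiv.mulLeft₀ a ha).sum_comp]
        refine Finset.sum_congr rfl fun x _ => ?_
        rw [show ((Equiv.piCongrRight fun _ : Fin N => Equiv.mulLeft₀ a ha) x) = fun i => a * x i from rfl]
        rw [Fin.prod_univ_succ]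
        simp only [Fin.cons_zero, Fin.cons_succ, map_mul, Finset.prod_mul_distrib]
        have h2 : η 0 a * ∏ i : Fin N, η i.succ a = 1 := by
          have := congrArg (fun c : MulChar F R => c (Units.mk0 a ha : Fˣ)) hηprod
          simp only [MulChar.one_apply_coe] at this
          rw [Fin.prod_univ_succ] at this
          rw [MulChar.mul_apply] at this
          rw [show (∏ i : Fin N, η i.succ) ((Units.mk0 a ha : Fˣ) : F) = ∏ i : Fin N, η i.succ a from by
            induction (Finset.univ : Finset (Fin N)) using Finset.induction_on with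
            | empty => simp only [Finset.prod_empty]; exact MulChar.one_apply (isUnit_iff_ne_zero.mpr ha)
            | insert b t hb ih => rw [Finset.prod_insert hb, Finset.prod_insert hb, MulChar.mul_apply, ih]; rfl] at this
          exact this
        rw [mul_add, mul_one, AddChar.map_add_eq_mul, Finset.mul_sum, addChar_sum]
        show _ = _ * (∏ i, η i.succ (x i))
        linear_combination (Ψ a * (∏ i, Ψ (a * x i)) * ∏ i, η i.succ (x i)) * h2
    simp only [h1]
    rw [Finset.sum_comm]
    simp_rw [← Finset.sum_mul, AddChar.sum_mulShift _ hΨp]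
    rw [Finset.mul_sum, Finset.sum_filter]
    refine Finset.sum_congr rfl fun x _ => ?_
    by_cases h : ∑ i, x i = -1
    · rw [if_pos h, if_pos (by rw [h]; ring)]
    · rw [if_neg h, if_neg (fun h' => h (eq_neg_of_add_eq_zero_right h'))]
      simp
  rw [hLHS, Finset.prod_neg]
  rw [show (∏ x : Fin (N + 1), ∑ y : F, Ψ y * (χ x)⁻¹ y) = ∏ x : Fin (N + 1), ∑ y : F, Ψ y * η x y from rfl, hRHS]
  rw [Finset.card_univ, Fintype.card_fin]
  obtain ⟨M, rfl⟩ : ∃ M, N = M + 1 := ⟨N - 1, by omega⟩
  simp only [Nat.add_sub_cancel]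
  ring

end Groth.Agent.S3129
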