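import Groth.Statements.S3133
import Mathlib.LinearAlgebra.Matrix.Block

set_option autoImplicit false
open Polynomial
open SGA4h

namespace Groth.Agent.S3133

theorem cyclic_det {R : Type} [CommRing R] {m : Type} [Fintype m] [DecidableEq m]
    (A : Matrix m m R) (k : ℕ) :
    (Matrix.of fun (p q : Fin (k + 1) × m) =>
        if p.1.val = 0 then (if q.1.val = k + 1 - 1 then A p.2 q.2 else 0)
        else (if q.1.val + 1 = p.1.val ∧ p.2 = q.2 then 1 else 0)).charpolyRev =
      Polynomial.expand R (k + 1) A.charpolyRev := by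
  set B : Matrix (Fin (k + 1) × m) (Fin (k + 1) × m) R := Matrix.of fun p q =>
    if p.1.val = 0 then (if q.1.val = k + 1 - 1 then A p.2 q.2 else 0)
    else (if q.1.val + 1 = p.1.val ∧ p.2 = q.2 then 1 else 0) with hB
  set L : Matrix (Fin (k + 1) × m) (Fin (k + 1) × m) R[X] := Matrix.of fun p q =>
    if p = q then 1 else if q.1.val = 0 ∧ p.2 = q.2 then X ^ p.1.val else 0 with hL
  have hdL : L.det = 1 := by
    rw [Matrix.BlockTriangular.det (b := fun p : Fin (k + 1) × m => OrderDual.toDual p.1)]
    · refine Finset.prod_eq_one fun a _ => ?_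
      rw [show L.toSquareBlock (fun p => OrderDual.toDual p.1) a = 1 from ?_, Matrix.det_one]
      ext p q : 1
      have hpq : p.1.1 = q.1.1 := OrderDual.toDual.injective (p.2.trans q.2.symm)
      rw [Matrix.toSquareBlock_def, Matrix.of_apply, hL, Matrix.of_apply, Matrix.one_apply]
      by_cases h : p = q
      · simp [h]
      · rw [if_neg (fun e => h (Subtype.ext e)), if_neg h]
        exact if_neg (fun e => h (Subtype.ext (Prod.ext hpq e.2)))
    · intro p q hpq
      change p.1 < q.1 at hpq
      have hq0 : q.1 ≠ 0 := fun e => absurd (e ▸ hpq) (Fin.not_lt_zero _)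
      simp [hL, Prod.ext_iff, hpq.ne, hq0]
  set M : Matrix (Fin (k + 1) × m) (Fin (k + 1) × m) R[X] := 1 - (X : R[X]) • B.map C with hM
  set N : Matrix (Fin (k + 1) × m) (Fin (k + 1) × m) R[X] := Matrix.of fun p q =>
    if q.1.val = 0 then
      (if p.1.val = 0 then (1 : Matrix m m R[X]) p.2 q.2 - X ^ (k + 1) * C (A p.2 q.2) else 0)
    else M p q with hN
  have hMp : ∀ p q, M p q = (if p = q then 1 else 0) -
      X * C (if p.1.val = 0 then (if q.1.val = k then A p.2 q.2 else 0)
        else (if q.1.val + 1 = p.1.val ∧ p.2 = q.2 then 1 else 0)) := by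
    intro p q
    simp [hM, hB, Matrix.one_apply]
  have hML : M * L = N := by
    ext p q : 1
    by_cases hq : q.1.val = 0
    · have hq0 : q.1 = 0 := Fin.ext hq
      have hLq : ∀ s, L s q = if s.2 = q.2 then X ^ s.1.val else 0 := by
        intro s
        by_cases hs : s = q
        · subst hs; simp [hL, hq]
        · rw [hL, Matrix.of_apply, if_neg hs]
          simp only [hq, true_and]
      rw [Matrix.mul_apply, hN, Matrix.of_apply, if_pos hq, Fintype.sum_prod_type]
      simp only [hLq, mul_ite, mul_zero, Finset.sum_ite_eq', Finset.mem_univ, if_true, hMp, sub_mul,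
        Finset.sum_sub_distrib, Prod.ext_iff]
      by_cases hp : p.1.val = 0
      · rw [Finset.sum_eq_single p.1 (fun b _ hb => by simp [Ne.symm hb]) (by simp),
          Finset.sum_eq_single (⟨k, by omega⟩ : Fin (k + 1))
            (fun b _ hb => by rw [if_pos hp, if_neg (fun e : b.val = k => hb (Fin.ext e))]; simp) (by simp)]
        simp only [hp, if_true, true_and, pow_zero, mul_one, Matrix.one_apply]
        ring
      · rw [Finset.sum_eq_single p.1 (fun b _ hb => by simp [Ne.symm hb]) (by simp),
          Finset.sum_eq_single (⟨p.1.val - 1, by omega⟩ : Fin (k + 1))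
            (fun b _ hb => by
              rw [if_neg hp, if_neg (fun e : b.val + 1 = p.1.val ∧ _ => hb (Fin.ext (by have := e.1; simp; omega)))]
              simp) (by simp)]
        obtain ⟨c, hc⟩ : ∃ c, p.1.val = c + 1 := ⟨p.1.val - 1, by omega⟩
        by_cases h2 : p.2 = q.2 <;> simp [hc, h2, pow_succ, mul_comm]
    · rw [Matrix.mul_apply, hN, Matrix.of_apply, if_neg hq, Finset.sum_eq_single q
        (fun b _ hb => by rw [hL, Matrix.of_apply, if_neg hb, if_neg (fun e => hq e.1), mul_zero]) (by simp)]
      simp [hL]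
  change M.det = _
  rw [← mul_one M.det, ← hdL, ← Matrix.det_mul, hML,
    Matrix.twoBlockTriangular_det N (fun p => p.1.val = 0)]
  · rw [show (N.toSquareBlockProp fun p => ¬ p.1.val = 0).det = 1 from ?_, mul_one]
    · let e : {p : Fin (k + 1) × m // p.1.val = 0} ≃ m :=
        ⟨fun p => p.1.2, fun i => ⟨(0, i), rfl⟩,
          fun p => Subtype.ext (Prod.ext (Fin.ext p.2.symm) rfl), fun i => rfl⟩
      rw [← Matrix.det_reindex_self e, Matrix.charpolyRev, AlgHom.map_det]
      congr 1
      ext i j : 1
      simp only [e, hN, Matrix.reindex_apply, Matrix.submatrix_apply, Matrix.toSquareBlockProp_def,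
        Matrix.of_apply, Equiv.coe_fn_symm_mk, Fin.val_zero, if_true]
      by_cases h : i = j <;> simp [h, Matrix.one_apply]
    · rw [Matrix.BlockTriangular.det
        (b := fun p : {p : Fin (k + 1) × m // ¬ p.1.val = 0} => OrderDual.toDual p.1.1)]
      · refine Finset.prod_eq_one fun a _ => ?_
        rw [show (N.toSquareBlockProp fun p => ¬ p.1.val = 0).toSquareBlock (fun p => OrderDual.toDual p.1.1) a = 1 from ?_, Matrix.det_one]
        ext p q : 1
        have hpq : p.1.1.1 = q.1.1.1 := OrderDual.toDual.injective (p.2.trans q.2.symm)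
        rw [Matrix.toSquareBlock_def, Matrix.of_apply, Matrix.toSquareBlockProp_def, Matrix.of_apply,
          hN, Matrix.of_apply, if_neg q.1.2, hMp, if_neg p.1.2,
          if_neg (fun e : q.1.1.1.val + 1 = p.1.1.1.val ∧ _ => by rw [hpq] at e; omega), map_zero, mul_zero, sub_zero, Matrix.one_apply]
        simp only [Subtype.ext_iff]
      · intro p q hpq
        change p.1.1 < q.1.1 at hpq
        have := Fin.lt_def.1 hpq
        rw [Matrix.toSquareBlockProp_def, Matrix.of_apply, hN, Matrix.of_apply, if_neg q.2, hMp,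
          if_neg p.2, if_neg (fun e : q.1.1.val + 1 = p.1.1.val ∧ _ => by omega),
          if_neg (fun e => hpq.ne (congrArg Prod.fst e)), map_zero, mul_zero, sub_zero]
  · intro i hi j hj
    rw [hN, Matrix.of_apply, if_pos hj, if_neg hi]

/-- Let A be a square matrix over a commutative ring and n ≥ 1, and let B be the matrix on n blocks of
the endomorphism (x_1, …, x_n) ↦ (A x_n, x_1, …, x_{n-1}). Then det(1 − B·T) = det(1 − A·Tⁿ), i.e.
the reverse characteristic polynomial of B is that of A expanded by n. -/
theorem result (R : Type) [CommRing R] (m : Type) [Fintype m] [DecidableEq m]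
    (A : Matrix m m R) (n : ℕ) (hn : 1 ≤ n) :
    (Matrix.of fun (p q : Fin n × m) =>
        if p.1.val = 0 then (if q.1.val = n - 1 then A p.2 q.2 else 0)
        else (if q.1.val + 1 = p.1.val ∧ p.2 = q.2 then 1 else 0)).charpolyRev =
      Polynomial.expand R n A.charpolyRev := by
  classical
  obtain ⟨k, rfl⟩ : ∃ k, n = k + 1 := ⟨n - 1, by omega⟩
  exact cyclic_det A k

end Groth.Agent.S3133
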