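import Groth.Statements.S3134
-- import your own Groth.Agent.* helpers here

set_option autoImplicit false
open Polynomial
open SGA4h

namespace Groth.Agent.S3134

theorem derivative_det {R : Type} [CommRing R] {m : Type} [Fintype m] [DecidableEq m]
    (M : Matrix m m R[X]) :
    derivative M.det = (M.adjugate * M.map derivative).trace := by
  have h1 : ∀ i : m, (M.updateRow i (fun j => derivative (M i j))).det =
      ∑ j, M.adjugate j i * derivative (M i j) := fun i => by
    rw [← Matrix.cramer_transpose_apply, Matrix.cramer_eq_adjugate_mulVec, ← Matrix.adjugate_transpose]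
    simp [Matrix.mulVec, dotProduct, mul_comm]
  have h2 : derivative M.det = ∑ i, (M.updateRow i (fun j => derivative (M i j))).det := by
    simp only [Matrix.det_apply', map_sum]
    rw [Finset.sum_comm]
    refine Finset.sum_congr rfl fun σ _ => ?_
    rw [show ((Equiv.Perm.sign σ : ℤ) : R[X]) = C ((Equiv.Perm.sign σ : ℤ) : R) by simp,
      derivative_C_mul, derivative_prod_finset, Finset.mul_sum]
    refine Finset.sum_bij' (fun a _ => σ a) (fun b _ => σ.symm b) (by simp) (by simp) (by simp)
      (by simp) fun a _ => ?_
    congr 1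
    rw [← Finset.mul_prod_erase Finset.univ _ (Finset.mem_univ a), Matrix.updateRow_self, mul_comm]
    congr 1
    exact Finset.prod_congr rfl fun b hb => by
      rw [Matrix.updateRow_ne (σ.injective.ne (Finset.ne_of_mem_erase hb))]
  rw [h2]
  simp only [Matrix.trace, Matrix.diag, Matrix.mul_apply, h1, Matrix.map_apply]
  rw [Finset.sum_comm]

/-- For a square matrix A over a commutative ring, with P(T) = det(1 − A·T), one has −T·P′(T) = P(T) ·
Σ_{n ≥ 1} Tr(Aⁿ) Tⁿ as formal power series (equivalently T d/dT log P(T)⁻¹ = Σ_{n≥1} Tr(Aⁿ) Tⁿ). -/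
theorem result (R : Type) [CommRing R] (m : Type) [Fintype m] [DecidableEq m]
    (A : Matrix m m R) :
    ((-(X * Polynomial.derivative A.charpolyRev) : R[X]) : PowerSeries R) =
      (A.charpolyRev : PowerSeries R) * PowerSeries.mk (fun n => if n = 0 then 0 else (A ^ n).trace) := by
  classical
  set M : Matrix m m R[X] := 1 - (X : R[X]) • A.map C with hM
  have hdet : A.charpolyRev = M.det := rfl
  have hM' : M.map derivative = -A.map C := by
    ext i j : 1
    by_cases h : i = j <;> simp [hM, Matrix.one_apply, h]
  set c := Polynomial.coeToPowerSeries.ringHom (R := R)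
  set S : Matrix m m (PowerSeries R) := Matrix.of fun i j => PowerSeries.mk fun n => (A ^ n) i j with hS
  have hMc : c.mapMatrix M = 1 - (PowerSeries.X : PowerSeries R) • A.map PowerSeries.C := by
    ext i j : 1
    by_cases h : i = j <;> simp [hM, c, Matrix.one_apply, h, PowerSeries.commute_X _ |>.eq]
  have hMS : c.mapMatrix M * S = 1 := by
    rw [hMc, sub_mul, one_mul, Matrix.smul_mul]
    ext i j n
    rcases n with _ | n
    · by_cases h : i = j <;> simp [hS, Matrix.one_apply, h, PowerSeries.commute_X]
    · by_cases h : i = j <;>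
        simp [hS, Matrix.one_apply, h, Matrix.mul_apply, pow_succ', PowerSeries.coeff_one, map_sum, -Matrix.map_apply, Matrix.map]
  have hadj : c.mapMatrix M.adjugate = c M.det • S := by
    rw [RingHom.map_adjugate, RingHom.map_det,
      ← Matrix.mul_one (c.mapMatrix M).adjugate, ← hMS, ← Matrix.mul_assoc,
      Matrix.adjugate_mul, Matrix.smul_mul, Matrix.one_mul]
  have hS' : PowerSeries.X * (S * A.map PowerSeries.C).trace =
      PowerSeries.mk (fun n => if n = 0 then 0 else (A ^ n).trace) := by
    ext n
    rcases n with _ | n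
    · simp
    · simp [hS, Matrix.trace, Matrix.mul_apply, pow_succ, map_sum]
  show c (-(X * derivative A.charpolyRev)) = c A.charpolyRev * _
  rw [hdet, derivative_det, hM', Matrix.mul_neg, Matrix.trace_neg, mul_neg, neg_neg, map_mul,
    show c (M.adjugate * A.map C).trace = c.toAddMonoidHom (M.adjugate * A.map C).trace from rfl,
    AddMonoidHom.map_trace c.toAddMonoidHom]
  rw [show (M.adjugate * A.map C).map c.toAddMonoidHom = c.mapMatrix (M.adjugate * A.map C) from rfl,
    map_mul, hadj, Matrix.smul_mul, Matrix.trace_smul, smul_eq_mul,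
    show c.mapMatrix (A.map C) = A.map PowerSeries.C by ext i j : 1; simp [c],
    show c (X : R[X]) = PowerSeries.X from Polynomial.coe_X, ← hS']
  ring

end Groth.Agent.S3134
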