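import Groth.Statements.S3139
import Mathlib

set_option autoImplicit false
universe u
open CategoryTheory
attribute [local instance] HasDerivedCategory.standard
open SGA4h

namespace Groth.Agent.S3139

open CategoryTheory.Limits Matrix Polynomial

variable {A : Type u} [CommRing A]

lemma homotopy_of_Q_eq {P Q : CochainComplex (ModuleCat.{u} A) ℤ} [P.IsKProjective] (f g : P ⟶ Q)
    (h : DerivedCategory.Q.map f = DerivedCategory.Q.map g) : Nonempty (Homotopy f g) := by
  refine ⟨HomotopyCategory.homotopyOfEq _ _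
    ((CochainComplex.IsKProjective.Qh_map_bijective P _).1 ?_)⟩
  have hf := (DerivedCategory.quotientCompQhIso (ModuleCat.{u} A)).hom.naturality f
  have hg := (DerivedCategory.quotientCompQhIso (ModuleCat.{u} A)).hom.naturality g
  rw [← h] at hg
  exact (cancel_mono ((DerivedCategory.quotientCompQhIso (ModuleCat.{u} A)).hom.app Q)).1
    (hf.trans hg.symm)

lemma exists_map {P Q : CochainComplex (ModuleCat.{u} A) ℤ} [P.IsKProjective]
    (f : DerivedCategory.Q.obj P ⟶ DerivedCategory.Q.obj Q) :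
    ∃ φ : P ⟶ Q, DerivedCategory.Q.map φ = f := by
  let e := DerivedCategory.quotientCompQhIso (ModuleCat.{u} A)
  obtain ⟨g, hg⟩ := (CochainComplex.IsKProjective.Qh_map_bijective P
    ((HomotopyCategory.quotient _ _).obj Q)).2 (e.hom.app P ≫ f ≫ e.inv.app Q)
  obtain ⟨φ, rfl⟩ := (HomotopyCategory.quotient _ _).map_surjective g
  refine ⟨φ, ?_⟩
  rw [← cancel_epi (e.hom.app P), ← e.hom.naturality φ]
  simp only [Functor.comp_map, hg, Category.assoc, Iso.inv_hom_id_app]
  exact congrArg (e.hom.app P ≫ ·) (Category.comp_id f)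

lemma kproj {K : CochainComplex (ModuleCat.{u} A) ℤ} (b : ℤ) [K.IsStrictlyLE b]
    (hK : ∀ i : ℤ, Module.Finite A (K.X i) ∧ Module.Free A (K.X i)) :
    CochainComplex.IsKProjective K := by
  haveI : ∀ i, Projective (K.X i) := fun i => by
    haveI := (hK i).2
    exact (IsProjective.iff_projective (K.X i)).1 inferInstance
  exact CochainComplex.isKProjective_of_projective K b

/-- Telescoping over even and odd degrees. -/
lemma tele {M : Type*} [CommMonoid M] (c : ℤ → M) (a m : ℤ) (hm : a - 1 ≤ m)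
    (ha : c (a - 1) = 1) :
    (∏ i ∈ (Finset.Icc a m).filter Even, c i * c (i - 1)) * (if Odd m then c m else 1) =
      (∏ i ∈ (Finset.Icc a m).filter Odd, c i * c (i - 1)) * (if Even m then c m else 1) := by
  induction m, hm using Int.leInduction with
  | base => rw [Finset.Icc_eq_empty (by omega)]; simp [ha]
  | succ m hm ih =>
    rw [← Finset.insert_Icc_right_eq_Icc_add_one (by omega), Finset.filter_insert,
      Finset.filter_insert]
    rcases Int.even_or_odd m with he | ho
    · have h1 : Odd (m + 1) := he.add_one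
      rw [if_neg (Int.not_even_iff_odd.2 h1), if_pos h1, if_pos h1,
        if_neg (Int.not_even_iff_odd.2 h1), Finset.prod_insert (by simp), mul_one]
      rw [if_neg (Int.not_odd_iff_even.2 he), if_pos he, mul_one] at ih
      rw [ih, add_sub_cancel_right]
      ac_rfl
    · have h1 : Even (m + 1) := ho.add_one
      rw [if_pos h1, if_neg (Int.not_odd_iff_even.2 h1), if_neg (Int.not_odd_iff_even.2 h1),
        if_pos h1, Finset.prod_insert (by simp), mul_one]
      rw [if_pos ho, if_neg (Int.not_even_iff_odd.2 ho), mul_one] at ih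
      rw [← ih, add_sub_cancel_right]
      ac_rfl

section

variable {K K' : CochainComplex (ModuleCat.{u} A) ℤ}

/-- The matrix of a morphism of modules in chosen bases. -/
noncomputable abbrev Bases (K : CochainComplex (ModuleCat.{u} A) ℤ) :=
  (i : ℤ) → Σ (n : ℕ), Module.Basis (Fin n) A (K.X i)

variable (b : Bases K) (b' : Bases K')

noncomputable def mat {i j : ℤ} (f : K.X i ⟶ K'.X j) :
    Matrix (Fin (b' j).1) (Fin (b i).1) (PowerSeries A) :=
  (LinearMap.toMatrix (b i).2 (b' j).2 f.hom).map PowerSeries.C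

variable {b b'}

lemma mat_comp {K'' : CochainComplex (ModuleCat.{u} A) ℤ} {b'' : Bases K''} {i j k : ℤ}
    (f : K.X i ⟶ K'.X j) (g : K'.X j ⟶ K''.X k) :
    mat b b'' (f ≫ g) = mat b' b'' g * mat b b' f := by
  simp only [mat, ModuleCat.hom_comp, LinearMap.toMatrix_comp (b i).2 (b' j).2 (b'' k).2,
    Matrix.map_mul]

lemma mat_zero {i j : ℤ} : mat b b' (0 : K.X i ⟶ K'.X j) = 0 := by
  simp [mat]

lemma mat_add {i j : ℤ} (f g : K.X i ⟶ K'.X j) : mat b b' (f + g) = mat b b' f + mat b b' g := by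
  simp [mat, Matrix.map_add]

variable (b) in
/-- `det(1 - f t)` in one degree, as a power series. -/
noncomputable def delta (f : K ⟶ K) (i : ℤ) : PowerSeries A :=
  (1 - (PowerSeries.X : PowerSeries A) • mat b b (f.f i)).det

lemma coe_detOneSub {i : ℤ} (f : K ⟶ K) :
    ((SGA4h.detOneSub (K.X i) (f.f i) : A[X]) : PowerSeries A) = delta b f i := by
  unfold SGA4h.detOneSub delta mat
  rw [← LinearMap.det_toMatrix ((b i).2.baseChange A[X]),
    ← Polynomial.coeToPowerSeries.ringHom_apply, RingHom.map_det]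
  congr 1
  ext p q
  simp [LinearMap.toMatrix_apply, Matrix.one_apply, Finsupp.single_apply, eq_comm (a := q),
    Polynomial.coeToPowerSeries.ringHom_apply]
  split_ifs <;> simp [PowerSeries.coeff_one, Polynomial.coeff_one, mul_comm]

lemma delta_eq_one {f : K ⟶ K} {i : ℤ} (h : IsZero (K.X i)) : delta b f i = 1 := by
  simp [delta, h.eq_of_src (f.f i) 0, mat_zero]

variable (b) in
lemma homotopy_delta (a n : ℤ) [K.IsStrictlyGE a] [K.IsStrictlyLE n] {f g : K ⟶ K}
    (H : Homotopy f g) :
    ∃ c : ℤ → PowerSeries A, c (a - 1) = 1 ∧ c n = 1 ∧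
      ∀ i, delta b f i = delta b g i * (c i * c (i - 1)) := by
  let P := fun i => 1 - (PowerSeries.X : PowerSeries A) • mat b b (g.f i)
  let D := fun i => mat b b (K.d i (i + 1))
  let T := fun i => mat b b (H.hom (i + 1) i)
  have hP : ∀ i, IsUnit (P i).det := fun i => by
    rw [PowerSeries.isUnit_iff_constantCoeff, RingHom.map_det]
    simp [P, Matrix.map_sub, Matrix.map_smul', Matrix.map_one _ (map_zero _) (map_one _)]
  have hDP : ∀ i, D i * P i = P (i + 1) * D i := fun i => by
    simp only [D, P, Matrix.mul_sub, Matrix.sub_mul, Matrix.mul_one, Matrix.one_mul, Matrix.mul_smul, Matrix.smul_mul,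
      ← mat_comp, g.comm]
  let k := fun i => (P i)⁻¹ * (-(PowerSeries.X : PowerSeries A) • T i)
  have hk : ∀ i, P i * k i = -(PowerSeries.X : PowerSeries A) • T i := fun i => by
    simp only [k, ← Matrix.mul_assoc, Matrix.mul_nonsing_inv _ (hP i), Matrix.one_mul]
  refine ⟨fun i => (1 + D i * k i).det, ?_, ?_, fun i => ?_⟩
  · simp [D, (K.isZero_of_isStrictlyGE a (a - 1)).eq_of_src (K.d (a - 1) (a - 1 + 1)) 0, mat_zero]
  · simp [D, (K.isZero_of_isStrictlyLE n (n + 1)).eq_of_tgt (K.d n (n + 1)) 0, mat_zero]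
  obtain ⟨j, rfl⟩ : ∃ j, i = j + 1 := ⟨i - 1, by ring⟩
  simp only
  rw [show j + 1 - 1 = j by ring, ← det_one_add_mul_comm (k (j + 1)) (D (j + 1)),
    ← Matrix.det_mul]
  have e : (1 + k (j + 1) * D (j + 1)) * (1 + D j * k j) =
      1 + (D j * k j + k (j + 1) * D (j + 1)) := by
    have : D (j + 1) * D j = 0 := by simp only [D, ← mat_comp, K.d_comp_d, mat_zero]
    simp only [Matrix.mul_add, Matrix.add_mul, Matrix.mul_one, Matrix.one_mul]
    rw [Matrix.mul_assoc (k (j + 1)) (D (j + 1)), ← Matrix.mul_assoc (D (j + 1)) (D j), this,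
      Matrix.zero_mul, Matrix.mul_zero]
    abel
  rw [e, delta, delta, ← Matrix.det_mul]
  congr 1
  change 1 - (PowerSeries.X : PowerSeries A) • mat b b (f.f (j + 1)) =
    P (j + 1) * (1 + (D j * k j + k (j + 1) * D (j + 1)))
  rw [Matrix.mul_add, Matrix.mul_add, ← Matrix.mul_assoc, ← hDP j, Matrix.mul_assoc (D j), hk,
    ← Matrix.mul_assoc, hk, H.comm (j + 1),
    dNext_eq H.hom (show (ComplexShape.up ℤ).Rel (j + 1) (j + 1 + 1) from rfl),
    prevD_eq H.hom (show (ComplexShape.up ℤ).Rel j (j + 1) from rfl)]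
  simp only [mat_add, mat_comp (b' := b), D, T, P, Matrix.mul_one, Matrix.mul_smul,
    Matrix.smul_mul, smul_add, neg_smul, Matrix.mul_neg, Matrix.neg_mul]
  abel

end

lemma finprod_parity {M : Type*} [CommMonoid M] (φ : ℤ → M) (a n : ℤ) (p : ℤ → Prop)
    [DecidablePred p] (h : ∀ i, i < a ∨ n < i → φ i = 1) :
    (∏ᶠ i : {i : ℤ // p i}, φ i.1) = ∏ i ∈ (Finset.Icc a n).filter p, φ i := by
  rw [finprod_subtype_eq_finprod_cond p]
  refine finprod_cond_eq_prod_of_cond_iff φ fun {x} hx => ?_
  simp only [Finset.mem_filter, Finset.mem_Icc]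
  exact ⟨fun hp => ⟨by by_contra! hc; exact hx (h x (by omega)), hp⟩, And.right⟩

lemma isZero_outside (K : CochainComplex (ModuleCat.{u} A) ℤ) (a n : ℤ) [K.IsStrictlyGE a]
    [K.IsStrictlyLE n] (i : ℤ) (hi : i < a ∨ n < i) : IsZero (K.X i) :=
  hi.elim (fun h => K.isZero_of_isStrictlyGE a i h) (fun h => K.isZero_of_isStrictlyLE n i h)

lemma coe_detEven {K : CochainComplex (ModuleCat.{u} A) ℤ} (b : Bases K) (a n : ℤ)
    [K.IsStrictlyGE a] [K.IsStrictlyLE n] (f : K ⟶ K) :
    ((SGA4h.detEven K f : A[X]) : PowerSeries A) =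
      ∏ i ∈ (Finset.Icc a n).filter Even, delta b f i := by
  unfold SGA4h.detEven
  rw [finprod_parity (fun i => SGA4h.detOneSub (K.X i) (f.f i)) a n Even fun i hi => ?_,
    ← Polynomial.coeToPowerSeries.ringHom_apply, map_prod]
  · exact Finset.prod_congr rfl fun i _ => coe_detOneSub f
  · apply Polynomial.coe_injective
    rw [coe_detOneSub (b := b), delta_eq_one (isZero_outside K a n i hi), Polynomial.coe_one]

lemma coe_detOdd {K : CochainComplex (ModuleCat.{u} A) ℤ} (b : Bases K) (a n : ℤ)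
    [K.IsStrictlyGE a] [K.IsStrictlyLE n] (f : K ⟶ K) :
    ((SGA4h.detOdd K f : A[X]) : PowerSeries A) =
      ∏ i ∈ (Finset.Icc a n).filter Odd, delta b f i := by
  unfold SGA4h.detOdd
  rw [finprod_parity (fun i => SGA4h.detOneSub (K.X i) (f.f i)) a n Odd fun i hi => ?_,
    ← Polynomial.coeToPowerSeries.ringHom_apply, map_prod]
  · exact Finset.prod_congr rfl fun i _ => coe_detOneSub f
  · apply Polynomial.coe_injective
    rw [coe_detOneSub (b := b), delta_eq_one (isZero_outside K a n i hi), Polynomial.coe_one]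

lemma delta_comm {K K' : CochainComplex (ModuleCat.{u} A) ℤ} (b : Bases K) (b' : Bases K')
    (s : K ⟶ K') (t : K' ⟶ K) (i : ℤ) : delta b (s ≫ t) i = delta b' (t ≫ s) i := by
  simp only [delta, HomologicalComplex.comp_f, mat_comp (b' := b'), mat_comp (b' := b)]
  rw [sub_eq_add_neg, sub_eq_add_neg, ← neg_smul, ← neg_smul, ← Matrix.smul_mul,
    det_one_add_mul_comm, Matrix.mul_smul]


/-- Let A be a commutative ring, K and K' bounded cochain complexes of finite free A-modules with
endomorphisms u and u', and suppose (K, u) and (K', u') are isomorphic in the derived category D(A):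
there is an isomorphism K ≅ K' in D(A) intertwining the images of u and u'. Then det(1 - u t, K) =
det(1 - u' t, K'), where det(1 - u t, K) = ∏ᵢ det(1 - u t, Kⁱ)^{(-1)^i}; the equality is stated
cross-multiplied, as ∏_{i even} det(1 - u t, Kⁱ) · ∏_{i odd} det(1 - u' t, K'ⁱ) = ∏_{i odd} det(1 -
u t, Kⁱ) · ∏_{i even} det(1 - u' t, K'ⁱ) in A[t]. (The source works with finite projective modules;
finite free is the special case stated here.) -/
theorem result (A : Type u) [CommRing A]
    (K K' : CochainComplex (ModuleCat.{u} A) ℤ) (a b : ℤ) [K.IsStrictlyGE a] [K.IsStrictlyLE b] [K'.IsStrictlyGE a] [K'.IsStrictlyLE b]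
    (hK : ∀ i : ℤ, Module.Finite A (K.X i) ∧ Module.Free A (K.X i)) (hK' : ∀ i : ℤ, Module.Finite A (K'.X i) ∧ Module.Free A (K'.X i))
    (u : K ⟶ K) (u' : K' ⟶ K') (φ : DerivedCategory.Q.obj K ≅ DerivedCategory.Q.obj K')
    (hφ : DerivedCategory.Q.map u ≫ φ.hom = φ.hom ≫ DerivedCategory.Q.map u') :
    SGA4h.detEven K u * SGA4h.detOdd K' u' = SGA4h.detOdd K u * SGA4h.detEven K' u' := by
  haveI := kproj b hK
  haveI := kproj b hK'
  have mk : ∀ (L : CochainComplex (ModuleCat.{u} A) ℤ),
      (∀ i : ℤ, Module.Finite A (L.X i) ∧ Module.Free A (L.X i)) → Nonempty (Bases L) := fun L hL =>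
    ⟨fun i => by
      haveI := (hL i).1; haveI := (hL i).2
      exact ⟨_, (Module.Free.chooseBasis A (L.X i)).reindex (Fintype.equivFin _)⟩⟩
  obtain ⟨B⟩ := mk K hK
  obtain ⟨B'⟩ := mk K' hK'
  obtain ⟨s, hs⟩ := exists_map φ.hom
  obtain ⟨t, ht⟩ := exists_map φ.inv
  obtain ⟨H1⟩ := homotopy_of_Q_eq u (u ≫ s ≫ t) (by
    rw [Functor.map_comp, Functor.map_comp, hs, ht, Iso.hom_inv_id, Category.comp_id])
  obtain ⟨H2⟩ := homotopy_of_Q_eq u' (t ≫ u ≫ s) (by
    rw [Functor.map_comp, Functor.map_comp, hs, ht, hφ, Iso.inv_hom_id_assoc])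
  obtain ⟨c, hca, hcb, hc⟩ := homotopy_delta B a b H1
  obtain ⟨c', hca', hcb', hc'⟩ := homotopy_delta B' a b H2
  apply Polynomial.coe_injective
  rw [Polynomial.coe_mul, Polynomial.coe_mul, coe_detEven B a b, coe_detOdd B a b,
    coe_detEven B' a b, coe_detOdd B' a b]
  simp only [hc, hc', ← Category.assoc u s t, delta_comm B B' (u ≫ s) t, Finset.prod_mul_distrib]
  by_cases hab : a - 1 ≤ b
  · have e := tele c a b hab hca
    have e' := tele c' a b hab hca'
    simp only [hcb, hcb', ite_self, mul_one] at e e'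
    simp only [Finset.prod_mul_distrib] at e e'
    rw [e, ← e']
    ac_rfl
  · rw [Finset.Icc_eq_empty (by omega)]; simp

end Groth.Agent.S3139
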