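import Groth.Statements.S3140
-- import your own Groth.Agent.* helpers here

set_option autoImplicit false
universe u
open RingTheory.Sequence
open SGA4h

namespace Groth.Agent.S3140

section
variable {A : Type u} [CommRing A] [IsLocalRing A] [IsNoetherianRing A]

omit [IsNoetherianRing A] in
lemma not_mem {J : List A} {a : A} (h : IsRegular A (J ++ [a])) : a ∉ Ideal.ofList J := by
  intro ha
  have h1 := h.toIsWeaklyRegular
  rw [isWeaklyRegular_append_iff, isWeaklyRegular_singleton_iff] at h1
  have hJ : (Ideal.ofList J • ⊤ : Submodule A A) = Ideal.ofList J := by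
    rw [smul_eq_mul, Ideal.mul_top]
  have hr := h1.2
  rw [hJ, isSMulRegular_quotient_iff_mem_of_smul_mem] at hr
  have hone : (1 : A) ∈ Ideal.ofList J := hr 1 (by simpa using ha)
  refine h.top_ne_smul ?_
  rw [Ideal.ofList_append, (Ideal.eq_top_iff_one _).mpr hone]
  simp

lemma exch {J : List A} {a b c : A} (h : IsRegular A (J ++ [a])) (hc : IsUnit c)
    (hb : b - c * a ∈ Ideal.ofList J) :
    IsRegular A (J ++ [b]) ∧ Ideal.ofList (J ++ [b]) = Ideal.ofList (J ++ [a]) := by
  obtain ⟨u, rfl⟩ := hc
  have heq : Ideal.ofList (J ++ [b]) = Ideal.ofList (J ++ [a]) := by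
    rw [Ideal.ofList_append, Ideal.ofList_append, Ideal.ofList_singleton, Ideal.ofList_singleton]
    apply le_antisymm <;> refine sup_le le_sup_left ?_ <;> rw [Ideal.span_singleton_le_iff_mem]
    · have h9 : b = (b - u * a) + u * a := by ring
      rw [h9]
      exact add_mem (Ideal.mem_sup_left hb)
        (Ideal.mem_sup_right (Ideal.mul_mem_left _ _ (Ideal.mem_span_singleton_self a)))
    · have h9 : a = ↑u⁻¹ * b - ↑u⁻¹ * (b - u * a) := by
        rw [← mul_sub, sub_sub_cancel, Units.inv_mul_cancel_left]
      rw [h9]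
      exact sub_mem (Ideal.mem_sup_right (Ideal.mul_mem_left _ _ (Ideal.mem_span_singleton_self b)))
        (Ideal.mem_sup_left (Ideal.mul_mem_left _ _ hb))
  refine ⟨⟨?_, by rw [heq]; exact h.top_ne_smul⟩, heq⟩
  have hJ : (Ideal.ofList J • ⊤ : Submodule A A) = Ideal.ofList J := by
    rw [smul_eq_mul, Ideal.mul_top]
  have h1 := h.toIsWeaklyRegular
  rw [isWeaklyRegular_append_iff, isWeaklyRegular_singleton_iff] at h1 ⊢
  refine ⟨h1.1, ?_⟩
  have h1' := h1.2
  rw [hJ, isSMulRegular_quotient_iff_mem_of_smul_mem] at h1' ⊢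
  intro z hz
  refine h1' _ ?_
  rw [smul_eq_mul] at hz ⊢
  have h3 : (u : A) * (a * z) ∈ Ideal.ofList J := by
    have h4 := sub_mem hz (Ideal.mul_mem_right z _ hb)
    convert h4 using 1
    ring
  simpa using Ideal.mul_mem_left _ (↑u⁻¹ : A) h3

omit [IsNoetherianRing A] in
lemma unit_or : ∀ (r : List A) (y : A), y ∈ Ideal.ofList r →
    y ∈ IsLocalRing.maximalIdeal A * Ideal.ofList r ∨
      ∃ r₁ a r₂ c, r = r₁ ++ a :: r₂ ∧ IsUnit c ∧ y - c * a ∈ Ideal.ofList (r₁ ++ r₂)
  | [], y, hy => by left; simpa using hy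
  | a :: r, y, hy => by
    rw [Ideal.ofList_cons, Submodule.mem_sup] at hy
    obtain ⟨x, hx, z, hz, rfl⟩ := hy
    obtain ⟨c, rfl⟩ := Ideal.mem_span_singleton'.mp hx
    by_cases hc : IsUnit c
    · exact Or.inr ⟨[], a, r, c, rfl, hc, by simpa using hz⟩
    rcases unit_or r z hz with h | ⟨r₁, a', r₂, c', rfl, hc', h⟩
    · left
      rw [Ideal.ofList_cons, Ideal.mul_sup]
      exact add_mem (Ideal.mem_sup_left (Ideal.mul_mem_mul
        ((IsLocalRing.mem_maximalIdeal c).mpr hc) (Ideal.mem_span_singleton_self a)))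
        (Ideal.mem_sup_right h)
    · refine Or.inr ⟨a :: r₁, a', r₂, c', rfl, hc', ?_⟩
      rw [List.cons_append, Ideal.ofList_cons]
      have h9 : c * a + z - c' * a' = c * a + (z - c' * a') := by ring
      rw [h9]
      exact add_mem (Ideal.mem_sup_left hx) (Ideal.mem_sup_right h)

omit [IsLocalRing A] [IsNoetherianRing A] in
lemma ofList_perm {l l' : List A} (h : l.Perm l') : Ideal.ofList l = Ideal.ofList l' :=
  congrArg Ideal.span (Set.ext fun _ => h.mem_iff)

/-- the elementary step relation between regular sequences generating `I` -/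
def Step (I : Ideal A) (w w' : List A) : Prop :=
  (IsRegular A w' ∧ Ideal.ofList w' = I) ∧
    (w.Perm w' ∨ (w.length = w'.length ∧ w.dropLast = w'.dropLast))

lemma reach (u v : List A) (hu : IsRegular A u) (hv : IsRegular A v)
    (huv : Ideal.ofList u = Ideal.ofList v) :
    ∀ (q p r : List A), v = p ++ q → IsRegular A (p ++ r) → Ideal.ofList (p ++ r) = Ideal.ofList u →
      Relation.ReflTransGen (Step (Ideal.ofList u)) u (p ++ r) →
      Relation.ReflTransGen (Step (Ideal.ofList u)) u v
  | [], p, r, hp, hreg, hI, hr => by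
    rw [List.append_nil] at hp
    subst hp
    cases r with
    | nil => simpa using hr
    | cons a r' =>
      exfalso
      have hperm : (v ++ a :: r').Perm ((v ++ r') ++ [a]) :=
        List.perm_middle.trans (List.perm_append_singleton a _).symm
      refine not_mem (IsLocalRing.isRegular_of_perm hreg hperm) ?_
      have h1 : a ∈ Ideal.ofList (v ++ a :: r') := Ideal.subset_span (by simp)
      rw [hI, huv] at h1
      rw [Ideal.ofList_append]
      exact Ideal.mem_sup_left h1
  | b :: q, p, r, hp, hreg, hI, hr => by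
    have hb : b ∈ Ideal.ofList (p ++ r) := by
      rw [hI, huv, hp]
      exact Ideal.subset_span (by simp)
    rw [Ideal.ofList_append, Submodule.mem_sup] at hb
    obtain ⟨x, hx, y, hy, hxy⟩ := hb
    rcases unit_or r y hy with h | ⟨r₁, a, r₂, c, hre, hc, h⟩
    · exfalso
      have hperm : v.Perm ((p ++ q) ++ [b]) := by
        rw [hp]
        exact List.perm_middle.trans (List.perm_append_singleton b _).symm
      refine not_mem (IsLocalRing.isRegular_of_perm hv hperm) ?_
      have h1 : y ∈ IsLocalRing.maximalIdeal A * Ideal.ofList ((p ++ q) ++ [b]) := by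
        rw [← ofList_perm hperm, ← huv, ← hI, Ideal.ofList_append]
        exact Ideal.mul_mono le_rfl le_sup_right h
      rw [Ideal.ofList_append, Ideal.mul_sup, Submodule.mem_sup, Ideal.ofList_singleton] at h1
      obtain ⟨z, hz, w, hw, hzw⟩ := h1
      obtain ⟨d, hd, rfl⟩ := Ideal.mem_mul_span_singleton.mp hw
      have h2 : (1 - d) * b ∈ Ideal.ofList (p ++ q) := by
        have h9 : (1 - d) * b = x + z := by
          calc (1 - d) * b = b - d * b := by ring
            _ = x + y - d * b := by rw [hxy]
            _ = x + z := by rw [← hzw]; ring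
        rw [h9]
        refine add_mem ?_ (Ideal.mul_le_right hz : z ∈ Ideal.ofList (p ++ q))
        rw [Ideal.ofList_append]
        exact Ideal.mem_sup_left hx
      obtain ⟨e, he⟩ := IsLocalRing.isUnit_one_sub_self_of_mem_nonunits d
        ((IsLocalRing.mem_maximalIdeal d).mp hd)
      have h3 := Ideal.mul_mem_left _ (↑e⁻¹ : A) h2
      rwa [← he, Units.inv_mul_cancel_left] at h3
    · subst hre
      have hperm : (p ++ (r₁ ++ a :: r₂)).Perm ((p ++ (r₁ ++ r₂)) ++ [a]) :=
        ((List.perm_middle.append_left p).trans List.perm_middle).trans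
          (List.perm_append_singleton a _).symm
      have hreg1 := IsLocalRing.isRegular_of_perm hreg hperm
      have hI1 := (ofList_perm hperm).symm.trans hI
      have hb' : b - c * a ∈ Ideal.ofList (p ++ (r₁ ++ r₂)) := by
        rw [Ideal.ofList_append, ← hxy]
        have h9 : x + y - c * a = x + (y - c * a) := by ring
        rw [h9]
        exact add_mem (Ideal.mem_sup_left hx) (Ideal.mem_sup_right h)
      obtain ⟨hreg2, hI2⟩ := exch hreg1 hc hb'
      have hperm2 : ((p ++ (r₁ ++ r₂)) ++ [b]).Perm ((p ++ [b]) ++ (r₁ ++ r₂)) := by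
        rw [List.append_assoc, List.append_assoc p [b]]
        exact List.perm_append_comm.append_left p
      refine reach u v hu hv huv q (p ++ [b]) (r₁ ++ r₂) (by rw [hp]; simp)
        (IsLocalRing.isRegular_of_perm hreg2 hperm2)
        ((ofList_perm hperm2).symm.trans (hI2.trans hI1)) ?_
      refine ((hr.tail ⟨⟨hreg1, hI1⟩, Or.inl hperm⟩).tail
        (⟨⟨hreg2, hI2.trans hI1⟩, Or.inr ⟨by simp, ?_⟩⟩ : Step _ _ ((p ++ (r₁ ++ r₂)) ++ [b]))).tail
        ⟨⟨IsLocalRing.isRegular_of_perm hreg2 hperm2,
          (ofList_perm hperm2).symm.trans (hI2.trans hI1)⟩, Or.inl hperm2⟩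
      rw [List.dropLast_concat, List.dropLast_concat]

end

/-- Let A be a Noetherian local ring and u, v two regular sequences of elements of A generating the same
ideal. Then there is a finite chain of regular sequences generating that same ideal, starting at u
and ending at v, in which each sequence is obtained from the previous one either by a permutation or
by changing only its last element. -/
theorem result (A : Type u) [CommRing A] [IsLocalRing A] [IsNoetherianRing A]
    (u v : List A) (hu : IsRegular A u) (hv : IsRegular A v) (huv : Ideal.span {x | x ∈ u} = Ideal.span {x | x ∈ v}) :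
    ∃ ws : List (List A), ws.head? = some u ∧ ws.getLast? = some v ∧
      (∀ w ∈ ws, IsRegular A w ∧ Ideal.span {x | x ∈ w} = Ideal.span {x | x ∈ u}) ∧
      List.IsChain (fun w w' : List A => w.Perm w' ∨ (w.length = w'.length ∧ w.dropLast = w'.dropLast)) ws := by
  have huv' : Ideal.ofList u = Ideal.ofList v := huv
  have h := reach u v hu hv huv' v [] u rfl hu rfl .refl
  obtain ⟨l, hl, hlast⟩ := List.exists_isChain_cons_of_relationReflTransGen h
  refine ⟨u :: l, rfl, ?_, ?_, hl.imp fun _ _ hs => hs.2⟩
  · rw [List.getLast?_eq_some_getLast (List.cons_ne_nil _ _), hlast]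
  · exact List.IsChain.induction (fun w => IsRegular A w ∧ Ideal.ofList w = Ideal.ofList u) _ hl
      (fun _ _ hs _ => hs.1) (fun _ => ⟨hu, rfl⟩)

end Groth.Agent.S3140
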