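import Groth.Statements.S3193
import Groth.Agent.Lib.Devissage.LineInvariance
import Groth.Agent.Lib.CohDelta.BC.Flat
import Mathlib.AlgebraicGeometry.Morphisms.Flat

set_option autoImplicit false
set_option linter.style.haveILetI false
universe u
open CategoryTheory CategoryTheory.Limits AlgebraicGeometry
attribute [local instance] HasDerivedCategory.standard
open SGA6

namespace Groth.Agent.S3193

open Groth.Agent.Lib

/-- Pullback induces a bijection on `K₀` of coherent modules. -/
def Good {X S : Scheme.{u}} (f : X ⟶ S) : Prop :=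
  ∃ φ : KZero.K0sub (fun M : S.Modules => Coh.IsCoh M) →+ KZero.K0sub (fun M : X.Modules => Coh.IsCoh M),
    Function.Bijective φ ∧ ∀ M : S.Modules, Coh.IsCoh M →
      φ (KZero.clSub (fun M : S.Modules => Coh.IsCoh M) M) =
        KZero.clSub (fun M : X.Modules => Coh.IsCoh M) ((Scheme.Modules.pullback f).obj M)

theorem cl_iso {X : Scheme.{u}} {A B : X.Modules} (e : A ≅ B) (hA : Coh.IsCoh A) :
    KZero.clSub (fun M : X.Modules => Coh.IsCoh M) A = KZero.clSub (fun M : X.Modules => Coh.IsCoh M) B :=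
  Devissage.Localization.clSub_congr e hA (CohBasics.Closure.isCoh_of_iso e hA)
    (CohBasics.Closure.isCoh_cokernel _ hA.1 hA)

theorem flat_line (σ : Type u) (S : Scheme.{u}) : Flat (𝔸(σ; S) ↘ S) :=
  MorphismProperty.pullback_fst (P := @Flat) _ _ <| by
    have := isIso_of_isTerminal specULiftZIsTerminal.{u} terminalIsTerminal (terminal.from _)
    rw [← terminal.comp_from (Spec.map (CommRingCat.ofHom (MvPolynomial.C (σ := σ)))),
      MorphismProperty.cancel_right_of_respectsIso (P := @Flat),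
      HasRingHomProperty.Spec_iff (P := @Flat)]
    change RingHom.Flat (algebraMap (ULift.{u} ℤ) (MvPolynomial σ (ULift.{u} ℤ)))
    rw [RingHom.flat_algebraMap_iff]
    infer_instance

theorem good_line (X : Scheme.{u}) [IsNoetherian X] : Good (𝔸(ULift.{u} (Fin 1); X) ↘ X) := by
  let p := 𝔸(ULift.{u} (Fin 1); X) ↘ X
  haveI : Flat p := flat_line _ X
  haveI : (Scheme.Modules.pullback p).Additive :=
    (Scheme.Modules.pullbackPushforwardAdjunction p).left_adjoint_additive
  haveI := CohDelta.BC.Flat.preservesFiniteLimits_pullback p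
  haveI : PreservesFiniteColimits (Scheme.Modules.pullback p) :=
    haveI : PreservesColimitsOfSize.{0, 0} (Scheme.Modules.pullback p) :=
      (Scheme.Modules.pullbackPushforwardAdjunction p).leftAdjoint_preservesColimits
    PreservesColimitsOfSize.preservesFiniteColimits _
  exact ⟨_, Devissage.LineInvariance.bijective_line (fun M hM => Cyc.FP.Stalk.isCoh_pullback p hM),
    fun M hM => KRes.KSub.mapSub_cl _ _ hM⟩

theorem good_comp {X Y S : Scheme.{u}} (g : X ⟶ Y) (f : Y ⟶ S) (hg : Good g) (hf : Good f) :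
    Good (g ≫ f) := by
  obtain ⟨a, ha, ha'⟩ := hg
  obtain ⟨b, hb, hb'⟩ := hf
  refine ⟨a.comp b, ha.comp hb, fun M hM => ?_⟩
  rw [AddMonoidHom.comp_apply, hb' M hM, ha' _ (Cyc.FP.Stalk.isCoh_pullback f hM)]
  exact cl_iso ((Scheme.Modules.pullbackComp g f).app M)
    (Cyc.FP.Stalk.isCoh_pullback g (Cyc.FP.Stalk.isCoh_pullback f hM))

theorem good_iso {X S : Scheme.{u}} (e : X ⟶ S) [IsIso e] : Good e := by
  have key : ∀ {X S : Scheme.{u}} (e : X ⟶ S) [IsIso e],
      ∃ φ : KZero.K0sub (fun M : S.Modules => Coh.IsCoh M) →+ KZero.K0sub (fun M : X.Modules => Coh.IsCoh M),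
        ∀ M : S.Modules, Coh.IsCoh M → φ (KZero.clSub (fun M : S.Modules => Coh.IsCoh M) M) =
          KZero.clSub (fun M : X.Modules => Coh.IsCoh M) ((Scheme.Modules.pullback e).obj M) := by
    intro X S e _
    haveI : (Scheme.Modules.pullback e).Additive :=
      (Scheme.Modules.pullbackPushforwardAdjunction e).left_adjoint_additive
    haveI := CohDelta.BC.Flat.preservesFiniteLimits_pullback e
    haveI : PreservesFiniteColimits (Scheme.Modules.pullback e) :=
      haveI : PreservesColimitsOfSize.{0, 0} (Scheme.Modules.pullback e) :=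
        (Scheme.Modules.pullbackPushforwardAdjunction e).leftAdjoint_preservesColimits
      PreservesColimitsOfSize.preservesFiniteColimits _
    exact ⟨SGA6.mapSub (Scheme.Modules.pullback e) _ _ (fun M hM => Cyc.FP.Stalk.isCoh_pullback e hM),
      fun M hM => KRes.KSub.mapSub_cl _ _ hM⟩
  obtain ⟨a, ha⟩ := key e
  obtain ⟨b, hb⟩ := key (inv e)
  refine ⟨a, ⟨?_, ?_⟩, ha⟩
  · refine Function.LeftInverse.injective (g := b) (DFunLike.congr_fun (f := b.comp a) (g := AddMonoidHom.id _) ?_)
    refine KRes.KSub.hom_ext fun M hM => ?_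
    rw [AddMonoidHom.comp_apply, ha M hM, hb _ (Cyc.FP.Stalk.isCoh_pullback e hM), AddMonoidHom.id_apply]
    exact cl_iso ((Scheme.Modules.pullbackComp (inv e) e).app M ≪≫
      (Scheme.Modules.pullbackCongr (IsIso.inv_hom_id e)).app M ≪≫ (Scheme.Modules.pullbackId _).app M)
      (Cyc.FP.Stalk.isCoh_pullback (inv e) (Cyc.FP.Stalk.isCoh_pullback e hM))
  · refine Function.RightInverse.surjective (g := b) (DFunLike.congr_fun (f := a.comp b) (g := AddMonoidHom.id _) ?_)
    refine KRes.KSub.hom_ext fun M hM => ?_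
    rw [AddMonoidHom.comp_apply, hb M hM, ha _ (Cyc.FP.Stalk.isCoh_pullback (inv e) hM), AddMonoidHom.id_apply]
    exact cl_iso ((Scheme.Modules.pullbackComp e (inv e)).app M ≪≫
      (Scheme.Modules.pullbackCongr (IsIso.hom_inv_id e)).app M ≪≫ (Scheme.Modules.pullbackId _).app M)
      (Cyc.FP.Stalk.isCoh_pullback e (Cyc.FP.Stalk.isCoh_pullback (inv e) hM))

theorem exists_iso_succ (S : Scheme.{u}) (r : ℕ) :
    ∃ (e : 𝔸(ULift.{u} (Fin (r + 1)); S) ⟶ 𝔸(ULift.{u} (Fin 1); 𝔸(ULift.{u} (Fin r); S))),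
      IsIso e ∧ e ≫ (𝔸(ULift.{u} (Fin 1); 𝔸(ULift.{u} (Fin r); S)) ↘ 𝔸(ULift.{u} (Fin r); S)) ≫
        (𝔸(ULift.{u} (Fin r); S) ↘ S) = 𝔸(ULift.{u} (Fin (r + 1)); S) ↘ S := by
  let A := 𝔸(ULift.{u} (Fin r); S)
  let q := 𝔸(ULift.{u} (Fin 1); A) ↘ A
  let e : 𝔸(ULift.{u} (Fin (r + 1)); S) ⟶ 𝔸(ULift.{u} (Fin 1); A) :=
    AffineSpace.homOfVector (AffineSpace.homOfVector (𝔸(ULift.{u} (Fin (r + 1)); S) ↘ S)
      fun i => AffineSpace.coord S (ULift.up i.down.castSucc))
      fun _ => AffineSpace.coord S (ULift.up (Fin.last r))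
  let e' : 𝔸(ULift.{u} (Fin 1); A) ⟶ 𝔸(ULift.{u} (Fin (r + 1)); S) :=
    AffineSpace.homOfVector (q ≫ (A ↘ S)) fun i => Fin.lastCases
      (AffineSpace.coord A (ULift.up (0 : Fin 1))) (fun k => q.appTop (AffineSpace.coord S (ULift.up k))) i.down
  have he : e ≫ q ≫ (A ↘ S) = 𝔸(ULift.{u} (Fin (r + 1)); S) ↘ S := by
    rw [← Category.assoc, AffineSpace.homOfVector_over, AffineSpace.homOfVector_over]
  refine ⟨e, ⟨e', ?_, ?_⟩, he⟩
  · refine AffineSpace.hom_ext ?_ fun i => ?_
    · rw [Category.assoc, AffineSpace.homOfVector_over, he, Category.id_comp]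
    · obtain ⟨i⟩ := i
      rw [Scheme.Hom.comp_appTop, CommRingCat.comp_apply, AffineSpace.homOfVector_appTop_coord]
      induction i using Fin.lastCases with
      | last =>
        rw [Fin.lastCases_last, AffineSpace.homOfVector_appTop_coord]
        simp
      | cast k =>
        rw [Fin.lastCases_castSucc, ← CommRingCat.comp_apply, ← Scheme.Hom.comp_appTop,
          AffineSpace.homOfVector_over, AffineSpace.homOfVector_appTop_coord]
        simp
  · refine AffineSpace.hom_ext ?_ fun i => ?_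
    · rw [Category.assoc, AffineSpace.homOfVector_over, Category.id_comp]
      refine AffineSpace.hom_ext ?_ fun k => ?_
      · rw [Category.assoc, AffineSpace.homOfVector_over, AffineSpace.homOfVector_over]
      · rw [Scheme.Hom.comp_appTop, CommRingCat.comp_apply, AffineSpace.homOfVector_appTop_coord,
          AffineSpace.homOfVector_appTop_coord, Fin.lastCases_castSucc]
    · rw [Scheme.Hom.comp_appTop, CommRingCat.comp_apply, AffineSpace.homOfVector_appTop_coord,
        AffineSpace.homOfVector_appTop_coord, Fin.lastCases_last]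
      obtain ⟨i⟩ := i
      rw [Subsingleton.elim i 0]
      simp [A]

theorem good_space (S : Scheme.{u}) [IsNoetherian S] : ∀ r : ℕ, Good (𝔸(ULift.{u} (Fin r); S) ↘ S)
  | 0 => good_iso _
  | r + 1 => by
    obtain ⟨e, he, hfac⟩ := exists_iso_succ S r
    haveI : IsNoetherian 𝔸(ULift.{u} (Fin r); S) :=
      { toIsLocallyNoetherian := LocallyOfFiniteType.isLocallyNoetherian (𝔸(ULift.{u} (Fin r); S) ↘ S)
        toCompactSpace := QuasiCompact.compactSpace_of_compactSpace (𝔸(ULift.{u} (Fin r); S) ↘ S) }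
    rw [← hfac]
    exact good_comp _ _ (good_iso e) (good_comp _ _ (good_line _) (good_space S r))

/-- For a trivial vector bundle: let S be a Noetherian scheme, r a natural number and f : 𝔸^r_S ⟶ S the
projection of affine r-space. Pullback of modules along the flat morphism f is exact (carried as
instance hypotheses) and preserves coherence (hypothesis hf); the induced homomorphism f^* : K₀(Coh
S) ⟶ K₀(Coh 𝔸^r_S) is bijective. (The source treats the vector bundle of any finite locally free E.) -/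
theorem result (S : Scheme.{u}) [IsNoetherian S] (r : ℕ)
    [(Scheme.Modules.pullback (𝔸(ULift.{u} (Fin r); S) ↘ S)).Additive] [PreservesFiniteLimits (Scheme.Modules.pullback (𝔸(ULift.{u} (Fin r); S) ↘ S))]
    [PreservesFiniteColimits (Scheme.Modules.pullback (𝔸(ULift.{u} (Fin r); S) ↘ S))]
    (hf : ∀ M : S.Modules, Coh.IsCoh M → Coh.IsCoh ((Scheme.Modules.pullback (𝔸(ULift.{u} (Fin r); S) ↘ S)).obj M)) :
    Function.Bijective (SGA6.mapSub (Scheme.Modules.pullback (𝔸(ULift.{u} (Fin r); S) ↘ S)) (fun M : (S).Modules => Coh.IsCoh M) (fun M : (𝔸(ULift.{u} (Fin r); S)).Modules => Coh.IsCoh M) hf) := by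
  obtain ⟨φ, hφ, hcl⟩ := good_space S r
  convert hφ using 1
  refine congrArg (fun g : _ →+ _ => ⇑g) (KRes.KSub.hom_ext fun M hM => ?_)
  rw [hcl M hM]
  exact KRes.KSub.mapSub_cl _ hf hM

end Groth.Agent.S3193
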