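import Groth.Statements.S3194
import Groth.Agent.H15.NodeK0
import Mathlib.LinearAlgebra.Dimension.Localization

set_option autoImplicit false
universe u
open CategoryTheory
open SGA6

namespace Groth.Agent.S3194

/-- Let A be a principal ideal domain and K_•(Spec A) = K₀ of the category of finitely generated
A-modules (free abelian group on finitely generated modules modulo short exact sequences). The
homomorphism ℤ ⟶ K_•(Spec A) sending k to k·[A] is bijective. -/
theorem result (A : Type u) [CommRing A] [IsDomain A] [IsPrincipalIdealRing A] :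
    Function.Bijective (fun k : ℤ => k • KZero.clSub (fun M : ModuleCat.{u} A => Module.Finite A M) (ModuleCat.of A A)) := by
  have hfinA : Module.Finite A A := inferInstance
  have hfinq : ∀ q : Ideal A, Module.Finite A (A ⧸ q) := fun q => inferInstance
  let L := Groth.Agent.Lib.KRes.KSub.lift (P := fun M : ModuleCat.{u} A => Module.Finite A M) (fun M => (Module.finrank A M : ℤ)) (by
    intro S hS h₁ h₂ h₃
    haveI := h₂
    have hfe := (ShortComplex.ShortExact.moduleCat_exact_iff_function_exact S).1 hS.exact
    have e := LinearEquiv.ofInjective S.f.hom hS.moduleCat_injective_f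
    have e' := S.g.hom.quotKerEquivOfSurjective hS.moduleCat_surjective_g
    have := Submodule.finrank_quotient_add_finrank (R := A) (LinearMap.ker S.g.hom)
    rw [e'.finrank_eq, hfe.linearMap_ker_eq, ← e.finrank_eq] at this
    show (Module.finrank A S.X₂ : ℤ) = Module.finrank A S.X₁ + Module.finrank A S.X₃
    omega)
  have hL : L (KZero.clSub (fun M : ModuleCat.{u} A => Module.Finite A M) (ModuleCat.of A A)) = 1 := by
    rw [Groth.Agent.Lib.KRes.KSub.lift_cl _ _ (X := ModuleCat.of A A) hfinA]
    simp
  constructor
  · intro a b h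
    simpa [map_zsmul, hL] using congrArg L h
  · suffices h : (zmultiplesHom _ (KZero.clSub (fun M : ModuleCat.{u} A => Module.Finite A M) (ModuleCat.of A A))).range = ⊤ by
      intro z
      obtain ⟨p, hp⟩ := h ▸ AddSubgroup.mem_top z
      exact ⟨p, hp⟩
    set S := (zmultiplesHom _ (KZero.clSub (fun M : ModuleCat.{u} A => Module.Finite A M) (ModuleCat.of A A))).range
    refine Groth.Agent.Lib.KRes.KSub.closure_eq_top fun M hM => ?_
    haveI : Module.Finite A M := hM
    refine IsNoetherianRing.induction_on_isQuotientEquivQuotientPrime (A := A) this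
      (motive := fun N _ _ _ => KZero.clSub (fun M : ModuleCat.{u} A => Module.Finite A M) (ModuleCat.of A N) ∈ S) ?_ ?_ ?_
    · intro N _ _ _ _
      rw [Groth.Agent.Lib.KRes.KSub.clSub_zero (ModuleCat.isZero_of_subsingleton (ModuleCat.of A N)) ‹Module.Finite A N›]
      exact S.zero_mem
    · intro N _ _ hN q e
      rw [Groth.Agent.H15.NodeK0.clSub_iso A e.toModuleIso hN (hfinq _)]
      obtain ⟨h, hq⟩ := (IsPrincipalIdealRing.principal q.1).principal
      by_cases h0 : h = 0
      · have hbot : q.1 = ⊥ := by rw [hq, h0]; simp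
        rw [Groth.Agent.H15.NodeK0.clSub_iso A ((Submodule.quotEquivOfEqBot q.1 hbot).toModuleIso) (hfinq _) hfinA]
        exact ⟨1, by simp⟩
      · haveI := hfinq q.1
        have hrel := Groth.Agent.H15.NodeK0.rel_lin A (M := A) (N := A) (Q := A ⧸ q.1) (LinearMap.mulLeft A h) (Submodule.mkQ q.1)
          (fun a b hab => mul_left_cancel₀ h0 hab) (Submodule.mkQ_surjective _) (fun z => by
            rw [Submodule.mkQ_apply, Submodule.Quotient.mk_eq_zero, hq]
            simp only [Submodule.mem_span_singleton, Set.mem_range, LinearMap.mulLeft_apply, smul_eq_mul, mul_comm h])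
        rw [left_eq_add.mp hrel]
        exact S.zero_mem
    · intro N₁ _ _ _ N₂ _ _ _ N₃ _ _ _ f g hf hg h h₁ h₃
      rw [Groth.Agent.H15.NodeK0.rel_lin A f g hf hg h]
      exact S.add_mem h₁ h₃

end Groth.Agent.S3194
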