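import Groth.Statements.S3196
import Groth.Agent.H15.KoszulTor.Basic
import Groth.Agent.H25.TorLES
import Groth.Agent.H26.H1Quasi
import Groth.Agent.Lib.Synt92.KoszulH1
import Groth.Agent.Lib.Wiebe.Bridge
import Mathlib.RingTheory.MvPolynomial.Homogeneous

set_option autoImplicit false
universe u
open CategoryTheory CategoryTheory.Limits
open SGA6

namespace Groth.Agent.S3196

open Groth.Agent Groth.Agent.H25.TorLES

variable {A : Type u} [CommRing A]

/-- Acyclic Koszul complex implies vanishing `H₁`. -/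
lemma quasi {c : ℕ} (f : Fin c → A) (hf : LCI.IsKoszulRegularSeq A (List.ofFn f)) : CAlgX.IsQuasiRegular f := by
  refine Groth.Agent.H26.H1Quasi.isQuasiRegular ((Groth.Agent.H26.H1Quasi.isH1Regular_iff f).mpr fun a ha => ?_)
  exact Groth.Agent.Lib.Synt92.KoszulH1.isTriv_of_acyc (Groth.Agent.Lib.Wiebe.Bridge.acyc_of_isKoszulRegularSeq f hf) a (by rw [← ha]; exact Finset.sum_congr rfl fun i _ => by rw [smul_eq_mul, mul_comm])

lemma isZero_pi (F : ModuleCat.{u} A ⥤ ModuleCat.{u} A) [F.Additive] {ι : Type} [Finite ι] (Q : ModuleCat.{u} A)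
    (hQ : IsZero (F.obj Q)) : IsZero (F.obj (ModuleCat.of A (ι → Q))) := by
  classical
  haveI := Fintype.ofFinite ι
  have hid : (ModuleCat.ofHom (LinearMap.id : (ι → Q) →ₗ[A] (ι → Q))) = 𝟙 (ModuleCat.of A (ι → Q)) := rfl
  rw [IsZero.iff_id_eq_zero, ← F.map_id]
  have hsum : 𝟙 (ModuleCat.of A (ι → Q)) =
      ∑ i : ι, (ModuleCat.ofHom (LinearMap.proj i) : ModuleCat.of A (ι → Q) ⟶ Q) ≫
        ModuleCat.ofHom (LinearMap.single A (fun _ : ι => (Q : Type u)) i) := by
    refine ModuleCat.hom_ext (LinearMap.ext fun v => ?_)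
    simp only [ModuleCat.hom_sum, LinearMap.sum_apply, ModuleCat.hom_comp, ModuleCat.hom_ofHom, LinearMap.comp_apply,
      LinearMap.coe_proj, Function.eval, LinearMap.coe_single]
    exact (Finset.univ_sum_single v).symm
  rw [hsum, F.map_sum]
  refine Finset.sum_eq_zero fun i _ => ?_
  rw [F.map_comp, hQ.eq_of_tgt (F.map _) 0, zero_comp]

/-- The associated graded pieces of a quasi-regular ideal are free. -/
lemma exists_gr_equiv {c : ℕ} (f : Fin c → A) (hf : CAlgX.IsQuasiRegular f) (n : ℕ) :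
    ∃ (ι : Type) (_ : Finite ι), Nonempty ((↥(Ideal.span (Set.range f) ^ n) ⧸
      Submodule.comap (Ideal.span (Set.range f) ^ n).subtype (Ideal.span (Set.range f) ^ (n + 1))) ≃ₗ[A]
      (ι → A ⧸ Ideal.span (Set.range f))) := by
  classical
  set J := Ideal.span (Set.range f)
  let idx := ↥(Finset.finsuppAntidiag (Finset.univ : Finset (Fin c)) n)
  have hdeg : ∀ d : idx, ∑ i, (d.1 : Fin c →₀ ℕ) i = n := fun d => ((Finset.mem_finsuppAntidiag).mp d.2).1
  have hmem : ∀ d : idx, ∏ i, f i ^ (d.1 : Fin c →₀ ℕ) i ∈ J ^ n := by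
    intro d
    refine (?_ : _ ∈ J ^ _)
    rw [show J ^ n = ∏ i, J ^ (d.1 : Fin c →₀ ℕ) i by rw [Finset.prod_pow_eq_pow_sum, hdeg d]]
    exact Ideal.prod_mem_prod fun i _ => Ideal.pow_mem_pow (Ideal.subset_span (Set.mem_range_self i) : f i ∈ J) _
  let Ψ0 : (idx → A) →ₗ[A] ↥(J ^ n) := Fintype.linearCombination A (fun d => (⟨_, hmem d⟩ : ↥(J ^ n)))
  let Ψ := (Submodule.comap (J ^ n).subtype (J ^ (n + 1))).mkQ ∘ₗ Ψ0
  let R : (idx → A) →ₗ[A] (idx → A ⧸ J) := (Submodule.mkQ J).compLeft idx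
  let poly : (idx → A) → MvPolynomial (Fin c) A := fun v => ∑ d : idx, MvPolynomial.monomial d.1 (v d)
  have hval : ∀ v : idx → A, MvPolynomial.eval f (poly v) = (Ψ0 v : A) := by
    intro v
    simp only [poly, Ψ0, map_sum, Fintype.linearCombination_apply, Submodule.coe_sum, Submodule.coe_smul, smul_eq_mul,
      MvPolynomial.eval_monomial]
    exact Finset.sum_congr rfl fun d _ => by rw [Finsupp.prod_fintype _ _ fun i => pow_zero _]
  have hhom : ∀ v, (poly v).IsHomogeneous n := fun v =>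
    MvPolynomial.IsHomogeneous.sum _ _ _ fun d _ => MvPolynomial.isHomogeneous_monomial _ (by
      rw [Finsupp.degree_eq_sum, hdeg d])
  have hcoeff : ∀ (v : idx → A) (d : idx), (poly v).coeff d.1 = v d := by
    intro v d
    simp only [poly, MvPolynomial.coeff_sum, MvPolynomial.coeff_monomial]
    rw [Finset.sum_eq_single d (fun e _ he => if_neg fun h => he (Subtype.ext h)) (by simp), if_pos rfl]
  have hker : LinearMap.ker Ψ = LinearMap.ker R := by
    ext v
    simp only [LinearMap.mem_ker, Ψ, LinearMap.comp_apply, Submodule.mkQ_apply, Submodule.Quotient.mk_eq_zero,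
      Submodule.mem_comap, Submodule.subtype_apply, funext_iff, R, LinearMap.compLeft_apply, Function.comp_apply, Pi.zero_apply]
    constructor
    · intro h d
      rw [← hcoeff v d]
      exact hf n (poly v) (hhom v) (by rw [hval]; exact h) d.1
    · intro h
      have hv : (Ψ0 v : A) = ∑ d : idx, v d * ∏ i, f i ^ (d.1 : Fin c →₀ ℕ) i := by
        simp [Ψ0, Fintype.linearCombination_apply]
      rw [hv, pow_succ']
      exact Ideal.sum_mem _ fun d _ => Ideal.mul_mem_mul (h d) (hmem d)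
  have hΨ0 : Function.Surjective Ψ0 := by
    rintro ⟨x, hx⟩
    let evl : MvPolynomial (Fin c) A →ₐ[A] A := MvPolynomial.aeval f
    have hmap : (MvPolynomial.homogeneousSubmodule (Fin c) A n).map evl.toLinearMap = J ^ n := by
      rw [← MvPolynomial.homogeneousSubmodule_one_pow, Submodule.map_pow, MvPolynomial.homogeneousSubmodule_one_eq_span_X,
        Submodule.map_span, ← Set.range_comp]
      congr 1
      change Submodule.span A _ = Submodule.span A _
      congr 1
      ext y
      simp [evl]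
    rw [← hmap] at hx
    obtain ⟨P, hP, hPx⟩ := hx
    refine ⟨fun d => P.coeff d.1, Subtype.ext ?_⟩
    rw [← hval]
    change _ = x
    rw [← hPx]
    change MvPolynomial.eval f (poly fun d => P.coeff d.1) = MvPolynomial.aeval f P
    have hPeq : poly (fun d => P.coeff d.1) = P := by
      refine MvPolynomial.ext _ _ fun e => ?_
      by_cases he : e ∈ Finset.finsuppAntidiag (Finset.univ : Finset (Fin c)) n
      · exact hcoeff _ ⟨e, he⟩
      · have h0 : P.coeff e = 0 := by
          refine ((MvPolynomial.mem_homogeneousSubmodule n P).mp hP).coeff_eq_zero fun h => he ?_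
          rw [Finset.mem_finsuppAntidiag]
          exact ⟨by rw [← Finsupp.degree_eq_sum]; exact h, Finset.subset_univ _⟩
        rw [h0]
        simp only [poly, MvPolynomial.coeff_sum, MvPolynomial.coeff_monomial]
        exact Finset.sum_eq_zero fun d _ => if_neg fun h => he (by rw [← h]; exact d.2)
    rw [hPeq]
    rfl
  have hΨ : Function.Surjective Ψ := (Submodule.mkQ_surjective _).comp hΨ0
  have hR : Function.Surjective R := by
    intro v
    choose g hg using fun d => Submodule.mkQ_surjective J (v d)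
    exact ⟨g, funext hg⟩
  exact ⟨idx, inferInstance, ⟨(Ψ.quotKerEquivOfSurjective hΨ).symm ≪≫ₗ
    Submodule.quotEquivOfEq _ _ hker ≪≫ₗ R.quotKerEquivOfSurjective hR⟩⟩


/-- Let A be a commutative ring, fs a Koszul-regular sequence in A generating the ideal J, and A' a
commutative A-algebra in which the image of fs is again Koszul-regular. Then for every n ≥ 0 and i ≥
1, Tor_i^A(Jⁿ, A') = 0 and Tor_i^A(Jⁿ/Jⁿ⁺¹, A') = 0 (Mathlib's Tor on A-modules). (The source also
derives Jⁿ ⊗_A A' ≅ J'ⁿ and Jⁿ/Jⁿ⁺¹ ⊗_A A' ≅ J'ⁿ/J'ⁿ⁺¹ for J' = JA', and works with a regular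
homomorphism from any finite projective module.) -/
theorem result (A : Type u) [CommRing A] (A' : Type u) [CommRing A'] [Algebra A A']
    (fs : List A) (hfs : LCI.IsKoszulRegularSeq A fs) (hfs' : LCI.IsKoszulRegularSeq A' (fs.map (algebraMap A A')))
    (n : ℕ) (i : ℕ) (hi : 1 ≤ i) :
    IsZero (((Tor (ModuleCat.{u} A) i).obj (ModuleCat.of A ↥(Ideal.span {x | x ∈ fs} ^ n))).obj (ModuleCat.of A A')) ∧
    IsZero (((Tor (ModuleCat.{u} A) i).obj (ModuleCat.of A
      (↥(Ideal.span {x | x ∈ fs} ^ n) ⧸ Submodule.comap (Ideal.span {x | x ∈ fs} ^ n).subtype (Ideal.span {x | x ∈ fs} ^ (n + 1))))).obj (ModuleCat.of A A')) := by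
  classical
  obtain ⟨c, f, rfl⟩ : ∃ (c : ℕ) (f : Fin c → A), fs = List.ofFn f := ⟨fs.length, fs.get, (List.ofFn_get fs).symm⟩
  have hJ : Ideal.span {x | x ∈ List.ofFn f} = Ideal.span (Set.range f) := by
    congr 1
    ext x
    simp [List.mem_ofFn]
  rw [hJ]
  have hq := quasi f hfs
  set J := Ideal.span (Set.range f) with hJdef
  let M' := ModuleCat.of A A'
  have hQ : ∀ m, IsZero ((T M' (m + 1)).obj (ModuleCat.of A (A ⧸ J))) := by
    intro m
    have h := Groth.Agent.H15.KoszulTor.Basic.isZero_tor_quotient _ hfs hfs' (m + 1) (by omega)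
    refine (h.of_iso ?_)
    refine (Groth.Agent.Lib.Tor.Balance.torFlipIso _ _ _) ≪≫ eqToIso ?_
    rw [show Ideal.ofList (List.ofFn f) = J from hJ]
  have hgr : ∀ e m, IsZero ((T M' (m + 1)).obj (ModuleCat.of A (↥(J ^ e) ⧸ Submodule.comap (J ^ e).subtype (J ^ (e + 1))))) := by
    intro e m
    obtain ⟨ι, hι, ⟨φ⟩⟩ := exists_gr_equiv f hq e
    exact (isZero_pi (T M' (m + 1)) (ModuleCat.of A (A ⧸ J)) (hQ m)).of_iso ((T M' (m + 1)).mapIso φ.toModuleIso)
  have hpow : ∀ e m, IsZero ((T M' (m + 1)).obj (ModuleCat.of A ↥(J ^ e))) := by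
    intro e
    induction e with
    | zero =>
      intro m
      haveI : Module.Flat A (ModuleCat.of A ↥(J ^ 0)) :=
        Module.Flat.of_linearEquiv (M := A) (Submodule.topEquiv.symm ≪≫ₗ LinearEquiv.ofEq _ _ (by rw [pow_zero, Ideal.one_eq_top])).symm
      exact Groth.Agent.Lib.Tor.Balance.isZero_tor_succ_of_flat_right _ _ m
    | succ e ih =>
      intro m
      let ι₁ : ↥(J ^ (e + 1)) →ₗ[A] ↥(J ^ e) := Submodule.inclusion (Ideal.pow_le_pow_right (Nat.le_succ e))
      let π₁ := (Submodule.comap (J ^ e).subtype (J ^ (e + 1))).mkQ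
      have hex : Function.Exact ι₁ π₁ := by
        intro y
        simp only [π₁, Submodule.mkQ_apply, Submodule.Quotient.mk_eq_zero, Submodule.mem_comap, Submodule.subtype_apply]
        exact ⟨fun h => ⟨⟨y.1, h⟩, rfl⟩, fun ⟨z, hz⟩ => hz ▸ z.2⟩
      let S := ShortComplex.moduleCatMk ι₁ π₁ (hex.linearMap_comp_eq_zero)
      have hS : S.ShortExact :=
        { exact := by rw [ShortComplex.ShortExact.moduleCat_exact_iff_function_exact]; exact hex
          mono_f := (ModuleCat.mono_iff_injective _).mpr (Submodule.inclusion_injective (Ideal.pow_le_pow_right (Nat.le_succ e)))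
          epi_g := (ModuleCat.epi_iff_surjective _).mpr (Submodule.mkQ_surjective _) }
      exact isZero_left hS (m + 1) (hgr e (m + 1)) (ih m)
  obtain ⟨m, rfl⟩ : ∃ m, i = m + 1 := ⟨i - 1, by omega⟩
  exact ⟨(hpow n m).of_iso (Groth.Agent.Lib.Tor.Balance.torFlipIso _ _ _),
    (hgr n m).of_iso (Groth.Agent.Lib.Tor.Balance.torFlipIso _ _ _)⟩


end Groth.Agent.S3196
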