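import Groth.Statements.S3198
import Groth.Agent.Lib.Devissage.FibreGen
import Groth.Agent.Lib.Perfect.Coherent
import Groth.Agent.Lib.TensorMod.Basic
-- import your own Groth.Agent.* helpers here

set_option autoImplicit false
universe u
open CategoryTheory CategoryTheory.Limits AlgebraicGeometry
attribute [local instance] HasDerivedCategory.standard
open SGA6

namespace Groth.Agent.S3198

/-- Let f : X ⟶ S be a flat morphism of Noetherian schemes such that for every point s of S the map ℤ ⟶
K₀(Coh X_s), k ↦ k·[O_{X_s}], is bijective. Pullback along f is exact (instance hypotheses) and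
preserves coherence (hypothesis hf); the induced homomorphism f^* : K₀(Coh S) ⟶ K₀(Coh X) is
surjective. (The source adds that f^* is bijective when f has a section of finite tor-dimension.) -/
theorem result {X S : Scheme.{u}} [IsNoetherian X] [IsNoetherian S] (f : X ⟶ S) [Flat f]
    [(Scheme.Modules.pullback f).Additive] [PreservesFiniteLimits (Scheme.Modules.pullback f)] [PreservesFiniteColimits (Scheme.Modules.pullback f)]
    (hf : ∀ M : S.Modules, Coh.IsCoh M → Coh.IsCoh ((Scheme.Modules.pullback f).obj M))
    (hfib : ∀ s : S, Function.Bijective (fun k : ℤ => k • KZero.clSub (fun M : (f.fiber s).Modules => Coh.IsCoh M) (Coh.structureModule (f.fiber s)))) :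
    Function.Surjective (SGA6.mapSub (Scheme.Modules.pullback f) (fun M : (S).Modules => Coh.IsCoh M) (fun M : (X).Modules => Coh.IsCoh M) hf) := by
  let r := SGA6.mapSub (Scheme.Modules.pullback f) (fun M : S.Modules => Coh.IsCoh M)
    (fun M : X.Modules => Coh.IsCoh M) hf
  show Function.Surjective r
  rw [← AddMonoidHom.range_eq_top]
  have hO : Coh.IsCoh (Coh.structureModule X) :=
    Groth.Agent.Lib.CohBasics.Closure.isCoh_of_iso (Groth.Agent.Lib.TensorMod.LocFree.freeModOneIso _)
      (Groth.Agent.Lib.Perfect.Coherent.isCoh_freeMod X 1)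
  refine Groth.Agent.Lib.Devissage.FibreGen.eq_top f (fun _ : Fin 1 => Coh.structureModule X) (fun _ => hO)
    (fun s => ?_) _ fun _ M hM => ?_
  · rw [eq_top_iff]
    intro x _
    obtain ⟨k, rfl⟩ := (hfib s).2 x
    refine AddSubgroup.zsmul_mem _ ?_ k
    refine AddSubgroup.subset_closure ⟨0, ?_⟩
    exact Groth.Agent.Lib.Devissage.FibreGen.cl_iso
      (PicLoc.pullbackStructureIso (f.fiberι s))
      (Groth.Agent.Lib.Cyc.FP.Stalk.isCoh_pullback _ hO)
  · refine ⟨KZero.clSub (fun M : S.Modules => Coh.IsCoh M) M, ?_⟩
    refine (Groth.Agent.Lib.KRes.KSub.mapSub_cl _ hf hM).trans ?_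
    exact Groth.Agent.Lib.Devissage.FibreGen.cl_iso
      (Groth.Agent.Lib.TensorMod.Basic.leftUnit _).symm (hf M hM)

end Groth.Agent.S3198
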