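import Mathlib
import Groth.Statements.S3207
-- import your own Groth.Agent.* helpers here

set_option autoImplicit false
universe u
open CategoryTheory CategoryTheory.Limits AlgebraicGeometry
open SGA7

namespace Groth.Agent.S3207

open TensorProduct in
lemma bijective_of_fibres {A B : Type u} [CommRing A] [CommRing B] [Algebra A B]
    [Module.Finite A B] [Module.Flat A B] [Algebra.FinitePresentation A B]
    (ε : B →ₐ[A] A)
    (h : ∀ p : Ideal A, [p.IsPrime] → p ∈ minimalPrimes A → ∀ b : B,
      (1 : p.ResidueField) ⊗ₜ[A] b = (algebraMap A p.ResidueField (ε b)) ⊗ₜ[A] (1 : B)) :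
    Function.Bijective (algebraMap A B) := by
  have : Module.FinitePresentation A B := .of_finite_of_finitePresentation A B
  have : Module.Projective A B := Module.freeLocus_eq_univ_iff.1 Module.freeLocus_eq_univ
  let I := LinearMap.ker ε.toLinearMap
  let L : B →ₗ[A] I := (LinearMap.id - (Algebra.linearMap A B).comp ε.toLinearMap).codRestrict I
    (fun b => by simp [I])
  have hL : ∀ i : I, L i.1 = i := fun i => Subtype.ext (by
    have hi : ε i.1 = 0 := i.2
    show i.1 - algebraMap A B (ε i.1) = i.1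
    rw [hi, map_zero, sub_zero])
  have : Module.Projective A I := Module.Projective.of_split I.subtype L (LinearMap.ext hL)
  have : Module.Finite A I := Module.Finite.of_surjective L fun i => ⟨i.1, hL i⟩
  have : Module.FinitePresentation A I := Module.finitePresentation_of_projective A I
  have hmin : ∀ p : PrimeSpectrum A, p.asIdeal ∈ minimalPrimes A →
      Module.rankAtStalk I p = 0 := fun p hp => by
    rw [Module.rankAtStalk_eq]
    have hs : ∀ z : p.asIdeal.ResidueField ⊗[A] I, z = 0 := fun z => by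
      induction z using TensorProduct.induction_on with
      | zero => rfl
      | add x y hx hy => rw [hx, hy, add_zero]
      | tmul c i =>
        have h1 := h p.asIdeal hp i.1
        have hi : ε i.1 = 0 := i.2
        rw [hi, map_zero, zero_tmul] at h1
        have h2 := congrArg (L.baseChange p.asIdeal.ResidueField) h1
        rw [LinearMap.baseChange_tmul, hL, map_zero] at h2
        calc c ⊗ₜ[A] i = c • ((1 : p.asIdeal.ResidueField) ⊗ₜ[A] i) := by simp [smul_tmul']
          _ = 0 := by rw [h2, smul_zero]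
    have : Subsingleton (p.asIdeal.Fiber I) := ⟨fun a b => (hs a).trans (hs b).symm⟩
    exact Module.finrank_zero_of_subsingleton
  have hz : Module.rankAtStalk (R := A) I = 0 := funext fun q => by
    obtain ⟨p, hp, hpq⟩ := Ideal.exists_minimalPrimes_le (J := q.asIdeal) (I := ⊥) bot_le
    have := hp.1.1
    have h1 := Module.rankAtStalk_eq_of_le_of_finite_of_flat' I (p := p) (q := q.asIdeal) hpq
    exact h1.symm.trans (hmin ⟨p, hp.1.1⟩ hp)
  have := Module.rankAtStalk_eq_zero_iff_subsingleton.1 hz
  refine ⟨fun a b e => by simpa using congrArg ε e, fun b => ⟨ε b, ?_⟩⟩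
  have : b - algebraMap A B (ε b) = 0 := congrArg Subtype.val (Subsingleton.elim (L b) 0)
  exact (sub_eq_zero.1 this).symm

lemma eq_of_fibre {T S Z : Scheme.{u}} (g : T ⟶ S)
    (h : ∀ s : S, (∀ t : S, t ⤳ s → t = s) →
      IsEmpty ↑(pullback g (S.fromSpecResidueField s)) ∨ IsIso (pullback.snd g (S.fromSpecResidueField s)))
    (K : Type u) [Field K] (x : Spec (CommRingCat.of K) ⟶ S) (u₀ : Spec (CommRingCat.of K) ⟶ T)
    (hu₀ : u₀ ≫ g = x) (hmax : ∀ z, ∀ s : S, s ⤳ x z → s = x z)
    (u v : Z ⟶ T) (w : Z ⟶ Spec (CommRingCat.of K)) (hu : u ≫ g = w ≫ x) (hv : v ≫ g = w ≫ x) :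
    u = v := by
  obtain ⟨φ, hφ⟩ : ∃ φ : Spec (CommRingCat.of K) ⟶ Spec (S.residueField (x (IsLocalRing.closedPoint K))),
      φ ≫ S.fromSpecResidueField (x (IsLocalRing.closedPoint K)) = x :=
    ⟨_, S.descResidueField_stalkClosedPointTo_fromSpecResidueField K x⟩
  rcases h _ (hmax _) with he | hiso
  · exact (he.false (pullback.lift (f := g) u₀ φ (hu₀.trans hφ.symm)
      (IsLocalRing.closedPoint K))).elim
  have hab : pullback.lift (f := g) u (w ≫ φ) (by rw [Category.assoc, hφ, hu]) =
      pullback.lift (f := g) v (w ≫ φ) (by rw [Category.assoc, hφ, hv]) := by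
    rw [← cancel_mono (pullback.snd g (S.fromSpecResidueField (x (IsLocalRing.closedPoint K))))]
    exact (pullback.lift_snd _ _ _).trans (pullback.lift_snd _ _ _).symm
  exact ((pullback.lift_fst _ _ _).symm.trans
    (congrArg (· ≫ pullback.fst _ _) hab)).trans (pullback.lift_fst _ _ _)

/-- Let g : T -> S be locally quasi-finite, of finite presentation, separated and flat. If for every
maximal point s of S (a point with no proper generization) the fibre of g over s is either empty or
mapped isomorphically onto Spec κ(s) (rank at most 1), then g is an open immersion. -/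
theorem result {T S : Scheme.{u}} (g : T ⟶ S) [LocallyQuasiFinite g]
    [LocallyOfFinitePresentation g] [QuasiCompact g] [IsSeparated g] [Flat g]
    (h : ∀ s : S, (∀ t : S, t ⤳ s → t = s) →
      IsEmpty ↑(pullback g (S.fromSpecResidueField s)) ∨ IsIso (pullback.snd g (S.fromSpecResidueField s))) :
    IsOpenImmersion g := by
  let W := pullback g g
  let hh : W ⟶ T := pullback.fst g g
  let Δ : T ⟶ W := pullback.diagonal g
  have hΔ : Δ ≫ hh = 𝟙 T := pullback.diagonal_fst g
  have hmax : ∀ t : T, (∀ t' : T, t' ⤳ t → t' = t) → ∀ s : S, s ⤳ g t → s = g t := by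
    intro t ht s hs
    obtain ⟨t', ht', rfl⟩ := Flat.generalizingMap g hs
    rw [ht t' ht']
  -- the diagonal is surjective
  have hsurjΔ : Surjective Δ := by
    refine ⟨fun w => ?_⟩
    obtain ⟨w₀, hw₀, hw₀max⟩ : ∃ w₀ : W, w₀ ⤳ w ∧ ∀ w' : W, w' ⤳ w₀ → w' = w₀ := by
      obtain ⟨V, hV, hwV, -⟩ :=
        exists_isAffineOpen_mem_and_subset (U := (⊤ : W.Opens)) (x := w) trivial
      obtain ⟨p, hp, hpq⟩ := Ideal.exists_minimalPrimes_le (I := (⊥ : Ideal Γ(W, V)))
        (J := (hV.primeIdealOf ⟨w, hwV⟩).asIdeal) bot_le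
      refine ⟨hV.fromSpec ⟨p, hp.1.1⟩, ?_, fun w' hw' => ?_⟩
      · have h0 := (PrimeSpectrum.le_iff_specializes (⟨p, hp.1.1⟩ : PrimeSpectrum Γ(W, V))
          (hV.primeIdealOf ⟨w, hwV⟩)).1 hpq
        exact (h0.map hV.fromSpec.continuous).trans
          (specializes_of_eq (hV.fromSpec_primeIdealOf ⟨w, hwV⟩))
      · have hmem : w' ∈ Set.range hV.fromSpec := by
          rw [hV.range_fromSpec]
          refine hw'.mem_open V.isOpen ?_
          rw [← hV.range_fromSpec]; exact ⟨_, rfl⟩
        obtain ⟨q, rfl⟩ := hmem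
        have h1 := (hV.fromSpec.isEmbedding.isInducing.specializes_iff).1 hw'
        have h2 : q.asIdeal ≤ p := (PrimeSpectrum.le_iff_specializes q _).2 h1
        congr 1
        exact PrimeSpectrum.ext (le_antisymm h2 (hp.2 ⟨q.2, bot_le⟩ h2))
    have hs : ∀ s : S, s ⤳ (hh ≫ g) w₀ → s = (hh ≫ g) w₀ := by
      intro s hs
      obtain ⟨w', hw', rfl⟩ := Flat.generalizingMap (hh ≫ g) hs
      rw [hw₀max w' hw']
    have hfix : ∀ z, W.fromSpecResidueField w₀ z = w₀ := W.fromSpecResidueField_apply w₀
    have he2 : W.fromSpecResidueField w₀ ≫ hh = W.fromSpecResidueField w₀ ≫ pullback.snd g g :=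
      eq_of_fibre g h (W.residueField w₀) (W.fromSpecResidueField w₀ ≫ hh ≫ g)
        (W.fromSpecResidueField w₀ ≫ hh) (Category.assoc _ _ _)
        (fun z s hs' => (hs s (congrArg (hh ≫ g) (hfix z) ▸ hs')).trans
          (congrArg (hh ≫ g) (hfix z)).symm)
        _ _ (𝟙 _) (by simp [hh]) (by simp [hh, pullback.condition])
    have he3 : W.fromSpecResidueField w₀ = (W.fromSpecResidueField w₀ ≫ hh) ≫ Δ := by
      apply pullback.hom_ext
      · simp only [Category.assoc, Δ, pullback.diagonal_fst, Category.comp_id, hh]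
      · simp only [Category.assoc, Δ, pullback.diagonal_snd, Category.comp_id]
        exact he2.symm
    have hw₀Δ : w₀ ∈ Set.range Δ := by
      obtain ⟨z, hz⟩ : w₀ ∈ Set.range (W.fromSpecResidueField w₀) := by
        rw [Scheme.range_fromSpecResidueField]; rfl
      exact ⟨(W.fromSpecResidueField w₀ ≫ hh) z,
        (congrArg (fun F : Spec (W.residueField w₀) ⟶ W => F z) he3).symm.trans hz⟩
    exact hw₀.mem_closed Δ.isClosedEmbedding.isClosed_range hw₀Δ
  have : UniversallyClosed hh := by
    have : UniversallyClosed (Δ ≫ hh) := hΔ ▸ inferInstance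
    exact UniversallyClosed.of_comp_surjective Δ hh
  have : IsProper hh := { }
  have : IsFinite hh := .of_isProper_of_locallyQuasiFinite hh
  have key : IsIso hh := by
    refine IsZariskiLocalAtTarget.of_iSup_eq_top (P := MorphismProperty.isomorphisms Scheme.{u})
      (fun V : T.affineOpens => V.1) (iSup_affineOpens_eq_top T) fun V => ?_
    have hV' : IsAffineOpen (hh ⁻¹ᵁ V.1) := V.2.preimage hh
    have : IsAffine (hh ⁻¹ᵁ V.1).toScheme := hV'
    have : IsAffine V.1.toScheme := V.2
    refine (MorphismProperty.arrow_mk_iso_iff (MorphismProperty.isomorphisms Scheme)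
      (arrowIsoSpecΓOfIsAffine (hh ∣_ V.1))).mpr ?_
    rw [MorphismProperty.isomorphisms.iff]
    suffices IsIso (hh ∣_ V.1).appTop from inferInstance
    rw [morphismRestrict_appTop]
    suffices H : Function.Bijective (hh.app V.1).hom by
      have hall : ∀ U, U = V.1 → IsIso (hh.app U) := by
        rintro _ rfl
        exact (ConcreteCategory.isIso_iff_bijective _).2 H
      exact IsIso.comp_isIso' (hall _ (Scheme.Opens.ι_image_top _)) (Functor.map_isIso _ _)
    have hfin := hh.finite_app V.1 V.2
    have hflat : (hh.app V.1).hom.Flat := by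
      rw [Scheme.Hom.app_eq_appLE]
      exact HasRingHomProperty.appLE (P := @Flat) hh inferInstance V ⟨_, hV'⟩ le_rfl
    have hfp : (hh.app V.1).hom.FinitePresentation := by
      rw [Scheme.Hom.app_eq_appLE]
      exact HasRingHomProperty.appLE (P := @LocallyOfFinitePresentation) hh inferInstance
        V ⟨_, hV'⟩ le_rfl
    algebraize [(hh.app V.1).hom]
    have hle : V.1 ≤ Δ ⁻¹ᵁ (hh ⁻¹ᵁ V.1) := by
      rw [← Scheme.Hom.comp_preimage, hΔ]; exact le_rfl
    have hε : hh.app V.1 ≫ Δ.appLE (hh ⁻¹ᵁ V.1) V.1 hle = 𝟙 _ := by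
      have hid : ∀ (k : T ⟶ T), k = 𝟙 T → ∀ e, k.appLE V.1 V.1 e = 𝟙 _ := by
        rintro _ rfl e
        simp [Scheme.Hom.appLE]
        exact (congrArg T.presheaf.map (Subsingleton.elim _ (𝟙 _))).trans (T.presheaf.map_id _)
      rw [Scheme.Hom.app_eq_appLE, Scheme.Hom.appLE_comp_appLE, hid _ hΔ]
    let ε : Γ(W, hh ⁻¹ᵁ V.1) →ₐ[Γ(T, V.1)] Γ(T, V.1) :=
      { toRingHom := (Δ.appLE (hh ⁻¹ᵁ V.1) V.1 hle).hom
        commutes' := fun a => congrArg (fun F : Γ(T, V.1) ⟶ Γ(T, V.1) => F a) hε }
    refine bijective_of_fibres ε fun p _ hp b => ?_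
    let A := Γ(T, V.1)
    let B := Γ(W, hh ⁻¹ᵁ V.1)
    let K := p.ResidueField
    let R := TensorProduct A K B
    let u : Spec (CommRingCat.of R) ⟶ Spec B := Spec.map (CommRingCat.ofHom
      (Algebra.TensorProduct.includeRight : B →ₐ[A] R).toRingHom)
    let v : Spec (CommRingCat.of R) ⟶ Spec B := Spec.map (CommRingCat.ofHom
      ((Algebra.ofId A R).comp ε).toRingHom)
    let m : Spec (CommRingCat.of R) ⟶ Spec A := Spec.map (CommRingCat.ofHom (algebraMap A R))
    let iK : Spec (CommRingCat.of K) ⟶ Spec A := Spec.map (CommRingCat.ofHom (algebraMap A K))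
    let w : Spec (CommRingCat.of R) ⟶ Spec (CommRingCat.of K) :=
      Spec.map (CommRingCat.ofHom (algebraMap K R))
    have hw : w ≫ iK = m := by
      simp only [w, iK, m, ← Spec.map_comp]; rfl
    let π : Spec B ⟶ Spec A := Spec.map (hh.app V.1)
    have hπ : π ≫ V.2.fromSpec = hV'.fromSpec ≫ hh := by
      simp only [π, Scheme.Hom.app_eq_appLE]
      exact V.2.SpecMap_appLE_fromSpec hh hV' le_rfl
    have hu : u ≫ π = m := by
      simp only [u, π, m, ← Spec.map_comp]
      congr 1
      ext a
      exact (Algebra.TensorProduct.includeRight : B →ₐ[A] R).commutes a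
    have hv : v ≫ π = m := by
      simp only [v, π, m, ← Spec.map_comp]
      congr 1
      ext a
      exact ((Algebra.ofId A R).comp ε).commutes a
    let x : Spec (CommRingCat.of K) ⟶ S := iK ≫ V.2.fromSpec ≫ g
    let t := V.2.fromSpec ⟨p, inferInstance⟩
    have ht : ∀ t' : T, t' ⤳ t → t' = t := by
      intro t' ht'
      have hmem : t' ∈ Set.range V.2.fromSpec := by
        rw [V.2.range_fromSpec]
        refine ht'.mem_open V.1.isOpen ?_
        rw [← V.2.range_fromSpec]; exact ⟨_, rfl⟩
      obtain ⟨q, rfl⟩ := hmem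
      have h1 := (V.2.isOpenImmersion_fromSpec.base_open.isInducing.specializes_iff).1 ht'
      have h2 : q.asIdeal ≤ p := (PrimeSpectrum.le_iff_specializes q _).2 h1
      exact congrArg V.2.fromSpec (PrimeSpectrum.ext (le_antisymm h2 (hp.2 ⟨q.2, bot_le⟩ h2)))
    have hx : ∀ z, x z = g t := by
      intro z
      refine congrArg (V.2.fromSpec ≫ g) (PrimeSpectrum.ext ?_)
      change Ideal.comap (algebraMap A K) z.asIdeal = p
      rw [(Ideal.eq_bot_or_top z.asIdeal).resolve_right z.isPrime.ne_top,
        ← RingHom.ker_eq_comap_bot, Ideal.ker_algebraMap_residueField]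
    have h1 : u ≫ hV'.fromSpec ≫ hh = w ≫ iK ≫ V.2.fromSpec := by
      rw [← hπ, reassoc_of% hu, reassoc_of% hw]
    have h2 : v ≫ hV'.fromSpec ≫ hh = w ≫ iK ≫ V.2.fromSpec := by
      rw [← hπ, reassoc_of% hv, reassoc_of% hw]
    have h3 : u ≫ hV'.fromSpec ≫ pullback.snd g g = v ≫ hV'.fromSpec ≫ pullback.snd g g := by
      refine eq_of_fibre g h K x (iK ≫ V.2.fromSpec) (Category.assoc _ _ _)
        (fun z s hs' => ?_) _ _ w ?_ ?_
      · exact (hmax t ht s (hx z ▸ hs')).trans (hx z).symm
      · simp only [Category.assoc, x, ← pullback.condition]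
        exact (reassoc_of% h1) g
      · simp only [Category.assoc, x, ← pullback.condition]
        exact (reassoc_of% h2) g
    have h4 : u ≫ hV'.fromSpec = v ≫ hV'.fromSpec := by
      apply pullback.hom_ext
      · simpa only [Category.assoc, hh] using h1.trans h2.symm
      · simpa only [Category.assoc] using h3
    have h5 : u = v := (cancel_mono _).1 h4
    exact congrArg (fun F : B ⟶ CommRingCat.of R => F b) (Spec.map_injective h5)
  have : IsIso Δ := ⟨⟨hh, hΔ, by rw [← cancel_mono hh, Category.assoc, hΔ]; simp⟩⟩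
  have : Mono g := (pullback.isIso_diagonal_iff g).1 this
  exact IsOpenImmersion.of_flat_of_mono g

end Groth.Agent.S3207
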