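import Groth.Statements.S3208
import Mathlib

set_option autoImplicit false
open SGA7

namespace Groth.Agent.S3208

lemma divisible_zero {E : Type} [CommRing E] [NoZeroSMulDivisors ℤ E] [Module.Finite ℤ E]
    (p : ℕ) (hp : 2 ≤ p) (v : E) (h : ∀ k : ℕ, ∃ y : E, v = (p : E) ^ k * y) : v = 0 := by
  haveI : Module.Free ℤ E := inferInstance
  let b := Module.Free.chooseBasis ℤ E
  apply b.repr.injective
  rw [map_zero]
  ext j
  have hd : ∀ k : ℕ, ((p : ℤ) ^ k) ∣ b.repr v j := by
    intro k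
    obtain ⟨y, hy⟩ := h k
    refine ⟨b.repr y j, ?_⟩
    have : v = ((p : ℤ) ^ k) • y := by simp [hy, zsmul_eq_mul]
    rw [this, map_smul, Finsupp.smul_apply, smul_eq_mul]
  by_contra hne
  obtain ⟨k, hk⟩ := pow_unbounded_of_one_lt (|b.repr v j|) (show (1 : ℤ) < p by omega)
  have := Int.le_of_dvd (abs_pos.2 hne) ((dvd_abs _ _).2 (hd k))
  omega

lemma mul_cancel_nat {E : Type} [CommRing E] [NoZeroSMulDivisors ℤ E]
    (n : ℕ) (hn : n ≠ 0) (x : E) (h : (n : E) * x = 0) : x = 0 := by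
  have h' : (n : ℤ) • x = 0 := by simpa [zsmul_eq_mul] using h
  rcases smul_eq_zero.1 h' with h1 | h1
  · exact absurd (by exact_mod_cast h1) hn
  · exact h1

lemma key {E : Type} [CommRing E] [NoZeroSMulDivisors ℤ E] [Module.Finite ℤ E]
    (p : ℕ) (hp : p.Prime) (N : ℕ) (hN : (p = 2 ∧ N = 4) ∨ (p ≠ 2 ∧ N = p))
    (q : ℕ) (hq : q.Prime) (v : E) (h : (1 + (N : E) * v) ^ q = 1) : v = 0 := by
  have hN0 : N ≠ 0 := by rcases hN with ⟨_, rfl⟩ | ⟨_, rfl⟩ <;> simp [hp.ne_zero]
  set x : E := (N : E) * v with hx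
  -- expansion to second order
  have hexp : ∀ i : ℕ, ∃ r : E, (1 + x) ^ i = 1 + (i : E) * x + x ^ 2 * r := by
    intro i
    induction i with
    | zero => exact ⟨0, by simp⟩
    | succ i ih =>
      obtain ⟨r, hr⟩ := ih
      exact ⟨(i : E) + r + x * r, by rw [pow_succ, hr]; push_cast; ring⟩
  have hsum : ∀ m : ℕ, ∃ r : E, ∑ i ∈ Finset.range m, (1 + x) ^ i =
      (m : E) + ((m.choose 2 : ℕ) : E) * x + x ^ 2 * r := by
    intro m
    induction m with
    | zero => exact ⟨0, by simp⟩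
    | succ m ih =>
      obtain ⟨r, hr⟩ := ih
      obtain ⟨s, hs⟩ := hexp m
      refine ⟨r + s, ?_⟩
      rw [Finset.sum_range_succ, hr, hs, Nat.choose_succ_succ', Nat.choose_one_right]
      push_cast
      ring
  obtain ⟨r, hr⟩ := hsum q
  have h0 : v * ∑ i ∈ Finset.range q, (1 + x) ^ i = 0 := by
    apply mul_cancel_nat N hN0
    have := geom_sum_mul (1 + x) q
    rw [h, sub_self, add_sub_cancel_left] at this
    rw [← mul_assoc, ← hx, mul_comm]
    exact this
  rw [hr] at h0
  suffices hs : ∃ s : E, v = v * ((p : E) * s) by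
    obtain ⟨s, hs⟩ := hs
    apply divisible_zero p hp.two_le
    intro k
    induction k with
    | zero => exact ⟨v, by simp⟩
    | succ k ih =>
      obtain ⟨y, hy⟩ := ih
      refine ⟨y * s, ?_⟩
      calc v = v * ((p : E) * s) := hs
        _ = _ := by rw [hy]; ring
  by_cases hqp : q = p
  · subst hqp
    rcases hN with ⟨h2, hN4⟩ | ⟨h2, hNp⟩
    · subst h2 hN4
      refine ⟨-(v + (4 : E) * v ^ 2 * r), ?_⟩
      have : v * (1 + (2 : E) * (v + 4 * v ^ 2 * r)) = 0 := by
        apply mul_cancel_nat 2 two_ne_zero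
        rw [← h0, hx]
        simp only [Nat.choose_self]
        push_cast
        ring
      push_cast
      linear_combination this
    · subst hNp
      obtain ⟨j, hj⟩ := (hq.odd_of_ne_two h2)
      have hch : N.choose 2 = N * j := by
        rw [Nat.choose_two_right, hj]
        have : 2 * j + 1 - 1 = 2 * j := by omega
        rw [this]
        rw [show (2 * j + 1) * (2 * j) = 2 * ((2 * j + 1) * j) by ring, Nat.mul_div_cancel_left _ two_pos]
      refine ⟨-((j : E) * v + v ^ 2 * r), ?_⟩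
      have : v * (1 + (N : E) * ((j : E) * v + v ^ 2 * r)) = 0 := by
        apply mul_cancel_nat N hq.ne_zero
        rw [← h0, hch, hx]
        push_cast
        ring
      linear_combination this
  · have hcop : Nat.Coprime q N := by
      rcases hN with ⟨h2, hN4⟩ | ⟨h2, hNp⟩
      · subst hN4 h2
        exact ((Nat.coprime_primes hq hp).2 hqp).pow_right 2
      · subst hNp; exact (Nat.coprime_primes hq hp).2 hqp
    obtain ⟨e, he⟩ : p ∣ N := by rcases hN with ⟨rfl, rfl⟩ | ⟨_, rfl⟩ <;> simp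
    have hbez := Nat.gcd_eq_gcd_ab q N
    rw [Nat.Coprime.gcd_eq_one hcop] at hbez
    have hbez' : (1 : E) = (q : E) * ((Nat.gcdA q N : ℤ) : E) + (N : E) * ((Nat.gcdB q N : ℤ) : E) := by
      have := congrArg (fun z : ℤ => (z : E)) hbez
      push_cast at this
      exact this
    refine ⟨(e : E) * (((Nat.gcdB q N : ℤ) : E) -
      ((Nat.gcdA q N : ℤ) : E) * (((q.choose 2 : ℕ) : E) * v + x * v * r)), ?_⟩
    have hNe : (N : E) = (p : E) * (e : E) := by rw [he]; push_cast; ring
    rw [hx] at h0 ⊢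
    rw [hNe] at h0 hbez' ⊢
    linear_combination v * hbez' + ((Nat.gcdA q N : ℤ) : E) * h0

lemma key' {E : Type} [CommRing E] [NoZeroSMulDivisors ℤ E] [Module.Finite ℤ E]
    (p : ℕ) (hp : p.Prime) (N : ℕ) (hN : (p = 2 ∧ N = 4) ∨ (p ≠ 2 ∧ N = p)) :
    ∀ m : ℕ, 0 < m → ∀ u : E, u ^ m = 1 → (N : E) ∣ 1 - u → u = 1 := by
  intro m
  induction m using Nat.strong_induction_on with
  | _ m ih =>
    intro hm u hu hd
    rcases eq_or_ne m 1 with rfl | h1
    · simpa using hu
    · have hq := Nat.minFac_prime h1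
      obtain ⟨c, hc⟩ := Nat.minFac_dvd m
      have hc0 : 0 < c := by
        rcases Nat.eq_zero_or_pos c with h | h
        · rw [h, mul_zero] at hc; omega
        · exact h
      have hcm : c < m := by
        calc c = 1 * c := (one_mul c).symm
          _ < Nat.minFac m * c := Nat.mul_lt_mul_of_pos_right hq.one_lt hc0
          _ = m := hc.symm
      obtain ⟨w, hw⟩ : (N : E) ∣ 1 - u ^ c :=
        hd.trans (by simpa using sub_dvd_pow_sub_pow (1 : E) u c)
      have hw' : u ^ c = 1 + (N : E) * (-w) := by linear_combination -hw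
      have := key p hp N hN (Nat.minFac m) hq (-w)
        (by rw [← hw', ← pow_mul, mul_comm, ← hc]; exact hu)
      exact ih c hcm hc0 u (by rw [hw', this]; simp) hd

/-- Let E be a commutative ring which is finitely generated and torsion-free as an additive group, u an
element of E of finite multiplicative order (u^m = 1 for some m > 0), and n ≥ 2 an integer with u ≡
1 modulo nE (i.e. 1 - u = n·v for some v ∈ E). Then u² = 1, and if n ≥ 3 then u = 1. -/
theorem result (E : Type) [CommRing E] [NoZeroSMulDivisors ℤ E] [Module.Finite ℤ E] (u : E) (m : ℕ) (hm : 0 < m)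
    (hu : u ^ m = 1) (n : ℕ) (hn : 2 ≤ n) (hcong : ∃ v : E, 1 - u = (n : E) * v) :
    u ^ 2 = 1 ∧ (3 ≤ n → u = 1) := by
  obtain ⟨v, hv⟩ := hcong
  refine ⟨?_, fun h3 => ?_⟩
  · by_cases h3 : 3 ≤ n
    · have : u = 1 := by
        rcases Nat.four_dvd_or_exists_odd_prime_and_dvd_of_two_lt (by omega : 2 < n) with h4 | ⟨p, hp, hpd, hpo⟩
        · exact key' 2 Nat.prime_two 4 (Or.inl ⟨rfl, rfl⟩) m hm u hu
            ((Nat.cast_dvd_cast h4).trans ⟨v, hv⟩)
        · exact key' p hp p (Or.inr ⟨by rintro rfl; simp [Nat.odd_iff] at hpo, rfl⟩) m hm u hu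
            ((Nat.cast_dvd_cast hpd).trans ⟨v, hv⟩)
      simp [this]
    · obtain rfl : n = 2 := by omega
      apply key' 2 Nat.prime_two 4 (Or.inl ⟨rfl, rfl⟩) m hm
      · rw [← pow_mul, mul_comm, pow_mul, hu, one_pow]
      · refine ⟨v - v ^ 2, ?_⟩
        have : u = 1 - 2 * v := by push_cast at hv; linear_combination -hv
        subst this
        push_cast
        ring
  · rcases Nat.four_dvd_or_exists_odd_prime_and_dvd_of_two_lt (by omega : 2 < n) with h4 | ⟨p, hp, hpd, hpo⟩
    · exact key' 2 Nat.prime_two 4 (Or.inl ⟨rfl, rfl⟩) m hm u hu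
        ((Nat.cast_dvd_cast h4).trans ⟨v, hv⟩)
    · exact key' p hp p (Or.inr ⟨by rintro rfl; simp [Nat.odd_iff] at hpo, rfl⟩) m hm u hu
        ((Nat.cast_dvd_cast hpd).trans ⟨v, hv⟩)

end Groth.Agent.S3208
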