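import Groth.Statements.S3209
import Mathlib

set_option autoImplicit false
universe u
open TensorProduct
open SGA7

namespace Groth.Agent.S3209

/-- Let f : B' → B be a surjective map of R-algebras with kernel J, g : C → B a map of R-algebras, P =
B' ×_B C their fibre product (the equalizer of f ∘ pr₁ and g ∘ pr₂ in B' × C) and S an R-algebra
such that S ⊗_R J → S ⊗_R B' is injective (this holds when Tor_1^R(B, S) = 0, the published
hypothesis, and in particular when S is flat). Then the canonical map S ⊗_R P → (S ⊗_R B') ×_{S ⊗_R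
B} (S ⊗_R C) is bijective: it is injective, and every pair with the same image in S ⊗_R B comes from
S ⊗_R P. -/
theorem result (R B' B C S : Type u) [CommRing R] [CommRing B'] [CommRing B] [CommRing C]
    [CommRing S] [Algebra R B'] [Algebra R B] [Algebra R C] [Algebra R S]
    (f : B' →ₐ[R] B) (hf : Function.Surjective f) (g : C →ₐ[R] B)
    (hJ : Function.Injective (LinearMap.lTensor S (LinearMap.ker f.toLinearMap).subtype)) :
    letI P := AlgHom.equalizer (f.comp (AlgHom.fst R B' C)) (g.comp (AlgHom.snd R B' C))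
    letI φ₁ := Algebra.TensorProduct.map (AlgHom.id R S) ((AlgHom.fst R B' C).comp P.val)
    letI φ₂ := Algebra.TensorProduct.map (AlgHom.id R S) ((AlgHom.snd R B' C).comp P.val)
    Function.Injective (fun z : S ⊗[R] ↥P => (φ₁ z, φ₂ z)) ∧
    ∀ (x : S ⊗[R] B') (y : S ⊗[R] C),
      Algebra.TensorProduct.map (AlgHom.id R S) f x = Algebra.TensorProduct.map (AlgHom.id R S) g y →
        ∃ z : S ⊗[R] ↥P, φ₁ z = x ∧ φ₂ z = y := by
  let P := AlgHom.equalizer (f.comp (AlgHom.fst R B' C)) (g.comp (AlgHom.snd R B' C))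
  let φ₁ := Algebra.TensorProduct.map (AlgHom.id R S) ((AlgHom.fst R B' C).comp P.val)
  let φ₂ := Algebra.TensorProduct.map (AlgHom.id R S) ((AlgHom.snd R B' C).comp P.val)
  show Function.Injective (fun z : S ⊗[R] ↥P => (φ₁ z, φ₂ z)) ∧
    ∀ (x : S ⊗[R] B') (y : S ⊗[R] C),
      Algebra.TensorProduct.map (AlgHom.id R S) f x = Algebra.TensorProduct.map (AlgHom.id R S) g y →
        ∃ z : S ⊗[R] ↥P, φ₁ z = x ∧ φ₂ z = y
  have key : ∀ {A A' : Type u} [CommRing A] [CommRing A'] [Algebra R A] [Algebra R A'] (h : A →ₐ[R] A')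
      (z : S ⊗[R] A), Algebra.TensorProduct.map (AlgHom.id R S) h z = LinearMap.lTensor S h.toLinearMap z := by
    intro A A' _ _ _ _ h z
    induction z using TensorProduct.induction_on with
    | zero => simp
    | tmul s a => simp
    | add x y hx hy => simp [map_add, hx, hy]
  let J := LinearMap.ker f.toLinearMap
  let i₁ : ↥P →ₗ[R] B' := ((AlgHom.fst R B' C).comp P.val).toLinearMap
  let i₂ : ↥P →ₗ[R] C := ((AlgHom.snd R B' C).comp P.val).toLinearMap
  have hmem : ∀ z : B' × C, z ∈ P ↔ f z.1 = g z.2 := fun z => Iff.rfl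
  have hP : f.toLinearMap ∘ₗ i₁ = g.toLinearMap ∘ₗ i₂ := LinearMap.ext fun z => (hmem z.1).1 z.2
  let ι : ↥J →ₗ[R] ↥P :=
    { toFun := fun j => ⟨((j : B'), 0), (hmem _).2 (by
        have hj : f (j : B') = 0 := LinearMap.mem_ker.1 j.2
        simp [hj])⟩
      map_add' := fun j k => Subtype.ext (by simp)
      map_smul' := fun r j => Subtype.ext (by simp) }
  have hι₁ : i₁ ∘ₗ ι = J.subtype := LinearMap.ext fun j => rfl
  have hex : Function.Exact ι i₂ := by
    intro z
    constructor
    · intro hz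
      have h1 : f z.1.1 = 0 := by
        have := (hmem z.1).1 z.2
        have hz' : z.1.2 = 0 := hz
        rw [this, hz', map_zero]
      exact ⟨⟨z.1.1, h1⟩, Subtype.ext (Prod.ext rfl (Eq.symm hz))⟩
    · rintro ⟨j, rfl⟩
      rfl
  have hsurj : Function.Surjective i₂ := fun c => by
    obtain ⟨b, hb⟩ := hf (g c)
    exact ⟨⟨(b, c), (hmem _).2 hb⟩, rfl⟩
  have e₁ : ∀ z, φ₁ z = LinearMap.lTensor S i₁ z := fun z => key _ z
  have e₂ : ∀ z, φ₂ z = LinearMap.lTensor S i₂ z := fun z => key _ z
  have E := lTensor_exact S hex hsurj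
  constructor
  · intro z z' h
    simp only [Prod.mk.injEq, e₁, e₂] at h
    obtain ⟨h1, h2⟩ := h
    rw [← sub_eq_zero, ← map_sub] at h1 h2
    rw [← sub_eq_zero]
    obtain ⟨w, hw⟩ := (E _).1 h2
    rw [← hw, ← LinearMap.comp_apply, ← LinearMap.lTensor_comp, hι₁] at h1
    rw [← hw, hJ (a₁ := w) (a₂ := 0) (by rw [h1, map_zero]), map_zero]
  · intro x y hxy
    rw [key, key] at hxy
    obtain ⟨z₀, hz₀⟩ := LinearMap.lTensor_surjective S hsurj y
    have hd : LinearMap.lTensor S f.toLinearMap (x - LinearMap.lTensor S i₁ z₀) = 0 := by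
      rw [map_sub, hxy, ← LinearMap.comp_apply, ← LinearMap.lTensor_comp, hP, LinearMap.lTensor_comp,
        LinearMap.comp_apply, hz₀, sub_self]
    have E' : Function.Exact J.subtype f.toLinearMap := LinearMap.exact_subtype_ker_map _
    obtain ⟨w, hw⟩ := (lTensor_exact S E' hf _).1 hd
    refine ⟨z₀ + LinearMap.lTensor S ι w, ?_, ?_⟩
    · rw [e₁, map_add, ← LinearMap.comp_apply (LinearMap.lTensor S i₁) (LinearMap.lTensor S ι),
        ← LinearMap.lTensor_comp, hι₁, hw]
      abel
    · rw [e₂, map_add, hz₀, E.apply_apply_eq_zero, add_zero]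

end Groth.Agent.S3209
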