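import Groth.Statements.S3210
import Groth.Agent.H4.AVHom
import Groth.Agent.Lib.EtaleTors.Basic
import Groth.Agent.S7785
import Groth.Agent.H2.Rigid.Smooth
import Groth.Prelude.Def_Red

set_option autoImplicit false
universe u
open CategoryTheory CategoryTheory.Limits AlgebraicGeometry MonObj
open SGA7

namespace Groth.Agent.S3210

open CategoryTheory.MonoidalCategory CategoryTheory.CartesianMonoidalCategory
attribute [local instance] Hom.group

/-- two morphisms from the spectrum of a valuation ring to a separated scheme agreeing on the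
generic point are equal -/
theorem ext_of_valuation {B T : Scheme.{u}} (f : B ⟶ T) [IsProper f] {Ω : Type u} [Field Ω]
    (W : ValuationSubring Ω) (u v : Spec (CommRingCat.of W) ⟶ B) (h : u ≫ f = v ≫ f)
    (hg : Spec.map (CommRingCat.ofHom (algebraMap W Ω)) ≫ u =
      Spec.map (CommRingCat.ofHom (algebraMap W Ω)) ≫ v) : u = v := by
  have hv : ValuativeCriterion f := by
    have h0 : @IsProper B T f := inferInstance
    rw [IsProper.eq_valuativeCriterion] at h0
    exact h0.1.1.1
  let sq : ValuativeCommSq f :=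
    { R := W, K := Ω, i₁ := Spec.map (CommRingCat.ofHom (algebraMap W Ω)) ≫ u, i₂ := u ≫ f,
      commSq := ⟨by rw [Category.assoc]⟩ }
  haveI := (ValuativeCriterion.uniqueness hv) sq
  exact congrArg (fun l : sq.commSq.LiftStruct => l.l)
    (Subsingleton.elim (⟨u, rfl, rfl⟩ : sq.commSq.LiftStruct) ⟨v, hg.symm, h.symm⟩)

/-- The core: inertia fixes the torsion points of the generic fibre of a proper smooth group. -/
theorem fixed_of_proper {R K Ω : Type u} [CommRing R] [IsDomain R] [IsDiscreteValuationRing R]
    [Field K] [Algebra R K] [IsFractionRing R K] [Field Ω] [Algebra K Ω]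
    (W : ValuationSubring Ω) (hW : SGA7.LiesOver K R W) (N : ℕ)
    (hN : (N : IsLocalRing.ResidueField R) ≠ 0)
    (B : Over (Spec (CommRingCat.of R))) [GrpObj B] [IsCommMonObj B] [IsProper B.hom] [Smooth B.hom]
    (σ : Ω ≃ₐ[K] Ω) (hσ : SGA7.IsInertia W σ)
    (x : SGA7.Pts Ω (Red.bc (Spec.map (CommRingCat.ofHom (algebraMap R K))) B)) (hx : x ^ N = 1) :
    SGA7.galAct σ x = x := by
  let j := Spec.map (CommRingCat.ofHom (algebraMap R K))
  let g : R →+* W := ((algebraMap K Ω).comp (algebraMap R K)).codRestrict W.toSubring hW.1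
  let WR : Over (Spec (CommRingCat.of R)) := Over.mk (Spec.map (CommRingCat.ofHom g))
  let jW := Spec.map (CommRingCat.ofHom (algebraMap W Ω))
  have hjW : jW ≫ WR.hom = (SGA7.pt (K := K) Ω).hom ≫ j := by
    show Spec.map _ ≫ Spec.map _ = Spec.map _ ≫ Spec.map _
    rw [← Spec.map_comp, ← Spec.map_comp, ← CommRingCat.ofHom_comp, ← CommRingCat.ofHom_comp]
    rfl
  -- lift to a point over the valuation ring
  have hv : ValuativeCriterion B.hom := by
    have h0 : @IsProper B.left _ B.hom := inferInstance
    rw [IsProper.eq_valuativeCriterion] at h0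
    exact h0.1.1.1
  let sq : ValuativeCommSq B.hom :=
    { R := W, K := Ω, i₁ := x.left ≫ pullback.fst B.hom j, i₂ := WR.hom,
      commSq := ⟨by
        rw [Category.assoc, pullback.condition, ← Category.assoc]
        erw [Over.w x]
        exact hjW.symm⟩ }
  obtain ⟨l⟩ := ((ValuativeCriterion.existence hv) sq).exists_lift
  let u : WR ⟶ B := Over.homMk l.l l.fac_right
  have hul : jW ≫ u.left = x.left ≫ pullback.fst B.hom j := l.fac_left
  let F := Over.pullback j
  let s : SGA7.pt (K := K) Ω ⟶ F.obj WR :=
    Over.homMk (pullback.lift jW (SGA7.pt (K := K) Ω).hom hjW) (pullback.lift_snd _ _ _)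
  have hxs : x = s ≫ F.map u := by
    ext
    apply pullback.hom_ext
    · simp only [Over.comp_left, F, s]
      erw [Category.assoc, pullback.lift_fst, ← Category.assoc, pullback.lift_fst, hul]
    · simp only [Over.comp_left, F, s]
      erw [Category.assoc, pullback.lift_snd]
      erw [pullback.lift_snd]
      exact Over.w x
  have huN : u ^ N = 1 := by
    ext
    refine ext_of_valuation B.hom W _ _ ((Over.w _).trans (Over.w _).symm) ?_
    have key : ∀ f : WR ⟶ B, (s ≫ F.map f).left ≫ pullback.fst B.hom j = jW ≫ f.left := by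
      intro f
      simp only [Over.comp_left, F, s]
      erw [Category.assoc, pullback.lift_fst, ← Category.assoc, pullback.lift_fst]
    rw [← key, ← key]
    have h1 : F.map (u ^ N) = F.map u ^ N := map_pow (Functor.homMonoidHom F) u N
    have h2 : F.map (1 : WR ⟶ B) = 1 := map_one (Functor.homMonoidHom F)
    rw [h1, h2, MonObj.comp_pow, MonObj.comp_one, ← hxs, hx]
  -- the conjugate point
  let σW : W →+* W := (σ.toRingEquiv.toRingHom.comp W.subtype).codRestrict W.toSubring
    fun a => (hσ a a.2).1
  have hσg : σW.comp g = g := by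
    ext r; exact σ.commutes (algebraMap R K r)
  let S : WR ⟶ WR := Over.homMk (Spec.map (CommRingCat.ofHom σW)) (by
    show Spec.map _ ≫ Spec.map _ = Spec.map _
    rw [← Spec.map_comp, ← CommRingCat.ofHom_comp, hσg])
  have hvN : (S ≫ u) ^ N = 1 := by rw [← MonObj.comp_pow, huN, MonObj.comp_one]
  have hNu : IsUnit (N : R) := by
    by_contra h
    apply hN
    rw [← map_natCast (IsLocalRing.residue R), IsLocalRing.residue_eq_zero_iff]
    exact h
  have hNL : ∀ (L : Type u) [Field L], (Spec (CommRingCat.of L) ⟶ Spec (CommRingCat.of R)) → (N : L) ≠ 0 := by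
    intro L _ b
    have := (hNu.map (Spec.preimage b).hom).ne_zero
    rwa [map_natCast] at this
  let p : B ⟶ B := (𝟙 B) ^ N
  haveI : Etale p.left := Groth.Agent.Lib.EtaleTors.Basic.etale_pow hNL
  have hcond : ∀ q : WR ⟶ B, q ^ N = 1 → q.left ≫ p.left = (1 : WR ⟶ B).left ≫ 𝟙 B.left := by
    intro q hq
    rw [Category.comp_id, ← Over.comp_left, MonObj.comp_pow, Category.comp_id, hq]
  let H := pullback p.left ((1 : WR ⟶ B).left ≫ 𝟙 B.left)
  let a : Spec (CommRingCat.of W) ⟶ H := pullback.lift u.left (𝟙 _) (by rw [hcond u huN]; erw [Category.id_comp])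
  let b : Spec (CommRingCat.of W) ⟶ H := pullback.lift (S ≫ u).left (𝟙 _) (by rw [hcond _ hvN]; erw [Category.id_comp])
  have hSres : Spec.map (CommRingCat.ofHom (IsLocalRing.residue W)) ≫ S.left =
      Spec.map (CommRingCat.ofHom (IsLocalRing.residue W)) := by
    show Spec.map _ ≫ Spec.map _ = Spec.map _
    rw [← Spec.map_comp, ← CommRingCat.ofHom_comp]
    congr 2
    ext z
    rw [RingHom.comp_apply, ← sub_eq_zero, ← map_sub, IsLocalRing.residue_eq_zero_iff,
      ValuationSubring.valuation_lt_one_iff]
    exact (hσ z z.2).2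
  have hab : a = b := by
    refine Groth.Agent.Lib.EtaleTors.Basic.section_eq_of_residue
      (pullback.snd p.left ((1 : WR ⟶ B).left ≫ 𝟙 B.left)) a b (pullback.lift_snd _ _ _)
      (pullback.lift_snd _ _ _) ?_
    apply pullback.hom_ext
    · simp only [a, b, Category.assoc]
      erw [pullback.lift_fst, pullback.lift_fst]
      rw [Over.comp_left, ← Category.assoc]
      erw [hSres]
    · simp only [a, b, Category.assoc]
      erw [pullback.lift_snd, pullback.lift_snd]
  have huv : (S ≫ u).left = u.left := by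
    have := congrArg (fun z => z ≫ pullback.fst _ _) hab
    simp only [a, b] at this
    erw [pullback.lift_fst, pullback.lift_fst] at this
    exact this.symm
  ext
  apply pullback.hom_ext
  · show (Spec.map (CommRingCat.ofHom (σ : Ω →+* Ω)) ≫ x.left) ≫ pullback.fst B.hom j = x.left ≫ pullback.fst B.hom j
    erw [Category.assoc, ← hul]
    conv_rhs => rw [← huv, Over.comp_left]
    rw [← Category.assoc, ← Category.assoc]
    congr 1
    show Spec.map _ ≫ Spec.map _ = Spec.map _ ≫ Spec.map _
    rw [← Spec.map_comp, ← Spec.map_comp, ← CommRingCat.ofHom_comp, ← CommRingCat.ofHom_comp]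
    rfl
  · exact (Over.w (SGA7.galAct σ x)).trans (Over.w x).symm


/-- Direction (i) ⇒ (v bis) of the Néron–Ogg–Chafarévitch criterion (only this direction of the
criterion is stated): let R be a discrete valuation ring with fraction field K and residue
characteristic different from the prime ℓ, Ω a separable closure of K, W a valuation subring of Ω
lying over R, and A an abelian variety over K (a proper, geometrically integral group scheme). If A
extends to an abelian scheme over R (a proper smooth group scheme over Spec R with connected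
geometric fibres whose generic fibre is K-isomorphic to A), then for every ν every element of the
inertia group at W fixes all the ℓ^ν-torsion Ω-points of A. -/
theorem result (R K Ω : Type u) [CommRing R] [IsDomain R] [IsDiscreteValuationRing R] [Field K]
    [Algebra R K] [IsFractionRing R K] [Field Ω] [Algebra K Ω] [IsSepClosure K Ω]
    (W : ValuationSubring Ω) (hW : SGA7.LiesOver K R W) (ℓ : ℕ) (hℓ : ℓ.Prime) (hℓp : (ℓ : IsLocalRing.ResidueField R) ≠ 0)
    (A : Over (Spec (CommRingCat.of K))) [GrpObj A] [IsProper A.hom] [GeometricallyIntegral A.hom]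
    (hgood : (∃ (B : Over (Spec (CommRingCat.of R))) (_ : GrpObj B), IsProper B.hom ∧ Smooth B.hom ∧
        (∀ (k' : Type u) [Field k'] (t : Spec (CommRingCat.of k') ⟶ Spec (CommRingCat.of R)), ConnectedSpace ↑(pullback B.hom t)) ∧
        Nonempty ((Over.pullback (Spec.map (CommRingCat.ofHom (algebraMap R K)))).obj B ≅ A))) :
    ∀ (ν : ℕ) (σ : Ω ≃ₐ[K] Ω), SGA7.IsInertia W σ → ∀ x : SGA7.Pts Ω A, x ^ (ℓ ^ ν) = 1 → SGA7.galAct σ x = x := by
  obtain ⟨B, _, hBp, hBs, hBc, ⟨e⟩⟩ := hgood
  intro ν σ hσ x hx
  haveI := hBp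
  haveI := hBs
  haveI : GeometricallyReduced B.hom := Groth.Agent.H2.Rigid.geometricallyReduced_of_smooth B.hom
  haveI : GeometricallyConnected B.hom := ⟨fun k' _ y Z a b h => by
    haveI := hBc k' y
    exact h.isoPullback.symm.hom.homeomorph.surjective.connectedSpace (Scheme.Hom.continuous _)⟩
  haveI : IsCommMonObj B := Groth.Agent.S7785.result B
  let BK := Red.bc (Spec.map (CommRingCat.ofHom (algebraMap R K))) B
  haveI : IsProper BK.hom := inferInstanceAs (IsProper (pullback.snd _ _))
  let f : A ⟶ BK := e.inv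
  let h : A ⟶ BK := f * (toUnit A ≫ η[A] ≫ f)⁻¹
  haveI : IsMonHom h := Groth.Agent.H4.AVHom.exists_hom_mul_const f
  have hxN : (x ≫ h) ^ (ℓ ^ ν) = 1 := by
    rw [← MonObj.pow_comp, hx, MonObj.one_comp]
  have hN : ((ℓ ^ ν : ℕ) : IsLocalRing.ResidueField R) ≠ 0 := by simp [hℓp]
  have key := fixed_of_proper W hW (ℓ ^ ν) hN B σ hσ (x ≫ h) hxN
  change SGA7.specAut σ ≫ x ≫ h = x ≫ h at key
  simp only [h, MonObj.comp_mul, GrpObj.comp_inv, ← Category.assoc] at key
  rw [toUnit_unique ((SGA7.specAut σ ≫ x) ≫ toUnit A) (x ≫ toUnit A)] at key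
  exact (cancel_mono f).1 (mul_right_cancel key)

end Groth.Agent.S3210
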