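import Groth.Statements.S3211
import Groth.Agent.S11098
import Groth.Agent.S18483
import Groth.Agent.S17449
import Groth.Agent.Lib.GrpQ.InfSub

set_option autoImplicit false
set_option linter.style.haveILetI false
universe u
open CategoryTheory CategoryTheory.Limits AlgebraicGeometry MonObj
open SGA7

namespace Groth.Agent.S3211

open CategoryTheory AlgebraicGeometry in
theorem exists_fac (R : Type u) [CommRing R] [IsDomain R] (L : Type u) [Field L] (φ : CommRingCat.of R ⟶ CommRingCat.of L)
    (h : Function.Injective φ.hom) :
    ∃ u : Spec (CommRingCat.of L) ⟶ Spec (CommRingCat.of (FractionRing R)), u ≫ Neron.genPt R = Spec.map φ := by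
  refine ⟨Spec.map (CommRingCat.ofHom (IsFractionRing.lift (K := FractionRing R) h)), ?_⟩
  rw [← Spec.map_comp]
  congr 1
  ext x
  exact IsFractionRing.lift_algebraMap h x

open CategoryTheory AlgebraicGeometry in
theorem geometricallyConnected_of_irreducible {X Y : Scheme.{u}} (f : X ⟶ Y) [GeometricallyIrreducible f] :
    GeometricallyConnected f :=
  ⟨fun K _ y Z a b h => by
    have := GeometricallyIrreducible.geometrically_irreducibleSpace (f := f) y a b h
    infer_instance⟩

open CategoryTheory CategoryTheory.Limits AlgebraicGeometry in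
theorem of_factor {X S S' T : Scheme.{u}} (f : X ⟶ S) (a : S' ⟶ S) (v : T ⟶ S') {b : T ⟶ S} (hb : v ≫ a = b)
    (h : GeometricallyConnected (pullback.snd f a)) : GeometricallyConnected (pullback.snd f b) := by
  subst hb
  rw [show pullback.snd f (v ≫ a) = (pullbackLeftPullbackSndIso f a v).inv ≫ pullback.snd _ _ by simp]
  exact (MorphismProperty.cancel_left_of_respectsIso (P := @GeometricallyConnected) _ _).2
    (MorphismProperty.pullback_snd _ _ h)

open CategoryTheory CategoryTheory.Limits MonoidalCategory CartesianMonoidalCategory AlgebraicGeometry in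
/-- A Néron model of a group scheme carries a group structure. -/
theorem exists_grpObj (R : Type u) [CommRing R] [IsDomain R]
    (A : Over (Spec (CommRingCat.of (FractionRing R)))) [GrpObj A]
    (N : Over (Spec (CommRingCat.of R))) (e : (Neron.genericFibre R).obj N ≅ A)
    (hN : Neron.IsNeronModelOf R N A e) : Nonempty (GrpObj N) := by
  obtain ⟨hsm, -, -, -, hb⟩ := hN
  let b : ∀ (T : Over (Spec (CommRingCat.of R))), (T ⟶ N) → ((Neron.genericFibre R).obj T ⟶ A) :=
    fun T g => (Neron.genericFibre R).map g ≫ e.hom
  have hnat : ∀ {T T' : Over (Spec (CommRingCat.of R))} (h : T' ⟶ T) (g : T ⟶ N),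
      b T' (h ≫ g) = (Neron.genericFibre R).map h ≫ b T g := fun h g => by simp [b]
  haveI := hsm
  haveI h2 : Smooth (N ⊗ N).hom := by
    show Smooth (pullback.fst N.hom N.hom ≫ N.hom)
    infer_instance
  haveI h3 : Smooth (N ⊗ N ⊗ N).hom := by
    show Smooth (pullback.fst N.hom (N ⊗ N).hom ≫ N.hom)
    infer_instance
  haveI h0 : Smooth (𝟙_ (Over (Spec (CommRingCat.of R)))).hom := inferInstanceAs (Smooth (𝟙 _))
  obtain ⟨one, hone⟩ := (hb (𝟙_ _) h0).2 1
  obtain ⟨mul, hmul⟩ := (hb (N ⊗ N) h2).2 (b _ (fst N N) * b _ (snd N N))
  obtain ⟨inv, hinv⟩ := (hb N hsm).2 (b N (𝟙 N))⁻¹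
  have hm : ∀ {T : Over (Spec (CommRingCat.of R))} (x y : T ⟶ N), b T (lift x y ≫ mul) = b T x * b T y := by
    intro T x y
    rw [hnat, show b _ mul = _ from hmul, MonObj.comp_mul, ← hnat, ← hnat, lift_fst, lift_snd]
  have h1 : ∀ {T : Over (Spec (CommRingCat.of R))} (t : T ⟶ 𝟙_ _), b T (t ≫ one) = 1 := by
    intro T t
    rw [hnat, show b _ one = _ from hone, MonObj.comp_one]
  have hv : ∀ {T : Over (Spec (CommRingCat.of R))} (x : T ⟶ N), b T (x ≫ inv) = (b T x)⁻¹ := by
    intro T x
    rw [hnat, show b _ inv = _ from hinv, GrpObj.comp_inv, ← hnat, Category.comp_id]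
  letI : MonObj N :=
    { one := one
      mul := mul
      one_mul := by
        rw [← cancel_epi (λ_ N).inv, Iso.inv_hom_id]
        apply (hb N hsm).1
        show b N _ = b N _
        rw [show (λ_ N).inv ≫ one ▷ N ≫ mul = lift (toUnit N ≫ one) (𝟙 N) ≫ mul by
          rw [← Category.assoc]; congr 1; apply CartesianMonoidalCategory.hom_ext <;> simp,
          hm, h1, _root_.one_mul]
      mul_one := by
        rw [← cancel_epi (ρ_ N).inv, Iso.inv_hom_id]
        apply (hb N hsm).1
        show b N _ = b N _
        rw [show (ρ_ N).inv ≫ N ◁ one ≫ mul = lift (𝟙 N) (toUnit N ≫ one) ≫ mul by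
          rw [← Category.assoc]; congr 1; apply CartesianMonoidalCategory.hom_ext <;> simp,
          hm, h1, _root_.mul_one]
      mul_assoc := by
        rw [← cancel_epi (α_ N N N).inv, Iso.inv_hom_id_assoc]
        apply (hb _ h3).1
        show b _ _ = b _ _
        rw [show (α_ N N N).inv ≫ mul ▷ N ≫ mul =
            lift (lift (fst _ _) (snd _ _ ≫ fst _ _) ≫ mul) (snd _ _ ≫ snd _ _) ≫ mul by
          rw [← Category.assoc]; congr 1; apply CartesianMonoidalCategory.hom_ext
          · simp only [Category.assoc, whiskerRight_fst, lift_fst]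
            rw [← Category.assoc]; congr 1; apply CartesianMonoidalCategory.hom_ext <;> simp
          · simp,
          show N ◁ mul ≫ mul = lift (fst N (N ⊗ N)) (lift (snd _ _ ≫ fst _ _) (snd _ _ ≫ snd _ _) ≫ mul) ≫ mul by
            congr 1; apply CartesianMonoidalCategory.hom_ext
            · simp
            · simp only [whiskerLeft_snd, lift_snd]
              rw [show lift (snd N (N ⊗ N) ≫ fst N N) (snd N (N ⊗ N) ≫ snd N N) = snd N (N ⊗ N) by
                rw [← comp_lift, lift_fst_snd, Category.comp_id]],
          hm, hm, hm, hm, _root_.mul_assoc] }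
  exact ⟨{ inv := inv
           left_inv := by
             apply (hb N hsm).1
             show b N (lift inv (𝟙 N) ≫ mul) = b N (toUnit N ≫ one)
             rw [hm, h1, ← Category.id_comp inv, hv, inv_mul_cancel]
           right_inv := by
             apply (hb N hsm).1
             show b N (lift (𝟙 N) inv ≫ mul) = b N (toUnit N ≫ one)
             rw [hm, h1, ← Category.id_comp inv, hv, mul_inv_cancel] }⟩


/-- (i) ⟺ (iv): let R be a discrete valuation ring with fraction field K, A an abelian variety over K (a
proper, geometrically integral group scheme) and N a Néron model of A over Spec R. Then A extends to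
an abelian scheme over R (a proper smooth group scheme with connected geometric fibres and generic
fibre K-isomorphic to A) if and only if N is proper over Spec R. -/
theorem result (R : Type u) [CommRing R] [IsDomain R] [IsDiscreteValuationRing R]
    (A : Over (Spec (CommRingCat.of (FractionRing R)))) [GrpObj A] [IsProper A.hom] [GeometricallyIntegral A.hom]
    (N : Over (Spec (CommRingCat.of R))) (e : (Neron.genericFibre R).obj N ≅ A) (hN : Neron.IsNeronModelOf R N A e) :
    (∃ (B : Over (Spec (CommRingCat.of R))) (_ : GrpObj B), IsProper B.hom ∧ Smooth B.hom ∧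
        (∀ (k' : Type u) [Field k'] (t : Spec (CommRingCat.of k') ⟶ Spec (CommRingCat.of R)), ConnectedSpace ↑(pullback B.hom t)) ∧
        Nonempty ((Over.pullback (Spec.map (CommRingCat.ofHom (algebraMap R (FractionRing R))))).obj B ≅ A)) ↔ IsProper N.hom := by
  constructor
  · rintro ⟨B, _, hBp, hBs, -, ⟨f⟩⟩
    have hB : Neron.IsNeronModelOf R B A f := by
      obtain ⟨s, p, q, r, h⟩ := Groth.Agent.S18483.result R B
      refine ⟨s, p, q, r, fun Y hY => ?_⟩
      have hc := (Iso.homCongr (Iso.refl ((Neron.genericFibre R).obj Y)) f).bijective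
      convert hc.comp (h Y hY) using 2
      simp
    obtain ⟨⟨ψ, hψ, -⟩, hiso⟩ := Groth.Agent.S11098.result R A N B e f hN hB
    haveI := hiso ψ hψ
    haveI : IsIso ψ.left := inferInstanceAs (IsIso ((Over.forget _).map ψ))
    rw [← Over.w ψ]
    infer_instance
  · intro hp
    haveI := hN.1
    obtain ⟨gN⟩ := exists_grpObj R A N e hN
    letI := gN
    haveI : Surjective N.hom :=
      ⟨fun s => ⟨(MonObj.one (X := N)).left s, congr($(Over.w (MonObj.one (X := N))) s)⟩⟩
    haveI : IsNoetherianRing R := inferInstance
    haveI : GeometricallyConnected N.hom := Groth.Agent.S17449.result N.hom fun Z eta hZ heta => by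
      let φ := Spec.preimage ((Spec (CommRingCat.of R)).fromSpecResidueField eta)
      have hφ : Spec.map φ = (Spec (CommRingCat.of R)).fromSpecResidueField eta := Spec.map_preimage _
      have heta0 : eta.asIdeal = ⊥ := by
        have h0 : (⟨⊥, Ideal.isPrime_bot⟩ : PrimeSpectrum R) ∈ Z := by
          rw [irreducibleComponents_eq_singleton, Set.mem_singleton_iff] at hZ
          rw [hZ]; trivial
        exact le_bot_iff.1 ((PrimeSpectrum.le_iff_specializes eta _).2 (heta.specializes h0))
      have hinj : Function.Injective φ.hom := by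
        rw [RingHom.injective_iff_ker_eq_bot]
        have := congr($hφ default)
        rw [Scheme.fromSpecResidueField_apply] at this
        rw [← heta0]
        refine Eq.trans ?_ (congrArg (fun z : PrimeSpectrum R => z.asIdeal) this)
        have hbot : ∀ q : PrimeSpectrum ((Spec (CommRingCat.of R)).residueField eta), q.asIdeal = ⊥ :=
          fun q => Ideal.eq_bot_of_prime _
        show RingHom.ker φ.hom = Ideal.comap φ.hom _
        rw [RingHom.ker_eq_comap_bot]
        exact congrArg (Ideal.comap φ.hom) (hbot _).symm
      obtain ⟨u, hu⟩ := exists_fac R _ φ hinj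
      have hu := hu.trans hφ
      haveI : IsIso e.hom.left := inferInstanceAs (IsIso ((Over.forget _).map e.hom))
      haveI : GeometricallyConnected A.hom :=
        geometricallyConnected_of_irreducible A.hom
      have hgc : GeometricallyConnected (pullback.snd N.hom (Neron.genPt R)) := by
        show GeometricallyConnected ((Neron.genericFibre R).obj N).hom
        rw [← Over.w e.hom]
        exact (MorphismProperty.cancel_left_of_respectsIso (P := @GeometricallyConnected) _ _).2 inferInstance
      exact ⟨of_factor N.hom (Neron.genPt R) u hu hgc, MorphismProperty.pullback_snd (P := @Smooth) _ _ inferInstance⟩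
    refine ⟨N, gN, hp, inferInstance, fun k' _ t => ?_, ⟨e⟩⟩
    exact GeometricallyConnected.geometrically_connectedSpace (f := N.hom) t _ _ (IsPullback.of_hasPullback N.hom t)

end Groth.Agent.S3211
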