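import Groth.Statements.S3214
import Mathlib.RingTheory.Polynomial.Vieta
import Mathlib.Algebra.Polynomial.Div
-- import your own Groth.Agent.* helpers here

set_option autoImplicit false
open Polynomial
universe u
open SGA7II

namespace Groth.Agent.S3214

/-- In the recursive form established in its proof: let A = Z[X_1, ..., X_a] (a >= 1), P = prod_i (T -
X_i) in A[T] and S_i the i-th elementary symmetric function. Writing a_j for the coefficient of
T^{a-1} in the remainder of T^{a-1+j} modulo P, one has a_0 = 1 and sum_{i=0}^{a} (-1)^i S_i a_{j-i}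
= 0 for every j > 0 (with a_m = 0 for m < 0); equivalently sum_j (-1)^j a_j is the inverse of sum_i
S_i. (The source works in formal power series; the identity involves only polynomials.) -/
theorem result (a : ℕ) (ha : 0 < a) :
    let P : (MvPolynomial (Fin a) ℤ)[X] := ∏ i : Fin a, (X - C (MvPolynomial.X i))
    let coef : ℤ → MvPolynomial (Fin a) ℤ := fun j =>
      if j < 0 then 0 else ((X : (MvPolynomial (Fin a) ℤ)[X]) ^ (a - 1 + j.toNat) %ₘ P).coeff (a - 1)
    coef 0 = 1 ∧ ∀ j : ℕ, 0 < j →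
      (∑ i ∈ Finset.range (a + 1), (-1 : MvPolynomial (Fin a) ℤ) ^ i * MvPolynomial.esymm (Fin a) ℤ i *
        coef ((j : ℤ) - i)) = 0 := by
  intro P coef
  have hPm : P.Monic := monic_prod_of_monic _ _ fun i _ => monic_X_sub_C _
  have hdeg : P.natDegree = a := by
    show (∏ i : Fin a, (X - C (MvPolynomial.X i)) : (MvPolynomial (Fin a) ℤ)[X]).natDegree = a
    rw [natDegree_prod_of_monic _ _ fun i _ => monic_X_sub_C _]
    simp
  have hsmall : ∀ q : ℕ, q < a → (X : (MvPolynomial (Fin a) ℤ)[X]) ^ q %ₘ P = X ^ q := fun q hq =>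
    (modByMonic_eq_self_iff hPm).2 (by
      rw [degree_X_pow, degree_eq_natDegree hPm.ne_zero, hdeg]; exact_mod_cast hq)
  refine ⟨?_, fun j hj => ?_⟩
  · show (if (0:ℤ) < 0 then (0 : MvPolynomial (Fin a) ℤ) else _) = 1
    rw [if_neg (lt_irrefl 0), Int.toNat_zero, add_zero, hsmall _ (by omega), coeff_X_pow_self]
  have hP : P = ∑ i ∈ Finset.range (a + 1),
      C ((-1 : MvPolynomial (Fin a) ℤ) ^ i * MvPolynomial.esymm (Fin a) ℤ i) * X ^ (a - i) := by
    have h := Multiset.prod_X_sub_X_eq_sum_esymm ((Finset.univ : Finset (Fin a)).val.map fun i => (MvPolynomial.X i : MvPolynomial (Fin a) ℤ))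
    rw [Multiset.map_map, Multiset.card_map, Finset.card_val, Finset.card_univ, Fintype.card_fin] at h
    refine h.trans (Finset.sum_congr rfl fun i _ => ?_)
    rw [← MvPolynomial.esymm_eq_multiset_esymm, map_mul, map_pow, map_neg, map_one, mul_assoc]
  have hterm : ∀ i ∈ Finset.range (a + 1), coef ((j : ℤ) - i) =
      ((X : (MvPolynomial (Fin a) ℤ)[X]) ^ (a - i + (j - 1)) %ₘ P).coeff (a - 1) := by
    intro i hi
    rw [Finset.mem_range] at hi
    show (if (j : ℤ) - i < 0 then 0 else _) = _
    split_ifs with h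
    · rw [hsmall _ (by omega), coeff_X_pow, if_neg (by omega)]
    · congr 3
      omega
  have h0 : (∑ i ∈ Finset.range (a + 1),
      ((-1 : MvPolynomial (Fin a) ℤ) ^ i * MvPolynomial.esymm (Fin a) ℤ i) •
        ((X : (MvPolynomial (Fin a) ℤ)[X]) ^ (a - i + (j - 1)) %ₘ P)) = 0 := by
    have h1 : (P * X ^ (j - 1)) %ₘ P = 0 := (modByMonic_eq_zero_iff_dvd hPm).2 (dvd_mul_right _ _)
    conv_lhs at h1 => arg 1; rw [hP, Finset.sum_mul]
    refine Eq.trans ?_ h1
    rw [← modByMonicHom_apply, map_sum]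
    refine Finset.sum_congr rfl fun i _ => ?_
    rw [mul_assoc, ← pow_add, ← smul_eq_C_mul, map_smul, modByMonicHom_apply]
  have h2 := congr_arg (fun q : (MvPolynomial (Fin a) ℤ)[X] => q.coeff (a - 1)) h0
  simp only [finsetSum_coeff, coeff_smul, smul_eq_mul, coeff_zero] at h2
  rw [← h2]
  exact Finset.sum_congr rfl fun i hi => by rw [hterm i hi]

end Groth.Agent.S3214
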