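import Groth.Statements.S3215
import Groth.Agent.Lib.QuadGrp99.SplitEven
-- import your own Groth.Agent.* helpers here

set_option autoImplicit false
universe u
open SGA7II

namespace Groth.Agent.S3215

/-- Let A be a commutative ring and Q(x) = sum over pairs i <= j of a_{ij} x_i x_j a quadratic form in
2m variables on the free module A^{2m} (the source allows a locally free module, which is free
Zariski-locally; the variables indexed by two copies of Fin m, ordered first copy then second),
whose polar bilinear form (matrix entries 2a_{ii} on the diagonal, a_{ij} for i < j) has invertible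
determinant (Q is ordinary). Then there are finitely many etale A-algebras B_t whose spectra jointly
cover Spec A and, over each B_t, an invertible matrix g with Q(g x) = sum_j x_j x_{m+j}, the split
form. -/
theorem result (A : Type u) [CommRing A] (m : ℕ)
    (a : (Fin m ⊕ Fin m) → (Fin m ⊕ Fin m) → A) :
    let rk : Fin m ⊕ Fin m → ℕ := Sum.elim Fin.val (fun k => m + k.val)
    let QB : ∀ (B : Type u) [CommRing B] [Algebra A B], ((Fin m ⊕ Fin m) → B) → B :=
      fun B _ _ x => ∑ i, ∑ j, if rk i ≤ rk j then algebraMap A B (a i j) * x i * x j else 0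
    IsUnit (Matrix.det (Matrix.of fun i j : Fin m ⊕ Fin m =>
      if i = j then a i i + a i i else if rk i ≤ rk j then a i j else a j i)) →
    ∃ (n : ℕ) (B : Fin n → Type u) (_ : ∀ t, CommRing (B t)) (_ : ∀ t, Algebra A (B t)),
      (∀ t, Algebra.Etale A (B t)) ∧
      (∀ p : PrimeSpectrum A, ∃ (t : Fin n) (q : PrimeSpectrum (B t)),
        q.asIdeal.comap (algebraMap A (B t)) = p.asIdeal) ∧
      ∀ t, ∃ g : Matrix (Fin m ⊕ Fin m) (Fin m ⊕ Fin m) (B t), IsUnit g.det ∧
        ∀ x : Fin m ⊕ Fin m → B t, QB (B t) (g.mulVec x) = ∑ j : Fin m, x (Sum.inl j) * x (Sum.inr j) := by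
  intro rk QB hdet
  let e : Fin m ⊕ Fin m ≃ Fin (2 * m) := finSumFinEquiv.trans (finCongr (two_mul m).symm)
  have he : ∀ i, (e i : ℕ) = rk i := by rintro (i | i) <;> simp [e, rk] <;> omega
  let U : Matrix (Fin (2 * m)) (Fin (2 * m)) A :=
    Matrix.of fun i j => if (i : ℕ) ≤ j then a (e.symm i) (e.symm j) else 0
  have hP : IsUnit (U + U.transpose).det := by
    rw [← Matrix.det_submatrix_equiv_self e]
    convert hdet using 2
    ext i j
    simp only [Matrix.submatrix_apply, Matrix.add_apply, Matrix.transpose_apply, U, Matrix.of_apply,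
      Equiv.symm_apply_apply, he]
    by_cases hij : i = j
    · subst hij; simp
    · rw [if_neg hij]
      have hne : rk i ≠ rk j := fun h => hij (e.injective (Fin.ext (by rw [he, he, h])))
      split_ifs <;> first | omega | simp
  obtain ⟨N, B, iB, iA, het, hcov, hg⟩ := Groth.Agent.Lib.QuadGrp99.SplitEven.exists_etale U hP
  refine ⟨N, B, iB, iA, het, hcov, fun t => ?_⟩
  obtain ⟨g, hgu, hga⟩ := hg t
  refine ⟨g.submatrix e e, by rw [Matrix.det_submatrix_equiv_self]; exact hgu, fun x => ?_⟩
  let y : Fin (2 * m) → B t := fun i => x (e.symm i)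
  have h1 := (Groth.Agent.Lib.QuadGrp99.SplitEven.qf_eq_iff _ _).2 hga y
  rw [Groth.Agent.Lib.QuadGrp99.SplitEven.transpose_mul_dot,
    Groth.Agent.Lib.QuadGrp99.SplitEven.splitMat_dot] at h1
  have hx : (g.submatrix e e).mulVec x = fun i => g.mulVec y (e i) := funext fun i => by
    rw [Matrix.mulVec, Matrix.mulVec, dotProduct, dotProduct, ← e.sum_comp]
    simp [y]
  have h2 : ∀ z : Fin (2 * m) → B t, QB (B t) (fun i => z (e i)) =
      dotProduct z ((U.map (algebraMap A (B t))).mulVec z) := fun z => by
    simp only [QB, dotProduct, Matrix.mulVec, Matrix.map_apply, U, Matrix.of_apply, Finset.mul_sum, ← he]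
    rw [← e.sum_comp]
    refine Finset.sum_congr rfl fun i _ => ?_
    rw [← e.sum_comp]
    refine Finset.sum_congr rfl fun j _ => ?_
    simp only [Equiv.symm_apply_apply]
    split_ifs
    · ring
    · rw [map_zero, zero_mul, mul_zero]
  rw [hx, h2, h1]
  refine Finset.sum_congr rfl fun j _ => ?_
  have l1 : e.symm ⟨(j : ℕ), by omega⟩ = Sum.inl j := by
    rw [Equiv.symm_apply_eq]; apply Fin.ext; rw [he]; rfl
  have l2 : e.symm ⟨m + (j : ℕ), by omega⟩ = Sum.inr j := by
    rw [Equiv.symm_apply_eq]; apply Fin.ext; rw [he]; rfl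
  simp only [y, l1, l2]

end Groth.Agent.S3215
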