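import Groth.Statements.S3243
import Groth.Agent.H88.EtMod.PushH1
import Groth.Agent.H88.EtMod.ConstTorsionFree

set_option autoImplicit false
universe u
open CategoryTheory AlgebraicGeometry
open Dix

namespace Groth.Agent.S3243

/-- Let X be quasi-compact and quasi-separated, x a point of X and M a torsion-free abelian group, M_x
the constant sheaf on Spec κ(x). Then H¹(X_ét, i_{x*} M_x) = 0. -/
theorem result (X : Scheme.{u}) [CompactSpace X] [QuasiSeparatedSpace X] (x : X) (M : Type) [AddCommGroup M] [IsAddTorsionFree M] : Subsingleton (EtCoh.H X ((Dix.skyPush X x).obj (EtCoh.const (Spec (X.residueField x)) M)) 1) := by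
  have h0 : Subsingleton (EtCoh.H (Spec (CommRingCat.of (X.residueField x))) (EtCoh.const (Spec (CommRingCat.of (X.residueField x))) M) 1) :=
    subsingleton_of_forall_eq 0 fun e => by
      obtain ⟨n, hn, hne⟩ := isOfFinAddOrder_iff_nsmul_eq_zero.1
        (Groth.Agent.H61.FieldCoh.isOfFinAddOrder Nat.one_pos e)
      exact Groth.Agent.H88.EtMod.ConstTorsionFree.eq_zero_of_nsmul hn e hne
  exact @Groth.Agent.H88.EtMod.PushH1.subsingleton_H_one_push X _ (X.fromSpecResidueField x) inferInstance _ h0

end Groth.Agent.S3243
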