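import Groth.Statements.S3244
import Groth.Agent.Lib.Kummer.Basic

set_option autoImplicit false
universe u
open CategoryTheory AlgebraicGeometry
open Dix

namespace Groth.Agent.S3244

/-- Kummer theory at finite level: let n > 0 be an integer invertible on the scheme X (nonzero in every
residue field). Then for every i ≥ 1 the image of H^i(X_ét, μ_n) → H^i(X_ét, G_m), induced by the
inclusion μ_n → G_m, is exactly the subgroup of elements of H^i(X_ét, G_m) killed by n; in
particular H²(X_ét, μ_n) maps onto the n-torsion of the cohomological Brauer group H²(X_ét, G_m).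
(The published statement gives exact sequences obtained as the colimit of these over the powers n =
ℓ^m of a prime ℓ.) -/
theorem result (X : Scheme.{u}) (n : ℕ) (hn : 0 < n) (hX : Dix.InvertibleOn X n) (i : ℕ) (hi : 1 ≤ i) : Set.range ⇑((EtCoh.HF X i).map (EtCoh.muι X n)) = {ξ : (EtCoh.HF X i).obj (EtCoh.Gm X) | n • ξ = 0} := by
  ext ξ
  have hS := Groth.Agent.Lib.Kummer.kummer_shortExact hn hX
  constructor
  · rintro ⟨η, rfl⟩
    show n • _ = (0 : (EtCoh.HF X i).obj (EtCoh.Gm X))
    rw [← Groth.Agent.Lib.Kummer.HF_map_powMap (n := n) X i, ← ConcreteCategory.comp_apply,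
      ← Functor.map_comp, Groth.Agent.Lib.Kummer.powMap_comp_eq_zero]
    let η' : Abelian.Ext _ (EtCoh.mu X n) i := η
    show η'.comp (Abelian.Ext.mk₀ (0 : EtCoh.mu X n ⟶ EtCoh.Gm X)) (add_zero i) = 0
    rw [Abelian.Ext.mk₀_zero, Abelian.Ext.comp_zero]
  · intro h
    have hξ := (Groth.Agent.Lib.Kummer.HF_map_powMap (n := n) X i ξ).trans h
    obtain ⟨η, hη⟩ := Abelian.Ext.covariant_sequence_exact₂ _ hS ξ hξ
    exact ⟨η, hη⟩

end Groth.Agent.S3244
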