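import Groth.Statements.S3246
import Groth.Agent.Lib.Kummer.Basic

set_option autoImplicit false
universe u
open CategoryTheory CategoryTheory.Limits AlgebraicGeometry
open Dix

namespace Groth.Agent.S3246

section

variable {X : Scheme.{u}}

lemma map_eq_nsmul_of_smul_id {F : EtCoh.Ab X} {m : ℕ} (h : m • 𝟙 F = 0) (U : X.Etale) (s : EtCoh.sect F U) :
    m • s = 0 := by
  have h1 := congrArg (fun φ : F ⟶ F => φ.hom.app (Opposite.op U) s) h
  have h2 : ∀ j : ℕ, (j • 𝟙 F).hom.app (Opposite.op U) s = j • s := by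
    intro j
    induction j with
    | zero => rw [zero_smul, zero_smul]; rfl
    | succ j ih => rw [succ_nsmul, succ_nsmul, ← ih]; rfl
  exact (h2 m).symm.trans h1

lemma isPrimaryTorsion_of_smul_id {F : EtCoh.Ab X} {ℓ k : ℕ} (h : (ℓ ^ k) • 𝟙 F = 0) :
    Dix.IsPrimaryTorsion ℓ F := by
  intro U s x
  refine ⟨U, 𝟙 U, ⟨x, rfl⟩, k, ?_⟩
  exact map_eq_nsmul_of_smul_id h U _

lemma smul_id_kernel (X : Scheme.{u}) (m : ℕ) : m • 𝟙 (kernel (EtCoh.powMap X m)) = 0 := by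
  rw [← cancel_mono (kernel.ι (EtCoh.powMap X m)), zero_comp, Preadditive.nsmul_comp, Category.id_comp]
  have h := kernel.condition (EtCoh.powMap X m)
  unfold EtCoh.powMap at h
  rwa [Preadditive.comp_nsmul, Category.comp_id] at h

lemma smul_id_cokernel (X : Scheme.{u}) (m : ℕ) : m • 𝟙 (cokernel (EtCoh.powMap X m)) = 0 := by
  rw [← cancel_epi (cokernel.π (EtCoh.powMap X m)), comp_zero, Preadditive.comp_nsmul, Category.comp_id]
  have h := cokernel.condition (EtCoh.powMap X m)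
  unfold EtCoh.powMap at h
  rwa [Preadditive.nsmul_comp, Category.id_comp] at h

variable {ℓ n : ℕ}

lemma injective_of_shortExact (hcd : Dix.CohDimLEAt X ℓ n) {S : ShortComplex (EtCoh.Ab X)}
    (hS : S.ShortExact) (h₁ : Dix.IsPrimaryTorsion ℓ S.X₁) {i : ℕ} (hi : n < i)
    (ξ : EtCoh.H X S.X₂ i) (hξ : Abelian.Ext.comp ξ (Abelian.Ext.mk₀ S.g) (add_zero i) = 0) : ξ = 0 := by
  obtain ⟨η, hη⟩ := Abelian.Ext.covariant_sequence_exact₂ _ hS ξ hξ
  have := hcd S.X₁ h₁ i hi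
  rw [← hη, Subsingleton.elim η 0, Abelian.Ext.zero_comp]

lemma injective_of_shortExact' (hcd : Dix.CohDimLEAt X ℓ n) {S : ShortComplex (EtCoh.Ab X)}
    (hS : S.ShortExact) (h₃ : Dix.IsPrimaryTorsion ℓ S.X₃) {i : ℕ} (hi : n < i)
    (ξ : EtCoh.H X S.X₁ (i + 1)) (hξ : Abelian.Ext.comp ξ (Abelian.Ext.mk₀ S.f) (add_zero (i + 1)) = 0) :
    ξ = 0 := by
  obtain ⟨η, hη⟩ := Abelian.Ext.covariant_sequence_exact₁ _ hS ξ hξ (n₀ := i) rfl
  have := hcd S.X₃ h₃ i hi
  rw [← hη, Subsingleton.elim η 0, Abelian.Ext.zero_comp]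

end

/-- Let X be a scheme, ℓ a prime and n an integer with cd_ℓ(X) ≤ n (étale cohomology of ℓ-primary
torsion sheaves vanishes above degree n). Then the ℓ-primary torsion of H^i(X_ét, G_m) is zero for i
> n + 1; if moreover ℓ is invertible on X, it is zero for i > n. -/
theorem result (X : Scheme.{u}) (ℓ : ℕ) (hℓ : ℓ.Prime) (n : ℕ) (hcd : Dix.CohDimLEAt X ℓ n) : (∀ i : ℕ, n + 1 < i → ∀ ξ : EtCoh.H X (EtCoh.Gm X) i, (∃ k : ℕ, ℓ ^ k • ξ = 0) → ξ = 0) ∧ (Dix.InvertibleOn X ℓ → ∀ i : ℕ, n < i → ∀ ξ : EtCoh.H X (EtCoh.Gm X) i, (∃ k : ℕ, ℓ ^ k • ξ = 0) → ξ = 0) := by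
  have key : ∀ (i k : ℕ) (ξ : EtCoh.H X (EtCoh.Gm X) i), ℓ ^ k • ξ = 0 → n < i →
      Abelian.Ext.comp (Abelian.Ext.comp ξ (Abelian.Ext.mk₀ (Abelian.factorThruImage (EtCoh.powMap X (ℓ ^ k))))
        (add_zero i)) (Abelian.Ext.mk₀ (Abelian.image.ι (EtCoh.powMap X (ℓ ^ k)))) (add_zero i) = 0 := by
    intro i k ξ hξ _
    rw [Abelian.Ext.comp_assoc_of_second_deg_zero, Abelian.Ext.mk₀_comp_mk₀, Abelian.image.fac]
    exact (Groth.Agent.Lib.Kummer.HF_map_powMap X i ξ).trans hξ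
  have inj₁ : ∀ (i k : ℕ) (ξ : EtCoh.H X (EtCoh.Gm X) i), n < i →
      Abelian.Ext.comp ξ (Abelian.Ext.mk₀ (Abelian.factorThruImage (EtCoh.powMap X (ℓ ^ k)))) (add_zero i) = 0 →
      ξ = 0 := by
    intro i k ξ hi hξ
    let p := Abelian.factorThruImage (EtCoh.powMap X (ℓ ^ k))
    have hw : kernel.ι (EtCoh.powMap X (ℓ ^ k)) ≫ p = 0 := by
      rw [← cancel_mono (Abelian.image.ι (EtCoh.powMap X (ℓ ^ k))), Category.assoc, Abelian.image.fac,
        kernel.condition, zero_comp]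
    have hS : (ShortComplex.mk (kernel.ι (EtCoh.powMap X (ℓ ^ k))) p hw).ShortExact :=
      { exact := ShortComplex.exact_of_f_is_kernel _ (KernelFork.IsLimit.ofι' _ _ fun {W} g hg =>
          ⟨kernel.lift _ g (by rw [← Abelian.image.fac (EtCoh.powMap X (ℓ ^ k)), ← Category.assoc]
                               show (g ≫ p) ≫ _ = 0
                               rw [hg, zero_comp]), kernel.lift_ι _ _ _⟩)
        mono_f := inferInstanceAs (Mono (kernel.ι _))
        epi_g := inferInstanceAs (Epi (Abelian.factorThruImage (EtCoh.powMap X (ℓ ^ k)))) }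
    exact injective_of_shortExact hcd hS (isPrimaryTorsion_of_smul_id (smul_id_kernel X _)) hi ξ hξ
  constructor
  · rintro i hi ξ ⟨k, hk⟩
    refine inj₁ i k ξ (by omega) ?_
    obtain ⟨i', rfl⟩ : ∃ i', i = i' + 1 := ⟨i - 1, by omega⟩
    have hw : Abelian.image.ι (EtCoh.powMap X (ℓ ^ k)) ≫ cokernel.π (EtCoh.powMap X (ℓ ^ k)) = 0 :=
      kernel.condition _
    have hS : (ShortComplex.mk _ _ hw).ShortExact :=
      { exact := ShortComplex.exact_of_f_is_kernel _ (kernelIsKernel _)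
        mono_f := inferInstanceAs (Mono (Abelian.image.ι _))
        epi_g := inferInstanceAs (Epi (cokernel.π _)) }
    exact injective_of_shortExact' hcd hS (isPrimaryTorsion_of_smul_id (smul_id_cokernel X _))
      (by omega) _ (key _ k ξ hk (by omega))
  · rintro hX i hi ξ ⟨k, hk⟩
    have hXk : Dix.InvertibleOn X (ℓ ^ k) := fun x => by
      rw [Nat.cast_pow]; exact pow_ne_zero k (hX x)
    have : Epi (EtCoh.powMap X (ℓ ^ k)) := (Sheaf.isLocallySurjective_iff_epi' _ _).1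
      (Groth.Agent.Lib.Kummer.isLocallySurjective_powMap (pow_pos hℓ.pos k) hXk)
    refine inj₁ i k ξ hi ?_
    have : IsIso (Abelian.image.ι (EtCoh.powMap X (ℓ ^ k))) := by
      have : Epi (Abelian.image.ι (EtCoh.powMap X (ℓ ^ k))) :=
        epi_of_epi_fac (Abelian.image.fac (EtCoh.powMap X (ℓ ^ k)))
      exact isIso_of_mono_of_epi _
    have h := congrArg (fun e => Abelian.Ext.comp e
      (Abelian.Ext.mk₀ (inv (Abelian.image.ι (EtCoh.powMap X (ℓ ^ k))))) (add_zero i)) (key i k ξ hk hi)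
    simp only [Abelian.Ext.comp_assoc_of_second_deg_zero, Abelian.Ext.mk₀_comp_mk₀, Category.assoc,
      IsIso.hom_inv_id, Category.comp_id, Abelian.Ext.zero_comp] at h
    exact h

end Groth.Agent.S3246
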