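import Groth.Statements.S3257
import Groth.Agent.Lib.SurfFactor85.Iso
import Groth.Agent.Lib.ProjSpace.BaseChange
-- import your own Groth.Agent.* helpers here

set_option autoImplicit false
universe u
open AlgebraicGeometry CategoryTheory CategoryTheory.Limits
open ArSurf

namespace Groth.Agent.S3257

/-- Let R be a Dedekind domain, X and Y arithmetic surfaces over Spec R, f : X -> Y an R-morphism and y
a closed point of Y such that f restricts to an isomorphism over Y minus y while the fibre of f over
y is irreducible and has more than one point (so the exceptional locus of the birational morphism f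
is irreducible). Then f is the blowing-up of Y at y: it has the universal property of the blow-up
along the ideal of the reduced closed point y (BlowUp.IsBlowUp). (The factorization result of the
source says more generally that every birational morphism of regular fibered surfaces is a finite
sequence of blow-ups of closed points.) -/
theorem result {R : Type u} [CommRing R] [IsDedekindDomain R]
    (X Y : Over (Spec (CommRingCat.of R))) (hX : ArSurf.IsArithSurface R X) (hY : ArSurf.IsArithSurface R Y)
    (f : X ⟶ Y) (y : Y.left) (hy : IsClosed ({y} : Set Y.left))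
    (hiso : IsIso (f.left ∣_ (⟨{y}ᶜ, hy.isOpen_compl⟩ : Y.left.Opens)))
    (hirr : IsPreirreducible (f.left.base ⁻¹' {y}))
    (hbig : ∃ x x' : X.left, x ≠ x' ∧ f.left.base x = y ∧ f.left.base x' = y) :
    BlowUp.IsBlowUp f.left (Scheme.IdealSheafData.vanishingIdeal ⟨{y}, hy⟩) := by
  obtain ⟨hregX, hXi, hdimX, -, n, i, hi, hiX⟩ := hX
  obtain ⟨hregY, hYi, hdimY, -, m, j, hj, hjY⟩ := hY
  haveI : IsProper (CohB1.ProjSpaceOver.toBase n (Spec (CommRingCat.of R))) :=
    Groth.Agent.Lib.ProjSpace.BaseChange.isProper_toBase n _
  haveI : IsProper (CohB1.ProjSpaceOver.toBase m (Spec (CommRingCat.of R))) :=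
    Groth.Agent.Lib.ProjSpace.BaseChange.isProper_toBase m _
  haveI : IsProper X.hom := hiX ▸ inferInstance
  haveI : IsProper Y.hom := hjY ▸ inferInstance
  haveI : IsLocallyNoetherian Y.left := LocallyOfFiniteType.isLocallyNoetherian Y.hom
  haveI : CompactSpace Y.left := QuasiCompact.compactSpace_of_compactSpace Y.hom
  haveI : IsNoetherian Y.left := ⟨⟩
  haveI : IsProper (f.left ≫ Y.hom) := by rw [Over.w f]; infer_instance
  haveI : IsProper f.left := IsProper.of_comp f.left Y.hom
  haveI := hregY y
  exact Groth.Agent.Lib.SurfFactor85.Iso.isBlowUp_of_irreducible_fibre f.left hdimX.le hdimY.le hregX y hy hiso hirr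
    (Groth.Agent.Lib.SmoothCurve.Stalk.ne_genericPoint_of_isClosed (by rw [hdimY]; decide) hy) hbig

end Groth.Agent.S3257
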