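import Groth.Statements.S3258
import Groth.Agent.Lib.ModelFibre.NoContraction
import Groth.Agent.H26.BirationalZMT
import Groth.Agent.Lib.ProjSpace.BaseChange
import Groth.Agent.Lib.Regular.UFD
import Mathlib.AlgebraicGeometry.Fiber

set_option autoImplicit false
universe u
open AlgebraicGeometry CategoryTheory CategoryTheory.Limits
open ArSurf

namespace Groth.Agent.S3258

/-- Let R be a Dedekind domain and X an arithmetic surface over Spec R (a regular, integral scheme of
dimension 2, flat and projective over Spec R) which is smooth over Spec R. Then X is relatively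
minimal: every R-morphism from X to a regular, projective, flat R-scheme that is an isomorphism on
generic fibres is an isomorphism. -/
theorem result {R : Type u} [CommRing R] [IsDedekindDomain R]
    (X : Over (Spec (CommRingCat.of R))) (hX : ArSurf.IsArithSurface R X) [Smooth X.hom] :
    Neron.IsRelMinimalRegularModel R X := by
  obtain ⟨hXreg, hXint, hdim, hXflat, hXproj⟩ := hX
  refine ⟨hXreg, hXproj, hXflat, fun Y hYreg hYproj hYflat g hg => ?_⟩
  obtain ⟨n, i, hi, hiX⟩ := hXproj
  obtain ⟨m, j, hj, hjY⟩ := hYproj
  have : IsProper X.hom := by rw [← hiX]; infer_instance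
  have : IsProper Y.hom := by rw [← hjY]; infer_instance
  have : IsLocallyNoetherian X.left := LocallyOfFiniteType.isLocallyNoetherian X.hom
  have : IsLocallyNoetherian Y.left := LocallyOfFiniteType.isLocallyNoetherian Y.hom
  have hw : g.left ≫ Y.hom = X.hom := Over.w g
  have : IsProper (g.left ≫ Y.hom) := by rw [hw]; infer_instance
  have : IsProper g.left := IsProper.of_comp g.left Y.hom
  set ι := Neron.genPt R
  let gK := ((Neron.genericFibre R).map g).left
  have : IsIso gK := (inferInstance : IsIso ((Over.forget _).map ((Neron.genericFibre R).map g)))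
  have hsq : gK ≫ pullback.fst Y.hom ι = pullback.fst X.hom ι ≫ g.left := pullback.lift_fst _ _ _
  -- points over the generic point
  have hηR : ∀ {Z : Over (Spec (CommRingCat.of R))} (z : Z.left), (Z.hom z).asIdeal = ⊥ →
      z ∈ Set.range (pullback.fst Z.hom ι) := fun {Z} z hz => by
    rw [Scheme.Pullback.range_fst]
    refine ⟨IsLocalRing.closedPoint (FractionRing R), ?_⟩
    refine PrimeSpectrum.ext ?_
    rw [hz]
    show Ideal.comap (algebraMap R (FractionRing R)) (IsLocalRing.maximalIdeal (FractionRing R)) = ⊥
    rw [IsLocalRing.maximalIdeal_eq_bot]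
    exact (RingHom.injective_iff_ker_eq_bot _).1 (IsFractionRing.injective R (FractionRing R))
  have : IsPreimmersion ι := IsPreimmersion.of_isLocalization (nonZeroDivisors R)
  have hflatgen : ∀ {Z : Over (Spec (CommRingCat.of R))} [Flat Z.hom] (z : Z.left),
      ∃ z' : Z.left, z' ⤳ z ∧ (Z.hom z').asIdeal = ⊥ := fun {Z} _ z => by
    obtain ⟨z', hz', he⟩ := Flat.generalizingMap Z.hom (a := z)
      (b := (⟨⊥, Ideal.isPrime_bot⟩ : PrimeSpectrum R))
      ((PrimeSpectrum.le_iff_specializes _ _).1 bot_le)
    exact ⟨z', hz', congrArg PrimeSpectrum.asIdeal he⟩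
  obtain ⟨η, hη⟩ : ∃ η, η = genericPoint X.left := ⟨_, rfl⟩
  have hηK : (X.hom η).asIdeal = ⊥ := by
    obtain ⟨z', hz', h0⟩ := hflatgen (Z := X) η
    rwa [show η = z' from ((hη ▸ genericPoint_specializes z').antisymm hz').eq]
  obtain ⟨η', hη'⟩ := hηR η hηK
  have hgη : g.left η = pullback.fst Y.hom ι (gK η') := by
    show _ = (gK ≫ pullback.fst Y.hom ι) η'
    rw [hsq, ← hη']
    rfl
  -- `Y` is integral
  have hYirr : ∀ y : Y.left, g.left η ⤳ y := by
    intro y
    obtain ⟨y', hy', h0⟩ := hflatgen (Z := Y) y
    obtain ⟨w, hw'⟩ := hηR y' h0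
    obtain ⟨x, rfl⟩ := gK.surjective w
    refine Specializes.trans ?_ hy'
    rw [← hw', show pullback.fst Y.hom ι (gK x) = g.left (pullback.fst X.hom ι x) by
      show (gK ≫ pullback.fst Y.hom ι) x = _
      rw [hsq]
      rfl]
    exact ((specializes_of_eq hη).trans (genericPoint_specializes _)).map g.left.continuous
  have : IrreducibleSpace Y.left := by
    rw [irreducibleSpace_def, Set.top_eq_univ, show (Set.univ : Set Y.left) = closure {g.left η} from
      (Set.eq_univ_of_forall fun y => specializes_iff_mem_closure.1 (hYirr y)).symm]
    exact isIrreducible_singleton.closure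
  have : ∀ y : Y.left, _root_.IsReduced (Y.left.presheaf.stalk y) := fun y => by
    have := hYreg y
    have := Groth.Agent.Lib.Regular.Quotient.isDomain (Y.left.presheaf.stalk y)
    infer_instance
  have : AlgebraicGeometry.IsReduced Y.left := isReduced_of_isReduced_stalk _
  have : IsIntegral Y.left := isIntegral_of_irreducibleSpace_of_isReduced _
  have hgen : g.left η = genericPoint Y.left :=
    ((hYirr _).antisymm (genericPoint_specializes _)).eq
  have hsurj : Surjective g.left := ⟨fun y => by
    have h0 : y ∈ closure ({g.left η} : Set Y.left) := specializes_iff_mem_closure.1 (hYirr y)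
    have h1 : y ∈ closure (Set.range g.left) :=
      closure_mono (Set.singleton_subset_iff.2 (Set.mem_range_self (f := ⇑g.left) η)) h0
    rwa [g.left.isClosedMap.isClosed_range.closure_eq] at h1⟩
  have hbir : IsIso (g.left.stalkMap η) := by
    rw [ConcreteCategory.isIso_iff_bijective]
    refine ⟨?_, ?_⟩
    · intro a b hab
      have : IsField (Y.left.presheaf.stalk (g.left η)) := by
        rw [hgen]; exact (Field.toIsField Y.left.functionField)
      let _ := this.toField
      exact (g.left.stalkMap η).hom.injective hab
    · subst hη'
      set fX := pullback.fst X.hom ι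
      intro z
      have hfield : IsField (X.left.presheaf.stalk (fX η')) := by
        rw [hη]; exact Field.toIsField X.left.functionField
      have hsurjX : Function.Surjective ((pullback.fst Y.hom ι).stalkMap (gK η') ≫ gK.stalkMap η') := by
        intro t
        obtain ⟨a, ha⟩ := (ConcreteCategory.bijective_of_isIso (gK.stalkMap η')).2 t
        obtain ⟨w, hw'⟩ := (pullback.fst Y.hom ι).stalkMap_surjective (gK η') a
        exact ⟨w, (ConcreteCategory.comp_apply _ _ _).trans ((congrArg (gK.stalkMap η') hw').trans ha)⟩
      rw [← Scheme.Hom.stalkMap_comp, Scheme.Hom.stalkMap_congr_hom _ _ hsq, Scheme.Hom.stalkMap_comp] at hsurjX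
      obtain ⟨w, hw'⟩ := hsurjX (fX.stalkMap η' z)
      let _ := hfield.toField
      exact ⟨_, (fX.stalkMap η').hom.injective hw'⟩
  have : LocallyQuasiFinite g.left := LocallyQuasiFinite.of_finite_preimage_singleton g.left fun y => by
    have key : ∀ a b : X.left, g.left a = y → g.left b = y → a ⤳ b → a = b := fun a b ha hb hab => by
      subst hη
      refine Groth.Agent.Lib.ModelFibre.NoContraction.eq_of_specializes X.hom hdim.le g.left hbir hgen
        (fun x hx => ?_) (fun a b hab hgab h0 => ?_) hab (ha.trans hb.symm)
      · have := g.left.isClosedMap _ hx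
        rwa [Set.image_singleton] at this
      · obtain ⟨a', rfl⟩ := hηR a h0
        have hb0 : (X.hom b).asIdeal = ⊥ := by
          have h1 : X.hom b = X.hom (pullback.fst X.hom ι a') := by
            have e : ∀ z, X.hom z = Y.hom (g.left z) := fun z => congrArg (fun φ => φ z) hw.symm
            rw [e, e, hgab]
          rw [h1]; exact h0
        obtain ⟨b', rfl⟩ := hηR b hb0
        have h2 : pullback.fst Y.hom ι (gK a') = pullback.fst Y.hom ι (gK b') := by
          show (gK ≫ pullback.fst Y.hom ι) a' = (gK ≫ pullback.fst Y.hom ι) b'
          rw [hsq]; exact hgab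
        have : IsPreimmersion (pullback.fst Y.hom ι) := inferInstance
        rw [gK.homeomorph.injective ((pullback.fst Y.hom ι).isEmbedding.injective h2)]
    let F := g.left.fiber y
    have : LocallyOfFiniteType (g.left.fiberToSpecResidueField y) :=
      inferInstanceAs (LocallyOfFiniteType (pullback.snd g.left (Y.left.fromSpecResidueField y)))
    have : QuasiCompact (g.left.fiberToSpecResidueField y) :=
      inferInstanceAs (QuasiCompact (pullback.snd g.left (Y.left.fromSpecResidueField y)))
    have : IsLocallyNoetherian F := LocallyOfFiniteType.isLocallyNoetherian (g.left.fiberToSpecResidueField y)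
    have : CompactSpace F := (quasiCompact_iff_compactSpace _).1
      (inferInstance : QuasiCompact (g.left.fiberToSpecResidueField y))
    have : IsNoetherian F := {}
    have hpts : (Set.univ : Set F).Finite := by
      refine ((TopologicalSpace.NoetherianSpace.finite_irreducibleComponents (α := F)).biUnion
        (t := id) fun S hS => ?_).subset fun z _ => Set.mem_biUnion (irreducibleComponent_mem_irreducibleComponents z)
          (mem_irreducibleComponent (x := z))
      have hirr : IsIrreducible S := hS.1
      refine (Set.finite_singleton hirr.genericPoint).subset fun z hz => ?_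
      have hsp : hirr.genericPoint ⤳ z :=
        (hirr.isGenericPoint_genericPoint (isClosed_of_mem_irreducibleComponents S hS)).specializes hz
      have hy : ∀ w : F, g.left (g.left.fiberι y w) = y := fun w => by
        have : g.left.fiberι y w ∈ Set.range (g.left.fiberι y) := ⟨w, rfl⟩
        rwa [Scheme.Hom.range_fiberι] at this
      exact ((g.left.fiberι y).isEmbedding.injective
        (key _ _ (hy _) (hy _) (hsp.map (g.left.fiberι y).continuous))).symm
    have h := hpts.image (g.left.fiberι y)
    rwa [Set.image_univ, Scheme.Hom.range_fiberι] at h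
  have : IsOpenImmersion g.left := by
    subst hη
    exact Groth.Agent.H26.BirationalZMT.isOpenImmersion g.left hgen hbir fun y => by
      have := hYreg y
      exact Groth.Agent.Lib.Regular.UFD.isIntegrallyClosed _
  have : Epi g.left.base := (TopCat.epi_iff_surjective _).2 hsurj.surj
  have : IsIso g.left := IsOpenImmersion.isIso g.left
  have : IsIso ((Over.forget _).map g) := this
  exact isIso_of_reflects_iso g (Over.forget _)

end Groth.Agent.S3258
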