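import Groth.Statements.S3259
import Groth.Agent.Lib.Lim.LocalLimit
import Groth.Agent.Lib.Lim.SmoothEtale
import Groth.Agent.Lib.Lim.FPDescend

set_option autoImplicit false
universe u
open AlgebraicGeometry CategoryTheory CategoryTheory.Limits
open ArSurf

namespace Groth.Agent.S3259

/-- Let R be a Dedekind domain with fraction field K and C a smooth projective curve over K (smooth,
proper, of dimension 1, admitting a closed immersion into some P^n_K). Then there are a non-empty
open subscheme U of Spec R containing the generic point and a smooth proper morphism 𝒞 -> U whose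
fibre over the generic point is K-isomorphic to C. In particular C has good reduction at every
closed point of U, that is, at all but finitely many closed points. (Stated in the form the
published proof gives.) -/
theorem result {R : Type u} [CommRing R] [IsDedekindDomain R]
    (C : Over (Spec (CommRingCat.of (FractionRing R)))) [Smooth C.hom] [IsProper C.hom]
    (hdim : topologicalKrullDim C.left = 1) (hproj : Neron.IsProjectiveOver (FractionRing R) C) :
    ∃ (U : (Spec (CommRingCat.of R)).Opens) (ξ : Spec (CommRingCat.of (FractionRing R)) ⟶ (U : Scheme.{u}))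
      (𝒞 : Scheme.{u}) (π : 𝒞 ⟶ (U : Scheme.{u})),
      ξ ≫ U.ι = Neron.genPt R ∧ Smooth π ∧ IsProper π ∧
      Nonempty (Over.mk (pullback.snd π ξ) ≅ C) := by
  have hsmooth : Smooth C.hom := inferInstance
  let A : CommRingCat.{u} := CommRingCat.of R
  let p : PrimeSpectrum A := ⟨⊥, Ideal.isPrime_bot⟩
  have hM : p.asIdeal.primeCompl = nonZeroDivisors R := by
    ext x
    rw [mem_nonZeroDivisors_iff_ne_zero]
    exact not_congr (Ideal.mem_bot)
  haveI : IsLocalization p.asIdeal.primeCompl (FractionRing R) := by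
    rw [hM]; infer_instance
  let ε : Localization.AtPrime p.asIdeal ≃ₐ[R] FractionRing R :=
    IsLocalization.algEquiv p.asIdeal.primeCompl _ _
  let a : Spec (CommRingCat.of (FractionRing R)) ≅ Spec (Groth.Agent.Lib.Lim.LocalLimit.loc p) :=
    { hom := Spec.map (CommRingCat.ofHom ε.toRingEquiv.toRingHom)
      inv := Spec.map (CommRingCat.ofHom ε.symm.toRingEquiv.toRingHom)
      hom_inv_id := by
        rw [← Spec.map_comp, ← CommRingCat.ofHom_comp, show ε.toRingEquiv.toRingHom.comp ε.symm.toRingEquiv.toRingHom =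
          RingHom.id _ from RingHom.ext fun x => ε.apply_symm_apply x, CommRingCat.ofHom_id, Spec.map_id]
      inv_hom_id := by
        rw [← Spec.map_comp, ← CommRingCat.ofHom_comp, show ε.symm.toRingEquiv.toRingHom.comp ε.toRingEquiv.toRingHom =
          RingHom.id _ from RingHom.ext fun x => ε.symm_apply_apply x, CommRingCat.ofHom_id, Spec.map_id] }
  have ha : a.hom ≫ Groth.Agent.Lib.Lim.LocalLimit.toSpec p = Neron.genPt R := by
    rw [show Neron.genPt R = Spec.map (CommRingCat.ofHom (algebraMap R (FractionRing R))) from rfl,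
      ← Spec.map_comp, ← CommRingCat.ofHom_comp]
    congr 2
    exact RingHom.ext fun x => ε.commutes x
  let D := Groth.Agent.Lib.Lim.LocalLimit.diag p
  let c := Groth.Agent.Lib.Lim.LocalLimit.cone p
  have hc := Groth.Agent.Lib.Lim.LocalLimit.isLimit p
  haveI : ∀ i, IsAffine (D.obj i) := fun i => inferInstance
  haveI : ∀ i, CompactSpace (D.obj i) := fun i => inferInstance
  haveI : ∀ i, QuasiSeparatedSpace (D.obj i) := fun i => inferInstance
  haveI : ∀ {i j} (f : i ⟶ j), IsAffineHom (D.map f) := fun f => inferInstance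
  let f : C.left ⟶ c.pt := C.hom ≫ a.hom
  haveI hiso : IsIso a.hom := ⟨⟨a.inv, a.hom_inv_id, a.inv_hom_id⟩⟩
  have hsa : Smooth a.hom := inferInstance
  have hsf : Smooth f := MorphismProperty.comp_mem @Smooth _ _ hsmooth hsa
  have hpf : IsProper f := MorphismProperty.comp_mem @IsProper _ _ ‹IsProper C.hom› (inferInstance : IsProper a.hom)
  haveI : LocallyOfFinitePresentation f := inferInstance
  haveI : CompactSpace C.left := QuasiCompact.compactSpace_of_compactSpace C.hom
  haveI : QuasiSeparatedSpace C.left := quasiSeparatedSpace_of_quasiSeparated C.hom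
  obtain ⟨i, Xi, fi, g, hXc, hXq, hfi, hsq⟩ := Groth.Agent.Lib.Lim.FPDescend.exists_descent hc f
  obtain ⟨j, φ, hsm⟩ := Groth.Agent.Lib.Lim.SmoothEtale.smooth_descends D c hc (fun _ _ _ => inferInstance) i
    inferInstance inferInstance fi hXc hXq hfi f g hsq hsf
  have hsq₁ := Groth.Agent.Lib.Lim.FPDescend.move hsq φ
  set f₁ := pullback.snd fi (D.map φ)
  haveI : Smooth f₁ := hsm
  haveI := Groth.Agent.Lib.Lim.FPDescend.compactSpace_stage fi φ
  haveI := Groth.Agent.Lib.Lim.FPDescend.quasiSeparatedSpace_stage fi φ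
  obtain ⟨k, ψ, hpr⟩ := Groth.Agent.Lib.Lim.Valuative.isProper_descends D c hc (fun _ _ _ => inferInstance) j
    inferInstance inferInstance f₁ inferInstance inferInstance (inferInstance : LocallyOfFiniteType f₁)
    f _ hsq₁ hpf
  have hsq₂ := Groth.Agent.Lib.Lim.FPDescend.move hsq₁ ψ
  set f₂ := pullback.snd f₁ (D.map ψ)
  refine ⟨Groth.Agent.Lib.Lim.LocalLimit.op' p k, a.hom ≫ c.π.app k, _, f₂, ?_,
    smooth_isStableUnderBaseChange.of_isPullback (IsPullback.of_hasPullback f₁ (D.map ψ)) hsm, hpr, ?_⟩
  · refine (Category.assoc _ _ _).trans ?_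
    exact (congrArg (a.hom ≫ ·) (Groth.Agent.Lib.Lim.LocalLimit.cone_π_ι p k)).trans ha
  · obtain ⟨g₂, hsq₃⟩ : ∃ g₂, IsPullback g₂ f f₂ (c.π.app k) := ⟨_, hsq₂⟩
    have hsq' : IsPullback g₂ C.hom f₂ (a.hom ≫ c.π.app k) :=
      hsq₃.of_iso (Iso.refl _) (Iso.refl _) a.symm (Iso.refl _) (by simp)
        (show f ≫ a.inv = 𝟙 _ ≫ C.hom from ((Category.assoc _ _ _).trans (congrArg (C.hom ≫ ·) a.hom_inv_id)).trans
          ((Category.comp_id _).trans (Category.id_comp _).symm))
        (by simp) (show c.π.app k ≫ 𝟙 _ = a.inv ≫ a.hom ≫ c.π.app k from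
          (Category.comp_id _).trans (((Category.assoc _ _ _).symm.trans (congrArg (· ≫ c.π.app k) a.inv_hom_id)).trans
            (Category.id_comp _)).symm)
    exact ⟨Over.isoMk hsq'.isoPullback.symm (hsq'.isoPullback_inv_snd)⟩

end Groth.Agent.S3259
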