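import Groth.Statements.S3286
import Groth.Agent.Lib.Lambda.Split

set_option autoImplicit false
universe u
open Finset
open LambdaRing

namespace Groth.Agent.S3286

/-- In a λ-ring with positive structure having the splitting property, ψ^i (ψ^j (x)) = ψ^(i j) (x) for
all i, j and x. -/
theorem result (K : Type u) [CommRing K] [LambdaRing.LambdaOps K] (P : LambdaRing.PosStructure K) (hK : LambdaRing.HasSplitting K P) (i j : ℕ) (x : K) :
    LambdaRing.adams P i (LambdaRing.adams P j x) = LambdaRing.adams P (i * j) x := by
  open Groth.Agent.Lib.Lambda in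
  have h1 := lineLike_one_of_pos P
  rcases Nat.eq_zero_or_pos i with rfl | hi
  · rw [zero_mul, adams_zero, adams_zero]
    rcases Nat.eq_zero_or_pos j with rfl | hj
    · simp [adams_zero]
    · obtain ⟨L, f, -, hf, ⟨s, t, hs, ht, hx⟩, -⟩ := exists_split_two hK x 0
      congr 1
      rw [adams_eq_adamsOp P hj, ← hf.aug_comp (LambdaRing.adamsOp j x),
        map_adamsOp f hf.isLambdaHom, hx, adamsOp_sub, map_sub, ← hf.aug_comp x, hx, map_sub]
      have key : ∀ a : Multiset L.carrier, (∀ u ∈ a, L.posStr.IsLine u) →
          L.posStr.aug (LambdaRing.adamsOp j a.sum) = L.posStr.aug a.sum := by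
        intro a ha
        rw [adamsOp_sum_lineLike a (lineLike_of_forall_isLine ha) hj, map_multiset_sum,
          map_multiset_sum, Multiset.map_map]
        refine congrArg _ (Multiset.map_congr rfl fun u hu => ?_)
        simp [(ha u hu).2]
      rw [key s hs, key t ht]
  rcases Nat.eq_zero_or_pos j with rfl | hj
  · rw [mul_zero, adams_zero, adams_eq_adamsOp P hi]
    exact adamsOp_intCast h1 hi _
  · rw [adams_eq_adamsOp P hi, adams_eq_adamsOp P hj, adams_eq_adamsOp P (Nat.mul_pos hi hj)]
    exact adamsOp_adamsOp_of_split hK hi hj x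

end Groth.Agent.S3286
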