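import Groth.Statements.S3290
import Groth.Agent.Lib.Lambda.PosBasic

set_option autoImplicit false
universe u
open Finset
open LambdaRing

namespace Groth.Agent.S3290

/-- For a positive element e of augmentation m in a λ-ring with positive structure, the polynomials
Σ_{i=0}^{m} γ^i(e − m) t^(m−i) and Σ_{i=0}^{m} λ^i(e) (t − 1)^(m−i) are equal. -/
theorem result (K : Type u) [CommRing K] [LambdaRing.LambdaOps K] (P : LambdaRing.PosStructure K) (e : K) (he : e ∈ P.pos) :
    (∑ i ∈ range ((P.aug e).toNat + 1),
        Polynomial.C (LambdaRing.gamma i (e - ((P.aug e).toNat : K))) * Polynomial.X ^ ((P.aug e).toNat - i)) =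
      ∑ i ∈ range ((P.aug e).toNat + 1),
        Polynomial.C (LambdaRing.LambdaOps.lam i e) * (Polynomial.X - 1) ^ ((P.aug e).toNat - i) := by
  open Groth.Agent.Lib.Lambda in
  generalize hm : (P.aug e).toNat = m
  have hrank : ∀ i : ℕ, m < i → LambdaRing.LambdaOps.lam i e = 0 := fun i hi =>
    lam_eq_zero_of_toNat_lt P he i (by omega)
  ext n
  have hcoeff : ∀ j : ℕ, ((Polynomial.X - 1 : Polynomial K) ^ j).coeff n =
      (-1) ^ (j - n) * (j.choose n : K) := by
    intro j
    rw [sub_eq_add_neg, ← Polynomial.C_1, ← Polynomial.C_neg, Polynomial.coeff_X_add_C_pow]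
  simp only [Polynomial.finsetSum_coeff, Polynomial.coeff_C_mul, Polynomial.coeff_X_pow, hcoeff]
  rcases lt_or_ge m n with hn | hn
  · rw [sum_eq_zero (fun i _ => by rw [if_neg (by omega), mul_zero]),
      sum_eq_zero (fun i _ => by rw [Nat.choose_eq_zero_of_lt (by omega)]; simp)]
  · rw [sum_eq_single (m - n) (fun i hi hne => by
      rw [mem_range] at hi; rw [if_neg (by omega), mul_zero]) (fun h => by simp at h)]
    rw [if_pos (by omega), mul_one,
      gamma_sub_natCast_of_rank (lineLike_one_of_pos P) e m hrank]
    refine sum_congr rfl fun i hi => ?_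
    rw [mem_range] at hi
    split_ifs with h
    · rw [show m - n - i = m - i - n by omega, ← Nat.choose_symm (by omega : n ≤ m - i)]
      ring
    · rw [Nat.choose_eq_zero_of_lt (by omega : m - i < n)]
      simp

end Groth.Agent.S3290
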