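import Groth.Statements.S3296
import Groth.Agent.Lib.Lambda.FilEigen

set_option autoImplicit false
universe u
open Finset
open TensorProduct
open LambdaRing

namespace Groth.Agent.S3296

/-- Let K be a λ-ring with positive structure having the splitting property, whose γ-filtration
satisfies F^(d+1) K = 0. For j ≥ 2 let Ψ_j be the ℚ-linear endomorphism of ℚ ⊗ K induced by ψ^j.
Then ℚ ⊗ K is the sum of the eigenspaces of Ψ_j for the eigenvalues j^m, 0 ≤ m ≤ d, and the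
eigenspace for j^m does not depend on j. -/
theorem result (K : Type u) [CommRing K] [LambdaRing.LambdaOps K] (P : LambdaRing.PosStructure K) (hK : LambdaRing.HasSplitting K P) (d : ℕ)
    (hd : LambdaRing.gammaFiltration P (d + 1) = ⊥)
    (j l : ℕ) (hj : 2 ≤ j) (hl : 2 ≤ l)
    (Ψj Ψl : ℚ ⊗[ℤ] K →ₗ[ℚ] ℚ ⊗[ℤ] K)
    (hΨj : ∀ x : K, Ψj (1 ⊗ₜ[ℤ] x) = 1 ⊗ₜ[ℤ] LambdaRing.adams P j x)
    (hΨl : ∀ x : K, Ψl (1 ⊗ₜ[ℤ] x) = 1 ⊗ₜ[ℤ] LambdaRing.adams P l x) :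
    (⨆ m ∈ range (d + 1), Module.End.eigenspace Ψj ((j : ℚ) ^ m)) = ⊤ ∧
    ∀ m : ℕ, Module.End.eigenspace Ψj ((j : ℚ) ^ m) = Module.End.eigenspace Ψl ((l : ℚ) ^ m) := by
  open Groth.Agent.Lib.Lambda in
  have hj1 : 1 ≤ j := by omega
  have hl1 : 1 ≤ l := by omega
  refine ⟨?_, ?_⟩
  · rw [eq_top_iff]
    intro x _
    obtain ⟨y, hy1, -, hy3⟩ := exists_eigen_decomp Ψj (ratFil P) (fun n => (j : ℚ) ^ n) d
      (ratFil_eq_bot hd) (pow_natCast_injective hj) (ratFil_step hK hj1 Ψj hΨj) (d + 1) 0 (by omega) x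
      (by rw [ratFil_zero]; trivial)
    rw [hy3]
    refine Submodule.sum_mem _ fun m hm => ?_
    exact Submodule.mem_iSup_of_mem m (Submodule.mem_iSup_of_mem hm (Module.End.mem_eigenspace_iff.2 (hy1 m)))
  have hcomm : ∀ z, Ψj (Ψl z) = Ψl (Ψj z) := by
    intro z
    induction z using TensorProduct.induction_on with
    | zero => simp
    | tmul q y =>
      rw [show q ⊗ₜ[ℤ] y = q • ((1 : ℚ) ⊗ₜ[ℤ] y) by rw [TensorProduct.smul_tmul', smul_eq_mul, mul_one]]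
      simp only [map_smul, hΨj, hΨl]
      rw [adams_eq_adamsOp P hj1, adams_eq_adamsOp P hl1, adams_eq_adamsOp P hl1,
        adams_eq_adamsOp P hj1, adamsOp_adamsOp_of_split hK hj1 hl1,
        adamsOp_adamsOp_of_split hK hl1 hj1, mul_comm]
    | add a b ha hb => simp [ha, hb]
  have key : ∀ (i k : ℕ) (hi : 2 ≤ i) (hk : 1 ≤ k) (Ψi Ψk : ℚ ⊗[ℤ] K →ₗ[ℚ] ℚ ⊗[ℤ] K),
      (∀ z, Ψi (Ψk z) = Ψk (Ψi z)) →
      (∀ x : K, Ψi (1 ⊗ₜ[ℤ] x) = 1 ⊗ₜ[ℤ] LambdaRing.adams P i x) →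
      (∀ x : K, Ψk (1 ⊗ₜ[ℤ] x) = 1 ⊗ₜ[ℤ] LambdaRing.adams P k x) → ∀ m : ℕ,
      Module.End.eigenspace Ψi ((i : ℚ) ^ m) ≤ Module.End.eigenspace Ψk ((k : ℚ) ^ m) := by
    intro i k hi hk Ψi Ψk hc hΨi hΨk m x hx
    rw [Module.End.mem_eigenspace_iff] at hx ⊢
    have hi1 : 1 ≤ i := by omega
    have hxm := eigen_mem_fil Ψi (ratFil P) (fun n => (i : ℚ) ^ n) ratFil_zero (pow_natCast_injective hi)
      (ratFil_step hK hi1 Ψi hΨi) hx m le_rfl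
    refine sub_eq_zero.1 (eigen_eq_zero_of_mem_succ Ψi (ratFil P) (fun n => (i : ℚ) ^ n) d
      (ratFil_eq_bot hd) (pow_natCast_injective hi) (ratFil_step hK hi1 Ψi hΨi) ?_
      (ratFil_step hK hk Ψk hΨk m x hxm))
    rw [map_sub, map_smul, hc, hx, map_smul, smul_sub, smul_comm ((k : ℚ) ^ m)]
  exact fun m => le_antisymm (key j l hj hl1 Ψj Ψl hcomm hΨj hΨl m)
    (key l j hl hj1 Ψl Ψj (fun z => (hcomm z).symm) hΨl hΨj m)

end Groth.Agent.S3296
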