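import Groth.Statements.S3313
import Groth.Agent.Lib.ModelFibre.StalkIdeal
import Groth.Agent.Lib.ModelFibre.RegularExt
import Groth.Agent.Lib.Regular.UFD
import Groth.Agent.Lib.Regular.Quotient

set_option autoImplicit false
universe u
open CategoryTheory CategoryTheory.Limits AlgebraicGeometry
open Models

namespace Groth.Agent.S3313

/-- Let R be a discrete valuation ring with fraction field K, C a smooth proper curve over K and X a
regular model of C over R (flat, of finite type, all local rings regular, generic fibre C). Let Γ_1,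
…, Γ_n be the irreducible components of the closed fibre, each an integral curve over the residue
field closed in X, with multiplicities m_i (length of O_{X,ξ_i}/𝔪_R O_{X,ξ_i} at the generic point).
Then each Γ_i is an effective Cartier divisor on X and the ideal sheaf 𝔪_R O_X of the closed fibre
is the product of the ideal sheaves of the Γ_i raised to the powers m_i (the closed fibre is the sum
Σ m_i Γ_i of effective Cartier divisors). -/
theorem result (R : Type u) [CommRing R] [IsDomain R] [IsDiscreteValuationRing R]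
    (C X : Scheme.{u}) (f : C ⟶ Spec (CommRingCat.of (FractionRing R))) (p : X ⟶ Spec (CommRingCat.of R))
    (hC : Curve.IsSmoothProperCurve (FractionRing R) C f) (hX : Models.IsModel R X p C f)
    (hreg : Models.IsRegularScheme X)
    {n : ℕ} (Γ : Fin n → ArSurf.VertComp R (Over.mk p)) (hΓ : Models.IsComponentList R (Over.mk p) Γ) :
    (∀ i, BlowUp.IsEffCartierIdeal (Γ i).ι.ker) ∧
      Models.specialFibreIdeal R (Over.mk p) = ∏ i, (Γ i).ι.ker ^ Models.mult R (Over.mk p) (Γ i) := by
  obtain ⟨hflat, hlft, hqc, -⟩ := hX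
  have : IsLocallyNoetherian X := LocallyOfFiniteType.isLocallyNoetherian p
  have hdom : ∀ x : X, IsDomain (X.presheaf.stalk x) := fun x =>
    have := hreg x
    Groth.Agent.Lib.Regular.Quotient.isDomain _
  obtain ⟨π, hπ⟩ := IsDiscreteValuationRing.exists_irreducible R
  let g : ∀ x : X, X.presheaf.stalk x := fun x => Groth.Agent.Lib.ModelFibre.Stalk.baseHom p x π
  have hg0 : ∀ x, g x ≠ 0 := fun x h => by
    have hreg' := Groth.Agent.Lib.ModelFibre.Chart.isSMulRegular_baseHom p x (IsRegular.of_ne_zero hπ.ne_zero)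
    exact one_ne_zero (hreg' (a₁ := (1 : X.presheaf.stalk x)) (a₂ := 0) (by
      show g x • _ = g x • _
      rw [h]; simp))
  -- membership in the closed fibre
  have hmem : ∀ y : X, y ∈ Models.specialFibreSet R (Over.mk p) ↔ ¬ IsUnit (g y) := fun y => by
    rw [Groth.Agent.Lib.ModelFibre.RegularExt.isUnit_baseHom_iff,
      Groth.Agent.Lib.ModelFibre.RegularExt.basicOpen_toGlobal]
    show p y = IsLocalRing.closedPoint R ↔ ¬ (π ∉ (p y).asIdeal)
    rw [not_not]
    refine ⟨fun h => by rw [h]; exact hπ.maximalIdeal_eq.ge (Ideal.mem_span_singleton_self π), fun h => ?_⟩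
    refine PrimeSpectrum.ext (le_antisymm (IsLocalRing.le_maximalIdeal (p y).2.ne_top) ?_)
    show IsLocalRing.maximalIdeal R ≤ _
    rw [hπ.maximalIdeal_eq]
    exact (Ideal.span_singleton_le_iff_mem _).2 h
  have hfibre : ∀ (x : X) (q : PrimeSpectrum (X.presheaf.stalk x)), g x ∈ q.asIdeal →
      X.fromSpecStalk x q ∈ Models.specialFibreSet R (Over.mk p) := fun x q hq => by
    rw [hmem, Groth.Agent.Lib.ModelFibre.RegularExt.isUnit_baseHom_iff,
      Groth.Agent.Lib.ModelFibre.RegularExt.basicOpen_toGlobal]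
    show ¬ (π ∉ ((X.fromSpecStalk x ≫ p) q).asIdeal)
    rw [Groth.Agent.Lib.ModelFibre.Stalk.fromSpecStalk_comp, not_not]
    exact hq
  let ξ : Fin n → X := fun i => (Γ i).ι (genericPoint (Γ i).curve.left)
  let Z : Fin n → Set X := fun i => Set.range ((Γ i).ι.base : (Γ i).curve.left → X)
  have hmax : ∀ i, Maximal (fun S : Set X => IsIrreducible S ∧ S ⊆ Models.specialFibreSet R (Over.mk p)) (Z i) :=
    fun i => hΓ.2.le ⟨i, rfl⟩
  have hgen : ∀ i y, y ∈ Z i → ξ i ⤳ y := fun i y hy => by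
    obtain ⟨z, rfl⟩ := hy
    exact (genericPoint_specializes z).map (Γ i).ι.continuous
  have hξfib : ∀ i, ξ i ∈ Models.specialFibreSet R (Over.mk p) := fun i => (hmax i).1.2 ⟨_, rfl⟩
  have hclosedfib := Models.isClosed_specialFibreSet R (Over.mk p)
  let P : ∀ (i : Fin n) (x : X), Ideal (X.presheaf.stalk x) := fun i x =>
    Groth.Agent.Lib.Ideal.Prime.stalkIdeal (Γ i).ι.ker x
  have hsupp : ∀ i x, P i x = ⊤ ↔ x ∉ Z i := fun i x => by
    rw [Groth.Agent.Lib.ModelFibre.StalkIdeal.stalkIdeal_eq_top_iff]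
    have h : (((Γ i).ι.ker.support : TopologicalSpace.Closeds _) : Set (Over.mk p).left) = Z i := by
      rw [Scheme.Hom.support_ker]
      exact (Γ i).ι.isClosedEmbedding.isClosed_range.closure_eq
    exact not_congr (Set.ext_iff.1 h x)
  -- the prime of a component containing `x`
  have hprime : ∀ i x, x ∈ Z i → (P i x).IsPrime ∧
      ∃ q : PrimeSpectrum (X.presheaf.stalk x), X.fromSpecStalk x q = ξ i ∧ q.asIdeal = P i x ∧ g x ∈ P i x := by
    intro i x hx
    obtain ⟨h1, h2⟩ := Groth.Agent.Lib.ModelFibre.StalkIdeal.stalkIdeal_ker (Γ i).ι x (hgen i x hx)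
    obtain ⟨q, hq⟩ : ξ i ∈ Set.range (X.fromSpecStalk x) := by
      rw [Scheme.range_fromSpecStalk]; exact hgen i x hx
    refine ⟨h1, q, hq, h2 q hq, ?_⟩
    rw [show P i x = q.asIdeal from (h2 q hq).symm]
    by_contra h
    have h3 := hξfib i
    rw [← hq, hmem, Groth.Agent.Lib.ModelFibre.RegularExt.isUnit_baseHom_iff,
      Groth.Agent.Lib.ModelFibre.RegularExt.basicOpen_toGlobal] at h3
    apply h3
    show π ∉ ((X.fromSpecStalk x ≫ p) q).asIdeal
    rw [Groth.Agent.Lib.ModelFibre.Stalk.fromSpecStalk_comp]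
    exact h
  have hufd : ∀ x : X, UniqueFactorizationMonoid (X.presheaf.stalk x) := fun x =>
    have := hreg x
    Groth.Agent.Lib.Regular.UFD.uniqueFactorizationMonoid _
  have hprin : ∀ i x, x ∈ Z i → ∃ a : X.presheaf.stalk x, Prime a ∧ P i x = Ideal.span {a} := by
    intro i x hx
    obtain ⟨hP, q, hq, hqP, hgP⟩ := hprime i x hx
    have := hufd x
    obtain ⟨f, hf⟩ := UniqueFactorizationMonoid.exists_prime_factors (g x) (hg0 x)
    have hmemf : f.prod ∈ P i x := by
      obtain ⟨u, hu⟩ := hf.2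
      rw [← hu] at hgP
      exact (Ideal.mul_unit_mem_iff_mem _ u.isUnit).1 hgP
    obtain ⟨a, haf, haP⟩ := hP.multiset_prod_mem_iff_exists_mem f |>.1 hmemf
    have ha := hf.1 a haf
    refine ⟨a, ha, ?_⟩
    let q' : PrimeSpectrum (X.presheaf.stalk x) := ⟨Ideal.span {a}, (Ideal.span_singleton_prime ha.ne_zero).2 ha⟩
    have hgq : g x ∈ q'.asIdeal :=
      Ideal.mem_span_singleton.2 ((Multiset.dvd_prod haf).trans hf.2.dvd)
    set y := X.fromSpecStalk x q' with hy
    have hyξ : y ⤳ ξ i := by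
      rw [← hq]
      exact ((PrimeSpectrum.le_iff_specializes q' q).1
        (show q'.asIdeal ≤ q.asIdeal by rw [hqP]; exact (Ideal.span_singleton_le_iff_mem _).2 haP)).map
          (X.fromSpecStalk x).continuous
    have hclos : closure {y} ⊆ Models.specialFibreSet R (Over.mk p) :=
      hclosedfib.closure_subset_iff.2 (Set.singleton_subset_iff.2 (hfibre x q' hgq))
    have hsub : Z i ⊆ closure {y} := fun z hz => specializes_iff_mem_closure.1 (hyξ.trans (hgen i z hz))
    have hyZ : y ∈ Z i := (hmax i).2 ⟨isIrreducible_singleton.closure, hclos⟩ hsub (subset_closure rfl)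
    have hyeq : y = ξ i := (hyξ.antisymm (hgen i y hyZ)).eq
    have := (Groth.Agent.Lib.ModelFibre.StalkIdeal.stalkIdeal_ker (Γ i).ι x (hgen i x hx)).2 q' hyeq
    exact this.symm
  have hfactor : ∀ x (a : X.presheaf.stalk x), Prime a → a ∣ g x → ∃ j, P j x = Ideal.span {a} := by
    intro x a ha hag
    let q' : PrimeSpectrum (X.presheaf.stalk x) := ⟨Ideal.span {a}, (Ideal.span_singleton_prime ha.ne_zero).2 ha⟩
    set y := X.fromSpecStalk x q' with hy
    have hyfib := hfibre x q' (Ideal.mem_span_singleton.2 hag)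
    obtain ⟨S, hS, hyS⟩ : ∃ S, Maximal (fun S : Set X => IsIrreducible S ∧ S ⊆ Models.specialFibreSet R (Over.mk p)) S ∧ y ∈ S := by
      have h0 : IsIrreducible (closure {y}) := isIrreducible_singleton.closure
      obtain ⟨S, hS, hsub, hmaxS⟩ := zorn_subset_nonempty
        {S : Set X | IsPreirreducible S ∧ S ⊆ Models.specialFibreSet R (Over.mk p)} (fun c hc hcc _ =>
          ⟨⋃₀ c, ⟨fun u v hu hv ⟨z, hzc, hzu⟩ ⟨w, hwc, hwv⟩ => by
            obtain ⟨A, hA, hzA⟩ := Set.mem_sUnion.1 hzc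
            obtain ⟨B, hB, hwB⟩ := Set.mem_sUnion.1 hwc
            rcases hcc.total hA hB with hAB | hBA
            · obtain ⟨t, htB, ht⟩ := (hc hB).1 u v hu hv ⟨z, hAB hzA, hzu⟩ ⟨w, hwB, hwv⟩
              exact ⟨t, Set.mem_sUnion.2 ⟨B, hB, htB⟩, ht⟩
            · obtain ⟨t, htA, ht⟩ := (hc hA).1 u v hu hv ⟨z, hzA, hzu⟩ ⟨w, hBA hwB, hwv⟩
              exact ⟨t, Set.mem_sUnion.2 ⟨A, hA, htA⟩, ht⟩,
          Set.sUnion_subset fun A hA => (hc hA).2⟩, fun A hA => Set.subset_sUnion_of_mem hA⟩)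
        {y} ⟨isIrreducible_singleton.2, Set.singleton_subset_iff.2 hyfib⟩
      have hyS' : y ∈ S := hS (Set.mem_singleton y)
      exact ⟨S, ⟨⟨⟨⟨y, hyS'⟩, hsub.1⟩, hsub.2⟩, fun T hT hST => hmaxS ⟨hT.1.2, hT.2⟩ hST⟩, hyS'⟩
    obtain ⟨j, rfl⟩ := hΓ.2.ge hS
    refine ⟨j, ?_⟩
    have hyx : y ⤳ x := by
      have : y ∈ Set.range (X.fromSpecStalk x) := ⟨q', rfl⟩
      rwa [Scheme.range_fromSpecStalk] at this
    have hxZ : x ∈ Z j := hyx.mem_closed (Γ j).ι.isClosedEmbedding.isClosed_range hyS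
    obtain ⟨b, hb, hPb⟩ := hprin j x hxZ
    obtain ⟨hP, q, hq, hqP, -⟩ := hprime j x hxZ
    have hle : q ⤳ q' := by
      refine (X.fromSpecStalk x).isEmbedding.isInducing.specializes_iff.1 ?_
      rw [hq]
      exact hgen j y hyS
    have hle' : q.asIdeal ≤ q'.asIdeal := (PrimeSpectrum.le_iff_specializes q q').2 hle
    rw [hqP, hPb, Ideal.span_singleton_le_iff_mem, Ideal.mem_span_singleton] at hle'
    rw [hPb]
    exact (Ideal.span_singleton_eq_span_singleton.2 (ha.associated_of_dvd hb hle')).symm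
  have hdecomp : ∀ x, ∃ e : Fin n → ℕ, Ideal.span {g x} = ∏ i, P i x ^ e i := by
    intro x
    have := hufd x
    suffices h : ∀ a : X.presheaf.stalk x, a ≠ 0 →
        (∀ b, Prime b → b ∣ a → ∃ j, P j x = Ideal.span {b}) →
          ∃ e : Fin n → ℕ, Ideal.span {a} = ∏ i, P i x ^ e i from h _ (hg0 x) fun b hb hbg => hfactor x b hb hbg
    intro a
    induction a using UniqueFactorizationMonoid.induction_on_prime with
    | h₁ => exact fun h => absurd rfl h
    | h₂ a ha => exact fun _ _ => ⟨fun _ => 0, by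
      rw [Ideal.span_singleton_eq_top.2 ha, Finset.prod_eq_one fun i _ => pow_zero _, Ideal.one_eq_top]⟩
    | h₃ a b ha hb ih =>
      intro _ hall
      obtain ⟨e, he⟩ := ih ha fun c hc hca => hall c hc (hca.mul_left b)
      obtain ⟨j, hj⟩ := hall b hb (dvd_mul_right b a)
      refine ⟨fun i => e i + if i = j then 1 else 0, ?_⟩
      rw [← Ideal.span_singleton_mul_span_singleton, he, ← hj, mul_comm]
      simp only [pow_add, Finset.prod_mul_distrib, pow_ite, pow_one, pow_zero, Finset.prod_ite_eq',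
        Finset.mem_univ, if_true]
  have hmult : ∀ i, Ideal.span {g (ξ i)} = P i (ξ i) ^ Models.mult R (Over.mk p) (Γ i) := by
    intro i
    obtain ⟨e, he⟩ := hdecomp (ξ i)
    have htop : ∀ j, j ≠ i → P j (ξ i) = ⊤ := fun j hj => (hsupp j (ξ i)).2 fun hmemj => hj <| by
      have hsub : Z i ⊆ Z j := fun z hz =>
        (hgen i z hz).mem_closed (Γ j).ι.isClosedEmbedding.isClosed_range hmemj
      exact hΓ.1 (Set.Subset.antisymm ((hmax i).2 (hmax j).1 hsub) hsub)
    rw [Finset.prod_eq_single i (fun j _ hj => by rw [htop j hj, ← Ideal.one_eq_top, one_pow])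
      (fun h => absurd (Finset.mem_univ i) h)] at he
    suffices hlen : Models.mult R (Over.mk p) (Γ i) = e i by rw [hlen, he]
    obtain ⟨a, ha, hPa⟩ := hprin i (ξ i) ⟨_, rfl⟩
    have hamax : IsLocalRing.maximalIdeal (X.presheaf.stalk (ξ i)) = Ideal.span {a} := by
      rw [← hPa]
      exact (Groth.Agent.Lib.ModelFibre.StalkIdeal.stalkIdeal_ker (Γ i).ι (ξ i) specializes_rfl).2
        (IsLocalRing.closedPoint _) Scheme.fromSpecStalk_closedPoint
    have hord1 : Ring.ord (X.presheaf.stalk (ξ i)) a = 1 := by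
      rw [Ring.ord, Module.length_eq_one_iff, isSimpleModule_iff_isCoatom, ← hamax]
      exact Ideal.isMaximal_def.1 inferInstance
    have hmap : Ideal.map (Models.stalkHom R (Over.mk p) (Models.genPtOf R (Over.mk p) (Γ i)))
        (IsLocalRing.maximalIdeal R) = Ideal.span {a ^ e i} := by
      rw [hπ.maximalIdeal_eq, Ideal.map_span, Set.image_singleton, ← Ideal.span_singleton_pow, ← hPa]
      exact he
    show (Module.length _ _).toNat = e i
    rw [hmap]
    show (Ring.ord (X.presheaf.stalk (ξ i)) (a ^ e i)).toNat = e i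
    rw [Ring.ord_pow (mem_nonZeroDivisors_of_ne_zero ha.ne_zero), hord1, nsmul_one, ENat.toNat_coe]
  refine ⟨fun i => Groth.Agent.Lib.ModelFibre.StalkIdeal.isEffCartierIdeal hdom fun x => ?_, ?_⟩
  · by_cases hx : x ∈ Z i
    · obtain ⟨a, ha, hPa⟩ := hprin i x hx
      exact ⟨a, ha.ne_zero, hPa⟩
    · exact ⟨1, one_ne_zero, by rw [Ideal.span_singleton_one]; exact (hsupp i x).2 hx⟩
  refine Groth.Agent.Lib.ModelFibre.StalkIdeal.ext_of_stalkIdeal fun x => ?_
  refine Eq.trans (Groth.Agent.Lib.ModelFibre.StalkIdeal.stalkIdeal_comap_idealSheaf p _ x) ?_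
  rw [Groth.Agent.Lib.ModelFibre.StalkIdeal.stalkIdeal_prod, hπ.maximalIdeal_eq, Ideal.map_span,
    Set.image_singleton]
  simp only [Groth.Agent.Lib.ModelFibre.StalkIdeal.stalkIdeal_pow]
  show Ideal.span {g x} = ∏ i, P i x ^ Models.mult R (Over.mk p) (Γ i)
  obtain ⟨e, he⟩ := hdecomp x
  rw [he]
  refine Finset.prod_congr rfl fun i _ => ?_
  by_cases hx : x ∈ Z i
  swap
  · rw [(hsupp i x).2 hx, ← Ideal.one_eq_top, one_pow, one_pow]
  suffices hexp : e i = Models.mult R (Over.mk p) (Γ i) by rw [hexp]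
  -- compare exponents at the generic point of the component
  have hs := hgen i x hx
  have h1 := congrArg (Ideal.map (X.presheaf.stalkSpecializes hs).hom) he
  rw [Ideal.map_span, Set.image_singleton] at h1
  have hgs : (X.presheaf.stalkSpecializes hs).hom (g x) = g (ξ i) :=
    congrArg (fun φ => φ.hom (Coh.toGlobal p π)) (X.presheaf.germ_stalkSpecializes (U := ⊤) (hy := trivial) hs)
  rw [hgs, hmult i, ← Ideal.mapHom_apply, map_prod] at h1
  simp only [map_pow, Ideal.mapHom_apply] at h1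
  rw [Finset.prod_eq_single i (fun j _ hj => by
      rw [Groth.Agent.Lib.ModelFibre.StalkIdeal.map_stalkSpecializes]
      show P j (ξ i) ^ e j = 1
      rw [(hsupp j (ξ i)).2 (fun hmemj => hj (hΓ.1 (Set.Subset.antisymm
          ((hmax i).2 (hmax j).1 fun z hz =>
            (hgen i z hz).mem_closed (Γ j).ι.isClosedEmbedding.isClosed_range hmemj)
          fun z hz => (hgen i z hz).mem_closed (Γ j).ι.isClosedEmbedding.isClosed_range hmemj))),
        ← Ideal.one_eq_top, one_pow])
    (fun h => absurd (Finset.mem_univ i) h),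
    Groth.Agent.Lib.ModelFibre.StalkIdeal.map_stalkSpecializes] at h1
  obtain ⟨a, ha, hPa⟩ := hprin i (ξ i) ⟨_, rfl⟩
  change P i (ξ i) ^ Models.mult R (Over.mk p) (Γ i) = P i (ξ i) ^ e i at h1
  rw [hPa, Ideal.span_singleton_pow, Ideal.span_singleton_pow,
    Ideal.span_singleton_eq_span_singleton] at h1
  exact ((le_antisymm ((pow_dvd_pow_iff ha.ne_zero ha.not_unit).1 h1.dvd) ((pow_dvd_pow_iff ha.ne_zero ha.not_unit).1 h1.symm.dvd))).symm

end Groth.Agent.S3313
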