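import Groth.Statements.S3321
import Groth.Agent.Lib.ModelFibre.EulerFormula
-- import your own Groth.Agent.* helpers here

set_option autoImplicit false
universe u
open CategoryTheory CategoryTheory.Limits AlgebraicGeometry
open Models

namespace Groth.Agent.S3321

/-- In the following situation (R a discrete valuation ring with residue field k, C a smooth proper
curve over its fraction field K with H^0(C, O_C) = K, X a regular proper model, Γ_1, …, Γ_n the
irreducible components of the closed fibre with multiplicities m_i, L_i ⊗ I(Γ_i) ≅ O_X) one has g_C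
= 1 + Σ_i m_i ([κ_i : k] (g_i - 1) - (Γ_i · Γ_i) / 2), where g_C = dim_K H^1(C, O_C), κ_i = H^0(Γ_i,
O) and g_i is the genus of Γ_i, so that [κ_i : k] g_i = dim_k H^1(Γ_i, O). Stated multiplied by 2
and with [κ_i : k](g_i - 1) written as dim_k H^1(Γ_i, O) - dim_k H^0(Γ_i, O). -/
theorem result (R : Type u) [CommRing R] [IsDomain R] [IsDiscreteValuationRing R]
    (C X : Scheme.{u}) (f : C ⟶ Spec (CommRingCat.of (FractionRing R))) (p : X ⟶ Spec (CommRingCat.of R))
    (hC : Curve.IsSmoothProperCurve (FractionRing R) C f) (hH0 : IsIso f.appTop)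
    (hX : Models.IsRegularProperModel R X p C f)
    {n : ℕ} (Γ : Fin n → ArSurf.VertComp R (Over.mk p)) (hΓ : Models.IsComponentList R (Over.mk p) Γ)
    (L : Fin n → X.Modules) (hL : ∀ i, ClSub.IsInverseOf (L i) (ClSub.idealMod (Γ i).ι.ker)) :
    2 * (Models.curveGenus (FractionRing R) C f : ℤ) =
      2 + ∑ i, (Models.mult R (Over.mk p) (Γ i) : ℤ) *
        (2 * ((Models.h1 R (Over.mk p) (Γ i) : ℤ) - (Models.wdeg R (Over.mk p) (Γ i) : ℤ)) - ArSurf.inter R (Over.mk p) (L i) (Γ i)) := by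
  have hS := Groth.Agent.Lib.ModelFibre.Inter.IsSurf.of_model hC hX
  have hfib := Groth.Agent.Lib.ModelFibre.EulerFibre.chi_fibre hC hH0 hX Γ hΓ
  have h2 := Groth.Agent.Lib.ModelFibre.EulerFormula.two_chi hS Γ hΓ.1 _
    (fun j => Models.mult R (Over.mk p) (Γ j)) rfl
  unfold Groth.Agent.Lib.ModelFibre.EulerFibre.fibreIdeal at hfib
  rw [hfib] at h2
  have hz : ∀ j, (∑ k, (Models.mult R (Over.mk p) (Γ j) : ℤ) * (Models.mult R (Over.mk p) (Γ k) : ℤ) *
      Groth.Agent.Lib.ModelFibre.EulerFormula.J Γ j k) = 0 := by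
    intro j
    have h := Groth.Agent.Lib.ModelFibre.Inter.sum_mult_mul_inter hS (Γ j) Γ hΓ L hL
    calc _ = -((Models.mult R (Over.mk p) (Γ j) : ℤ) *
        ∑ k, (Models.mult R (Over.mk p) (Γ k) : ℤ) * ArSurf.inter R (Over.mk p) (L k) (Γ j)) := by
          rw [Finset.mul_sum, ← Finset.sum_neg_distrib]
          refine Finset.sum_congr rfl fun k _ => ?_
          rw [Groth.Agent.Lib.ModelFibre.EulerFormula.J_symm hS Γ hΓ.1 j k,
            Groth.Agent.Lib.ModelFibre.EulerFormula.J_eq hS Γ hL k j]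
          ring
      _ = 0 := by rw [h, mul_zero, neg_zero]
  rw [Finset.sum_eq_zero (fun j _ => hz j), add_zero] at h2
  have hterm : ∀ i, (Models.mult R (Over.mk p) (Γ i) : ℤ) *
      (2 * ((Models.h1 R (Over.mk p) (Γ i) : ℤ) - (Models.wdeg R (Over.mk p) (Γ i) : ℤ)) - ArSurf.inter R (Over.mk p) (L i) (Γ i)) =
      -((Models.mult R (Over.mk p) (Γ i) : ℤ) * (2 * Groth.Agent.Lib.ModelFibre.EulerStep.chiΓ (Γ i) -
        Groth.Agent.Lib.ModelFibre.EulerFormula.J Γ i i)) := by
    intro i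
    rw [Groth.Agent.Lib.ModelFibre.EulerFormula.J_eq hS Γ hL i i]
    simp only [Groth.Agent.Lib.ModelFibre.EulerStep.chiΓ]
    ring
  simp only [hterm, Finset.sum_neg_distrib]
  omega

end Groth.Agent.S3321
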