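import Groth.Statements.S3322
import Groth.Agent.S2431
import Groth.Agent.S3321
import Groth.Agent.Lib.ModelFibre.ConnFibre
import Groth.Agent.Lib.ModelFibre.ConstDiv
-- import your own Groth.Agent.* helpers here

set_option autoImplicit false
universe u
open CategoryTheory CategoryTheory.Limits AlgebraicGeometry
open Models

namespace Groth.Agent.S3322
open Groth.Agent.Lib.ModelFibre

/-- In the following situation (R a discrete valuation ring with residue field k, C a smooth proper
curve over its fraction field K with H^0(C, O_C) = K, X a regular proper model, Γ_1, …, Γ_n the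
irreducible components of the closed fibre with multiplicities m_i, L_i ⊗ I(Γ_i) ≅ O_X) the data n,
m_i, a_ij = (Γ_i · Γ_j) = deg_k(L_j|Γ_i), w_i = dim_k H^0(Γ_i, O) and g_i with w_i g_i = dim_k
H^1(Γ_i, O) is a numerical type (n > 0, m_i > 0, (a_ij) symmetric with non-negative off-diagonal
entries, connected, killing m, w_i | a_ij, g_i ≥ 0), and its genus is the genus dim_K H^1(C, O_C) of
C. -/
theorem result (R : Type u) [CommRing R] [IsDomain R] [IsDiscreteValuationRing R]
    (C X : Scheme.{u}) (f : C ⟶ Spec (CommRingCat.of (FractionRing R))) (p : X ⟶ Spec (CommRingCat.of R))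
    (hC : Curve.IsSmoothProperCurve (FractionRing R) C f) (hH0 : IsIso f.appTop)
    (hX : Models.IsRegularProperModel R X p C f)
    {n : ℕ} (Γ : Fin n → ArSurf.VertComp R (Over.mk p)) (hΓ : Models.IsComponentList R (Over.mk p) Γ)
    (L : Fin n → X.Modules) (hL : ∀ i, ClSub.IsInverseOf (L i) (ClSub.idealMod (Γ i).ι.ker)) :
    ∃ T : Models.NumericalType n,
      (∀ i, T.m i = (Models.mult R (Over.mk p) (Γ i) : ℤ)) ∧ (∀ i j, T.a i j = ArSurf.inter R (Over.mk p) (L j) (Γ i)) ∧
      (∀ i, T.w i = (Models.wdeg R (Over.mk p) (Γ i) : ℤ)) ∧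
      (∀ i, T.w i * T.g i = (Models.h1 R (Over.mk p) (Γ i) : ℤ)) ∧
      T.genus = (Models.curveGenus (FractionRing R) C f : ℤ) := by
  have hS := Inter.IsSurf.of_model hC hX
  have hinv := fun j => Groth.Agent.Lib.ClSub.Cartier.isInvertible_idealMod (Inter.isEffCartier hS (Γ j))
  have hw : ∀ i, (0 : ℤ) < (Models.wdeg R (Over.mk p) (Γ i) : ℤ) := fun i =>
    Int.natCast_pos.mpr (ConstDiv.wdeg_pos hS (Γ i))
  have hgen := Groth.Agent.S3321.result R C X f p hC hH0 hX Γ hΓ L hL
  have hn : 0 < n := by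
    obtain ⟨⟨-, -, -, g, hg⟩, hp, -⟩ := hX
    haveI := hp
    haveI := hC.2.2.1
    obtain ⟨y, hy⟩ := GlobalFun.exists_special p f g hg
    obtain ⟨i, -⟩ := ConnFibre.mem_component Γ hΓ (x := y) hy
    exact i.pos
  refine ⟨{
      m := fun i => (Models.mult R (Over.mk p) (Γ i) : ℤ)
      a := fun i j => ArSurf.inter R (Over.mk p) (L j) (Γ i)
      w := fun i => (Models.wdeg R (Over.mk p) (Γ i) : ℤ)
      g := fun i => ((Models.h1 R (Over.mk p) (Γ i) / Models.wdeg R (Over.mk p) (Γ i) : ℕ) : ℤ)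
      pos := hn
      m_pos := fun i => Int.natCast_pos.mpr (InterForm.mult_pos hS (Γ i))
      w_pos := hw
      g_nonneg := fun i => Int.natCast_nonneg _
      symm := ?_
      offDiag_nonneg := ?_
      connected := ?_
      mulVec_m := ?_
      w_dvd := fun i j => ConstDiv.wdeg_dvd_inter hS (Γ i) (L j) },
    fun _ => rfl, fun _ _ => rfl, fun _ => rfl, ?_, ?_⟩
  · refine Matrix.IsSymm.ext fun i j => ?_
    by_cases h : i = j
    · rw [h]
    · exact Inter.inter_symm hS (fun e => h (hΓ.1 e).symm) (hL j) (hL i)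
  · intro i j h
    exact (Inter.inter_nonneg hS (Γ i) (Inter.isEffCartier hS (Γ j))
      (Inter.genPt_not_mem hS _ _ fun e => h (hΓ.1 e)) (hL j)).1
  · intro I hI hI'
    exact ConnFibre.inter_connected @Groth.Agent.S2431.result hC hH0 hX Γ hΓ L hL I hI hI'
  · funext i
    simp only [Matrix.mulVec, dotProduct, Pi.zero_apply]
    rw [← Inter.sum_mult_mul_inter hS (Γ i) Γ hΓ L hL]
    exact Finset.sum_congr rfl fun j _ => mul_comm _ _
  · intro i
    show (Models.wdeg R (Over.mk p) (Γ i) : ℤ) * _ = _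
    rw [← Nat.cast_mul, Nat.mul_div_cancel' (ConstDiv.wdeg_dvd_h1 hS (Γ i))]
  · have hwg : ∀ i, (Models.wdeg R (Over.mk p) (Γ i) : ℤ) *
        ((Models.h1 R (Over.mk p) (Γ i) / Models.wdeg R (Over.mk p) (Γ i) : ℕ) : ℤ) =
          (Models.h1 R (Over.mk p) (Γ i) : ℤ) := fun i => by
      rw [← Nat.cast_mul, Nat.mul_div_cancel' (ConstDiv.wdeg_dvd_h1 hS (Γ i))]
    unfold Models.NumericalType.genus
    simp only [mul_assoc, mul_sub, hwg, mul_one, Finset.sum_sub_distrib]
    simp only [mul_sub, mul_left_comm _ (2 : ℤ), Finset.sum_sub_distrib, ← Finset.mul_sum] at hgen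
    omega

end Groth.Agent.S3322
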