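import Groth.Statements.S3323
import Groth.Agent.S2431
import Groth.Agent.Lib.ModelFibre.DivisorChain
import Groth.Agent.Lib.ModelFibre.ConnFibre
-- import your own Groth.Agent.* helpers here

set_option autoImplicit false
universe u
open CategoryTheory CategoryTheory.Limits AlgebraicGeometry
open Models

namespace Groth.Agent.S3323
open Groth.Agent.Lib.ModelFibre

/-- In the following situation (R a discrete valuation ring with residue field k, C a smooth proper
curve over its fraction field K with H^0(C, O_C) = K, X a regular proper model, Γ_1, …, Γ_n the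
irreducible components of the closed fibre with multiplicities m_i) let d = gcd(m_1, …, m_n) and let
D be the effective Cartier divisor Σ (m_i/d) Γ_i. Then there is a chain of effective Cartier
divisors Σ Γ_i = Z_0 ⊂ Z_1 ⊂ ⋯ ⊂ Z_s = D, each obtained from the previous one by adding a single
Γ_i, such that for every j the ring H^0(Z_j, O_{Z_j}) is a field, finite over R (equivalently over
k). Divisors are written through their ideal sheaves Π I(Γ_i)^{a_i}. -/
theorem result (R : Type u) [CommRing R] [IsDomain R] [IsDiscreteValuationRing R]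
    (C X : Scheme.{u}) (f : C ⟶ Spec (CommRingCat.of (FractionRing R))) (p : X ⟶ Spec (CommRingCat.of R))
    (hC : Curve.IsSmoothProperCurve (FractionRing R) C f) (hH0 : IsIso f.appTop)
    (hX : Models.IsRegularProperModel R X p C f)
    {n : ℕ} (Γ : Fin n → ArSurf.VertComp R (Over.mk p)) (hΓ : Models.IsComponentList R (Over.mk p) Γ) :
    ∃ (s : ℕ) (a : Fin (s + 1) → Fin n → ℕ), (a 0 = fun _ => 1) ∧
      (a (Fin.last s) = fun i => Models.mult R (Over.mk p) (Γ i) / Models.multGcd R (Over.mk p) Γ) ∧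
      (∀ j : Fin s, ∃ i, a j.succ = a j.castSucc + Pi.single i 1) ∧
      ∀ j, IsField ↑(Γ((∏ i, (Γ i).ι.ker ^ a j i).subscheme, ⊤)) ∧
        (((∏ i, (Γ i).ι.ker ^ a j i).subschemeι ≫ p).appTop.hom.comp
          (Scheme.ΓSpecIso (CommRingCat.of R)).inv.hom).Finite := by
  have hS := Inter.IsSurf.of_model hC hX
  have hcov : ∀ x ∈ Models.specialFibreSet R (Over.mk p), ∃ i, x ∈ Set.range ((Γ i).ι.base : (Γ i).curve.left → X) :=
    fun x hx => ConnFibre.mem_component Γ hΓ x hx
  have hconn := ConnFibre.isPreconnected_specialFibreSet @Groth.Agent.S2431.result hC hH0 hX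
  have hn : 0 < n := by
    obtain ⟨⟨-, -, -, g, hg⟩, hp, -⟩ := hX
    haveI := hp
    haveI := hC.2.2.1
    obtain ⟨y, hy⟩ := GlobalFun.exists_special p f g hg
    obtain ⟨i, -⟩ := hcov y hy
    exact i.pos
  let d := Models.multGcd R (Over.mk p) Γ
  let a₀ : Fin n → ℕ := fun i => Models.mult R (Over.mk p) (Γ i) / d
  have hdvd : ∀ i, d ∣ Models.mult R (Over.mk p) (Γ i) := fun i => Finset.gcd_dvd (Finset.mem_univ i)
  have hmul : ∀ i, Models.mult R (Over.mk p) (Γ i) = d * a₀ i := fun i => (Nat.mul_div_cancel' (hdvd i)).symm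
  have hpos : ∀ i, 0 < a₀ i := fun i => Nat.pos_of_ne_zero fun h => by
    have := InterForm.mult_pos hS (Γ i)
    rw [hmul i, h] at this
    simp at this
  have hgcd : Finset.univ.gcd a₀ = 1 := by
    have hne : Models.mult R (Over.mk p) (Γ ⟨0, hn⟩) ≠ 0 := (InterForm.mult_pos hS (Γ ⟨0, hn⟩)).ne'
    have h := Finset.gcd_div_eq_one (f := fun i => Models.mult R (Over.mk p) (Γ i)) (s := Finset.univ)
      (i := (⟨0, hn⟩ : Fin n)) (Finset.mem_univ _) hne
    exact h
  obtain ⟨L, hL⟩ := EulerFormula.exists_inverses hS Γ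
  have hD := DivisorField.climb_fibre hS Γ hΓ hcov hconn L hL hmul hgcd
  have hedge := DivisorField.edge_fibre hS Γ hΓ hcov hconn L hL
  obtain ⟨s, a, h0, hlast, hstep, hall⟩ := DivisorChain.exists_chain hS Γ hΓ.1 L hL hD hn _
    (fun _ => 1) hpos (fun _ => one_pos) (DivisorField.climb_one hS Γ hΓ.1 L hL hedge) rfl
  refine ⟨s, a, h0, hlast, hstep, fun j => ⟨?_, ?_⟩⟩
  · exact DivisorField.isField_of hS Γ hΓ.1 L hL hedge hn (hall j).1 (hall j).2
  · exact DivisorChain.finite_ringHom hS Γ (a j)

end Groth.Agent.S3323
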