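import Groth.Statements.S3324
import Groth.Agent.S2431
import Groth.Agent.Lib.ModelFibre.DivisorField
import Groth.Agent.Lib.ModelFibre.ConnFibre
-- import your own Groth.Agent.* helpers here

set_option autoImplicit false
universe u
open CategoryTheory CategoryTheory.Limits AlgebraicGeometry
open Models

namespace Groth.Agent.S3324
open Groth.Agent.Lib.ModelFibre

/-- In the following situation (R a discrete valuation ring with residue field k, C a smooth proper
curve over its fraction field K with H^0(C, O_C) = K, X a regular proper model, Γ_1, …, Γ_n the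
irreducible components of the closed fibre with multiplicities m_i) let d = gcd(m_1, …, m_n) and let
D be the closed subscheme Σ (m_i/d) Γ_i, with ideal sheaf Π I(Γ_i)^{m_i/d}. Then κ = H^0(D, O_D) is
a field and 1 - g_C = d [κ : k] (1 - g_D), where g_C = dim_K H^1(C, O_C) and g_D = dim_κ H^1(D,
O_D). Here the right hand side is written as d (dim_k H^0(D, O_D) - dim_k H^1(D, O_D)), the
k-dimensions being computed as R-lengths of the cohomology groups of O_D on X. -/
theorem result (R : Type u) [CommRing R] [IsDomain R] [IsDiscreteValuationRing R]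
    (C X : Scheme.{u}) (f : C ⟶ Spec (CommRingCat.of (FractionRing R))) (p : X ⟶ Spec (CommRingCat.of R))
    (hC : Curve.IsSmoothProperCurve (FractionRing R) C f) (hH0 : IsIso f.appTop)
    (hX : Models.IsRegularProperModel R X p C f)
    {n : ℕ} (Γ : Fin n → ArSurf.VertComp R (Over.mk p)) (hΓ : Models.IsComponentList R (Over.mk p) Γ) :
    IsField ↑(Γ((∏ i, (Γ i).ι.ker ^ (Models.mult R (Over.mk p) (Γ i) / Models.multGcd R (Over.mk p) Γ)).subscheme, ⊤)) ∧
      (1 : ℤ) - (Models.curveGenus (FractionRing R) C f : ℤ) =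
        (Models.multGcd R (Over.mk p) Γ : ℤ) * ((Models.lengthH R (Over.mk p) (ClSub.quotMod (∏ i, (Γ i).ι.ker ^ (Models.mult R (Over.mk p) (Γ i) / Models.multGcd R (Over.mk p) Γ))) 0 : ℤ) -
          (Models.lengthH R (Over.mk p) (ClSub.quotMod (∏ i, (Γ i).ι.ker ^ (Models.mult R (Over.mk p) (Γ i) / Models.multGcd R (Over.mk p) Γ))) 1 : ℤ)) := by
  have hS := Inter.IsSurf.of_model hC hX
  have hcov : ∀ x ∈ Models.specialFibreSet R (Over.mk p), ∃ i, x ∈ Set.range ((Γ i).ι.base : (Γ i).curve.left → X) :=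
    fun x hx => ConnFibre.mem_component Γ hΓ x hx
  have hconn := ConnFibre.isPreconnected_specialFibreSet @Groth.Agent.S2431.result hC hH0 hX
  have hn : 0 < n := by
    obtain ⟨⟨-, -, -, g, hg⟩, hp, -⟩ := hX
    haveI := hp
    haveI := hC.2.2.1
    obtain ⟨y, hy⟩ := GlobalFun.exists_special p f g hg
    obtain ⟨i, -⟩ := hcov y hy
    exact i.pos
  let d := Models.multGcd R (Over.mk p) Γ
  let a₀ : Fin n → ℕ := fun i => Models.mult R (Over.mk p) (Γ i) / d
  have hdvd : ∀ i, d ∣ Models.mult R (Over.mk p) (Γ i) := fun i => Finset.gcd_dvd (Finset.mem_univ i)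
  have hmul : ∀ i, Models.mult R (Over.mk p) (Γ i) = d * a₀ i := fun i => (Nat.mul_div_cancel' (hdvd i)).symm
  have hpos : ∀ i, 0 < a₀ i := fun i => Nat.pos_of_ne_zero fun h => by
    have := InterForm.mult_pos hS (Γ i)
    rw [hmul i, h] at this
    simp at this
  have hgcd : Finset.univ.gcd a₀ = 1 := by
    have hne : Models.mult R (Over.mk p) (Γ ⟨0, hn⟩) ≠ 0 := (InterForm.mult_pos hS (Γ ⟨0, hn⟩)).ne'
    have h := Finset.gcd_div_eq_one (f := fun i => Models.mult R (Over.mk p) (Γ i)) (s := Finset.univ)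
      (i := (⟨0, hn⟩ : Fin n)) (Finset.mem_univ _) hne
    exact h
  refine ⟨DivisorField.isField hS Γ hΓ hcov hconn hn hpos ⟨d, hmul⟩ hgcd, ?_⟩
  have hfib := EulerFibre.chi_fibre hC hH0 hX Γ hΓ
  unfold EulerFibre.fibreIdeal at hfib
  obtain ⟨L, hL⟩ := EulerFormula.exists_inverses hS Γ
  have h1 := EulerFormula.two_chi hS Γ hΓ.1 _ (fun j => Models.mult R (Over.mk p) (Γ j)) rfl
  have h2 := EulerFormula.two_chi hS Γ hΓ.1 _ a₀ rfl
  have hrow : ∀ j, (Models.mult R (Over.mk p) (Γ j) : ℤ) *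
      ∑ k, (Models.mult R (Over.mk p) (Γ k) : ℤ) * EulerFormula.J Γ j k = 0 := fun j => by
    have h := Inter.sum_mult_mul_inter hS (Γ j) Γ hΓ L hL
    have : ∑ k, (Models.mult R (Over.mk p) (Γ k) : ℤ) * EulerFormula.J Γ j k =
        -∑ k, (Models.mult R (Over.mk p) (Γ k) : ℤ) * ArSurf.inter R (Over.mk p) (L k) (Γ j) := by
      rw [← Finset.sum_neg_distrib]
      refine Finset.sum_congr rfl fun k _ => ?_
      rw [EulerFormula.J_symm hS Γ hΓ.1 j k, EulerFormula.J_eq hS Γ hL k j]
      ring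
    rw [this, h]; simp
  have hq1 : ∑ j, ∑ k, (Models.mult R (Over.mk p) (Γ j) : ℤ) * (Models.mult R (Over.mk p) (Γ k) : ℤ) *
      EulerFormula.J Γ j k = 0 := by
    refine Finset.sum_eq_zero fun j _ => ?_
    simp only [mul_assoc, ← Finset.mul_sum]
    exact hrow j
  rw [hq1, add_zero, hfib] at h1
  have hd0 : (d : ℤ) ≠ 0 := fun h => by
    have := InterForm.mult_pos hS (Γ ⟨0, hn⟩)
    rw [hmul, Int.natCast_eq_zero.mp h] at this
    simp at this
  have hq2 : ∑ j, ∑ k, (a₀ j : ℤ) * (a₀ k : ℤ) * EulerFormula.J Γ j k = 0 := by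
    refine mul_left_cancel₀ (mul_ne_zero hd0 hd0) ?_
    rw [mul_zero, ← hq1, Finset.mul_sum]
    refine Finset.sum_congr rfl fun j _ => ?_
    rw [Finset.mul_sum]
    refine Finset.sum_congr rfl fun k _ => ?_
    rw [hmul j, hmul k]
    push_cast
    ring
  rw [hq2, add_zero] at h2
  have hlin : ∑ j, (Models.mult R (Over.mk p) (Γ j) : ℤ) * (2 * EulerStep.chiΓ (Γ j) - EulerFormula.J Γ j j) =
      (d : ℤ) * ∑ j, (a₀ j : ℤ) * (2 * EulerStep.chiΓ (Γ j) - EulerFormula.J Γ j j) := by
    rw [Finset.mul_sum]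
    refine Finset.sum_congr rfl fun j _ => ?_
    rw [hmul j]
    push_cast
    ring
  rw [hlin, ← h2] at h1
  show (1 : ℤ) - _ = (d : ℤ) * LenEuler.chi R (Over.mk p) (ClSub.quotMod (∏ i, (Γ i).ι.ker ^ a₀ i))
  linarith

end Groth.Agent.S3324
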