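import Groth.Statements.S3327
import Groth.Agent.S2431
import Groth.Agent.Lib.ModelFibre.PointMeet
import Groth.Agent.Lib.ModelFibre.EulerFibre
import Groth.Agent.Lib.ModelFibre.InterConn
import Groth.Agent.Lib.ModelFibre.EulerFormula
import Groth.Agent.Lib.ModelFibre.ConnFibre
-- import your own Groth.Agent.* helpers here

set_option autoImplicit false
universe u
open CategoryTheory CategoryTheory.Limits AlgebraicGeometry
open Models

namespace Groth.Agent.S3327
open Groth.Agent.Lib.ModelFibre Groth.Agent.Lib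

/-- In the following situation (R a discrete valuation ring with residue field k, C a smooth proper
curve over its fraction field K with H^0(C, O_C) = K, X a regular proper model, Γ_1, …, Γ_n the
irreducible components of the closed fibre with multiplicities m_l), suppose Γ_i and Γ_j (i ≠ j) are
exceptional curves of the first kind which meet. Then n = 2, all multiplicities are 1, every
component is k-isomorphic to the projective line over k, Γ_i and Γ_j meet in a single point x with
residue field k, scheme-theoretically (I(Γ_i) + I(Γ_j) is the ideal of the reduced point x), and C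
has genus zero. -/
theorem result (R : Type u) [CommRing R] [IsDomain R] [IsDiscreteValuationRing R]
    (C X : Scheme.{u}) (f : C ⟶ Spec (CommRingCat.of (FractionRing R))) (p : X ⟶ Spec (CommRingCat.of R))
    (hC : Curve.IsSmoothProperCurve (FractionRing R) C f) (hH0 : IsIso f.appTop)
    (hX : Models.IsRegularProperModel R X p C f)
    {n : ℕ} (Γ : Fin n → ArSurf.VertComp R (Over.mk p)) (hΓ : Models.IsComponentList R (Over.mk p) Γ)
    (i j : Fin n) (hij : i ≠ j) (hi : Models.IsExcCurve (Γ i).ι) (hj : Models.IsExcCurve (Γ j).ι)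
    (hmeet : ¬ Disjoint (Set.range ((Γ i).ι.base : (Γ i).curve.left → X))
      (Set.range ((Γ j).ι.base : (Γ j).curve.left → X))) :
    n = 2 ∧ (∀ l, Models.mult R (Over.mk p) (Γ l) = 1) ∧
      (∀ l, ∃ e : (Γ l).curve.left ≅ CohB1.ProjSpace 1 (IsLocalRing.ResidueField R),
        e.hom ≫ CohB1.ProjSpace.toSpec 1 (IsLocalRing.ResidueField R) = (Γ l).curve.hom) ∧
      (∃ x : X, Set.range ((Γ i).ι.base : (Γ i).curve.left → X) ∩ Set.range ((Γ j).ι.base : (Γ j).curve.left → X) = {x} ∧
        (Γ i).ι.ker ⊔ (Γ j).ι.ker =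
          Scheme.IdealSheafData.vanishingIdeal ⟨closure {x}, isClosed_closure⟩ ∧
        Function.Surjective ((X.residue x).hom.comp (Models.stalkHom R (Over.mk p) x))) ∧
      Models.curveGenus (FractionRing R) C f = 0 := by
  classical
  have hS := Inter.IsSurf.of_model hC hX
  have hcov : ∀ x ∈ Models.specialFibreSet R (Over.mk p), ∃ l, x ∈ Set.range ((Γ l).ι.base : (Γ l).curve.left → X) :=
    fun x hx => ConnFibre.mem_component Γ hΓ x hx
  have hconn := ConnFibre.isPreconnected_specialFibreSet @Groth.Agent.S2431.result hC hH0 hX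
  obtain ⟨L, hL⟩ := EulerFormula.exists_inverses hS Γ
  obtain ⟨hi1, hi2⟩ := P1Curve.h1_zero_and_selfInter_of_exc hS (Γ i) (hL i) hi
  obtain ⟨hj1, hj2⟩ := P1Curve.h1_zero_and_selfInter_of_exc hS (Γ j) (hL j) hj
  have hne : Set.range ((Γ i).ι.base : (Γ i).curve.left → X) ≠ Set.range (Γ j).ι.base := fun e => hij (hΓ.1 e)
  have hsymm := Inter.inter_symm hS hne (hL i) (hL j)
  set I := ArSurf.inter R (Over.mk p) (L j) (Γ i) with hIdef
  have hIpos : 0 < I := by
    obtain ⟨h0, h1⟩ := Inter.inter_nonneg hS (Γ i) (Inter.isEffCartier hS (Γ j))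
      (Inter.genPt_not_mem hS (Γ i) (Γ j) hne) (hL j)
    refine lt_of_le_of_ne h0 fun h => hmeet ?_
    have := h1.mp h.symm
    rwa [Scheme.Hom.support_ker,
      (Γ j).ι.isClosedEmbedding.isClosed_range.closure_eq] at this
  have hwi : (Models.wdeg R (Over.mk p) (Γ i) : ℤ) ≤ I :=
    Int.le_of_dvd hIpos (ConstDiv.wdeg_dvd_inter hS (Γ i) (L j))
  have hwj : (Models.wdeg R (Over.mk p) (Γ j) : ℤ) ≤ I := by
    rw [hsymm] at hIpos ⊢
    exact Int.le_of_dvd hIpos (ConstDiv.wdeg_dvd_inter hS (Γ j) (L i))
  -- the form on `Γ i + Γ j`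
  let B : Fin n → ℤ := fun l => if l = i ∨ l = j then 1 else 0
  have hBsum : ∀ g : Fin n → ℤ, ∑ l, B l * g l = g i + g j := fun g => by
    rw [← Finset.sum_pair (f := g) hij, ← Finset.sum_subset (Finset.subset_univ {i, j})
      (f := fun l => B l * g l)]
    · refine Finset.sum_congr rfl fun l hl => ?_
      simp only [B]
      rw [if_pos (by simpa using hl), one_mul]
    · intro l _ hl
      simp only [B]
      rw [if_neg (by simpa using hl), zero_mul]
  have hqeq : ∑ a, ∑ b, B a * B b * ArSurf.inter R (Over.mk p) (L b) (Γ a) =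
      2 * I - Models.wdeg R (Over.mk p) (Γ i) - Models.wdeg R (Over.mk p) (Γ j) := by
    simp only [mul_assoc, ← Finset.mul_sum]
    rw [hBsum, hBsum, hBsum, hi2, hj2, ← hsymm]
    ring
  have hnp := InterForm.form_nonpos hS Γ L hL B
  rw [hqeq] at hnp
  have hnull : ∑ a, ∑ b, B a * B b * ArSurf.inter R (Over.mk p) (L b) (Γ a) = 0 := by
    rw [hqeq]; omega
  obtain ⟨c, hc⟩ := (InterConn.null_iff hS Γ hΓ hcov hconn L hL B).1.mp hnull
  have hc0 : c ≠ 0 := fun h => by
    have := hc i
    simp [B, h] at this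
  have hall : ∀ l, l = i ∨ l = j := fun l => by
    by_contra h
    have hl := hc l
    simp only [B, if_neg h, Int.cast_zero] at hl
    exact mul_ne_zero hc0 (Nat.cast_ne_zero.mpr (InterForm.mult_pos hS (Γ l)).ne') hl.symm
  have huniv : (Finset.univ : Finset (Fin n)) = {i, j} :=
    (Finset.eq_univ_of_forall fun l => by simpa using hall l).symm
  have hn : n = 2 := by
    have := congrArg Finset.card huniv
    rwa [Finset.card_univ, Fintype.card_fin, Finset.card_pair hij] at this
  have hm : Models.mult R (Over.mk p) (Γ i) = Models.mult R (Over.mk p) (Γ j) := by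
    have h1 := hc i
    have h2 := hc j
    simp only [B, true_or, or_true, if_true, Int.cast_one] at h1 h2
    exact_mod_cast mul_left_cancel₀ hc0 (h1.symm.trans h2)
  -- the genus formula
  have hfib := EulerFibre.chi_fibre hC hH0 hX Γ hΓ
  unfold EulerFibre.fibreIdeal at hfib
  have h1 := EulerFormula.two_chi hS Γ hΓ.1 _ (fun l => Models.mult R (Over.mk p) (Γ l)) rfl
  rw [hfib] at h1
  simp only [huniv, Finset.sum_pair hij, EulerFormula.J_eq hS Γ hL, hi2, hj2, hm, EulerStep.chiΓ,
    hi1, hj1, ← hsymm, ← hIdef, Nat.cast_zero, sub_zero] at h1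
  set m := Models.mult R (Over.mk p) (Γ j) with hmdef
  have hwij : (Models.wdeg R (Over.mk p) (Γ i) : ℤ) = I ∧ (Models.wdeg R (Over.mk p) (Γ j) : ℤ) = I := by
    omega
  rw [hwij.1, hwij.2] at h1
  have hkey : 1 - (Models.curveGenus (FractionRing R) C f : ℤ) = (m : ℤ) * I := by linarith
  have hmpos : 0 < m := InterForm.mult_pos hS (Γ j)
  have hle : (m : ℤ) * I ≤ 1 := by
    have := Int.natCast_nonneg (Models.curveGenus (FractionRing R) C f)
    omega
  have hm1 : (m : ℤ) = 1 := le_antisymm (by nlinarith) (by exact_mod_cast hmpos)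
  have hI1 : I = 1 := by rw [hm1, one_mul] at hle; omega
  rw [hm1, hI1] at hkey
  have hw : ∀ l, Models.wdeg R (Over.mk p) (Γ l) = 1 ∧ Models.h1 R (Over.mk p) (Γ l) = 0 ∧
      ArSurf.inter R (Over.mk p) (L l) (Γ l) = -1 := fun l => by
    rcases hall l with rfl | rfl
    · exact ⟨by omega, hi1, by omega⟩
    · exact ⟨by omega, hj1, by omega⟩
  refine ⟨hn, fun l => ?_, fun l => ?_, PointMeet.meet_point hS hne (hL j) hI1, by omega⟩
  · rcases hall l with rfl | rfl
    · rw [hm]; exact_mod_cast hm1
    · exact_mod_cast hm1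
  · obtain ⟨hw1, hh1, hself⟩ := hw l
    haveI : IsProper ((Γ l).curve.left ↘ Spec (CommRingCat.of (IsLocalRing.ResidueField R))) :=
      Inter.isProper_curve hS (Γ l)
    have hP := ClSub.Cartier.isInvertible_idealMod (Inter.isEffCartier hS (Γ l))
    have hM : PicF.IsInvertible ((Scheme.Modules.pullback (Γ l).ι).obj (_root_.ClSub.idealMod (Γ l).ι.ker)) :=
      PicLoc.isInvertible_pullback (Γ l).ι hP
    rw [Inter.inter_of_isInverseOf hS (Γ l) hP (hL l), Inter.inter_eq hS (Γ l)] at hself
    have hd : Curv2.deg (IsLocalRing.ResidueField R) (Γ l).curve.left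
        ((Scheme.Modules.pullback (Γ l).ι).obj (_root_.ClSub.idealMod (Γ l).ι.ker)) 1 = 1 := by linarith
    refine Curves.DegreeOne.exists_iso_line (k := IsLocalRing.ResidueField R) (Γ l).dim_eq hM hd ?_
    have e := hd
    rw [Curves.Degree.deg_eq,
      Curves.Euler.euler_eq (Curves.Degree.isGood (k := IsLocalRing.ResidueField R) (Γ l).dim_eq.le hM).vanish,
      Curves.Euler.euler_eq
        (Curves.Degree.isGood_structureModule (k := IsLocalRing.ResidueField R) (Γ l).dim_eq.le).vanish] at e
    unfold Models.wdeg at hw1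
    unfold Models.h1 at hh1
    simp only [Curves.Euler.hdim, hw1, hh1] at e ⊢
    omega

end Groth.Agent.S3327
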