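import Groth.Statements.S3338
import Groth.Agent.Lib.ModelFibre.SmoothModel
import Groth.Agent.S4991
import Groth.Agent.Lib.Regular.Serre

set_option autoImplicit false
universe u
open CategoryTheory CategoryTheory.Limits AlgebraicGeometry
open Models

namespace Groth.Agent.S3338

/-- The step (1) implies (2) as proved there: let R be a discrete valuation ring with fraction field K,
C a smooth proper curve over K with H^0(C, O_C) = K, and X a proper smooth model of C over R. Then X
is a minimal model (regular, proper, with no exceptional curve of the first kind in its closed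
fibre). -/
theorem result (R : Type u) [CommRing R] [IsDomain R] [IsDiscreteValuationRing R]
    (C X : Scheme.{u}) (f : C ⟶ Spec (CommRingCat.of (FractionRing R))) (p : X ⟶ Spec (CommRingCat.of R))
    (hC : Curve.IsSmoothProperCurve (FractionRing R) C f) (hH0 : IsIso f.appTop)
    (hX : Models.IsModel R X p C f) [IsProper p] [Smooth p] :
    Models.IsMinimalModel R X p C f := by
  obtain ⟨hflat, hlft, hqc, g, hg⟩ := hX
  obtain ⟨hCp, hCs, hCint, hdim⟩ := hC
  have := Groth.Agent.Lib.ModelFibre.SmoothModel.isIntegral p f g hg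
  have : IsLocallyNoetherian X := LocallyOfFiniteType.isLocallyNoetherian p
  refine ⟨⟨⟨hflat, hlft, hqc, g, hg⟩, inferInstance, fun x => ?_⟩, fun Γ hΓ => ?_⟩
  · refine (Groth.Agent.S4991.result p x ⟨⊤, trivial, inferInstance⟩).2 ?_
    let y : PrimeSpectrum R := p.base x
    exact Groth.Agent.Lib.Regular.Serre.isRegularLocalRing_of_isLocalization (R := R) y.asIdeal
      ((Spec.structureSheaf R).presheaf.stalk y)
  · obtain ⟨-, k, hk, e, ⟨i⟩⟩ := hΓ
    obtain ⟨t⟩ := Groth.Agent.Lib.ModelFibre.SmoothModel.pullback_idealMod_vertComp p f g hg hdim.le Γ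
    exact Groth.Agent.Lib.ModelFibre.SmoothModel.twist_one_not_iso_unit k
      ⟨i.symm ≪≫ ((Scheme.Modules.pullbackComp e.hom Γ.ι).app (ClSub.idealMod Γ.ι.ker)).symm ≪≫
        (Scheme.Modules.pullback e.hom).mapIso t ≪≫ PicLoc.pullbackStructureIso e.hom⟩

end Groth.Agent.S3338
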