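import Groth.Statements.S3340
import Groth.Agent.S2431
import Groth.Agent.Lib.ModelFibre.VertDeg
import Groth.Agent.Lib.ModelFibre.ConnFibre
-- import your own Groth.Agent.* helpers here

set_option autoImplicit false
universe u
open CategoryTheory CategoryTheory.Limits AlgebraicGeometry
open Models

namespace Groth.Agent.S3340
open Groth.Agent.Lib.ModelFibre

/-- In the following situation (R a discrete valuation ring, C a smooth proper curve over its fraction
field K with H^0(C, O_C) = K, X a regular proper model with generic-fibre inclusion g, Γ_1, …, Γ_n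
the irreducible components of the closed fibre with multiplicities m_i) let d = gcd(m_1, …, m_n). If
M is an invertible O_X-module whose pullback to C is trivial and whose degree on each Γ_i is zero,
then the d-th tensor power of M is trivial. -/
theorem result (R : Type u) [CommRing R] [IsDomain R] [IsDiscreteValuationRing R]
    (C X : Scheme.{u}) (f : C ⟶ Spec (CommRingCat.of (FractionRing R))) (p : X ⟶ Spec (CommRingCat.of R))
    (hC : Curve.IsSmoothProperCurve (FractionRing R) C f) (hH0 : IsIso f.appTop)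
    (hX : Models.IsRegularProperModel R X p C f)
    {n : ℕ} (Γ : Fin n → ArSurf.VertComp R (Over.mk p)) (hΓ : Models.IsComponentList R (Over.mk p) Γ)
    (g : C ⟶ X) (hg : IsPullback g f p (Spec.map (CommRingCat.ofHom (algebraMap R (FractionRing R))))) (M : X.Modules) (hM : PicF.IsInvertible M)
    (htriv : Nonempty ((Scheme.Modules.pullback g).obj M ≅ Coh.structureModule C))
    (hdeg : ∀ i, ArSurf.inter R (Over.mk p) M (Γ i) = 0) :
    Nonempty (CohB1.tensorPow M (Models.multGcd R (Over.mk p) Γ) ≅ Coh.structureModule X) := by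
  have hS := Inter.IsSurf.of_model hC hX
  have hcov : ∀ x ∈ Models.specialFibreSet R (Over.mk p), ∃ i, x ∈ Set.range ((Γ i).ι.base : (Γ i).curve.left → X) :=
    fun x hx => ConnFibre.mem_component Γ hΓ x hx
  have hconn := ConnFibre.isPreconnected_specialFibreSet @Groth.Agent.S2431.result hC hH0 hX
  obtain ⟨L, hL⟩ : ∃ L : Fin n → X.Modules, ∀ j, ClSub.IsInverseOf (L j) (ClSub.idealMod (Γ j).ι.ker) := by
    choose L _ hL using fun j => Groth.Agent.Lib.TensorMod.Invertible.exists_inverse (VertPic.isInvertible_ker hS Γ j)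
    exact ⟨L, fun j => (hL j).map fun e => Groth.Agent.Lib.TensorMod.Basic.comm _ _ ≪≫ e⟩
  haveI := hC.2.2.1
  obtain ⟨b, hb⟩ := VertExt.exists_eq_φ hS Γ hΓ hg hM htriv
  have hrow : ∀ i, ∑ j, (b j : ℤ) * ArSurf.inter R (Over.mk p) (L j) (Γ i) = 0 := fun i => by
    rw [← VertDeg.degCl_φ hS Γ L hL (Γ i), ← hb, VertDeg.degCl_cls hS]
    exact hdeg i
  obtain ⟨c, hc⟩ := (InterConn.null_iff hS Γ hΓ hcov hconn L hL fun i => (b i : ℤ)).2.mp hrow
  simp only [Int.cast_natCast] at hc
  let d := Models.multGcd R (Over.mk p) Γ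
  let q : ℚ := c * (d : ℚ)
  have hdvd : ∀ i, d ∣ Models.mult R (Over.mk p) (Γ i) := fun i => Finset.gcd_dvd (Finset.mem_univ i)
  -- `d b_i = q m_i` with `q` an integer
  have hq : ∀ i, (d : ℚ) * (b i : ℚ) = q * (Models.mult R (Over.mk p) (Γ i) : ℚ) := fun i => by
    rw [hc i]; simp only [q]; ring
  have hden : ∀ i, (q.den : ℤ) ∣ (Models.mult R (Over.mk p) (Γ i) / d : ℕ) := fun i => by
    obtain ⟨k, hk⟩ := hdvd i
    have hd0 : d ≠ 0 := fun h => by
      have := InterForm.mult_pos hS (Γ i)
      rw [hk, h] at this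
      simp at this
    rw [hk, Nat.mul_div_cancel_left _ (Nat.pos_of_ne_zero hd0)]
    have h1 : (b i : ℤ) * q.den = q.num * k := by
      have h := hq i
      rw [hk, ← Rat.num_div_den q] at h
      push_cast at h
      have hd0' : (d : ℚ) ≠ 0 := Nat.cast_ne_zero.mpr hd0
      field_simp at h
      exact_mod_cast h
    exact Int.dvd_of_dvd_mul_right_of_gcd_one ⟨b i, by rw [← h1, mul_comm]⟩
      (by simpa [Int.gcd, Nat.Coprime] using q.reduced.symm)
  have hn : ∀ i : Fin n, q.den = 1 := fun i₀ => by
    refine Nat.dvd_one.mp ?_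
    rw [← Finset.gcd_div_eq_one (f := fun i => Models.mult R (Over.mk p) (Γ i)) (s := Finset.univ)
      (i := i₀) (Finset.mem_univ _) (InterForm.mult_pos hS (Γ i₀)).ne']
    exact Finset.dvd_gcd fun i _ => Int.natCast_dvd_natCast.mp (hden i)
  rw [VertPic.nonempty_tensorPow_iso hM, hb, ← VertPic.φ_nsmul]
  have hmul : ((d : ℤ) • fun i => (b i : ℤ)) = q.num • fun i => (Models.mult R (Over.mk p) (Γ i) : ℤ) := by
    funext i
    simp only [Pi.smul_apply, smul_eq_mul]
    have h := hq i
    rw [← Rat.num_div_den q, hn i, Nat.cast_one, div_one] at h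
    exact_mod_cast h
  rw [hmul, VertPic.φ_zsmul, VertStalk.φ_mult hS Γ hΓ]
  letI := Groth.Agent.Lib.TensorMod.Invertible.law X
  exact one_zpow _

end Groth.Agent.S3340
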