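import Groth.Statements.S3341
import Groth.Agent.Lib.ModelFibre.VertTors

set_option autoImplicit false
universe u
open CategoryTheory CategoryTheory.Limits AlgebraicGeometry
open Models

namespace Groth.Agent.S3341

noncomputable local instance picLawInst (Y : Scheme.{u}) : PicGrp.Law Y :=
  Groth.Agent.Lib.TensorMod.Invertible.law Y

open Groth.Agent.Lib.ModelFibre


/-- In the following situation (R a discrete valuation ring, C a smooth proper curve over its fraction
field K with H^0(C, O_C) = K, X a regular proper model with generic-fibre inclusion g, Γ_1, …, Γ_n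
the irreducible components of the closed fibre with multiplicities m_i) let d = gcd(m_1, …, m_n) and
let h ≥ 1 be prime to d. If M is an invertible O_X-module with M^{⊗h} ≅ O_X whose pullback to C is
trivial, then M ≅ O_X: the map Pic(X)[h] → Pic(C)[h] is injective. -/
theorem result (R : Type u) [CommRing R] [IsDomain R] [IsDiscreteValuationRing R]
    (C X : Scheme.{u}) (f : C ⟶ Spec (CommRingCat.of (FractionRing R))) (p : X ⟶ Spec (CommRingCat.of R))
    (hC : Curve.IsSmoothProperCurve (FractionRing R) C f) (hH0 : IsIso f.appTop)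
    (hX : Models.IsRegularProperModel R X p C f)
    {n : ℕ} (Γ : Fin n → ArSurf.VertComp R (Over.mk p)) (hΓ : Models.IsComponentList R (Over.mk p) Γ)
    (g : C ⟶ X) (hg : IsPullback g f p (Spec.map (CommRingCat.ofHom (algebraMap R (FractionRing R))))) (h : ℕ) (hh : 0 < h) (hcop : Nat.Coprime h (Models.multGcd R (Over.mk p) Γ))
    (M : X.Modules) (hM : PicF.IsInvertible M)
    (htors : Nonempty (CohB1.tensorPow M h ≅ Coh.structureModule X))
    (htriv : Nonempty ((Scheme.Modules.pullback g).obj M ≅ Coh.structureModule C)) :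
    Nonempty (M ≅ Coh.structureModule X) := by
  have hS := Inter.IsSurf.of_model hC hX
  choose L hLi hL using fun i =>
    Groth.Agent.Lib.TensorMod.Invertible.exists_inverse (VertPic.isInvertible_ker hS Γ i)
  have hL' : ∀ i, _root_.ClSub.IsInverseOf (L i) (_root_.ClSub.idealMod (Γ i).ι.ker) := fun i =>
    ⟨Groth.Agent.Lib.TensorMod.Basic.comm _ _ ≪≫ (hL i).some⟩
  obtain ⟨k, ⟨hk, ⟨i⟩⟩, -⟩ := VertTors.existsUnique_torsion hC hH0 hX Γ hΓ hg L hL' h hh M hM htors htriv
  have hk0 : k = 0 := by
    rw [Nat.Coprime.gcd_eq_one hcop] at hk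
    omega
  rw [← PicGrp.cls_eq_cls_iff hM (PicLoc.isInvertible_structureModule X),
    PicGrp.cls_structureModule_eq_one,
    (PicGrp.cls_eq_cls_iff hM (VertPic.isInvertible_multiTwist hS Γ L hL' _)).2 ⟨i⟩,
    VertPic.cls_multiTwist hS Γ L hL']
  subst hk0
  refine (congrArg _ (funext fun i => ?_)).trans (VertPic.φ_zero hS Γ)
  simp

end Groth.Agent.S3341
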