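import Groth.Statements.S3344
import Groth.Agent.S2431
import Groth.Agent.Lib.ModelFibre.RatPoint
import Groth.Agent.Lib.ModelFibre.DivisorField
import Groth.Agent.Lib.ModelFibre.ConnFibre
-- import your own Groth.Agent.* helpers here

set_option autoImplicit false
universe u
open CategoryTheory CategoryTheory.Limits AlgebraicGeometry
open Models

namespace Groth.Agent.S3344
open Groth.Agent.Lib.ModelFibre
open Groth.Agent.Lib.Ideal.Prime (stalkIdeal)

/-- In the following situation (R a discrete valuation ring with residue field k, C a smooth proper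
curve over its fraction field K with H^0(C, O_C) = K, X a regular proper model, Γ_1, …, Γ_n the
irreducible components of the closed fibre X_k with multiplicities m_i) assume C has a K-rational
point. Then (1) some closed point x of X on the closed fibre has residue field k (R → κ(x)
surjective) and the local ring of X_k at x, namely O_{X,x}/𝔪_R O_{X,x}, is regular (x is a smooth
point of X_k over k); (2) the component Γ_i through x has H^0(Γ_i, O) = k and m_i = 1; (3) H^0(X_k,
O_{X_k}) = k and dim_k H^1(X_k, O_{X_k}) = dim_K H^1(C, O_C) (k-dimensions as R-lengths of the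
cohomology of O_{X_k} on X). -/
theorem result (R : Type u) [CommRing R] [IsDomain R] [IsDiscreteValuationRing R]
    (C X : Scheme.{u}) (f : C ⟶ Spec (CommRingCat.of (FractionRing R))) (p : X ⟶ Spec (CommRingCat.of R))
    (hC : Curve.IsSmoothProperCurve (FractionRing R) C f) (hH0 : IsIso f.appTop)
    (hX : Models.IsRegularProperModel R X p C f)
    {n : ℕ} (Γ : Fin n → ArSurf.VertComp R (Over.mk p)) (hΓ : Models.IsComponentList R (Over.mk p) Γ)
    (s : Spec (CommRingCat.of (FractionRing R)) ⟶ C) (hs : s ≫ f = 𝟙 _) :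
    (∃ (i : Fin n) (x : X), x ∈ Set.range ((Γ i).ι.base : (Γ i).curve.left → X) ∧ IsClosed ({x} : Set X) ∧
        Function.Surjective ((X.residue x).hom.comp (Models.stalkHom R (Over.mk p) x)) ∧
        IsRegularLocalRing (X.presheaf.stalk x ⧸
          Ideal.map (Models.stalkHom R (Over.mk p) x) (IsLocalRing.maximalIdeal R)) ∧
        Models.wdeg R (Over.mk p) (Γ i) = 1 ∧ Models.mult R (Over.mk p) (Γ i) = 1) ∧
      Models.lengthH R (Over.mk p) (ClSub.quotMod (Models.specialFibreIdeal R (Over.mk p))) 0 = 1 ∧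
      Models.lengthH R (Over.mk p) (ClSub.quotMod (Models.specialFibreIdeal R (Over.mk p))) 1 =
        Models.curveGenus (FractionRing R) C f := by
  classical
  have hS := Inter.IsSurf.of_model hC hX
  haveI : IsProper p := hX.2.1
  obtain ⟨g, hg⟩ := hX.1.2.2.2
  have hcov : ∀ x ∈ Models.specialFibreSet R (Over.mk p), ∃ i, x ∈ Set.range ((Γ i).ι.base : (Γ i).curve.left → X) :=
    fun x hx => ConnFibre.mem_component Γ hΓ x hx
  have hconn := ConnFibre.isPreconnected_specialFibreSet @Groth.Agent.S2431.result hC hH0 hX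
  obtain ⟨π, hπ⟩ := IsDiscreteValuationRing.exists_irreducible R
  obtain ⟨x, ρ, hcl, hpx, hρ, hret⟩ := RatPoint.exists_point p g hg.w s hs
  have hb : ∀ r, ρ (Stalk.baseHom p x r) = r := fun r => RingHom.congr_fun hret r
  haveI := hρ
  -- the residue field is `k`
  have hres : ∀ a : X.presheaf.stalk x, ∃ r : R, a - Stalk.baseHom p x r ∈ IsLocalRing.maximalIdeal _ := fun a =>
    ⟨ρ a, fun hu => not_isUnit_zero (M₀ := R) (by simpa [hb] using hu.map ρ)⟩
  have hsurj : Function.Surjective ((X.residue x).hom.comp (Models.stalkHom R (Over.mk p) x)) := fun b => by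
    obtain ⟨a, rfl⟩ : ∃ a, X.residue x a = b := IsLocalRing.residue_surjective b
    obtain ⟨r, hr⟩ := hres a
    refine ⟨r, ?_⟩
    show IsLocalRing.residue (X.presheaf.stalk x) (Stalk.baseHom p x r) = IsLocalRing.residue (X.presheaf.stalk x) a
    exact (sub_eq_zero.mp (by rw [← map_sub]; exact (IsLocalRing.residue_eq_zero_iff _).mpr hr)).symm
  have hπm : Stalk.baseHom p x π ∈ IsLocalRing.maximalIdeal (X.presheaf.stalk x) := fun hu =>
    hπ.not_isUnit (by simpa [hb] using hu.map ρ)
  have hπm2 : Stalk.baseHom p x π ∉ IsLocalRing.maximalIdeal (X.presheaf.stalk x) ^ 2 := fun h2 => by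
    have h := Ideal.mem_map_of_mem ρ h2
    rw [hb, Ideal.map_pow] at h
    have hle : (IsLocalRing.maximalIdeal (X.presheaf.stalk x)).map ρ ≤ Ideal.span {π} := by
      rw [← hπ.maximalIdeal_eq]
      exact ((IsLocalRing.local_hom_TFAE ρ).out 0 2).mp hρ
    replace h := Ideal.pow_right_mono hle 2 h
    rw [Ideal.span_singleton_pow, Ideal.mem_span_singleton'] at h
    obtain ⟨c, hc⟩ := h
    refine hπ.not_isUnit (IsUnit.of_mul_eq_one c (mul_left_cancel₀ hπ.ne_zero ?_))
    linear_combination hc
  have hregq : IsRegularLocalRing (X.presheaf.stalk x ⧸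
      Ideal.map (Models.stalkHom R (Over.mk p) x) (IsLocalRing.maximalIdeal R)) := by
    have e : Ideal.map (Models.stalkHom R (Over.mk p) x) (IsLocalRing.maximalIdeal R) =
        Ideal.span {Stalk.baseHom p x π} := by
      rw [hπ.maximalIdeal_eq, Ideal.map_span, Set.image_singleton]; rfl
    rw [e]
    haveI : IsRegularLocalRing (X.presheaf.stalk x) := hS.reg x
    exact Groth.Agent.Lib.Regular.DirectLimit.quotient_regular hπm hπm2
  obtain ⟨i, hi⟩ := hcov x hpx
  have hm : Models.mult R (Over.mk p) (Γ i) = 1 := by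
    have hpos := InterForm.mult_pos hS (Γ i)
    by_contra hne
    obtain ⟨e, he⟩ : ∃ e, Models.mult R (Over.mk p) (Γ i) = e + 2 := ⟨_, (Nat.sub_add_cancel (by omega)).symm⟩
    have hst := EulerFibre.stalk_fibreIdeal hS Γ hΓ hπ x
    have hle : EulerFibre.fibreIdeal Γ ≤ (Γ i).ι.ker ^ (2 : ℕ) := by
      have := DivisorField.div_mono Γ (a := fun j => if j = i then 2 else 0)
        (b := fun j => Models.mult R (Over.mk p) (Γ j)) fun j => by
          by_cases hj : j = i
          · subst hj; simp [he]
          · simp [hj]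
      simpa [DivisorField.div, pow_ite, Finset.prod_ite_eq', ← Scheme.IdealSheafData.one_eq_top,
        EulerFibre.fibreIdeal] using this
    have h1 := Groth.Agent.Lib.SurfInt.Seq.stalkIdeal_mono hle x (hst.ge (Ideal.mem_span_singleton_self _))
    rw [StalkIdeal.stalkIdeal_pow] at h1
    refine hπm2 (Ideal.pow_right_mono (IsLocalRing.le_maximalIdeal ?_) 2 h1)
    intro htop
    refine (StalkIdeal.stalkIdeal_eq_top_iff _ x).mp htop ?_
    rw [← SetLike.mem_coe, Scheme.Hom.support_ker]
    exact subset_closure hi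
  -- constants of the component
  have hw : Models.wdeg R (Over.mk p) (Γ i) = 1 := by
    obtain ⟨z, rfl⟩ := hi
    haveI : IsProper ((Γ i).curve.left ↘ Spec (CommRingCat.of (IsLocalRing.ResidueField R))) :=
      Inter.isProper_curve hS (Γ i)
    have hF := isField_of_universallyClosed (IsLocalRing.ResidueField R)
      ((Γ i).curve.left ↘ Spec (CommRingCat.of (IsLocalRing.ResidueField R)))
    obtain ⟨hφ, -⟩ := RatPoint.surjective_of_point (Γ i).ι p hF z hres hpx
    letI := Groth.Agent.Lib.Curves.GlobalSections.secModule (IsLocalRing.ResidueField R)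
      (Coh.structureModule (Γ i).curve.left)
    refine ((Groth.Agent.Lib.Curves.GlobalSections.h0Linear (IsLocalRing.ResidueField R)
      (Coh.structureModule (Γ i).curve.left)).finrank_eq).trans ?_
    refine finrank_eq_one (show ((Coh.structureModule (Γ i).curve.left).val.obj (Opposite.op ⊤) : Type u) from
      (1 : Γ((Γ i).curve.left, ⊤))) ?_ fun w => ?_
    · haveI : Nontrivial Γ((Γ i).curve.left, ⊤) := ⟨hF.exists_pair_ne⟩
      intro h
      exact one_ne_zero (α := Γ((Γ i).curve.left, ⊤)) h
    · obtain ⟨r, hr⟩ := hφ w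
      refine ⟨IsLocalRing.residue R r, ?_⟩
      show (show Γ((Γ i).curve.left, ⊤) from Coh.toGlobal (Γ i).curve.hom (IsLocalRing.residue R r)) * (1 : Γ((Γ i).curve.left, ⊤)) = w
      rw [mul_one, ← hr]
      show _ = Coh.toGlobal ((Γ i).ι ≫ (Over.mk p).hom) r
      rw [(Γ i).w]
      exact congrArg (Γ i).curve.hom.appTop
        (congr($(Scheme.ΓSpecIso_inv_naturality (CommRingCat.ofHom (IsLocalRing.residue R))) r))
  refine ⟨⟨i, x, hi, hcl, hsurj, hregq, hw, hm⟩, ?_⟩
  -- the closed fibre
  have hI : Models.specialFibreIdeal R (Over.mk p) = EulerFibre.fibreIdeal Γ :=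
    StalkIdeal.ext_of_stalkIdeal fun y => by
      rw [EulerFibre.stalk_fibreIdeal hS Γ hΓ hπ y, Models.specialFibreIdeal,
        StalkIdeal.stalkIdeal_comap_idealSheaf, hπ.maximalIdeal_eq, Ideal.map_span, Set.image_singleton]
  have hgcd : Finset.univ.gcd (fun j => Models.mult R (Over.mk p) (Γ j)) = 1 :=
    Nat.dvd_one.mp ((Finset.gcd_dvd (Finset.mem_univ i)).trans hm.dvd)
  set a₀ := fun j => Models.mult R (Over.mk p) (Γ j)
  have hfld := DivisorField.isField hS Γ hΓ hcov hconn i.pos (a₀ := a₀)
    (fun j => InterForm.mult_pos hS (Γ j)) ⟨1, fun j => (one_mul _).symm⟩ hgcd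
  set D := DivisorField.div Γ a₀
  have hxD : x ∈ (D.support : Set (Over.mk p).left) := by
    by_contra h
    have h1 := EulerFibre.stalk_fibreIdeal hS Γ hΓ hπ x
    rw [show EulerFibre.fibreIdeal Γ = D from rfl, (StalkIdeal.stalkIdeal_eq_top_iff D x).mpr h] at h1
    exact hπm (Ideal.span_singleton_eq_top.mp h1.symm)
  obtain ⟨z, hz⟩ : x ∈ Set.range D.subschemeι := by rw [D.range_subschemeι]; exact hxD
  subst hz
  obtain ⟨hφ, hker⟩ := RatPoint.surjective_of_point D.subschemeι p hfld z hres hpx
  have h0 : Models.lengthH R (Over.mk p) (ClSub.quotMod D) 0 = 1 := by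
    letI := Groth.Agent.Lib.Curves.GlobalSections.secModule R (ClSub.quotMod D)
    let φ : R →ₗ[R] ((ClSub.quotMod D).val.obj (Opposite.op ⊤) : Type u) :=
      { toFun := fun r => (Coh.toGlobal (D.subschemeι ≫ p) r : Γ(D.subscheme, ⊤))
        map_add' := fun a b => map_add (Coh.toGlobal (D.subschemeι ≫ p)) a b
        map_smul' := fun a b => map_mul (Coh.toGlobal (D.subschemeι ≫ p)) a b }
    have h1 := RatPoint.length_eq_one φ hφ hker (by
      haveI : Nontrivial (Coh.Γtop D.subscheme) := ⟨hfld.exists_pair_ne⟩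
      show Coh.toGlobal (D.subschemeι ≫ p) 1 ≠ 0
      rw [map_one]; exact one_ne_zero)
    show (Module.length R (Coh.HH (Over.mk p).left (ClSub.quotMod D) 0)).toNat = 1
    rw [(Groth.Agent.Lib.Curves.GlobalSections.h0Linear R (ClSub.quotMod D)).length_eq, h1]
    rfl
  have hchi := EulerFibre.chi_fibre hC hH0 hX Γ hΓ
  rw [LenEuler.chi, show EulerFibre.fibreIdeal Γ = D from rfl, h0] at hchi
  rw [hI, show EulerFibre.fibreIdeal Γ = D from rfl]
  refine ⟨h0, ?_⟩
  omega

end Groth.Agent.S3344
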