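import Groth.Statements.S3347
import Groth.Agent.Lib.ModelFibre.P1Curve
import Groth.Agent.Lib.ModelFibre.InterForm
-- import your own Groth.Agent.* helpers here

set_option autoImplicit false
universe u
open CategoryTheory CategoryTheory.Limits AlgebraicGeometry
open Models

namespace Groth.Agent.S3347
open Groth.Agent.Lib.ModelFibre

/-- In the following situation (R a discrete valuation ring with residue field k, C a smooth proper
curve over its fraction field K with H^0(C, O_C) = K, X a regular proper model, Γ_1, …, Γ_n the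
irreducible components of the closed fibre, L_i ⊗ I(Γ_i) ≅ O_X) the following are equivalent: X is a
minimal model (no vertical prime divisor of X is an exceptional curve of the first kind); the
numerical type of X is minimal, i.e. there is no index i with g_i = 0 (H^1(Γ_i, O) = 0) and (Γ_i ·
Γ_i) = deg_k(L_i|Γ_i) = -[κ_i : k] = -dim_k H^0(Γ_i, O). -/
theorem result (R : Type u) [CommRing R] [IsDomain R] [IsDiscreteValuationRing R]
    (C X : Scheme.{u}) (f : C ⟶ Spec (CommRingCat.of (FractionRing R))) (p : X ⟶ Spec (CommRingCat.of R))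
    (hC : Curve.IsSmoothProperCurve (FractionRing R) C f) (hH0 : IsIso f.appTop)
    (hX : Models.IsRegularProperModel R X p C f)
    {n : ℕ} (Γ : Fin n → ArSurf.VertComp R (Over.mk p)) (hΓ : Models.IsComponentList R (Over.mk p) Γ)
    (L : Fin n → X.Modules) (hL : ∀ i, ClSub.IsInverseOf (L i) (ClSub.idealMod (Γ i).ι.ker)) :
    Models.IsMinimalModel R X p C f ↔
      ∀ i, ¬ (Models.h1 R (Over.mk p) (Γ i) = 0 ∧ ArSurf.inter R (Over.mk p) (L i) (Γ i) = -(Models.wdeg R (Over.mk p) (Γ i) : ℤ)) := by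
  have hS := Inter.IsSurf.of_model hC hX
  refine ⟨fun hmin i h => hmin.2 (Γ i) (P1Curve.exc_of_h1_zero_and_selfInter hS (Γ i) (hL i) h.1 h.2),
    fun h => ⟨hX, fun Δ hΔ => ?_⟩⟩
  have hmem := Inter.range_mem hS Δ
  rw [← hΓ.2] at hmem
  obtain ⟨i, hi⟩ := hmem
  have hker : (Γ i).ι.ker = Δ.ι.ker := InterForm.ker_eq_of_range_eq hS hi
  refine h i (P1Curve.h1_zero_and_selfInter_of_exc hS (Γ i) (hL i) ?_)
  obtain ⟨hcart, K, _, e, ⟨eT⟩⟩ := hΔ
  let φ : Δ.curve.left ≅ (Γ i).curve.left :=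
    { hom := IsClosedImmersion.lift (Γ i).ι Δ.ι hker.le
      inv := IsClosedImmersion.lift Δ.ι (Γ i).ι hker.ge
      hom_inv_id := by rw [← cancel_mono Δ.ι]; simp
      inv_hom_id := by rw [← cancel_mono (Γ i).ι]; simp }
  have hφ : φ.hom ≫ (Γ i).ι = Δ.ι := IsClosedImmersion.lift_fac _ _ _
  refine ⟨hker ▸ hcart, K, inferInstance, e ≪≫ φ, ⟨?_⟩⟩
  have h1 : (e ≪≫ φ).hom ≫ (Γ i).ι = e.hom ≫ Δ.ι := by rw [Iso.trans_hom, Category.assoc, hφ]
  exact (Scheme.Modules.pullbackCongr h1).app _ ≪≫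
    (Scheme.Modules.pullback (e.hom ≫ Δ.ι)).mapIso (eqToIso (by rw [hker])) ≪≫ eT

end Groth.Agent.S3347
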