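import Groth.Statements.S3350
import Groth.Agent.Lib.NumType.Proper

set_option autoImplicit false
open Finset
open Models Models.NumericalType

namespace Groth.Agent.S3350

/-- Classification of proper subgraphs with two vertices: Let T be a numerical type on n > 2 indices and
i ≠ j two (-2)-indices (g = 0 and a_ii = -2 w_i, a_jj = -2 w_j) with a_ij > 0. Then, after possibly
exchanging i and j, one of the following holds with w = w_i: (A2) w_j = w, a_ij = w, 2 m_i ≥ m_j and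
2 m_j ≥ m_i; (B2) w_j = 2w, a_ij = 2w, m_i ≥ m_j and 2 m_j ≥ m_i; (G2) w_j = 3w, a_ij = 3w, 2 m_i ≥
3 m_j and 2 m_j ≥ m_i. -/
theorem result {n : ℕ} (T : Models.NumericalType n) (hn : 2 < n) (i j : Fin n)
    (hij : i ≠ j) (hi : T.IsMinusTwo i) (hj : T.IsMinusTwo j) (hpos : 0 < T.a i j) :
    ∃ i' j' : Fin n, ((i' = i ∧ j' = j) ∨ (i' = j ∧ j' = i)) ∧
      ((T.w j' = T.w i' ∧ T.a i' j' = T.w i' ∧ T.m j' ≤ 2 * T.m i' ∧ T.m i' ≤ 2 * T.m j') ∨
        (T.w j' = 2 * T.w i' ∧ T.a i' j' = 2 * T.w i' ∧ T.m j' ≤ T.m i' ∧ T.m i' ≤ 2 * T.m j') ∨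
        (T.w j' = 3 * T.w i' ∧ T.a i' j' = 3 * T.w i' ∧ 3 * T.m j' ≤ 2 * T.m i' ∧ T.m i' ≤ 2 * T.m j')) := by
  open Groth.Agent.Lib.NumType Groth.Agent.Lib.NumType.Proper Groth.Agent.Lib.NumType.Paths in
  have r : ∀ x y, x ≠ y → T.IsMinusTwo x → T.a x y * T.m y ≤ 2 * T.w x * T.m x := fun x y hxy hx => by
    simpa using row_le hx {y} (by simpa using hxy)
  have ri := r i j hij hi
  have rj := r j i hij.symm hj
  rw [Basic.a_comm T j i] at rj
  have wi := T.w_pos i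
  have wj := T.w_pos j
  rcases edge_cases hn hij hi hj hpos with ⟨e, e'⟩ | ⟨p, rfl | rfl, ⟨e, e'⟩ | ⟨e, e'⟩⟩
  · exact ⟨i, j, .inl ⟨rfl, rfl⟩, .inl ⟨by linarith, e, by rw [e] at ri; nlinarith,
      by rw [e'] at rj; nlinarith⟩⟩
  · exact ⟨i, j, .inl ⟨rfl, rfl⟩, .inr (.inl ⟨by linarith, e, by rw [e] at ri; nlinarith,
      by rw [e'] at rj; nlinarith⟩)⟩
  · exact ⟨j, i, .inr ⟨rfl, rfl⟩, .inr (.inl ⟨by linarith, by rw [Basic.a_comm T j i]; exact e',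
      by rw [e'] at rj; nlinarith, by rw [e] at ri; nlinarith⟩)⟩
  · exact ⟨i, j, .inl ⟨rfl, rfl⟩, .inr (.inr ⟨by linarith, e, by rw [e] at ri; nlinarith,
      by rw [e'] at rj; nlinarith⟩)⟩
  · exact ⟨j, i, .inr ⟨rfl, rfl⟩, .inr (.inr ⟨by linarith, by rw [Basic.a_comm T j i]; exact e',
      by rw [e'] at rj; nlinarith, by rw [e] at ri; nlinarith⟩)⟩

end Groth.Agent.S3350
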