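import Groth.Statements.S3351
import Mathlib.LinearAlgebra.Dimension.Localization
import Mathlib.LinearAlgebra.FreeModule.PID
import Mathlib.Algebra.Module.Projective
import Mathlib.LinearAlgebra.Dual.Lemmas
import Mathlib.RingTheory.Finiteness.Finsupp

set_option autoImplicit false
open Models

namespace Groth.Agent.S3351

/-- Let L be a finite free Z-module with a positive definite symmetric integral bilinear form, A ⊆ L a
submodule with L/A torsion free and B the orthogonal complement of A. Write M^# for the dual lattice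
of a sublattice M, identified here with the Z-dual Hom(M, Z) through the form. Then the natural maps
L/(A ⊕ B) → B^#/B and L/(A ⊕ B) → A^#/A are injective: an element x of L whose functional ⟨x, -⟩ on
B (resp. on A) is represented by an element of B (resp. of A) lies in A ⊕ B. Moreover the
restriction maps L^# → B^# and L^# → A^# are surjective, so that the cokernels of the two injections
are quotients of L^#/L. -/
theorem result {L : Type} [AddCommGroup L] [Module.Finite ℤ L] [Module.Free ℤ L]
    (B : LinearMap.BilinForm ℤ L) (hsymm : B.IsSymm) (hpos : ∀ x, x ≠ 0 → 0 < B x x)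
    (A : Submodule ℤ L) (htf : ∀ (c : ℤ) (x : L), c ≠ 0 → c • x ∈ A → x ∈ A) :
    (∀ x : L, (∃ b ∈ B.orthogonal A, ∀ b' ∈ B.orthogonal A, B x b' = B b b') → x ∈ A ⊔ B.orthogonal A) ∧
      (∀ x : L, (∃ a ∈ A, ∀ a' ∈ A, B x a' = B a a') → x ∈ A ⊔ B.orthogonal A) ∧
      (∀ ψ : Module.Dual ℤ ↥(B.orthogonal A), ∃ φ : Module.Dual ℤ L, φ ∘ₗ (B.orthogonal A).subtype = ψ) ∧
      (∀ ψ : Module.Dual ℤ ↥A, ∃ φ : Module.Dual ℤ L, φ ∘ₗ A.subtype = ψ) := by
  classical
  -- pure submodules are direct summands
  have ext : ∀ W : Submodule ℤ L, (∀ (c : ℤ) (x : L), c ≠ 0 → c • x ∈ W → x ∈ W) →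
      ∀ ψ : Module.Dual ℤ ↥W, ∃ φ : Module.Dual ℤ L, φ ∘ₗ W.subtype = ψ := by
    intro W hW ψ
    haveI : Module.IsTorsionFree ℤ (L ⧸ W) := Module.IsTorsionFree.of_smul_eq_zero fun c x hx => by
      obtain ⟨x, rfl⟩ := Submodule.Quotient.mk_surjective W x
      by_cases hc : c = 0
      · exact .inl hc
      · exact .inr ((Submodule.Quotient.mk_eq_zero W).2
          (hW c x hc ((Submodule.Quotient.mk_eq_zero W).1 (by rwa [Submodule.Quotient.mk_smul]))))
    haveI : Module.Free ℤ (L ⧸ W) := Module.free_of_finite_type_torsion_free'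
    obtain ⟨s, hs⟩ := Module.projective_lifting_property W.mkQ LinearMap.id W.mkQ_surjective
    let π : L →ₗ[ℤ] W := LinearMap.codRestrict W (LinearMap.id - s ∘ₗ W.mkQ) fun x => by
      rw [← Submodule.Quotient.mk_eq_zero W]
      have := LinearMap.congr_fun hs (W.mkQ x)
      simp only [LinearMap.comp_apply, LinearMap.id_apply, Submodule.mkQ_apply] at this
      simp [this]
    refine ⟨ψ ∘ₗ π, LinearMap.ext fun w => congrArg ψ (Subtype.ext ?_)⟩
    simp [π, (Submodule.Quotient.mk_eq_zero W).2 w.2]
  have hC : ∀ x, x ∈ B.orthogonal A ↔ ∀ a ∈ A, B a x = 0 := fun x => Iff.rfl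
  have hpureC : ∀ (c : ℤ) (x : L), c ≠ 0 → c • x ∈ B.orthogonal A → x ∈ B.orthogonal A :=
    fun c x hc hx a ha => by
      have := hx a ha
      rw [map_smul, smul_eq_mul] at this
      exact (mul_eq_zero.1 this).resolve_left hc
  have hzero : ∀ x, B x x = 0 → x = 0 := fun x hx => by
    by_contra h
    exact (hpos x h).ne' hx
  -- the double orthogonal of A is A
  have hdouble : ∀ y, (∀ b ∈ B.orthogonal A, B y b = 0) → y ∈ A := by
    intro y hy
    let f : A →ₗ[ℤ] Module.Dual ℤ A := (B.compl₂ A.subtype) ∘ₗ A.subtype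
    have hf : Function.Injective f := (injective_iff_map_eq_zero f).2 fun a ha =>
      Subtype.ext (hzero _ (LinearMap.congr_fun ha a))
    have hrk : Module.finrank ℤ (Module.Dual ℤ A ⧸ LinearMap.range f) = 0 := by
      have h1 := Submodule.finrank_quotient_add_finrank (LinearMap.range f)
      rw [LinearMap.finrank_range_of_inj hf,
        (Module.Free.chooseBasis ℤ A).toDualEquiv.finrank_eq.symm] at h1
      omega
    obtain ⟨c, hc⟩ := Module.finrank_eq_zero_iff.1 hrk
      (Submodule.Quotient.mk ((B y) ∘ₗ A.subtype))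
    rw [← Submodule.Quotient.mk_smul, Submodule.Quotient.mk_eq_zero] at hc
    obtain ⟨hc0, a, ha⟩ := hc
    have hd : c • y - (a : L) ∈ B.orthogonal A := fun a' ha' => by
      have := LinearMap.congr_fun ha ⟨a', ha'⟩
      simp only [f, LinearMap.comp_apply, LinearMap.compl₂_apply, LinearMap.smul_apply,
        Submodule.coe_subtype] at this
      show B a' (c • y - (a : L)) = 0
      rw [map_sub, map_smul, hsymm.eq a' y, hsymm.eq a' a, this, sub_self]
    refine htf c y hc0 ?_
    have h0 : B (c • y - (a : L)) (c • y - (a : L)) = 0 := by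
      have h1 : B y (c • y - (a : L)) = 0 := hy _ hd
      have h2 : B a (c • y - (a : L)) = 0 := hd a a.2
      rw [map_sub B, map_smul B, LinearMap.sub_apply, LinearMap.smul_apply, h1, h2, smul_zero, sub_zero]
    rw [sub_eq_zero.1 (hzero _ h0)]
    exact a.2
  refine ⟨fun x => ?_, fun x => ?_, ext _ hpureC, ext A htf⟩
  · rintro ⟨b, hb, hx⟩
    rw [show x = (x - b) + b from (sub_add_cancel x b).symm]
    exact Submodule.add_mem_sup (hdouble _ fun b' hb' => by
      rw [map_sub, LinearMap.sub_apply, hx b' hb', sub_self]) hb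
  · rintro ⟨a, ha, hx⟩
    rw [show x = a + (x - a) from (add_sub_cancel a x).symm]
    exact Submodule.add_mem_sup ha fun a' ha' => by
      show B a' (x - a) = 0
      rw [map_sub, hsymm.eq a' x, hsymm.eq a' a, hx a' ha', sub_self]

end Groth.Agent.S3351
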