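import Groth.Statements.S3352
import Mathlib.LinearAlgebra.Dimension.Localization
import Mathlib.LinearAlgebra.FreeModule.PID
import Mathlib.RingTheory.Finiteness.Finsupp
import Mathlib.LinearAlgebra.Dual.Lemmas
import Mathlib.LinearAlgebra.Isomorphisms

set_option autoImplicit false
open Models

namespace Groth.Agent.S3352

/-- Let L₀, L₁ be finite free ℤ-modules with positive definite symmetric integral bilinear forms, the
form on L₀ unimodular (x ↦ ⟨x, −⟩ is a bijection L₀ → Hom(L₀, ℤ)), and let d : L₀ → L₁ and d* : L₁ →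
L₀ be adjoint. Identify Im(d)^# (the dual lattice of Im(d)) with Hom(Im(d), ℤ) through the form on
L₁. Then there is an isomorphism Φ from the torsion subgroup of Coker(d* d) onto Im(d)^#/Im(d),
determined by: for x ∈ L₀ whose class is torsion, Φ[x] is the class of the functional d(y') ↦ ⟨x,
y'⟩ (equivalently the class of (1/a)·d(y) when a·x = d* d(y)). -/
theorem result {L₀ L₁ : Type} [AddCommGroup L₀] [AddCommGroup L₁]
    [Module.Finite ℤ L₀] [Module.Free ℤ L₀] [Module.Finite ℤ L₁] [Module.Free ℤ L₁]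
    (B₀ : LinearMap.BilinForm ℤ L₀) (B₁ : LinearMap.BilinForm ℤ L₁) (h₀s : B₀.IsSymm) (h₁s : B₁.IsSymm)
    (h₀p : ∀ x, x ≠ 0 → 0 < B₀ x x) (h₁p : ∀ x, x ≠ 0 → 0 < B₁ x x) (huni : Function.Bijective B₀)
    (d : L₀ →ₗ[ℤ] L₁) (ds : L₁ →ₗ[ℤ] L₀) (hadj : ∀ x y, B₁ (d x) y = B₀ x (ds y)) :
    ∃ Φ : ↥(Submodule.torsion ℤ (L₀ ⧸ LinearMap.range (ds ∘ₗ d))) ≃ₗ[ℤ]
        (Module.Dual ℤ ↥(LinearMap.range d) ⧸
          LinearMap.range ((B₁.compl₂ (LinearMap.range d).subtype) ∘ₗ (LinearMap.range d).subtype)),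
      ∀ (x : L₀) (hx : Submodule.Quotient.mk x ∈ Submodule.torsion ℤ (L₀ ⧸ LinearMap.range (ds ∘ₗ d)))
        (ψ : Module.Dual ℤ ↥(LinearMap.range d)),
        (∀ y' : L₀, ψ ⟨d y', LinearMap.mem_range_self d y'⟩ = B₀ x y') →
          Φ ⟨Submodule.Quotient.mk x, hx⟩ = Submodule.Quotient.mk ψ := by
  classical
  set W := LinearMap.range d
  let E := LinearEquiv.ofBijective B₀ huni
  let G : W →ₗ[ℤ] Module.Dual ℤ W := (B₁.compl₂ W.subtype) ∘ₗ W.subtype
  have hG : Function.Injective G := (injective_iff_map_eq_zero G).2 fun a ha => Subtype.ext (by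
    by_contra h
    exact (h₁p _ h).ne' (LinearMap.congr_fun ha a))
  have hE : ∀ φ y, B₀ (E.symm φ) y = φ y := fun φ y => by
    show E (E.symm φ) y = φ y
    rw [LinearEquiv.apply_symm_apply]
  let θ : Module.Dual ℤ W →ₗ[ℤ] L₀ :=
    E.symm.toLinearMap ∘ₗ (d.rangeRestrict).dualMap
  have hθ : ∀ (ψ : Module.Dual ℤ W) y, B₀ (θ ψ) y = ψ ⟨d y, LinearMap.mem_range_self d y⟩ := fun ψ y => hE _ y
  have hθG : ∀ y, θ (G ⟨d y, LinearMap.mem_range_self d y⟩) = ds (d y) := fun y => huni.1 (LinearMap.ext fun y' => by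
    rw [hθ]
    show B₁ (d y) (d y') = _
    rw [h₁s.eq, hadj, h₀s.eq])
  have htor : ∀ ψ, (Submodule.Quotient.mk (θ ψ) : L₀ ⧸ LinearMap.range (ds ∘ₗ d)) ∈
      Submodule.torsion ℤ (L₀ ⧸ LinearMap.range (ds ∘ₗ d)) := by
    intro ψ
    have hrk : Module.finrank ℤ (Module.Dual ℤ W ⧸ LinearMap.range G) = 0 := by
      have h1 := Submodule.finrank_quotient_add_finrank (LinearMap.range G)
      rw [LinearMap.finrank_range_of_inj hG,
        (Module.Free.chooseBasis ℤ W).toDualEquiv.finrank_eq.symm] at h1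
      omega
    obtain ⟨c, hc⟩ := Module.finrank_eq_zero_iff.1 hrk (Submodule.Quotient.mk ψ)
    rw [← Submodule.Quotient.mk_smul, Submodule.Quotient.mk_eq_zero] at hc
    obtain ⟨hc0, ⟨w, y, rfl⟩, hy⟩ := hc
    refine (Submodule.mem_torsion_iff _).2 ⟨⟨c, mem_nonZeroDivisors_iff_ne_zero.2 hc0⟩, ?_⟩
    show c • (Submodule.Quotient.mk (θ ψ) : L₀ ⧸ LinearMap.range (ds ∘ₗ d)) = 0
    rw [← Submodule.Quotient.mk_smul, Submodule.Quotient.mk_eq_zero, ← map_smul, ← hy, hθG]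
    exact ⟨y, rfl⟩
  let Θ := LinearMap.codRestrict (Submodule.torsion ℤ (L₀ ⧸ LinearMap.range (ds ∘ₗ d)))
    ((LinearMap.range (ds ∘ₗ d)).mkQ ∘ₗ θ) htor
  have hΘker : LinearMap.ker Θ = LinearMap.range G := by
    rw [LinearMap.ker_codRestrict]
    refine le_antisymm (fun ψ hψ => ?_) ?_
    · obtain ⟨y, hy⟩ := (Submodule.Quotient.mk_eq_zero _).1 (LinearMap.mem_ker.1 hψ)
      refine ⟨⟨d y, LinearMap.mem_range_self d y⟩, LinearMap.ext fun ⟨w, y', hw⟩ => ?_⟩
      subst hw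
      rw [← hθ, ← hθ ψ, hθG, show θ ψ = ds (d y) from hy.symm]
    · rintro _ ⟨⟨w, y, rfl⟩, rfl⟩
      exact (Submodule.Quotient.mk_eq_zero _).2 ⟨y, (hθG y).symm⟩
  have hΘsurj : Function.Surjective Θ := by
    rintro ⟨z, hz⟩
    obtain ⟨x, rfl⟩ := Submodule.Quotient.mk_surjective _ z
    obtain ⟨⟨c, hc⟩, hcx⟩ := (Submodule.mem_torsion_iff _).1 hz
    have hcx' : c • x ∈ LinearMap.range (ds ∘ₗ d) := (Submodule.Quotient.mk_eq_zero _).1 hcx
    obtain ⟨y, hy⟩ := hcx'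
    have hker : LinearMap.ker d ≤ LinearMap.ker (B₀ x) := fun y' hy' => by
      have e : c * B₀ x y' = 0 := by
        rw [show c * B₀ x y' = B₀ (c • x) y' by rw [map_smul, LinearMap.smul_apply, smul_eq_mul],
          ← hy, LinearMap.comp_apply,
          h₀s.eq, ← hadj, LinearMap.mem_ker.1 hy', map_zero, LinearMap.zero_apply]
      exact (mul_eq_zero.1 e).resolve_left (mem_nonZeroDivisors_iff_ne_zero.1 hc)
    let ψ : Module.Dual ℤ W := (LinearMap.ker d).liftQ (B₀ x) hker ∘ₗ d.quotKerEquivRange.symm.toLinearMap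
    refine ⟨ψ, Subtype.ext (congrArg Submodule.Quotient.mk (huni.1 (LinearMap.ext fun y' => ?_)))⟩
    rw [hθ]
    show (LinearMap.ker d).liftQ (B₀ x) hker (d.quotKerEquivRange.symm _) = _
    rw [LinearMap.quotKerEquivRange_symm_apply_image]
    rfl
  refine ⟨((Submodule.quotEquivOfEq _ _ hΘker.symm).trans (Θ.quotKerEquivOfSurjective hΘsurj)).symm,
    fun x hx ψ hψ => ?_⟩
  rw [LinearEquiv.symm_apply_eq]
  refine Subtype.ext ?_
  show Submodule.Quotient.mk x = Submodule.Quotient.mk (θ ψ)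
  exact congrArg _ (huni.1 (LinearMap.ext fun y => by rw [hθ, hψ]))

end Groth.Agent.S3352
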