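import Groth.Statements.S3353
import Groth.Agent.H80.Divisor.CI
import Groth.Agent.H80.Divisor.Bridge
import Groth.Agent.Lib.Depth.Local
import Groth.Agent.Lib.ParaF.Local
import Groth.Agent.H78.ParaF.Punctured

set_option autoImplicit false
set_option backward.isDefEq.respectTransparency false
universe u
open AlgebraicGeometry
open ParaF

namespace Groth.Agent.S3353

/-- Let A be a Noetherian local ring of Krull dimension at least 4 which is a complete intersection: A
is isomorphic to the quotient of a regular local ring by an ideal generated by a regular sequence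
contained in the maximal ideal. Then A is parafactorial: for every open V of Spec A, restriction of
invertible modules from V to V minus the closed point is fully faithful and essentially surjective. -/
theorem result (A : Type u) [CommRing A] [IsLocalRing A] [IsNoetherianRing A] (hA : SGA2.IsAbsCompleteIntersection A) (hdim : (4 : WithBot ℕ∞) ≤ ringKrullDim A) : ParaF.IsParafactorialLocalRing A := by
  obtain ⟨B, _, _, rs, hmem, hreg, ⟨e⟩⟩ := hA
  have := H80.Divisor.isLocalRing_ci rs hmem
  have e' : (B ⧸ Ideal.ofList rs) ≃+* A := e.symm
  have hdim' : (4 : WithBot ℕ∞) ≤ ringKrullDim (B ⧸ Ideal.ofList rs) := by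
    rwa [ringKrullDim_eq_of_ringEquiv e']
  have hpara : H80.Divisor.IdealPara A := H80.Divisor.IdealPara.of_ringEquiv e'
    (H80.Divisor.idealPara_ci _ B rs rfl hmem hreg.toIsWeaklyRegular hdim')
  have hcm := H80.Divisor.isCohenMacaulay_ci rs hmem hreg.toIsWeaklyRegular
  have := Lib.Excellent.Transport.isCohenMacaulayLocalRing_of_ringEquiv e'
  have hd : (2 : ℕ∞) ≤ LocCoh.depth A A := by
    rw [Lib.Depth.CM.ringKrullDim_eq_depth] at hdim
    exact le_trans (by norm_num) (WithBot.coe_le_coe.mp hdim)
  exact (Lib.ParaF.Local.isParafactorialLocalRing_iff A).mpr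
    ⟨H78.ParaF.Punctured.res_bijective_of_depth A hd, H80.Divisor.picTrivial_of_idealPara hd hpara⟩

end Groth.Agent.S3353
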