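import Groth.Statements.S3355
import Groth.Agent.S3354
import Groth.Agent.Lib.Depth.LocalCoh
import Groth.Agent.H80.Divisor.Weak.Extend

set_option autoImplicit false
set_option backward.isDefEq.respectTransparency false
universe u
open CategoryTheory CategoryTheory.Limits AlgebraicGeometry
open ParaF

namespace Groth.Agent.S3355

open IsLocalRing

theorem dim_eq_one {A : Type u} [CommRing A] [IsLocalRing A] [IsNoetherianRing A] {t : A}
    (ht : t ∈ maximalIdeal A) (p : Ideal A) [p.IsPrime] (htp : t ∉ p)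
    (hmax : ∀ q' : Ideal A, q'.IsPrime → p ≤ q' → t ∉ q' → q' = p) : ringKrullDim (A ⧸ p) = 1 := by
  have hpm : p ≠ maximalIdeal A := fun h => htp (h ▸ ht)
  let π := Ideal.Quotient.mk p
  have : IsLocalRing (A ⧸ p) := IsLocalRing.of_surjective' _ Ideal.Quotient.mk_surjective
  have : IsLocalHom π := IsLocalHom.of_surjective π Ideal.Quotient.mk_surjective
  have hm : π t ∈ maximalIdeal (A ⧸ p) := fun hu => ht (isUnit_of_map_unit π t hu)
  have hmin : maximalIdeal (A ⧸ p) ∈ (Ideal.span {π t}).minimalPrimes := by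
    refine ⟨⟨inferInstance, (Ideal.span_singleton_le_iff_mem _).mpr hm⟩, fun J hJ _ => ?_⟩
    by_contra hne
    have := hJ.1
    have htJ : t ∈ J.comap π := hJ.2 (Ideal.mem_span_singleton_self _)
    have hpJ : p ≤ J.comap π := fun x hx => by
      rw [Ideal.mem_comap, show π x = 0 from Ideal.Quotient.eq_zero_iff_mem.mpr hx]
      exact zero_mem _
    have hlt : p < J.comap π := lt_of_le_of_ne hpJ fun h => htp (h ▸ htJ)
    have hJm : J.comap π ≠ maximalIdeal A := fun h => hne (by
      intro x hx
      obtain ⟨x, rfl⟩ := Ideal.Quotient.mk_surjective x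
      have hxm : x ∈ maximalIdeal A := fun hu => hx (hu.map π)
      rw [← h] at hxm
      exact hxm)
    -- a prime strictly between `p` and the maximal ideal avoiding `t`
    have hh := Ideal.height_strict_mono_of_isPrime (I := J) (J := maximalIdeal (A ⧸ p))
      (lt_of_le_of_ne (le_maximalIdeal this.ne_top) fun h => hne h.ge)
    have h0 : (⊥ : Ideal (A ⧸ p)) < J := bot_lt_iff_ne_bot.mpr fun h => hlt.ne (by
      rw [h, ← RingHom.ker_eq_comap_bot, Ideal.mk_ker])
    have hex : ∃ P : Ideal (A ⧸ p), P.IsPrime ∧ P ≠ ⊥ ∧ π t ∉ P := by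
      by_contra hn
      push Not at hn
      -- then `J` minimal over `t`
      have hminJ : ∀ K ∈ (Ideal.span {π t}).minimalPrimes, K.height ≤ 1 := fun K hK =>
        Ideal.height_le_one_of_isPrincipal_of_mem_minimalPrimes _ _ hK
      obtain ⟨s, hsm, hsJ⟩ : ∃ s ∈ maximalIdeal (A ⧸ p),
          ∀ K ∈ (Ideal.span {π t}).minimalPrimes, s ∉ K := by
        by_contra hs
        push Not at hs
        have hfin := Ideal.finite_minimalPrimes_of_isNoetherianRing (A ⧸ p) (Ideal.span {π t})
        have hsub : ((maximalIdeal (A ⧸ p) : Ideal _) : Set (A ⧸ p)) ⊆ ⋃ K ∈ hfin.toFinset, (id K : Ideal _) :=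
          fun s hs' => by
            obtain ⟨K, hK, hsK⟩ := hs s hs'
            exact Set.mem_biUnion (hfin.mem_toFinset.mpr hK) hsK
        obtain ⟨K, hK, hle⟩ := (Ideal.subset_union_prime (⊥ : Ideal (A ⧸ p)) ⊥
          (fun K hK _ _ => (hfin.mem_toFinset.mp hK).1.1)).mp hsub
        have hK' := hfin.mem_toFinset.mp hK
        exact hne (hle.trans ((hK'.2 ⟨this, hJ.2⟩ ((le_maximalIdeal this.ne_top).trans hle)).trans le_rfl))
      obtain ⟨P, hP, -⟩ := Ideal.exists_minimalPrimes_le
        (show Ideal.span {s} ≤ maximalIdeal (A ⧸ p) from (Ideal.span_singleton_le_iff_mem _).mpr hsm)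
      have hPp := hP.1.1
      have hPt := hn P hPp fun h => by
        have hs0 : s = 0 := by simpa [h] using hP.1.2 (Ideal.mem_span_singleton_self s)
        obtain ⟨K, hK, -⟩ := Ideal.exists_minimalPrimes_le
          (show Ideal.span {π t} ≤ J from hJ.2)
        exact hsJ K hK (hs0 ▸ zero_mem K)
      obtain ⟨K, hK, hKP⟩ := Ideal.exists_minimalPrimes_le
        (show Ideal.span {π t} ≤ P from (Ideal.span_singleton_le_iff_mem _).mpr hPt)
      have := hK.1.1
      have e1 := Ideal.height_le_one_of_isPrincipal_of_mem_minimalPrimes _ _ hP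
      have hK0 : (⊥ : Ideal (A ⧸ p)) < K := bot_lt_iff_ne_bot.mpr fun h => htp
        (Ideal.Quotient.eq_zero_iff_mem.mp (by simpa [h] using hK.1.2 (Ideal.mem_span_singleton_self _)))
      have hKlt : K < P := lt_of_le_of_ne hKP fun h => hsJ K hK (h ▸ hP.1.2 (Ideal.mem_span_singleton_self s))
      have := Ideal.isPrime_bot (α := A ⧸ p)
      have e2 := Ideal.height_strict_mono_of_isPrime hK0
      have e3 := (Ideal.height_strict_mono_of_isPrime hKlt).trans_le e1
      rw [ENat.lt_one_iff_eq_zero] at e3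
      rw [e3] at e2
      exact not_lt_bot e2
    obtain ⟨P, hP, hP0, hPt⟩ := hex
    have hle : p ≤ P.comap π := fun x hx => by
      rw [Ideal.mem_comap, show π x = 0 from Ideal.Quotient.eq_zero_iff_mem.mpr hx]
      exact zero_mem _
    refine hP0 ?_
    rw [← Ideal.map_comap_of_surjective π Ideal.Quotient.mk_surjective P, hmax _ (hP.comap π) hle hPt,
      Ideal.map_quotient_self]
  have h1 := Ideal.height_le_one_of_isPrincipal_of_mem_minimalPrimes _ _ hmin
  have hb : (⊥ : Ideal (A ⧸ p)) < maximalIdeal (A ⧸ p) := bot_lt_iff_ne_bot.mpr fun h =>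
    htp (Ideal.Quotient.eq_zero_iff_mem.mp (by simpa [h] using hm))
  have := Ideal.isPrime_bot (α := A ⧸ p)
  have h2 := Ideal.height_strict_mono_of_isPrime hb
  rw [← maximalIdeal_height_eq_ringKrullDim, le_antisymm h1 (Order.one_le_iff_pos.mpr (bot_le.trans_lt h2))]
  rfl

set_option maxHeartbeats 800000 in
/-- Let A be a Noetherian local ring which is a quotient of a regular local ring, t an A-regular element
of the maximal ideal with A complete for the t-adic topology, X the punctured spectrum of A and Y =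
V(t) ∩ X, and assume (a) depth A_p ≥ 2 for every prime p with dim A/p = 1. Assume moreover (c) depth
A_p ≥ 3 for every prime p containing t with dim A/p = 1 (the closed points of Y), (d) depth A/tA ≥
4, and (e) A_p is parafactorial for every prime p not containing t with dim A/p = 1, i.e. at the
closed points of X outside Y (the published statement places this hypothesis at the points of Y;
here it is taken at the closed points of X outside Y; the letters (a), (c), (d), (e) match the names
of the hypotheses in the Lean statement). Then pull-back along Y → X induces a bijection Pic(X) →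
Pic(Y) (trivial kernel and every invertible O_Y-module comes from an invertible O_X-module); in
particular A is parafactorial if and only if A/tA is. -/
theorem result (R : Type u) [CommRing R] [IsRegularLocalRing R] (A : Type u) [CommRing A] [IsLocalRing A] [IsNoetherianRing A] (π : R →+* A) (hπ : Function.Surjective π) (t : A) (ht : t ∈ IsLocalRing.maximalIdeal A) (hreg : IsSMulRegular A t) [IsAdicComplete (Ideal.span {t}) A] (ha : ∀ p : PrimeSpectrum A, ringKrullDim (A ⧸ p.asIdeal) = 1 → (2 : ℕ∞) ≤ LocCoh.depth (Localization.AtPrime p.asIdeal) (Localization.AtPrime p.asIdeal)) (hc : ∀ p : PrimeSpectrum A, t ∈ p.asIdeal → ringKrullDim (A ⧸ p.asIdeal) = 1 → (3 : ℕ∞) ≤ LocCoh.depth (Localization.AtPrime p.asIdeal) (Localization.AtPrime p.asIdeal)) [IsLocalRing (A ⧸ Ideal.span {t})] (hd : (4 : ℕ∞) ≤ LocCoh.depth (A ⧸ Ideal.span {t}) (A ⧸ Ideal.span {t})) (he : ∀ p : PrimeSpectrum A, t ∉ p.asIdeal → ringKrullDim (A ⧸ p.asIdeal) = 1 → ParaF.IsParafactorialLocalRing (Localization.AtPrime p.asIdeal)) : (Formal2.PicPullbackInjective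 (((Spec.map (CommRingCat.ofHom (Ideal.Quotient.mk (Ideal.span {t})))).ker.comap (FEt.puncturedSpec A).ι)).subschemeι ∧ Formal2.PicPullbackSurjective (((Spec.map (CommRingCat.ofHom (Ideal.Quotient.mk (Ideal.span {t})))).ker.comap (FEt.puncturedSpec A).ι)).subschemeι) ∧ (ParaF.IsParafactorialLocalRing A ↔ ParaF.IsParafactorialLocalRing (A ⧸ Ideal.span {t})) := by
  let B := A ⧸ Ideal.span {t}
  let q : Spec (CommRingCat.of B) ⟶ Spec (CommRingCat.of A) := Formal2.specQuotMap A t
  let U := FEt.puncturedSpec A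
  have hb : (3 : ℕ∞) ≤ LocCoh.depth B B := le_trans (by norm_num) hd
  have h3354 := S3354.result R A π hπ t ht hreg ha hb
  have hdA : (4 : ℕ∞) ≤ LocCoh.depth A B := by
    rw [Lib.Depth.Basic.depth_eq_of_surjective (S := B) Ideal.Quotient.mk_surjective]; exact hd
  have hH := (Lib.Depth.LocalCoh.le_idealDepth_iff_H (maximalIdeal A) B 4).mp hdA
  have := hH 1 (by omega)
  have := hH 2 (by omega)
  have hnzd : t ∈ nonZeroDivisors A := mem_nonZeroDivisors_iff.mpr
    ⟨fun x hx => hreg (show t * x = t * 0 by rw [hx, mul_zero]),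
      fun x hx => hreg (show t * x = t * 0 by rw [mul_comm, hx, mul_zero])⟩
  have hext : ∀ L : ((q ⁻¹ᵁ U : (Spec (CommRingCat.of B)).Opens) : Scheme.{u}).Modules, PicF.IsInvertible L →
      ∃ L' : (U : Scheme.{u}).Modules, PicF.IsInvertible L' ∧
        Nonempty ((Scheme.Modules.pullback (q ∣_ U)).obj L' ≅ L) := fun L hL => by
    obtain ⟨D⟩ := H80.Divisor.Weak.nonempty_model t ht hnzd inferInstance inferInstance (hH 3 (by omega)) L hL
    exact D.exists_extension ht fun p _ htp hmax => ((Lib.ParaF.Local.isParafactorialLocalRing_iff _).mp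
      (he ⟨p, ‹_›⟩ htp (dim_eq_one ht p htp hmax))).2
  refine ⟨⟨h3354.1, fun L hL => ?_⟩, fun hA => ?_, h3354.2⟩
  · let j : ((q ⁻¹ᵁ U : (Spec (CommRingCat.of B)).Opens) : Scheme.{u}) ⟶ (q.ker.comap U.ι).subscheme :=
      (isPullback_morphismRestrict q U).isoPullback.hom ≫
        pullback.map U.ι q U.ι q.ker.subschemeι (𝟙 _) q.toImage (𝟙 _) (by simp)
          (by rw [Category.comp_id]; exact q.toImage_imageι.symm) ≫
        (q.ker.comapIso U.ι).inv
    have hj : j ≫ (q.ker.comap U.ι).subschemeι = q ∣_ U := by simp [j]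
    have hcl : IsClosedImmersion q := IsClosedImmersion.spec_of_surjective _ Ideal.Quotient.mk_surjective
    have : IsIso q.toImage := inferInstance
    have hmap : IsIso (pullback.map U.ι q U.ι q.ker.subschemeι (𝟙 _) q.toImage (𝟙 _) (by simp)
          (by rw [Category.comp_id]; exact q.toImage_imageι.symm)) := pullback.map_isIso ..
    have : IsIso j := IsIso.comp_isIso' inferInstance (IsIso.comp_isIso' hmap inferInstance)
    obtain ⟨L', hL', ⟨φ⟩⟩ := hext _ (PicLoc.isInvertible_pullback j hL)
    refine ⟨L', hL', ⟨?_⟩⟩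
    let a : (Scheme.Modules.pullback j).obj ((Scheme.Modules.pullback (q.ker.comap U.ι).subschemeι).obj L') ≅
        (Scheme.Modules.pullback j).obj L :=
      (Scheme.Modules.pullbackComp j _).app L' ≪≫ (Scheme.Modules.pullbackCongr hj).app L' ≪≫ φ
    let b := fun M => ((Scheme.Modules.pullbackComp (inv j) j).app M ≪≫
      (Scheme.Modules.pullbackCongr (IsIso.inv_hom_id j)).app M ≪≫ (Scheme.Modules.pullbackId _).app M)
    exact (b _).symm ≪≫ (Scheme.Modules.pullback (inv j)).mapIso a ≪≫ b _
  · refine (Lib.ParaF.Local.isParafactorialLocalRing_iff B).mpr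
      ⟨H78.ParaF.Punctured.res_bijective_of_depth B (le_trans (by norm_num) hb), ?_⟩
    have e : q ⁻¹ᵁ U = FEt.puncturedSpec B := by
      have : IsLocalHom (Ideal.Quotient.mk (Ideal.span {t})) := IsLocalHom.of_surjective _ Ideal.Quotient.mk_surjective
      ext w
      exact not_congr ⟨fun h => PrimeSpectrum.ext (((le_maximalIdeal (PrimeSpectrum.isPrime w).ne_top)).antisymm
        fun x hx => by
          obtain ⟨x, rfl⟩ := Ideal.Quotient.mk_surjective x
          have hxm : x ∈ maximalIdeal A := fun hu => hx (hu.map _)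
          exact (congrArg PrimeSpectrum.asIdeal h).ge hxm), fun h => h ▸ comap_closedPoint _⟩
    refine Lib.ParaF.Local.picTrivial_of_isIso ((Spec (CommRingCat.of B)).isoOfEq e).inv fun L hL => ?_
    obtain ⟨L', hL', ⟨φ⟩⟩ := hext L hL
    obtain ⟨ψ⟩ := ((Lib.ParaF.Local.isParafactorialLocalRing_iff A).mp hA).2 L' hL'
    exact ⟨φ.symm ≪≫ (Scheme.Modules.pullback (q ∣_ U)).mapIso ψ ≪≫ PicLoc.pullbackStructureIso _⟩

end Groth.Agent.S3355
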