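import Groth.Statements.S3356
import Groth.Agent.H78.LefPic.Leff
import Groth.Agent.S2831

set_option autoImplicit false
universe u
open CategoryTheory CategoryTheory.Limits AlgebraicGeometry
open LefX

namespace Groth.Agent.S3356

/-- A parafactorial pair gives a bijection of Picard groups. -/
theorem pic_bijective_of_pair {X : Scheme.{u}} (U : X.Opens)
    (h : ParaF.IsParafactorialPair X ⟨(U : Set X)ᶜ, U.2.isClosed_compl⟩) :
    Formal2.PicPullbackInjective U.ι ∧ Formal2.PicPullbackSurjective U.ι := by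
  let Y : TopologicalSpace.Closeds X := ⟨(U : Set X)ᶜ, U.2.isClosed_compl⟩
  have hU : (⊤ : X.Opens) ⊓ Y.compl = U := TopologicalSpace.Opens.ext (by simp [Y])
  obtain ⟨hff, hes⟩ := h ⊤
  let j := X.homOfLE (inf_le_left : (⊤ : X.Opens) ⊓ Y.compl ≤ ⊤)
  let k := X.isoOfEq hU
  let T := (⊤ : X.Opens).ι
  haveI : IsIso T := (Scheme.topIso X).isIso_hom
  have hjk : k.hom ≫ U.ι = j ≫ T := by
    rw [Scheme.isoOfEq_hom_ι, Scheme.homOfLE_ι]
  let R := Scheme.Modules.restrictFunctorIsoPullback j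
  constructor
  · intro L hL ⟨t⟩
    let L₁ := (Scheme.Modules.pullback T).obj L
    have hL₁ : PicF.IsInvertible L₁ := PicLoc.isInvertible_pullback T hL
    have hO := PicLoc.isInvertible_structureModule ((⊤ : X.Opens) : Scheme.{u})
    let ρ : L₁.restrict j ≅ (Coh.structureModule ((⊤ : X.Opens) : Scheme.{u})).restrict j :=
      R.app L₁ ≪≫ (Scheme.Modules.pullbackComp j T).app L ≪≫
      (Scheme.Modules.pullbackCongr hjk.symm).app L ≪≫
      ((Scheme.Modules.pullbackComp k.hom U.ι).app L).symm ≪≫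
      (Scheme.Modules.pullback k.hom).mapIso t ≪≫ PicLoc.pullbackStructureIso k.hom ≪≫
      (Scheme.Modules.restrictUnitIso j).symm
    obtain ⟨f, hf⟩ := (hff L₁ _ hL₁ hO).2 ρ.hom
    obtain ⟨g, hg⟩ := (hff _ L₁ hO hL₁).2 ρ.inv
    simp only at hf hg
    let s : L₁ ≅ Coh.structureModule _ := ⟨f, g,
      (hff L₁ L₁ hL₁ hL₁).1 (by simp only; rw [Functor.map_comp, hf, hg, ρ.hom_inv_id, CategoryTheory.Functor.map_id]),
      (hff _ _ hO hO).1 (by simp only; rw [Functor.map_comp, hg, hf, ρ.inv_hom_id, CategoryTheory.Functor.map_id])⟩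
    exact ⟨((Scheme.Modules.pullbackId X).app L).symm ≪≫
      (Scheme.Modules.pullbackCongr (IsIso.inv_hom_id T).symm).app L ≪≫
      ((Scheme.Modules.pullbackComp (inv T) T).app L).symm ≪≫
      (Scheme.Modules.pullback (inv T)).mapIso s ≪≫ PicLoc.pullbackStructureIso (inv T)⟩
  · intro L' hL'
    obtain ⟨M, hM, ⟨e⟩⟩ := hes _ (PicLoc.isInvertible_pullback k.hom hL')
    refine ⟨(Scheme.Modules.pullback (inv T)).obj M, PicLoc.isInvertible_pullback _ hM, ⟨?_⟩⟩
    exact (Scheme.Modules.pullbackComp U.ι (inv T)).app M ≪≫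
      (Scheme.Modules.pullbackCongr (show U.ι ≫ inv T = k.inv ≫ j by
        rw [Iso.eq_inv_comp, ← Category.assoc, hjk, Category.assoc, IsIso.hom_inv_id, Category.comp_id])).app M ≪≫
      ((Scheme.Modules.pullbackComp k.inv j).app M).symm ≪≫
      (Scheme.Modules.pullback k.inv).mapIso ((R.app M).symm ≪≫ e) ≪≫
      (Scheme.Modules.pullbackComp k.inv k.hom).app L' ≪≫
      (Scheme.Modules.pullbackCongr k.inv_hom_id).app L' ≪≫
      (Scheme.Modules.pullbackId _).app L'


/-- Let X be a locally Noetherian scheme, 𝓘 a quasi-coherent ideal with Y = V(𝓘), X_n the closed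
subscheme defined by 𝓘^(n+1), and p ≥ 0. Assume: (1) the effective Lefschetz condition Leff(X, Y)
holds; (2) H^i(X, 𝓘^(n+1)/𝓘^(n+2)) = 0 for i = 1, 2 and every n ≥ p; (3) for every open
neighbourhood U of Y and every point x outside U, the local ring O_{X,x} is parafactorial. Then for
every n ≥ p and every open U ⊇ Y the pull-back maps Pic(X) → Pic(U) and Pic(X) → Pic(X_n) are
bijective (trivial kernel and surjective on isomorphism classes). -/
theorem result (X : Scheme.{u}) [IsLocallyNoetherian X] (𝓘 : X.IdealSheafData) (p : ℕ) (h1 : LefX.LeffCond X 𝓘) (h2 : (∀ n : ℕ, p ≤ n → ∀ i : ℕ, (i = 1 ∨ i = 2) → Subsingleton (Coh.HH X (kernel (Lef.quotMap (Lef.pow_succ_le 𝓘 n))) i))) (h3 : ∀ U : X.Opens, (𝓘.support : Set X) ⊆ (U : Set X) → ∀ x : X, x ∉ U → ParaF.IsParafactorialLocalRing (X.presheaf.stalk x)) (n : ℕ) (hn : p ≤ n) (U : X.Opens) (hU : (𝓘.support : Set X) ⊆ (U : Set X)) : (Formal2.PicPullbackInjective U.ι ∧ Formal2.PicPullbackSurjective U.ι)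 ∧ (Formal2.PicPullbackInjective (𝓘 ^ (n + 1)).subschemeι ∧ Formal2.PicPullbackSurjective (𝓘 ^ (n + 1)).subschemeι) := by
  have hpair : ∀ V : X.Opens, (𝓘.support : Set X) ⊆ (V : Set X) →
      Formal2.PicPullbackInjective V.ι ∧ Formal2.PicPullbackSurjective V.ι := fun V hV =>
    pic_bijective_of_pair V ((Groth.Agent.S2831.result X _).2 fun y hy => h3 V hV y hy)
  refine ⟨hpair U hU, fun L hL ht => ?_, fun N hN => ?_⟩
  · -- trivial on the thickening, hence near it, hence everywhere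
    obtain ⟨t⟩ := ht
    let g := Groth.Agent.H78.LefPic.toOpen 𝓘 U hU n
    refine (hpair U hU).1 L hL (Groth.Agent.H78.LefPic.colim_injective h1.1 n
      (fun m hm => h2 m (hn.trans hm) 1 (Or.inl rfl)) U hU _ g (Groth.Agent.H78.LefPic.toOpen_ι _ _ _ _)
      (PicLoc.isInvertible_pullback _ hL) ?_)
    exact (Scheme.Modules.pullbackComp g U.ι).app L ≪≫
      (Scheme.Modules.pullbackCongr (Groth.Agent.H78.LefPic.toOpen_ι 𝓘 U hU n)).app L ≪≫ t
  · obtain ⟨V, L, g, hV, hg, hL, ⟨e⟩⟩ := Groth.Agent.H78.LefPic.colim_surjective h1 n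
      (fun m hm => h2 m (hn.trans hm) 2 (Or.inr rfl)) hN
    obtain ⟨M, hM, ⟨f⟩⟩ := (hpair V hV).2 L hL
    exact ⟨M, hM, ⟨(Scheme.Modules.pullbackCongr hg.symm).app M ≪≫
      ((Scheme.Modules.pullbackComp g V.ι).app M).symm ≪≫
      (Scheme.Modules.pullback g).mapIso f ≪≫ e⟩⟩

end Groth.Agent.S3356
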