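import Groth.Statements.S3359
import Groth.Agent.Lib.LefAmple.Rel
import Groth.Agent.Lib.DepthTwist.Zero
import Groth.Agent.Lib.LefNFlat.Lef
import Groth.Agent.S8914

set_option autoImplicit false
universe u
open CategoryTheory CategoryTheory.Limits AlgebraicGeometry
open Lef

namespace Groth.Agent.S3359

/-- Let A be a Noetherian ring, X a proper flat A-scheme and 𝓘 a quasi-coherent ideal of O_X whose ideal
module is invertible with ample inverse L (so 𝓘 is the ideal of the zero scheme Y of a regular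
section of the ample invertible module L, and X is projective over A). Let n ≥ 0 and assume that for
every point s of Spec A the fibre X_s has depth > n at each of its closed points. Then the canonical
map from H^i(X, O_X) to the inverse limit over m of the H^i(X, O_X/𝓘^{m+1}), the transition maps
being induced by the quotient maps, is injective for i ≤ n and surjective for i < n. The published
statement factors this map through the cohomology of the formal completion of X along Y and is over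
a general base and for a coherent module flat over it, rather than over Spec A and for O_X; the
depth hypothesis is read here at the points that are closed in their fibre. -/
theorem result (A : Type u) [CommRing A] [IsNoetherianRing A] (X : Scheme.{u}) [X.Over (Spec (CommRingCat.of A))] [IsProper (X ↘ Spec (CommRingCat.of A))] [Flat (X ↘ Spec (CommRingCat.of A))] (𝓘 : X.IdealSheafData) (L : X.Modules) (hL : ClSub.IsInverseOf L (ClSub.idealMod 𝓘)) (hamp : CohB1.IsAmple L) (n : ℕ) (hdepth : ∀ x : X, IsClosed ({((X ↘ Spec (CommRingCat.of A))).asFiber x} : Set ↥(((X ↘ Spec (CommRingCat.of A))).fiber (((X ↘ Spec (CommRingCat.of A))).base x))) → (n : ℕ∞) < LocCoh.depth ↑(CInt.fiberStalk (X ↘ Spec (CommRingCat.of A)) x) ↑(CInt.fiberStalk (X ↘ Spec (CommRingCat.of A)) x)) (i : ℕ) : (i ≤ n → ∀ x : Coh.HH X (Coh.structureModule X) i, (∀ m : ℕ, Sheaf.H.map ((SheafOfModules.toSheaf X.ringCatSheaf).map (ClSub.toSubscheme (𝓘 ^ (m + 1)))) i x = 0) → x = 0) ∧ (i < n → ∀ y : (∀ m : ℕ, Coh.HH X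 (ClSub.quotMod (𝓘 ^ (m + 1))) i), (∀ m : ℕ, Sheaf.H.map ((SheafOfModules.toSheaf X.ringCatSheaf).map (Lef.quotMap (Lef.pow_succ_le 𝓘 m))) i (y (m + 1)) = y m) → ∃ x : Coh.HH X (Coh.structureModule X) i, ∀ m : ℕ, Sheaf.H.map ((SheafOfModules.toSheaf X.ringCatSheaf).map (ClSub.toSubscheme (𝓘 ^ (m + 1)))) i x = y m) := by
  let p := X ↘ Spec (CommRingCat.of A)
  haveI : IsNoetherianRing (CommRingCat.of A : CommRingCat.{u}) := ‹_›
  haveI : IsLocallyNoetherian X := LocallyOfFiniteType.isLocallyNoetherian p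
  haveI : CompactSpace X := QuasiCompact.compactSpace_of_compactSpace p
  haveI : IsNoetherian X := ⟨⟩
  have hL' := hL
  obtain ⟨eD⟩ := hL'
  have hMi : PicF.IsInvertible (ClSub.idealMod 𝓘) :=
    Lib.TensorMod.TensorInv.isInvertible_of_tensor_iso
      ((Lib.TensorMod.Basic.comm _ L) ≪≫ eD)
  have hD : BlowUp.IsEffCartierIdeal 𝓘 := (S8914.result 𝓘).1 hMi
  obtain ⟨m₀, hv⟩ := Lib.LefAmple.Rel.exists_vanish A hamp hL n hdepth
  have hvE : ∀ m, m₀ ≤ m → ∀ i ≤ n, Subsingleton (Coh.HH X (ClSub.idealMod (𝓘 ^ (m + 1))) i) := by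
    intro m hm i hi
    obtain ⟨eP⟩ := Lib.DepthTwist.Zero.nonempty_tensorPow_idealMod hD m
    haveI := hv (m + 1) (by omega) i hi
    exact (Lib.Curves.LES.isoK A eP.symm i).injective.subsingleton
  have hinj : ∀ m, m₀ ≤ m → ∀ i ≤ n, Function.Injective
      (Lib.Curves.LES.mapK A (ClSub.toSubscheme (𝓘 ^ (m + 1))) i) := by
    intro m hm i hi a b hab
    refine sub_eq_zero.1 ?_
    obtain ⟨z, hz⟩ := (Lib.Curves.LES.exactK₂ A (Lib.ClSub.Quot.idealSeq_shortExact (𝓘 ^ (m + 1))) i (a - b)).1
      (show Lib.Curves.LES.mapK A (ClSub.toSubscheme (𝓘 ^ (m + 1))) i (a - b) = 0 by rw [map_sub, hab, sub_self])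
    rw [← hz, @Subsingleton.elim _ (hvE m hm i hi) z 0]
    exact map_zero _
  refine ⟨fun hi x hx => hinj m₀ le_rfl i hi ((hx m₀).trans (map_zero _).symm), fun hi y hy => ?_⟩
  have hsur : ∀ m, m₀ ≤ m → Function.Surjective
      (Lib.Curves.LES.mapK A (ClSub.toSubscheme (𝓘 ^ (m + 1))) i) := fun m hm z =>
    (Lib.Curves.LES.exactK₃ A (Lib.ClSub.Quot.idealSeq_shortExact (𝓘 ^ (m + 1))) i (i + 1) rfl z).1
      (@Subsingleton.elim _ (hvE m hm (i + 1) hi) _ _)
  have step : ∀ (m : ℕ) (χ : Coh.HH X (Coh.structureModule X) i),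
      Sheaf.H.map ((SheafOfModules.toSheaf X.ringCatSheaf).map (ClSub.toSubscheme (𝓘 ^ (m + 1 + 1)))) i χ = y (m + 1) →
      Sheaf.H.map ((SheafOfModules.toSheaf X.ringCatSheaf).map (ClSub.toSubscheme (𝓘 ^ (m + 1)))) i χ = y m := by
    intro m χ hχ
    rw [← hy m, ← hχ, ← Lib.LefNFlat.toSubscheme_quotMap (Lef.pow_succ_le 𝓘 m)]
    exact (congrArg (fun g => Sheaf.H.map g i χ) (Functor.map_comp _ _ _)).trans (Sheaf.H.map_comp_apply _ _ _)
  obtain ⟨x, hx⟩ := hsur m₀ le_rfl (y m₀)
  refine ⟨x, fun m => ?_⟩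
  rcases le_total m₀ m with hm | hm
  · induction m, hm using Nat.le_induction with
    | base => exact hx
    | succ m hm ih =>
      obtain ⟨χ, hχ⟩ := hsur (m + 1) (by omega) (y (m + 1))
      have : χ = x := hinj m hm i hi.le ((step m χ hχ).trans ih.symm)
      exact this ▸ hχ
  · exact Nat.decreasingInduction
      (motive := fun j _ => Sheaf.H.map ((SheafOfModules.toSheaf X.ringCatSheaf).map (ClSub.toSubscheme (𝓘 ^ (j + 1)))) i x = y j)
      (fun j _ hj => step j x hj) hx hm

end Groth.Agent.S3359
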