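import Groth.Statements.S3360
import Groth.Agent.Lib.LefAmple.Rel
import Groth.Agent.Lib.LefAmple.Main
import Groth.Agent.S5195

set_option autoImplicit false
universe u
open CategoryTheory CategoryTheory.Limits AlgebraicGeometry
open Lef

namespace Groth.Agent.S3360

/-- Case 'resp.', over an affine base. Let A be a Noetherian ring, X a proper flat A-scheme, 𝓘 a
quasi-coherent ideal whose ideal module is invertible with ample inverse L (𝓘 is cut out by a
regular section of L; X is projective over A), Y = V(𝓘). If every fibre X_s has depth ≥ 2 at each of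
its closed points, then Lef(X, Y) holds: for every open U ⊇ Y and every finite locally free
O_U-module D, Hom(D, O_U) → lim_n Hom(D, O_U/𝓘^(n+1)) is bijective. -/
theorem result (A : Type u) [CommRing A] [IsNoetherianRing A] (X : Scheme.{u}) [X.Over (Spec (CommRingCat.of A))] [IsProper (X ↘ Spec (CommRingCat.of A))] [Flat (X ↘ Spec (CommRingCat.of A))] (𝓘 : X.IdealSheafData) (L : X.Modules) (hL : ClSub.IsInverseOf L (ClSub.idealMod 𝓘)) (hamp : CohB1.IsAmple L) (hdepth : ∀ x : X, IsClosed ({((X ↘ Spec (CommRingCat.of A))).asFiber x} : Set ↥(((X ↘ Spec (CommRingCat.of A))).fiber (((X ↘ Spec (CommRingCat.of A))).base x))) → (2 : ℕ∞) ≤ LocCoh.depth ↑(CInt.fiberStalk (X ↘ Spec (CommRingCat.of A)) x) ↑(CInt.fiberStalk (X ↘ Spec (CommRingCat.of A)) x)) : Lef.LefCond X 𝓘 := by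
  let p := X ↘ Spec (CommRingCat.of A)
  haveI : IsNoetherianRing (CommRingCat.of A : CommRingCat.{u}) := ‹_›
  haveI : IsLocallyNoetherian X := LocallyOfFiniteType.isLocallyNoetherian p
  haveI : CompactSpace X := QuasiCompact.compactSpace_of_compactSpace p
  haveI : IsNoetherian X := ⟨⟩
  refine Lib.LefAmple.lefCond_of_vanish A 𝓘 L hL hamp (fun k => ?_) fun Z hZ hZY z hz =>
    (S5195.result A X 𝓘 L hL hamp Z hZ hZY 2).2 inferInstance hdepth z hz
  obtain ⟨m₀, hv⟩ := Lib.LefAmple.Rel.exists_vanish A hamp hL 1 fun x hx =>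
    lt_of_lt_of_le (by norm_num) (hdepth x hx)
  refine ⟨m₀ + k, fun m hm i hi => ?_⟩
  obtain ⟨q, rfl⟩ := Nat.exists_eq_add_of_le (show k ≤ m by omega)
  haveI := hv q (by omega) i hi
  have hL' := hL
  obtain ⟨eD⟩ := hL'
  let M := ClSub.idealMod 𝓘
  let e : CohB1.tensorMod (CohB1.tensorPow L k) (CohB1.tensorPow M (k + q)) ≅ CohB1.tensorPow M q :=
    Lib.TensorMod.Basic.tensorIso (Iso.refl _) (Lib.Ample.Pow.powAdd M k q) ≪≫
      (Lib.TensorMod.Basic.assoc _ _ _).symm ≪≫
      Lib.TensorMod.Basic.tensorIso ((Lib.Ample.Pow.powTensor L M k).symm ≪≫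
        Lib.Ample.Pow.powIso eD k ≪≫ Lib.Ample.Pow.powUnit X k) (Iso.refl _) ≪≫
      Lib.TensorMod.Basic.leftUnit _
  exact (Lib.Curves.LES.isoK A e i).injective.subsingleton

end Groth.Agent.S3360
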