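import Groth.Statements.S3372
import Groth.Agent.Lib.PuncturedLC.FormalDepth

set_option autoImplicit false
universe u
open CategoryTheory CategoryTheory.Limits AlgebraicGeometry
open Formal

namespace Groth.Agent.S3372

/-- Let A be a Noetherian local ring which is a quotient of a regular ring, and t a member of the
maximal ideal for which A is separated and complete in the t-adic topology; let X be the punctured
spectrum of A and F a coherent O_X-module on which multiplication by t is injective. Let n be a
natural number and assume that for every closed point x of X (the primes p with dim A/p = 1) the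
stalk F_x has depth ≥ n + 1 over O_{X,x}. Then the canonical map H^i(X, F) → lim_k H^i(X,
F/t^(k+1)F) is bijective for i < n and injective for i = n. -/
theorem result (R : Type u) [CommRing R] [IsRegularRing R] (A : Type u) [CommRing A] [IsLocalRing A] [IsNoetherianRing A] (π : R →+* A) (hπ : Function.Surjective π) (t : A) (ht : t ∈ IsLocalRing.maximalIdeal A) [IsAdicComplete (Ideal.span {t}) A] (F : (↑(FEt.puncturedSpec A) : Scheme.{u}).Modules) (hF : Coh.IsCoh F) (hreg : Mono (Formal.smulMod A F t)) (n : ℕ) (hdepth : ∀ x : (↑(FEt.puncturedSpec A) : Scheme.{u}), IsClosed ({x} : Set (↑(FEt.puncturedSpec A) : Scheme.{u})) → ((n + 1 : ℕ) : ℕ∞) ≤ LocCoh.depth ((↑(FEt.puncturedSpec A) : Scheme.{u}).presheaf.stalk x) (F.presheaf.stalk x)) (i : ℕ) : (i < n → Function.Bijective (Formal.toHHlim (Ideal.span {t}) F i)) ∧ (i = n → Function.Injective (Formal.toHHlim (Ideal.span {t}) F i)) := by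
  have hV : FEt.puncturedSpec A = LocCoh.puncturedOpen A (IsLocalRing.maximalIdeal A) :=
    TopologicalSpace.Opens.ext (Set.ext fun q => by
      show q ≠ IsLocalRing.closedPoint A ↔ ¬ ((IsLocalRing.maximalIdeal A : Set A) ⊆ (q.asIdeal : Set A))
      refine not_congr ⟨fun h => by rw [h]; rfl, fun h => ?_⟩
      exact PrimeSpectrum.ext ((IsLocalRing.maximalIdeal.isMaximal A).eq_of_le q.isPrime.ne_top h).symm)
  refine Groth.Agent.Lib.PuncturedLC.FormalDepth.toHHlim_of_depth π hπ t (IsLocalRing.maximalIdeal A) _ hV F hF hreg n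
    (fun x hx => hdepth x ?_) i
  let p : PrimeSpectrum A := (FEt.puncturedSpec A).ι.base x
  have hp : ¬ IsLocalRing.maximalIdeal A ≤ p.asIdeal := fun h =>
    x.2 (PrimeSpectrum.ext ((IsLocalRing.maximalIdeal.isMaximal A).eq_of_le p.isPrime.ne_top h).symm)
  obtain ⟨q, hq, hpq⟩ :=
    (Groth.Agent.Lib.LCFin.FinitenessThm.relCodim_eq_one_iff _ hp).1 hx
  rw [← closure_subset_iff_isClosed]
  intro y hy
  let r : PrimeSpectrum A := (FEt.puncturedSpec A).ι.base y
  have hy' : p ≤ r :=
    (PrimeSpectrum.le_iff_specializes _ _).2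
      ((specializes_iff_mem_closure.2 hy).map (FEt.puncturedSpec A).ι.base.hom.continuous)
  have hne : r ≠ q := fun h =>
    y.2 (h.trans (PrimeSpectrum.ext ((IsLocalRing.maximalIdeal.isMaximal A).eq_of_le q.isPrime.ne_top hq).symm))
  have hyq : r ≤ q :=
    (PrimeSpectrum.asIdeal_le_asIdeal _ _).1 (le_trans (IsLocalRing.le_maximalIdeal (PrimeSpectrum.isPrime _).ne_top) hq)
  rcases hy'.eq_or_lt with h | h
  · exact (FEt.puncturedSpec A).ι.isOpenEmbedding.injective h.symm
  · exact absurd (lt_of_le_of_ne hyq hne) (hpq.2 h)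

end Groth.Agent.S3372
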