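import Groth.Statements.S3373
import Groth.Agent.Lib.PrincipalAlg.Main

set_option autoImplicit false
universe u
open CategoryTheory CategoryTheory.Limits AlgebraicGeometry
open FSch

namespace Groth.Agent.S3373

/-- Let A be a Noetherian local ring which is a quotient of a regular ring, t a member of the maximal
ideal for which A is separated and complete in the t-adic topology, X the punctured spectrum of A,
and 𝔉 a coherent module on the formal completion of X along V(t) ∩ X, given as a system (F_N) of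
coherent modules on the closed subschemes X_N = V(t^(N+1)) ∩ X with F_{N+1}|_{X_N} ≅ F_N. Assume (1)
t is 𝔉-regular, expressed on the system by: for every N ≥ 1 the kernel of multiplication by t^N on
F_N equals the image of multiplication by t; and (2) for every closed point y of X_0 the stalk of
F_0 at y has depth ≥ 2 over O_{X_0,y}. Then there is a coherent O_X-module F whose completion along
V(t) ∩ X is isomorphic to 𝔉. -/
theorem result (R : Type u) [CommRing R] [IsRegularRing R] (A : Type u) [CommRing A] [IsLocalRing A] [IsNoetherianRing A] (π : R →+* A) (hπ : Function.Surjective π) (t : A) (ht : t ∈ IsLocalRing.maximalIdeal A) [IsAdicComplete (Ideal.span {t}) A] (𝔐 : FSch.ModSys (FSch.completionAlong (↑(FEt.puncturedSpec A) : Scheme.{u}) ((Spec.map (CommRingCat.ofHom (Ideal.Quotient.mk (Ideal.span {t})))).ker.comap (FEt.puncturedSpec A).ι))) (hcoh : 𝔐.IsCoh) (hreg : ∀ N : ℕ, 1 ≤ N → kernelSubobject (Formal.smulModΓ (𝔐.F N) ((((FSch.completionToX (↑(FEt.puncturedSpec A) : Scheme.{u}) ((Spec.map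 (CommRingCat.ofHom (Ideal.Quotient.mk (Ideal.span {t})))).ker.comap (FEt.puncturedSpec A).ι) N) ≫ (FEt.puncturedSpec A).ι).appTop.hom ((Scheme.ΓSpecIso (CommRingCat.of A)).inv t)) ^ N)) = imageSubobject (Formal.smulModΓ (𝔐.F N) (((FSch.completionToX (↑(FEt.puncturedSpec A) : Scheme.{u}) ((Spec.map (CommRingCat.ofHom (Ideal.Quotient.mk (Ideal.span {t})))).ker.comap (FEt.puncturedSpec A).ι) N) ≫ (FEt.puncturedSpec A).ι).appTop.hom ((Scheme.ΓSpecIso (CommRingCat.of A)).inv t)))) (hdepth : ∀ y : ↥((FSch.completionAlong (↑(FEt.puncturedSpec A) : Scheme.{u}) ((Spec.map (CommRingCat.ofHom (Ideal.Quotient.mk (Ideal.span {t})))).ker.comap (FEt.puncturedSpec A).ι)).X 0), IsClosed ({y} : Set ↥((FSch.completionAlong (↑(FEt.puncturedSpec A) : Scheme.{u}) ((Spec.map (CommRingCat.ofHom (Ideal.Quotient.mk (Ideal.span {t})))).ker.comap (FEt.puncturedSpec A).ι)).X 0)) → (2 : ℕ∞) ≤ LocCoh.depth (((FSch.completionAlong (↑(FEt.puncturedSpec A) : Scheme.{u}) ((Spec.map (CommRingCat.ofHom (Ideal.Quotient.mk (Ideal.span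 {t})))).ker.comap (FEt.puncturedSpec A).ι)).X 0).presheaf.stalk y) ((𝔐.F 0).presheaf.stalk y)) : ∃ F : (↑(FEt.puncturedSpec A) : Scheme.{u}).Modules, Coh.IsCoh F ∧ Nonempty (FSch.completionMod ((Spec.map (CommRingCat.ofHom (Ideal.Quotient.mk (Ideal.span {t})))).ker.comap (FEt.puncturedSpec A).ι) F ≅ 𝔐) := by
  have hV : FEt.puncturedSpec A = LocCoh.puncturedOpen A (IsLocalRing.maximalIdeal A) :=
    TopologicalSpace.Opens.ext (Set.ext fun q => by
      show q ≠ IsLocalRing.closedPoint A ↔ ¬ ((IsLocalRing.maximalIdeal A : Set A) ⊆ (q.asIdeal : Set A))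
      refine not_congr ⟨fun h => by rw [h]; rfl, fun h => ?_⟩
      exact PrimeSpectrum.ext ((IsLocalRing.maximalIdeal.isMaximal A).eq_of_le q.isPrime.ne_top h).symm)
  refine Groth.Agent.Lib.PrincipalAlg.exists_completionMod_iso_of_depth π hπ t (IsLocalRing.maximalIdeal A) _ hV _
    rfl 𝔐 hcoh hreg fun z hx => hdepth z ?_
  let i := FSch.completionToX (↑(FEt.puncturedSpec A) : Scheme.{u})
    ((Spec.map (CommRingCat.ofHom (Ideal.Quotient.mk (Ideal.span {t})))).ker.comap (FEt.puncturedSpec A).ι) 0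
  let x := i.base z
  let p : PrimeSpectrum A := (FEt.puncturedSpec A).ι.base x
  have hp : ¬ IsLocalRing.maximalIdeal A ≤ p.asIdeal := fun h =>
    x.2 (PrimeSpectrum.ext ((IsLocalRing.maximalIdeal.isMaximal A).eq_of_le p.isPrime.ne_top h).symm)
  obtain ⟨q, hq, hpq⟩ :=
    (Groth.Agent.Lib.LCFin.FinitenessThm.relCodim_eq_one_iff _ hp).1 hx
  have hclosed : IsClosed ({x} : Set (↑(FEt.puncturedSpec A) : Scheme.{u})) := by
    rw [← closure_subset_iff_isClosed]
    intro y hy
    let r : PrimeSpectrum A := (FEt.puncturedSpec A).ι.base y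
    have hy' : p ≤ r :=
      (PrimeSpectrum.le_iff_specializes _ _).2
        ((specializes_iff_mem_closure.2 hy).map (FEt.puncturedSpec A).ι.base.hom.continuous)
    have hne : r ≠ q := fun h =>
      y.2 (h.trans (PrimeSpectrum.ext ((IsLocalRing.maximalIdeal.isMaximal A).eq_of_le q.isPrime.ne_top hq).symm))
    have hyq : r ≤ q :=
      (PrimeSpectrum.asIdeal_le_asIdeal _ _).1 (le_trans (IsLocalRing.le_maximalIdeal (PrimeSpectrum.isPrime _).ne_top) hq)
    rcases hy'.eq_or_lt with h | h
    · exact (FEt.puncturedSpec A).ι.isOpenEmbedding.injective h.symm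
    · exact absurd (lt_of_le_of_ne hyq hne) (hpq.2 h)
  convert hclosed.preimage i.continuous using 1
  exact Set.ext fun w => ⟨fun hw => congrArg i.base hw, fun hw => i.isEmbedding.injective hw⟩

end Groth.Agent.S3373
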