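import Groth.Statements.S3374
import Groth.Agent.Lib.LefNFlat.Main

set_option autoImplicit false
universe u
open CategoryTheory CategoryTheory.Limits AlgebraicGeometry
open LefX

namespace Groth.Agent.S3374

/-- Let A be a Noetherian local ring, J a proper ideal such that (i) A/J has depth ≥ 3, (ii) every
J^n/J^(n+1) is a free A/J-module (gr_J(A) is free over A/J), (iii) A is separated and complete for
the J-adic topology. Let U be the punctured spectrum of A, U_0 = U ∩ V(J) and Û the completion of U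
along U_0. Then (a) for every finite locally free O_U-module D the map Hom(D, O_U) → lim_n Hom(D,
O_U/J^(n+1)O_U) is bijective (the completion functor is fully faithful on finite locally free
modules), and (b) every levelwise finite locally free system of coherent modules on Û is isomorphic
to the completion of a coherent (not necessarily locally free) O_U-module. -/
theorem result (A : Type u) [CommRing A] [IsLocalRing A] [IsNoetherianRing A] (J : Ideal A) (hJ : J ≠ ⊤) [IsLocalRing (A ⧸ J)] (hd : (3 : ℕ∞) ≤ LocCoh.depth (A ⧸ J) (A ⧸ J)) (hgr : ∀ n : ℕ, Module.Free (A ⧸ J) (↥(J ^ n) ⧸ (J • (⊤ : Submodule A ↥(J ^ n))))) [IsAdicComplete J A] : (∀ D : (↑(FEt.puncturedSpec A) : Scheme.{u}).Modules, FlatMod.IsFinLocFree D → Lef.HomToFormalBijective ((Spec.map (CommRingCat.ofHom (Ideal.Quotient.mk J))).ker.comap (FEt.puncturedSpec A).ι) D) ∧ (∀ 𝔐 : FSch.ModSys (FSch.completionAlong (↑(FEt.puncturedSpec A) : Scheme.{u}) ((Spec.map (CommRingCat.ofHom (Ideal.Quotient.mk J))).ker.comap (FEt.puncturedSpec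 A).ι)), LefX.LevelwiseFinLocFree 𝔐 → ∃ F : (↑(FEt.puncturedSpec A) : Scheme.{u}).Modules, Coh.IsCoh F ∧ Nonempty (FSch.completionMod ((Spec.map (CommRingCat.ofHom (Ideal.Quotient.mk J))).ker.comap (FEt.puncturedSpec A).ι) F ≅ 𝔐)) := by
  have hnf := Groth.Agent.Lib.LefNFlat.isNormallyFlat_of_pow J fun n => by
    haveI := hgr n
    infer_instance
  have hd' : (3 : ℕ∞) ≤ LocCoh.idealDepth (IsLocalRing.maximalIdeal A) (A ⧸ J) :=
    le_of_le_of_eq hd (Groth.Agent.Lib.Depth.Basic.depth_eq_of_surjective (R := A) (S := A ⧸ J)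
      (M := A ⧸ J) Ideal.Quotient.mk_surjective).symm
  rw [Groth.Agent.Lib.Depth.Local.idealDepth_eq_iInf] at hd'
  refine Groth.Agent.Lib.LefNFlat.lef_and_algebraization J hnf (IsLocalRing.maximalIdeal A)
    (fun p hp _ => (le_trans hd' (iInf₂_le p hp)).trans_eq (Groth.Agent.Lib.PuncturedLC.Flat.depth_quot J p))
    (fun p hp hpJ => absurd ((IsLocalRing.le_maximalIdeal hJ).trans hp) hpJ) _ ?_
  refine TopologicalSpace.Opens.ext (Set.ext fun q => ?_)
  show q ≠ IsLocalRing.closedPoint A ↔ ¬ ((IsLocalRing.maximalIdeal A : Set A) ⊆ (q.asIdeal : Set A))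
  refine not_congr ⟨fun h => by rw [h]; rfl, fun h => ?_⟩
  exact PrimeSpectrum.ext ((IsLocalRing.maximalIdeal.isMaximal A).eq_of_le q.isPrime.ne_top h).symm

end Groth.Agent.S3374
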