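import Groth.Statements.S3377
import Groth.Agent.H91.FibreDepth.Ring
import Groth.Agent.H88.DepthTwo
import Groth.Agent.H26.FibreDim
import Groth.Agent.Lib.Unram.UnibranchEtale
import Groth.Agent.Lib.Flat55.ComponentModel

set_option autoImplicit false
universe u
open CategoryTheory CategoryTheory.Limits AlgebraicGeometry Opposite
open EtDepth

namespace Groth.Agent.S3377

theorem exists_open_subset_closure {S : Scheme.{u}} [IsLocallyNoetherian S] (s : S)
    (hs : ringKrullDim (S.presheaf.stalk s) = 0) :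
    ∃ O : Set S, IsOpen O ∧ s ∈ O ∧ O ⊆ closure {s} := by
  have hmax : IsMax s := by
    rw [ringKrullDim_stalk_eq_coheight] at hs
    exact Order.coheight_eq_zero.mp (by exact_mod_cast hs)
  have heq : ∀ y : S, y ⤳ s → y = s := fun y hy => (Specializes.antisymm (show s ⤳ y from hmax (b := y) hy) hy).eq.symm
  obtain ⟨V, hV, hsV, hN⟩ := Lib.FEt.DepthTwo.locNoetherian_scheme (X := S) s
  haveI := hN
  haveI : QuasiSober V := hV.isOpenEmbedding_subtypeVal.quasiSober
  let Z : Set V := ⋃ T ∈ {T ∈ irreducibleComponents V | (⟨s, hsV⟩ : V) ∉ T}, T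
  have hfin : (irreducibleComponents V).Finite := TopologicalSpace.NoetherianSpace.finite_irreducibleComponents
  have hZ : IsClosed Z := (hfin.subset fun T hT => hT.1).isClosed_biUnion
    fun T hT => isClosed_of_mem_irreducibleComponents T hT.1
  refine ⟨Subtype.val '' Zᶜ, hV.isOpenEmbedding_subtypeVal.isOpenMap _ hZ.isOpen_compl,
    ⟨⟨s, hsV⟩, fun h => ?_, rfl⟩, ?_⟩
  · obtain ⟨T, hT, hsT⟩ := Set.mem_iUnion₂.mp h
    exact hT.2 hsT
  · rintro _ ⟨w, hw, rfl⟩
    have hsT : (⟨s, hsV⟩ : V) ∈ irreducibleComponent w := by_contra fun h =>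
      hw (Set.mem_biUnion ⟨irreducibleComponent_mem_irreducibleComponents w, h⟩ mem_irreducibleComponent)
    obtain ⟨η, hη⟩ := QuasiSober.sober (isIrreducible_irreducibleComponent (x := w)) isClosed_irreducibleComponent
    have h1 : η.1 = s := heq _ ((hη.specializes hsT).map continuous_subtype_val)
    have h2 := (hη.specializes mem_irreducibleComponent).map continuous_subtype_val
    rw [h1] at h2
    exact h2.mem_closure

theorem isReduced_fiber {X S : Scheme.{u}} (f : X ⟶ S) (s : S)
    (h : AlgebraicGeometry.geometrically (fun Z : Scheme.{u} => IsReduced Z) (f.fiberToSpecResidueField s)) :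
    IsReduced (f.fiber s) :=
  h (K := S.residueField s) (𝟙 _) (𝟙 _) (f.fiberToSpecResidueField s) (IsPullback.of_horiz_isIso ⟨by simp⟩)

theorem fiberMap_isPullback {X Y S : Scheme.{u}} (g : X ⟶ Y) (f : Y ⟶ S) (s : S) :
    IsPullback ((g ≫ f).fiberι s) (CInt.fiberMap g f s) g (f.fiberι s) := by
  have hπ : CInt.fiberMap g f s ≫ f.fiberToSpecResidueField s = (g ≫ f).fiberToSpecResidueField s :=
    (pullback.lift_snd _ _ _).trans (Category.comp_id _)
  refine IsPullback.of_bot ?_ (pullback.lift_fst _ _ _).symm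
    (IsPullback.of_hasPullback f (S.fromSpecResidueField s))
  have hb := IsPullback.of_hasPullback (g ≫ f) (S.fromSpecResidueField s)
  exact hπ.symm ▸ hb

theorem isDomain_of_unibranch {R : Type u} [CommRing R] [IsLocalRing R] [_root_.IsReduced R]
    (h : CAlg2.IsGeomUnibranch R) : IsDomain R :=
  haveI : IsDomain (CAlg2.red R) := h.1.1
  ((Ideal.quotEquivOfEq (nilradical_eq_zero R)).trans (RingEquiv.quotientBot R)).toMulEquiv.symm.isDomain _

theorem fibre_props {X S : Scheme.{u}} (f : X ⟶ S)
    (hsep : ∀ s : S, AlgebraicGeometry.geometrically (fun Z : Scheme.{u} => IsReduced Z) (f.fiberToSpecResidueField s))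
    {V : Scheme.{u}} (g : V ⟶ X) [Etale g] (v : V) :
    _root_.IsReduced (CInt.fiberStalk (g ≫ f) v) ∧
      (CAlg2.IsGeomUnibranch (CInt.fiberStalk f (g v)) → IsDomain (CInt.fiberStalk (g ≫ f) v)) := by
  let s : S := (g ≫ f) v
  let m := CInt.fiberMap g f s
  haveI : Etale m := MorphismProperty.of_isPullback (fiberMap_isPullback g f s) ‹Etale g›
  haveI : IsReduced (f.fiber s) := isReduced_fiber f s (hsep s)
  haveI : IsReduced ((g ≫ f).fiber s) := Lib.Flat55.ComponentModel.isReduced_of_etale m
  refine ⟨inferInstanceAs (_root_.IsReduced (((g ≫ f).fiber s).presheaf.stalk ((g ≫ f).asFiber v))), fun hu => ?_⟩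
  have hpt : m ((g ≫ f).asFiber v) = f.asFiber (g v) := by
    refine (f.fiberι s).isEmbedding.injective ?_
    have h1 := congrArg (fun k => k.base ((g ≫ f).asFiber v)) (fiberMap_isPullback g f s).w
    exact h1.symm.trans ((congrArg g.base ((g ≫ f).fiberι_asFiber v)).trans (f.fiberι_asFiber (g v)).symm)
  have hu' : CAlg2.IsGeomUnibranch ((f.fiber s).presheaf.stalk (m ((g ≫ f).asFiber v))) := by
    rw [hpt]; exact hu
  exact (Lib.Unram.UnibranchEtale.isDomain_and_isGeomUnibranch m ((g ≫ f).asFiber v)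
    (isDomain_of_unibranch hu') hu' ⟨⊤, trivial, inferInstance⟩).1

theorem one_le_dim {X S : Scheme.{u}} [IsLocallyNoetherian X] (f : X ⟶ S)
    {V : Scheme.{u}} [IsLocallyNoetherian V] (g : V ⟶ X) [Flat g] (v : V)
    (h : (1 : WithBot ℕ∞) ≤ ringKrullDim (CInt.fiberStalk f (g v))) :
    (1 : WithBot ℕ∞) ≤ ringKrullDim (CInt.fiberStalk (g ≫ f) v) := by
  rw [(H26.FibreDim.dim_fiberStalk_comp g f v).2 inferInstance]
  exact h.trans (le_add_of_nonneg_right ringKrullDim_nonneg_of_nontrivial)

theorem isConnected_generizations_of_flat {V S : Scheme.{u}} [IsLocallyNoetherian V] [IsLocallyNoetherian S]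
    (h : V ⟶ S) [Flat h] (v : V) (hred : _root_.IsReduced (CInt.fiberStalk h v))
    (hd : (1 : WithBot ℕ∞) ≤ ringKrullDim (CInt.fiberStalk h v))
    (hab : ringKrullDim (S.presheaf.stalk (h v)) ≠ 0 ∨ IsDomain (CInt.fiberStalk h v)) :
    _root_.IsConnected {y | y ⤳ v ∧ y ≠ v} := by
  let A := S.presheaf.stalk (h v)
  let B := V.presheaf.stalk v
  letI : Algebra A B := (h.stalkMap v).hom.toAlgebra
  haveI : IsLocalHom (algebraMap A B) := inferInstanceAs (IsLocalHom (h.stalkMap v).hom)
  haveI : Module.Flat A B := Flat.stalkMap h v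
  let e := H46.FiberStalk.quotientEquiv h v
  haveI : _root_.IsReduced (B ⧸ (IsLocalRing.maximalIdeal A).map (algebraMap A B)) :=
    haveI := hred; isReduced_of_injective e.toRingHom e.injective
  have hc := Groth.Agent.H91.FibreDepth.isConnected_punctured_flat (A := A) (B := B)
    (hd.trans_eq (ringKrullDim_eq_of_ringEquiv e).symm) (hab.imp (fun hne hmin => hne (by
      rw [← IsLocalRing.maximalIdeal_height_eq_ringKrullDim, Ideal.height_eq_zero_iff.mpr hmin]; rfl))
      fun hD => @MulEquiv.isDomain _ _ _ _ hD e.toMulEquiv)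
  have heq : {y | y ⤳ v ∧ y ≠ v} = (V.fromSpecStalk v) ''
      {r : PrimeSpectrum (V.presheaf.stalk v) | r.asIdeal ≠ IsLocalRing.maximalIdeal _} := by
    ext y
    constructor
    · rintro ⟨hy, hne⟩
      obtain ⟨r, rfl⟩ : y ∈ Set.range (V.fromSpecStalk v) := by
        rw [Scheme.range_fromSpecStalk]; exact hy
      exact ⟨r, fun e => hne (by
        rw [show r = IsLocalRing.closedPoint (V.presheaf.stalk v) from PrimeSpectrum.ext e,
          Scheme.fromSpecStalk_closedPoint]), rfl⟩
    · rintro ⟨r, hr, rfl⟩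
      refine ⟨?_, fun e => hr ?_⟩
      · exact Scheme.range_fromSpecStalk.le (Set.mem_range_self r)
      · rw [(V.fromSpecStalk v).isEmbedding.injective (e.trans Scheme.fromSpecStalk_closedPoint.symm)]
        rfl
  rw [heq]
  exact hc.image _ (V.fromSpecStalk v).continuous.continuousOn

/-- Let f : X → S be a flat morphism of locally Noetherian schemes with separable (geometrically
reduced) fibres, j : U → X an open immersion with closed complement Y, and assume Y_s is nowhere
dense in X_s for every s, i.e. the local ring of the fibre at every point of Y has dimension ≥ 1.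
Assume moreover either (a) the closure of f(Y) is nowhere dense in S, or (b) for every y ∈ Y the
fibre X_{f(y)} is geometrically unibranch at y. Then the Y-étale depth of X is ≥ 2: for every prime
ℓ the local cohomology sheaves H^0_Y and H^1_Y of the constant sheaf Z/ℓ vanish. -/
theorem result {X U S : Scheme.{u}} [IsLocallyNoetherian X] [IsLocallyNoetherian S] (f : X ⟶ S) [Flat f] (hsep : ∀ s : S, AlgebraicGeometry.geometrically (fun Z : Scheme.{u} => IsReduced Z) (f.fiberToSpecResidueField s)) (j : U ⟶ X) [IsOpenImmersion j] [EtCoh.BCCont j] (hY : ∀ y : X, y ∉ Set.range j.base → (1 : WithBot ℕ∞) ≤ ringKrullDim ↑(CInt.fiberStalk f y)) (hab : IsNowhereDense (f.base '' (Set.range j.base)ᶜ) ∨ ∀ y : X, y ∉ Set.range j.base → CAlg2.IsGeomUnibranch ↑(CInt.fiberStalk f y)) (ℓ : ℕ) (hℓ : ℓ.Prime) : EtDepth.DepthGE j (EtCoh.const X (ZMod ℓ)) 2 := by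
  haveI : NeZero ℓ := ⟨hℓ.ne_zero⟩
  have hpunct : ∀ (V : X.Etale) (v : V.left), v ∉ V.hom.base ⁻¹' Set.range j.base →
      _root_.IsConnected {y | y ⤳ v ∧ y ≠ v} := by
    intro V v hv
    let g : V.left ⟶ X := V.hom
    haveI : Etale g := V.prop
    haveI : IsLocallyNoetherian V.left := LocallyOfFiniteType.isLocallyNoetherian g
    have hp := fibre_props f hsep g v
    refine isConnected_generizations_of_flat (g ≫ f) v hp.1 (one_le_dim f g v (hY _ hv))
      (hab.imp (fun ha h0 => ?_) fun hb => hp.2 (hb _ hv))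
    obtain ⟨O, hO, hsO, hsub⟩ := exists_open_subset_closure ((g ≫ f) v) h0
    have hmem : (g ≫ f) v ∈ f.base '' (Set.range j.base)ᶜ := ⟨g v, hv, rfl⟩
    have : (g ≫ f) v ∈ interior (closure (f.base '' (Set.range j.base)ᶜ)) :=
      mem_interior.2 ⟨O, hsub.trans (closure_mono (Set.singleton_subset_iff.2 hmem)), hO, hsO⟩
    rw [show interior (closure (f.base '' (Set.range j.base)ᶜ)) = ∅ from ha] at this
    exact this
  refine H88.DepthTwo.depth_two_of_extends j ?_ ?_ ℓ
  · intro V D hD hDA
    refine Set.eq_empty_iff_forall_notMem.2 fun v hv => ?_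
    obtain ⟨η, hη, hηv⟩ := Lib.FEt.DepthTwo.exists_mem_specializes (hpunct V) v
    exact Set.eq_empty_iff_forall_notMem.1 hDA η ⟨hηv.mem_open hD.isOpen hv, hη⟩
  · intro V C hC hCo hCc
    let g : V.left ⟶ X := V.hom
    haveI : Etale g := V.prop
    haveI : IsLocallyNoetherian V.left := LocallyOfFiniteType.isLocallyNoetherian g
    exact Lib.FEt.DepthTwo.exists_isClopen_inter (hpunct V) Lib.FEt.DepthTwo.locNoetherian_scheme hC hCo hCc

end Groth.Agent.S3377
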