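import Groth.Statements.S3378
import Groth.Agent.S3374
import Groth.Agent.S3354
import Groth.Agent.S9489
import Groth.Agent.H95.LefConn
import Groth.Agent.Lib.FEt.DepthTwo
import Groth.Agent.H80.Clopen.GrFree
import Groth.Agent.H80.Clopen.LinePunctured

set_option autoImplicit false
universe u
open CategoryTheory CategoryTheory.Limits AlgebraicGeometry
open LefX

namespace Groth.Agent.S3378

/-- Let A be a Noetherian local ring, J a proper ideal with (i) depth A/J ≥ 3, (ii) every J^n/J^(n+1)
free over A/J, (iii) A separated and complete for the J-adic topology. Let U be the punctured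
spectrum of A and U_0 = U ∩ V(J), the closed subscheme of U defined by J. Then (a) U and U_0 are
connected and restriction of finite étale covers from U to U_0 is fully faithful (π₁(U_0) → π₁(U) is
surjective), and (b) the pull-back map Pic(U) → Pic(U_0) has trivial kernel. -/
theorem result (A : Type u) [CommRing A] [IsLocalRing A] [IsNoetherianRing A] (J : Ideal A) (hJ : J ≠ ⊤) [IsLocalRing (A ⧸ J)] (hd : (3 : ℕ∞) ≤ LocCoh.depth (A ⧸ J) (A ⧸ J)) (hgr : ∀ n : ℕ, Module.Free (A ⧸ J) (↥(J ^ n) ⧸ (J • (⊤ : Submodule A ↥(J ^ n))))) [IsAdicComplete J A] : (ConnectedSpace ↥(FEt.puncturedSpec A) ∧ ConnectedSpace ↥(((Spec.map (CommRingCat.ofHom (Ideal.Quotient.mk J))).ker.comap (FEt.puncturedSpec A).ι).subscheme) ∧ (FEt.restrict ((Spec.map (CommRingCat.ofHom (Ideal.Quotient.mk J))).ker.comap (FEt.puncturedSpec A).ι).subschemeι).Full ∧ (FEt.restrict ((Spec.map (CommRingCat.ofHom (Ideal.Quotient.mk J))).ker.comap (FEt.puncturedSpec A).ι).subschemeι).Faithful) ∧ Formal2.PicPullbackInjective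 ((Spec.map (CommRingCat.ofHom (Ideal.Quotient.mk J))).ker.comap (FEt.puncturedSpec A).ι).subschemeι := by
  let U : (Spec (CommRingCat.of A)).Opens := FEt.puncturedSpec A
  let q : Spec (CommRingCat.of (A ⧸ J)) ⟶ Spec (CommRingCat.of A) :=
    Spec.map (CommRingCat.ofHom (Ideal.Quotient.mk J))
  have hO := (Groth.Agent.S3374.result A J hJ hd hgr).1 _
    (Groth.Agent.H95.LefConn.isFinLocFree_structure (U : Scheme.{u}))
  haveI : IsNoetherianRing (CommRingCat.of A : CommRingCat.{u}) := ‹_›
  haveI : CompactSpace (U : Scheme.{u}) :=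
    isCompact_iff_compactSpace.1 (TopologicalSpace.NoetherianSpace.isCompact _)
  haveI : (U : Scheme.{u}).IsQuasiAffine := Scheme.IsQuasiAffine.of_isImmersion U.ι
  haveI : IsLocallyNoetherian (U : Scheme.{u}) := inferInstance
  haveI : IsNoetherian (U : Scheme.{u}) := ⟨⟩
  have hdA : (2 : ℕ∞) ≤ LocCoh.depth A A :=
    le_trans (by norm_num) (Groth.Agent.H80.Clopen.three_le_depth_of_gr_free J hJ hd hgr)
  haveI hU : ConnectedSpace (U : Scheme.{u}) := by
    refine isConnected_iff_connectedSpace.1 ?_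
    have e : (SetLike.coe U : Set (PrimeSpectrum A)) = {p : PrimeSpectrum A | p.asIdeal ≠ IsLocalRing.maximalIdeal A} :=
      Set.ext fun p => not_congr ⟨fun h => congrArg PrimeSpectrum.asIdeal h, fun h => PrimeSpectrum.ext h⟩
    have h2 := Groth.Agent.Lib.FEt.DepthTwo.isConnected_punctured hdA
    rw [← e] at h2
    exact h2
  let 𝓘 := q.ker.comap U.ι
  refine ⟨⟨hU, ?_, Groth.Agent.S9489.result (U : Scheme.{u}) 𝓘 (Or.inl ⟨inferInstance, hO⟩)⟩, fun L hL htriv => ?_⟩
  · have h1 : _root_.IsConnected (𝓘.support : Set (U : Scheme.{u})) := ⟨Set.nonempty_iff_ne_empty.2 fun he =>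
      (Groth.Agent.H95.LefConn.isEmpty_of_support_empty 𝓘 hO he).false (Classical.arbitrary _),
      Groth.Agent.H95.LefConn.isPreconnected_support_of_univ 𝓘 hO isPreconnected_univ⟩
    rw [← Scheme.IdealSheafData.range_subschemeι, ← Set.image_univ] at h1
    haveI : Nonempty 𝓘.subscheme := h1.nonempty.of_image.to_type
    haveI : PreconnectedSpace 𝓘.subscheme :=
      ⟨𝓘.subschemeι.isEmbedding.isInducing.isPreconnected_image.1 h1.2⟩
    exact ⟨inferInstance⟩
  · refine Groth.Agent.H80.Clopen.trivial_of_pullback J hJ hd hgr L hL fun s hs => ?_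
    obtain ⟨φ⟩ := htriv
    let U₀ := FEt.puncturedSpec (A ⧸ J)
    let i := 𝓘.subschemeι
    let j : (U₀ : Scheme.{u}) ⟶ 𝓘.subscheme :=
      pullback.lift s (U₀.ι ≫ q.toImage) (by
        rw [Category.assoc]; exact hs.trans (congrArg (U₀.ι ≫ ·) q.toImage_imageι.symm)) ≫
        (q.ker.comapIso U.ι).inv
    have hj : j ≫ i = s := by
      show (pullback.lift s (U₀.ι ≫ q.toImage) _ ≫ (q.ker.comapIso U.ι).inv) ≫ (q.ker.comap U.ι).subschemeι = s
      rw [Category.assoc, Scheme.IdealSheafData.comapIso_inv_subschemeι, pullback.lift_fst]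
    rw [← hj]
    exact ⟨((Scheme.Modules.pullbackComp j i).app L).symm ≪≫
      (Scheme.Modules.pullback j).mapIso φ ≪≫ PicLoc.pullbackStructureIso j⟩

end Groth.Agent.S3378
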