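import Groth.Statements.S3386
import Groth.Agent.H46.AffineFib
-- import your own Groth.Agent.* helpers here

set_option autoImplicit false
open CategoryTheory AlgebraicGeometry
universe u
open EGA43

namespace Groth.Agent.S3386

open Groth.Agent.Lib.Cyc Groth.Agent.H46.FibreTrdeg in
theorem a_imp_b {X Y : Scheme.{u}} (f : X ⟶ Y) [LocallyOfFiniteType f] (x : X)
    (hf : EGA43.IsEquidimAt f x) :
    ∃ (e : ℕ) (U : X.Opens) (g : (U : Scheme.{u}) ⟶ 𝔸(ULift.{u} (Fin e); Y)),
      x ∈ U ∧ g ≫ (𝔸(ULift.{u} (Fin e); Y) ↘ Y) = U.ι ≫ f ∧ LocallyQuasiFinite g ∧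
      ∀ Z ∈ irreducibleComponents (↥U : Type u),
        closure (g.base '' Z) ∈ irreducibleComponents (↥𝔸(ULift.{u} (Fin e); Y) : Type u) := by
  obtain ⟨e₀, U₀, hx, hdom, hdim⟩ := Groth.Agent.H46.Equidim.exists_of_isEquidimAt f hf
  obtain ⟨R, A, _, _, _, _, v, w, _, _, P, hw, rfl, hwO⟩ :=
    Groth.Agent.Lib.FibreDim.Chart.exists_chart f x U₀ hx
  obtain ⟨s, a, hs, hqf⟩ :=
    Groth.Agent.Lib.FibreDim.Semicont.exists_quasiFiniteAt_aeval (R := R) P
  let G := Spec.map (CommRingCat.ofHom (MvPolynomial.aeval (R := R) a).toRingHom)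
  have : LocallyOfFiniteType G := Groth.Agent.Lib.FibreDim.Semicont.locallyOfFiniteType_aeval a
  let O := G.quasiFiniteLocus
  let U := w ''ᵁ O
  have hxU : w P ∈ U := ⟨P, hqf, rfl⟩
  have hUU₀ : ∀ ξ ∈ U, ξ ∈ U₀ := by
    rintro _ ⟨Q, -, rfl⟩
    exact hwO ⟨Q, rfl⟩
  let n := ULift.{u} (Fin s)
  let ε := (MvPolynomial.renameEquiv R (Equiv.ulift.{u} : n ≃ Fin s)).toRingEquiv.toCommRingCatIso
  have hε : CommRingCat.ofHom MvPolynomial.C ≫ ε.hom ≫
      CommRingCat.ofHom (MvPolynomial.aeval (R := R) a).toRingHom =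
      CommRingCat.ofHom (algebraMap R A) := by
    ext r
    simp [ε]
  let g : (U : Scheme.{u}) ⟶ 𝔸(n; Y) :=
    (w.isoImage O).inv ≫ (O.ι ≫ G) ≫ Spec.map ε.hom ≫ (AffineSpace.SpecIso n (.of R)).inv ≫
      AffineSpace.map n v
  haveI : IsOpenImmersion (AffineSpace.map n v) :=
    MorphismProperty.of_isPullback (AffineSpace.isPullback_map v).flip ‹_›
  have hgo : g ≫ (𝔸(n; Y) ↘ Y) = U.ι ≫ f := by
    simp only [g, Category.assoc, AffineSpace.map_over, AffineSpace.SpecIso_inv_over_assoc]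
    rw [← Spec.map_comp_assoc, ← Spec.map_comp_assoc, hε, hw,
      ← Scheme.Hom.isoImage_inv_ι w O]
    simp only [Category.assoc]
  haveI : LocallyQuasiFinite g := by unfold g; infer_instance
  haveI : LocallyOfFiniteType (g ≫ (𝔸(n; Y) ↘ Y)) := by rw [hgo]; infer_instance
  haveI : LocallyOfFiniteType g := locallyOfFiniteType_of_comp g (𝔸(n; Y) ↘ Y)
  have hcard : Nat.card n = s := by simp [n]
  have htrd : ∀ q : (U : Scheme.{u}), trd f (U.ι q) = trd (𝔸(n; Y) ↘ Y) (g q) := fun q => by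
    rw [← trd_comp f U.ι, ← hgo, Groth.Agent.H46.AffineFib.trd_comp',
      Groth.Agent.H46.AffineFib.trd_eq_zero_of_locallyQuasiFinite g, add_zero]
  have hse : s ≤ e₀ := by
    obtain ⟨e, he, hev⟩ := Groth.Agent.Lib.FibreDim.Chart.exists_isOpenEmbedding f v w hw
      (PrimeSpectrum.comap (algebraMap R A) P)
    let V := w.opensRange
    have h1 : topologicalKrullDim ↥((V : Set X) ∩ f ⁻¹' {v (PrimeSpectrum.comap (algebraMap R A) P)})
        ≤ (e₀ : WithBot ℕ∞) := by
      rw [dim_open_inter_le_iff]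
      intro ξ hξ _
      obtain ⟨ζ, hζ, hζξ, hmax⟩ := exists_isMaxFib_specializes f ξ
      exact (trd_le f hζξ hζ).trans (hdim ζ (hζξ.mem_open U₀.2 (hwO hξ)) hmax).le
    let i : PrimeSpectrum ((PrimeSpectrum.comap (algebraMap R A) P).asIdeal.Fiber A) →
        ↥((V : Set X) ∩ f ⁻¹' {v (PrimeSpectrum.comap (algebraMap R A) P)}) :=
      fun z => ⟨(e z).1, ⟨_, (hev z).symm⟩, (e z).2⟩
    have hi : Topology.IsInducing i := by
      refine (Topology.IsInducing.subtypeVal.of_comp_iff).1 ?_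
      have e1 := (Topology.IsInducing.subtypeVal (t := f ⁻¹' {v (PrimeSpectrum.comap (algebraMap R A) P)})).comp
        he.isEmbedding.isInducing
      exact e1
    have h2 := hs.le.trans ((PrimeSpectrum.topologicalKrullDim_eq_ringKrullDim _).ge.trans
      (hi.topologicalKrullDim_le.trans h1))
    exact_mod_cast h2
  refine ⟨s, U, g, hxU, hgo, inferInstance, fun Z hZ => ?_⟩
  obtain ⟨q, hq, rfl⟩ : ∃ q : (U : Scheme.{u}), DimFun.IsMaxPt q ∧ closure {q} = Z :=
    Groth.Agent.H46.Equidim.exists_generic_of_mem_irreducibleComponents hZ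
  rw [Groth.Agent.H46.Equidim.closure_image_closure']
  have hmax : DimFun.IsMaxPt (U.ι q) := fun y hy => by
    obtain ⟨v', rfl⟩ : y ∈ Set.range U.ι := by
      rw [Scheme.Opens.range_ι]; exact hy.mem_open U.2 q.2
    rw [hq v' (U.ι.isEmbedding.isInducing.specializes_iff.1 hy)]
  have hη := (hdom _ (hUU₀ _ q.2) hmax).1
  have hfq : (𝔸(n; Y) ↘ Y) (g q) = f (U.ι q) := by
    rw [← Scheme.Hom.comp_apply, hgo]
    rfl
  have hge : s ≤ trd (𝔸(n; Y) ↘ Y) (g q) := by
    rw [← htrd, hdim (U.ι q) (hUU₀ _ q.2) (Groth.Agent.H46.Equidim.isMaxFib_of_isMaxPt f hmax)]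
    exact hse
  refine FieldDim.closure_mem_irreducibleComponents _ fun q' hq' => ?_
  have hpq : (𝔸(n; Y) ↘ Y) q' = (𝔸(n; Y) ↘ Y) (g q) := by
    rw [hfq]
    exact hη _ (hfq ▸ hq'.map (𝔸(n; Y) ↘ Y).continuous)
  exact eq_of_trd_le _ hq' hpq
    (((Groth.Agent.H46.AffineFib.trd_le_card n Y q').trans_eq hcard).trans hge)

open Groth.Agent.Lib.Cyc Groth.Agent.H46.FibreTrdeg in
theorem b_imp_a {X Y : Scheme.{u}} (f : X ⟶ Y) [LocallyOfFiniteType f] [IsLocallyNoetherian Y]
    (x : X) (e : ℕ) (U : X.Opens) (g : (U : Scheme.{u}) ⟶ 𝔸(ULift.{u} (Fin e); Y)) (hx : x ∈ U)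
    (hgo : g ≫ (𝔸(ULift.{u} (Fin e); Y) ↘ Y) = U.ι ≫ f) [LocallyQuasiFinite g]
    (hg : ∀ Z ∈ irreducibleComponents (↥U : Type u),
      closure (g.base '' Z) ∈ irreducibleComponents (↥𝔸(ULift.{u} (Fin e); Y) : Type u)) :
    EGA43.IsEquidimAt f x := by
  haveI : LocallyOfFiniteType (g ≫ (𝔸(ULift.{u} (Fin e); Y) ↘ Y)) := by rw [hgo]; infer_instance
  haveI : LocallyOfFiniteType g := locallyOfFiniteType_of_comp g (𝔸(ULift.{u} (Fin e); Y) ↘ Y)
  have hcard : Nat.card (ULift.{u} (Fin e)) = e := by simp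
  have htrd : ∀ q : (U : Scheme.{u}),
      trd f (U.ι q) = trd (𝔸(ULift.{u} (Fin e); Y) ↘ Y) (g q) := fun q => by
    rw [← trd_comp f U.ι, ← hgo, Groth.Agent.H46.AffineFib.trd_comp',
      Groth.Agent.H46.AffineFib.trd_eq_zero_of_locallyQuasiFinite g, add_zero]
  have hle : Groth.Agent.H46.DimData.fe f x ≤ e := by
    obtain ⟨ζ, -, hζx, -, he⟩ := Groth.Agent.H46.DimData.exists_fe_eq f x
    obtain ⟨q, rfl⟩ : ζ ∈ Set.range U.ι := by
      rw [Scheme.Opens.range_ι]; exact hζx.mem_open U.2 hx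
    rw [← he, htrd]
    exact (Groth.Agent.H46.AffineFib.trd_le_card _ Y _).trans_eq hcard
  refine Groth.Agent.H46.DimData.isEquidimAt_of_components f x fun ξ hξ hs => ?_
  have hξU : ξ ∈ U := hs.mem_open U.2 hx
  let q : (U : Scheme.{u}) := ⟨ξ, hξU⟩
  have hq : DimFun.IsMaxPt q := fun v hv =>
    U.ι.isEmbedding.injective (hξ _ (hv.map U.ι.continuous))
  have hm : DimFun.IsMaxPt (g q) := by
    apply Groth.Agent.H46.Equidim.isMaxPt_of_closure_mem
    rw [← Groth.Agent.H46.Equidim.closure_image_closure']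
    exact hg _ (FieldDim.closure_mem_irreducibleComponents q hq)
  have hfq : (𝔸(ULift.{u} (Fin e); Y) ↘ Y) (g q) = f ξ := by
    rw [← Scheme.Hom.comp_apply, hgo]
    rfl
  refine ⟨hfq ▸ Groth.Agent.H46.AffineFib.isMaxPt_over _ Y hm,
    le_antisymm (Groth.Agent.H46.DimData.trd_le_fe f hs) (hle.trans ?_)⟩
  rw [show ξ = U.ι q from rfl, htrd, Groth.Agent.H46.AffineFib.trd_of_isMaxPt _ Y hm, hcard]

open CategoryTheory.Limits in
/-- Conditions a) and b): let f : X ⟶ Y be locally of finite type and fix a point x of X. Condition a)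
is equidimensionality of f at x (the definition used here); condition b): there are a natural number
e, an open neighbourhood U of x and a Y-morphism g from U to the affine space of dimension e over Y
which is locally quasi-finite and sends the generic point of every irreducible component of U to the
generic point of an irreducible component of the affine space. Then a) implies b); and b) implies a)
when Y is locally Noetherian. (The source states the equivalence over an arbitrary base; the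
implication b) ⟹ a) uses that irreducible components are locally finite and fails without some such
hypothesis.) -/
theorem result {X Y : Scheme.{u}}
    (f : X ⟶ Y) [LocallyOfFiniteType f] (x : X) :
    (EGA43.IsEquidimAt f x → (∃ (e : ℕ) (U : X.Opens) (g : (U : Scheme.{u}) ⟶ 𝔸(ULift.{u} (Fin e); Y)),
        x ∈ U ∧ g ≫ (𝔸(ULift.{u} (Fin e); Y) ↘ Y) = U.ι ≫ f ∧ LocallyQuasiFinite g ∧
        ∀ Z ∈ irreducibleComponents (↥U : Type u),
          closure (g.base '' Z) ∈ irreducibleComponents (↥𝔸(ULift.{u} (Fin e); Y) : Type u))) ∧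
    (IsLocallyNoetherian Y → (∃ (e : ℕ) (U : X.Opens) (g : (U : Scheme.{u}) ⟶ 𝔸(ULift.{u} (Fin e); Y)),
        x ∈ U ∧ g ≫ (𝔸(ULift.{u} (Fin e); Y) ↘ Y) = U.ι ≫ f ∧ LocallyQuasiFinite g ∧
        ∀ Z ∈ irreducibleComponents (↥U : Type u),
          closure (g.base '' Z) ∈ irreducibleComponents (↥𝔸(ULift.{u} (Fin e); Y) : Type u)) → EGA43.IsEquidimAt f x) := by
  refine ⟨fun h => a_imp_b f x h, ?_⟩
  intro _ h
  obtain ⟨e, U, g, hx, hgo, hqf, hg⟩ := h
  exact b_imp_a f x e U g hx hgo hg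

end Groth.Agent.S3386
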