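import Groth.Statements.S3390
import Groth.Agent.H46.Equidim
import Groth.Agent.H46.DimIneq

set_option autoImplicit false
open CategoryTheory AlgebraicGeometry
universe u
open EGA43

namespace Groth.Agent.S3390

/-- Let Y be an irreducible locally Noetherian scheme with generic point η and X an irreducible scheme,
and let f : X ⟶ Y be dominant and locally of finite type. Take a point x of X and write y = f x.
Suppose dim O_{X,x} = dim O_{Y,y} + dim O_{X_y,x}. Then the local dimension of the fibre X_y at x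
(FlatMor.fibreDimAt f x) equals the dimension of the generic fibre X_η (i.e. f is equidimensional at
x). -/
theorem result {X Y : Scheme.{u}} [IrreducibleSpace X] [IrreducibleSpace Y]
    [IsLocallyNoetherian Y] (f : X ⟶ Y) [LocallyOfFiniteType f] [IsDominant f] (x : X)
    (h : ringKrullDim (X.presheaf.stalk x) =
        ringKrullDim (Y.presheaf.stalk (f.base x)) + ringKrullDim ((f.fiber (f.base x)).presheaf.stalk (f.asFiber x))) :
    FlatMor.fibreDimAt f x = topologicalKrullDim ↥(f.fiber (genericPoint Y)) := by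
  set ξ₀ := genericPoint X with hξ₀
  have hgen : ∀ v, ξ₀ ⤳ v := fun v => genericPoint_specializes v
  have hη : f ξ₀ = genericPoint Y := by
    refine Groth.Agent.H46.Equidim.closure_singleton_inj ?_
    rw [← Groth.Agent.H46.Equidim.closure_image_closure' f ξ₀, genericPoint_closure,
      genericPoint_closure, Set.image_univ, f.denseRange.closure_range]
  have hgenfib : topologicalKrullDim ↥(f.fiber (genericPoint Y)) =
      (Groth.Agent.H46.FibreTrdeg.trd f ξ₀ : WithBot ℕ∞) := by
    refine le_antisymm ?_ (Groth.Agent.H46.FibreTrdeg.trd_le_dim_fiber f ξ₀ _ hη)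
    rw [Groth.Agent.H46.FibreTrdeg.dim_fiber_le_iff]
    exact fun a ha => Groth.Agent.H46.FibreTrdeg.trd_le f (hgen a) (hη.trans ha.symm)
  rw [hgenfib]
  refine le_antisymm ?_ (((Groth.Agent.H46.FibreTrdeg.fibreDimAt_of_isMaxFib f
    (Groth.Agent.H46.Equidim.isMaxFib_of_isMaxPt f
      (fun v hv => (hv.antisymm (hgen v)).eq))).ge).trans
        (Groth.Agent.H46.FibreTrdeg.fibreDimAt_le_of_specializes f (hgen x)))
  obtain ⟨ζ, hζ, hζx, -, he⟩ := Groth.Agent.H46.FibreTrdeg.exists_isMaxFib_trd_eq f x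
  rw [he]
  obtain ⟨m, k, a, b, hm, hk, ha, hb, hineq⟩ := Groth.Agent.H46.DimIneq.trdeg_ineq f ξ₀ x (hgen x)
  rw [Groth.Agent.H46.FibreTrdeg.trdegAt_eq f, Nat.cast_inj] at ha hb
  subst ha hb
  rw [Groth.Agent.H46.Equidim.ringKrullDim_locQuot_of_forall (hgen x) fun y _ => hgen y, h] at hm
  rw [Groth.Agent.H46.Equidim.ringKrullDim_locQuot_of_forall ((hgen x).map f.continuous)
    fun y _ => hη ▸ genericPoint_specializes y] at hk
  rw [hk] at hm
  have h1 := add_le_add (le_refl (k : WithBot ℕ∞))
    (Groth.Agent.H46.Equidim.trd_le_ringKrullDim_add f x ζ hζ hζx)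
  rw [← add_assoc, hm] at h1
  have h2 : k + Groth.Agent.H46.FibreTrdeg.trd f ζ ≤ m + Groth.Agent.H46.FibreTrdeg.trd f x := by
    exact_mod_cast h1
  exact_mod_cast (show Groth.Agent.H46.FibreTrdeg.trd f ζ ≤ Groth.Agent.H46.FibreTrdeg.trd f ξ₀
    by omega)

end Groth.Agent.S3390
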