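import Groth.Statements.S3391
import Groth.Agent.H46.DimData

set_option autoImplicit false
open CategoryTheory AlgebraicGeometry
universe u
open EGA43

namespace Groth.Agent.S3391

/-- With X, Y, f, x, y as in the first assertion, suppose O_{Y,y} is universally catenary and the local
dimension at x of the fibre through x equals the dimension of the generic fibre. Then dim O_{X,x} =
dim O_{Y,y} + dim O_{X_y,x}. -/
theorem result {X Y : Scheme.{u}} [IrreducibleSpace X] [IrreducibleSpace Y]
    [IsLocallyNoetherian Y] (f : X ⟶ Y) [LocallyOfFiniteType f] [IsDominant f] (x : X)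
    (hcat : CAlg.IsUniversallyCatenary (Y.presheaf.stalk (f.base x)))
    (h : FlatMor.fibreDimAt f x = topologicalKrullDim ↥(f.fiber (genericPoint Y))) :
    ringKrullDim (X.presheaf.stalk x) =
        ringKrullDim (Y.presheaf.stalk (f.base x)) + ringKrullDim ((f.fiber (f.base x)).presheaf.stalk (f.asFiber x)) := by
  open Groth.Agent.H46.DimData in
  haveI := LocallyOfFiniteType.isLocallyNoetherian f
  open Groth.Agent.H46.DimData in
  refine (formula_iff f x).2 ?_
  set ξ₀ := genericPoint X with hξ₀
  have hη : f ξ₀ = genericPoint Y := by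
    refine Groth.Agent.H46.Equidim.closure_singleton_inj ?_
    rw [← Groth.Agent.H46.Equidim.closure_image_closure' f ξ₀, genericPoint_closure,
      genericPoint_closure, Set.image_univ, f.denseRange.closure_range]
  have hdim : topologicalKrullDim ↥(f.fiber (genericPoint Y)) =
      (Groth.Agent.H46.FibreTrdeg.trd f ξ₀ : WithBot ℕ∞) :=
    le_antisymm ((Groth.Agent.H46.FibreTrdeg.dim_fiber_le_iff f _ _).2 fun a ha =>
      Groth.Agent.H46.FibreTrdeg.trd_le f (genericPoint_specializes a) (hη.trans ha.symm))
      (Groth.Agent.H46.FibreTrdeg.trd_le_dim_fiber f ξ₀ _ hη)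
  rw [hdim, Groth.Agent.H46.DimData.fibreDimAt_eq, Nat.cast_inj] at h
  have h1 := Groth.Agent.H46.DimData.qd_eq f (genericPoint_specializes x) hcat
  rw [Groth.Agent.H46.DimData.qd_of_isMaxPt _
      (fun b hb => (hb.antisymm (genericPoint_specializes b)).eq),
    Groth.Agent.H46.DimData.qd_of_isMaxPt _
      (fun b hb => (hb.antisymm (show f ξ₀ ⤳ b from hη ▸ genericPoint_specializes b)).eq)] at h1
  have h2 := Groth.Agent.H46.DimData.fd_add_trd f x
  have h3 : H46.FibreTrdeg.trd f ξ₀ = H46.FibreTrdeg.trd f (genericPoint X) := rfl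
  omega

end Groth.Agent.S3391
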