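import Groth.Statements.S3393
import Groth.Agent.H46.DimData

set_option autoImplicit false
open CategoryTheory AlgebraicGeometry
universe u
open EGA43

namespace Groth.Agent.S3393

/-- Let Y be an irreducible locally Noetherian scheme with generic point η, f : X ⟶ Y a morphism of
finite type and y a point of Y. Condition (b): for every point z of the fibre over y at which the
local ring of the fibre has dimension 0, dim O_{X,z} = dim O_{Y,y}. Condition (c): for every such z
there is an irreducible component X' of X containing z such that the dimension of X' ∩ f⁻¹(η)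
(topology induced from X) equals the local dimension at z of the fibre over y (the dimension of the
irreducible component of the fibre with generic point z). Then (b) implies (c), and (c) implies (b)
if O_{Y,y} is universally catenary. -/
theorem result {X Y : Scheme.{u}} [IrreducibleSpace Y] [IsLocallyNoetherian Y]
    (f : X ⟶ Y) [LocallyOfFiniteType f] [QuasiCompact f] (y : Y) :
    ((∀ z : X, f.base z = y → ringKrullDim ((f.fiber (f.base z)).presheaf.stalk (f.asFiber z)) = 0 →
        ringKrullDim (X.presheaf.stalk z) = ringKrullDim (Y.presheaf.stalk (f.base z))) →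
      (∀ z : X, f.base z = y → ringKrullDim ((f.fiber (f.base z)).presheaf.stalk (f.asFiber z)) = 0 →
        ∃ X' ∈ irreducibleComponents (X : Type u), z ∈ X' ∧
          topologicalKrullDim ↥(X' ∩ f.base ⁻¹' {genericPoint Y}) = FlatMor.fibreDimAt f z)) ∧
    (CAlg.IsUniversallyCatenary (Y.presheaf.stalk y) →
      (∀ z : X, f.base z = y → ringKrullDim ((f.fiber (f.base z)).presheaf.stalk (f.asFiber z)) = 0 →
        ∃ X' ∈ irreducibleComponents (X : Type u), z ∈ X' ∧
          topologicalKrullDim ↥(X' ∩ f.base ⁻¹' {genericPoint Y}) = FlatMor.fibreDimAt f z) →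
      (∀ z : X, f.base z = y → ringKrullDim ((f.fiber (f.base z)).presheaf.stalk (f.asFiber z)) = 0 →
        ringKrullDim (X.presheaf.stalk z) = ringKrullDim (Y.presheaf.stalk (f.base z)))) := by
  haveI := LocallyOfFiniteType.isLocallyNoetherian f
  have hη : ∀ {a : Y}, Groth.Agent.Lib.Cyc.DimFun.IsMaxPt a → a = genericPoint Y :=
    fun {a} ha => (ha _ (genericPoint_specializes a)).symm
  refine ⟨fun hb z hz h0 => ?_, fun hcat hc z hz h0 => ?_⟩
  · have hmax := (Groth.Agent.H46.DimData.fd_eq_zero_iff f z).1 (by
      have := (Groth.Agent.H46.DimData.ringKrullDim_fiber f z).symm.trans h0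
      exact_mod_cast this)
    have h1 := hb z hz h0
    rw [Groth.Agent.H46.DimData.ringKrullDim_stalk, Groth.Agent.H46.DimData.ringKrullDim_stalk,
      Nat.cast_inj] at h1
    obtain ⟨ξ, hs, hξ, hfξ, -, htrd⟩ :=
      Groth.Agent.H46.DimData.exists_component_of_sd_eq f hmax h1
    refine ⟨closure {ξ}, Groth.Agent.Lib.Cyc.FieldDim.closure_mem_irreducibleComponents ξ hξ,
      hs.mem_closure, ?_⟩
    rw [Groth.Agent.H46.FibreTrdeg.fibreDimAt_of_isMaxFib f hmax, ← htrd, ← hη hfξ]
    exact Groth.Agent.H46.FibreTrdeg.dim_closure_inter f ξ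
  · have hfd : Groth.Agent.H46.DimData.fd f z = 0 := by
      have := (Groth.Agent.H46.DimData.ringKrullDim_fiber f z).symm.trans h0
      exact_mod_cast this
    have hmax := (Groth.Agent.H46.DimData.fd_eq_zero_iff f z).1 hfd
    obtain ⟨X', hX', hzX', hdim⟩ := hc z hz h0
    obtain ⟨ξ, hξ, rfl⟩ :=
      Groth.Agent.H46.Equidim.exists_generic_of_mem_irreducibleComponents hX'
    have hs : ξ ⤳ z := specializes_iff_mem_closure.2 hzX'
    rw [Groth.Agent.H46.FibreTrdeg.fibreDimAt_of_isMaxFib f hmax] at hdim
    have hfξ : f ξ = genericPoint Y := by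
      by_cases hne : Nonempty ↥(closure ({ξ} : Set X) ∩ f.base ⁻¹' {genericPoint Y})
      · obtain ⟨a, ha, hfa⟩ := hne
        have : f ξ ⤳ genericPoint Y :=
          (show f a = genericPoint Y from hfa) ▸
            (specializes_iff_mem_closure.2 ha).map f.continuous
        exact (this.antisymm (genericPoint_specializes _)).eq
      · exfalso
        have hbot : topologicalKrullDim ↥(closure ({ξ} : Set X) ∩ f.base ⁻¹' {genericPoint Y}) = ⊥ := by
          refine Order.krullDim_eq_bot_iff.2 ⟨fun C => ?_⟩
          obtain ⟨a, -⟩ := C.isIrreducible.nonempty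
          exact hne ⟨a⟩
        rw [hbot] at hdim
        exact absurd hdim.symm WithBot.coe_ne_bot
    rw [← hfξ, Groth.Agent.H46.FibreTrdeg.dim_closure_inter f ξ, Nat.cast_inj] at hdim
    have hqη : ∀ (b : Y) (hb : f ξ ⤳ b), Groth.Agent.H46.DimData.qd hb =
        Groth.Agent.H46.DimData.sd b := fun b hb =>
      Groth.Agent.H46.DimData.qd_of_isMaxPt hb fun c hc =>
        (hc.antisymm (hfξ ▸ genericPoint_specializes c)).eq
    rw [Groth.Agent.H46.DimData.ringKrullDim_stalk, Groth.Agent.H46.DimData.ringKrullDim_stalk,
      Nat.cast_inj]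
    subst hz
    have h1 := Groth.Agent.H46.DimData.qd_eq f hs hcat
    have h2 := hqη _ (hs.map f.continuous)
    have h3 := Groth.Agent.H46.DimData.qd_le_sd hs
    have h4 := Groth.Agent.H46.DimData.sd_le_add f z
    omega

end Groth.Agent.S3393
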