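import Groth.Statements.S3395
import Groth.Agent.H46.AffineFib
import Groth.Agent.H46.FibreDimNhd

set_option autoImplicit false
open CategoryTheory AlgebraicGeometry
universe u
open EGA43

namespace Groth.Agent.S3395

open CategoryTheory.Limits in
/-- Let X and Y be affine schemes, f : X ⟶ Y of finite type, y a point of f(X), e the dimension of the
fibre over y, and g a Y-morphism from X to the affine space of dimension e over Y whose base change
to the fibre of the affine space over y is finite. Then that base change is surjective, and g is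
locally quasi-finite on some open U ⊆ X that contains the fibre f⁻¹(y). -/
theorem result {X Y : Scheme.{u}} [IsAffine X] [IsAffine Y]
    (f : X ⟶ Y) [LocallyOfFiniteType f] (y : Y) (hy : y ∈ Set.range f.base) (e : ℕ)
    (he : topologicalKrullDim ↥(f.fiber y) = e) (g : X ⟶ 𝔸(ULift.{u} (Fin e); Y)) (hg : g ≫ (𝔸(ULift.{u} (Fin e); Y) ↘ Y) = f)
    (hfin : IsFinite (pullback.snd g ((𝔸(ULift.{u} (Fin e); Y) ↘ Y).fiberι y))) :
    Function.Surjective (pullback.snd g ((𝔸(ULift.{u} (Fin e); Y) ↘ Y).fiberι y)).base ∧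
      ∃ U : X.Opens, f.base ⁻¹' {y} ⊆ (U : Set X) ∧ LocallyQuasiFinite (U.ι ≫ g) := by
  let n := ULift.{u} (Fin e)
  let p := 𝔸(n; Y) ↘ Y
  let π := pullback.snd g (p.fiberι y)
  haveI : IsFinite π := hfin
  haveI : LocallyOfFiniteType (g ≫ p) := by rw [hg]; infer_instance
  haveI : LocallyOfFiniteType g := locallyOfFiniteType_of_comp g p
  haveI : QuasiCompact f := inferInstance
  have hcard : Nat.card n = e := by simp [n]
  have hpre : ∀ x, f x = y → ∀ w, g x = p.fiberι y w →
      ∃ z, pullback.fst g (p.fiberι y) z = x ∧ π z = w := fun x _ w hw =>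
    Scheme.Pullback.exists_preimage_pullback x w hw
  have hfinpre : ∀ q, p q = y → (g ⁻¹' {q}).Finite := by
    intro q hq
    obtain ⟨w, rfl⟩ := Groth.Agent.Lib.Cyc.FieldDim.exists_fiberι_eq p q y hq
    refine ((π.finite_preimage_singleton w).image (pullback.fst g (p.fiberι y))).subset ?_
    intro x hx
    obtain ⟨z, hz, hzw⟩ := hpre x (by
      rw [← hg, Scheme.Hom.comp_apply, show g x = p.fiberι y w from hx,
        Groth.Agent.Lib.Cyc.FieldDim.apply_fiberι]) w hx
    exact ⟨z, hzw, hz⟩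
  have hqf : ∀ x, f x = y → g.QuasiFiniteAt x := by
    intro x hx
    rw [Scheme.Hom.quasiFiniteAt_iff_isOpen_singleton_asFiber]
    have hq : p (g x) = y := by rw [← Scheme.Hom.comp_apply, hg]; exact hx
    haveI : Finite ↥(g.fiber (g x)) := by
      have := (hfinpre _ hq).to_subtype
      exact Finite.of_equiv _ (g.fiberHomeo (g x)).symm.toEquiv
    haveI : JacobsonSpace ↥(g.fiber (g x)) :=
      LocallyOfFiniteType.jacobsonSpace (g.fiberToSpecResidueField (g x))
    exact isOpen_discrete _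
  refine ⟨?_, g.quasiFiniteLocus, fun x hx => hqf x hx, inferInstance⟩
  obtain ⟨x₀, hx₀⟩ := hy
  obtain ⟨ξ, hξy, -, hdim⟩ := Groth.Agent.H46.FibreDimNhd.exists_trd_eq_dim f x₀ y hx₀
  rw [he, Nat.cast_inj] at hdim
  have hz : Groth.Agent.H46.FibreTrdeg.trd g ξ = 0 := by
    have hq : p (g ξ) = y := by rw [← Scheme.Hom.comp_apply, hg]; exact hξy
    haveI : Finite ↥(g.fiber (g ξ)) := by
      have := (hfinpre _ hq).to_subtype
      exact Finite.of_equiv _ (g.fiberHomeo (g ξ)).symm.toEquiv
    haveI : JacobsonSpace ↥(g.fiber (g ξ)) :=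
      LocallyOfFiniteType.jacobsonSpace (g.fiberToSpecResidueField (g ξ))
    refine Nat.le_zero.1 ((Groth.Agent.H46.FibreTrdeg.dim_fiber_le_iff g _ _).1 ?_ ξ rfl)
    rw [Nat.cast_zero]
    exact topologicalKrullDim_zero_of_discreteTopology _
  have htrd : Groth.Agent.H46.FibreTrdeg.trd p (g ξ) = e := by
    have := Groth.Agent.H46.AffineFib.trd_comp' g p ξ
    rw [hz, add_zero] at this
    exact this.symm.trans ((congrArg (fun φ => Groth.Agent.H46.FibreTrdeg.trd φ ξ) hg).trans hdim.symm)
  intro w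
  have hw : p (p.fiberι y w) = y := Groth.Agent.Lib.Cyc.FieldDim.apply_fiberι p y w
  have hpq : p (g ξ) = y := by rw [← Scheme.Hom.comp_apply, hg]; exact hξy
  obtain ⟨w₀, hw₀⟩ := Groth.Agent.Lib.Cyc.FieldDim.exists_fiberι_eq p (g ξ) y hpq
  obtain ⟨z, -, hzw⟩ := hpre ξ hξy w₀ hw₀.symm
  have hgen : w₀ ⤳ w := by
    refine (Groth.Agent.Lib.Cyc.FieldDim.fiber_specializes_iff p y w₀ w).2 ?_
    obtain ⟨e₀⟩ := Groth.Agent.H46.AffineFib.exists_homeo n Y y
    haveI : IrreducibleSpace ↥(p.fiber y) := e₀.irreducibleSpace_iff.1 inferInstance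
    have hs : p.fiberι y (genericPoint ↥(p.fiber y)) ⤳ p.fiberι y w₀ :=
      (genericPoint_specializes w₀).map (p.fiberι y).continuous
    have heq := Groth.Agent.H46.FibreTrdeg.eq_of_trd_le p (hs.trans (specializes_of_eq hw₀))
      ((Groth.Agent.Lib.Cyc.FieldDim.apply_fiberι p y _).trans hpq.symm)
      (((Groth.Agent.H46.AffineFib.trd_le_card n Y _).trans_eq hcard).trans htrd.ge)
    rw [hw₀, ← heq]
    exact (genericPoint_specializes w).map (p.fiberι y).continuous
  have hcl : IsClosed (Set.range π) := π.isClosedMap.isClosed_range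
  exact hgen.mem_closed hcl ⟨z, hzw⟩

end Groth.Agent.S3395
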