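import Groth.Statements.S3396
import Groth.Agent.H46.DimData

set_option autoImplicit false
open CategoryTheory AlgebraicGeometry
universe u
open EGA43

namespace Groth.Agent.S3396

/-- Let Y be locally Noetherian, f : X ⟶ Y locally of finite type and equidimensional at the point x,
and suppose the local ring O_{Y,f x} is universally catenary. If O_{Y,f x} is equidimensional, then
so is O_{X,x}. -/
theorem result {X Y : Scheme.{u}} [IsLocallyNoetherian Y] (f : X ⟶ Y)
    [LocallyOfFiniteType f] (x : X) (h : EGA43.IsEquidimAt f x)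
    (hcat : CAlg.IsUniversallyCatenary (Y.presheaf.stalk (f.base x)))
    (hY : EGA4.IsEquidim (Y.presheaf.stalk (f.base x))) :
    EGA4.IsEquidim (X.presheaf.stalk x) := by
  open Groth.Agent.H46.DimData in
  haveI := LocallyOfFiniteType.isLocallyNoetherian f
  refine (Groth.Agent.H46.DimData.isEquidim_iff x).2 fun ξ hs hξ => ?_
  obtain ⟨h1, h2⟩ := Groth.Agent.H46.DimData.components_of_isEquidimAt f h ξ hξ hs
  have h3 := (Groth.Agent.H46.DimData.isEquidim_iff (f.base x)).1 hY _ (hs.map f.continuous) h1
  have h4 := Groth.Agent.H46.DimData.qd_eq f hs hcat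
  obtain ⟨ξ', hs', hξ', hq⟩ := Groth.Agent.H46.DimData.exists_qd_eq x
  obtain ⟨h1', h2'⟩ := Groth.Agent.H46.DimData.components_of_isEquidimAt f h ξ' hξ' hs'
  have h3' := (Groth.Agent.H46.DimData.isEquidim_iff (f.base x)).1 hY _ (hs'.map f.continuous) h1'
  have h4' := Groth.Agent.H46.DimData.qd_eq f hs' hcat
  omega

end Groth.Agent.S3396
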