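import Groth.Statements.S3401
import Groth.Agent.Lib.ProCons45.Basic

set_option autoImplicit false
open CategoryTheory AlgebraicGeometry
universe u
open EGA41

namespace Groth.Agent.S3401

/-- Let X be a scheme and E a subset of X. If E is ind-constructible then for every point x of E the set
E ∩ cl{x} is a neighbourhood of x in cl{x}; when X is locally Noetherian the converse holds. (As
published, the necessity clause quantifies over all points x of X; for x outside E the condition
cannot hold, and the argument uses x ∈ E, so it is stated here for x ∈ E.) Stated as an equivalence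
for X locally Noetherian. -/
theorem result (X : Scheme.{u}) [IsLocallyNoetherian X]
    (E : Set X) :
    ProCons.IsIndConstructible E ↔
      ∀ x ∈ E, (Subtype.val ⁻¹' E : Set ↥(closure ({x} : Set X))) ∈ nhds (⟨x, subset_closure rfl⟩ : ↥(closure ({x} : Set X))) := by
  constructor
  · intro hE x hx
    obtain ⟨O, hO, hxO, hOE⟩ := Groth.Agent.Lib.ProCons45.Basic.exists_isOpen_inter_closure_subset hE hx
    exact Filter.mem_of_superset ((hO.preimage continuous_subtype_val).mem_nhds hxO)
      fun z hz => hOE ⟨hz, z.2⟩
  · intro h y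
    obtain ⟨U, hU, hyU, -⟩ := exists_isAffineOpen_mem_and_subset (x := y) (U := ⊤) trivial
    have : IsNoetherianRing Γ(X, U) := IsLocallyNoetherian.component_noetherian ⟨U, hU⟩
    have : TopologicalSpace.NoetherianSpace ↥(U : Set X) := noetherianSpace_of_isAffineOpen U hU
    refine ⟨U, U.2, hyU, {T : Set ↥(U : Set X) | Topology.IsLocallyConstructible T ∧
      T ⊆ Subtype.val ⁻¹' E}, fun T h => h.1,
      Set.Subset.antisymm (fun a ha => ?_) fun a ⟨T, hT, haT⟩ => hT.2 haT⟩
    obtain ⟨O, hOE, hOo, haO⟩ := mem_nhds_iff.mp (h a.1 ha)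
    obtain ⟨O', hO', rfl⟩ := isOpen_induced_iff.mp hOo
    have hc : ∀ s : Set ↥(U : Set X), IsOpen s → Topology.IsConstructible s := fun s hs =>
      IsRetrocompact.isConstructible hs (fun _ _ _ => TopologicalSpace.NoetherianSpace.isCompact _)
    refine ⟨Subtype.val ⁻¹' O' ∩ Subtype.val ⁻¹' closure {a.1},
      ⟨((hc _ (hO'.preimage continuous_subtype_val)).inter ?_).isLocallyConstructible,
        fun z hz => hOE (show (⟨z.1, hz.2⟩ : ↥(closure ({a.1} : Set X))) ∈ Subtype.val ⁻¹' O' from hz.1)⟩,
      haO, subset_closure rfl⟩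
    rw [← compl_compl (Subtype.val ⁻¹' closure {a.1} : Set ↥(U : Set X))]
    exact (hc _ (isClosed_closure.preimage continuous_subtype_val).isOpen_compl).compl

end Groth.Agent.S3401
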