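import Groth.Statements.S3404
import Groth.Agent.Lib.ProCons45.Basic

set_option autoImplicit false
open CategoryTheory AlgebraicGeometry
universe u
open EGA41

namespace Groth.Agent.S3404

/-- Let f : X ⟶ Y be a morphism of schemes, x a point of X and y = f x. If f is open at x then every
generization of y is the image of a generization of x; when f is locally of finite presentation the
converse holds. -/
theorem result {X Y : Scheme.{u}} (f : X ⟶ Y) (x : X) :
    (EGA43.IsOpenAt f.base x → ∀ y' : Y, y' ⤳ f.base x → ∃ x' : X, x' ⤳ x ∧ f.base x' = y') ∧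
    (LocallyOfFinitePresentation f →
      ((EGA43.IsOpenAt f.base x) ↔ ∀ y' : Y, y' ⤳ f.base x → ∃ x' : X, x' ⤳ x ∧ f.base x' = y')) := by
  have h1 : EGA43.IsOpenAt f.base x → ∀ y' : Y, y' ⤳ f.base x → ∃ x' : X, x' ⤳ x ∧ f.base x' = y' := by
    intro h y' hy'
    have hfib := Groth.Agent.Lib.Subtrusive.ProConstructible.isProConstructible_preimage f (Groth.Agent.Lib.Subtrusive.ProConstructible.isProConstructible_singleton y')
    obtain ⟨z, hz, hzx⟩ := Groth.Agent.Lib.Subtrusive.ProConstructible.exists_generization_of_isProConstructible hfib (y := x)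
      (mem_closure_iff_nhds.mpr fun U hU => by
        obtain ⟨_, ⟨a, haU, rfl⟩, ha⟩ : ∃ b ∈ f.base '' U, b = y' :=
          ⟨y', mem_of_mem_nhds (hy' (h U hU)), rfl⟩
        exact ⟨a, haU, ha⟩)
    exact ⟨z, hzx, hz⟩
  refine ⟨h1, fun hf => ⟨h1, fun h U hU => ?_⟩⟩
  obtain ⟨O, hOU, hO, hxO⟩ := mem_nhds_iff.mp hU
  have hind := Groth.Agent.Lib.ProCons45.Basic.isIndConstructible_image f
    ((Groth.Agent.Lib.ProCons45.Basic.isIndConstructible_iff_isPC (E := O)).mpr
      (Groth.Agent.Lib.LimTop.PC.IsPC.of_isClosed hO.isClosed_compl))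
  refine Filter.mem_of_superset (mem_interior_iff_mem_nhds.mp
    ((Groth.Agent.Lib.ProCons45.Basic.mem_interior_iff hind _).mpr fun y' hy' => ?_)) (Set.image_mono hOU)
  obtain ⟨x', hx', rfl⟩ := h y' hy'
  exact ⟨x', hx'.mem_open hO hxO, rfl⟩

end Groth.Agent.S3404
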