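import Groth.Statements.S3405
import Groth.Agent.Lib.HilbertSamuel.Dim

set_option autoImplicit false
universe u
open EGA41

namespace Groth.Agent.S3405

/-- The degree of the Hilbert–Samuel polynomial equals the dimension: let A be a Noetherian ring with
finitely many maximal ideals, r its Jacobson radical and M a nonzero finitely generated A-module.
Then there is a polynomial P with rational coefficients such that the length of M/rⁿM is finite and
equals P(n) for all large n, and the degree of P is the dimension of M (the Krull dimension of its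
support). -/
theorem result (A : Type u) [CommRing A] [IsNoetherianRing A]
    [Finite (MaximalSpectrum A)] (M : Type u) [AddCommGroup M] [Module A M] [Module.Finite A M] [Nontrivial M] :
    ∃ P : Polynomial ℚ,
      (∃ N : ℕ, ∀ n : ℕ, N ≤ n →
        ∃ ℓ : ℕ, Module.length A (M ⧸ (Ring.jacobson A ^ n • (⊤ : Submodule A M))) = ℓ ∧ (ℓ : ℚ) = P.eval (n : ℚ)) ∧
      (P.natDegree : WithBot ℕ∞) = Module.supportDim A M := by
  classical
  haveI := Fintype.ofFinite (MaximalSpectrum A)
  have hJ : Ring.jacobson A ≤ Ideal.jacobson ⊥ := Ideal.jacobson_bot.ge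
  have hM : Lib.HilbertSamuel.Basic.Hyp (Ring.jacobson A) M := by
    intro p _ hp
    have hinf : Finset.univ.inf (fun m : MaximalSpectrum A => m.asIdeal) ≤ p.asIdeal := by
      refine le_trans ?_ hp
      rw [← Ideal.jacobson_bot]
      exact le_sInf fun J hJ' => Finset.inf_le (Finset.mem_univ (⟨J, hJ'.2⟩ : MaximalSpectrum A))
    obtain ⟨m, -, hm⟩ := p.isPrime.inf_le'.1 hinf
    exact (m.isMaximal.eq_of_le p.isPrime.ne_top hm) ▸ m.isMaximal
  obtain ⟨P, hP⟩ := Lib.HilbertSamuel.Main.exists_poly hM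
  obtain ⟨N, hN⟩ := Filter.eventually_atTop.1 hP
  refine ⟨P, ⟨N, fun n hn => ⟨_, Lib.HilbertSamuel.Basic.length_eq_len hM le_rfl, hN n hn⟩⟩, ?_⟩
  have h1 := Lib.HilbertSamuel.Dim.supportDim_le_of_growth hJ P.natDegree M hM
    (Lib.HilbertSamuel.Poly.growth_of_le_poly le_rfl (hP.mono fun t ht => ht.le))
  obtain ⟨k, hk⟩ : ∃ k : ℕ, Module.supportDim A M = k := by
    obtain ⟨e, he⟩ := WithBot.ne_bot_iff_exists.1 (Module.supportDim_ne_bot_of_nontrivial A M)
    rw [← he] at h1 ⊢
    obtain ⟨k, hk⟩ := ENat.ne_top_iff_exists.1 (ne_top_of_le_ne_top (ENat.natCast_ne_top _)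
      (WithBot.coe_le_coe.1 h1))
    exact ⟨k, by rw [← hk]; rfl⟩
  rw [hk] at h1 ⊢
  have h2 := Lib.HilbertSamuel.Poly.natDegree_le_of_growth hP
    (Lib.HilbertSamuel.Dim.growth_of_supportDim_le hJ k M hM hk.le)
  exact le_antisymm (by exact_mod_cast h2) h1

end Groth.Agent.S3405
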