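import Groth.Statements.S3406
import Groth.Agent.Lib.Koszul.Euler
import Groth.Agent.Lib.HilbertSamuel.Dim
import Groth.Agent.S3405
import Mathlib.RingTheory.KrullDimension.Regular

set_option autoImplicit false
universe u
open EGA41

namespace Groth.Agent.S3406

variable {A : Type u} [CommRing A] [IsNoetherianRing A]

open Pointwise

theorem supportDim_le_card : ∀ (n : ℕ) (x : Fin n → A) (M : Type u) [AddCommGroup M] [Module A M]
    [Module.Finite A M], (∀ i, x i ∈ Ring.jacobson A) →
    IsFiniteLength A (M ⧸ (Ideal.span (Set.range x) • (⊤ : Submodule A M))) →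
    Module.supportDim A M ≤ (n : WithBot ℕ∞) := by
  intro n
  induction n with
  | zero =>
    intro x M _ _ _ _ h
    have hb : (Ideal.span (Set.range x) • (⊤ : Submodule A M)) = ⊥ := by
      rw [Set.range_eq_empty, Ideal.span_empty, Submodule.bot_smul]
    exact Lib.Koszul.Euler.supportDim_le_zero_of_isFiniteLength
      ((Submodule.quotEquivOfEqBot _ hb).isFiniteLength h)
  | succ n ih =>
    intro x M _ _ _ hx h
    have h1 := Module.supportDim_le_supportDim_quotSMulTop_succ_of_mem_jacobson (M := M)
      ((Module.annihilator A M).ringJacobson_le_jacobson (hx 0))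
    let π : M →ₗ[A] QuotSMulTop (x 0) M := Submodule.mkQ _
    have hle : (Ideal.span (Set.range x) • (⊤ : Submodule A M)) ≤
        (Ideal.span (Set.range (Fin.tail x)) • (⊤ : Submodule A (QuotSMulTop (x 0) M))).comap π := by
      rw [← Submodule.map_le_iff_le_comap, Submodule.map_smul'', Submodule.smul_le]
      intro a ha v _
      induction ha using Submodule.span_induction with
      | mem a ha =>
        obtain ⟨i, rfl⟩ := ha
        obtain rfl | ⟨j, rfl⟩ := Fin.eq_zero_or_eq_succ i
        · obtain ⟨w, rfl⟩ := Submodule.mkQ_surjective _ v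
          rw [← map_smul, show Submodule.mkQ (x 0 • (⊤ : Submodule A M)) (x 0 • w) = 0 from
            (Submodule.Quotient.mk_eq_zero _).2 (Submodule.smul_mem_pointwise_smul _ _ _ trivial)]
          exact Submodule.zero_mem _
        · exact Submodule.smul_mem_smul (Ideal.subset_span ⟨j, rfl⟩) Submodule.mem_top
      | zero => rw [zero_smul]; exact Submodule.zero_mem _
      | add a b _ _ iha ihb => rw [add_smul]; exact Submodule.add_mem _ iha ihb
      | smul a b _ ihb => rw [smul_assoc]; exact Submodule.smul_mem _ _ ihb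
    have h2 := ih (Fin.tail x) (QuotSMulTop (x 0) M) (fun i => hx _)
      (h.of_surjective (f := Submodule.mapQ _ _ π hle) (by
        intro z
        obtain ⟨z, rfl⟩ := Submodule.mkQ_surjective _ z
        obtain ⟨w, rfl⟩ := Submodule.mkQ_surjective _ z
        exact ⟨Submodule.Quotient.mk w, rfl⟩))
    refine h1.trans ?_
    rw [Nat.cast_add_one]
    exact add_le_add h2 le_rfl

theorem exists_mem_jacobson [Finite (MaximalSpectrum A)] (I : Ideal A) :
    ∃ x ∈ Ring.jacobson A, ∀ p ∈ I.minimalPrimes, x ∈ p → p.IsMaximal := by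
  classical
  let S := I.finite_minimalPrimes_of_isNoetherianRing.toFinset.filter fun p => ¬ p.IsMaximal
  have hnot : ¬ ((Ring.jacobson A : Set A) ⊆ ⋃ p ∈ (↑S : Set (Ideal A)), (id p : Ideal A)) := by
    intro h
    obtain ⟨p, hp, hle⟩ := (Ideal.subset_union_prime ⊤ ⊤ fun p hp _ _ => by
      simp only [S, Finset.mem_filter, Set.Finite.mem_toFinset] at hp
      exact hp.1.1.1).1 h
    simp only [S, Finset.mem_filter, Set.Finite.mem_toFinset] at hp
    have := Fintype.ofFinite (MaximalSpectrum A)
    have hinf : Finset.univ.inf (fun m : MaximalSpectrum A => m.asIdeal) ≤ p := by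
      refine le_trans ?_ hle
      rw [← Ideal.jacobson_bot]
      exact le_sInf fun J hJ => Finset.inf_le (Finset.mem_univ (⟨J, hJ.2⟩ : MaximalSpectrum A))
    obtain ⟨m, -, hm⟩ := hp.1.1.1.inf_le'.1 hinf
    exact hp.2 ((m.isMaximal.eq_of_le hp.1.1.1.ne_top hm) ▸ m.isMaximal)
  obtain ⟨x, hx, hxS⟩ := Set.not_subset.1 hnot
  refine ⟨x, hx, fun p hp hxp => by_contra fun hm => hxS ?_⟩
  exact Set.mem_biUnion (show p ∈ (↑S : Set (Ideal A)) by simp only [S, Finset.coe_filter, Set.Finite.mem_toFinset]; exact ⟨hp, hm⟩) hxp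

theorem exists_system [Finite (MaximalSpectrum A)] : ∀ (n : ℕ) (M : Type u) [AddCommGroup M]
    [Module A M] [Module.Finite A M], Module.supportDim A M ≤ (n : WithBot ℕ∞) →
    ∃ x : Fin n → A, (∀ i, x i ∈ Ring.jacobson A) ∧
      IsFiniteLength A (M ⧸ (Ideal.span (Set.range x) • (⊤ : Submodule A M))) := by
  intro n
  induction n with
  | zero =>
    intro M _ _ _ h
    refine ⟨Fin.elim0, fun i => i.elim0, ?_⟩
    exact (Module.length_ne_top_iff.1
      (Lib.CycAlg.Smul.length_lt_top_of_supportDim_le_zero M (by simpa using h)).ne).of_surjective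
      (Submodule.mkQ_surjective _)
  | succ n ih =>
    intro M _ _ _ h
    obtain ⟨x, hxJ, hxp⟩ := exists_mem_jacobson (Module.annihilator A M)
    have hQ : Module.supportDim A (QuotSMulTop x M) ≤ (n : WithBot ℕ∞) := by
      refine Lib.HilbertSamuel.Dim.supportDim_le_of_forall fun l => ?_
      have hl := (l 0).2
      simp only [Module.support_quotSMulTop, Set.mem_inter_iff, PrimeSpectrum.mem_zeroLocus,
        Set.singleton_subset_iff, SetLike.mem_coe] at hl
      obtain ⟨p, hp, hple⟩ := Ideal.exists_minimalPrimes_le (J := (l 0).1.asIdeal)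
        (Module.mem_support_iff_of_finite.1 hl.1)
      by_contra hcon
      rcases hple.lt_or_eq with hlt | heq
      · let q : LTSeries (Module.support A M) := (l.map (fun z => (⟨z.1,
          Module.support_subset_of_surjective _ (Submodule.mkQ_surjective _) z.2⟩ : Module.support A M)) (fun _ _ h => h)).cons
          ⟨⟨p, hp.1.1⟩, Module.mem_support_iff_of_finite.2 hp.1.2⟩ hlt
        have := Lib.HilbertSamuel.Dim.length_le_of_supportDim_le h q
        have hql : q.length = 0 + l.length + 1 := rfl
        lia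
      · have hmax : (l 0).1.asIdeal.IsMaximal := heq ▸ hxp p hp (heq ▸ hl.2)
        have h01 := l.step ⟨0, by lia⟩
        exact h01.ne (Subtype.ext (PrimeSpectrum.ext
          (hmax.eq_of_le (l (Fin.succ ⟨0, by lia⟩)).1.isPrime.ne_top h01.le)))
    obtain ⟨xs, hxs, hfl⟩ := ih (QuotSMulTop x M) hQ
    refine ⟨Fin.cons x xs, fun i => Fin.cases hxJ hxs i, ?_⟩
    let T : Submodule A M := Ideal.span (Set.range (Fin.cons x xs)) • ⊤
    have hT : x • (⊤ : Submodule A M) ≤ T := by
      rw [← Submodule.ideal_span_singleton_smul]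
      exact Submodule.smul_mono_left (Ideal.span_mono (by simp))
    let f : QuotSMulTop x M →ₗ[A] M ⧸ T := Submodule.liftQ _ T.mkQ (by rwa [Submodule.ker_mkQ])
    have hf : Ideal.span (Set.range xs) • (⊤ : Submodule A (QuotSMulTop x M)) ≤ LinearMap.ker f := by
      rw [Submodule.smul_le]
      intro a ha v _
      obtain ⟨w, rfl⟩ := Submodule.mkQ_surjective _ v
      rw [LinearMap.mem_ker, ← map_smul]
      exact (Submodule.Quotient.mk_eq_zero _).2
        (Submodule.smul_mem_smul (Ideal.span_mono (by simp) ha) Submodule.mem_top)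
    refine hfl.of_surjective (f := Submodule.liftQ _ f hf) ?_
    intro z
    obtain ⟨z, rfl⟩ := Submodule.mkQ_surjective _ z
    exact ⟨Submodule.Quotient.mk (Submodule.Quotient.mk z), rfl⟩

/-- The equality s(M) = dim(M): let A be a Noetherian ring with finitely many maximal ideals, r its
Jacobson radical and M a nonzero finitely generated A-module. Then the dimension of M (the Krull
dimension of its support) is the least n for which there are elements x_1, …, x_n of r such that
M/(x_1 M + ⋯ + x_n M) has finite length. -/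
theorem result (A : Type u) [CommRing A] [IsNoetherianRing A]
    [Finite (MaximalSpectrum A)] (M : Type u) [AddCommGroup M] [Module A M] [Module.Finite A M] [Nontrivial M] :
    Module.supportDim A M =
      sInf {k : WithBot ℕ∞ | ∃ (n : ℕ) (x : Fin n → A), k = n ∧ (∀ i, x i ∈ Ring.jacobson A) ∧
        IsFiniteLength A (M ⧸ (Ideal.span (Set.range x) • (⊤ : Submodule A M)))} := by
  obtain ⟨P, -, hP⟩ := Groth.Agent.S3405.result A M
  obtain ⟨x, hx, hfl⟩ := exists_system P.natDegree M hP.ge
  refine le_antisymm (le_sInf ?_) (hP ▸ sInf_le ⟨P.natDegree, x, rfl, hx, hfl⟩)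
  rintro k ⟨n, y, rfl, hy, hyl⟩
  exact supportDim_le_card n y M hy hyl

end Groth.Agent.S3406
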