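import Groth.Statements.S3407
import Groth.Agent.H46.NilRed
import Groth.Agent.H46.UnibranchEquidim

set_option autoImplicit false
open CategoryTheory AlgebraicGeometry
universe u
open EGA43

namespace Groth.Agent.S3407

/-- Let Y be locally Noetherian, f : X ⟶ Y locally of finite type, x a point of X and y = f x. Suppose f
is universally open at the generic point of every irreducible component of the fibre X_y passing
through x, and X_y is geometrically reduced at x. Then there is an open neighbourhood U of x such
that the restriction of f to U is universally open and, for every point x' of U, the fibre of f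
through x' is geometrically reduced at x'. -/
theorem result {X Y : Scheme.{u}} [IsLocallyNoetherian Y] (f : X ⟶ Y)
    [LocallyOfFiniteType f] (x : X)
    (hopen : ∀ z : ↥(f.fiber (f.base x)), f.asFiber x ∈ closure {z} →
      (∀ z' : ↥(f.fiber (f.base x)), z ∈ closure {z'} → z' = z) →
      EGA43.IsUnivOpenAt f ((f.fiberι (f.base x)).base z))
    (hred : FBase.IsGeomReducedAt (f.fiberToSpecResidueField (f.base x)) (f.asFiber x)) :
    ∃ U : X.Opens, x ∈ U ∧ UniversallyOpen (U.ι ≫ f) ∧
      ∀ x' : X, x' ∈ U → FBase.IsGeomReducedAt (f.fiberToSpecResidueField (f.base x')) (f.asFiber x') := by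
  obtain ⟨U, hxU, hU, hgr⟩ := Groth.Agent.H46.NilRed.exists_nhd f x
    ((Groth.Agent.H46.UnibranchEquidim.maxFib_iff f x fun a => EGA43.IsUnivOpenAt f a).1 hopen)
    ((Groth.Agent.H46.GRAt.grAt_iff f x).2 hred)
  exact ⟨U, hxU, hU, fun x' hx' => (Groth.Agent.H46.GRAt.grAt_iff f x').1 (hgr x' hx')⟩

end Groth.Agent.S3407
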