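import Groth.Statements.S3408
import Groth.Agent.H46.FlatUnivOpen
import Groth.Agent.H46.UnibranchEquidim
import Groth.Agent.H46.CMFlat
import Groth.Agent.H52.FBase.GeomPtSch

set_option autoImplicit false
open CategoryTheory AlgebraicGeometry
universe u
open EGA43

namespace Groth.Agent.S3408

/-- Let Y be locally Noetherian, f : X ⟶ Y locally of finite type, x a point of X and y = f x. Suppose f
is universally open at the generic point of every irreducible component of X_y passing through x,
X_y is geometrically reduced at x, and the local ring O_{Y,y} is reduced. Then there is an open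
neighbourhood U of x such that the restriction of f to U is flat and U is a reduced scheme. -/
theorem result {X Y : Scheme.{u}} [IsLocallyNoetherian Y] (f : X ⟶ Y)
    [LocallyOfFiniteType f] (x : X)
    (hopen : ∀ z : ↥(f.fiber (f.base x)), f.asFiber x ∈ closure {z} →
      (∀ z' : ↥(f.fiber (f.base x)), z ∈ closure {z'} → z' = z) →
      EGA43.IsUnivOpenAt f ((f.fiberι (f.base x)).base z))
    (hred : FBase.IsGeomReducedAt (f.fiberToSpecResidueField (f.base x)) (f.asFiber x))
    (hy : _root_.IsReduced (Y.presheaf.stalk (f.base x))) :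
    ∃ U : X.Opens, x ∈ U ∧ Flat (U.ι ≫ f) ∧ IsReduced (U : Scheme.{u}) := by
  haveI : IsLocallyNoetherian X := LocallyOfFiniteType.isLocallyNoetherian f
  obtain ⟨hfl, hrd⟩ := Groth.Agent.H46.FlatUnivOpen.flat_stalkMap f x
    ((Groth.Agent.H46.UnibranchEquidim.maxFib_iff f x fun a => EGA43.IsUnivOpenAt f a).1 hopen)
    hred hy
  obtain ⟨V, hV, hxV, hinj⟩ := Groth.Agent.H52.FBase.GeomPtSch.exists_injective_germ x
  haveI : LocallyOfFinitePresentation f := inferInstance
  let W : X.Opens := ⟨_, H19.FlatLocus.Scheme.isOpen_flat_stalkMap (f := f)⟩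
  refine ⟨W ⊓ V, ⟨hfl, hxV⟩, (Flat.iff_flat_stalkMap _).2 fun u => ?_, ?_⟩
  · rw [Scheme.Hom.stalkMap_comp]
    exact RingHom.Flat.comp (f := (f.stalkMap ((W ⊓ V).ι u)).hom) u.2.1 (RingHom.Flat.of_bijective
      (ConcreteCategory.bijective_of_isIso ((W ⊓ V).ι.stalkMap u)))
  · haveI := hrd
    haveI : _root_.IsReduced Γ(X, V) := isReduced_of_injective (X.presheaf.germ V x hxV).hom hinj
    haveI : IsAffine (V : Scheme.{u}) := hV
    haveI : _root_.IsReduced Γ((V : Scheme.{u}), ⊤) :=
      isReduced_of_injective V.topIso.hom.hom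
        (ConcreteCategory.bijective_of_isIso V.topIso.hom).1
    haveI : IsReduced (Spec Γ((V : Scheme.{u}), ⊤)) := (affine_isReduced_iff _).mpr inferInstance
    haveI : IsReduced (V : Scheme.{u}) := isReduced_of_isOpenImmersion (V : Scheme.{u}).isoSpec.hom
    exact isReduced_of_isOpenImmersion (X.homOfLE (inf_le_right : W ⊓ V ≤ V))

end Groth.Agent.S3408
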