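import Groth.Statements.S3410
import Groth.Agent.H46.DomainStalk

set_option autoImplicit false
open CategoryTheory AlgebraicGeometry
universe u
open EGA43
open Groth.Agent.H46.FibreTrdeg Groth.Agent.H46.DomainStalk Groth.Agent.Lib.Cyc

namespace Groth.Agent.S3410

/-- Let Y be locally Noetherian, f : X ⟶ Y locally of finite type, x a point of X and y = f x. Suppose f
is universally open at the generic point of every irreducible component of X_y through x, X_y is
geometrically pointwise integral at x, and O_{Y,y} is geometrically unibranch. Then x lies on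
exactly one irreducible component of X. If moreover O_{Y,y} is a domain, then O_{X,x} is a domain
and O_{Y,y} ⟶ O_{X,x} is flat. -/
theorem result {X Y : Scheme.{u}} [IsLocallyNoetherian Y]
    (f : X ⟶ Y) [LocallyOfFiniteType f] (x : X)
    (hopen : ∀ z : ↥(f.fiber (f.base x)), f.asFiber x ∈ closure {z} →
      (∀ z' : ↥(f.fiber (f.base x)), z ∈ closure {z'} → z' = z) →
      EGA43.IsUnivOpenAt f ((f.fiberι (f.base x)).base z))
    (hint : FBase.IsGeomPtIntegralAt (f.fiberToSpecResidueField (f.base x)) (f.asFiber x))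
    (hY : CAlg2.IsGeomUnibranch (Y.presheaf.stalk (f.base x))) :
    (∃! Z : Set X, Z ∈ irreducibleComponents (X : Type u) ∧ x ∈ Z) ∧
      (IsDomain (Y.presheaf.stalk (f.base x)) → IsDomain (X.presheaf.stalk x) ∧ (f.stalkMap x).hom.Flat) := by
  haveI : IsLocallyNoetherian X := LocallyOfFiniteType.isLocallyNoetherian f
  have hopen' := (Groth.Agent.H46.UnibranchEquidim.maxFib_iff f x
    fun a => EGA43.IsUnivOpenAt f a).1 hopen
  have hred : FBase.IsGeomReducedAt (f.fiberToSpecResidueField (f x)) (f.asFiber x) :=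
    fun K _ _ x' hx' => by
      haveI := hint K x' hx'
      infer_instance
  have hgr := (Groth.Agent.H46.GRAt.grAt_iff f x).2 hred
  have hfib : IsDomain ((f.fiber (f x)).presheaf.stalk (f.asFiber x)) :=
    isDomain_of_isGeomPtIntegralAt hint
  have hζ : ∀ ζ ζ', f ζ = f x → ζ ⤳ x → IsMaxFib f ζ → f ζ' = f x → ζ' ⤳ x → IsMaxFib f ζ' →
      ζ = ζ' := by
    intro ζ ζ' h1 h2 h3 h1' h2' h3'
    obtain ⟨a, ha⟩ := FieldDim.exists_fiberι_eq f ζ (f x) h1
    obtain ⟨b, hb⟩ := FieldDim.exists_fiberι_eq f ζ' (f x) h1'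
    have key : ∀ (c : f.fiber (f x)) (w : X), f.fiberι (f x) c = w → w ⤳ x → IsMaxFib f w →
        DimFun.IsMaxPt c ∧ c ⤳ f.asFiber x := fun c w hc hw hm =>
      ⟨(FieldDim.isMaxFib_iff f (f x) c).1 (hc.symm ▸ hm), by
        rw [FieldDim.fiber_specializes_iff, f.fiberι_asFiber, hc]; exact hw⟩
    obtain ⟨p1, p2⟩ := key a ζ ha h2 h3
    obtain ⟨q1, q2⟩ := key b ζ' hb h2' h3'
    rw [← ha, ← hb, eq_of_isDomain_stalk hfib p1 p2 q1 q2]
  have huniq : ∀ ξ ξ' : X, DimFun.IsMaxPt ξ → DimFun.IsMaxPt ξ' → ξ ⤳ x → ξ' ⤳ x → ξ = ξ' := by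
    obtain ⟨T, g, hgc, hgs, hT⟩ := Groth.Agent.H46.NilRed.exists_red Y
    let a := Limits.pullback.fst f g
    let f' := Limits.pullback.snd f g
    have sq : IsPullback a f' f g := IsPullback.of_hasPullback f g
    haveI : IsClosedImmersion a := inferInstanceAs (IsClosedImmersion (Limits.pullback.fst f g))
    haveI : Surjective a := inferInstanceAs (Surjective (Limits.pullback.fst f g))
    haveI : IsLocallyNoetherian T := LocallyOfFiniteType.isLocallyNoetherian g
    haveI : LocallyOfFiniteType f' := inferInstanceAs (LocallyOfFiniteType (Limits.pullback.snd f g))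
    have hf : ∀ w, g (f' w) = f (a w) := fun w => by
      rw [← Scheme.Hom.comp_apply, ← sq.w, Scheme.Hom.comp_apply]
    obtain ⟨x', rfl⟩ := a.surjective x
    intro ξ ξ' hξ hξ' hs hs'
    obtain ⟨η, rfl⟩ := a.surjective ξ
    obtain ⟨η', rfl⟩ := a.surjective ξ'
    have hopen'' : ∀ ζ, f' ζ = f' x' → ζ ⤳ x' → IsMaxFib f' ζ → EGA43.IsUnivOpenAt f' ζ :=
      fun ζ hζ hs' hmax => Groth.Agent.H46.OpenAt.isUnivOpenAt_baseChange (hopen' (a ζ)
        (by rw [← hf, ← hf, hζ]) (hs'.map a.continuous)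
        ((Groth.Agent.H46.NilRed.isMaxFib_of_isPullback sq a.surjective ζ).1 hmax)) sq ζ rfl
    have hgr' := (Groth.Agent.H46.GRAt.grAt_iff f' x').1
      (Groth.Agent.H46.GRAt.baseChange sq x' hgr)
    have hmaxη : ∀ η, DimFun.IsMaxPt (a η) → DimFun.IsMaxPt η := fun η h v hv =>
      a.isEmbedding.injective (h _ (hv.map a.continuous))
    have hbet := fun η (hη : DimFun.IsMaxPt η) (hηx : η ⤳ x') =>
      Groth.Agent.H46.FlatUnivOpen.exists_maxFib_between f' x' hopen'' hgr' inferInstance η hη hηx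
    obtain ⟨ζ, hζ1, hζ2, hζ3, hζ4, -⟩ := hbet η (hmaxη η hξ)
      (a.isEmbedding.isInducing.specializes_iff.1 hs)
    obtain ⟨ζ', hζ1', hζ2', hζ3', hζ4', -⟩ := hbet η' (hmaxη η' hξ')
      (a.isEmbedding.isInducing.specializes_iff.1 hs')
    have hmap : ∀ ζ, f' ζ = f' x' → ζ ⤳ x' → IsMaxFib f' ζ →
        f (a ζ) = f (a x') ∧ a ζ ⤳ a x' ∧ IsMaxFib f (a ζ) := fun ζ h1 h2 h3 =>
      ⟨by rw [← hf, ← hf, h1], h2.map a.continuous,
        (Groth.Agent.H46.NilRed.isMaxFib_of_isPullback sq a.surjective ζ).1 h3⟩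
    obtain ⟨m1, m2, m3⟩ := hmap ζ hζ1 hζ2 hζ3
    obtain ⟨n1, n2, n3⟩ := hmap ζ' hζ1' hζ2' hζ3'
    obtain rfl : ζ = ζ' := a.isEmbedding.injective (hζ _ _ m1 m2 m3 n1 n2 n3)
    obtain ⟨c, hc⟩ : ζ ∈ Set.range (f'.fiberι (f' x')) := by
      rw [Scheme.Hom.range_fiberι]; exact hζ1
    haveI := Groth.Agent.H46.QFin.isLocallyNoetherian_fiber f' (f' x')
    have hgc : FBase.IsGeomReducedAt (f'.fiberToSpecResidueField (f' x')) c := by
      have h1 : c ⤳ f'.asFiber x' := (f'.fiberι (f' x')).isEmbedding.isInducing.specializes_iff.1 (by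
        rw [hc, Scheme.Hom.fiberι_asFiber]; exact hζ2)
      exact h1.mem_open (Groth.Agent.H52.FBase.GeomPtSch.isOpen_geomReduced _) hgr'
    obtain ⟨-, -, -, hdom⟩ := Groth.Agent.H46.FlatUnivOpen.flat_stalkMap_of_isMaxFib f' ζ (f' x')
      hζ1 hζ3 (hopen'' ζ hζ1 hζ2 hζ3) inferInstance c hc hgc
    have hd : IsDomain ((Limits.pullback f g).presheaf.stalk ζ) := hdom _ hY (by
      obtain ⟨e⟩ := nonempty_stalk_red g (f' x')
      have key : ∀ y, y = f (a x') →
          Nonempty (CAlg2.red (Y.presheaf.stalk y) ≃+* CAlg2.red (Y.presheaf.stalk (f (a x')))) := by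
        rintro _ rfl; exact ⟨RingEquiv.refl _⟩
      obtain ⟨e'⟩ := key _ (hf x')
      exact ⟨e.trans e'⟩)
    exact congrArg a (eq_of_isDomain_stalk hd (hmaxη η hξ) hζ4 (hmaxη η' hξ') hζ4')
  refine ⟨existsUnique_component huniq, fun hdom => ?_⟩
  obtain ⟨hfl, hrd⟩ := Groth.Agent.H46.FlatUnivOpen.flat_stalkMap f x hopen' hred
    (haveI := hdom; inferInstance)
  exact ⟨isDomain_stalk hrd huniq, hfl⟩

end Groth.Agent.S3410
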