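import Groth.Statements.S3413
import Groth.Agent.H34.GeomPts.Semicont
import Groth.Agent.H46.UnibranchCrit
import Groth.Agent.H46.Equidim
import Groth.Agent.H75.RedKer
import Groth.Agent.Lib.FinCond.Components
import Groth.Agent.Lib.SchTopo.Basic

set_option autoImplicit false
open CategoryTheory CategoryTheory.Limits AlgebraicGeometry
universe u
open EGA43

namespace Groth.Agent.S3413

/-- Let Y be locally Noetherian with all local rings geometrically unibranch, f : X ⟶ Y separated,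
quasi-finite and universally open, and n(z) the geometric number of points of the fibre over z. If n
is locally constant on Y, then the irreducible components of X are pairwise disjoint. -/
theorem result {X Y : Scheme.{u}} [IsLocallyNoetherian Y]
    (hY : ∀ y : Y, CAlg2.IsGeomUnibranch (Y.presheaf.stalk y)) (f : X ⟶ Y)
    [IsSeparated f] [LocallyQuasiFinite f] [LocallyOfFiniteType f] [QuasiCompact f] [UniversallyOpen f]
    (hn : IsLocallyConstant (fun z : Y => MoreMor.nGeomConnComp f z)) :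
    ∀ Z ∈ irreducibleComponents (X : Type u), ∀ Z' ∈ irreducibleComponents (X : Type u), Z ≠ Z' → Disjoint Z Z' := by
  classical
  intro Z hZ Z' hZ' hne
  refine Set.disjoint_left.2 fun x hxZ hxZ' => ?_
  haveI : IsLocallyNoetherian X := LocallyOfFiniteType.isLocallyNoetherian f
  obtain ⟨ξ, hξ, rfl⟩ := H46.Equidim.exists_generic_of_mem_irreducibleComponents hZ
  obtain ⟨ξ', hξ', rfl⟩ := H46.Equidim.exists_generic_of_mem_irreducibleComponents hZ'
  have hgenmap : GeneralizingMap f := Lib.SchTopo.Basic.generalizingMap_of_isOpenMap f f.isOpenMap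
  have hmax : ∀ z : X, Lib.Cyc.DimFun.IsMaxPt z → Lib.Cyc.DimFun.IsMaxPt (f z) := fun z hz w hw => by
    obtain ⟨z', hz', rfl⟩ := hgenmap hw
    rw [hz z' hz']
  let y := f x
  have hsx : ξ ⤳ x := specializes_iff_mem_closure.2 hxZ
  have hsx' : ξ' ⤳ x := specializes_iff_mem_closure.2 hxZ'
  let η := f ξ
  have hη : Lib.Cyc.DimFun.IsMaxPt η := hmax ξ hξ
  have hηy : η ⤳ y := hsx.map f.continuous
  have hnhd : closure ({η} : Set Y) ∈ nhds y := H46.UnibranchCrit.nhd_of_noetherian (hY y).1 hη hηy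
  have huniq : ∀ η' : Y, Lib.Cyc.DimFun.IsMaxPt η' → η' ⤳ y → η' = η := fun η' h' hs => by
    obtain ⟨O, hOc, hO, hyO⟩ := mem_nhds_iff.1 hnhd
    exact (h' η (specializes_iff_mem_closure.2 (hOc (hs.mem_open hO hyO)))).symm
  obtain ⟨K, _, _, p, hp⟩ := H54.GeomLift.exists_pt_eq y
  obtain ⟨Ω, _, _, q, hq⟩ := H54.GeomLift.exists_pt_eq η
  haveI hfq : Finite (H54.GeomLift.Lift f q) :=
    H54.GeomLift.finite_lift f q (f.finite_preimage_singleton _)
  haveI hfp : Finite (H54.GeomLift.Lift f p) :=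
    H54.GeomLift.finite_lift f p (f.finite_preimage_singleton _)
  let I := {ζ : X // Lib.Cyc.DimFun.IsMaxPt ζ ∧ f ζ = η}
  haveI : Finite I := (((f.finite_preimage_singleton η)).subset (fun ζ hζ => hζ.2 :
    {ζ : X | Lib.Cyc.DimFun.IsMaxPt ζ ∧ f ζ = η} ⊆ f ⁻¹' {η})).to_subtype
  let j := fun ζ : I => (Scheme.IdealSheafData.vanishingIdeal
    (⟨closure {ζ.1}, isClosed_closure⟩ : TopologicalSpace.Closeds X)).subschemeι
  have hj : ∀ ζ, Set.range (j ζ) = closure {ζ.1} := fun ζ => by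
    rw [Scheme.IdealSheafData.range_subschemeι, Scheme.IdealSheafData.coe_support_vanishingIdeal]
    rfl
  -- lifts of a component map to lifts
  let push : ∀ (L : Type u) [Field L] (t : Spec (CommRingCat.of L) ⟶ Y) (ζ : I),
      H54.GeomLift.Lift (j ζ ≫ f) t → H54.GeomLift.Lift f t := fun L _ t ζ s =>
    ⟨s.1 ≫ j ζ, by rw [Category.assoc]; exact s.2⟩
  have hpush_inj : ∀ (L : Type u) [Field L] (t : Spec (CommRingCat.of L) ⟶ Y) (ζ : I),
      Function.Injective (push L t ζ) := fun L _ t ζ a b h => by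
    exact Subtype.ext ((cancel_mono (j ζ)).1 (congrArg Subtype.val h))
  have hfin : ∀ (L : Type u) [Field L] [IsAlgClosed L] (t : Spec (CommRingCat.of L) ⟶ Y) (ζ : I),
      Finite (H54.GeomLift.Lift (j ζ ≫ f) t) := fun L _ _ t ζ => by
    haveI : Finite (H54.GeomLift.Lift f t) := H54.GeomLift.finite_lift f t (f.finite_preimage_singleton _)
    exact Finite.of_injective _ (hpush_inj L t ζ)
  -- over the generic point the components share no lift
  let Φq : (Σ ζ : I, H54.GeomLift.Lift (j ζ ≫ f) q) → H54.GeomLift.Lift f q := fun s => push Ω q s.1 s.2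
  have hΦq : Function.Injective Φq := by
    rintro ⟨ζ, s⟩ ⟨ζ', s'⟩ h
    have key : ∀ (ζ : I) (s : H54.GeomLift.Lift (j ζ ≫ f) q),
        H54.GeomLift.pt (push Ω q ζ s).1 = ζ.1 := fun ζ s => by
      have h1 : ζ.1 ⤳ j ζ (H54.GeomLift.pt s.1) :=
        specializes_iff_mem_closure.2 ((hj ζ).le ⟨_, rfl⟩)
      have h2 : f (j ζ (H54.GeomLift.pt s.1)) = η := by
        rw [← Scheme.Hom.comp_apply, H54.GeomLift.apply_pt s, hq]
      haveI : IsLocallyArtinian (f.fiber η) := .of_locallyQuasiFinite (f.fiberToSpecResidueField η)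
      show (s.1 ≫ j ζ) (IsLocalRing.closedPoint Ω) = ζ.1
      rw [Scheme.Hom.comp_apply]
      obtain ⟨a, ha⟩ := (f.range_fiberι η).ge (show f ζ.1 = η from ζ.2.2)
      obtain ⟨b, hb⟩ := (f.range_fiberι η).ge (show f (j ζ (H54.GeomLift.pt s.1)) = η from h2)
      have hab : a ⤳ b := (f.fiberι η).isEmbedding.isInducing.specializes_iff.1 (ha.symm ▸ hb.symm ▸ h1)
      exact hb.symm.trans ((congrArg (f.fiberι η) hab.eq).symm.trans ha)
    have he : ζ = ζ' := Subtype.ext (by rw [← key ζ s, ← key ζ' s']; exact congrArg (fun l => H54.GeomLift.pt l.1) h)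
    subst he
    rw [hpush_inj Ω q ζ (show push Ω q ζ s = push Ω q ζ s' from h)]
  -- over the special point they cover the lifts, with a repetition
  let Φp : (Σ ζ : I, H54.GeomLift.Lift (j ζ ≫ f) p) → H54.GeomLift.Lift f p := fun s => push K p s.1 s.2
  have hlift : ∀ (ζ : I) (s : H54.GeomLift.Lift f p), ζ.1 ⤳ H54.GeomLift.pt s.1 →
      ∃ a, push K p ζ a = s := fun ζ s hs => by
    obtain ⟨a, ha⟩ := H75.RedKer.exists_lift s.1 (j ζ) (by
      rintro _ ⟨w, rfl⟩
      rw [hj, Subsingleton.elim (α := PrimeSpectrum K) w (IsLocalRing.closedPoint K)]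
      exact specializes_iff_mem_closure.1 hs)
    exact ⟨⟨a, by rw [← Category.assoc, ha]; exact s.2⟩, Subtype.ext ha⟩
  have hsurj : Function.Surjective Φp := fun s => by
    obtain ⟨ζ, hζs, hζ⟩ := Lib.FinCond.exists_maximal_specializes _ (H54.GeomLift.pt s.1)
    have hζm : Lib.Cyc.DimFun.IsMaxPt ζ := fun w hw => Lib.FinCond.eq_of_specializes _ hζ hw
    have hfζ : f ζ = η := huniq _ (hmax ζ hζm) (by
      have := hζs.map f.continuous
      rwa [H54.GeomLift.apply_pt s, hp] at this)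
    obtain ⟨a, ha⟩ := hlift ⟨ζ, hζm, hfζ⟩ s hζs
    exact ⟨⟨_, a⟩, ha⟩
  have hnotinj : ¬ Function.Injective Φp := fun hinj => by
    obtain ⟨s, hs⟩ := H54.GeomLift.exists_lift f p x hp.symm
    obtain ⟨a, ha⟩ := hlift ⟨ξ, hξ, rfl⟩ s (hs.symm ▸ hsx)
    obtain ⟨a', ha'⟩ := hlift ⟨ξ', hξ', huniq _ (hmax ξ' hξ') (hsx'.map f.continuous)⟩ s (hs.symm ▸ hsx')
    have := congrArg Sigma.fst (hinj (a₁ := ⟨_, a⟩) (a₂ := ⟨_, a'⟩) (ha.trans ha'.symm))
    exact hne (congrArg (fun w : I => closure ({w.1} : Set X)) this)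
  -- semicontinuity on each component
  have hle : ∀ ζ : I, Nat.card (H54.GeomLift.Lift (j ζ ≫ f) p) ≤ Nat.card (H54.GeomLift.Lift (j ζ ≫ f) q) := by
    intro ζ
    haveI : LocallyQuasiFinite (j ζ ≫ f) := inferInstance
    haveI := hfin K p ζ
    haveI := hfin Ω q ζ
    obtain ⟨c, hc⟩ := (hj ζ).ge (subset_closure (Set.mem_singleton ζ.1))
    have hev := H34.GeomPts.eventually_le_nGeomConnComp (j ζ ≫ f) y fun w hw => by
      refine H46.UnibranchCrit.isUnivOpenAt_of_quasiFinite (j ζ ≫ f) (ξ := c)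
        ((j ζ).isEmbedding.isInducing.specializes_iff.1 ?_) ?_ (hY _)
      · rw [hc]
        exact specializes_iff_mem_closure.2 ((hj ζ).le ⟨w, rfl⟩)
      · rw [Scheme.Hom.comp_apply, hc, ζ.2.2]
        exact hη
    have h := hηy.mem_open isOpen_interior (mem_interior_iff_mem_nhds.2 hev)
    have h0 := interior_subset h
    have h' : MoreMor.nGeomConnComp (j ζ ≫ f) y ≤ MoreMor.nGeomConnComp (j ζ ≫ f) η := h0
    have e1 := (congrArg (MoreMor.nGeomConnComp (j ζ ≫ f)) hp.symm).trans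
      (H34.GeomPts.nGeomConnComp_eq_card_lift (j ζ ≫ f) p)
    have e2 := (congrArg (MoreMor.nGeomConnComp (j ζ ≫ f)) hq.symm).trans
      (H34.GeomPts.nGeomConnComp_eq_card_lift (j ζ ≫ f) q)
    rw [e1, e2, ENat.card_eq_coe_natCard, ENat.card_eq_coe_natCard, Nat.cast_le] at h'
    exact h'
  haveI := Fintype.ofFinite I
  haveI := fun ζ => hfin K p ζ
  haveI := fun ζ => hfin Ω q ζ
  have heq : Nat.card (H54.GeomLift.Lift f p) = Nat.card (H54.GeomLift.Lift f q) := by
    have hloc := hn.isOpen_fiber (MoreMor.nGeomConnComp f y)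
    have h : MoreMor.nGeomConnComp f η = MoreMor.nGeomConnComp f y := hηy.mem_open hloc rfl
    rw [← hp, ← hq, H34.GeomPts.nGeomConnComp_eq_card_lift, H34.GeomPts.nGeomConnComp_eq_card_lift,
      ENat.card_eq_coe_natCard, ENat.card_eq_coe_natCard, Nat.cast_inj] at h
    exact h.symm
  have h1 := Nat.card_le_card_of_injective Φq hΦq
  have h2 : Nat.card (H54.GeomLift.Lift f p) < Nat.card (Σ ζ : I, H54.GeomLift.Lift (j ζ ≫ f) p) := by
    refine lt_of_le_of_ne (Nat.card_le_card_of_surjective Φp hsurj) fun h => hnotinj ?_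
    exact (Nat.bijective_iff_surjective_and_card Φp).2 ⟨hsurj, h.symm⟩ |>.1
  rw [Nat.card_sigma] at h1 h2
  have h3 := Finset.sum_le_sum fun ζ (_ : ζ ∈ Finset.univ) => hle ζ
  omega

end Groth.Agent.S3413
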