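import Groth.Statements.S4945
import Groth.Agent.H46.UnibranchTFAE

set_option autoImplicit false
open CategoryTheory AlgebraicGeometry
universe u v w
open EGA43

namespace Groth.Agent.S4945

/-- Let Y be an irreducible locally Noetherian scheme with generic point η, f : X ⟶ Y a morphism locally
of finite type and y a geometrically unibranch point of Y. The following are equivalent: a) f is
universally open at every point of X_y; b) f is open at every point of X_y; c) for every maximal
point z of X_y there is an irreducible component Z of X containing z and dominating Y with dim_z(Z ∩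
X_y) = dim(Z ∩ X_η); d) for every point x closed in X_y there are an irreducible reduced scheme T
and an immersion T ⟶ X with image containing x such that T ⟶ Y is quasi-finite and dominant. -/
theorem result {X Y : Scheme.{u}} [IrreducibleSpace Y]
    [IsLocallyNoetherian Y] (f : X ⟶ Y) [LocallyOfFiniteType f] (y : Y) (hy : CAlg2.IsGeomUnibranch (Y.presheaf.stalk y)) :
    List.TFAE [∀ x : X, f.base x = y → EGA43.IsUnivOpenAt f x,
      ∀ x : X, f.base x = y → EGA43.IsOpenAt f.base x,
      ∀ z : X, ∀ hzy : f.base z = y, (∀ z' : X, f.base z' = y → z ∈ closure {z'} → z' = z) →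
        ∃ Z ∈ irreducibleComponents (X : Type u), ∃ hz : z ∈ Z, Dense (f.base '' Z) ∧
          FlatMor.localDim ↥(Z ∩ f.base ⁻¹' {y}) ⟨z, ⟨hz, hzy⟩⟩ = topologicalKrullDim ↥(Z ∩ f.base ⁻¹' {genericPoint Y}),
      ∀ x : X, f.base x = y → (∀ x' : X, f.base x' = y → x ⤳ x' → x' = x) →
        ∃ (T : Scheme.{u}) (i : T ⟶ X), IsImmersion i ∧ IrreducibleSpace ↥T ∧ IsReduced T ∧ x ∈ Set.range i.base ∧
        LocallyOfFiniteType (i ≫ f) ∧ LocallyQuasiFinite (i ≫ f) ∧ QuasiCompact (i ≫ f) ∧ IsDominant (i ≫ f)] := by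
  have hη := Groth.Agent.H46.UnibranchCrit.isMaxPt_genericPoint (Y := Y)
  have key : (∀ x : X, f.base x = y → EGA43.IsOpenAt f.base x) →
      ∀ x : X, f.base x = y → EGA43.IsUnivOpenAt f x := fun h x hx => by
    subst hx
    exact Groth.Agent.H46.UnibranchTFAE.isUnivOpenAt_of_open_maxFib f hy fun ζ hζ _ _ => h ζ hζ
  tfae_have 1 → 2 := fun h x hx => Groth.Agent.H46.UnibranchTFAE.isOpenAt_of_isUnivOpenAt (h x hx)
  tfae_have 2 → 1 := key
  tfae_have 2 → 3 := fun h z hzy hmax => by
    subst hzy
    obtain ⟨ξ, hξ, hξz, hfξ, hle⟩ := Groth.Agent.H46.UnibranchTFAE.exists_component_of_isUnivOpen f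
      (fun ζ hζ _ _ => h ζ hζ) hη (genericPoint_specializes (f z))
    refine ⟨closure {ξ}, Groth.Agent.H46.Equidim.isMaxPt_iff_closure_mem.1 hξ, hξz.mem_closure,
      ?_, ?_⟩
    · rw [dense_iff_closure_eq, Groth.Agent.H46.Equidim.closure_image_closure', hfξ]
      exact genericPoint_closure _
    · rw [← hfξ]
      exact Groth.Agent.H46.UnibranchTFAE.localDim_eq_of_component f hξz fun a _ hfa hax =>
        hle a hfa hax
  tfae_have 3 → 1 := fun h x hx => by
    subst hx
    obtain ⟨ζ, hζ, hζx, hmax, he⟩ := Groth.Agent.H46.FibreTrdeg.exists_isMaxFib_trd_eq f x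
    obtain ⟨Z, hZ, hζZ, hd, heq⟩ := h ζ hζ fun z' hz' hs =>
      hmax z' (hz'.trans hζ.symm) (specializes_iff_mem_closure.2 hs)
    obtain ⟨ξ, hξ, rfl⟩ := Groth.Agent.H46.Equidim.exists_generic_of_mem_irreducibleComponents hZ
    have hfξ : f ξ = genericPoint Y := by
      rw [dense_iff_closure_eq, Groth.Agent.H46.Equidim.closure_image_closure',
        ← genericPoint_closure] at hd
      exact Groth.Agent.H46.Equidim.closure_singleton_inj hd
    have hξζ : ξ ⤳ ζ := specializes_iff_mem_closure.2 hζZ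
    have hle : Groth.Agent.H46.FibreTrdeg.trd f ζ ≤ Groth.Agent.H46.FibreTrdeg.trd f ξ := by
      rw [← hfξ, Groth.Agent.H46.FibreTrdeg.dim_closure_inter] at heq
      have h2 := (Groth.Agent.H46.FibreTrdeg.localDim_closed_inter_le_iff f isClosed_closure hζZ
        (Groth.Agent.H46.FibreTrdeg.trd f ξ)).1 (le_trans (le_of_eq (by
          congr 2 <;> simp [hζ])) heq.le) ζ hζZ rfl specializes_rfl
      exact h2
    exact Groth.Agent.H46.UnibranchCrit.isUnivOpenAt_of_component f (hξζ.trans hζx) (hfξ ▸ hη) hy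
      (he.le.trans (Nat.cast_le.2 hle))
  tfae_have 2 → 4 := fun h x hx hcl => by
    subst hx
    obtain ⟨ξ, hξ, hξx, hfξ, hle⟩ := Groth.Agent.H46.UnibranchTFAE.exists_component_of_isUnivOpen f
      (fun ζ hζ _ _ => h ζ hζ) hη (genericPoint_specializes (f x))
    exact Groth.Agent.H46.UnibranchTFAE.exists_section f hcl hξx (hfξ ▸ hη) hle
  tfae_have 4 → 2 := fun h => Groth.Agent.H46.UnibranchTFAE.isOpenAt_of_closedPoints f
    fun x hx hcl => by
      obtain ⟨T, i, -, _, -, hxi, _, _, -, _⟩ := h x hx hcl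
      subst hx
      exact Groth.Agent.H46.UnibranchTFAE.isOpenAt_of_isUnivOpenAt
        (Groth.Agent.H46.UnibranchTFAE.isUnivOpenAt_of_section f i hxi hy)
  tfae_finish

end Groth.Agent.S4945
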