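import Groth.Statements.S3414
import Groth.Agent.H34.Stein.GeomCount
import Groth.Agent.H75.RedSub
import Groth.Agent.S4945
import Mathlib.AlgebraicGeometry.IdealSheaf.Functorial


set_option autoImplicit false
open CategoryTheory AlgebraicGeometry
universe u
open EGA43

namespace Groth.Agent.S3414

/-- Let Y be an irreducible locally Noetherian scheme, f : X ⟶ Y proper, n(y) the geometric number of
connected components of the fibre over y, and suppose every irreducible component of X dominates Y.
If y₀ is a point of Y whose local ring is geometrically unibranch, then n is lower semicontinuous at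
y₀. -/
theorem result {X Y : Scheme.{u}} [IrreducibleSpace Y]
    [IsLocallyNoetherian Y] (f : X ⟶ Y) [IsProper f]
    (hdom : ∀ Z ∈ irreducibleComponents (X : Type u), closure (f.base '' Z) = Set.univ) (y₀ : Y)
    (hy : CAlg2.IsGeomUnibranch (Y.presheaf.stalk y₀)) :
    ∃ V ∈ nhds y₀, ∀ z ∈ V, MoreMor.nGeomConnComp f y₀ ≤ MoreMor.nGeomConnComp f z := by
  open Groth.Agent.H34.Stein TopologicalSpace in
  have := isFinite_fromNormalization f
  have := geometricallyConnected_toNormalization f
  let b := f.toNormalization
  let g := f.fromNormalization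
  have hb : b ≫ g = f := f.toNormalization_fromNormalization
  have h : ∀ n : f.normalization, g n = y₀ → EGA43.IsUnivOpenAt g n := by
    refine ((Groth.Agent.S4945.result g y₀ hy).out 3 0).mp fun n hn _ => ?_
    obtain ⟨x, rfl⟩ := b.surjective n
    obtain ⟨W, hW, hxW⟩ : ∃ W ∈ irreducibleComponents (X : Type u), x ∈ W :=
      ⟨irreducibleComponent x, irreducibleComponent_mem_irreducibleComponents x,
        mem_irreducibleComponent⟩
    let C : Closeds f.normalization := ⟨closure (b.base '' W), isClosed_closure⟩
    let I := Scheme.IdealSheafData.vanishingIdeal C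
    let i := I.subschemeι
    have hr : Set.range i.base = (C : Set f.normalization) := by
      show Set.range ⇑I.subschemeι = _
      rw [Scheme.IdealSheafData.range_subschemeι]
      exact Scheme.IdealSheafData.coe_support_vanishingIdeal _
    have hirr : IsIrreducible (Set.univ : Set ↥I.subscheme) := by
      have h2 : IsIrreducible (i.base '' Set.univ) := by
        rw [Set.image_univ, hr]
        exact ((hW.1).image b.base b.continuous.continuousOn).closure
      refine ⟨h2.1.of_image, fun u v hu hv ⟨a, _, hau⟩ ⟨c, _, hcv⟩ => ?_⟩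
      obtain ⟨U', hU', rfl⟩ := i.isClosedEmbedding.isInducing.isOpen_iff.mp hu
      obtain ⟨V', hV', rfl⟩ := i.isClosedEmbedding.isInducing.isOpen_iff.mp hv
      obtain ⟨_, ⟨e, -, rfl⟩, he⟩ := h2.2 U' V' hU' hV' ⟨i a, ⟨a, trivial, rfl⟩, hau⟩
        ⟨i c, ⟨c, trivial, rfl⟩, hcv⟩
      exact ⟨e, trivial, he⟩
    have hred : IsReduced I.subscheme := Groth.Agent.H75.RedSub.isReduced_vanishingIdeal C
    refine ⟨I.subscheme, i, inferInstance,
      irreducibleSpace_def _ |>.mpr hirr, hred, ?_, inferInstance, inferInstance, inferInstance, ⟨?_⟩⟩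
    · rw [hr]
      exact subset_closure ⟨x, hxW, rfl⟩
    · refine Dense.mono ?_ (dense_iff_closure_eq.mpr (hdom W hW))
      rintro _ ⟨w, hw, rfl⟩
      obtain ⟨t, ht⟩ : b w ∈ Set.range i.base := by
        rw [hr]
        exact subset_closure ⟨w, hw, rfl⟩
      refine ⟨t, ?_⟩
      show g (i t) = f w
      rw [show i t = b w from ht, ← Scheme.Hom.comp_apply]
      exact congrArg (fun φ : X ⟶ Y => φ w) hb
  obtain ⟨V, hV, hle⟩ := Filter.eventually_iff_exists_mem.mp
    (Groth.Agent.H34.GeomPts.eventually_le_nGeomConnComp g y₀ h)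
  refine ⟨V, hV, fun z hz => ?_⟩
  rw [(nGeomConnComp_eq f y₀).2, (nGeomConnComp_eq f z).2]
  exact hle z hz

end Groth.Agent.S3414
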