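import Groth.Statements.S3417
import Groth.Agent.Lib.Unram.ComplConnected
import Groth.Agent.Lib.CurvePts.Basic
import Groth.Agent.H46.FiberStalk
import Mathlib

set_option autoImplicit false
open CategoryTheory AlgebraicGeometry
universe u
open EGA43

namespace Groth.Agent.S3417
theorem preconnected_away {R : Type u} [CommRing R] [IsNoetherianRing R] [IsLocalRing R] (t : R)
    (htm : t ∈ IsLocalRing.maximalIdeal R) (hrad : (Ideal.span {t}).IsRadical)
    (hmin : ∀ p ∈ minimalPrimes R, t ∉ p) : PreconnectedSpace (PrimeSpectrum (Localization.Away t)) := by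
  have hnil : nilradical R = ⊥ := by
    refine Submodule.eq_bot_of_le_smul_of_le_jacobson_bot (Ideal.span {t}) _ (IsNoetherian.noetherian _)
      (fun z hz => ?_) (by
        rw [IsLocalRing.jacobson_eq_maximalIdeal _ bot_ne_top, Ideal.span_singleton_le_iff_mem]; exact htm)
    obtain ⟨n, hn⟩ := mem_nilradical.mp hz
    obtain ⟨w, rfl⟩ := Ideal.mem_span_singleton.mp (hrad ⟨n, hn ▸ zero_mem _⟩)
    rw [smul_eq_mul]
    refine Ideal.mul_mem_mul (Ideal.mem_span_singleton_self t) ?_
    rw [nilradical, ← Ideal.sInf_minimalPrimes, Submodule.mem_sInf] at hz ⊢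
    exact fun p hp => ((hp.1.1).mem_or_mem (hz p hp)).resolve_left (hmin p hp)
  have ht : ∀ z, t * z = 0 → z = 0 := fun z hz => by
    rw [← Ideal.mem_bot, ← hnil, nilradical, ← Ideal.sInf_minimalPrimes, Submodule.mem_sInf]
    exact fun p hp => ((hp.1.1).mem_or_mem (hz ▸ zero_mem p)).resolve_left (hmin p hp)
  let g := algebraMap R (Localization.Away t)
  have hg : Function.Injective g := IsLocalization.injective (Localization.Away t)
    (Submonoid.powers_le.mpr (mem_nonZeroDivisors_iff.mpr
      ⟨ht, fun z hz => ht z (by rwa [mul_comm])⟩))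
  have hu : IsUnit (g t) := IsLocalization.Away.algebraMap_isUnit t
  have key : ∀ (n : ℕ) (e : Localization.Away t) (a : R), e * e = e → g a = e * g t ^ n → e = 0 ∨ e = 1 := by
    intro n
    induction n with
    | zero =>
      intro e a he ha
      rw [pow_zero, mul_one] at ha
      subst ha
      have haa : a * (1 - a) = 0 := by
        apply hg
        rw [map_mul, map_sub, map_one, mul_sub, mul_one, he, sub_self, map_zero]
      rcases IsLocalRing.isUnit_or_isUnit_one_sub_self a with h | h
      · right
        rw [show a = 1 from (sub_eq_zero.mp (h.mul_right_eq_zero.mp haa)).symm, map_one]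
      · left
        rw [h.mul_left_eq_zero.mp haa, map_zero]
    | succ n ih =>
      intro e a he ha
      have h2 : a * a = t * (t ^ n * a) := by
        apply hg
        simp only [map_mul, map_pow, ha]
        linear_combination (g t ^ (n + 1) * g t ^ (n + 1)) * he
      obtain ⟨c, rfl⟩ := Ideal.mem_span_singleton.mp
        (hrad ⟨2, by rw [pow_two, h2]; exact Ideal.mul_mem_right _ _ (Ideal.mem_span_singleton_self t)⟩)
      refine ih e c he (hu.mul_left_cancel ?_)
      rw [← map_mul, ha, pow_succ]
      ring
  refine preconnectedSpace_iff_clopen.mpr fun s hs => ?_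
  obtain ⟨e, he, rfl⟩ := PrimeSpectrum.exists_idempotent_basicOpen_eq_of_isClopen hs
  obtain ⟨⟨a, ⟨_, n, rfl⟩⟩, ha⟩ := IsLocalization.surj (Submonoid.powers t) e
  rcases key n e a he (by rw [← map_pow]; exact ha.symm) with rfl | rfl
  · left; simp
  · right; simp


/-- Let A be a discrete valuation ring, Y = Spec A with closed point a and generic point b, and f : X ⟶
Y a morphism locally of finite type which is open (as a map of spaces). If X is connected and the
fibre over a is a reduced scheme, then the fibre over b is connected. (Stated with 'preconnected',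
which also covers the empty case; a is the closed point and b the point specialising to every
point.) -/
theorem result (A : Type u) [CommRing A] [IsDomain A]
    [IsDiscreteValuationRing A] {X : Scheme.{u}} (f : X ⟶ Spec (CommRingCat.of A)) [LocallyOfFiniteType f]
    (hopen : IsOpenMap f.base) [PreconnectedSpace X]
    (a b : ↥(Spec (CommRingCat.of A))) (ha : IsClosed ({a} : Set ↥(Spec (CommRingCat.of A))))
    (hb : ∀ z : ↥(Spec (CommRingCat.of A)), b ⤳ z)
    (hred : AlgebraicGeometry.IsReduced (f.fiber a)) :
    PreconnectedSpace ↥(f.fiber b) := by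
  haveI : IsLocallyNoetherian X := LocallyOfFiniteType.isLocallyNoetherian f
  obtain rfl : a = IsLocalRing.closedPoint A := by
    have h := (IsLocalRing.specializes_closedPoint (R := A) a).mem_closed ha rfl
    exact (Set.mem_singleton_iff.mp h).symm
  obtain ⟨t, ht⟩ := IsDiscreteValuationRing.exists_irreducible A
  have hmax := ht.maximalIdeal_eq
  have hbd : ∀ z : ↥(Spec (CommRingCat.of A)), z = b ↔ t ∉ z.asIdeal := by
    intro z
    have hb0 : b.asIdeal = ⊥ := by
      have := (PrimeSpectrum.le_iff_specializes b (⟨⊥, Ideal.isPrime_bot⟩ : PrimeSpectrum A)).mpr (hb _)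
      exact le_bot_iff.mp this
    constructor
    · rintro rfl
      rw [hb0, Ideal.mem_bot]
      exact ht.ne_zero
    · intro htz
      apply PrimeSpectrum.ext
      rw [hb0]
      by_contra hne
      refine htz ?_
      rw [IsLocalRing.eq_maximalIdeal (IsPrime.to_maximal_ideal (hpi := z.2) hne), hmax]
      exact Ideal.mem_span_singleton_self t
  have hbo : IsOpen ({b} : Set ↥(Spec (CommRingCat.of A))) := by
    rw [show ({b} : Set ↥(Spec (CommRingCat.of A))) = ((PrimeSpectrum.basicOpen t : TopologicalSpace.Opens (PrimeSpectrum A)) : Set (PrimeSpectrum A)) from Set.ext fun z => hbd z]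
    exact (PrimeSpectrum.basicOpen t).isOpen
  have hbo' : IsOpen (f.base ⁻¹' {b}) := hbo.preimage f.continuous
  -- every point generizes into the generic fibre
  have hdense : ∀ x : X, ∃ z ∈ f.base ⁻¹' {b}, z ⤳ x := by
    intro x
    refine Lib.Unram.ComplConnected.exists_generization_mem hbo' ?_
    rw [mem_closure_iff]
    intro V hV hxV
    obtain ⟨z, hz, hzb⟩ := (hb (f.base x)).mem_open (hopen V hV) ⟨x, hxV, rfl⟩
    exact ⟨z, hz, hzb⟩
  have hemb : Topology.IsOpenEmbedding (f.fiberι b) :=
    ⟨(f.fiberι b).isEmbedding, by rw [f.range_fiberι]; exact hbo'⟩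
  refine preconnectedSpace_iff_clopen.mpr fun s hs => ?_
  let U : Set X := f.fiberι b '' s
  let V : Set X := f.fiberι b '' sᶜ
  have hU : IsOpen U := hemb.isOpenMap _ hs.isOpen
  have hV : IsOpen V := hemb.isOpenMap _ hs.compl.isOpen
  have hUV : U ∪ V = f.base ⁻¹' {b} := by
    rw [← Set.image_union, Set.union_compl_self, Set.image_univ, f.range_fiberι]
  have hdisj : Disjoint (closure U) (closure V) := by
    rw [Set.disjoint_left]
    intro x hxU hxV
    obtain ⟨u, hu, hux⟩ := Lib.Unram.ComplConnected.exists_generization_mem hU hxU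
    obtain ⟨v, hv, hvx⟩ := Lib.Unram.ComplConnected.exists_generization_mem hV hxV
    have hdis : Disjoint U V := Set.disjoint_image_of_injective hemb.injective disjoint_compl_right
    rcases (PrimeSpectrum.le_iff_specializes _ (IsLocalRing.closedPoint A)).mpr
        (IsLocalRing.specializes_closedPoint (f x)) |>.eq_or_lt with hxa | hlt
    swap
    · have hxb : f x = b := (hbd _).mpr fun h => hlt.not_ge (by
        show IsLocalRing.maximalIdeal A ≤ _
        rw [hmax, Ideal.span_singleton_le_iff_mem]; exact h)
      rcases (show x ∈ U ∪ V from hUV ▸ hxb) with h | h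
      · obtain ⟨y, hyU, hyV⟩ := mem_closure_iff.mp hxV U hU h
        exact Set.disjoint_left.mp hdis hyU hyV
      · obtain ⟨y, hyV, hyU⟩ := mem_closure_iff.mp hxU V hV h
        exact Set.disjoint_left.mp hdis hyU hyV
    let R := X.presheaf.stalk x
    let φ : CommRingCat.of A ⟶ R := Spec.preimage (X.fromSpecStalk x ≫ f)
    have hφ : Spec.map φ = X.fromSpecStalk x ≫ f := Spec.map_preimage _
    let τ : R := φ t
    have hτp : ∀ p : PrimeSpectrum R, X.fromSpecStalk x p ∈ f.base ⁻¹' {b} ↔ τ ∉ p.asIdeal := by
      intro p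
      show f (X.fromSpecStalk x p) = b ↔ _
      rw [← Scheme.Hom.comp_apply, ← hφ]
      exact hbd _
    obtain ⟨m, hm⟩ := Lib.CurvePts.exists_prime (specializes_rfl : x ⤳ x)
    have hτm : τ ∈ IsLocalRing.maximalIdeal R := fun hunit => by
      have h1 : X.fromSpecStalk x m ∈ f.base ⁻¹' {b} :=
        (hτp m).mpr fun h => m.2.ne_top (Ideal.eq_top_of_isUnit_mem _ h hunit)
      rw [hm] at h1
      have h2 : b = IsLocalRing.closedPoint A := (show f x = b from h1).symm.trans hxa
      exact (hbd _).mp h2.symm (by
        show t ∈ IsLocalRing.maximalIdeal A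
        rw [hmax]; exact Ideal.mem_span_singleton_self t)
    have hmin : ∀ p ∈ minimalPrimes R, τ ∉ p := by
      intro p hp
      haveI := hp.1.1
      let P : PrimeSpectrum R := ⟨p, inferInstance⟩
      have hP : IsMin P := fun q hq => hp.2 ⟨q.2, bot_le⟩ hq
      obtain ⟨z, hz, hzp⟩ := hdense (X.fromSpecStalk x P)
      rw [(Lib.CurvePts.isMin_iff P).mp hP z hzp] at hz
      exact (hτp P).mp hz
    have hrad : (Ideal.span {τ}).IsRadical := by
      haveI := hred
      obtain ⟨ξ, hξ⟩ : x ∈ Set.range (f.fiberι (IsLocalRing.closedPoint A)) := by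
        rw [f.range_fiberι]; exact hxa
      obtain ⟨ψ, hψs, hψk⟩ := H46.FiberStalk.exists_surjective_stalk f _ ξ x hξ
      let ν : CommRingCat.of A ⟶ (Spec (CommRingCat.of A)).presheaf.stalk (f x) :=
        (Scheme.ΓSpecIso (CommRingCat.of A)).inv ≫ (Spec (CommRingCat.of A)).presheaf.germ ⊤ (f x) trivial
      letI : Algebra (CommRingCat.of A) ((Spec (CommRingCat.of A)).presheaf.stalk (f x)) :=
        StructureSheaf.stalkAlgebra _ _
      have hν : ν ≫ f.stalkMap x = φ := by
        apply Spec.map_injective
        rw [hφ, ← Scheme.SpecMap_stalkMap_fromSpecStalk, Spec.map_comp, Spec.fromSpecStalk_eq]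
      haveI : IsLocalization.AtPrime ((Spec (CommRingCat.of A)).presheaf.stalk (f x)) (f x).asIdeal :=
        StructureSheaf.IsLocalization.to_stalk _ _
      have hmx : IsLocalRing.maximalIdeal ((Spec (CommRingCat.of A)).presheaf.stalk (f x)) =
          Ideal.span {ν t} := by
        rw [← IsLocalization.AtPrime.map_eq_maximalIdeal (f x).asIdeal]
        rw [show (f x).asIdeal = IsLocalRing.maximalIdeal A from congrArg PrimeSpectrum.asIdeal hxa, hmax,
          Ideal.map_span, Set.image_singleton]
        rfl
      rw [hmx, Ideal.map_span, Set.image_singleton, show (f.stalkMap x).hom (ν t) = τ from congr($hν t)] at hψk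
      rw [← hψk]
      exact RingHom.ker_isRadical_iff_reduced_of_surjective hψs |>.mpr inferInstance
    haveI := preconnected_away τ hτm hrad hmin
    let e : PrimeSpectrum (Localization.Away τ) → X :=
      fun q => X.fromSpecStalk x (PrimeSpectrum.comap (algebraMap R (Localization.Away τ)) q)
    have hec : Continuous e := (X.fromSpecStalk x).continuous.comp (PrimeSpectrum.continuous_comap _)
    have hee : ∀ z ∈ f.base ⁻¹' {b}, z ⤳ x → z ∈ Set.range e := by
      intro z hz hzx
      obtain ⟨p, rfl⟩ := Lib.CurvePts.exists_prime hzx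
      obtain ⟨q, rfl⟩ : p ∈ Set.range (PrimeSpectrum.comap (algebraMap R (Localization.Away τ))) := by
        rw [PrimeSpectrum.localization_away_comap_range _ τ]
        exact (hτp p).mp hz
      exact ⟨q, rfl⟩
    have hsub : Set.range e ⊆ U ∪ V := by
      rintro _ ⟨q, rfl⟩
      rw [hUV]
      refine (hτp _).mpr ?_
      have := (Set.mem_range_self q : PrimeSpectrum.comap (algebraMap R (Localization.Away τ)) q ∈ Set.range _)
      rwa [PrimeSpectrum.localization_away_comap_range _ τ] at this
    obtain ⟨y, -, hyU, hyV⟩ := (isPreconnected_range hec) U V hU hV hsub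
      ⟨u, hee u (hUV ▸ Or.inl hu) hux, hu⟩ ⟨v, hee v (hUV ▸ Or.inr hv) hvx, hv⟩
    exact Set.disjoint_left.mp hdis hyU hyV
  have hcover : closure U ∪ closure V = Set.univ := by
    refine Set.eq_univ_of_forall fun x => ?_
    obtain ⟨z, hz, hzx⟩ := hdense x
    rw [← hUV] at hz
    rcases hz with hz | hz
    · exact Or.inl (closure_mono (Set.singleton_subset_iff.mpr hz) hzx.mem_closure)
    · exact Or.inr (closure_mono (Set.singleton_subset_iff.mpr hz) hzx.mem_closure)
  have hclopen : IsClopen (closure U) := by
    refine ⟨isClosed_closure, ?_⟩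
    rw [show closure U = (closure V)ᶜ from (IsCompl.of_eq (disjoint_iff.mp hdisj) hcover).eq_compl]
    exact isClosed_closure.isOpen_compl
  rcases isClopen_iff.mp hclopen with h | h
  · left
    rw [closure_empty_iff, Set.image_eq_empty] at h
    exact h
  · right
    have : closure V = ∅ := by simpa [h] using hdisj
    rw [closure_empty_iff, Set.image_eq_empty, Set.compl_empty_iff] at this
    exact this

end Groth.Agent.S3417
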