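import Groth.Statements.S3421
import Groth.Agent.H46.FibreProf.StrataCons
import Groth.Agent.H46.FibreProf.Equidim
import Groth.Agent.H46.FibreProf.Unit
-- import your own Groth.Agent.* helpers here

set_option autoImplicit false
open CategoryTheory AlgebraicGeometry
universe u
open EGA43

namespace Groth.Agent.S3421

open Groth.Agent.H46.FibreProf Groth.Agent.H46.FibreProf.Basic Groth.Agent.H46.FibreProf.Open in
/-- Let f : X ⟶ S be locally of finite presentation. The set of points x of X such that the local ring
at x of the fibre of f through x is Cohen–Macaulay is locally constructible in X. -/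
theorem result {X S : Scheme.{u}} (f : X ⟶ S)
    [LocallyOfFinitePresentation f] :
    Topology.IsLocallyConstructible {x : X |
      LocCoh.IsCohenMacaulayLocalRing ((f.fiber (f.base x)).presheaf.stalk (f.asFiber x))} := by
  haveI := Unit.isFP_structureModule X
  haveI := Groth.Agent.H26.FreeCrit.isQuasicoherent_of_isFP (Unit.isFP_structureModule X)
  convert StrataCons.isLocallyConstructible_cop f (Coh.structureModule X) (Unit.isFP_structureModule X) 0
    using 1
  ext x
  refine Iff.trans ?_ ((Unit.cop_iff f (f.base x) (f.asFiber x) 0).trans (by rw [f.fiberι_asFiber]; exact Iff.rfl))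
  haveI := Groth.Agent.H46.QFin.isLocallyNoetherian_fiber f (f.base x)
  let O := (f.fiber (f.base x)).presheaf.stalk (f.asFiber x)
  rw [Nat.cast_zero, add_zero, ← Module.supportDim_self_eq_ringKrullDim]
  constructor
  · intro h
    exact h.supportDim_eq_depth.le
  · intro h
    exact { supportDim_eq_depth := le_antisymm h (Groth.Agent.Lib.Depth.Assoc.depth_le_supportDim O) }

end Groth.Agent.S3421
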