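import Groth.Statements.S3429
import Groth.Agent.H46.UnivOpen
import Groth.Agent.H46.Lift
import Groth.Agent.H52.QFlat.Basic

set_option autoImplicit false
open CategoryTheory AlgebraicGeometry
universe u
open EGA42

namespace Groth.Agent.S3429

/-- A morphism of schemes which is quasi-flat (some quasi-coherent module of finite type on the source,
flat over the base, has support the whole source) and locally of finite presentation is universally
open. -/
theorem result {X Y : Scheme.{u}} (f : X ⟶ Y)
    (hf : FDesc.IsQuasiFlat f) [LocallyOfFinitePresentation f] : UniversallyOpen f := by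
  refine (Groth.Agent.H46.UnivOpen.universallyOpen_iff f).2 fun x => ?_
  intro T g p _
  refine (Groth.Agent.H46.Lift.isOpenAt_iff _ p).2 fun t ht => ?_
  have ht' : t ⤳ (Limits.pullback.fst g f).base ((Limits.pullbackSymmetry f g).hom.base p) := by
    rw [← Scheme.Hom.comp_apply, Limits.pullbackSymmetry_hom_comp_fst]
    exact ht
  obtain ⟨z, hz, hzt⟩ := Groth.Agent.H52.QFlat.Basic.generalizingMap_fst g f hf ht'
  refine ⟨(Limits.pullbackSymmetry f g).inv.base z, ?_, ?_⟩
  · have := hz.map (Limits.pullbackSymmetry f g).inv.continuous
    rwa [← Scheme.Hom.comp_apply, Iso.hom_inv_id] at this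
  · rw [← Scheme.Hom.comp_apply, Limits.pullbackSymmetry_inv_comp_snd]
    exact hzt

end Groth.Agent.S3429
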