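import Groth.Statements.S3430
import Groth.Agent.Lib.VarDim.Fibre
import Groth.Agent.Lib.SchTopo.Basic
import Groth.Agent.Lib.Dim.Integral
import Mathlib.AlgebraicGeometry.AffineSpace
import Mathlib.AlgebraicGeometry.Limits
import Mathlib.AlgebraicGeometry.Morphisms.Finite
import Mathlib.RingTheory.NoetherNormalization
import Mathlib.AlgebraicGeometry.Noetherian
import Groth.Agent.Lib.QFCurve.Basic

set_option autoImplicit false
open CategoryTheory AlgebraicGeometry
universe u
open EGA42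

namespace Groth.Agent.S3430

open TopologicalSpace Groth.Agent.Lib Groth.Agent.Lib.Cyc Groth.Agent.Lib.VarDim.Basic

/-- A scheme with Noetherian underlying space has a dense affine open. -/
theorem exists_dense_affine (X : Scheme.{u}) [NoetherianSpace ↥X] :
    ∃ U : X.Opens, IsAffineOpen U ∧ Dense (U : Set X) := by
  classical
  have hfin := NoetherianSpace.finite_irreducibleComponents (α := ↥X)
  let σ := ↥(irreducibleComponents ↥X)
  haveI : Finite σ := hfin.to_subtype
  let O : σ → X.Opens := fun C => ⟨(⋃ D : {D : σ // D ≠ C}, (D.1.1 : Set X))ᶜ,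
    (isClosed_iUnion_of_finite fun D : {D : σ // D ≠ C} =>
      isClosed_of_mem_irreducibleComponents _ D.1.2).isOpen_compl⟩
  have hgen : ∀ C : σ, ∃ V : X.Opens, IsAffineOpen V ∧ V ≤ O C ∧ (C.1 : Set X) ⊆ closure (V : Set X) := by
    intro C
    obtain ⟨η, hη⟩ := QuasiSober.sober C.2.1 (isClosed_of_mem_irreducibleComponents _ C.2)
    have hηO : η ∈ O C := by
      intro hmem
      obtain ⟨D, hD⟩ := Set.mem_iUnion.mp hmem
      have hsub : (C.1 : Set X) ⊆ D.1.1 := by
        rw [← hη.def]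
        exact closure_minimal (Set.singleton_subset_iff.mpr hD)
          (isClosed_of_mem_irreducibleComponents _ D.1.2)
      exact D.2 (Subtype.ext (Set.Subset.antisymm (C.2.2 D.1.2.1 hsub) hsub))
    obtain ⟨V, hV, hηV, hVO⟩ := exists_isAffineOpen_mem_and_subset hηO
    refine ⟨V, hV, hVO, ?_⟩
    rw [← hη.def]
    exact closure_mono (Set.singleton_subset_iff.mpr hηV)
  choose V hV hVO hVcl using hgen
  refine ⟨iSup V, IsAffineOpen.iSup_of_disjoint hV fun C D hne => ?_, ?_⟩
  · rw [Function.onFun, disjoint_iff_inf_le]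
    intro z hz
    obtain ⟨E, hE, hzE⟩ := exists_mem_irreducibleComponents_subset_of_isIrreducible
      ({z} : Set X) isIrreducible_singleton
    have h1 : ∀ F : σ, z ∈ V F → (⟨E, hE⟩ : σ) = F := fun F hF => by
      by_contra hEF
      exact hVO F hF (Set.mem_iUnion.mpr ⟨⟨⟨E, hE⟩, hEF⟩, hzE rfl⟩)
    exact absurd ((h1 C hz.1).symm.trans (h1 D hz.2)) hne
  · intro z
    obtain ⟨E, hE, hzE⟩ := exists_mem_irreducibleComponents_subset_of_isIrreducible
      ({z} : Set X) isIrreducible_singleton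
    exact closure_mono (fun w hw => Opens.mem_iSup.mpr ⟨⟨E, hE⟩, hw⟩) (hVcl ⟨E, hE⟩ (hzE rfl))

/-- A dense open subscheme of a scheme of finite type over a field has full dimension. -/
theorem dim_of_dense (k : Type u) [Field k] {X : Scheme.{u}} (f : X ⟶ Spec (CommRingCat.of k))
    [LocallyOfFiniteType f] (U : X.Opens) (hU : Dense (U : Set X)) :
    topologicalKrullDim ↥(U : Scheme.{u}) = topologicalKrullDim ↥X := by
  refine le_antisymm (topologicalKrullDim_subspace_le _ _) ?_
  rw [topologicalKrullDim_scheme_le_iff (K := k) f]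
  intro x
  obtain ⟨C, hC, hxC⟩ := exists_mem_irreducibleComponents_subset_of_isIrreducible
    ({x} : Set X) isIrreducible_singleton
  obtain ⟨η, hη⟩ := QuasiSober.sober hC.1 (isClosed_of_mem_irreducibleComponents C hC)
  have hηU : η ∈ U := by
    -- `η` has no proper generization and lies in the closure of the open `U`
    have hmax : ∀ w : X, w ⤳ η → η ⤳ w := fun w hw => by
      have hle : C ⊆ closure {w} := by
        rw [← hη.def]; exact hw.closure_subset
      have : closure ({w} : Set X) ⊆ C := hC.2 isIrreducible_singleton.closure hle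
      rw [← hη.def] at this
      exact specializes_iff_mem_closure.mpr (this (subset_closure rfl))
    obtain ⟨W, hW, hηW, -⟩ := exists_isAffineOpen_mem_and_subset (U := (⊤ : X.Opens)) (Set.mem_univ η)
    haveI : IsLocallyNoetherian X := LocallyOfFiniteType.isLocallyNoetherian f
    haveI : IsNoetherianRing Γ(X, W) := IsLocallyNoetherian.component_noetherian ⟨W, hW⟩
    haveI : IsAffine (W : Scheme.{u}) := hW
    haveI : IsLocallyNoetherian (W : Scheme.{u}) := LocallyOfFiniteType.isLocallyNoetherian (W.ι ≫ f)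
    haveI : IsNoetherian (W : Scheme.{u}) := {}
    let T : Set ↥(W : Scheme.{u}) := Subtype.val ⁻¹' (U : Set X)
    let η' : ↥(W : Scheme.{u}) := ⟨η, hηW⟩
    have hcl : η' ∈ closure T := by
      rw [mem_closure_iff]
      intro O hO hηO
      obtain ⟨O', hO', rfl⟩ := isOpen_induced_iff.mp hO
      obtain ⟨z, hz, hzU⟩ := mem_closure_iff.mp (hU η) (O' ∩ W) (hO'.inter W.2) ⟨hηO, hηW⟩
      exact ⟨⟨z, hz.2⟩, hz.1, hzU⟩
    have hTne : T.Nonempty := closure_nonempty_iff.mp ⟨_, hcl⟩
    obtain ⟨S, hS, hSc, hSi, hSu⟩ :=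
      NoetherianSpace.exists_finite_set_isClosed_irreducible (isClosed_closure : IsClosed (closure T))
    obtain ⟨s, hs, hηs⟩ : η' ∈ ⋃₀ S := (Set.ext_iff.mp hSu _).mp hcl
    obtain ⟨w, hw⟩ := QuasiSober.sober (hSi s hs) (hSc s hs)
    have hwη : w.1 ⤳ η := (hw.specializes hηs).map continuous_subtype_val
    have hηw : η ⤳ w.1 := hmax _ hwη
    have hweq : w = η' := Subtype.ext (hwη.antisymm hηw).eq
    have hwT : w ∈ closure T := by rw [hSu]; exact ⟨s, hs, hw.mem⟩
    obtain ⟨v, y, hvw, hyT, hvy, -⟩ : ∃ v y, v ⤳ w ∧ y ∈ T ∧ v ⤳ y ∧ True := by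
      obtain ⟨v, y, h1, h2, h3, -⟩ := QFCurve.exists_specializes_of_mem_closure hwT
      exact ⟨v, y, h1, h2, h3, trivial⟩
    have hvη : v.1 ⤳ η := by
      have h := hvw.map continuous_subtype_val
      rw [hweq] at h
      exact h
    have : v.1 = η := (hvη.antisymm (hmax _ hvη)).eq
    rw [← this]
    exact (hvy.map continuous_subtype_val).mem_open U.2 hyT
  refine le_trans ?_ (pdim_le_topologicalKrullDim (K := k) f U.2.isLocallyClosed hηU)
  exact_mod_cast pdim_le (K := k) f (hη.specializes (hxC rfl))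

/-- An algebra map from a polynomial ring gives a morphism to affine space over the base. -/
theorem exists_hom {k : Type u} [Field k] {X : Scheme.{u}} (f : X ⟶ Spec (CommRingCat.of k))
    (U : X.Opens) (hU : IsAffineOpen U) (n : ℕ)
    (φ : MvPolynomial (ULift.{u} (Fin n)) k →+* Γ(X, U))
    (hC : φ.comp MvPolynomial.C = (Spec.preimage (hU.isoSpec.inv ≫ U.ι ≫ f)).hom) :
    ∃ g : (U : Scheme.{u}) ⟶ 𝔸(ULift.{u} (Fin n); Spec (CommRingCat.of k)),
      g ≫ (𝔸(ULift.{u} (Fin n); Spec (CommRingCat.of k)) ↘ Spec (CommRingCat.of k)) = U.ι ≫ f ∧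
      (φ.Finite → IsFinite g) ∧
      (Function.Surjective (PrimeSpectrum.comap φ) → Function.Surjective g.base) := by
  let e := AffineSpace.SpecIso (ULift.{u} (Fin n)) (CommRingCat.of k)
  refine ⟨hU.isoSpec.hom ≫ Spec.map (CommRingCat.ofHom φ) ≫ e.inv, ?_, fun hφ => ?_, fun hs => ?_⟩
  · rw [Category.assoc, Category.assoc, AffineSpace.SpecIso_inv_over, ← Spec.map_comp]
    have hC' : CommRingCat.ofHom MvPolynomial.C ≫ CommRingCat.ofHom φ =
        Spec.preimage (hU.isoSpec.inv ≫ U.ι ≫ f) := CommRingCat.hom_ext hC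
    rw [hC', Spec.map_preimage, Iso.hom_inv_id_assoc]
  · haveI : IsFinite (Spec.map (CommRingCat.ofHom φ)) := (IsFinite.SpecMap_iff _).mpr hφ
    infer_instance
  · intro a
    obtain ⟨b, hb⟩ := hs (e.hom a)
    refine ⟨hU.isoSpec.inv b, ?_⟩
    show (hU.isoSpec.hom ≫ Spec.map (CommRingCat.ofHom φ) ≫ e.inv) (hU.isoSpec.inv b) = a
    rw [← Scheme.Hom.comp_apply, Iso.inv_hom_id_assoc, Scheme.Hom.comp_apply]
    show e.inv (PrimeSpectrum.comap φ b) = a
    rw [hb, ← Scheme.Hom.comp_apply, Iso.hom_inv_id]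
    rfl

/-- Let X be a scheme of finite type over a field k and n a natural number. Then: dim X ≥ n if and only
if there are a dense open subscheme U of X and a surjective k-morphism from U to affine n-space over
k; dim X ≤ n if and only if there are such U and g with g finite; dim X = n if and only if there are
such U and g with g finite and surjective. -/
theorem result (k : Type u) [Field k] {X : Scheme.{u}}
    (f : X ⟶ Spec (CommRingCat.of k)) [LocallyOfFiniteType f] [QuasiCompact f] (n : ℕ) :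
    ((n : WithBot ℕ∞) ≤ topologicalKrullDim (X : Type u) ↔
      ∃ (U : X.Opens) (g : (U : Scheme.{u}) ⟶ 𝔸(ULift.{u} (Fin n); Spec (CommRingCat.of k))),
        Dense (U : Set X) ∧ g ≫ (𝔸(ULift.{u} (Fin n); Spec (CommRingCat.of k)) ↘ Spec (CommRingCat.of k)) = U.ι ≫ f ∧ Function.Surjective g.base) ∧
    (topologicalKrullDim (X : Type u) ≤ n ↔
      ∃ (U : X.Opens) (g : (U : Scheme.{u}) ⟶ 𝔸(ULift.{u} (Fin n); Spec (CommRingCat.of k))),
        Dense (U : Set X) ∧ g ≫ (𝔸(ULift.{u} (Fin n); Spec (CommRingCat.of k)) ↘ Spec (CommRingCat.of k)) = U.ι ≫ f ∧ IsFinite g) ∧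
    (topologicalKrullDim (X : Type u) = n ↔
      ∃ (U : X.Opens) (g : (U : Scheme.{u}) ⟶ 𝔸(ULift.{u} (Fin n); Spec (CommRingCat.of k))),
        Dense (U : Set X) ∧ g ≫ (𝔸(ULift.{u} (Fin n); Spec (CommRingCat.of k)) ↘ Spec (CommRingCat.of k)) = U.ι ≫ f ∧ IsFinite g ∧ Function.Surjective g.base) := by
  let A := 𝔸(ULift.{u} (Fin n); Spec (CommRingCat.of k))
  let p := A ↘ Spec (CommRingCat.of k)
  have hA : topologicalKrullDim ↥A = (n : WithBot ℕ∞) := by
    rw [(AffineSpace.SpecIso (ULift.{u} (Fin n)) (CommRingCat.of k)).hom.homeomorph.isHomeomorph.topologicalKrullDim_eq]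
    refine (PrimeSpectrum.topologicalKrullDim_eq_ringKrullDim (R := MvPolynomial (ULift.{u} (Fin n)) k)).trans ?_
    simp [MvPolynomial.ringKrullDim_of_isNoetherianRing]
  -- the converse directions
  have hle : ∀ (U : X.Opens) (g : (U : Scheme.{u}) ⟶ A), Dense (U : Set X) → IsFinite g →
      topologicalKrullDim ↥X ≤ n := fun U g hd hg => by
    rw [← dim_of_dense k f U hd, ← hA]
    exact SchTopo.Basic.topologicalKrullDim_le_of_specializes_eq g fun x y h e =>
      SchTopo.Basic.isIntegralHom_eq_of_specializes g h e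
  have hge : ∀ (U : X.Opens) (g : (U : Scheme.{u}) ⟶ A), Dense (U : Set X) → g ≫ p = U.ι ≫ f →
      Function.Surjective g.base → (n : WithBot ℕ∞) ≤ topologicalKrullDim ↥X := fun U g hd hg hs => by
    rw [← dim_of_dense k f U hd, ← hA, topologicalKrullDim_scheme_le_iff (K := k) p]
    intro a
    obtain ⟨x, rfl⟩ := hs a
    refine le_trans ?_ (pdim_le_topologicalKrullDim_scheme (K := k) (U.ι ≫ f) x)
    exact_mod_cast VarDim.Fibre.pdim_apply_le (K := k) (U.ι ≫ f) p g hg x
  -- Noether normalisation on a dense affine open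
  haveI : IsLocallyNoetherian X := LocallyOfFiniteType.isLocallyNoetherian f
  haveI : CompactSpace X := QuasiCompact.compactSpace_of_compactSpace f
  haveI : IsNoetherian X := ⟨⟩
  obtain ⟨U, hU, hd⟩ := exists_dense_affine X
  letI := (Spec.preimage (hU.isoSpec.inv ≫ U.ι ≫ f)).hom.toAlgebra
  haveI : Algebra.FiniteType k Γ(X, U) := by
    have : LocallyOfFiniteType (hU.isoSpec.inv ≫ U.ι ≫ f) := inferInstance
    rw [← Spec.map_preimage (hU.isoSpec.inv ≫ U.ι ≫ f)] at this
    exact (HasRingHomProperty.Spec_iff (P := @LocallyOfFiniteType)).mp this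
  have hdimB : topologicalKrullDim ↥X = ringKrullDim Γ(X, U) := by
    rw [← dim_of_dense k f U hd, hU.isoSpec.hom.homeomorph.isHomeomorph.topologicalKrullDim_eq]
    exact PrimeSpectrum.topologicalKrullDim_eq_ringKrullDim (R := Γ(X, U))
  rcases subsingleton_or_nontrivial Γ(X, U) with hB | hB
  · have hbot : topologicalKrullDim ↥X = ⊥ := by rw [hdimB, ringKrullDim_eq_bot_of_subsingleton]
    obtain ⟨g, hg, hgf, -⟩ := exists_hom f U hU n (MvPolynomial.aeval (R := k) fun _ => (0 : Γ(X, U))).toRingHom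
      (RingHom.ext fun c => (MvPolynomial.aeval (R := k) fun _ : ULift.{u} (Fin n) => (0 : Γ(X, U))).commutes c)
    have hfin : IsFinite g := hgf (RingHom.Finite.of_surjective _ fun z => ⟨0, Subsingleton.elim _ _⟩)
    refine ⟨⟨fun h => absurd h (by rw [hbot]; simp), fun ⟨V, g', h1, h2, h3⟩ => hge V g' h1 h2 h3⟩,
      ⟨fun _ => ⟨U, g, hd, hg, hfin⟩, fun ⟨V, g', h1, h2, h3⟩ => hle V g' h1 h3⟩,
      ⟨fun h => absurd h (by rw [hbot]; simp), fun ⟨V, g', h1, h2, h3, h4⟩ =>
        le_antisymm (hle V g' h1 h3) (hge V g' h1 h2 h4)⟩⟩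
  obtain ⟨s, φ, hφ, hφfin⟩ := exists_finite_inj_algHom_of_fg k Γ(X, U)
  have hs : topologicalKrullDim ↥X = (s : WithBot ℕ∞) := by
    rw [hdimB]
    letI := φ.toRingHom.toAlgebra
    haveI : FaithfulSMul (MvPolynomial (Fin s) k) Γ(X, U) :=
      (faithfulSMul_iff_algebraMap_injective _ _).mpr hφ
    haveI : Module.Finite (MvPolynomial (Fin s) k) Γ(X, U) := hφfin
    rw [Dim.Integral.ringKrullDim_eq_of_isIntegral (R := MvPolynomial (Fin s) k)]
    simp [MvPolynomial.ringKrullDim_of_isNoetherianRing]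
  have hφs : Function.Surjective (PrimeSpectrum.comap φ.toRingHom) := by
    letI := φ.toRingHom.toAlgebra
    haveI : Module.Finite (MvPolynomial (Fin s) k) Γ(X, U) := hφfin
    exact fun P => by
      obtain ⟨Q, -, hQ, hQP⟩ := Ideal.exists_ideal_over_prime_of_isIntegral (S := Γ(X, U)) P.asIdeal ⊥
        (fun x hx => by
          have : x = 0 := hφ ((Ideal.mem_bot.mp hx).trans (map_zero φ).symm)
          rw [this]; exact P.asIdeal.zero_mem)
      exact ⟨⟨Q, hQ⟩, PrimeSpectrum.ext hQP⟩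
  have mkle : s ≤ n → ∃ (g : (U : Scheme.{u}) ⟶ A), g ≫ p = U.ι ≫ f ∧ IsFinite g ∧
      (s = n → Function.Surjective g.base) := fun hsn => by
    classical
    let ρ : MvPolynomial (ULift.{u} (Fin n)) k →ₐ[k] MvPolynomial (Fin s) k :=
      MvPolynomial.aeval fun i => if h : (i.down : ℕ) < s then MvPolynomial.X ⟨i.down, h⟩ else 0
    have hρs : Function.Surjective ρ := fun z => by
      refine ⟨MvPolynomial.rename (fun j => ULift.up (Fin.castLE hsn j)) z, ?_⟩
      rw [MvPolynomial.aeval_rename]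
      exact (AlgHom.congr_fun (MvPolynomial.algHom_ext fun j => by simp) z).trans (AlgHom.id_apply (R := k) z)
    obtain ⟨g, hg, hgf, hgs⟩ := exists_hom f U hU n (φ.comp ρ).toRingHom
      (RingHom.ext fun c => (φ.comp ρ).commutes c)
    refine ⟨g, hg, hgf (RingHom.Finite.comp hφfin (RingHom.Finite.of_surjective _ hρs)), fun hsn' => hgs ?_⟩
    subst hsn'
    intro P
    have hP : RingHom.ker ρ ≤ P.asIdeal := by
      intro z hz
      have : z = 0 := by
        refine MvPolynomial.rename_injective ULift.down ULift.down_injective ?_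
        rw [map_zero]
        refine Eq.trans ?_ hz
        exact AlgHom.congr_fun (MvPolynomial.algHom_ext fun j => by simp [ρ, j.down.isLt]) z
      rw [this]; exact P.asIdeal.zero_mem
    haveI := Ideal.map_isPrime_of_surjective hρs hP
    obtain ⟨Q, hQ⟩ := hφs ⟨P.asIdeal.map ρ, inferInstance⟩
    refine ⟨Q, PrimeSpectrum.ext ?_⟩
    show (Q.asIdeal.comap φ.toRingHom).comap ρ.toRingHom = P.asIdeal
    rw [show Q.asIdeal.comap φ.toRingHom = P.asIdeal.map ρ from congrArg PrimeSpectrum.asIdeal hQ]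
    exact (Ideal.comap_map_of_surjective' ρ.toRingHom hρs _).trans (sup_eq_left.mpr hP)
  have mkge : n ≤ s → ∃ (g : (U : Scheme.{u}) ⟶ A), g ≫ p = U.ι ≫ f ∧ Function.Surjective g.base :=
    fun hns => by
    classical
    let ι : MvPolynomial (ULift.{u} (Fin n)) k →ₐ[k] MvPolynomial (Fin s) k :=
      MvPolynomial.rename fun i => Fin.castLE hns i.down
    let π : MvPolynomial (Fin s) k →ₐ[k] MvPolynomial (ULift.{u} (Fin n)) k :=
      MvPolynomial.aeval fun j => if h : (j : ℕ) < n then MvPolynomial.X (ULift.up ⟨j, h⟩) else 0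
    have hπι : π.comp ι = AlgHom.id k _ := MvPolynomial.algHom_ext fun j => by
      simp [π, ι]
    obtain ⟨g, hg, -, hgs⟩ := exists_hom f U hU n (φ.comp ι).toRingHom
      (RingHom.ext fun c => (φ.comp ι).commutes c)
    refine ⟨g, hg, hgs fun P => ?_⟩
    obtain ⟨Q, hQ⟩ := hφs (PrimeSpectrum.comap π.toRingHom P)
    refine ⟨Q, PrimeSpectrum.ext ?_⟩
    show (Q.asIdeal.comap φ.toRingHom).comap ι.toRingHom = P.asIdeal
    rw [show Q.asIdeal.comap φ.toRingHom = P.asIdeal.comap π.toRingHom from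
      congrArg PrimeSpectrum.asIdeal hQ, Ideal.comap_comap]
    ext z
    show π (ι z) ∈ P.asIdeal ↔ z ∈ P.asIdeal
    rw [show π (ι z) = z from AlgHom.congr_fun hπι z]
  refine ⟨⟨fun h => ?_, fun ⟨V, g', h1, h2, h3⟩ => hge V g' h1 h2 h3⟩,
      ⟨fun h => ?_, fun ⟨V, g', h1, h2, h3⟩ => hle V g' h1 h3⟩,
      ⟨fun h => ?_, fun ⟨V, g', h1, h2, h3, h4⟩ =>
        le_antisymm (hle V g' h1 h3) (hge V g' h1 h2 h4)⟩⟩
  · obtain ⟨g, h1, h2⟩ := mkge (by rw [hs] at h; exact_mod_cast h)
    exact ⟨U, g, hd, h1, h2⟩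
  · obtain ⟨g, h1, h2, -⟩ := mkle (by rw [hs] at h; exact_mod_cast h)
    exact ⟨U, g, hd, h1, h2⟩
  · have hsn : s = n := by rw [hs] at h; exact_mod_cast h
    obtain ⟨g, h1, h2, h3⟩ := mkle hsn.le
    exact ⟨U, g, hd, h1, h2, h3 hsn⟩

end Groth.Agent.S3430
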