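import Groth.Statements.S3431
import Groth.Agent.H47.SemiLocal

set_option autoImplicit false
universe u
open EGA43

namespace Groth.Agent.S3431

/-- Let A be a Noetherian ring. Then A is a Jacobson ring if and only if there is no prime ideal p of A
such that A/p is semi-local (finitely many maximal ideals) of Krull dimension 1. -/
theorem result (A : Type u) [CommRing A] [IsNoetherianRing A] :
    IsJacobsonRing A ↔
      ∀ (p : Ideal A) [p.IsPrime], ¬ (Finite (MaximalSpectrum (A ⧸ p)) ∧ ringKrullDim (A ⧸ p) = 1) := by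
  constructor
  · intro h p _ ⟨hfin, hdim⟩
    exact Groth.Agent.H47.SemiLocal.not_semilocal_dim_one hdim
  · intro h
    rw [PrimeSpectrum.isJacobsonRing_iff_jacobsonSpace, jacobsonSpace_iff_locallyClosed]
    intro S hne hS
    obtain ⟨p, hp, hpl⟩ := Groth.Agent.H47.GDomain.exists_locallyClosed_point hS hne
    refine ⟨p, hp, (PrimeSpectrum.isClosed_singleton_iff_isMaximal p).2 (by_contra fun hnm ↦ ?_)⟩
    obtain ⟨f, hf, hf'⟩ := Groth.Agent.H47.GDomain.exists_f_of_isLocallyClosed_singleton p hpl
    obtain ⟨h1, h2, -⟩ := Groth.Agent.H47.GDomain.exists_quot p.asIdeal hf hf'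
    have : Ring.KrullDimLE 1 (A ⧸ p.asIdeal) := Groth.Agent.H47.SemiLocal.dim_le_one
      (Groth.Agent.H47.GDomain.key_domain (f := Ideal.Quotient.mk p.asIdeal f)
        (fun e ↦ hf (Ideal.Quotient.eq_zero_iff_mem.1 e)) fun P hP hPb ↦ by
          refine hf' (P.comap (Ideal.Quotient.mk _)) (hP.comap _) (lt_of_le_of_ne ?_ fun e ↦ hPb ?_)
          · exact fun q hq ↦ by simp [Ideal.mem_comap, Ideal.Quotient.eq_zero_iff_mem.2 hq]
          · rw [← Ideal.map_comap_of_surjective _ Ideal.Quotient.mk_surjective P, ← e, Ideal.map_quotient_self]).1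
    exact h p.asIdeal ⟨Finite.of_injective MaximalSpectrum.toPrimeSpectrum MaximalSpectrum.toPrimeSpectrum_injective,
      Groth.Agent.H47.SemiLocal.dim_eq_one fun hfield ↦ hnm (Ideal.Quotient.maximal_of_isField _ hfield)⟩

end Groth.Agent.S3431
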