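import Groth.Statements.S3432
import Groth.Agent.H47.GDomain

set_option autoImplicit false
open CategoryTheory AlgebraicGeometry
universe u
open EGA43

namespace Groth.Agent.S3432

/-- Let X be a locally Noetherian scheme and Y a closed subset of X such that every nonempty closed
subset of X meets Y. Then the open subscheme X ∖ Y (equivalently, the subspace X ∖ Y) is a Jacobson
space. -/
theorem result (X : Scheme.{u}) [IsLocallyNoetherian X] (Y : Set X)
    (hY : IsClosed Y) (hmeet : ∀ Z : Set X, IsClosed Z → Z.Nonempty → (Z ∩ Y).Nonempty) :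
    JacobsonSpace ↥(Yᶜ) := by
  rw [jacobsonSpace_iff_locallyClosed]
  intro S hne hS
  obtain ⟨p, hp, hpl⟩ := Groth.Agent.H47.GDomain.exists_locallyClosed_point_scheme
    (hS.image Topology.IsInducing.subtypeVal (by
      rw [Subtype.range_coe]; exact hY.isOpen_compl.isLocallyClosed)) (hne.image _)
  obtain ⟨⟨p, hpY⟩, hpS, rfl⟩ := hp
  refine ⟨⟨p, hpY⟩, hpS, isClosed_induced_iff.2 ⟨closure {p}, isClosed_closure, ?_⟩⟩
  ext ⟨w, hwY⟩
  refine ⟨fun hw ↦ ?_, fun hw ↦ ?_⟩
  · by_contra hne
    obtain ⟨y, hy, hyY⟩ := hmeet _ isClosed_closure ⟨w, subset_closure (Set.mem_singleton w)⟩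
    have hpw : p ≠ w := fun e ↦ hne (Subtype.ext e.symm)
    have := Groth.Agent.H47.GDomain.noChain hpl (specializes_iff_mem_closure.2 hw) hpw
      (specializes_iff_mem_closure.2 hy)
    exact hwY ((show w = y from this) ▸ hyY)
  · rw [Set.mem_singleton_iff.1 hw]; exact subset_closure rfl

end Groth.Agent.S3432
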