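import Groth.Statements.S3433
import Groth.Agent.H47.SemiLocal
import Mathlib.RingTheory.Spectrum.Prime.Topology

set_option autoImplicit false
universe u
open EGA43

namespace Groth.Agent.S3433

/-- Let A be a Noetherian local ring with maximal ideal m and let Y be the punctured spectrum Spec A ∖
{m}. Then Y is a Jacobson space, and a point p of Y is closed in Y if and only if dim A/p = 1. -/
theorem result (A : Type u) [CommRing A] [IsNoetherianRing A] [IsLocalRing A] :
    JacobsonSpace ↥({IsLocalRing.closedPoint A}ᶜ : Set (PrimeSpectrum A)) ∧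
      ∀ p : ↥({IsLocalRing.closedPoint A}ᶜ : Set (PrimeSpectrum A)),
        IsClosed ({p} : Set ↥({IsLocalRing.closedPoint A}ᶜ : Set (PrimeSpectrum A))) ↔
          ringKrullDim (A ⧸ p.1.asIdeal) = 1 := by
  have key : ∀ p : ↥({IsLocalRing.closedPoint A}ᶜ : Set (PrimeSpectrum A)),
      IsClosed ({p} : Set ↥({IsLocalRing.closedPoint A}ᶜ : Set (PrimeSpectrum A))) ↔
      ∀ P : PrimeSpectrum A, p.1 ⤳ P → P = p.1 ∨ P = IsLocalRing.closedPoint A := by
    intro p
    constructor
    · intro h P hP
      by_contra hc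
      rw [not_or] at hc
      obtain ⟨C, hC, hCp⟩ := isClosed_induced_iff.1 h
      have : (⟨P, hc.2⟩ : ↥({IsLocalRing.closedPoint A}ᶜ : Set (PrimeSpectrum A))) ∈ Subtype.val ⁻¹' C :=
        hP.mem_closed hC (hCp.ge rfl : p ∈ Subtype.val ⁻¹' C)
      rw [hCp] at this
      exact hc.1 (congrArg Subtype.val this)
    · intro h
      refine isClosed_induced_iff.2 ⟨closure {p.1}, isClosed_closure, ?_⟩
      ext q
      refine ⟨fun hq ↦ Subtype.ext ((h q.1 (specializes_iff_mem_closure.2 hq)).resolve_right q.2), fun hq ↦ ?_⟩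
      rw [Set.mem_singleton_iff.1 hq]
      exact subset_closure rfl
  have hnm : ∀ p : ↥({IsLocalRing.closedPoint A}ᶜ : Set (PrimeSpectrum A)), ¬ p.1.asIdeal.IsMaximal :=
    fun p hm ↦ p.2 (PrimeSpectrum.ext (IsLocalRing.eq_maximalIdeal hm))
  have key2 : ∀ p : ↥({IsLocalRing.closedPoint A}ᶜ : Set (PrimeSpectrum A)),
      IsClosed ({p} : Set ↥({IsLocalRing.closedPoint A}ᶜ : Set (PrimeSpectrum A))) ↔
        ringKrullDim (A ⧸ p.1.asIdeal) = 1 := by
    intro p
    rw [key]
    constructor
    · intro h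
      have : Ring.KrullDimLE 1 (A ⧸ p.1.asIdeal) := Ring.KrullDimLE.mk₁' fun I hI hIp ↦ by
        have := h ⟨I.comap (Ideal.Quotient.mk p.1.asIdeal), hIp.comap _⟩
          ((PrimeSpectrum.le_iff_specializes _ _).1 (fun a ha ↦ by
            simp [Ideal.mem_comap, Ideal.Quotient.eq_zero_iff_mem.2 ha]))
        rcases this with e | e
        · exact absurd (by rw [← Ideal.map_comap_of_surjective _ Ideal.Quotient.mk_surjective I,
            show I.comap _ = p.1.asIdeal from congrArg PrimeSpectrum.asIdeal e, Ideal.map_quotient_self]) hI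
        · rw [← Ideal.map_comap_of_surjective _ Ideal.Quotient.mk_surjective I,
            show I.comap _ = IsLocalRing.maximalIdeal A from congrArg PrimeSpectrum.asIdeal e]
          refine (Ideal.map_eq_top_or_isMaximal_of_surjective _ Ideal.Quotient.mk_surjective
            (IsLocalRing.maximalIdeal.isMaximal A)).resolve_left fun ht ↦ hIp.ne_top ?_
          rw [← Ideal.map_comap_of_surjective _ Ideal.Quotient.mk_surjective I,
            show I.comap _ = IsLocalRing.maximalIdeal A from congrArg PrimeSpectrum.asIdeal e, ht]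
      exact Groth.Agent.H47.SemiLocal.dim_eq_one fun hf ↦ hnm p (Ideal.Quotient.maximal_of_isField _ hf)
    · intro hdim P hP
      have : Ring.KrullDimLE 1 (A ⧸ p.1.asIdeal) := Ring.krullDimLE_iff.2 hdim.le
      have hle : p.1.asIdeal ≤ P.asIdeal := (PrimeSpectrum.le_iff_specializes _ _).2 hP
      refine or_iff_not_imp_left.2 fun hne ↦ PrimeSpectrum.ext ?_
      have hker : RingHom.ker (Ideal.Quotient.mk p.1.asIdeal) ≤ P.asIdeal := by rwa [Ideal.mk_ker]
      have h1 := (Ideal.map_isPrime_of_surjective Ideal.Quotient.mk_surjective hker).isMaximal_of_ne_bot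
        (fun e ↦ hne (PrimeSpectrum.ext (le_antisymm ?_ hle)))
      · have h2 := Ideal.comap_isMaximal_of_surjective _ Ideal.Quotient.mk_surjective (H := h1)
        rw [Ideal.comap_map_of_surjective' _ Ideal.Quotient.mk_surjective, sup_eq_left.2 hker] at h2
        exact IsLocalRing.eq_maximalIdeal h2
      · intro a ha
        rw [← Ideal.Quotient.eq_zero_iff_mem, ← Ideal.mem_bot, ← e]
        exact Ideal.mem_map_of_mem _ ha
  refine ⟨jacobsonSpace_iff_locallyClosed.2 fun S hne hS ↦ ?_, key2⟩
  obtain ⟨p, hp, hpl⟩ := Groth.Agent.H47.GDomain.exists_locallyClosed_point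
    (hS.image Topology.IsInducing.subtypeVal (by
      rw [Subtype.range_coe]
      exact (PrimeSpectrum.isClosed_singleton_iff_isMaximal (IsLocalRing.closedPoint A) |>.2 (IsLocalRing.maximalIdeal.isMaximal A)).isOpen_compl.isLocallyClosed))
    (hne.image _)
  obtain ⟨⟨p, hpne⟩, hpS, rfl⟩ := hp
  refine ⟨⟨p, hpne⟩, hpS, (key _).2 fun P hP ↦ or_iff_not_imp_left.2 fun hne ↦ ?_⟩
  exact (Groth.Agent.H47.GDomain.spec_key p hpl).1 P (IsLocalRing.closedPoint A) hP (Ne.symm hne)
    ((PrimeSpectrum.le_iff_specializes _ _).1 (IsLocalRing.le_maximalIdeal P.2.ne_top))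

end Groth.Agent.S3433
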