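import Groth.Statements.S3434
import Groth.Agent.Lib.DvrCrit.AtPoint
-- import your own Groth.Agent.* helpers here

set_option autoImplicit false
open CategoryTheory AlgebraicGeometry
universe u
open EGA43

namespace Groth.Agent.S3434
set_option backward.isDefEq.respectTransparency false

/-- Let Y be an integral locally Noetherian scheme, X an integral scheme, f : X ⟶ Y separated, dominant
and of finite type, and y a point of Y; write K for the function field of X (the local ring at its
generic point ξ), into which O_{Y,y} maps through O_{Y,f ξ}. Then f is proper over some open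
neighbourhood of y if and only if every discrete valuation ring of K which dominates (the image of)
O_{Y,y} dominates (the image of) O_{X,x} for some point x of X; such an x lies over y. -/
theorem result {X Y : Scheme.{u}} [IsIntegral X] [IsIntegral Y] [IsLocallyNoetherian Y]
    (f : X ⟶ Y) [IsSeparated f] [IsDominant f] [LocallyOfFiniteType f] [QuasiCompact f] (y : Y)
    (hξ : f.base (genericPoint X) ⤳ y) :
    (∃ U : Y.Opens, y ∈ U ∧ IsProper (f ∣_ U)) ↔
      ∀ A : ValuationSubring X.functionField, IsDiscreteValuationRing A →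
        (∀ r : Y.presheaf.stalk y, A.valuation ((Y.presheaf.stalkSpecializes hξ ≫ f.stalkMap (genericPoint X)) r) ≤ 1) →
        (∀ r ∈ IsLocalRing.maximalIdeal (Y.presheaf.stalk y),
            A.valuation ((Y.presheaf.stalkSpecializes hξ ≫ f.stalkMap (genericPoint X)) r) < 1) →
        ∃ x : X, f.base x = y ∧
          (∀ r : X.presheaf.stalk x, A.valuation (X.presheaf.stalkSpecializes (genericPoint_specializes x) r) ≤ 1) ∧
          (∀ r ∈ IsLocalRing.maximalIdeal (X.presheaf.stalk x),
            A.valuation (X.presheaf.stalkSpecializes (genericPoint_specializes x) r) < 1) := by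
  constructor
  · rintro ⟨U, hyU, hP⟩ A hA h1 h2
    haveI := hA
    have hd : Lib.DvrCrit.Dominates f (Lib.DvrCrit.down (Lib.DvrCrit.up A)) y hξ := by
      rw [Lib.DvrCrit.down_up]
      exact ⟨fun a => (ValuationSubring.valuation_le_one_iff A _).1 (h1 a), h2⟩
    obtain ⟨φ, hc, w⟩ := Lib.DvrCrit.exists_morphism f (Lib.DvrCrit.up A) y hξ hd
    have hφU : Set.range φ ⊆ Set.range U.ι := by
      rw [Scheme.Opens.range_ι]
      rintro _ ⟨p, rfl⟩
      exact ((IsLocalRing.specializes_closedPoint p).map φ.continuous).mem_open U.2 (hc ▸ hyU)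
    have hjU : Set.range (X.fromSpecResidueField (genericPoint X)) ⊆ Set.range (f ⁻¹ᵁ U).ι := by
      rw [Scheme.Opens.range_ι, Scheme.range_fromSpecResidueField, Set.singleton_subset_iff]
      show f.base (genericPoint X) ∈ U
      exact hξ.mem_open U.2 hyU
    obtain ⟨l, hl1, hl2⟩ := Lib.DvrCrit.existence_apply (K := X.residueField (genericPoint X))
      (Lib.DvrCrit.existence_of_universallyClosed (f ∣_ U))
      (IsOpenImmersion.lift (f ⁻¹ᵁ U).ι (X.fromSpecResidueField (genericPoint X)) hjU)
      (IsOpenImmersion.lift U.ι φ hφU) (by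
        rw [← cancel_mono U.ι, Category.assoc, morphismRestrict_ι,
          IsOpenImmersion.lift_fac_assoc, Category.assoc, IsOpenImmersion.lift_fac]
        exact w.symm)
    have hl : Lib.DvrCrit.gen (Lib.DvrCrit.up A) ≫ (l ≫ (f ⁻¹ᵁ U).ι) =
        X.fromSpecResidueField (genericPoint X) := by
      rw [← Category.assoc]
      exact (congrArg (· ≫ (f ⁻¹ᵁ U).ι) hl2).trans (IsOpenImmersion.lift_fac _ _ _)
    have hlf : (l ≫ (f ⁻¹ᵁ U).ι) ≫ f = φ := by
      rw [Category.assoc, ← morphismRestrict_ι, ← Category.assoc, hl1, IsOpenImmersion.lift_fac]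
    have hx : (𝟙 X : X ⟶ X).base (genericPoint X) ⤳
        (l ≫ (f ⁻¹ᵁ U).ι) (IsLocalRing.closedPoint (Lib.DvrCrit.up A)) := genericPoint_specializes _
    have h := (Lib.DvrCrit.dominates_id_iff _ _ hx).1 (Lib.DvrCrit.dominates_of_morphism (𝟙 X)
      (Lib.DvrCrit.up A) _ (hl.trans (Category.comp_id _).symm) _ rfl hx)
    rw [Lib.DvrCrit.down_up] at h
    refine ⟨_, ?_, fun r => (ValuationSubring.valuation_le_one_iff A _).2 (h.1 r), h.2⟩
    rw [← hc, ← hlf]
    rfl
  · intro H
    refine Lib.DvrCrit.exists_proper_nhd f y hξ fun W hW φ hc w => ?_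
    haveI := Lib.DvrCrit.down_isDVR W
    have hd := Lib.DvrCrit.dominates_of_morphism f W φ w y hc hξ
    obtain ⟨x, hxy, h1, h2⟩ := H (Lib.DvrCrit.down W) inferInstance
      (fun r => (ValuationSubring.valuation_le_one_iff _ _).2 (hd.1 r)) hd.2
    have hx : (𝟙 X : X ⟶ X).base (genericPoint X) ⤳ x := genericPoint_specializes x
    obtain ⟨l, hlc, hl⟩ := Lib.DvrCrit.exists_morphism (𝟙 X) W x hx
      ((Lib.DvrCrit.dominates_id_iff _ x hx).2
        ⟨fun a => (ValuationSubring.valuation_le_one_iff _ _).1 (h1 a), h2⟩)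
    rw [Category.comp_id] at hl
    refine ⟨l, hl, Lib.ValSquare.eq_of_comp_eq W.subtype Subtype.val_injective _ _ ?_ ?_⟩
    · rw [Scheme.Hom.comp_apply, hlc, hc]
      exact hxy
    · rw [← Category.assoc]
      exact (congrArg (· ≫ f) hl).trans w.symm

end Groth.Agent.S3434
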