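-- Proof of statement S3435.
import Groth.Statements.S3435
import Mathlib.RingTheory.Kaehler.Basic

set_option autoImplicit false
set_option backward.isDefEq.respectTransparency false
universe u
open EGA41

namespace Groth.Agent.S3435

open TensorProduct in
/-- Let Λ → A → B → C be ring homomorphisms. The homomorphism Ω_{B/Λ} ⊗_B C → Ω_{B/A} ⊗_B C maps the
imperfection module Υ_{C/B/Λ} (the kernel of Ω_{B/Λ} ⊗_B C → Ω_{C/Λ}) onto the imperfection module
Υ_{C/B/A} (the kernel of Ω_{B/A} ⊗_B C → Ω_{C/A}): every element of Υ_{C/B/A} is the image of some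
element of Υ_{C/B/Λ}. -/
theorem result (Λ A B C : Type u) [CommRing Λ] [CommRing A] [CommRing B] [CommRing C]
    [Algebra Λ A] [Algebra Λ B] [Algebra Λ C] [Algebra A B] [Algebra A C] [Algebra B C]
    [IsScalarTower Λ A B] [IsScalarTower Λ A C] [IsScalarTower Λ B C] [IsScalarTower A B C] :
    ∀ ω ∈ EGA41.imperfection A B C, ∃ η ∈ EGA41.imperfection Λ B C,
      (KaehlerDifferential.map Λ A B B).baseChange C η = ω := by
  intro ω hω
  have hs : Function.Surjective ((KaehlerDifferential.map Λ A B B).baseChange C) := by
    intro z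
    obtain ⟨z', hz'⟩ := LinearMap.lTensor_surjective C
      (KaehlerDifferential.map_surjective Λ A B) z
    exact ⟨z', hz'⟩
  obtain ⟨η₀, hη₀⟩ := hs ω
  have hcomm : ∀ η, KaehlerDifferential.mapBaseChange A B C
      ((KaehlerDifferential.map Λ A B B).baseChange C η) =
      KaehlerDifferential.map Λ A C C (KaehlerDifferential.mapBaseChange Λ B C η) := by
    intro η
    induction η using TensorProduct.induction_on with
    | zero => simp
    | add x y hx hy => simp only [map_add, hx, hy]
    | tmul c d =>
      rw [LinearMap.baseChange_tmul, KaehlerDifferential.mapBaseChange_tmul,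
        KaehlerDifferential.mapBaseChange_tmul, map_smul]
      congr 1
      have hd : d ∈ Submodule.span B (Set.range (KaehlerDifferential.D Λ B)) := by
        rw [KaehlerDifferential.span_range_derivation]; trivial
      induction hd using Submodule.span_induction with
      | mem x hx => obtain ⟨b, rfl⟩ := hx; simp
      | zero => simp
      | add x y _ _ hx hy => simp only [map_add, hx, hy]
      | smul b x _ hx =>
        rw [map_smul, map_smul, map_smul, hx, LinearMap.map_smul_of_tower]
  have h1 : KaehlerDifferential.mapBaseChange Λ B C η₀ ∈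
      LinearMap.range (KaehlerDifferential.mapBaseChange Λ A C) := by
    rw [KaehlerDifferential.range_mapBaseChange, LinearMap.mem_ker, ← hcomm, hη₀]
    exact hω
  obtain ⟨τ, hτ⟩ := h1
  have h2 : ∀ τ : C ⊗[A] Ω[A⁄Λ], ∃ σ : C ⊗[B] Ω[B⁄Λ],
      KaehlerDifferential.mapBaseChange Λ B C σ = KaehlerDifferential.mapBaseChange Λ A C τ ∧
        (KaehlerDifferential.map Λ A B B).baseChange C σ = 0 := by
    intro τ
    induction τ using TensorProduct.induction_on with
    | zero => exact ⟨0, by simp, map_zero _⟩
    | add x y hx hy =>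
      obtain ⟨s, hs, hs'⟩ := hx
      obtain ⟨t, ht, ht'⟩ := hy
      exact ⟨s + t, by rw [map_add, map_add, hs, ht], by rw [map_add, hs', ht', add_zero]⟩
    | tmul c d =>
      have hd : d ∈ Submodule.span A (Set.range (KaehlerDifferential.D Λ A)) := by
        rw [KaehlerDifferential.span_range_derivation]; trivial
      induction hd using Submodule.span_induction generalizing c with
      | mem x hx =>
        obtain ⟨a, rfl⟩ := hx
        refine ⟨c ⊗ₜ KaehlerDifferential.D Λ B (algebraMap A B a), ?_, ?_⟩
        · simp [← IsScalarTower.algebraMap_apply]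
        · simp
      | zero => exact ⟨0, by simp, map_zero _⟩
      | add x y _ _ hx hy =>
        obtain ⟨s, hs, hs'⟩ := hx c
        obtain ⟨t, ht, ht'⟩ := hy c
        exact ⟨s + t, by rw [map_add, TensorProduct.tmul_add, map_add, hs, ht],
          by rw [map_add, hs', ht', add_zero]⟩
      | smul a x _ hx =>
        obtain ⟨s, hs, hs'⟩ := hx (a • c)
        exact ⟨s, by rw [hs, TensorProduct.smul_tmul], hs'⟩
  obtain ⟨σ, hσ, hσ'⟩ := h2 τ
  refine ⟨η₀ - σ, ?_, by rw [map_sub, hη₀, hσ', sub_zero]⟩
  rw [EGA41.imperfection, LinearMap.mem_ker, map_sub, hσ, hτ, sub_self]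

end Groth.Agent.S3435
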