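import Groth.Statements.S3436
import Groth.Agent.H68.AdicSmoothLifts

set_option autoImplicit false
open CategoryTheory AlgebraicGeometry
universe u
open EGA42

namespace Groth.Agent.S3436

/-- Let X and Y be locally Noetherian schemes, f : X ⟶ Y locally of finite type, x a point of X and y =
f x; give O_{X,x} the O_{Y,y}-algebra structure coming from f. Then O_{X,x} is formally smooth over
O_{Y,y} for the adic topologies of the two local rings (topologies defined by the maximal ideals) if
and only if it is formally smooth for the discrete topologies. -/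
theorem result {X Y : Scheme.{u}} [IsLocallyNoetherian X] [IsLocallyNoetherian Y]
    (f : X ⟶ Y) [LocallyOfFiniteType f] (x : X) :
    letI : Algebra (Y.presheaf.stalk (f.base x)) (X.presheaf.stalk x) := (f.stalkMap x).hom.toAlgebra
    EGA41.IsFormallySmoothAdic (Y.presheaf.stalk (f.base x)) (IsLocalRing.maximalIdeal (Y.presheaf.stalk (f.base x)))
        (X.presheaf.stalk x) (IsLocalRing.maximalIdeal (X.presheaf.stalk x)) ↔
      Algebra.FormallySmooth (Y.presheaf.stalk (f.base x)) (X.presheaf.stalk x) := by
  letI alg : Algebra (Y.presheaf.stalk (f.base x)) (X.presheaf.stalk x) := (f.stalkMap x).hom.toAlgebra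
  constructor
  · intro h
    refine Groth.Agent.Lib.Unram.ArtinianLifting.formallySmooth_stalkMap_of_stalkLifts f x ?_
    intro A' _ _ _ φ _ I hI h0 g₀ hcomp hmax _
    letI : Algebra (Y.presheaf.stalk (f.base x)) A' := φ.toAlgebra
    obtain ⟨k, hk⟩ := (isArtinianRing_iff_isNilpotent_maximalIdeal (R := A')).mp inferInstance
    obtain ⟨v, hv⟩ := h A' I ⟨2, Groth.Agent.H68.AdicSmoothLifts.sq_eq_bot hI h0⟩
      ⟨k, by
        rw [Ideal.map_pow, eq_bot_iff, ← Ideal.zero_eq_bot, ← hk]
        exact Ideal.pow_right_mono (IsLocalRing.map_maximalIdeal_le φ) k⟩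
      ⟨g₀, fun a => RingHom.congr_fun hcomp a⟩ (Groth.Agent.H68.AdicSmoothLifts.kills g₀ hmax)
    exact ⟨v.toRingHom, v.comp_algebraMap, congrArg AlgHom.toRingHom hv⟩
  · intro h C _ _ J hJ _ u _
    exact Algebra.FormallySmooth.exists_lift J hJ u

end Groth.Agent.S3436
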