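import Groth.Statements.S3437
import Groth.Agent.H69.FibreLoci.CM
-- import your own Groth.Agent.* helpers here

set_option autoImplicit false
open CategoryTheory AlgebraicGeometry
universe u
open EGA43

namespace Groth.Agent.S3437
open CategoryTheory CategoryTheory.Limits
set_option backward.isDefEq.respectTransparency false

/-- Let f : X ⟶ S be of finite presentation (locally of finite presentation, quasi-compact and
quasi-separated). Then the set of points s of S such that every local ring of the fibre X_s is
Cohen–Macaulay is locally constructible in S. -/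
theorem result {X S : Scheme.{u}} (f : X ⟶ S)
    [LocallyOfFinitePresentation f] [QuasiCompact f] [QuasiSeparated f] :
    Topology.IsLocallyConstructible {s : S |
      ∀ z : ↥(f.fiber s), LocCoh.IsCohenMacaulayLocalRing ((f.fiber s).presheaf.stalk z)} := by
  have e : {s : S | ∀ z : ↥(f.fiber s), LocCoh.IsCohenMacaulayLocalRing ((f.fiber s).presheaf.stalk z)} =
      {s : S | ∀ x : X, f x = s → Groth.Agent.H69.FibreLoci.CM.CMFib f x} := by
    ext s
    constructor
    · intro h x hx
      obtain ⟨a, rfl⟩ : x ∈ Set.range (f.fiberι s) := by rw [Scheme.Hom.range_fiberι]; exact hx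
      exact (Groth.Agent.H69.FibreLoci.CM.cmFib_iff_stalk f s a).2 (h a)
    · intro h a
      exact (Groth.Agent.H69.FibreLoci.CM.cmFib_iff_stalk f s a).1
        (h _ ((Scheme.Hom.range_fiberι f s).subset ⟨a, rfl⟩))
  rw [e]
  exact Groth.Agent.H69.FibreLoci.CM.good.isLocallyConstructible_forall f

end Groth.Agent.S3437
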