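import Groth.Statements.S3438
import Groth.Agent.H46.DimData

set_option autoImplicit false
open CategoryTheory AlgebraicGeometry
universe u
open EGA43

namespace Groth.Agent.S3438

/-- Let Y be locally Noetherian, f : X ⟶ Y locally of finite type, x a point of X with y = f x, and
suppose O_{Y,y} is equidimensional and universally catenary. If f is equidimensional at x, then dim
O_{X,x} = dim O_{Y,y} + dim O_{X_y,x}. (That O_{X,x} is then also equidimensional is a separate
result, not asserted here.) -/
theorem result {X Y : Scheme.{u}} [IsLocallyNoetherian Y] (f : X ⟶ Y)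
    [LocallyOfFiniteType f] (x : X) (hY : EGA4.IsEquidim (Y.presheaf.stalk (f.base x)))
    (hcat : CAlg.IsUniversallyCatenary (Y.presheaf.stalk (f.base x))) (h : EGA43.IsEquidimAt f x) :
    ringKrullDim (X.presheaf.stalk x) =
        ringKrullDim (Y.presheaf.stalk (f.base x)) + ringKrullDim ((f.fiber (f.base x)).presheaf.stalk (f.asFiber x)) := by
  open Groth.Agent.H46.DimData in
  haveI := LocallyOfFiniteType.isLocallyNoetherian f
  refine (Groth.Agent.H46.DimData.formula_iff f x).2 ?_
  obtain ⟨ξ, hs, hξ, hq⟩ := Groth.Agent.H46.DimData.exists_qd_eq x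
  obtain ⟨h1, h2⟩ := Groth.Agent.H46.DimData.components_of_isEquidimAt f h ξ hξ hs
  have h3 := (Groth.Agent.H46.DimData.isEquidim_iff (f.base x)).1 hY _ (hs.map f.continuous) h1
  have h4 := Groth.Agent.H46.DimData.qd_eq f hs hcat
  have h5 := Groth.Agent.H46.DimData.fd_add_trd f x
  omega

end Groth.Agent.S3438
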