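import Groth.Statements.S3440
import Groth.Agent.H46.CMFlat

set_option autoImplicit false
open CategoryTheory AlgebraicGeometry
universe u
open EGA43

namespace Groth.Agent.S3440

/-- Let Y be locally Noetherian, f : X ⟶ Y locally of finite type, x a point of X and y = f x; suppose
O_{Y,y} is regular and O_{X,x} is Cohen–Macaulay. The following are equivalent: a) O_{Y,y} ⟶ O_{X,x}
is flat and the local ring of X_y at x is Cohen–Macaulay; b) O_{Y,y} ⟶ O_{X,x} is flat; c) the
restriction of f to some open neighbourhood of x is universally open; d) f is open at the generic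
point of every irreducible component of X_y through x; e') dim O_{X,x} = dim O_{Y,y} + dim
O_{X_y,x}. -/
theorem result {X Y : Scheme.{u}} [IsLocallyNoetherian Y] (f : X ⟶ Y)
    [LocallyOfFiniteType f] (x : X) (hreg : IsRegularLocalRing (Y.presheaf.stalk (f.base x)))
    (hCM : LocCoh.IsCohenMacaulayLocalRing (X.presheaf.stalk x)) :
    List.TFAE [
      (f.stalkMap x).hom.Flat ∧ LocCoh.IsCohenMacaulayLocalRing ((f.fiber (f.base x)).presheaf.stalk (f.asFiber x)),
      (f.stalkMap x).hom.Flat,
      ∃ U : X.Opens, x ∈ U ∧ UniversallyOpen (U.ι ≫ f),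
      (∀ z : ↥(f.fiber (f.base x)), f.asFiber x ∈ closure {z} →
          (∀ z' : ↥(f.fiber (f.base x)), z ∈ closure {z'} → z' = z) →
          EGA43.IsOpenAt f.base ((f.fiberι (f.base x)).base z)),
      ringKrullDim (X.presheaf.stalk x) =
        ringKrullDim (Y.presheaf.stalk (f.base x)) + ringKrullDim ((f.fiber (f.base x)).presheaf.stalk (f.asFiber x)) ] := by
  haveI := LocallyOfFiniteType.isLocallyNoetherian f
  haveI : IsRegularLocalRing (Y.presheaf.stalk (f.base x)) := hreg
  haveI : LocCoh.IsCohenMacaulayLocalRing (X.presheaf.stalk x) := hCM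
  letI : Algebra (Y.presheaf.stalk (f.base x)) (X.presheaf.stalk x) := (f.stalkMap x).hom.toAlgebra
  haveI : IsLocalHom (algebraMap (Y.presheaf.stalk (f.base x)) (X.presheaf.stalk x)) :=
    inferInstanceAs (IsLocalHom (f.stalkMap x).hom)
  tfae_have 1 → 2 := And.left
  tfae_have 2 → 3 := Groth.Agent.H46.CMFlat.exists_universallyOpen_nhd f
  tfae_have 3 → 4 := by
    rintro ⟨U, hxU, hU⟩
    exact (Groth.Agent.H46.UnibranchEquidim.maxFib_iff f x fun a => EGA43.IsOpenAt f.base a).2
      fun ζ _ hs _ => Groth.Agent.H46.CMFlat.isOpenAt_of_universallyOpen_nhd f hs hxU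
  tfae_have 4 → 5 := Groth.Agent.H46.DimFormula.eq_add_fibre_of_isOpenAt f x
  tfae_have 5 → 1 := fun h => by
    rw [Groth.Agent.H46.FiberStalk.ringKrullDim_stalk_fiber] at h
    refine ⟨RingHom.flat_algebraMap_iff.2 (Groth.Agent.S2082.result h), ?_⟩
    haveI := Groth.Agent.H46.CMFlat.isCohenMacaulayLocalRing_fibre h
    exact Groth.Agent.Lib.Excellent.Transport.isCohenMacaulayLocalRing_of_ringEquiv
      (Groth.Agent.H46.FiberStalk.quotientEquiv f x)
  tfae_finish

end Groth.Agent.S3440
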