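import Groth.Statements.S3448
import Groth.Agent.H46.DimData

set_option autoImplicit false
open CategoryTheory AlgebraicGeometry
universe u
open EGA43

namespace Groth.Agent.S3448

/-- Let Y be locally Noetherian, f : X ⟶ Y of finite type, x a point of X with y = f x, and suppose
O_{Y,y} is universally catenary. Then dim O_{X,x} = dim O_{Y,y} + dim O_{X_y,x} if and only if there
is a point z of the fibre over y which is a generization of x, is maximal in the fibre (the generic
point of an irreducible component Z of X_y containing x), has local fibre dimension at z equal to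
that at x (dim Z = dim_x X_y), and satisfies dim O_{X,z} = dim O_{Y,y}. -/
theorem result {X Y : Scheme.{u}} [IsLocallyNoetherian Y]
    (f : X ⟶ Y) [LocallyOfFiniteType f] [QuasiCompact f] (x : X)
    (hcat : CAlg.IsUniversallyCatenary (Y.presheaf.stalk (f.base x))) :
    ringKrullDim (X.presheaf.stalk x) =
        ringKrullDim (Y.presheaf.stalk (f.base x)) + ringKrullDim ((f.fiber (f.base x)).presheaf.stalk (f.asFiber x)) ↔
      ∃ z : X, f.base z = f.base x ∧ z ⤳ x ∧ (∀ z' : X, f.base z' = f.base x → z' ⤳ z → z' = z) ∧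
        FlatMor.fibreDimAt f z = FlatMor.fibreDimAt f x ∧
        ringKrullDim (X.presheaf.stalk z) = ringKrullDim (Y.presheaf.stalk (f.base z)) := by
  haveI := LocallyOfFiniteType.isLocallyNoetherian f
  refine (Groth.Agent.H46.DimData.formula_iff f x).trans ⟨fun h => ?_, ?_⟩
  · obtain ⟨ξ, hs, hξ, hq⟩ := Groth.Agent.H46.DimData.exists_qd_eq x
    have h1 := Groth.Agent.H46.DimData.qd_eq f hs hcat
    have h2 := Groth.Agent.H46.DimData.trd_le_fe f hs
    have h3 := Groth.Agent.H46.DimData.qd_le_sd (hs.map f.continuous)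
    have h4 := Groth.Agent.H46.DimData.fd_add_trd f x
    obtain ⟨z, hξz, hfz, hzx, hle⟩ := Groth.Agent.H46.DimData.exists_specializes_trd_le f hs
    have h5 := Groth.Agent.H46.DimData.trd_le_fe f hzx
    have hmax : Groth.Agent.H46.FibreTrdeg.IsMaxFib f z := fun a ha has =>
      Groth.Agent.H46.FibreTrdeg.eq_of_trd_le f has ha (by
        have := Groth.Agent.H46.DimData.trd_le_fe f (has.trans hzx)
        omega)
    refine ⟨z, hfz, hzx, fun a ha has => hmax a (ha.trans hfz.symm) has, ?_, ?_⟩
    · rw [Groth.Agent.H46.DimData.fibreDimAt_eq, Groth.Agent.H46.DimData.fibreDimAt_eq,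
        Groth.Agent.H46.DimData.fe_of_isMaxFib f hmax]
      exact_mod_cast (show Groth.Agent.H46.FibreTrdeg.trd f z =
        Groth.Agent.H46.DimData.fe f x by omega)
    · rw [Groth.Agent.H46.DimData.ringKrullDim_stalk, Groth.Agent.H46.DimData.ringKrullDim_stalk,
        Nat.cast_inj]
      have key : ∀ (y : Y) (hy : f ξ ⤳ y), y = f x →
          Groth.Agent.H46.DimData.qd hy = Groth.Agent.H46.DimData.qd (hs.map f.continuous) := by
        rintro y hy rfl; rfl
      have h6 := key _ (hξz.map f.continuous) hfz
      have h7 := Groth.Agent.H46.DimData.qd_eq f hξz (hfz.symm ▸ hcat)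
      have h8 := Groth.Agent.H46.DimData.qd_le_sd hξz
      have h9 := Groth.Agent.H46.DimData.sd_le_add f z
      have h10 := (Groth.Agent.H46.DimData.fd_eq_zero_iff f z).2 hmax
      have h11 : Groth.Agent.H46.DimData.sd (f z) = Groth.Agent.H46.DimData.sd (f x) := by
        rw [hfz]
      omega
  · rintro ⟨z, hfz, hzx, hmax, he, hd⟩
    have hmax' : Groth.Agent.H46.FibreTrdeg.IsMaxFib f z := fun a ha has =>
      hmax a (ha.trans hfz) has
    rw [Groth.Agent.H46.DimData.fibreDimAt_eq, Groth.Agent.H46.DimData.fibreDimAt_eq,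
      Groth.Agent.H46.DimData.fe_of_isMaxFib f hmax', Nat.cast_inj] at he
    rw [Groth.Agent.H46.DimData.ringKrullDim_stalk, Groth.Agent.H46.DimData.ringKrullDim_stalk,
      Nat.cast_inj] at hd
    exact Groth.Agent.H46.DimData.formula_of_good f hzx hfz hmax' he hd hcat

end Groth.Agent.S3448
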