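import Groth.Statements.S3449
import Groth.Agent.H46.DimJac
import Groth.Agent.H46.AffineFib
-- import your own Groth.Agent.* helpers here

set_option autoImplicit false
open CategoryTheory AlgebraicGeometry
universe u
open EGA43

namespace Groth.Agent.S3449

open Groth.Agent.Lib.Cyc Groth.Agent.H46 in
theorem dim_eq {X S : Scheme.{u}} [IsLocallyNoetherian S]
    [JacobsonSpace S] (h2 : ∀ s : S, CAlg.IsUniversallyCatenary (S.presheaf.stalk s))
    (h3 : ∀ S' ∈ irreducibleComponents (S : Type u), ∀ s ∈ S', IsClosed ({s} : Set S) →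
      topologicalKrullDim (↥S' : Type u) = topologicalKrullDim ↥{t : S | t ∈ S' ∧ t ⤳ s})
    (p : X ⟶ S) [LocallyOfFiniteType p] [IrreducibleSpace X] {θ s₀ : S}
    (hθ : DimFun.IsMaxPt θ) (h : θ ⤳ p (genericPoint X)) (hs₀ : p (genericPoint X) ⤳ s₀)
    (hc₀ : IsClosed ({s₀} : Set S)) :
    topologicalKrullDim (X : Type u) =
      ((DimData.qd hs₀ + FibreTrdeg.trd p (genericPoint X) : ℕ) : WithBot ℕ∞) := by
  haveI := LocallyOfFiniteType.isLocallyNoetherian p
  haveI := LocallyOfFiniteType.jacobsonSpace p
  refine DimJac.topologicalKrullDim_eq _ fun x hx => ?_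
  have hsx : genericPoint X ⤳ x := genericPoint_specializes x
  have hs := hsx.map p.continuous
  have hcl := DimJac.isClosed_apply p hx
  have hmax : DimFun.IsMaxPt (genericPoint X) := DimFun.isMaxPt_genericPoint
  have h0 : FibreTrdeg.trd p x = 0 := SubStalk.trd_eq_zero_of_closed p x fun x' _ hxx' => by
    have := specializes_iff_mem_closure.1 hxx'
    rwa [hx.closure_eq] at this
  have e1 := DimData.qd_eq p hsx (h2 _)
  have a1 := DimJac.qd_add hs h (DimJac.isCatenary_of_univ (h2 _))
  have a2 := DimJac.qd_add hs₀ h (DimJac.isCatenary_of_univ (h2 _))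
  have hmem : closure ({θ} : Set S) ∈ irreducibleComponents (S : Type u) :=
    FieldDim.closure_mem_irreducibleComponents θ hθ
  have b1 := h3 _ hmem _ (h.trans hs).mem_closure hcl
  have b2 := h3 _ hmem _ (h.trans hs₀).mem_closure hc₀
  rw [DimJac.dim_generizations (h.trans hs)] at b1
  rw [b1, DimJac.dim_generizations (h.trans hs₀), Nat.cast_inj] at b2
  rw [← DimData.qd_of_isMaxPt hsx hmax]
  omega

/-- Let S be a locally Noetherian scheme which is Jacobson, whose local rings are universally catenary,
and whose irreducible components S' are equidimensional in the sense that for every closed point s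
of S' the dimension of S' equals the dimension of S' at s (the Krull dimension of the set of
generizations of s inside S'). Let X and Y be S-schemes, each locally of finite type over the base
S, and let f : X ⟶ Y be a morphism over S, with X irreducible and f dominant; let η be the generic
point of Y and e the dimension of the fibre over η. Then dim X = dim Y + e. -/
theorem result {X Y S : Scheme.{u}} [IsLocallyNoetherian S]
    [JacobsonSpace S] (h2 : ∀ s : S, CAlg.IsUniversallyCatenary (S.presheaf.stalk s))
    (h3 : ∀ S' ∈ irreducibleComponents (S : Type u), ∀ s ∈ S', IsClosed ({s} : Set S) →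
      topologicalKrullDim (↥S' : Type u) = topologicalKrullDim ↥{t : S | t ∈ S' ∧ t ⤳ s})
    (p : X ⟶ S) (q : Y ⟶ S) [LocallyOfFiniteType p] [LocallyOfFiniteType q] (f : X ⟶ Y) (hf : f ≫ q = p)
    [IrreducibleSpace X] [IrreducibleSpace Y] [IsDominant f] :
    topologicalKrullDim (X : Type u) =
      topologicalKrullDim (Y : Type u) + topologicalKrullDim ↥(f.fiber (genericPoint Y)) := by
  subst hf
  haveI : LocallyOfFiniteType f := locallyOfFiniteType_of_comp f q
  set ξ := genericPoint X with hξdef
  set η := genericPoint Y with hηdef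
  have hfξ : f ξ = η := by
    have h1 : IsGenericPoint (f ξ) (Set.univ : Set Y) := by
      show closure {f ξ} = Set.univ
      rw [← Groth.Agent.H46.Equidim.closure_image_closure' f ξ, genericPoint_closure, Set.image_univ]
      exact f.denseRange.closure_range
    exact h1.eq (genericPoint_spec Y)
  obtain ⟨θ, hθσ, hθ⟩ := Groth.Agent.Lib.Cyc.DimFun.exists_isMaxPt_specializes (q η)
  obtain ⟨s₀, hs₀, hc₀⟩ := Groth.Agent.H46.DimJac.exists_closed_point (q η)
  have e : (f ≫ q) ξ = q η := congrArg q.base hfξ
  have hX := dim_eq h2 h3 (f ≫ q) hθ (hθσ.trans (specializes_of_eq e.symm))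
    ((specializes_of_eq e).trans hs₀) hc₀
  have hY := dim_eq h2 h3 q hθ hθσ hs₀ hc₀
  have hfib : topologicalKrullDim ↥(f.fiber η) =
      ((Groth.Agent.H46.FibreTrdeg.trd f ξ : ℕ) : WithBot ℕ∞) := by
    refine le_antisymm ((Groth.Agent.H46.FibreTrdeg.dim_fiber_le_iff f η _).2 fun a ha =>
      Groth.Agent.H46.FibreTrdeg.trd_le f (genericPoint_specializes a) (hfξ.trans ha.symm))
      (Groth.Agent.H46.FibreTrdeg.trd_le_dim_fiber f ξ η hfξ)
  rw [hX, hY, hfib, Groth.Agent.H46.AffineFib.trd_comp', show f (genericPoint X) = genericPoint Y from hfξ, ← Nat.cast_add, add_assoc]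
  have hq : ∀ (a b : S) (hab : a = b) (h1 : a ⤳ s₀) (h2 : b ⤳ s₀),
      Groth.Agent.H46.DimData.qd h1 = Groth.Agent.H46.DimData.qd h2 := by
    rintro a b rfl _ _
    rfl
  rw [hq _ _ e _ hs₀]

end Groth.Agent.S3449
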