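import Groth.Statements.S3451
import Groth.Agent.H46.FibreProf.Gen
import Groth.Agent.H46.FibreProf.Equidim
-- import your own Groth.Agent.* helpers here

set_option autoImplicit false
open CategoryTheory AlgebraicGeometry
universe u
open EGA43

namespace Groth.Agent.S3451

open Groth.Agent.H46.FibreProf Groth.Agent.H46.FibreProf.Basic Groth.Agent.H46.FibreTrdeg Groth.Agent.H46.DimData Groth.Agent.Lib.Cyc in
/-- Let f : X ⟶ S be locally of finite presentation. The set of points x of X such that the fibre of f
through x is equidimensional at x (all irreducible components of that fibre passing through x have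
the same dimension) is locally constructible in X. -/
theorem result {X S : Scheme.{u}} (f : X ⟶ S)
    [LocallyOfFinitePresentation f] :
    Topology.IsLocallyConstructible {x : X | ∃ e : ℕ,
      ∀ Z ∈ irreducibleComponents (↥(f.fiber (f.base x)) : Type u), f.asFiber x ∈ Z →
        topologicalKrullDim (↥Z : Type u) = e} := by
  convert Gen.isLocallyConstructible_equidim f using 1
  ext x
  constructor
  · rintro ⟨e, he⟩ y hy
    have key : ∀ y, FG f x y → fe f y = e := by
      intro y hy
      obtain ⟨ζ, hζ, hs, hmax, hζe⟩ := exists_fe_eq f y
      obtain ⟨b, rfl, hb⟩ := fg_exists f (a := f.asFiber x) (w := ζ)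
        (by rw [f.fiberι_asFiber]; exact ⟨hζ.trans hy.1, hs.trans hy.2⟩)
      have := he _ (FieldDim.closure_mem_irreducibleComponents b ((FieldDim.isMaxFib_iff f _ b).1 hmax))
        (specializes_iff_mem_closure.1 hb)
      rw [Equidim.dim_closure, Nat.cast_inj] at this
      omega
    rw [key y hy, key x (fg_self f x)]
  · intro h
    refine ⟨fe f x, fun Z hZ hxZ => ?_⟩
    have hg := hZ.1.isGenericPoint_genericPoint_closure
    rw [(isClosed_of_mem_irreducibleComponents Z hZ).closure_eq] at hg
    have hmax : FibLen.IsMaxFib f (f.fiberι _ hZ.1.genericPoint) := by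
      rw [FieldDim.isMaxFib_iff]
      intro w hw
      have hle : Z ⊆ closure {w} := by
        rw [← hg.def]
        exact closure_minimal (Set.singleton_subset_iff.2 (specializes_iff_mem_closure.1 hw)) isClosed_closure
      have hwZ : w ∈ Z := hZ.2 isIrreducible_singleton.closure hle (subset_closure rfl)
      exact (hw.antisymm (hg.specializes hwZ)).eq
    have h1 : FG f x (f.fiberι _ hZ.1.genericPoint) := by
      have := (fg_fiberι f).2 (hg.specializes hxZ)
      rwa [f.fiberι_asFiber] at this
    have h2 := h _ h1
    rw [fe_of_isMaxFib f (fun w hw hs => hmax w hw hs)] at h2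
    rw [← hg.def, Equidim.dim_closure, h2]

end Groth.Agent.S3451
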