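import Groth.Statements.S3453
import Groth.Agent.H46.FibreProf.StrataCons
import Groth.Agent.H46.FibreProf.Equidim
import Groth.Agent.H46.FibreProf.Unit
-- import your own Groth.Agent.* helpers here

set_option autoImplicit false
open CategoryTheory AlgebraicGeometry
universe u
open EGA43 Topology

namespace Groth.Agent.S3453

open Groth.Agent.H46.FibreProf Groth.Agent.H46.FibreProf.Basic Groth.Agent.H46.FibreProf.Open in
/-- Let f : X ⟶ S be locally of finite presentation and n a natural number. The set of points x of X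
such that the local ring of the fibre of f through x at x has codepth n (its Krull dimension equals
its depth plus n) is locally constructible in X. -/
theorem result {X S : Scheme.{u}} (f : X ⟶ S)
    [LocallyOfFinitePresentation f] (n : ℕ) :
    Topology.IsLocallyConstructible {x : X |
      ringKrullDim ((f.fiber (f.base x)).presheaf.stalk (f.asFiber x)) =
        ((LocCoh.depth ((f.fiber (f.base x)).presheaf.stalk (f.asFiber x)) ((f.fiber (f.base x)).presheaf.stalk (f.asFiber x)) : ℕ∞) : WithBot ℕ∞) + n} := by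
  haveI := Unit.isFP_structureModule X
  haveI := Groth.Agent.H26.FreeCrit.isQuasicoherent_of_isFP (Unit.isFP_structureModule X)
  have hc := StrataCons.isLocallyConstructible_cop f (Coh.structureModule X) (Unit.isFP_structureModule X)
  have key : ∀ (x : X) (k : ℕ), Cop f (Coh.structureModule X) k x ↔
      ringKrullDim ((f.fiber (f.base x)).presheaf.stalk (f.asFiber x)) ≤
        ((LocCoh.depth ((f.fiber (f.base x)).presheaf.stalk (f.asFiber x))
          ((f.fiber (f.base x)).presheaf.stalk (f.asFiber x)) : ℕ∞) : WithBot ℕ∞) + k := fun x k => by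
    rw [Unit.cop_iff f (f.base x) (f.asFiber x) k, f.fiberι_asFiber]
  have hd : ∀ x : X, ∃ d e : ℕ, d ≤ e ∧
      LocCoh.depth ((f.fiber (f.base x)).presheaf.stalk (f.asFiber x))
          ((f.fiber (f.base x)).presheaf.stalk (f.asFiber x)) = d ∧
      ringKrullDim ((f.fiber (f.base x)).presheaf.stalk (f.asFiber x)) = (e : WithBot ℕ∞) := by
    intro x
    haveI := Groth.Agent.H46.QFin.isLocallyNoetherian_fiber f (f.base x)
    let O := (f.fiber (f.base x)).presheaf.stalk (f.asFiber x)
    obtain ⟨d, hd⟩ := ENat.ne_top_iff_exists.1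
      (Groth.Agent.Lib.Depth.Assoc.depth_ne_top (R := O) O)
    obtain ⟨e, he⟩ : ∃ e : ℕ, ringKrullDim O = (e : WithBot ℕ∞) := by
      have h1 : ringKrullDim O ≠ ⊤ := ringKrullDim_ne_top
      have h2 : ringKrullDim O ≠ ⊥ := ringKrullDim_ne_bot
      obtain ⟨a, ha⟩ := WithBot.ne_bot_iff_exists.1 h2
      obtain ⟨e, he⟩ := ENat.ne_top_iff_exists.1 (fun h : a = ⊤ => h1 (by rw [← ha, h]; rfl))
      exact ⟨e, by rw [← ha, ← he]; rfl⟩
    have h3 := Groth.Agent.Lib.Depth.Assoc.depth_le_supportDim (R := O) O
    rw [Module.supportDim_self_eq_ringKrullDim, he, ← hd] at h3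
    exact ⟨d, e, by exact_mod_cast h3, hd.symm, he⟩
  convert (hc n).inter (IsLocallyConstructible.iInter fun j : Fin n =>
    Groth.Agent.Lib.ProCons45.Basic.isLocallyConstructible_compl (hc j)) using 1
  ext x
  obtain ⟨d, e, hde, hd, he⟩ := hd x
  simp only [Set.mem_inter_iff, Set.mem_iInter, Set.mem_compl_iff, Set.mem_setOf_eq, key, hd, he]
  norm_cast
  constructor
  · rintro rfl
    exact ⟨le_rfl, fun j => by omega⟩
  · rintro ⟨h1, h2⟩
    by_contra h
    exact h2 ⟨n - 1, by omega⟩ (by simp only; omega)

end Groth.Agent.S3453
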