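import Groth.Statements.S3456
import Groth.Agent.H46.Equidim

set_option autoImplicit false
open CategoryTheory AlgebraicGeometry
universe u
open EGA43

namespace Groth.Agent.S3456

/-- Let Y be locally Noetherian, f : X ⟶ Y locally of finite type and x a point of X; let X_j run over
the (finitely many) irreducible components of X containing x. Then f is equidimensional at x if and
only if there is a natural number e such that for every X_j: the closure Y_j of f(X_j) is an
irreducible component of Y; for every point η of Y whose closure equals Y_j (i.e. the generic point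
of Y_j), the fibre X_j ∩ f⁻¹(η) has topological Krull dimension e; and the local dimension at x of
X_j ∩ f⁻¹(f x) is e. All subsets of X carry the induced topology. -/
theorem result {X Y : Scheme.{u}} [IsLocallyNoetherian Y] (f : X ⟶ Y)
    [LocallyOfFiniteType f] (x : X) :
    EGA43.IsEquidimAt f x ↔
      ∃ e : ℕ, ∀ Xj ∈ irreducibleComponents (X : Type u), ∀ hx : x ∈ Xj,
        closure (f.base '' Xj) ∈ irreducibleComponents (Y : Type u) ∧
        (∀ η : Y, closure ({η} : Set Y) = closure (f.base '' Xj) →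
          topologicalKrullDim ↥(Xj ∩ f.base ⁻¹' {η}) = e) ∧
        FlatMor.localDim ↥(Xj ∩ f.base ⁻¹' {f.base x}) ⟨x, ⟨hx, Set.mem_singleton (f.base x)⟩⟩ = e := by
  open Groth.Agent.H46.Equidim Groth.Agent.H46.FibreTrdeg Groth.Agent.Lib.Cyc in
  constructor
  · intro h
    obtain ⟨e, U, hx, hdom, hdim⟩ := Groth.Agent.H46.Equidim.exists_of_isEquidimAt f h
    refine ⟨e, fun Xj hXj hxj => ?_⟩
    obtain ⟨ξ, hξ, rfl⟩ :=
      Groth.Agent.H46.Equidim.exists_generic_of_mem_irreducibleComponents hXj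
    have hξx : ξ ⤳ x := specializes_iff_mem_closure.2 hxj
    have hξU := hξx.mem_open U.2 hx
    have he := hdim ξ hξU (Groth.Agent.H46.Equidim.isMaxFib_of_isMaxPt f hξ)
    rw [Groth.Agent.H46.Equidim.closure_image_closure' f ξ]
    refine ⟨Groth.Agent.Lib.Cyc.FieldDim.closure_mem_irreducibleComponents _ (hdom ξ hξU hξ).1,
      fun η hη => ?_, le_antisymm ?_ ?_⟩
    · rw [Groth.Agent.H46.Equidim.closure_singleton_inj hη,
        Groth.Agent.H46.FibreTrdeg.dim_closure_inter f ξ, he]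
    · rw [Groth.Agent.H46.FibreTrdeg.localDim_closed_inter_le_iff f isClosed_closure hxj]
      exact fun a _ ha hs => (Groth.Agent.H46.FibreTrdeg.fibreDimAt_le_iff f x e).1
        (Groth.Agent.H46.Equidim.fibreDimAt_eq_of_data f hdim hx).le a ha hs
    · rw [← he]
      exact Groth.Agent.H46.Equidim.trd_le_localDim_closure_inter f x ξ hξx
  · rintro ⟨e, he⟩
    haveI := LocallyOfFiniteType.isLocallyNoetherian f
    have hcomp : ∀ ξ : X, Groth.Agent.Lib.Cyc.DimFun.IsMaxPt ξ → ∀ hs : ξ ⤳ x,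
        Groth.Agent.Lib.Cyc.DimFun.IsMaxPt (f ξ) ∧ f ξ ⤳ f x ∧
          Groth.Agent.H46.FibreTrdeg.trd f ξ = e ∧
          ∀ a ∈ closure ({ξ} : Set X), f a = f x → a ⤳ x →
            Groth.Agent.H46.FibreTrdeg.trd f a ≤ e := by
      intro ξ hξ hs
      obtain ⟨h1, h2, h3⟩ := he _
        (Groth.Agent.Lib.Cyc.FieldDim.closure_mem_irreducibleComponents ξ hξ) hs.mem_closure
      rw [Groth.Agent.H46.Equidim.closure_image_closure' f ξ] at h1 h2
      refine ⟨Groth.Agent.H46.Equidim.isMaxPt_of_closure_mem h1, hs.map f.continuous, ?_,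
        (Groth.Agent.H46.FibreTrdeg.localDim_closed_inter_le_iff f isClosed_closure hs.mem_closure
          e).1 h3.le⟩
      have h4 := h2 (f ξ) rfl
      rw [Groth.Agent.H46.FibreTrdeg.dim_closure_inter f ξ] at h4
      exact_mod_cast h4
    obtain ⟨V, hV, hxV, hfin⟩ :=
      Groth.Agent.Lib.Cyc.DimFun.exists_open_finite_maxPts (X := X) isClosed_univ x
    let B : Set X :=
      ⋃ η ∈ {η | η ∈ V ∧ Groth.Agent.Lib.Cyc.DimFun.IsMaxPt η ∧ ¬ η ⤳ x}, closure {η}
    have hB : IsClosed B := Set.Finite.isClosed_biUnion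
      (hfin.subset fun η hη => ⟨hη.1, trivial, fun y _ => hη.2.1 y⟩) fun η _ => isClosed_closure
    let O : X.Opens :=
      ⟨_, Groth.Agent.Lib.FibreDim.Semicont.isOpen_setOf_fibreDimAt_le f (e : WithBot ℕ∞)⟩
    let U : X.Opens := ⟨(O : Set X) ∩ (V ∩ Bᶜ), O.2.inter (hV.inter hB.isOpen_compl)⟩
    have hUx : ∀ u ∈ U, ∀ ξ, ξ ⤳ u → Groth.Agent.Lib.Cyc.DimFun.IsMaxPt ξ → ξ ⤳ x := by
      intro u hu ξ hξu hξ
      by_contra hc
      exact hu.2.2 (Set.mem_biUnion (⟨hξu.mem_open hV hu.2.1, hξ, hc⟩ :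
        ξ ∈ {η | η ∈ V ∧ Groth.Agent.Lib.Cyc.DimFun.IsMaxPt η ∧ ¬ η ⤳ x}) hξu.mem_closure)
    refine Groth.Agent.H46.Equidim.isEquidimAt_of f x e U ⟨?_, hxV, ?_⟩ (fun ξ hξU hξ => ?_)
      fun u hu hu' => ?_
    · obtain ⟨ζ, hζ, hζx, -, hdim⟩ := Groth.Agent.H46.FibreTrdeg.exists_isMaxFib_trd_eq f x
      obtain ⟨ξ, hξζ, hξ⟩ := Groth.Agent.Lib.Cyc.DimFun.exists_isMaxPt_specializes ζ
      show FlatMor.fibreDimAt f x ≤ _
      rw [hdim, Nat.cast_le]
      exact (hcomp ξ hξ (hξζ.trans hζx)).2.2.2 ζ hξζ.mem_closure hζ hζx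
    · simp only [B, Set.mem_compl_iff, Set.mem_iUnion, not_exists]
      exact fun η hη hc => hη.2.2 (specializes_iff_mem_closure.mpr hc)
    · obtain ⟨h1, h2, -, -⟩ := hcomp ξ hξ (hUx ξ hξU ξ specializes_rfl hξ)
      exact ⟨h1, h2⟩
    · obtain ⟨ξ, hξu, hξ⟩ := Groth.Agent.Lib.Cyc.DimFun.exists_isMaxPt_specializes u
      refine le_antisymm ?_ ((hcomp ξ hξ (hUx u hu ξ hξu hξ)).2.2.1.ge.trans
        (Groth.Agent.H46.FibreTrdeg.trd_le_of_specializes f hξu hu'))
      have := (Groth.Agent.H46.FibreTrdeg.trd_le_fibreDimAt f u).trans hu.1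
      exact_mod_cast this

end Groth.Agent.S3456
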