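import Groth.Statements.S3457
import Groth.Agent.H46.DimData

set_option autoImplicit false
open CategoryTheory AlgebraicGeometry
universe u
open EGA43

namespace Groth.Agent.S3457

/-- Let Y be locally Noetherian, f : X ⟶ Y locally of finite type, x a point of X with y = f x, and
suppose f is equidimensional at x and O_{Y,y} is universally catenary. Let e be the local dimension
at x of the fibre X_y. Then for every minimal prime 𝔭 of O_{X,x} (that is, for every irreducible
component X_j of X through x, with O_{X_j,x} = O_{X,x}/𝔭 and O_{Y_j,y} = O_{Y,y}/(𝔭 ∩ O_{Y,y})) one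
has dim(O_{X,x}/𝔭) + trdeg_{κ(y)} κ(x) = dim(O_{Y,y}/(𝔭 ∩ O_{Y,y})) + e. -/
theorem result {X Y : Scheme.{u}} [IsLocallyNoetherian Y] (f : X ⟶ Y)
    [LocallyOfFiniteType f] (x : X) (h : EGA43.IsEquidimAt f x)
    (hcat : CAlg.IsUniversallyCatenary (Y.presheaf.stalk (f.base x))) :
    letI : Algebra (Y.residueField (f.base x)) (X.residueField x) := (f.residueFieldMap x).hom.toAlgebra
    ∀ 𝔭 ∈ minimalPrimes (X.presheaf.stalk x),
      ringKrullDim (X.presheaf.stalk x ⧸ 𝔭) +
          (Cardinal.toNat (Algebra.trdeg (Y.residueField (f.base x)) (X.residueField x)) : WithBot ℕ∞) =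
        ringKrullDim (Y.presheaf.stalk (f.base x) ⧸ 𝔭.comap (f.stalkMap x).hom) + FlatMor.fibreDimAt f x := by
  intro 𝔭 h𝔭
  haveI := LocallyOfFiniteType.isLocallyNoetherian f
  let P : PrimeSpectrum (X.presheaf.stalk x) := ⟨𝔭, h𝔭.1.1⟩
  have hξx := Groth.Agent.Lib.Cyc.DimFun.fromSpecStalk_specializes_self x P
  have hξ := (Groth.Agent.H46.DimData.minimalPrimes_iff P).1 h𝔭
  obtain ⟨-, htrd⟩ := Groth.Agent.H46.DimData.components_of_isEquidimAt f h _ hξ hξx
  have h1 := Groth.Agent.H46.DimData.qd_eq f hξx hcat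
  rw [htrd] at h1
  have e1 : RingHom.ker (Cyc.specMap x (X.fromSpecStalk x P) hξx) = 𝔭 :=
    Groth.Agent.H46.OpenDim.ker_specMap_eq x P
  have e2 : RingHom.ker (Cyc.specMap (f x) (f (X.fromSpecStalk x P)) (hξx.map f.continuous)) =
      𝔭.comap (f.stalkMap x).hom := by
    ext a
    rw [Ideal.mem_comap, ← e1, RingHom.mem_ker, RingHom.mem_ker,
      Groth.Agent.Lib.Cyc.InducedDimFun.specMap_stalkMap]
    exact (map_eq_zero_iff _ (f.residueFieldMap _).hom.injective).symm
  have a1 : ringKrullDim (X.presheaf.stalk x ⧸ 𝔭) =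
      (Groth.Agent.H46.DimData.qd hξx : WithBot ℕ∞) :=
    (ringKrullDim_eq_of_ringEquiv (Ideal.quotEquivOfEq e1.symm)).trans
      (Groth.Agent.H46.DimData.ringKrullDim_locQuot hξx)
  have a2 : ringKrullDim (Y.presheaf.stalk (f.base x) ⧸ 𝔭.comap (f.stalkMap x).hom) =
      (Groth.Agent.H46.DimData.qd (hξx.map f.continuous) : WithBot ℕ∞) :=
    (ringKrullDim_eq_of_ringEquiv (Ideal.quotEquivOfEq e2.symm)).trans
      (Groth.Agent.H46.DimData.ringKrullDim_locQuot (hξx.map f.continuous))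
  rw [a1, a2, Groth.Agent.H46.DimData.fibreDimAt_eq]
  show (_ : WithBot ℕ∞) + ((Groth.Agent.H46.FibreTrdeg.trd f x : ℕ) : WithBot ℕ∞) = _
  exact_mod_cast h1

end Groth.Agent.S3457
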