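import Groth.Statements.S3459
import Groth.Agent.H46.MaxFibClosed

set_option autoImplicit false
open CategoryTheory AlgebraicGeometry
universe u
open EGA43
open Groth.Agent.H46.FibreTrdeg Groth.Agent.H46.DimData Groth.Agent.Lib.Cyc

namespace Groth.Agent.S3459

/-- Let Y be an irreducible locally Noetherian scheme with generic point η, f : X ⟶ Y locally of finite
type, x a point of X and y = f x. Suppose (1) x lies on exactly one irreducible component Z of the
fibre X_y, and (2) X_y is geometrically reduced at the generic point of Z. Call an irreducible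
component X' of X containing x admissible when the local dimension at x of X' ∩ f⁻¹(y) equals that
of f⁻¹(y) and the restriction of f to X' (with its reduced structure) is universally open at the
generic points of the irreducible components of X' ∩ f⁻¹(y) containing x. Then there is at most one
admissible X'; and if X' is admissible, the fibre X_η is geometrically reduced at the generic point
of X'. -/
theorem result {X Y : Scheme.{u}} [IrreducibleSpace Y]
    [IsLocallyNoetherian Y] (f : X ⟶ Y) [LocallyOfFiniteType f] (x : X)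
    (h1 : ∃! Zc : Set ↥(f.fiber (f.base x)), Zc ∈ irreducibleComponents (↥(f.fiber (f.base x)) : Type u) ∧ f.asFiber x ∈ Zc)
    (h2 : ∀ z : ↥(f.fiber (f.base x)), f.asFiber x ∈ closure {z} →
      (∀ z' : ↥(f.fiber (f.base x)), z ∈ closure {z'} → z' = z) →
      FBase.IsGeomReducedAt (f.fiberToSpecResidueField (f.base x)) z) :
    letI adm : TopologicalSpace.Closeds X → Prop := fun X' =>
      (X' : Set X) ∈ irreducibleComponents (X : Type u) ∧ ∃ hx : x ∈ X',
        FlatMor.localDim ↥((X' : Set X) ∩ f.base ⁻¹' {f.base x}) ⟨x, ⟨hx, Set.mem_singleton (f.base x)⟩⟩ =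
          FlatMor.fibreDimAt f x ∧
        ∀ w : ↥(Scheme.IdealSheafData.vanishingIdeal X').subscheme,
          f.base ((Scheme.IdealSheafData.vanishingIdeal X').subschemeι.base w) = f.base x →
          x ∈ closure {(Scheme.IdealSheafData.vanishingIdeal X').subschemeι.base w} →
          (∀ t : X, t ∈ (X' : Set X) → f.base t = f.base x →
              (Scheme.IdealSheafData.vanishingIdeal X').subschemeι.base w ∈ closure {t} →
              t = (Scheme.IdealSheafData.vanishingIdeal X').subschemeι.base w) →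
          EGA43.IsUnivOpenAt ((Scheme.IdealSheafData.vanishingIdeal X').subschemeι ≫ f) w
    {X' : TopologicalSpace.Closeds X | adm X'}.Subsingleton ∧
      ∀ X' : TopologicalSpace.Closeds X, adm X' →
        ∀ ζ : ↥(f.fiber (genericPoint Y)), closure {(f.fiberι (genericPoint Y)).base ζ} = (X' : Set X) →
          FBase.IsGeomReducedAt (f.fiberToSpecResidueField (genericPoint Y)) ζ := by
  haveI : IsLocallyNoetherian X := LocallyOfFiniteType.isLocallyNoetherian f
  obtain ⟨ζ₀, hζ₀, hζ₀x, hζ₀max⟩ := exists_isMaxFib_specializes f x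
  obtain ⟨Zc, -, hZc⟩ := h1
  have hcomp : ∀ (a : f.fiber (f x)) (w : X), f.fiberι (f x) a = w → w ⤳ x → IsMaxFib f w →
      closure {a} = Zc ∧ f.asFiber x ∈ closure {a} ∧ DimFun.IsMaxPt a := by
    intro a w ha hw hm
    have hs : a ⤳ f.asFiber x := by
      rw [FieldDim.fiber_specializes_iff, f.fiberι_asFiber, ha]; exact hw
    have hmax : DimFun.IsMaxPt a := (FieldDim.isMaxFib_iff f (f x) a).1 (ha.symm ▸ hm)
    exact ⟨hZc _ ⟨FieldDim.closure_mem_irreducibleComponents a hmax, hs.mem_closure⟩,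
      hs.mem_closure, hmax⟩
  have huniq : ∀ ζ, f ζ = f x → ζ ⤳ x → IsMaxFib f ζ → ζ = ζ₀ := by
    intro ζ h1 h2 h3
    obtain ⟨a, ha⟩ := FieldDim.exists_fiberι_eq f ζ (f x) h1
    obtain ⟨b, hb⟩ := FieldDim.exists_fiberι_eq f ζ₀ (f x) hζ₀
    obtain ⟨ea, -, -⟩ := hcomp a ζ ha h2 h3
    obtain ⟨eb, -, -⟩ := hcomp b ζ₀ hb hζ₀x hζ₀max
    rw [← ha, ← hb, (specializes_iff_closure_subset.2 (ea.trans eb.symm).ge).antisymm
      (specializes_iff_closure_subset.2 (ea.trans eb.symm).le) |>.eq]
  have hgr : Groth.Agent.H46.GRAt.GRAt f ζ₀ := by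
    obtain ⟨b, hb⟩ := FieldDim.exists_fiberι_eq f ζ₀ (f x) hζ₀
    obtain ⟨-, hb1, hb2⟩ := hcomp b ζ₀ hb hζ₀x hζ₀max
    rw [← hb]
    exact (Groth.Agent.H46.GRAt.grAt_iff_fiber f (f x) b).2
      (h2 b hb1 fun z' hz' => hb2 z' (specializes_iff_mem_closure.2 hz'))
  have hfe : fe f x = trd f ζ₀ := by
    obtain ⟨ζ, h1, h2, h3, h4⟩ := exists_fe_eq f x
    rw [← h4, huniq ζ h1 h2 h3]
  let adm : TopologicalSpace.Closeds X → Prop := fun X' =>
    (X' : Set X) ∈ irreducibleComponents (X : Type u) ∧ ∃ hx : x ∈ X',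
      FlatMor.localDim ↥((X' : Set X) ∩ f.base ⁻¹' {f.base x}) ⟨x, ⟨hx, Set.mem_singleton (f.base x)⟩⟩ =
        FlatMor.fibreDimAt f x ∧
      ∀ w : ↥(Scheme.IdealSheafData.vanishingIdeal X').subscheme,
        f.base ((Scheme.IdealSheafData.vanishingIdeal X').subschemeι.base w) = f.base x →
        x ∈ closure {(Scheme.IdealSheafData.vanishingIdeal X').subschemeι.base w} →
        (∀ t : X, t ∈ (X' : Set X) → f.base t = f.base x →
            (Scheme.IdealSheafData.vanishingIdeal X').subschemeι.base w ∈ closure {t} →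
            t = (Scheme.IdealSheafData.vanishingIdeal X').subschemeι.base w) →
        EGA43.IsUnivOpenAt ((Scheme.IdealSheafData.vanishingIdeal X').subschemeι ≫ f) w
  suffices H : {X' : TopologicalSpace.Closeds X | adm X'}.Subsingleton ∧
      ∀ X' : TopologicalSpace.Closeds X, adm X' →
        ∀ ζ : ↥(f.fiber (genericPoint Y)), closure {(f.fiberι (genericPoint Y)).base ζ} = (X' : Set X) →
          FBase.IsGeomReducedAt (f.fiberToSpecResidueField (genericPoint Y)) ζ from H
  have hadm : ∀ X' : TopologicalSpace.Closeds X, adm X' →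
      ∃ w, (Scheme.IdealSheafData.vanishingIdeal X').subschemeι w = ζ₀ ∧
        IsUnivOpenAt ((Scheme.IdealSheafData.vanishingIdeal X').subschemeι ≫ f) w := by
    rintro X' ⟨-, hx, hdim, hu⟩
    set i := (Scheme.IdealSheafData.vanishingIdeal X').subschemeι
    have hr : Set.range i = (X' : Set X) := by
      rw [Scheme.IdealSheafData.range_subschemeι, Scheme.IdealSheafData.coe_support_vanishingIdeal]
    obtain ⟨w₀, rfl⟩ : x ∈ Set.range i := hr ▸ hx
    have hd : FlatMor.fibreDimAt (i ≫ f) w₀ = FlatMor.fibreDimAt f (i w₀) := by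
      rw [← hdim, ← localDim_range_inter f i w₀]
      exact localDim_congr (congrArg (fun S => S ∩ f ⁻¹' {f (i w₀)}) hr) _ _ _
    obtain ⟨v, hv, hvw, -, he⟩ := exists_fe_eq (i ≫ f) w₀
    rw [trd_comp] at he
    rw [fibreDimAt_eq, fibreDimAt_eq, Nat.cast_inj, ← he, hfe] at hd
    obtain ⟨ζ, hζ, hζv, hζmax⟩ := exists_isMaxFib_specializes f (i v)
    have hfiv : f (i v) = f (i w₀) := hv
    have hs := hvw.map i.continuous
    obtain rfl := huniq ζ (hζ.trans hfiv) (hζv.trans hs) hζmax
    have hiv : i v = ζ := (eq_of_trd_le f hζv hζ hd.ge).symm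
    refine ⟨v, hiv, hu v hfiv hs.mem_closure fun t _ ht hvt => ?_⟩
    show t = i v
    rw [hiv]
    refine hζmax t (ht.trans hζ₀.symm) ?_
    rw [← hiv]
    exact specializes_iff_mem_closure.2 hvt
  refine ⟨fun A hA B hB => ?_, fun X' hX' ζ hζ => ?_⟩
  · have key : ∀ A B : TopologicalSpace.Closeds X, adm A → adm B → (A : Set X) ⊆ B := by
      intro A B hA hB
      obtain ⟨wB, hwB, huB⟩ := hadm B hB
      obtain ⟨wA, hwA, -⟩ := hadm A hA
      obtain ⟨η, hη⟩ := QuasiSober.sober hA.1.1 (isClosed_of_mem_irreducibleComponents _ hA.1)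
      have hs : η ⤳ ζ₀ := by
        refine hη.specializes ?_
        have : ζ₀ ∈ Set.range (Scheme.IdealSheafData.vanishingIdeal A).subschemeι := ⟨wA, hwA⟩
        rwa [Scheme.IdealSheafData.range_subschemeι,
          Scheme.IdealSheafData.coe_support_vanishingIdeal] at this
      have hmem := Groth.Agent.H46.MaxFibClosed.mem_range' f
        (Scheme.IdealSheafData.vanishingIdeal B).subschemeι wB (hwB.symm ▸ hζ₀max)
        (hwB.symm ▸ hgr) huB η (hwB.symm ▸ hs)
      rw [Scheme.IdealSheafData.range_subschemeι,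
        Scheme.IdealSheafData.coe_support_vanishingIdeal] at hmem
      rw [← hη.def]
      exact B.isClosed.closure_subset_iff.2 (Set.singleton_subset_iff.2 hmem)
    exact SetLike.coe_injective ((key A B hA hB).antisymm (key B A hB hA))
  · obtain ⟨w, hw, hu⟩ := hadm X' hX'
    have hopen : ∀ a, f a = f ζ₀ → a ⤳ ζ₀ → IsMaxFib f a → EGA43.IsUnivOpenAt f a := by
      intro a h1 h2 _
      obtain rfl := hζ₀max a h1 h2
      rw [← hw]
      exact Groth.Agent.H46.OpenAt.isUnivOpenAt_of_comp _ f w hu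
    obtain ⟨U, hU, -, hUgr⟩ := Groth.Agent.H46.NilRed.exists_nhd f ζ₀ hopen hgr
    have hs : (f.fiberι (genericPoint Y)) ζ ⤳ ζ₀ := by
      refine specializes_iff_mem_closure.2 (hζ.symm ▸ ?_)
      have : ζ₀ ∈ Set.range (Scheme.IdealSheafData.vanishingIdeal X').subschemeι := ⟨w, hw⟩
      rwa [Scheme.IdealSheafData.range_subschemeι,
        Scheme.IdealSheafData.coe_support_vanishingIdeal] at this
    exact (Groth.Agent.H46.GRAt.grAt_iff_fiber f _ ζ).1 (hUgr _ (hs.mem_open U.2 hU))

end Groth.Agent.S3459
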