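import Groth.Statements.S3460
import Mathlib

set_option autoImplicit false
open CategoryTheory AlgebraicGeometry
universe u
open EGA43

namespace Groth.Agent.S3460

/-- Let Y be locally Noetherian and f : X ⟶ Y of finite type. Then there exist a scheme Z, a proper
morphism g : X ⟶ Z and an immersion h : Z ⟶ Y with f = g ≫ h if and only if f is proper at every
point of f(X), i.e. every point of f(X) has an open neighbourhood U in Y over which the restriction
of f is proper. -/
theorem result {X Y : Scheme.{u}} [IsLocallyNoetherian Y]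
    (f : X ⟶ Y) [LocallyOfFiniteType f] [QuasiCompact f] :
    (∃ (Z : Scheme.{u}) (g : X ⟶ Z) (h : Z ⟶ Y), IsProper g ∧ IsImmersion h ∧ g ≫ h = f) ↔
      ∀ x : X, ∃ U : Y.Opens, f.base x ∈ U ∧ IsProper (f ∣_ U) := by
  constructor
  · rintro ⟨Z, g, h, hg, hh, rfl⟩ x
    haveI := hg; haveI := hh
    refine ⟨h.coborderRange, subset_coborder ⟨g x, rfl⟩, ?_⟩
    have htop : (g ≫ h) ⁻¹ᵁ h.coborderRange = ⊤ :=
      top_unique fun z _ => subset_coborder ⟨g z, rfl⟩
    have he : (g ≫ h) ∣_ h.coborderRange =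
        X.homOfLE (le_top) ≫ X.topIso.hom ≫ g ≫ h.liftCoborder := by
      rw [← cancel_mono h.coborderRange.ι, morphismRestrict_ι]
      simp [Scheme.topIso]
    rw [he]
    haveI : IsIso (X.homOfLE (le_top : (g ≫ h) ⁻¹ᵁ h.coborderRange ≤ ⊤)) := by
      rw [← Scheme.isoOfEq_hom _ htop]
      infer_instance
    infer_instance
  · intro hf
    choose U hU hUp using hf
    let V : Y.Opens := ⨆ x, U x
    have hV : f ⁻¹ᵁ V = ⊤ := top_unique fun x _ => TopologicalSpace.Opens.mem_iSup.mpr ⟨x, hU x⟩
    haveI : IsProper (f ∣_ V) := by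
      refine (IsZariskiLocalAtTarget.iff_of_iSup_eq_top (P := @IsProper) (fun x => V.ι ⁻¹ᵁ U x) ?_).mpr
        fun x => ?_
      · rw [← Scheme.Hom.preimage_iSup]
        exact V.ι_preimage_self
      · rw [MorphismProperty.arrow_mk_iso_iff @IsProper (morphismRestrictRestrict f V (V.ι ⁻¹ᵁ U x))]
        have : V.ι ''ᵁ (V.ι ⁻¹ᵁ U x) = U x := by
          rw [Scheme.Hom.image_preimage_eq_opensRange_inf, Scheme.Opens.opensRange_ι]
          exact inf_eq_right.mpr (le_iSup U x)
        rw [this]
        exact hUp x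
    refine ⟨V, X.topIso.inv ≫ (X.isoOfEq hV.symm).hom ≫ f ∣_ V, V.ι, inferInstance, inferInstance, ?_⟩
    simp

end Groth.Agent.S3460
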