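import Groth.Statements.S3474
import Groth.Agent.Lib.EtSite.FibreGeomNoeth
import Groth.Agent.Lib.EtSite.UnitIso

set_option autoImplicit false
set_option linter.style.haveILetI false
universe u
open CategoryTheory CategoryTheory.Limits AlgebraicGeometry Opposite
open EtAcyc

namespace Groth.Agent.S3474

/-- Let g : X → Y be a flat morphism of schemes whose fibres are separable (every base change of a fibre
to a field is a reduced scheme), and assume either that X and Y are locally Noetherian or that g is
locally of finite presentation. Then g is universally locally 0-acyclic: after any base change,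
every induced morphism of strict localizations Spec R_X → Spec R_Y is 0-acyclic (units F → g'_* g'^*
F bijective for all sheaves of sets F on all etale V over Spec R_Y). -/
theorem result {X Y : Scheme.{u}} (g : X ⟶ Y) [Flat g]
    (hsep : ∀ (K : Type u) [Field K] (k : Spec (CommRingCat.of K) ⟶ Y), IsReduced (pullback g k))
    (h : (IsLocallyNoetherian X ∧ IsLocallyNoetherian Y) ∨ LocallyOfFinitePresentation g) :
    EtAcyc.IsULocZeroAcyclic g := by
  intro X₁ Y₁ g₁ b' b sq x RY RX _ _ _ _ _ _ _ _ _ _ _ _ hc
  haveI : Flat g₁ := MorphismProperty.of_isPullback (P := @Flat) sq inferInstance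
  haveI : Flat (Spec.map (CommRingCat.ofHom (algebraMap RY RX))) :=
    HasRingHomProperty.Spec_iff.2 ((RingHom.flat_algebraMap_iff).2
      (Groth.Agent.Lib.EtSite.FibreGeomNoeth.flat_map g₁ x RY RX hc))
  refine Groth.Agent.Lib.EtSite.UnitIso.isZeroAcyclic _ fun Ω _ _ s => ?_
  rcases h with ⟨-, hY⟩ | hlfp
  · exact Groth.Agent.Lib.EtSite.FibreGeomNoeth.connectedSpace_fibre hsep sq x RY RX hc Ω s
  · haveI : LocallyOfFinitePresentation g₁ := MorphismProperty.of_isPullback (P := @LocallyOfFinitePresentation) sq hlfp
    refine Groth.Agent.Lib.EtSite.FibreGeom.connectedSpace_fibre g₁ (fun K _ k => ?_) x RY RX hc Ω s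
    haveI := hsep K (k ≫ b)
    exact isReduced_of_isOpenImmersion
      ((IsPullback.of_hasPullback g₁ k).paste_horiz sq).isoPullback.hom

end Groth.Agent.S3474
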