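import Groth.Statements.S3475
import Groth.Agent.Lib.EtDiscrete.Crit
import Groth.Agent.Lib.EtDiscrete.Submersive
import Groth.Agent.Lib.EtDiscrete.ConnFibre
-- import your own Groth.Agent.* helpers here

set_option autoImplicit false
universe u
open CategoryTheory CategoryTheory.Limits AlgebraicGeometry Opposite
open EtAcyc

namespace Groth.Agent.S3475

/-- Let g : X → Y be a morphism of schemes with Y discrete (for instance the spectrum of a field). Then
g is universally locally 0-acyclic. -/
theorem result {X Y : Scheme.{u}} (g : X ⟶ Y) [DiscreteTopology Y] :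
    EtAcyc.IsULocZeroAcyclic g := by
  intro X₁ Y₁ g₁ b' b sq x RY RX _ _ _ _ _ _ _ _ _ _ _ _ hcomp
  haveI := Groth.Agent.S0754.result Y₁ (g₁.base x) RY
  haveI := Groth.Agent.S0754.result X₁ x RX
  refine Groth.Agent.Lib.EtDiscrete.isZeroAcyclic_of_connected _
    (Groth.Agent.Lib.EtDiscrete.isUnivSubmersive_localizations sq
      (Hens2.specOf Y₁ (g₁.base x) RY) (Hens2.specOf X₁ x RX) ?_)
    (fun L _ _ s => Groth.Agent.Lib.EtDiscrete.connectedSpace_fibre_localizations sq x hcomp L s)
  have e := congrArg (fun φ : _ →+* RX => Spec.map (CommRingCat.ofHom φ)) hcomp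
  simp only [CommRingCat.ofHom_comp, Spec.map_comp] at e
  dsimp only [Hens2.specOf]
  rw [Category.assoc, ← Scheme.SpecMap_stalkMap_fromSpecStalk, ← Category.assoc, ← Category.assoc]
  exact congrArg (· ≫ Y₁.fromSpecStalk _) e.symm

end Groth.Agent.S3475
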