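import Groth.Statements.S3481
import Groth.Agent.Lib.Gen50.Generic

set_option autoImplicit false
universe u
open CategoryTheory CategoryTheory.Limits AlgebraicGeometry Opposite
open EtAcyc

namespace Groth.Agent.S3481

/-- Abelian case: let Y be a normal integral scheme whose generic point y₁ has separably closed residue
field, f : X → Y a morphism locally n-acyclic for the set of primes L, X₁ = X ×_Y Spec κ(y₁) the
generic fibre with projection g₁ : X₁ → X, and F a locally constant abelian L-torsion sheaf on the
small étale site of X. Then H^q(X, F) → H^q(X₁, g₁⁻¹F) is bijective for q ≤ n and injective for q =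
n + 1. (The published text says bijective for q = n; bijectivity holds for every q ≤ n, which is
what is stated. Exactness of the inverse image along g₁ is carried as an instance hypothesis.) -/
theorem result {X Y : Scheme.{u}} [IsIntegral Y]
    (hY : Pi1.IsNormalScheme Y) [IsSepClosed (Y.residueField (genericPoint Y))]
    (f : X ⟶ Y) (L : Set ℕ) (n : ℕ) (hf : EtAcyc.IsLocAcyclicN f L n)
    (F : EtCoh.Ab X) (hF : EtAcyc.IsLTorsion L F) (hlc : EtRest.IsLocallyConstant F)
    [PreservesFiniteLimits (EtCoh.pull (pullback.fst f (Y.fromSpecResidueField (genericPoint Y))))] :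
    (∀ q : ℕ, q ≤ n →
      Function.Bijective (EtCore.Hpull (pullback.fst f (Y.fromSpecResidueField (genericPoint Y))) F q)) ∧
    Function.Injective (EtCore.Hpull (pullback.fst f (Y.fromSpecResidueField (genericPoint Y))) F (n + 1)) := by
  have hm := Groth.Agent.Lib.Gen50.Generic.stalk_main f L n hY hf F hF hlc
  haveI : IsIso ((EtCoh.pullPushAdj (pullback.fst f (Y.fromSpecResidueField (genericPoint Y)))).unit.app F) := by
    refine Groth.Agent.Lib.EtSite.Stalk.isIso_of_stalks _ fun x => ?_
    obtain ⟨Ω, i1, i2, ξ, h0, hb, -⟩ := hm x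
    exact ⟨Ω, i1, i2, ξ, h0, hb⟩
  refine Groth.Agent.Lib.EtSite.LowLeray.Hpull_bijective _ F n fun q h1 h2 => ?_
  let Q := (EtCoh.Rpush (pullback.fst f (Y.fromSpecResidueField (genericPoint Y))) q).obj
    ((EtCoh.pull (pullback.fst f (Y.fromSpecResidueField (genericPoint Y)))).obj F)
  haveI : Mono (0 : Q ⟶ Q) := Groth.Agent.Lib.EtSite.Stalk.mono_of_stalks _ fun x => by
    obtain ⟨Ω, i1, i2, ξ, h0, -, hz⟩ := hm x
    refine ⟨Ω, i1, i2, ξ, h0, fun a b _ => ?_⟩
    have := AddCommGrpCat.subsingleton_of_isZero (hz q h1 h2)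
    exact Subsingleton.elim _ _
  exact IsZero.of_mono_zero Q Q

end Groth.Agent.S3481
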