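import Groth.Statements.S3485
import Groth.Agent.H99.KrasnerField
import Groth.Agent.Lib.FEt.FullyFaithful
import Mathlib.RingTheory.Etale.Field
import Mathlib.RingTheory.Etale.Pi
import Mathlib.RingTheory.TensorProduct.Pi

set_option autoImplicit false
set_option linter.style.haveILetI false
universe u
open CategoryTheory CategoryTheory.Limits AlgebraicGeometry Opposite
open EtCd
open scoped TensorProduct

namespace Groth.Agent.S3485

/-- If finite separable extensions of `K` stay fields over `Kh`, then an etale algebra and its base change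
have the same spectrum. -/
theorem isHomeomorph_comap (K Kh A : Type u) [Field K] [Field Kh] [Algebra K Kh] [CommRing A] [Algebra K A]
    [Module.Finite K A] [Algebra.Etale K A]
    (hK : ∀ (L : Type u) [Field L] [Algebra K L] [FiniteDimensional K L] [Algebra.IsSeparable K L],
      IsField (Kh ⊗[K] L)) :
    IsHomeomorph (PrimeSpectrum.comap (Algebra.TensorProduct.includeLeftRingHom : A →+* A ⊗[K] Kh)) := by
  haveI : IsArtinianRing A := IsArtinianRing.of_finite K A
  haveI : IsArtinianRing (Kh ⊗[K] A) := IsArtinianRing.of_finite Kh _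
  haveI : IsArtinianRing (A ⊗[K] Kh) :=
    (Algebra.TensorProduct.comm K Kh A).toRingEquiv.isArtinianRing
  rw [isHomeomorph_iff_continuous_bijective]
  refine ⟨PrimeSpectrum.continuous_comap _, ?_⟩
  suffices key : ∀ P : PrimeSpectrum A, ∃! Q, PrimeSpectrum.comap
      (Algebra.TensorProduct.includeLeftRingHom : A →+* A ⊗[K] Kh) Q = P from
    ⟨fun Q Q' h => ((key _).unique rfl h.symm), fun P => (key P).exists⟩
  intro P
  haveI hPm : P.asIdeal.IsMaximal := Ideal.isMaximal_of_isPrime _
  letI := Ideal.Quotient.field P.asIdeal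
  haveI : Algebra.FormallyUnramified A (A ⧸ P.asIdeal) :=
    Algebra.FormallyUnramified.of_surjective (Algebra.ofId A (A ⧸ P.asIdeal)) Ideal.Quotient.mk_surjective
  haveI : Algebra.FormallyUnramified K (A ⧸ P.asIdeal) := Algebra.FormallyUnramified.comp K A _
  haveI : Algebra.IsSeparable K (A ⧸ P.asIdeal) := Algebra.FormallyUnramified.isSeparable K _
  have hF : IsField ((A ⧸ P.asIdeal) ⊗[K] Kh) := MulEquiv.isField (hK (A ⧸ P.asIdeal))
    (Algebra.TensorProduct.comm K (A ⧸ P.asIdeal) Kh).toMulEquiv
  let π : A →ₐ[K] A ⧸ P.asIdeal := Ideal.Quotient.mkₐ K _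
  let ψ := Algebra.TensorProduct.map π (AlgHom.id K Kh)
  have hψ : Function.Surjective ψ :=
    Algebra.TensorProduct.map_surjective π (AlgHom.id K Kh) Ideal.Quotient.mk_surjective fun x => ⟨x, rfl⟩
  letI := hF.toField
  haveI hmax : (RingHom.ker ψ).IsMaximal := RingHom.ker_isMaximal_of_surjective ψ hψ
  have hker : RingHom.ker ψ = P.asIdeal.map
      (Algebra.TensorProduct.includeLeftRingHom : A →+* A ⊗[K] Kh) := by
    rw [Algebra.TensorProduct.rTensor_ker π Ideal.Quotient.mk_surjective,
      show RingHom.ker π = P.asIdeal from Ideal.mk_ker]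
    rfl
  refine ⟨⟨RingHom.ker ψ, hmax.isPrime⟩, PrimeSpectrum.ext ?_, fun Q hQ => PrimeSpectrum.ext ?_⟩
  · rw [PrimeSpectrum.comap_asIdeal]
    refine (hPm.eq_of_le (Ideal.IsPrime.ne_top (Ideal.IsPrime.comap _)) ?_).symm
    show _ ≤ (RingHom.ker ψ).comap _
    rw [hker]
    exact Ideal.le_comap_map
  · refine (hmax.eq_of_le Q.isPrime.ne_top ?_).symm
    rw [hker, Ideal.map_le_iff_le_comap, ← hQ]
    rfl


/-- Let R be a henselian discrete valuation ring with fraction field K, let R^ be its completion (adic
completion at the maximal ideal) and K^ the fraction field of R^. Then base change along Spec K^ →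
Spec K is an equivalence from the category of finite etale schemes over Spec K to that over Spec K^
(equivalently the absolute Galois groups agree). -/
theorem result (R K Khat : Type u) [CommRing R] [IsDomain R]
    [IsDiscreteValuationRing R] [HenselianLocalRing R] [Field K] [Algebra R K] [IsFractionRing R K]
    [Field Khat] [Algebra (AdicCompletion (IsLocalRing.maximalIdeal R) R) Khat]
    [IsFractionRing (AdicCompletion (IsLocalRing.maximalIdeal R) R) Khat]
    [Algebra R Khat] [IsScalarTower R (AdicCompletion (IsLocalRing.maximalIdeal R) R) Khat]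
    [Algebra K Khat] [IsScalarTower R K Khat] :
    (FEt.restrict (Spec.map (CommRingCat.ofHom (algebraMap K Khat)))).IsEquivalence := by
  let g : Spec (CommRingCat.of Khat) ⟶ Spec (CommRingCat.of K) :=
    Spec.map (CommRingCat.ofHom (algebraMap K Khat))
  haveI : Surjective g := ⟨fun x => ⟨(default : PrimeSpectrum Khat),
    Subsingleton.elim (α := PrimeSpectrum K) _ _⟩⟩
  have hff := Lib.FEt.FullyFaithful.of_isHomeomorph g fun W => by
    let v : W.left ⟶ Spec (CommRingCat.of K) := W.hom
    haveI : IsFinite v := W.prop.1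
    haveI : Etale v := W.prop.2
    haveI : IsAffine W.left := isAffine_of_isAffineHom v
    let φ : K →+* Γ(W.left, ⊤) := ((Scheme.ΓSpecIso (CommRingCat.of K)).inv ≫ v.appTop).hom
    let : Algebra K Γ(W.left, ⊤) := φ.toAlgebra
    have hi := ConcreteCategory.bijective_of_isIso (Scheme.ΓSpecIso (CommRingCat.of K)).inv
    haveI : Module.Finite K Γ(W.left, ⊤) :=
      (IsFinite.finite_app v ⊤ (isAffineOpen_top _)).comp (RingHom.Finite.of_surjective _ hi.2)
    haveI : Algebra.Etale K Γ(W.left, ⊤) :=
      RingHom.Etale.stableUnderComposition _ _ (RingHom.Etale.of_bijective hi)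
        (HasRingHomProperty.appTop (P := @Etale) v inferInstance)
    have hfac : v = W.left.isoSpec.hom ≫ Spec.map (CommRingCat.ofHom (algebraMap K Γ(W.left, ⊤))) := by
      rw [RingHom.algebraMap_toAlgebra, Scheme.isoSpec_hom, CommRingCat.ofHom_hom, Spec.map_comp,
        ← Scheme.toSpecΓ_naturality_assoc, ← SpecMap_ΓSpecIso_hom, ← Spec.map_comp,
        Iso.inv_hom_id, Spec.map_id]
      exact (Category.comp_id v).symm
    let i : pullback v g ⟶ pullback (Spec.map (CommRingCat.ofHom (algebraMap K Γ(W.left, ⊤)))) g :=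
      pullback.map _ _ _ _ W.left.isoSpec.hom (𝟙 _) (𝟙 _) (by rw [Category.comp_id, hfac])
        (by rw [Category.comp_id, Category.id_comp])
    let e : (pullback v g : Scheme.{u}) ≅ Spec (CommRingCat.of (Γ(W.left, ⊤) ⊗[K] Khat)) :=
      asIso i ≪≫ pullbackSpecIso K Γ(W.left, ⊤) Khat
    have hfst : pullback.fst v g = e.hom ≫
        Spec.map (CommRingCat.ofHom Algebra.TensorProduct.includeLeftRingHom) ≫ W.left.isoSpec.inv := by
      simp only [e, Iso.trans_hom, asIso_hom, Category.assoc, pullbackSpecIso_hom_fst_assoc]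
      exact ((pullback.lift_fst_assoc _ _ _ _).trans ((Category.assoc _ _ _).trans
        ((congrArg (pullback.fst v g ≫ ·) W.left.isoSpec.hom_inv_id).trans (Category.comp_id _)))).symm
    show IsHomeomorph (pullback.fst v g).base
    rw [hfst]
    exact (W.left.isoSpec.inv.homeomorph.isHomeomorph.comp
      (isHomeomorph_comap K Khat Γ(W.left, ⊤) fun L _ _ _ _ =>
        H99.KrasnerField.isField_tensor R K Khat L)).comp e.hom.homeomorph.isHomeomorph
  haveI := hff.1
  haveI := hff.2
  haveI : (FEt.restrict g).EssSurj := by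
    refine ⟨fun V => ?_⟩
    let v : V.left ⟶ Spec (CommRingCat.of Khat) := V.hom
    haveI : IsFinite v := V.prop.1
    haveI : Etale v := V.prop.2
    haveI : IsAffine V.left := isAffine_of_isAffineHom v
    let φ : Khat →+* Γ(V.left, ⊤) := ((Scheme.ΓSpecIso (CommRingCat.of Khat)).inv ≫ v.appTop).hom
    let : Algebra Khat Γ(V.left, ⊤) := φ.toAlgebra
    have hi := ConcreteCategory.bijective_of_isIso (Scheme.ΓSpecIso (CommRingCat.of Khat)).inv
    haveI : Algebra.Etale Khat Γ(V.left, ⊤) :=
      RingHom.Etale.stableUnderComposition _ _ (RingHom.Etale.of_bijective hi)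
        (HasRingHomProperty.appTop (P := @Etale) v inferInstance)
    obtain ⟨I, _, M, _, _, eA, hM⟩ := (Algebra.Etale.iff_exists_algEquiv_prod Khat Γ(V.left, ⊤)).mp
      (inferInstanceAs (Algebra.Etale Khat Γ(V.left, ⊤)))
    have hL := fun i => @H99.KrasnerField.exists_descent R _ _ _ _ K _ _ _ Khat _ _ _ _ _ _ _
      (M i) _ _ (hM i).1 (hM i).2
    choose L hLr hLa hLf hLe hLq using hL
    cases nonempty_fintype I
    classical
    haveI : Algebra.FormallyEtale K (Π i, L i) := (Algebra.FormallyEtale.pi_iff _).mpr fun i => inferInstance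
    haveI : Algebra.Etale K (Π i, L i) := ⟨inferInstance, Algebra.FinitePresentation.of_finiteType.mp inferInstance⟩
    let e : Khat ⊗[K] (Π i, L i) ≃ₐ[Khat] Γ(V.left, ⊤) :=
      (Algebra.TensorProduct.piRight K Khat Khat L).trans
        ((AlgEquiv.piCongrRight fun i => (hLq i).some).trans eA.symm)
    have hp : FEt.prop.{u} (Spec.map (CommRingCat.ofHom (algebraMap K (Π i, L i)))) :=
      ⟨(IsFinite.SpecMap_iff _).mpr (RingHom.finite_algebraMap.mpr inferInstance),
        (HasRingHomProperty.Spec_iff (P := @Etale)).mpr (RingHom.etale_algebraMap.mpr inferInstance)⟩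
    have hfac : v = V.left.isoSpec.hom ≫ Spec.map (CommRingCat.ofHom φ) := by
      rw [Scheme.isoSpec_hom, CommRingCat.ofHom_hom, Spec.map_comp,
        ← Scheme.toSpecΓ_naturality_assoc, ← SpecMap_ΓSpecIso_hom, ← Spec.map_comp,
        Iso.inv_hom_id, Spec.map_id]
      exact (Category.comp_id v).symm
    let j : pullback (Spec.map (CommRingCat.ofHom (algebraMap K (Π i, L i)))) g ≅ V.left :=
      pullbackSymmetry _ _ ≪≫ pullbackSpecIso K Khat (Π i, L i) ≪≫
        Scheme.Spec.mapIso e.symm.toRingEquiv.toCommRingCatIso.op ≪≫ V.left.isoSpec.symm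
    refine ⟨MorphismProperty.Over.mk ⊤ _ hp, ⟨MorphismProperty.Over.isoMk j ?_⟩⟩
    change j.hom ≫ v = pullback.snd (Spec.map (CommRingCat.ofHom (algebraMap K (Π i, L i)))) g
    rw [hfac, ← pullbackSymmetry_hom_comp_fst]
    simp only [j, Iso.trans_hom, Iso.symm_hom, Category.assoc, Iso.inv_hom_id_assoc]
    congr 1
    rw [show pullback.fst g (Spec.map (CommRingCat.ofHom (algebraMap K (Π i, L i)))) =
      pullback.fst (Spec.map (CommRingCat.ofHom (algebraMap K Khat))) _ from rfl,
      ← pullbackSpecIso_hom_fst]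
    congr 1
    change Spec.map _ ≫ Spec.map _ = Spec.map _
    rw [← Spec.map_comp]
    congr 1
    ext x
    exact e.symm.commutes x
  exact { }

end Groth.Agent.S3485
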