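import Groth.Statements.S3500
import Groth.Agent.H80.CurveGlue.Main
import Groth.Agent.H80.CurveGlue.Topo
import Groth.Agent.S0238

set_option autoImplicit false
set_option backward.isDefEq.respectTransparency false
universe u
open CategoryTheory CategoryTheory.Limits AlgebraicGeometry Opposite
open EtCd

namespace Groth.Agent.S3500

/-- Let k be a separably closed field, Z a scheme locally of finite type over k of dimension at most 1,
and i : X → Z a closed immersion with X connected. Then every finite etale scheme over X is induced
by a finite etale scheme over Z: restriction of finite etale covers along i is essentially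
surjective. -/
theorem result (k : Type u) [Field k] [IsSepClosed k] (Z X : Scheme.{u})
    (a : Z ⟶ Spec (CommRingCat.of k)) [LocallyOfFiniteType a] (hdim : topologicalKrullDim Z ≤ 1)
    (i : X ⟶ Z) [IsClosedImmersion i] [ConnectedSpace X] :
    (FEt.restrict i).EssSurj := by
  let I := i.ker
  let S : TopologicalSpace.Closeds Z := ⟨closure (Set.range i)ᶜ, isClosed_closure⟩
  let J := Scheme.IdealSheafData.vanishingIdeal S
  have : IsIso i.toImage := inferInstance
  have : ConnectedSpace I.subscheme :=
    (asIso i.toImage).hom.homeomorph.surjective.connectedSpace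
      (asIso i.toImage).hom.homeomorph.continuous
  have : IsLocallyNoetherian Z := LocallyOfFiniteType.isLocallyNoetherian a
  have hsI : (I.support : Set Z) = Set.range i := by
    rw [Scheme.Hom.support_ker, i.isClosedEmbedding.isClosed_range.closure_eq]
  have hsJ : (J.support : Set Z) = closure (Set.range i)ᶜ := by
    rw [Scheme.IdealSheafData.coe_support_vanishingIdeal]; rfl
  have : IsLocallyNoetherian (I ⊔ J).subscheme :=
    LocallyOfFiniteType.isLocallyNoetherian (I ⊔ J).subschemeι
  have hcl : ∀ w : (I ⊔ J).subscheme, IsClosed ({w} : Set (I ⊔ J).subscheme) := fun w => by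
    have hw : (I ⊔ J).subschemeι w ∈ ((I ⊔ J).support : Set Z) :=
      (I ⊔ J).range_subschemeι ▸ Set.mem_range_self w
    rw [Scheme.IdealSheafData.support_sup] at hw
    have h := Groth.Agent.H80.CurveGlue.isClosed_singleton_of_mem hdim
      i.isClosedEmbedding.isClosed_range (hsI.subset hw.1) (hsJ.subset hw.2)
    have := h.preimage (I ⊔ J).subschemeι.continuous
    rwa [← Set.image_singleton, Set.preimage_image_eq _
      (I ⊔ J).subschemeι.isClosedEmbedding.injective] at this
  have := Groth.Agent.H80.CurveGlue.discreteTopology_of_isClosed_singleton hcl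
  have : Surjective (I ⊓ J).subschemeι := ⟨fun z => by
    show z ∈ Set.range (I ⊓ J).subschemeι
    rw [Scheme.IdealSheafData.range_subschemeι]
    by_cases hz : z ∈ Set.range i
    · exact Scheme.IdealSheafData.support_antitone inf_le_left (hsI.symm.subset hz)
    · exact Scheme.IdealSheafData.support_antitone inf_le_right
        (hsJ.symm.subset (subset_closure hz))⟩
  have := Groth.Agent.S0238.result (I ⊓ J).subschemeι
  have hs : Groth.Agent.H80.UnivHomeo.ES (I ⊓ J).subschemeι := Functor.IsEquivalence.essSurj
  have h := Groth.Agent.H80.UnivHomeo.ES.comp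
    (Groth.Agent.H80.UnivHomeo.ES.comp (Groth.Agent.H80.UnivHomeo.ES.of_isIso i.toImage)
      (Groth.Agent.H80.CurveGlue.essSurj_inclusion a I J))
    hs
  have e : (i.toImage ≫ Scheme.IdealSheafData.inclusion (inf_le_left : I ⊓ J ≤ I)) ≫
      (I ⊓ J).subschemeι = i := by
    rw [Category.assoc, Scheme.IdealSheafData.inclusion_subschemeι]
    exact i.toImage_imageι
  exact e ▸ h

end Groth.Agent.S3500
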