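import Groth.Agent.H88.EtMod.Efface
import Groth.Agent.H88.EtMod.PBCPresent
import Groth.Agent.S0133
import Groth.Statements.S3508
-- import your own Groth.Agent.* helpers here

set_option autoImplicit false
universe u
open CategoryTheory CategoryTheory.Limits AlgebraicGeometry Opposite
open EtCd

namespace Groth.Agent.S3508

/-- Let X be a quasi-compact and quasi-separated scheme. An abelian sheaf F on the small etale site of X
is constructible if and only if it is isomorphic to the cokernel of a morphism ⨁_j j_{V_j !} Z/m_j →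
⨁_i j_{U_i !} Z/n_i for finite families of affine etale X-schemes U_i, V_j (the source first states
it with quasi-compact quasi-separated objects and then notes that U_i, V_j may even be taken affine)
and positive integers n_i, m_j (j_! the extension by zero of the constant sheaf). -/
theorem result (X : Scheme.{u}) [CompactSpace X] [QuasiSeparatedSpace X]
    (F : EtCoh.Ab X) :
    EtPBC.IsConstructible F ↔
      ∃ (a b : ℕ) (U : Fin a → X.Etale) (V : Fin b → X.Etale) (n : Fin a → ℕ) (m : Fin b → ℕ),
        (∀ i, 0 < n i ∧ IsAffine (U i).left) ∧ (∀ j, 0 < m j ∧ IsAffine (V j).left) ∧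
        ∃ φ : (⨁ fun j => EtPBC.extZeroConst (V j) (ZMod (m j))) ⟶ (⨁ fun i => EtPBC.extZeroConst (U i) (ZMod (n i))),
          Nonempty (F ≅ cokernel φ) := by
  constructor
  · intro hF
    obtain ⟨n, hn, h0⟩ := Groth.Agent.H88.EtMod.Efface.exists_killed F hF
    haveI : NeZero n := ⟨hn⟩
    obtain ⟨a, b, V, U, hV, hU, φ, hφ⟩ := Groth.Agent.H88.EtMod.PBCPresent.exists_presentation n hF
      ((Groth.Agent.H88.EtMod.PBCPresent.killedBy_iff n F).2 h0)
    exact ⟨b, a, U, V, fun _ => n, fun _ => n, fun i => ⟨Nat.pos_of_ne_zero hn, hU i⟩,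
      fun j => ⟨Nat.pos_of_ne_zero hn, hV j⟩, φ, hφ⟩
  · rintro ⟨a, b, U, V, n, m, hU, hV, φ, ⟨e⟩⟩
    have hc : ∀ {k : ℕ} (W : Fin k → X.Etale) (q : Fin k → ℕ), (∀ i, 0 < q i ∧ IsAffine (W i).left) →
        EtPBC.IsConstructible (⨁ fun i => EtPBC.extZeroConst (W i) (ZMod (q i))) := fun {k} W q h =>
      Groth.Agent.H88.EtMod.PBCPresent.isConstructible_biproduct _ fun i => by
        haveI := (h i).2
        haveI : NeZero (q i) := ⟨(h i).1.ne'⟩
        exact Groth.Agent.S0133.result X (W i) (ZMod (q i))
    exact Groth.Agent.H88.EtMod.PBCOps.isConstructible_of_iso e.symm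
      (Groth.Agent.H88.EtMod.PBCOps.isConstructible_kernel_cokernel φ (hc V m hV) (hc U n hU)).2

end Groth.Agent.S3508
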