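import Groth.Statements.S3510
import Groth.Agent.Lib.EtSite.AcyclicCrit

set_option autoImplicit false
universe u
open CategoryTheory CategoryTheory.Limits AlgebraicGeometry Opposite
open EtAcyc

namespace Groth.Agent.S3510

/-- (i) ⇔ (ii): let g : X → Y be a morphism of schemes, L a set of primes and n a natural number. Then g
is n-acyclic for L (form (ii): for every etale V → Y with projection g' : X ×_Y V → V and every
abelian L-torsion sheaf F on V, H^q(V, F) → H^q(X ×_Y V, g'⁻¹F) is bijective for q ≤ n and injective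
for q = n + 1) if and only if (form (i)) for every such V and F the unit F → g'_* g'⁻¹ F is an
isomorphism and R^q g'_* (g'⁻¹ F) = 0 for 1 ≤ q ≤ n. -/
theorem result {X Y : Scheme.{u}} (g : X ⟶ Y) (L : Set ℕ) (n : ℕ) :
    EtAcyc.IsAcyclicN g L n ↔
      ∀ (V : Y.Etale) (F : EtCoh.Ab V.left), EtAcyc.IsLTorsion L F →
        IsIso ((EtCoh.pullPushAdj (EtAcyc.prj g V)).unit.app F) ∧
          ∀ q : ℕ, 1 ≤ q → q ≤ n →
            IsZero ((EtCoh.Rpush (EtAcyc.prj g V) q).obj ((EtCoh.pull (EtAcyc.prj g V)).obj F)) := by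
  constructor
  · intro h V F hF
    have hl : Groth.Agent.Lib.EtSite.AcyclicCrit.LocComp (EtAcyc.prj g V) L n := fun W => by
      have : Etale W.hom := W.prop
      have : Etale V.hom := V.prop
      have hc : (pullback.fst (W.hom ≫ V.hom) g ≫ W.hom) ≫ V.hom = pullback.snd (W.hom ≫ V.hom) g ≫ g :=
        (Category.assoc _ _ _).trans pullback.condition
      refine ⟨pullback (W.hom ≫ V.hom) g,
        pullback.lift (pullback.fst (W.hom ≫ V.hom) g ≫ W.hom) (pullback.snd (W.hom ≫ V.hom) g) hc,
        pullback.fst (W.hom ≫ V.hom) g, ?_, h (Scheme.Etale.mk (W.hom ≫ V.hom))⟩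
      refine IsPullback.of_right ?_ (pullback.lift_fst _ _ _) (IsPullback.of_hasPullback V.hom g).flip
      rw [pullback.lift_snd]
      exact (IsPullback.of_hasPullback (W.hom ≫ V.hom) g).flip
    exact ⟨Groth.Agent.Lib.EtSite.AcyclicCrit.isIso_unit hl F hF,
      fun q h1 h2 => Groth.Agent.Lib.EtSite.AcyclicCrit.isZero_Rpush hl q h1 h2 F hF⟩
  · intro h V F hF _
    have := (h V F hF).1
    exact Groth.Agent.Lib.EtSite.LowLeray.Hpull_bijective (EtAcyc.prj g V) F n (h V F hF).2

end Groth.Agent.S3510
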