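import Groth.Statements.S3514
import Groth.Agent.S3513
import Groth.Agent.S0537
import Groth.Agent.Lib.LocAcycBC.Lift

set_option autoImplicit false
universe u
open CategoryTheory CategoryTheory.Limits AlgebraicGeometry Opposite
open EtAcyc

namespace Groth.Agent.S3514

/-- Let g : X → Y and h : Y → Z be morphisms of schemes with g surjective, L a set of primes and n a
natural number. If g is locally n-acyclic for L, then h is locally n-acyclic for L if and only if g
≫ h is; if g is locally 0-acyclic, then h is locally 0-acyclic if and only if g ≫ h is. -/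
theorem result {X Y Z : Scheme.{u}} (g : X ⟶ Y) (h : Y ⟶ Z)
    (hg : Function.Surjective g.base) (L : Set ℕ) (n : ℕ) :
    (EtAcyc.IsLocAcyclicN g L n → (EtAcyc.IsLocAcyclicN h L n ↔ EtAcyc.IsLocAcyclicN (g ≫ h) L n)) ∧
      (EtAcyc.IsLocZeroAcyclic g → (EtAcyc.IsLocZeroAcyclic h ↔ EtAcyc.IsLocZeroAcyclic (g ≫ h))) := by
  have key : ∀ (P : ∀ ⦃A B : Scheme.{u}⦄, (A ⟶ B) → Prop),
      (∀ ⦃A B C : Scheme.{u}⦄ (a : A ⟶ B) (b : B ⟶ C), P a → (P b ↔ P (a ≫ b))) →
      OnStrictLocalizations g (fun _ _ m => P m) →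
      (OnStrictLocalizations h (fun _ _ m => P m) ↔ OnStrictLocalizations (g ≫ h) (fun _ _ m => P m)) := by
    intro P hP hgP
    constructor
    · intro hhP x RZ RX _ _ _ _ aZ lZ hZ _ _ hX _ _ hc
      letI aZ' : Algebra (Z.presheaf.stalk (h.base (g.base x))) RZ := aZ
      haveI lZ' : IsLocalHom (algebraMap (Z.presheaf.stalk (h.base (g.base x))) RZ) := lZ
      haveI hZ' : Hensel.IsStrictHenselization (Z.presheaf.stalk (h.base (g.base x))) RZ := hZ
      obtain ⟨RY, _, _, _, _, hY⟩ := S0537.result (Y.presheaf.stalk (g.base x))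
      haveI := hX.henselian
      haveI := hX.isSepClosure.sep_closed
      haveI := hY.henselian
      haveI := hY.isSepClosure.sep_closed
      obtain ⟨j, hj, hjc⟩ := Lib.LocAcycBC.Lift.exists_ringHom (Ash := RY) (T := RX)
        ((algebraMap (X.presheaf.stalk x) RX).comp (g.stalkMap x).hom)
      haveI := hj
      have hc' : (algebraMap RZ RX).comp (algebraMap (Z.presheaf.stalk (h.base (g.base x))) RZ) =
          (j.comp (algebraMap (Y.presheaf.stalk (g.base x)) RY)).comp (h.stalkMap (g.base x)).hom := by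
        rw [hjc]
        refine hc.trans ?_
        rw [Scheme.Hom.stalkMap_comp]
        rfl
      obtain ⟨ι, hι, hιc, hfac⟩ := Lib.LocAcycBC.Lift.exists_factor (Ash := RZ) (Csh := RY)
        (h.stalkMap (g.base x)).hom j (algebraMap RZ RX) hc'
      let aZY := ι.toAlgebra
      let aYX := j.toAlgebra
      have hloc1 : IsLocalHom (algebraMap RY RX) := hj
      have hloc2 : IsLocalHom (algebraMap RZ RY) := hι
      have e1 := hgP x RY RX hjc
      have e2 := hhP (g.base x) RZ RY hιc
      have e := (hP _ _ e1).1 e2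
      rw [← Spec.map_comp, ← CommRingCat.ofHom_comp] at e
      exact (congrArg (fun m => P (Spec.map (CommRingCat.ofHom m))) hfac).mp e
    · intro hghP y RZ RY _ _ _ _ aZ lZ hZ _ _ hY _ _ hc
      obtain ⟨x, rfl⟩ := hg y
      letI aZ' : Algebra (Z.presheaf.stalk ((g ≫ h).base x)) RZ := aZ
      haveI lZ' : IsLocalHom (algebraMap (Z.presheaf.stalk ((g ≫ h).base x)) RZ) := lZ
      haveI hZ' : Hensel.IsStrictHenselization (Z.presheaf.stalk ((g ≫ h).base x)) RZ := hZ
      obtain ⟨RX, _, _, _, _, hX⟩ := S0537.result (X.presheaf.stalk x)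
      haveI := hX.henselian
      haveI := hX.isSepClosure.sep_closed
      obtain ⟨j, hj, hjc⟩ := Lib.LocAcycBC.Lift.exists_ringHom (Ash := RY) (T := RX)
        ((algebraMap (X.presheaf.stalk x) RX).comp (g.stalkMap x).hom)
      let aYX := j.toAlgebra
      let aZX := (j.comp (algebraMap RZ RY)).toAlgebra
      have hloc1 : IsLocalHom (algebraMap RY RX) := hj
      haveI := hj
      have hloc2 : IsLocalHom (algebraMap RZ RX) :=
        RingHom.isLocalHom_comp j (algebraMap RZ RY)
      have e1 := hgP x RY RX hjc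
      have e2 := hghP x RZ RX (by
        change (j.comp (algebraMap RZ RY)).comp _ = _
        rw [RingHom.comp_assoc, Scheme.Hom.stalkMap_comp]
        refine (congrArg (RingHom.comp j) hc).trans ?_
        rw [← RingHom.comp_assoc, hjc]
        rfl)
      refine (hP _ _ e1).2 ?_
      rw [← Spec.map_comp, ← CommRingCat.ofHom_comp]
      exact e2
  exact ⟨fun hgn => key (fun _ _ m => EtAcyc.IsAcyclicN m L n)
      (fun _ _ _ a b => (S3513.result a b L n).1) hgn,
    fun hgz => key (fun _ _ m => EtAcyc.IsZeroAcyclic m)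
      (fun _ _ _ a b => (S3513.result a b L n).2) hgz⟩

end Groth.Agent.S3514
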