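import Groth.Statements.S3517
import Groth.Agent.Lib.EtSite.BCGerm
import Groth.Agent.Lib.EtSite.MinusOne

set_option autoImplicit false
universe u
open CategoryTheory CategoryTheory.Limits AlgebraicGeometry Opposite
open EtBC

namespace Groth.Agent.S3517

/-- Let h : Y → X and p : X̄ → X be morphisms of schemes with p surjective, Ȳ = Y ×_X X̄ with
projections h̄ : Ȳ → X̄ and p_Y : Ȳ → Y. If for every sheaf of sets F̄ on X̄ the pullback map on
global sections Γ(X̄, F̄) → Γ(Ȳ, h̄^* F̄) is injective, then for every sheaf of sets F on X the map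
Γ(X, F) → Γ(Y, h^* F) is injective. If those maps for h̄ are bijective and moreover the base change
morphism h^* p_* F̄ → p_{Y*} h̄^* F̄ is a monomorphism for every sheaf of sets F̄ on X̄, then the
maps Γ(X, F) → Γ(Y, h^* F) are bijective. -/
theorem result {X Y Xb Yb : Scheme.{u}} (h : Y ⟶ X) (p : Xb ⟶ X)
    (hb : Yb ⟶ Xb) (pY : Yb ⟶ Y) (sq : IsPullback hb pY p h) (hp : Function.Surjective p.base) :
    ((∀ Fb : EtDesc.Sh Xb, Function.Injective (EtDesc.secPull hb Fb)) →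
      ∀ F : EtDesc.Sh X, Function.Injective (EtDesc.secPull h F)) ∧
    ((∀ Fb : EtDesc.Sh Xb, Function.Bijective (EtDesc.secPull hb Fb)) →
      (∀ Fb : EtDesc.Sh Xb, Mono (EtBC.baseChange0Sh p h pY hb sq.w Fb)) →
      ∀ F : EtDesc.Sh X, Function.Bijective (EtDesc.secPull h F)) := by
  open Groth.Agent.Lib.EtSite Groth.Agent.Lib.EtSite.SubDescent Groth.Agent.Lib.EtSite.BCGerm in
  have hinj : (∀ Fb : EtDesc.Sh Xb, Function.Injective (EtDesc.secPull hb Fb)) →
      ∀ F : EtDesc.Sh X, Function.Injective (EtDesc.secPull h F) := by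
    intro hi F s s' e
    apply secPull_injective p hp F
    apply hi
    apply (Groth.Agent.Lib.EtSite.SubSheaf.injective_app
      (EtDesc.pullVia hb p (pY ≫ h) sq.w F).hom (EtCoh.top Yb))
    rw [secPull_comp p hb (pY ≫ h) sq.w, secPull_comp p hb (pY ≫ h) sq.w,
      ← secPull_comp h pY (pY ≫ h) rfl, ← secPull_comp h pY (pY ≫ h) rfl, e]
  refine ⟨hinj, fun hbij hbc F => ⟨hinj (fun Fb => (hbij Fb).1) F, fun ξ => ?_⟩⟩
  open Groth.Agent.Lib.EtSite Groth.Agent.Lib.EtSite.SubDescent Groth.Agent.Lib.EtSite.BCGerm in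
  have hstep : ∃ s, EtDesc.secPull h _ s =
      ((EtDesc.pullSh h).map ((EtDesc.adjSh p).unit.app F)).hom.app (op (EtCoh.top Y)) ξ := by
    obtain ⟨σ, hσ⟩ := (hbij ((EtDesc.pullSh p).obj F)).2
      ((EtDesc.pullVia hb p (pY ≫ h) sq.w F).inv.hom.app (op (EtCoh.top Yb))
        ((EtDesc.pullVia pY h (pY ≫ h) rfl F).hom.hom.app (op (EtCoh.top Yb))
          (EtDesc.secPull pY _ ξ)))
    refine ⟨ofSrc p _ σ, ?_⟩
    have := hbc ((EtDesc.pullSh p).obj F)
    apply Groth.Agent.Lib.EtSite.SubSheaf.injective_app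
      (EtBC.baseChange0Sh p h pY hb sq.w ((EtDesc.pullSh p).obj F)) (EtCoh.top Y)
    refine (ofSrc_toSrc pY _ ((EtBC.baseChange0Sh p h pY hb sq.w _).hom.app (op (EtCoh.top Y))
        (EtDesc.secPull h ((EtDesc.pushSh p).obj ((EtDesc.pullSh p).obj F)) (ofSrc p _ σ)))).symm.trans
      (Eq.trans ?_ (ofSrc_toSrc pY _ ((EtBC.baseChange0Sh p h pY hb sq.w _).hom.app (op (EtCoh.top Y))
        (((EtDesc.pullSh h).map ((EtDesc.adjSh p).unit.app F)).hom.app (op (EtCoh.top Y)) ξ))))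
    refine congrArg (ofSrc pY _) (top_ext _ _ _ fun z => ?_)
    refine ⟨_, inferInstance, inferInstance, Push.algPoint Yb z, Push.algPoint_apply Yb z default, ?_⟩
    set θ := Push.algPoint Yb z
    have h₀ : (θ ≫ hb) ≫ p = (θ ≫ pY) ≫ h := by rw [Category.assoc, sq.w, Category.assoc]
    have hb₀ : θ ≫ pY ≫ h = (θ ≫ pY) ≫ h := (Category.assoc _ _ _).symm
    obtain ⟨c, hc⟩ := (bijective_germUnit h F (rfl : (θ ≫ pY) ≫ h = _)).2
      (germ (θ ≫ pY) _ (topPt _) ξ)
    rw [← germTo_top pY _ _ rfl, ← germTo_top pY _ _ rfl]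
    rw [← stalkMap_germ, ← stalkMap_germ, ← stalkMap_germ, germ_secPull h _ rfl,
      show germ (θ ≫ pY) ((EtDesc.pullSh h).obj ((𝟭 (EtDesc.Sh X)).obj F)) (topPt (θ ≫ pY)) ξ =
        germUnit h F rfl c from hc.symm,
      show stalkMap (θ ≫ pY) ((EtDesc.pullSh h).map ((EtDesc.adjSh p).unit.app F)) (germUnit h F rfl c) =
        germUnit h ((EtDesc.pushSh p).obj ((EtDesc.pullSh p).obj F)) rfl
          (stalkMap ((θ ≫ pY) ≫ h) ((EtDesc.adjSh p).unit.app F) c)
        from germUnit_naturality h _ _ _,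
      germTo_baseChange0Sh sq.w _ rfl rfl rfl h₀,
      germTo_baseChange0Sh sq.w _ rfl rfl rfl h₀, germTo_top p _ _ h₀, toSrc_ofSrc,
      ← germ_secPull hb _ rfl, hσ, ← stalkMap_germ, ← stalkMap_germ, germ_secPull pY _ rfl, ← hc,
      pullVia_germUnit h pY (pY ≫ h) rfl F rfl rfl hb₀,
      ← pullVia_germUnit p hb (pY ≫ h) sq.w F rfl h₀ hb₀, ← stalkMap_comp, Iso.hom_inv_id,
      stalkMap_id]
    rfl
  obtain ⟨s, hs⟩ := hstep
  have hm : Mono ((EtDesc.adjSh p).unit.app F) :=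
    Groth.Agent.Lib.EtSite.MinusOne.mono_unit_of_surjective p hp F
  obtain ⟨H, a, b, hab, hlift⟩ :=
    Groth.Agent.Lib.EtSite.BCGerm.exists_of_regularMono ((EtDesc.adjSh p).unit.app F)
  have e : EtDesc.secPull h H (a.hom.app (op (EtCoh.top X)) s) =
      EtDesc.secPull h H (b.hom.app (op (EtCoh.top X)) s) := by
    rw [← Groth.Agent.Lib.EtSite.BCGerm.secPull_naturality h a, ←
      Groth.Agent.Lib.EtSite.BCGerm.secPull_naturality h b, hs]
    have := congrArg (fun m => ((EtDesc.pullSh h).map m).hom.app (op (EtCoh.top Y)) ξ) hab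
    simp only [Functor.map_comp] at this
    exact this
  obtain ⟨r, hr⟩ := hlift _ s (hinj (fun Fb => (hbij Fb).1) H e)
  refine ⟨r, ?_⟩
  have : PreservesFiniteLimits (EtDesc.pullSh h) :=
    Groth.Agent.Lib.EtSite.Pull.preservesFiniteLimits_sheafPullback h (Type (u + 1))
  apply Groth.Agent.Lib.EtSite.SubSheaf.injective_app
    ((EtDesc.pullSh h).map ((EtDesc.adjSh p).unit.app F)) (EtCoh.top Y)
  exact (Groth.Agent.Lib.EtSite.BCGerm.secPull_naturality h _ r).trans
    ((congrArg (EtDesc.secPull h _) hr).trans hs)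

end Groth.Agent.S3517
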