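import Groth.Statements.S3524
import Groth.Agent.Lib.TensorCx.Filtration

set_option autoImplicit false
universe u
attribute [local instance] HasDerivedCategory.standard
open HTor

namespace Groth.Agent.S3524

open CategoryTheory CategoryTheory.Limits MonoidalCategory in
/-- Consequence of the biregular Künneth/hypertor spectral sequence; cochain indexing. Let L and M be
complexes of A-modules vanishing in large degrees, every term of L flat (so that L ⊗ M computes the
hypertor of L and M). If Tor_p^A(H^i(L), H^j(M)) = 0 for all p ≥ 0 and all i, j with i + j - p = n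
(vanishing stated as Subsingleton), then H^n(L ⊗ M) = 0. (Tor is Mathlib's, left derived in the
second variable.) -/
theorem result (A : Type u) [CommRing A] (L M : DRing.Cx A)
    (hL : DRing.TermwiseFlat L) (bL : ∃ b : ℤ, DRing.VanishesAbove L b)
    (bM : ∃ b : ℤ, DRing.VanishesAbove M b) (n : ℤ)
    (h : ∀ (p : ℕ) (i j : ℤ), i + j - p = n → Subsingleton (DRing.Tor A p (L.homology i) (M.homology j))) :
    IsZero ((HTor.tensorCx L M).homology n) := by
  obtain ⟨b, hb⟩ := bL
  obtain ⟨c, hc⟩ := bM
  have hs : Function.Surjective (Groth.Agent.Lib.TensorCx.Kunneth.kmap L M n) :=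
    Groth.Agent.Lib.TensorCx.Filtration.kmap_surjective L M hL b hb (c + 1) (Groth.Agent.Lib.TensorCx.Filtration.exactAt_of_isZero_above M c hc) n
      (fun p => ⟨fun x y => DFinsupp.ext fun ij =>
        (h (p + 1) ij.1.1 ij.1.2 (by have := ij.2; push_cast at this ⊢; omega)).elim _ _⟩)
  have h0 : ∀ ij : Groth.Agent.Lib.TensorCx.Kunneth.Anti n,
      Subsingleton (TensorProduct A (L.homology ij.1.1) (M.homology ij.1.2)) := fun ij => by
    have := h 0 ij.1.1 ij.1.2 (by have := ij.2; simpa using this)
    let e := ((((tensoringLeft (ModuleCat.{u} A)).obj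
      (ModuleCat.of A (L.homology ij.1.1))).leftDerivedZeroIsoSelf.app
        (ModuleCat.of A (M.homology ij.1.2))).toLinearEquiv)
    exact ⟨fun x y => e.symm.injective (this.elim (e.symm x) (e.symm y))⟩
  have : Subsingleton (Groth.Agent.Lib.TensorCx.Kunneth.KSum L M n) := ⟨fun x y => DFinsupp.ext fun ij => (h0 ij).elim _ _⟩
  have : Subsingleton ((HTor.tensorCx L M).homology n) := hs.subsingleton
  exact ModuleCat.isZero_of_subsingleton _

end Groth.Agent.S3524
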