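import Groth.Statements.S3529
import Groth.Agent.Lib.CechRes.PairGlobal
import Groth.Agent.Lib.CechRes.Lift

set_option autoImplicit false
universe u
attribute [local instance] HasDerivedCategory.standard
open HTor

namespace Groth.Agent.S3529

open CategoryTheory CategoryTheory.Limits AlgebraicGeometry in
/-- Let A be a ring, X₁, X₂ quasi-compact separated schemes over Spec A and P₁, P₂ complexes of
quasi-coherent modules on them vanishing in large degrees, every term of P₁ being flat over Spec A.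
If L₁, L₂ are complexes of projective A-modules vanishing in large degrees that compute RΓ(X₁, P₁)
and RΓ(X₂, P₂) in D(A), then L₁ ⊗_A L₂ computes RΓ(X₁ ×_A X₂, pr₁^*P₁ ⊗ pr₂^*P₂): the global
hypertor of P₁ and P₂ over Spec A is the hypercohomology of their external tensor product. (The
published statement, over a general base and pair of base schemes, gives a canonical isomorphism;
here the base is affine and equal to both, and only the existence of an isomorphism in D(A) is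
asserted.) -/
theorem result (A : Type u) [CommRing A] (X₁ X₂ : Scheme.{u})
    (f₁ : X₁ ⟶ Spec (CommRingCat.of A)) (f₂ : X₂ ⟶ Spec (CommRingCat.of A))
    [QuasiCompact f₁] [IsSeparated f₁] [QuasiCompact f₂] [IsSeparated f₂]
    [HTor.HasRΓA f₁] [HTor.HasRΓA f₂] [HTor.HasRΓA (pullback.fst f₁ f₂ ≫ f₁)]
    (P₁ : CochainComplex X₁.Modules ℤ) (P₂ : CochainComplex X₂.Modules ℤ)
    (hq₁ : ∀ i : ℤ, Coh.IsQCoh (P₁.X i)) (hq₂ : ∀ i : ℤ, Coh.IsQCoh (P₂.X i))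
    (b₁ : ∃ b : ℤ, ∀ i : ℤ, b < i → IsZero (P₁.X i)) (b₂ : ∃ b : ℤ, ∀ i : ℤ, b < i → IsZero (P₂.X i))
    (hfl : ∀ i : ℤ, FlatMod.IsFlatOver f₁ (P₁.X i))
    (L₁ L₂ : DRing.Cx A) (hL₁ : ∀ i : ℤ, Projective (L₁.X i)) (hL₂ : ∀ i : ℤ, Projective (L₂.X i))
    (c₁ : ∃ c : ℤ, DRing.VanishesAbove L₁ c) (c₂ : ∃ c : ℤ, DRing.VanishesAbove L₂ c)
    (e₁ : HTor.Computes f₁ L₁ (DCoh.toD X₁ P₁)) (e₂ : HTor.Computes f₂ L₂ (DCoh.toD X₂ P₂)) :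
    HTor.Computes (pullback.fst f₁ f₂ ≫ f₁) (HTor.tensorCx L₁ L₂)
      (DCoh.toD (pullback f₁ f₂) (HTor.extTensorCx f₁ f₂ P₁ P₂)) := by
  obtain ⟨b₁, hb₁⟩ := b₁
  obtain ⟨b₂, hb₂⟩ := b₂
  obtain ⟨c₁, hc₁⟩ := c₁
  obtain ⟨c₂, hc₂⟩ := c₂
  obtain ⟨l₁, hl₁, hcov₁⟩ := Groth.Agent.Lib.CechRes.Cover.exists_list_cover f₁
  obtain ⟨l₂, hl₂, hcov₂⟩ := Groth.Agent.Lib.CechRes.Cover.exists_list_cover f₂
  have hfl₁ : ∀ i, Groth.Agent.Lib.CechRes.Flat.SecFlat f₁ (P₁.X i) := fun i =>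
    haveI : (P₁.X i).IsQuasicoherent := hq₁ i
    Groth.Agent.Lib.CechRes.Flat.secFlat_of_isFlatOver f₁ (P₁.X i) (hfl i)
  obtain ⟨r₁, hΦ₁, hz₁⟩ := Groth.Agent.Lib.CechRes.Compute.exists_resolution f₁ l₁ hl₁ hcov₁ P₁ hq₁
    (Groth.Agent.Lib.CechRes.Flat.SecFlat f₁) (Groth.Agent.Lib.CechRes.Flat.secFlat_biprod f₁)
    (Groth.Agent.Lib.CechRes.Flat.secFlat_zero f₁)
    (fun V hV => Groth.Agent.Lib.CechRes.Flat.secFlat_E f₁ (hl₁ V hV)) hfl₁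
  obtain ⟨r₂, -, hz₂⟩ := Groth.Agent.Lib.CechRes.Compute.exists_resolution f₂ l₂ hl₂ hcov₂ P₂ hq₂
    (Groth.Agent.Lib.WayOut.Scheme.qc X₂) Groth.Agent.Lib.CechRes.Res.qc_biprod
    Groth.Agent.Lib.CechRes.Res.qc_zero
    (fun V hV M (hM : M.IsQuasicoherent) => Groth.Agent.Lib.CechRes.Res.isQCoh_E f₂ (hl₂ V hV) M) hq₂
  let a := max (max b₁ c₁) (b₁ + l₁.length)
  let b := max (max b₂ c₂) (b₂ + l₂.length)
  have hQ₁ : ∀ i, a < i → IsZero (r₁.Q.X i) := fun i hi => hz₁ i fun j h _ => hb₁ j (by lia)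
  have hQ₂ : ∀ i, b < i → IsZero (r₂.Q.X i) := fun i hi => hz₂ i fun j h _ => hb₂ j (by lia)
  obtain ⟨α₁⟩ := e₁
  obtain ⟨α₂⟩ := e₂
  obtain ⟨β₁⟩ := r₁.computes f₁ hl₁
  obtain ⟨β₂⟩ := r₂.computes f₂ hl₂
  obtain ⟨s₁, hs₁, -⟩ := Groth.Agent.Lib.CechRes.Lift.exists_quasiIso hL₁ c₁ hc₁ (α₁ ≪≫ β₁.symm)
  obtain ⟨s₂, hs₂, -⟩ := Groth.Agent.Lib.CechRes.Lift.exists_quasiIso hL₂ c₂ hc₂ (α₂ ≪≫ β₂.symm)
  obtain ⟨γ⟩ := Groth.Agent.Lib.CechRes.PairGlobal.computes_kunneth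
    (IsPullback.of_hasPullback f₁ f₂) hl₁ hl₂ hq₁ hq₂ r₁ r₂ a b
    (fun i hi => hb₁ i (by lia)) hQ₁ (fun i hi => hb₂ i (by lia)) hQ₂ hfl₁ hΦ₁
  haveI := Groth.Agent.Lib.CechRes.TensorQis.quasiIso_tensorHom s₁ s₂
    (fun i => Groth.Agent.Lib.CechRes.Lift.flat_of_projective (hL₁ i))
    (fun i => Groth.Agent.Lib.CechRes.Flat.flat_apSum f₁ hl₁ (r₁.apSum i) (hΦ₁ i))
    a (fun i hi => hc₁ i (by lia)) (fun i hi => (Groth.Agent.Lib.CechRes.Sec.secA f₁ ⊤).map_isZero (hQ₁ i hi))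
    b (fun i hi => hc₂ i (by lia))
  exact ⟨asIso (DerivedCategory.Q.map (HomologicalComplex.tensorHom s₁ s₂)) ≪≫ γ⟩

end Groth.Agent.S3529
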