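import Groth.Statements.S3530
import Groth.Agent.Lib.CechRes.BC
import Groth.Agent.Lib.DR.BaseChange

set_option autoImplicit false
universe u
attribute [local instance] HasDerivedCategory.standard
open HTor

namespace Groth.Agent.S3530

open CategoryTheory CategoryTheory.Limits AlgebraicGeometry in
/-- Cohomology and base change for a complex flat over an affine base, in derived form. Let X be
quasi-compact and separated over Spec A, P a complex of quasi-coherent O_X-modules vanishing in
large degrees with every term flat over Spec A, and A → A′ any ring map; put X′ = X ×_A A′ and let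
P′ be the pulled-back complex on X′. If a complex L of projective A-modules vanishing in large
degrees computes RΓ(X, P) in D(A), then L ⊗_A A′ computes RΓ(X′, P′) in D(A′). No flatness of A′
over A is assumed. The published statement gives a canonical isomorphism; here only the existence of
an isomorphism in D(A′) is asserted. -/
theorem result (A A' : Type u) [CommRing A] [CommRing A'] (φ : A →+* A')
    (X : Scheme.{u}) (f : X ⟶ Spec (CommRingCat.of A)) [QuasiCompact f] [IsSeparated f] [HTor.HasRΓA f]
    [HTor.HasRΓA (pullback.snd f (Spec.map (CommRingCat.ofHom φ)))]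
    (P : CochainComplex X.Modules ℤ) (hq : ∀ i : ℤ, Coh.IsQCoh (P.X i))
    (bP : ∃ b : ℤ, ∀ i : ℤ, b < i → IsZero (P.X i)) (hfl : ∀ i : ℤ, FlatMod.IsFlatOver f (P.X i))
    (L : DRing.Cx A) (hL : ∀ i : ℤ, Projective (L.X i)) (c : ∃ c : ℤ, DRing.VanishesAbove L c)
    (e : HTor.Computes f L (DCoh.toD X P)) :
    HTor.Computes (pullback.snd f (Spec.map (CommRingCat.ofHom φ))) (CohIII.bcCx φ L)
      (DCoh.toD _ ((HTor.pullCx (pullback.fst f (Spec.map (CommRingCat.ofHom φ)))).obj P)) := by
  obtain ⟨b, hb⟩ := bP
  obtain ⟨c, hc⟩ := c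
  obtain ⟨e⟩ := e
  obtain ⟨G, d, hGf, hGz, ⟨eG⟩, ⟨eG'⟩⟩ := Groth.Agent.Lib.CechRes.BC.exists_computes_pair
    (IsPullback.of_hasPullback f (Spec.map (CommRingCat.ofHom φ))) P hq
    (fun i => haveI : (P.X i).IsQuasicoherent := hq i
      Groth.Agent.Lib.CechRes.Flat.secFlat_of_isFlatOver f (P.X i) (hfl i)) b hb
  haveI : L.IsKProjective :=
    haveI : L.IsStrictlyLE c := (L.isStrictlyLE_iff c).2 hc
    haveI := hL
    CochainComplex.isKProjective_of_projective L c
  let α : DerivedCategory.Q.obj L ≅ DerivedCategory.Q.obj G := e ≪≫ eG.symm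
  let q := DerivedCategory.quotientCompQhIso (ModuleCat.{u} A)
  obtain ⟨s', hs'⟩ := (CochainComplex.IsKProjective.Qh_map_bijective L _).2
    ((q.app L).hom ≫ α.hom ≫ (q.app G).inv)
  obtain ⟨s, rfl⟩ := (HomotopyCategory.quotient (ModuleCat.{u} A) (ComplexShape.up ℤ)).map_surjective s'
  have hQs : DerivedCategory.Q.map s = α.hom := by
    have h := q.hom.naturality s
    simp only [Functor.comp_map, hs'] at h
    simpa [q] using h.symm
  haveI : IsIso (DerivedCategory.Q.map s) := by rw [hQs]; infer_instance
  haveI : QuasiIso s := (DerivedCategory.isIso_Q_map_iff_quasiIso _ _).1 inferInstance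
  haveI := Groth.Agent.Lib.DR.BaseChange.isIso_ext_map φ s (max c d)
    (fun i hi => hc i (lt_of_le_of_lt (le_max_left _ _) hi))
    (fun i hi => hGz i (lt_of_le_of_lt (le_max_right _ _) hi))
    (fun i => Groth.Agent.Lib.DR.BaseChange.flat_of_proj _
      (haveI := hL i; (IsProjective.iff_projective _).2 inferInstance)) hGf
  exact ⟨asIso (DerivedCategory.Q.map ((Groth.Agent.Lib.DR.BaseChange.ext φ).map s)) ≪≫ eG'⟩

end Groth.Agent.S3530
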