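import Groth.Statements.S3531
import Groth.Agent.Lib.CechRes.PairGlobal
import Groth.Agent.Lib.CechRes.Lift
import Groth.Agent.Lib.CechRes.Spec
import Groth.Agent.Lib.QCoh.Tilde

set_option autoImplicit false
universe u
attribute [local instance] HasDerivedCategory.standard
open HTor

namespace Groth.Agent.S3531

open CategoryTheory CategoryTheory.Limits AlgebraicGeometry in
/-- (One factor, base Spec A, in derived form.) Let X be quasi-compact and separated over Spec A via f,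
and P a complex of quasi-coherent O_X-modules vanishing in large degrees, with every term flat over
Spec A. If a complex L of projective A-modules vanishing in large degrees computes RΓ(X, P), then
for every complex Q of A-modules vanishing in large degrees, L ⊗_A Q computes RΓ(X, P ⊗_A Q), where
P ⊗_A Q is the total complex of the P^i ⊗_{O_X} f^*(Q^j)~. (The published statement gives a
canonical isomorphism; here only the existence of an isomorphism in D(A) is asserted.) -/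
theorem result (A : Type u) [CommRing A] (X : Scheme.{u})
    (f : X ⟶ Spec (CommRingCat.of A)) [QuasiCompact f] [IsSeparated f] [HTor.HasRΓA f]
    (P : CochainComplex X.Modules ℤ) (hq : ∀ i : ℤ, Coh.IsQCoh (P.X i))
    (bP : ∃ b : ℤ, ∀ i : ℤ, b < i → IsZero (P.X i)) (hfl : ∀ i : ℤ, FlatMod.IsFlatOver f (P.X i))
    (L : DRing.Cx A) (hL : ∀ i : ℤ, Projective (L.X i)) (c : ∃ c : ℤ, DRing.VanishesAbove L c)
    (e : HTor.Computes f L (DCoh.toD X P)) (Q : DRing.Cx A) (bQ : ∃ b : ℤ, DRing.VanishesAbove Q b) :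
    HTor.Computes f (HTor.tensorCx L Q) (DCoh.toD X (HTor.tensorACx f P Q)) := by
  obtain ⟨b₁, hb₁⟩ := bP
  obtain ⟨b₂, hb₂⟩ := bQ
  obtain ⟨c₁, hc₁⟩ := c
  obtain ⟨l₁, hl₁, hcov₁⟩ := Groth.Agent.Lib.CechRes.Cover.exists_list_cover f
  have hfl₁ : ∀ i, Groth.Agent.Lib.CechRes.Flat.SecFlat f (P.X i) := fun i =>
    haveI : (P.X i).IsQuasicoherent := hq i
    Groth.Agent.Lib.CechRes.Flat.secFlat_of_isFlatOver f (P.X i) (hfl i)
  obtain ⟨r₁, hΦ₁, hz₁⟩ := Groth.Agent.Lib.CechRes.Compute.exists_resolution f l₁ hl₁ hcov₁ P hq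
    (Groth.Agent.Lib.CechRes.Flat.SecFlat f) (Groth.Agent.Lib.CechRes.Flat.secFlat_biprod f)
    (Groth.Agent.Lib.CechRes.Flat.secFlat_zero f)
    (fun V hV => Groth.Agent.Lib.CechRes.Flat.secFlat_E f (hl₁ V hV)) hfl₁
  let P₂ := ((tilde.functor (CommRingCat.of A)).mapHomologicalComplex (ComplexShape.up ℤ)).obj Q
  have hq₂ : ∀ i, (P₂.X i).IsQuasicoherent := fun i =>
    Groth.Agent.Lib.QCoh.Tilde.isQCoh_tildeFunctor_obj (R := CommRingCat.of A) (Q.X i)
  let r₂ := Groth.Agent.Lib.CechRes.SpecBase.idResolution P₂ hq₂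
  let a := max (max b₁ c₁) (b₁ + l₁.length)
  have hQ₁ : ∀ i, a < i → IsZero (r₁.Q.X i) := fun i hi => hz₁ i fun j h _ => hb₁ j (by lia)
  have hP₂ : ∀ i, b₂ < i → IsZero (P₂.X i) := fun i hi =>
    (tilde.functor (CommRingCat.of A)).map_isZero (hb₂ i hi)
  let g := 𝟙 (Spec (CommRingCat.of A))
  haveI : HTor.HasRΓA (𝟙 X ≫ f) := by rw [Category.id_comp]; infer_instance
  obtain ⟨γ⟩ := Groth.Agent.Lib.CechRes.PairGlobal.computes_kunneth
    (IsPullback.of_id_fst (f := f) : IsPullback (𝟙 X) f f g) hl₁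
    (S₂ := ({⊤} : Set (Spec (CommRingCat.of A)).Opens))
    (fun V hV => by rw [Set.mem_singleton_iff] at hV; subst hV; exact isAffineOpen_top _)
    hq hq₂ r₁ r₂ a b₂ (fun i hi => hb₁ i (by lia)) hQ₁ hP₂ hP₂ hfl₁ hΦ₁
  let eQ : ((Groth.Agent.Lib.CechRes.Sec.secA g ⊤).mapHomologicalComplex (ComplexShape.up ℤ)).obj P₂ ≅ Q :=
    HomologicalComplex.Hom.isoOfComponents
      (fun i => Groth.Agent.Lib.CechRes.SpecBase.secTildeIso.app (Q.X i))
      (fun i j _ => (Groth.Agent.Lib.CechRes.SpecBase.secTildeIso.hom.naturality (Q.d i j)).symm)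
  let eP : (HTor.pullCx (𝟙 X)).obj P ≅ P :=
    HomologicalComplex.Hom.isoOfComponents
      (fun i => (Scheme.Modules.pullbackId X).app (P.X i))
      (fun i j _ => ((Scheme.Modules.pullbackId X).hom.naturality (P.d i j)).symm)
  let eT : HTor.tensorACx f P Q ≅
      (DCoh.tensorCx.obj ((HTor.pullCx (𝟙 X)).obj P)).obj ((HTor.ofModuleCx f).obj Q) :=
    (DCoh.tensorCx.mapIso eP.symm).app _
  obtain ⟨α⟩ := e
  obtain ⟨β⟩ := r₁.computes f hl₁
  obtain ⟨s, hs, -⟩ := Groth.Agent.Lib.CechRes.Lift.exists_quasiIso hL c₁ hc₁ (α ≪≫ β.symm)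
  haveI := Groth.Agent.Lib.CechRes.TensorQis.quasiIso_tensorHom s eQ.inv
    (fun i => Groth.Agent.Lib.CechRes.Lift.flat_of_projective (hL i))
    (fun i => Groth.Agent.Lib.CechRes.Flat.flat_apSum f hl₁ (r₁.apSum i) (hΦ₁ i))
    a (fun i hi => hc₁ i (by lia)) (fun i hi => (Groth.Agent.Lib.CechRes.Sec.secA f ⊤).map_isZero (hQ₁ i hi))
    b₂ hb₂
  have h : HTor.Computes (𝟙 X ≫ f) (HTor.tensorCx L Q) (DCoh.toD X (HTor.tensorACx f P Q)) :=
    ⟨asIso (DerivedCategory.Q.map (HomologicalComplex.tensorHom s eQ.inv)) ≪≫ γ ≪≫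
      (HTor.RΓA (𝟙 X ≫ f)).mapIso (DerivedCategory.Q.mapIso eT.symm)⟩
  have key : ∀ (f' : X ⟶ Spec (CommRingCat.of A)) (i' : HTor.HasRΓA f'), f' = f →
      @HTor.Computes A _ X f' i' (HTor.tensorCx L Q) (DCoh.toD X (HTor.tensorACx f P Q)) →
      HTor.Computes f (HTor.tensorCx L Q) (DCoh.toD X (HTor.tensorACx f P Q)) := by
    intro f' i' hf h'
    subst hf
    exact h'
  exact key _ _ (Category.id_comp f) h

end Groth.Agent.S3531
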