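import Groth.Statements.S3532
import Groth.Agent.H77.MLUtil


set_option autoImplicit false
universe u
open HomAlg3

namespace Groth.Agent.S3532

open CategoryTheory in
/-- Category of abelian groups, system indexed by the natural numbers: Let (A_k)_{k ≥ 0} be an inverse
system of abelian groups. For p ≤ k write Im_k(A_p) for the image of A_k → A_p, and K_p for the
kernel of A_p → A_{p-1} (K_0 = A_0). Then (A_k) satisfies the Mittag-Leffler condition (for each p
the subgroups Im_k(A_p) are eventually constant in k) if and only if for each p the subgroups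
Im_k(A_p) ∩ K_p are eventually constant in k. -/
theorem result (F : ℕᵒᵖ ⥤ AddCommGrpCat.{u}) :
    (F ⋙ forget AddCommGrpCat).IsMittagLeffler ↔
      ((∃ k₀ : ℕ, ∀ (k : ℕ) (hk : k₀ ≤ k),
          (F.map (homOfLE (Nat.zero_le k)).op).hom.range = (F.map (homOfLE (Nat.zero_le k₀)).op).hom.range) ∧
        ∀ p : ℕ, ∃ k₀ : ℕ, ∃ h₀ : p + 1 ≤ k₀, ∀ (k : ℕ) (hk : k₀ ≤ k),
          (F.map (homOfLE (h₀.trans hk)).op).hom.range ⊓ (F.map (homOfLE (Nat.le_succ p)).op).hom.ker =
            (F.map (homOfLE h₀).op).hom.range ⊓ (F.map (homOfLE (Nat.le_succ p)).op).hom.ker) := by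
  rw [Groth.Agent.Lib.MLSeq.Basic.ml_iff]
  have hmono : ∀ {p k l : ℕ} (hk : p ≤ k) (hl : k ≤ l),
      (Groth.Agent.Lib.MLSeq.Basic.tr F (hk.trans hl)).range ≤ (Groth.Agent.Lib.MLSeq.Basic.tr F hk).range := by
    rintro p k l hk hl _ ⟨x, rfl⟩
    exact ⟨Groth.Agent.Lib.MLSeq.Basic.tr F hl x, Groth.Agent.Lib.MLSeq.Basic.tr_tr hk hl x⟩
  constructor
  · intro h
    constructor
    · obtain ⟨j, hj, hst⟩ := h 0
      refine ⟨j, fun k hk => le_antisymm (hmono (Nat.zero_le j) hk) ?_⟩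
      rintro _ ⟨x, rfl⟩
      exact hst k (Nat.zero_le k) x
    · intro p
      obtain ⟨j, hj, hst⟩ := h (p + 1)
      refine ⟨j, hj, fun k hk => le_antisymm (inf_le_inf_right _ (hmono hj hk)) (inf_le_inf_right _ ?_)⟩
      rintro _ ⟨x, rfl⟩
      exact hst k (hj.trans hk) x
  · rintro ⟨⟨k₀, h0⟩, hK⟩ p
    induction p with
    | zero =>
      refine ⟨k₀, Nat.zero_le _, fun k hk x => ?_⟩
      have h1 := h0 (max k k₀) (le_max_right _ _)
      exact hmono hk (le_max_left k k₀) (h1.ge ⟨x, rfl⟩)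
    | succ p ih =>
      obtain ⟨j, hj, hst⟩ := ih
      obtain ⟨k₁, hk₁, hK'⟩ := hK p
      let n := max j k₁
      have hn1 : p + 1 ≤ n := hk₁.trans (le_max_right _ _)
      refine ⟨n, hn1, fun k hk x => ?_⟩
      let l := max k n
      have hl1 : p + 1 ≤ l := hk.trans (le_max_left _ _)
      obtain ⟨y, hy⟩ := hst l ((Nat.le_succ p).trans hl1)
        (Groth.Agent.Lib.MLSeq.Basic.tr F (le_max_left j k₁) x)
      rw [Groth.Agent.Lib.MLSeq.Basic.tr_tr] at hy
      let d := Groth.Agent.Lib.MLSeq.Basic.tr F hn1 x - Groth.Agent.Lib.MLSeq.Basic.tr F hl1 y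
      have hd0 : Groth.Agent.Lib.MLSeq.Basic.tr F (Nat.le_succ p) d = 0 := by
        simp only [d, map_sub, Groth.Agent.Lib.MLSeq.Basic.tr_tr]
        rw [hy, sub_self]
      have hd1 : d ∈ (Groth.Agent.Lib.MLSeq.Basic.tr F hk₁).range :=
        sub_mem (hmono hk₁ (le_max_right j k₁) ⟨x, rfl⟩)
          (hmono hk₁ ((le_max_right j k₁).trans (le_max_right k n)) ⟨y, rfl⟩)
      have hd2 : d ∈ (Groth.Agent.Lib.MLSeq.Basic.tr F hl1).range :=
        (AddSubgroup.mem_inf.1 ((hK' l ((le_max_right j k₁).trans (le_max_right k n))).ge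
          (AddSubgroup.mem_inf.2 ⟨hd1, hd0⟩))).1
      have hx := add_mem hd2 (⟨y, rfl⟩ : Groth.Agent.Lib.MLSeq.Basic.tr F hl1 y ∈
        (Groth.Agent.Lib.MLSeq.Basic.tr F hl1).range)
      simp only [d, sub_add_cancel] at hx
      exact hmono hk (le_max_left k n) hx

end Groth.Agent.S3532
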