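import Groth.Statements.S3533
import Groth.Agent.Lib.LocalTor.Main

set_option autoImplicit false
universe u
attribute [local instance] HasDerivedCategory.standard
open HTor

namespace Groth.Agent.S3533

open CategoryTheory CategoryTheory.Limits AlgebraicGeometry in
/-- Let f : X ⟶ S be a flat morphism with X locally Noetherian, g : Y ⟶ S a morphism, and suppose Z = X
×_S Y is locally Noetherian. As X is flat over S, the local hypertor sheaves Tor_n^S(F, G) on Z are
taken to be the cohomology sheaves in degree −n of L pr₁^* F ⊗^L pr₂^* G, where pr₂^* G is the plain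
pullback of G viewed as a complex in degree 0 and the derived pullback L pr₁^* and the derived
tensor product are taken under their existence binders; the statement is made in that form. Then for
F a coherent O_X-module and G a coherent O_Y-module, every cohomology sheaf of L pr₁^* F ⊗^L pr₂^* G
is a coherent O_Z-module. -/
theorem result (X Y S : Scheme.{u}) (f : X ⟶ S) (g : Y ⟶ S) [Flat f]
    [IsLocallyNoetherian X] [IsLocallyNoetherian (pullback f g)] (F : X.Modules) (G : Y.Modules)
    (hF : Coh.IsCoh F) (hG : Coh.IsCoh G) [DCoh.HasLpull (pullback.fst f g)]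
    [DCoh.HasLTensorCx ((HTor.pullCx (pullback.snd f g)).obj
      ((HomologicalComplex.single Y.Modules (ComplexShape.up ℤ) 0).obj G))] (n : ℤ) :
    Coh.IsCoh (DCoh.HD ((DCoh.LTensorCx ((HTor.pullCx (pullback.snd f g)).obj
      ((HomologicalComplex.single Y.Modules (ComplexShape.up ℤ) 0).obj G))).obj
        ((DCoh.Lpull (pullback.fst f g)).obj (DCoh.inD X F))) n) := by
  have key : ∀ {W : Scheme.{u}} (M : W.Modules), Coh.IsCoh M →
      DCoh.IsCohD (DCoh.toD W ((HomologicalComplex.single W.Modules (ComplexShape.up ℤ) 0).obj M)) := by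
    intro W M hM i
    refine Groth.Agent.Lib.CohBasics.Closure.isCoh_of_iso
      ((DerivedCategory.homologyFunctorFactors W.Modules i).app _).symm ?_
    by_cases h : i = 0
    · subst h
      exact Groth.Agent.Lib.CohBasics.Closure.isCoh_of_iso
        (HomologicalComplex.singleObjHomologySelfIso (ComplexShape.up ℤ) 0 M).symm hM
    · refine Groth.Agent.Lib.CohBasics.Closure.isCoh_of_iso ?_
        (Groth.Agent.Lib.CohBasics.Closure.isCoh_cokernel (𝟙 M) hM.1 hM)
      exact (Limits.isZero_cokernel_of_epi (𝟙 M)).iso
        ((HomologicalComplex.exactAt_iff_isZero_homology _ _).1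
          (HomologicalComplex.exactAt_single_obj _ _ _ i h))
  have hz : ∀ {W : Scheme.{u}} (M : W.Modules) (i : ℤ), 0 < i →
      IsZero (((HomologicalComplex.single W.Modules (ComplexShape.up ℤ) 0).obj M).X i) :=
    fun M i hi => HomologicalComplex.isZero_single_obj_X _ _ _ _ (by omega)
  let P := (HomologicalComplex.single X.Modules (ComplexShape.up ℤ) 0).obj F
  let e : DCoh.toD X P ≅ DCoh.inD X F :=
    ((DerivedCategory.singleFunctorIsoCompQ X.Modules 0).app F).symm
  refine Groth.Agent.Lib.CohBasics.Closure.isCoh_of_iso ?_
    (Groth.Agent.Lib.LocalTor.Main.isCohD_main (pullback.fst f g) (pullback.snd f g) P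
      ((HomologicalComplex.single Y.Modules (ComplexShape.up ℤ) 0).obj G) 0 0 (hz F) (hz G)
      (key F hF) (key G hG) n)
  exact (DerivedCategory.homologyFunctor _ n).mapIso
    ((DCoh.LTensorCx _).mapIso ((DCoh.Lpull (pullback.fst f g)).mapIso e))

end Groth.Agent.S3533
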