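import Groth.Statements.S3538
import Groth.Agent.Lib.PullHom77.Main
import Groth.Agent.Lib.SchColim29.CohPush
import Groth.Agent.Lib.DerivedOX.KFlatPullback


set_option autoImplicit false
set_option linter.style.haveILetI false
universe u
attribute [local instance] HasDerivedCategory.standard
open HomAlg3

namespace Groth.Agent.S3538

open Groth.Agent.Lib Groth.Agent.Lib.DerivedOX

open CategoryTheory CategoryTheory.Limits AlgebraicGeometry in
/-- Let f : X ⟶ Y be a flat morphism of schemes with Y locally Noetherian, F a coherent O_Y-module and G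
any O_Y-module. Then for every p the O_X-modules f^* Ext^p_{O_Y}(F, G) and Ext^p_{O_X}(f^* F, f^* G)
are isomorphic. Here Ext^p(F, G) is the p-th cohomology sheaf of RHom(F, G), the internal hom of the
derived category, taken under instance hypotheses asserting its existence. (Only the existence of an
isomorphism is asserted; the published statement is stronger: the canonical comparison maps are
isomorphisms.) -/
theorem result (X Y : Scheme.{u}) (f : X ⟶ Y) [Flat f] [IsLocallyNoetherian Y]
    (F G : Y.Modules) (hF : Coh.IsCoh F)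
    [DCoh.HasLTensorCx ((HomologicalComplex.single Y.Modules (ComplexShape.up ℤ) 0).obj F)]
    [DCoh.HasRSheafHom ((HomologicalComplex.single Y.Modules (ComplexShape.up ℤ) 0).obj F)]
    [DCoh.HasLTensorCx ((HomologicalComplex.single X.Modules (ComplexShape.up ℤ) 0).obj ((Scheme.Modules.pullback f).obj F))]
    [DCoh.HasRSheafHom ((HomologicalComplex.single X.Modules (ComplexShape.up ℤ) 0).obj ((Scheme.Modules.pullback f).obj F))]
    (p : ℤ) :
    Nonempty ((Scheme.Modules.pullback f).obj
        (DCoh.HD ((DCoh.RSheafHom ((HomologicalComplex.single Y.Modules (ComplexShape.up ℤ) 0).obj F)).obj (DCoh.inD Y G)) p) ≅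
      DCoh.HD ((DCoh.RSheafHom ((HomologicalComplex.single X.Modules (ComplexShape.up ℤ) 0).obj
        ((Scheme.Modules.pullback f).obj F))).obj (DCoh.inD X ((Scheme.Modules.pullback f).obj G))) p) := by
  obtain ⟨I, g, hg, hI, hIge⟩ := CochainComplex.Plus.modelCategoryQuillen.exists_quasiIso_injective
    ((HomologicalComplex.single Y.Modules (ComplexShape.up ℤ) 0).obj G) 0
  haveI := hg
  haveI := hIge
  haveI : I.IsKInjective := SpecSeq.AcyclicComplex.isKInjective_of_isStrictlyGE I 0 hI
  haveI := CohDelta.BC.Flat.preservesFiniteLimits_pullback f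
  haveI : PreservesColimitsOfSize.{u, u} (Scheme.Modules.pullback f) :=
    (Scheme.Modules.pullbackPushforwardAdjunction f).leftAdjoint_preservesColimits
  haveI : PreservesFiniteColimits (Scheme.Modules.pullback f) :=
    PreservesColimitsOfSize.preservesFiniteColimits _
  haveI : ((PullTranspose.pullC f).obj I).IsStrictlyGE 0 :=
    (CochainComplex.isStrictlyGE_iff _ _).2 fun j hj =>
      (Scheme.Modules.pullback f).map_isZero (I.isZero_of_isStrictlyGE 0 j hj)
  obtain ⟨J, i, hi, hJ, hJge⟩ := CochainComplex.Plus.modelCategoryQuillen.exists_quasiIso_injective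
    ((PullTranspose.pullC f).obj I) 0
  haveI := hi
  haveI := hJge
  haveI : J.IsKInjective := SpecSeq.AcyclicComplex.isKInjective_of_isStrictlyGE J 0 hJ
  let K := (HomologicalComplex.single Y.Modules (ComplexShape.up ℤ) 0).obj F
  let P := (KFlat.res Y).obj K
  let r : P ⟶ K := (KFlat.aug Y).app K
  haveI : QuasiIso r := KFlat.quasiIso_aug K
  have hK : ∀ n, n ≠ 0 → IsZero (P.homology n) := fun n hn =>
    ((K.exactAt_iff_isZero_homology n).1 (HomologicalComplex.exactAt_single_obj _ 0 F n hn)).of_iso
      (asIso (HomologicalComplex.homologyMap r n))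
  haveI : P.IsLE 0 := (CochainComplex.isLE_iff _ _).2 fun n hn =>
    (HomologicalComplex.exactAt_iff_isZero_homology _ n).2 (hK n (by omega))
  have hP : ∀ n, Coh.IsCoh (P.homology n) := fun n => by
    by_cases hn : n = 0
    · subst hn
      exact CohBasics.Closure.isCoh_of_iso ((asIso (HomologicalComplex.homologyMap r 0)) ≪≫
        HomologicalComplex.singleObjHomologySelfIso (ComplexShape.up ℤ) 0 F).symm hF
    · exact SchColim29.CohPush.isCoh_of_isZero (hK n hn)
  haveI := PullHom77.quasiIso_θ f i hI hJ 0 P 0 hP
  obtain ⟨e₁⟩ := DualCompare.nonempty_RSheafHom_iso (K := K) (KFlat.isKFlat_res K) r (J := I) hI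
  let sF := (HomologicalComplex.singleMapHomologicalComplex (Scheme.Modules.pullback f)
    (ComplexShape.up ℤ) 0).app F
  let sG := (HomologicalComplex.singleMapHomologicalComplex (Scheme.Modules.pullback f)
    (ComplexShape.up ℤ) 0).app G
  haveI : QuasiIso ((PullTranspose.pullC f).map r) := inferInstance
  haveI : QuasiIso ((PullTranspose.pullC f).map g) := inferInstance
  obtain ⟨e₂⟩ := DualCompare.nonempty_RSheafHom_iso
    (K := (HomologicalComplex.single X.Modules (ComplexShape.up ℤ) 0).obj
      ((Scheme.Modules.pullback f).obj F))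
    (KFlatPullback.isKFlat_pullback f (KFlat.isKFlat_res K))
    ((PullTranspose.pullC f).map r ≫ sF.hom) (J := J) hJ
  let cG := (DerivedCategory.singleFunctorIsoCompQ Y.Modules 0).app G
  let cG' := (DerivedCategory.singleFunctorIsoCompQ X.Modules 0).app
    ((Scheme.Modules.pullback f).obj G)
  haveI : IsIso (DerivedCategory.Q.map g) := (DerivedCategory.isIso_Q_map_iff_quasiIso _ _).2 hg
  haveI : IsIso (DerivedCategory.Q.map i) := (DerivedCategory.isIso_Q_map_iff_quasiIso _ _).2 hi
  haveI : IsIso (DerivedCategory.Q.map ((PullTranspose.pullC f).map g)) :=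
    (DerivedCategory.isIso_Q_map_iff_quasiIso _ _).2 inferInstance
  let eI : DCoh.inD Y G ≅ DerivedCategory.Q.obj I := cG ≪≫ (asIso (DerivedCategory.Q.map g) :)
  let eJ : DCoh.inD X ((Scheme.Modules.pullback f).obj G) ≅ DerivedCategory.Q.obj J :=
    cG' ≪≫ DerivedCategory.Q.mapIso sG.symm ≪≫
      (asIso (DerivedCategory.Q.map ((PullTranspose.pullC f).map g)) :) ≪≫
      asIso (DerivedCategory.Q.map i)
  let H := DerivedCategory.homologyFunctor Y.Modules p
  let H' := DerivedCategory.homologyFunctor X.Modules p
  let u : (Scheme.Modules.pullback f).obj (((DualHom.Hc P).obj I).homology p) ≅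
      ((PullTranspose.pullC f).obj ((DualHom.Hc P).obj I)).homology p :=
    ((((DualHom.Hc P).obj I).sc p).mapHomologyIso (Scheme.Modules.pullback f)).symm
  exact ⟨(Scheme.Modules.pullback f).mapIso (H.mapIso ((DCoh.RSheafHom K).mapIso eI ≪≫ e₁.symm) ≪≫
      (DerivedCategory.homologyFunctorFactors Y.Modules p).app _) ≪≫ u ≪≫
    asIso (HomologicalComplex.homologyMap (PullHom77.θ f i P) p) ≪≫
    ((DerivedCategory.homologyFunctorFactors X.Modules p).app _).symm ≪≫
    H'.mapIso (e₂ ≪≫ ((DCoh.RSheafHom _).mapIso eJ).symm)⟩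

end Groth.Agent.S3538
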