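import Groth.Statements.S3541
import Groth.Agent.Lib.CechRes.Cover
import Groth.Agent.Lib.DR.Representative
import Mathlib.Algebra.Homology.Embedding.CochainComplex
import Mathlib.CategoryTheory.Abelian.Projective.Dimension

set_option autoImplicit false
universe u
attribute [local instance] HasDerivedCategory.standard
open HTor

namespace Groth.Agent.S3541

open CategoryTheory CategoryTheory.Limits AlgebraicGeometry HomologicalComplex in
/-- A bounded above complex of projectives, exact below `a`, can be truncated at `a - d`. -/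
theorem exists_projective_truncation (A : Type u) [CommRing A] (d : ℕ)
    (hA : ∀ M : ModuleCat.{u} A, HasProjectiveDimensionLT M (d + 1)) (a b : ℤ) (N : ℕ)
    (E : DRing.Cx A) (hE : ∀ i, b + N < i → IsZero (E.X i))
    (hproj : ∀ i, Module.Projective A (E.X i)) (hex : ∀ q : ℤ, q < a → E.ExactAt q)
    {X : Scheme.{u}} (f : X ⟶ Spec (CommRingCat.of A)) [HTor.HasRΓA f] (K : DCoh.D X)
    (e : HTor.Computes f E K) :
    ∃ L : DRing.Cx A, (∀ i : ℤ, Module.Projective A (L.X i)) ∧
      DRing.VanishesOutside L (a - d) (b + N) ∧ HTor.Computes f L K := by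
  have hP : ∀ i, Projective (E.X i) := fun i => by
    haveI := hproj i
    exact Groth.Agent.Lib.DR.PseudoCoherent.projective_of_proj _ (hproj i)
  have key : ∀ k : ℕ, k ≤ d → HasProjectiveDimensionLT (E.opcycles (a - k)) (d + 1 - k) := by
    intro k
    induction k with
    | zero => exact fun _ => hA _
    | succ k ih =>
      intro hk
      have h3 := ih (by lia)
      obtain ⟨q, hq⟩ : ∃ q, q = a - ((k + 1 : ℕ) : ℤ) := ⟨_, rfl⟩
      obtain ⟨q', hq'⟩ : ∃ q', q' = a - (k : ℤ) := ⟨_, rfl⟩
      rw [← hq]
      rw [← hq'] at h3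
      have hqq : q + 1 = q' := by subst hq hq'; push_cast; ring
      haveI : Mono (E.fromOpcycles q q') := by
        refine Preadditive.mono_of_isZero_kernel _ ?_
        exact (hex q (by subst hq; push_cast; lia)).isZero_homology.of_iso
          (IsLimit.conePointUniqueUpToIso (kernelIsKernel _)
            (E.homologyIsKernel q q' (by rw [CochainComplex.next]; exact hqq)))
      let S : ShortComplex (ModuleCat.{u} A) :=
        ShortComplex.mk (E.fromOpcycles q q') (E.pOpcycles q') (by
          rw [← cancel_epi (E.pOpcycles q), p_fromOpcycles_assoc, d_pOpcycles, comp_zero])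
      have hS : S.ShortExact := ShortComplex.ShortExact.mk' (ShortComplex.exact_of_g_is_cokernel _
        (CokernelCofork.IsColimit.ofπ' _ _ (fun {Z} g hg =>
          ⟨E.descOpcycles g q (by rw [CochainComplex.prev]; lia)
            (by rw [← p_fromOpcycles E q q', Category.assoc]; erw [hg]; simp), by simp [S]⟩)))
        inferInstance inferInstance
      haveI : Projective S.X₂ := hP q'
      obtain ⟨m, hm⟩ : ∃ m, d + 1 - (k + 1) = m + 1 := ⟨d - k - 1, by lia⟩
      rw [hm]
      rw [show d + 1 - k = m + 2 by lia] at h3
      exact (hS.hasProjectiveDimensionLT_X₃_iff m (hP q')).1 h3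
  have h0 : Projective (E.opcycles (a - d)) := by
    rw [projective_iff_hasProjectiveDimensionLT_one]
    have h := key d le_rfl
    rwa [show d + 1 - d = 1 by lia] at h
  haveI : E.IsGE (a - d) := (CochainComplex.isGE_iff _ _).2 fun i hi => hex i (by lia)
  obtain ⟨e⟩ := e
  refine ⟨E.truncGE (a - d), fun i => ?_, fun i hi => ?_,
    ⟨(asIso (DerivedCategory.Q.map (E.πTruncGE (a - d)))).symm ≪≫ e⟩⟩
  · rcases lt_trichotomy (a - d) i with h | h | h
    · haveI := hproj i
      exact Module.Projective.of_equiv (E.truncGEXIso (a - d) i h).toLinearEquiv.symm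
    · subst h
      haveI : Projective ((E.truncGE (a - d)).X (a - d)) :=
        Projective.of_iso (E.truncGEXIsoOpcycles (a - d)).symm h0
      exact (IsProjective.iff_projective _).2 inferInstance
    · haveI : Subsingleton ((E.truncGE (a - d)).X i) := ModuleCat.subsingleton_of_isZero
        (CochainComplex.isZero_of_isStrictlyGE _ (a - d) i h)
      infer_instance
  · rcases hi with hi | hi
    · exact CochainComplex.isZero_of_isStrictlyGE _ (a - d) i hi
    · rcases lt_trichotomy (a - d) i with h | h | h
      · exact (hE i hi).of_iso (E.truncGEXIso (a - d) i h)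
      · subst h
        refine IsZero.of_iso ?_ (E.truncGEXIsoOpcycles (a - d))
        exact IsZero.of_epi (E.pOpcycles (a - d)) (hE _ hi)
      · exact CochainComplex.isZero_of_isStrictlyGE _ (a - d) i h

open CategoryTheory CategoryTheory.Limits AlgebraicGeometry in
/-- Let A be a ring all of whose modules have projective dimension ≤ d, X a scheme with a quasi-compact
separated morphism f : X → Spec A, covered by N + 1 affine opens, and P a complex of quasi-coherent
O_X-modules with P^k = 0 unless a ≤ k ≤ b. Then RΓ(X, P) ∈ D(A) is represented by a complex L of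
projective A-modules with L^k = 0 unless a - d ≤ k ≤ b + N. (The published statement gives a
canonical isomorphism, in a more general relative setting with several factors; here only one factor
over the base Spec A is treated and only the existence of an isomorphism in D(A) is asserted.) -/
theorem result (A : Type u) [CommRing A] (d : ℕ)
    (hA : ∀ M : ModuleCat.{u} A, HasProjectiveDimensionLT M (d + 1)) (X : Scheme.{u})
    (f : X ⟶ Spec (CommRingCat.of A)) [QuasiCompact f] [IsSeparated f] [HTor.HasRΓA f]
    (N : ℕ) (U : Fin (N + 1) → X.Opens) (hU : ∀ i, IsAffineOpen (U i)) (hcov : ⨆ i, U i = ⊤)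
    (P : CochainComplex X.Modules ℤ) (hq : ∀ i : ℤ, Coh.IsQCoh (P.X i)) (a b : ℤ)
    (hab : ∀ i : ℤ, i < a ∨ b < i → IsZero (P.X i)) :
    ∃ L : DRing.Cx A, (∀ i : ℤ, Module.Projective A (L.X i)) ∧ DRing.VanishesOutside L (a - d) (b + N) ∧
      HTor.Computes f L (DCoh.toD X P) := by
  obtain ⟨G, ⟨e⟩, hG⟩ := Groth.Agent.Lib.CechRes.Cover.exists_computes f N U hU hcov P hq
  have hG' : ∀ i : ℤ, b + N < i → IsZero (G.X i) := fun i hi =>
    hG i fun j h _ => hab j (Or.inr (by lia))
  have hGlow : ∀ i : ℤ, i < a → IsZero (G.X i) := fun i hi =>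
    hG i fun j _ h => hab j (Or.inl (by lia))
  obtain ⟨E, hE, hproj, ⟨e'⟩⟩ := Groth.Agent.Lib.DR.Representative.ba_proj
    (Groth.Agent.Lib.DR.Basic.isLE_Q_of_isZero G (b + N) hG')
  have hex : ∀ q : ℤ, q < a → E.ExactAt q := fun q hq' => by
    rw [HomologicalComplex.exactAt_iff_isZero_homology]
    refine IsZero.of_iso ?_ (((DerivedCategory.homologyFunctorFactors (ModuleCat.{u} A) q).app E).symm ≪≫
      (DerivedCategory.homologyFunctor (ModuleCat.{u} A) q).mapIso e' ≪≫
      (DerivedCategory.homologyFunctorFactors (ModuleCat.{u} A) q).app G)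
    exact (HomologicalComplex.ExactAt.of_isZero (hGlow q hq')).isZero_homology
  exact exists_projective_truncation A d hA a b N E hE hproj hex f _ ⟨e' ≪≫ e⟩

end Groth.Agent.S3541
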