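import Groth.Statements.S3543
import Groth.Agent.Lib.DerivedOX.Kunneth
import Groth.Agent.S1118
-- import your own Groth.Agent.* helpers here

set_option autoImplicit false
universe u
attribute [local instance] HasDerivedCategory.standard
open HTor
set_option maxHeartbeats 1000000
set_option linter.style.haveILetI false

namespace Groth.Agent.S3543

open Groth.Agent.Lib.DerivedOX PullTranspose

open CategoryTheory CategoryTheory.Limits AlgebraicGeometry in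
/-- Künneth formula over an arbitrary base scheme S, in derived form: let f₁ : X₁ ⟶ S and f₂ : X₂ ⟶ S be
quasi-compact and separated, P₁ and P₂ complexes of quasi-coherent modules on X₁ and X₂ vanishing in
large degrees, with every term of P₁ flat over S, and f : X₁ ×_S X₂ ⟶ S the structure morphism. Let
E₂ be any complex of O_S-modules representing Rf₂_* P₂. Then, the derived functors involved being
taken under their existence binders, Rf_*(pr₁^* P₁ ⊗ pr₂^* P₂) and Rf₁_* P₁ ⊗^L E₂ are isomorphic in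
D(O_S): the global hypertor of P₁ and P₂ over S is the hypercohomology of their external tensor
product. (The published statement gives a canonical isomorphism of bi-∂-functors; only the existence
of an isomorphism is asserted here. It is also more general, with X₁ and X₂ over intermediate bases
Y⁽¹⁾ and Y⁽²⁾ over S; this is its case Y⁽¹⁾ = Y⁽²⁾ = S.) -/
theorem result {X₁ X₂ S : Scheme.{u}} (f₁ : X₁ ⟶ S) (f₂ : X₂ ⟶ S)
    [QuasiCompact f₁] [IsSeparated f₁] [QuasiCompact f₂] [IsSeparated f₂]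
    [DCoh.HasRpush f₁] [DCoh.HasRpush f₂] [DCoh.HasRpush (pullback.fst f₁ f₂ ≫ f₁)]
    (P₁ : CochainComplex X₁.Modules ℤ) (P₂ : CochainComplex X₂.Modules ℤ)
    (hq₁ : ∀ i : ℤ, Coh.IsQCoh (P₁.X i)) (hq₂ : ∀ i : ℤ, Coh.IsQCoh (P₂.X i))
    (b₁ : ∃ b : ℤ, ∀ i : ℤ, b < i → IsZero (P₁.X i)) (b₂ : ∃ b : ℤ, ∀ i : ℤ, b < i → IsZero (P₂.X i))
    (hfl : ∀ i : ℤ, FlatMod.IsFlatOver f₁ (P₁.X i))
    (E₂ : CochainComplex S.Modules ℤ) (hE₂ : Nonempty (DCoh.toD S E₂ ≅ (DCoh.Rpush f₂).obj (DCoh.toD X₂ P₂)))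
    [DCoh.HasLTensorCx E₂] :
    Nonempty ((DCoh.Rpush (pullback.fst f₁ f₂ ≫ f₁)).obj (DCoh.toD _ (HTor.extTensorCx f₁ f₂ P₁ P₂)) ≅
      (DCoh.LTensorCx E₂).obj ((DCoh.Rpush f₁).obj (DCoh.toD X₁ P₁))) := by
  obtain ⟨b, hb⟩ := b₁
  obtain ⟨eE⟩ := hE₂
  let p := pullback.fst f₁ f₂
  let q := pullback.snd f₁ f₂
  have hsq : IsPullback p q f₁ f₂ := IsPullback.of_hasPullback f₁ f₂
  letI : DCoh.HasRpush q := Exists.hasRpush q
  letI : DCoh.HasRpush (q ≫ f₂) := Exists.hasRpush _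
  letI : DCoh.HasLpull q := LeftExists.hasLpull q
  letI : DCoh.HasLpull p := LeftExists.hasLpull p
  letI : DCoh.HasLpull f₁ := LeftExists.hasLpull f₁
  letI : DCoh.HasLpull f₂ := LeftExists.hasLpull f₂
  haveI : QuasiCompact q := MorphismProperty.of_isPullback hsq inferInstance
  haveI : QuasiSeparated q := MorphismProperty.of_isPullback hsq inferInstance
  let A := (pullC p).obj P₁
  have hqA : ∀ i, Coh.IsQCoh (A.X i) := fun i =>
    haveI := hq₁ i
    Groth.Agent.Lib.QCoh.Pullback.isQCoh_pullback p (P₁.X i)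
  have hAflat : ∀ i, FlatMod.IsFlatOver q (A.X i) := fun i x =>
    Groth.Agent.Lib.Flat55.FlatOverAt.isFlatOverAt_baseChange (hc := hsq) (x' := x)
      (h := hfl i (p x))
  have hAK := Kunneth.isKFlat_stalkOver q b
    (fun i hi => Functor.map_isZero (Scheme.Modules.pullback p) (hb i hi)) hAflat
  -- `p^*P₁ ⊗ q^*P₂` is the derived tensor product
  let R := (KFlat.res X₂).obj P₂
  let r : R ⟶ P₂ := (KFlat.aug X₂).app P₂
  haveI : QuasiIso r := KFlat.quasiIso_aug P₂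
  let M := (pullC q).obj R
  letI : DCoh.HasLTensorCx M := LeftExists.hasLTensorCx M
  letI : DCoh.HasLTensorCx P₂ := LeftExists.hasLTensorCx P₂
  have hMk : DCoh.IsKFlat M := KFlatPullback.isKFlat_pullback q (KFlat.isKFlat_res P₂)
  haveI := PullTranspose.isIso_counitCx q (KFlat.isKFlat_res P₂)
  have hM : Nonempty (DCoh.toD _ M ≅ (DCoh.Lpull q).obj (DCoh.toD X₂ P₂)) :=
    ⟨(asIso ((counitCx q).app R)).symm ≪≫
      (DCoh.Lpull q).mapIso (asIso (DerivedCategory.Q.map r))⟩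
  haveI := Kunneth.quasiIso_tensor_pullC q hAK r
  obtain ⟨a⟩ := Groth.Agent.Lib.BettiExact.LTensorTri.nonempty_iso_tensorCxQ M (𝟙 M) hMk
  let eT : DCoh.toD _ (HTor.extTensorCx f₁ f₂ P₁ P₂) ≅ (DCoh.LTensorCx M).obj (DCoh.toD _ A) :=
    (asIso (DerivedCategory.Q.map ((DCoh.tensorCx.obj A).map ((pullC q).map r)))).symm ≪≫
      (a.app A).symm
  -- base change along `f₂`
  have hψ : IsIso ((BCCube.ψ f₁ f₂ q p hsq.w).app P₁) :=
    BCMain.isIso_ψ hsq P₁ (Kunneth.isQCohD_of_terms hq₁) (Kunneth.isQCohD_of_terms hqA)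
      (Kunneth.loc_of_flat f₁ f₂ P₁ hq₁ b hb hfl)
  haveI := hψ
  let eψ : (DCoh.Lpull f₂).obj ((DCoh.Rpush f₁).obj (DCoh.toD X₁ P₁)) ≅
      (DCoh.Rpush q).obj (DCoh.toD _ A) := asIso ((BCCube.ψ f₁ f₂ q p hsq.w).app P₁)
  let B := (DCoh.Rpush f₁).obj (DCoh.toD X₁ P₁)
  let K := DerivedCategory.Q.objPreimage B
  let eK : DCoh.toD S K ≅ B := DerivedCategory.Q.objObjPreimageIso B
  let M₂ := DerivedCategory.Q.objPreimage ((DCoh.Lpull f₂).obj (DCoh.toD S K))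
  let eM₂ : DCoh.toD X₂ M₂ ≅ (DCoh.Lpull f₂).obj (DCoh.toD S K) :=
    DerivedCategory.Q.objObjPreimageIso _
  letI : DCoh.HasLTensorCx K := LeftExists.hasLTensorCx K
  letI : DCoh.HasLTensorCx M₂ := LeftExists.hasLTensorCx M₂
  have hB : DCoh.IsQCohD B := RpushQCoh.isQCohD_Rpush f₁ _ (Kunneth.isQCohD_of_terms hq₁)
  have hKq : DCoh.IsQCohD (DCoh.toD S K) := fun i =>
    (Groth.Agent.Lib.WayOut.Scheme.qc S).prop_of_iso
      ((DerivedCategory.homologyFunctor _ i).mapIso eK).symm (hB i)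
  obtain ⟨pq⟩ := Groth.Agent.S1118.result q (DCoh.toD _ A) (Kunneth.isQCohD_of_terms hqA) P₂
    (Kunneth.isQCohD_of_terms hq₂) M hM
  obtain ⟨pf⟩ := Groth.Agent.S1118.result f₂ (DCoh.toD X₂ P₂) (Kunneth.isQCohD_of_terms hq₂) K hKq
    M₂ ⟨eM₂⟩
  obtain ⟨s₂⟩ := Kunneth.nonempty_symm P₂ M₂
  obtain ⟨sS⟩ := Kunneth.nonempty_symm K E₂
  obtain ⟨c⟩ := FMTools.nonempty_rpushCongr (pullback.condition : p ≫ f₁ = q ≫ f₂)
  exact ⟨c.app _ ≪≫ ((PullComp.rpushCompIso q f₂).app _).symm ≪≫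
    (DCoh.Rpush f₂).mapIso ((DCoh.Rpush q).mapIso eT ≪≫ pq.symm ≪≫
      (DCoh.LTensorCx P₂).mapIso (eψ.symm ≪≫ (DCoh.Lpull f₂).mapIso eK.symm ≪≫ eM₂.symm) ≪≫ s₂) ≪≫
    pf.symm ≪≫ (DCoh.LTensorCx K).mapIso eE.symm ≪≫ sS ≪≫ (DCoh.LTensorCx E₂).mapIso eK⟩

end Groth.Agent.S3543
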