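import Groth.Statements.S3553
import Groth.Agent.Lib.ProjGlue.Reduced
-- import your own Groth.Agent.* helpers here

set_option autoImplicit false
universe u
open CategoryTheory CategoryTheory.Limits AlgebraicGeometry
open EGA2

namespace Groth.Agent.S3553

/-- In the case where the induced morphism is defined on all of Proj S: let φ : S' → S be a homomorphism
of graded rings such that S_+ is contained in the ideal generated by φ(S'_+), and suppose every
element of the kernel of φ is nilpotent. Then the induced morphism from Proj S to Proj S' has dense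
image. -/
theorem result {R A : Type u} [CommRing R] [CommRing A] [Algebra R A] (𝒜 : ℕ → Submodule R A) [GradedAlgebra 𝒜]
    {B : Type u} [CommRing B] [Algebra R B] (ℬ : ℕ → Submodule R B) [GradedAlgebra ℬ]
    (φ : 𝒜 →+*ᵍ ℬ) (hφ : HomogeneousIdeal.irrelevant ℬ ≤ (HomogeneousIdeal.irrelevant 𝒜).map φ)
    (hker : ∀ a : A, φ a = 0 → IsNilpotent a) :
    DenseRange (Proj.map φ hφ).base := by
  rw [DenseRange, dense_iff_inter_open]
  rintro U hU ⟨x, hx⟩
  obtain ⟨_, ⟨_, ⟨a, rfl⟩, rfl⟩, hxa, haU⟩ := (Proj.isBasis_basicOpen 𝒜).exists_subset_of_mem_open hx hU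
  have hxa' : x ∈ Proj.basicOpen 𝒜 a := hxa
  rw [Proj.basicOpen_eq_iSup_proj] at hxa'
  obtain ⟨j, hj⟩ := TopologicalSpace.Opens.mem_iSup.1 hxa'
  obtain ⟨⟨d, c, hd, hc⟩, hxc⟩ := TopologicalSpace.Opens.mem_iSup.1
    ((Groth.Agent.Lib.ProjGlue.MapLocal.iSup_basicOpen_pos (𝒜 := 𝒜)).ge (TopologicalSpace.Opens.mem_top x))
  have he : GradedRing.proj 𝒜 j a * c ∈ 𝒜 (j + d) :=
    SetLike.mul_mem_graded (by rw [GradedRing.proj_apply]; exact SetLike.coe_mem _) hc
  have hx' : x ∈ Proj.basicOpen 𝒜 (GradedRing.proj 𝒜 j a * c) := by rw [Proj.basicOpen_mul]; exact ⟨hj, hxc⟩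
  by_cases hbot : Proj.basicOpen ℬ (φ (GradedRing.proj 𝒜 j a * c)) = ⊥
  · exfalso
    obtain ⟨k, hk⟩ := (Groth.Agent.Lib.ProjGlue.Reduced.basicOpen_eq_bot_iff (by omega) (φ.map_mem he)).1 hbot
    rw [← map_pow] at hk
    exact ((Groth.Agent.Lib.ProjGlue.Reduced.basicOpen_eq_bot_iff (by omega) he).2 (hker _ hk).of_pow).le hx'
  · obtain ⟨y, hy⟩ : ∃ y, y ∈ Proj.basicOpen ℬ (φ (GradedRing.proj 𝒜 j a * c)) := by
      by_contra hno
      exact hbot (eq_bot_iff.2 fun y hy => (hno ⟨y, hy⟩).elim)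
    rw [← Proj.map_preimage_basicOpen φ hφ, Proj.basicOpen_mul] at hy
    refine ⟨(Proj.map φ hφ).base y, haU ?_, ⟨y, rfl⟩⟩
    rw [SetLike.mem_coe, Proj.basicOpen_eq_iSup_proj]
    exact TopologicalSpace.Opens.mem_iSup.2 ⟨j, hy.1⟩

end Groth.Agent.S3553
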