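import Groth.Statements.S3557
import Groth.Agent.Lib.ProjGlue.MapLocal
-- import your own Groth.Agent.* helpers here

set_option autoImplicit false
universe u
open CategoryTheory CategoryTheory.Limits AlgebraicGeometry
open EGA2

namespace Groth.Agent.S3557

/-- Let S be a graded ring which is essentially reduced (S_+ contains no nonzero nilpotent). Then Proj S
is an integral scheme if and only if S is essentially integral, i.e. S_+ is nonzero and the product
of two nonzero elements of S_+ is nonzero. -/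
theorem result {R A : Type u} [CommRing R] [CommRing A] [Algebra R A] (𝒜 : ℕ → Submodule R A) [GradedAlgebra 𝒜]
    (hred : ∀ f ∈ (HomogeneousIdeal.irrelevant 𝒜).toIdeal, IsNilpotent f → f = 0) :
    AlgebraicGeometry.IsIntegral (Proj 𝒜) ↔
      ((∃ f ∈ (HomogeneousIdeal.irrelevant 𝒜).toIdeal, f ≠ 0) ∧
        ∀ f ∈ (HomogeneousIdeal.irrelevant 𝒜).toIdeal, ∀ g ∈ (HomogeneousIdeal.irrelevant 𝒜).toIdeal,
          f * g = 0 → f = 0 ∨ g = 0) := by
  open HomogeneousLocalization TopologicalSpace in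
  classical
  have hmem : ∀ {i : ℕ} {x : A}, 0 < i → x ∈ 𝒜 i → x ∈ (HomogeneousIdeal.irrelevant 𝒜).toIdeal := fun hi hx =>
    (HomogeneousIdeal.toIdeal_irrelevant_le _).1 le_rfl _ hi hx
  have hne : ∀ {i : ℕ} {f : A}, 0 < i → f ∈ 𝒜 i → f ≠ 0 → ∃ x : Proj 𝒜, x ∈ Proj.basicOpen 𝒜 f := by
    intro i f hi hf hf0
    by_contra hno
    push Not at hno
    have he : IsEmpty (Spec (.of (Away 𝒜 f))) := ⟨fun y => hno (Proj.awayι 𝒜 f hf hi y) (by
      rw [← Proj.opensRange_awayι 𝒜 f hf hi]; exact ⟨y, rfl⟩)⟩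
    have : IsEmpty (PrimeSpectrum (Away 𝒜 f)) := he
    have hsub : Subsingleton (Away 𝒜 f) := by
      by_contra hns
      rw [not_subsingleton_iff_nontrivial] at hns
      exact this.false (Classical.arbitrary (PrimeSpectrum (Away 𝒜 f)))
    have h1 := congrArg HomogeneousLocalization.val (Subsingleton.elim (1 : Away 𝒜 f) 0)
    rw [HomogeneousLocalization.val_one, HomogeneousLocalization.val_zero] at h1
    obtain ⟨⟨_, k, rfl⟩, hk⟩ := (IsLocalization.map_eq_zero_iff (Submonoid.powers f) (Localization.Away f) 1).1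
      (by rw [map_one]; exact h1)
    exact hf0 (hred f (hmem hi hf) ⟨k, by simpa using hk⟩)
  have hcomp : ∀ {f : A}, f ∈ (HomogeneousIdeal.irrelevant 𝒜).toIdeal → f ≠ 0 →
      ∃ i, 0 < i ∧ (DirectSum.decompose 𝒜 f i : A) ≠ 0 := by
    intro f hf hf0
    by_contra hno
    push Not at hno
    apply hf0
    rw [← DirectSum.sum_support_decompose 𝒜 f]
    refine Finset.sum_eq_zero fun i _ => ?_
    rcases Nat.eq_zero_or_pos i with rfl | hi
    · rw [← GradedRing.proj_apply]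
      exact (HomogeneousIdeal.mem_irrelevant_iff _ _).1 hf
    · exact hno i hi
  constructor
  · intro hint
    let η : ProjectiveSpectrum 𝒜 := genericPoint (Proj 𝒜)
    have hη : ∀ (U : (Proj 𝒜).Opens) (x : Proj 𝒜), x ∈ U → (genericPoint (Proj 𝒜)) ∈ U := fun U x hx =>
      (genericPoint_spec (Proj 𝒜)).mem_open_set_iff U.isOpen |>.2 ⟨x, trivial, hx⟩
    refine ⟨?_, fun f hf g hg hfg => ?_⟩
    · obtain ⟨j, hj, hjη⟩ := Set.not_subset.1 η.not_irrelevant_le
      exact ⟨j, hj, fun h0 => hjη (h0 ▸ η.asHomogeneousIdeal.toIdeal.zero_mem)⟩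
    · have key : ∀ h ∈ (HomogeneousIdeal.irrelevant 𝒜).toIdeal, h ∈ η.asHomogeneousIdeal.toIdeal → h = 0 := by
        intro h hh hhη
        by_contra h0
        obtain ⟨i, hi, hne'⟩ := hcomp hh h0
        obtain ⟨x, hx⟩ := hne hi (SetLike.coe_mem _) hne'
        exact hη _ x hx (η.asHomogeneousIdeal.isHomogeneous i hhη)
      rcases η.isPrime.mem_or_mem (hfg ▸ η.asHomogeneousIdeal.toIdeal.zero_mem) with h | h
      exacts [Or.inl (key f hf h), Or.inr (key g hg h)]
  · rintro ⟨⟨f₀, hf₀, hf₀ne⟩, hdom⟩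
    have hbasis : ∀ (U : (Proj 𝒜).Opens) (x : Proj 𝒜), x ∈ U →
        ∃ (i : ℕ) (a : A), 0 < i ∧ a ∈ 𝒜 i ∧ x ∈ Proj.basicOpen 𝒜 a ∧ Proj.basicOpen 𝒜 a ≤ U := by
      intro U x hx
      obtain ⟨_, ⟨_, ⟨a, rfl⟩, rfl⟩, hxa, haU⟩ :=
        (Proj.isBasis_basicOpen 𝒜).exists_subset_of_mem_open hx U.isOpen
      have hxa' : x ∈ Proj.basicOpen 𝒜 a := hxa
      obtain ⟨⟨d, c, hd, hc⟩, hxc⟩ := Opens.mem_iSup.1
        ((Groth.Agent.Lib.ProjGlue.MapLocal.iSup_basicOpen_pos (𝒜 := 𝒜)).ge (Opens.mem_top x))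
      rw [Proj.basicOpen_eq_iSup_proj] at hxa'
      obtain ⟨j, hj⟩ := Opens.mem_iSup.1 hxa'
      refine ⟨j + d, GradedRing.proj 𝒜 j a * c, by omega,
        SetLike.mul_mem_graded (by rw [GradedRing.proj_apply]; exact SetLike.coe_mem _) hc,
        by rw [Proj.basicOpen_mul]; exact ⟨hj, hxc⟩, fun y hy => haU ?_⟩
      rw [Proj.basicOpen_mul] at hy
      rw [SetLike.mem_coe, Proj.basicOpen_eq_iSup_proj]
      exact Opens.mem_iSup.2 ⟨j, hy.1⟩
    have hnemp : Nonempty (Proj 𝒜) := by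
      obtain ⟨i, hi, hne'⟩ := hcomp hf₀ hf₀ne
      obtain ⟨x, -⟩ := hne hi (SetLike.coe_mem _) hne'
      exact ⟨x⟩
    have hirr : IrreducibleSpace (Proj 𝒜) := by
      haveI : PreirreducibleSpace (Proj 𝒜) := ⟨fun U V hU hV ⟨x, _, hx⟩ ⟨y, _, hy⟩ => by
        obtain ⟨i, a, hi, ha, hxa, haU⟩ := hbasis ⟨U, hU⟩ x hx
        obtain ⟨j, b, hj, hb, hyb, hbV⟩ := hbasis ⟨V, hV⟩ y hy
        have hab : a * b ≠ 0 := fun h0 => by
          rcases hdom a (hmem hi ha) b (hmem hj hb) h0 with rfl | rfl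
          · simp at hxa
          · simp at hyb
        obtain ⟨z, hz⟩ := hne (i := i + j) (by omega) (SetLike.mul_mem_graded ha hb) hab
        rw [Proj.basicOpen_mul] at hz
        exact ⟨z, trivial, haU hz.1, hbV hz.2⟩⟩
      exact ⟨hnemp⟩
    let 𝒱 : (Proj 𝒜).OpenCover := .mkOfCovers (Σ d : ℕ, {a : A // 0 < d ∧ a ∈ 𝒜 d})
      (fun p => Spec (.of (Away 𝒜 p.2.1))) (fun p => Proj.awayι 𝒜 p.2.1 p.2.2.2 p.2.2.1)
      (fun x => by
        obtain ⟨p, hp⟩ := Opens.mem_iSup.1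
          ((Groth.Agent.Lib.ProjGlue.MapLocal.iSup_basicOpen_pos (𝒜 := 𝒜)).ge (Opens.mem_top x))
        rw [← Proj.opensRange_awayι 𝒜 p.2.1 p.2.2.2 p.2.2.1] at hp
        exact ⟨p, hp⟩)
      (fun _ => inferInstance)
    haveI : ∀ p, AlgebraicGeometry.IsReduced (𝒱.X p) := fun p => by
      obtain ⟨i, f, hi, hf⟩ := p
      haveI : _root_.IsReduced (Away 𝒜 f) := ⟨fun z ⟨k, hk⟩ => by
        obtain ⟨n, x, hx, rfl⟩ := Away.mk_surjective 𝒜 hf z
        have hk' := congrArg HomogeneousLocalization.val hk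
        rw [HomogeneousLocalization.val_pow, Away.val_mk, HomogeneousLocalization.val_zero, Localization.mk_pow,
          Localization.mk_eq_mk', IsLocalization.mk'_eq_zero_iff] at hk'
        obtain ⟨⟨_, m, rfl⟩, hm⟩ := hk'
        change f ^ m * x ^ k = 0 at hm
        have h0 : f * x = 0 := hred _ (hmem (i := i + n • i) (by omega) (SetLike.mul_mem_graded hf hx))
          ⟨m + k, by rw [mul_pow]; linear_combination (f ^ k * x ^ m) * hm⟩
        refine HomogeneousLocalization.val_injective _ ?_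
        rw [Away.val_mk, HomogeneousLocalization.val_zero, Localization.mk_eq_mk', IsLocalization.mk'_eq_zero_iff]
        exact ⟨⟨f, 1, pow_one _⟩, h0⟩⟩
      exact inferInstanceAs (AlgebraicGeometry.IsReduced (Spec (.of (Away 𝒜 f))))
    haveI : AlgebraicGeometry.IsReduced (Proj 𝒜) := IsReduced.of_openCover _ 𝒱
    exact isIntegral_of_irreducibleSpace_of_isReduced (Proj 𝒜)

end Groth.Agent.S3557
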