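import Groth.Statements.S3559
import Groth.Agent.Lib.ProjGlue.Reduced
-- import your own Groth.Agent.* helpers here

set_option autoImplicit false
universe u
open CategoryTheory CategoryTheory.Limits AlgebraicGeometry
open EGA2

namespace Groth.Agent.S3559

/-- Let S be a graded ring and (f_i) a family of homogeneous elements of positive degree. The opens
D_+(f_i) cover Proj S if and only if every element of S_+ has a power in the ideal generated by the
f_i. -/
theorem result {R A : Type u} [CommRing R] [CommRing A] [Algebra R A] (𝒜 : ℕ → Submodule R A) [GradedAlgebra 𝒜]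
    {ι : Type u} (f : ι → A) (hf : ∀ i, ∃ d : ℕ, 0 < d ∧ f i ∈ 𝒜 d) :
    (⨆ i, Proj.basicOpen 𝒜 (f i)) = ⊤ ↔
      (HomogeneousIdeal.irrelevant 𝒜).toIdeal ≤ (Ideal.span (Set.range f)).radical := by
  refine ⟨fun h => ?_, fun h => ?_⟩
  · classical
    refine (HomogeneousIdeal.toIdeal_irrelevant_le _).2 fun d hd a ha => ?_
    rw [Ideal.radical_eq_sInf]
    refine Ideal.mem_sInf.2 ?_
    rintro P ⟨hle, hP⟩
    by_contra haP
    let Q := Ideal.homogeneousCore 𝒜 P
    have hQ : Q.toIdeal.IsPrime := hP.homogeneousCore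
    have hQle : Q.toIdeal ≤ P := Ideal.toIdeal_homogeneousCore_le 𝒜 P
    let x : Proj 𝒜 := (⟨Q, hQ, fun hc =>
      haP (hQle (hc (Groth.Agent.Lib.ProjGlue.Reduced.mem_irrelevant hd ha)))⟩ : ProjectiveSpectrum 𝒜)
    obtain ⟨i, hi⟩ := TopologicalSpace.Opens.mem_iSup.1 (h.ge (TopologicalSpace.Opens.mem_top x))
    obtain ⟨e, he, hfe⟩ := hf i
    exact hi (Ideal.mem_homogeneousCore_of_homogeneous_of_mem ⟨e, hfe⟩ (hle (Ideal.subset_span ⟨i, rfl⟩)))
  · refine top_le_iff.1 fun x _ => ?_
    by_contra hx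
    refine x.not_irrelevant_le (h.trans ?_)
    rw [x.isPrime.isRadical.radical_le_iff, Ideal.span_le]
    rintro _ ⟨i, rfl⟩
    by_contra hfi
    exact hx (TopologicalSpace.Opens.mem_iSup.2 ⟨i, hfi⟩)

end Groth.Agent.S3559
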