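import Groth.Statements.S3560
import Groth.Agent.Lib.ProjGlue.Reduced
-- import your own Groth.Agent.* helpers here

set_option autoImplicit false
universe u
open CategoryTheory CategoryTheory.Limits AlgebraicGeometry
open EGA2

namespace Groth.Agent.S3560

/-- Let S be a graded ring whose irrelevant ideal S_+ is finitely generated. Then Proj S is empty if and
only if there is n such that S_k = 0 for all k ≥ n. -/
theorem result {R A : Type u} [CommRing R] [CommRing A] [Algebra R A] (𝒜 : ℕ → Submodule R A) [GradedAlgebra 𝒜]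
    (hfg : (HomogeneousIdeal.irrelevant 𝒜).toIdeal.FG) :
    IsEmpty (Proj 𝒜) ↔ ∃ n : ℕ, ∀ k : ℕ, n ≤ k → 𝒜 k = ⊥ := by
  classical
  rw [Groth.Agent.Lib.ProjGlue.Reduced.isEmpty_iff]
  refine ⟨fun h => ?_, fun ⟨n, hn⟩ f hf => ?_⟩
  · obtain ⟨S, hS⟩ := hfg
    let H : Finset (ℕ × A) := S.biUnion fun g => ((DirectSum.decompose 𝒜 g).support.filter (0 < ·)).image
      fun i => (i, (DirectSum.decompose 𝒜 g i : A))
    let D := H.sup Prod.fst
    have hH : ∀ p ∈ H, 0 < p.1 ∧ p.1 ≤ D ∧ p.2 ∈ 𝒜 p.1 := fun p hp => by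
      refine ⟨?_, Finset.le_sup (f := Prod.fst) hp, ?_⟩ <;>
      · obtain ⟨g, -, hg⟩ := Finset.mem_biUnion.1 hp
        obtain ⟨i, hi, rfl⟩ := Finset.mem_image.1 hg
        first | exact (Finset.mem_filter.1 hi).2 | exact SetLike.coe_mem _
    have hI : (HomogeneousIdeal.irrelevant 𝒜).toIdeal ≤ Ideal.span (Prod.snd '' (H : Set (ℕ × A))) := by
      rw [← hS, Ideal.span_le]
      intro g hg
      have hg' : g ∈ (HomogeneousIdeal.irrelevant 𝒜).toIdeal := hS ▸ Ideal.subset_span hg
      rw [SetLike.mem_coe, ← DirectSum.sum_support_decompose 𝒜 g]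
      refine Ideal.sum_mem _ fun i hi => ?_
      rcases Nat.eq_zero_or_pos i with rfl | hpos
      · rw [← GradedRing.proj_apply, (HomogeneousIdeal.mem_irrelevant_iff _ _).1 hg']
        exact Ideal.zero_mem _
      · exact Ideal.subset_span ⟨(i, _), Finset.mem_biUnion.2
          ⟨g, hg, Finset.mem_image.2 ⟨i, Finset.mem_filter.2 ⟨hi, hpos⟩, rfl⟩⟩, rfl⟩
    have key : ∀ m k : ℕ, m * D < k → ∀ x ∈ 𝒜 k, x ∈ (HomogeneousIdeal.irrelevant 𝒜).toIdeal ^ (m + 1) := by
      intro m
      induction m with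
      | zero =>
        intro k hk x hx
        rw [zero_add, pow_one]
        exact Groth.Agent.Lib.ProjGlue.Reduced.mem_irrelevant (by omega) hx
      | succ m ih =>
        intro k hk x hx
        have hx' := hI (Groth.Agent.Lib.ProjGlue.Reduced.mem_irrelevant (by omega) hx)
        rw [← DirectSum.decompose_of_mem_same 𝒜 hx]
        obtain ⟨c, hc⟩ := Submodule.mem_span_set.1 hx'
        rw [← hc.2, Finsupp.sum, DirectSum.decompose_sum, DFinsupp.finsetSum_apply, AddSubmonoidClass.coe_finsetSum]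
        refine Ideal.sum_mem _ fun y hy => ?_
        obtain ⟨p, hp, rfl⟩ := hc.1 hy
        obtain ⟨hp0, hpD, hpm⟩ := hH p hp
        have hpk : p.1 ≤ k := by rw [Nat.succ_mul] at hk; omega
        rw [smul_eq_mul, DirectSum.coe_decompose_mul_of_right_mem_of_le 𝒜 hpm hpk, pow_succ]
        exact Ideal.mul_mem_mul (ih (k - p.1) (by rw [Nat.succ_mul] at hk; omega) _ (SetLike.coe_mem _))
          (Groth.Agent.Lib.ProjGlue.Reduced.mem_irrelevant hp0 hpm)
    obtain ⟨N, hN⟩ := Ideal.exists_pow_le_of_le_radical_of_fg (show (HomogeneousIdeal.irrelevant 𝒜).toIdeal ≤ (⊥ : Ideal A).radical from fun f hf => h f hf) ⟨S, hS⟩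
    refine ⟨N * D + 1, fun k hk => eq_bot_iff.2 fun x hx => ?_⟩
    have h1 := Ideal.pow_le_pow_right (Nat.le_succ N) (key N k (by omega) x hx)
    exact hN h1
  · rw [← mem_nilradical, ← DirectSum.sum_support_decompose 𝒜 f]
    refine Ideal.sum_mem _ fun i _ => ?_
    rcases Nat.eq_zero_or_pos i with rfl | hi
    · rw [← GradedRing.proj_apply, (HomogeneousIdeal.mem_irrelevant_iff _ _).1 hf]
      exact Ideal.zero_mem _
    · refine mem_nilradical.2 ⟨n, ?_⟩
      have h1 := SetLike.pow_mem_graded n (SetLike.coe_mem (DirectSum.decompose 𝒜 f i))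
      rw [hn (n • i) (by rw [smul_eq_mul]; exact Nat.le_mul_of_pos_right n hi)] at h1
      exact h1

end Groth.Agent.S3560
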