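import Groth.Statements.S3562
import Groth.Agent.Lib.ProjTilde.Zero

set_option autoImplicit false
universe u
open CategoryTheory CategoryTheory.Limits AlgebraicGeometry
open EGA2

namespace Groth.Agent.S3562

open DirectSum in
theorem mem_irrelevant_pow {R A : Type u} [CommRing R] [CommRing A] [Algebra R A] {𝒜 : ℕ → Submodule R A}
    [GradedAlgebra 𝒜] (hgen : (HomogeneousIdeal.irrelevant 𝒜).toIdeal = Ideal.span (𝒜 1 : Set A)) :
    ∀ (p : ℕ) (a : A), a ∈ 𝒜 p → a ∈ (HomogeneousIdeal.irrelevant 𝒜).toIdeal ^ p := by
  intro p
  induction p with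
  | zero => intro a _; simp
  | succ p ih =>
    intro a ha
    have h1 : a ∈ Ideal.span (𝒜 1 : Set A) := by
      rw [← hgen]
      show GradedRing.proj 𝒜 0 a = 0
      rw [GradedRing.proj_apply, decompose_of_mem_ne 𝒜 ha (by omega)]
    have h2 : ∀ y ∈ Ideal.span (𝒜 1 : Set A),
        (decompose 𝒜 y (p + 1) : A) ∈ (HomogeneousIdeal.irrelevant 𝒜).toIdeal ^ (p + 1) := by
      intro y hy
      induction hy using Submodule.span_induction with
      | mem x hx =>
        by_cases hp : p = 0
        · subst hp
          rw [decompose_of_mem_same 𝒜 hx, pow_one, hgen]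
          exact Ideal.subset_span hx
        · rw [decompose_of_mem_ne 𝒜 hx (by omega)]
          exact zero_mem _
      | zero => simp
      | add x y _ _ hx hy => simp only [decompose_add, DirectSum.add_apply, Submodule.coe_add]; exact add_mem hx hy
      | smul c x hx ih2 =>
        clear ih2
        induction hx using Submodule.span_induction generalizing c with
        | mem x hx =>
          rw [smul_eq_mul, coe_decompose_mul_of_right_mem_of_le 𝒜 hx (by omega : 1 ≤ p + 1),
            Nat.add_sub_cancel, pow_succ]
          exact Ideal.mul_mem_mul (ih _ (SetLike.coe_mem _)) (hgen ▸ Ideal.subset_span hx)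
        | zero => simp
        | add x y _ _ hx hy =>
          rw [smul_add]
          simp only [decompose_add, DirectSum.add_apply, Submodule.coe_add]
          exact add_mem (hx c) (hy c)
        | smul d x _ hx =>
          rw [smul_smul]
          exact hx (c * d)
    have := h2 a h1
    rwa [decompose_of_mem_same 𝒜 ha] at this


/-- Let S be a graded ring whose irrelevant ideal S_+ is finitely generated and generated by the
degree-one elements, and M a graded S-module satisfying (TF) (some tail of M generates a finitely
generated submodule). Then M~ = 0 on Proj S if and only if M satisfies (TN): M_k = 0 for all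
sufficiently large k. (The published statement assumes only that S_+ is finitely generated; the
statement then fails when S_+ has no system of degree-one generators, e.g. S = k[t] with t of degree
2 and M = S shifted into odd degrees, whose M~ vanishes although no M_k does. Stated here with S_+
generated by degree-one elements, where the published proof applies.) -/
theorem result {R A : Type u} [CommRing R] [CommRing A] [Algebra R A] (𝒜 : ℕ → Submodule R A) [GradedAlgebra 𝒜]
    (hfg : (HomogeneousIdeal.irrelevant 𝒜).toIdeal.FG)
    (hgen : (HomogeneousIdeal.irrelevant 𝒜).toIdeal = Ideal.span (𝒜 1 : Set A))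
    {M : Type u} [AddCommGroup M] [Module R M] [Module A M] [IsScalarTower R A M] (ℳ : ℕ → Submodule R M) [DirectSum.Decomposition ℳ] [SetLike.GradedSMul 𝒜 ℳ]
    (hTF : ∃ n : ℕ, (Submodule.span A (⋃ k ∈ Set.Ici n, (ℳ k : Set M))).FG) :
    IsZero (GrTilde.tilde 𝒜 ℳ 0) ↔ ∃ n : ℕ, ∀ k : ℕ, n ≤ k → ℳ k = ⊥ := by
  classical
  constructor
  · intro h
    obtain ⟨n₀, hn₀⟩ := hTF
    obtain ⟨G, hG, hGspan⟩ := Submodule.fg_span_iff_fg_span_finset_subset _ |>.1 hn₀
    have hdeg : ∀ g ∈ G, ∃ j, g ∈ ℳ j := fun g hg => by
      obtain ⟨k, -, hk⟩ := Set.mem_iUnion₂.1 (hG hg)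
      exact ⟨k, hk⟩
    choose dg hdg using hdeg
    let J : Ideal A := ⨅ g : G, LinearMap.ker (LinearMap.toSpanSingleton A M g.1)
    have hle : (HomogeneousIdeal.irrelevant 𝒜).toIdeal ≤ J.radical := by
      rw [hgen, Ideal.span_le]
      intro f hf
      choose N hN using fun g : G =>
        Groth.Agent.Lib.ProjTilde.Zero.killed_of_isZero' hgen h one_pos hf (g : M)
      refine ⟨Finset.univ.sup N, Submodule.mem_iInf _ |>.2 fun g => ?_⟩
      show f ^ Finset.univ.sup N • (g : M) = 0
      rw [← Nat.sub_add_cancel (Finset.le_sup (f := N) (Finset.mem_univ g)), pow_add, mul_smul, hN, smul_zero]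
    obtain ⟨p, hp⟩ := Ideal.exists_pow_le_of_le_radical_of_fg hle hfg
    refine ⟨max n₀ (p + G.attach.sup fun g => dg g.1 g.2), fun k hk => ?_⟩
    rw [eq_bot_iff]
    intro m hm
    let P : A → M → Prop := fun _ x => (DirectSum.decompose ℳ x k : M) = 0
    have key : ∀ x ∈ Submodule.span A (G : Set M), ∀ c : A, P c (c • x) := by
      intro x hx
      induction hx using Submodule.span_induction with
      | mem g hg =>
        intro c
        show (DirectSum.decompose ℳ (c • g) k : M) = 0
        let L : M →+ M :=
          { toFun := fun x => (DirectSum.decompose ℳ x k : M)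
            map_zero' := by simp
            map_add' := fun x y => by simp [DirectSum.decompose_add] }
        show L (c • g) = 0
        conv_lhs => rw [← DirectSum.sum_support_decompose 𝒜 c, Finset.sum_smul, map_sum]
        refine Finset.sum_eq_zero fun i _ => ?_
        show (DirectSum.decompose ℳ ((DirectSum.decompose 𝒜 c i : A) • g) k : M) = 0
        have hmem : (DirectSum.decompose 𝒜 c i : A) • g ∈ ℳ (i + dg g hg) :=
          SetLike.GradedSMul.smul_mem (SetLike.coe_mem (DirectSum.decompose 𝒜 c i)) (hdg g hg)
        by_cases hik : i + dg g hg = k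
        · have hsup : dg g hg ≤ G.attach.sup fun g => dg g.1 g.2 :=
            Finset.le_sup (f := fun g : G => dg g.1 g.2) (Finset.mem_attach G ⟨g, hg⟩)
          have hpi : p ≤ i := by omega
          have hJ : (DirectSum.decompose 𝒜 c i : A) ∈ J :=
            hp (Ideal.pow_le_pow_right hpi (mem_irrelevant_pow hgen i _ (SetLike.coe_mem _)))
          have h0 : (DirectSum.decompose 𝒜 c i : A) • g = 0 := Submodule.mem_iInf _ |>.1 hJ ⟨g, hg⟩
          simp [h0]
        · exact DirectSum.decompose_of_mem_ne ℳ hmem hik
      | zero => intro c; show _ = _; simp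
      | add x y _ _ hx hy =>
        intro c
        show (DirectSum.decompose ℳ (c • (x + y)) k : M) = 0
        rw [smul_add, DirectSum.decompose_add, DirectSum.add_apply, Submodule.coe_add, hx c, hy c, add_zero]
      | smul d x _ hx =>
        intro c
        show (DirectSum.decompose ℳ (c • d • x) k : M) = 0
        rw [smul_smul]
        exact hx (c * d)
    have hmG : m ∈ Submodule.span A (G : Set M) := by
      rw [← hGspan]
      exact Submodule.subset_span (Set.mem_iUnion₂.2 ⟨k, le_trans (le_max_left _ _) hk, hm⟩)
    have := key m hmG 1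
    simp only [P, one_smul, DirectSum.decompose_of_mem_same ℳ hm] at this
    exact (Submodule.mem_bot R).2 this
  · rintro ⟨n, hn⟩
    refine Groth.Agent.Lib.ProjTilde.Zero.isZero_tilde 0 fun z d f hd hf => ⟨n, ?_⟩
    rw [← DirectSum.sum_support_decompose ℳ z, Finset.smul_sum]
    refine Finset.sum_eq_zero fun i _ => ?_
    have hmem : f ^ n • (DirectSum.decompose ℳ z i : M) ∈ ℳ (n * d + i) := by
      have := SetLike.GradedSMul.smul_mem (B := ℳ) (SetLike.pow_mem_graded n hf)
        (SetLike.coe_mem (DirectSum.decompose ℳ z i))
      simpa [vadd_eq_add, smul_eq_mul] using this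
    rw [hn _ (le_trans (Nat.le_mul_of_pos_right n hd) (Nat.le_add_right _ _))] at hmem
    exact (Submodule.mem_bot R).1 hmem

end Groth.Agent.S3562
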