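import Groth.Statements.S3567

set_option autoImplicit false
universe u
open CategoryTheory CategoryTheory.Limits AlgebraicGeometry
open EGA2

namespace Groth.Agent.S3567
theorem isUnit_of_eqToHom {R S : CommRingCat.{u}} (e : R = S) (a : R)
    (h : IsUnit ((eqToHom e).hom a)) : IsUnit a := by
  subst e
  simpa using h

theorem app_iso {U V : Scheme.{u}} (h : U ⟶ V) [IsIso h.c] (O : V.Opens) : IsIso (h.app O) :=
  inferInstanceAs (IsIso (h.c.app (Opposite.op O)))


/-- Let h : U → V be a surjective morphism of schemes such that the map of sheaves of rings O_V → h_*O_U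
is an isomorphism and the underlying space of V carries the quotient topology of that of U. Then for
every scheme W, composition with h is a bijection from the morphisms V → W onto the morphisms U → W
whose underlying map is constant on each fibre of h. -/
theorem result {U V : Scheme.{u}} (h : U ⟶ V) [Surjective h]
    [IsIso h.c] (hq : Topology.IsQuotientMap h.base) (W : Scheme.{u}) :
    (∀ v₁ v₂ : V ⟶ W, h ≫ v₁ = h ≫ v₂ → v₁ = v₂) ∧
      ∀ u : U ⟶ W, (∀ x y : U, h.base x = h.base y → u.base x = u.base y) → ∃ v : V ⟶ W, h ≫ v = u := by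
  haveI : ∀ O, IsIso (h.app O) := app_iso h
  refine ⟨fun v₁ v₂ e => ?_, fun u hu => ?_⟩
  · have hb : v₁.base = v₂.base := by
      ext y
      obtain ⟨x, rfl⟩ := h.surjective y
      have := congrArg (fun f : U ⟶ W => f x) e
      simpa using this
    refine Scheme.Hom.ext hb fun O => ?_
    have h2 := Scheme.Hom.congr_app e O
    simp only [Scheme.Hom.comp_app] at h2
    have hO : v₁ ⁻¹ᵁ O = v₂ ⁻¹ᵁ O := by
      ext y
      show v₁ y ∈ O ↔ v₂ y ∈ O
      rw [show v₁ y = v₂ y from congr($hb y)]
    rw [← cancel_mono (h.app (v₂ ⁻¹ᵁ O)), Category.assoc,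
      Scheme.Hom.naturality h (eqToHom hO.symm).op]
    rw [reassoc_of% h2]
    simp [← Functor.map_comp, eqToHom_map, eqToHom_op, eqToHom_trans]
  · let b : V.toPresheafedSpace.carrier ⟶ W.toPresheafedSpace.carrier :=
      TopCat.ofHom (hq.lift ⟨u, u.continuous⟩ fun x y hxy => hu x y hxy)
    have hbx : ∀ x, b (h x) = u x := fun x => by
      have := congrArg (fun f : C(U, W) => f x) (hq.lift_comp ⟨u, u.continuous⟩ fun x y hxy => hu x y hxy)
      exact this
    have hO : ∀ O : W.Opens, h ⁻¹ᵁ ((TopologicalSpace.Opens.map b).obj O) = u ⁻¹ᵁ O := fun O => by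
      ext x
      show b (h x) ∈ O ↔ u x ∈ O
      rw [hbx]
    let c : W.presheaf ⟶ (TopCat.Presheaf.pushforward CommRingCat b).obj V.presheaf :=
      { app := fun O => u.app O.unop ≫ U.presheaf.map (eqToHom (hO O.unop)).op ≫
          inv (h.app ((TopologicalSpace.Opens.map b).obj O.unop))
        naturality := fun O O' i => by
          simp only [TopCat.Presheaf.pushforward_obj_map]
          rw [← cancel_mono (h.app ((TopologicalSpace.Opens.map b).obj O'.unop))]
          simp only [Category.assoc, IsIso.inv_hom_id, Category.comp_id]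
          erw [Scheme.Hom.naturality h]
          erw [IsIso.inv_hom_id_assoc]
          erw [Scheme.Hom.naturality_assoc u i]
          erw [← U.presheaf.map_comp, ← U.presheaf.map_comp]
          rfl }
    let φ : V.toPresheafedSpace ⟶ W.toPresheafedSpace := ⟨b, c⟩
    have hφ : h.toLRSHom.toShHom.hom ≫ φ = u.toLRSHom.toShHom.hom := by
      refine PresheafedSpace.ext _ _ (ConcreteCategory.hom_ext _ _ hbx) ?_
      ext O : 2
      refine congrArg CommRingCat.Hom.hom ?_
      rw [NatTrans.comp_app, PresheafedSpace.comp_c_app, Functor.whiskerRight_app, eqToHom_app]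
      simp [φ, c, Scheme.Hom.app, eqToHom_map, eqToHom_op]
      show u.c.app _ ≫ eqToHom _ ≫ inv (h.c.app _) ≫ h.c.app _ ≫ eqToHom _ = u.c.app _
      simp
    refine ⟨⟨⟨φ, fun y => ?_⟩⟩, Scheme.Hom.ext' (LocallyRingedSpace.Hom.ext' ?_)⟩
    · obtain ⟨x, rfl⟩ := h.surjective y
      refine ⟨fun a ha => ?_⟩
      have hcomp := PresheafedSpace.stalkMap.comp h.toLRSHom.toShHom.hom φ x
      have heq := PresheafedSpace.stalkMap.congr_hom _ _ hφ x
      rw [hcomp] at heq
      haveI : IsLocalHom (u.toLRSHom.toShHom.hom.stalkMap x).hom := u.toLRSHom.prop x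
      have h3 := congr($(heq).hom a)
      have h4 := ha.map (h.toLRSHom.toShHom.hom.stalkMap x).hom
      simp only [CommRingCat.hom_comp, RingHom.comp_apply] at h3
      erw [h3] at h4
      have h5 := IsUnit.of_map _ _ h4
      exact isUnit_of_eqToHom _ _ h5
    · exact hφ

end Groth.Agent.S3567
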