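import Groth.Statements.S3568
import Groth.Agent.Lib.FEt.NormalCover
import Groth.Agent.Lib.UnivHomeo.Basic

set_option autoImplicit false
universe u
open CategoryTheory CategoryTheory.Limits AlgebraicGeometry
open EGA2

set_option linter.style.haveILetI false

namespace Groth.Agent.S3568
theorem stalkMap_bijective {U V : Scheme.{u}} [AlgebraicGeometry.IsIntegral U]
    [AlgebraicGeometry.IsIntegral V] (h : U ⟶ V) (hgen : h.base (genericPoint U) = genericPoint V)
    (hbir : Function.Bijective (h.residueFieldMap (genericPoint U)).hom) :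
    Function.Bijective (h.stalkMap (genericPoint U)).hom := by
  have hU : IsField (U.presheaf.stalk (genericPoint U)) := Field.toIsField U.functionField
  have hV : IsField (V.presheaf.stalk (h (genericPoint U))) := hgen ▸ Field.toIsField V.functionField
  have hrU : Function.Injective (U.residue (genericPoint U)).hom :=
    letI := hU.toField; RingHom.injective _
  have hrV : Function.Injective (V.residue (h (genericPoint U))).hom :=
    letI := hV.toField; RingHom.injective _
  refine ⟨letI := hV.toField; RingHom.injective _, fun y => ?_⟩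
  obtain ⟨z, hz⟩ := hbir.2 ((U.residue (genericPoint U)).hom y)
  obtain ⟨z, rfl⟩ := V.residue_surjective _ z
  exact ⟨z, hrU hz⟩


/-- Let U be an integral scheme, V a normal integral scheme (all local rings integrally closed domains)
and h : U → V a morphism which is universally closed, radicial (universally injective) and
birational (it sends the generic point of U to that of V and induces an isomorphism of the residue
fields there). Then h is an isomorphism. (The source assumes only V normal; integrality of V, needed
here to speak of its generic point, follows from the other hypotheses.) -/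
theorem result {U V : Scheme.{u}} [AlgebraicGeometry.IsIntegral U] [AlgebraicGeometry.IsIntegral V]
    (hN : Pi1.IsNormalScheme V) (h : U ⟶ V) [UniversallyClosed h]
    [UniversallyInjective h] (hgen : h.base (genericPoint U) = genericPoint V)
    (hbir : Function.Bijective (h.residueFieldMap (genericPoint U)).hom) :
    IsIso h := by
  haveI : Surjective h := ⟨fun y => by
    have hc : IsClosed (Set.range h) := h.isClosedMap.isClosed_range
    have hy : y ∈ closure ({genericPoint ↥V} : Set V) := by
      rw [(genericPoint_spec ↥V).def]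
      trivial
    exact hc.closure_subset_iff.mpr (Set.singleton_subset_iff.mpr ⟨_, hgen⟩) hy⟩
  have hhom : IsHomeomorph h :=
    isHomeomorph_iff_continuous_isClosedMap_bijective.mpr
      ⟨h.continuous, h.isClosedMap, h.injective, h.surjective⟩
  haveI : IsAffineHom h := isAffineHom_of_isInducing h hhom.isEmbedding.isInducing
    (by rw [hhom.surjective.range_eq]; exact isClosed_univ)
  haveI : IsIntegralHom h :=
    IsIntegralHom.iff_universallyClosed_and_isAffineHom.mpr ⟨‹_›, ‹_›⟩
  have hbij := stalkMap_bijective h hgen hbir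
  refine (IsZariskiLocalAtTarget.iff_of_iSup_eq_top (P := MorphismProperty.isomorphisms Scheme.{u})
    (fun W : V.affineOpens => W.1) (iSup_affineOpens_eq_top V)).mpr fun W => ?_
  show IsIso _
  rw [isIso_morphismRestrict_iff_isIso_app h W.2, ConcreteCategory.isIso_iff_bijective]
  by_cases hW : Nonempty W.1
  swap
  · have e : W.1 = ⊥ := TopologicalSpace.Opens.ext (Set.eq_empty_iff_forall_notMem.mpr fun z hz => hW ⟨⟨z, hz⟩⟩)
    rw [e]
    haveI : Subsingleton Γ(U, h ⁻¹ᵁ ⊥) := inferInstanceAs (Subsingleton Γ(U, ⊥))
    exact ⟨fun a b _ => Subsingleton.elim (α := Γ(V, ⊥)) a b, fun a => ⟨0, Subsingleton.elim _ _⟩⟩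
  have hW' : IsAffineOpen (h ⁻¹ᵁ W.1) := W.2.preimage h
  haveI : Nonempty (h ⁻¹ᵁ W.1 : U.Opens) := by
    obtain ⟨⟨z, hz⟩⟩ := hW
    obtain ⟨x, rfl⟩ := h.surjective z
    exact ⟨⟨x, hz⟩⟩
  haveI := Lib.FEt.NormalCover.isIntegrallyClosed_sections (X := V) (U := W.1) hN
  haveI := functionField_isFractionRing_of_isAffineOpen V W.1 W.2
  have hη : genericPoint ↥U ∈ h ⁻¹ᵁ W.1 :=
    ((genericPoint_spec ↥U).mem_open_set_iff (h ⁻¹ᵁ W.1).isOpen).mpr (by simpa using ‹Nonempty (h ⁻¹ᵁ W.1 : U.Opens)›)
  let α := (U.presheaf.germ (h ⁻¹ᵁ W.1) (genericPoint ↥U) hη).hom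
  have hα : Function.Injective α := germ_injective_of_isIntegral U (genericPoint ↥U) hη
  let β := (V.presheaf.germ W.1 (h (genericPoint ↥U)) hη).hom
  have hcomm : ∀ a, α ((h.app W.1).hom a) = (h.stalkMap (genericPoint ↥U)).hom (β a) := fun a =>
    (Scheme.Hom.germ_stalkMap_apply h W.1 (genericPoint ↥U) hη a).symm
  have hβ : Function.Injective β := germ_injective_of_isIntegral V _ hη
  have hinj : Function.Injective (h.app W.1).hom := fun a b e =>
    hβ (hbij.1 (by rw [← hcomm, ← hcomm, e]))
  refine ⟨hinj, fun b => ?_⟩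
  have hint : RingHom.IsIntegral (h.app W.1).hom := IsIntegralHom.isIntegral_app h W.1 W.2
  obtain ⟨y, hy⟩ := hbij.2 (α b)
  -- transport to the generic point of `V`
  let e := V.presheaf.stalkCongr (Inseparable.of_eq hgen)
  let y' : V.functionField := e.hom.hom y
  have hy' : ∀ a, algebraMap Γ(V, W.1) V.functionField a = e.hom.hom (β a) := fun a =>
    (congr($(V.presheaf.germ_stalkSpecializes hη (Inseparable.of_eq hgen).ge).hom a)).symm
  have hyint : IsIntegral Γ(V, W.1) y' := by
    obtain ⟨P, hP, hPb⟩ := hint b
    refine ⟨P, hP, ?_⟩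
    have h0 : P.eval₂ ((h.stalkMap (genericPoint ↥U)).hom.comp β) ((h.stalkMap (genericPoint ↥U)).hom y) = 0 := by
      have hc : α.comp (h.app W.1).hom = (h.stalkMap (genericPoint ↥U)).hom.comp β := RingHom.ext hcomm
      rw [hy, ← hc, ← Polynomial.hom_eval₂, hPb, map_zero]
    rw [← Polynomial.hom_eval₂] at h0
    have h1 : P.eval₂ β y = 0 := hbij.1 (h0.trans (map_zero _).symm)
    have hc' : algebraMap Γ(V, W.1) V.functionField = e.hom.hom.comp β := RingHom.ext hy'
    rw [hc', ← Polynomial.hom_eval₂, h1, map_zero]
  obtain ⟨a, ha⟩ := IsIntegrallyClosed.algebraMap_eq_of_integral hyint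
  refine ⟨a, hα ?_⟩
  rw [hcomm, ← hy]
  congr 1
  apply e.commRingCatIsoToRingEquiv.injective
  exact (hy' a).symm.trans ha

end Groth.Agent.S3568
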