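import Groth.Statements.S3570
import Groth.Agent.Lib.AffAlgBij.Basic

set_option autoImplicit false
universe u
open CategoryTheory CategoryTheory.Limits AlgebraicGeometry
open EGA2

namespace Groth.Agent.S3570

/-- Let f : X → S and g : Y → S be affine morphisms and h : Y → X an S-morphism. Then h is an
isomorphism if and only if A(h) : f_*O_X → g_*O_Y is an isomorphism (of presheaves of rings on S). -/
theorem result {X Y S : Scheme.{u}} (f : X ⟶ S) [IsAffineHom f] (g : Y ⟶ S)
    [IsAffineHom g] (h : Y ⟶ X) (w : h ≫ f = g) :
    IsIso h ↔ IsIso (AffAlg.algHom f g h w) := by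
  open Groth.Agent.Lib Opposite in
  constructor
  · intro hi
    haveI : IsIso h := hi
    haveI : ∀ U, IsIso ((AffAlg.algHom f g h w).app U) := fun U => by
      subst w
      simp only [AffAlg.algHom]
      rw [NatTrans.comp_app]
      haveI : IsIso h.c := inferInstance
      infer_instance
    exact NatIso.isIso_of_isIso_app _
  · intro hω
    haveI : IsIso (AffAlg.algHom f g h w) := hω
    have hIso : IsIso h := by
      obtain ⟨⟨k, hk⟩, hkω⟩ := AffAlgBij.surjective (f := g) (g := f)
        ⟨inv (AffAlg.algHom f g h w), by rw [IsIso.comp_inv_eq]; exact (AffAlg.algHom_comm f g h w).symm⟩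
      have hkω' : AffAlg.algHom g f k hk = inv (AffAlg.algHom f g h w) := congrArg Subtype.val hkω
      refine ⟨k, ?_, ?_⟩
      · have := AffAlgBij.injective (f := g) (g := g) (a₁ := ⟨h ≫ k, by rw [Category.assoc, hk, w]⟩) (a₂ := ⟨𝟙 Y, Category.id_comp _⟩) (Subtype.ext ?_)
        · exact congrArg Subtype.val this
        · show AffAlg.algHom g g (h ≫ k) (by rw [Category.assoc, hk, w]) = AffAlg.algHom g g (𝟙 Y) (Category.id_comp _)
          have hc : AffAlg.algHom g g (h ≫ k) (by rw [Category.assoc, hk, w]) =
              AffAlg.algHom g f k hk ≫ AffAlg.algHom f g h w := by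
            refine NatTrans.ext (funext fun ⟨U⟩ => ?_)
            rw [NatTrans.comp_app, AffAlgBij.algHom_app, AffAlgBij.algHom_app, AffAlgBij.algHom_app,
              Scheme.Hom.appLE_comp_appLE]
          rw [hc, hkω', IsIso.inv_hom_id]
          refine NatTrans.ext (funext fun ⟨U⟩ => ?_)
          rw [AffAlgBij.algHom_app, NatTrans.id_app]
          simp [Scheme.Hom.appLE]
          exact ((Category.id_comp _).trans (Y.presheaf.map_id _)).symm
      · have := AffAlgBij.injective (f := f) (g := f) (a₁ := ⟨k ≫ h, by rw [Category.assoc, w, hk]⟩) (a₂ := ⟨𝟙 X, Category.id_comp _⟩) (Subtype.ext ?_)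
        · exact congrArg Subtype.val this
        · show AffAlg.algHom f f (k ≫ h) (by rw [Category.assoc, w, hk]) = AffAlg.algHom f f (𝟙 X) (Category.id_comp _)
          have hc : AffAlg.algHom f f (k ≫ h) (by rw [Category.assoc, w, hk]) =
              AffAlg.algHom f g h w ≫ AffAlg.algHom g f k hk := by
            refine NatTrans.ext (funext fun ⟨U⟩ => ?_)
            rw [NatTrans.comp_app, AffAlgBij.algHom_app, AffAlgBij.algHom_app, AffAlgBij.algHom_app,
              Scheme.Hom.appLE_comp_appLE]
          rw [hc, hkω', IsIso.hom_inv_id]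
          refine NatTrans.ext (funext fun ⟨U⟩ => ?_)
          rw [AffAlgBij.algHom_app, NatTrans.id_app]
          simp [Scheme.Hom.appLE]
          exact ((Category.id_comp _).trans (X.presheaf.map_id _)).symm
    exact hIso

end Groth.Agent.S3570
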