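import Groth.Statements.S3571
import Groth.Prelude.Def_RelSpec
import Groth.Agent.Lib.RelSpecBasics.Gamma
import Groth.Agent.Lib.QCoh.Localizing

set_option autoImplicit false
universe u
open CategoryTheory AlgebraicGeometry TopologicalSpace
open EGA2

namespace Groth.Agent.S3571

open Opposite Lib.QCoh.Localizing

/-- A quasi-coherent sheaf of algebras satisfies the localization condition on affine opens. -/
theorem isQC_of_isQCoh {S : Scheme.{u}}
    (B : Sheaf (Opens.grothendieckTopology S) CommRingCat.{u}) (φ : S.sheaf ⟶ B)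
    (hB : Coh.IsQCoh ((SheafOfModules.restrictScalars
      ((sheafCompose (Opens.grothendieckTopology S) (forget₂ CommRingCat.{u} RingCat.{u})).map φ)).obj
      (SheafOfModules.unit ((sheafCompose (Opens.grothendieckTopology S) (forget₂ CommRingCat.{u} RingCat.{u})).obj B)))) :
    RelSpec.IsQC (B.obj : TopCat.Presheaf CommRingCat.{u} S.carrier) φ.hom := by
  intro U hU r
  let M : S.Modules := (SheafOfModules.restrictScalars
      ((sheafCompose (Opens.grothendieckTopology S) (forget₂ CommRingCat.{u} RingCat.{u})).map φ)).obj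
      (SheafOfModules.unit ((sheafCompose (Opens.grothendieckTopology S) (forget₂ CommRingCat.{u} RingCat.{u})).obj B))
  haveI : M.IsQuasicoherent := hB
  obtain ⟨hext, hsep⟩ := localizes_of_isAffineOpen M hU r
  let ρ := (B.obj.map (homOfLE (S.basicOpen_le r)).op).hom
  let f := (φ.hom.app (op U)).hom r
  have hnat : ρ f = (φ.hom.app (op (S.basicOpen r))).hom (resR (S.basicOpen_le r) r) :=
    (congr($(φ.hom.naturality (homOfLE (S.basicOpen_le r)).op) r)).symm
  letI := ρ.toAlgebra
  constructor; constructor
  · rintro ⟨_, n, rfl⟩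
    change IsUnit (ρ (f ^ n))
    rw [map_pow, hnat]
    exact ((RingedSpace.isUnit_res_basicOpen _ r).map (φ.hom.app (op (S.basicOpen r))).hom).pow n
  · intro z
    obtain ⟨n, t, ht⟩ := hext z
    refine ⟨⟨t, _, n, rfl⟩, ?_⟩
    change z * ρ (f ^ n) = ρ t
    have ht' : ρ t = (φ.hom.app (op (S.basicOpen r))).hom (resR (S.basicOpen_le r) r ^ n) * z := ht
    rw [ht', map_pow, hnat, mul_comm]
    exact congrArg (· * z) (map_pow (φ.hom.app (op (S.basicOpen r))).hom _ n).symm
  · intro x y hxy
    have hxy' : ρ x = ρ y := hxy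
    obtain ⟨n, hn⟩ := hsep (show Γ(M, U) from x - y) (by
      change ρ (x - y) = 0
      rw [map_sub, hxy', sub_self])
    refine ⟨⟨_, n, rfl⟩, ?_⟩
    change f ^ n * x = f ^ n * y
    have hn' : (φ.hom.app (op U)).hom (r ^ n) * (x - y) = 0 := hn
    rw [show (φ.hom.app (op U)).hom (r ^ n) = f ^ n from map_pow _ _ _, mul_sub, sub_eq_zero] at hn'
    exact hn'


/-- Let S be a scheme and B a sheaf of commutative rings on S with a morphism O_S → B making B a
quasi-coherent O_S-module (a quasi-coherent O_S-algebra). Then there are a scheme X and an affine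
morphism f : X → S together with an isomorphism of sheaves of rings B ≅ f_*O_X compatible with the
two structure maps from O_S (X is the relative spectrum of B; it is in fact unique up to unique
S-isomorphism, but only existence is asserted here). -/
theorem result {S : Scheme.{u}}
    (B : Sheaf (Opens.grothendieckTopology S) CommRingCat.{u}) (φ : S.sheaf ⟶ B)
    (hB : Coh.IsQCoh ((SheafOfModules.restrictScalars
      ((sheafCompose (Opens.grothendieckTopology S) (forget₂ CommRingCat.{u} RingCat.{u})).map φ)).obj
      (SheafOfModules.unit ((sheafCompose (Opens.grothendieckTopology S) (forget₂ CommRingCat.{u} RingCat.{u})).obj B)))) :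
    ∃ (X : Scheme.{u}) (f : X ⟶ S) (_ : IsAffineHom f)
      (e : B ≅ (TopCat.Sheaf.pushforward CommRingCat.{u} f.base).obj X.sheaf),
      (φ ≫ e.hom).hom = f.c := by
  let A : RelSpec.QCAlg S := ⟨B.obj, B.property, φ.hom, isQC_of_isQCoh B φ hB⟩
  haveI := Lib.RelSpecBasics.Gamma.isIso_gammaMap A
  refine ⟨A.spec, A.π, inferInstance,
    (fullyFaithfulSheafToPresheaf (Opens.grothendieckTopology S) CommRingCat.{u}).preimageIso
      (@asIso _ _ _ _ A.gammaMap this).symm, ?_⟩
  change φ.hom ≫ inv A.gammaMap = A.π.c
  exact (IsIso.comp_inv_eq _).mpr A.π_c_gammaMap.symm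

end Groth.Agent.S3571
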