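import Groth.Statements.S3576
import Groth.Agent.Lib.ProjGlue.ConeGlue
import Mathlib.RingTheory.TensorProduct.MonoidAlgebra
import Mathlib.AlgebraicGeometry.Morphisms.FiniteType
import Mathlib.AlgebraicGeometry.ResidueField

set_option autoImplicit false
universe u
open CategoryTheory CategoryTheory.Limits AlgebraicGeometry
open EGA2

namespace Groth.Agent.S3576
open HomogeneousLocalization DirectSum TensorProduct TopologicalSpace

section

variable {R A : Type u} [CommRing R] [CommRing A] [Algebra R A] (𝒜 : ℕ → Submodule R A) [GradedAlgebra 𝒜]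

/-- For `f` of degree one, `A_f` is the ring of Laurent polynomials over `A_(f)`. -/
theorem exists_equiv {f : A} (hf : f ∈ 𝒜 1) :
    ∃ e : LaurentPolynomial (Away 𝒜 f) ≃+* Localization.Away f,
      ∀ x, e (LaurentPolynomial.C x) = algebraMap (Away 𝒜 f) (Localization.Away f) x := by
  classical
  let u : (Localization.Away f)ˣ :=
    (IsLocalization.Away.algebraMap_isUnit (S := Localization.Away f) f).unit
  let F : LaurentPolynomial (Away 𝒜 f) →+* Localization.Away f :=
    LaurentPolynomial.eval₂ (algebraMap (Away 𝒜 f) (Localization.Away f)) u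
  let mkn : ∀ n, 𝒜 n → Away 𝒜 f := fun n x =>
    Away.mk 𝒜 hf n (x : A) (by rw [smul_eq_mul, mul_one]; exact x.2)
  have hval : ∀ n (x : 𝒜 n), (mkn n x).val =
      Localization.mk (x : A) ⟨f ^ n, pow_mem (Submonoid.mem_powers f) n⟩ := fun n x =>
    Away.val_mk 𝒜 n hf _ _
  have hadd : ∀ n (x y : 𝒜 n), mkn n (x + y) = mkn n x + mkn n y := fun n x y => val_injective _ (by
    rw [val_add, hval, hval, hval, Localization.add_mk_self, Submodule.coe_add])
  let gn : ∀ n, 𝒜 n →+ LaurentPolynomial (Away 𝒜 f) := fun n =>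
    AddMonoidHom.mk' (fun x => LaurentPolynomial.C (mkn n x) * LaurentPolynomial.T (n : ℤ))
      (fun x y => by rw [hadd, map_add, add_mul])
  have hone : gn 0 (GradedMonoid.GOne.one (A := fun i => 𝒜 i)) = 1 := by
    show LaurentPolynomial.C (mkn 0 _) * LaurentPolynomial.T ((0 : ℕ) : ℤ) = 1
    rw [Nat.cast_zero, LaurentPolynomial.T_zero, mul_one,
      show mkn 0 (GradedMonoid.GOne.one (A := fun i => 𝒜 i)) = 1 from val_injective _ (by
        rw [hval, val_one, ← Localization.mk_one]
        exact congrArg₂ Localization.mk rfl (Subtype.ext (pow_zero _))), map_one]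
  have hmul : ∀ {i j} (ai : 𝒜 i) (aj : 𝒜 j),
      gn _ (GradedMonoid.GMul.mul (A := fun i => 𝒜 i) ai aj) = gn _ ai * gn _ aj := by
    intro i j ai aj
    show LaurentPolynomial.C (mkn (i + j) (GradedMonoid.GMul.mul (A := fun i => 𝒜 i) ai aj)) *
      LaurentPolynomial.T ((i + j : ℕ) : ℤ) = (LaurentPolynomial.C (mkn i ai) * LaurentPolynomial.T (i : ℤ)) *
        (LaurentPolynomial.C (mkn j aj) * LaurentPolynomial.T (j : ℤ))
    rw [show mkn (i + j) (GradedMonoid.GMul.mul (A := fun i => 𝒜 i) ai aj) = mkn i ai * mkn j aj from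
      val_injective _ (by
        rw [val_mul, hval, hval, hval, Localization.mk_mul]
        exact congrArg₂ Localization.mk rfl (Subtype.ext (pow_add _ _ _))),
      map_mul, Nat.cast_add, LaurentPolynomial.T_add]
    ring
  let G₀ : A →+* LaurentPolynomial (Away 𝒜 f) :=
    (DirectSum.toSemiring gn hone hmul).comp (DirectSum.decomposeRingEquiv 𝒜).toRingHom
  have hG₀ : ∀ n (x : A) (h : x ∈ 𝒜 n),
      G₀ x = LaurentPolynomial.C (mkn n ⟨x, h⟩) * LaurentPolynomial.T (n : ℤ) := fun n x h => by
    show DirectSum.toSemiring gn hone hmul (DirectSum.decompose 𝒜 x) = _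
    rw [DirectSum.decompose_of_mem 𝒜 h, DirectSum.toSemiring_of]
    rfl
  have hG₀f : G₀ f = LaurentPolynomial.T 1 := by
    rw [hG₀ 1 f hf, show mkn 1 ⟨f, hf⟩ = 1 from val_injective _ (by
      rw [hval, val_one, Localization.mk_eq_mk', IsLocalization.mk'_eq_iff_eq_mul, one_mul]
      simp), map_one, one_mul, Nat.cast_one]
  let G : Localization.Away f →+* LaurentPolynomial (Away 𝒜 f) :=
    IsLocalization.Away.lift f (g := G₀) (by rw [hG₀f]; exact LaurentPolynomial.isUnit_T 1)
  have hG : ∀ a, G (algebraMap A _ a) = G₀ a := fun a => IsLocalization.Away.lift_eq f _ a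
  have hFC : ∀ x, F (LaurentPolynomial.C x) = algebraMap (Away 𝒜 f) (Localization.Away f) x :=
    fun x => LaurentPolynomial.eval₂_C _ _ x
  have hFT : ∀ n : ℕ, F (LaurentPolynomial.T (n : ℤ)) = algebraMap A _ (f ^ n) := fun n => by
    rw [LaurentPolynomial.eval₂_T, zpow_natCast, Units.val_pow_eq_pow_val, map_pow]
    rfl
  have hFG : F.comp G = RingHom.id _ := by
    refine IsLocalization.ringHom_ext (Submonoid.powers f) (RingHom.ext fun a => ?_)
    simp only [RingHom.comp_apply, RingHom.id_apply, hG]
    induction a using DirectSum.Decomposition.inductionOn 𝒜 with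
    | zero => simp
    | @homogeneous n a =>
      rw [hG₀ n a a.2, map_mul, hFC, hFT, HomogeneousLocalization.algebraMap_apply, hval,
        Localization.mk_eq_mk', IsLocalization.mk'_spec]
    | add a b ha hb => simp [map_add, ha, hb]
  have hGθ : ∀ x, G (algebraMap (Away 𝒜 f) (Localization.Away f) x) = LaurentPolynomial.C x := by
    intro x
    obtain ⟨n, a, ha, rfl⟩ := Away.mk_surjective 𝒜 hf x
    have ha' : a ∈ 𝒜 n := by simpa using ha
    have h : algebraMap (Away 𝒜 f) (Localization.Away f) (Away.mk 𝒜 hf n a ha) *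
        algebraMap A _ (f ^ n) = algebraMap A _ a := by
      rw [HomogeneousLocalization.algebraMap_apply, Away.val_mk, Localization.mk_eq_mk',
        IsLocalization.mk'_spec]
    have h2 := congrArg G h
    rw [map_mul, hG, hG, map_pow, hG₀f, LaurentPolynomial.T_pow, mul_one, hG₀ n a ha'] at h2
    exact (LaurentPolynomial.isUnit_T (n : ℤ)).mul_left_inj.1 h2
  have hGF : G.comp F = RingHom.id _ := by
    refine IsLocalization.ringHom_ext (Submonoid.powers (Polynomial.X : Polynomial (Away 𝒜 f)))
      (Polynomial.ringHom_ext (fun x => ?_) ?_)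
    · simp only [RingHom.comp_apply, RingHom.id_apply, LaurentPolynomial.algebraMap_eq_toLaurent,
        Polynomial.toLaurent_C, hFC, hGθ]
    · simp only [RingHom.comp_apply, RingHom.id_apply, LaurentPolynomial.algebraMap_eq_toLaurent,
        Polynomial.toLaurent_X]
      rw [show (1 : ℤ) = ((1 : ℕ) : ℤ) from rfl, hFT, hG, pow_one, hG₀f]
      rfl
  exact ⟨RingEquiv.ofRingHom F G hFG hGF, hFC⟩

theorem exists_degOne (hgen : (HomogeneousIdeal.irrelevant 𝒜).toIdeal = Ideal.span (𝒜 1 : Set A))
    (P : Ideal A) (hP : ¬ (HomogeneousIdeal.irrelevant 𝒜).toIdeal ≤ P) : ∃ f ∈ 𝒜 1, f ∉ P := by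
  by_contra h
  push Not at h
  exact hP (hgen ▸ Ideal.span_le.2 h)

end


/-- Over an affine base Spec R: let S be a graded R-algebra whose irrelevant ideal is generated by its
degree-one elements, E the pointed affine cone of S and π : E → X = Proj S the canonical retraction
(the morphism restricting on each chart D(f), f homogeneous of positive degree, to Spec S_f → Spec
S_(f) → Proj S). Then π is of finite type, and for every point x of X the fibre of π at x is
isomorphic over the residue field κ(x) to Spec κ(x)[T, T⁻¹]. -/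
theorem result {R A : Type u} [CommRing R] [CommRing A] [Algebra R A] (𝒜 : ℕ → Submodule R A) [GradedAlgebra 𝒜]
    (hgen : (HomogeneousIdeal.irrelevant 𝒜).toIdeal = Ideal.span (𝒜 1 : Set A))
    (π : (Cone.pointed 𝒜 : Scheme.{u}) ⟶ Proj 𝒜)
    (hπ : ∀ (d : ℕ) (f : A) (hd : 0 < d) (hf : f ∈ 𝒜 d),
        Cone.chart hf hd ≫ π =
          Spec.map (CommRingCat.ofHom (algebraMap (HomogeneousLocalization.Away 𝒜 f) (Localization.Away f))) ≫
            Proj.awayι 𝒜 f hf hd)
    (x : Proj 𝒜) :
    LocallyOfFiniteType π ∧ QuasiCompact π ∧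
      ∃ e : pullback π ((Proj 𝒜).fromSpecResidueField x) ≅
          Spec (CommRingCat.of (LaurentPolynomial ((Proj 𝒜).residueField x))),
        e.hom ≫ Spec.map (CommRingCat.ofHom (algebraMap ((Proj 𝒜).residueField x)
          (LaurentPolynomial ((Proj 𝒜).residueField x)))) = pullback.snd π ((Proj 𝒜).fromSpecResidueField x) := by
  open Groth.Agent.Lib.ProjGlue in
  classical
  refine ⟨?_, ?_, ?_⟩
  · let 𝒰 : (Cone.pointed 𝒜 : Scheme.{u}).OpenCover := .mkOfCovers {f : A // f ∈ 𝒜 1}
      (fun q => Spec (.of (Localization.Away q.1))) (fun q => Cone.chart q.2 Nat.one_pos)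
      (fun y => by
        obtain ⟨f, hf, hfy⟩ := exists_degOne 𝒜 hgen y.1.asIdeal (fun h => y.2 h)
        have : y.1 ∈ Set.range (PrimeSpectrum.comap (algebraMap A (Localization.Away f))) := by
          rw [PrimeSpectrum.localization_away_comap_range (Localization.Away f) f]
          exact hfy
        obtain ⟨z, hz⟩ := this
        refine ⟨⟨f, hf⟩, z, (Cone.pointed 𝒜).ι.isOpenEmbedding.injective ?_⟩
        rw [← Scheme.Hom.comp_apply, ConeGlue.chart_ι Nat.one_pos hf]
        exact hz)
      (fun q => inferInstance)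
    refine IsZariskiLocalAtSource.of_openCover (P := @LocallyOfFiniteType) 𝒰 fun q => ?_
    change LocallyOfFiniteType (Cone.chart q.2 Nat.one_pos ≫ π)
    rw [hπ 1 q.1 Nat.one_pos q.2]
    obtain ⟨e, he⟩ := exists_equiv 𝒜 q.2
    have hfin : (algebraMap (Away 𝒜 q.1) (Localization.Away q.1)).FiniteType := by
      have hC : (LaurentPolynomial.C : Away 𝒜 q.1 →+* LaurentPolynomial (Away 𝒜 q.1)).FiniteType := by
        have : Algebra.FiniteType (Away 𝒜 q.1) (LaurentPolynomial (Away 𝒜 q.1)) := inferInstance
        exact RingHom.finiteType_algebraMap.2 this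
      have := (RingHom.FiniteType.of_surjective e.toRingHom e.surjective).comp hC
      rwa [show e.toRingHom.comp LaurentPolynomial.C = algebraMap (Away 𝒜 q.1) (Localization.Away q.1)
        from RingHom.ext he] at this
    haveI : LocallyOfFiniteType
        (Spec.map (CommRingCat.ofHom (algebraMap (Away 𝒜 q.1) (Localization.Away q.1)))) :=
      (HasRingHomProperty.Spec_iff (P := @LocallyOfFiniteType)).2 hfin
    infer_instance
  · haveI := ConeGlue.isAffineHom hπ
    infer_instance
  · let q : ProjectiveSpectrum 𝒜 := x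
    obtain ⟨f, hf, hfx⟩ := exists_degOne 𝒜 hgen q.asHomogeneousIdeal.toIdeal q.not_irrelevant_le
    let κ := (Proj 𝒜).residueField x
    let aι := Proj.awayι 𝒜 f hf Nat.one_pos
    have hxr : x ∈ aι.opensRange := by rw [Proj.opensRange_awayι]; exact hfx
    let l : Spec κ ⟶ Spec (CommRingCat.of (Away 𝒜 f)) :=
      IsOpenImmersion.lift aι ((Proj 𝒜).fromSpecResidueField x) (by
        rw [Scheme.range_fromSpecResidueField]
        simpa using hxr)
    let χ : CommRingCat.of (Away 𝒜 f) ⟶ κ := Spec.preimage l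
    have hl : Spec.map χ ≫ aι = (Proj 𝒜).fromSpecResidueField x := by
      rw [Spec.map_preimage]
      exact IsOpenImmersion.lift_fac _ _ _
    letI algκ : Algebra (Away 𝒜 f) κ := χ.hom.toAlgebra
    obtain ⟨e, he⟩ := exists_equiv 𝒜 hf
    let eA : LaurentPolynomial (Away 𝒜 f) ≃ₐ[Away 𝒜 f] Localization.Away f :=
      AlgEquiv.ofRingEquiv (f := e) he
    let ψ : κ ⊗[Away 𝒜 f] Localization.Away f ≃ₐ[κ] LaurentPolynomial κ :=
      (Algebra.TensorProduct.congr (AlgEquiv.refl : κ ≃ₐ[κ] κ) eA.symm).trans
        (AddMonoidAlgebra.scalarTensorEquiv (Away 𝒜 f) κ)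
    -- the affine square
    have h2 := isPullback_SpecMap_of_isPushout _ _ _ _
      (CommRingCat.isPushout_tensorProduct (Away 𝒜 f) κ (Localization.Away f))
    have h1 : IsPullback (Spec.map (CommRingCat.ofHom (algebraMap (Away 𝒜 f) (Localization.Away f))))
        (Cone.chart hf Nat.one_pos) aι π := by
      refine IsOpenImmersion.isPullback _ _ _ _ (hπ 1 f Nat.one_pos hf) ?_
      rw [Proj.opensRange_awayι, ConeGlue.preimage_basicOpen hπ Nat.one_pos hf]
      ext y
      change (Cone.pointed 𝒜).ι y ∈ Cone.coneOpen f ↔ y ∈ Set.range (Cone.chart hf Nat.one_pos)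
      constructor
      · intro hy
        have : y.1 ∈ Set.range (PrimeSpectrum.comap (algebraMap A (Localization.Away f))) := by
          rw [PrimeSpectrum.localization_away_comap_range (Localization.Away f) f]
          exact hy
        obtain ⟨z, hz⟩ := this
        refine ⟨z, (Cone.pointed 𝒜).ι.isOpenEmbedding.injective ?_⟩
        rw [← Scheme.Hom.comp_apply, ConeGlue.chart_ι Nat.one_pos hf]
        exact hz
      · rintro ⟨z, rfl⟩
        rw [← Scheme.Hom.comp_apply, ConeGlue.chart_ι Nat.one_pos hf]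
        have : PrimeSpectrum.comap (algebraMap A (Localization.Away f)) z ∈
            (PrimeSpectrum.basicOpen f : Set (PrimeSpectrum A)) := by
          rw [← PrimeSpectrum.localization_away_comap_range (Localization.Away f) f]
          exact ⟨z, rfl⟩
        exact this
    have h3 := h2.flip.paste_horiz h1.flip
    rw [show Spec.map (CommRingCat.ofHom (algebraMap (Away 𝒜 f) κ)) ≫ aι =
      (Proj 𝒜).fromSpecResidueField x from hl] at h3
    refine ⟨h3.isoPullback.symm ≪≫ asIso (Spec.map ψ.toRingEquiv.toCommRingCatIso.inv), ?_⟩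
    rw [Iso.trans_hom, Iso.symm_hom, asIso_hom, Category.assoc, Iso.inv_comp_eq,
      h3.isoPullback_hom_snd, ← Spec.map_comp]
    congr 1
    ext z
    exact (ψ.symm.commutes z)

end Groth.Agent.S3576
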