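import Groth.Statements.S3578


set_option autoImplicit false
universe u
open EGA2

namespace Groth.Agent.S3578

/-- Via the correspondence between closed subsets of Proj S and radical graded ideals of S_+: let S be a
graded ring and Z a closed subset of Proj S, with J = S_+ ∩ (vanishing ideal of Z). Then Z is
irreducible if and only if J is a prime ideal of the ring-without-unit S_+: J ≠ S_+ and a product of
two elements of S_+ lies in J only if one factor does. -/
theorem result {R A : Type u} [CommRing R] [CommRing A] [Algebra R A] (𝒜 : ℕ → Submodule R A) [GradedAlgebra 𝒜]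
    (Z : Set (ProjectiveSpectrum 𝒜)) (hZ : IsClosed Z) :
    IsIrreducible Z ↔
      (¬ (HomogeneousIdeal.irrelevant 𝒜).toIdeal ≤ (ProjectiveSpectrum.vanishingIdeal Z).toIdeal ∧
        ∀ f ∈ (HomogeneousIdeal.irrelevant 𝒜).toIdeal, ∀ g ∈ (HomogeneousIdeal.irrelevant 𝒜).toIdeal,
          f * g ∈ (ProjectiveSpectrum.vanishingIdeal Z).toIdeal →
            f ∈ (ProjectiveSpectrum.vanishingIdeal Z).toIdeal ∨ g ∈ (ProjectiveSpectrum.vanishingIdeal Z).toIdeal) := by
  have hZ' : ProjectiveSpectrum.zeroLocus 𝒜 (ProjectiveSpectrum.vanishingIdeal Z : Set A) = Z := by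
    rw [ProjectiveSpectrum.zeroLocus_vanishingIdeal_eq_closure, hZ.closure_eq]
  constructor
  · rintro ⟨⟨x, hx⟩, hirr⟩
    refine ⟨fun h => x.not_irrelevant_le (fun a ha => ?_), fun f _ g _ hfg => ?_⟩
    · exact (ProjectiveSpectrum.mem_vanishingIdeal Z a).1 (h ha) x hx
    · have hsub : Z ⊆ ProjectiveSpectrum.zeroLocus 𝒜 {f} ∪ ProjectiveSpectrum.zeroLocus 𝒜 {g} := by
        rw [← ProjectiveSpectrum.zeroLocus_singleton_mul]
        intro y hy
        exact fun a ha => by
          rw [Set.mem_singleton_iff.1 ha]; exact (ProjectiveSpectrum.mem_vanishingIdeal Z _).1 hfg y hy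
      rcases (isPreirreducible_iff_isClosed_union_isClosed.1 hirr) _ _ (ProjectiveSpectrum.isClosed_zeroLocus 𝒜 _)
        (ProjectiveSpectrum.isClosed_zeroLocus 𝒜 _) hsub with h | h
      · exact .inl ((ProjectiveSpectrum.mem_vanishingIdeal Z _).2 fun y hy => h hy rfl)
      · exact .inr ((ProjectiveSpectrum.mem_vanishingIdeal Z _).2 fun y hy => h hy rfl)
  · rintro ⟨hne, hprime⟩
    refine ⟨?_, isPreirreducible_iff_isClosed_union_isClosed.2 fun z₁ z₂ hz₁ hz₂ hsub => ?_⟩
    · by_contra h
      rw [Set.not_nonempty_iff_eq_empty] at h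
      refine hne ?_
      rw [h, ProjectiveSpectrum.vanishingIdeal_univ]
      exact fun a _ => trivial
    · have pick : ∀ z : Set (ProjectiveSpectrum 𝒜), IsClosed z → ¬ Z ⊆ z →
          ∃ a ∈ (HomogeneousIdeal.irrelevant 𝒜).toIdeal,
            a ∉ (ProjectiveSpectrum.vanishingIdeal Z).toIdeal ∧ ∀ y ∈ z, a ∈ y.asHomogeneousIdeal.toIdeal := by
        intro z hz hnz
        obtain ⟨x, hxZ, hxz⟩ := Set.not_subset.1 hnz
        obtain ⟨s, rfl⟩ := (ProjectiveSpectrum.isClosed_iff_zeroLocus 𝒜 z).1 hz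
        obtain ⟨a, has, hax⟩ := Set.not_subset.1 hxz
        obtain ⟨t, ht, htx⟩ := SetLike.not_le_iff_exists.1 x.not_irrelevant_le
        refine ⟨a * t, Ideal.mul_mem_left _ _ ht, fun h => ?_, fun y hy => Ideal.mul_mem_right _ _ (hy has)⟩
        rcases x.isPrime.mem_or_mem ((ProjectiveSpectrum.mem_vanishingIdeal Z _).1 h x hxZ) with h' | h'
        · exact hax h'
        · exact htx h'
      by_contra hcon
      push Not at hcon
      obtain ⟨a, ha, ha', ha''⟩ := pick z₁ hz₁ hcon.1
      obtain ⟨b, hb, hb', hb''⟩ := pick z₂ hz₂ hcon.2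
      have hab : a * b ∈ (ProjectiveSpectrum.vanishingIdeal Z).toIdeal :=
        (ProjectiveSpectrum.mem_vanishingIdeal Z _).2 fun y hy => by
          rcases hsub hy with h | h
          · exact Ideal.mul_mem_right _ _ (ha'' y h)
          · exact Ideal.mul_mem_left _ _ (hb'' y h)
      rcases hprime a ha b hb hab with h | h
      · exact ha' h
      · exact hb' h

end Groth.Agent.S3578
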