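import Groth.Statements.S3583


set_option autoImplicit false
universe u
open CategoryTheory AlgebraicGeometry Opposite
open EGA2

namespace Groth.Agent.S3583

/-- In the form stated after its proof: let f : X → S and f' : X' → S be affine morphisms and h : X' → X
an S-morphism such that the O_S-algebra homomorphism A(h) : f_*O_X → f'_*O_{X'} is surjective (as a
map of quasi-coherent O_S-modules, i.e. on sections over every affine open of S). Then h is a closed
immersion. -/
theorem result {X X' S : Scheme.{u}} (f : X ⟶ S) [IsAffineHom f]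
    (f' : X' ⟶ S) [IsAffineHom f'] (h : X' ⟶ X) (w : h ≫ f = f')
    (hsurj : ∀ U : S.affineOpens, Function.Surjective ((AffAlg.algHom f f' h w).app (op U.1)).hom) :
    IsClosedImmersion h := by
  rw [IsZariskiLocalAtTarget.iff_of_iSup_eq_top (P := @IsClosedImmersion)
    (fun U : S.affineOpens => f ⁻¹ᵁ U.1)
    (top_le_iff.mp fun x _ => by
      obtain ⟨U, hU, hx, -⟩ := exists_isAffineOpen_mem_and_subset (U := ⊤) (x := f x) trivial
      exact TopologicalSpace.Opens.mem_iSup.mpr ⟨⟨U, hU⟩, hx⟩)]
  intro U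
  subst w
  haveI : IsAffine (f ⁻¹ᵁ U.1 : X.Opens) := U.2.preimage f
  haveI : IsAffine (h ⁻¹ᵁ (f ⁻¹ᵁ U.1) : X'.Opens) := by
    rw [← Scheme.Hom.comp_preimage]
    exact U.2.preimage (h ≫ f)
  apply IsClosedImmersion.of_surjective_of_isAffine
  have key : ∀ (W : X.Opens), W = f ⁻¹ᵁ U.1 → Function.Surjective (h.app W) := by
    rintro W rfl
    have h1 := hsurj U
    set d := eqToHom (by rfl : (TopCat.Presheaf.pushforward CommRingCat.{u} f.base).obj
        ((TopCat.Presheaf.pushforward CommRingCat.{u} h.base).obj X'.presheaf) =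
      AffAlg.alg (h ≫ f)) with hd
    have h2 : Function.Surjective (⇑(d.app (op U.1)).hom ∘ ⇑(h.app (f ⁻¹ᵁ U.1)).hom) := h1
    exact Function.Surjective.of_comp_left h2 (ConcreteCategory.bijective_of_isIso (d.app (op U.1))).1
  have h2 : Function.Surjective ⇑(h.app ((f ⁻¹ᵁ U.1).ι ''ᵁ ⊤) ≫
      X'.presheaf.map (eqToHom (image_morphismRestrict_preimage h (f ⁻¹ᵁ U.1) ⊤)).op).hom := by
    rw [CommRingCat.hom_comp, RingHom.coe_comp]
    exact (ConcreteCategory.bijective_of_isIso
      (X'.presheaf.map (eqToHom (image_morphismRestrict_preimage h (f ⁻¹ᵁ U.1) ⊤)).op)).2.comp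
      (key _ (Scheme.Opens.ι_image_top _))
  rw [morphismRestrict_appTop]
  exact h2

end Groth.Agent.S3583
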