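import Groth.Statements.S3585
import Groth.Agent.Lib.ProjSub.MapZero
import Groth.Agent.Lib.ProjMor.Conv
import Groth.Agent.Lib.HProj.QuasiProj

set_option autoImplicit false
universe u
open CategoryTheory CategoryTheory.Limits AlgebraicGeometry
open EGA2

namespace Groth.Agent.S3585

/-- Let A be a ring and f : X → Spec A a proper morphism, and suppose X carries an invertible O_X-module
which is ample relative to f (so f is quasi-projective). Then f is projective: X is isomorphic over
Spec A to Proj S for some graded A-algebra S whose degree-zero part is the image of A and whose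
irrelevant ideal is generated by finitely many elements of degree one. -/
theorem result {A : Type u} [CommRing A] {X : Scheme.{u}}
    (f : X ⟶ Spec (CommRingCat.of A)) [IsProper f]
    (L : X.Modules) (hL : PicF.IsInvertible L) (hamp : RelAmple.IsRelAmple f L) :
    ∃ (S : Type u) (_ : CommRing S) (_ : Algebra A S) (𝒮 : ℕ → Submodule A S) (_ : GradedAlgebra 𝒮) (s : Finset S),
      Function.Surjective (algebraMap A (𝒮 0)) ∧ (∀ g ∈ s, g ∈ 𝒮 1) ∧
      (HomogeneousIdeal.irrelevant 𝒮).toIdeal = Ideal.span (s : Set S) ∧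
      ∃ e : X ≅ Proj 𝒮, e.hom ≫ Proj.toSpecZero 𝒮 ≫ Spec.map (CommRingCat.ofHom (algebraMap A (𝒮 0))) = f := by
  classical
  obtain ⟨n₀, hn⟩ := Groth.Agent.Lib.ProjMor.Conv.eventually_veryAmple_pow f
    ((Groth.Agent.Lib.Ample.RelAmple.isRelAmple_iff_isAmple f).1 hamp)
  obtain ⟨r, j, hj, hjf, -⟩ := hn n₀ le_rfl
  haveI := hj
  haveI := Groth.Agent.Lib.ProjSpace.BaseChange.isProper_toBase (n := r) (Spec (CommRingCat.of A))
  haveI : IsProper (j ≫ CohB1.ProjSpaceOver.toBase r (Spec (CommRingCat.of A))) := by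
    rw [show j ≫ CohB1.ProjSpaceOver.toBase r (Spec (CommRingCat.of A)) = f from hjf]; infer_instance
  haveI : IsProper j := IsProper.of_comp j (CohB1.ProjSpaceOver.toBase r (Spec (CommRingCat.of A)))
  haveI : IsClosedImmersion j := IsClosedImmersion.of_isPreimmersion j j.isClosedMap.isClosed_range
  let i : X ⟶ CohB1.ProjSpace r A := j ≫ (Groth.Agent.Lib.ProjSpace.BaseChange.overSpecIso r A).hom
  have hif : i ≫ CohB1.ProjSpace.toSpec r A = f := by
    rw [Category.assoc, Groth.Agent.Lib.ProjSpace.BaseChange.overSpecIso_hom_toSpec]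
    exact hjf
  have hi : IsClosedImmersion i := inferInstance
  let s : Finset (MvPolynomial (Fin (r + 1)) A) := Finset.univ.image MvPolynomial.X
  have hs1 : ∀ g ∈ s, g ∈ CohB1.polyGrading r A 1 := fun g hg => by
    obtain ⟨k, -, rfl⟩ := Finset.mem_image.1 hg
    exact MvPolynomial.isHomogeneous_X A k
  have hs := Groth.Agent.Lib.HProj.QuasiProj.irrelevant_eq_span r A
  obtain ⟨B, hB, hAB, ℬ, hG, φ, hsurj, hφ, e, he, hsc⟩ :=
    @Groth.Agent.Lib.ProjSub.Closed.exists_iso_quot' _ _ _ _ _ _ _ _ i s hi hs hs1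
  have hz : Function.Surjective (algebraMap A (ℬ 0)) := by
    intro b
    obtain ⟨x, hx, hxb⟩ := Groth.Agent.Lib.ProjSub.Closed.exists_preimage_mem φ hsurj b.2
    refine ⟨MvPolynomial.coeff 0 x, Subtype.ext ?_⟩
    change algebraMap A B (MvPolynomial.coeff 0 x) = b
    rw [← hsc, ← hxb]
    congr 1
    exact ((MvPolynomial.totalDegree_eq_zero_iff_eq_C).1 (Nat.le_zero.1 hx.totalDegree_le)).symm
  refine ⟨B, hB, hAB, ℬ, hG, s.image φ, hz, fun g hg => ?_, ?_, e, ?_⟩
  · obtain ⟨g', hg', rfl⟩ := Finset.mem_image.1 hg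
    exact φ.map_mem (hs1 g' hg')
  · refine le_antisymm ?_ (Ideal.span_le.2 fun g hg => ?_)
    · refine le_trans (show _ ≤ ((HomogeneousIdeal.irrelevant (CohB1.polyGrading r A)).map φ).toIdeal from hφ) ?_
      rw [Finset.coe_image]
      change Ideal.map (φ : MvPolynomial (Fin (r + 1)) A →+* B) (HomogeneousIdeal.irrelevant (CohB1.polyGrading r A)).toIdeal ≤ _
      rw [hs, Ideal.map_span]
      exact le_rfl
    · obtain ⟨g', hg', rfl⟩ := Finset.mem_image.1 (Finset.mem_coe.1 hg)
      exact HomogeneousIdeal.mem_irrelevant_of_mem _ one_pos (φ.map_mem (hs1 g' hg'))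
  · have h1 := Groth.Agent.Lib.ProjSub.MapZero.map_toSpecZero φ hφ
    have e0 : CommRingCat.ofHom (algebraMap A (ℬ 0)) = CommRingCat.ofHom (algebraMap A (CohB1.polyGrading r A 0)) ≫
        CommRingCat.ofHom (Groth.Agent.Lib.ProjSub.MapZero.zeroHom φ) := by
      ext a
      exact (hsc a).symm
    rw [e0, Spec.map_comp, ← Category.assoc (Proj.toSpecZero ℬ), ← h1, ← hif, CohB1.ProjSpace.toSpec]
    simp only [← Category.assoc, he]
    rfl

end Groth.Agent.S3585
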