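import Groth.Statements.S3588
import Groth.Agent.Lib.ProjGlue.MapLocal
import Mathlib.AlgebraicGeometry.Morphisms.ClosedImmersion
-- import your own Groth.Agent.* helpers here

set_option autoImplicit false
universe u
open CategoryTheory CategoryTheory.Limits AlgebraicGeometry
open EGA2

namespace Groth.Agent.S3588

open HomogeneousLocalization in
theorem exists_homogeneous_lift {R A B : Type u} [CommRing R] [CommRing A] [Algebra R A]
    {𝒜 : ℕ → Submodule R A} [GradedAlgebra 𝒜] [CommRing B] [Algebra R B] {ℬ : ℕ → Submodule R B} [GradedAlgebra ℬ]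
    (φ : 𝒜 →+*ᵍ ℬ) (hsurj : Function.Surjective φ) {i : ℕ} {b : B} (hb : b ∈ ℬ i) : ∃ a ∈ 𝒜 i, φ a = b := by
  obtain ⟨a, rfl⟩ := hsurj b
  refine ⟨(DirectSum.decompose 𝒜 a i : A), SetLike.coe_mem _, ?_⟩
  rw [GradedRingHom.map_directSumDecompose, DirectSum.decompose_of_mem_same _ hb]

/-- Let S be a graded ring, N_+ the set of nilpotent elements of S_+ (an ideal of S), and S → S/N_+ the
quotient (here: any surjective homomorphism of graded rings φ : S → S' whose kernel is N_+). Then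
the induced morphism Proj S' → Proj S is a closed immersion which is a homeomorphism of the
underlying spaces, and Proj S' is reduced; thus Proj S' is the reduced closed subscheme (Proj
S)_red. -/
theorem result {R A : Type u} [CommRing R] [CommRing A] [Algebra R A] (𝒜 : ℕ → Submodule R A) [GradedAlgebra 𝒜]
    {B : Type u} [CommRing B] [Algebra R B] (ℬ : ℕ → Submodule R B) [GradedAlgebra ℬ]
    (φ : 𝒜 →+*ᵍ ℬ) (hsurj : Function.Surjective φ)
    (hker : ∀ a : A, φ a = 0 ↔ a ∈ (HomogeneousIdeal.irrelevant 𝒜).toIdeal ∧ IsNilpotent a)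
    (hφ : HomogeneousIdeal.irrelevant ℬ ≤ (HomogeneousIdeal.irrelevant 𝒜).map φ) :
    IsClosedImmersion (Proj.map φ hφ) ∧ IsHomeomorph (Proj.map φ hφ).base ∧
      AlgebraicGeometry.IsReduced (Proj ℬ) := by
  open HomogeneousLocalization in
  classical
  have hmem : ∀ {i : ℕ} {x : A}, 0 < i → x ∈ 𝒜 i → x ∈ (HomogeneousIdeal.irrelevant 𝒜).toIdeal := fun hi hx =>
    (HomogeneousIdeal.toIdeal_irrelevant_le _).1 le_rfl _ hi hx
  have hnil : ∀ {i : ℕ} {x : A}, 0 < i → x ∈ 𝒜 i → IsNilpotent (φ x) → φ x = 0 := fun {i x} hi hx ⟨k, hk⟩ => by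
    refine (hker x).2 ⟨hmem hi hx, ?_⟩
    rw [← map_pow] at hk
    exact (((hker _).1 hk).2).of_pow
  have hsur : ∀ (i : ℕ) (s : A), s ∈ 𝒜 i → Function.Surjective (Away.map φ s) := fun i s hs z => by
    obtain ⟨n, b, hb, rfl⟩ := Away.mk_surjective ℬ (φ.map_mem hs) z
    obtain ⟨a, ha, rfl⟩ := exists_homogeneous_lift φ hsurj hb
    exact ⟨Away.mk 𝒜 hs n a ha, Away.map_mk ..⟩
  haveI hcl : IsClosedImmersion (Proj.map φ hφ) :=
    Groth.Agent.Lib.ProjGlue.MapLocal.of_charts φ hφ @IsClosedImmersion fun i s hi hs =>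
      IsClosedImmersion.spec_of_surjective _ (hsur i s hs)
  have hsu : Surjective (Proj.map φ hφ) :=
    Groth.Agent.Lib.ProjGlue.MapLocal.of_charts φ hφ @Surjective fun i s hi hs => ⟨fun p => by
      have hrange := range_comap_of_surjective (Away ℬ (φ s)) (Away.map φ s) (hsur i s hs)
      change p ∈ Set.range (PrimeSpectrum.comap (Away.map φ s))
      rw [hrange]
      refine (PrimeSpectrum.mem_zeroLocus (p : PrimeSpectrum (Away 𝒜 s)) _).2 ?_
      intro z hz
      obtain ⟨n, a, ha, rfl⟩ := Away.mk_surjective 𝒜 hs z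
      rw [SetLike.mem_coe, RingHom.mem_ker, Away.map_mk] at hz
      have hz' := congrArg HomogeneousLocalization.val hz
      rw [Away.val_mk, HomogeneousLocalization.val_zero, Localization.mk_eq_mk',
        IsLocalization.mk'_eq_zero_iff] at hz'
      obtain ⟨⟨_, k, rfl⟩, hk⟩ := hz'
      change φ s ^ k * φ a = 0 at hk
      rw [← map_pow, ← map_mul] at hk
      obtain ⟨N, hN⟩ := ((hker _).1 hk).2
      refine p.isPrime.mem_of_pow_mem (N + 1) ?_
      have h0 : (Away.mk 𝒜 hs n a ha) ^ (N + 1) = 0 := by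
        refine HomogeneousLocalization.val_injective _ ?_
        rw [HomogeneousLocalization.val_pow, Away.val_mk, HomogeneousLocalization.val_zero, Localization.mk_pow,
          Localization.mk_eq_mk', IsLocalization.mk'_eq_zero_iff]
        refine ⟨⟨s ^ (k * (N + 1)), _, rfl⟩, ?_⟩
        change s ^ (k * (N + 1)) * a ^ (N + 1) = 0
        rw [pow_mul, ← mul_pow, pow_succ, hN, zero_mul]
      rw [h0]; exact Ideal.zero_mem _⟩
  have hred : ∀ (i : ℕ) (f : B), 0 < i → f ∈ ℬ i → _root_.IsReduced (Away ℬ f) := fun i f hi hf => ⟨fun z hz => by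
    obtain ⟨k, hk⟩ := hz
    obtain ⟨n, x, hx, rfl⟩ := Away.mk_surjective ℬ hf z
    have hk' := congrArg HomogeneousLocalization.val hk
    rw [HomogeneousLocalization.val_pow, Away.val_mk, HomogeneousLocalization.val_zero, Localization.mk_pow,
      Localization.mk_eq_mk', IsLocalization.mk'_eq_zero_iff] at hk'
    obtain ⟨⟨_, m, rfl⟩, hm⟩ := hk'
    change f ^ m * x ^ k = 0 at hm
    obtain ⟨f', hf', rfl⟩ := exists_homogeneous_lift φ hsurj hf
    obtain ⟨x', hx', rfl⟩ := exists_homogeneous_lift φ hsurj hx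
    have h0 : φ f' * φ x' = 0 := by
      rw [← map_mul]
      refine hnil (i := i + n • i) (by omega) (SetLike.mul_mem_graded hf' hx') ⟨m + k, ?_⟩
      rw [map_mul, mul_pow]
      linear_combination (φ f' ^ k * φ x' ^ m) * hm
    refine HomogeneousLocalization.val_injective _ ?_
    rw [Away.val_mk, HomogeneousLocalization.val_zero, Localization.mk_eq_mk', IsLocalization.mk'_eq_zero_iff]
    exact ⟨⟨φ f', 1, pow_one _⟩, h0⟩⟩
  refine ⟨hcl, ?_, ?_⟩
  · exact isHomeomorph_iff_isEmbedding_surjective.2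
      ⟨(Proj.map φ hφ).isClosedEmbedding.isEmbedding, hsu.surj⟩
  · let 𝒱 : (Proj ℬ).OpenCover := .mkOfCovers (Σ d : ℕ, {a : B // 0 < d ∧ a ∈ ℬ d})
      (fun p => Spec (.of (Away ℬ p.2.1))) (fun p => Proj.awayι ℬ p.2.1 p.2.2.2 p.2.2.1)
      (fun x => by
        obtain ⟨p, hp⟩ := TopologicalSpace.Opens.mem_iSup.1
          ((Groth.Agent.Lib.ProjGlue.MapLocal.iSup_basicOpen_pos (𝒜 := ℬ)).ge (TopologicalSpace.Opens.mem_top x))
        rw [← Proj.opensRange_awayι ℬ p.2.1 p.2.2.2 p.2.2.1] at hp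
        exact ⟨p, hp⟩)
      (fun _ => inferInstance)
    haveI : ∀ p, AlgebraicGeometry.IsReduced (𝒱.X p) := fun p => by
      haveI := hred _ _ p.2.2.1 p.2.2.2
      exact inferInstanceAs (AlgebraicGeometry.IsReduced (Spec (.of (Away ℬ p.2.1))))
    exact IsReduced.of_openCover _ 𝒱

end Groth.Agent.S3588
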