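import Groth.Statements.S3589
import Groth.Agent.Lib.ProjMor.SecKer
import Groth.Agent.Lib.ProjMor.Embed
import Groth.Agent.Lib.TensorMod.QCohInv
-- import your own Groth.Agent.* helpers here

set_option autoImplicit false
universe u
open CategoryTheory CategoryTheory.Limits AlgebraicGeometry
open EGA2

namespace Groth.Agent.S3589

open Groth.Agent.Lib.ProjMor in
theorem coord_data {R : Type u} [CommRing R] (n : ℕ) (s : Spec (CommRingCat.of R) ⟶ CohB1.ProjSpace n R) :
    SheafOfModules.IsQuasicoherent ((Scheme.Modules.pullback s).obj (Twist.twistProjSpace n R 1)) ∧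
      ProjUP.GeneratedBy _ (fun i => ProjUP.pullSec s (Twist.twistProjSpace n R 1) (ProjUP.coord n R i)) := by
  have hcov := Main.cover (Poly.lin_mem n R) (Poly.adjoin_lin n R)
  have hinv : PicF.IsInvertible (Twist.twistProjSpace n R 1) :=
    Groth.Agent.Lib.ProjTilde.Invertible.twist_isInvertible_of_cover (fun x => by
      obtain ⟨c, hc⟩ := hcov x
      exact ⟨c, c.2, hc⟩) 1
  refine ⟨Groth.Agent.Lib.TensorMod.QCohInv.isQCoh_of_isInvertible
    (PicLoc.isInvertible_pullback s hinv), Embed.generatedBy_of_locus _ fun x => ?_⟩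
  by_contra hx
  push_neg at hx
  obtain ⟨c, hc⟩ := hcov (s.base x)
  obtain ⟨m, hm⟩ := Main.exists_preimage (Poly.lin_mem n R) (Poly.adjoin_lin n R) c
  apply hc
  rw [← hm, Poly.lin, Fintype.linearCombination_apply]
  refine Ideal.sum_mem (s.base x).asHomogeneousIdeal.toIdeal fun i _ => ?_
  rw [Algebra.smul_def]
  refine Ideal.mul_mem_left _ _ ?_
  by_contra hi
  refine hx i.down ?_
  rw [Sec.locus_pullback hinv]
  exact Frame.basicOpen_le_locus (⟨MvPolynomial.X i.down, MvPolynomial.isHomogeneous_X R i.down⟩ : CohB1.polyGrading n R 1) hi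

/-- For E = O_Y^{n+1} over an affine base Y = Spec R (injectivity of the correspondence): a section s of
projective n-space over R is determined by the submodule F(s) of R^{n+1} formed by the R-linear
relations among the pulled-back coordinates s^*T_0, …, s^*T_n in the global sections of s^*O(1). -/
theorem result {R : Type u} [CommRing R] (n : ℕ)
    (s₁ s₂ : Spec (CommRingCat.of R) ⟶ CohB1.ProjSpace n R)
    (h₁ : s₁ ≫ CohB1.ProjSpace.toSpec n R = 𝟙 _) (h₂ : s₂ ≫ CohB1.ProjSpace.toSpec n R = 𝟙 _)
    (h : ProjUP.secKernel n R s₁ = ProjUP.secKernel n R s₂) :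
    s₁ = s₂ := by
  obtain ⟨hq1, hg1⟩ := coord_data n s₁
  obtain ⟨hq2, hg2⟩ := coord_data n s₂
  obtain ⟨τ, hτ⟩ := Groth.Agent.Lib.ProjMor.SecKer.exists_iso_of_relations (R := CommRingCat.of R)
    ((Scheme.Modules.pullback s₁).obj (Twist.twistProjSpace n R 1))
    ((Scheme.Modules.pullback s₂).obj (Twist.twistProjSpace n R 1)) _ _ hg1 hg2 fun c => by
      have hc := SetLike.ext_iff.1 h c
      simp only [ProjUP.secKernel, LinearMap.mem_ker, Fintype.linearCombination_apply] at hc
      exact hc
  exact Groth.Agent.Lib.ProjMor.Poly.eq_of_iso n R s₁ s₂ (h₁.trans h₂.symm) τ hτ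

end Groth.Agent.S3589
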