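import Groth.Statements.S3590
import Groth.Agent.Lib.ProjMor.SecKer
import Groth.Agent.Lib.ProjMor.SecKerRank
import Groth.Agent.S3589
-- import your own Groth.Agent.* helpers here

set_option autoImplicit false
universe u
open CategoryTheory CategoryTheory.Limits AlgebraicGeometry
open EGA2

namespace Groth.Agent.S3590

open Groth.Agent.Lib.ProjMor in
theorem isInvertible_coord {R : Type u} [CommRing R] (n : ℕ) (s : Spec (CommRingCat.of R) ⟶ CohB1.ProjSpace n R) :
    PicF.IsInvertible ((Scheme.Modules.pullback s).obj (Twist.twistProjSpace n R 1)) := by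
  refine PicLoc.isInvertible_pullback s (Groth.Agent.Lib.ProjTilde.Invertible.twist_isInvertible_of_cover (fun x => ?_) 1)
  obtain ⟨c, hc⟩ := Main.cover (Poly.lin_mem n R) (Poly.adjoin_lin n R) x
  exact ⟨c, c.2, hc⟩

theorem mem_secKernel {R : Type u} [CommRing R] (n : ℕ) (s : Spec (CommRingCat.of R) ⟶ CohB1.ProjSpace n R)
    (c : Fin (n + 1) → R) : c ∈ ProjUP.secKernel n R s ↔
      ∑ i, (Scheme.ΓSpecIso (CommRingCat.of R)).inv.hom (c i) •
        ProjUP.pullSec s (Twist.twistProjSpace n R 1) (ProjUP.coord n R i) = 0 := by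
  simp only [ProjUP.secKernel, LinearMap.mem_ker, Fintype.linearCombination_apply]
  rfl

/-- For E = O_Y^{n+1} over an affine base Y = Spec R (image of the correspondence): a submodule F of
R^{n+1} is the module of relations among the pulled-back coordinates of some section of projective
n-space over R if and only if the quotient R^{n+1}/F is an invertible R-module (projective, of rank
one at every prime). -/
theorem result {R : Type u} [CommRing R] (n : ℕ)
    (F : Submodule R (Fin (n + 1) → R)) :
    (∃ s : Spec (CommRingCat.of R) ⟶ CohB1.ProjSpace n R,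
        s ≫ CohB1.ProjSpace.toSpec n R = 𝟙 _ ∧ ProjUP.secKernel n R s = F) ↔
      (Module.Projective R ((Fin (n + 1) → R) ⧸ F) ∧
        ∀ p : PrimeSpectrum R, Module.finrank (Localization.AtPrime p.asIdeal)
          (LocalizedModule p.asIdeal.primeCompl ((Fin (n + 1) → R) ⧸ F)) = 1) := by
  constructor
  · rintro ⟨s, -, hF⟩
    obtain ⟨hq, hg⟩ := Groth.Agent.S3589.coord_data n s
    exact Groth.Agent.Lib.ProjMor.SecKerRank.projective_rankOne (R := CommRingCat.of R) _
      (isInvertible_coord n s) _ hg F fun c => by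
        rw [← hF]; exact mem_secKernel n s c
  · rintro ⟨hproj, hrk⟩
    obtain ⟨L, hL, t, hgen, hc⟩ :=
      @Groth.Agent.Lib.ProjMor.SecKerRank.exists_invertible (CommRingCat.of R) (n + 1) F hproj hrk
    obtain ⟨r, hr, τ, hτ⟩ := Groth.Agent.Lib.ProjMor.Poly.exists_map n R (𝟙 _) L hL t hgen
    refine ⟨r, hr, ?_⟩
    ext c
    have hinj : Function.Injective (τ.hom.app ⊤) := (ConcreteCategory.bijective_of_isIso _).1
    rw [mem_secKernel, hc c, ← hinj.eq_iff, map_zero, map_sum]
    simp only [Scheme.Modules.Hom.app_smul, hτ]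

end Groth.Agent.S3590
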