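import Groth.Statements.S3593
import Mathlib.RingTheory.GradedAlgebra.HomogeneousLocalization
import Mathlib.Algebra.Polynomial.AlgebraMap

set_option autoImplicit false
universe u
open CategoryTheory CategoryTheory.Limits AlgebraicGeometry
open EGA2

namespace Groth.Agent.S3593
open HomogeneousLocalization DirectSum


/-- Let S be a graded R-algebra, Ŝ a graded R-algebra with a graded homomorphism φ : S → Ŝ making Ŝ an
S-algebra, and z an element of Ŝ of degree one such that the S-algebra map S[X] → Ŝ, X ↦ z, is
bijective (so Ŝ = S[z] with z in degree one, the graded ring of the projective cone of S). Then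
there is a ring isomorphism S ≅ Ŝ_(z) onto the degree-zero localization at z, sending a homogeneous
a of degree n to φ(a)/z^n. (This is the isomorphism that identifies the affine cone Spec S with the
open D_+(z) of the projective cone Proj Ŝ; that identification itself is not asserted here.) -/
theorem result {R A : Type u} [CommRing R] [CommRing A] [Algebra R A] (𝒜 : ℕ → Submodule R A) [GradedAlgebra 𝒜]
    {B : Type u} [CommRing B] [Algebra R B] (ℬ : ℕ → Submodule R B) [GradedAlgebra ℬ]
    [Algebra A B] [IsScalarTower R A B] (φ : 𝒜 →+*ᵍ ℬ) (hφ : ∀ a : A, φ a = algebraMap A B a)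
    (z : B) (hz : z ∈ ℬ 1) (hhat : Function.Bijective (Polynomial.aeval (R := A) z)) :
    ∃ θ : A ≃+* HomogeneousLocalization.Away ℬ z,
      ∀ (n : ℕ) (a : A), a ∈ 𝒜 n → (θ a).val = Localization.mk (φ a) ⟨z ^ n, pow_mem (Submonoid.mem_powers z) n⟩ := by
  classical
  let mkn : ∀ n, 𝒜 n → Away ℬ z := fun n x =>
    Away.mk ℬ hz n (φ (x : A)) (by rw [smul_eq_mul, mul_one]; exact φ.map_mem x.2)
  have hval : ∀ n (x : 𝒜 n), (mkn n x).val =
      Localization.mk (φ (x : A)) ⟨z ^ n, pow_mem (Submonoid.mem_powers z) n⟩ := fun n x =>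
    Away.val_mk ℬ n hz _ _
  let gn : ∀ n, 𝒜 n →+ Away ℬ z := fun n => AddMonoidHom.mk' (mkn n) (fun x y => by
    apply val_injective
    rw [val_add, hval, hval, hval, Localization.add_mk_self, Submodule.coe_add]
    exact congrArg₂ Localization.mk (map_add φ.toRingHom (x : A) (y : A)) rfl)
  have hone : gn 0 (GradedMonoid.GOne.one (A := fun i => 𝒜 i)) = 1 := by
    apply val_injective
    show (mkn 0 (GradedMonoid.GOne.one (A := fun i => 𝒜 i))).val = _
    rw [hval, val_one, ← Localization.mk_one]
    exact congrArg₂ Localization.mk (map_one φ.toRingHom) (Subtype.ext (pow_zero _))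
  have hmul : ∀ {i j} (ai : 𝒜 i) (aj : 𝒜 j),
      gn _ (GradedMonoid.GMul.mul (A := fun i => 𝒜 i) ai aj) = gn _ ai * gn _ aj := by
    intro i j ai aj
    apply val_injective
    show (mkn (i + j) (GradedMonoid.GMul.mul (A := fun i => 𝒜 i) ai aj)).val = (mkn i ai * mkn j aj).val
    rw [val_mul, hval, hval, hval, Localization.mk_mul]
    refine congrArg₂ Localization.mk ?_ (Subtype.ext (pow_add _ _ _))
    exact map_mul φ.toRingHom (ai : A) (aj : A)
  let θ : A →+* Away ℬ z :=
    (DirectSum.toSemiring gn hone hmul).comp (DirectSum.decomposeRingEquiv 𝒜).toRingHom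
  have hθval : ∀ n (x : A), x ∈ 𝒜 n →
      (θ x).val = Localization.mk (φ x) ⟨z ^ n, pow_mem (Submonoid.mem_powers z) n⟩ := fun n x h => by
    have : θ x = mkn n ⟨x, h⟩ := by
      show DirectSum.toSemiring gn hone hmul (DirectSum.decompose 𝒜 x) = _
      rw [DirectSum.decompose_of_mem 𝒜 h, DirectSum.toSemiring_of]
      rfl
    rw [this, hval]
  let e := AlgEquiv.ofBijective (Polynomial.aeval (R := A) z) hhat
  let g : B →+* A := (Polynomial.aeval (R := A) (1 : A)).toRingHom.comp e.symm.toRingEquiv.toRingHom
  have hgφ : ∀ a, g (φ a) = a := fun a => by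
    simp only [g, hφ, RingHom.comp_apply]
    show Polynomial.aeval (1 : A) (e.symm (algebraMap A B a)) = a
    rw [AlgEquiv.commutes, AlgHom.commutes]
    rfl
  have hgz : g z = 1 := by
    have : e.symm z = Polynomial.X := e.injective (by
      rw [AlgEquiv.apply_symm_apply]; exact (Polynomial.aeval_X z).symm)
    simp only [g, RingHom.comp_apply]
    show Polynomial.aeval (1 : A) (e.symm z) = 1
    rw [this, Polynomial.aeval_X]
  let gL : Localization.Away z →+* A :=
    IsLocalization.Away.lift z (g := g) (by rw [hgz]; exact isUnit_one)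
  have hgL : ∀ (b : B) (n : ℕ),
      gL (Localization.mk b ⟨z ^ n, pow_mem (Submonoid.mem_powers z) n⟩) = g b := fun b n => by
    rw [Localization.mk_eq_mk']
    simp only [gL, IsLocalization.Away.lift, IsLocalization.lift_mk'_spec, map_pow, hgz, one_pow,
      one_mul]
  have hleft : ∀ a, gL (θ a).val = a := by
    intro a
    induction a using DirectSum.Decomposition.inductionOn 𝒜 with
    | zero => rw [map_zero, val_zero, map_zero]
    | @homogeneous n a => rw [hθval n a a.2, hgL, hgφ]
    | add a b ha hb => rw [map_add, val_add, map_add, ha, hb]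
  have hsurj : Function.Surjective θ := by
    intro w
    obtain ⟨n, b, hb, rfl⟩ := Away.mk_surjective ℬ hz w
    have key : ∀ b : B, ∃ a, (θ a).val =
        Localization.mk (decompose ℬ b n : B) ⟨z ^ n, pow_mem (Submonoid.mem_powers z) n⟩ := by
      intro b
      obtain ⟨P, rfl⟩ := hhat.2 b
      induction P using Polynomial.induction_on' with
      | add P Q hP hQ =>
        obtain ⟨a, ha⟩ := hP
        obtain ⟨a', ha'⟩ := hQ
        refine ⟨a + a', ?_⟩
        rw [map_add θ, val_add, ha, ha', Localization.add_mk_self, map_add, decompose_add,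
          DirectSum.add_apply, Submodule.coe_add]
      | monomial i c =>
        have hzi : z ^ i ∈ ℬ i := by simpa using SetLike.pow_mem_graded i hz
        rw [Polynomial.aeval_monomial, ← hφ, coe_decompose_mul_of_right_mem ℬ n hzi]
        split_ifs with hin
        · refine ⟨decompose 𝒜 c (n - i), ?_⟩
          rw [hθval (n - i) _ (SetLike.coe_mem _), GradedRingHom.map_directSumDecompose,
            Localization.mk_eq_mk_iff, Localization.r_iff_exists]
          refine ⟨1, ?_⟩
          simp only [OneMemClass.coe_one, one_mul]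
          rw [mul_comm _ (z ^ i), ← mul_assoc (z ^ (n - i)), ← pow_add, Nat.sub_add_cancel hin]
        · exact ⟨0, by rw [map_zero, val_zero, Localization.mk_zero]⟩
    obtain ⟨a, ha⟩ := key b
    refine ⟨a, val_injective _ ?_⟩
    rw [ha, Away.val_mk, decompose_of_mem_same ℬ (show b ∈ ℬ n by simpa using hb)]
  exact ⟨RingEquiv.ofBijective θ ⟨Function.LeftInverse.injective (g := fun w : Away ℬ z => gL w.val) hleft, hsurj⟩,
    hθval⟩

end Groth.Agent.S3593
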