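import Groth.Statements.S3595
import Groth.Agent.Lib.ProjGlue.Basic
-- import your own Groth.Agent.* helpers here

set_option autoImplicit false
universe u
open CategoryTheory CategoryTheory.Limits AlgebraicGeometry
open EGA2

namespace Groth.Agent.S3595

/-- Let φ : S′ → S be a homomorphism of graded rings and G(φ) ⊆ Proj S the open union of the basic opens
D_+(φ(f′)) for f′ ∈ S′ homogeneous of positive degree. There is exactly one morphism p : G(φ) → Proj
S′ whose restriction to each chart Spec S_(φ(f′)) of G(φ) is Spec of the induced map S′_(f′) →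
S_(φ(f′)) followed by Spec S′_(f′) ≅ D_+(f′) ⊆ Proj S′. -/
theorem result {R A : Type u} [CommRing R] [CommRing A] [Algebra R A] (𝒜 : ℕ → Submodule R A) [GradedAlgebra 𝒜]
    {B : Type u} [CommRing B] [Algebra R B] (ℬ : ℕ → Submodule R B) [GradedAlgebra ℬ] (φ : 𝒜 →+*ᵍ ℬ) :
    ∃! p : (PCone.dom φ : Scheme.{u}) ⟶ Proj 𝒜,
      ∀ (d : ℕ) (f : A) (hd : 0 < d) (hf : f ∈ 𝒜 d),
        PCone.chart φ hf hd ≫ p =
          Spec.map (CommRingCat.ofHom (HomogeneousLocalization.Away.map φ f)) ≫ Proj.awayι 𝒜 f hf hd := by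
  have hφ' : ∀ n, ∀ b ∈ 𝒜 n, φ.toRingHom b ∈ ℬ (n * 1) := fun n b hb => by
    rw [mul_one]; exact φ.map_mem hb
  obtain ⟨p, hp, huniq⟩ := Groth.Agent.Lib.ProjGlue.existsUnique_map (𝒜 := ℬ) (ℬ := 𝒜) φ.toRingHom hφ' one_pos
    (PCone.dom φ) le_rfl (fun b i hi hb => le_iSup_of_le ⟨b, i, hi, hb⟩ le_rfl)
  have hθ : ∀ (i : ℕ) (b : A) (hb : b ∈ 𝒜 i),
      Groth.Agent.Lib.ProjGlue.theta φ.toRingHom hφ' hb = HomogeneousLocalization.Away.map φ b := fun i b hb => by
    refine RingHom.ext fun z => HomogeneousLocalization.val_injective _ ?_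
    rw [Groth.Agent.Lib.ProjGlue.val_theta]
    obtain ⟨k, c, hc, rfl⟩ := HomogeneousLocalization.Away.mk_surjective 𝒜 hb z
    rw [HomogeneousLocalization.Away.map_mk, HomogeneousLocalization.Away.val_mk,
      HomogeneousLocalization.Away.val_mk, Localization.mk_eq_mk', Localization.mk_eq_mk']
    simp only [Localization.awayMap, IsLocalization.Away.map, IsLocalization.map_mk', map_pow]
    rfl
  refine ⟨p, fun i b hi hb => ?_, fun q hq => huniq q fun i b hi hb s hs => ?_⟩
  · rw [← hθ i b hb]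
    exact hp i b hi hb _ ((IsOpenImmersion.lift_fac _ _ _).trans
      (Groth.Agent.Lib.ProjGlue.awayι_congr_deg (mul_one i).symm _ _ _ _))
  · have hs' : s = PCone.chart φ hb hi := (cancel_mono (PCone.dom φ).ι).1 (hs.trans
      ((IsOpenImmersion.lift_fac _ _ _).trans
        (Groth.Agent.Lib.ProjGlue.awayι_congr_deg (mul_one i).symm _ _ _ _)).symm)
    rw [hθ i b hb, hs']
    exact hq i b hi hb

end Groth.Agent.S3595
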