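import Groth.Statements.S3597
import Groth.Agent.Lib.ProjGlue.MapLocal
-- import your own Groth.Agent.* helpers here

set_option autoImplicit false
universe u
open CategoryTheory CategoryTheory.Limits AlgebraicGeometry
open EGA2

namespace Groth.Agent.S3597

/-- Let S be a graded algebra over a ring and Ŝ = S[z] the graded S-algebra obtained by adjoining a
variable z in degree 1 (an S-algebra with an element z of degree 1 such that S[T] → Ŝ, T ↦ z, is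
bijective), with φ : S → Ŝ the graded structure map and ψ : Ŝ → S the graded retraction with ψ ∘ φ =
id and ψ(z) = 0 (the irrelevant-ideal containment needed to define Proj(ψ) on all of X = Proj S
carried as a hypothesis). Let Ê ⊆ Ĉ = Proj Ŝ be the pointed projective cone, the open union of the
D_+(φ f) for f ∈ S homogeneous of positive degree, and p : Ê → X a morphism which on each chart
D_+(φ f) = Spec Ŝ_{(φ f)} is induced by S_{(f)} → Ŝ_{(φ f)} (the canonical retraction). Then p is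
surjective, and the closed immersion j = Proj(ψ) : X → Ĉ factors through Ê with p ∘ j = id_X. -/
theorem result {R A : Type u} [CommRing R] [CommRing A] [Algebra R A] (𝒜 : ℕ → Submodule R A) [GradedAlgebra 𝒜]
    {B : Type u} [CommRing B] [Algebra R B] (ℬ : ℕ → Submodule R B) [GradedAlgebra ℬ]
    [Algebra A B] [IsScalarTower R A B] (φ : 𝒜 →+*ᵍ ℬ) (hφ : ∀ a : A, φ a = algebraMap A B a)
    (z : B) (hz : z ∈ ℬ 1) (hhat : Function.Bijective (Polynomial.aeval (R := A) z))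
    (ψ : ℬ →+*ᵍ 𝒜) (hψφ : ∀ a : A, ψ (φ a) = a) (hψz : ψ z = 0)
    (hψ : HomogeneousIdeal.irrelevant 𝒜 ≤ (HomogeneousIdeal.irrelevant ℬ).map ψ)
    (p : (PCone.dom φ : Scheme.{u}) ⟶ Proj 𝒜) (hp : ∀ (d : ℕ) (f : A) (hd : 0 < d) (hf : f ∈ 𝒜 d),
        PCone.chart φ hf hd ≫ p =
          Spec.map (CommRingCat.ofHom (HomogeneousLocalization.Away.map φ f)) ≫ Proj.awayι 𝒜 f hf hd) :
    Surjective p ∧ ∃ j : Proj 𝒜 ⟶ (PCone.dom φ : Scheme.{u}), j ≫ (PCone.dom φ).ι = Proj.map ψ hψ ∧ j ≫ p = 𝟙 (Proj 𝒜) := by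
  open TopologicalSpace HomogeneousLocalization in
  classical
  have hpre : Proj.map ψ hψ ⁻¹ᵁ PCone.dom φ = ⊤ := by
    refine top_le_iff.1 fun x _ => ?_
    obtain ⟨⟨d, a, hd, ha⟩, hx⟩ := Opens.mem_iSup.1
      ((Groth.Agent.Lib.ProjGlue.MapLocal.iSup_basicOpen_pos (𝒜 := 𝒜)).ge (Opens.mem_top x))
    have hmem : x ∈ Proj.map ψ hψ ⁻¹ᵁ Proj.basicOpen ℬ (φ a) := by
      rw [Proj.map_preimage_basicOpen, hψφ]; exact hx
    exact Opens.mem_iSup.2 ⟨⟨a, d, hd, ha⟩, hmem⟩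
  let j : Proj 𝒜 ⟶ (PCone.dom φ : Scheme.{u}) := IsOpenImmersion.lift (PCone.dom φ).ι (Proj.map ψ hψ) (by
    rw [Scheme.Opens.range_ι]
    rintro _ ⟨x, rfl⟩
    exact hpre.ge (Opens.mem_top x))
  have hj : j ≫ (PCone.dom φ).ι = Proj.map ψ hψ := IsOpenImmersion.lift_fac _ _ _
  have key : ∀ (d : ℕ) (a b : A) (e : a = b) (hd : 0 < d) (ha : a ∈ 𝒜 d) (hb : b ∈ 𝒜 d) (F : Away 𝒜 b →+* Away 𝒜 a)
      (_ : ∀ (n : ℕ) (x : A) (hx : x ∈ 𝒜 (n • d)), F (Away.mk 𝒜 hb n x hx) = Away.mk 𝒜 ha n x hx),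
      Spec.map (CommRingCat.ofHom F) ≫ Proj.awayι 𝒜 b hb hd = Proj.awayι 𝒜 a ha hd := by
    intro d a b e hd ha hb F hF
    subst e
    have : F = RingHom.id _ := RingHom.ext fun z => by
      obtain ⟨n, x, hx, rfl⟩ := Away.mk_surjective 𝒜 ha z
      exact hF n x hx
    rw [this, CommRingCat.ofHom_id, Spec.map_id, Category.id_comp]
  have hjp : j ≫ p = 𝟙 (Proj 𝒜) := by
    let 𝒱 : (Proj 𝒜).OpenCover := .mkOfCovers (Σ d : ℕ, {a : A // 0 < d ∧ a ∈ 𝒜 d})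
      (fun q => Spec (.of (Away 𝒜 (ψ (φ q.2.1)))))
      (fun q => Proj.awayι 𝒜 (ψ (φ q.2.1)) (ψ.map_mem (φ.map_mem q.2.2.2)) q.2.2.1)
      (fun x => by
        obtain ⟨q, hq⟩ := Opens.mem_iSup.1
          ((Groth.Agent.Lib.ProjGlue.MapLocal.iSup_basicOpen_pos (𝒜 := 𝒜)).ge (Opens.mem_top x))
        rw [← hψφ q.2.1, ← Proj.opensRange_awayι 𝒜 (ψ (φ q.2.1)) (ψ.map_mem (φ.map_mem q.2.2.2)) q.2.2.1] at hq
        exact ⟨q, hq⟩)
      (fun _ => inferInstance)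
    refine 𝒱.hom_ext _ _ fun q => ?_
    obtain ⟨d, a, hd, ha⟩ := q
    have hlift : Proj.awayι 𝒜 (ψ (φ a)) (ψ.map_mem (φ.map_mem ha)) hd ≫ j =
        Spec.map (CommRingCat.ofHom (Away.map ψ (φ a))) ≫ PCone.chart φ ha hd := by
      rw [← cancel_mono (PCone.dom φ).ι, Category.assoc, Category.assoc, hj, PCone.chart,
        IsOpenImmersion.lift_fac]
      exact Proj.awayι_comp_map ψ hψ hd (φ a) (φ.map_mem ha)
    change Proj.awayι 𝒜 (ψ (φ a)) _ hd ≫ j ≫ p = Proj.awayι 𝒜 (ψ (φ a)) _ hd ≫ 𝟙 _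
    rw [← Category.assoc, hlift, Category.assoc, hp d a hd ha, Category.comp_id, ← Category.assoc,
      ← Spec.map_comp, ← CommRingCat.ofHom_comp]
    refine key d _ _ (hψφ a) hd _ _ _ fun n x hx => ?_
    rw [RingHom.comp_apply, Away.map_mk, Away.map_mk]
    exact val_injective _ (by simp only [Away.val_mk, hψφ])
  exact ⟨⟨fun x => ⟨j x, by rw [← Scheme.Hom.comp_apply, hjp]; rfl⟩⟩, j, hj, hjp⟩

end Groth.Agent.S3597
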