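import Groth.Statements.S3598
import Groth.Agent.S3596
import Groth.Agent.Lib.H70.GrDeh
import Mathlib.RingTheory.TensorProduct.Maps
import Mathlib.RingTheory.PolynomialAlgebra
import Mathlib.AlgebraicGeometry.Morphisms.FiniteType
import Mathlib.AlgebraicGeometry.ResidueField

set_option autoImplicit false
universe u
open CategoryTheory CategoryTheory.Limits AlgebraicGeometry
open EGA2

namespace Groth.Agent.S3598
open HomogeneousLocalization DirectSum TensorProduct TopologicalSpace Groth.Agent.Lib.H70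

section

variable {R A : Type u} [CommRing R] [CommRing A] [Algebra R A] (𝒜 : ℕ → Submodule R A) [GradedAlgebra 𝒜]
  {B : Type u} [CommRing B] [Algebra R B] (ℬ : ℕ → Submodule R B) [GradedAlgebra ℬ]
  [Algebra A B] [IsScalarTower R A B] (φ : 𝒜 →+*ᵍ ℬ) (hφ : ∀ a : A, φ a = algebraMap A B a)
  (z : B) (hz : z ∈ ℬ 1) (hhat : Function.Bijective (Polynomial.aeval (R := A) z))

omit [IsScalarTower R A B] in
include hφ hhat in
/-- `B_(φ f)` is the polynomial ring in `z / φ f` over `A_(f)`. -/
theorem exists_equiv {f : A} (hf : f ∈ 𝒜 1) :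
    ∃ e : Polynomial (Away 𝒜 f) ≃+* Away ℬ (φ f),
      ∀ x, e (Polynomial.C x) = Away.map φ f x := by
  classical
  have hf' : φ f ∈ ℬ 1 := φ.map_mem hf
  let dA := GrDeh.dehAway hf
  let dB := GrDeh.dehAway hf'
  have hd : ∀ a, dB (φ a) = Away.map φ f (dA a) := by
    intro a
    induction a using DirectSum.Decomposition.inductionOn 𝒜 with
    | zero => simp
    | @homogeneous i a =>
      simp only [dA, dB]
      rw [GrDeh.dehAway_of_mem hf a.2]
      refine (GrDeh.dehAway_of_mem hf' (φ.map_mem a.2)).trans ?_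
      refine val_injective _ ?_
      rw [GrDeh.val_mkn, GrDeh.mkn, Away.map_mk, Away.val_mk]
      rfl
    | add a b ha hb =>
      rw [show φ (a + b) = φ a + φ b from map_add φ.toRingHom a b, map_add, map_add, map_add, ha, hb]
  let F : Polynomial (Away 𝒜 f) →+* Away ℬ (φ f) := Polynomial.eval₂RingHom (Away.map φ f) (dB z)
  let e := AlgEquiv.ofBijective (Polynomial.aeval (R := A) z) hhat
  let GB : B →+* Polynomial (Away 𝒜 f) :=
    (Polynomial.mapRingHom dA).comp e.symm.toRingEquiv.toRingHom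
  have hez : e.symm z = Polynomial.X := e.injective (by
    rw [AlgEquiv.apply_symm_apply]; exact (Polynomial.aeval_X z).symm)
  have hGz : GB z = Polynomial.X := by
    show Polynomial.map dA (e.symm z) = Polynomial.X
    rw [hez, Polynomial.map_X]
  have hGφ : ∀ a, GB (φ a) = Polynomial.C (dA a) := fun a => by
    show Polynomial.map dA (e.symm (φ a)) = _
    rw [hφ, AlgEquiv.commutes, Polynomial.algebraMap_eq, Polynomial.map_C]
  have hdAf : dA f = 1 := by
    refine val_injective _ ?_
    simp only [dA]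
    rw [GrDeh.dehAway_of_mem hf hf, GrDeh.val_mkn, val_one, Localization.mk_eq_mk',
      IsLocalization.mk'_eq_iff_eq_mul, one_mul]
    simp
  let GLz : Localization.Away (φ f) →+* Polynomial (Away 𝒜 f) :=
    IsLocalization.Away.lift (φ f) (g := GB) (by rw [hGφ, hdAf, map_one]; exact isUnit_one)
  let G : Away ℬ (φ f) →+* Polynomial (Away 𝒜 f) :=
    GLz.comp (algebraMap (Away ℬ (φ f)) (Localization.Away (φ f)))
  have hGd : ∀ b, G (dB b) = GB b := by
    intro b
    induction b using DirectSum.Decomposition.inductionOn ℬ with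
    | zero => simp
    | @homogeneous i b =>
      simp only [dB]
      rw [GrDeh.dehAway_of_mem hf' b.2]
      show GLz (GrDeh.mkn hf' i ⟨b.1, b.2⟩).val = _
      rw [GrDeh.val_mkn, Localization.mk_eq_mk']
      simp only [GLz, IsLocalization.Away.lift, IsLocalization.lift_mk'_spec, map_pow, hGφ, hdAf, map_one,
        one_pow, one_mul]
    | add a b ha hb => rw [map_add, map_add, map_add, ha, hb]
  have hFG : ∀ b, F (GB b) = dB b := by
    intro b
    obtain ⟨P, rfl⟩ := hhat.2 b
    induction P using Polynomial.induction_on' with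
    | add P Q hP hQ => simp only [map_add, hP, hQ]
    | monomial i c =>
      rw [Polynomial.aeval_monomial, ← hφ, map_mul, map_pow, map_mul, map_pow, map_mul, map_pow, hGz,
        hGφ, hd]
      simp [F]
  have hdsurj : Function.Surjective dB := by
    intro w
    obtain ⟨i, b, hb, rfl⟩ := Away.mk_surjective ℬ hf' w
    refine ⟨b, ?_⟩
    simp only [dB]
    rw [GrDeh.dehAway_of_mem hf' (show b ∈ ℬ i by simpa using hb)]
    rfl
  have hGF : ∀ P, G (F P) = P := by
    intro P
    induction P using Polynomial.induction_on' with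
    | add P Q hP hQ => simp only [map_add, hP, hQ]
    | monomial i c =>
      obtain ⟨j, a, ha, rfl⟩ := Away.mk_surjective 𝒜 hf c
      have hc : Away.mk 𝒜 hf j a ha = dA a := by
        simp only [dA]
        rw [GrDeh.dehAway_of_mem hf (show a ∈ 𝒜 j by simpa using ha)]
        rfl
      simp only [F, Polynomial.coe_eval₂RingHom, Polynomial.eval₂_monomial]
      rw [hc, ← hd, map_mul, map_pow, hGd, hGd, hGφ, hGz, Polynomial.C_mul_X_pow_eq_monomial]
  refine ⟨RingEquiv.ofBijective F ⟨Function.LeftInverse.injective hGF, fun w => ?_⟩, fun x => ?_⟩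
  · obtain ⟨b, rfl⟩ := hdsurj w
    exact ⟨GB b, hFG b⟩
  · show F (Polynomial.C x) = _
    simp [F]

end


/-- Let S be a graded algebra over a ring (an affine base) whose irrelevant ideal is generated by its
degree-one elements, and let Ŝ = S[z] be the graded S-algebra obtained by adjoining a variable z of
degree 1 (given as a graded S-algebra together with z of degree 1 such that S[T] → Ŝ, T ↦ z, is
bijective). Let Ê be the pointed projective cone, covered by the charts Spec Ŝ_(f) for f ∈ S
homogeneous of positive degree, and p : Ê → X = Proj S the canonical retraction, i.e. the morphism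
which on each chart Spec Ŝ_(f) is induced by S_(f) → Ŝ_(f). Then p is of finite type (locally of
finite type and quasi-compact) and its fibre at every point x of X is isomorphic over k(x) to the
affine line Spec k(x)[T]. -/
theorem result {R A : Type u} [CommRing R] [CommRing A] [Algebra R A] (𝒜 : ℕ → Submodule R A) [GradedAlgebra 𝒜]
    {B : Type u} [CommRing B] [Algebra R B] (ℬ : ℕ → Submodule R B) [GradedAlgebra ℬ]
    [Algebra A B] [IsScalarTower R A B] (φ : 𝒜 →+*ᵍ ℬ) (hφ : ∀ a : A, φ a = algebraMap A B a)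
    (z : B) (hz : z ∈ ℬ 1) (hhat : Function.Bijective (Polynomial.aeval (R := A) z))
    (hgen : (HomogeneousIdeal.irrelevant 𝒜).toIdeal = Ideal.span (𝒜 1 : Set A))
    (p : (PCone.dom φ : Scheme.{u}) ⟶ Proj 𝒜) (hp : ∀ (d : ℕ) (f : A) (hd : 0 < d) (hf : f ∈ 𝒜 d),
        PCone.chart φ hf hd ≫ p =
          Spec.map (CommRingCat.ofHom (HomogeneousLocalization.Away.map φ f)) ≫ Proj.awayι 𝒜 f hf hd) (x : Proj 𝒜) :
    LocallyOfFiniteType p ∧ QuasiCompact p ∧
      ∃ e : pullback p ((Proj 𝒜).fromSpecResidueField x) ≅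
          Spec (CommRingCat.of (Polynomial ((Proj 𝒜).residueField x))),
        e.hom ≫ Spec.map (CommRingCat.ofHom (algebraMap ((Proj 𝒜).residueField x)
          (Polynomial ((Proj 𝒜).residueField x)))) = pullback.snd p ((Proj 𝒜).fromSpecResidueField x) := by
  classical
  have haff : IsAffineHom p := Groth.Agent.S3596.result 𝒜 ℬ φ p hp
  have hc : ∀ (f : A) (hf : f ∈ 𝒜 1), PCone.chart φ hf Nat.one_pos ≫ (PCone.dom φ).ι =
      Proj.awayι ℬ (φ f) (φ.map_mem hf) Nat.one_pos := fun f hf => IsOpenImmersion.lift_fac _ _ _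
  have hoi : ∀ (f : A) (hf : f ∈ 𝒜 1), IsOpenImmersion (PCone.chart φ hf Nat.one_pos) := fun f hf => by
    haveI : IsOpenImmersion (PCone.chart φ hf Nat.one_pos ≫ (PCone.dom φ).ι) := by
      rw [hc]; infer_instance
    exact IsOpenImmersion.of_comp _ (PCone.dom φ).ι
  have hsq : ∀ (f : A) (hf : f ∈ 𝒜 1), IsPullback (Spec.map (CommRingCat.ofHom (Away.map φ f)))
      (PCone.chart φ hf Nat.one_pos) (Proj.awayι 𝒜 f hf Nat.one_pos) p := by
    intro f hf
    haveI := hoi f hf
    refine IsOpenImmersion.isPullback _ _ _ _ (hp 1 f Nat.one_pos hf) ?_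
    rw [Proj.opensRange_awayι]
    have hι : (PCone.dom φ).ι ⁻¹ᵁ Proj.basicOpen ℬ (φ f) = (PCone.chart φ hf Nat.one_pos).opensRange := by
      ext y
      rw [← Proj.opensRange_awayι ℬ (φ f) (φ.map_mem hf) Nat.one_pos]
      change (PCone.dom φ).ι y ∈ Set.range (Proj.awayι ℬ (φ f) (φ.map_mem hf) Nat.one_pos) ↔
        y ∈ Set.range (PCone.chart φ hf Nat.one_pos)
      constructor
      · rintro ⟨w, hw⟩
        refine ⟨w, (PCone.dom φ).ι.isOpenEmbedding.injective ?_⟩
        rw [← Scheme.Hom.comp_apply, hc]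
        exact hw
      · rintro ⟨w, rfl⟩
        exact ⟨w, by rw [← Scheme.Hom.comp_apply, hc]⟩
    rw [← hι]
    exact Groth.Agent.S3596.preimage_basicOpen φ p hp Nat.one_pos hf
  have hdeg : ∀ q : ProjectiveSpectrum 𝒜, ∃ f ∈ 𝒜 1, f ∉ q.asHomogeneousIdeal := by
    intro q
    by_contra h
    push Not at h
    refine q.not_irrelevant_le ?_
    change (HomogeneousIdeal.irrelevant 𝒜).toIdeal ≤ q.asHomogeneousIdeal.toIdeal
    rw [hgen, Ideal.span_le]
    exact h
  refine ⟨?_, ?_, ?_⟩
  · refine IsZariskiLocalAtTarget.of_openCover (P := @LocallyOfFiniteType)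
      (Scheme.Cover.mkOfCovers (P := @IsOpenImmersion) {f : A // f ∈ 𝒜 1}
        (fun q => Spec (.of (Away 𝒜 q.1))) (fun q => Proj.awayι 𝒜 q.1 q.2 Nat.one_pos)
        (fun y => by
          obtain ⟨f, hf, hfy⟩ := hdeg y
          have : y ∈ (Proj.awayι 𝒜 f hf Nat.one_pos).opensRange := by
            rw [Proj.opensRange_awayι]; exact hfy
          obtain ⟨w, hw⟩ := this
          exact ⟨⟨f, hf⟩, w, hw⟩)
        (fun q => inferInstance)) fun q => ?_
    change LocallyOfFiniteType (pullback.snd p (Proj.awayι 𝒜 q.1 q.2 Nat.one_pos))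
    rw [← (hsq q.1 q.2).flip.isoPullback_inv_snd, MorphismProperty.cancel_left_of_respectsIso @LocallyOfFiniteType]
    obtain ⟨e, he⟩ := exists_equiv 𝒜 ℬ φ hφ z hhat q.2
    refine (HasRingHomProperty.Spec_iff (P := @LocallyOfFiniteType)).2 ?_
    have := (RingHom.FiniteType.of_surjective e.toRingHom e.surjective).comp
      (RingHom.finiteType_algebraMap.2 (inferInstance :
        Algebra.FiniteType (Away 𝒜 q.1) (Polynomial (Away 𝒜 q.1))))
    rwa [show e.toRingHom.comp (algebraMap (Away 𝒜 q.1) (Polynomial (Away 𝒜 q.1))) =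
      Away.map φ q.1 from RingHom.ext he] at this
  · infer_instance
  · obtain ⟨f, hf, hfx⟩ := hdeg x
    let κ := (Proj 𝒜).residueField x
    let aι := Proj.awayι 𝒜 f hf Nat.one_pos
    have hxr : x ∈ aι.opensRange := by rw [Proj.opensRange_awayι]; exact hfx
    let l : Spec κ ⟶ Spec (CommRingCat.of (Away 𝒜 f)) :=
      IsOpenImmersion.lift aι ((Proj 𝒜).fromSpecResidueField x) (by
        rw [Scheme.range_fromSpecResidueField]
        simpa using hxr)
    let χ : CommRingCat.of (Away 𝒜 f) ⟶ κ := Spec.preimage l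
    have hl : Spec.map χ ≫ aι = (Proj 𝒜).fromSpecResidueField x := by
      rw [Spec.map_preimage]
      exact IsOpenImmersion.lift_fac _ _ _
    letI algκ : Algebra (Away 𝒜 f) κ := χ.hom.toAlgebra
    letI algB : Algebra (Away 𝒜 f) (Away ℬ (φ f)) := (Away.map φ f).toAlgebra
    obtain ⟨e, he⟩ := exists_equiv 𝒜 ℬ φ hφ z hhat hf
    let eA : Polynomial (Away 𝒜 f) ≃ₐ[Away 𝒜 f] Away ℬ (φ f) := AlgEquiv.ofRingEquiv (f := e) he
    let ψ : κ ⊗[Away 𝒜 f] Away ℬ (φ f) ≃ₐ[κ] Polynomial κ :=
      (Algebra.TensorProduct.congr (AlgEquiv.refl : κ ≃ₐ[κ] κ) eA.symm).trans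
        (polyEquivTensor' (Away 𝒜 f) κ).symm
    have h2 := isPullback_SpecMap_of_isPushout _ _ _ _
      (CommRingCat.isPushout_tensorProduct (Away 𝒜 f) κ (Away ℬ (φ f)))
    have h3 := h2.flip.paste_horiz (hsq f hf).flip
    rw [show Spec.map (CommRingCat.ofHom (algebraMap (Away 𝒜 f) κ)) ≫ Proj.awayι 𝒜 f hf Nat.one_pos =
      (Proj 𝒜).fromSpecResidueField x from hl] at h3
    refine ⟨h3.isoPullback.symm ≪≫ asIso (Spec.map ψ.toRingEquiv.toCommRingCatIso.inv), ?_⟩
    rw [Iso.trans_hom, Iso.symm_hom, asIso_hom, Category.assoc, Iso.inv_comp_eq,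
      h3.isoPullback_hom_snd, ← Spec.map_comp]
    congr 1
    ext t
    exact (ψ.symm.commutes t)

end Groth.Agent.S3598
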