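import Groth.Statements.S3601
import Groth.Agent.Lib.RightAdjTensor.Supports
import Groth.Agent.S1002


set_option autoImplicit false
universe u
open CategoryTheory CategoryTheory.Limits AlgebraicGeometry
attribute [local instance] HasDerivedCategory.standard
open Dual3

namespace Groth.Agent.S3601

/-- Let Y be a quasi-compact quasi-separated scheme and f : X → Y a morphism which is proper, flat and
of finite presentation. Assume the derived direct image Rf_* exists and preserves quasi-coherence of
cohomology sheaves (both known results), so that it restricts to a functor D_QCoh(O_X) →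
D_QCoh(O_Y), and let a : D_QCoh(O_Y) → D_QCoh(O_X) be a right adjoint of this restricted functor.
Let V ⊆ Y be any open subset, with closed complement T. If Q in D_QCoh(O_Y) has all its cohomology
sheaves restricting to zero on V (Q is supported on T), then all cohomology sheaves of a(Q) restrict
to zero on f⁻¹V (a(Q) is supported on f⁻¹T). No boundedness of Q is required. (The published
statement has further parts, which are not asserted here.) -/
theorem result (X Y : Scheme.{u}) [CompactSpace Y] [QuasiSeparatedSpace Y] (f : X ⟶ Y) [IsProper f] [Flat f] [LocallyOfFinitePresentation f] [DCoh.HasRpush f] (hf : DCoh.RpushPreservesQCoh f) (a : DCoh.DQCoh Y ⥤ DCoh.DQCoh X) (adj : DCoh.RpushQ f hf ⊣ a) (V : Y.Opens) (Q : DCoh.DQCoh Y) (hQV : ∀ i : ℤ, IsZero ((DCoh.HD Q.obj i).restrict V.ι)) (i : ℤ) : IsZero ((DCoh.HD (a.obj Q).obj i).restrict (f ⁻¹ᵁ V).ι) := by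
  haveI : CompactSpace X := QuasiCompact.compactSpace_of_compactSpace f
  haveI : QuasiSeparatedSpace X := quasiSeparatedSpace_of_quasiSeparated f
  have hv : Groth.Agent.Lib.Gen43.Restrict.Van V Q.obj := fun k y hy hs => by
    have h := (Groth.Agent.Lib.Modules.Stalk.isZero_iff_stalk_subsingleton.1 (hQV k)) ⟨y, hy⟩
    exact hs (Groth.Agent.Lib.Modules.StalkRestrict.restrictStalkAddEquiv V.ι (DCoh.HD Q.obj k) ⟨y, hy⟩).symm.toEquiv.subsingleton
  have hX := Groth.Agent.Lib.RightAdjTensor.Supports.van_a f hf adj
    (Groth.Agent.Lib.RightAdjTensor.preservesColimitsOfShape_of_isPerfect f hf adj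
      (fun P hP => Groth.Agent.S1002.result f P hP)) Q hv
  refine Groth.Agent.Lib.Modules.Stalk.isZero_iff_stalk_subsingleton.2 fun z => ?_
  haveI : Subsingleton ((DCoh.HD (a.obj Q).obj i).presheaf.stalk ((f ⁻¹ᵁ V).ι z)) :=
    not_not.1 (hX i _ z.2)
  exact (Groth.Agent.Lib.Modules.StalkRestrict.restrictStalkAddEquiv (f ⁻¹ᵁ V).ι (DCoh.HD (a.obj Q).obj i) z).toEquiv.subsingleton

end Groth.Agent.S3601
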