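import Groth.Statements.S3609
import Groth.Agent.Lib.RightAdjCoh.Shriek
import Groth.Agent.Lib.DualSch.Invertible
import Groth.Agent.S1828
-- import your own Groth.Agent.* helpers here

set_option autoImplicit false
universe u
open CategoryTheory CategoryTheory.Limits AlgebraicGeometry
attribute [local instance] HasDerivedCategory.standard
open Dual3

namespace Groth.Agent.S3609

/-- Let S be a Noetherian scheme, X and Y schemes separated and of finite type over S and f : X → Y a
morphism over S; compute f^! through a compactification f = j ∘ p (j : X → X' an open immersion, p :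
X' → Y proper, Rp_* on D_QCoh assumed to exist and to preserve quasi-coherence of cohomology, a a
right adjoint of Rp_*, restriction of modules to opens assumed exact), so that f^!K = a(K)|_X. If f
is a local complete intersection morphism (affine-locally given by local complete intersection ring
maps) and O denotes the structure sheaf of Y in degree 0, then f^!O is an invertible object of
D(O_X): every point of X has an open neighbourhood over which it is isomorphic to a shift of the
structure sheaf. -/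
theorem result (S X Y : Scheme.{u}) [IsNoetherian S] (p : X ⟶ S) (q : Y ⟶ S) [Dual3.IsSepFT p] [Dual3.IsSepFT q] (f : X ⟶ Y) (w : f ≫ q = p) (hf : Dual3.IsLCIMor f) (c : DEt.Compactification f) [DCoh.HasRpush c.fbar] (hc : DCoh.RpushPreservesQCoh c.fbar) (a : DCoh.DQCoh Y ⥤ DCoh.DQCoh c.Xbar) (adj : DCoh.RpushQ c.fbar hc ⊣ a) [∀ (U V : Scheme.{u}) (j : U ⟶ V) [IsOpenImmersion j], PreservesFiniteLimits (Scheme.Modules.restrictFunctor j)] (O : DCoh.DQCoh Y) (hO : Nonempty (O.obj ≅ DCoh.inD Y (Coh.structureModule Y))) : Dual3.IsInvertibleD ((Dual3.shriekC c a).obj O) := by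
  haveI hT : ∀ R : CommRingCat.{u}, PreservesFiniteLimits (tilde.functor R) := fun R => inferInstance
  haveI : IsLocallyNoetherian Y := LocallyOfFiniteType.isLocallyNoetherian q
  haveI : CompactSpace Y := QuasiCompact.compactSpace_of_compactSpace q
  haveI : IsNoetherian Y := {}
  haveI : LocallyOfFiniteType (f ≫ q) := w ▸ inferInstance
  haveI : LocallyOfFiniteType f := locallyOfFiniteType_of_comp f q
  intro x
  obtain ⟨⟨U, hU⟩, ⟨V, hV⟩, hUV, hxU, hl⟩ := hf x
  let φ := f.appLE V U hUV
  letI : Algebra Γ(Y, V) Γ(X, U) := φ.hom.toAlgebra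
  haveI : IsNoetherianRing Γ(Y, V) := IsLocallyNoetherian.component_noetherian ⟨V, hV⟩
  haveI : Algebra.FiniteType Γ(Y, V) Γ(X, U) := LocallyOfFiniteType.finiteType_appLE f hV hU hUV
  haveI : IsNoetherianRing Γ(X, U) := Algebra.FiniteType.isNoetherianRing Γ(Y, V) Γ(X, U)
  obtain ⟨m, ψ, hψ⟩ := Algebra.FiniteType.iff_quotient_mvPolynomial''.1
    (inferInstance : Algebra.FiniteType Γ(Y, V) Γ(X, U))
  obtain ⟨Rψ, ⟨adjψ⟩⟩ := Groth.Agent.Lib.RightAdjCoh.Chart.exists_adjR (CommRingCat.ofHom ψ.toRingHom)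
  haveI := Groth.Agent.Lib.DR.BaseChangeU.hasLBaseChange (algebraMap Γ(Y, V) (MvPolynomial (Fin m) Γ(Y, V)))
  haveI : ∀ g : Γ(X, U), DRing.HasLBaseChange (algebraMap Γ(X, U) (Localization.Away g)) := fun g =>
    Groth.Agent.Lib.DR.BaseChangeU.hasLBaseChange _
  obtain ⟨eO⟩ := Groth.Agent.Lib.RightAdjCoh.Chart.nonempty_one_chart hV.fromSpec hO
  obtain ⟨e⟩ := Groth.Agent.Lib.RightAdjCoh.Chart.nonempty_shriek_chart f c.j c.fbar c.fac hc adj hV.fromSpec
    hU.fromSpec (hV.SpecMap_appLE_fromSpec f hU hUV).symm ψ hψ adjψ O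
    (Groth.Agent.Lib.RightAdjCoh.Chart.exists_isGE_one hO) (Dual.inD Γ(Y, V) Γ(Y, V)) eO
  let P : PrimeSpectrum Γ(X, U) := hU.primeIdealOf ⟨x, hxU⟩
  obtain ⟨g, hg, k, ⟨eg⟩⟩ := Groth.Agent.S1828.result Γ(Y, V) Γ(X, U) hl m ψ hψ Rψ adjψ P
  let b : CommRingCat.of Γ(X, U) ⟶ CommRingCat.of (Localization.Away g) :=
    CommRingCat.ofHom (algebraMap Γ(X, U) (Localization.Away g))
  haveI : IsOpenImmersion (Spec.map b) :=
    IsOpenImmersion.of_isLocalization (R := Γ(X, U)) (S := Localization.Away g) g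
  haveI : Module.Flat Γ(X, U) (Localization.Away g) := IsLocalization.flat _ (Submonoid.powers g)
  haveI : PreservesFiniteLimits (ModuleCat.extendScalars.{u, u, u} b.hom) :=
    Groth.Agent.Lib.DR.FlatBC.preservesFiniteLimits (A := Γ(X, U)) (B := Localization.Away g)
  haveI : PreservesFiniteColimits (ModuleCat.extendScalars.{u, u, u} b.hom) :=
    Groth.Agent.Lib.DR.FlatBC.preservesFiniteColimits (A := Γ(X, U)) (B := Localization.Away g)
  obtain ⟨e₁⟩ := Groth.Agent.Lib.DualSch.Invertible.nonempty_tildeD_self (A := Localization.Away g) k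
  let i₁ := (Groth.Agent.Lib.DMod.FlatHom.isoLBaseChange Γ(X, U) (Localization.Away g)).app
    (Dual2.shriekVia m Rψ (Dual.inD Γ(Y, V) Γ(Y, V)))
  let J := Spec.map b ≫ hU.fromSpec
  have hx : x ∈ J.opensRange := by
    obtain ⟨z, hz⟩ := (PrimeSpectrum.localization_away_comap_range (Localization.Away g) g).ge
      (show P ∈ PrimeSpectrum.basicOpen g from hg)
    refine ⟨z, ?_⟩
    show hU.fromSpec (Spec.map b z) = x
    rw [show Spec.map b z = P from hz]
    exact hU.fromSpec_primeIdealOf ⟨x, hxU⟩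
  obtain ⟨eR⟩ := Groth.Agent.Lib.DualSch.Invertible.exists_opens J
    (n := k) (K := (Dual3.shriekC c a).obj O)
    (Groth.Agent.Lib.Perfect.Triangle.RDComp (Spec.map b) hU.fromSpec _ ≪≫
      (Groth.Agent.Lib.Perfect.Basic.RD (Spec.map b)).mapIso e ≪≫
      Groth.Agent.Lib.DualSch.Local.restrictTilde b _ ≪≫
      (DCoh.tildeD (CommRingCat.of (Localization.Away g))).mapIso (i₁.symm ≪≫ eg) ≪≫ e₁)
  exact ⟨J.opensRange, k, hx, ⟨eR⟩⟩

end Groth.Agent.S3609
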