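import Groth.Statements.S3610
import Groth.Agent.S3609
import Groth.Agent.Lib.Gen43.Affine
-- import your own Groth.Agent.* helpers here

set_option autoImplicit false
universe u
open CategoryTheory CategoryTheory.Limits AlgebraicGeometry
attribute [local instance] HasDerivedCategory.standard
open Dual3

namespace Groth.Agent.S3610

open Groth.Agent.Lib Groth.Agent.Lib.DR.Perfect in
/-- `φ^!` of a perfect object is perfect for a local complete intersection. -/
theorem pf_shriekVia {A B : Type u} [CommRing A] [CommRing B] [IsNoetherianRing A] [IsNoetherianRing B]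
    [Algebra A B] (hl : LCI.IsLCI A B) {n : ℕ} (ψ : MvPolynomial (Fin n) A →ₐ[A] B)
    (hψ : Function.Surjective ψ) [DRing.HasLBaseChange (algebraMap A (MvPolynomial (Fin n) A))]
    {Rψ : Dual.D (MvPolynomial (Fin n) A) ⥤ Dual.D B} (adj : DRing.restrictD ψ.toRingHom ⊣ Rψ)
    {ω : Dual.D A} (hω : Pf ω) : Pf (Dual2.shriekVia n Rψ ω) := by
  let L := DMod.FlatHom.L A (MvPolynomial (Fin n) A)
  haveI : Rψ.Additive := adj.right_adjoint_additive
  letI := adj.rightAdjointCommShift ℤ
  haveI := adj.commShift_of_leftAdjoint ℤ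
  haveI : Rψ.IsTriangulated := adj.isTriangulated_rightAdjoint
  let G : Dual.D A ⥤ Dual.D B := L ⋙ Rψ
  let i : ∀ M : Dual.D A, Dual2.shriekVia n Rψ M ≅ (G.obj M)⟦(n : ℤ)⟧ := fun M =>
    (shiftFunctor _ (n : ℤ)).mapIso (Rψ.mapIso ((DMod.FlatHom.isoLBaseChange A (MvPolynomial (Fin n) A)).app M))
  have hb : Pf (Dual2.shriekVia n Rψ (Dual.inD A A)) := by
    haveI : ∀ g : B, DRing.HasLBaseChange (algebraMap B (Localization.Away g)) := fun g =>
      DR.BaseChangeU.hasLBaseChange _
    have hPerf : DCoh.IsPerfect ((DCoh.tildeD (CommRingCat.of B)).obj (Dual2.shriekVia n Rψ (Dual.inD A A))) := by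
      refine Gen43.Restrict.isPerfect_of_cover fun x => ?_
      let P : PrimeSpectrum B := x
      obtain ⟨g, hg, k, ⟨eg⟩⟩ := Groth.Agent.S1828.result A B hl n ψ hψ Rψ adj P
      let b : CommRingCat.of B ⟶ CommRingCat.of (Localization.Away g) :=
        CommRingCat.ofHom (algebraMap B (Localization.Away g))
      haveI : IsOpenImmersion (Spec.map b) :=
        IsOpenImmersion.of_isLocalization (R := B) (S := Localization.Away g) g
      haveI : Module.Flat B (Localization.Away g) := IsLocalization.flat _ (Submonoid.powers g)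
      haveI : PreservesFiniteLimits (ModuleCat.extendScalars.{u, u, u} b.hom) :=
        DR.FlatBC.preservesFiniteLimits (A := B) (B := Localization.Away g)
      haveI : PreservesFiniteColimits (ModuleCat.extendScalars.{u, u, u} b.hom) :=
        DR.FlatBC.preservesFiniteColimits (A := B) (B := Localization.Away g)
      obtain ⟨z, hz⟩ := (PrimeSpectrum.localization_away_comap_range (Localization.Away g) g).ge
        (show P ∈ PrimeSpectrum.basicOpen g from hg)
      obtain ⟨e₁⟩ := DualSch.Invertible.nonempty_tildeD_self (A := Localization.Away g) k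
      refine ⟨_, Spec.map b, inferInstance, z, hz, ?_⟩
      exact Perfect.Triangle.isPerfect_of_iso (DualSch.Local.restrictTilde b _ ≪≫
        (DCoh.tildeD (CommRingCat.of (Localization.Away g))).mapIso
          (((DMod.FlatHom.isoLBaseChange B (Localization.Away g)).app _).symm ≪≫ eg) ≪≫ e₁).symm
        (Perfect.Triangle.isPerfect_shift (Gen43.Affine.isPerfect_oneD' _) k)
    obtain ⟨E, hE, ⟨e⟩⟩ := Gen43.Affine.exists_pf hPerf
    haveI := DerivedOX.TildeEquiv.full (CommRingCat.of B)
    haveI := DerivedOX.TildeEquiv.faithful (CommRingCat.of B)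
    exact hE.of_iso ((DCoh.tildeD (CommRingCat.of B)).preimageIso e)
  refine Pf.of_iso (Pf.shift ?_ (n : ℤ)) (i ω).symm
  refine Gen43.Ring.pf_induction (fun M => Pf (G.obj M)) (fun M hM => pf_zero (G.map_isZero hM))
    (fun M N r h => (pf_iff _).1 (DR.CompactPerf.isPerfect_of_retract (r.map G) h))
    (fun T hT h₁ h₃ => pf₂ _ (G.map_distinguished _ hT) h₁ h₃) (fun m => ?_) hω
  exact (((hb.of_iso (i _)).of_shift).shift (-m)).of_iso (((G.commShiftIso (-m)).app _).symm ≪≫
    G.mapIso (((DerivedCategory.singleFunctors _).shiftIso (-m) m 0 (by omega)).app _))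

/-- Let S be a Noetherian scheme, X and Y schemes separated and of finite type over S and f : X → Y a
morphism over S; compute f^! through a compactification f = j ∘ p (j : X → X' an open immersion, p :
X' → Y proper, Rp_* on D_QCoh assumed to exist and to preserve quasi-coherence of cohomology, a a
right adjoint of Rp_*, restriction of modules to opens assumed exact), so that f^!K = a(K)|_X. If f
is a local complete intersection morphism then for every bounded below K in D_QCoh(O_Y) which is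
perfect, f^!K is a perfect object of D(O_X). -/
theorem result (S X Y : Scheme.{u}) [IsNoetherian S] (p : X ⟶ S) (q : Y ⟶ S) [Dual3.IsSepFT p] [Dual3.IsSepFT q] (f : X ⟶ Y) (w : f ≫ q = p) (hf : Dual3.IsLCIMor f) (c : DEt.Compactification f) [DCoh.HasRpush c.fbar] (hc : DCoh.RpushPreservesQCoh c.fbar) (a : DCoh.DQCoh Y ⥤ DCoh.DQCoh c.Xbar) (adj : DCoh.RpushQ c.fbar hc ⊣ a) [∀ (U V : Scheme.{u}) (j : U ⟶ V) [IsOpenImmersion j], PreservesFiniteLimits (Scheme.Modules.restrictFunctor j)] (K : DCoh.DQCoh Y) (c₀ : ℤ) (hK : ∀ i : ℤ, i < c₀ → IsZero (DCoh.HD K.obj i)) (hP : DCoh.IsPerfect K.obj) : DCoh.IsPerfect ((Dual3.shriekC c a).obj K) := by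
  haveI hT : ∀ R : CommRingCat.{u}, PreservesFiniteLimits (tilde.functor R) := fun R => inferInstance
  haveI : IsLocallyNoetherian Y := LocallyOfFiniteType.isLocallyNoetherian q
  haveI : CompactSpace Y := QuasiCompact.compactSpace_of_compactSpace q
  haveI : IsNoetherian Y := {}
  haveI : LocallyOfFiniteType (f ≫ q) := w ▸ inferInstance
  haveI : LocallyOfFiniteType f := locallyOfFiniteType_of_comp f q
  refine Groth.Agent.Lib.Gen43.Restrict.isPerfect_of_cover fun x => ?_
  obtain ⟨⟨U, hU⟩, ⟨V, hV⟩, hUV, hxU, hl⟩ := hf x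
  let φ := f.appLE V U hUV
  letI : Algebra Γ(Y, V) Γ(X, U) := φ.hom.toAlgebra
  haveI : IsNoetherianRing Γ(Y, V) := IsLocallyNoetherian.component_noetherian ⟨V, hV⟩
  haveI : Algebra.FiniteType Γ(Y, V) Γ(X, U) := LocallyOfFiniteType.finiteType_appLE f hV hU hUV
  haveI : IsNoetherianRing Γ(X, U) := Algebra.FiniteType.isNoetherianRing Γ(Y, V) Γ(X, U)
  obtain ⟨m, ψ, hψ⟩ := Algebra.FiniteType.iff_quotient_mvPolynomial''.1
    (inferInstance : Algebra.FiniteType Γ(Y, V) Γ(X, U))
  obtain ⟨Rψ, ⟨adjψ⟩⟩ := Groth.Agent.Lib.RightAdjCoh.Chart.exists_adjR (CommRingCat.ofHom ψ.toRingHom)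
  haveI := Groth.Agent.Lib.DR.BaseChangeU.hasLBaseChange (algebraMap Γ(Y, V) (MvPolynomial (Fin m) Γ(Y, V)))
  refine ⟨_, hU.fromSpec, inferInstance, hU.primeIdealOf ⟨x, hxU⟩, hU.fromSpec_primeIdealOf ⟨x, hxU⟩, ?_⟩
  have hKc : ∃ c, K.obj.IsGE c := ⟨c₀, (DerivedCategory.isGE_iff _ _).2 hK⟩
  obtain ⟨ω, hω, ⟨eω⟩⟩ := Groth.Agent.Lib.Gen43.Affine.exists_pf
    (Groth.Agent.Lib.SchColim29.RpushPerfect.isPerfect_restrictD hV.fromSpec hP)
  obtain ⟨e⟩ := Groth.Agent.Lib.RightAdjCoh.Chart.nonempty_shriek_chart f c.j c.fbar c.fac hc adj hV.fromSpec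
    hU.fromSpec (hV.SpecMap_appLE_fromSpec f hU hUV).symm ψ hψ adjψ K hKc ω eω.symm
  refine Groth.Agent.Lib.Perfect.Triangle.isPerfect_of_iso e.symm ?_
  refine Groth.Agent.Lib.Gen43.Affine.isPerfect_T ?_
  exact pf_shriekVia hl ψ hψ adjψ hω

end Groth.Agent.S3610
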