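import Groth.Statements.S3611
import Groth.Agent.Lib.RightAdjCoh.Shriek
import Groth.Agent.S1785
-- import your own Groth.Agent.* helpers here

set_option autoImplicit false
universe u
open CategoryTheory CategoryTheory.Limits AlgebraicGeometry
attribute [local instance] HasDerivedCategory.standard
open Dual3

namespace Groth.Agent.S3611

/-- Let S be a Noetherian scheme, X and Y schemes separated and of finite type over S and f : X → Y a
morphism over S; compute f^! through a compactification f = j ∘ p (j : X → X' an open immersion, p :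
X' → Y proper, Rp_* on D_QCoh assumed to exist and to preserve quasi-coherence of cohomology, a a
right adjoint of Rp_*, restriction of modules to opens assumed exact), so that f^!K = a(K)|_X. Let O
be the structure sheaf of Y in degree 0, x a point of X and n a natural number with dim_x(X_{f(x)})
≤ n (local dimension of the fibre at x). If the stalk of H^i(f^!O) at x is nonzero then -n ≤ i. -/
theorem result (S X Y : Scheme.{u}) [IsNoetherian S] (p : X ⟶ S) (q : Y ⟶ S) [Dual3.IsSepFT p] [Dual3.IsSepFT q] (f : X ⟶ Y) (w : f ≫ q = p) (c : DEt.Compactification f) [DCoh.HasRpush c.fbar] (hc : DCoh.RpushPreservesQCoh c.fbar) (a : DCoh.DQCoh Y ⥤ DCoh.DQCoh c.Xbar) (adj : DCoh.RpushQ c.fbar hc ⊣ a) [∀ (U V : Scheme.{u}) (j : U ⟶ V) [IsOpenImmersion j], PreservesFiniteLimits (Scheme.Modules.restrictFunctor j)] (O : DCoh.DQCoh Y) (hO : Nonempty (O.obj ≅ DCoh.inD Y (Coh.structureModule Y))) (x : X) (n : ℕ) (hn : Dual3.localFibreDim f x ≤ (n : WithBot ℕ∞)) (i : ℤ) (hi : Nontrivial ((DCoh.HD ((Dual3.shriekC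 c a).obj O) i).presheaf.stalk x)) : -(n : ℤ) ≤ i := by
  haveI : ∀ R : CommRingCat.{u}, PreservesFiniteLimits (tilde.functor R) := fun R => inferInstance
  haveI : IsLocallyNoetherian Y := LocallyOfFiniteType.isLocallyNoetherian q
  haveI : CompactSpace Y := QuasiCompact.compactSpace_of_compactSpace q
  haveI : IsNoetherian Y := {}
  haveI : LocallyOfFiniteType (f ≫ q) := w ▸ inferInstance
  haveI : LocallyOfFiniteType f := locallyOfFiniteType_of_comp f q
  obtain ⟨A, B, _, _, _, _, _, _, jA, _, j, _, P, rfl, hcm⟩ :=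
    Groth.Agent.Lib.RightAdjCoh.Chart.exists_chart f x
  obtain ⟨m, ψ, hψ⟩ := Algebra.FiniteType.iff_quotient_mvPolynomial''.1
    (inferInstance : Algebra.FiniteType A B)
  obtain ⟨Rψ, ⟨adjψ⟩⟩ := Groth.Agent.Lib.RightAdjCoh.Chart.exists_adjR (CommRingCat.ofHom ψ.toRingHom)
  haveI := Groth.Agent.Lib.DR.BaseChangeU.hasLBaseChange (algebraMap A (MvPolynomial (Fin m) A))
  obtain ⟨eO⟩ := Groth.Agent.Lib.RightAdjCoh.Chart.nonempty_one_chart jA hO
  obtain ⟨e⟩ := Groth.Agent.Lib.RightAdjCoh.Chart.nonempty_shriek_chart f c.j c.fbar c.fac hc adj jA j hcm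
    ψ hψ adjψ O (Groth.Agent.Lib.RightAdjCoh.Chart.exists_isGE_one hO) (Dual.inD A A) eO
  have hd' := Groth.Agent.Lib.GorenMor.AffineSpace.localFibreDim_eq f (j P)
  let d := Groth.Agent.H46.DimData.fe f (j P)
  have hd := (Groth.Agent.Lib.RightAdjCoh.Chart.fibreDimAt_chart f jA j hcm P).trans hd'
  have h1 := Groth.Agent.S1785.result A B m ψ hψ Rψ adjψ P d hd i
    (Groth.Agent.Lib.RightAdjCoh.Chart.nontrivial_localized_of_stalk j e i P hi)
  have h2 : (d : WithBot ℕ∞) ≤ (n : WithBot ℕ∞) := hd'.symm.trans_le hn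
  have h3 : d ≤ n := by exact_mod_cast h2
  omega

end Groth.Agent.S3611
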