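import Groth.Statements.S3612
import Groth.Agent.Lib.RightAdjCoh.RelAmp
-- import your own Groth.Agent.* helpers here

set_option autoImplicit false
universe u
open CategoryTheory CategoryTheory.Limits AlgebraicGeometry
attribute [local instance] HasDerivedCategory.standard
open Dual3

namespace Groth.Agent.S3612

/-- Let S be a Noetherian scheme, X and Y schemes separated and of finite type over S and f : X → Y a
morphism over S; compute f^! through a compactification f = j ∘ p (j : X → X' an open immersion, p :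
X' → Y proper, Rp_* on D_QCoh assumed to exist and to preserve quasi-coherence of cohomology, a a
right adjoint of Rp_*, restriction of modules to opens assumed exact), so that f^!K = a(K)|_X.
Assume f is flat and let O be the structure sheaf of Y in degree 0. (i) For a point x and n ≥
dim_x(X_{f(x)}): if the stalk of H^i(f^!O) at x is nonzero then -n ≤ i ≤ 0. (ii) If every fibre of f
has dimension at most d, then f^!O has tor amplitude in [-d, 0] relative to Y: it is represented by
a complex of O_X-modules flat over Y placed in degrees [-d, 0]. -/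
theorem result (S X Y : Scheme.{u}) [IsNoetherian S] (p : X ⟶ S) (q : Y ⟶ S) [Dual3.IsSepFT p] [Dual3.IsSepFT q] (f : X ⟶ Y) (w : f ≫ q = p) [Flat f] (c : DEt.Compactification f) [DCoh.HasRpush c.fbar] (hc : DCoh.RpushPreservesQCoh c.fbar) (a : DCoh.DQCoh Y ⥤ DCoh.DQCoh c.Xbar) (adj : DCoh.RpushQ c.fbar hc ⊣ a) [∀ (U V : Scheme.{u}) (j : U ⟶ V) [IsOpenImmersion j], PreservesFiniteLimits (Scheme.Modules.restrictFunctor j)] (O : DCoh.DQCoh Y) (hO : Nonempty (O.obj ≅ DCoh.inD Y (Coh.structureModule Y))) : (∀ (x : X) (n : ℕ), Dual3.localFibreDim f x ≤ (n : WithBot ℕ∞) → ∀ i : ℤ, Nontrivial ((DCoh.HD ((Dual3.shriekC c a).obj O) i).presheaf.stalk x) → -(n : ℤ) ≤ i ∧ i ≤ 0) ∧ ∀ d : ℕ, Dual3.FibreDimLE f d → DCoh.HasRelFlatAmplitudeIn f (-(d : ℤ)) 0 ((Dual3.shriekC c a).obj O) := by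
  haveI : ∀ R : CommRingCat.{u}, PreservesFiniteLimits (tilde.functor R) := fun R => inferInstance
  haveI : IsLocallyNoetherian Y := LocallyOfFiniteType.isLocallyNoetherian q
  haveI : CompactSpace Y := QuasiCompact.compactSpace_of_compactSpace q
  haveI : IsNoetherian Y := {}
  haveI : LocallyOfFiniteType (f ≫ q) := w ▸ inferInstance
  haveI : LocallyOfFiniteType f := locallyOfFiniteType_of_comp f q
  have hpt : ∀ x : X, (∀ n : ℕ, Dual3.localFibreDim f x ≤ (n : WithBot ℕ∞) → ∀ i : ℤ,
      Nontrivial ((DCoh.HD ((Dual3.shriekC c a).obj O) i).presheaf.stalk x) → -(n : ℤ) ≤ i ∧ i ≤ 0) ∧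
      ∀ d : ℕ, Dual3.FibreDimLE f d → ∀ (F : CochainComplex X.Modules ℤ),
        (DCoh.toD X F ≅ (Dual3.shriekC c a).obj O) → DerSch.HasTorAmplitudeAt f (-(d : ℤ)) 0 F x := by
    intro x
    obtain ⟨A, B, _, _, _, _, _, _, jA, _, j, _, P, rfl, hcm⟩ :=
      Groth.Agent.Lib.RightAdjCoh.Chart.exists_chart f x
    obtain ⟨m, ψ, hψ⟩ := Algebra.FiniteType.iff_quotient_mvPolynomial''.1
      (inferInstance : Algebra.FiniteType A B)
    obtain ⟨Rψ, ⟨adjψ⟩⟩ := Groth.Agent.Lib.RightAdjCoh.Chart.exists_adjR (CommRingCat.ofHom ψ.toRingHom)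
    haveI := Groth.Agent.Lib.DR.BaseChangeU.hasLBaseChange (algebraMap A (MvPolynomial (Fin m) A))
    haveI : Module.Flat A B := by
      have h1 : Flat (Spec.map (CommRingCat.ofHom (algebraMap A B)) ≫ jA) := hcm ▸ inferInstance
      have h2 : Flat (Spec.map (CommRingCat.ofHom (algebraMap A B))) :=
        MorphismProperty.of_postcomp (W := @Flat) (W' := @IsOpenImmersion) _ jA ‹_› h1
      exact RingHom.flat_algebraMap_iff.1 ((HasRingHomProperty.Spec_iff (P := @Flat)).1 h2)
    obtain ⟨eO⟩ := Groth.Agent.Lib.RightAdjCoh.Chart.nonempty_one_chart jA hO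
    obtain ⟨e⟩ := Groth.Agent.Lib.RightAdjCoh.Chart.nonempty_shriek_chart f c.j c.fbar c.fac hc adj jA j hcm
      ψ hψ adjψ O (Groth.Agent.Lib.RightAdjCoh.Chart.exists_isGE_one hO) (Dual.inD A A) eO
    refine ⟨fun n hn i hi => ?_, fun d hd F eF => ?_⟩
    · have hfe := Groth.Agent.Lib.GorenMor.AffineSpace.localFibreDim_eq f (j P)
      have hd := (Groth.Agent.Lib.RightAdjCoh.Chart.fibreDimAt_chart f jA j hcm P).trans hfe
      obtain ⟨h1, h2⟩ := Groth.Agent.Lib.DMod.ShriekAmplitude.bounds hψ adjψ P _ hd i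
        (Groth.Agent.Lib.RightAdjCoh.Chart.nontrivial_localized_of_stalk j e i P hi)
      have h3 : Groth.Agent.H46.DimData.fe f (j P) ≤ n := by exact_mod_cast hfe.symm.trans_le hn
      omega
    · refine Groth.Agent.Lib.RightAdjCoh.RelAmp.torAmpAt_chart f jA j hcm _ e (by omega) ?_ ?_ F eF P
      · exact (Groth.Agent.Lib.DMod.Basic.isLE_iff _ 0).2 fun i hi =>
          Groth.Agent.Lib.DMod.ShriekAmplitude.le_zero hψ adjψ i hi
      · refine Groth.Agent.Lib.DMod.ShriekAmplitude.torAmplitude hψ adjψ d fun Q => ?_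
        rw [Groth.Agent.Lib.RightAdjCoh.Chart.fibreDimAt_chart f jA j hcm Q]
        exact (iInf₂_le ⊤ trivial).trans ((topologicalKrullDim_subspace_le _ _).trans (hd _))
  refine ⟨fun x => (hpt x).1, fun d hd => Groth.Agent.Lib.RightAdjCoh.RelAmp.hasRelFlatAmplitudeIn f _ ?_
    fun F eF x => (hpt x).2 d hd F eF⟩
  refine (DerivedCategory.isLE_iff _ _).2 fun i hi => Groth.Agent.Lib.Modules.Support.support_eq_empty_iff.1
    (Set.eq_empty_of_forall_notMem fun x hx => ?_)
  have h4 := ((hpt x).1 _ (Groth.Agent.Lib.GorenMor.AffineSpace.localFibreDim_eq f x).le i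
    (not_subsingleton_iff_nontrivial.1 hx)).2
  omega

end Groth.Agent.S3612
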