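import Groth.Statements.S3613
import Groth.Agent.Lib.RightAdjCoh.FlatDegZero
import Groth.Agent.Lib.DMod.ShriekSelf
import Groth.Agent.Lib.Flat55.FlatEquidim
import Groth.Agent.Lib.Perfect.Coherent
import Groth.Agent.H78.Formal.Algebraize
-- import your own Groth.Agent.* helpers here

set_option autoImplicit false
universe u
open CategoryTheory CategoryTheory.Limits AlgebraicGeometry
attribute [local instance] HasDerivedCategory.standard
open Dual3

namespace Groth.Agent.S3613

/-- Let S be a Noetherian scheme, X and Y schemes separated and of finite type over S and f : X → Y a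
morphism over S; compute f^! through a compactification f = j ∘ p (j : X → X' an open immersion, p :
X' → Y proper, Rp_* on D_QCoh assumed to exist and to preserve quasi-coherence of cohomology, a a
right adjoint of Rp_*, restriction of modules to opens assumed exact), so that f^!K = a(K)|_X.
Assume f is flat and quasi-finite and let O be the structure sheaf of Y in degree 0. Then H^i(f^!O)
= 0 for i ≠ 0 and H^0(f^!O) is a coherent O_X-module which is flat over Y; that is, f^!O = ω[0] for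
a coherent Y-flat module ω. -/
theorem result (S X Y : Scheme.{u}) [IsNoetherian S] (p : X ⟶ S) (q : Y ⟶ S) [Dual3.IsSepFT p] [Dual3.IsSepFT q] (f : X ⟶ Y) (w : f ≫ q = p) [Flat f] [LocallyQuasiFinite f] (c : DEt.Compactification f) [DCoh.HasRpush c.fbar] (hc : DCoh.RpushPreservesQCoh c.fbar) (a : DCoh.DQCoh Y ⥤ DCoh.DQCoh c.Xbar) (adj : DCoh.RpushQ c.fbar hc ⊣ a) [∀ (U V : Scheme.{u}) (j : U ⟶ V) [IsOpenImmersion j], PreservesFiniteLimits (Scheme.Modules.restrictFunctor j)] (O : DCoh.DQCoh Y) (hO : Nonempty (O.obj ≅ DCoh.inD Y (Coh.structureModule Y))) : (∀ i : ℤ, i ≠ 0 → IsZero (DCoh.HD ((Dual3.shriekC c a).obj O) i)) ∧ Coh.IsCoh (DCoh.HD ((Dual3.shriekC c a).obj O) 0) ∧ FlatMod.IsFlatOver f (DCoh.HD ((Dual3.shriekC c a).obj O) 0) := by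
  haveI : ∀ R : CommRingCat.{u}, PreservesFiniteLimits (tilde.functor R) := fun R => inferInstance
  haveI : IsLocallyNoetherian Y := LocallyOfFiniteType.isLocallyNoetherian q
  haveI : CompactSpace Y := QuasiCompact.compactSpace_of_compactSpace q
  haveI : IsNoetherian Y := {}
  haveI : LocallyOfFiniteType (f ≫ q) := w ▸ inferInstance
  haveI : LocallyOfFiniteType f := locallyOfFiniteType_of_comp f q
  have hpt : ∀ x : X, (∀ i : ℤ, Nontrivial ((DCoh.HD ((Dual3.shriekC c a).obj O) i).presheaf.stalk x) → i = 0) ∧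
      (∃ (U : Scheme.{u}) (j : U ⟶ X) (_ : IsOpenImmersion j) (y : U),
        j y = x ∧ Coh.IsCoh ((DCoh.HD ((Dual3.shriekC c a).obj O) 0).restrict j)) ∧
      FlatMod.IsFlatOverAt f (DCoh.HD ((Dual3.shriekC c a).obj O) 0) x := by
    intro x
    obtain ⟨A, B, _, _, _, _, _, _, jA, _, j, _, P, rfl, hcm⟩ :=
      Groth.Agent.Lib.RightAdjCoh.Chart.exists_chart f x
    obtain ⟨m, ψ, hψ⟩ := Algebra.FiniteType.iff_quotient_mvPolynomial''.1
      (inferInstance : Algebra.FiniteType A B)
    obtain ⟨Rψ, ⟨adjψ⟩⟩ := Groth.Agent.Lib.RightAdjCoh.Chart.exists_adjR (CommRingCat.ofHom ψ.toRingHom)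
    haveI := Groth.Agent.Lib.DR.BaseChangeU.hasLBaseChange (algebraMap A (MvPolynomial (Fin m) A))
    haveI : Module.Flat A B := by
      have h1 : Flat (Spec.map (CommRingCat.ofHom (algebraMap A B)) ≫ jA) := hcm ▸ inferInstance
      have h2 : Flat (Spec.map (CommRingCat.ofHom (algebraMap A B))) :=
        MorphismProperty.of_postcomp (W := @Flat) (W' := @IsOpenImmersion) _ jA ‹_› h1
      exact RingHom.flat_algebraMap_iff.1 ((HasRingHomProperty.Spec_iff (P := @Flat)).1 h2)
    obtain ⟨eO⟩ := Groth.Agent.Lib.RightAdjCoh.Chart.nonempty_one_chart jA hO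
    obtain ⟨e⟩ := Groth.Agent.Lib.RightAdjCoh.Chart.nonempty_shriek_chart f c.j c.fbar c.fac hc adj jA j hcm
      ψ hψ adjψ O (Groth.Agent.Lib.RightAdjCoh.Chart.exists_isGE_one hO) (Dual.inD A A) eO
    have hdim : ∀ Q : PrimeSpectrum B,
        FlatMor.fibreDimAt (Spec.map (CommRingCat.ofHom (algebraMap A B))) Q ≤ ((0 : ℕ) : WithBot ℕ∞) := fun Q => by
      rw [Groth.Agent.Lib.RightAdjCoh.Chart.fibreDimAt_chart f jA j hcm Q,
        Groth.Agent.Lib.GorenMor.AffineSpace.localFibreDim_eq, ← Groth.Agent.H46.DimData.fibreDimAt_eq]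
      exact Groth.Agent.Lib.Flat55.FlatEquidim.fibreDimAt_le_zero f _
    refine ⟨fun i hi => ?_, ⟨_, j, inferInstance, P, rfl, ?_⟩, ?_⟩
    · have hd := (Groth.Agent.Lib.RightAdjCoh.Chart.fibreDimAt_chart f jA j hcm P).trans
        (Groth.Agent.Lib.GorenMor.AffineSpace.localFibreDim_eq f (j P))
      obtain ⟨h1, h2⟩ := Groth.Agent.Lib.DMod.ShriekAmplitude.bounds hψ adjψ P _ hd i
        (Groth.Agent.Lib.RightAdjCoh.Chart.nontrivial_localized_of_stalk j e i P hi)
      have h3 : (Groth.Agent.H46.DimData.fe f (j P) : WithBot ℕ∞) ≤ ((0 : ℕ) : WithBot ℕ∞) :=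
        hd.symm.trans_le (hdim P)
      have h4 : Groth.Agent.H46.DimData.fe f (j P) ≤ 0 := by exact_mod_cast h3
      omega
    · obtain ⟨φ⟩ := Groth.Agent.Lib.DualSch.Affine.nonempty_HD_iso j e 0
      haveI : Module.Finite B (Dual.HD B (Dual2.shriekVia m Rψ (Dual.inD A A)) 0) :=
        Groth.Agent.Lib.DMod.ShriekSelf.finite_HD hψ adjψ 0
      exact Groth.Agent.Lib.CohBasics.Closure.isCoh_of_iso φ.symm
        (Groth.Agent.H78.Formal.Algebraize.isCoh_tilde (A := CommRingCat.of B)
          (ModuleCat.of B (Dual.HD B (Dual2.shriekVia m Rψ (Dual.inD A A)) 0)))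
    · obtain ⟨φ⟩ := Groth.Agent.Lib.DualSch.Affine.nonempty_HD_iso j e 0
      letI : Module A (Dual.HD B (Dual2.shriekVia m Rψ (Dual.inD A A)) 0) :=
        Module.compHom _ (algebraMap A B)
      haveI : IsScalarTower A B (Dual.HD B (Dual2.shriekVia m Rψ (Dual.inD A A)) 0) :=
        IsScalarTower.of_algebraMap_smul fun _ _ => rfl
      haveI := Groth.Agent.Lib.RightAdjCoh.FlatDegZero.flat_HD_zero (R := A)
        (Dual2.shriekVia m Rψ (Dual.inD A A))
        (by simpa using Groth.Agent.Lib.DMod.ShriekAmplitude.torAmplitude hψ adjψ 0 hdim)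
      exact Groth.Agent.Lib.RightAdjCoh.FlatDegZero.isFlatOverAt_chart f jA j hcm _ φ P
  refine ⟨fun i hi => Groth.Agent.Lib.Modules.Support.support_eq_empty_iff.1
      (Set.eq_empty_of_forall_notMem fun x hx => hi ((hpt x).1 i (not_subsingleton_iff_nontrivial.1 hx))),
    Groth.Agent.Lib.Perfect.Coherent.isCoh_of_cover fun x => (hpt x).2.1, fun x => (hpt x).2.2⟩

end Groth.Agent.S3613
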