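import Groth.Statements.S3614
import Groth.Agent.Lib.RightAdjCoh.RelAmp
import Groth.Agent.Lib.RightAdjCoh.CMFib
import Groth.Agent.Lib.RightAdjCoh.ChartIn
import Groth.Agent.Lib.DMod.ShriekSelf
import Groth.Agent.Lib.Flat55.FlatEquidim
import Groth.Agent.Lib.Perfect.Coherent
import Groth.Agent.H78.Formal.Algebraize
-- import your own Groth.Agent.* helpers here

set_option maxHeartbeats 800000

set_option autoImplicit false
universe u
open CategoryTheory CategoryTheory.Limits AlgebraicGeometry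
attribute [local instance] HasDerivedCategory.standard
open Dual3

namespace Groth.Agent.S3614

/-- Let S be a Noetherian scheme, X and Y schemes separated and of finite type over S and f : X → Y a
morphism over S; compute f^! through a compactification f = j ∘ p (j : X → X' an open immersion, p :
X' → Y proper, Rp_* on D_QCoh assumed to exist and to preserve quasi-coherence of cohomology, a a
right adjoint of Rp_*, restriction of modules to opens assumed exact), so that f^!K = a(K)|_X.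
Assume f is Cohen–Macaulay at every point and every irreducible component of every fibre of f has
dimension d, and let O be the structure sheaf of Y in degree 0. Then H^i(f^!O) = 0 for i ≠ -d and
H^{-d}(f^!O) is a coherent O_X-module flat over Y; that is, f^!O = ω[d] for a coherent Y-flat module
ω. -/
theorem result (S X Y : Scheme.{u}) [IsNoetherian S] (p : X ⟶ S) (q : Y ⟶ S) [Dual3.IsSepFT p] [Dual3.IsSepFT q] (f : X ⟶ Y) (w : f ≫ q = p) (hCM : ∀ x : X, MoreMor.IsCMAt f x) (d : ℕ) (hd : ∀ (y : Y) (Z : Set ↥(f.fiber y)), Z ∈ irreducibleComponents ↥(f.fiber y) → topologicalKrullDim ↥Z = (d : WithBot ℕ∞)) (c : DEt.Compactification f) [DCoh.HasRpush c.fbar] (hc : DCoh.RpushPreservesQCoh c.fbar) (a : DCoh.DQCoh Y ⥤ DCoh.DQCoh c.Xbar) (adj : DCoh.RpushQ c.fbar hc ⊣ a) [∀ (U V : Scheme.{u}) (j : U ⟶ V) [IsOpenImmersion j], PreservesFiniteLimits (Scheme.Modules.restrictFunctor j)] (O : DCoh.DQCoh Y) (hO : Nonempty (O.obj ≅ DCoh.inD Y (Coh.structureModule Y))) : (∀ i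 : ℤ, i ≠ -(d : ℤ) → IsZero (DCoh.HD ((Dual3.shriekC c a).obj O) i)) ∧ Coh.IsCoh (DCoh.HD ((Dual3.shriekC c a).obj O) (-(d : ℤ))) ∧ FlatMod.IsFlatOver f (DCoh.HD ((Dual3.shriekC c a).obj O) (-(d : ℤ))) := by
  haveI : ∀ R : CommRingCat.{u}, PreservesFiniteLimits (tilde.functor R) := fun R => inferInstance
  haveI : IsLocallyNoetherian Y := LocallyOfFiniteType.isLocallyNoetherian q
  haveI : CompactSpace Y := QuasiCompact.compactSpace_of_compactSpace q
  haveI : IsNoetherian Y := {}
  haveI : LocallyOfFiniteType (f ≫ q) := w ▸ inferInstance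
  haveI : LocallyOfFiniteType f := locallyOfFiniteType_of_comp f q
  haveI : Flat f := Flat.iff_flat_stalkMap f |>.2 fun x => (hCM x).1
  have hdim : ∀ x : X, FlatMor.fibreDimAt f x = (d : WithBot ℕ∞) :=
    Groth.Agent.Lib.Flat55.FlatEquidim.fibreDimAt_eq_of_forall f d
      ((Groth.Agent.Lib.Flat55.FlatEquidim.forall_fibre_component_iff f d).1 hd)
  have hpt : ∀ x : X, (∀ i : ℤ, Nontrivial ((DCoh.HD ((Dual3.shriekC c a).obj O) i).presheaf.stalk x) → i = -(d : ℤ)) ∧
      (∃ (U : Scheme.{u}) (j : U ⟶ X) (_ : IsOpenImmersion j) (y : U),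
        j y = x ∧ Coh.IsCoh ((DCoh.HD ((Dual3.shriekC c a).obj O) (-(d : ℤ))).restrict j)) ∧
      FlatMod.IsFlatOverAt f (DCoh.HD ((Dual3.shriekC c a).obj O) (-(d : ℤ))) x := by
    intro x
    obtain ⟨A, B, _, _, _, _, _, _, jA, _, j, _, P, rfl, hcm⟩ :=
      Groth.Agent.Lib.RightAdjCoh.Chart.exists_chart f x
    obtain ⟨m, ψ, hψ⟩ := Algebra.FiniteType.iff_quotient_mvPolynomial''.1
      (inferInstance : Algebra.FiniteType A B)
    obtain ⟨Rψ, ⟨adjψ⟩⟩ := Groth.Agent.Lib.RightAdjCoh.Chart.exists_adjR (CommRingCat.ofHom ψ.toRingHom)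
    haveI := Groth.Agent.Lib.DR.BaseChangeU.hasLBaseChange (algebraMap A (MvPolynomial (Fin m) A))
    haveI : Module.Flat A B := by
      have h1 : Flat (Spec.map (CommRingCat.ofHom (algebraMap A B)) ≫ jA) := hcm ▸ inferInstance
      have h2 : Flat (Spec.map (CommRingCat.ofHom (algebraMap A B))) :=
        MorphismProperty.of_postcomp (W := @Flat) (W' := @IsOpenImmersion) _ jA ‹_› h1
      exact RingHom.flat_algebraMap_iff.1 ((HasRingHomProperty.Spec_iff (P := @Flat)).1 h2)
    haveI : LocallyOfFiniteType (Groth.Agent.H46.UnivOpenFinite.sm A B) :=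
      Groth.Agent.H46.UnivOpenFinite.lft_sm A B
    obtain ⟨eO⟩ := Groth.Agent.Lib.RightAdjCoh.Chart.nonempty_one_chart jA hO
    obtain ⟨e⟩ := Groth.Agent.Lib.RightAdjCoh.Chart.nonempty_shriek_chart f c.j c.fbar c.fac hc adj jA j hcm
      ψ hψ adjψ O (Groth.Agent.Lib.RightAdjCoh.Chart.exists_isGE_one hO) (Dual.inD A A) eO
    have hdimQ : ∀ Q : PrimeSpectrum B,
        FlatMor.fibreDimAt (Spec.map (CommRingCat.ofHom (algebraMap A B))) Q = (d : WithBot ℕ∞) := fun Q => by
      rw [Groth.Agent.Lib.RightAdjCoh.Chart.fibreDimAt_chart f jA j hcm Q,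
        Groth.Agent.Lib.GorenMor.AffineSpace.localFibreDim_eq, ← Groth.Agent.H46.DimData.fibreDimAt_eq]
      exact hdim _
    have hQ : ∀ (Q : PrimeSpectrum B) (i : ℤ), Nontrivial (LocalizedModule Q.asIdeal.primeCompl
        (Dual.HD B (Dual2.shriekVia m Rψ (Dual.inD A A)) i)) → i = -(d : ℤ) := fun Q i hi => by
      refine Groth.Agent.Lib.RightAdjCoh.CMFib.eq_of_nontrivial hψ adjψ Q d (hdimQ Q) ?_ i hi
      exact Groth.Agent.Lib.RightAdjCoh.CMFib.cm_fibreAt_chart f A B jA j hcm Q (hCM _)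
    refine ⟨fun i hi => ?_, ⟨_, j, inferInstance, P, rfl, ?_⟩, ?_⟩
    · exact hQ P i (Groth.Agent.Lib.RightAdjCoh.Chart.nontrivial_localized_of_stalk j e i P hi)
    · obtain ⟨φ⟩ := Groth.Agent.Lib.DualSch.Affine.nonempty_HD_iso j e (-(d : ℤ))
      haveI : Module.Finite B (Dual.HD B (Dual2.shriekVia m Rψ (Dual.inD A A)) (-(d : ℤ))) :=
        Groth.Agent.Lib.DMod.ShriekSelf.finite_HD hψ adjψ (-(d : ℤ))
      exact Groth.Agent.Lib.CohBasics.Closure.isCoh_of_iso φ.symm
        (Groth.Agent.H78.Formal.Algebraize.isCoh_tilde (A := CommRingCat.of B)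
          (ModuleCat.of B (Dual.HD B (Dual2.shriekVia m Rψ (Dual.inD A A)) (-(d : ℤ)))))
    · obtain ⟨φ⟩ := Groth.Agent.Lib.DualSch.Affine.nonempty_HD_iso j e (-(d : ℤ))
      letI : Module A (Dual.HD B (Dual2.shriekVia m Rψ (Dual.inD A A)) (-(d : ℤ))) :=
        Module.compHom _ (algebraMap A B)
      haveI : IsScalarTower A B (Dual.HD B (Dual2.shriekVia m Rψ (Dual.inD A A)) (-(d : ℤ))) :=
        IsScalarTower.of_algebraMap_smul fun _ _ => rfl
      haveI := Groth.Agent.Lib.RightAdjCoh.RelAmp.flat_HD_of_isLE (R := A)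
        (Dual2.shriekVia m Rψ (Dual.inD A A))
        ((Groth.Agent.Lib.DMod.Basic.isLE_iff _ _).2 fun i hi => by
          refine Groth.Agent.Lib.DMod.ShriekLCI.subsingleton_of_local (A := B) fun (Q : Ideal B) (hQm : Q.IsMaximal) z => ?_
          haveI := hQm.isPrime
          by_contra hz
          exact absurd (hQ ⟨Q, inferInstance⟩ i (not_subsingleton_iff_nontrivial.1 fun hs =>
            hz (LocalizedModule.subsingleton_iff.1 hs z))) (by omega))
        (Groth.Agent.Lib.DMod.ShriekAmplitude.torAmplitude hψ adjψ d fun Q => (hdimQ Q).le)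
      exact Groth.Agent.Lib.RightAdjCoh.FlatDegZero.isFlatOverAt_chart f jA j hcm _ φ P
  refine ⟨fun i hi => Groth.Agent.Lib.Modules.Support.support_eq_empty_iff.1
      (Set.eq_empty_of_forall_notMem fun x hx => hi ((hpt x).1 i (not_subsingleton_iff_nontrivial.1 hx))),
    Groth.Agent.Lib.Perfect.Coherent.isCoh_of_cover fun x => (hpt x).2.1, fun x => (hpt x).2.2⟩

end Groth.Agent.S3614
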