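import Groth.Statements.S3615
import Groth.Agent.Lib.RightAdjCoh.CMFib
import Groth.Agent.Lib.RightAdjCoh.ChartIn
import Groth.Agent.Lib.DMod.ShriekSelf
-- import your own Groth.Agent.* helpers here

set_option maxHeartbeats 800000

set_option autoImplicit false
universe u
open CategoryTheory CategoryTheory.Limits AlgebraicGeometry
attribute [local instance] HasDerivedCategory.standard
open Dual3

namespace Groth.Agent.S3615

/-- Let S be a Noetherian scheme, X and Y schemes separated and of finite type over S and f : X → Y a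
morphism over S; compute f^! through a compactification f = j ∘ p (j : X → X' an open immersion, p :
X' → Y proper, Rp_* on D_QCoh assumed to exist and to preserve quasi-coherence of cohomology, a a
right adjoint of Rp_*, restriction of modules to opens assumed exact), so that f^!K = a(K)|_X.
Assume f is flat and let O be the structure sheaf of Y in degree 0 and x a point of X. Then f is
Cohen–Macaulay at x if and only if there are an open neighbourhood U of x and an integer n such that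
H^i(f^!O) restricts to zero on U for every i ≠ n while H^n(f^!O) does not. -/
theorem result (S X Y : Scheme.{u}) [IsNoetherian S] (p : X ⟶ S) (q : Y ⟶ S) [Dual3.IsSepFT p] [Dual3.IsSepFT q] (f : X ⟶ Y) (w : f ≫ q = p) [Flat f] (c : DEt.Compactification f) [DCoh.HasRpush c.fbar] (hc : DCoh.RpushPreservesQCoh c.fbar) (a : DCoh.DQCoh Y ⥤ DCoh.DQCoh c.Xbar) (adj : DCoh.RpushQ c.fbar hc ⊣ a) [∀ (U V : Scheme.{u}) (j : U ⟶ V) [IsOpenImmersion j], PreservesFiniteLimits (Scheme.Modules.restrictFunctor j)] (O : DCoh.DQCoh Y) (hO : Nonempty (O.obj ≅ DCoh.inD Y (Coh.structureModule Y))) (x : X) : MoreMor.IsCMAt f x ↔ ∃ (U : X.Opens) (n : ℤ), x ∈ U ∧ (∀ i : ℤ, i ≠ n → IsZero ((DCoh.HD ((Dual3.shriekC c a).obj O) i).restrict U.ι)) ∧ ¬ IsZero ((DCoh.HD ((Dual3.shriekC c a).obj O) n).restrict U.ι) := by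
  haveI : ∀ R : CommRingCat.{u}, PreservesFiniteLimits (tilde.functor R) := fun R => inferInstance
  haveI : IsLocallyNoetherian Y := LocallyOfFiniteType.isLocallyNoetherian q
  haveI : CompactSpace Y := QuasiCompact.compactSpace_of_compactSpace q
  haveI : IsNoetherian Y := {}
  haveI : LocallyOfFiniteType (f ≫ q) := w ▸ inferInstance
  haveI : LocallyOfFiniteType f := locallyOfFiniteType_of_comp f q
  have hres : ∀ (U : X.Opens) (i : ℤ) (z : U),
      Nontrivial (((DCoh.HD ((Dual3.shriekC c a).obj O) i).restrict U.ι).presheaf.stalk z) ↔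
        Nontrivial ((DCoh.HD ((Dual3.shriekC c a).obj O) i).presheaf.stalk (U.ι z)) := fun U i z =>
    ((Groth.Agent.Lib.Modules.Local.restrictStalkIso U.ι z).app
      (DCoh.HD ((Dual3.shriekC c a).obj O) i)).addCommGroupIsoToAddEquiv.toEquiv.nontrivial_congr
  constructor
  · intro hx
    obtain ⟨A, B, _, _, _, _, _, _, jA, _, j, _, P, rfl, hcm⟩ :=
      Groth.Agent.Lib.RightAdjCoh.Chart.exists_chart f x
    obtain ⟨m, ψ, hψ⟩ := Algebra.FiniteType.iff_quotient_mvPolynomial''.1
      (inferInstance : Algebra.FiniteType A B)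
    obtain ⟨Rψ, ⟨adjψ⟩⟩ := Groth.Agent.Lib.RightAdjCoh.Chart.exists_adjR (CommRingCat.ofHom ψ.toRingHom)
    haveI := Groth.Agent.Lib.DR.BaseChangeU.hasLBaseChange (algebraMap A (MvPolynomial (Fin m) A))
    haveI : Module.Flat A B := by
      have h1 : Flat (Spec.map (CommRingCat.ofHom (algebraMap A B)) ≫ jA) := hcm ▸ inferInstance
      have h2 : Flat (Spec.map (CommRingCat.ofHom (algebraMap A B))) :=
        MorphismProperty.of_postcomp (W := @Flat) (W' := @IsOpenImmersion) _ jA ‹_› h1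
      exact RingHom.flat_algebraMap_iff.1 ((HasRingHomProperty.Spec_iff (P := @Flat)).1 h2)
    haveI : LocallyOfFiniteType (Groth.Agent.H46.UnivOpenFinite.sm A B) :=
      Groth.Agent.H46.UnivOpenFinite.lft_sm A B
    obtain ⟨eO⟩ := Groth.Agent.Lib.RightAdjCoh.Chart.nonempty_one_chart jA hO
    obtain ⟨e⟩ := Groth.Agent.Lib.RightAdjCoh.Chart.nonempty_shriek_chart f c.j c.fbar c.fac hc adj jA j hcm
      ψ hψ adjψ O (Groth.Agent.Lib.RightAdjCoh.Chart.exists_isGE_one hO) (Dual.inD A A) eO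
    have hCMP := Groth.Agent.Lib.RightAdjCoh.CMFib.cm_fibreAt_chart f A B jA j hcm P hx
    have hdd := Groth.Agent.H46.DimData.fibreDimAt_eq (Groth.Agent.H46.UnivOpenFinite.sm A B) P
    let dd := Groth.Agent.H46.DimData.fe (Groth.Agent.H46.UnivOpenFinite.sm A B) P
    let M := Dual2.shriekVia m Rψ (Dual.inD A A)
    obtain ⟨lo, hi, hb⟩ := Groth.Agent.Lib.DMod.ShriekSelf.exists_bounds hψ adjψ
    have hfin := Groth.Agent.Lib.DMod.ShriekSelf.finite_HD hψ adjψ
    let bad : Set (PrimeSpectrum B) :=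
      ⋃ i ∈ {i ∈ Set.Icc lo hi | i ≠ -(dd : ℤ)}, Module.support B (Dual.HD B M i)
    have hbad : IsClosed bad :=
      ((Set.finite_Icc lo hi).subset fun i hi => hi.1).isClosed_biUnion fun i _ =>
        haveI := hfin i
        Module.isClosed_support
    have hP : P ∉ bad := fun h => by
      obtain ⟨i, ⟨-, hne⟩, hi'⟩ := Set.mem_iUnion₂.1 h
      exact hne (Groth.Agent.Lib.RightAdjCoh.CMFib.eq_of_nontrivial hψ adjψ P dd hdd hCMP i
        (Module.mem_support_iff.1 hi'))
    let W : X.Opens := ⟨j '' badᶜ, j.isOpenEmbedding.isOpenMap _ hbad.isOpen_compl⟩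
    refine ⟨W, -(dd : ℤ), ⟨P, hP, rfl⟩, fun i hne => ?_, fun hz => ?_⟩
    · refine Groth.Agent.Lib.Modules.Support.support_eq_empty_iff.1 (Set.eq_empty_of_forall_notMem fun z hz => ?_)
      have h1 := (hres W i z).1 (not_subsingleton_iff_nontrivial.1 hz)
      obtain ⟨Q, hQ, hQz⟩ := z.2
      change Nontrivial ((DCoh.HD ((Dual3.shriekC c a).obj O) i).presheaf.stalk z.1) at h1
      rw [← hQz] at h1
      have h2 := (Groth.Agent.Lib.DualSch.Affine.nontrivial_stalk_iff j e i Q).1 h1
      refine hQ (Set.mem_iUnion₂.2 ⟨i, ⟨⟨?_, ?_⟩, hne⟩, h2⟩)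
      · by_contra hlt
        haveI := hb i (Or.inl (not_le.1 hlt))
        rw [Module.support_eq_empty] at h2
        exact h2
      · by_contra hlt
        haveI := hb i (Or.inr (not_le.1 hlt))
        rw [Module.support_eq_empty] at h2
        exact h2
    · have h1 := (Groth.Agent.Lib.DualSch.Affine.nontrivial_stalk_iff j e (-(dd : ℤ)) P).2
        (Module.mem_support_iff.2
          (Groth.Agent.Lib.RightAdjCoh.CMFib.nontrivial_of_cm hψ adjψ P dd hdd hCMP))
      have h2 := (hres W (-(dd : ℤ)) ⟨j P, P, hP, rfl⟩).2 h1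
      have h3 := Groth.Agent.Lib.Modules.Support.support_eq_empty_iff.2 hz
      exact (Set.eq_empty_iff_forall_notMem.1 h3) ⟨j P, P, hP, rfl⟩ (not_subsingleton_iff_nontrivial.2 h2)
  · rintro ⟨U, n, hxU, hz, -⟩
    obtain ⟨A, B, _, _, _, _, _, _, jA, _, j, _, P, rfl, hsub, hcm⟩ :=
      Groth.Agent.Lib.RightAdjCoh.Chart.exists_chart_in f x U hxU
    obtain ⟨m, ψ, hψ⟩ := Algebra.FiniteType.iff_quotient_mvPolynomial''.1
      (inferInstance : Algebra.FiniteType A B)
    obtain ⟨Rψ, ⟨adjψ⟩⟩ := Groth.Agent.Lib.RightAdjCoh.Chart.exists_adjR (CommRingCat.ofHom ψ.toRingHom)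
    haveI := Groth.Agent.Lib.DR.BaseChangeU.hasLBaseChange (algebraMap A (MvPolynomial (Fin m) A))
    haveI : Module.Flat A B := by
      have h1 : Flat (Spec.map (CommRingCat.ofHom (algebraMap A B)) ≫ jA) := hcm ▸ inferInstance
      have h2 : Flat (Spec.map (CommRingCat.ofHom (algebraMap A B))) :=
        MorphismProperty.of_postcomp (W := @Flat) (W' := @IsOpenImmersion) _ jA ‹_› h1
      exact RingHom.flat_algebraMap_iff.1 ((HasRingHomProperty.Spec_iff (P := @Flat)).1 h2)
    haveI : LocallyOfFiniteType (Groth.Agent.H46.UnivOpenFinite.sm A B) :=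
      Groth.Agent.H46.UnivOpenFinite.lft_sm A B
    obtain ⟨eO⟩ := Groth.Agent.Lib.RightAdjCoh.Chart.nonempty_one_chart jA hO
    obtain ⟨e⟩ := Groth.Agent.Lib.RightAdjCoh.Chart.nonempty_shriek_chart f c.j c.fbar c.fac hc adj jA j hcm
      ψ hψ adjψ O (Groth.Agent.Lib.RightAdjCoh.Chart.exists_isGE_one hO) (Dual.inD A A) eO
    refine Groth.Agent.Lib.RightAdjCoh.CMFib.isCMAt_of_chart f jA j _ hcm P
      (Groth.Agent.Lib.RightAdjCoh.CMFib.isCMAt_sm_of_fibreAt A B P
        (Groth.Agent.Lib.RightAdjCoh.CMFib.cm_of_single hψ adjψ n (fun Q i hi hn => ?_) P))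
    have h1 := (Groth.Agent.Lib.DualSch.Affine.nontrivial_stalk_iff j e i Q).2 (Module.mem_support_iff.2 hn)
    have h2 := (hres U i ⟨j Q, hsub ⟨Q, rfl⟩⟩).2 h1
    exact (Set.eq_empty_iff_forall_notMem.1
      (Groth.Agent.Lib.Modules.Support.support_eq_empty_iff.2 (hz i hi))) _ (not_subsingleton_iff_nontrivial.2 h2)

end Groth.Agent.S3615
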