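import Groth.Statements.S3616
import Groth.Agent.Lib.RightAdjCoh.ChartIn
import Groth.Agent.Lib.DualSch.Invertible
import Groth.Agent.Lib.DMod.ShriekGor
import Groth.Agent.Lib.GorenMor.Local
import Groth.Agent.Lib.DMod.ShriekSelf
-- import your own Groth.Agent.* helpers here

set_option maxHeartbeats 800000

set_option autoImplicit false
universe u
open CategoryTheory CategoryTheory.Limits AlgebraicGeometry
attribute [local instance] HasDerivedCategory.standard
open Dual3

namespace Groth.Agent.S3616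

/-- Let S be a Noetherian scheme, X and Y schemes separated and of finite type over S and f : X → Y a
morphism over S; compute f^! through a compactification f = j ∘ p (j : X → X' an open immersion, p :
X' → Y proper, Rp_* on D_QCoh assumed to exist and to preserve quasi-coherence of cohomology, a a
right adjoint of Rp_*, restriction of modules to opens assumed exact), so that f^!K = a(K)|_X.
Assume f is flat and let O be the structure sheaf of Y in degree 0. Then f is Gorenstein at a point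
x (flat at x with Gorenstein local ring of the fibre) if and only if x has an open neighbourhood U
such that (f^!O)|_U is an invertible object of D(O_U); and the Gorenstein locus of f is an open
subset of X. -/
theorem result (S X Y : Scheme.{u}) [IsNoetherian S] (p : X ⟶ S) (q : Y ⟶ S) [Dual3.IsSepFT p] [Dual3.IsSepFT q] (f : X ⟶ Y) (w : f ≫ q = p) [Flat f] (c : DEt.Compactification f) [DCoh.HasRpush c.fbar] (hc : DCoh.RpushPreservesQCoh c.fbar) (a : DCoh.DQCoh Y ⥤ DCoh.DQCoh c.Xbar) (adj : DCoh.RpushQ c.fbar hc ⊣ a) [∀ (U V : Scheme.{u}) (j : U ⟶ V) [IsOpenImmersion j], PreservesFiniteLimits (Scheme.Modules.restrictFunctor j)] (O : DCoh.DQCoh Y) (hO : Nonempty (O.obj ≅ DCoh.inD Y (Coh.structureModule Y))) : (∀ x : X, Dual3.IsGorensteinAt f x ↔ ∃ U : X.Opens, x ∈ U ∧ Dual3.IsInvertibleD ((DCoh.restrictD U.ι).obj ((Dual3.shriekC c a).obj O))) ∧ IsOpen {x : X | Dual3.IsGorensteinAt f x} := by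
  haveI : ∀ R : CommRingCat.{u}, PreservesFiniteLimits (tilde.functor R) := fun R => inferInstance
  haveI : IsLocallyNoetherian Y := LocallyOfFiniteType.isLocallyNoetherian q
  haveI : CompactSpace Y := QuasiCompact.compactSpace_of_compactSpace q
  haveI : IsNoetherian Y := {}
  haveI : LocallyOfFiniteType (f ≫ q) := w ▸ inferInstance
  haveI : LocallyOfFiniteType f := locallyOfFiniteType_of_comp f q
  haveI : LocallyOfFinitePresentation f := inferInstance
  have hopen := Groth.Agent.Lib.GorenMor.Local.isOpen_gorensteinLocus f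
  refine ⟨fun x => ⟨fun hx => ?_, ?_⟩, hopen⟩
  · -- the Gorenstein locus carries a trivialisation
    let G : X.Opens := ⟨{x : X | Dual3.IsGorensteinAt f x}, hopen⟩
    obtain ⟨A, B, _, _, _, _, _, _, jA, _, j, _, P, rfl, hsub, hcm⟩ :=
      Groth.Agent.Lib.RightAdjCoh.Chart.exists_chart_in f x G hx
    obtain ⟨m, ψ, hψ⟩ := Algebra.FiniteType.iff_quotient_mvPolynomial''.1
      (inferInstance : Algebra.FiniteType A B)
    obtain ⟨Rψ, ⟨adjψ⟩⟩ := Groth.Agent.Lib.RightAdjCoh.Chart.exists_adjR (CommRingCat.ofHom ψ.toRingHom)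
    haveI := Groth.Agent.Lib.DR.BaseChangeU.hasLBaseChange (algebraMap A (MvPolynomial (Fin m) A))
    haveI : ∀ g : B, DRing.HasLBaseChange (algebraMap B (Localization.Away g)) := fun g =>
      Groth.Agent.Lib.DR.BaseChangeU.hasLBaseChange _
    haveI : Module.Flat A B := by
      have h1 : Flat (Spec.map (CommRingCat.ofHom (algebraMap A B)) ≫ jA) := hcm ▸ inferInstance
      have h2 : Flat (Spec.map (CommRingCat.ofHom (algebraMap A B))) :=
        MorphismProperty.of_postcomp (W := @Flat) (W' := @IsOpenImmersion) _ jA ‹_› h1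
      exact RingHom.flat_algebraMap_iff.1 ((HasRingHomProperty.Spec_iff (P := @Flat)).1 h2)
    haveI : LocallyOfFiniteType (Groth.Agent.H46.UnivOpenFinite.sm A B) :=
      Groth.Agent.H46.UnivOpenFinite.lft_sm A B
    obtain ⟨eO⟩ := Groth.Agent.Lib.RightAdjCoh.Chart.nonempty_one_chart jA hO
    obtain ⟨e⟩ := Groth.Agent.Lib.RightAdjCoh.Chart.nonempty_shriek_chart f c.j c.fbar c.fac hc adj jA j hcm
      ψ hψ adjψ O (Groth.Agent.Lib.RightAdjCoh.Chart.exists_isGE_one hO) (Dual.inD A A) eO
    have hfib : ∀ (Q : Ideal B) [Q.IsPrime],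
        LocCoh.IsGorensteinLocalRing (Groth.Agent.Lib.DMod.GorFibrePrime.FibreAt A Q) := by
      intro Q _
      have h1 : Dual3.IsGorensteinAt f (j ⟨Q, ‹_›⟩) := hsub ⟨_, rfl⟩
      rw [← Groth.Agent.Lib.GorenMor.Local.openImmersion_comp_iff j f, hcm,
        Groth.Agent.Lib.GorenMor.Local.comp_openImmersion_iff] at h1
      exact (Groth.Agent.Lib.GorenMor.Local.sm_iff A B ⟨Q, ‹_›⟩).1 h1
    obtain ⟨g, hg, k, ⟨eg⟩⟩ := (Groth.Agent.Lib.DMod.ShriekGor.fibres_iff_invertible hψ adjψ).1
      (Groth.Agent.Lib.DMod.GorFibrePrime.fibres_iff.2 hfib) P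
    let b : CommRingCat.of B ⟶ CommRingCat.of (Localization.Away g) :=
      CommRingCat.ofHom (algebraMap B (Localization.Away g))
    haveI : IsOpenImmersion (Spec.map b) :=
      IsOpenImmersion.of_isLocalization (R := B) (S := Localization.Away g) g
    haveI : Module.Flat B (Localization.Away g) := IsLocalization.flat _ (Submonoid.powers g)
    haveI : PreservesFiniteLimits (ModuleCat.extendScalars.{u, u, u} b.hom) :=
      Groth.Agent.Lib.DR.FlatBC.preservesFiniteLimits (A := B) (B := Localization.Away g)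
    haveI : PreservesFiniteColimits (ModuleCat.extendScalars.{u, u, u} b.hom) :=
      Groth.Agent.Lib.DR.FlatBC.preservesFiniteColimits (A := B) (B := Localization.Away g)
    obtain ⟨e₁⟩ := Groth.Agent.Lib.DualSch.Invertible.nonempty_tildeD_self (A := Localization.Away g) k
    let i₁ := (Groth.Agent.Lib.DMod.FlatHom.isoLBaseChange B (Localization.Away g)).app
      (Dual2.shriekVia m Rψ (Dual.inD A A))
    let J := Spec.map b ≫ j
    have hxJ : j P ∈ J.opensRange := by
      obtain ⟨z, hz⟩ := (PrimeSpectrum.localization_away_comap_range (Localization.Away g) g).ge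
        (show P ∈ PrimeSpectrum.basicOpen g from hg)
      refine ⟨z, ?_⟩
      show j (Spec.map b z) = j P
      rw [show Spec.map b z = P from hz]
    obtain ⟨eR⟩ := Groth.Agent.Lib.DualSch.Invertible.exists_opens J
      (n := k) (K := (Dual3.shriekC c a).obj O)
      (Groth.Agent.Lib.Perfect.Triangle.RDComp (Spec.map b) j _ ≪≫
        (Groth.Agent.Lib.Perfect.Basic.RD (Spec.map b)).mapIso e ≪≫
        Groth.Agent.Lib.DualSch.Local.restrictTilde b _ ≪≫
        (DCoh.tildeD (CommRingCat.of (Localization.Away g))).mapIso (i₁.symm ≪≫ eg) ≪≫ e₁)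
    refine ⟨J.opensRange, hxJ, fun z => ⟨⊤, k, trivial, ?_⟩⟩
    obtain ⟨eR'⟩ := Groth.Agent.Lib.DualSch.Invertible.nonempty_RD_shift
      (X := (J.opensRange : Scheme.{u})) (⊤ : (J.opensRange : Scheme.{u}).Opens).ι k
    exact ⟨(DCoh.restrictD _).mapIso eR ≪≫ eR'⟩
  · rintro ⟨U, hxU, hinv⟩
    obtain ⟨U', k, hxU', ⟨e₀⟩⟩ := hinv ⟨x, hxU⟩
    let J₀ := U'.ι ≫ U.ι
    obtain ⟨A, B, _, _, _, _, _, _, jA, _, j, _, P, rfl, hsub, hcm⟩ :=
      Groth.Agent.Lib.RightAdjCoh.Chart.exists_chart_in f x J₀.opensRange ⟨⟨⟨x, hxU⟩, hxU'⟩, rfl⟩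
    obtain ⟨m, ψ, hψ⟩ := Algebra.FiniteType.iff_quotient_mvPolynomial''.1
      (inferInstance : Algebra.FiniteType A B)
    obtain ⟨Rψ, ⟨adjψ⟩⟩ := Groth.Agent.Lib.RightAdjCoh.Chart.exists_adjR (CommRingCat.ofHom ψ.toRingHom)
    haveI := Groth.Agent.Lib.DR.BaseChangeU.hasLBaseChange (algebraMap A (MvPolynomial (Fin m) A))
    haveI : ∀ g : B, DRing.HasLBaseChange (algebraMap B (Localization.Away g)) := fun g =>
      Groth.Agent.Lib.DR.BaseChangeU.hasLBaseChange _
    haveI : Module.Flat A B := by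
      have h1 : Flat (Spec.map (CommRingCat.ofHom (algebraMap A B)) ≫ jA) := hcm ▸ inferInstance
      have h2 : Flat (Spec.map (CommRingCat.ofHom (algebraMap A B))) :=
        MorphismProperty.of_postcomp (W := @Flat) (W' := @IsOpenImmersion) _ jA ‹_› h1
      exact RingHom.flat_algebraMap_iff.1 ((HasRingHomProperty.Spec_iff (P := @Flat)).1 h2)
    haveI : LocallyOfFiniteType (Groth.Agent.H46.UnivOpenFinite.sm A B) :=
      Groth.Agent.H46.UnivOpenFinite.lft_sm A B
    obtain ⟨eO⟩ := Groth.Agent.Lib.RightAdjCoh.Chart.nonempty_one_chart jA hO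
    obtain ⟨e⟩ := Groth.Agent.Lib.RightAdjCoh.Chart.nonempty_shriek_chart f c.j c.fbar c.fac hc adj jA j hcm
      ψ hψ adjψ O (Groth.Agent.Lib.RightAdjCoh.Chart.exists_isGE_one hO) (Dual.inD A A) eO
    let t := IsOpenImmersion.lift J₀ j hsub
    have ht : t ≫ J₀ = j := IsOpenImmersion.lift_fac _ _ _
    haveI : IsOpenImmersion (t ≫ J₀) := by rw [ht]; infer_instance
    haveI : IsOpenImmersion t := IsOpenImmersion.of_comp t J₀
    obtain ⟨e₂⟩ := Groth.Agent.Lib.DualSch.Invertible.nonempty_RD_comp t J₀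
      (K := (Dual3.shriekC c a).obj O) (n := k)
      (Groth.Agent.Lib.Perfect.Triangle.RDComp U'.ι U.ι _ ≪≫ e₀)
    obtain ⟨e₁⟩ := Groth.Agent.Lib.DualSch.Invertible.nonempty_tildeD_self (A := B) k
    haveI := Groth.Agent.Lib.DerivedOX.TildeEquiv.full (CommRingCat.of B)
    haveI := Groth.Agent.Lib.DerivedOX.TildeEquiv.faithful (CommRingCat.of B)
    let ew : Dual2.shriekVia m Rψ (Dual.inD A A) ≅ (Dual.inD B B)⟦k⟧ :=
      (DCoh.tildeD (CommRingCat.of B)).preimageIso (e.symm ≪≫
        Groth.Agent.Lib.Perfect.Triangle.RDCongr ht.symm _ ≪≫ e₂ ≪≫ e₁.symm)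
    haveI : Module.Flat B (Localization.Away (1 : B)) := IsLocalization.flat _ (Submonoid.powers (1 : B))
    have h1 := (Groth.Agent.Lib.DMod.ShriekGor.fibres_iff_invertible hψ adjψ).2 fun Q => by
      obtain ⟨l⟩ := Groth.Agent.Lib.DMod.ShriekSelf.nonempty_lbc_inD_self (A := B)
        (B := Localization.Away (1 : B))
      exact ⟨1, fun h => Q.2.ne_top ((Ideal.eq_top_iff_one _).2 h), k,
        ⟨(Groth.Agent.Lib.DMod.FlatHom.isoLBaseChange B (Localization.Away (1 : B))).app _ ≪≫
          (Groth.Agent.Lib.DMod.FlatHom.L B (Localization.Away (1 : B))).mapIso ew ≪≫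
          ((Groth.Agent.Lib.DMod.FlatHom.L B (Localization.Away (1 : B))).commShiftIso k).app _ ≪≫
          (shiftFunctor _ k).mapIso
            (((Groth.Agent.Lib.DMod.FlatHom.isoLBaseChange B (Localization.Away (1 : B))).app _).symm ≪≫ l)⟩⟩
    rw [← Groth.Agent.Lib.GorenMor.Local.openImmersion_comp_iff j f, hcm,
      Groth.Agent.Lib.GorenMor.Local.comp_openImmersion_iff]
    exact (Groth.Agent.Lib.GorenMor.Local.sm_iff A B P).2
      (Groth.Agent.Lib.DMod.GorFibrePrime.fibres_iff.1 h1 P.asIdeal)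

end Groth.Agent.S3616
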