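import Groth.Statements.S3621
import Groth.Agent.S0373
import Groth.Agent.Lib.Goren.Flat
import Mathlib

set_option autoImplicit false
universe u
open CategoryTheory CategoryTheory.Limits AlgebraicGeometry
attribute [local instance] HasDerivedCategory.standard
open Dual3

namespace Groth.Agent.S3621

/-- Let X be a locally Noetherian scheme which has a dualizing complex (exactness instances as in the
definition of dualizing complexes on schemes). Then the set of points x of X whose local ring
O_{X,x} is Gorenstein is open. -/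
theorem result (X : Scheme.{u}) [IsLocallyNoetherian X] [∀ (U V : Scheme.{u}) (j : U ⟶ V) [IsOpenImmersion j], PreservesFiniteLimits (Scheme.Modules.restrictFunctor j)] [∀ (R : CommRingCat.{u}), PreservesFiniteLimits (tilde.functor R)] (K : DCoh.D X) (hK : Dual2.IsDualizingSch X K) : IsOpen {x : X | LocCoh.IsGorensteinLocalRing (X.presheaf.stalk x)} := by
  refine isOpen_iff_mem_nhds.mpr fun x hx => ?_
  obtain ⟨U, hU, hxU, -⟩ := exists_isAffineOpen_mem_and_subset (X := X) (x := x) (U := ⊤) trivial
  haveI : IsNoetherianRing Γ(X, U) := IsLocallyNoetherian.component_noetherian ⟨U, hU⟩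
  obtain ⟨ω, hω, -⟩ := hK Γ(X, U) hU.fromSpec
  have hopen := Groth.Agent.S0373.result Γ(X, U) ω hω
  have hset : ∀ p : PrimeSpectrum Γ(X, U),
      LocCoh.IsGorensteinLocalRing (X.presheaf.stalk (hU.fromSpec p)) ↔
        LocCoh.IsGorensteinLocalRing (Localization.AtPrime p.asIdeal) := by
    intro p
    have hp : hU.fromSpec p ∈ U := hU.range_fromSpec.le (Set.mem_range_self (f := hU.fromSpec) p)
    letI := TopCat.Presheaf.algebra_section_stalk X.presheaf ⟨hU.fromSpec p, hp⟩
    haveI : IsLocalization.AtPrime (X.presheaf.stalk (hU.fromSpec p)) p.asIdeal := hU.isLocalization_stalk' p hp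
    exact Groth.Agent.Lib.Goren.Flat.isGorensteinLocalRing_ringEquiv_iff
      (IsLocalization.algEquiv p.asIdeal.primeCompl (X.presheaf.stalk (hU.fromSpec p)) (Localization.AtPrime p.asIdeal)).toRingEquiv
  obtain ⟨p, rfl⟩ : x ∈ Set.range hU.fromSpec := hU.range_fromSpec.symm ▸ hxU
  refine Filter.mem_of_superset ((hU.fromSpec.isOpenEmbedding.isOpenMap _ hopen).mem_nhds ⟨p, (hset p).mp hx, rfl⟩) ?_
  rintro _ ⟨q, hq, rfl⟩
  exact (hset q).mpr hq

end Groth.Agent.S3621
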