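import Groth.Statements.S3631
import Groth.Prelude.Def_Dual3
import Mathlib.AlgebraicGeometry.Morphisms.ClosedImmersion
import Mathlib.AlgebraicGeometry.Noetherian
import Groth.Agent.Lib.PushClosed.Basic
import Groth.Agent.Lib.DerivedAdj.Exact


set_option autoImplicit false
universe u
open CategoryTheory CategoryTheory.Limits AlgebraicGeometry
attribute [local instance] HasDerivedCategory.standard
open Dual3

namespace Groth.Agent.S3631

/-- Let i : Z → X be a closed immersion of schemes, Hom(O_Z, -) the right adjoint of i_* on modules and
R Hom(O_Z, -) : D^+(O_X) → D^+(O_Z) its right derived functor (injective resolutions assumed to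
exist). Then R Hom(O_Z, -) is right adjoint to Ri_* : D^+(O_Z) → D^+(O_X). -/
theorem result (Z X : Scheme.{u}) (i : Z ⟶ X) [IsClosedImmersion i] [Dual3.HasHomO i] [EnoughInjectives X.Modules] [EnoughInjectives Z.Modules] : Nonempty (DCoh.RpushPlus i ⊣ Dual3.RHomOPlus i) := by
  haveI := Groth.Agent.Lib.PushClosed.Basic.pushforward_preservesColimits i
  haveI : PreservesFiniteColimits (Scheme.Modules.pushforward i) :=
    PreservesColimits.preservesFiniteColimits _
  haveI : PreservesFiniteLimits (Scheme.Modules.pushforward i) := by
    haveI : (Scheme.Modules.pushforward i).IsRightAdjoint := inferInstance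
    infer_instance
  haveI : (Scheme.Modules.pushforward i).PreservesHomology := inferInstance
  exact ⟨Groth.Agent.Lib.DerivedAdj.Exact.derivedAdj (Dual3.homOAdj i)⟩

end Groth.Agent.S3631
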