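import Groth.Statements.S3633
import Groth.Agent.Lib.RHomO.Main


set_option autoImplicit false
universe u
open CategoryTheory CategoryTheory.Limits AlgebraicGeometry
attribute [local instance] HasDerivedCategory.standard
open Dual3

namespace Groth.Agent.S3633

/-- Let i : Z → X be a closed immersion with X locally Noetherian and R Hom(O_Z, -) : D^+(O_X) →
D^+(O_Z) the right derived functor of the right adjoint of i_* (injective resolutions assumed). If K
in D^+(O_X) has coherent cohomology sheaves then so does R Hom(O_Z, K). -/
theorem result (Z X : Scheme.{u}) [IsLocallyNoetherian X] (i : Z ⟶ X) [IsClosedImmersion i] [Dual3.HasHomO i] [EnoughInjectives X.Modules] (K : DerivedCategory.Plus X.Modules) (hK : DCoh.IsCohD K.obj) : DCoh.IsCohD ((Dual3.RHomOPlus i).obj K).obj := by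
  haveI := Groth.Agent.Lib.RHomO.Main.preservesFiniteLimits_push i
  haveI := Groth.Agent.Lib.RHomO.Main.preservesFiniteColimits_push i
  obtain ⟨c, hc⟩ := K.property
  haveI := hc
  obtain ⟨θ⟩ := Groth.Agent.Lib.RHomO.Derived.nonempty_plus_iso i
  exact fun n => Groth.Agent.Lib.CohBasics.Closure.isCoh_of_iso
    ((DerivedCategory.homologyFunctor Z.Modules n).mapIso (θ.app K).symm)
    (Groth.Agent.Lib.RHomO.Main.isCohD_RH i K.obj hK c n)

end Groth.Agent.S3633
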