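import Groth.Statements.S3638
import Groth.Agent.Lib.RightAdjCoh.FieldPoint
import Groth.Agent.Lib.DMod.ShriekSelf
import Groth.Agent.Lib.Perfect.Coherent
import Groth.Agent.H78.Formal.Algebraize
import Groth.Agent.S11185
-- import your own Groth.Agent.* helpers here

set_option maxHeartbeats 800000

set_option autoImplicit false
universe u
open CategoryTheory CategoryTheory.Limits AlgebraicGeometry
attribute [local instance] HasDerivedCategory.standard
open Dual3

namespace Groth.Agent.S3638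

/-- Let k be a field and X a scheme proper over k, with structure morphism f : X → Spec k and dim X = d.
Assume the derived direct image Rf_* exists and preserves quasi-coherence of cohomology sheaves
(both known results), so that it restricts to a functor D_QCoh(O_X) → D_QCoh(O_{Spec k}), and let a
: D_QCoh(O_{Spec k}) → D_QCoh(O_X) be a right adjoint of this restricted functor. Let O be an object
of D_QCoh(O_{Spec k}) isomorphic to the structure sheaf placed in degree 0, and put ω_X =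
H^{−d}(a(O)). Then ω_X is coherent; for every point x of X the stalk ω_{X,x} satisfies Serre's
condition (S_2) as a module over O_{X,x}; the support of ω_X (the set of points with nonzero stalk)
is the union of those irreducible components of X which have dimension d; and for every closed point
x and every integer i, some H^j(a(O)) with i ≤ j ≤ 0 has nonzero stalk at x if and only if i ≤ 0 and
depth O_{X,x} ≤ −i. (The published statement has further parts, which are not asserted here, and is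
phrased with the upper shriek f^!; for the proper morphism f, f^!O is the a(O) used here.) -/
theorem result (k : Type u) [Field k] (X : Scheme.{u}) (f : X ⟶ Spec (CommRingCat.of k)) [IsProper f] (d : ℕ) (hd : topologicalKrullDim X = (d : WithBot ℕ∞)) [DCoh.HasRpush f] (hf : DCoh.RpushPreservesQCoh f) (a : DCoh.DQCoh (Spec (CommRingCat.of k)) ⥤ DCoh.DQCoh X) (adj : DCoh.RpushQ f hf ⊣ a) (O : DCoh.DQCoh (Spec (CommRingCat.of k))) (hO : Nonempty (O.obj ≅ DCoh.inD (Spec (CommRingCat.of k)) (Coh.structureModule (Spec (CommRingCat.of k))))) : (Coh.IsCoh (DCoh.HD (a.obj O).obj (-(d : ℤ))) ∧ (∀ x : X, LocCoh.HasSk 2 (X.presheaf.stalk x) ((DCoh.HD (a.obj O).obj (-(d : ℤ))).presheaf.stalk x)) ∧ {x : X | Nontrivial ((DCoh.HD (a.obj O).obj (-(d : ℤ))).presheaf.stalk x)} = ⋃ Z ∈ {Z : Set X | Z ∈ irreducibleComponents X ∧ topologicalKrullDim ↥Z = (d : WithBot ℕ∞)}, Z) ∧ ∀ (x : X), IsClosed ({x} : Set X) → ∀ i : ℤ, ((∃ j : ℤ, i ≤ j ∧ j ≤ 0 ∧ Nontrivial ((DCoh.HD (a.obj O).obj j).presheaf.stalk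 x)) ↔ (LocCoh.depth (X.presheaf.stalk x) (X.presheaf.stalk x) : ℕ∞) ≤ ((-i).toNat : ℕ∞) ∧ i ≤ 0) := by
  haveI : IsRegularRing k := inferInstance
  haveI : ∀ R : CommRingCat.{u}, PreservesFiniteLimits (tilde.functor R) := fun R => inferInstance
  haveI : ∀ (U : Scheme.{u}) (j : U ⟶ X) [IsOpenImmersion j],
      PreservesFiniteLimits (Scheme.Modules.restrictFunctor j) := fun U j _ => inferInstance
  haveI : ∀ (U : Scheme.{u}) (j : U ⟶ Spec (CommRingCat.of k)) [IsOpenImmersion j],
      PreservesFiniteLimits (Scheme.Modules.restrictFunctor j) := fun U j _ => inferInstance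
  haveI : IsNoetherian X := Groth.Agent.Lib.RightAdjCoh.isNoetherian_of_proper f
  have hk : Dual.IsDualizing k (Dual.inD k k) := Groth.Agent.S11185.result k
    (fun p => inferInstance) (by rw [ringKrullDim_eq_zero_of_field]; exact WithBot.coe_lt_coe.2 (ENat.natCast_lt_top 0))
  obtain ⟨eO⟩ := Groth.Agent.Lib.RightAdjCoh.Chart.nonempty_one_chart (𝟙 (Spec (CommRingCat.of k))) hO
  have hOd : Dual2.IsDualizingSch (Spec (CommRingCat.of k)) O.obj :=
    Groth.Agent.Lib.DualSch.Local.isDualizingSch_of_cover _ fun x =>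
      ⟨k, inferInstance, 𝟙 _, inferInstance, _, ⟨x, rfl⟩, hk, ⟨eO⟩⟩
  have hdual : Dual2.IsDualizingSch X (a.obj O).obj :=
    Groth.Agent.Lib.RightAdjCoh.Chart.isDualizingSch_a f hf adj O hOd
  have hfe : ∀ x : X, Groth.Agent.H46.DimData.fe f x ≤ d := by
    intro x
    have h3 : Dual3.localFibreDim f x ≤ (d : WithBot ℕ∞) := by
      refine (iInf₂_le ⊤ trivial).trans ?_
      refine le_trans ?_ hd.le
      exact Topology.IsInducing.topologicalKrullDim_le
        ((f.fiberι (f x)).isEmbedding.comp Topology.IsEmbedding.subtypeVal).isInducing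
    rw [Groth.Agent.Lib.GorenMor.AffineSpace.localFibreDim_eq] at h3
    exact_mod_cast h3
  have hpt : ∀ x : X,
      (∀ i : ℤ, Nontrivial ((DCoh.HD (a.obj O).obj i).presheaf.stalk x) →
        -(Groth.Agent.H46.DimData.fe f x : ℤ) ≤ i ∧ i ≤ 0) ∧
      (Groth.Agent.H46.FibreTrdeg.IsMaxFib f x →
        Nontrivial ((DCoh.HD (a.obj O).obj (-(Groth.Agent.H46.DimData.fe f x : ℤ))).presheaf.stalk x)) ∧
      (∀ (i : ℤ) (y : X), y ⤳ x → Nontrivial ((DCoh.HD (a.obj O).obj i).presheaf.stalk y) →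
        Nontrivial ((DCoh.HD (a.obj O).obj i).presheaf.stalk x)) ∧
      (∃ (U : Scheme.{u}) (j : U ⟶ X) (_ : IsOpenImmersion j) (y : U),
        j y = x ∧ Coh.IsCoh ((DCoh.HD (a.obj O).obj (-(d : ℤ))).restrict j)) := by
    intro x
    obtain ⟨U, hU, hxU, -⟩ := exists_isAffineOpen_mem_and_subset (X := X) (x := x) (U := ⊤) trivial
    letI : Algebra k Γ(X, U) := (Groth.Agent.Lib.Cyc.FieldDim.structHom f U).toAlgebra
    haveI : Algebra.FiniteType k Γ(X, U) := Groth.Agent.Lib.Cyc.FieldDim.structHom_finiteType f hU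
    haveI : IsNoetherianRing Γ(X, U) := Algebra.FiniteType.isNoetherianRing k Γ(X, U)
    haveI : LocallyOfFiniteType (Groth.Agent.H46.UnivOpenFinite.sm k Γ(X, U)) :=
      Groth.Agent.H46.UnivOpenFinite.lft_sm k Γ(X, U)
    obtain ⟨m, ψ, hψ⟩ := Algebra.FiniteType.iff_quotient_mvPolynomial''.1
      (inferInstance : Algebra.FiniteType k Γ(X, U))
    obtain ⟨Rψ, ⟨adjψ⟩⟩ := Groth.Agent.Lib.RightAdjCoh.Chart.exists_adjR (CommRingCat.ofHom ψ.toRingHom)
    haveI := Groth.Agent.Lib.DR.BaseChangeU.hasLBaseChange (algebraMap k (MvPolynomial (Fin m) k))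
    have hc : hU.fromSpec ≫ f = Spec.map (CommRingCat.ofHom (algebraMap k Γ(X, U))) ≫ 𝟙 _ := by
      rw [← (isAffineOpen_top (Spec (CommRingCat.of k))).SpecMap_appLE_fromSpec f hU (by simp),
        Category.comp_id, show CommRingCat.ofHom (algebraMap k Γ(X, U)) =
          (Scheme.ΓSpecIso (CommRingCat.of k)).inv ≫ f.appLE ⊤ U (by simp) from rfl, Spec.map_comp,
        IsAffineOpen.fromSpec_top, Scheme.isoSpec_Spec_inv]
    obtain ⟨e⟩ := Groth.Agent.Lib.RightAdjCoh.Chart.nonempty_shriek_chart f (𝟙 X) f (Category.id_comp f) hf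
      adj (𝟙 _) hU.fromSpec hc ψ hψ adjψ O (Groth.Agent.Lib.RightAdjCoh.Chart.exists_isGE_one hO)
      (Dual.inD k k) eO
    let e' := (DCoh.restrictD hU.fromSpec).mapIso
      ((Groth.Agent.Lib.Gen43.Restrict.idIso X).symm.app (a.obj O).obj) ≪≫ e
    let P : PrimeSpectrum Γ(X, U) := hU.primeIdealOf ⟨x, hxU⟩
    have hP : hU.fromSpec P = x := hU.fromSpec_primeIdealOf ⟨x, hxU⟩
    have hdd := (Groth.Agent.Lib.RightAdjCoh.Chart.fibreDimAt_chart f (𝟙 _) hU.fromSpec hc P).trans
      (Groth.Agent.Lib.GorenMor.AffineSpace.localFibreDim_eq f (hU.fromSpec P))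
    rw [hP] at hdd
    refine ⟨fun i hi => ?_, fun hmax => ?_, fun i y hy hn => ?_, ⟨_, hU.fromSpec, inferInstance, P, hP, ?_⟩⟩
    · exact Groth.Agent.Lib.DMod.ShriekAmplitude.bounds hψ adjψ P _ hdd i
        (Groth.Agent.Lib.RightAdjCoh.Chart.nontrivial_localized_of_stalk hU.fromSpec e' i P (hP.symm ▸ hi))
    · have h0 : Groth.Agent.H46.DimData.fd (Groth.Agent.H46.UnivOpenFinite.sm k Γ(X, U)) P = 0 := by
        rw [Groth.Agent.H46.DimData.fd_eq_zero_iff]
        intro z _ hs
        refine hU.fromSpec.isOpenEmbedding.injective ((hmax (hU.fromSpec z) ?_ ?_).trans hP.symm)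
        · exact @Subsingleton.elim _ (inferInstanceAs (Subsingleton (PrimeSpectrum k))) _ _
        · exact hP ▸ hs.map hU.fromSpec.continuous
      have hCM : LocCoh.IsCohenMacaulayLocalRing
          (Groth.Agent.Lib.DMod.GorFibrePrime.FibreAt k P.asIdeal) := by
        refine Groth.Agent.Lib.RightAdjCoh.CMFib.cm_fibreAt k Γ(X, U) P
          ⟨Flat.stalkMap (Groth.Agent.H46.UnivOpenFinite.sm k Γ(X, U)) P, ?_⟩
        haveI := Groth.Agent.H46.QFin.isLocallyNoetherian_fiber (Groth.Agent.H46.UnivOpenFinite.sm k Γ(X, U))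
          ((Groth.Agent.H46.UnivOpenFinite.sm k Γ(X, U)) P)
        rw [Groth.Agent.Lib.Depth.CM.isCohenMacaulayLocalRing_iff, Groth.Agent.H46.DimData.ringKrullDim_fiber, h0]
        exact WithBot.coe_le_coe.2 bot_le
      refine hP ▸ (Groth.Agent.Lib.DualSch.Affine.nontrivial_stalk_iff hU.fromSpec e' _ P).2 ?_
      rw [hP]
      exact Module.mem_support_iff.2
        (Groth.Agent.Lib.RightAdjCoh.CMFib.nontrivial_of_cm hψ adjψ P _ hdd hCM)
    · obtain ⟨z, rfl⟩ : y ∈ Set.range hU.fromSpec := by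
        rw [hU.range_fromSpec]
        exact hy.mem_open U.2 hxU
      rw [← hP] at hy ⊢
      have h1 := (Groth.Agent.Lib.DualSch.Affine.nontrivial_stalk_iff hU.fromSpec e' i z).1 hn
      refine (Groth.Agent.Lib.DualSch.Affine.nontrivial_stalk_iff hU.fromSpec e' i P).2 ?_
      refine Module.mem_support_mono ?_ h1
      exact (PrimeSpectrum.le_iff_specializes z P).2 (hU.fromSpec.isOpenEmbedding.isInducing.specializes_iff.1 hy)
    · obtain ⟨φ⟩ := Groth.Agent.Lib.DualSch.Affine.nonempty_HD_iso hU.fromSpec e' (-(d : ℤ))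
      haveI : Module.Finite Γ(X, U) (Dual.HD Γ(X, U) (Dual2.shriekVia m Rψ (Dual.inD k k)) (-(d : ℤ))) :=
        Groth.Agent.Lib.DMod.ShriekSelf.finite_HD hψ adjψ (-(d : ℤ))
      exact Groth.Agent.Lib.CohBasics.Closure.isCoh_of_iso φ.symm
        (Groth.Agent.H78.Formal.Algebraize.isCoh_tilde (A := CommRingCat.of Γ(X, U))
          (ModuleCat.of Γ(X, U) (Dual.HD Γ(X, U) (Dual2.shriekVia m Rψ (Dual.inD k k)) (-(d : ℤ)))))
  refine ⟨⟨Groth.Agent.Lib.Perfect.Coherent.isCoh_of_cover fun x => (hpt x).2.2.2, fun x => ?_, ?_⟩,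
    fun x hx i => ?_⟩
  · obtain ⟨τ, hτ, heq⟩ := Groth.Agent.Lib.DualSch.StalkLocal.exists_dualizing_stalk hdual x
    haveI := hτ.isNoetherianRing
    refine Groth.Agent.Lib.DualSch.StalkLocal.hasSk_two_lowest hτ (n := -(d : ℤ)) (fun i hi => ?_) (heq _).some
    refine not_nontrivial_iff_subsingleton.1 fun hn => ?_
    have h1 := ((hpt x).1 i ((heq i).some.toEquiv.nontrivial_congr.1 hn)).1
    have := hfe x
    omega
  · ext x
    simp only [Set.mem_setOf_eq, Set.mem_iUnion]
    constructor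
    · intro hx
      have h1 := ((hpt x).1 _ hx).1
      have h2 := hfe x
      obtain ⟨ξ, -, hs, hmax, hdim⟩ := Groth.Agent.H46.FibreTrdeg.exists_isMaxFib_trd_eq f x
      rw [Groth.Agent.H46.DimData.fibreDimAt_eq] at hdim
      have h3 : Groth.Agent.H46.DimData.fe f x = Groth.Agent.H46.FibreTrdeg.trd f ξ := by exact_mod_cast hdim
      refine ⟨closure {ξ}, ⟨Groth.Agent.Lib.Cyc.FieldDim.closure_mem_irreducibleComponents ξ
        (fun z hz => hmax z (@Subsingleton.elim _ (inferInstanceAs (Subsingleton (PrimeSpectrum k))) _ _) hz), ?_⟩,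
        specializes_iff_mem_closure.1 hs⟩
      rw [Groth.Agent.Lib.Cyc.FieldDim.topologicalKrullDim_closure f ξ]
      have h4 : (Groth.Agent.Lib.Cyc.FieldDim.fdelta f ξ).toNat = Groth.Agent.H46.FibreTrdeg.trd f ξ := by
        simp only [Groth.Agent.Lib.Cyc.FieldDim.fdelta, Int.toNat_natCast]
        rfl
      rw [h4, show Groth.Agent.H46.FibreTrdeg.trd f ξ = d by omega]
    · rintro ⟨Z, ⟨hZ, hZd⟩, hxZ⟩
      obtain ⟨ξ, hξ⟩ := QuasiSober.sober hZ.1 (isClosed_of_mem_irreducibleComponents Z hZ)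
      have hmax : Groth.Agent.H46.FibreTrdeg.IsMaxFib f ξ := fun z _ hz => by
        have h1 : Z ≤ closure {z} := by
          rw [← hξ.def]
          exact closure_minimal (Set.singleton_subset_iff.2 (specializes_iff_mem_closure.1 hz)) isClosed_closure
        have h2 : closure {z} = Z := le_antisymm (hZ.2 isIrreducible_singleton.closure h1) h1
        exact (isGenericPoint_closure.eq (h2.symm ▸ hξ : IsGenericPoint ξ (closure {z})))
      have h5 := (hpt ξ).2.1 hmax
      have h6 : Groth.Agent.H46.DimData.fe f ξ = d := by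
        rw [Groth.Agent.H46.DimData.fe_of_isMaxFib f hmax]
        have h7 := Groth.Agent.Lib.Cyc.FieldDim.topologicalKrullDim_closure f ξ
        rw [hξ.def, hZd] at h7
        have h8 : d = (Groth.Agent.Lib.Cyc.FieldDim.fdelta f ξ).toNat := by exact_mod_cast h7
        simp only [Groth.Agent.Lib.Cyc.FieldDim.fdelta, Int.toNat_natCast] at h8
        exact h8.symm
      rw [h6] at h5
      exact (hpt x).2.2.1 _ ξ (hξ.specializes hxZ) h5
  · obtain ⟨τ, hτ, heq⟩ := Groth.Agent.Lib.DualSch.StalkLocal.exists_dualizing_stalk hdual x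
    haveI := hτ.isNoetherianRing
    have hiff : ∀ j : ℤ, Nontrivial (Dual.HD (X.presheaf.stalk x) τ j) ↔
        Nontrivial ((DCoh.HD (a.obj O).obj j).presheaf.stalk x) := fun j =>
      (heq j).some.toEquiv.nontrivial_congr
    have hlow : Nontrivial (Dual.HD (X.presheaf.stalk x) τ (-(Groth.Agent.H46.DimData.fe f x : ℤ))) := by
      obtain ⟨ξ, -, hs, hmax, hdim⟩ := Groth.Agent.H46.FibreTrdeg.exists_isMaxFib_trd_eq f x
      rw [Groth.Agent.H46.DimData.fibreDimAt_eq, ← Groth.Agent.H46.DimData.fe_of_isMaxFib f hmax] at hdim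
      have h3 : Groth.Agent.H46.DimData.fe f x = Groth.Agent.H46.DimData.fe f ξ := by exact_mod_cast hdim
      rw [hiff, h3]
      exact (hpt x).2.2.1 _ ξ hs ((hpt ξ).2.1 hmax)
    have := Groth.Agent.Lib.RightAdjCoh.FieldPoint.top_iff_depth hτ _
      (Groth.Agent.Lib.RightAdjCoh.FieldPoint.ringKrullDim_stalk_closed f x hx) hlow
      (fun j hj => (hpt x).1 j ((hiff j).1 hj)) i
    simpa only [hiff] using this

end Groth.Agent.S3638
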