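import Groth.Statements.S3639
import Groth.Agent.Lib.RHomO.DivisorCx


set_option autoImplicit false
universe u
open CategoryTheory CategoryTheory.Limits AlgebraicGeometry
attribute [local instance] HasDerivedCategory.standard
open Dual3

namespace Groth.Agent.S3639

/-- Let X be a scheme and D ⊆ X an effective Cartier divisor, given by its ideal sheaf I (locally
generated by one nonzerodivisor) with closed immersion i : D → X; let L be an O_X-module inverse to
I for the tensor product (the module O_X(D)) and N = i^*L the normal sheaf. Let R Hom(O_D, -) :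
D^+(O_X) → D^+(O_D) be the right derived functor of the right adjoint of i_* (assumed to exist,
injective resolutions assumed) and O an object of D^+(O_X) isomorphic to the structure sheaf in
degree 0. Then H^j(R Hom(O_D, O)) = 0 for j ≠ 1 and H^1(R Hom(O_D, O)) is isomorphic to N; that is,
R Hom(O_D, O_X) = N[-1]. -/
theorem result (X : Scheme.{u}) (I : X.IdealSheafData) (hI : BlowUp.IsEffCartierIdeal I) [Dual3.HasHomO I.subschemeι] [EnoughInjectives X.Modules] (L : X.Modules) (hL : ClSub.IsInverseOf L (ClSub.idealMod I)) (O : DerivedCategory.Plus X.Modules) (hO : Nonempty (O.obj ≅ DCoh.inD X (Coh.structureModule X))) : (∀ j : ℤ, j ≠ 1 → IsZero (DCoh.HD ((Dual3.RHomOPlus I.subschemeι).obj O).obj j)) ∧ Nonempty (DCoh.HD ((Dual3.RHomOPlus I.subschemeι).obj O).obj 1 ≅ (Scheme.Modules.pullback I.subschemeι).obj L) := by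
  let i := I.subschemeι
  haveI := Groth.Agent.Lib.RHomO.Main.preservesFiniteLimits_push I.subschemeι
  haveI := Groth.Agent.Lib.RHomO.Main.preservesFiniteColimits_push I.subschemeι
  obtain ⟨e⟩ := hL
  obtain ⟨eO⟩ := hO
  haveI := Groth.Agent.Lib.RHomO.Divisor.isEquivalence I e
  haveI : (Groth.Agent.Lib.TensorMod.Basic.tensorBy L).Additive :=
    Functor.additive_of_preserves_binary_products _
  let S := (HomologicalComplex.single X.Modules (ComplexShape.up ℤ) 0).obj (Coh.structureModule X)
  obtain ⟨J, r, hr, hJ, hJge⟩ :=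
    CochainComplex.Plus.modelCategoryQuillen.exists_quasiIso_injective S 0
  haveI := hr
  haveI : J.IsKInjective :=
    Groth.Agent.Lib.SpecSeq.AcyclicComplex.isKInjective_of_isStrictlyGE J 0 hJ
  obtain ⟨θ⟩ := Groth.Agent.Lib.RHomO.Derived.nonempty_plus_iso I.subschemeι
  let G := Dual3.homO I.subschemeι
  let q := HomotopyCategory.quotient X.Modules (ComplexShape.up ℤ)
  haveI := Groth.Agent.Lib.DerivedOX.RightDerived.isIso_unit_of_isKInjective J
  let eJ : DerivedCategory.Qh.obj (q.obj J) ≅ O.obj :=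
    (DerivedCategory.quotientCompQhIso X.Modules).app J ≪≫ (asIso (DerivedCategory.Q.map r)).symm ≪≫
      ((DerivedCategory.singleFunctorIsoCompQ X.Modules 0).app _).symm ≪≫ eO.symm
  let eH : ((Dual3.RHomOPlus I.subschemeι).obj O).obj ≅
      DerivedCategory.Q.obj ((G.mapHomologicalComplex (ComplexShape.up ℤ)).obj J) :=
    θ.app O ≪≫ (Groth.Agent.Lib.RHomO.Derived.RH I.subschemeι).mapIso eJ.symm ≪≫
      (G.mapHomotopyCategory (ComplexShape.up ℤ) ⋙ DerivedCategory.Qh).mapIso
        (asIso ((Groth.Agent.Lib.DerivedOX.RightDerived.resAdj X.Modules).unit.app (q.obj J))).symm ≪≫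
      DerivedCategory.Qh.mapIso ((G.mapHomotopyCategoryFactors (ComplexShape.up ℤ)).app J) ≪≫
      (DerivedCategory.quotientCompQhIso _).app _
  let eD : ∀ j, DCoh.HD ((Dual3.RHomOPlus I.subschemeι).obj O).obj j ≅
      ((G.mapHomologicalComplex (ComplexShape.up ℤ)).obj J).homology j := fun j =>
    (DerivedCategory.homologyFunctor _ j).mapIso eH ≪≫
      (DerivedCategory.homologyFunctorFactors _ j).app _
  obtain ⟨h₀, ⟨h₁⟩⟩ := Groth.Agent.Lib.RHomO.DivisorCx.main I e hJ r
  exact ⟨fun j hj => (h₀ j hj).of_iso (eD j), ⟨eD 1 ≪≫ h₁⟩⟩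

end Groth.Agent.S3639
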