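import Groth.Statements.S3643
import Groth.Agent.Lib.RightAdjCoh.FibreChart
import Groth.Agent.Lib.DMod.ShriekSelf
import Groth.Agent.Lib.DualSch.Local
-- import your own Groth.Agent.* helpers here

set_option maxHeartbeats 800000

set_option autoImplicit false
universe u
open CategoryTheory CategoryTheory.Limits AlgebraicGeometry
attribute [local instance] HasDerivedCategory.standard
open Dual3

namespace Groth.Agent.S3643

/-- Let S be a Noetherian scheme, X and Y schemes separated and of finite type over S and f : X → Y a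
morphism over S; compute f^! through a compactification f = j ∘ p (j : X → X' an open immersion, p :
X' → Y proper, Rp_* on D_QCoh assumed to exist and to preserve quasi-coherence of cohomology, a a
right adjoint of Rp_*, restriction of modules to opens assumed exact), so that f^!K = a(K)|_X.
Assume f is flat, let O be the structure sheaf of Y in degree 0 and ω = f^!O. For a point y of Y let
h : X_y → X be the inclusion of the fibre and Lh^* its derived pullback (assumed to exist; exactness
instances as in the definition of dualizing complexes). Then Lh^*ω is a dualizing complex on the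
fibre X_y. -/
theorem result (S X Y : Scheme.{u}) [IsNoetherian S] (p : X ⟶ S) (q : Y ⟶ S) [Dual3.IsSepFT p] [Dual3.IsSepFT q] (f : X ⟶ Y) (w : f ≫ q = p) [Flat f] (c : DEt.Compactification f) [DCoh.HasRpush c.fbar] (hc : DCoh.RpushPreservesQCoh c.fbar) (a : DCoh.DQCoh Y ⥤ DCoh.DQCoh c.Xbar) (adj : DCoh.RpushQ c.fbar hc ⊣ a) [∀ (U V : Scheme.{u}) (j : U ⟶ V) [IsOpenImmersion j], PreservesFiniteLimits (Scheme.Modules.restrictFunctor j)] [∀ (R : CommRingCat.{u}), PreservesFiniteLimits (tilde.functor R)] (O : DCoh.DQCoh Y) (hO : Nonempty (O.obj ≅ DCoh.inD Y (Coh.structureModule Y))) (y : Y) [DCoh.HasLpull (f.fiberι y)] : Dual2.IsDualizingSch (f.fiber y) ((DCoh.Lpull (f.fiberι y)).obj ((Dual3.shriekC c a).obj O)) := by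
  haveI : IsLocallyNoetherian Y := LocallyOfFiniteType.isLocallyNoetherian q
  haveI : CompactSpace Y := QuasiCompact.compactSpace_of_compactSpace q
  haveI : IsNoetherian Y := {}
  haveI : LocallyOfFiniteType (f ≫ q) := w ▸ inferInstance
  haveI : LocallyOfFiniteType f := locallyOfFiniteType_of_comp f q
  haveI : LocallyOfFiniteType (X := f.fiber y) (Y := Spec (CommRingCat.of (Y.residueField y)))
      (f.fiberToSpecResidueField y) :=
    inferInstanceAs (LocallyOfFiniteType (Limits.pullback.snd f (Y.fromSpecResidueField y)))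
  haveI : IsLocallyNoetherian (f.fiber y) :=
    LocallyOfFiniteType.isLocallyNoetherian (X := f.fiber y) (Y := Spec (CommRingCat.of (Y.residueField y)))
      (f.fiberToSpecResidueField y)
  refine Groth.Agent.Lib.DualSch.Local.isDualizingSch_of_cover _ fun z => ?_
  obtain ⟨A, B, _, _, _, _, _, _, jA, _, j, _, P, hP, hcm⟩ :=
    Groth.Agent.Lib.RightAdjCoh.Chart.exists_chart f (f.fiberι y z)
  obtain ⟨m, ψ, hψ⟩ := Algebra.FiniteType.iff_quotient_mvPolynomial''.1
    (inferInstance : Algebra.FiniteType A B)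
  obtain ⟨Rψ, ⟨adjψ⟩⟩ := Groth.Agent.Lib.RightAdjCoh.Chart.exists_adjR (CommRingCat.ofHom ψ.toRingHom)
  haveI := Groth.Agent.Lib.DR.BaseChangeU.hasLBaseChange (algebraMap A (MvPolynomial (Fin m) A))
  haveI : Module.Flat A B := by
    have h1 : Flat (Spec.map (CommRingCat.ofHom (algebraMap A B)) ≫ jA) := hcm ▸ inferInstance
    have h2 : Flat (Spec.map (CommRingCat.ofHom (algebraMap A B))) :=
      MorphismProperty.of_postcomp (W := @Flat) (W' := @IsOpenImmersion) _ jA ‹_› h1
    exact RingHom.flat_algebraMap_iff.1 ((HasRingHomProperty.Spec_iff (P := @Flat)).1 h2)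
  obtain ⟨eO⟩ := Groth.Agent.Lib.RightAdjCoh.Chart.nonempty_one_chart jA hO
  obtain ⟨e⟩ := Groth.Agent.Lib.RightAdjCoh.Chart.nonempty_shriek_chart f c.j c.fbar c.fac hc adj jA j hcm
    ψ hψ adjψ O (Groth.Agent.Lib.RightAdjCoh.Chart.exists_isGE_one hO) (Dual.inD A A) eO
  have hy : y ∈ Set.range jA := by
    refine ⟨Spec.map (CommRingCat.ofHom (algebraMap A B)) P, ?_⟩
    have h1 : (j ≫ f) P = y := by
      show f (j P) = y
      rw [hP]
      have : f.fiberι y z ∈ Set.range (f.fiberι y) := ⟨z, rfl⟩
      rw [f.range_fiberι] at this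
      exact this
    rw [hcm] at h1
    exact h1
  obtain ⟨κ, _, _, k, _, hk, hrange⟩ := Groth.Agent.Lib.RightAdjCoh.FibreChart.exists_fibre_chart f jA j hcm y hy
  letI : Algebra B (TensorProduct A κ B) := Algebra.TensorProduct.rightAlgebra
  haveI := Groth.Agent.Lib.DR.BaseChangeU.hasLBaseChange (algebraMap B (TensorProduct A κ B))
  haveI : DRing.HasLBaseChange (algebraMap B (TensorProduct A κ B)) := this
  obtain ⟨e'⟩ := Groth.Agent.Lib.RightAdjCoh.FibreChart.nonempty_Lpull_chart (f.fiberι y) j k hk e
  exact ⟨_, inferInstance, k, inferInstance, _, hrange z ⟨P, hP⟩,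
    Groth.Agent.Lib.DMod.ShriekSelf.isDualizing_baseChange hψ adjψ κ, ⟨e'⟩⟩

end Groth.Agent.S3643
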