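import Groth.Statements.S3665
import Groth.Agent.Lib.CohDelta.IdealMul.Sec
import Groth.Agent.Lib.QCoh.Stalk
import Mathlib.RingTheory.Filtration

set_option autoImplicit false
universe u
open CategoryTheory CategoryTheory.Limits AlgebraicGeometry
attribute [local instance] HasDerivedCategory.standard
open Dual3

namespace Groth.Agent.S3665

open Opposite TopologicalSpace Groth.Agent.Lib Groth.Agent.Lib.CohDelta.IdealMul

section

variable {X : Scheme.{u}}

theorem zero_of_germ {F : X.Modules} (U : X.Opens) (s : Γ(F, U))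
    (h : ∀ (x : X) (hx : x ∈ U), F.presheaf.germ U x hx s = 0) : s = 0 :=
  TopCat.Presheaf.section_ext (⟨F.presheaf, F.isSheaf⟩ : TopCat.Sheaf AddCommGrpCat.{u} X) U s 0
    fun x hx => (h x hx).trans (map_zero _).symm

/-- A section lies in the image of a monomorphism as soon as it does so on a cover. -/
theorem exists_preimage {A B : X.Modules} (f : A ⟶ B) [Mono f] (s : Γ(B, ⊤))
    (hc : ∀ x : X, ∃ W : X.Opens, x ∈ W ∧ ∃ a : Γ(A, W), f.app W a =
      B.presheaf.map (homOfLE le_top : W ⟶ ⊤).op s) :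
    ∃ t : Γ(A, ⊤), f.app ⊤ t = s := by
  obtain ⟨t, ht⟩ := QCoh.Closure.sections_exact
    (S := ShortComplex.mk f (cokernel.π f) (cokernel.condition f))
    (ShortComplex.exact_cokernel f) ⊤ s (by
      refine zero_of_germ ⊤ _ fun x hx => ?_
      obtain ⟨W, hW, a, ha⟩ := hc x
      show (cokernel f).presheaf.germ ⊤ x hx ((cokernel.π f).app ⊤ s) = 0
      rw [← Modules.StalkModule.stalkMapₗ_germ,
        ← TopCat.Presheaf.germ_res_apply B.presheaf (homOfLE le_top : W ⟶ ⊤) x hW s, ← ha,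
        ← Modules.StalkModule.stalkMapₗ_germ, ← LinearMap.comp_apply,
        ← Modules.StalkModule.stalkMapₗ_comp, cokernel.condition,
        Modules.StalkModule.stalkMapₗ_zero, LinearMap.zero_apply])
  exact ⟨t, ht⟩

theorem vanishing_of_mem [IsLocallyNoetherian X] (I : X.IdealSheafData) {F : X.Modules}
    (hF : Coh.IsCoh F) (W : X.affineOpens) (s : Γ(F, W.1))
    (h : ∀ n : ℕ, s ∈ I.ideal W ^ n • (⊤ : Submodule Γ(X, W.1) Γ(F, W.1)))
    (x : X) (hx : x ∈ W.1) (hxI : x ∈ I.supportSet) : F.presheaf.germ W.1 x hx s = 0 := by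
  haveI := hF.1
  haveI := hF.2
  haveI : IsNoetherianRing Γ(X, W.1) := IsLocallyNoetherian.component_noetherian W
  haveI := CohBasics.Affine.finite_sections (M := F) W.2
  obtain ⟨r, hr⟩ := ((I.ideal W).mem_iInf_smul_pow_eq_bot_iff s).mp ((Submodule.mem_iInf _).mpr h)
  refine (QCoh.Stalk.germ_eq_zero_iff F W.2 hx s).mpr ⟨1 - r.1, ?_, ?_⟩
  · refine (QCoh.Stalk.mem_primeIdealOf_compl_iff W.2 hx _).mp fun hc => ?_
    have hr' : r.1 ∈ (W.2.primeIdealOf ⟨x, hx⟩).asIdeal := by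
      by_contra hne
      exact (Scheme.mem_zeroLocus_iff _ _ _).mp
        ((Scheme.IdealSheafData.mem_supportSet_iff_of_mem hx).mp hxI) r.1 r.2
        ((QCoh.Stalk.mem_primeIdealOf_compl_iff W.2 hx r.1).mp hne)
    have := Ideal.add_mem _ hc hr'
    rw [sub_add_cancel] at this
    exact (W.2.primeIdealOf ⟨x, hx⟩).isPrime.ne_top ((Ideal.eq_top_iff_one _).mpr this)
  · rw [sub_smul, one_smul, hr, sub_self]

theorem mem_of_vanishing (I : X.IdealSheafData) {F : X.Modules} [F.IsQuasicoherent]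
    (W : X.affineOpens) (s : Γ(F, W.1))
    (h : ∀ (x : X) (hx : x ∈ W.1), x ∈ I.supportSet → F.presheaf.germ W.1 x hx s = 0) (n : ℕ) :
    s ∈ I.ideal W ^ n • (⊤ : Submodule Γ(X, W.1) Γ(F, W.1)) := by
  let J : Ideal Γ(X, W.1) := Ideal.torsionOf Γ(X, W.1) Γ(F, W.1) s
  have htop : J ⊔ I.ideal W = ⊤ := by
    by_contra hne
    obtain ⟨p, hp, hle⟩ := Ideal.exists_le_maximal _ hne
    let q : ↥(Spec Γ(X, W.1)) := (⟨p, hp.isPrime⟩ : PrimeSpectrum Γ(X, W.1))
    have hx : W.2.fromSpec q ∈ W.1 :=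
      W.2.range_fromSpec.le (Set.mem_range_self q)
    haveI := W.2.isOpenImmersion_fromSpec
    have hq : W.2.primeIdealOf ⟨_, hx⟩ = q :=
      W.2.fromSpec.isOpenEmbedding.injective (W.2.fromSpec_primeIdealOf ⟨_, hx⟩)
    have key : ∀ a : Γ(X, W.1), W.2.fromSpec q ∈ X.basicOpen a ↔ a ∉ p := fun a => by
      rw [← QCoh.Stalk.mem_primeIdealOf_compl_iff W.2 hx, hq]; rfl
    obtain ⟨f, hf, hfs⟩ := (QCoh.Stalk.germ_eq_zero_iff F W.2 hx s).mp (h _ hx
      ((Scheme.IdealSheafData.mem_supportSet_iff_of_mem hx).mpr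
        ((Scheme.mem_zeroLocus_iff _ _ _).mpr fun a ha hxa =>
          (key a).mp hxa (hle (Ideal.mem_sup_right ha)))))
    exact (key f).mp hf (hle (Ideal.mem_sup_left ((Ideal.mem_torsionOf_iff _ _).mpr hfs)))
  obtain ⟨a, ha, b, hb, hab⟩ := Submodule.mem_sup.mp
    ((Ideal.eq_top_iff_one _).mp (Ideal.sup_pow_eq_top htop : J ⊔ I.ideal W ^ n = ⊤))
  have hs : s = b • s := by
    conv_lhs => rw [← one_smul Γ(X, W.1) s, ← hab, add_smul, (Ideal.mem_torsionOf_iff _ _).mp ha,
      zero_add]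
  rw [hs]
  exact Submodule.smul_mem_smul hb Submodule.mem_top

theorem main [IsLocallyNoetherian X] (I : X.IdealSheafData) {F : X.Modules} (hF : Coh.IsCoh F)
    (s : Γ(F, ⊤)) :
    (∀ n : ℕ, ∃ t : Γ((Dual3.idealMul (I ^ n)).obj F, ⊤),
        (Dual3.idealMulι (I ^ n) F).app ⊤ t = s) ↔
      ∃ V : X.Opens, I.supportSet ⊆ (V : Set X) ∧
        F.presheaf.map (homOfLE le_top : V ⟶ ⊤).op s = 0 := by
  haveI := hF.1
  constructor
  · intro h
    refine ⟨sSup {W : X.Opens | F.presheaf.map (homOfLE le_top : W ⟶ ⊤).op s = 0}, fun x hxI => ?_,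
      zero_of_germ _ _ fun x hx => ?_⟩
    · obtain ⟨W, hW, hx, -⟩ :=
        exists_isAffineOpen_mem_and_subset (U := (⊤ : X.Opens)) (x := x) trivial
      have hz := vanishing_of_mem I hF ⟨W, hW⟩ (F.presheaf.map (homOfLE le_top : W ⟶ ⊤).op s)
        (fun n => by
          obtain ⟨t, ht⟩ := h n
          rw [← Sec.range_ι_pow I F n ⟨W, hW⟩]
          refine ⟨((Dual3.idealMul (I ^ n)).obj F).presheaf.map (homOfLE le_top : W ⟶ ⊤).op t, ?_⟩
          rw [← ht, Sec.appL_apply]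
          exact ConcreteCategory.congr_hom
            ((Dual3.idealMulι (I ^ n) F).mapPresheaf.naturality (homOfLE le_top : W ⟶ ⊤).op) t)
        x hx hxI
      rw [← (F.presheaf.germ W x hx).hom.map_zero] at hz
      obtain ⟨W', hxW', i, i', hW'⟩ := TopCat.Presheaf.germ_eq F.presheaf x hx hx _ 0 hz
      rw [map_zero, ← ConcreteCategory.comp_apply, ← F.presheaf.map_comp] at hW'
      exact Opens.mem_sSup.mpr ⟨W', hW', hxW'⟩
    · obtain ⟨W, hW, hxW⟩ := Opens.mem_sSup.mp hx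
      rw [TopCat.Presheaf.germ_res_apply,
        ← TopCat.Presheaf.germ_res_apply F.presheaf (homOfLE le_top : W ⟶ ⊤) x hxW,
        show F.presheaf.map (homOfLE le_top : W ⟶ ⊤).op s = 0 from hW, map_zero]
  · rintro ⟨V, hV, hs⟩ n
    refine exists_preimage (Dual3.idealMulι (I ^ n) F) s fun x => ?_
    obtain ⟨W, hW, hx, -⟩ := exists_isAffineOpen_mem_and_subset (U := (⊤ : X.Opens)) (x := x) trivial
    refine ⟨W, hx, ?_⟩
    have := mem_of_vanishing I ⟨W, hW⟩ (F.presheaf.map (homOfLE le_top : W ⟶ ⊤).op s)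
      (fun y hy hyI => by
        rw [TopCat.Presheaf.germ_res_apply,
          ← TopCat.Presheaf.germ_res_apply F.presheaf (homOfLE le_top : V ⟶ ⊤) y (hV hyI), hs,
          map_zero]) n
    rw [← Sec.range_ι_pow I F n ⟨W, hW⟩] at this
    exact this

end

/-- Let X be proper over a field k, I a quasi-coherent ideal with vanishing locus Z and F a coherent
O_X-module, so that H^0_c(X ∖ Z, F) = lim_n H^0(X, I^n F) = ⋂_n Γ(X, I^n F) inside Γ(X, F). Then a
global section s of F lies in the image of Γ(X, I^n F) for every n if and only if s restricts to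
zero on some open neighbourhood of Z. -/
theorem result (k : Type u) [Field k] (X : Scheme.{u}) (f : X ⟶ Spec (CommRingCat.of k)) [IsProper f] (I : X.IdealSheafData) (F : X.Modules) (hF : Coh.IsCoh F) (s : F.val.obj (Opposite.op ⊤)) : (∀ n : ℕ, ∃ t : ((Dual3.idealMul (I ^ n)).obj F).val.obj (Opposite.op ⊤), (Dual3.idealMulι (I ^ n) F).val.app (Opposite.op ⊤) t = s) ↔ ∃ V : X.Opens, I.supportSet ⊆ (V : Set X) ∧ F.val.map (homOfLE le_top : V ⟶ ⊤).op s = 0 := by
  haveI := LocallyOfFiniteType.isLocallyNoetherian f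
  exact main I hF s

end Groth.Agent.S3665
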