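import Groth.Statements.S3669
import Groth.Prelude.Def_Dual3
import Mathlib.AlgebraicGeometry.Morphisms.ClosedImmersion
import Mathlib.AlgebraicGeometry.Noetherian
import Groth.Prelude.Def_ExtPow2
import Groth.Prelude.Def_Wider
import Groth.Agent.Lib.PushClosed.Torsion


set_option autoImplicit false
universe u
open CategoryTheory CategoryTheory.Limits AlgebraicGeometry
attribute [local instance] HasDerivedCategory.standard
open Dual3

namespace Groth.Agent.S3669

/-- Let i : Z → X be a closed immersion of schemes with ideal sheaf I, Hom(O_Z, -) a right adjoint of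
i_* on modules (it exists; here the chosen one) with counit i_* Hom(O_Z, F) → F. Then for every
O_X-module F and every affine open U ⊆ X, the counit on sections over U, Γ(i⁻¹U, Hom(O_Z, F)) → Γ(U,
F), is injective with image exactly the sections s of F over U with I(U) · s = 0. -/
theorem result (Z X : Scheme.{u}) (i : Z ⟶ X) [IsClosedImmersion i] [Dual3.HasHomO i] (F : X.Modules) (U : X.affineOpens) : Function.Injective ⇑(ConcreteCategory.hom (((Dual3.homOAdj i).counit.app F).val.app (Opposite.op U.1))) ∧ Set.range ⇑(ConcreteCategory.hom (((Dual3.homOAdj i).counit.app F).val.app (Opposite.op U.1))) = ((LocCoh.torsionBy (i.ker.ideal U) (F.val.obj (Opposite.op U.1)) : Submodule Γ(X, U.1) (F.val.obj (Opposite.op U.1))) : Set (F.val.obj (Opposite.op U.1))) := by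
  haveI := Groth.Agent.Lib.PushClosed.Unit.counit_mono i (Dual3.homOAdj i) F
  refine ⟨Groth.Agent.Lib.PushClosed.Torsion.injective_app_of_mono ((Dual3.homOAdj i).counit.app F) U.1, ?_⟩
  ext s
  refine Iff.trans ?_ ((Groth.Agent.Lib.PushClosed.Torsion.range_counit i (Dual3.homOAdj i) F U s).trans ?_)
  · exact Iff.rfl
  · refine Iff.trans ?_ (Submodule.mem_torsionBySet_iff _ _).symm
    exact ⟨fun h a => h a.1 a.2, fun h r hr => h ⟨r, hr⟩⟩

end Groth.Agent.S3669
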