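import Groth.Statements.S3670
import Groth.Agent.Lib.GorenMor.AffineSpace

set_option autoImplicit false
universe u
open CategoryTheory CategoryTheory.Limits AlgebraicGeometry
attribute [local instance] HasDerivedCategory.standard
open Dual3

namespace Groth.Agent.S3670

/-- (1) ⇔ (2) ⇔ (3) ⇔ (4): Let f : X → S be flat and locally of finite presentation, x a point of X and
d = dim_x(X_{f(x)}) the local dimension of its fibre. Then the following are equivalent: (1) f is
Gorenstein at x; (2) there are an open neighbourhood U of x and a locally quasi-finite morphism g :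
U → A^d_S over S which is Gorenstein at x; (3) there are an open neighbourhood U of x and a locally
quasi-finite Gorenstein morphism g : U → A^d_S over S; (4) for every open neighbourhood U of x and
every morphism g : U → A^d_S over S, if x is isolated in its fibre under g (g is quasi-finite at x)
then g is Gorenstein at x. -/
theorem result (X S : Scheme.{u}) (f : X ⟶ S) [Flat f] [LocallyOfFinitePresentation f] (x : X) (d : ℕ) (hd : Dual3.localFibreDim f x = (d : WithBot ℕ∞)) : (Dual3.IsGorensteinAt f x ↔ ∃ (U : X.Opens) (hx : x ∈ U) (g : (U : Scheme.{u}) ⟶ AffineSpace (ULift.{u} (Fin d)) S), g ≫ (AffineSpace (ULift.{u} (Fin d)) S ↘ S) = U.ι ≫ f ∧ LocallyQuasiFinite g ∧ Dual3.IsGorensteinAt g ⟨x, hx⟩) ∧ (Dual3.IsGorensteinAt f x ↔ ∃ (U : X.Opens) (_ : x ∈ U) (g : (U : Scheme.{u}) ⟶ AffineSpace (ULift.{u} (Fin d)) S), g ≫ (AffineSpace (ULift.{u} (Fin d)) S ↘ S) = U.ι ≫ f ∧ LocallyQuasiFinite g ∧ Dual3.IsGorensteinMor g) ∧ (Dual3.IsGorensteinAt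 f x ↔ ∀ (U : X.Opens) (hx : x ∈ U) (g : (U : Scheme.{u}) ⟶ AffineSpace (ULift.{u} (Fin d)) S), g ≫ (AffineSpace (ULift.{u} (Fin d)) S ↘ S) = U.ι ≫ f → Dual3.QuasiFiniteAt g ⟨x, hx⟩ → Dual3.IsGorensteinAt g ⟨x, hx⟩) := by
  open Groth.Agent.Lib.GorenMor.AffineSpace in
  have hd' : Groth.Agent.H46.DimData.fe f x = d := by
    rw [localFibreDim_eq] at hd
    exact_mod_cast hd
  subst hd'
  refine ⟨⟨fun h => ?_, ?_⟩, ⟨fun h => ?_, ?_⟩, ⟨fun h U hx g hg hqf => ?_, fun h => ?_⟩⟩
  · obtain ⟨U, hx, g, hg, hq, hG⟩ := exists_gorensteinMor f x h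
    exact ⟨U, hx, g, hg, hq, hG _⟩
  · rintro ⟨U, hx, g, hg, -, hG⟩
    exact isGorensteinAt_of_map f U g hg ⟨x, hx⟩ hG
  · exact exists_gorensteinMor f x h
  · rintro ⟨U, hx, g, hg, -, hG⟩
    exact isGorensteinAt_of_map f U g hg ⟨x, hx⟩ (hG _)
  · exact isGorensteinAt_of_chart f U g hg ⟨x, hx⟩ rfl hqf h
  · obtain ⟨U, hx, g, hg, hq, hfp⟩ := exists_chart f x
    exact isGorensteinAt_of_map f U g hg ⟨x, hx⟩ (h U hx g hg
      (Scheme.Hom.quasiFiniteAt_iff_isOpen_singleton_asFiber.1 (Scheme.Hom.quasiFiniteAt g _)))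

end Groth.Agent.S3670
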