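import Groth.Statements.S3671
import Groth.Agent.Lib.RightAdjCoh.StalkSk
import Groth.Agent.Lib.RightAdjCoh.ChartIn
import Groth.Agent.Lib.RightAdjCoh.CMFib
import Groth.Agent.Lib.DMod.ShriekCM
import Groth.Agent.Lib.DMod.ShriekSelf
import Groth.Agent.Lib.Cyc.FieldDim
-- import your own Groth.Agent.* helpers here

set_option maxHeartbeats 800000
set_option autoImplicit false
universe u
open CategoryTheory CategoryTheory.Limits AlgebraicGeometry
attribute [local instance] HasDerivedCategory.standard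
open Dual3

namespace Groth.Agent.S3671

/-- Let S be a Noetherian scheme, X and Y schemes separated and of finite type over S and f : X → Y a
morphism over S; compute f^! through a compactification f = j ∘ p (j : X → X' an open immersion, p :
X' → Y proper, Rp_* on D_QCoh assumed to exist and to preserve quasi-coherence of cohomology, a a
right adjoint of Rp_*, restriction of modules to opens assumed exact), so that f^!K = a(K)|_X. Let O
be the structure sheaf of Y in degree 0, x a point of X with y = f(x), and r a natural number.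
Assume O_{Y,y} is Cohen–Macaulay and trdeg_{κ(f ξ)} κ(ξ) ≤ r for every generic point ξ of an
irreducible component of X containing x. Then a nonzero stalk of H^i(f^!O) at x forces -r ≤ i, and
the stalk of H^{-r}(f^!O) at x satisfies Serre's condition (S_2) as an O_{X,x}-module. -/
theorem result (S X Y : Scheme.{u}) [IsNoetherian S] (p : X ⟶ S) (q : Y ⟶ S) [Dual3.IsSepFT p] [Dual3.IsSepFT q] (f : X ⟶ Y) (w : f ≫ q = p) (c : DEt.Compactification f) [DCoh.HasRpush c.fbar] (hc : DCoh.RpushPreservesQCoh c.fbar) (a : DCoh.DQCoh Y ⥤ DCoh.DQCoh c.Xbar) (adj : DCoh.RpushQ c.fbar hc ⊣ a) [∀ (U V : Scheme.{u}) (j : U ⟶ V) [IsOpenImmersion j], PreservesFiniteLimits (Scheme.Modules.restrictFunctor j)] (O : DCoh.DQCoh Y) (hO : Nonempty (O.obj ≅ DCoh.inD Y (Coh.structureModule Y))) (x : X) (r : ℕ) (hCM : LocCoh.IsCohenMacaulayLocalRing (Y.presheaf.stalk (f x))) (htr : ∀ Z : Set X, Z ∈ irreducibleComponents X → x ∈ Z → ∀ ξ : X, closure ({ξ} : Set X) = Z → Dual3.resTrdeg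 f ξ ≤ (r : Cardinal.{u})) : (∀ i : ℤ, Nontrivial ((DCoh.HD ((Dual3.shriekC c a).obj O) i).presheaf.stalk x) → -(r : ℤ) ≤ i) ∧ LocCoh.HasSk 2 (X.presheaf.stalk x) ((DCoh.HD ((Dual3.shriekC c a).obj O) (-(r : ℤ))).presheaf.stalk x) := by
  haveI : ∀ R : CommRingCat.{u}, PreservesFiniteLimits (tilde.functor R) := fun R => inferInstance
  haveI : IsLocallyNoetherian Y := LocallyOfFiniteType.isLocallyNoetherian q
  haveI : CompactSpace Y := QuasiCompact.compactSpace_of_compactSpace q
  haveI : IsNoetherian Y := {}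
  haveI : IsLocallyNoetherian X := LocallyOfFiniteType.isLocallyNoetherian p
  haveI : CompactSpace X := QuasiCompact.compactSpace_of_compactSpace p
  haveI : IsNoetherian X := {}
  haveI : LocallyOfFiniteType (f ≫ q) := w ▸ inferInstance
  haveI : LocallyOfFiniteType f := locallyOfFiniteType_of_comp f q
  let bad : Set X := ⋃ Z ∈ {Z ∈ irreducibleComponents X | x ∉ Z}, Z
  have hbad : IsClosed bad :=
    (TopologicalSpace.NoetherianSpace.finite_irreducibleComponents.subset fun Z hZ => hZ.1).isClosed_biUnion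
      fun Z hZ => isClosed_of_mem_irreducibleComponents Z hZ.1
  have hx : x ∉ bad := fun h => by
    obtain ⟨Z, ⟨-, hxZ⟩, hx'⟩ := Set.mem_iUnion₂.1 h
    exact hxZ hx'
  obtain ⟨A, B, _, _, _, _, _, _, jA, _, j, _, P, rfl, hsub, hcm⟩ :=
    Groth.Agent.Lib.RightAdjCoh.Chart.exists_chart_in f x ⟨badᶜ, hbad.isOpen_compl⟩ hx
  obtain ⟨m, ψ, hψ⟩ := Algebra.FiniteType.iff_quotient_mvPolynomial''.1
    (inferInstance : Algebra.FiniteType A B)
  obtain ⟨Rψ, ⟨adjψ⟩⟩ := Groth.Agent.Lib.RightAdjCoh.Chart.exists_adjR (CommRingCat.ofHom ψ.toRingHom)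
  haveI := Groth.Agent.Lib.DR.BaseChangeU.hasLBaseChange (algebraMap A (MvPolynomial (Fin m) A))
  let π : Spec (CommRingCat.of B) ⟶ Spec (CommRingCat.of A) := Spec.map (CommRingCat.ofHom (algebraMap A B))
  let p₀ : PrimeSpectrum A := PrimeSpectrum.comap (algebraMap A B) P
  have hfx : f (j P) = jA p₀ := by
    show (j ≫ f) P = (jA _)
    rw [hcm]
    rfl
  haveI hCMA : LocCoh.IsCohenMacaulayLocalRing (Localization.AtPrime p₀.asIdeal) := by
    obtain ⟨ε⟩ := Groth.Agent.Lib.DualSch.Affine.nonempty_stalk_equiv jA p₀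
    have h1 : LocCoh.IsCohenMacaulayLocalRing (Y.presheaf.stalk (jA p₀)) := by
      have key : ∀ y : Y, f (j P) = y → LocCoh.IsCohenMacaulayLocalRing (Y.presheaf.stalk y) := by
        rintro y rfl
        exact hCM
      exact key _ hfx
    exact Groth.Agent.Lib.Excellent.Transport.isCohenMacaulayLocalRing_of_ringEquiv ε
  have hr : ∀ q : PrimeSpectrum B, q.asIdeal ∈ minimalPrimes B →
      Dual3.resTrdeg π q ≤ (r : Cardinal.{u}) := fun qq hqq => by
    let z : ↥(Spec (CommRingCat.of B)) := qq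
    have hmaxpt : Groth.Agent.Lib.Cyc.DimFun.IsMaxPt (j z) := fun w hw => by
      obtain ⟨w₀, rfl⟩ : w ∈ Set.range j := hw.mem_open j.isOpenEmbedding.isOpen_range ⟨z, rfl⟩
      have h1 : w₀ ⤳ z := j.isOpenEmbedding.isInducing.specializes_iff.1 hw
      have h2 : (show PrimeSpectrum B from w₀) ≤ qq := (PrimeSpectrum.le_iff_specializes _ _).2 h1
      exact congrArg j (le_antisymm h2 (hqq.2 ⟨(show PrimeSpectrum B from w₀).isPrime, bot_le⟩ h2) :
        (show PrimeSpectrum B from w₀) = qq)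
    have hZ := Groth.Agent.Lib.Cyc.FieldDim.closure_mem_irreducibleComponents (j z) hmaxpt
    have hxZ : j P ∈ closure {j z} := by
      by_contra hn
      exact hsub ⟨z, rfl⟩ (Set.mem_iUnion₂.2 ⟨_, ⟨hZ, hn⟩, subset_closure rfl⟩)
    have h1 : Groth.Agent.Lib.Cyc.Residue.trdegAt f (j z) ≤ (r : Cardinal.{u}) := htr _ hZ hxZ (j z) rfl
    have h2 := Groth.Agent.Lib.Cyc.FieldDim.trdegAt_congr hcm z
    rw [Groth.Agent.Lib.Cyc.Residue.trdegAt_comp, Groth.Agent.Lib.Cyc.Residue.trdegAt_comp,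
      Groth.Agent.Lib.Cyc.FieldDim.trdegAt_eq_zero_of_surjective j _
        (Groth.Agent.Lib.Cyc.FieldDim.residueFieldMap_surjective _ _),
      Groth.Agent.Lib.Cyc.FieldDim.trdegAt_eq_zero_of_surjective jA _
        (Groth.Agent.Lib.Cyc.FieldDim.residueFieldMap_surjective _ _), add_zero, zero_add] at h2
    rw [h2] at h1
    exact h1
  obtain ⟨eO⟩ := Groth.Agent.Lib.RightAdjCoh.Chart.nonempty_one_chart jA hO
  obtain ⟨e⟩ := Groth.Agent.Lib.RightAdjCoh.Chart.nonempty_shriek_chart f c.j c.fbar c.fac hc adj jA j hcm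
    ψ hψ adjψ O (Groth.Agent.Lib.RightAdjCoh.Chart.exists_isGE_one hO) (Dual.inD A A) eO
  have hdisj : Disjoint (Algebra.algebraMapSubmonoid B p₀.asIdeal.primeCompl : Set B) P.asIdeal :=
    Set.disjoint_left.2 (by rintro - ⟨a, ha, rfl⟩ h; exact ha h)
  refine ⟨fun i hi => ?_, Groth.Agent.Lib.RightAdjCoh.StalkSk.hasSk_stalk j e (-(r : ℤ)) P
    (Algebra.algebraMapSubmonoid B p₀.asIdeal.primeCompl) hdisj 2
    (Groth.Agent.Lib.DMod.ShriekCM.hasSk_two hψ adjψ p₀.asIdeal r hr)⟩
  by_contra hlt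
  have h1 := (Groth.Agent.Lib.DualSch.Affine.nontrivial_stalk_iff j e i P).1 hi
  obtain ⟨y, hy⟩ := Module.mem_support_iff'.1 h1
  obtain ⟨s, hs, hsy⟩ :=
    Groth.Agent.Lib.DMod.ShriekCM.killed hψ adjψ p₀.asIdeal r hr i (not_le.1 hlt) y
  exact hy s (fun h => Set.disjoint_left.1 hdisj hs h) hsy

end Groth.Agent.S3671
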