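import Groth.Statements.S3675
import Groth.Agent.Lib.DualSch.Affine
import Groth.Agent.Lib.DualSch.Sch

set_option autoImplicit false
universe u
open CategoryTheory CategoryTheory.Limits AlgebraicGeometry
attribute [local instance] HasDerivedCategory.standard
open Dual3

namespace Groth.Agent.S3675

/-- Let X be a locally Noetherian scheme (exactness instances as in the definition of dualizing
complexes) and ω a coherent O_X-module such that ω[0] is a dualizing complex on X. Then X is
Cohen–Macaulay: every local ring O_{X,x} is a Cohen–Macaulay local ring. -/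
theorem result (X : Scheme.{u}) [IsLocallyNoetherian X] [∀ (U V : Scheme.{u}) (j : U ⟶ V) [IsOpenImmersion j], PreservesFiniteLimits (Scheme.Modules.restrictFunctor j)] [∀ (R : CommRingCat.{u}), PreservesFiniteLimits (tilde.functor R)] (ω : X.Modules) (hω : Coh.IsCoh ω) (hD : Dual2.IsDualizingSch X (DCoh.inD X ω)) (x : X) : LocCoh.IsCohenMacaulayLocalRing (X.presheaf.stalk x) := by
  open Groth.Agent.Lib in
  obtain ⟨A, _, j, _, p, rfl, -⟩ := Groth.Agent.Lib.DualSch.Sch.exists_chart x ⊤ trivial
  obtain ⟨τ, hτ, ⟨e⟩⟩ := hD A j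
  rw [Groth.Agent.Lib.DualSch.Affine.cohenMacaulay_stalk_iff j e hτ p]
  haveI := hτ.isNoetherianRing
  have hz : ∀ i : ℤ, Nontrivial ((DCoh.HD (DCoh.inD X ω) i).presheaf.stalk (j p)) → i = 0 := by
    intro i hi
    by_contra h0
    have hZ : IsZero (DCoh.HD (DCoh.inD X ω) i) := by
      rcases lt_or_gt_of_ne h0 with h | h
      · exact (DerivedCategory.isGE_iff _ 0).1 inferInstance i h
      · exact (DerivedCategory.isLE_iff _ 0).1 inferInstance i h
    exact not_nontrivial_iff_subsingleton.2 (AddCommGrpCat.subsingleton_of_isZero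
      (Functor.map_isZero (Groth.Agent.Lib.Modules.Stalk.stalkFunctor X (j p)) hZ)) hi
  have hp : p ∈ Module.support A A := by
    rw [Module.support_eq_zeroLocus, Module.annihilator_eq_bot.mpr inferInstance,
      Submodule.bot_coe, PrimeSpectrum.zeroLocus_singleton_zero]
    trivial
  obtain ⟨n, d, -, -, -, hn, -, -⟩ :=
    Groth.Agent.Lib.DMod.SkCriterion.exists_depth_dim hτ p A hp
  rw [LinearEquiv.support_eq (Groth.Agent.Lib.DMod.Basic.homUnitShiftEquiv τ _)] at hn
  have h' := (Groth.Agent.Lib.DualSch.Affine.nontrivial_stalk_iff j e _ p).2 hn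
  exact ⟨_, h', fun i hi => (hz i hi).trans (hz _ h').symm⟩

end Groth.Agent.S3675
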