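import Groth.Statements.S3677
import Groth.Agent.Lib.RightAdjCoh.LocalBase
import Groth.Agent.Lib.DualSch.StalkLocal
import Groth.Agent.Lib.DualSch.Local
import Groth.Agent.Lib.Cyc.FieldDim
-- import your own Groth.Agent.* helpers here

set_option maxHeartbeats 2000000
set_option autoImplicit false
universe u
open CategoryTheory CategoryTheory.Limits AlgebraicGeometry
attribute [local instance] HasDerivedCategory.standard
open Dual3
open Groth.Agent.Lib.DMod

namespace Groth.Agent.S3677

/-- Let A be a Noetherian local ring with a normalized dualizing complex ω_A and X proper over Spec A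
with dim X = n. Assume the derived pushforward Rf_* along the structure morphism f exists and
preserves complexes with quasi-coherent cohomology (carried as hypotheses), let a be a right adjoint
to Rf_* : D_QCoh(O_X) → D_QCoh(Spec A), and let W be an object of D_QCoh(Spec A) isomorphic to the
derived tilde of ω_A (tilde assumed left exact); put ω_X^• = a(W) and ω_X = H^{−n}(ω_X^•). Then (1)
H^i(ω_X^•) = 0 unless −n ≤ i ≤ 0; (2) the set of points where H^i(ω_X^•) has nonzero stalk has Krull
dimension at most −i; (3) ω_X has nonzero stalk at a point exactly when that point lies on some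
irreducible component of X of dimension n; (4) the stalks of ω_X satisfy Serre's condition (S_2). -/
theorem result (A : Type u) [CommRing A] [IsLocalRing A] [IsNoetherianRing A] (ω : Dual.D A) (hω : Dual.IsDualizing A ω) (hn : Dual.IsNormalized A ω) (X : Scheme.{u}) (f : X ⟶ Spec (CommRingCat.of A)) [IsProper f] [DCoh.HasRpush f] (hf : DCoh.RpushPreservesQCoh f) (a : DCoh.DQCoh (Spec (CommRingCat.of A)) ⥤ DCoh.DQCoh X) (adj : DCoh.RpushQ f hf ⊣ a) [PreservesFiniteLimits (tilde.functor (CommRingCat.of A))] (W : DCoh.DQCoh (Spec (CommRingCat.of A))) (hW : Nonempty (W.obj ≅ (DCoh.tildeD (CommRingCat.of A)).obj ω)) (n : ℕ) (hdim : topologicalKrullDim X = (n : WithBot ℕ∞)) : (∀ i : ℤ, (i < -(n : ℤ) ∨ 0 < i) → IsZero (DCoh.HD (a.obj W).obj i)) ∧ (∀ (i : ℤ) (m : ℕ), (m : ℤ) = -i → topologicalKrullDim {x : X | Nontrivial ((DCoh.HD (a.obj W).obj i).presheaf.stalk x)} ≤ (m : WithBot ℕ∞)) ∧ {x : X | Nontrivial ((DCoh.HD (a.obj W).obj (-(n : ℤ))).presheaf.stalk x)} = (⋃ Z ∈ {Z : Set X | Z ∈ irreducibleComponents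 X ∧ topologicalKrullDim ↥Z = (n : WithBot ℕ∞)}, Z) ∧ ∀ x : X, LocCoh.HasSk 2 (X.presheaf.stalk x) ((DCoh.HD (a.obj W).obj (-(n : ℤ))).presheaf.stalk x) := by
  haveI : ∀ R : CommRingCat.{u}, PreservesFiniteLimits (tilde.functor R) := fun R => inferInstance
  haveI : ∀ (U : Scheme.{u}) (j : U ⟶ X) [IsOpenImmersion j],
      PreservesFiniteLimits (Scheme.Modules.restrictFunctor j) := fun U j _ => inferInstance
  haveI : ∀ (U : Scheme.{u}) (j : U ⟶ Spec (CommRingCat.of A)) [IsOpenImmersion j],
      PreservesFiniteLimits (Scheme.Modules.restrictFunctor j) := fun U j _ => inferInstance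
  haveI : IsNoetherian X := Groth.Agent.Lib.RightAdjCoh.isNoetherian_of_proper f
  obtain ⟨eW⟩ := hW
  let T : ℤ → Set X := fun i => {x : X | Nontrivial ((DCoh.HD (a.obj W).obj i).presheaf.stalk x)}
  -- charts at closed points below a given point
  have hch : ∀ y : X, ∃ (B : Type u) (_ : CommRing B) (_ : IsNoetherianRing B)
      (j : Spec (CommRingCat.of B) ⟶ X) (_ : IsOpenImmersion j) (ωB : Dual.D B) (hd : Dual.IsDualizing B ωB)
      (P q : PrimeSpectrum B), j q = y ∧ q ≤ P ∧ Degree.deg hd P = 0 ∧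
        (∀ r : PrimeSpectrum B, r ≤ P → -(n : ℤ) ≤ Degree.deg hd r) ∧
        (∀ (z : X) , z ⤳ j P → ∃ r : PrimeSpectrum B, j r = z ∧ r ≤ P) ∧
        ∀ (i : ℤ) (r : PrimeSpectrum B), (j r ∈ T i ↔ r ∈ Module.support B (Dual.inD B B ⟶ ωB⟦i⟧)) := by
    intro y
    obtain ⟨x, hxy, hx⟩ := IsClosed.exists_closed_singleton (S := closure ({y} : Set X)) isClosed_closure
      ⟨y, subset_closure rfl⟩
    have hyx : y ⤳ x := specializes_iff_mem_closure.2 hxy
    obtain ⟨B, _, _, j, _, ωB, hd, P, rfl, hP, hiff⟩ :=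
      Groth.Agent.Lib.RightAdjCoh.LocalBase.exists_closed_chart hω hn f hf adj W eW x hx
    have hgen : ∀ z : X, z ⤳ j P → ∃ r : PrimeSpectrum B, j r = z ∧ r ≤ P := fun z hz => by
      obtain ⟨r, rfl⟩ : z ∈ Set.range j := hz.mem_open j.isOpenEmbedding.isOpen_range ⟨P, rfl⟩
      exact ⟨r, rfl, (PrimeSpectrum.le_iff_specializes r P).2
        (j.isOpenEmbedding.isInducing.specializes_iff.1 hz)⟩
    obtain ⟨q, hq, hqP⟩ := hgen y hyx
    refine ⟨B, inferInstance, inferInstance, j, inferInstance, ωB, hd, P, q, hq, hqP, hP,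
      fun r hr => ?_, hgen, hiff⟩
    obtain ⟨s, hs, -, -⟩ := DimDegree.exists_series hd (-Degree.deg hd r).toNat r P hr (by
      have := Degree.deg_le hd hr
      lia)
    have h1 := Order.LTSeries.length_le_krullDim s
    have h2 : topologicalKrullDim (PrimeSpectrum B) ≤ topologicalKrullDim X :=
      Topology.IsInducing.topologicalKrullDim_le (f := (j : PrimeSpectrum B → X)) j.isOpenEmbedding.isInducing
    rw [PrimeSpectrum.topologicalKrullDim_eq_ringKrullDim, hdim] at h2
    have h3 : (-Degree.deg hd r).toNat ≤ n := by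
      rw [hs] at h1
      exact_mod_cast h1.trans h2
    lia
  -- the range of degrees
  have hrange : ∀ (B : Type u) [CommRing B] [IsNoetherianRing B] (ωB : Dual.D B)
      (hd : Dual.IsDualizing B ωB) (q : PrimeSpectrum B) (i : ℤ),
      q ∈ Module.support B (Dual.inD B B ⟶ ωB⟦i⟧) →
        i ≤ Degree.deg hd q ∧ ∃ r : PrimeSpectrum B, r ≤ q ∧ Degree.deg hd r ≤ i := by
    intro B _ _ ωB hd q i hq
    constructor
    · by_contra hc
      exact Degree.notMem_support_hom_of_outside hd q B i (Or.inl (not_le.1 hc)) hq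
    · by_contra hc
      push Not at hc
      exact Degree.notMem_support_hom_of_outside hd q B i (Or.inr fun r hr _ => hc r hr) hq
  have hclosed : ∀ i : ℤ, IsClosed (T i) := by
    intro i
    refine isOpen_compl_iff.1 (isOpen_iff_forall_mem_open.2 fun y hy => ?_)
    obtain ⟨B, _, _, j, _, ωB, hd, P, q, rfl, -, -, -, -, hiff⟩ := hch y
    haveI := Degree.finite_hom hd B i
    refine ⟨j '' (Module.support B (Dual.inD B B ⟶ ωB⟦i⟧))ᶜ, ?_,
      j.isOpenEmbedding.isOpenMap _ Module.isClosed_support.isOpen_compl, ⟨q, fun h => hy ((hiff i q).2 h), rfl⟩⟩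
    rintro - ⟨r, hr, rfl⟩ h
    exact hr ((hiff i r).1 h)
  have hvan : ∀ i : ℤ, (i < -(n : ℤ) ∨ 0 < i) → ∀ y : X, y ∉ T i := by
    intro i hi y hy
    obtain ⟨B, _, _, j, _, ωB, hd, P, q, rfl, hqP, hP, hlb, -, hiff⟩ := hch y
    obtain ⟨h1, r, hr, h2⟩ := hrange B ωB hd q i ((hiff i q).1 hy)
    have h3 := Degree.deg_le hd hqP
    have h4 := hlb r (hr.trans hqP)
    lia
  have hzero : ∀ i : ℤ, (i < -(n : ℤ) ∨ 0 < i) → IsZero (DCoh.HD (a.obj W).obj i) := fun i hi =>
    Groth.Agent.Lib.Modules.Support.support_eq_empty_iff.1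
      (Set.eq_empty_of_forall_notMem fun y hy => hvan i hi y (not_subsingleton_iff_nontrivial.1 hy))
  refine ⟨hzero, fun i m hm => ?_, ?_, fun x => ?_⟩
  · -- dimension of supports
    haveI : QuasiSober ↥(T i) := (hclosed i).isClosedEmbedding_subtypeVal.quasiSober
    show topologicalKrullDim ↥(T i) ≤ _
    refine iSup_le fun s => ?_
    let g : Fin (s.length + 1) → ↥(T i) := fun k => (s k).2.genericPoint
    have hg : ∀ k, closure {g k} = (s k : Set ↥(T i)) := fun k => by
      rw [(s k).2.genericPoint_closure_eq]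
      exact (s k).3.closure_eq
    have hspec : ∀ k l, k ≤ l → (g l : X) ⤳ (g k : X) := fun k l hkl => by
      refine (subtype_specializes_iff _ _).1 (specializes_iff_mem_closure.2 ?_)
      rw [hg l]
      exact (s.strictMono.monotone hkl) (show g k ∈ (s k : Set _) by rw [← hg k]; exact subset_closure rfl)
    obtain ⟨B, _, _, j, _, ωB, hd, P, q, hq, hqP, hP, -, hgen, hiff⟩ := hch (g 0 : X)
    have hall : ∀ k, ∃ r : PrimeSpectrum B, j r = (g k : X) ∧ r ≤ P := fun k =>
      hgen _ ((hspec 0 k (Fin.zero_le k)).trans (hq ▸ Specializes.map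
        ((PrimeSpectrum.le_iff_specializes q P).1 hqP) j.continuous))
    choose r hr hrP using hall
    have hanti : StrictAnti r := fun k l hkl => by
      refine lt_of_le_of_ne ((PrimeSpectrum.le_iff_specializes _ _).2
        (j.isOpenEmbedding.isInducing.specializes_iff.1 (by rw [hr, hr]; exact hspec k l hkl.le))) fun he => ?_
      have h1 : g k = g l := Subtype.ext (by rw [← hr, ← hr, he])
      exact (s.strictMono hkl).ne (TopologicalSpace.IrreducibleCloseds.ext (by rw [← hg, ← hg, h1]))
    let c : LTSeries (PrimeSpectrum B) :=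
      LTSeries.mk s.length (fun k => r k.rev) fun k l hkl => hanti (Fin.rev_lt_rev.2 hkl)
    have h1 := DimDegree.head_deg_add_length_le hd c
    have h2 : Degree.deg hd c.last ≤ 0 := hP ▸ Degree.deg_le hd (hrP _)
    have h3 : i ≤ Degree.deg hd c.head :=
      (hrange B ωB hd c.head i ((hiff i _).1 (by
        show j (r _) ∈ T i
        rw [hr]
        exact (g _).2))).1
    have h4 : (c.length : ℤ) = s.length := rfl
    exact_mod_cast (show s.length ≤ m by lia)
  · -- the lowest degree
    ext y
    simp only [Set.mem_iUnion, Set.mem_setOf_eq]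
    constructor
    · intro hy
      obtain ⟨B, _, _, j, _, ωB, hd, P, q, rfl, hqP, hP, hlb, -, hiff⟩ := hch y
      obtain ⟨-, r, hrq, hr⟩ := hrange B ωB hd q _ ((hiff _ q).1 hy)
      obtain ⟨I, hI, hIr⟩ := Ideal.exists_minimalPrimes_le (bot_le : ⊥ ≤ r.asIdeal)
      let r₁ : PrimeSpectrum B := ⟨I, hI.1.1⟩
      have h1 : r₁ ≤ P := le_trans (show r₁ ≤ r from hIr) (hrq.trans hqP)
      have h2 := hlb r₁ h1
      have h3 := Degree.deg_le hd (show r₁ ≤ r from hIr)
      let z : ↥(Spec (CommRingCat.of B)) := r₁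
      have hmax : Groth.Agent.Lib.Cyc.DimFun.IsMaxPt (j z) := fun w hw => by
        obtain ⟨w₀, rfl⟩ : w ∈ Set.range j := hw.mem_open j.isOpenEmbedding.isOpen_range ⟨z, rfl⟩
        have h4 : (show PrimeSpectrum B from w₀) ≤ r₁ :=
          (PrimeSpectrum.le_iff_specializes _ _).2 (j.isOpenEmbedding.isInducing.specializes_iff.1 hw)
        exact congrArg j (le_antisymm h4 (hI.2 ⟨(show PrimeSpectrum B from w₀).isPrime, bot_le⟩ h4) :
          (show PrimeSpectrum B from w₀) = r₁)
      have hcl : ∀ w : PrimeSpectrum B, r₁ ≤ w → j w ∈ closure ({j z} : Set X) := fun w hw =>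
        specializes_iff_mem_closure.1 (((PrimeSpectrum.le_iff_specializes r₁ w).1 hw).map j.continuous)
      refine ⟨closure {j z}, ⟨Groth.Agent.Lib.Cyc.FieldDim.closure_mem_irreducibleComponents (j z) hmax,
        le_antisymm ((Topology.IsInducing.subtypeVal.topologicalKrullDim_le).trans hdim.le) ?_⟩,
        hcl q (le_trans (show r₁ ≤ r from hIr) hrq)⟩
      obtain ⟨s, hs, hs₁, -⟩ := DimDegree.exists_series hd n r₁ P h1 (by lia)
      let C : Fin (s.length + 1) → ↥(closure ({j z} : Set X)) := fun k =>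
        ⟨j (s k.rev), hcl _ (hs₁ ▸ s.head_le _)⟩
      let c : LTSeries (TopologicalSpace.IrreducibleCloseds ↥(closure ({j z} : Set X))) :=
        LTSeries.mk s.length (fun k => ⟨closure {C k}, isIrreducible_singleton.closure, isClosed_closure⟩)
          fun k l hkl => by
            have h5 : s l.rev < s k.rev := s.strictMono (Fin.rev_lt_rev.2 hkl)
            have h6 : C l ⤳ C k := (subtype_specializes_iff _ _).2
              (((PrimeSpectrum.le_iff_specializes _ _).1 h5.le).map j.continuous)
            refine lt_of_le_of_ne (specializes_iff_closure_subset.1 h6) fun he => h5.ne' ?_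
            have h7 : closure {C k} = closure {C l} := congrArg TopologicalSpace.IrreducibleCloseds.carrier he
            have h8 : C k ⤳ C l := specializes_iff_closure_subset.2 h7.ge
            exact j.isOpenEmbedding.injective (congrArg Subtype.val (h8.antisymm h6).eq)
      have := Order.LTSeries.length_le_krullDim c
      rw [show c.length = n from hs] at this
      exact this
    · rintro ⟨Z, ⟨hZ, hZn⟩, hyZ⟩
      obtain ⟨ξ, hξ⟩ := QuasiSober.sober hZ.1 (isClosed_of_mem_irreducibleComponents Z hZ)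
      suffices hξT : ξ ∈ T (-(n : ℤ)) by
        have : Z ⊆ T (-(n : ℤ)) := hξ.def ▸ closure_minimal (Set.singleton_subset_iff.2 hξT) (hclosed _)
        exact this hyZ
      haveI : QuasiSober ↥Z :=
        (isClosed_of_mem_irreducibleComponents Z hZ).isClosedEmbedding_subtypeVal.quasiSober
      obtain ⟨s, hs⟩ := Order.le_krullDim_iff.1 (show (n : WithBot ℕ∞) ≤ topologicalKrullDim ↥Z from hZn.ge)
      let g : Fin (s.length + 1) → ↥Z := fun k => (s k).2.genericPoint
      have hg : ∀ k, closure {g k} = (s k : Set ↥Z) := fun k => by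
        rw [(s k).2.genericPoint_closure_eq]
        exact (s k).3.closure_eq
      have hspec : ∀ k l, k ≤ l → (g l : X) ⤳ (g k : X) := fun k l hkl => by
        refine (subtype_specializes_iff _ _).1 (specializes_iff_mem_closure.2 ?_)
        rw [hg l]
        exact (s.strictMono.monotone hkl) (show g k ∈ (s k : Set _) by rw [← hg k]; exact subset_closure rfl)
      obtain ⟨B, _, _, j, _, ωB, hd, P, q, hq, hqP, hP, hlb, hgen, hiff⟩ := hch (g 0 : X)
      have hall : ∀ k, ∃ r : PrimeSpectrum B, j r = (g k : X) ∧ r ≤ P := fun k =>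
        hgen _ ((hspec 0 k (Fin.zero_le k)).trans (hq ▸ Specializes.map
          ((PrimeSpectrum.le_iff_specializes q P).1 hqP) j.continuous))
      choose r hr hrP using hall
      have hanti : StrictAnti r := fun k l hkl => by
        refine lt_of_le_of_ne ((PrimeSpectrum.le_iff_specializes _ _).2
          (j.isOpenEmbedding.isInducing.specializes_iff.1 (by rw [hr, hr]; exact hspec k l hkl.le))) fun he => ?_
        have h1 : g k = g l := Subtype.ext (by rw [← hr, ← hr, he])
        exact (s.strictMono hkl).ne (TopologicalSpace.IrreducibleCloseds.ext (by rw [← hg, ← hg, h1]))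
      let c : LTSeries (PrimeSpectrum B) :=
        LTSeries.mk s.length (fun k => r k.rev) fun k l hkl => hanti (Fin.rev_lt_rev.2 hkl)
      have h0 : ξ ⤳ j c.head := by
        show ξ ⤳ j (r _)
        rw [hr]
        exact hξ.specializes (g _).2
      obtain ⟨r₁, hr₁, hr₁P⟩ := hgen ξ (h0.trans (((PrimeSpectrum.le_iff_specializes c.head P).1
        (hrP _)).map j.continuous))
      have h1 : r₁ ≤ c.head := (PrimeSpectrum.le_iff_specializes _ _).2
        (j.isOpenEmbedding.isInducing.specializes_iff.1 (by rw [hr₁]; exact h0))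
      have h2 := DimDegree.head_deg_add_length_le hd c
      have h3 : Degree.deg hd c.last ≤ 0 := hP ▸ Degree.deg_le hd (hrP _)
      have h4 : c.length = n := hs
      have h5 := Degree.deg_le hd h1
      have h6 := hlb r₁ hr₁P
      rw [← hr₁, hiff, show -(n : ℤ) = Degree.deg hd r₁ by lia]
      refine Degree.mem_support_hom_of_minimal_deg hd r₁ r₁ le_rfl B ?_ fun w hw _ => ?_
      · rw [Module.support_eq_zeroLocus, Module.annihilator_eq_bot.mpr inferInstance,
          Submodule.bot_coe, PrimeSpectrum.zeroLocus_singleton_zero]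
        trivial
      · have h7 := hlb w (hw.trans hr₁P)
        lia
  · -- (S₂)
    obtain ⟨eT⟩ : Nonempty ((DCoh.restrictD (𝟙 (Spec (CommRingCat.of A)))).obj W.obj ≅
        (DCoh.tildeD (CommRingCat.of A)).obj ω) :=
      ⟨(Groth.Agent.Lib.Gen43.Restrict.idIso _).app W.obj ≪≫ eW⟩
    have hWd : Dual2.IsDualizingSch (Spec (CommRingCat.of A)) W.obj :=
      Groth.Agent.Lib.DualSch.Local.isDualizingSch_of_cover _ fun z =>
        ⟨A, inferInstance, 𝟙 _, inferInstance, _, ⟨z, rfl⟩, hω, ⟨eT⟩⟩
    have hdual : Dual2.IsDualizingSch X (a.obj W).obj :=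
      Groth.Agent.Lib.RightAdjCoh.Chart.isDualizingSch_a f hf adj W hWd
    obtain ⟨τ, hτ, heq⟩ := Groth.Agent.Lib.DualSch.StalkLocal.exists_dualizing_stalk hdual x
    haveI := hτ.isNoetherianRing
    refine Groth.Agent.Lib.DualSch.StalkLocal.hasSk_two_lowest hτ (n := -(n : ℤ)) (fun i hi => ?_) (heq _).some
    exact not_nontrivial_iff_subsingleton.1 fun h =>
      hvan i (Or.inl hi) x ((heq i).some.toEquiv.nontrivial_congr.1 h)

end Groth.Agent.S3677
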