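import Groth.Statements.S3678
import Groth.Agent.Lib.FEt.ConnectedObj
import Groth.Agent.H80.Galois
import Groth.Agent.S0265
import Groth.Agent.S1187


set_option autoImplicit false
universe u
open Pi1

namespace Groth.Agent.S3678

open AlgebraicGeometry CategoryTheory CategoryTheory.Limits in
/-- Let A be a strictly henselian local ring (a henselian local ring with separably closed residue
field), f : X → Spec A a morphism which is proper, flat and of finite presentation and all of whose
geometric fibres are connected and reduced, and t : Spec Ω → Spec A a geometric point, with Ω an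
algebraically closed field. Then the functor restricting finite étale covers of X to the geometric
fibre X_t = X ×_{Spec A} Spec Ω is fully faithful; equivalently, the specialisation homomorphism
from the fundamental group of X_t to that of X is surjective. (The published statement is the
surjectivity of this homomorphism; it is stated here as full faithfulness of the restriction
functor.) -/
theorem result (A : Type u) [CommRing A] [HenselianLocalRing A]
    [IsSepClosed (IsLocalRing.ResidueField A)] {X : Scheme.{u}} (f : X ⟶ Spec (CommRingCat.of A))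
    [IsProper f] [Flat f] [LocallyOfFinitePresentation f]
    (hfib : ∀ (Ω : Type u) [Field Ω] [IsAlgClosed Ω] (s : Spec (CommRingCat.of Ω) ⟶ Spec (CommRingCat.of A)),
      ConnectedSpace ↥(pullback f s) ∧ IsReduced (pullback f s))
    (Ω : Type u) [Field Ω] [IsAlgClosed Ω] (t : Spec (CommRingCat.of Ω) ⟶ Spec (CommRingCat.of A)) :
    (FEt.restrict (pullback.fst f t)).Full ∧ (FEt.restrict (pullback.fst f t)).Faithful := by
  open Groth.Agent.Lib.FEt CategoryTheory.PreGaloisCategory Groth.Agent.H80 in
  have : ConnectedSpace ↥(Spec (CommRingCat.of A)) := by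
    have : PreconnectedSpace ↥(Spec (CommRingCat.of A)) := preconnectedSpace_iff_clopen.mpr fun C hC => by
      by_contra hc
      simp only [not_or] at hc
      obtain ⟨p, hp⟩ := Set.nonempty_iff_ne_empty.mpr hc.1
      obtain ⟨q, hq⟩ := (Set.ne_univ_iff_exists_notMem _).mp hc.2
      exact (IsLocalRing.specializes_closedPoint (q : PrimeSpectrum A)).mem_closed
        hC.compl.isClosed hq ((IsLocalRing.specializes_closedPoint (p : PrimeSpectrum A)).mem_closed hC.isClosed hp)
    exact ⟨⟨IsLocalRing.closedPoint A⟩⟩
  have := (hfib Ω t).1
  have : Surjective f := ConnFibres.surjective_of_geomFibres f fun K _ _ x => (hfib K x).1.toNonempty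
  have : ConnectedSpace X := by
    let p := pullback.fst (𝟙 (Spec (CommRingCat.of A))) f
    have : Surjective p := MorphismProperty.pullback_fst (P := @Surjective) _ _ ‹_›
    have hP : PreconnectedSpace ↥(pullback (𝟙 (Spec (CommRingCat.of A))) f) :=
      preconnectedSpace_iff_clopen.mpr fun C hC => by
        obtain ⟨D, hD, rfl⟩ := ConnFibres.exists_isClopen_preimage p.continuous p.isClosedMap p.surjective
          (fun w => ConnFibres.isPreconnected_fibre f _ w (hfib _ _).1.toPreconnectedSpace) hC
        rcases isClopen_iff.mp hD with rfl | rfl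
        · exact Or.inl Set.preimage_empty
        · exact Or.inr Set.preimage_univ
    have : Surjective (pullback.snd (𝟙 (Spec (CommRingCat.of A))) f) := inferInstance
    exact { (pullback.snd (𝟙 (Spec (CommRingCat.of A))) f).surjective.denseRange.preconnectedSpace
        (pullback.snd (𝟙 (Spec (CommRingCat.of A))) f).continuous with
      toNonempty := ⟨pullback.fst f t (Classical.arbitrary _)⟩ }
  let P := pullback f t
  have := FiberUnique.galoisCategory (X := X)
  have := FiberUnique.galoisCategory (X := P)
  let H := FEt.restrict (pullback.fst f t)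
  let z₀ : P := Classical.arbitrary _
  let ξ := Spec.map (CommRingCat.ofHom
    (algebraMap (P.residueField z₀) (AlgebraicClosure (P.residueField z₀)))) ≫ P.fromSpecResidueField z₀
  let F' := FiberFunctor.fintypeFiber ξ
  have := GaloisCat.fiberFunctor ξ
  obtain ⟨_⟩ := Galois.nonempty_fiberFunctor_comp H F'
  refine (Groth.Agent.S1187.result H F').mp ?_
  rw [← MonoidHom.range_eq_top]
  refine Groth.Agent.H80.Profinite.eq_top_of_forall_open (Galois.isClosed_range_autWhisker H F')
    fun U hU => ?_
  obtain ⟨Y, a, hY, hst⟩ := Galois.exists_connected_stabilizer (H ⋙ F') U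
  rw [← hst] at hU ⊢
  obtain ⟨s, -⟩ := (Galois.fixed_iff_exists_section F' (show F'.obj (H.obj Y) from a)).mp
    ((Galois.range_le_stabilizer_iff H F' a).mp hU)
  let E : FEt.Cat P := MorphismProperty.Over.mk ⊤ (𝟙 P) ⟨inferInstance, inferInstance⟩
  let s' : E ⟶ H.obj Y := terminal.from E ≫ s
  let sl : P ⟶ pullback Y.hom (pullback.fst f t) := s'.left
  have hsl : sl ≫ pullback.snd Y.hom (pullback.fst f t) = 𝟙 P := Over.w s'.hom
  have : ConnectedSpace Y.left := ConnectedObj.connectedSpace Y
  obtain ⟨T, ⟨e⟩⟩ := Groth.Agent.S0265.result f hfib Y Ω t (sl ≫ pullback.fst Y.hom (pullback.fst f t))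
    (by rw [Category.assoc, pullback.condition, ← Category.assoc, hsl, Category.id_comp])
  let e' := (MorphismProperty.Over.forget _ _ _ ⋙ Over.forget _).mapIso e
  have : Surjective (pullback.fst T.hom f) := MorphismProperty.pullback_fst (P := @Surjective) _ _ ‹_›
  have : ConnectedSpace ↥((MorphismProperty.Over.forget FEt.prop.{u} ⊤ X ⋙ Over.forget X).obj Y) :=
    ConnectedObj.connectedSpace Y
  have : ConnectedSpace T.left :=
    ((pullback.fst T.hom f).surjective.comp e'.inv.homeomorph.surjective).connectedSpace
      ((pullback.fst T.hom f).continuous.comp e'.inv.continuous)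
  have hTi := ConnectedObj.isIso_hom_of_strictlyHenselian T
  have hf' : IsIso (e'.hom ≫ Y.hom) := by
    have h1 : e'.hom ≫ Y.hom = pullback.snd T.hom f := Over.w e.hom.hom
    rw [h1]
    exact MorphismProperty.pullback_snd (P := MorphismProperty.isomorphisms Scheme) _ _ hTi
  have hYi : IsIso Y.hom := IsIso.of_isIso_comp_left e'.hom Y.hom
  have hsub : Subsingleton ((H ⋙ F').obj Y) := by
    have hmono : IsIso (pullback.snd Y.hom (pullback.fst f t)) :=
      MorphismProperty.pullback_snd (P := MorphismProperty.isomorphisms Scheme) _ _ hYi
    have hm : Mono (pullback.snd Y.hom (pullback.fst f t)) := @IsIso.mono_of_iso _ _ _ _ _ hmono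
    exact ⟨fun p q => Subtype.ext (hm.right_cancellation _ _
      ((p : FEt.fiberObj ξ (H.obj Y)).2.trans (q : FEt.fiberObj ξ (H.obj Y)).2.symm))⟩
  refine eq_top_iff.mpr fun g _ => ?_
  exact hsub.elim _ _

end Groth.Agent.S3678
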