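import Groth.Statements.S3681
import Groth.Agent.Lib.Kunneth.Const

set_option autoImplicit false
set_option backward.isDefEq.respectTransparency false
universe u
open Pi1

namespace Groth.Agent.S3681

open AlgebraicGeometry CategoryTheory CategoryTheory.Limits in
/-- Let k be an algebraically closed field, X and Y locally Noetherian k-schemes with Y connected and X
or Y proper over k, and Z' a finite etale cover of the product of X and Y over k. For a k-rational
point y of Y write j_y : X -> X x_k Y for the induced morphism. Then for any two k-rational points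
y, y' of Y the finite etale covers of X obtained by pulling Z' back along j_y and j_{y'} are
isomorphic. -/
theorem result (k : Type u) [Field k] [IsAlgClosed k] {X Y : Scheme.{u}}
    (pX : X ⟶ Spec (CommRingCat.of k)) (pY : Y ⟶ Spec (CommRingCat.of k))
    [IsLocallyNoetherian X] [IsLocallyNoetherian Y] [ConnectedSpace Y] (hprop : IsProper pX ∨ IsProper pY)
    (Z' : FEt.Cat (pullback pX pY))
    (y y' : Spec (CommRingCat.of k) ⟶ Y) (hy : 𝟙 X ≫ pX = (pX ≫ y) ≫ pY) (hy' : 𝟙 X ≫ pX = (pX ≫ y') ≫ pY) :
    Nonempty ((FEt.restrict (pullback.lift (𝟙 X) (pX ≫ y) hy)).obj Z' ≅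
      (FEt.restrict (pullback.lift (𝟙 X) (pX ≫ y') hy')).obj Z') := by
  by_cases hX : Nonempty X
  · obtain ⟨x⟩ := hX
    have key : ∀ w : Spec (CommRingCat.of k) ⟶ Y, 𝟙 X ≫ pX = (pX ≫ w) ≫ pY →
        w ≫ pY = 𝟙 _ := by
      intro w hw
      obtain ⟨χ, hχ⟩ := Spec.map_surjective (w ≫ pY)
      obtain ⟨γ, hγ⟩ := Spec.map_surjective (X.fromSpecResidueField x ≫ pX)
      have h : Spec.map γ ≫ Spec.map χ = Spec.map γ := by
        rw [hγ, hχ, Category.assoc]
        exact congrArg (X.fromSpecResidueField x ≫ ·) (by simpa using hw.symm)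
      rw [← Spec.map_comp] at h
      have h' := Spec.map_injective h
      rw [← hχ, ← Spec.map_id]
      congr 1
      ext c
      exact γ.hom.injective (congrArg (fun e => e.hom c) h')
    exact Groth.Agent.Lib.Kunneth.nonempty_iso hprop Z' (key y hy) (key y' hy')
  · have hE : IsEmpty X := not_nonempty_iff.mp hX
    let W := (FEt.restrict (pullback.lift (𝟙 X) (pX ≫ y) hy)).obj Z'
    let W' := (FEt.restrict (pullback.lift (𝟙 X) (pX ≫ y') hy')).obj Z'
    have : IsEmpty ↥W.left := Function.isEmpty (show ↥W.left → ↥X from W.hom.base)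
    have : IsEmpty ↥W'.left := Function.isEmpty (show ↥W'.left → ↥X from W'.hom.base)
    exact ⟨MorphismProperty.Over.isoMk ((isInitialOfIsEmpty (X := W.left)).uniqueUpToIso isInitialOfIsEmpty)
      ((isInitialOfIsEmpty (X := W.left)).hom_ext _ _)⟩

end Groth.Agent.S3681
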