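import Groth.Statements.S3697
import Groth.Agent.Lib.Kunneth.FibreComponent

set_option autoImplicit false
set_option backward.isDefEq.respectTransparency false
universe u
open SGA1

namespace Groth.Agent.S3697

open AlgebraicGeometry CategoryTheory CategoryTheory.Limits in
/-- The sufficiency (the necessity of the conditions is immediate). Let f : X -> S be proper, surjective
and of finite presentation with geometrically connected fibres, and g : X' -> X proper of finite
presentation. Let s be a point of S and C a connected open and closed part of the fibre X'_s (a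
connected component). Suppose that g is etale at the points of X' under C, and that C, mapped to the
fibre X_s, is a finite etale cover which splits completely after base change to an algebraic closure
of the residue field of s. Then some open neighbourhood of C in X' is X-isomorphic to X x_S S_1 for
a scheme S_1 etale over S. -/
theorem result {X X' S : Scheme.{u}} (f : X ⟶ S) [IsProper f] [Surjective f]
    [LocallyOfFinitePresentation f]
    (hconn : ∀ (Ω : Type u) [Field Ω] [IsAlgClosed Ω] (σ : Spec (CommRingCat.of Ω) ⟶ S), ConnectedSpace ↥(pullback f σ))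
    (g : X' ⟶ X) [IsProper g] [LocallyOfFinitePresentation g] (s : S)
    (C : (pullback (g ≫ f) (S.fromSpecResidueField s)).Opens) (hCcl : IsClosed (C : Set ↥(pullback (g ≫ f) (S.fromSpecResidueField s))))
    [ConnectedSpace ↥C]
    (het : ∀ c : C, (pullback.fst (g ≫ f) (S.fromSpecResidueField s)).base c.1 ∈ Pi1X.etaleLocus g)
    [hF : IsFinite (C.ι ≫ pullback.map (g ≫ f) (S.fromSpecResidueField s) f (S.fromSpecResidueField s) g (𝟙 _) (𝟙 S)
      (Category.comp_id _) ((Category.comp_id _).trans (Category.id_comp _).symm))]
    [hE : Etale (C.ι ≫ pullback.map (g ≫ f) (S.fromSpecResidueField s) f (S.fromSpecResidueField s) g (𝟙 _) (𝟙 S)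
      (Category.comp_id _) ((Category.comp_id _).trans (Category.id_comp _).symm))]
    (hsplit : Pi1.IsSplit ((FEt.restrict (pullback.fst (pullback.snd f (S.fromSpecResidueField s))
        (Spec.map (CommRingCat.ofHom (algebraMap (S.residueField s) (AlgebraicClosure (S.residueField s))))))).obj
      (MorphismProperty.Over.mk ⊤ (C.ι ≫ pullback.map (g ≫ f) (S.fromSpecResidueField s) f (S.fromSpecResidueField s) g
        (𝟙 _) (𝟙 S) (Category.comp_id _) ((Category.comp_id _).trans (Category.id_comp _).symm)) ⟨hF, hE⟩))) :
    ∃ W : X'.Opens, (∀ c : C, (pullback.fst (g ≫ f) (S.fromSpecResidueField s)).base c.1 ∈ W) ∧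
      ∃ (S₁ : Scheme.{u}) (e : S₁ ⟶ S) (_ : Etale e) (φ : (W : Scheme.{u}) ≅ pullback f e),
        φ.hom ≫ pullback.fst f e = W.ι ≫ g := by
  open Groth.Agent.Lib.Kunneth in
  obtain ⟨n, hns, hn, hnC⟩ := FibreComponent.subset_component f g s C hCcl
  let iS := S.fromSpecResidueField s
  let gbar := Spec.map (CommRingCat.ofHom (algebraMap (S.residueField s) (AlgebraicClosure (S.residueField s))))
  let cm : (C : Scheme.{u}) ⟶ pullback f iS := C.ι ≫ pullback.map (g ≫ f) iS f iS g (𝟙 _) (𝟙 S)
    (Category.comp_id _) ((Category.comp_id _).trans (Category.id_comp _).symm)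
  haveI : IsFinite cm := hF
  have hsheet : ∀ p : ↥(pullback cm (pullback.fst (pullback.snd f iS) gbar)),
      ∃ σ : pullback (pullback.snd f iS) gbar ⟶ pullback cm (pullback.fst (pullback.snd f iS) gbar),
        σ ≫ pullback.snd _ _ = 𝟙 _ ∧ IsClosedImmersion σ ∧ Set.range σ.base = connectedComponent p := by
    intro p
    obtain ⟨ι, _, e, he⟩ := hsplit
    haveI : ConnectedSpace ↥(pullback (pullback.snd f iS) gbar) := by
      haveI := hconn (AlgebraicClosure (S.residueField s)) (gbar ≫ iS)
      let e' := pullbackLeftPullbackSndIso f iS gbar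
      exact e'.inv.homeomorph.surjective.connectedSpace e'.inv.continuous
    let e' : pullback cm (pullback.fst (pullback.snd f iS) gbar) ≅
      ∐ fun _ : ι => pullback (pullback.snd f iS) gbar := e
    obtain ⟨i, x, hx⟩ := (sigmaOpenCover fun _ : ι => pullback (pullback.snd f iS) gbar).exists_eq (e'.hom.base p)
    let σ : pullback (pullback.snd f iS) gbar ⟶ pullback cm (pullback.fst (pullback.snd f iS) gbar) :=
      Sigma.ι (fun _ : ι => pullback (pullback.snd f iS) gbar) i ≫ e'.inv
    have hσ : σ ≫ pullback.snd _ _ = 𝟙 _ := (Category.assoc _ _ _).trans (he i)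
    have hp : σ.base x = p := by
      rw [Scheme.Hom.comp_apply,
        show (Sigma.ι (fun _ : ι => pullback (pullback.snd f iS) gbar) i).base x = e'.hom.base p from hx]
      simp
    haveI : IsOpenImmersion σ := inferInstance
    haveI hci : IsClosedImmersion σ := by
      haveI : IsClosedImmersion (σ ≫ pullback.snd cm (pullback.fst (pullback.snd f iS) gbar)) :=
        hσ ▸ inferInstance
      exact IsClosedImmersion.of_comp σ (pullback.snd cm (pullback.fst (pullback.snd f iS) gbar))
    exact ⟨σ, hσ, hci, Set.Subset.antisymm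
      ((isPreconnected_range σ.continuous).subset_connectedComponent ⟨x, hp⟩)
      (IsClopen.connectedComponent_subset
        ⟨σ.isClosedEmbedding.isClosed_range, σ.isOpenEmbedding.isOpen_range⟩ ⟨x, hp⟩)⟩
  obtain ⟨N, hnN, S₁, e, he, φ, hφ⟩ := FibreComponent.exists_nhd f g hconn n
    (fun x' hx' => by obtain ⟨c, rfl⟩ := hnC x' hx'; exact het c)
    (fun K _ _ w₀ w₁ h1 h2 h3 => FibreComponent.eq_over_component f g s C n hns hnC hCcl cm
      (by simp [cm, pullback.map, iS]) (by simp [cm, pullback.map, iS]) hsheet w₀ w₁ h1 h2 h3)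
  exact ⟨_, fun c => show _ ∈ N from Eq.subst (motive := fun x => x ∈ N) (hn c).symm hnN, S₁, e, he, φ, hφ⟩

end Groth.Agent.S3697
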