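import Groth.Statements.S3698
import Groth.Agent.S8228
import Groth.Agent.S8229
-- import your own Groth.Agent.* helpers here

set_option autoImplicit false
universe u
open CategoryTheory MonoidalCategory CartesianMonoidalCategory MonObj GrpObj AlgebraicGeometry
open Pi1

namespace Groth.Agent.S3698

open CategoryTheory.Limits Groth.Agent.H4 Groth.Agent.H4.Lang Groth.Agent.Lib
set_option linter.style.haveILetI false

/-- The fundamental group of an abelian variety, in the form underlying its computation: let k be an
algebraically closed field and A an abelian variety over k (a proper, geometrically integral group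
scheme over k). Then every connected finite étale cover Z → A is dominated by a multiplication map:
for some integer d ≥ 1 there is a morphism A → Z over A, where A is viewed as a scheme over A
through multiplication by d. (Multiplication by d is the d-th power of the identity in the group
Hom(A, A); consequently the fundamental group of A is the inverse limit of the groups of k-points of
the kernels of these multiplications.) -/
theorem result (k : Type u) [Field k] [IsAlgClosed k]
    (A : Over (Spec (CommRingCat.of k))) [GrpObj A] [IsProper A.hom] [GeometricallyIntegral A.hom]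
    (Z : FEt.Cat A.left) [ConnectedSpace Z.left] :
    ∃ d : ℕ, 1 ≤ d ∧ ∃ ψ : A.left ⟶ Z.left, ψ ≫ Z.hom = ((𝟙 A) ^ (d : ℤ)).left := by
  haveI := isCommMonObj_of_isProper_of_geometricallyIntegral A
  haveI : IsIntegral A.left := GeometricallyIntegral.isIntegral_of_subsingleton A.hom
  haveI hZf : IsFinite Z.hom := Z.prop.1
  haveI hZe : Etale Z.hom := Z.prop.2
  let Y : Over (Spec (CommRingCat.of k)) := Over.mk (Z.hom ≫ A.hom)
  let φ : Y ⟶ A := Over.homMk Z.hom rfl
  haveI : IsFinite φ.left := hZf
  haveI : Etale φ.left := hZe
  haveI : Surjective φ.left := ⟨Set.range_eq_univ.1 (IsClopen.eq_univ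
    ⟨φ.left.isClosedMap.isClosed_range, φ.left.isOpenMap.isOpen_range⟩
    (@Set.range_nonempty _ _ (inferInstanceAs (Nonempty Z.left)) _))⟩
  haveI : ConnectedSpace ↥Y.left := ‹ConnectedSpace Z.left›
  have hcomm : ∀ (X : Over (Spec (CommRingCat.of k))) (g h : X ⟶ A), g * h = h * g := fun X g h => mul_comm g h
  obtain ⟨inst, hφ⟩ := Groth.Agent.S8228.result k A hcomm Y φ
  letI := inst
  haveI := hφ
  have hlift : ∀ n : ℕ, 0 < n → Nat.card ↥(pullback φ.left η[A].left) ∣ n →
      ∃ ψ : A ⟶ Y, IsMonHom ψ ∧ ψ ≫ φ = (𝟙 A) ^ n := fun n hn hd =>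
    Groth.Agent.S8229.result k A hcomm Y φ _ rfl n hn hd
  haveI : Finite ↥(pullback φ.left η[A].left) :=
    Set.finite_univ_iff.1 ((pullback.snd φ.left η[A].left).finite_preimage_singleton
      (IsLocalRing.closedPoint k) |>.subset fun x _ => Subsingleton.elim (α := PrimeSpectrum k) _ _)
  haveI : Nonempty ↥(pullback φ.left η[A].left) :=
    ⟨((pullback.snd φ.left η[A].left).surjective (IsLocalRing.closedPoint k : Spec (CommRingCat.of k))).choose⟩
  have hd : 0 < Nat.card ↥(pullback φ.left η[A].left) := Nat.card_pos
  obtain ⟨ψ, -, hψ⟩ := hlift _ hd dvd_rfl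
  refine ⟨_, hd, ψ.left, ?_⟩
  rw [zpow_natCast, ← hψ]
  rfl

end Groth.Agent.S3698
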