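import Groth.Statements.S3699
import Groth.Agent.Lib.GeomFibreBound.Main

set_option autoImplicit false
universe u
open SGA1

namespace Groth.Agent.S3699

open AlgebraicGeometry CategoryTheory CategoryTheory.Limits in
/-- Let f : X -> Y be separated, quasi-finite and of finite type, with Y irreducible and locally
Noetherian, X reduced, and every irreducible component of X dominating Y (every maximal point of X
maps to the generic point η of Y). Let n be the degree of X over Y, the dimension over κ(η) of the
ring of global sections of the generic fibre (the sum of the degrees of the function fields of the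
components of X over that of Y), and for a point y let n(y) be the number of points of the geometric
fibre of f at y. If the local ring of Y at y is a normal domain, then n(y) ≤ n, with equality if and
only if over some open neighbourhood U of y the restriction of f is a finite etale cover of U. -/
theorem result {X Y : Scheme.{u}} (f : X ⟶ Y) [IsSeparated f] [LocallyQuasiFinite f]
    [LocallyOfFiniteType f] [QuasiCompact f] [IrreducibleSpace Y] [IsLocallyNoetherian Y] [IsReduced X]
    (hdom : ∀ x : X, (∀ x' : X, x' ⤳ x → x' = x) → f.base x = genericPoint Y)
    (y : Y) [IsDomain (Y.presheaf.stalk y)] (hy : IsIntegrallyClosed (Y.presheaf.stalk y)) :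
    letI := (((pullback.snd f (Y.fromSpecResidueField (genericPoint Y))).appTop).hom.comp
      (Scheme.ΓSpecIso (Y.residueField (genericPoint Y))).inv.hom).toAlgebra
    letI n := Module.finrank (Y.residueField (genericPoint Y)) Γ(pullback f (Y.fromSpecResidueField (genericPoint Y)), ⊤)
    letI ny := Nat.card ↥(pullback f (Spec.map (CommRingCat.ofHom (algebraMap (Y.residueField y)
      (AlgebraicClosure (Y.residueField y)))) ≫ Y.fromSpecResidueField y))
    ny ≤ n ∧ (ny = n ↔ ∃ U : Y.Opens, y ∈ U ∧ IsFinite (f ∣_ U) ∧ Etale (f ∣_ U)) := by

  exact Lib.GeomFibreBound.Main.card_le f hdom y hy _ (Groth.Agent.H54.GeomLift.pt_specMap_fromSpecResidueField _)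

end Groth.Agent.S3699
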