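import Groth.Statements.S3700
import Groth.Agent.Lib.NestedSmooth.Local

set_option autoImplicit false
universe u
open SGA1

namespace Groth.Agent.S3700

open AlgebraicGeometry CategoryTheory CategoryTheory.Limits in
/-- Let S be locally Noetherian, f : X -> S locally of finite type, Y the closed subscheme of X defined
by a quasi-coherent ideal, and x a point of Y at which Y is smooth over S. Then X is smooth over S
at x if and only if the closed immersion of Y in X is regular at x, that is, the kernel of O_{X,x}
-> O_{Y,x} is generated by a regular sequence. (Smoothness at a point is membership in Mathlib's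
smooth locus, the set of points where the map of local rings is formally smooth.) -/
theorem result {X S : Scheme.{u}} [IsLocallyNoetherian S] (f : X ⟶ S)
    [LocallyOfFiniteType f] [LocallyOfFinitePresentation f] (I : X.IdealSheafData)
    [LocallyOfFinitePresentation (I.subschemeι ≫ f)] (x : ↥I.subscheme) (hY : x ∈ (I.subschemeι ≫ f).smoothLocus) :
    I.subschemeι.base x ∈ f.smoothLocus ↔ CInt.IsRegularIdeal (RingHom.ker (I.subschemeι.stalkMap x).hom) := by

  let ι := I.subschemeι
  haveI : IsLocallyNoetherian X := LocallyOfFiniteType.isLocallyNoetherian f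
  let φ := (f.stalkMap (ι x)).hom
  let ψ := (ι.stalkMap x).hom
  have hY' : (ψ.comp φ).FormallySmooth := by
    have h := Scheme.Hom.mem_smoothLocus.1 hY
    rw [Scheme.Hom.stalkMap_comp] at h
    exact h
  have hess : φ.EssFiniteType := LocallyOfFiniteType.stalkMap f (ι x)
  have hs : Function.Surjective ψ := ι.stalkMap_surjective x
  rw [Scheme.Hom.mem_smoothLocus]
  show φ.FormallySmooth ↔ _
  let _ : Algebra (S.presheaf.stalk (f (ι x))) (X.presheaf.stalk (ι x)) := φ.toAlgebra
  let _ : Algebra (X.presheaf.stalk (ι x)) (I.subscheme.presheaf.stalk x) := ψ.toAlgebra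
  let _ : Algebra (S.presheaf.stalk (f (ι x))) (I.subscheme.presheaf.stalk x) := (ψ.comp φ).toAlgebra
  haveI : IsScalarTower (S.presheaf.stalk (f (ι x))) (X.presheaf.stalk (ι x)) (I.subscheme.presheaf.stalk x) :=
    IsScalarTower.of_algebraMap_eq fun _ => rfl
  haveI : Algebra.EssFiniteType (S.presheaf.stalk (f (ι x))) (X.presheaf.stalk (ι x)) := hess
  haveI : Algebra.FormallySmooth (S.presheaf.stalk (f (ι x))) (I.subscheme.presheaf.stalk x) := hY'
  haveI : IsLocalHom (algebraMap (S.presheaf.stalk (f (ι x))) (X.presheaf.stalk (ι x))) :=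
    inferInstanceAs (IsLocalHom (f.stalkMap (ι x)).hom)
  exact Groth.Agent.Lib.NestedSmooth.Local.formallySmooth_iff (S.presheaf.stalk (f (ι x)))
    (X.presheaf.stalk (ι x)) (I.subscheme.presheaf.stalk x) hs

end Groth.Agent.S3700
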