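import Groth.Statements.S3708
import Groth.Agent.Lib.Exchange.Algz.LiftProj
import Groth.Agent.Lib.SqZeroLift.ExtVanish
import Groth.Agent.H97.CurveProj
import Groth.Agent.S0458
import Groth.Agent.S11780
-- import your own Groth.Agent.* helpers here

set_option autoImplicit false
universe u
open SGA1

namespace Groth.Agent.S3708

open AlgebraicGeometry CategoryTheory CategoryTheory.Limits in
/-- Let A be a Noetherian local ring that is complete, with residue field k, and let X₀ be a smooth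
proper k-scheme of dimension one. Then there exist a smooth proper A-scheme X and an isomorphism of
k-schemes between X₀ and the closed fibre X ×_A k. -/
theorem result (A : Type u) [CommRing A] [IsLocalRing A] [IsNoetherianRing A]
    [IsAdicComplete (IsLocalRing.maximalIdeal A) A] {X₀ : Scheme.{u}}
    (f₀ : X₀ ⟶ Spec (CommRingCat.of (IsLocalRing.ResidueField A))) [Smooth f₀] [IsProper f₀]
    (hdim : topologicalKrullDim X₀ = 1) :
    ∃ (X : Scheme.{u}) (f : X ⟶ Spec (CommRingCat.of A)) (_ : Smooth f) (_ : IsProper f)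
      (e : X₀ ≅ pullback f (Spec.map (CommRingCat.ofHom (IsLocalRing.residue A)))),
      e.hom ≫ pullback.snd f _ = f₀ := by
  haveI : IsLocallyNoetherian X₀ := LocallyOfFiniteType.isLocallyNoetherian f₀
  haveI : CompactSpace X₀ := QuasiCompact.compactSpace_of_compactSpace f₀
  haveI : IsNoetherian X₀ := ⟨⟩
  haveI : X₀.IsSeparated := ⟨by
    haveI : IsSeparated (f₀ ≫ terminal.from (Spec (CommRingCat.of (IsLocalRing.ResidueField A)))) := inferInstance
    rwa [terminal.comp_from] at this⟩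
  obtain ⟨L₀, ha₀⟩ := Groth.Agent.H97.CurveProj.exists_isAmple hdim.le
  have hH : ∀ M : X₀.Modules, Subsingleton (Coh.HH X₀ M 2) := fun M =>
    Groth.Agent.S0458.result 1 hdim.le (Coh.toAb M) 2 (by norm_num)
  haveI : HasExt.{u} X₀.Modules := hasExt_of_enoughInjectives X₀.Modules
  let σ := Spec.map (Groth.Agent.Lib.Exchange.Algz.LiftProj.toRes A 0)
  have hΩ : FlatMod.IsFinLocFree (Omega.sheaf (f₀ ≫ σ)) :=
    Groth.Agent.Lib.Kaehler.LocFree.isFinLocFree_of_smooth
      (Groth.Agent.Lib.Kaehler.DOmega.isUniversal_dOmega (f₀ ≫ σ))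
  have hT : Subsingleton (Abelian.Ext.{u} (Omega.sheaf (f₀ ≫ σ)) (Coh.structureModule X₀) 2) := by
    letI : X₀.Over (Spec (CommRingCat.of Γ(X₀, ⊤))) := ⟨X₀.toSpecΓ⟩
    haveI := Groth.Agent.Lib.SqZeroLift.ExtVanish.hasSheafHom' (Omega.sheaf (f₀ ≫ σ))
    haveI := hH ((DCoh.sheafHom (Omega.sheaf (f₀ ≫ σ))).obj (Coh.structureModule X₀))
    exact (Groth.Agent.Lib.ExtHH.SheafHom.extLinearEquiv Γ(X₀, ⊤) hΩ (Coh.structureModule X₀) 2).toEquiv.subsingleton
  obtain ⟨Xs, fs, ts, hp, hts, e, he⟩ := Groth.Agent.S11780.result A X₀ (f₀ ≫ σ) hT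
  obtain ⟨X, f, i, hf, hpr, -, hi⟩ := Groth.Agent.Lib.Exchange.Algz.LiftProj.of_system f₀
    (Groth.Agent.Lib.Ample.Pow.isAmple_iff.1 ha₀).1 ha₀ (hH _) Xs fs ts hp hts e he
  exact ⟨X, f, hf, hpr, hi.isoPullback, hi.isoPullback_hom_snd⟩

end Groth.Agent.S3708
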