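import Groth.Statements.S3711
import Groth.Agent.H48.GalRam
import Groth.Agent.S18596
import Mathlib.FieldTheory.IsAlgClosed.AlgebraicClosure
import Mathlib.FieldTheory.Galois.Basic
import Mathlib.RingTheory.Unramified.Field
import Mathlib.GroupTheory.GroupAction.Quotient

set_option autoImplicit false
open CategoryTheory CategoryTheory.Limits AlgebraicGeometry
universe u
open SGA1t

namespace Groth.Agent.S3711

open AlgebraicGeometry CategoryTheory CategoryTheory.Limits IsLocalRing EtRam Groth.Agent.H48

section

variable {W X : Scheme.{u}} (f : W ⟶ X) (z : W)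
  [IsFinite (Limits.pullback.snd f (X.fromSpecResidueField (f.base z)))]
  [Etale (Limits.pullback.snd f (X.fromSpecResidueField (f.base z)))]

/-- The residue extension at a point of a finite étale cover is finite separable. -/
theorem finite_separable :
    letI : Algebra (X.residueField (f.base z)) (W.residueField z) := (f.residueFieldMap z).hom.toAlgebra
    FiniteDimensional (X.residueField (f.base z)) (W.residueField z) ∧
      Algebra.IsSeparable (X.residueField (f.base z)) (W.residueField z) := by
  letI : Algebra (X.residueField (f.base z)) (W.residueField z) := (f.residueFieldMap z).hom.toAlgebra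
  let φ := X.fromSpecResidueField (f.base z)
  have hsq : W.fromSpecResidueField z ≫ f = Spec.map (f.residueFieldMap z) ≫ φ :=
    (f.SpecMap_residueFieldMap_fromSpecResidueField z).symm
  obtain ⟨E, g, ψ, hge, hgf, hgψ, hgen⟩ := S18596.affine_point (Limits.pullback.snd f φ)
    (Limits.pullback.fst f φ) z (Limits.pullback.lift _ _ hsq) (Limits.pullback.lift_fst _ _ _) _
    (Limits.pullback.lift_snd _ _ _)
  letI : Algebra (X.residueField (f.base z)) E := g.hom.toAlgebra
  haveI : Algebra.Etale (X.residueField (f.base z)) E := hge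
  haveI : Module.Finite (X.residueField (f.base z)) E := hgf
  haveI : FiniteDimensional (X.residueField (f.base z)) (W.residueField z) :=
    S18596.finite_of_generated (A := X.residueField (f.base z)) (E := E) ψ.hom
      (fun b => congrArg (fun k => k.hom b) hgψ) hgen
  refine ⟨inferInstance, ?_⟩
  let ψA : E →ₐ[X.residueField (f.base z)] W.residueField z :=
    { ψ.hom with commutes' := fun b => congrArg (fun k => k.hom b) hgψ }
  let T : IntermediateField (X.residueField (f.base z)) (W.residueField z) :=
    ψA.range.toIntermediateField fun x hx => ψA.range.inv_mem_of_algebraic (x := ⟨x, hx⟩) (Algebra.IsAlgebraic.isAlgebraic _)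
  have hsurj : Function.Surjective ψA := fun x =>
    (Subfield.closure_le.2 (by rintro _ ⟨a, rfl⟩; exact ⟨a, rfl⟩) : Subfield.closure (Set.range ψ.hom) ≤ T.toSubfield)
      (hgen.symm ▸ Subfield.mem_top x)
  haveI : Algebra.FormallyUnramified (X.residueField (f.base z)) (W.residueField z) :=
    Algebra.FormallyUnramified.of_surjective ψA hsurj
  exact Algebra.FormallyUnramified.isSeparable _ _

variable {G : Type*} [Group G] (ρ : G → (W ⟶ W)) (hρ : ∀ σ, ρ σ ≫ f = f) (hρ1 : ρ 1 = 𝟙 W)
  (hρm : ∀ σ σ', ρ (σ * σ') = ρ σ' ≫ ρ σ)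
  (htr : ∀ (Ω : Type u) [Field Ω] [IsAlgClosed Ω] (s t : Spec (CommRingCat.of Ω) ⟶ W), s ≫ f = t ≫ f → ∃ σ, s ≫ ρ σ = t)
include hρ hρ1 hρm htr

theorem exists_auto (Ω : Type u) [Field Ω] [IsAlgClosed Ω] (ι τ : W.residueField z ⟶ CommRingCat.of Ω)
    (h : f.residueFieldMap z ≫ τ = f.residueFieldMap z ≫ ι) :
    ∃ (σ : G) (e : W.residueField z ⟶ W.residueField z),
      f.residueFieldMap z ≫ e = f.residueFieldMap z ∧
        Spec.map e ≫ W.fromSpecResidueField z = W.fromSpecResidueField z ≫ ρ σ ∧
        e ≫ ι = τ := by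
  have hover : (Spec.map ι ≫ W.fromSpecResidueField z) ≫ f = (Spec.map τ ≫ W.fromSpecResidueField z) ≫ f := by
    simp only [Category.assoc, ← f.SpecMap_residueFieldMap_fromSpecResidueField z, ← Spec.map_comp_assoc, h]
  obtain ⟨σ, hσ'⟩ := htr Ω _ _ hover
  have hw : ρ σ ≫ f = f := hρ σ
  have hpt : (W.fromSpecResidueField z ≫ ρ σ).base (closedPoint (W.residueField z)) = z := by
    have h1 : ((Spec.map ι ≫ W.fromSpecResidueField z) ≫ ρ σ).base (closedPoint Ω) = z := by
      rw [hσ']; exact Scheme.fromSpecResidueField_apply z _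
    exact (congrArg (W.fromSpecResidueField z ≫ ρ σ).base (Subsingleton.elim _ _)).trans h1
  obtain ⟨e, he⟩ : ∃ e : W.residueField z ⟶ W.residueField z, Spec.map e ≫ W.fromSpecResidueField z = W.fromSpecResidueField z ≫ ρ σ :=
    S18596.factor_point (W.fromSpecResidueField z ≫ ρ σ) z hpt
  refine ⟨σ, e, ?_, he, ?_⟩
  · apply Spec.map_injective
    rw [← cancel_mono (X.fromSpecResidueField (f.base z)), Spec.map_comp, Category.assoc,
      f.SpecMap_residueFieldMap_fromSpecResidueField z, ← Category.assoc, he, Category.assoc, hw]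
  · apply Spec.map_injective
    rw [← cancel_mono (W.fromSpecResidueField z), Spec.map_comp, Category.assoc, he, ← hσ', Category.assoc]

theorem galois_dvd [Finite G] :
    letI : Algebra (X.residueField (f.base z)) (W.residueField z) := (f.residueFieldMap z).hom.toAlgebra
    IsGalois (X.residueField (f.base z)) (W.residueField z) ∧
      Module.finrank (X.residueField (f.base z)) (W.residueField z) ∣ Nat.card G := by
  classical
  letI : Algebra (X.residueField (f.base z)) (W.residueField z) := (f.residueFieldMap z).hom.toAlgebra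
  obtain ⟨hfin, hsep⟩ := finite_separable f z
  let K := X.residueField (f.base z)
  let F := W.residueField z
  haveI : FiniteDimensional K F := hfin
  haveI : Algebra.IsSeparable K F := hsep
  let Ω := AlgebraicClosure F
  let ι : F ⟶ CommRingCat.of Ω := CommRingCat.ofHom (algebraMap F Ω)
  let ιA : F →ₐ[K] Ω := IsScalarTower.toAlgHom K F Ω
  have hm : ∀ τ : F →ₐ[K] Ω, f.residueFieldMap z ≫ CommRingCat.ofHom τ.toRingHom = f.residueFieldMap z ≫ ι :=
    fun τ => CommRingCat.hom_ext (RingHom.ext fun a => (τ.commutes a).trans (ιA.commutes a).symm)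
  have hauto : ∀ τ : F →ₐ[K] Ω, ∃ g : F →ₐ[K] F, ιA.comp g = τ := fun τ => by
    obtain ⟨σ, e, he, -, heι⟩ := exists_auto f z ρ hρ hρ1 hρm htr Ω ι (CommRingCat.ofHom τ.toRingHom) (hm τ)
    exact ⟨{ e.hom with commutes' := fun a => congrArg (fun r => r.hom a) he },
      AlgHom.ext fun x => congrArg (fun r => r.hom x) heι⟩
  have hcard : Nat.card (F ≃ₐ[K] F) = Module.finrank K F := by
    have h1 : Nat.card (F ≃ₐ[K] F) = Nat.card (F →ₐ[K] Ω) := by
      refine Nat.card_congr (Equiv.ofBijective (fun g => ιA.comp g.toAlgHom) ⟨fun g g' h => AlgEquiv.ext fun x => ?_, fun τ => ?_⟩)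
      · exact (algebraMap F Ω).injective (DFunLike.congr_fun h x)
      · obtain ⟨g, hg⟩ := hauto τ
        refine ⟨AlgEquiv.ofBijective g (Algebra.IsAlgebraic.algHom_bijective g), ?_⟩
        rw [← hg]; rfl
    rw [h1, Nat.card_eq_fintype_card, AlgHom.card K F Ω]
  refine ⟨IsGalois.of_card_aut_eq_finrank _ _ hcard, ?_⟩
  -- orbit of the base point under the stabiliser of `z`
  letI : MulAction G (Spec (CommRingCat.of Ω) ⟶ W) :=
    { smul := fun σ s => s ≫ ρ σ
      one_smul := fun s => by show s ≫ ρ 1 = s; rw [hρ1, Category.comp_id]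
      mul_smul := fun σ σ' s => by show s ≫ ρ (σ * σ') = (s ≫ ρ σ') ≫ ρ σ; rw [hρm, Category.assoc] }
  letI : MulAction G W :=
    { smul := fun σ p => (ρ σ).base p
      one_smul := fun p => by show (ρ 1).base p = p; rw [hρ1]; rfl
      mul_smul := fun σ σ' p => by show (ρ (σ * σ')).base p = _; rw [hρm]; rfl }
  let H : Subgroup G := MulAction.stabilizer G z
  let pt : (F →ₐ[K] Ω) → (Spec (CommRingCat.of Ω) ⟶ W) := fun τ =>
    Spec.map (CommRingCat.ofHom τ.toRingHom : F ⟶ CommRingCat.of Ω) ≫ W.fromSpecResidueField z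
  have hinj : Function.Injective pt := fun τ τ' h => by
    have h1 : Spec.map _ ≫ _ = Spec.map _ ≫ _ := h
    have h2 := Spec.map_injective ((cancel_mono (W.fromSpecResidueField z)).1 h1)
    exact AlgHom.ext fun x => congrArg (fun r => r.hom x) h2
  have horb : Set.range pt = MulAction.orbit H (pt ιA) := by
    apply Set.eq_of_subset_of_subset
    · rintro _ ⟨τ, rfl⟩
      obtain ⟨σ, e, he, hspec, heι⟩ := exists_auto f z ρ hρ hρ1 hρm htr Ω ι (CommRingCat.ofHom τ.toRingHom) (hm τ)
      have hσz : (ρ σ).base z = z := by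
        have h1 : (W.fromSpecResidueField z).base ((Spec.map e).base (closedPoint F)) =
            (ρ σ).base ((W.fromSpecResidueField z).base (closedPoint F)) := congrArg (fun r => r.base (closedPoint F)) hspec
        exact ((congrArg (ρ σ).base (Scheme.fromSpecResidueField_apply z _)).symm.trans h1.symm).trans
          (Scheme.fromSpecResidueField_apply z _)
      refine ⟨⟨σ, hσz⟩, ?_⟩
      show (Spec.map ι ≫ W.fromSpecResidueField z) ≫ ρ σ = Spec.map (CommRingCat.ofHom τ.toRingHom : F ⟶ CommRingCat.of Ω) ≫ W.fromSpecResidueField z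
      rw [← heι, Category.assoc, ← hspec, ← Category.assoc]
      exact congrArg (· ≫ _) (Spec.map_comp e ι).symm
    · rintro _ ⟨⟨σ, hσ⟩, rfl⟩
      have hσz : (ρ σ).base z = z := hσ
      have hpt : (W.fromSpecResidueField z ≫ ρ σ).base (closedPoint F) = z := by
        show (ρ σ).base ((W.fromSpecResidueField z).base (closedPoint F)) = z
        exact (congrArg (ρ σ).base (Scheme.fromSpecResidueField_apply z _)).trans hσz
      obtain ⟨e, he⟩ : ∃ e : F ⟶ F, Spec.map e ≫ W.fromSpecResidueField z = W.fromSpecResidueField z ≫ ρ σ :=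
        S18596.factor_point (W.fromSpecResidueField z ≫ ρ σ) z hpt
      have hw : ρ σ ≫ f = f := hρ σ
      have hek : f.residueFieldMap z ≫ e = f.residueFieldMap z := by
        apply Spec.map_injective
        rw [← cancel_mono (X.fromSpecResidueField (f.base z)), Spec.map_comp, Category.assoc,
          f.SpecMap_residueFieldMap_fromSpecResidueField z, ← Category.assoc, he, Category.assoc, hw]
      let g : F →ₐ[K] F := { e.hom with commutes' := fun a => congrArg (fun r => r.hom a) hek }
      refine ⟨ιA.comp g, ?_⟩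
      show Spec.map (e ≫ ι) ≫ _ = (Spec.map ι ≫ W.fromSpecResidueField z) ≫ ρ σ
      rw [show Spec.map (e ≫ ι) = Spec.map ι ≫ Spec.map e from Spec.map_comp e ι, Category.assoc, he, Category.assoc]
  have h2 : Module.finrank K F = Nat.card (MulAction.orbit H (pt ιA)) := by
    rw [← horb, Nat.card_range_of_injective hinj, Nat.card_eq_fintype_card, AlgHom.card K F Ω]
  rw [h2]
  refine dvd_trans ?_ H.card_subgroup_dvd_card
  rw [Nat.card_congr (MulAction.orbitEquivQuotientStabilizer H (pt ιA))]
  exact Subgroup.index_dvd_card _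

theorem main' [Finite G] {A : Type u} [CommRing A] [IsDomain A] [IsDiscreteValuationRing A]
    [Algebra A (X.residueField (f.base z))] [IsFractionRing A (X.residueField (f.base z))]
    (hnA : ((Nat.card G : ℕ) : ResidueField A) ≠ 0) :
    EtRam.IsTamelyRamified A ((f.residueFieldMap z).hom.comp (algebraMap A (X.residueField (f.base z)))) := by
  letI : Algebra (X.residueField (f.base z)) (W.residueField z) := (f.residueFieldMap z).hom.toAlgebra
  obtain ⟨hfin, hsep⟩ := finite_separable f z
  obtain ⟨hgal, hdvd⟩ := galois_dvd f z ρ hρ hρ1 hρm htr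
  haveI : FiniteDimensional (X.residueField (f.base z)) (W.residueField z) := hfin
  haveI : Algebra.IsSeparable (X.residueField (f.base z)) (W.residueField z) := hsep
  haveI : IsGalois (X.residueField (f.base z)) (W.residueField z) := hgal
  intro V hV
  intro hl
  have hV' : EtRam.Dominates A ((algebraMap (X.residueField (f.base z)) (W.residueField z)).comp
      (algebraMap A (X.residueField (f.base z)))) V := hV
  haveI : IsLocalHom (@algebraMap A V _ _ (RingHom.codRestrict _ V hV'.1).toAlgebra) :=
    DomVal.isLocalHom_of_dominates hV'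
  obtain ⟨he, hf⟩ := GalRam.dvd_finrank (A := A) (K := X.residueField (f.base z)) V hV'
  have hdeg : ∀ d : ℕ, d ∣ Module.finrank (X.residueField (f.base z)) (W.residueField z) →
      (d : ResidueField A) ≠ 0 := fun d hd h => hnA (by
    obtain ⟨c, hc⟩ := hd.trans hdvd
    rw [hc, Nat.cast_mul, h, zero_mul])
  letI : Algebra A V := (RingHom.codRestrict ((f.residueFieldMap z).hom.comp (algebraMap A (X.residueField (f.base z)))) V hV.1).toAlgebra
  haveI : IsLocalHom (algebraMap A V) := hl
  refine ⟨⟨fun x => ?_⟩, fun p hp _ hd => hdeg _ he ((CharP.cast_eq_zero_iff _ p _).2 hd)⟩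
  have hfin' : Module.Finite (ResidueField A) (ResidueField V) :=
    Module.finite_of_finrank_pos (Nat.pos_of_ne_zero fun h => hdeg _ hf ((congrArg (Nat.cast (R := ResidueField A)) h).trans Nat.cast_zero))
  have hint : IsIntegral (ResidueField A) x := Algebra.IsIntegral.isIntegral x
  rw [IsSeparable, Polynomial.separable_iff_derivative_ne_zero (minpoly.irreducible hint)]
  intro h0
  have hnd : ((minpoly (ResidueField A) x).natDegree : ResidueField A) = 0 := by
    have hpos := minpoly.natDegree_pos hint
    have h1 := congrArg (fun q : Polynomial (ResidueField A) => q.coeff ((minpoly (ResidueField A) x).natDegree - 1)) h0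
    simp only [Polynomial.coeff_derivative, Polynomial.coeff_zero, Nat.sub_add_cancel hpos] at h1
    rw [(minpoly.monic hint).coeff_natDegree, one_mul, ← Nat.cast_add_one, Nat.sub_add_cancel hpos] at h1
    exact h1
  exact hdeg _ ((minpoly.degree_dvd hint).trans hf) hnd

end

/-- The residue field of a generization, other than the point, of a point with DVR local ring. -/
theorem isFractionRing_specializes {Y : Scheme.{u}} {η y : Y} (h : η ⤳ y) (hne : η ≠ y)
    [IsDomain (Y.presheaf.stalk y)] [IsDiscreteValuationRing (Y.presheaf.stalk y)] :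
    @IsFractionRing (Y.presheaf.stalk y) _ (Y.residueField η) _
      ((Y.residue η).hom.comp (Y.presheaf.stalkSpecializes h).hom).toAlgebra := by
  letI : Algebra (Y.presheaf.stalk y) (Y.residueField η) :=
    ((Y.residue η).hom.comp (Y.presheaf.stalkSpecializes h).hom).toAlgebra
  let sp := (Y.presheaf.stalkSpecializes h).hom
  let P : Ideal (Y.presheaf.stalk y) := (maximalIdeal (Y.presheaf.stalk η)).comap sp
  have hP : P.IsPrime := Ideal.IsPrime.comap sp
  obtain ⟨V, hV, hyV, -⟩ := exists_isAffineOpen_mem_and_subset (X := Y) (x := y) (U := ⊤) trivial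
  have hηV : η ∈ V := h.mem_open V.isOpen hyV
  have hnspec : ¬ y ⤳ η := fun h' => hne (h.antisymm h').eq
  obtain ⟨O, hO, hηO, hyO⟩ := not_specializes_iff_exists_open.1 hnspec
  obtain ⟨s, hsO, hηs⟩ := hV.exists_basicOpen_le (V := ⟨O, hO⟩) ⟨η, hηO⟩ hηV
  have hys : y ∉ Y.basicOpen s := fun h' => hyO (hsO h')
  have hgerm : ∀ r : Γ(Y, V), sp (Y.presheaf.germ V y hyV r) = Y.presheaf.germ V η hηV r := fun r =>
    congrArg (fun k => k.hom r) (Y.presheaf.germ_stalkSpecializes hyV h)
  have hPne : P ≠ maximalIdeal (Y.presheaf.stalk y) := fun hPe => by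
    have h1 : Y.presheaf.germ V y hyV s ∈ maximalIdeal (Y.presheaf.stalk y) :=
      fun hu => hys ((Y.mem_basicOpen s y hyV).2 hu)
    rw [← hPe] at h1
    exact h1 ((hgerm s).symm ▸ (Y.mem_basicOpen s η hηV).1 hηs)
  have hP0 : P = ⊥ := by
    by_contra h0
    exact hPne (IsLocalRing.eq_maximalIdeal (Ideal.IsPrime.isMaximal hP h0))
  have hker : ∀ a : Y.presheaf.stalk y, algebraMap (Y.presheaf.stalk y) (Y.residueField η) a = 0 → a = 0 :=
    fun a ha => by
      have : a ∈ P := (residue_eq_zero_iff (sp a)).1 ha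
      rwa [hP0, Submodule.mem_bot] at this
  have hinj : Function.Injective (algebraMap (Y.presheaf.stalk y) (Y.residueField η)) :=
    (injective_iff_map_eq_zero _).2 hker
  haveI : FaithfulSMul (Y.presheaf.stalk y) (Y.residueField η) :=
    (faithfulSMul_iff_algebraMap_injective _ _).2 hinj
  refine IsFractionRing.of_field _ _ fun x => ?_
  obtain ⟨b, rfl⟩ := Y.residue_surjective η x
  letI := TopCat.Presheaf.algebra_section_stalk Y.presheaf (U := V) ⟨η, hηV⟩
  haveI := hV.isLocalization_stalk ⟨η, hηV⟩
  obtain ⟨⟨r, t⟩, hrt⟩ := IsLocalization.surj (hV.primeIdealOf ⟨η, hηV⟩).asIdeal.primeCompl b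
  refine ⟨Y.presheaf.germ V y hyV r, Y.presheaf.germ V y hyV t.1, ?_⟩
  have hu : IsUnit (Y.presheaf.germ V η hηV t.1) :=
    IsLocalization.map_units (M := (hV.primeIdealOf ⟨η, hηV⟩).asIdeal.primeCompl) (Y.presheaf.stalk η) t
  have h2 : b * Y.presheaf.germ V η hηV t.1 = Y.presheaf.germ V η hηV r := hrt
  show Y.residue η b = Y.residue η (sp (Y.presheaf.germ V y hyV r)) / Y.residue η (sp (Y.presheaf.germ V y hyV t.1))
  rw [hgerm, hgerm, ← h2, map_mul, mul_div_assoc, div_self (hu.map (Y.residue η).hom).ne_zero, mul_one]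


/-- Case of a constant group: let f : X -> S and φ_1, ..., φ_r cut out a strict normal crossings divisor
relative to S with complement U, and let P be a principal C-cover of U for a finite group C whose
order is invertible in every residue field of S. Then P is tamely ramified on X relatively to S. -/
theorem result {X S : Scheme.{u}} (f : X ⟶ S) {r : ℕ} (φ : Fin r → Γ(X, ⊤))
    (hD : SGA1t.IsRelSNC f φ) (C : Type) [Group C] [Finite C] (hC : ∀ s : S, IsUnit ((Nat.card C : ℕ) : S.residueField s))
    (P : FEt.Cat (SGA1t.compl φ : Scheme.{u})) (ρ : C →* Aut P) (hP : SGA1t.IsPrincipal C P ρ) :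
    SGA1t.IsRelTame f φ P := by
  intro Ω _ _ σ _ y _ hdvr w h hne
  let U : X.Opens := SGA1t.compl φ
  let p := pullback.fst f σ
  let q := pullback.snd (P.hom ≫ U.ι) p
  let η := q.base w
  let φη := (pullback f σ).fromSpecResidueField η
  haveI : IsFinite P.hom := P.prop.1
  haveI : Etale P.hom := P.prop.2
  have hcond : pullback.fst (P.hom ≫ U.ι) p ≫ P.hom ≫ U.ι = q ≫ p := pullback.condition
  have hηU : p.base η ∈ U := by
    have : p.base η = U.ι.base (P.hom.base ((pullback.fst (P.hom ≫ U.ι) p).base w)) :=
      (congrArg (fun k => k.base w) hcond).symm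
    rw [this]; exact (P.hom.base _).2
  have hrange : Set.range (φη ≫ p).base ⊆ Set.range U.ι.base := by
    rintro _ ⟨x, rfl⟩
    rw [Scheme.Opens.range_ι]
    show p.base (φη.base x) ∈ U
    rw [show φη.base x = η from Scheme.fromSpecResidueField_apply η x]
    exact hηU
  let φU : Spec ((pullback f σ).residueField η) ⟶ (U : Scheme.{u}) := IsOpenImmersion.lift U.ι (φη ≫ p) hrange
  have hφU : φU ≫ U.ι = φη ≫ p := IsOpenImmersion.lift_fac _ _ _
  let a : pullback (P.hom ≫ U.ι) (φη ≫ p) ⟶ pullback P.hom φU :=
    pullback.lift (pullback.fst _ _) (pullback.snd _ _) (by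
      rw [← cancel_mono U.ι, Category.assoc, Category.assoc, pullback.condition, hφU])
  let b : pullback P.hom φU ⟶ pullback (P.hom ≫ U.ι) (φη ≫ p) :=
    pullback.lift (pullback.fst _ _) (pullback.snd _ _) (by rw [pullback.condition_assoc, hφU])
  haveI : IsIso a := ⟨b,
    pullback.hom_ext
      ((Category.assoc _ _ _).trans ((congrArg (a ≫ ·) (pullback.lift_fst _ _ _)).trans
        ((pullback.lift_fst _ _ _).trans (Category.id_comp _).symm)))
      ((Category.assoc _ _ _).trans ((congrArg (a ≫ ·) (pullback.lift_snd _ _ _)).trans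
        ((pullback.lift_snd _ _ _).trans (Category.id_comp _).symm))),
    pullback.hom_ext
      ((Category.assoc _ _ _).trans ((congrArg (b ≫ ·) (pullback.lift_fst _ _ _)).trans
        ((pullback.lift_fst _ _ _).trans (Category.id_comp _).symm)))
      ((Category.assoc _ _ _).trans ((congrArg (b ≫ ·) (pullback.lift_snd _ _ _)).trans
        ((pullback.lift_snd _ _ _).trans (Category.id_comp _).symm)))⟩
  have hsnd : pullback.snd q φη =
      ((pullbackLeftPullbackSndIso (P.hom ≫ U.ι) p φη).hom ≫ a) ≫ pullback.snd P.hom φU := by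
    rw [Category.assoc, pullback.lift_snd, pullbackLeftPullbackSndIso_hom_snd]
  haveI : IsFinite (pullback.snd q ((pullback f σ).fromSpecResidueField (q.base w))) := by
    show IsFinite (pullback.snd q φη); rw [hsnd]; infer_instance
  haveI : Etale (pullback.snd q ((pullback f σ).fromSpecResidueField (q.base w))) := by
    show Etale (pullback.snd q φη); rw [hsnd]; infer_instance
  let act : C → (pullback (P.hom ≫ U.ι) p ⟶ pullback (P.hom ≫ U.ι) p) := fun g =>
    pullback.map _ _ _ _ (ρ g).hom.left (𝟙 _) (𝟙 _)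
      (by rw [Category.comp_id, reassoc_of% (Over.w (ρ g).hom.hom)])
      (by rw [Category.comp_id, Category.id_comp])
  have hfst : ∀ g : C, act g ≫ pullback.fst _ _ = pullback.fst _ _ ≫ (ρ g).hom.left := fun g =>
    pullback.lift_fst _ _ _
  have hsndA : ∀ g : C, act g ≫ q = q := fun g => (pullback.lift_snd _ _ _).trans (Category.comp_id _)
  letI : Algebra ((pullback f σ).presheaf.stalk y) ((pullback f σ).residueField (q.base w)) :=
    (((pullback f σ).residue η).hom.comp ((pullback f σ).presheaf.stalkSpecializes h).hom).toAlgebra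
  haveI : IsFractionRing ((pullback f σ).presheaf.stalk y) ((pullback f σ).residueField (q.base w)) :=
    isFractionRing_specializes (η := η) h hne
  refine main' q w act hsndA ?_ ?_ ?_ ?_
  · refine pullback.hom_ext ((hfst 1).trans ?_) ((hsndA 1).trans (Category.id_comp _).symm)
    rw [map_one]
    exact (Category.comp_id _).trans (Category.id_comp _).symm
  · intro g g'
    refine pullback.hom_ext ?_ ?_
    · refine (hfst _).trans ?_
      rw [map_mul, Category.assoc, hfst, ← Category.assoc, hfst, Category.assoc]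
      rfl
    · refine (hsndA _).trans (Eq.symm ((Category.assoc _ _ _).trans ?_))
      exact (congrArg (act g' ≫ ·) (hsndA g)).trans (hsndA g')
  · intro Ω' _ _ s t hst
    have hU : (s ≫ pullback.fst _ _) ≫ P.hom = (t ≫ pullback.fst _ _) ≫ P.hom := by
      rw [← cancel_mono U.ι]
      simp only [Category.assoc, hcond, reassoc_of% hst]
    obtain ⟨g, hg, -⟩ :=
      hP.2 Ω' _ (⟨s ≫ pullback.fst _ _, hU⟩ : FEt.fiberObj ((t ≫ pullback.fst _ _) ≫ P.hom) P)
        ⟨t ≫ pullback.fst _ _, rfl⟩
    refine ⟨g, pullback.hom_ext ?_ ?_⟩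
    · refine (Category.assoc _ _ _).trans ((congrArg (s ≫ ·) (hfst g)).trans ?_)
      exact (Category.assoc _ _ _).symm.trans (congrArg Subtype.val hg)
    · exact (Category.assoc _ _ _).trans ((congrArg (s ≫ ·) (hsndA g)).trans hst)
  · intro h0
    have hu := (hC ((p ≫ f).base y)).map ((p ≫ f).residueFieldMap y).hom
    rw [map_natCast] at hu
    exact hu.ne_zero h0

end Groth.Agent.S3711
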