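import Groth.Statements.S3718
import Groth.Agent.H4.Lang.KerPtsApply
import Groth.Agent.H4.ConnSubAV
import Groth.Agent.Lib.GrpSch.Basic
-- import your own Groth.Agent.* helpers here

set_option autoImplicit false
universe u
open CategoryTheory MonoidalCategory CartesianMonoidalCategory MonObj GrpObj AlgebraicGeometry
open Pi1

namespace Groth.Agent.S3718

open CategoryTheory.Limits Groth.Agent.H4 Groth.Agent.H4.Lang Groth.Agent.Lib
set_option linter.style.haveILetI false

/-- The covers that compute the prime-to-p part of the fundamental group of an abelian variety: let k be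
algebraically closed, A an abelian variety over k (a proper, geometrically integral group scheme
over k) and n ≥ 1 an integer invertible in k. Granted that multiplication by n (the n-th power of
the identity in the group Hom(A, A)) is a finite etale cover of A, it is a Galois cover, and its
automorphisms over A are exactly the translations x -> x + a by the k-points a of A with n a = 0,
each such a giving exactly one automorphism. (With the domination row this identifies the maximal
prime-to-p quotient of the fundamental group with the inverse limit of the prime-to-p torsion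
points.) -/
theorem result (k : Type u) [Field k] [IsAlgClosed k]
    (A : Over (Spec (CommRingCat.of k))) [GrpObj A] [IsProper A.hom] [GeometricallyIntegral A.hom]
    (n : ℕ) (hn1 : 1 ≤ n) (hn : IsUnit ((n : ℕ) : k)) :
    ∀ [hF : IsFinite ((𝟙 A) ^ (n : ℤ)).left] [hE : Etale ((𝟙 A) ^ (n : ℤ)).left],
      PiSp.IsGaloisCover (MorphismProperty.Over.mk ⊤ ((𝟙 A) ^ (n : ℤ)).left ⟨hF, hE⟩ : FEt.Cat A.left) ∧
      (∀ θ : Aut (MorphismProperty.Over.mk ⊤ ((𝟙 A) ^ (n : ℤ)).left ⟨hF, hE⟩ : FEt.Cat A.left),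
        ∃! a : 𝟙_ (Over (Spec (CommRingCat.of k))) ⟶ A, a ^ (n : ℤ) = 1 ∧
          θ.hom.left = ((𝟙 A) * (toUnit A ≫ a)).left) ∧
      (∀ a : 𝟙_ (Over (Spec (CommRingCat.of k))) ⟶ A, a ^ (n : ℤ) = 1 →
        ∃ θ : Aut (MorphismProperty.Over.mk ⊤ ((𝟙 A) ^ (n : ℤ)).left ⟨hF, hE⟩ : FEt.Cat A.left),
          θ.hom.left = ((𝟙 A) * (toUnit A ≫ a)).left) := by
  intro hF hE
  haveI := isCommMonObj_of_isProper_of_geometricallyIntegral A
  haveI : IsIntegral A.left := GeometricallyIntegral.isIntegral_of_subsingleton A.hom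
  let f : A ⟶ A := (𝟙 A) ^ (n : ℤ)
  haveI : IsFinite f.left := hF
  haveI : Etale f.left := hE
  have hpow : ∀ {T : Over (Spec (CommRingCat.of k))} (x : T ⟶ A), x ≫ f = x ^ (n : ℤ) := fun x => by
    show x ≫ (𝟙 A) ^ (n : ℤ) = _
    rw [GrpObj.comp_zpow, Category.comp_id]
  have hmul : ∀ {T : Over (Spec (CommRingCat.of k))} (x : T ⟶ A) (a : 𝟙_ (Over (Spec (CommRingCat.of k))) ⟶ A),
      x ≫ (𝟙 A * (toUnit A ≫ a)) = x * (toUnit T ≫ a) := fun x a => by
    rw [MonObj.comp_mul, Category.comp_id, ← Category.assoc, comp_toUnit]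
  have htrans : ∀ a : 𝟙_ (Over (Spec (CommRingCat.of k))) ⟶ A, a ^ (n : ℤ) = 1 →
      ∃ θ : Aut (MorphismProperty.Over.mk ⊤ f.left ⟨hF, hE⟩ : FEt.Cat A.left),
        θ.hom.left = ((𝟙 A) * (toUnit A ≫ a)).left := by
    intro a ha
    let t : A ⟶ A := 𝟙 A * (toUnit A ≫ a)
    let t' : A ⟶ A := 𝟙 A * (toUnit A ≫ a⁻¹)
    have h1 : ∀ b : 𝟙_ (Over (Spec (CommRingCat.of k))) ⟶ A, b ^ (n : ℤ) = 1 →
        (𝟙 A * (toUnit A ≫ b)) ≫ f = f := fun b hb => by
      rw [hpow, mul_zpow, ← GrpObj.comp_zpow, hb, MonObj.comp_one, _root_.mul_one]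
    have h2 : ∀ b c : 𝟙_ (Over (Spec (CommRingCat.of k))) ⟶ A, b * c = 1 →
        (𝟙 A * (toUnit A ≫ b)) ≫ (𝟙 A * (toUnit A ≫ c)) = 𝟙 A := fun b c hbc => by
      rw [hmul, _root_.mul_assoc, ← MonObj.comp_mul, hbc, MonObj.comp_one, _root_.mul_one]
    haveI : IsIso t := ⟨t', h2 a a⁻¹ (mul_inv_cancel a), h2 a⁻¹ a (inv_mul_cancel a)⟩
    haveI : IsIso t.left := inferInstanceAs (IsIso ((Over.forget _).map t))
    exact ⟨MorphismProperty.Over.isoMk ((Over.forget _).mapIso (asIso t)) (by
      show t.left ≫ f.left = f.left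
      rw [← Over.comp_left, h1 a ha]), rfl⟩
  -- a morphism killed by `[n]` and trivial at the origin is trivial
  have hconst : ∀ d : A ⟶ A, d ≫ f = 1 → η[A] ≫ d = η[A] → d = 1 := by
    intro d hd he
    haveI : IsClosedImmersion η[A].left := GrpSch.isClosedImmersion_η A
    let N := pullback f.left η[A].left
    haveI : JacobsonSpace ↥(𝟙_ (Over (Spec (CommRingCat.of k)))).left :=
      inferInstanceAs (JacobsonSpace (PrimeSpectrum k))
    haveI : IsFinite (pullback.snd f.left η[A].left) := inferInstance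
    haveI : Finite ↥(pullback f.left η[A].left) :=
      Set.finite_univ_iff.1 ((pullback.snd f.left η[A].left).finite_preimage_singleton
        (IsLocalRing.closedPoint k) |>.subset fun x _ => Subsingleton.elim (α := PrimeSpectrum k) _ _)
    haveI : JacobsonSpace ↥(pullback f.left η[A].left) := LocallyOfFiniteType.jacobsonSpace (pullback.snd f.left η[A].left)
    let l : A.left ⟶ pullback f.left η[A].left := pullback.lift d.left (toUnit A).left (by
      rw [← Over.comp_left, ← Over.comp_left, hd, Hom.one_def])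
    have hsub : (Set.range l).Subsingleton := (isPreconnected_range l.continuous).subsingleton
    obtain ⟨w, hw⟩ := HomImage.exists_factor (η[A] : 𝟙_ _ ⟶ A) d (by
      rintro _ ⟨v, rfl⟩
      let pt : (𝟙_ (Over (Spec (CommRingCat.of k)))).left := (IsLocalRing.closedPoint k : Spec (CommRingCat.of k))
      refine ⟨pt, ?_⟩
      have hl : ∀ x, d.left x = pullback.fst f.left η[A].left (l x) := fun x => by
        rw [← Scheme.Hom.comp_apply, pullback.lift_fst]
      calc η[A].left pt = d.left (η[A].left pt) := by rw [← Scheme.Hom.comp_apply, ← Over.comp_left, he]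
        _ = d.left v := by rw [hl, hl, hsub (Set.mem_range_self _) (Set.mem_range_self v)])
    rw [← hw, toUnit_unique w (toUnit _), ← Hom.one_def]
  refine ⟨⟨inferInstanceAs (ConnectedSpace A.left), fun Ω _ _ ξ s t => ?_⟩, fun θ => ?_, htrans⟩
  · -- two points in a fibre differ by a rational torsion point
    let b : Spec (CommRingCat.of Ω) ⟶ Spec (CommRingCat.of k) := s.1 ≫ A.hom
    let S' : Over.mk b ⟶ A := Over.homMk s.1 rfl
    have hts : t.1 ≫ f.left = s.1 ≫ f.left := t.2.trans s.2.symm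
    let T' : Over.mk b ⟶ A := Over.homMk t.1 (by
      show t.1 ≫ A.hom = s.1 ≫ A.hom
      exact (congrArg (t.1 ≫ ·) (Over.w f)).symm.trans ((Category.assoc _ _ _).symm.trans
        ((congrArg (· ≫ A.hom) hts).trans ((Category.assoc _ _ _).trans (congrArg (s.1 ≫ ·) (Over.w f))))))
    have hST : (T' / S') ≫ f = 1 := by
      rw [hpow, div_zpow, div_eq_one, ← hpow, ← hpow]
      exact Over.OverMorphism.ext hts
    let c : Spec (CommRingCat.of Ω) ⟶ pullback f.left η[A].left :=
      pullback.lift (T' / S').left (toUnit (Over.mk b)).left (by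
        rw [← Over.comp_left, ← Over.comp_left, hST, Hom.one_def])
    let P := (kerPtsEquiv f).symm (c (IsLocalRing.closedPoint Ω))
    let a : 𝟙_ (Over (Spec (CommRingCat.of k))) ⟶ A := P.1
    have ha : a ^ (n : ℤ) = 1 := by rw [← hpow]; exact P.2
    have hTa : T' / S' = toUnit (Over.mk b) ≫ a := eq_of_kerPt f (T' / S') hST a P.2 
      ((kerPtsEquiv_apply f P).trans (Equiv.apply_symm_apply _ _))
    obtain ⟨σ, hσ⟩ := htrans a ha
    refine ⟨σ, Subtype.ext ?_⟩
    show s.1 ≫ σ.hom.left = t.1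
    rw [hσ]
    show (S' ≫ (𝟙 A * (toUnit A ≫ a))).left = T'.left
    rw [hmul, ← hTa, mul_div_cancel]
  · -- every automorphism is a translation
    have hw : θ.hom.left ≫ f.left = f.left := Over.w θ.hom.hom
    let θ' : A ⟶ A := Over.homMk θ.hom.left ((congrArg (θ.hom.left ≫ ·) (Over.w f)).symm.trans
      ((Category.assoc _ _ _).symm.trans ((congrArg (· ≫ A.hom) hw).trans (Over.w f))))
    have hθ : θ' ≫ f = f := Over.OverMorphism.ext hw
    refine ⟨η[A] ≫ θ', ⟨?_, ?_⟩, fun a' ⟨_, ha'⟩ => ?_⟩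
    · rw [← hpow, Category.assoc, hθ, hpow, MonObj.one_eq_one, one_zpow]
    · show θ'.left = _
      congr 1
      refine div_eq_one.1 (hconst _ ?_ ?_)
      · rw [hpow, div_zpow, div_eq_one, ← hpow, hθ, mul_zpow, ← GrpObj.comp_zpow]
        rw [show (η[A] ≫ θ') ^ (n : ℤ) = 1 by rw [← hpow, Category.assoc, hθ, hpow, MonObj.one_eq_one, one_zpow],
          MonObj.comp_one, _root_.mul_one]
      · rw [GrpObj.comp_div, hmul, toUnit_unique (toUnit _) (𝟙 _), Category.id_comp, MonObj.one_eq_one,
          _root_.one_mul, div_self']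
    · have e : θ' = 𝟙 A * (toUnit A ≫ a') := Over.OverMorphism.ext ha'
      rw [e, hmul, ← toUnit_unique (𝟙 _) (toUnit _), Category.id_comp, MonObj.one_eq_one, _root_.one_mul]

end Groth.Agent.S3718
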