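import Groth.Statements.S3719
import Groth.Agent.Lib.AffineCompl.Hyperplane
import Groth.Agent.Lib.TopClosed50.Proper
import Groth.Agent.Lib.FEt.NormalCover
import Groth.Agent.S2280
import Groth.Agent.S0388

set_option autoImplicit false
universe u
open Pi1

namespace Groth.Agent.S3719

open AlgebraicGeometry CategoryTheory CategoryTheory.Limits in
/-- Let k be algebraically closed, X a proper, irreducible, normal k-scheme, g : X -> P^r_k a k-morphism
whose image has closure of dimension at least 2, H the hyperplane where a nonzero linear form ℓ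
vanishes, and X' a connected finite etale cover of X. Then the inverse image of H in X' is
connected. (For X' = X this is the connectedness of the hyperplane section Y = g⁻¹(H), and the
general case is the surjectivity of the fundamental group of Y onto that of X.) -/
theorem result (k : Type u) [Field k] [IsAlgClosed k] (X : Scheme.{u})
    [X.Over (Spec (CommRingCat.of k))] [IsProper (X ↘ Spec (CommRingCat.of k))] [IrreducibleSpace X]
    (hN : Pi1.IsNormalScheme X) (r : ℕ) (g : X ⟶ CohB1.ProjSpace r k)
    (hg : g ≫ CohB1.ProjSpace.toSpec r k = X ↘ Spec (CommRingCat.of k))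
    (hdim : 2 ≤ topologicalKrullDim ↥(closure (Set.range g.base)))
    (ℓ : MvPolynomial (Fin (r + 1)) k) (hℓ : ℓ ∈ CohB1.polyGrading r k 1) (hℓ0 : ℓ ≠ 0)
    (X' : FEt.Cat X) [ConnectedSpace X'.left] :
    IsConnected (((X'.hom ≫ g).base ⁻¹' (Proj.basicOpen (CohB1.polyGrading r k) ℓ).carrier)ᶜ) := by
  haveI : IsFinite X'.hom := X'.prop.1
  haveI : Etale X'.hom := X'.prop.2
  let q : X'.left ⟶ X := X'.hom
  show IsConnected (((q ≫ g).base ⁻¹' (Proj.basicOpen (CohB1.polyGrading r k) ℓ).carrier)ᶜ)
  let p := X ↘ Spec (CommRingCat.of k)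
  haveI : IsLocallyNoetherian X'.left := LocallyOfFiniteType.isLocallyNoetherian (q ≫ p)
  haveI : IsLocallyNoetherian X := LocallyOfFiniteType.isLocallyNoetherian p
  haveI : IsReduced X := by
    haveI : ∀ x : X, _root_.IsReduced (X.presheaf.stalk x) := fun x => by
      haveI := (hN x).1
      infer_instance
    exact isReduced_of_isReduced_stalk X
  haveI : IsIntegral X := isIntegral_of_irreducibleSpace_of_isReduced X
  have hYN : Pi1.IsNormalScheme X'.left := Lib.FEt.NormalCover.isNormalScheme_of_etale hN q
  haveI : IsIntegral X'.left := (S2280.result X'.left).2.2 ⟨inferInstance, fun y => (hYN y).1⟩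
  have hq : Function.Surjective q := by
    refine Set.range_eq_univ.1 (IsClopen.eq_univ ⟨q.isClosedMap.isClosed_range, ?_⟩
      (Set.range_nonempty _))
    exact q.isOpenMap.isOpen_range
  haveI : IsProper (CohB1.ProjSpace.toSpec r k) := Lib.ProjSpace.Basic.isProper_toSpec r k
  haveI : IsProper g := by
    haveI : IsProper (g ≫ CohB1.ProjSpace.toSpec r k) := hg ▸ inferInstance
    exact IsProper.of_comp g (CohB1.ProjSpace.toSpec r k)
  let φ := q ≫ g
  haveI : IsLocallyNoetherian (CohB1.ProjSpace r k) :=
    LocallyOfFiniteType.isLocallyNoetherian (CohB1.ProjSpace.toSpec r k)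
  haveI : IsFinite φ.fromNormalization := H34.Stein.isFinite_fromNormalization φ
  haveI : IsProper φ.toNormalization := H34.Stein.isProper_toNormalization φ
  haveI : GeometricallyConnected φ.toNormalization := (S0388.result φ).1
  have hfib : ∀ z : φ.normalization, _root_.IsConnected (φ.toNormalization ⁻¹' {z}) := fun z => by
    rw [← φ.toNormalization.range_fiberι z, ← Set.image_univ]
    exact isConnected_univ.image _ (φ.toNormalization.fiberι z).continuous.continuousOn
  have hsurj : Function.Surjective φ.toNormalization := fun z => (hfib z).nonempty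
  have hcomp : ∀ x, φ.fromNormalization (φ.toNormalization x) = φ x := fun x => by
    rw [← Scheme.Hom.comp_apply, Scheme.Hom.toNormalization_fromNormalization]
  have hr : Set.range φ.fromNormalization = Set.range g.base := by
    ext y
    constructor
    · rintro ⟨z, rfl⟩
      obtain ⟨x, rfl⟩ := hsurj z
      exact ⟨q x, (hcomp x).symm⟩
    · rintro ⟨w, rfl⟩
      obtain ⟨x, rfl⟩ := hq w
      exact ⟨φ.toNormalization x, hcomp x⟩
  haveI : IsIntegral φ.normalization := inferInstance
  have hd : (2 : WithBot ℕ∞) ≤ topologicalKrullDim φ.normalization := by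
    rw [Lib.Flat55.DimSums.dim_eq_of_isFinite φ.fromNormalization, hr,
      ← g.isClosedMap.isClosed_range.closure_eq]
    exact hdim
  have hZ := Lib.AffineCompl.Hyperplane.isConnected_compl_preimage k φ.fromNormalization hd hℓ
  have h := Lib.TopClosed50.Proper.isConnected_preimage φ.toNormalization.continuous
    φ.toNormalization.isClosedMap (fun z _ => hfib z) hZ
    (φ.fromNormalization ⁻¹ᵁ Proj.basicOpen (CohB1.polyGrading r k) ℓ).isOpen.isClosed_compl
    (by rw [hsurj.range_eq]; exact Set.subset_univ _)
  convert h using 1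
  ext x
  exact not_congr (iff_of_eq (congrArg (· ∈ (Proj.basicOpen (CohB1.polyGrading r k) ℓ).carrier) (hcomp x).symm))

end Groth.Agent.S3719
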