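import Groth.Statements.S3720
import Groth.Agent.H80.Torsor.Cover
import Mathlib.RingTheory.RootsOfUnity.PrimitiveRoots
import Mathlib.RingTheory.LocalRing.ResidueField.Basic
import Mathlib.Algebra.MvPolynomial.Equiv

set_option autoImplicit false
set_option backward.isDefEq.respectTransparency false
open CategoryTheory CategoryTheory.Limits AlgebraicGeometry
universe u
open SGA1t

namespace Groth.Agent.S3720

open Groth.Agent.H80.Torsor IsLocalRing in
theorem residue_injective {A : Type u} [CommRing A] [IsLocalRing A] {n : ℕ}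
    (hn : IsUnit ((n : ℕ) : A)) {ζ η : rootsOfUnity n A}
    (h : residue A ((ζ : Aˣ) : A) = residue A ((η : Aˣ) : A)) : ζ = η := by
  let y : A := ((ζ * η⁻¹ : rootsOfUnity n A) : Aˣ).val - 1
  have hy : residue A y = 0 := by
    have h1 : residue A ((η : Aˣ) : A) * residue A ((η⁻¹ : rootsOfUnity n A) : Aˣ).val = 1 := by
      rw [← map_mul, ← Units.val_mul, ← Subgroup.coe_mul, mul_inv_cancel]; simp
    simp only [y, map_sub, map_one, Subgroup.coe_mul, Units.val_mul, map_mul]
    rw [h, h1, sub_self]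
  have hpow : (1 + y) ^ n = 1 := by
    simp only [y, add_sub_cancel]
    rw [← Units.val_pow_eq_pow_val, (mem_rootsOfUnity n _).mp (ζ * η⁻¹).2, Units.val_one]
  have key : y * ∑ i ∈ Finset.range n, (1 + y) ^ i = 0 := by
    have := mul_geom_sum (1 + y) n
    rw [add_sub_cancel_left, hpow, sub_self] at this
    exact this
  have hu : IsUnit (∑ i ∈ Finset.range n, (1 + y) ^ i) := by
    rw [← residue_ne_zero_iff_isUnit]
    simpa [hy] using ((hn.map (residue A)).ne_zero)
  have hy0 : y = 0 := hu.mul_left_eq_zero.mp key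
  exact mul_inv_eq_one.mp (Subtype.ext (Units.ext (sub_eq_zero.mp hy0)))

open Polynomial Groth.Agent.H80.Torsor IsLocalRing in
theorem key (A : Type u) [CommRing A] [IsLocalRing A] (n : ℕ) (hn1 : 1 ≤ n)
    (hn : IsUnit ((n : ℕ) : A)) (ζ₀ : A) (hζ₀ : IsPrimitiveRoot ζ₀ n)
    {B : Type u} [CommRing B] [Algebra A B] [Module.Finite A B] [Algebra.Etale A B]
    (σ : ↥(rootsOfUnity n A) →* (B →ₐ[A] B)) (hσ : IsTorsor σ) :
    ∃ (a : Aˣ) (φ : SGA1t.kummer A (fun _ : Unit => (a : A)) (fun _ => n) →ₐ[A] B), Function.Bijective φ ∧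
      ∀ ζ x, φ (SGA1t.kummerTwist A (fun _ : Unit => (a : A)) (fun _ => n) (fun _ => ζ) x) = σ ζ (φ x) := by
  classical
  have : NeZero n := ⟨by omega⟩
  let red : rootsOfUnity n A → {x : ResidueField A // x ∈ Polynomial.nthRoots n 1} := fun ζ =>
    ⟨residue A ((ζ : Aˣ) : A), (Polynomial.mem_nthRoots (by omega)).mpr (by
      rw [← map_pow, ← Units.val_pow_eq_pow_val, (mem_rootsOfUnity n _).mp ζ.2, Units.val_one, map_one])⟩
  have hinj : Function.Injective red := fun ζ η h => residue_injective hn (congrArg Subtype.val h)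
  have : Finite (rootsOfUnity n A) := Finite.of_injective red hinj
  let := Fintype.ofFinite (rootsOfUnity n A)
  have hcard : Fintype.card (rootsOfUnity n A) = n := by
    refine le_antisymm ?_ ?_
    · have := Fintype.card_le_of_injective (fun ζ : rootsOfUnity n A =>
        (⟨(red ζ).1, Multiset.mem_toFinset.mpr (red ζ).2⟩ : (Polynomial.nthRoots n (1 : ResidueField A)).toFinset))
        (fun ζ η h => hinj (Subtype.ext (congrArg (fun z => z.1) h)))
      rw [Fintype.card_coe] at this
      exact this.trans ((Multiset.toFinset_card_le _).trans (Polynomial.card_nthRoots n (1 : ResidueField A)))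
    · let u : rootsOfUnity n A := rootsOfUnity.mkOfPowEq ζ₀ hζ₀.pow_eq_one
      refine (le_of_eq (Fintype.card_fin n).symm).trans (Fintype.card_le_of_injective (fun i : Fin n => u ^ (i : ℕ)) fun i j h => ?_)
      refine Fin.ext (hζ₀.pow_inj i.2 j.2 ?_)
      simpa [u] using congrArg (fun z : rootsOfUnity n A => ((z : Aˣ) : A)) h
  obtain ⟨Ω, _, _, s, hs⟩ := exists_point hσ (maximalIdeal A)
  let c : rootsOfUnity n A → A := fun ζ => ((ζ⁻¹ : rootsOfUnity n A) : Aˣ).val
  obtain ⟨x, hx⟩ := exists_avg_ne_zero hσ s c ⟨1, by simp [c]⟩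
  let b : B := avg σ c x
  have hb : ∀ ζ, σ ζ b = algebraMap A B ((ζ : Aˣ) : A) * b := by
    intro ζ
    rw [apply_avg]
    simp only [b, avg, Finset.mul_sum]
    refine Finset.sum_congr rfl fun g _ => ?_
    simp only [c, mul_inv_rev, inv_inv, Subgroup.coe_mul, Units.val_mul, Algebra.smul_def, map_mul]
    ring
  obtain ⟨a, ha⟩ := exists_of_fixed hσ (b ^ n) (fun ζ => by
    rw [map_pow, hb, mul_pow, ← map_pow, ← Units.val_pow_eq_pow_val,
      (mem_rootsOfUnity n _).mp ζ.2, Units.val_one, map_one, one_mul])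
  have hau : IsUnit a := by
    refine notMem_maximalIdeal.mp fun hm => hx ?_
    have := (hs a).mpr hm
    rw [ha, map_pow] at this
    exact eq_zero_of_pow_eq_zero this
  obtain ⟨a, rfl⟩ := hau
  have hbu : IsUnit b := (isUnit_pow_iff (by omega)).mp (ha ▸ a.isUnit.map _)
  have hmem : ∀ q ∈ Ideal.span (Set.range fun i : Unit =>
      (MvPolynomial.X i : MvPolynomial Unit A) ^ n - MvPolynomial.C (a : A)),
      MvPolynomial.aeval (R := A) (fun _ : Unit => b) q = 0 := fun q hq => by
    refine (Ideal.span_le (I := RingHom.ker (MvPolynomial.aeval (R := A) (fun _ : Unit => b)))).mpr ?_ hq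
    rintro _ ⟨i, rfl⟩
    simp [ha]
  let φ : SGA1t.kummer A (fun _ : Unit => (a : A)) (fun _ => n) →ₐ[A] B :=
    Ideal.Quotient.liftₐ _ (MvPolynomial.aeval (R := A) (fun _ : Unit => b)) hmem
  let t : SGA1t.kummer A (fun _ : Unit => (a : A)) (fun _ => n) := Ideal.Quotient.mk _ (MvPolynomial.X ())
  have hφt : φ t = b := (Ideal.Quotient.lift_mk _ _ _).trans (MvPolynomial.aeval_X _ ())
  refine ⟨a, φ, bijective_of_conjugates hσ φ t (X ^ n - Polynomial.C (a : A))
    (monic_X_pow_sub_C _ (by omega)) (by rw [natDegree_X_pow_sub_C, hcard]) ?_ ?_ ?_, fun ζ y => ?_⟩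
  · rw [map_sub, map_pow, aeval_X, aeval_C]
    exact Ideal.Quotient.eq_zero_iff_mem.mpr (Ideal.subset_span ⟨(), rfl⟩)
  · intro y
    obtain ⟨q, rfl⟩ := Ideal.Quotient.mk_surjective y
    induction q using MvPolynomial.induction_on with
    | C r => exact ⟨Polynomial.C r, by simp; rfl⟩
    | add p q hp hq =>
      obtain ⟨P, hP⟩ := hp
      obtain ⟨Q, hQ⟩ := hq
      exact ⟨P + Q, by rw [map_add, map_add, hP, hQ]⟩
    | mul_X p i hp =>
      obtain ⟨P, hP⟩ := hp
      exact ⟨P * Polynomial.X, by rw [map_mul, map_mul, hP, aeval_X]⟩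
  · intro ζ η hne
    rw [hφt, hb, hb, ← sub_mul, ← map_sub]
    refine (IsUnit.map _ ?_).mul hbu
    rw [← residue_ne_zero_iff_isUnit, map_sub, sub_ne_zero]
    exact fun h => hne (residue_injective hn h)
  · obtain ⟨q, rfl⟩ := Ideal.Quotient.mk_surjective y
    change φ (Ideal.Quotient.mk _ (MvPolynomial.aeval (R := A)
      (fun _ : Unit => MvPolynomial.C (((ζ : Aˣ) : A)) * MvPolynomial.X ()) q)) = σ ζ (MvPolynomial.aeval (R := A) (fun _ : Unit => b) q)
    change MvPolynomial.aeval (R := A) (fun _ : Unit => b) (MvPolynomial.aeval (R := A)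
      (fun _ : Unit => MvPolynomial.C (((ζ : Aˣ) : A)) * MvPolynomial.X ()) q) = _
    rw [MvPolynomial.comp_aeval_apply, MvPolynomial.comp_aeval_apply, hb]
    simp

/-- Kummer theory over a local ring: let A be a local ring, n ≥ 1 an integer invertible in A, and
suppose A contains a primitive n-th root of unity (so that the group μ_n(A) of n-th roots of unity
in A is cyclic of order n). Then every principal μ_n(A)-cover P of Spec A is isomorphic over Spec A
to a Kummer cover Spec A[T]/(Tⁿ − a) for some unit a of A, compatibly with the actions: the given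
action of a root of unity ζ on P corresponds to the automorphism of A[T]/(Tⁿ − a) induced by T ↦ ζT. -/
theorem result (A : Type u) [CommRing A] [IsLocalRing A] (n : ℕ) (hn1 : 1 ≤ n)
    (hn : IsUnit ((n : ℕ) : A)) (ζ₀ : A) (hζ₀ : IsPrimitiveRoot ζ₀ n)
    (P : FEt.Cat (Spec (CommRingCat.of A))) (ρ : ↥(rootsOfUnity n A) →* Aut P)
    (hP : SGA1t.IsPrincipal ↥(rootsOfUnity n A) P ρ) :
    ∃ (a : Aˣ) (e : P.left ≅ Spec (CommRingCat.of (SGA1t.kummer A (fun _ : Unit => (a : A)) (fun _ => n)))),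
      e.hom ≫ Spec.map (CommRingCat.ofHom (algebraMap A (SGA1t.kummer A (fun _ : Unit => (a : A)) (fun _ => n)))) = P.hom ∧
      ∀ ζ : ↥(rootsOfUnity n A), (ρ ζ).hom.left ≫ e.hom =
        e.hom ≫ Spec.map (CommRingCat.ofHom (SGA1t.kummerTwist A (fun _ : Unit => (a : A)) (fun _ => n) (fun _ => ζ))) := by
  obtain ⟨B, _, _, _, _, σ, e, hσ, he, hact⟩ := H80.Torsor.exists_torsor P ρ hP
  obtain ⟨a, φ, hφ, hτ⟩ := key A n hn1 hn ζ₀ hζ₀ σ hσ
  obtain ⟨e', he', hact'⟩ := H80.Torsor.exists_iso (fun g => (ρ g).hom.left)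
    (fun g => σ g) e he hact φ hφ
    (fun ζ => SGA1t.kummerTwist A (fun _ : Unit => (a : A)) (fun _ => n) (fun _ => ζ)) hτ
  exact ⟨a, e', he', hact'⟩

end Groth.Agent.S3720
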