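import Groth.Statements.S3721
import Groth.Agent.H80.Torsor.Cover
import Mathlib.Algebra.CharP.Algebra
import Mathlib.FieldTheory.Finite.Basic

set_option autoImplicit false
set_option backward.isDefEq.respectTransparency false
open CategoryTheory CategoryTheory.Limits AlgebraicGeometry
universe u
open SGA1t

namespace Groth.Agent.S3721

open Polynomial Groth.Agent.H80.Torsor in
theorem key (A : Type u) [CommRing A] (p : ℕ) [Fact p.Prime] [CharP A p]
    {B : Type u} [CommRing B] [Algebra A B] [Module.Finite A B] [Algebra.Etale A B]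
    (σ : Multiplicative (ZMod p) →* (B →ₐ[A] B)) (hσ : IsTorsor σ) :
    ∃ (a : A) (φ : SGA1t.artinSchreier A p a →ₐ[A] B), Function.Bijective φ ∧
      ∀ j x, φ (SGA1t.artinSchreierShift A p a j x) = σ (Multiplicative.ofAdd j) (φ x) := by
  classical
  have : Nontrivial A := CharP.nontrivial_of_char_ne_one (v := p) (Fact.out : p.Prime).ne_one
  have := Module.FaithfullyFlat.of_comap_surjective hσ.surj
  have hinjA : Function.Injective (algebraMap A B) := FaithfulSMul.algebraMap_injective A B
  have : CharP B p := charP_of_injective_ringHom hinjA p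
  let κ : ZMod p →+* A := ZMod.castHom (dvd_refl p) A
  -- an element of trace one
  let I : Ideal A :=
    { carrier := {a | ∃ x, avg σ (fun _ => 1) x = algebraMap A B a}
      add_mem' := fun {a b} ⟨x, hx⟩ ⟨y, hy⟩ => ⟨x + y, by
        rw [map_add, ← hx, ← hy, avg, avg, avg, ← Finset.sum_add_distrib]; simp⟩
      zero_mem' := ⟨0, by simp [avg]⟩
      smul_mem' := fun c {a} ⟨x, hx⟩ => ⟨c • x, by
        rw [smul_eq_mul, map_mul, ← hx, avg, avg, Finset.mul_sum]
        simp [Algebra.smul_def]⟩ }
  have hI : I = ⊤ := by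
    by_contra hI
    obtain ⟨m, hm, hle⟩ := Ideal.exists_le_maximal I hI
    obtain ⟨Ω, _, _, s, hs⟩ := exists_point hσ m
    obtain ⟨x, hx⟩ := exists_avg_ne_zero hσ s (fun _ => 1) ⟨1, by simp⟩
    obtain ⟨a, ha⟩ := exists_of_fixed hσ (avg σ (fun _ => 1) x) (fun h => by rw [apply_avg]; rfl)
    exact hx (ha ▸ (hs a).mpr (hle ⟨x, ha.symm⟩))
  obtain ⟨x, hx⟩ : ∃ x, avg σ (fun _ => 1) x = algebraMap A B 1 :=
    (hI ▸ Submodule.mem_top : (1 : A) ∈ I)
  let b : B := avg σ (fun g => - κ (Multiplicative.toAdd g)) x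
  have hb : ∀ j, σ (Multiplicative.ofAdd j) b = b + algebraMap A B (κ j) := by
    intro j
    rw [apply_avg, ← mul_one (algebraMap A B (κ j)), ← map_one (algebraMap A B), ← hx]
    simp only [b, avg, Finset.mul_sum, ← Finset.sum_add_distrib]
    refine Finset.sum_congr rfl fun g _ => ?_
    rw [toAdd_mul, toAdd_inv, toAdd_ofAdd, map_add, map_neg, one_smul, ← Algebra.smul_def,
      ← add_smul]
    congr 1
    ring
  have hp : ∀ j : ZMod p, (algebraMap A B (κ j)) ^ p = algebraMap A B (κ j) := fun j => by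
    rw [← map_pow, ← map_pow, ZMod.pow_card]
  obtain ⟨a, ha⟩ := exists_of_fixed hσ (b ^ p - b) (fun g => by
    obtain ⟨j, rfl⟩ := Multiplicative.ofAdd.surjective g
    rw [map_sub, map_pow, hb, add_pow_char, hp]
    ring)
  let f : A[X] := X ^ p - X - Polynomial.C a
  have hfb : aeval b f = 0 := by
    simp only [f, map_sub, map_pow, aeval_X, aeval_C, ha]
    ring
  let φ : SGA1t.artinSchreier A p a →ₐ[A] B := Ideal.Quotient.liftₐ _ (aeval b) (fun q hq => by
    obtain ⟨r, rfl⟩ := Ideal.mem_span_singleton.mp hq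
    rw [map_mul, hfb, zero_mul])
  let t : SGA1t.artinSchreier A p a := Ideal.Quotient.mk _ X
  have haev : ∀ q : A[X], aeval t q = Ideal.Quotient.mk _ q := fun q => by
    rw [← Ideal.Quotient.mkₐ_eq_mk A, show t = Ideal.Quotient.mkₐ A (Ideal.span {f}) X from rfl,
      aeval_algHom_apply, aeval_X_left_apply]
  have hφt : φ t = b := (Ideal.Quotient.lift_mk _ _ _).trans (aeval_X b)
  have hp2 : 2 ≤ p := (Fact.out : p.Prime).two_le
  have hdeg : (X ^ p - X - Polynomial.C a : A[X]).natDegree = p := by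
    rw [natDegree_sub_C, natDegree_sub_eq_left_of_natDegree_lt (by simp; omega), natDegree_X_pow]
  refine ⟨a, φ, bijective_of_conjugates hσ φ t f ?_ ?_ ?_ ?_ ?_, fun j y => ?_⟩
  · change (X ^ p - X - Polynomial.C a : A[X]).Monic
    rw [Monic, leadingCoeff, hdeg]
    simp [coeff_X, coeff_C, show (1 : ℕ) ≠ p by omega, show p ≠ 0 by omega]
  · rw [hdeg]; simp
  · rw [haev]; exact Ideal.Quotient.eq_zero_iff_mem.mpr (Ideal.subset_span rfl)
  · intro y
    obtain ⟨q, rfl⟩ := Ideal.Quotient.mk_surjective y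
    exact ⟨q, haev q⟩
  · intro g h hgh
    obtain ⟨i, rfl⟩ := Multiplicative.ofAdd.surjective g
    obtain ⟨j, rfl⟩ := Multiplicative.ofAdd.surjective h
    rw [hφt, hb, hb, add_sub_add_left_eq_sub, ← map_sub, ← map_sub]
    exact ((isUnit_iff_ne_zero.mpr (sub_ne_zero.mpr fun h => hgh (congrArg _ h))).map κ).map _
  · obtain ⟨q, rfl⟩ := Ideal.Quotient.mk_surjective y
    change φ (Ideal.Quotient.mk _ (aeval (X + Polynomial.C (κ j)) q)) = _
    rw [← haev, ← haev, ← aeval_algHom_apply, ← aeval_algHom_apply, ← aeval_algHom_apply,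
      ← aeval_algHom_apply, hφt, hb, map_add, aeval_X, aeval_C]

/-- Let p be a prime and A a commutative ring of characteristic p. Then every principal ℤ/p-cover P of
Spec A (a finite étale cover with an action of ℤ/p making it a torsor) is isomorphic over Spec A to
an Artin–Schreier cover Spec A[T]/(T^p − T − a) for some a ∈ A, compatibly with the actions: under
the isomorphism the given action of j ∈ ℤ/p on P corresponds to the automorphism of the
Artin–Schreier cover induced by T ↦ T + j. The published statement is for any base S of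
characteristic p on which Frobenius fixes no nonzero element of H¹(S, O_S); it is stated here for S
= Spec A affine. -/
theorem result (A : Type u) [CommRing A] (p : ℕ) [Fact p.Prime] [CharP A p]
    (P : FEt.Cat (Spec (CommRingCat.of A))) (ρ : Multiplicative (ZMod p) →* Aut P)
    (hP : SGA1t.IsPrincipal (Multiplicative (ZMod p)) P ρ) :
    ∃ (a : A) (e : P.left ≅ Spec (CommRingCat.of (SGA1t.artinSchreier A p a))),
      e.hom ≫ Spec.map (CommRingCat.ofHom (algebraMap A (SGA1t.artinSchreier A p a))) = P.hom ∧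
      ∀ j : ZMod p, (ρ (Multiplicative.ofAdd j)).hom.left ≫ e.hom =
        e.hom ≫ Spec.map (CommRingCat.ofHom (SGA1t.artinSchreierShift A p a j)) := by
  obtain ⟨B, _, _, _, _, σ, e, hσ, he, hact⟩ := H80.Torsor.exists_torsor P ρ hP
  obtain ⟨a, φ, hφ, hτ⟩ := key A p σ hσ
  obtain ⟨e', he', hact'⟩ := H80.Torsor.exists_iso (fun j : ZMod p => (ρ (Multiplicative.ofAdd j)).hom.left)
    (fun j => σ (Multiplicative.ofAdd j)) e he (fun j => hact _) φ hφ
    (SGA1t.artinSchreierShift A p a) hτ
  exact ⟨a, e', he', hact'⟩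

end Groth.Agent.S3721
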