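import Groth.Statements.S3752
import Groth.Agent.Lib.ExchangeFP29.KPush.TwistValue
import Groth.Agent.Lib.H70.KRRReg.Resolution
import Groth.Agent.Lib.KVec.Ample
import Groth.Agent.Lib.KVec.ExtPowPull
import Groth.Agent.Lib.Lambda.ARR
import Groth.Agent.Lib.ExtFilt.Lambda
import Groth.Agent.Lib.FundLocal.ExtPowExists
import Groth.Agent.Lib.GrassGen.ExtPowFree
import Groth.Agent.S15827
import Groth.Agent.Lib.KVec.Pull
import Groth.Agent.S3762
import Groth.Agent.Lib.Lambda33.Residue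

set_option autoImplicit false
universe v u
open CategoryTheory CategoryTheory.Limits AlgebraicGeometry
attribute [local instance] HasDerivedCategory.standard
open scoped TensorProduct
open KRR

set_option linter.style.haveILetI false
namespace Groth.Agent.S3752

open Groth.Agent Groth.Agent.Lib Groth.Agent.Lib.ExchangeFP29 Groth.Agent.Lib.ExchangeFP29.KPush TensorMod.Basic

set_option linter.style.haveILetI false

variable {X : Scheme.{u}} {K : Type v} [CommRing K] [LambdaRing.LambdaOps K]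
  {P : LambdaRing.PosStructure K} {φ : SGA6.Kvb X →+ K}

theorem exists_class_sub (hK : KRR.IsModel X K P φ) (x : K) :
    ∃ E F : X.Modules, FlatMod.IsFinLocFree E ∧ FlatMod.IsFinLocFree F ∧
      x = φ (KRR.cl X E) - φ (KRR.cl X F) := by
  obtain ⟨e, f, he, hf, rfl⟩ := P.exists_sub x
  obtain ⟨a, E, -, hE, rfl⟩ := (hK.mem_pos_iff e).1 he
  obtain ⟨b, F, -, hF, rfl⟩ := (hK.mem_pos_iff f).1 hf
  exact ⟨E, F, TensorMod.LocFree.of_rank hE, TensorMod.LocFree.of_rank hF, rfl⟩

theorem pow_cl (hK : KRR.IsModel X K P φ) {L : X.Modules} (hL : PicF.IsInvertible L) :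
    ∀ n : ℕ, φ (KRR.cl X L) ^ n = φ (KRR.cl X (CohB1.tensorPow L n))
  | 0 => by rw [pow_zero]; exact hK.map_one.symm
  | n + 1 => by
    rw [pow_succ, pow_cl hK hL n]
    exact hK.map_mul _ _ (TensorMod.LocFree.of_rank (TensorMod.LocFree.of_isInvertible
      (TensorMod.Invertible.isInvertible_tensorPow hL n)))
      (TensorMod.LocFree.of_rank (TensorMod.LocFree.of_isInvertible hL))

theorem isFinLocFree_extPow {E L : X.Modules} {i : ℕ} (hE : FlatMod.IsFinLocFree E)
    (hL : ExtPow.IsExtPow i E L) : FlatMod.IsFinLocFree L :=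
  GrassGen.ExtPowFree.isFinLocFree hE hL

/-- The λ-operations of a multiple of a line. -/
theorem lamSeries_line_mul (hK : KRR.IsModel X K P φ)
    {L : X.Modules} (hL : PicF.IsInvertible L) (x : K) :
    LambdaRing.lamSeries (φ (KRR.cl X L) * x) =
      PowerSeries.rescale (φ (KRR.cl X L)) (LambdaRing.lamSeries x) := by
  set l := φ (KRR.cl X L)
  have hLf : FlatMod.IsFinLocFree L := TensorMod.LocFree.of_rank (TensorMod.LocFree.of_isInvertible hL)
  have key : ∀ E : X.Modules, FlatMod.IsFinLocFree E → LambdaRing.lamSeries (l * φ (KRR.cl X E)) =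
      PowerSeries.rescale l (LambdaRing.lamSeries (φ (KRR.cl X E))) := by
    intro E hE
    ext i
    rw [PowerSeries.coeff_rescale, Lambda.coeff_lamSeries, Lambda.coeff_lamSeries, pow_cl hK hL i,
      mul_comm l (φ (KRR.cl X E))]
    have hEL : FlatMod.IsFinLocFree (CohB1.tensorMod E L) := TensorMod.LocFree.isFinLocFree_tensorMod hE hLf
    rw [show φ (KRR.cl X E) * l = φ (KRR.cl X (CohB1.tensorMod E L)) from hK.map_mul E L hE hLf]
    haveI := Modules.AffineSections.isQCoh_of_isFinLocFree hE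
    haveI := Modules.AffineSections.isQCoh_of_isFinLocFree hEL
    obtain ⟨M, hM⟩ := FundLocal.ExtPowExists.exists_isExtPow (E := CohB1.tensorMod E L) i
    obtain ⟨N, hN⟩ := FundLocal.ExtPowExists.exists_isExtPow (E := E) i
    obtain ⟨iso⟩ := Groth.Agent.S15827.result E L hE (TensorMod.LocFree.of_isInvertible hL) i M N hM hN
    have hN' := isFinLocFree_extPow hE hN
    have hM' := isFinLocFree_extPow hEL hM
    have hLi : FlatMod.IsFinLocFree (CohB1.tensorPow L i) := TensorMod.LocFree.of_rank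
      (TensorMod.LocFree.of_isInvertible (TensorMod.Invertible.isInvertible_tensorPow hL i))
    rw [hK.map_lam i _ M hEL hM' hM, hK.map_lam i E N hE hN' hN, mul_comm (φ (KRR.cl X (CohB1.tensorPow L i)))]
    exact (congrArg φ (KAugNil98.Main.cl_iso iso hM')).trans (hK.map_mul N _ hN' hLi).symm
  obtain ⟨E, F, hE, hF, rfl⟩ := exists_class_sub hK x
  refine (Lambda.isUnit_lamSeries (l * φ (KRR.cl X F))).mul_right_cancel ?_
  conv_rhs => arg 2; rw [key F hF]
  rw [← map_mul (PowerSeries.rescale l), ← Lambda.lamSeries_add, ← Lambda.lamSeries_add, ← mul_add,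
    sub_add_cancel, key E hE]

/-- The Adams operations of a multiple of a line. -/
theorem adamsOp_line_mul (hK : KRR.IsModel X K P φ)
    {L : X.Modules} (hL : PicF.IsInvertible L) (x : K) {j : ℕ} (hj : 1 ≤ j) :
    LambdaRing.adamsOp j (φ (KRR.cl X L) * x) = φ (KRR.cl X L) ^ j * LambdaRing.adamsOp j x := by
  obtain ⟨j, rfl⟩ : ∃ j', j = j' + 1 := ⟨j - 1, by omega⟩
  set l := φ (KRR.cl X L)
  have h : LambdaRing.logDerivSeries (l * x) = PowerSeries.C l * PowerSeries.rescale l (LambdaRing.logDerivSeries x) := by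
    refine (Lambda.eq_logDerivSeries_of_mul_eq ?_).symm
    rw [lamSeries_line_mul hK hL, Lambda.rescale_derivative, mul_assoc, ← map_mul, Lambda.logDerivSeries_mul]
  rw [Lambda.adamsOp_succ, Lambda.adamsOp_succ, h, PowerSeries.coeff_C_mul, PowerSeries.coeff_rescale]
  ring

variable {Y : Scheme.{u}} {KY : Type v} [CommRing KY] [LambdaRing.LambdaOps KY]
  {PY : LambdaRing.PosStructure KY} {φY : SGA6.Kvb Y →+ KY} {f : X ⟶ Y} {q : KY →+ K}

theorem pull_one (hK : KRR.IsModel X K P φ) (hY : KRR.IsModel Y KY PY φY) (hq : KRR.IsPull f φY φ q) :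
    q 1 = 1 := by
  rw [← hY.map_one, hq _ ExtFilt.Lambda.isFinLocFree_structure, ← hK.map_one]
  exact congrArg φ (KAugNil98.Main.cl_iso (PicLoc.pullbackStructureIso f).symm
    ExtFilt.Lambda.isFinLocFree_structure).symm

theorem pull_mul (hK : KRR.IsModel X K P φ) (hY : KRR.IsModel Y KY PY φY) (hq : KRR.IsPull f φY φ q)
    (x y : KY) : q (x * y) = q x * q y := by
  have key : ∀ E F : Y.Modules, FlatMod.IsFinLocFree E → FlatMod.IsFinLocFree F →
      q (φY (KRR.cl Y E) * φY (KRR.cl Y F)) = q (φY (KRR.cl Y E)) * q (φY (KRR.cl Y F)) := by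
    intro E F hE hF
    rw [hq E hE, hq F hF, hY.map_mul E F hE hF,
      hK.map_mul _ _ (TensorMod.LocFree.isFinLocFree_pullback f hE) (TensorMod.LocFree.isFinLocFree_pullback f hF)]
    refine (hq _ (TensorMod.LocFree.isFinLocFree_tensorMod hE hF)).trans ?_
    exact congrArg φ (KAugNil98.Main.cl_iso (TensorMod.Pullback.pullbackTensorIso f E F)
      (TensorMod.LocFree.isFinLocFree_pullback f (TensorMod.LocFree.isFinLocFree_tensorMod hE hF)))
  obtain ⟨A, B, hA, hB, rfl⟩ := exists_class_sub hY x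
  obtain ⟨C, D, hC, hD, rfl⟩ := exists_class_sub hY y
  simp only [sub_mul, mul_sub, map_sub, key _ _ hA hC, key _ _ hA hD, key _ _ hB hC, key _ _ hB hD]

/-- The inverse image as a ring map. -/
noncomputable def pullHom (hK : KRR.IsModel X K P φ) (hY : KRR.IsModel Y KY PY φY) (hq : KRR.IsPull f φY φ q) :
    KY →+* K :=
  { q with map_one' := pull_one hK hY hq, map_mul' := pull_mul hK hY hq }

theorem pull_lam (hK : KRR.IsModel X K P φ) (hY : KRR.IsModel Y KY PY φY) (hq : KRR.IsPull f φY φ q)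
    (i : ℕ) (x : KY) : pullHom hK hY hq (LambdaRing.LambdaOps.lam i x) =
      LambdaRing.LambdaOps.lam i (pullHom hK hY hq x) := by
  set Q := pullHom hK hY hq
  have key : ∀ E : Y.Modules, FlatMod.IsFinLocFree E → PowerSeries.map Q (LambdaRing.lamSeries (φY (KRR.cl Y E))) =
      LambdaRing.lamSeries (Q (φY (KRR.cl Y E))) := by
    intro E hE
    ext i
    rw [PowerSeries.coeff_map, Lambda.coeff_lamSeries, Lambda.coeff_lamSeries]
    have hE' := TensorMod.LocFree.isFinLocFree_pullback f hE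
    haveI := Modules.AffineSections.isQCoh_of_isFinLocFree hE
    haveI := Modules.AffineSections.isQCoh_of_isFinLocFree hE'
    obtain ⟨L, hL⟩ := FundLocal.ExtPowExists.exists_isExtPow (E := E) i
    obtain ⟨L', hL'⟩ := FundLocal.ExtPowExists.exists_isExtPow (E := (Scheme.Modules.pullback f).obj E) i
    obtain ⟨iso⟩ := Lib.KVec.ExtPowPull.nonempty_iso_pullback f hE hL hL'
    have hLf := isFinLocFree_extPow hE hL
    show q _ = LambdaRing.LambdaOps.lam i (q _)
    rw [hY.map_lam i E L hE hLf hL, hq L hLf, hq E hE, hK.map_lam i _ L' hE' (isFinLocFree_extPow hE' hL') hL']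
    exact congrArg φ (ExtFilt.Lambda.cl_congr iso (TensorMod.LocFree.isFinLocFree_pullback f hLf))
  have : PowerSeries.map Q (LambdaRing.lamSeries x) = LambdaRing.lamSeries (Q x) := by
    obtain ⟨E, F, hE, hF, rfl⟩ := exists_class_sub hY x
    refine (Lambda.isUnit_lamSeries (Q (φY (KRR.cl Y F)))).mul_right_cancel ?_
    conv_lhs => arg 2; rw [← key F hF]
    rw [← map_mul (PowerSeries.map Q), ← Lambda.lamSeries_add, ← Lambda.lamSeries_add, ← map_add Q,
      sub_add_cancel, key E hE]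
  simpa [Lambda.coeff_lamSeries] using congrArg (PowerSeries.coeff i) this

end Groth.Agent.S3752

set_option linter.style.haveILetI false
namespace Groth.Agent.S3752

open Groth.Agent Groth.Agent.Lib Groth.Agent.Lib.ExchangeFP29 Groth.Agent.Lib.ExchangeFP29.KPush TensorMod.Basic

variable {n : ℕ} {Y : Scheme.{u}} {KP : Type v} [CommRing KP] [LambdaRing.LambdaOps KP]
  {PP : LambdaRing.PosStructure KP} {φP : SGA6.Kvb (KRR.PY n Y) →+ KP}

/-- The class of `O(d)`. -/
noncomputable abbrev t (φP : SGA6.Kvb (KRR.PY n Y) →+ KP) (d : ℤ) : KP :=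
  φP (KRR.cl (KRR.PY n Y) (Twist.twistOver n Y d))

theorem isFinLocFree_O (d : ℤ) : FlatMod.IsFinLocFree (Twist.twistOver n Y d) :=
  TensorMod.LocFree.of_rank (TensorMod.LocFree.of_isInvertible (ProjFibre.isInvertible_twistOver d))

theorem t_mul (hKP : KRR.IsModel (KRR.PY n Y) KP PP φP) (a b : ℤ) : t φP a * t φP b = t φP (a + b) :=
  (hKP.map_mul _ _ (isFinLocFree_O a) (isFinLocFree_O b)).trans (congrArg φP
    (KAugNil98.Main.cl_iso (H73.RegSeq.overTensor a b)
      (TensorMod.LocFree.isFinLocFree_tensorMod (isFinLocFree_O a) (isFinLocFree_O b))))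

theorem t_zero (hKP : KRR.IsModel (KRR.PY n Y) KP PP φP) : t φP 0 = 1 :=
  (congrArg φP (KAugNil98.Main.cl_iso H73.RegSeq.overZero (isFinLocFree_O 0))).trans hKP.map_one

theorem t_neg_pow (hKP : KRR.IsModel (KRR.PY n Y) KP PP φP) :
    ∀ i : ℕ, t φP (-1) ^ i = t φP (-(i : ℤ))
  | 0 => by rw [pow_zero, Nat.cast_zero, neg_zero, t_zero hKP]
  | i + 1 => by rw [pow_succ, t_neg_pow hKP i, t_mul hKP]; push_cast; congr 1; ring_nf

theorem cl_twF (hKP : KRR.IsModel (KRR.PY n Y) KP PP φP) (d : ℤ) {F : (KRR.PY n Y).Modules}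
    (hF : FlatMod.IsFinLocFree F) :
    φP (KRR.cl (KRR.PY n Y) (KRR.twF n Y d F)) = t φP d * φP (KRR.cl (KRR.PY n Y) F) :=
  (hKP.map_mul _ _ (isFinLocFree_O d) hF).symm

theorem pow_one_sub_eq_zero (hKP : KRR.IsModel (KRR.PY n Y) KP PP φP) :
    (1 - t φP (-1)) ^ (n + 1) = 0 := by
  set u := t φP (-1)
  have hO : FlatMod.IsFinLocFree (Coh.structureModule (KRR.PY n Y)) := ExtFilt.Lambda.isFinLocFree_structure
  have hv : ∀ j : ℕ, φP (KRR.cl (KRR.PY n Y) (Reg.tw (j : ℤ) (Coh.structureModule (KRR.PY n Y)))) = t φP j :=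
    fun j => by
      rw [show KRR.cl (KRR.PY n Y) (Reg.tw (j : ℤ) (Coh.structureModule (KRR.PY n Y))) = KRR.cl _
        (KRR.twF n Y (j : ℤ) (Coh.structureModule (KRR.PY n Y))) from
        KAugNil98.Main.cl_iso (H73.RegSeq.twFIso (j : ℤ) _).symm (Reg.B_tw _ hO), cl_twF hKP _ hO,
        hKP.map_one, mul_one]
  have h := congrArg φP (Reg.koszul_cl (Coh.structureModule (KRR.PY n Y)) hO)
  simp only [map_sum, map_zsmul, map_nsmul, map_zero, hv] at h
  have h2 := congrArg (u ^ (n + 1) * ·) h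
  simp only [mul_zero, Finset.mul_sum] at h2
  have key : ∀ j ∈ Finset.range (n + 2), (-1 : KP) ^ j * u ^ (n + 1 - j) * ((n + 1).choose j : KP) =
      u ^ (n + 1) * ((-1 : ℤ) ^ j • (n + 1).choose j • t φP (j : ℤ)) := fun j hj => by
    rw [Finset.mem_range] at hj
    rw [t_neg_pow hKP, t_neg_pow hKP, zsmul_eq_mul, nsmul_eq_mul, Int.cast_pow, Int.cast_neg, Int.cast_one,
      show t φP (-((n + 1 : ℕ) : ℤ)) * ((-1 : KP) ^ j * ((((n + 1).choose j : ℕ) : KP) * t φP j)) =
        (-1) ^ j * (t φP (-((n + 1 : ℕ) : ℤ)) * t φP j) * ((n + 1).choose j : KP) by ring, t_mul hKP]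
    congr 3
    omega
  calc (1 - u) ^ (n + 1) = (-1) ^ (n + 1) * (-1 + u) ^ (n + 1) := by rw [← mul_pow]; ring_nf
    _ = 0 := by rw [add_pow, Finset.sum_congr rfl key, h2, mul_zero]

theorem span (hKP : KRR.IsModel (KRR.PY n Y) KP PP φP) [IsNoetherian Y]
    {KY : Type v} [CommRing KY] {φY : SGA6.Kvb Y →+ KY}
    {q : KY →+ KP} (hq : KRR.IsPull (KRR.pr n Y) φY φP q) (z : KP) :
    z ∈ AddSubgroup.closure {z : KP | ∃ (y : KY) (i : ℕ), i ≤ n ∧ z = q y * t φP (-1) ^ i} := by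
  set u := t φP (-1)
  set M := AddSubgroup.closure {z : KP | ∃ (y : KY) (i : ℕ), i ≤ n ∧ z = q y * u ^ i}
  have main : ∀ F : (KRR.PY n Y).Modules, Reg.RB F → φP (KRR.cl (KRR.PY n Y) F) ∈ M := by
    intro F hF
    let it := H70.KRRReg.Resolution.iter F
    have hit : ∀ i, Reg.RB (it i) := fun i => by
      induction i with
      | zero => exact hF
      | succ i ih =>
        refine ⟨TensorMod.LocFree.isFinLocFree_tensorMod (isFinLocFree_O 1) ?_,
          (H70.KRRReg.Resolution.good (Reg.isQCoh_of_B hF.1) hF.2 (i + 1)).2⟩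
        have hs := H70.KRRReg.Kernel.shortExact_seq (Reg.isQCoh_of_B ih.1) ih.2
        haveI := hs.epi_g
        exact KAugNil98.Main.isFinLocFree_kernel (H70.KRRReg.Kernel.seq (it i)).g
            (TensorMod.LocFree.isFinLocFree_pullback _ (Push.isFinLocFree_push ih)) ih.1
    have step : ∀ i, φP (KRR.cl (KRR.PY n Y) (it i)) =
        q (φY (KRR.cl Y ((Scheme.Modules.pushforward (KRR.pr n Y)).obj (it i)))) -
          u * φP (KRR.cl (KRR.PY n Y) (it (i + 1))) := by
      intro i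
      have ih := hit i
      have hs := H70.KRRReg.Kernel.shortExact_seq (Reg.isQCoh_of_B ih.1) ih.2
      haveI := hs.epi_g
      have h2 := TensorMod.LocFree.isFinLocFree_pullback (KRR.pr n Y) (Push.isFinLocFree_push ih)
      have h1 : FlatMod.IsFinLocFree (H70.KRRReg.Kernel.seq (it i)).X₁ :=
        KAugNil98.Main.isFinLocFree_kernel (H70.KRRReg.Kernel.seq (it i)).g h2 ih.1
      rw [hq _ (Push.isFinLocFree_push ih), show it (i + 1) = KRR.twF n Y 1 (H70.KRRReg.Kernel.seq (it i)).X₁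
        from rfl, cl_twF hKP 1 h1, ← mul_assoc, t_mul hKP, neg_add_cancel, t_zero hKP, one_mul,
        eq_sub_iff_add_eq, add_comm]
      exact ((map_add φP _ _).symm.trans (congrArg φP
        (KAugNil98.Main.clSub_shortExact hs h1 h2 ih.1).symm))
    have key : ∀ d i, i + d = n + 1 → u ^ i * φP (KRR.cl (KRR.PY n Y) (it i)) ∈ M := by
      intro d
      induction d with
      | zero =>
        intro i hi
        rw [KAugNil98.Main.cl_isZero (H70.KRRReg.Resolution.isZero_iter (Reg.isQCoh_of_B hF.1) hF.2 i (by omega)),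
          map_zero, mul_zero]
        exact zero_mem M
      | succ d ih =>
        intro i hi
        rw [step i, mul_sub, ← mul_assoc, ← pow_succ]
        exact sub_mem (AddSubgroup.subset_closure ⟨_, i, by omega, mul_comm _ _⟩) (ih (i + 1) (by omega))
    simpa [it, H70.KRRReg.Resolution.iter] using key (n + 1) 0 (by omega)
  obtain ⟨a, rfl⟩ := hKP.bijective.2 z
  have h : (QuotientAddGroup.mk' M).comp φP = 0 := Ext.hom_ext fun F hF =>
    (QuotientAddGroup.eq_zero_iff _).2 (main F hF)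
  exact (QuotientAddGroup.eq_zero_iff _).1 (DFunLike.congr_fun h a)

variable {KY : Type v} [CommRing KY]

theorem lTensor_mul {A : Type*} [CommRing A] (g : KP →+ KY) (q : KY →+ KP)
    (hgq : ∀ x y, g (x * q y) = g x * y) (W : A ⊗[ℤ] KP) (y : KY) :
    LinearMap.lTensor A g.toIntLinearMap (W * ((1 : A) ⊗ₜ[ℤ] q y)) =
      LinearMap.lTensor A g.toIntLinearMap W * ((1 : A) ⊗ₜ[ℤ] y) := by
  induction W using TensorProduct.induction_on with
  | zero => simp
  | tmul a x => simp [hgq]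
  | add a b ha hb => rw [add_mul, map_add, ha, hb, map_add, add_mul]

/-- Adams Riemann–Roch on one power of the tautological line. -/
theorem core {A : Type*} [CommRing A] [IsDomain A] [CharZero A] (g : KP →+ KY) {u : KP}
    (hu : (1 - u) ^ (n + 1) = 0) (hgu : ∀ i, i ≤ n → g (u ^ i) = if i = 0 then 1 else 0)
    (j : ℕ) (hj : 1 ≤ j) (hjA : IsUnit (j : A)) (b : KP)
    (hb : b = (∑ a ∈ Finset.range j, u ^ a) ^ (n + 1)) :
    (∃ w : A ⊗[ℤ] KP, w * ((1 : A) ⊗ₜ[ℤ] b) = 1) ∧
    ∀ w : A ⊗[ℤ] KP, w * ((1 : A) ⊗ₜ[ℤ] b) = 1 → ∀ i, i ≤ n →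
      LinearMap.lTensor A g.toIntLinearMap ((j : A ⊗[ℤ] KP) * ((1 : A) ⊗ₜ[ℤ] (u ^ (i * j))) * w) =
        (1 : A) ⊗ₜ[ℤ] (if i = 0 then (1 : KY) else 0) := by
  have hN : ((1 : A) ⊗ₜ[ℤ] (1 - u)) ^ (n + 1) = 0 := by
    rw [Algebra.TensorProduct.tmul_pow, hu, TensorProduct.tmul_zero]
  let θ := Lambda33.evalNil (R := A) ((1 : A) ⊗ₜ[ℤ] (1 - u)) n hN
  have hθu : θ (1 - PowerSeries.X) = (1 : A) ⊗ₜ[ℤ] u := by
    rw [map_sub, map_one, Lambda33.evalNil_X, TensorProduct.tmul_sub, Algebra.TensorProduct.one_def]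
    abel
  have hθb : θ (Lambda33.geom A j ^ (n + 1)) = (1 : A) ⊗ₜ[ℤ] b := by
    rw [map_pow, Lambda33.geom, map_sum, hb]
    simp only [map_pow, hθu, Algebra.TensorProduct.tmul_pow, one_pow, ← TensorProduct.tmul_sum]
  obtain ⟨gi, hgi⟩ : ∃ gi : PowerSeries A, gi * Lambda33.geom A j = 1 := by
    refine IsUnit.exists_left_inv (PowerSeries.isUnit_iff_constantCoeff.2 ?_)
    rwa [Lambda33.constantCoeff_geom]
  have hw0 : θ (gi ^ (n + 1)) * ((1 : A) ⊗ₜ[ℤ] b) = 1 := by
    rw [← hθb, ← map_mul, ← mul_pow, hgi, one_pow, map_one]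
  refine ⟨⟨_, hw0⟩, fun w hw i hi => ?_⟩
  have hw' : w = θ (gi ^ (n + 1)) := by
    linear_combination θ (gi ^ (n + 1)) * hw - w * hw0
  have hgx : ∀ k, k ≤ n → g ((1 - u) ^ k) = 1 := by
    intro k hk
    rw [sub_eq_neg_add, add_pow, map_sum, Finset.sum_eq_single 0]
    · simpa using hgu 0 (Nat.zero_le n)
    · intro m hm hm0
      rw [Finset.mem_range] at hm
      rw [neg_pow, one_pow, mul_one, show (-1 : KP) ^ m * u ^ m * (k.choose m : KP) =
        ((-1) ^ m * (k.choose m : ℤ) : ℤ) • u ^ m by rw [zsmul_eq_mul]; push_cast; ring,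
        map_zsmul, hgu m (by omega), if_neg hm0, smul_zero]
    · simp
  rw [hw', show ((j : A ⊗[ℤ] KP) * ((1 : A) ⊗ₜ[ℤ] (u ^ (i * j)))) * θ (gi ^ (n + 1)) =
    θ ((j : PowerSeries A) * (1 - PowerSeries.X) ^ (i * j) * gi ^ (n + 1)) by
      rw [map_mul θ, map_mul θ, map_natCast, map_pow θ (1 - PowerSeries.X), hθu,
        Algebra.TensorProduct.tmul_pow, one_pow],
    Lambda33.evalNil_eq_sum, map_sum]
  refine (Finset.sum_congr rfl fun k hk => show _ = PowerSeries.coeff k
      ((j : PowerSeries A) * (1 - PowerSeries.X) ^ (i * j) * gi ^ (n + 1)) ⊗ₜ[ℤ] (1 : KY) by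
        rw [LinearMap.lTensor_tmul]
        exact congrArg _ (hgx k (Nat.lt_succ_iff.1 (Finset.mem_range.1 hk)))).trans ?_
  rw [← TensorProduct.sum_tmul, Lambda33.sum_coeff_core n j i hj hi gi hgi]
  split <;> simp

variable [IsNoetherian Y] [LambdaRing.LambdaOps KY] {PY : LambdaRing.PosStructure KY} {φY : SGA6.Kvb Y →+ KY}

/-- Adams Riemann–Roch on the span of the powers of the tautological line. -/
theorem main_gen (hKP : KRR.IsModel (KRR.PY n Y) KP PP φP) (hKY : KRR.IsModel Y KY PY φY) (g : KP →+ KY)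
    {q : KY →+ KP} (hq : KRR.IsPull (KRR.pr n Y) φY φP q) (hgq : ∀ x y, g (x * q y) = g x * y)
    {A : Type*} [CommRing A] {j : ℕ} (hj : 1 ≤ j)
    (hgu : ∀ i, i ≤ n → g (t φP (-1) ^ i) = if i = 0 then 1 else 0) {w : A ⊗[ℤ] KP}
    (hval : ∀ i, i ≤ n → LinearMap.lTensor A g.toIntLinearMap ((j : A ⊗[ℤ] KP) * ((1 : A) ⊗ₜ[ℤ] (t φP (-1) ^ (i * j))) * w) =
      (1 : A) ⊗ₜ[ℤ] (if i = 0 then (1 : KY) else 0)) (z : KP) :
    (1 : A) ⊗ₜ[ℤ] LambdaRing.adams PY j (g z) =
      LinearMap.lTensor A g.toIntLinearMap ((j : A ⊗[ℤ] KP) * ((1 : A) ⊗ₜ[ℤ] LambdaRing.adams PP j z) * w) := by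
  set u := t φP (-1) with hu
  induction span hKP hq z using AddSubgroup.closure_induction with
  | mem z hz =>
    obtain ⟨y, i, hi, rfl⟩ := hz
    have hadY := Lambda.adams_eq_adamsOp PY hj
    have hadP := Lambda.adams_eq_adamsOp PP hj
    have hψ : LambdaRing.adams PP j (q y * u ^ i) = q (LambdaRing.adams PY j y) * u ^ (i * j) := by
      rw [hadP, hadY, mul_comm (q y), t_neg_pow hKP, adamsOp_line_mul hKP
        (ProjFibre.isInvertible_twistOver _) _ hj,
        show φP (KRR.cl (KRR.PY n Y) (Twist.twistOver n Y (-(i : ℤ)))) = u ^ i from (t_neg_pow hKP i).symm,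
        ← pow_mul, mul_comm]
      exact congrArg (· * _) (Lambda.map_adamsOp (pullHom hKP hKY hq) (pull_lam hKP hKY hq) j y).symm
    rw [hψ, mul_comm (q y), hgq, hgu i hi,
      show (1 : A) ⊗ₜ[ℤ] (q (LambdaRing.adams PY j y) * u ^ (i * j)) =
        ((1 : A) ⊗ₜ[ℤ] (u ^ (i * j))) * (1 ⊗ₜ[ℤ] q (LambdaRing.adams PY j y)) by
        rw [Algebra.TensorProduct.tmul_mul_tmul, one_mul, mul_comm],
      ← mul_assoc (j : A ⊗[ℤ] KP), mul_right_comm _ _ w,
      lTensor_mul g q hgq, hval i hi, Algebra.TensorProduct.tmul_mul_tmul, one_mul]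
    split
    · rw [one_mul, one_mul]
    · rw [zero_mul, zero_mul, Lambda.adams_eq_adamsOp PY hj, Lambda.adamsOp_zero_right]
  | zero =>
    rw [map_zero, Lambda.adams_eq_adamsOp PY hj, Lambda.adams_eq_adamsOp PP hj, Lambda.adamsOp_zero_right,
      Lambda.adamsOp_zero_right, TensorProduct.tmul_zero, TensorProduct.tmul_zero, mul_zero, zero_mul, map_zero]
  | add a b _ _ ha hb =>
    rw [map_add, Lambda.adams_add, Lambda.adams_add, TensorProduct.tmul_add, TensorProduct.tmul_add,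
      mul_add, add_mul, map_add, ha, hb]
  | neg a _ ha =>
    rw [map_neg, Lambda.adams_eq_adamsOp PY hj, Lambda.adams_eq_adamsOp PP hj, Lambda.adamsOp_neg,
      Lambda.adamsOp_neg, ← Lambda.adams_eq_adamsOp PY hj, ← Lambda.adams_eq_adamsOp PP hj,
      show (1 : A) ⊗ₜ[ℤ] (-LambdaRing.adams PP j a) = ((1 : A) ⊗ₜ[ℤ] LambdaRing.adams PP j a) * ((1 : A) ⊗ₜ[ℤ] q (-1)) by
        rw [Algebra.TensorProduct.tmul_mul_tmul, map_neg q, pull_one hKP hKY hq, one_mul, mul_neg, mul_one],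
      ← mul_assoc (j : A ⊗[ℤ] KP), mul_right_comm _ _ w, lTensor_mul g q hgq, ← ha,
      Algebra.TensorProduct.tmul_mul_tmul, one_mul, mul_neg, mul_one]


end Groth.Agent.S3752

set_option linter.style.haveILetI false
namespace Groth.Agent.S3752

open Groth.Agent Groth.Agent.Lib Groth.Agent.Lib.ExchangeFP29 Groth.Agent.Lib.ExchangeFP29.KPush TensorMod.Basic

/-- Adams Riemann–Roch for the projection p : P = Pⁿ_Y ⟶ Y: let S be an affine Noetherian scheme, Y
connected, Noetherian and quasi-projective over S, (KP, PP, φP) and (KY, PY, φY) models of K(P) and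
K(Y) as λ-rings with positive structure, and g = p_K : K(P) → K(Y) the push-forward ([F] ↦ [p_*F] on
regular finite locally free F). Fix j ≥ 1, put R = ℤ[1/j] and let q = [p^*O_Y^{n+1} ⊗ O_P(−1)] ∈
K(P) (the class of the cotangent module of p plus 1, by the Euler sequence), so that the usual Adams
Riemann–Roch multiplier θ^j(T_p^∨)^{−1} is j · θ^j(q)^{−1}, θ^j denoting the Bott cannibalistic
class. Then 1 ⊗ θ^j(q) is invertible in R ⊗ K(P) and, for every z ∈ K(P) and every inverse w of 1 ⊗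
θ^j(q): 1 ⊗ ψ^j(p_K z) = (R ⊗ p_K)(j · (1 ⊗ ψ^j z) · w) in R ⊗ K(Y). -/
theorem result (S : Scheme.{u}) [IsAffine S] [IsNoetherian S] (n : ℕ) (Y : Scheme.{u}) [IsNoetherian Y] [ConnectedSpace ↥Y] (qY : Y ⟶ S) (hqY : KRR.IsQProjOver qY)
    (KP : Type v) [CommRing KP] [LambdaRing.LambdaOps KP] (PP : LambdaRing.PosStructure KP) (φP : SGA6.Kvb (KRR.PY n Y) →+ KP) (hKP : KRR.IsModel (KRR.PY n Y) KP PP φP)
    (KY : Type v) [CommRing KY] [LambdaRing.LambdaOps KY] (PY : LambdaRing.PosStructure KY) (φY : SGA6.Kvb Y →+ KY) (hKY : KRR.IsModel Y KY PY φY)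
    (g : KP →+ KY) (hg : KRR.IsPushPr n Y φP φY g) (j : ℕ) (hj : 1 ≤ j) (z : KP)
    :
    (∃ w : TensorProduct ℤ (Localization.Away (j : ℤ)) KP, w * ((1 : Localization.Away (j : ℤ)) ⊗ₜ[ℤ] KRR.bott PP j (φP (KRR.cl (KRR.PY n Y)
      (KRR.twF n Y (-1) ((Scheme.Modules.pullback (KRR.pr n Y)).obj (FlatMod.freeMod Y (n + 1))))))) = 1) ∧
    ∀ w : TensorProduct ℤ (Localization.Away (j : ℤ)) KP, w * ((1 : Localization.Away (j : ℤ)) ⊗ₜ[ℤ] KRR.bott PP j (φP (KRR.cl (KRR.PY n Y)
      (KRR.twF n Y (-1) ((Scheme.Modules.pullback (KRR.pr n Y)).obj (FlatMod.freeMod Y (n + 1))))))) = 1 →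
    (1 : Localization.Away (j : ℤ)) ⊗ₜ[ℤ] LambdaRing.adams PY j (g z) =
      LinearMap.lTensor (Localization.Away (j : ℤ)) g.toIntLinearMap
        ((j : TensorProduct ℤ (Localization.Away (j : ℤ)) KP) * ((1 : Localization.Away (j : ℤ)) ⊗ₜ[ℤ] LambdaRing.adams PP j z) * w) := by
  obtain ⟨q, hq⟩ : ∃ q : KY →+ KP, KRR.IsPull (KRR.pr n Y) φY φP q := by
    obtain ⟨g₀, hg₀⟩ := Lib.KVec.Pull.exists_pull (KRR.pr n Y)
    refine ⟨φP.comp (g₀.comp (AddEquiv.ofBijective φY hKY.bijective).symm.toAddMonoidHom), fun E hE => ?_⟩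
    show φP (g₀ ((AddEquiv.ofBijective φY hKY.bijective).symm (AddEquiv.ofBijective φY hKY.bijective (KRR.cl Y E)))) = _
    rw [AddEquiv.symm_apply_apply]
    exact congrArg φP (hg₀ E hE)
  set u := t φP (-1) with hu
  have hj0 : (j : ℤ) ≠ 0 := by omega
  haveI : IsDomain (Localization.Away (j : ℤ)) := IsLocalization.isDomain_localization
    (powers_le_nonZeroDivisors_of_noZeroDivisors hj0)
  haveI : CharZero (Localization.Away (j : ℤ)) := charZero_of_injective_ringHom
    (f := algebraMap ℤ (Localization.Away (j : ℤ))) (IsLocalization.injective _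
      (powers_le_nonZeroDivisors_of_noZeroDivisors hj0))
  have hjA : IsUnit ((j : ℕ) : Localization.Away (j : ℤ)) := by
    have := IsLocalization.Away.algebraMap_isUnit (S := Localization.Away (j : ℤ)) (j : ℤ)
    simpa using this
  have hu0 := pow_one_sub_eq_zero hKP
  have hgu : ∀ i, i ≤ n → g (u ^ i) = if i = 0 then 1 else 0 := by
    intro i hi
    have h2 := TwistValue.value φY (g.comp φP) (fun F hF => hg F hF.1 hF.2) (-(i : ℤ)) (by omega)
    have hO : φP (KRR.cl (KRR.PY n Y) (TwistValue.O (n := n) (T := Y) (-(i : ℤ)))) = u ^ i := by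
      rw [t_neg_pow hKP, KAugNil98.Main.cl_iso (H73.RegSeq.twFIso (-(i : ℤ)) _).symm
        (Reg.B_tw _ (TwistPush.RB_one n Y).1), cl_twF hKP _ (TwistPush.RB_one n Y).1, hKP.map_one, mul_one]
    rw [AddMonoidHom.comp_apply, hO, hKY.map_one] at h2
    rw [h2]
    split_ifs with h
    · subst h; simp
    · rw [Nat.choose_eq_zero_of_lt (by omega), Nat.cast_zero, zero_smul]
  have hline : PP.IsLine u := ⟨(hKP.mem_pos_iff _).2 ⟨1, _, le_rfl, TensorMod.LocFree.of_isInvertible
      (ProjFibre.isInvertible_twistOver (-1)), rfl⟩, hKP.aug_cl 1 _ (TensorMod.LocFree.of_isInvertible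
      (ProjFibre.isInvertible_twistOver (-1)))⟩
  have he : φP (KRR.cl (KRR.PY n Y) (KRR.twF n Y (-1) ((Scheme.Modules.pullback (KRR.pr n Y)).obj
      (FlatMod.freeMod Y (n + 1))))) = (Multiset.replicate (n + 1) u).sum := by
    obtain ⟨hf, hc⟩ := Lib.KVec.Ample.cl_freeMod (X := Y) (n + 1)
    rw [cl_twF hKP _ (TensorMod.LocFree.isFinLocFree_pullback _ hf), ← hq _ hf, hc, map_nsmul,
      map_nsmul, hKY.map_one, pull_one hKP hKY hq, mul_smul_comm, mul_one, Multiset.sum_replicate]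
  rw [he]
  have hb : KRR.bott PP j (Multiset.replicate (n + 1) u).sum =
      (∑ a ∈ Finset.range j, u ^ a) ^ (n + 1) := by
    have := Lambda.ARR.bott_image (RingHom.id KP) PP j (Multiset.replicate (n + 1) u).sum (m := n + 1)
      (by simp [hline.2]; omega) (fun _ => u) (fun i _ => by
        rw [RingHom.id_apply, Lambda.lam_sum_lineLike _ (fun v hv => by
          rw [Multiset.eq_of_mem_replicate hv]; exact Lambda.IsLine.lineLike PP hline)]
        simp [Multiset.map_const'])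
    simpa using this
  obtain ⟨hex, hval⟩ := core (A := Localization.Away (j : ℤ)) g hu0 hgu j hj hjA _ hb
  exact ⟨hex, fun w hw => main_gen hKP hKY g hq (Groth.Agent.S3762.result n Y KP PP φP hKP KY PY φY hKY g hg q hq)
    hj hgu (hval w hw) z⟩

end Groth.Agent.S3752
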