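import Groth.Statements.S3754
import Groth.Agent.S19428

set_option autoImplicit false
universe v u
open CategoryTheory CategoryTheory.Limits AlgebraicGeometry
attribute [local instance] HasDerivedCategory.standard
open KRR

namespace Groth.Agent.S3754

/-- Let Y be a Noetherian scheme, p : P = P^n_Y ⟶ Y the projection, and F a coherent O_P-module which is
regular in the sense of Castelnuovo and Mumford relative to p (R^i p_*(F(-i)) = 0 for all i ≥ 1,
higher direct images of the underlying abelian sheaves). Then F(m) = O(m) ⊗ F is regular for every m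
≥ 0, and R^i p_* F = 0 for all i ≥ 1. -/
theorem result (n : ℕ) (Y : Scheme.{u}) [IsNoetherian Y]
    (F : (KRR.PY n Y).Modules) (hF : Coh.IsCoh F) (hreg : KRR.IsRegSheaf n Y F) :
    (∀ m : ℕ, KRR.IsRegSheaf n Y (KRR.twF n Y (m : ℤ) F)) ∧
    ∀ i : ℕ, 1 ≤ i → IsZero ((Coh.RpushAb (KRR.pr n Y) i).obj (Coh.toAb F)) := by
  refine ⟨fun m => Groth.Agent.S19428.result n Y F hF.1 hreg m, fun i hi => ?_⟩
  refine H73.RegSeq.isZero_congr i (Lib.TensorMod.Basic.tensorIso (Iso.refl F) H73.RegSeq.overZero ≪≫
    Lib.TensorMod.Basic.rightUnit F) ?_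
  exact Lib.H70.KRRReg.Local.isZero_Rp_of_le hF.1 hreg i hi 0 (by omega)

end Groth.Agent.S3754
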