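import Groth.Statements.S3756
import Groth.Agent.Lib.Exchange.Grauert
import Groth.Agent.Lib.Exchange.LocalRep
import Groth.Agent.Lib.DerivedOX.Grothendieck
import Groth.Agent.Lib.ProjSpace.BaseChange
import Groth.Agent.Lib.Perfect.Coherent
import Groth.Agent.Lib.H70.KRRReg.Local
import Groth.Agent.S3754
import Groth.Agent.Lib.Exchange.NearFibre
-- import your own Groth.Agent.* helpers here

set_option autoImplicit false
universe v u
open CategoryTheory CategoryTheory.Limits AlgebraicGeometry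
attribute [local instance] HasDerivedCategory.standard
open KRR

namespace Groth.Agent.S3756

open Groth.Agent.Lib in
open ZarCoh.Exchange.Local (AV XV MV) in
theorem finLocFree_push {X Y : Scheme.{u}} (f : X ⟶ Y) [IsProper f] [IsNoetherian Y] {M : X.Modules}
    (hM : Coh.IsCoh M) (hfl : FlatMod.IsFlatOver f M)
    (h0 : ∀ q : ℕ, IsZero ((Coh.RpushAb f (q + 1)).obj (Coh.toAb M))) :
    FlatMod.IsFinLocFree ((Coh.push f).obj M) := by
  haveI : HasInjectiveResolutions X.Modules :=
    haveI := DerivedOX.Grothendieck.enoughInjectives_modules X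
    inferInstance
  intro y
  obtain ⟨V, hV, hyV, -⟩ := exists_isAffineOpen_mem_and_subset (X := Y) (x := y) (U := ⊤) trivial
  haveI : IsAffine (V : Scheme.{u}) := hV
  haveI : IsNoetherianRing (AV V) :=
    IsLocallyNoetherian.component_noetherian ⟨⊤, isAffineOpen_top (V : Scheme.{u})⟩
  haveI := hM.1
  haveI : HasInjectiveResolutions (XV f V).Modules :=
    haveI := DerivedOX.Grothendieck.enoughInjectives_modules (XV f V)
    inferInstance
  have hv : ∀ q : ℕ, Subsingleton (Coh.HH (XV f V) (MV f V M) (q + 1)) := fun q => by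
    have h := CohDelta.SerreRel.hn_eq_zero f M hM.1 q (h0 q) hV
    have e := ZarCoh.Morph.openEquiv (f ⁻¹ᵁ V).ι M (q + 1)
    rw [Scheme.Hom.image_top_eq_opensRange, Scheme.Opens.opensRange_ι] at e
    exact e.toEquiv.subsingleton_congr.2 h
  obtain ⟨b, P, h1, h2, h3, h4, h5⟩ := ZarCoh.Exchange.LocalRep.exists_rep f V M hM hfl
  have hG : ZarCoh.Exchange.Grauert.Good P := ⟨fun i => ⟨h2 i, haveI := h3 i; inferInstance⟩, ⟨b, h1⟩, h4⟩
  have hQ := hG.flat_Q_all fun j hj => by
    obtain ⟨q, rfl⟩ : ∃ q : ℕ, j = -((q + 1 : ℕ) : ℤ) := ⟨(-j - 1).toNat, by omega⟩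
    obtain ⟨⟨s⟩, -⟩ := h5 (q + 1)
    obtain ⟨e⟩ := ZarCoh.Exchange.Local.nonempty_linearEquiv_succ f V (M := M) q
    haveI := hv q
    haveI : Subsingleton (P.homology (-((q + 1 : ℕ) : ℤ))) := (s.symm.trans e).toEquiv.subsingleton
    infer_instance
  obtain ⟨⟨s⟩, hr⟩ := h5 0
  obtain ⟨U, hyU, ⟨iU⟩⟩ := ZarCoh.Exchange.Free.exists_free_nhd_of_exact f M hM V P hG.fin 0 s hr
    (hG.exact_of_flat _ (hQ _) (hQ _)) y hyV
  haveI : (Scheme.Modules.pushforward f).IsRightAdjoint :=
    (Scheme.Modules.pullbackPushforwardAdjunction f).isRightAdjoint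
  haveI : PreservesLimitsOfSize.{0, 0} (Scheme.Modules.pushforward f) :=
    (Scheme.Modules.pullbackPushforwardAdjunction f).rightAdjoint_preservesLimits
  haveI : PreservesFiniteLimits (Scheme.Modules.pushforward f) :=
    PreservesLimitsOfSize.preservesFiniteLimits _
  let i : (Coh.Rpush f 0).obj M ≅ (Scheme.Modules.pushforward f).obj M :=
    (@asIso _ _ _ _ _ (NatIso.isIso_app_of_isIso (Scheme.Modules.pushforward f).toRightDerivedZero M)).symm
  exact ⟨U, _, hyU, ⟨((Scheme.Modules.restrictFunctor U.ι).mapIso i).symm ≪≫ iU⟩⟩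

/-- Let Y be a Noetherian scheme, p : P = P^n_Y ⟶ Y, and F a finite locally free O_P-module which is
regular relative to p. Then p_* F is a finite locally free O_Y-module. -/
theorem result (n : ℕ) (Y : Scheme.{u}) [IsNoetherian Y]
    (F : (KRR.PY n Y).Modules) (hF : FlatMod.IsFinLocFree F) (hreg : KRR.IsRegSheaf n Y F) :
    FlatMod.IsFinLocFree ((Scheme.Modules.pushforward (KRR.pr n Y)).obj F) := by
  haveI : IsProper (KRR.pr n Y) := Groth.Agent.Lib.ProjSpace.BaseChange.isProper_toBase n Y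
  haveI : Smooth (KRR.pr n Y) := Groth.Agent.Lib.ProjSpace.BaseChange.smooth_toBase n Y
  haveI : Flat (KRR.pr n Y) := inferInstance
  haveI : IsLocallyNoetherian (KRR.PY n Y) := LocallyOfFiniteType.isLocallyNoetherian (KRR.pr n Y)
  have hc := Groth.Agent.Lib.Perfect.Coherent.isCoh_of_isFinLocFree hF
  exact finLocFree_push (KRR.pr n Y) hc
    (ZarCoh.Exchange.NearFibre.isFlatOver_of_isFinLocFree (KRR.pr n Y) hF)
    fun q => (Groth.Agent.S3754.result n Y F hc hreg).2 (q + 1) (by omega)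

end Groth.Agent.S3756
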