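import Groth.Statements.S3758
import Groth.Agent.Lib.ExchangeFP29.KPush.Push

set_option autoImplicit false
universe v u
open CategoryTheory CategoryTheory.Limits AlgebraicGeometry
attribute [local instance] HasDerivedCategory.standard
open KRR
open Groth.Agent.Lib Groth.Agent.Lib.ExchangeFP29 Groth.Agent.Lib.ExchangeFP29.KPush

namespace Groth.Agent.S3758

/-- Let Y be a Noetherian scheme and P = P^n_Y. The homomorphism from K₀ of the regular (relative to P ⟶
Y) finite locally free O_P-modules to K₀ of all finite locally free O_P-modules, induced by the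
inclusion (recorded by the argument h), is bijective. -/
theorem result (n : ℕ) (Y : Scheme.{u}) [IsNoetherian Y]
    (h : ∀ M : (KRR.PY n Y).Modules, FlatMod.IsFinLocFree M ∧ KRR.IsRegSheaf n Y M → FlatMod.IsFinLocFree M) :
    Function.Bijective (SGA6.mapSub (𝟭 (KRR.PY n Y).Modules)
      (fun M : (KRR.PY n Y).Modules => FlatMod.IsFinLocFree M ∧ KRR.IsRegSheaf n Y M) (KRR.vbP (KRR.PY n Y)) h) := by
  have hadd : Reg.IsAdd (n := n) (T := Y) (fun F => KZero.clSub
      (fun M : (KRR.PY n Y).Modules => FlatMod.IsFinLocFree M ∧ KRR.IsRegSheaf n Y M) F) := by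
    intro S hS h1 h2 h3
    simp only [KZero.clSub, h1, h2, h3, dite_true, and_self]
    rw [← QuotientAddGroup.mk_add, QuotientAddGroup.eq]
    have : FreeAbelianGroup.of (⟨S.X₂, h2⟩ : Subtype fun M : (KRR.PY n Y).Modules =>
          FlatMod.IsFinLocFree M ∧ KRR.IsRegSheaf n Y M) -
        FreeAbelianGroup.of ⟨S.X₁, h1⟩ - FreeAbelianGroup.of ⟨S.X₃, h3⟩ ∈
        KZero.relSub (fun M : (KRR.PY n Y).Modules =>
          FlatMod.IsFinLocFree M ∧ KRR.IsRegSheaf n Y M) :=
      AddSubgroup.subset_closure ⟨S, h1, h2, h3, hS, rfl⟩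
    convert (KZero.relSub _).neg_mem this using 1
    abel
  obtain ⟨g, hg⟩ := Ext.exists_extend hadd
  let m := SGA6.mapSub (𝟭 (KRR.PY n Y).Modules)
    (fun M : (KRR.PY n Y).Modules => FlatMod.IsFinLocFree M ∧ KRR.IsRegSheaf n Y M)
    (KRR.vbP (KRR.PY n Y)) h
  have hm : ∀ F (hF : FlatMod.IsFinLocFree F ∧ KRR.IsRegSheaf n Y F),
      m (KZero.clSub (fun M : (KRR.PY n Y).Modules =>
          FlatMod.IsFinLocFree M ∧ KRR.IsRegSheaf n Y M) F) = KRR.cl (KRR.PY n Y) F := by
    intro F hF
    simp only [KRR.cl, KZero.clSub, hF, KRR.vbP, hF.1, dite_true, and_self]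
    rfl
  have h1 : g.comp m = AddMonoidHom.id _ := by
    refine QuotientAddGroup.addMonoidHom_ext _ (FreeAbelianGroup.lift_ext _ _ ?_)
    rintro ⟨F, hF⟩
    have e : (QuotientAddGroup.mk (FreeAbelianGroup.of ⟨F, hF⟩) : KZero.K0sub _) =
        KZero.clSub (fun M : (KRR.PY n Y).Modules =>
          FlatMod.IsFinLocFree M ∧ KRR.IsRegSheaf n Y M) F := by
      simp only [KZero.clSub, hF, dite_true, and_self]
    show g (m (QuotientAddGroup.mk (FreeAbelianGroup.of ⟨F, hF⟩))) =
      QuotientAddGroup.mk (FreeAbelianGroup.of ⟨F, hF⟩)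
    rw [e, hm F hF]
    exact hg F hF
  have h2 : m.comp g = AddMonoidHom.id _ := Ext.hom_ext fun F hF => by
    show m (g _) = _
    rw [hg F hF]
    exact hm F hF
  exact ⟨Function.LeftInverse.injective (g := g) (DFunLike.congr_fun h1),
    Function.RightInverse.surjective (g := g) (DFunLike.congr_fun h2)⟩

end Groth.Agent.S3758
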