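import Groth.Statements.S3760
import Groth.Agent.Lib.ExchangeFP29.KPush.TwistValue

set_option autoImplicit false
universe v u
open CategoryTheory CategoryTheory.Limits AlgebraicGeometry
attribute [local instance] HasDerivedCategory.standard
open KRR
open Groth.Agent.Lib Groth.Agent.Lib.ExchangeFP29 Groth.Agent.Lib.ExchangeFP29.KPush

namespace Groth.Agent.S3760

/-- f_K[O(m)] = [Sym^m E] for m ≥ 0, here with E = O_Y^{n+1}: let Y be a connected Noetherian scheme, p
: P = P^n_Y ⟶ Y, with models of K(P), K(Y) and g = p_K. Then for every m ≥ 0, p_K [O_P(m)] = C(n+m,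
m) · 1 in K(Y) (the class of Sym^m of a free module of rank n+1). Here O_P(m) is written O(m) ⊗ O_P. -/
theorem result (n : ℕ) (Y : Scheme.{u}) [IsNoetherian Y] [ConnectedSpace ↥Y]
    (KP : Type v) [CommRing KP] [LambdaRing.LambdaOps KP] (PP : LambdaRing.PosStructure KP) (φP : SGA6.Kvb (KRR.PY n Y) →+ KP) (hKP : KRR.IsModel (KRR.PY n Y) KP PP φP)
    (KY : Type v) [CommRing KY] [LambdaRing.LambdaOps KY] (PY : LambdaRing.PosStructure KY) (φY : SGA6.Kvb Y →+ KY) (hKY : KRR.IsModel Y KY PY φY)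
    (g : KP →+ KY) (hg : KRR.IsPushPr n Y φP φY g) (m : ℕ) :
    g (φP (KRR.cl (KRR.PY n Y) (KRR.twF n Y (m : ℤ) (Coh.structureModule (KRR.PY n Y))))) = (Nat.choose (n + m) m : KY) := by
  have h1 : KRR.cl (KRR.PY n Y) (KRR.twF n Y (m : ℤ) (Coh.structureModule (KRR.PY n Y))) =
      KRR.cl (KRR.PY n Y) (TwistValue.O (n := n) (T := Y) (m : ℤ)) :=
    (KAugNil98.Main.cl_iso (Groth.Agent.H73.RegSeq.twFIso (m : ℤ) _).symm
      (Reg.B_tw _ (TwistPush.RB_one n Y).1)).symm
  have h2 := TwistValue.value φY (g.comp φP) (fun F hF => hg F hF.1 hF.2) (m : ℤ) (by omega)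
  rw [h1]
  refine h2.trans ?_
  rw [hKY.map_one, show ((m : ℤ) + (n : ℤ)).toNat = m + n by omega, natCast_zsmul, nsmul_one,
    Nat.add_comm m n, Nat.choose_symm_add]

end Groth.Agent.S3760
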