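import Groth.Statements.S3761
import Groth.Agent.Lib.ExchangeFP29.KPush.TwistValue

set_option autoImplicit false
universe v u
open CategoryTheory CategoryTheory.Limits AlgebraicGeometry
attribute [local instance] HasDerivedCategory.standard
open KRR
open Groth.Agent.Lib Groth.Agent.Lib.ExchangeFP29 Groth.Agent.Lib.ExchangeFP29.KPush

namespace Groth.Agent.S3761

/-- Let Y be a connected Noetherian scheme and p : P = Pⁿ_Y ⟶ Y projective n-space over Y; fix models of
the λ-rings K(P) and K(Y) (receiving the classes of finite locally free modules) and let g = p_K :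
K(P) → K(Y) be the push-forward along p (g[F] = [p_* F] for every regular finite locally free F).
Then p_K [O_P(−i)] = 0 for 1 ≤ i ≤ n. -/
theorem result (n : ℕ) (Y : Scheme.{u}) [IsNoetherian Y] [ConnectedSpace ↥Y]
    (KP : Type v) [CommRing KP] [LambdaRing.LambdaOps KP] (PP : LambdaRing.PosStructure KP) (φP : SGA6.Kvb (KRR.PY n Y) →+ KP) (hKP : KRR.IsModel (KRR.PY n Y) KP PP φP)
    (KY : Type v) [CommRing KY] [LambdaRing.LambdaOps KY] (PY : LambdaRing.PosStructure KY) (φY : SGA6.Kvb Y →+ KY) (hKY : KRR.IsModel Y KY PY φY)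
    (g : KP →+ KY) (hg : KRR.IsPushPr n Y φP φY g) (i : ℕ) (hi : 1 ≤ i) (hin : i ≤ n) :
    g (φP (KRR.cl (KRR.PY n Y) (KRR.twF n Y (-(i : ℤ)) (Coh.structureModule (KRR.PY n Y))))) = 0 := by
  have h1 : KRR.cl (KRR.PY n Y) (KRR.twF n Y (-(i : ℤ)) (Coh.structureModule (KRR.PY n Y))) =
      KRR.cl (KRR.PY n Y) (TwistValue.O (n := n) (T := Y) (-(i : ℤ))) :=
    (KAugNil98.Main.cl_iso (Groth.Agent.H73.RegSeq.twFIso (-(i : ℤ)) _).symm
      (Reg.B_tw _ (TwistPush.RB_one n Y).1)).symm
  have h2 := TwistValue.value φY (g.comp φP) (fun F hF => hg F hF.1 hF.2) (-(i : ℤ)) (by omega)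
  rw [h1]
  refine h2.trans ?_
  rw [Nat.choose_eq_zero_of_lt (by omega), Nat.cast_zero, zero_smul]

end Groth.Agent.S3761
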