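import Groth.Statements.S3768
import Groth.Agent.Lib.KVec.PushComp

set_option autoImplicit false
universe v u
open CategoryTheory CategoryTheory.Limits AlgebraicGeometry
attribute [local instance] HasDerivedCategory.standard
open KRR

namespace Groth.Agent.S3768

/-- Let Y, Z be connected Noetherian schemes such that every coherent module on Y, Z, on each P^a over
them and on each P^a over P^b over them is a quotient of a finite locally free one. Let f = i ≫ p :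
X ⟶ Y and g = j ≫ q : Y ⟶ Z be regular morphisms factored through P^n_Y and P^m_Z (i, j regular
closed imbeddings; X connected), and let f ≫ g = k ≫ r be a factorization through P^l_Z with k a
regular closed imbedding. With models and push-forwards as before: (r_K ∘ k_K) = (q_K ∘ j_K) ∘ (p_K
∘ i_K). -/
theorem result (n m l : ℕ) {X Y Z : Scheme.{u}} [IsNoetherian Y] [ConnectedSpace ↥Y] (hYe : KRR.HasEnoughLocFree Y) [IsNoetherian Z] [ConnectedSpace ↥Z] (hZe : KRR.HasEnoughLocFree Z)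
    (hstarY : ∀ a : ℕ, KRR.HasEnoughLocFree (KRR.PY a Y) ∧ ∀ b : ℕ, KRR.HasEnoughLocFree (KRR.PY a (KRR.PY b Y)))
    (hstarZ : ∀ a : ℕ, KRR.HasEnoughLocFree (KRR.PY a Z) ∧ ∀ b : ℕ, KRR.HasEnoughLocFree (KRR.PY a (KRR.PY b Z)))
    [ConnectedSpace ↥X] (f : X ⟶ Y) (g : Y ⟶ Z)
    (i : X ⟶ KRR.PY n Y) (hi : Mor2.IsRegularClosedImmersion i) (hf : i ≫ KRR.pr n Y = f)
    (j : Y ⟶ KRR.PY m Z) (hj : Mor2.IsRegularClosedImmersion j) (hg : j ≫ KRR.pr m Z = g)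
    (k : X ⟶ KRR.PY l Z) (hk : Mor2.IsRegularClosedImmersion k) (hfg : k ≫ KRR.pr l Z = f ≫ g)
    (KX : Type v) [CommRing KX] [LambdaRing.LambdaOps KX] (PX : LambdaRing.PosStructure KX) (φX : SGA6.Kvb X →+ KX) (hKX : KRR.IsModel X KX PX φX)
    (KY : Type v) [CommRing KY] [LambdaRing.LambdaOps KY] (PY : LambdaRing.PosStructure KY) (φY : SGA6.Kvb Y →+ KY) (hKY : KRR.IsModel Y KY PY φY)
    (KZ : Type v) [CommRing KZ] [LambdaRing.LambdaOps KZ] (PZ : LambdaRing.PosStructure KZ) (φZ : SGA6.Kvb Z →+ KZ) (hKZ : KRR.IsModel Z KZ PZ φZ)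
    (K₁ : Type v) [CommRing K₁] [LambdaRing.LambdaOps K₁] (P₁ : LambdaRing.PosStructure K₁) (φ₁ : SGA6.Kvb (KRR.PY n Y) →+ K₁) (hK₁ : KRR.IsModel (KRR.PY n Y) K₁ P₁ φ₁)
    (K₂ : Type v) [CommRing K₂] [LambdaRing.LambdaOps K₂] (P₂ : LambdaRing.PosStructure K₂) (φ₂ : SGA6.Kvb (KRR.PY m Z) →+ K₂) (hK₂ : KRR.IsModel (KRR.PY m Z) K₂ P₂ φ₂)
    (K₃ : Type v) [CommRing K₃] [LambdaRing.LambdaOps K₃] (P₃ : LambdaRing.PosStructure K₃) (φ₃ : SGA6.Kvb (KRR.PY l Z) →+ K₃) (hK₃ : KRR.IsModel (KRR.PY l Z) K₃ P₃ φ₃)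
    (a₁ : KX →+ K₁) (ha₁ : KRR.IsPushCl i φX φ₁ a₁) (b₁ : K₁ →+ KY) (hb₁ : KRR.IsPushPr n Y φ₁ φY b₁)
    (a₂ : KY →+ K₂) (ha₂ : KRR.IsPushCl j φY φ₂ a₂) (b₂ : K₂ →+ KZ) (hb₂ : KRR.IsPushPr m Z φ₂ φZ b₂)
    (a₃ : KX →+ K₃) (ha₃ : KRR.IsPushCl k φX φ₃ a₃) (b₃ : K₃ →+ KZ) (hb₃ : KRR.IsPushPr l Z φ₃ φZ b₃) :
    b₃.comp a₃ = (b₂.comp a₂).comp (b₁.comp a₁) := by
  obtain ⟨hne, -⟩ := hstarY n
  obtain ⟨hme, -⟩ := hstarZ m
  obtain ⟨hle, -⟩ := hstarZ l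
  haveI := hi.1
  haveI : IsNoetherian X := Lib.KVec.MeetRegularly.isNoetherian_closed i
  have hw : k ≫ KRR.pr l Z = (i ≫ KRR.pr n Y ≫ j) ≫ KRR.pr m Z := by
    rw [hfg, ← hf, ← hg]
    simp only [Category.assoc]
  let e₂ := AddEquiv.ofBijective φ₂ hK₂.bijective
  let eY := AddEquiv.ofBijective φY hKY.bijective
  let eZ := AddEquiv.ofBijective φZ hKZ.bijective
  let A : SGA6.Kvb Y →+ SGA6.Kvb (KRR.PY m Z) := e₂.symm.toAddMonoidHom.comp (a₂.comp φY)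
  let B₁ : SGA6.Kvb (KRR.PY n Y) →+ SGA6.Kvb Y := eY.symm.toAddMonoidHom.comp (b₁.comp φ₁)
  let B₂ : SGA6.Kvb (KRR.PY m Z) →+ SGA6.Kvb Z := eZ.symm.toAddMonoidHom.comp (b₂.comp φ₂)
  let B₃ : SGA6.Kvb (KRR.PY l Z) →+ SGA6.Kvb Z := eZ.symm.toAddMonoidHom.comp (b₃.comp φ₃)
  have hA : ∀ E, FlatMod.IsFinLocFree E →
      A (KRR.cl Y E) = Lib.KVec.PushCl.χcl hme ((Scheme.Modules.pushforward j).obj E) := fun E hE => by
    show e₂.symm (a₂ (φY _)) = _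
    rw [Lib.KVec.PushCl.pushCl_apply hme j ha₂ hE (Lib.KVec.PushBPD.bpd_push j hj hE)]
    exact e₂.symm_apply_apply _
  have hB₁ : Lib.KVec.PushIndep.IsPr n Y B₁ := fun G hG hR => by
    show eY.symm (b₁ (φ₁ _)) = _
    rw [hb₁ G hG hR]
    exact eY.symm_apply_apply _
  have hB₂ : Lib.KVec.PushIndep.IsPr m Z B₂ := fun G hG hR => by
    show eZ.symm (b₂ (φ₂ _)) = _
    rw [hb₂ G hG hR]
    exact eZ.symm_apply_apply _
  have hB₃ : Lib.KVec.PushIndep.IsPr l Z B₃ := fun G hG hR => by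
    show eZ.symm (b₃ (φ₃ _)) = _
    rw [hb₃ G hG hR]
    exact eZ.symm_apply_apply _
  refine AddMonoidHom.ext fun x => ?_
  obtain ⟨z, rfl⟩ := hKX.bijective.2 x
  refine DFunLike.congr_fun (Lib.KRes.KSub.hom_ext (P := KRR.vbP X) (φ := (b₃.comp a₃).comp φX)
    (ψ := ((b₂.comp a₂).comp (b₁.comp a₁)).comp φX) fun F hF => ?_) z
  show b₃ (a₃ (φX (KRR.cl X F))) = b₂ (a₂ (b₁ (a₁ (φX (KRR.cl X F)))))
  rw [Lib.KVec.PushCl.pushCl_apply hne i ha₁ hF (Lib.KVec.PushBPD.bpd_push i hi hF),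
    Lib.KVec.PushCl.pushCl_apply hle k ha₃ hF (Lib.KVec.PushBPD.bpd_push k hk hF)]
  apply eZ.symm.injective
  have h := (Lib.KVec.PushComp.comp i j k hw hne hme hle hi hj hk hA hB₁ hB₂ hB₃ hF).symm
  refine h.trans ?_
  show eZ.symm (b₂ (φ₂ (e₂.symm (a₂ (φY (eY.symm _)))))) = _
  rw [show ∀ w, φY (eY.symm w) = w from eY.apply_symm_apply, show ∀ w, φ₂ (e₂.symm w) = w from e₂.apply_symm_apply]
  rfl

end Groth.Agent.S3768
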