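import Groth.Statements.S3783
import Groth.Agent.Lib.ExchangeFP29.KPush.ModelPush

set_option autoImplicit false
universe v u
open CategoryTheory CategoryTheory.Limits AlgebraicGeometry
attribute [local instance] HasDerivedCategory.standard
open KRR
open Groth.Agent.Lib Groth.Agent.Lib.ExchangeFP29.KPush

namespace Groth.Agent.S3783

/-- For P = P^n_Y: let Y be a connected Noetherian scheme, p : P^n_Y ⟶ Y, with models of K(P), K(Y)
having the splitting property and q = p^K the pull-back. Then for every k, an element y ∈ K(Y) lies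
in F^k K(Y) if and only if p^K y lies in F^k K(P) (γ-filtrations). -/
theorem result (n : ℕ) (Y : Scheme.{u}) [IsNoetherian Y] [ConnectedSpace ↥Y]
    (KP : Type v) [CommRing KP] [LambdaRing.LambdaOps KP] (PP : LambdaRing.PosStructure KP) (φP : SGA6.Kvb (KRR.PY n Y) →+ KP) (hKP : KRR.IsModel (KRR.PY n Y) KP PP φP) (hsP : LambdaRing.HasSplitting KP PP)
    (KY : Type v) [CommRing KY] [LambdaRing.LambdaOps KY] (PY : LambdaRing.PosStructure KY) (φY : SGA6.Kvb Y →+ KY) (hKY : KRR.IsModel Y KY PY φY) (hsY : LambdaRing.HasSplitting KY PY)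
    (q : KY →+ KP) (hq : KRR.IsPull (KRR.pr n Y) φY φP q) (k : ℕ) :
    (LambdaRing.gammaFiltration PP k).comap q = LambdaRing.gammaFiltration PY k := by
  obtain ⟨qh, hqh⟩ := ModelP.exists_pullHom hKP hKY hq
  obtain rfl : qh.toAddMonoidHom = q := AddMonoidHom.ext hqh
  obtain ⟨g, hg, -⟩ := S3798.result n Y KP PP φP hKP KY PY φY hKY
  ext y
  constructor
  · exact fun h => ModelPush.mem_of_pull_mem hKP hKY hg hq h
  · exact fun h => Lambda.map_gammaFiltration_le qh (ModelPush.isLambdaHom_pull hKP hKY hq)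
      (ModelP.aug_pull hKP hKY hq) h

end Groth.Agent.S3783
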