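import Groth.Statements.S3786
import Groth.Agent.Lib.ExchangeFP29.KPush.Coh

set_option autoImplicit false
set_option linter.style.haveILetI false
universe v u
open CategoryTheory CategoryTheory.Limits AlgebraicGeometry
attribute [local instance] HasDerivedCategory.standard
open KRR
open Groth.Agent.Lib Groth.Agent.Lib.ExchangeFP29 Groth.Agent.Lib.ExchangeFP29.KPush

namespace Groth.Agent.S3786

/-- Let Y be a connected Noetherian scheme in which every coherent module on Y and on P^n_Y is a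
quotient of a finite locally free one, and f = i ≫ p : X ⟶ Y with i : X ⟶ P^n_Y a regular closed
imbedding (X connected) and p the projection. Let δ_X : K₀(bundles on X) ⟶ K₀(Coh X) and δ_Y be the
maps induced by the inclusions (arguments hX, hY), f_K = p_K ∘ i_K the push-forward on K of bundles
(through models (KX, PX, φX), (KP, PP, φP), (KY, PY, φY)), and g the push-forward on K₀ of coherent
modules, g[F] = Σ_{i ≤ N} (-1)^i [R^i f_* F]. Then δ_Y ∘ f_K = g ∘ δ_X: for x ∈ K₀(bundles on X) and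
y ∈ K₀(bundles on Y) with φY y = f_K (φX x), δ_Y y = g (δ_X x). -/
theorem result (n : ℕ) {X Y : Scheme.{u}} [IsNoetherian X] [ConnectedSpace ↥X] [IsNoetherian Y] [ConnectedSpace ↥Y] (hYe : KRR.HasEnoughLocFree Y)
    (hPe : KRR.HasEnoughLocFree (KRR.PY n Y)) [HasInjectiveResolutions X.Modules]
    (i : X ⟶ KRR.PY n Y) (hi : Mor2.IsRegularClosedImmersion i)
    (hX : ∀ M : X.Modules, FlatMod.IsFinLocFree M → Coh.IsCoh M) (hY : ∀ M : Y.Modules, FlatMod.IsFinLocFree M → Coh.IsCoh M)
    (KX : Type v) [CommRing KX] [LambdaRing.LambdaOps KX] (PX : LambdaRing.PosStructure KX) (φX : SGA6.Kvb X →+ KX) (hKX : KRR.IsModel X KX PX φX)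
    (KP : Type v) [CommRing KP] [LambdaRing.LambdaOps KP] (PP : LambdaRing.PosStructure KP) (φP : SGA6.Kvb (KRR.PY n Y) →+ KP) (hKP : KRR.IsModel (KRR.PY n Y) KP PP φP)
    (KY : Type v) [CommRing KY] [LambdaRing.LambdaOps KY] (PY : LambdaRing.PosStructure KY) (φY : SGA6.Kvb Y →+ KY) (hKY : KRR.IsModel Y KY PY φY)
    (a : KX →+ KP) (ha : KRR.IsPushCl i φX φP a) (b : KP →+ KY) (hb : KRR.IsPushPr n Y φP φY b)
    (N : ℕ) (g : SGA6.Kcoh X →+ SGA6.Kcoh Y) (hg : KRR.IsPushCoh (i ≫ KRR.pr n Y) N g)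
    (x : SGA6.Kvb X) (y : SGA6.Kvb Y) (hxy : φY y = b (a (φX x))) :
    SGA6.mapSub (𝟭 Y.Modules) (KRR.vbP Y) (fun M : Y.Modules => Coh.IsCoh M) hY y =
      g (SGA6.mapSub (𝟭 X.Modules) (KRR.vbP X) (fun M : X.Modules => Coh.IsCoh M) hX x) := by
  classical
  haveI : IsClosedImmersion i := hi.1
  haveI : IsLocallyNoetherian (KRR.PY n Y) := LocallyOfFiniteType.isLocallyNoetherian (KRR.pr n Y)
  haveI : CompactSpace (KRR.PY n Y) := QuasiCompact.compactSpace_of_compactSpace (KRR.pr n Y)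
  haveI : AlgebraicGeometry.IsNoetherian (KRR.PY n Y) := ⟨⟩
  let δX := SGA6.mapSub (𝟭 X.Modules) (KRR.vbP X) (fun M : X.Modules => Coh.IsCoh M) hX
  let δY := SGA6.mapSub (𝟭 Y.Modules) (KRR.vbP Y) (fun M : Y.Modules => Coh.IsCoh M) hY
  have hδX : ∀ E : X.Modules, FlatMod.IsFinLocFree E → δX (KRR.cl X E) = KPush.Coh.cc E := fun E hE =>
    KRes.KSub.mapSub_cl (P := KRR.vbP X) (Q := fun M : X.Modules => Coh.IsCoh M) (𝟭 X.Modules) hX hE
  have hδY : ∀ E : Y.Modules, FlatMod.IsFinLocFree E → δY (KRR.cl Y E) = KPush.Coh.cc E := fun E hE =>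
    KRes.KSub.mapSub_cl (P := KRR.vbP Y) (Q := fun M : Y.Modules => Coh.IsCoh M) (𝟭 Y.Modules) hY hE
  let eY := AddEquiv.ofBijective φY hKY.bijective
  let F : KX →+ SGA6.Kcoh Y := (δY.comp eY.symm.toAddMonoidHom).comp (b.comp a)
  have hF : ∀ E : X.Modules, FlatMod.IsFinLocFree E →
      F (φX (KRR.cl X E)) = g (δX (KRR.cl X E)) := by
    intro E hE
    obtain ⟨N₀, L, π, hL⟩ := Devissage.LFResIff.hasLFRes_of_bpd hPe (KVec.PushBPD.bpd_push i hi hE)
    choose lv hlv using fun k => Ext.exists_lev (L.X k) (hL.finLocFree k)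
    let m₀ := (Finset.range (N₀ + 1)).sup lv
    let O : ℕ → X.Modules := fun k => (Scheme.Modules.pullback i).obj (Twist.twistOver n Y (k : ℤ))
    let E' : ℕ → X.Modules := fun k => CohB1.tensorMod E (O k)
    have hO : ∀ k, FlatMod.IsFinLocFree (O k) := fun k =>
      TensorMod.LocFree.isFinLocFree_pullback i (TensorMod.LocFree.of_rank
        (TensorMod.LocFree.of_isInvertible (ProjFibre.isInvertible_twistOver _)))
    have hE' : ∀ k, FlatMod.IsFinLocFree (E' k) := fun k =>
      TensorMod.LocFree.isFinLocFree_tensorMod hE (hO k)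
    let D : ℕ → SGA6.Kcoh Y := fun k => F (φX (KRR.cl X (E' k))) - g (δX (KRR.cl X (E' k)))
    have hfar : ∀ m, m₀ ≤ m → D m = 0 := by
      intro m hm
      have hreg : ∀ k, k ≤ N₀ → Reg.RB (Reg.tw (m : ℤ) (L.X k)) := fun k hk =>
        (Ext.lev_of_le (hlv k) ((Finset.le_sup (Finset.mem_range.2 (by omega))).trans hm)).2
      obtain ⟨hr, hsum⟩ := KPush.Coh.regular_and_sum hL m hreg
      obtain ⟨e⟩ := KPush.Coh.nonempty_projection i E (m : ℤ)
      obtain ⟨π', hL'⟩ := KPush.Coh.isLFRes_tw hL (m : ℤ) e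
      have h1 := ha (E' m) (hE' m) N₀ _ π' hL'
      have hL1 : F (φX (KRR.cl X (E' m))) = ∑ k ∈ Finset.range (N₀ + 1),
          (-1 : ℤ) ^ k • KPush.Coh.cc (KPush.Coh.push (Reg.tw (m : ℤ) (L.X k))) := by
        show δY (eY.symm (b (a (φX (KRR.cl X (E' m)))))) = _
        rw [h1, map_sum, map_sum, map_sum]
        refine Finset.sum_congr rfl fun k hk => ?_
        have hk' := hreg k (by rw [Finset.mem_range] at hk; omega)
        rw [map_zsmul, map_zsmul, map_zsmul]
        refine congrArg (((-1 : ℤ) ^ k) • ·) ?_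
        refine ((congrArg (fun z => δY (eY.symm z)) (hb _ hk'.1 hk'.2)).trans ?_)
        show δY (eY.symm (eY (KRR.cl Y _))) = _
        rw [AddEquiv.symm_apply_apply]
        exact hδY _ (Push.isFinLocFree_push hk')
      have hE'c : Coh.IsCoh (E' m) := hX _ (hE' m)
      haveI : (E' m).IsQuasicoherent := hE'c.1
      have hG : Coh.IsQCoh ((Scheme.Modules.pushforward i).obj (E' m)) :=
        (KVec.PushBPD.bpd_push i hi (hE' m)).1.1
      have hvan := KPush.Coh.isZero_Rpush_comp i (E' m) hG (Reg.reg_congr e hr)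
      obtain ⟨z⟩ := Main.nonempty_zeroIso (i ≫ KRR.pr n Y) (E' m)
      let i0 : (Coh.Rpush (i ≫ KRR.pr n Y) 0).obj (E' m) ≅
          KPush.Coh.push (Reg.tw (m : ℤ) ((Scheme.Modules.pushforward i).obj E)) :=
        z ≪≫ ((Scheme.Modules.pushforwardComp i (KRR.pr n Y)).app (E' m)).symm ≪≫
          (Scheme.Modules.pushforward (KRR.pr n Y)).mapIso e.symm
      have hL2 : g (δX (KRR.cl X (E' m))) =
          KPush.Coh.cc (KPush.Coh.push (Reg.tw (m : ℤ) ((Scheme.Modules.pushforward i).obj E))) := by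
        rw [hδX _ (hE' m), hg.2 _ hE'c, Finset.sum_range_succ', Finset.sum_eq_zero, zero_add,
          pow_zero, one_smul]
        · by_cases hc : Coh.IsCoh ((Coh.Rpush (i ≫ KRR.pr n Y) 0).obj (E' m))
          · exact KPush.Coh.cc_iso i0 hc
          · have hc' : ¬ Coh.IsCoh (KPush.Coh.push (Reg.tw (m : ℤ) ((Scheme.Modules.pushforward i).obj E))) :=
              fun h => hc (CohBasics.Closure.isCoh_of_iso i0.symm h)
            simp only [KPush.Coh.cc, KZero.clSub, hc, hc', dite_false]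
        · intro q _
          by_cases hc : Coh.IsCoh ((Coh.Rpush (i ≫ KRR.pr n Y) (q + 1)).obj (E' m))
          · rw [KRes.KSub.clSub_zero (P := fun M : Y.Modules => Coh.IsCoh M) (hvan q) hc, smul_zero]
          · simp only [KZero.clSub, hc, dite_false, smul_zero]
      show _ - _ = _
      rw [hL1, hL2, hsum, sub_self]
    obtain ⟨pi, hpi⟩ := KVec.Pull.exists_pull i
    let H : KX →+ SGA6.Kcoh Y :=
      (F - (g.comp δX).comp (AddEquiv.ofBijective φX hKX.bijective).symm.toAddMonoidHom).comp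
        (AddMonoidHom.mulLeft (φX (KRR.cl X E)))
    have hH : ∀ k, H (φX (KRR.cl X (O k))) = D k := fun k => by
      show F (φX _ * φX _) - g (δX ((AddEquiv.ofBijective φX hKX.bijective).symm (φX _ * φX _))) = _
      rw [hKX.map_mul E (O k) hE (hO k)]
      refine congrArg (fun z => F _ - g (δX z)) ?_
      exact (AddEquiv.ofBijective φX hKX.bijective).symm_apply_apply _
    have hrec : ∀ k, ∑ j ∈ Finset.range (n + 2),
        (-1 : ℤ) ^ j • (n + 1).choose j • D (k + j) = 0 := by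
      intro k
      have hB : Reg.B (Twist.twistOver n Y (k : ℤ)) := TensorMod.LocFree.of_rank
        (TensorMod.LocFree.of_isInvertible (ProjFibre.isInvertible_twistOver _))
      have h0 := congrArg (fun z => H (φX (pi z))) (Reg.koszul_cl (Twist.twistOver n Y (k : ℤ)) hB)
      simp only [map_sum, map_zero, map_zsmul, map_nsmul] at h0
      rw [← h0]
      refine Finset.sum_congr rfl fun j _ => ?_
      refine congrArg (((-1 : ℤ) ^ j) • ·) (congrArg (((n + 1).choose j) • ·) ?_)
      rw [← hH (k + j)]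
      refine congrArg H (congrArg φX ?_)
      refine Eq.trans ?_ (hpi _ (Reg.B_tw _ hB)).symm
      refine KAugNil98.Main.cl_iso ((Scheme.Modules.pullback i).mapIso ?_) (hO _)
      exact eqToIso (by push_cast; rfl) ≪≫ (Groth.Agent.H73.RegSeq.overTensor (k : ℤ) (j : ℤ)).symm
    have h0 := KPush.Coh.descent (n := n) D m₀ hrec hfar
    let e0 : E' 0 ≅ E :=
      TensorMod.Basic.tensorIso (Iso.refl E)
        ((Scheme.Modules.pullback i).mapIso (eqToIso (by simp) ≪≫ Groth.Agent.H73.RegSeq.overZero) ≪≫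
          PicLoc.pullbackStructureIso i) ≪≫ TensorMod.Basic.rightUnit E
    rw [← KAugNil98.Main.cl_iso e0 (hE' 0)]
    exact sub_eq_zero.1 h0
  have hom : (F.comp φX) = g.comp δX := KRes.KSub.hom_ext fun E hE => hF E hE
  have h := DFunLike.congr_fun hom x
  refine Eq.trans ?_ h
  show δY y = δY (eY.symm (b (a (φX x))))
  rw [← hxy]
  exact congrArg δY (eY.symm_apply_apply y).symm

end Groth.Agent.S3786
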