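import Groth.Statements.S3788
import Groth.Agent.Lib.KVec.ExtPowPull
import Groth.Agent.Lib.KVec.ExtRank
import Groth.Agent.Lib.KVec.Model
import Groth.Agent.Lib.Perfect.Top
import Groth.Agent.Lib.Cyc.CH.SubLine

set_option autoImplicit false
set_option linter.style.haveILetI false
universe v u
open CategoryTheory CategoryTheory.Limits AlgebraicGeometry
attribute [local instance] HasDerivedCategory.standard
open KRR

namespace Groth.Agent.S3788

/-- The relation satisfied by the tautological class: let X be a connected Noetherian scheme, E finite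
locally free of rank r + 1, and (π : P ⟶ X, O(1), q) its projective bundle P(E) (universal property
for invertible quotients of pull-backs of E), P connected Noetherian. With models of K(X), K(P), g =
π^K, e = [E] and ℓ = [O(1)]: Σ_{i=0}^{r+1} (-1)^i π^K(λ^i e) ℓ^{r+1-i} = 0 in K(P). -/
theorem result (X P : Scheme.{u}) [IsNoetherian X] [ConnectedSpace ↥X] [IsNoetherian P] [ConnectedSpace ↥P]
    (r : ℕ) (E : X.Modules) (hE : FlatMod.IsFinLocFreeOfRank (r + 1) E)
    (π : P ⟶ X) (O1 : P.Modules) (q : (Scheme.Modules.pullback π).obj E ⟶ O1) (hPB : KRR.IsProjBundle π E O1 q)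
    (KX : Type v) [CommRing KX] [LambdaRing.LambdaOps KX] (PX : LambdaRing.PosStructure KX) (φX : SGA6.Kvb X →+ KX) (hKX : KRR.IsModel X KX PX φX)
    (KP : Type v) [CommRing KP] [LambdaRing.LambdaOps KP] (PP : LambdaRing.PosStructure KP) (φP : SGA6.Kvb P →+ KP) (hKP : KRR.IsModel P KP PP φP)
    (g : KX →+ KP) (hg : KRR.IsPull π φX φP g) :
    ∑ i ∈ Finset.range (r + 2), (-1 : KP) ^ i * g (LambdaRing.LambdaOps.lam i (φX (KRR.cl X E))) * φP (KRR.cl P O1) ^ (r + 1 - i) = 0 := by
  classical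
  have hEf : FlatMod.IsFinLocFree E := Agent.Lib.TensorMod.LocFree.of_rank hE
  have hO : FlatMod.IsFinLocFree O1 := Agent.Lib.TensorMod.LocFree.of_rank hPB.invertible
  have hE' := Agent.Lib.TensorMod.LocFree.isFinLocFree_pullback π hEf
  haveI := hPB.epi
  have hQ := Agent.Lib.Perfect.Top.isFinLocFree_kernel q hE' hO
  obtain ⟨x₀⟩ := (inferInstance : Nonempty ↥P)
  let S := ShortComplex.mk (kernel.ι q) q (kernel.condition q)
  have hS : S.ShortExact := ShortComplex.ShortExact.mk' (S.exact_of_f_is_kernel (kernelIsKernel q)) inferInstance inferInstance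
  have hQr : FlatMod.IsFinLocFreeOfRank r (kernel q) := by
    have h := Agent.Lib.KVec.Model.rk_add hS hQ hE' hO x₀
    rw [Agent.Lib.KVec.Model.rk_of_rank (Agent.Lib.TensorMod.LocFree.rank_pullback π hE) x₀,
      Agent.Lib.KVec.Model.rk_of_rank hPB.invertible x₀] at h
    have := Agent.Lib.KVec.Model.rank_of_isFinLocFree hQ x₀
    rwa [show Agent.Lib.KVec.Model.rk (kernel q) x₀ = r by change _ = Agent.Lib.KVec.Model.rk (kernel q) x₀ + _ at h; omega] at this
  have hadd : φP (KRR.cl P ((Scheme.Modules.pullback π).obj E)) = φP (KRR.cl P (kernel q)) + φP (KRR.cl P O1) :=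
    (congrArg φP (Agent.Lib.KRes.KSub.rel (P := KRR.vbP P) hS hQ hE' hO)).trans (map_add _ _ _)
  set a := φP (KRR.cl P (kernel q))
  set l := φP (KRR.cl P O1)
  have hl : l ∈ PP.pos := (hKP.mem_pos_iff l).mpr ⟨1, O1, le_rfl, hPB.invertible, rfl⟩
  have hl1 : PP.aug l = 1 := hKP.aug_cl 1 O1 hPB.invertible
  have hg' : ∀ i, g (LambdaRing.LambdaOps.lam i (φX (KRR.cl X E))) = LambdaRing.LambdaOps.lam i (a + l) := fun i => by
    haveI := Agent.Lib.Modules.AffineSections.isQCoh_of_isFinLocFree hEf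
    haveI := Agent.Lib.Modules.AffineSections.isQCoh_of_isFinLocFree hE'
    obtain ⟨L, hL⟩ := Agent.Lib.FundLocal.ExtPowExists.exists_isExtPow (E := E) i
    obtain ⟨L', hL'⟩ := Agent.Lib.FundLocal.ExtPowExists.exists_isExtPow (E := (Scheme.Modules.pullback π).obj E) i
    obtain ⟨iso⟩ := Agent.Lib.KVec.ExtPowPull.nonempty_iso_pullback π hEf hL hL'
    have hLf := Agent.Lib.GrassGen.ExtPowFree.isFinLocFree hEf hL
    rw [hKX.map_lam i E L hEf hLf hL, hg L hLf, ← hadd, hKP.map_lam i _ L' hE'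
      (Agent.Lib.GrassGen.ExtPowFree.isFinLocFree hE' hL') hL']
    exact congrArg φP (Agent.Lib.ExtFilt.Lambda.cl_congr iso (Agent.Lib.TensorMod.LocFree.isFinLocFree_pullback π hLf))
  have hlam : ∀ i, LambdaRing.LambdaOps.lam (i + 1) (a + l) =
      LambdaRing.LambdaOps.lam (i + 1) a + l * LambdaRing.LambdaOps.lam i a := fun i => by
    rw [LambdaRing.LambdaOps.lam_add, Finset.sum_range_succ, Finset.sum_range_succ, Finset.sum_eq_zero fun j hj => ?_]
    · rw [show i + 1 - i = 1 by omega, Nat.sub_self, LambdaRing.LambdaOps.lam_zero, LambdaRing.LambdaOps.lam_one]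
      ring
    · rw [PP.lam_eq_zero l hl _ (by rw [hl1]; have := Finset.mem_range.1 hj; omega), mul_zero]
  have hr : LambdaRing.LambdaOps.lam (r + 1) a = 0 := by
    haveI := Agent.Lib.Modules.AffineSections.isQCoh_of_isFinLocFree hQ
    obtain ⟨L, hL⟩ := Agent.Lib.FundLocal.ExtPowExists.exists_isExtPow (E := kernel q) (r + 1)
    have hLr := Agent.Lib.KVec.ExtRank.rank_extPow hQr hL
    rw [Nat.choose_eq_zero_of_lt (Nat.lt_succ_self r)] at hLr
    have hLf := Agent.Lib.GrassGen.ExtPowFree.isFinLocFree hQ hL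
    rw [hKP.map_lam (r + 1) _ L hQ hLf hL]
    exact (congrArg φP (Agent.Lib.KRes.KSub.clSub_zero (Agent.Lib.Cyc.CH.isZero_of_rank_zero hLr) hLf)).trans (map_zero _)
  have key : ∀ k, k ≤ r + 1 → ∑ i ∈ Finset.range (k + 1), (-1 : KP) ^ i * LambdaRing.LambdaOps.lam i (a + l) * l ^ (r + 1 - i) =
      (-1 : KP) ^ k * LambdaRing.LambdaOps.lam k a * l ^ (r + 1 - k) := by
    intro k hk
    induction k with
    | zero => simp [LambdaRing.LambdaOps.lam_zero]
    | succ k ih =>
      rw [Finset.sum_range_succ, ih (by omega), hlam, show r + 1 - k = r + 1 - (k + 1) + 1 by omega, pow_succ l, pow_succ (-1 : KP)]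
      ring
  rw [Finset.sum_congr rfl fun i _ => by rw [hg' i], key (r + 1) le_rfl, hr]
  simp

end Groth.Agent.S3788
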