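import Groth.Statements.S3806
import Groth.Agent.Lib.PP16.Basic

set_option autoImplicit false
universe u
open scoped TensorProduct
attribute [local instance] PP16.mapAlgebra PP16.isScalarTower_mapAlgebra
open PP16

namespace Groth.Agent.S3806

/-- Let A → A' be a ring map, B an A-algebra and B' = B ⊗_A A'. Then the canonical map P^n_{B/A} ⊗_B B'
→ P^n_{B'/A'} induced by functoriality of principal parts is an isomorphism; that is, the square B →
P^n_{B/A}, B → B', with P^n_{B'/A'} in the corner, is a pushout of rings. -/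
theorem result (n : ℕ) (A B A' B' : Type u) [CommRing A] [CommRing B] [Algebra A B]
    [CommRing A'] [CommRing B'] [Algebra A' B'] [Algebra A A'] [Algebra B B'] [Algebra A B']
    [IsScalarTower A A' B'] [IsScalarTower A B B'] [Algebra.IsPushout A B A' B'] :
    Algebra.IsPushout B (PP16.P n A B) B' (PP16.P n A' B') := by
  haveI : IsScalarTower B B' (PP16.P n A' B') := IsScalarTower.of_algebraMap_eq fun _ => rfl
  suffices H : ∀ (Q : Type u) [CommRing Q] [Algebra B' Q] [Algebra (PP16.P n A B) Q] [Algebra B Q]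
      [IsScalarTower B B' Q] [IsScalarTower B (PP16.P n A B) Q]
      [Algebra.IsPushout B B' (PP16.P n A B) Q],
      Algebra.IsPushout B B' (PP16.P n A B) (PP16.P n A' B') by
    letI : Algebra (PP16.P n A B) (B' ⊗[B] PP16.P n A B) := Algebra.TensorProduct.rightAlgebra
    exact (H (B' ⊗[B] PP16.P n A B)).symm
  intro Q _ _ _ _ _ _ hQ
  let P := PP16.P n A B
  letI : Algebra A Q := ((algebraMap B Q).comp (algebraMap A B)).toAlgebra
  haveI : IsScalarTower A B Q := IsScalarTower.of_algebraMap_eq fun _ => rfl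
  haveI : IsScalarTower A B' Q := IsScalarTower.of_algebraMap_eq fun a => by
    rw [IsScalarTower.algebraMap_apply A B Q, IsScalarTower.algebraMap_apply A B B',
      ← IsScalarTower.algebraMap_apply B B' Q]
  letI : Algebra A' Q := ((algebraMap B' Q).comp (algebraMap A' B')).toAlgebra
  haveI : IsScalarTower A' B' Q := IsScalarTower.of_algebraMap_eq fun _ => rfl
  haveI : IsScalarTower A A' Q := IsScalarTower.of_algebraMap_eq fun a => by
    rw [IsScalarTower.algebraMap_apply A' B' Q, ← IsScalarTower.algebraMap_apply A A' B',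
      ← IsScalarTower.algebraMap_apply A B' Q]
  let jP : P →ₐ[B] Q := IsScalarTower.toAlgHom B P Q
  let fB : B →ₐ[A] Q := (jP.restrictScalars A).comp (PP16.dn n A B)
  let r₀ : B' →ₐ[A] Q := Algebra.pushoutDesc B' fB (IsScalarTower.toAlgHom A A' Q)
    (fun _ _ => mul_comm _ _)
  have hrB : ∀ b, r₀ (algebraMap B B' b) = algebraMap P Q (PP16.dn n A B b) :=
    fun b => Algebra.pushoutDesc_left B' fB (IsScalarTower.toAlgHom A A' Q) (fun _ _ => mul_comm _ _) b
  have hrA : ∀ a, r₀ (algebraMap A' B' a) = algebraMap A' Q a :=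
    fun a => Algebra.pushoutDesc_right B' fB (IsScalarTower.toAlgHom A A' Q) (fun _ _ => mul_comm _ _) a
  let r : B' →ₐ[A'] Q := { r₀.toRingHom with commutes' := hrA }
  let K : Ideal Q := (PP16.augIdeal n A B).map (algebraMap P Q)
  have hK : K ^ (n + 1) = ⊥ := Lib.PP16.Basic.map_augIdeal_pow n A B _
  have hr : ∀ b', r b' - algebraMap B' Q b' ∈ K := by
    intro b'
    have h : (Ideal.Quotient.mkₐ A K).comp r₀ =
        (Ideal.Quotient.mkₐ A K).comp (IsScalarTower.toAlgHom A B' Q) := by
      refine Algebra.IsPushout.algHom_ext (R := A) (S := B) (R' := A') B' ?_ ?_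
      · refine AlgHom.ext fun a => congr_arg (Ideal.Quotient.mk K) ((hrA a).trans ?_)
        rfl
      · refine AlgHom.ext fun b => Ideal.Quotient.eq.2 ?_
        change r₀ (algebraMap B B' b) - algebraMap B' Q (algebraMap B B' b) ∈ K
        rw [hrB, ← IsScalarTower.algebraMap_apply B B' Q, IsScalarTower.algebraMap_apply B P Q,
          ← map_sub]
        exact Ideal.mem_map_of_mem _ (Lib.PP16.Basic.dn_sub_mem n A B b)
    exact Ideal.Quotient.eq.1 (AlgHom.congr_fun h b')
  obtain ⟨ψ, hψ⟩ := Lib.PP16.Basic.exists_lift r K hK hr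
  let φB : Q →ₐ[B] PP16.P n A' B' :=
    Algebra.pushoutDesc Q (IsScalarTower.toAlgHom B B' (PP16.P n A' B'))
      (IsScalarTower.toAlgHom B P (PP16.P n A' B')) (fun _ _ => mul_comm _ _)
  have hφ' : ∀ b', φB (algebraMap B' Q b') = algebraMap B' (PP16.P n A' B') b' :=
    fun b' => Algebra.pushoutDesc_left Q (IsScalarTower.toAlgHom B B' (PP16.P n A' B'))
      (IsScalarTower.toAlgHom B P (PP16.P n A' B')) (fun _ _ => mul_comm _ _) b'
  have hφP : ∀ p, φB (algebraMap P Q p) = PP16.map n A B A' B' p :=
    fun p => Algebra.pushoutDesc_right Q (IsScalarTower.toAlgHom B B' (PP16.P n A' B'))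
      (IsScalarTower.toAlgHom B P (PP16.P n A' B')) (fun _ _ => mul_comm _ _) p
  let φ : Q →ₐ[B'] PP16.P n A' B' := { φB.toRingHom with commutes' := hφ' }
  have hψmap : ψ.toRingHom.comp (PP16.map n A B A' B').toRingHom = algebraMap P Q := by
    refine Lib.PP16.Basic.ringHom_ext (fun b => ?_) (fun b => ?_)
    · change ψ (PP16.map n A B A' B' (algebraMap B _ b)) = _
      rw [PP16.map_algebraMap, ψ.commutes, ← IsScalarTower.algebraMap_apply B B' Q,
        IsScalarTower.algebraMap_apply B P Q]
    · change ψ (PP16.map n A B A' B' (PP16.dn n A B b)) = _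
      rw [PP16.map_dn, hψ]
      exact hrB b
  have h1 : ψ.comp φ = AlgHom.id _ Q := by
    refine AlgHom.coe_ringHom_injective (congr_arg AlgHom.toRingHom
      (Algebra.IsPushout.algHom_ext (R := B) (S := B') (R' := P) Q
        (f := (ψ.restrictScalars B).comp φB) (g := AlgHom.id B Q) ?_ ?_))
    · refine AlgHom.ext fun p => ?_
      change ψ (φB (algebraMap P Q p)) = algebraMap P Q p
      rw [hφP]
      exact RingHom.congr_fun hψmap p
    · refine AlgHom.ext fun b' => ?_
      change ψ (φB (algebraMap B' Q b')) = algebraMap B' Q b'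
      rw [hφ', ψ.commutes]
  have h2 : φ.comp ψ = AlgHom.id _ _ := by
    refine Lib.PP16.Basic.hom_ext fun b' => ?_
    let φA : Q →ₐ[A] PP16.P n A' B' :=
      { φB.toRingHom with
        commutes' := fun a => by
          change φB (algebraMap A Q a) = _
          rw [IsScalarTower.algebraMap_apply A B' Q, hφ',
            ← IsScalarTower.algebraMap_apply A B'] }
    have h : φA.comp r₀ = (PP16.dn n A' B').restrictScalars A := by
      refine Algebra.IsPushout.algHom_ext (R := A) (S := B) (R' := A') B' ?_ ?_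
      · refine AlgHom.ext fun a => ?_
        change φB (r₀ (algebraMap A' B' a)) = PP16.dn n A' B' (algebraMap A' B' a)
        rw [hrA, IsScalarTower.algebraMap_apply A' B' Q, hφ', AlgHom.commutes,
          ← IsScalarTower.algebraMap_apply]
      · refine AlgHom.ext fun b => ?_
        change φB (r₀ (algebraMap B B' b)) = PP16.dn n A' B' (algebraMap B B' b)
        rw [hrB, hφP, PP16.map_dn]
    change φ (ψ _) = _
    rw [hψ]
    exact AlgHom.congr_fun h b'
  exact Algebra.IsPushout.of_equiv (h := hQ) (AlgEquiv.ofAlgHom φ ψ h2 h1) (RingHom.ext hφP)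

end Groth.Agent.S3806
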