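import Groth.Statements.S3807
import Groth.Agent.Lib.PP16.Basic

set_option autoImplicit false
universe u
open scoped TensorProduct
attribute [local instance] PP16.mapAlgebra PP16.isScalarTower_mapAlgebra
open PP16

namespace Groth.Agent.S3807

/-- Let B be an A-algebra, S a multiplicative subset of B and B' = S⁻¹B. Then the canonical map
S⁻¹P^n_{B/A} → P^n_{B'/A} induced by functoriality is an isomorphism: P^n_{B'/A} is the localization
of P^n_{B/A} at the image of S. -/
theorem result (n : ℕ) (A B B' : Type u) [CommRing A] [CommRing B] [Algebra A B]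
    [CommRing B'] [Algebra B B'] [Algebra A B'] [IsScalarTower A B B'] (S : Submonoid B) [IsLocalization S B'] :
    IsLocalization (S.map (algebraMap B (PP16.P n A B))) (PP16.P n A B') := by
  let T := S.map (algebraMap B (PP16.P n A B))
  suffices H : ∀ (L : Type u) [CommRing L] [Algebra (PP16.P n A B) L] [IsLocalization T L]
      [Algebra A L] [IsScalarTower A (PP16.P n A B) L], IsLocalization T (PP16.P n A B') from
    H (Localization T)
  intro L _ _ _ _ _
  let K : Ideal L := (PP16.augIdeal n A B).map (algebraMap (PP16.P n A B) L)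
  have hK : K ^ (n + 1) = ⊥ := Lib.PP16.Basic.map_augIdeal_pow n A B _
  have hdiff : ∀ b : B, algebraMap _ L (PP16.dn n A B b) -
      algebraMap _ L (algebraMap B (PP16.P n A B) b) ∈ K := fun b => by
    rw [← map_sub]
    exact Ideal.mem_map_of_mem _ (Lib.PP16.Basic.dn_sub_mem n A B b)
  have hu : ∀ s : S, IsUnit (((algebraMap (PP16.P n A B) L).comp (algebraMap B _)) s) := fun s =>
    IsLocalization.map_units L (⟨_, s, s.2, rfl⟩ : T)
  have hud : ∀ s : S, IsUnit (((algebraMap (PP16.P n A B) L).comp
      (PP16.dn n A B).toRingHom) s) := fun s => by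
    have hn : IsNilpotent (algebraMap _ L (PP16.dn n A B s) -
        algebraMap _ L (algebraMap B (PP16.P n A B) s)) := by
      refine ⟨n + 1, ?_⟩
      have := Ideal.pow_mem_pow (hdiff s) (n + 1)
      rwa [hK, Ideal.mem_bot] at this
    have := IsNilpotent.isUnit_add_left_of_commute hn (hu s) (mul_comm _ _)
    simpa using this
  letI : Algebra B' L := (IsLocalization.lift (S := B') hu).toAlgebra
  have hB' : ∀ b, algebraMap B' L (algebraMap B B' b) =
      algebraMap _ L (algebraMap B (PP16.P n A B) b) := IsLocalization.lift_eq hu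
  haveI : IsScalarTower A B' L := IsScalarTower.of_algebraMap_eq fun a => by
    rw [IsScalarTower.algebraMap_apply A B B', hB', ← IsScalarTower.algebraMap_apply A B,
      ← IsScalarTower.algebraMap_apply A (PP16.P n A B) L]
  let r : B' →ₐ[A] L :=
    { IsLocalization.lift (S := B') hud with
      commutes' := fun a => by
        change IsLocalization.lift hud (algebraMap A B' a) = _
        rw [IsScalarTower.algebraMap_apply A B B', IsLocalization.lift_eq]
        change algebraMap _ L (PP16.dn n A B (algebraMap A B a)) = _
        rw [AlgHom.commutes, ← IsScalarTower.algebraMap_apply] }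
  have hr0 : ∀ b, r (algebraMap B B' b) = algebraMap _ L (PP16.dn n A B b) :=
    IsLocalization.lift_eq hud
  have hr : ∀ b', r b' - algebraMap B' L b' ∈ K := by
    have h : (Ideal.Quotient.mk K).comp r.toRingHom =
        (Ideal.Quotient.mk K).comp (algebraMap B' L) := by
      refine IsLocalization.ringHom_ext S (RingHom.ext fun b => ?_)
      change Ideal.Quotient.mk K (r (algebraMap B B' b)) =
        Ideal.Quotient.mk K (algebraMap B' L (algebraMap B B' b))
      rw [Ideal.Quotient.eq, hr0, hB']
      exact hdiff b
    exact fun b' => Ideal.Quotient.eq.1 (RingHom.congr_fun h b')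
  obtain ⟨f, hf⟩ := Lib.PP16.Basic.exists_lift r K hK hr
  have hfmap : f.toRingHom.comp (PP16.map n A B A B').toRingHom = algebraMap _ L := by
    refine Lib.PP16.Basic.ringHom_ext (fun b => ?_) (fun b => ?_)
    · change f (PP16.map n A B A B' (algebraMap B _ b)) = _
      rw [PP16.map_algebraMap, f.commutes, hB']
    · change f (PP16.map n A B A B' (PP16.dn n A B b)) = _
      rw [PP16.map_dn, hf, hr0]
  have hg : ∀ t : T, IsUnit ((PP16.map n A B A B').toRingHom t) := by
    rintro ⟨_, s, hs, rfl⟩
    change IsUnit (PP16.map n A B A B' (algebraMap B _ s))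
    rw [PP16.map_algebraMap]
    exact (IsLocalization.map_units B' (⟨s, hs⟩ : S)).map _
  let g : L →ₐ[PP16.P n A B] PP16.P n A B' :=
    { IsLocalization.lift (S := L) hg with commutes' := IsLocalization.lift_eq hg }
  let fP : PP16.P n A B' →ₐ[PP16.P n A B] L :=
    { f.toRingHom with commutes' := RingHom.congr_fun hfmap }
  have h1 : g.toRingHom.comp f.toRingHom = RingHom.id _ := by
    refine Lib.PP16.Basic.ringHom_ext (RingHom.congr_fun (?_ :
        g.toRingHom.comp (f.toRingHom.comp (algebraMap B' _)) = algebraMap B' _))
      (RingHom.congr_fun (?_ : g.toRingHom.comp (f.toRingHom.comp (PP16.dn n A B').toRingHom) =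
        (PP16.dn n A B').toRingHom))
    · refine IsLocalization.ringHom_ext S (RingHom.ext fun b => ?_)
      change g (f (algebraMap B' _ (algebraMap B B' b))) = algebraMap B' _ (algebraMap B B' b)
      rw [f.commutes, hB', g.commutes]
      exact PP16.map_algebraMap n A B A B' b
    · refine IsLocalization.ringHom_ext S (RingHom.ext fun b => ?_)
      change g (f (PP16.dn n A B' (algebraMap B B' b))) = PP16.dn n A B' (algebraMap B B' b)
      rw [hf, hr0, g.commutes]
      exact PP16.map_dn n A B A B' b
  have h2 : fP.comp g = AlgHom.id _ L := AlgHom.coe_ringHom_injective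
    (IsLocalization.ringHom_ext T (RingHom.ext fun p => (fP.comp g).commutes p))
  exact IsLocalization.isLocalization_of_algEquiv T
    (AlgEquiv.ofAlgHom g fP (AlgHom.ext (RingHom.congr_fun h1)) h2)

end Groth.Agent.S3807
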