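import Groth.Statements.S3808
import Groth.Agent.Lib.PP16.Basic

set_option autoImplicit false
universe u
open scoped TensorProduct
open PP16

namespace Groth.Agent.S3808

/-- Let A → B be a ring map, R a multiplicative subset of A, S one of B containing the image of R, and
A' = R⁻¹A, B' = S⁻¹B with the induced map A' → B'. Then the canonical map P^n_{B'/A} → P^n_{B'/A'}
is bijective. -/
theorem result (n : ℕ) (A B A' B' : Type u) [CommRing A] [CommRing B] [Algebra A B]
    [CommRing A'] [CommRing B'] [Algebra A A'] [Algebra B B'] [Algebra A' B'] [Algebra A B']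
    [IsScalarTower A A' B'] [IsScalarTower A B B'] (R : Submonoid A) (S : Submonoid B) [IsLocalization R A']
    [IsLocalization S B'] (hRS : ∀ r ∈ R, algebraMap A B r ∈ S) :
    Function.Bijective (PP16.map n A B' A' B') := by
  refine ⟨?_, fun y => ?_⟩
  · let r : B' →ₐ[A'] PP16.P n A B' :=
      { (PP16.dn n A B').toRingHom with
        commutes' := by
          have h : (PP16.dn n A B').toRingHom.comp (algebraMap A' B') =
              algebraMap A' (PP16.P n A B') := by
            refine IsLocalization.ringHom_ext R (RingHom.ext fun a => ?_)
            change PP16.dn n A B' (algebraMap A' B' (algebraMap A A' a)) =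
              algebraMap A' (PP16.P n A B') (algebraMap A A' a)
            rw [← IsScalarTower.algebraMap_apply A A' B', AlgHom.commutes,
              ← IsScalarTower.algebraMap_apply A A' (PP16.P n A B')]
          exact RingHom.congr_fun h }
    obtain ⟨f, hf⟩ := Lib.PP16.Basic.exists_lift r (PP16.augIdeal n A B')
      (Lib.PP16.Basic.augIdeal_pow n A B') (Lib.PP16.Basic.dn_sub_mem n A B')
    have key : f.toRingHom.comp (PP16.map n A B' A' B').toRingHom = RingHom.id _ := by
      refine Lib.PP16.Basic.ringHom_ext (fun b => ?_) (fun b => ?_)
      · change f (PP16.map n A B' A' B' (algebraMap B' _ b)) = _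
        rw [PP16.map_algebraMap, f.commutes]
        rfl
      · change f (PP16.map n A B' A' B' (PP16.dn n A B' b)) = _
        rw [PP16.map_dn, hf]
        rfl
    exact Function.LeftInverse.injective (g := f) (RingHom.congr_fun key)
  · obtain ⟨y, rfl⟩ := Ideal.Quotient.mk_surjective y
    induction y using TensorProduct.induction_on with
    | zero => exact ⟨0, by simp⟩
    | tmul c d =>
        exact ⟨Ideal.Quotient.mk _ (c ⊗ₜ[A] d), by rw [PP16.map_mk, PP16.tensorMap_tmul]; rfl⟩
    | add x y hx hy =>
        obtain ⟨a, ha⟩ := hx
        obtain ⟨b, hb⟩ := hy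
        exact ⟨a + b, by rw [map_add, ha, hb, map_add]⟩

end Groth.Agent.S3808
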