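import Groth.Statements.S3809
import Groth.Agent.Lib.PP16.Basic

set_option autoImplicit false
universe u
open scoped TensorProduct
open PP16

namespace Groth.Agent.S3809

/-- Let A → B → C be ring maps. Then the canonical map P^n_{C/A} → P^n_{C/B} is surjective, and its
kernel is the ideal generated by the image, under the canonical map P^n_{B/A} → P^n_{C/A}, of the
augmentation ideal of P^n_{B/A}. -/
theorem result (n : ℕ) (A B C : Type u) [CommRing A] [CommRing B] [CommRing C]
    [Algebra A B] [Algebra B C] [Algebra A C] [IsScalarTower A B C] :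
    Function.Surjective (PP16.map n A C B C) ∧
      RingHom.ker (PP16.map n A C B C) = (PP16.augIdeal n A B).map (PP16.map n A B A C) := by
  have hs : Function.Surjective (PP16.map n A C B C) := by
    intro y
    obtain ⟨y, rfl⟩ := Ideal.Quotient.mk_surjective y
    induction y using TensorProduct.induction_on with
    | zero => exact ⟨0, by simp⟩
    | tmul c d =>
        exact ⟨Ideal.Quotient.mk _ (c ⊗ₜ[A] d), by rw [PP16.map_mk, PP16.tensorMap_tmul]; rfl⟩
    | add x y hx hy =>
        obtain ⟨a, ha⟩ := hx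
        obtain ⟨b, hb⟩ := hy
        exact ⟨a + b, by rw [map_add, ha, hb, map_add]⟩
  refine ⟨hs, le_antisymm (fun x hx => ?_) ?_⟩
  · let J : Ideal (PP16.P n A C) := (PP16.augIdeal n A B).map (PP16.map n A B A C)
    obtain ⟨f, hf⟩ := Lib.PP16.Basic.exists_factor n A C (A' := B) (B' := C)
      (fun c => ⟨c, rfl⟩) (Q := PP16.P n A C ⧸ J) (Ideal.Quotient.mk J)
      ((Ideal.Quotient.mk J).comp (algebraMap C (PP16.P n A C)))
      ((Ideal.Quotient.mk J).comp (PP16.dn n A C).toRingHom)
      (fun _ => rfl) (fun _ => rfl) (fun b => by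
        change Ideal.Quotient.mk J (PP16.dn n A C (algebraMap B C b)) =
          Ideal.Quotient.mk J (algebraMap C (PP16.P n A C) (algebraMap B C b))
        rw [Ideal.Quotient.eq, ← PP16.map_dn n A B A C, ← PP16.map_algebraMap n A B A C, ← map_sub]
        exact Ideal.mem_map_of_mem _ (Lib.PP16.Basic.dn_sub_mem n A B b))
    refine Ideal.Quotient.eq_zero_iff_mem.1 ((hf x).symm.trans ?_)
    rw [RingHom.mem_ker.1 hx, map_zero]
  · rw [Lib.PP16.Basic.augIdeal_eq_span, Ideal.map_span, Ideal.span_le]
    rintro _ ⟨_, ⟨b, rfl⟩, rfl⟩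
    rw [SetLike.mem_coe, RingHom.mem_ker, map_sub, map_sub, PP16.map_dn, PP16.map_algebraMap,
      PP16.map_dn, PP16.map_algebraMap, Algebra.algebraMap_self_apply, AlgHom.commutes,
      sub_eq_zero]
    exact IsScalarTower.algebraMap_apply B C (PP16.P n B C) b

end Groth.Agent.S3809
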