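import Groth.Statements.S3810
import Groth.Agent.Lib.PP16.Basic

set_option autoImplicit false
universe u
open scoped TensorProduct
open PP16

namespace Groth.Agent.S3810

/-- Let B be an A-algebra, K an ideal of B and C = B/K. Then the canonical map P^n_{B/A} → P^n_{C/A} is
surjective and its kernel is the ideal generated by the image of K under the structure map B →
P^n_{B/A} together with the image of K under the principal-part map d^n (the latter is an additive
subgroup, not a B-submodule, in general). -/
theorem result (n : ℕ) (A B : Type u) [CommRing A] [CommRing B] [Algebra A B]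
    (K : Ideal B) :
    Function.Surjective (PP16.map n A B A (B ⧸ K)) ∧
      RingHom.ker (PP16.map n A B A (B ⧸ K)) =
        K.map (algebraMap B (PP16.P n A B)) ⊔ K.map (PP16.dn n A B) := by
  have hs : Function.Surjective (PP16.map n A B A (B ⧸ K)) := by
    intro y
    obtain ⟨y, rfl⟩ := Ideal.Quotient.mk_surjective y
    induction y using TensorProduct.induction_on with
    | zero => exact ⟨0, by simp⟩
    | tmul c d =>
        obtain ⟨b, rfl⟩ := Ideal.Quotient.mk_surjective c
        obtain ⟨e, rfl⟩ := Ideal.Quotient.mk_surjective d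
        exact ⟨Ideal.Quotient.mk _ (b ⊗ₜ[A] e), by rw [PP16.map_mk, PP16.tensorMap_tmul]; rfl⟩
    | add x y hx hy =>
        obtain ⟨a, ha⟩ := hx
        obtain ⟨b, hb⟩ := hy
        exact ⟨a + b, by rw [map_add, ha, hb, map_add]⟩
  let J : Ideal (PP16.P n A B) :=
    K.map (algebraMap B (PP16.P n A B)) ⊔ K.map (PP16.dn n A B)
  refine ⟨hs, le_antisymm (fun x hx => ?_) ?_⟩
  · obtain ⟨f, hf⟩ := Lib.PP16.Basic.exists_factor n A B (A' := A) (B' := B ⧸ K)
      Ideal.Quotient.mk_surjective (Q := PP16.P n A B ⧸ J) (Ideal.Quotient.mk J)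
      (Ideal.Quotient.lift K ((Ideal.Quotient.mk J).comp (algebraMap B (PP16.P n A B)))
        (fun k hk => Ideal.Quotient.eq_zero_iff_mem.2
          (Ideal.mem_sup_left (Ideal.mem_map_of_mem _ hk))))
      (Ideal.Quotient.lift K ((Ideal.Quotient.mk J).comp (PP16.dn n A B).toRingHom)
        (fun k hk => Ideal.Quotient.eq_zero_iff_mem.2
          (Ideal.mem_sup_right (Ideal.mem_map_of_mem _ hk))))
      (fun _ => rfl) (fun _ => rfl) (fun a => by
        change Ideal.Quotient.mk J (PP16.dn n A B (algebraMap A B a)) =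
          Ideal.Quotient.mk J (algebraMap B (PP16.P n A B) (algebraMap A B a))
        rw [AlgHom.commutes, ← IsScalarTower.algebraMap_apply])
    refine Ideal.Quotient.eq_zero_iff_mem.1 ((hf x).symm.trans ?_)
    rw [RingHom.mem_ker.1 hx, map_zero]
  · rw [sup_le_iff, Ideal.map_le_iff_le_comap, Ideal.map_le_iff_le_comap]
    refine ⟨fun k hk => ?_, fun k hk => ?_⟩
    · rw [Ideal.mem_comap, RingHom.mem_ker, PP16.map_algebraMap,
        Ideal.Quotient.algebraMap_eq, Ideal.Quotient.eq_zero_iff_mem.2 hk, map_zero]
    · rw [Ideal.mem_comap, RingHom.mem_ker, PP16.map_dn,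
        Ideal.Quotient.algebraMap_eq, Ideal.Quotient.eq_zero_iff_mem.2 hk, map_zero]

end Groth.Agent.S3810
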