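import Groth.Statements.S3811
import Groth.Agent.Lib.PP16.Basic

set_option autoImplicit false
universe u
open scoped TensorProduct
open PP16

namespace Groth.Agent.S3811

/-- Let B be an A-algebra with an A-algebra retraction g : B → A, and K the kernel of g. The composite
of d^n : B → P^n_{B/A} with the projection P^n_{B/A} → P^n_{B/A} / K P^n_{B/A} (base change of
P^n_{B/A} along g) is surjective with kernel K^(n+1); thus P^n_{B/A} ⊗_B A is identified with
B/K^(n+1), the class of d^n t corresponding to the class of t. -/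
theorem result (n : ℕ) (A B : Type u) [CommRing A] [CommRing B] [Algebra A B]
    (g : B →ₐ[A] A) :
    Function.Surjective ((Ideal.Quotient.mk ((RingHom.ker g).map (algebraMap B (PP16.P n A B)))).comp
        (PP16.dn n A B).toRingHom) ∧
      RingHom.ker ((Ideal.Quotient.mk ((RingHom.ker g).map (algebraMap B (PP16.P n A B)))).comp
        (PP16.dn n A B).toRingHom) = RingHom.ker g ^ (n + 1) := by
  set I : Ideal B := RingHom.ker g with hI
  set J : Ideal (PP16.P n A B) := I.map (algebraMap B (PP16.P n A B)) with hJ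
  have hred : ∀ b : B, Ideal.Quotient.mk J (algebraMap B (PP16.P n A B) b) =
      Ideal.Quotient.mk J (PP16.dn n A B (algebraMap A B (g b))) := by
    intro b
    rw [AlgHom.commutes, IsScalarTower.algebraMap_apply A B (PP16.P n A B), Ideal.Quotient.eq,
      ← map_sub]
    exact Ideal.mem_map_of_mem _ (by rw [hI, RingHom.mem_ker, map_sub, AlgHom.commutes]; exact sub_self _)
  refine ⟨?_, le_antisymm (fun x hx => ?_) ?_⟩
  · intro y
    obtain ⟨y, rfl⟩ := Ideal.Quotient.mk_surjective y
    obtain ⟨y, rfl⟩ := Ideal.Quotient.mk_surjective y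
    induction y using TensorProduct.induction_on with
    | zero => exact ⟨0, by simp⟩
    | tmul c d =>
        refine ⟨algebraMap A B (g c) * d, ?_⟩
        rw [Lib.PP16.Basic.mk_tmul, map_mul, map_mul, hred]
        rfl
    | add x y hx hy =>
        obtain ⟨a, ha⟩ := hx
        obtain ⟨b, hb⟩ := hy
        exact ⟨a + b, by rw [map_add, ha, hb, map_add, map_add]⟩
  · let χ₀ : B ⊗[A] B →ₐ[A] B ⧸ I ^ (n + 1) :=
      Algebra.TensorProduct.lift ((Algebra.ofId A (B ⧸ I ^ (n + 1))).comp g)
        (Ideal.Quotient.mkₐ A _) (fun _ _ => Commute.all _ _)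
    have hle : (KaehlerDifferential.ideal A B).map χ₀ ≤ I.map (Ideal.Quotient.mk (I ^ (n + 1))) := by
      rw [← KaehlerDifferential.span_range_eq_ideal, Ideal.map_span, Ideal.span_le]
      rintro _ ⟨_, ⟨b, rfl⟩, rfl⟩
      have h := Ideal.mem_map_of_mem (Ideal.Quotient.mk (I ^ (n + 1)))
        (show b - algebraMap A B (g b) ∈ I by
          rw [hI, RingHom.mem_ker, map_sub, AlgHom.commutes]; exact sub_self _)
      simpa [χ₀] using h
    have hker : ∀ y ∈ KaehlerDifferential.ideal A B ^ (n + 1), χ₀ y = 0 := by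
      intro y hy
      have h1 := Ideal.mem_map_of_mem χ₀ hy
      rw [Ideal.map_pow] at h1
      have h2 := Ideal.pow_right_mono hle (n + 1) h1
      rwa [← Ideal.map_pow, Ideal.map_quotient_self, Ideal.mem_bot] at h2
    let χ : PP16.P n A B →ₐ[A] B ⧸ I ^ (n + 1) := Ideal.Quotient.liftₐ _ χ₀ hker
    have hχ : J ≤ RingHom.ker χ := by
      rw [hJ, Ideal.map_le_iff_le_comap]
      intro b hb
      rw [Ideal.mem_comap, RingHom.mem_ker]
      change χ₀ (b ⊗ₜ[A] (1 : B)) = 0
      rw [hI, RingHom.mem_ker] at hb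
      simp [χ₀, hb]
    have h0 : PP16.dn n A B x ∈ J := Ideal.Quotient.eq_zero_iff_mem.1 (RingHom.mem_ker.1 hx)
    refine Ideal.Quotient.eq_zero_iff_mem.1 (Eq.trans ?_ (RingHom.mem_ker.1 (hχ h0)))
    change _ = χ₀ ((1 : B) ⊗ₜ[A] x)
    simp [χ₀]
  · have gen : ∀ {Q : Type u} [CommRing Q] (φ : PP16.P n A B →+* Q),
        (∀ b ∈ I, φ (algebraMap B _ b) = 0) → ∀ b ∈ I ^ (n + 1), φ (PP16.dn n A B b) = 0 := by
      intro Q _ φ hφ b hb
      have h1 : I.map (φ.comp (PP16.dn n A B).toRingHom) ≤ (PP16.augIdeal n A B).map φ := by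
        rw [Ideal.map_le_iff_le_comap]
        intro b hb
        rw [Ideal.mem_comap]
        have h := Ideal.mem_map_of_mem φ (Lib.PP16.Basic.dn_sub_mem n A B b)
        rwa [map_sub, hφ b hb, sub_zero] at h
      have h2 := Ideal.mem_map_of_mem (φ.comp (PP16.dn n A B).toRingHom) hb
      rw [Ideal.map_pow] at h2
      have h3 := Ideal.pow_right_mono h1 (n + 1) h2
      rw [Lib.PP16.Basic.map_augIdeal_pow n A B φ, Ideal.mem_bot] at h3
      exact h3
    exact fun b hb => RingHom.mem_ker.2 (gen (Q := PP16.P n A B ⧸ J) (Ideal.Quotient.mk J)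
      (fun b hb => Ideal.Quotient.eq_zero_iff_mem.2 (Ideal.mem_map_of_mem _ hb)) b hb)

end Groth.Agent.S3811
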