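import Groth.Statements.S3812
import Groth.Agent.Lib.PP16.Basic

set_option autoImplicit false
universe u
open scoped TensorProduct
open PP16

namespace Groth.Agent.S3812

theorem aux (n : ℕ) (A : Type u) [CommRing A] (σ : Type u) (Q : Type u) [CommRing Q] [Algebra A Q]
    [Algebra (MvPolynomial σ A) Q] [IsScalarTower A (MvPolynomial σ A) Q]
    (q : MvPolynomial σ (MvPolynomial σ A) →ₐ[MvPolynomial σ A] Q) (hq : Function.Surjective q)
    (hker : RingHom.ker q = Ideal.span (Set.range (MvPolynomial.X : σ → MvPolynomial σ (MvPolynomial σ A))) ^ (n + 1)) :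
    ∃ e : PP16.P n A (MvPolynomial σ A) ≃ₐ[MvPolynomial σ A] Q, ∀ i : σ,
      e (PP16.dn n A (MvPolynomial σ A) (MvPolynomial.X i)) =
        q (MvPolynomial.C (MvPolynomial.X i : MvPolynomial σ A) + MvPolynomial.X i) := by
  let J : Ideal (MvPolynomial σ (MvPolynomial σ A)) := Ideal.span (Set.range MvPolynomial.X)
  let K : Ideal Q := J.map q
  have hK : K ^ (n + 1) = ⊥ := by
    rw [← Ideal.map_pow]
    exact (Ideal.map_eq_bot_iff_le_ker q).2 (le_of_eq hker.symm)
  have hC : ∀ p : (MvPolynomial σ A), q (MvPolynomial.C p) = algebraMap (MvPolynomial σ A) Q p := fun p => q.commutes p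
  let r : (MvPolynomial σ A) →ₐ[A] Q :=
    MvPolynomial.aeval fun i => q (MvPolynomial.C (MvPolynomial.X i) + MvPolynomial.X i)
  have hrX : ∀ i, r (MvPolynomial.X i) =
      q (MvPolynomial.C (MvPolynomial.X i) + MvPolynomial.X i) := MvPolynomial.aeval_X _
  have hr : ∀ p, r p - algebraMap (MvPolynomial σ A) Q p ∈ K := by
    intro p
    induction p using MvPolynomial.induction_on with
    | C a =>
        rw [← MvPolynomial.algebraMap_eq, AlgHom.commutes,
          ← IsScalarTower.algebraMap_apply A (MvPolynomial σ A) Q, sub_self]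
        exact Submodule.zero_mem _
    | add a b ha hb => rw [map_add, map_add, add_sub_add_comm]; exact add_mem ha hb
    | mul_X p i hp =>
        rw [map_mul, map_mul]
        refine Ideal.mul_sub_mul_mem _ hp ?_
        rw [hrX, map_add, hC, add_sub_cancel_left]
        exact Ideal.mem_map_of_mem q (Ideal.subset_span ⟨i, rfl⟩)
  obtain ⟨f, hf⟩ := Lib.PP16.Basic.exists_lift r K hK hr
  let ξ : σ → PP16.P n A (MvPolynomial σ A) := fun i =>
    PP16.dn n A _ (MvPolynomial.X i) - algebraMap (MvPolynomial σ A) _ (MvPolynomial.X i)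
  let χ₀ : MvPolynomial σ (MvPolynomial σ A) →ₐ[(MvPolynomial σ A)] PP16.P n A (MvPolynomial σ A) := MvPolynomial.aeval ξ
  have hkill : ∀ p ∈ RingHom.ker q, χ₀ p = 0 := by
    intro p hp
    rw [hker] at hp
    have hle : J.map χ₀ ≤ PP16.augIdeal n A (MvPolynomial σ A) := by
      rw [Ideal.map_span, Ideal.span_le]
      rintro _ ⟨_, ⟨i, rfl⟩, rfl⟩
      rw [show χ₀ (MvPolynomial.X i) = _ from MvPolynomial.aeval_X ξ i]
      exact Lib.PP16.Basic.dn_sub_mem n A _ _
    have h1 := Ideal.mem_map_of_mem χ₀ hp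
    rw [Ideal.map_pow] at h1
    have h2 := Ideal.pow_right_mono hle (n + 1) h1
    rwa [Lib.PP16.Basic.augIdeal_pow, Ideal.mem_bot] at h2
  let φ : Q →ₐ[(MvPolynomial σ A)] PP16.P n A (MvPolynomial σ A) := AlgHom.liftOfSurjective q hq χ₀ hkill
  have hφ : ∀ p, φ (q p) = χ₀ p := fun p => AlgHom.liftOfSurjective_apply q hq χ₀ hkill p
  have h1 : φ.comp f = AlgHom.id _ _ := by
    refine Lib.PP16.Basic.hom_ext fun p => ?_
    have h : (φ.restrictScalars A).comp r = PP16.dn n A (MvPolynomial σ A) := by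
      refine MvPolynomial.algHom_ext fun i => ?_
      change φ (r (MvPolynomial.X i)) = _
      rw [hrX, hφ, map_add]
      change MvPolynomial.aeval ξ (MvPolynomial.C (MvPolynomial.X i)) +
        MvPolynomial.aeval ξ (MvPolynomial.X i) = _
      rw [MvPolynomial.aeval_C, MvPolynomial.aeval_X]
      exact add_sub_cancel _ _
    change φ (f _) = _
    rw [hf]
    exact AlgHom.congr_fun h p
  have h2 : f.comp φ = AlgHom.id _ _ := by
    have h : (f.comp φ).comp q = q := by
      refine MvPolynomial.algHom_ext fun i => ?_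
      change f (φ (q (MvPolynomial.X i))) = _
      rw [hφ, show χ₀ (MvPolynomial.X i) = _ from MvPolynomial.aeval_X ξ i, map_sub, hf,
        f.commutes, hrX, map_add, hC]
      exact add_sub_cancel_left _ _
    refine AlgHom.ext fun y => ?_
    obtain ⟨p, rfl⟩ := hq y
    exact AlgHom.congr_fun h p
  exact ⟨AlgEquiv.ofAlgHom f φ h2 h1, fun i => (hf _).trans (hrX i)⟩

/-- Let B = A[T_i] be a polynomial algebra. There is an isomorphism of B-algebras from P^n_{B/A} onto
B[U_i]/(U)^(n+1), where (U) is the ideal generated by the new indeterminates, sending the principal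
part d^n T_i to the class of T_i + U_i for every i (so d^n F(T) goes to the class of F(T + U)). -/
theorem result (n : ℕ) (A : Type u) [CommRing A] (σ : Type u) :
    ∃ e : PP16.P n A (MvPolynomial σ A) ≃ₐ[MvPolynomial σ A]
        (MvPolynomial σ (MvPolynomial σ A) ⧸
          Ideal.span (Set.range (MvPolynomial.X : σ → MvPolynomial σ (MvPolynomial σ A))) ^ (n + 1)),
      ∀ i : σ, e (PP16.dn n A (MvPolynomial σ A) (MvPolynomial.X i)) =
        Ideal.Quotient.mk _ (MvPolynomial.C (MvPolynomial.X i : MvPolynomial σ A) +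
          (MvPolynomial.X i : MvPolynomial σ (MvPolynomial σ A))) := by
  let I : Ideal (MvPolynomial σ (MvPolynomial σ A)) :=
    Ideal.span (Set.range (MvPolynomial.X : σ → MvPolynomial σ (MvPolynomial σ A))) ^ (n + 1)
  have hs := Ideal.Quotient.mkₐ_surjective (MvPolynomial σ A) I
  have hk := Ideal.Quotient.mkₐ_ker (MvPolynomial σ A) I
  have h := aux n A σ (MvPolynomial σ (MvPolynomial σ A) ⧸ I)
  obtain ⟨e, he⟩ := h (Ideal.Quotient.mkₐ (MvPolynomial σ A) I) hs hk
  exact ⟨e, he⟩

end Groth.Agent.S3812
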