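import Groth.Statements.S3813
import Groth.Agent.Lib.PP16.Basic
import Mathlib.LinearAlgebra.SymmetricAlgebra.Basic

set_option autoImplicit false
universe u
open scoped TensorProduct
open PP16

namespace Groth.Agent.S3813

/-- Let E be an A-module, B = Sym_A(E) its symmetric algebra and K the augmentation ideal of B (the
kernel of the A-algebra map B → A killing E). For every n there is an isomorphism of B-algebras from
P^n_{B/A} onto B ⊗_A (B/K^(n+1)) sending the principal part d^n t of an element t of E to t ⊗ 1 + 1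
⊗ (class of t). -/
theorem result (n : ℕ) (A : Type u) [CommRing A] (E : Type u) [AddCommGroup E]
    [Module A E] :
    ∃ e : PP16.P n A (SymmetricAlgebra A E) ≃ₐ[SymmetricAlgebra A E]
        (SymmetricAlgebra A E ⊗[A] (SymmetricAlgebra A E ⧸
          RingHom.ker (SymmetricAlgebra.lift (0 : E →ₗ[A] A)) ^ (n + 1))),
      ∀ t : E, e (PP16.dn n A (SymmetricAlgebra A E) (SymmetricAlgebra.ι A E t)) =
        SymmetricAlgebra.ι A E t ⊗ₜ 1 + 1 ⊗ₜ Ideal.Quotient.mk _ (SymmetricAlgebra.ι A E t) := by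
  let S := SymmetricAlgebra A E
  let g : S →ₐ[A] A := SymmetricAlgebra.lift (0 : E →ₗ[A] A)
  let I : Ideal S := RingHom.ker g
  suffices H : ∀ (C : Type u) [CommRing C] [Algebra A C] (q : S →ₐ[A] C),
      Function.Surjective q → RingHom.ker q = I ^ (n + 1) →
      ∃ e : PP16.P n A S ≃ₐ[S] S ⊗[A] C, ∀ t : E,
        e (PP16.dn n A S (SymmetricAlgebra.ι A E t)) =
          SymmetricAlgebra.ι A E t ⊗ₜ 1 + 1 ⊗ₜ q (SymmetricAlgebra.ι A E t) from
    H (S ⧸ I ^ (n + 1)) (Ideal.Quotient.mkₐ A _) Ideal.Quotient.mk_surjective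
      Ideal.mk_ker
  intro C _ _ q hq hker
  have hg : ∀ t, g (SymmetricAlgebra.ι A E t) = 0 := fun t =>
    SymmetricAlgebra.lift_ι_apply (0 : E →ₗ[A] A) t
  let r : S →ₐ[A] S ⊗[A] C := SymmetricAlgebra.lift
    ((Algebra.TensorProduct.includeLeft : S →ₐ[A] S ⊗[A] C).toLinearMap ∘ₗ SymmetricAlgebra.ι A E +
      ((Algebra.TensorProduct.includeRight : C →ₐ[A] S ⊗[A] C).comp q).toLinearMap ∘ₗ
        SymmetricAlgebra.ι A E)
  have hrι : ∀ t, r (SymmetricAlgebra.ι A E t) =
      SymmetricAlgebra.ι A E t ⊗ₜ 1 + 1 ⊗ₜ q (SymmetricAlgebra.ι A E t) := fun t =>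
    SymmetricAlgebra.lift_ι_apply _ t
  let inc : C →+* S ⊗[A] C := (Algebra.TensorProduct.includeRight : C →ₐ[A] S ⊗[A] C).toRingHom
  let K : Ideal (S ⊗[A] C) := (I.map q).map inc
  have hK : K ^ (n + 1) = ⊥ := by
    rw [← Ideal.map_pow, ← Ideal.map_pow,
      (Ideal.map_eq_bot_iff_le_ker q).2 (le_of_eq hker.symm), Ideal.map_bot]
  have hr : ∀ p, r p - algebraMap S (S ⊗[A] C) p ∈ K := by
    intro p
    induction p using SymmetricAlgebra.induction with
    | algebraMap a =>
        rw [AlgHom.commutes, ← IsScalarTower.algebraMap_apply A S (S ⊗[A] C), sub_self]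
        exact Submodule.zero_mem _
    | ι t =>
        rw [hrι, show algebraMap S (S ⊗[A] C) (SymmetricAlgebra.ι A E t) =
          SymmetricAlgebra.ι A E t ⊗ₜ 1 from rfl, add_sub_cancel_left]
        exact Ideal.mem_map_of_mem inc (Ideal.mem_map_of_mem q (RingHom.mem_ker.2 (hg t)))
    | mul a b ha hb => rw [map_mul, map_mul]; exact Ideal.mul_sub_mul_mem _ ha hb
    | add a b ha hb => rw [map_add, map_add, add_sub_add_comm]; exact add_mem ha hb
  obtain ⟨f, hf⟩ := Lib.PP16.Basic.exists_lift r K hK hr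
  let ξ : E →ₗ[A] PP16.P n A S := (PP16.dn n A S).toLinearMap ∘ₗ SymmetricAlgebra.ι A E -
    (IsScalarTower.toAlgHom A S (PP16.P n A S)).toLinearMap ∘ₗ SymmetricAlgebra.ι A E
  let χ₀ : S →ₐ[A] PP16.P n A S := SymmetricAlgebra.lift ξ
  have hχ₀ : ∀ t, χ₀ (SymmetricAlgebra.ι A E t) = PP16.dn n A S (SymmetricAlgebra.ι A E t) -
      algebraMap S _ (SymmetricAlgebra.ι A E t) := fun t => SymmetricAlgebra.lift_ι_apply _ t
  have hsub : ∀ p, χ₀ p - algebraMap A (PP16.P n A S) (g p) ∈ PP16.augIdeal n A S := by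
    intro p
    induction p using SymmetricAlgebra.induction with
    | algebraMap a =>
        rw [AlgHom.commutes, AlgHom.commutes, Algebra.algebraMap_self_apply, sub_self]
        exact Submodule.zero_mem _
    | ι t =>
        rw [hχ₀, hg, map_zero, sub_zero]
        exact Lib.PP16.Basic.dn_sub_mem n A S _
    | mul a b ha hb => rw [map_mul, map_mul, map_mul]; exact Ideal.mul_sub_mul_mem _ ha hb
    | add a b ha hb => rw [map_add, map_add, map_add, add_sub_add_comm]; exact add_mem ha hb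
  have haug : I ≤ (PP16.augIdeal n A S).comap χ₀ := fun p hp => by
    have h := hsub p
    rwa [RingHom.mem_ker.1 hp, map_zero, sub_zero] at h
  have hkill : ∀ p ∈ RingHom.ker q, χ₀ p = 0 := by
    intro p hp
    rw [hker] at hp
    have h1 := Ideal.mem_map_of_mem χ₀ hp
    rw [Ideal.map_pow] at h1
    have h2 := Ideal.pow_right_mono (Ideal.map_le_iff_le_comap.2 haug) (n + 1) h1
    rwa [Lib.PP16.Basic.augIdeal_pow, Ideal.mem_bot] at h2
  let χ : C →ₐ[A] PP16.P n A S := AlgHom.liftOfSurjective q hq χ₀ hkill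
  have hχ : ∀ p, χ (q p) = χ₀ p := fun p => AlgHom.liftOfSurjective_apply q hq χ₀ hkill p
  let φ : S ⊗[A] C →ₐ[S] PP16.P n A S :=
    Algebra.TensorProduct.lift (Algebra.ofId S _) χ (fun _ _ => Commute.all _ _)
  have hφ : ∀ s c, φ (s ⊗ₜ c) = algebraMap S _ s * χ c := fun s c =>
    Algebra.TensorProduct.lift_tmul _ _ _ s c
  have h1 : φ.comp f = AlgHom.id _ _ := by
    refine Lib.PP16.Basic.hom_ext fun p => ?_
    have h : (φ.restrictScalars A).comp r = PP16.dn n A S := by
      refine SymmetricAlgebra.algHom_ext (LinearMap.ext fun t => ?_)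
      change φ (r (SymmetricAlgebra.ι A E t)) = _
      rw [hrι, map_add, hφ, hφ, map_one, map_one, mul_one, one_mul, hχ, hχ₀]
      exact add_sub_cancel _ _
    change φ (f _) = _
    rw [hf]
    exact AlgHom.congr_fun h p
  have h2 : f.comp φ = AlgHom.id _ _ := by
    have h : ((f.restrictScalars A).comp χ).comp q =
        (Algebra.TensorProduct.includeRight : C →ₐ[A] S ⊗[A] C).comp q := by
      refine SymmetricAlgebra.algHom_ext (LinearMap.ext fun t => ?_)
      change f (χ (q (SymmetricAlgebra.ι A E t))) = 1 ⊗ₜ q (SymmetricAlgebra.ι A E t)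
      rw [hχ, hχ₀, map_sub, hf, hrι, f.commutes]
      exact add_sub_cancel_left _ _
    refine Algebra.TensorProduct.ext (Subsingleton.elim _ _) (AlgHom.ext fun c => ?_)
    obtain ⟨p, rfl⟩ := hq c
    change f (φ (1 ⊗ₜ q p)) = _
    rw [hφ, map_one, one_mul]
    exact AlgHom.congr_fun h p
  exact ⟨AlgEquiv.ofAlgHom f φ h2 h1, fun t => (hf _).trans (hrι t)⟩

end Groth.Agent.S3813
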