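import Groth.Statements.S3815
import Groth.Agent.Lib.PP16.Basic
import Groth.Agent.Lib.DiffOp.Etale

set_option autoImplicit false
universe u
open scoped TensorProduct
open scoped BigOperators
open PP16

namespace Groth.Agent.S3815

/-- Let B be an A-algebra, M and N two B-modules and D : M → N an A-linear map. Let P^n(M) = P^n_{B/A}
⊗_B M, the tensor product formed with the B-module structure of P^n_{B/A} through d^n, regarded as a
B-module through the first factor of P^n_{B/A}, with d^n_M : M → P^n(M), m ↦ 1 ⊗ m. Then D is a
differential operator of order at most n relative to A (order defined through iterated commutators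
with multiplication by elements of B) if and only if there is exactly one additive map u : P^n(M) →
N which is B-linear for the first-factor structure and satisfies u(1 ⊗ m) = D(m) for all m ∈ M. -/
theorem result (n : ℕ) (A B : Type u) [CommRing A] [CommRing B] [Algebra A B]
    (M N : Type u) [AddCommGroup M] [Module A M] [Module B M] [IsScalarTower A B M]
    [AddCommGroup N] [Module A N] [Module B N] [IsScalarTower A B N] (D : M →ₗ[A] N) :
    Diff16.IsDiffOpLE A B M N n D ↔
      ∃! u : PP16.PM n A B M →+ N,
        (∀ (b : B) (t : PP16.PM n A B M), u (algebraMap B (PP16.P n A B) b • t) = b • u t) ∧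
          ∀ m : M, u (PP16.dM n A B M m) = D m := by
  let I : Ideal (B ⊗[A] B) := KaehlerDifferential.ideal A B ^ (n + 1)
  let t : PP16.P n A B → M → PP16.PM n A B M := fun q m =>
    (show PP16.Pr n A B from q) ⊗ₜ[B] m
  have ht_r : ∀ q b m, t q (b • m) = t (PP16.dn n A B b * q) m := fun q b m =>
    (TensorProduct.tmul_smul _ _ _).trans rfl
  have ht_l : ∀ c q m, algebraMap B (PP16.P n A B) c • t q m =
      t (algebraMap B (PP16.P n A B) c * q) m := fun c q m => rfl
  have ht_sub : ∀ q q' m, t (q - q') m = t q m - t q' m := fun q q' m =>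
    TensorProduct.sub_tmul _ _ _
  have ht_add : ∀ q q' m, t (q + q') m = t q m + t q' m := fun q q' m =>
    TensorProduct.add_tmul _ _ _
  constructor
  · intro hD
    have hJ : KaehlerDifferential.ideal A B = Lib.DiffOp.Etale.J A B B := by
      rw [← KaehlerDifferential.span_range_eq_ideal]
      rfl
    have hvan : ∀ x ∈ I, Lib.DiffOp.Etale.act D x = 0 := fun x hx =>
      Lib.DiffOp.Etale.act_vanish hD x (hJ ▸ hx)
    let Ψ : PP16.P n A B →+ (M →ₗ[A] N) :=
      QuotientAddGroup.lift I.toAddSubgroup (Lib.DiffOp.Etale.act D).toAddMonoidHom hvan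
    have hΨ : ∀ x, Ψ (Ideal.Quotient.mk I x) = Lib.DiffOp.Etale.act D x := fun _ => rfl
    let f : PP16.Pr n A B →+ M →+ N :=
      AddMonoidHom.mk' (fun q => (Ψ (show PP16.P n A B from q)).toAddMonoidHom)
        (fun q q' => AddMonoidHom.ext fun m => LinearMap.congr_fun (map_add Ψ q q') m)
    have hf : ∀ (b : B) (q : PP16.Pr n A B) (m : M), f (b • q) m = f q (b • m) := by
      intro b q m
      obtain ⟨x, rfl⟩ := Ideal.Quotient.mk_surjective (show PP16.P n A B from q)
      change Ψ (Ideal.Quotient.mk I (((1 : B) ⊗ₜ[A] b) * x)) m = Ψ (Ideal.Quotient.mk I x) (b • m)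
      rw [mul_comm, hΨ, hΨ, Lib.DiffOp.Etale.act_mul_right]
    let u : PP16.PM n A B M →+ N := TensorProduct.liftAddHom f hf
    have hu : ∀ x m, u (t (Ideal.Quotient.mk I x) m) = Lib.DiffOp.Etale.act D x m := fun _ _ => rfl
    refine ⟨u, ⟨fun b s => ?_, fun m => ?_⟩, fun u' hu' => ?_⟩
    · induction s using TensorProduct.induction_on with
      | zero => simp
      | tmul q m =>
          obtain ⟨x, rfl⟩ := Ideal.Quotient.mk_surjective (show PP16.P n A B from q)
          change u (t (Ideal.Quotient.mk I ((b ⊗ₜ[A] (1 : B)) * x)) m) =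
            b • u (t (Ideal.Quotient.mk I x) m)
          rw [hu, hu, Lib.DiffOp.Etale.act_mul_left]
      | add x y hx hy => rw [smul_add, map_add, map_add, hx, hy, smul_add]
    · change u (t (Ideal.Quotient.mk I ((1 : B) ⊗ₜ[A] (1 : B))) m) = D m
      rw [hu, Lib.DiffOp.Etale.act_tmul, one_smul, one_smul]
    · obtain ⟨hl, hm⟩ := hu'
      refine AddMonoidHom.ext fun s => ?_
      induction s using TensorProduct.induction_on with
      | zero => simp
      | tmul q m =>
          obtain ⟨x, rfl⟩ := Ideal.Quotient.mk_surjective (show PP16.P n A B from q)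
          change u' (t (Ideal.Quotient.mk I x) m) = u (t (Ideal.Quotient.mk I x) m)
          rw [hu]
          induction x using TensorProduct.induction_on with
          | zero =>
              rw [map_zero, show t (0 : PP16.P n A B) m = 0 from TensorProduct.zero_tmul _ m]
              simp
          | tmul a b =>
              rw [Lib.DiffOp.Etale.act_tmul,
                show (Ideal.Quotient.mk I (a ⊗ₜ[A] b) : PP16.P n A B) =
                  algebraMap B (PP16.P n A B) a * (PP16.dn n A B b * 1) by
                  rw [mul_one]; exact Lib.PP16.Basic.mk_tmul n A B a b,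
                ← ht_l, hl, ← ht_r]
              exact congr_arg _ (hm (b • m))
          | add x y hx hy => rw [map_add, ht_add, map_add, hx, hy, map_add]; rfl
      | add x y hx hy => rw [map_add, map_add, hx, hy]
  · rintro ⟨u, ⟨hl, hm⟩, -⟩
    have key : ∀ (k j : ℕ), j + k = n → ∀ q ∈ PP16.augIdeal n A B ^ j, ∀ F : M →ₗ[A] N,
        (∀ m, F m = u (t q m)) → Diff16.IsDiffOpLE A B M N k F := by
      have hcomm : ∀ (q : PP16.P n A B) (F : M →ₗ[A] N), (∀ m, F m = u (t q m)) → ∀ b m,
          Diff16.commutator A B M N F b m =
            u (t ((PP16.dn n A B b - algebraMap B (PP16.P n A B) b) * q) m) := by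
        intro q F hF b m
        rw [Lib.DiffOp.Basic.commutator_apply, hF, hF, ← hl, ← map_sub, ht_r, ht_l, ← ht_sub,
          sub_mul]
      intro k
      induction k with
      | zero =>
          intro j hj q hq F hF
          rw [Lib.DiffOp.Basic.zero_iff]
          intro b
          refine LinearMap.ext fun m => ?_
          have hz : (PP16.dn n A B b - algebraMap B (PP16.P n A B) b) * q ∈
              PP16.augIdeal n A B ^ (j + 1) :=
            (pow_succ' (PP16.augIdeal n A B) j).ge
              (Ideal.mul_mem_mul (Lib.PP16.Basic.dn_sub_mem n A B b) hq)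
          rw [show j + 1 = n + 1 by omega, Lib.PP16.Basic.augIdeal_pow, Ideal.mem_bot] at hz
          rw [hcomm q F hF, hz, show t (0 : PP16.P n A B) m = 0 from TensorProduct.zero_tmul _ m]
          simp
      | succ k ih =>
          intro j hj q hq F hF b
          refine ih (j + 1) (by omega) ((PP16.dn n A B b - algebraMap B _ b) * q) ?_ _
            (hcomm q F hF b)
          exact (pow_succ' (PP16.augIdeal n A B) j).ge
            (Ideal.mul_mem_mul (Lib.PP16.Basic.dn_sub_mem n A B b) hq)
    exact key n 0 (zero_add n) 1 ((pow_zero (PP16.augIdeal n A B)).ge (by rw [Ideal.one_eq_top]; exact Submodule.mem_top)) D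
      fun m => (hm m).symm

end Groth.Agent.S3815
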