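import Groth.Statements.S3817
import Groth.Agent.H80.PP.Reindex

set_option autoImplicit false
set_option backward.isDefEq.respectTransparency false
universe u
open scoped TensorProduct
open scoped BigOperators
open PP16

namespace Groth.Agent.S3817

open MvPolynomial Groth.Agent.H80.PP.Reindex Groth.Agent.Lib.DiffOp.Coordinates

/-- (Affine form, finite family.) Let B be an A-algebra which is differentially smooth over A and (z_i)
a finite family of elements of B whose differentials form a basis of the module of differentials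
Ω_{B/A}. Then for every m the monomials ζ^p with |p| ≤ m in the elements ζ_i = d^m z_i - z_i form a
basis of the B-module P^m_{B/A} (first-factor structure); in particular the P^m are free of finite
rank. -/
theorem result (A B : Type u) [CommRing A] [CommRing B] [Algebra A B]
    (hB : PP16.IsDiffSmooth A B) (ι : Type) [Fintype ι] [DecidableEq ι] (z : ι → B)
    (hz : ∃ b : Module.Basis ι B (KaehlerDifferential A B), ∀ i, b i = KaehlerDifferential.D A B (z i)) (m : ℕ) :
    ∃ b : Module.Basis {p : ι → ℕ // ∑ i, p i ≤ m} B (PP16.P m A B),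
      ∀ p, b p = ∏ i, (PP16.dn m A B (z i) - algebraMap B (PP16.P m A B) (z i)) ^ (p.1 i) := by
  classical
  obtain ⟨b, hb⟩ := hz
  have hind := indep_of_diffSmooth z hB b hb
  have hspan : Submodule.span B (Set.range fun i => KaehlerDifferential.D A B (z i)) = ⊤ := by
    rw [← b.span_eq]
    congr 2
    exact funext fun i => (hb i).symm
  let v : {p : ι → ℕ // ∑ i, p i ≤ m} → PP16.P m A B := fun p =>
    ∏ i, (PP16.dn m A B (z i) - algebraMap B (PP16.P m A B) (z i)) ^ (p.1 i)
  let w : {p : ι → ℕ // ∑ i, p i ≤ m} → MvPolynomial (Fin (Fintype.card ι)) B := fun p =>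
    monomial (Finsupp.equivFunOnFinite.symm (idx.symm p.1)) 1
  let Q : MvPolynomial (Fin (Fintype.card ι)) B →ₐ[B] PP16.P m A B :=
    (Ideal.Quotient.mkₐ B _).comp (aeval (xi A (zz z)))
  have hQ : ∀ p, Q (w p) = v p := fun p => by
    simp only [w, monomial_eq, map_one, one_mul, Finsupp.prod_fintype _ _ fun i => pow_zero _,
      map_prod, map_pow, v]
    refine Eq.trans ?_ (prod_eq (fun i k => (PP16.dn m A B (z i) -
      algebraMap B (PP16.P m A B) (z i)) ^ k) p.1)
    refine Finset.prod_congr rfl fun k _ => ?_
    congr 1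
    simp only [Q, AlgHom.comp_apply, aeval_X, xi, map_sub]
    rfl
  have hkey : ∀ d : Fin (Fintype.card ι) →₀ ℕ, ∀ hd : Finsupp.degree d ≤ m, ∀ c : B,
      monomial d c = c • w ⟨idx d, by rw [sum_idx]; simpa [Finsupp.degree_eq_sum] using hd⟩ := by
    intro d hd c
    simp only [w, Equiv.symm_apply_apply, smul_monomial, smul_eq_mul, mul_one]
    congr 2
    exact (Finsupp.equivFunOnFinite.symm_apply_apply d).symm
  refine ⟨Module.Basis.mk (v := v) ?_ ?_, fun p => Module.Basis.mk_apply _ _ p⟩
  · rw [linearIndependent_iff']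
    intro s c hc p hp
    have h1 : aeval (xi A (zz z)) (∑ q ∈ s, c q • w q) ∈
        KaehlerDifferential.ideal A B ^ (m + 1) := by
      rw [← Ideal.Quotient.eq_zero_iff_mem]
      show Q (∑ q ∈ s, c q • w q) = 0
      simp only [map_sum, map_smul, hQ]
      exact hc
    have hdeg : Finsupp.degree (Finsupp.equivFunOnFinite.symm (idx.symm p.1)) < m + 1 := by
      rw [Finsupp.degree_eq_sum]
      simp only [Finsupp.equivFunOnFinite_symm_apply_apply]
      rw [sum_idx_symm]
      have := p.2
      omega
    have h2 := (mem_pow_idealOfVars_iff' _ _).1 (hind _ _ h1) _ hdeg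
    simp only [coeff_sum, coeff_smul, w, coeff_monomial, EquivLike.apply_eq_iff_eq] at h2
    rw [Finset.sum_eq_single p] at h2
    · simpa using h2
    · intro q _ hq
      rw [if_neg fun h => hq (Subtype.ext h), smul_zero]
    · exact fun h => absurd hp h
  · intro x _
    obtain ⟨x, rfl⟩ := Ideal.Quotient.mk_surjective x
    obtain ⟨u, hu⟩ := exists_poly (span_zz z hspan) (m + 1) x
    have : Ideal.Quotient.mk _ x = Q u := Ideal.Quotient.eq.2 hu
    rw [this, u.as_sum, map_sum]
    refine Submodule.sum_mem _ fun d _ => ?_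
    by_cases hd : Finsupp.degree d ≤ m
    · rw [hkey d hd, map_smul, hQ]
      exact Submodule.smul_mem _ _ (Submodule.subset_span ⟨_, rfl⟩)
    · have : monomial d (coeff d u) ∈ idealOfVars (Fin (Fintype.card ι)) B ^ (m + 1) := by
        rw [mem_pow_idealOfVars_iff]
        intro e he
        rw [Finset.mem_singleton.1 (support_monomial_subset he)]
        exact Nat.succ_le_of_lt (not_le.1 hd)
      rw [show Q (monomial d (coeff d u)) = 0 from
        Ideal.Quotient.eq_zero_iff_mem.2 (aeval_xi_mem this)]
      exact Submodule.zero_mem _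

end Groth.Agent.S3817
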