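import Groth.Statements.S3818
import Groth.Agent.H80.PP.Reindex

set_option autoImplicit false
set_option backward.isDefEq.respectTransparency false
universe u
open scoped TensorProduct
open scoped BigOperators
open PP16

namespace Groth.Agent.S3818

open MvPolynomial Groth.Agent.H80.PP.Reindex Groth.Agent.H80.PP.Coord
open Groth.Agent.Lib.DiffOp Groth.Agent.Lib.DiffOp.Coordinates

/-- Last assertion (affine form, finite family): let B be an A-algebra, z_1, …, z_r elements of B whose
differentials generate the module of differentials, and (D_p) a family of differential operators B →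
B (each of some finite order) with D_p(z^q) = (∏ binom(q_i, p_i)) z^(q-p). Then D_p has order at
most |p|, and every differential operator B → B of order at most m relative to A can be written in
exactly one way as a B-linear combination ∑_{|p| ≤ m} a_p D_p. -/
theorem result (A B : Type u) [CommRing A] [CommRing B] [Algebra A B]
    (ι : Type) [Fintype ι] [DecidableEq ι] (z : ι → B)
    (hz : Submodule.span B (Set.range fun i => KaehlerDifferential.D A B (z i)) = ⊤)
    (Dp : (ι → ℕ) → (B →ₗ[A] B)) (hD : ∀ p, ∃ k : ℕ, Diff16.IsDiffOpLE A B B B k (Dp p))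
    (hDz : ∀ p q : ι → ℕ, Dp p (∏ i, z i ^ q i) =
        ((∏ i, Nat.choose (q i) (p i) : ℕ) : B) * ∏ i, z i ^ (q i - p i)) :
    (∀ p, Diff16.IsDiffOpLE A B B B (∑ i, p i) (Dp p)) ∧
      ∀ (m : ℕ) (D : B →ₗ[A] B), Diff16.IsDiffOpLE A B B B m D →
        ∃! a : {p : ι → ℕ // ∑ i, p i ≤ m} →₀ B, D = a.sum fun p c => c • Dp p.1 := by
  classical
  obtain ⟨hind, hord⟩ := indep_of_operators z hz Dp hD hDz
  refine ⟨hord, fun m D hDm => ?_⟩
  have hspan := span_zz z hz
  have hfin : Finite {p : ι → ℕ // ∑ i, p i ≤ m} := by
    refine Finite.of_injective (fun p i => (⟨p.1 i, Nat.lt_succ_of_le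
      ((Finset.single_le_sum (fun j _ => Nat.zero_le (p.1 j)) (Finset.mem_univ i)).trans p.2)⟩ :
        Fin (m + 1))) fun p q h => Subtype.ext (funext fun i => ?_)
    simpa using congrFun h i
  have : Fintype {p : ι → ℕ // ∑ i, p i ≤ m} := Fintype.ofFinite _
  let w : (ι → ℕ) → MvPolynomial (Fin (Fintype.card ι)) B := fun p =>
    monomial (Finsupp.equivFunOnFinite.symm (idx.symm p)) 1
  have hlin : ∀ p q, Diff16.linearize A B B B (Dp p) (aeval (xi A (zz z)) (w q)) =
      if q = p then 1 else 0 := by
    intro p q
    rw [linearize_eq_coeff (idx.symm p) (fun q' => by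
      simpa using operators_zz z hDz (idx.symm p) q')]
    simp only [w, coeff_monomial, EquivLike.apply_eq_iff_eq]
  have hsum : ∀ (a : {p : ι → ℕ // ∑ i, p i ≤ m} →₀ B) (x : B ⊗[A] B),
      Diff16.linearize A B B B (a.sum fun p c => c • Dp p.1) x =
        ∑ p, a p * Diff16.linearize A B B B (Dp p.1) x := by
    intro a x
    rw [Finsupp.sum_fintype _ _ fun p => zero_smul B (Dp p.1)]
    induction x using TensorProduct.induction_on with
    | zero => simp
    | tmul b e =>
      simp only [Basic.linearize_tmul, LinearMap.coe_sum, Finset.sum_apply, LinearMap.smul_apply,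
        smul_eq_mul, Finset.mul_sum]
      exact Finset.sum_congr rfl fun p _ => mul_left_comm _ _ _
    | add x y hx hy => simp only [map_add, hx, hy, mul_add, Finset.sum_add_distrib]
  refine ⟨Finsupp.equivFunOnFinite.symm
    fun p => Diff16.linearize A B B B D (aeval (xi A (zz z)) (w p.1)), ?_, ?_⟩
  · set a : {p : ι → ℕ // ∑ i, p i ≤ m} →₀ B := Finsupp.equivFunOnFinite.symm
      fun p => Diff16.linearize A B B B D (aeval (xi A (zz z)) (w p.1)) with ha
    have hE : Diff16.IsDiffOpLE A B B B m (a.sum fun p c => c • Dp p.1) :=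
      Finset.sum_induction _ (Diff16.IsDiffOpLE A B B B m) (fun x y => Basic.add)
        (Basic.zero_mem m) fun p _ => Basic.smul _ (Basic.mono p.2 (hord p.1))
    refine LinearMap.ext fun e => ?_
    obtain ⟨u, hu⟩ := exists_poly hspan (m + 1) ((1 : B) ⊗ₜ[A] e)
    have h1 := Basic.linearize_vanish hDm _ hu
    have h2 := Basic.linearize_vanish hE _ hu
    rw [map_sub, Basic.linearize_tmul, one_smul, sub_eq_zero] at h1 h2
    rw [h1, h2, u.as_sum]
    simp only [map_sum]
    refine Finset.sum_congr rfl fun d _ => ?_
    by_cases hd : Finsupp.degree d ≤ m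
    · have hp : ∑ i, idx d i ≤ m := by rw [sum_idx]; simpa [Finsupp.degree_eq_sum] using hd
      have : monomial d (coeff d u) = coeff d u • w (idx d) := by
        simp only [w, Equiv.symm_apply_apply, smul_monomial, smul_eq_mul, mul_one]
        congr 2
        exact (Finsupp.equivFunOnFinite.symm_apply_apply d).symm
      rw [this, map_smul, linearize_smul, linearize_smul, hsum, Finset.sum_eq_single ⟨idx d, hp⟩]
      · simp [ha, hlin]
      · intro q _ hq
        rw [hlin, if_neg fun h => hq (Subtype.ext h.symm), mul_zero]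
      · exact fun h => absurd (Finset.mem_univ _) h
    · have hmem : monomial d (coeff d u) ∈ idealOfVars (Fin (Fintype.card ι)) B ^ (m + 1) := by
        rw [mem_pow_idealOfVars_iff]
        intro e he
        rw [Finset.mem_singleton.1 (support_monomial_subset he)]
        exact Nat.succ_le_of_lt (not_le.1 hd)
      rw [Basic.linearize_vanish hDm _ (aeval_xi_mem hmem),
        Basic.linearize_vanish hE _ (aeval_xi_mem hmem)]
  · intro a ha
    refine Finsupp.ext fun p => ?_
    rw [Finsupp.equivFunOnFinite_symm_apply_apply, ha, hsum, Finset.sum_eq_single p]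
    · rw [hlin, if_pos rfl, mul_one]
    · intro q _ hq
      rw [hlin, if_neg fun h => hq (Subtype.ext h.symm), mul_zero]
    · exact fun h => absurd (Finset.mem_univ _) h

end Groth.Agent.S3818
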