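import Groth.Statements.S3820
import Groth.Agent.Lib.SymGr.Main
import Mathlib.RingTheory.Smooth.Basic
import Mathlib.RingTheory.Kaehler.Basic
import Mathlib.LinearAlgebra.Multilinear.Basic

set_option autoImplicit false
set_option backward.isDefEq.respectTransparency false
universe u
open scoped TensorProduct
open PP16

namespace Groth.Agent.S3820

open scoped TensorProduct
open Groth.Agent.Lib.SymGr

section
variable (A B : Type u) [CommRing A] [CommRing B] [Algebra A B]

theorem symGr [Algebra.FormallySmooth A B] :
    _root_.PP16.SymGrBijective (B ⊗[A] B) (KaehlerDifferential.ideal A B) := by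
  let l : B ⊗[A] B →ₐ[B] B := Algebra.TensorProduct.lmul'' A
  have hl : Function.Surjective l := fun b => ⟨b ⊗ₜ 1, by simp [l, Algebra.TensorProduct.lmul'']⟩
  let e : ((B ⊗[A] B) ⧸ KaehlerDifferential.ideal A B) ≃ₐ[B] B :=
    Ideal.quotientKerAlgEquivOfSurjective hl
  have : Algebra.FormallySmooth B ((B ⊗[A] B) ⧸ KaehlerDifferential.ideal A B) :=
    Algebra.FormallySmooth.of_equiv e.symm
  refine Main.symGrBijective (A := B) fun E _ _ K hK ψ _ => ?_
  exact Algebra.FormallySmooth.exists_lift (R := B) K ⟨2, hK⟩ ψ

theorem projective [Algebra.FormallySmooth A B] : Module.Projective B (KaehlerDifferential A B) :=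
  inferInstance

/-- The scalar action of `B ⊗ B` on `Ω` is through the multiplication. -/
theorem smul_eq (c : B ⊗[A] B) (ω : KaehlerDifferential A B) :
    c • ω = (Algebra.TensorProduct.lmul' A c : B) • ω := by
  obtain ⟨x, rfl⟩ := Ideal.toCotangent_surjective _ ω
  rw [← algebraMap_smul (B ⊗[A] B) (Algebra.TensorProduct.lmul' A c : B), ← sub_eq_zero, ← sub_smul]
  refine (map_smul (KaehlerDifferential.ideal A B).toCotangent _ x).symm.trans
    ((Ideal.toCotangent_eq_zero _ _).mpr ?_)
  rw [pow_two]
  refine Ideal.mul_mem_mul ?_ x.2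
  rw [KaehlerDifferential.ideal, RingHom.mem_ker]
  simp [Algebra.TensorProduct.algebraMap_apply]

variable {A B}
variable (ι : Type u) [Nonempty ι]

/-- From symmetric powers over `B` to symmetric powers over `B ⊗ B`. -/
theorem exists_change :
    ∃ Φ : SymmetricPower B ι (KaehlerDifferential A B) →+
        SymmetricPower (B ⊗[A] B) ι (KaehlerDifferential.ideal A B).Cotangent,
      Function.Bijective Φ ∧ (∀ (b : B) t, Φ (b • t) = algebraMap B (B ⊗[A] B) b • Φ t) ∧ ∀ v : ι → KaehlerDifferential A B,
        Φ (SymmetricPower.tprod B v) = SymmetricPower.tprod (B ⊗[A] B) v := by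
  classical
  letI : Module B (SymmetricPower (B ⊗[A] B) ι (KaehlerDifferential.ideal A B).Cotangent) :=
    Module.compHom _ (algebraMap B (B ⊗[A] B))
  have hsm : ∀ (b : B) (w : SymmetricPower (B ⊗[A] B) ι (KaehlerDifferential.ideal A B).Cotangent),
      b • w = algebraMap B (B ⊗[A] B) b • w := fun _ _ => rfl
  let μ : B ⊗[A] B →+* B := (Algebra.TensorProduct.lmul' A : B ⊗[A] B →ₐ[A] B).toRingHom
  letI : Module (B ⊗[A] B) (SymmetricPower B ι (KaehlerDifferential A B)) := Module.compHom _ μ
  let Φ := Core.symLift (R := B) (ι := ι) (M := KaehlerDifferential A B)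
    (N := SymmetricPower (B ⊗[A] B) ι (KaehlerDifferential.ideal A B).Cotangent)
    (MultilinearMap.mk' (fun v => SymmetricPower.tprod (B ⊗[A] B) v)
      (fun v i x y => MultilinearMap.map_update_add (SymmetricPower.tprod (B ⊗[A] B)) v i x y)
      (fun v i b x => by
        rw [hsm]
        exact (congrArg (fun z => SymmetricPower.tprod (B ⊗[A] B) (Function.update v i z))
          (algebraMap_smul (B ⊗[A] B) b x).symm).trans
            (MultilinearMap.map_update_smul (SymmetricPower.tprod (B ⊗[A] B)) v i _ x)))
    (fun e v => SymmetricPower.tprod_equiv e v)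
  let Ψ := Core.symLift (R := B ⊗[A] B) (ι := ι)
    (M := (KaehlerDifferential.ideal A B).Cotangent)
    (N := SymmetricPower B ι (KaehlerDifferential A B))
    (MultilinearMap.mk' (fun v => SymmetricPower.tprod B (M := KaehlerDifferential A B) v)
      (fun v i x y => MultilinearMap.map_update_add (SymmetricPower.tprod B (M := KaehlerDifferential A B)) v i x y)
      (fun v i c x => by
        show SymmetricPower.tprod B (M := KaehlerDifferential A B)
          (Function.update v i (c • (x : KaehlerDifferential A B))) = _
        rw [smul_eq]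
        exact MultilinearMap.map_update_smul (SymmetricPower.tprod B (M := KaehlerDifferential A B)) v i _ x))
    (fun e v => SymmetricPower.tprod_equiv (M := KaehlerDifferential A B) e v)
  have hΦ : ∀ v : ι → KaehlerDifferential A B,
      Φ (SymmetricPower.tprod B v) = SymmetricPower.tprod (B ⊗[A] B) v := fun v =>
    Core.symLift_tprod _ _ v
  have hΨ : ∀ v, Ψ (SymmetricPower.tprod (B ⊗[A] B) v) =
      SymmetricPower.tprod B (M := KaehlerDifferential A B) v := fun v => Core.symLift_tprod _ _ v
  refine ⟨Φ.toAddMonoidHom, Function.bijective_iff_has_inverse.mpr ⟨Ψ, fun t => ?_, fun t => ?_⟩,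
    fun b t => Φ.map_smul b t, hΦ⟩
  · show Ψ (Φ t) = t
    have h : t ∈ Submodule.span B (Set.range (SymmetricPower.tprod B (ι := ι) (M := KaehlerDifferential A B))) := by
      rw [SymmetricPower.span_tprod_eq_top]
      trivial
    induction h using Submodule.span_induction with
    | mem x hx => obtain ⟨v, rfl⟩ := hx; exact (congrArg Ψ (hΦ v)).trans (hΨ v)
    | zero => rw [map_zero, map_zero]
    | add x y _ _ hx hy => rw [map_add, map_add, hx, hy]
    | smul b x _ hx =>
      rw [map_smul, hsm, map_smul, hx]
      show μ (algebraMap B (B ⊗[A] B) b) • x = b • x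
      congr 1
      simp [μ, Algebra.TensorProduct.algebraMap_apply]
  · show Φ (Ψ t) = t
    have h : t ∈ Submodule.span (B ⊗[A] B) (Set.range (SymmetricPower.tprod (B ⊗[A] B) (ι := ι)
        (M := (KaehlerDifferential.ideal A B).Cotangent))) := by
      rw [SymmetricPower.span_tprod_eq_top]
      trivial
    induction h using Submodule.span_induction with
    | mem x hx => obtain ⟨v, rfl⟩ := hx; exact (congrArg Φ (hΨ v)).trans (hΦ v)
    | zero => rw [map_zero, map_zero]
    | add x y _ _ hx hy => rw [map_add, map_add, hx, hy]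
    | smul c x _ hx =>
      rw [map_smul]
      show Φ (μ c • Ψ x) = c • x
      rw [map_smul, hx, hsm, ← sub_eq_zero, ← sub_smul]
      refine Core.smul_eq_zero_of_ker (C := (B ⊗[A] B) ⧸ KaehlerDifferential.ideal A B) _ ?_ x
      rw [Ideal.Quotient.algebraMap_eq, Ideal.Quotient.eq_zero_iff_mem, KaehlerDifferential.ideal,
        RingHom.mem_ker]
      simp [μ, Algebra.TensorProduct.algebraMap_apply]

end

/-- Let B be an A-algebra which is formally smooth (for the discrete topologies). Then Spec B is
differentially smooth over Spec A: the module of differentials is projective and the canonical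
surjections Sym^n(Ω_{B/A}) → I^n/I^(n+1) are bijective for all n. -/
theorem result (A B : Type u) [CommRing A] [CommRing B] [Algebra A B]
    [Algebra.FormallySmooth A B] : PP16.IsDiffSmooth A B := by
  classical
  refine ⟨projective A B, fun ι _ => ?_⟩
  let I := KaehlerDifferential.ideal A B
  rcases isEmpty_or_nonempty ι with hι | hι
  · have h0 : Fintype.card ι = 0 := Fintype.card_eq_zero
    have hpow : I ^ (Fintype.card ι + 1) = I := by rw [h0, zero_add, pow_one]
    let φ := Core.symLift (R := B) (ι := ι) (M := KaehlerDifferential A B)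
      (N := _root_.PP16.grI A B (Fintype.card ι))
      (MultilinearMap.constOfIsEmpty B _ (_root_.PP16.zetaProd A B (fun i : ι => isEmptyElim i)))
      (fun _ _ => rfl)
    have hφ : ∀ v, φ (SymmetricPower.tprod B v) = _root_.PP16.zetaProd A B (fun i : ι => isEmptyElim i) :=
      fun v => Core.symLift_tprod _ _ v
    let v₀ : ι → KaehlerDifferential A B := isEmptyElim
    have hgen : ∀ t : SymmetricPower B ι (KaehlerDifferential A B), ∃ b : B,
        t = b • SymmetricPower.tprod B v₀ := by
      intro t
      have h : t ∈ Submodule.span B (Set.range (SymmetricPower.tprod B (ι := ι) (M := KaehlerDifferential A B))) := by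
        rw [SymmetricPower.span_tprod_eq_top]
        trivial
      rw [show Set.range (SymmetricPower.tprod B (ι := ι) (M := KaehlerDifferential A B)) =
        {SymmetricPower.tprod B v₀} from
          Set.range_eq_singleton_iff.mpr fun v => congrArg _ (Subsingleton.elim v v₀),
        Submodule.mem_span_singleton] at h
      exact h.imp fun b hb => hb.symm
    refine ⟨φ, fun b => (hφ _).trans (congrArg _ (Subsingleton.elim _ _)), ?_, ?_⟩
    · refine (injective_iff_map_eq_zero φ).mpr fun t ht => ?_
      obtain ⟨b, rfl⟩ := hgen t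
      rw [map_smul, hφ, _root_.PP16.zetaProd, ← Submodule.Quotient.mk_smul,
        Submodule.Quotient.mk_eq_zero, Submodule.mem_comap, Submodule.coe_subtype,
        Submodule.restrictScalars_mem, Submodule.coe_smul] at ht
      have h1 := hpow.le ht
      rw [RingHom.mem_ker] at h1
      have hb : b = 0 := by simpa [Algebra.smul_def, Algebra.TensorProduct.algebraMap_apply] using h1
      rw [hb, zero_smul]
    · intro y
      obtain ⟨⟨c, hc⟩, rfl⟩ := Submodule.Quotient.mk_surjective _ y
      refine ⟨(Algebra.TensorProduct.lmul' A c : B) • SymmetricPower.tprod B v₀, ?_⟩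
      rw [map_smul, hφ, _root_.PP16.zetaProd, ← Submodule.Quotient.mk_smul, Submodule.Quotient.eq,
        Submodule.mem_comap, Submodule.coe_subtype, Submodule.restrictScalars_mem]
      refine hpow.ge ?_
      rw [RingHom.mem_ker]
      simp [Algebra.smul_def, Algebra.TensorProduct.algebraMap_apply]
  · obtain ⟨φC, hφC, hbij⟩ := symGr A B ι
    obtain ⟨Φ, hΦbij, hΦsmul, hΦ⟩ := exists_change (A := A) (B := B) ι
    let q : ↥((I ^ Fintype.card ι).restrictScalars B) →ₗ[B]
        _root_.PP16.grJ (B ⊗[A] B) I (Fintype.card ι) :=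
      { toFun := fun y => Submodule.Quotient.mk ⟨y.1, y.2⟩
        map_add' := fun x y => rfl
        map_smul' := fun b x => rfl }
    have hq : ∀ y, q y = 0 ↔ y.1 ∈ I ^ (Fintype.card ι + 1) := fun y =>
      Submodule.Quotient.mk_eq_zero _
    let e : _root_.PP16.grI A B (Fintype.card ι) →ₗ[B]
        _root_.PP16.grJ (B ⊗[A] B) I (Fintype.card ι) :=
      Submodule.liftQ _ q fun y hy => (hq y).mpr hy
    have he : Function.Bijective e := by
      constructor
      · refine (injective_iff_map_eq_zero e).mpr fun y hy => ?_
        obtain ⟨y, rfl⟩ := Submodule.Quotient.mk_surjective _ y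
        exact (Submodule.Quotient.mk_eq_zero _).mpr ((hq y).mp hy)
      · intro y
        obtain ⟨⟨y, hy⟩, rfl⟩ := Submodule.Quotient.mk_surjective _ y
        exact ⟨Submodule.Quotient.mk ⟨y, hy⟩, rfl⟩
    let θ : SymmetricPower B ι (KaehlerDifferential A B) →ₗ[B]
        _root_.PP16.grJ (B ⊗[A] B) I (Fintype.card ι) :=
      { toFun := fun t => φC (Φ t)
        map_add' := fun x y => by rw [map_add, map_add]
        map_smul' := fun b x => by
          rw [hΦsmul, map_smul, RingHom.id_apply, algebraMap_smul] }
    let E := LinearEquiv.ofBijective e he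
    refine ⟨E.symm.toLinearMap ∘ₗ θ, fun b => ?_, E.symm.bijective.comp (hbij.comp hΦbij)⟩
    refine E.symm_apply_eq.mpr ?_
    refine ((congrArg φC (hΦ _)).trans (hφC fun i =>
      ⟨(1 : B) ⊗ₜ[A] b i - b i ⊗ₜ[A] (1 : B),
        KaehlerDifferential.one_smul_sub_smul_one_mem_ideal A (b i)⟩)).trans ?_
    rfl

end Groth.Agent.S3820
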