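import Groth.Statements.S3823
import Groth.Agent.H80.PP.Criterion
import Groth.Agent.S3819
import Groth.Agent.S3820
import Groth.Agent.S3826

set_option autoImplicit false
set_option backward.isDefEq.respectTransparency false
universe u
open scoped TensorProduct
open PP16

namespace Groth.Agent.S3823

open scoped TensorProduct
open Groth.Agent.Lib.SymGr.Core

section
variable (A B : Type u) [CommRing A] [CommRing B] [Algebra A B]

theorem projective_iff :
    Module.Projective B (KaehlerDifferential A B) ↔
      Module.Projective ((B ⊗[A] B) ⧸ KaehlerDifferential.ideal A B)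
        (KaehlerDifferential.ideal A B).Cotangent := by
  let μ : B ⊗[A] B →ₐ[A] B := Algebra.TensorProduct.lmul' A
  have hμ : Function.Surjective μ.toRingHom := fun b => ⟨b ⊗ₜ 1, by simp [μ]⟩
  let e₁ : ((B ⊗[A] B) ⧸ KaehlerDifferential.ideal A B) ≃+* B :=
    RingHom.quotientKerEquivOfSurjective hμ
  have hsm : ∀ (c : (B ⊗[A] B) ⧸ KaehlerDifferential.ideal A B)
      (x : (KaehlerDifferential.ideal A B).Cotangent),
      (AddEquiv.refl (KaehlerDifferential A B)) (c • x) = e₁ c • (x : KaehlerDifferential A B) := by
    intro c x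
    obtain ⟨c, rfl⟩ := Ideal.Quotient.mk_surjective c
    refine Eq.trans ?_ (Groth.Agent.S3820.smul_eq A B c x)
    exact algebraMap_smul ((B ⊗[A] B) ⧸ KaehlerDifferential.ideal A B) c x
  haveI := RingHomInvPair.of_ringEquiv e₁
  haveI := RingHomInvPair.of_ringEquiv e₁.symm
  let e₂ : (KaehlerDifferential.ideal A B).Cotangent ≃ₛₗ[RingHomClass.toRingHom e₁]
      KaehlerDifferential A B :=
    { AddEquiv.refl (KaehlerDifferential A B) with map_smul' := hsm }
  exact ⟨fun h => Module.Projective.of_equiv (R := B) e₂.symm,
    fun h => Module.Projective.of_equiv e₂⟩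

theorem phi_comp (ι : Type u) [Fintype ι] [Nonempty ι]
    (φB : SymmetricPower B ι (KaehlerDifferential A B) →ₗ[B] PP16.grI A B (Fintype.card ι))
    (hφB : ∀ b : ι → B, φB (SymmetricPower.tprod B (fun i => KaehlerDifferential.D A B (b i))) =
      PP16.zetaProd A B b)
    (φC : SymmetricPower (B ⊗[A] B) ι (KaehlerDifferential.ideal A B).Cotangent →ₗ[B ⊗[A] B]
      PP16.grJ (B ⊗[A] B) (KaehlerDifferential.ideal A B) (Fintype.card ι))
    (hφC : ∀ x : ι → KaehlerDifferential.ideal A B,
      φC (SymmetricPower.tprod (B ⊗[A] B) (fun i => (KaehlerDifferential.ideal A B).toCotangent (x i))) =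
        PP16.zetaJ (B ⊗[A] B) (KaehlerDifferential.ideal A B) x) :
    Function.Bijective φB ↔ Function.Bijective φC := by
  classical
  let I := KaehlerDifferential.ideal A B
  obtain ⟨Φ, hΦbij, hΦsmul, hΦ⟩ := Groth.Agent.S3820.exists_change (A := A) (B := B) ι
  let q : ↥((I ^ Fintype.card ι).restrictScalars B) →ₗ[B]
      PP16.grJ (B ⊗[A] B) I (Fintype.card ι) :=
    { toFun := fun y => Submodule.Quotient.mk ⟨y.1, y.2⟩
      map_add' := fun x y => rfl
      map_smul' := fun b x => rfl }
  have hq : ∀ y, q y = 0 ↔ y.1 ∈ I ^ (Fintype.card ι + 1) := fun y =>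
    Submodule.Quotient.mk_eq_zero _
  let e : PP16.grI A B (Fintype.card ι) →ₗ[B] PP16.grJ (B ⊗[A] B) I (Fintype.card ι) :=
    Submodule.liftQ _ q fun y hy => (hq y).mpr hy
  have he : Function.Bijective e := by
    constructor
    · refine (injective_iff_map_eq_zero e).mpr fun y hy => ?_
      obtain ⟨y, rfl⟩ := Submodule.Quotient.mk_surjective _ y
      exact (Submodule.Quotient.mk_eq_zero _).mpr ((hq y).mp hy)
    · intro y
      obtain ⟨⟨y, hy⟩, rfl⟩ := Submodule.Quotient.mk_surjective _ y
      exact ⟨Submodule.Quotient.mk ⟨y, hy⟩, rfl⟩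
  have hcomm : ∀ t, φC (Φ t) = e (φB t) := by
    intro t
    have ht : t ∈ Submodule.span B (Set.range fun b : ι → B =>
        SymmetricPower.tprod B fun i => KaehlerDifferential.D A B (b i)) := by
      have htop : (⊤ : Submodule B (SymmetricPower B ι (KaehlerDifferential A B))) ≤
          Submodule.span B (Set.range fun b : ι → B =>
            SymmetricPower.tprod B fun i => KaehlerDifferential.D A B (b i)) := by
        rw [← SymmetricPower.span_tprod_eq_top, Submodule.span_le]
        rintro _ ⟨v, rfl⟩
        have hv : ∀ i, ∃ c : B →₀ B, Finsupp.linearCombination B (KaehlerDifferential.D A B) c = v i :=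
          fun i => Finsupp.mem_span_range_iff_exists_finsupp.mp
            ((KaehlerDifferential.span_range_derivation A B).ge trivial)
        choose c hc using hv
        rw [← funext hc]
        simp only [Finsupp.linearCombination_apply, Finsupp.sum]
        rw [MultilinearMap.map_sum_finset]
        refine Submodule.sum_mem _ fun g _ => ?_
        rw [MultilinearMap.map_smul_univ]
        exact Submodule.smul_mem _ _ (Submodule.subset_span ⟨fun i => g i, rfl⟩)
      exact htop trivial
    induction ht using Submodule.span_induction with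
    | mem x hx =>
      obtain ⟨b, rfl⟩ := hx
      rw [hφB]
      refine ((congrArg φC (hΦ _)).trans (hφC fun i =>
        ⟨(1 : B) ⊗ₜ[A] b i - b i ⊗ₜ[A] (1 : B),
          KaehlerDifferential.one_smul_sub_smul_one_mem_ideal A (b i)⟩)).trans ?_
      rfl
    | zero => simp
    | add x y _ _ hx hy => rw [map_add, map_add, map_add, map_add, hx, hy]
    | smul c x _ hx => rw [hΦsmul, map_smul, hx, map_smul, map_smul, algebraMap_smul]
  constructor
  · intro h
    have : φC ∘ Φ = e ∘ φB := funext hcomm
    have h2 : Function.Bijective (φC ∘ Φ) := this ▸ he.comp h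
    exact (Function.Bijective.of_comp_iff φC hΦbij).mp h2
  · intro h
    have h2 : Function.Bijective (e ∘ φB) := by
      rw [show e ∘ φB = φC ∘ Φ from (funext hcomm).symm]
      exact h.comp hΦbij
    exact (Function.Bijective.of_comp_iff' he φB).mp h2

theorem empty_bijective (ι : Type u) [Fintype ι] [IsEmpty ι]
    (φ : SymmetricPower B ι (KaehlerDifferential A B) →ₗ[B] PP16.grI A B (Fintype.card ι))
    (hφ : ∀ b : ι → B, φ (SymmetricPower.tprod B (fun i => KaehlerDifferential.D A B (b i))) =
      PP16.zetaProd A B b) : Function.Bijective φ := by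
  classical
  refine ⟨(injective_iff_map_eq_zero φ).mpr fun t ht => ?_, ?_⟩
  · let v₀ : ι → KaehlerDifferential A B := isEmptyElim
    have ht' : t ∈ Submodule.span B {SymmetricPower.tprod B v₀} := by
      rw [← show Set.range (SymmetricPower.tprod B (ι := ι) (M := KaehlerDifferential A B)) =
        {SymmetricPower.tprod B v₀} from
          Set.range_eq_singleton_iff.mpr fun v => congrArg _ (Subsingleton.elim v v₀),
        SymmetricPower.span_tprod_eq_top]
      trivial
    obtain ⟨b, rfl⟩ := Submodule.mem_span_singleton.mp ht'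
    rw [map_smul, show v₀ = fun i => KaehlerDifferential.D A B ((isEmptyElim : ι → B) i) from
      Subsingleton.elim _ _, hφ, _root_.PP16.zetaProd, ← Submodule.Quotient.mk_smul,
      Submodule.Quotient.mk_eq_zero, Submodule.mem_comap, Submodule.coe_subtype,
      Submodule.restrictScalars_mem, Submodule.coe_smul] at ht
    have h1 := Ideal.pow_le_self (Nat.succ_ne_zero _) ht
    rw [RingHom.mem_ker] at h1
    have hb : b = 0 := by simpa [Algebra.smul_def, Algebra.TensorProduct.algebraMap_apply] using h1
    rw [hb, zero_smul]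
  · rw [← LinearMap.range_eq_top, ← top_le_iff]
    refine (Groth.Agent.S3819.exists_span_zeta A B ι).trans (Submodule.span_le.mpr ?_)
    rintro _ ⟨b, rfl⟩
    exact ⟨_, hφ b⟩

end

/-- Let B be an A-algebra of finite type. Then B is differentially smooth over A if and only if the
diagonal immersion is quasi-regular, that is, the kernel I of B ⊗_A B → B is a quasi-regular ideal:
every prime of B ⊗_A B containing I has a basic open neighbourhood on which I is generated by a
quasi-regular sequence. -/
theorem result (A B : Type u) [CommRing A] [CommRing B] [Algebra A B]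
    [Algebra.FiniteType A B] :
    PP16.IsDiffSmooth A B ↔ PP16.IsLocallyQuasiRegular (B ⊗[A] B) (KaehlerDifferential.ideal A B) := by
  classical
  rw [Groth.Agent.S3826.result]
  constructor
  · rintro ⟨hproj, hgr⟩
    refine ⟨KaehlerDifferential.ideal_fg A B, (projective_iff A B).mp hproj, fun ι _ _ => ?_⟩
    obtain ⟨φB, hφB, hbij⟩ := hgr ι
    obtain ⟨φC, hφC⟩ := Groth.Agent.H80.PP.Chart.exists_phiJ (KaehlerDifferential.ideal A B) ι
    exact ⟨φC, hφC, (phi_comp A B ι φB hφB φC hφC).mp hbij⟩
  · rintro ⟨-, hproj, hgr⟩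
    refine ⟨(projective_iff A B).mpr hproj, fun ι _ => ?_⟩
    obtain ⟨φB, hφB⟩ := Groth.Agent.S3819.exists_phi A B ι
    refine ⟨φB, hφB, ?_⟩
    rcases isEmpty_or_nonempty ι with hι | hι
    · exact empty_bijective A B ι φB hφB
    · obtain ⟨φC, hφC, hbij⟩ := hgr ι
      exact (phi_comp A B ι φB hφB φC hφC).mpr hbij

end Groth.Agent.S3823
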