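import Groth.Statements.S3821
import Groth.Agent.S3806
import Groth.Agent.S3823
import Mathlib

set_option autoImplicit false
set_option backward.isDefEq.respectTransparency false
universe u
open scoped TensorProduct
open PP16

namespace Groth.Agent.S3821

open scoped TensorProduct
open Groth.Agent.Lib.SymGr.Core
attribute [local instance] _root_.PP16.mapAlgebra

section retract
variable (B M : Type u) [CommRing B] [AddCommGroup M] [Module B M] (ι : Type u) [Fintype ι]

theorem projective_symmetricPower [Module.Projective B M] :
    Module.Projective B (SymmetricPower B ι M) := by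
  classical
  obtain ⟨s, hs⟩ := Module.projective_def'.1 ‹Module.Projective B M›
  let T : (M →₀ ℕ) → SymmetricPower B ι M := fun d =>
    if h : ∃ g : ι → M, ∑ i, Finsupp.single (g i) 1 = d then SymmetricPower.tprod B h.choose else 0
  have hT : ∀ g : ι → M, T (∑ i, Finsupp.single (g i) 1) = SymmetricPower.tprod B g := fun g => by
    have hg : ∃ g' : ι → M, ∑ i, Finsupp.single (g' i) 1 = ∑ i, Finsupp.single (g i) 1 := ⟨g, rfl⟩
    obtain ⟨e, he⟩ := exists_perm_of_sum_single_eq g hg.choose hg.choose_spec.symm
    simp only [T, dif_pos hg]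
    rw [← SymmetricPower.tprod_equiv e]
    exact congr_arg _ (funext he)
  let Ψ₀ := (MvPolynomial.basisMonomials M B).constr B T
  have hΨ₀ : ∀ d, Ψ₀ (MvPolynomial.monomial d 1) = T d := fun d => by
    have h := (MvPolynomial.basisMonomials M B).constr_basis B T d
    rwa [MvPolynomial.coe_basisMonomials] at h
  let L : (M →₀ B) →ₗ[B] MvPolynomial M B := Finsupp.linearCombination B MvPolynomial.X
  let π : (M →₀ B) →ₗ[B] M := Finsupp.linearCombination B id
  have hmul : Ψ₀.compMultilinearMap
      ((MultilinearMap.mkPiAlgebra B ι (MvPolynomial M B)).compLinearMap fun _ => L) =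
        (SymmetricPower.tprod B (ι := ι) (M := M)).compLinearMap fun _ => π :=
    Module.Basis.ext_multilinear (fun _ => Finsupp.basisSingleOne) fun g => by
      simp only [LinearMap.compMultilinearMap_apply, MultilinearMap.compLinearMap_apply,
        MultilinearMap.mkPiAlgebra_apply, Finsupp.coe_basisSingleOne, L, π,
        Finsupp.linearCombination_single, one_smul, id_eq]
      rw [show ∏ i, (MvPolynomial.X (g i) : MvPolynomial M B) =
        MvPolynomial.monomial (∑ i, Finsupp.single (g i) 1) 1 from
          (MvPolynomial.monomial_sum_one _ _).symm, hΨ₀, hT]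
  let ρ : SymmetricPower B ι M →ₗ[B] MvPolynomial M B :=
    symLift ((MultilinearMap.mkPiAlgebra B ι (MvPolynomial M B)).compLinearMap fun _ => L ∘ₗ s)
      fun e v => Equiv.prod_comp e fun i => (L ∘ₗ s) (v i)
  have := Module.Free.of_basis (MvPolynomial.basisMonomials M B)
  refine Module.Projective.of_split ρ Ψ₀ (LinearMap.ext fun t => ?_)
  have h : t ∈ Submodule.span B (Set.range (SymmetricPower.tprod B (ι := ι) (M := M))) := by
    rw [SymmetricPower.span_tprod_eq_top]
    trivial
  rw [LinearMap.comp_apply, LinearMap.id_apply]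
  induction h using Submodule.span_induction with
  | mem x hx =>
    obtain ⟨p, rfl⟩ := hx
    rw [symLift_tprod]
    refine (DFunLike.congr_fun hmul fun i => s (p i)).trans ?_
    show SymmetricPower.tprod B (fun i => π (s (p i))) = _
    exact congr_arg _ (funext fun i => LinearMap.congr_fun hs (p i))
  | zero => rw [map_zero, map_zero]
  | add x y _ _ hx hy => rw [map_add, map_add, hx, hy]
  | smul b x _ hx => rw [map_smul, map_smul, hx]

end retract

section retraction
variable {A B : Type u} [CommRing A] [CommRing B] [Algebra A B]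

local notation "I'" => KaehlerDifferential.ideal A B

/-- The inclusion of the last graded piece into the principal parts. -/
noncomputable def emb (n : ℕ) : _root_.PP16.grI A B n →ₗ[B] _root_.PP16.P n A B :=
  Submodule.liftQ _
    ((Ideal.Quotient.mkₐ B (I' ^ (n + 1))).toLinearMap ∘ₗ ((I' ^ n).restrictScalars B).subtype)
    fun y hy => Ideal.Quotient.eq_zero_iff_mem.mpr hy

theorem emb_injective (n : ℕ) : Function.Injective (emb (A := A) (B := B) n) := by
  refine (injective_iff_map_eq_zero _).mpr fun y hy => ?_
  obtain ⟨y, rfl⟩ := Submodule.Quotient.mk_surjective _ y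
  exact (Submodule.Quotient.mk_eq_zero _).mpr (Ideal.Quotient.eq_zero_iff_mem.mp hy : (y : B ⊗[A] B) ∈ _)

theorem exists_retraction (hB : _root_.PP16.IsDiffSmooth A B) :
    ∀ n : ℕ, Module.Projective B (_root_.PP16.P n A B) ∧
      ∃ r : _root_.PP16.P n A B →ₗ[B] _root_.PP16.grI A B n, ∀ x, r (emb n x) = x := by
  classical
  have := hB.1
  intro n
  induction n with
  | zero =>
    have hbij : Function.Bijective (emb (A := A) (B := B) 0) := by
      refine ⟨emb_injective 0, fun x => ?_⟩
      obtain ⟨x, rfl⟩ := Ideal.Quotient.mk_surjective x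
      exact ⟨Submodule.Quotient.mk ⟨x, by simp⟩, rfl⟩
    let μ : _root_.PP16.P 0 A B →ₐ[B] B := Ideal.Quotient.liftₐ _ (Algebra.TensorProduct.lmul'' A)
      fun x hx => by
        rw [zero_add, pow_one] at hx
        exact hx
    have hμ : Function.Bijective μ := by
      refine ⟨(injective_iff_map_eq_zero μ).mpr fun x hx => ?_, fun b => ⟨algebraMap B _ b, μ.commutes b⟩⟩
      obtain ⟨x, rfl⟩ := Ideal.Quotient.mk_surjective x
      rw [Ideal.Quotient.eq_zero_iff_mem, zero_add, pow_one]
      exact hx
    refine ⟨Module.Projective.of_equiv (LinearEquiv.ofBijective μ.toLinearMap hμ).symm,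
      (LinearEquiv.ofBijective _ hbij).symm.toLinearMap,
      fun x => (LinearEquiv.ofBijective _ hbij).symm_apply_apply x⟩
  | succ n ih =>
    obtain ⟨hproj, -⟩ := ih
    obtain ⟨φ, -, hbij⟩ := hB.2 (ULift.{u} (Fin (n + 1)))
    have hcard : Fintype.card (ULift.{u} (Fin (n + 1))) = n + 1 := by simp
    rw [hcard] at φ
    have hgr : Module.Projective B (_root_.PP16.grI A B (n + 1)) := by
      obtain ⟨φ', -, hbij'⟩ := hB.2 (ULift.{u} (Fin (n + 1)))
      have h1 : Module.Projective B (_root_.PP16.grI A B (Fintype.card (ULift.{u} (Fin (n + 1))))) := by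
        have := projective_symmetricPower B (KaehlerDifferential A B) (ULift.{u} (Fin (n + 1)))
        exact Module.Projective.of_equiv (LinearEquiv.ofBijective φ' hbij')
      rwa [hcard] at h1
    let π : _root_.PP16.P (n + 1) A B →ₗ[B] _root_.PP16.P n A B :=
      (Ideal.Quotient.factorₐ B (Ideal.pow_le_pow_right (Nat.le_succ (n + 1)))).toLinearMap
    have hπ : Function.Surjective π := fun y => by
      obtain ⟨y, rfl⟩ := Ideal.Quotient.mk_surjective y
      exact ⟨Ideal.Quotient.mk _ y, rfl⟩
    obtain ⟨s, hs⟩ := Module.projective_lifting_property π LinearMap.id hπ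
    have hker : ∀ x, x - s (π x) ∈ LinearMap.range (emb (A := A) (B := B) (n + 1)) := by
      intro x
      have h0 : π (x - s (π x)) = 0 := by
        rw [map_sub, show π (s (π x)) = π x from LinearMap.congr_fun hs _, sub_self]
      generalize x - s (π x) = w at h0
      obtain ⟨w, rfl⟩ := Ideal.Quotient.mk_surjective w
      exact ⟨Submodule.Quotient.mk ⟨w, (Ideal.Quotient.eq_zero_iff_mem.mp h0 : w ∈ I' ^ (n + 1))⟩, rfl⟩
    let E := LinearEquiv.ofInjective (emb (A := A) (B := B) (n + 1)) (emb_injective _)
    let r : _root_.PP16.P (n + 1) A B →ₗ[B] _root_.PP16.grI A B (n + 1) :=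
      E.symm.toLinearMap ∘ₗ (LinearMap.id - s ∘ₗ π).codRestrict _ hker
    have hr : ∀ x, emb (n + 1) (r x) = x - s (π x) := fun x =>
      congrArg Subtype.val (E.apply_symm_apply ⟨x - s (π x), hker x⟩)
    have hπe : ∀ y, π (emb (n + 1) y) = 0 := fun y => by
      obtain ⟨y, rfl⟩ := Submodule.Quotient.mk_surjective _ y
      exact Ideal.Quotient.eq_zero_iff_mem.mpr y.2
    refine ⟨Module.Projective.of_split (r.prod π) (LinearMap.coprod (emb (n + 1)) s) ?_, r, fun y =>
      emb_injective _ (by rw [hr, hπe, map_zero, sub_zero])⟩
    refine LinearMap.ext fun x => ?_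
    simp [hr]

end retraction

/-- Let B be an A-algebra, A → A' a ring map and B' = B ⊗_A A'. If B is differentially smooth over A,
then B' is differentially smooth over A'. -/
theorem result (A B A' B' : Type u) [CommRing A] [CommRing B] [Algebra A B]
    [CommRing A'] [CommRing B'] [Algebra A' B'] [Algebra A A'] [Algebra B B'] [Algebra A B']
    [IsScalarTower A A' B'] [IsScalarTower A B B'] [Algebra.IsPushout A B A' B']
    (h : PP16.IsDiffSmooth A B) : PP16.IsDiffSmooth A' B' := by
  classical
  haveI := h.1
  haveI : Algebra.IsPushout A A' B B' := Algebra.IsPushout.symm inferInstance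
  let E := KaehlerDifferential.tensorKaehlerEquiv A A' B B'
  have hproj : Module.Projective B' (KaehlerDifferential A' B') := Module.Projective.of_equiv E
  have hspanΩ : Submodule.span B' (Set.range fun b : B =>
      KaehlerDifferential.D A' B' (algebraMap B B' b)) = ⊤ := by
    rw [eq_top_iff]
    intro ω hω
    clear hω
    obtain ⟨x, rfl⟩ := E.surjective ω
    induction x using TensorProduct.induction_on with
    | zero => rw [map_zero]; exact zero_mem _
    | add x y hx hy => rw [map_add]; exact add_mem hx hy
    | tmul c m =>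
      have hm : m ∈ Submodule.span B (Set.range (KaehlerDifferential.D A B)) :=
        (KaehlerDifferential.span_range_derivation A B).ge trivial
      induction hm using Submodule.span_induction generalizing c with
      | mem x hx =>
        obtain ⟨b, rfl⟩ := hx
        rw [KaehlerDifferential.tensorKaehlerEquiv_tmul_D]
        exact Submodule.smul_mem _ _ (Submodule.subset_span ⟨b, rfl⟩)
      | zero => rw [TensorProduct.tmul_zero, map_zero]; exact zero_mem _
      | add x y _ _ hx hy => rw [TensorProduct.tmul_add, map_add]; exact add_mem (hx c) (hy c)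
      | smul r x _ hx => rw [TensorProduct.tmul_smul, TensorProduct.smul_tmul']; exact hx _
  refine ⟨hproj, fun ι _ => ?_⟩
  obtain ⟨φ', hφ'⟩ := Groth.Agent.S3819.exists_phi A' B' ι
  refine ⟨φ', hφ', ?_, ?_⟩
  swap
  · rw [← LinearMap.range_eq_top, ← top_le_iff]
    refine (Groth.Agent.S3819.exists_span_zeta A' B' ι).trans (Submodule.span_le.mpr ?_)
    rintro _ ⟨b, rfl⟩
    exact ⟨_, hφ' b⟩
  obtain ⟨φ, hφ, hbij⟩ := h.2 ι
  obtain ⟨-, r, hr⟩ := exists_retraction h (Fintype.card ι)
  letI : Module B (SymmetricPower B' ι (KaehlerDifferential A' B')) :=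
    Module.compHom _ (algebraMap B B')
  haveI : IsScalarTower B B' (SymmetricPower B' ι (KaehlerDifferential A' B')) :=
    IsScalarTower.of_algebraMap_smul fun _ _ => rfl
  let Θ : SymmetricPower B ι (KaehlerDifferential A B) →ₗ[B]
      SymmetricPower B' ι (KaehlerDifferential A' B') :=
    symLift
      (MultilinearMap.mk'
        (fun v => SymmetricPower.tprod B' (fun i => KaehlerDifferential.map A A' B B' (v i)))
        (fun v i x y => by
          show SymmetricPower.tprod B' (fun j => KaehlerDifferential.map A A' B B' (Function.update v i (x + y) j)) = _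
          simp only [Function.apply_update (fun _ => KaehlerDifferential.map A A' B B') v, map_add]
          exact MultilinearMap.map_update_add _ _ _ _ _)
        (fun v i c x => by
          show SymmetricPower.tprod B' (fun j => KaehlerDifferential.map A A' B B' (Function.update v i (c • x) j)) = _
          simp only [Function.apply_update (fun _ => KaehlerDifferential.map A A' B B') v, map_smul]
          rw [← algebraMap_smul B' c, MultilinearMap.map_update_smul, algebraMap_smul]))
      fun e v => SymmetricPower.tprod_equiv e fun i => KaehlerDifferential.map A A' B B' (v i)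
  have hΘ : ∀ v, Θ (SymmetricPower.tprod B v) =
      SymmetricPower.tprod B' (fun i => KaehlerDifferential.map A A' B B' (v i)) := fun v =>
    symLift_tprod _ _ v
  haveI := _root_.PP16.isScalarTower_mapAlgebra (Fintype.card ι) A B A' B'
  haveI : Algebra.IsPushout B B' (PP16.P (Fintype.card ι) A B) (PP16.P (Fintype.card ι) A' B') :=
    Algebra.IsPushout.symm (Groth.Agent.S3806.result (Fintype.card ι) A B A' B')
  let g : PP16.P (Fintype.card ι) A B →ₗ[B] SymmetricPower B' ι (KaehlerDifferential A' B') :=
    Θ ∘ₗ (LinearEquiv.ofBijective φ hbij).symm.toLinearMap ∘ₗ r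
  have hP : IsBaseChange B' (IsScalarTower.toAlgHom B (PP16.P (Fintype.card ι) A B) (PP16.P (Fintype.card ι) A' B')).toLinearMap :=
    Algebra.IsPushout.out
  let r' := hP.lift g
  have key : ∀ t, r' (emb (Fintype.card ι) (φ' t)) = t := by
    intro t
    have ht : t ∈ Submodule.span B' (Set.range fun b : ι → B =>
        SymmetricPower.tprod B' fun i => KaehlerDifferential.D A' B' (algebraMap B B' (b i))) := by
      have htop : (⊤ : Submodule B' (SymmetricPower B' ι (KaehlerDifferential A' B'))) ≤
          Submodule.span B' (Set.range fun b : ι → B =>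
            SymmetricPower.tprod B' fun i => KaehlerDifferential.D A' B' (algebraMap B B' (b i))) := by
        rw [← SymmetricPower.span_tprod_eq_top, Submodule.span_le]
        rintro _ ⟨v, rfl⟩
        have hv : ∀ i, ∃ c : B →₀ B', Finsupp.linearCombination B'
            (fun b : B => KaehlerDifferential.D A' B' (algebraMap B B' b)) c = v i :=
          fun i => Finsupp.mem_span_range_iff_exists_finsupp.mp (hspanΩ.ge trivial)
        choose c hc using hv
        rw [← funext hc]
        simp only [Finsupp.linearCombination_apply, Finsupp.sum]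
        rw [MultilinearMap.map_sum_finset]
        refine Submodule.sum_mem _ fun k _ => ?_
        rw [MultilinearMap.map_smul_univ]
        exact Submodule.smul_mem _ _ (Submodule.subset_span ⟨fun i => k i, rfl⟩)
      exact htop trivial
    induction ht using Submodule.span_induction with
    | mem x hx =>
      obtain ⟨b, rfl⟩ := hx
      rw [hφ']
      have h1 : (emb (Fintype.card ι) (PP16.zetaProd A' B' fun i => algebraMap B B' (b i)) : PP16.P (Fintype.card ι) A' B') =
          (IsScalarTower.toAlgHom B (PP16.P (Fintype.card ι) A B) (PP16.P (Fintype.card ι) A' B')).toLinearMap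
            (emb (Fintype.card ι) (PP16.zetaProd A B b)) := by
        show Ideal.Quotient.mk _ (∏ i, ((1 : B') ⊗ₜ[A'] algebraMap B B' (b i) -
            algebraMap B B' (b i) ⊗ₜ[A'] (1 : B'))) =
          PP16.map (Fintype.card ι) A B A' B' (Ideal.Quotient.mk _ (∏ i, ((1 : B) ⊗ₜ[A] b i - b i ⊗ₜ[A] (1 : B))))
        rw [PP16.map_mk, map_prod (PP16.tensorMap A B A' B')]
        simp [PP16.tensorMap_tmul]
      rw [h1, IsBaseChange.lift_eq]
      simp only [g, LinearMap.comp_apply, LinearEquiv.coe_coe, hr]
      rw [← hφ, LinearEquiv.ofBijective_symm_apply_apply, hΘ]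
      simp [KaehlerDifferential.map_D]
    | zero => simp
    | add x y _ _ hx hy => rw [map_add, map_add, map_add, hx, hy]
    | smul c x _ hx => rw [map_smul, map_smul, map_smul, hx]
  exact Function.LeftInverse.injective (g := fun y => r' (emb (Fintype.card ι) y)) key

end Groth.Agent.S3821
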