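import Groth.Statements.S3822
import Groth.Agent.S3823
import Groth.Agent.Lib.Pure.ProjDescent
import Mathlib

set_option autoImplicit false
set_option backward.isDefEq.respectTransparency false
universe u
open scoped TensorProduct
open PP16

namespace Groth.Agent.S3822

open scoped TensorProduct
open Groth.Agent.Lib.SymGr.Core

/-- Let B be an A-algebra, A → A' a faithfully flat ring map and B' = B ⊗_A A'. If B' is differentially
smooth over A' and its module of differentials is finitely generated, then B is differentially
smooth over A and its module of differentials is finitely generated. -/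
theorem result (A B A' B' : Type u) [CommRing A] [CommRing B] [Algebra A B]
    [CommRing A'] [CommRing B'] [Algebra A' B'] [Algebra A A'] [Algebra B B'] [Algebra A B']
    [IsScalarTower A A' B'] [IsScalarTower A B B'] [Algebra.IsPushout A B A' B'] [Module.FaithfullyFlat A A']
    (h : PP16.IsDiffSmooth A' B') (hfin : Module.Finite B' (KaehlerDifferential A' B')) :
    PP16.IsDiffSmooth A B ∧ Module.Finite B (KaehlerDifferential A B) := by
  classical
  haveI : Algebra.IsPushout A A' B B' := Algebra.IsPushout.symm inferInstance
  haveI hFF : Module.FaithfullyFlat B B' := by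
    have : Module.FaithfullyFlat B (B ⊗[A] A') := inferInstance
    exact Module.FaithfullyFlat.of_linearEquiv B (B ⊗[A] A') (Algebra.IsPushout.equiv A B A' B').symm.toLinearEquiv
  let E := KaehlerDifferential.tensorKaehlerEquiv A A' B B'
  haveI := h.1
  haveI : Module.Projective B' (B' ⊗[B] KaehlerDifferential A B) := Module.Projective.of_equiv E.symm
  haveI : Module.Finite B' (B' ⊗[B] KaehlerDifferential A B) := Module.Finite.equiv E.symm
  haveI hproj : Module.Projective B (KaehlerDifferential A B) :=
    Groth.Agent.Lib.Pure.ProjDescent.projective_of_faithfullyFlat B'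
  have hfinB : Module.Finite B (KaehlerDifferential A B) :=
    Module.Finite.of_finite_tensorProduct_of_faithfullyFlat B'
  refine ⟨⟨hproj, fun ι _ => ?_⟩, hfinB⟩
  obtain ⟨φ, hφ⟩ := Groth.Agent.S3819.exists_phi A B ι
  refine ⟨φ, hφ, ?_, ?_⟩
  swap
  · rw [← LinearMap.range_eq_top, ← top_le_iff]
    refine (Groth.Agent.S3819.exists_span_zeta A B ι).trans (Submodule.span_le.mpr ?_)
    rintro _ ⟨b, rfl⟩
    exact ⟨_, hφ b⟩
  let M := KaehlerDifferential A B
  let M' := KaehlerDifferential A' B'
  obtain ⟨φ', hφ', hbij'⟩ := h.2 ι
  let f : M →ₗ[B] M' := KaehlerDifferential.map A A' B B'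
  have hfE : ∀ m : M, E (1 ⊗ₜ m) = f m := by
    intro m
    have hm : m ∈ Submodule.span B (Set.range (KaehlerDifferential.D A B)) :=
      (KaehlerDifferential.span_range_derivation A B).ge trivial
    induction hm using Submodule.span_induction with
    | mem x hx =>
      obtain ⟨b, rfl⟩ := hx
      rw [KaehlerDifferential.tensorKaehlerEquiv_tmul_D, one_smul]
      exact (KaehlerDifferential.map_D A A' B B' b).symm
    | zero => simp
    | add x y _ _ hx hy => rw [TensorProduct.tmul_add, map_add, map_add, hx, hy]
    | smul c x _ hx =>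
      rw [TensorProduct.tmul_smul, ← algebraMap_smul B' c, map_smul, hx, map_smul, algebraMap_smul]
  letI : Module B (SymmetricPower B' ι M') := Module.compHom _ (algebraMap B B')
  haveI : IsScalarTower B B' (SymmetricPower B' ι M') :=
    IsScalarTower.of_algebraMap_smul fun _ _ => rfl
  let Θ : SymmetricPower B ι M →ₗ[B] SymmetricPower B' ι M' :=
    symLift
      (MultilinearMap.mk'
        (fun v => SymmetricPower.tprod B' (fun i => f (v i)))
        (fun v i x y => by
          show SymmetricPower.tprod B' (fun j => f (Function.update v i (x + y) j)) = _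
          simp only [Function.apply_update (fun _ => f) v, map_add]
          exact MultilinearMap.map_update_add _ _ _ _ _)
        (fun v i c x => by
          show SymmetricPower.tprod B' (fun j => f (Function.update v i (c • x) j)) = _
          simp only [Function.apply_update (fun _ => f) v, map_smul]
          rw [← algebraMap_smul B' c, MultilinearMap.map_update_smul, algebraMap_smul]))
      fun e v => SymmetricPower.tprod_equiv e fun i => f (v i)
  have hΘ : ∀ v, Θ (SymmetricPower.tprod B v) =
      SymmetricPower.tprod B' (fun i => f (v i)) := fun v => symLift_tprod _ _ v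
  -- `Θ` is injective
  obtain ⟨s, hs⟩ := Module.projective_def'.1 hproj
  let L : (M →₀ B) →ₗ[B] MvPolynomial M B := Finsupp.linearCombination B MvPolynomial.X
  let S : M →ₗ[B] MvPolynomial M B := L ∘ₗ s
  let ρ : SymmetricPower B ι M →ₗ[B] MvPolynomial M B :=
    symLift ((MultilinearMap.mkPiAlgebra B ι (MvPolynomial M B)).compLinearMap fun _ => S)
      fun e v => Equiv.prod_comp e fun i => S (v i)
  let mp : MvPolynomial M B →ₐ[B] MvPolynomial M B' :=
    MvPolynomial.mapAlgHom (Algebra.ofId B B')
  let S' : M' →ₗ[B'] MvPolynomial M B' :=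
    (LinearMap.liftBaseChange B' (mp.toLinearMap ∘ₗ S)) ∘ₗ E.symm.toLinearMap
  have hS' : ∀ m, S' (f m) = mp (S m) := fun m => by
    rw [← hfE]
    show LinearMap.liftBaseChange B' (mp.toLinearMap ∘ₗ S) (E.symm (E (1 ⊗ₜ[B] m))) = _
    rw [E.symm_apply_apply, LinearMap.liftBaseChange_tmul, one_smul]
    rfl
  let ρ' : SymmetricPower B' ι M' →ₗ[B'] MvPolynomial M B' :=
    symLift ((MultilinearMap.mkPiAlgebra B' ι (MvPolynomial M B')).compLinearMap fun _ => S')
      fun e v => Equiv.prod_comp e fun i => S' (v i)
  have hρΘ : ∀ t, ρ' (Θ t) = mp (ρ t) := by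
    intro t
    have ht : t ∈ Submodule.span B (Set.range (SymmetricPower.tprod B (ι := ι) (M := M))) := by
      rw [SymmetricPower.span_tprod_eq_top]
      trivial
    induction ht using Submodule.span_induction with
    | mem x hx =>
      obtain ⟨v, rfl⟩ := hx
      rw [hΘ, symLift_tprod, symLift_tprod]
      simp [hS', map_prod]
    | zero => simp
    | add x y _ _ hx hy => rw [map_add, map_add, map_add, map_add, hx, hy]
    | smul c x _ hx =>
      rw [map_smul Θ, ← algebraMap_smul B' c, map_smul ρ', algebraMap_smul, map_smul ρ, map_smul mp, hx]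
  have hρ : Function.Injective ρ := by
    let T : (M →₀ ℕ) → SymmetricPower B ι M := fun d =>
      if h : ∃ g : ι → M, ∑ i, Finsupp.single (g i) 1 = d then SymmetricPower.tprod B h.choose else 0
    have hT : ∀ g : ι → M, T (∑ i, Finsupp.single (g i) 1) = SymmetricPower.tprod B g := fun g => by
      have hg : ∃ g' : ι → M, ∑ i, Finsupp.single (g' i) 1 = ∑ i, Finsupp.single (g i) 1 := ⟨g, rfl⟩
      obtain ⟨e, he⟩ := exists_perm_of_sum_single_eq g hg.choose hg.choose_spec.symm
      simp only [T, dif_pos hg]
      rw [← SymmetricPower.tprod_equiv e]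
      exact congr_arg _ (funext he)
    let Ψ₀ := (MvPolynomial.basisMonomials M B).constr B T
    have hΨ₀ : ∀ d, Ψ₀ (MvPolynomial.monomial d 1) = T d := fun d => by
      have h := (MvPolynomial.basisMonomials M B).constr_basis B T d
      rwa [MvPolynomial.coe_basisMonomials] at h
    let π : (M →₀ B) →ₗ[B] M := Finsupp.linearCombination B id
    have hmul : Ψ₀.compMultilinearMap
        ((MultilinearMap.mkPiAlgebra B ι (MvPolynomial M B)).compLinearMap fun _ => L) =
          (SymmetricPower.tprod B (ι := ι) (M := M)).compLinearMap fun _ => π :=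
      Module.Basis.ext_multilinear (fun _ => Finsupp.basisSingleOne) fun g => by
        simp only [LinearMap.compMultilinearMap_apply, MultilinearMap.compLinearMap_apply,
          MultilinearMap.mkPiAlgebra_apply, Finsupp.coe_basisSingleOne, L, π,
          Finsupp.linearCombination_single, one_smul, id_eq]
        rw [show ∏ i, (MvPolynomial.X (g i) : MvPolynomial M B) =
          MvPolynomial.monomial (∑ i, Finsupp.single (g i) 1) 1 from
            (MvPolynomial.monomial_sum_one _ _).symm, hΨ₀, hT]
    refine Function.LeftInverse.injective (g := Ψ₀) fun t => ?_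
    have h : t ∈ Submodule.span B (Set.range (SymmetricPower.tprod B (ι := ι) (M := M))) := by
      rw [SymmetricPower.span_tprod_eq_top]
      trivial
    induction h using Submodule.span_induction with
    | mem x hx =>
      obtain ⟨p, rfl⟩ := hx
      rw [symLift_tprod]
      refine (DFunLike.congr_fun hmul fun i => s (p i)).trans ?_
      show SymmetricPower.tprod B (fun i => π (s (p i))) = _
      exact congr_arg _ (funext fun i => LinearMap.congr_fun hs (p i))
    | zero => rw [map_zero, map_zero]
    | add x y _ _ hx hy => rw [map_add, map_add, hx, hy]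
    | smul b x _ hx => rw [map_smul, map_smul, hx]
  have hΘinj : Function.Injective Θ := fun x y hxy => by
    refine hρ (MvPolynomial.map_injective (algebraMap B B')
      (FaithfulSMul.algebraMap_injective B B') ?_)
    have := congrArg ρ' hxy
    rw [hρΘ, hρΘ] at this
    exact this
  refine (injective_iff_map_eq_zero φ).mpr fun t ht => hΘinj ?_
  rw [map_zero]
  refine hbij'.1 ?_
  rw [map_zero]
  let tm := PP16.tensorMap A B A' B'
  let I := KaehlerDifferential.ideal A B
  have key : ∀ t, ∃ y : ↥((I ^ Fintype.card ι).restrictScalars B), φ t = Submodule.Quotient.mk y ∧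
      ∃ hy : tm y ∈ (KaehlerDifferential.ideal A' B' ^ Fintype.card ι).restrictScalars B',
        φ' (Θ t) = Submodule.Quotient.mk ⟨tm y, hy⟩ := by
    intro t
    have htop : (⊤ : Submodule B (SymmetricPower B ι M)) ≤ Submodule.span B (Set.range fun b : ι → B =>
        SymmetricPower.tprod B fun i => KaehlerDifferential.D A B (b i)) := by
      rw [← SymmetricPower.span_tprod_eq_top, Submodule.span_le]
      rintro _ ⟨v, rfl⟩
      have hv : ∀ i, ∃ c : B →₀ B, Finsupp.linearCombination B (KaehlerDifferential.D A B) c = v i :=
        fun i => Finsupp.mem_span_range_iff_exists_finsupp.mp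
          ((KaehlerDifferential.span_range_derivation A B).ge trivial)
      choose c hc using hv
      rw [← funext hc]
      simp only [Finsupp.linearCombination_apply, Finsupp.sum]
      rw [MultilinearMap.map_sum_finset]
      refine Submodule.sum_mem _ fun g _ => ?_
      rw [MultilinearMap.map_smul_univ]
      exact Submodule.smul_mem _ _ (Submodule.subset_span ⟨fun i => g i, rfl⟩)
    have ht : t ∈ Submodule.span B _ := htop trivial
    induction ht using Submodule.span_induction with
    | mem x hx =>
      obtain ⟨b, rfl⟩ := hx
      refine ⟨⟨∏ i, ((1 : B) ⊗ₜ[A] b i - b i ⊗ₜ[A] (1 : B)), by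
        rw [Submodule.restrictScalars_mem, ← Finset.card_univ, ← Finset.prod_const]
        exact Ideal.prod_mem_prod fun i _ =>
          KaehlerDifferential.one_smul_sub_smul_one_mem_ideal A (b i)⟩, hφ b, ?_, ?_⟩
      · rw [map_prod tm, Submodule.restrictScalars_mem, ← Finset.card_univ, ← Finset.prod_const]
        refine Ideal.prod_mem_prod fun i _ => ?_
        simpa [tm, PP16.tensorMap_tmul] using
          KaehlerDifferential.one_smul_sub_smul_one_mem_ideal A' (algebraMap B B' (b i))
      · rw [hΘ]
        rw [show (fun i => f (KaehlerDifferential.D A B (b i))) =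
            fun i => KaehlerDifferential.D A' B' (algebraMap B B' (b i)) from
          funext fun i => KaehlerDifferential.map_D A A' B B' (b i)]
        rw [hφ', PP16.zetaProd]
        refine congrArg Submodule.Quotient.mk (Subtype.ext ?_)
        simp [tm, map_prod, PP16.tensorMap_tmul]
    | zero => exact ⟨0, by simp, by simp, by
        rw [map_zero, map_zero]
        exact (Submodule.Quotient.mk_zero _).symm.trans
          (congrArg Submodule.Quotient.mk (Subtype.ext (map_zero tm).symm))⟩
    | add x x' _ _ hx hx' =>
      obtain ⟨y, h1, hy, h2⟩ := hx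
      obtain ⟨y', h1', hy', h2'⟩ := hx'
      refine ⟨y + y', by rw [map_add, h1, h1']; rfl, by rw [Submodule.coe_add, map_add]; exact add_mem hy hy', ?_⟩
      rw [map_add, map_add, h2, h2', ← Submodule.Quotient.mk_add]
      exact congrArg Submodule.Quotient.mk (Subtype.ext (map_add tm _ _).symm)
    | smul c x _ hx =>
      obtain ⟨y, h1, hy, h2⟩ := hx
      have he : tm ((c • y : ↥((I ^ Fintype.card ι).restrictScalars B)) : B ⊗[A] B) =
          algebraMap B B' c • tm y := by
        rw [Submodule.coe_smul, Algebra.smul_def, Algebra.smul_def, map_mul]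
        congr 1
        simp [tm, Algebra.TensorProduct.algebraMap_apply, PP16.tensorMap_tmul]
      refine ⟨c • y, by rw [map_smul, h1]; rfl, by rw [he]; exact Submodule.smul_mem _ _ hy, ?_⟩
      rw [map_smul, ← algebraMap_smul B' c, map_smul, h2, ← Submodule.Quotient.mk_smul]
      exact congrArg Submodule.Quotient.mk (Subtype.ext he.symm)
  obtain ⟨y, h1, hy, h2⟩ := key t
  rw [h1, Submodule.Quotient.mk_eq_zero] at ht
  rw [h2, Submodule.Quotient.mk_eq_zero]
  show tm y ∈ KaehlerDifferential.ideal A' B' ^ (Fintype.card ι + 1)
  refine Ideal.pow_right_mono (PP16.ideal_map_tensorMap_le A B A' B') _ ?_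
  rw [← Ideal.map_pow]
  exact Ideal.mem_map_of_mem _ ht

end Groth.Agent.S3822
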