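import Groth.Statements.S3825
import Groth.Agent.H26.QuasiOps


set_option autoImplicit false
universe u
open QReg16

namespace Groth.Agent.S3825

/-- a) iff c) (affine local form): let A be a local ring and I a proper ideal generated by some
quasi-regular sequence. For a finite family (f_i) of elements of I, the following are equivalent:
(a) (f_i) is a quasi-regular sequence generating I; (c) the classes of the f_i form a basis of the
A/I-module I/I² (equivalently, b): (f_i) is a minimal system of generators of I). -/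
theorem result {A : Type u} [CommRing A] [IsLocalRing A]
    (I : Ideal A) (hI : I ≤ IsLocalRing.maximalIdeal A)
    (hq : ∃ (r : ℕ) (g : Fin r → A), CAlgX.IsQuasiRegular g ∧ Ideal.span (Set.range g) = I)
    {m : ℕ} (f : Fin m → I) :
    (CAlgX.IsQuasiRegular (fun i => (f i : A)) ∧ Ideal.span (Set.range fun i => (f i : A)) = I) ↔
      (LinearIndependent (A ⧸ I) (fun i => I.toCotangent (f i)) ∧
        Submodule.span (A ⧸ I) (Set.range fun i => I.toCotangent (f i)) = ⊤) := by
  classical
  obtain ⟨r, g, hg, hgI⟩ := hq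
  haveI : Nontrivial (A ⧸ I) := Ideal.Quotient.nontrivial_iff.mpr
    (ne_top_of_le_ne_top Ideal.IsPrime.ne_top' hI)
  let g' : Fin r → I := fun i => ⟨g i, hgI.le (Ideal.subset_span ⟨i, rfl⟩)⟩
  have forward : ∀ {k : ℕ} (h : Fin k → I), CAlgX.IsQuasiRegular (fun i => (h i : A)) →
      Ideal.span (Set.range fun i => (h i : A)) = I →
      LinearIndependent (A ⧸ I) (fun i => I.toCotangent (h i)) ∧
        Submodule.span (A ⧸ I) (Set.range fun i => I.toCotangent (h i)) = ⊤ := by
    intro k h hh hhI
    constructor
    · rw [Fintype.linearIndependent_iff]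
      intro c hc j
      choose c' hc' using fun i => Ideal.Quotient.mk_surjective (c i)
      have h0 : I.toCotangent (∑ i, c' i • h i) = 0 := by
        rw [map_sum, ← hc]
        refine Finset.sum_congr rfl fun i _ => ?_
        rw [map_smul, ← hc' i]
        exact (algebraMap_smul (A ⧸ I) (c' i) _).symm
      rw [Ideal.toCotangent_eq_zero, Submodule.coe_sum] at h0
      have := hh 1 (∑ i, MvPolynomial.C (c' i) * MvPolynomial.X i)
        (MvPolynomial.IsHomogeneous.sum _ _ _ fun i _ => MvPolynomial.isHomogeneous_C_mul_X _ i)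
        (by rw [hhI]; simpa using h0) (Finsupp.single j 1)
      rw [hhI] at this
      simp only [MvPolynomial.coeff_sum, MvPolynomial.coeff_C_mul, MvPolynomial.coeff_X',
        Finsupp.single_left_inj one_ne_zero, mul_ite, mul_one, mul_zero, Finset.sum_ite_eq',
        Finset.mem_univ, if_true] at this
      rw [← hc' j]
      exact Ideal.Quotient.eq_zero_iff_mem.mpr this
    · refine top_le_iff.mp fun z _ => ?_
      obtain ⟨⟨x, hx⟩, rfl⟩ := I.toCotangent_surjective z
      obtain ⟨c, hc⟩ := Ideal.mem_span_range_iff_exists_fun.mp (hhI.ge hx)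
      rw [show (⟨x, hx⟩ : I) = ∑ i, c i • h i from Subtype.ext (by rw [Submodule.coe_sum]; simp [hc]), map_sum]
      refine Submodule.sum_mem _ fun i _ => ?_
      rw [map_smul, ← algebraMap_smul (A ⧸ I) (c i) (I.toCotangent (h i))]
      exact Submodule.smul_mem _ _ (Submodule.subset_span ⟨i, rfl⟩)
  refine ⟨fun h => forward f h.1 h.2, fun ⟨hli, hsp⟩ => ?_⟩
  have hgen : Ideal.span (Set.range fun i => (f i : A)) = I := by
    refine le_antisymm (Ideal.span_le.mpr (Set.range_subset_iff.mpr fun i => (f i).2)) ?_
    refine Submodule.le_of_le_smul_of_le_jacobson_bot (I := I)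
      (hgI ▸ Submodule.fg_span (Set.finite_range g))
      (hI.trans (IsLocalRing.maximalIdeal_le_jacobson ⊥)) ?_
    intro x hx
    have hz : I.toCotangent ⟨x, hx⟩ ∈
        Submodule.span (A ⧸ I) (Set.range fun i => I.toCotangent (f i)) := by rw [hsp]; trivial
    obtain ⟨c, hc⟩ := (Submodule.mem_span_range_iff_exists_fun _).mp hz
    choose c' hc' using fun i => Ideal.Quotient.mk_surjective (c i)
    have h1 : I.toCotangent (⟨x, hx⟩ - ∑ i, c' i • f i) = 0 := by
      rw [map_sub, map_sum, ← hc, sub_eq_zero]
      refine Finset.sum_congr rfl fun i _ => ?_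
      rw [map_smul, ← hc' i]
      exact (algebraMap_smul (A ⧸ I) (c' i) _)
    rw [Ideal.toCotangent_eq_zero, Submodule.coe_sub, Submodule.coe_sum, pow_two] at h1
    refine Submodule.mem_sup.mpr ⟨∑ i, c' i * (f i : A), Ideal.sum_mem _ fun i _ =>
      Ideal.mul_mem_left _ _ (Ideal.subset_span ⟨i, rfl⟩), _, h1, ?_⟩
    simp
  obtain ⟨gli, gsp⟩ := forward g' hg hgI
  obtain rfl : r = m := by
    have h1 := Module.finrank_eq_card_basis (Module.Basis.mk gli gsp.ge)
    have h2 := Module.finrank_eq_card_basis (Module.Basis.mk hli hsp.ge)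
    simpa [h1] using h2
  exact ⟨Groth.Agent.H26.QuasiOps.span_eq g _ hg (hgen.trans hgI.symm), hgen⟩

end Groth.Agent.S3825
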