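import Groth.Statements.S3829
import Groth.Agent.Lib.Synt92.DiffSmoothLimit
import Groth.Agent.Lib.Unram.BaseChangeNhd
import Groth.Agent.H26.RegKindsImm

set_option autoImplicit false
universe u
open CategoryTheory CategoryTheory.Limits AlgebraicGeometry TopologicalSpace
open Unram17

namespace Groth.Agent.S3829

/-- c) implies a) (case of a closed immersion): let f : X → S and h : Y → S be locally of finite
presentation, j : Y → X a closed immersion over S and y a point of Y. If h is smooth on a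
neighbourhood of y and, on some affine open neighbourhood of j(y) in X, the ideal of j is generated
by a regular sequence (j is a regular immersion near y), then f is smooth on an open neighbourhood
of j(y). -/
theorem result {X Y S : Scheme.{u}} (f : X ⟶ S) (h : Y ⟶ S)
    [LocallyOfFinitePresentation f] [LocallyOfFinitePresentation h] (j : Y ⟶ X) [IsClosedImmersion j]
    (hj : j ≫ f = h) (y : ↥Y) (hy : ∃ V : Y.Opens, y ∈ V ∧ Smooth (V.ι ≫ h))
    (hreg : ∃ (U : X.Opens) (hU : IsAffineOpen U), j y ∈ U ∧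
      ∃ rs : List Γ(X, U), RingTheory.Sequence.IsRegular Γ(X, U) rs ∧ j.ker.ideal ⟨U, hU⟩ = Ideal.ofList rs) :
    ∃ U : X.Opens, j y ∈ U ∧ Smooth (U.ι ≫ f) := by
  obtain ⟨V, hyV, hV⟩ := hy
  obtain ⟨U, hU, hyU, rs, hrs, hker⟩ := hreg
  rw [Scheme.Hom.ker_apply] at hker
  let h' := V.ι ≫ h
  haveI : Smooth h' := hV
  haveI : Flat h' := inferInstance
  haveI : LocallyOfFinitePresentation (pullback.snd f h') := MorphismProperty.pullback_snd _ _ inferInstance
  haveI : Smooth (pullback.fst f h') := MorphismProperty.pullback_fst _ _ hV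
  let Γ' : V.toScheme ⟶ pullback f h' := pullback.lift (V.ι ≫ j) (𝟙 _) (by rw [Category.assoc, hj, Category.id_comp])
  have h1 : Γ' ≫ pullback.fst f h' = V.ι ≫ j := pullback.lift_fst _ _ _
  have h2 : Γ' ≫ pullback.snd f h' = 𝟙 _ := pullback.lift_snd _ _ _
  haveI : IsImmersion (Γ' ≫ pullback.fst f h') := by rw [h1]; infer_instance
  haveI : IsImmersion Γ' := IsImmersion.of_comp Γ' (pullback.fst f h')
  let z : V.toScheme := ⟨y, hyV⟩
  have hcl : IsClosedImmersion (j ∣_ U) := MorphismProperty.of_isPullback (isPullback_morphismRestrict j U).flip ‹_›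
  have hjk : Groth.Agent.Lib.Synt92.KRImm.AtN rs.length j (V.ι z) :=
    ⟨⟨U, hU⟩, hyU, hcl, rs, rfl, Groth.Agent.H26.RegKinds.koszul_of_regular rs hrs, hker⟩
  have hji := Groth.Agent.Lib.Synt92.KRImm.atN_comp j V.ι z hjk (Groth.Agent.Lib.Synt92.SectionScheme.atN_zero z)
  obtain ⟨m, hm⟩ := Groth.Agent.Lib.Synt92.KRImm.exists_atN_of_below (V.ι ≫ j) Γ' (pullback.fst f h') h1 z ⟨_, hji⟩
  obtain ⟨U', hzU', hclU', rs', hlen, hk', hker'⟩ := hm
  have hmem : Γ'.base z ∈ (pullback.snd f h').smoothLocus := by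
    let W := Γ' ⁻¹ᵁ U'.1
    refine Groth.Agent.Lib.Synt92.SectionScheme.mem_smoothLocus _ Γ' h2 z W hzU' ⟨inferInstance, fun w => ?_⟩
    refine (Groth.Agent.Lib.Synt92.DiffSmooth.quasiAt_ι_comp Γ' W w).2 ?_
    exact ⟨U', w.2, hclU', rs', Groth.Agent.H26.H1Quasi.isQuasiRegular (Groth.Agent.H26.RegKinds.h1_of_koszul rs' hk'), hker'⟩
  haveI : Smooth ((pullback.snd f h').smoothLocus.ι ≫ pullback.snd f h') :=
    Groth.Agent.Lib.Synt92.DiffSmoothLimit.smooth_restrict _ le_rfl
  obtain ⟨O, hO, hsm⟩ := Groth.Agent.Lib.Unram.BaseChangeNhd.exists_nhd_descend_of_flat @Smooth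
    (fun _ _ => inferInstance) Groth.Agent.Lib.Unram.BaseChangeNhd.smooth_at_descend_ring f h' (Γ'.base z)
    ⟨_, hmem, inferInstance⟩
  refine ⟨O, ?_, hsm⟩
  rwa [← Scheme.Hom.comp_apply, h1] at hO

end Groth.Agent.S3829
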