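import Groth.Statements.S3831
import Groth.Agent.Lib.NormalTensor.Formal
-- import your own Groth.Agent.* helpers here

set_option autoImplicit false
universe u
open Hensel18

namespace Groth.Agent.S3831

open TensorProduct in
theorem isDomain_of_alg_closure {κ : Type u} [Field κ] (K : Type u) [Field K] [Algebra κ K] (F : Type u)
    [CommRing F] [Algebra κ F] [IsDomain (AlgebraicClosure κ ⊗[κ] F)] : IsDomain (K ⊗[κ] F) := by
  let Ω := AlgebraicClosure K
  let i : AlgebraicClosure κ →ₐ[κ] Ω := IsAlgClosed.lift
  letI : Algebra (AlgebraicClosure κ) Ω := i.toRingHom.toAlgebra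
  haveI : IsScalarTower κ (AlgebraicClosure κ) Ω := IsScalarTower.of_algebraMap_eq fun r => (i.commutes r).symm
  haveI : IsDomain (Ω ⊗[AlgebraicClosure κ] (AlgebraicClosure κ ⊗[κ] F)) :=
    Groth.Agent.H52.FBase.GeomPt.isDomain_tensor_of_isAlgClosed
  haveI : IsDomain (Ω ⊗[κ] F) := MulEquiv.isDomain (Ω ⊗[AlgebraicClosure κ] (AlgebraicClosure κ ⊗[κ] F))
    (Algebra.TensorProduct.cancelBaseChange κ (AlgebraicClosure κ) (AlgebraicClosure κ) Ω F).symm.toMulEquiv
  exact Function.Injective.isDomain
    (Algebra.TensorProduct.map (IsScalarTower.toAlgHom κ K Ω) (AlgHom.id κ F)).toRingHom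
    (Module.Flat.rTensor_preserves_injective_linearMap (M := F) (IsScalarTower.toAlgHom κ K Ω).toLinearMap
      (algebraMap K Ω).injective)


/-- Let A be a henselian Noetherian local ring whose formal fibres are geometrically normal. Then the
formal fibres of A are geometrically integral: for every prime p of A and every field extension K of
the residue field k(p), the ring K ⊗_{k(p)} (k(p) ⊗_A Â) is an integral domain. -/
theorem result (A : Type u) [CommRing A] [HenselianLocalRing A]
    [IsNoetherianRing A] (hA : EGA4.HasGeomNormalFormalFibres A) (p : Ideal A) [p.IsPrime]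
    (K : Type u) [Field K] [Algebra p.ResidueField K] :
    IsDomain (TensorProduct p.ResidueField K (EGA4.formalFibre A p)) := by
  let κ := p.ResidueField
  let F := EGA4.formalFibre A p
  let κb := AlgebraicClosure κ
  haveI hD : IsDomain (TensorProduct κ κb F) :=
    Groth.Agent.Lib.NormalTensor.Formal.isDomain_cpl_tensor_field hA p κb
  exact isDomain_of_alg_closure K F

end Groth.Agent.S3831
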