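import Groth.Statements.S3834
import Groth.Agent.H26.SchDense
import Mathlib.RingTheory.Ideal.AssociatedPrime.Finiteness


set_option autoImplicit false
universe u
open CategoryTheory CategoryTheory.Limits AlgebraicGeometry TopologicalSpace
open Rat20

namespace Groth.Agent.S3834

/-- Let X = Spec A be an affine scheme, with A Noetherian, or A reduced with finitely many minimal
primes. Then an open subset U of X is schematically dense if and only if it contains an open subset
of the form X_t with t a regular element of A = Γ(X, O_X). -/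
theorem result (X : Scheme.{u}) [IsAffine X]
    (hX : IsNoetherian X ∨ (IsReduced X ∧ (irreducibleComponents ↥X).Finite)) (U : X.Opens) :
    CInt.IsSchematicallyDense U ↔ ∃ t : Γ(X, ⊤), t ∈ nonZeroDivisors Γ(X, ⊤) ∧ X.basicOpen t ≤ U := by
  classical
  let A := Γ(X, ⊤)
  have htop : IsAffineOpen (⊤ : X.Opens) := isAffineOpen_top X
  constructor
  swap
  · rintro ⟨t, ht, hle⟩
    refine Groth.Agent.H26.SchDense.mono (Groth.Agent.H26.SchDense.basicOpen_of_regular t fun x => ?_) hle
    let := TopCat.Presheaf.algebra_section_stalk X.presheaf (⟨x, trivial⟩ : (⊤ : X.Opens))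
    have := htop.isLocalization_stalk ⟨x, trivial⟩
    exact IsLocalization.nonZeroDivisors_le_comap
      (htop.primeIdealOf ⟨x, trivial⟩).asIdeal.primeCompl (X.presheaf.stalk x) ht
  intro hU
  let J : Ideal A :=
    { carrier := {i | X.basicOpen i ≤ U}
      zero_mem' := by simp
      add_mem' := fun {a b} ha hb y hy => by
        have h1 : IsUnit (X.presheaf.germ ⊤ y trivial (a + b)) := (X.mem_basicOpen (a + b) y trivial).mp hy
        rw [map_add] at h1
        rcases IsLocalRing.isUnit_or_isUnit_of_isUnit_add h1 with h | h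
        · exact ha ((X.mem_basicOpen a y trivial).mpr h)
        · exact hb ((X.mem_basicOpen b y trivial).mpr h)
      smul_mem' := fun c a ha => by
        rw [Set.mem_ofPred_eq, smul_eq_mul, Scheme.basicOpen_mul]
        exact inf_le_right.trans ha }
  have hkill : ∀ a : A, (∀ i ∈ J, a * i = 0) → a = 0 := by
    intro a h
    apply hU ⊤
    rw [map_zero]
    refine TopCat.Presheaf.section_ext X.sheaf _ _ _ fun y hy => ?_
    change X.presheaf.germ _ y hy (X.presheaf.map _ a) = X.presheaf.germ _ y hy 0
    rw [map_zero, TopCat.Presheaf.germ_res_apply]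
    obtain ⟨i, hiU, hyi⟩ := htop.exists_basicOpen_le (V := U) ⟨y, hy.2⟩ trivial
    have hi : i ∈ J := hiU
    have hu := (X.mem_basicOpen i y trivial).mp hyi
    refine hu.mul_left_eq_zero.mp ?_
    rw [← map_mul, h i hi, map_zero]
  obtain ⟨P, hPfin, hPprime, hPann, hPcover⟩ : ∃ P : Set (Ideal A), P.Finite ∧ (∀ p ∈ P, p.IsPrime) ∧
      (∀ p ∈ P, ∃ a, a ≠ 0 ∧ ∀ i ∈ p, a * i = 0) ∧
      ∀ t, (∀ p ∈ P, t ∉ p) → t ∈ nonZeroDivisors A := by
    rcases hX with hX | ⟨hred, hfin⟩
    · have : IsNoetherianRing A := IsLocallyNoetherian.component_noetherian ⟨⊤, htop⟩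
      refine ⟨associatedPrimes A A, associatedPrimes.finite A A, fun p hp => hp.isPrime,
        fun p hp => ?_, fun t ht => ?_⟩
      · obtain ⟨hp', a, rfl⟩ := isAssociatedPrime_iff.mp (AssociatedPrimes.mem_iff.mp hp)
        refine ⟨a, fun ha => hp'.ne_top ((Ideal.eq_top_iff_one _).mpr ?_), fun i hi => ?_⟩
        · rw [Submodule.mem_colon_singleton, ha, smul_zero]
          exact zero_mem _
        · rw [Submodule.mem_colon_singleton, Submodule.mem_bot, smul_eq_mul, mul_comm] at hi
          exact hi
      · refine mem_nonZeroDivisors_iff_right.mpr fun a ha => by_contra fun hne => ?_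
        have hmem : t ∈ ⋃ p ∈ associatedPrimes A A, (p : Set A) := by
          rw [biUnion_associatedPrimes_eq_zero_divisors]
          exact ⟨a, hne, by rw [smul_eq_mul, mul_comm]; exact ha⟩
        obtain ⟨p, hp, htp⟩ := Set.mem_iUnion₂.mp hmem
        exact ht p hp htp
    · have : _root_.IsReduced A := IsReduced.component_reduced ⊤
      have hmin : (minimalPrimes A).Finite := by
        rw [← PrimeSpectrum.vanishingIdeal_irreducibleComponents]
        refine Set.Finite.image _ ?_
        let h := X.isoSpec.hom.homeomorph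
        have : irreducibleComponents (Spec A) ⊆ (h '' ·) '' irreducibleComponents X := fun Z hZ =>
          ⟨h ⁻¹' Z, preimage_mem_irreducibleComponents hZ h.isOpenEmbedding
              (by rw [h.surjective.range_eq, Set.inter_univ]; exact hZ.1.nonempty),
            h.image_preimage Z⟩
        exact (hfin.image _).subset this
      have hzero : ∀ a : A, (∀ q ∈ minimalPrimes A, a ∈ q) → a = 0 := fun a ha => by
        have : a ∈ nilradical A := by
          rw [nilradical, ← Ideal.sInf_minimalPrimes]
          exact Ideal.mem_sInf.mpr fun {q} hq => ha q hq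
        exact (mem_nilradical.mp this).eq_zero
      refine ⟨minimalPrimes A, hmin, fun p hp => hp.1.1, fun p hp => ?_, fun t ht => ?_⟩
      · let T := (hmin.sdiff (t := {p})).toFinset
        have hnle : ¬ T.inf id ≤ p := by
          rw [hp.1.1.inf_le']
          rintro ⟨q, hq, hqp⟩
          rw [Set.Finite.mem_toFinset] at hq
          exact hq.2 (le_antisymm hqp (hp.2 hq.1.1 hqp))
        obtain ⟨a, ha, hap⟩ := SetLike.not_le_iff_exists.mp hnle
        refine ⟨a, fun h => hap (h ▸ zero_mem _), fun i hi => hzero _ fun q hq => ?_⟩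
        by_cases hqp : q = p
        · subst hqp; exact Ideal.mul_mem_left _ _ hi
        · refine Ideal.mul_mem_right _ _ ((Finset.inf_le (f := id) (b := q) ?_) ha)
          rw [Set.Finite.mem_toFinset]; exact ⟨hq, hqp⟩
      · refine mem_nonZeroDivisors_iff_right.mpr fun a ha => hzero a fun q hq => ?_
        exact (hq.1.1.mem_or_mem (ha ▸ zero_mem q : a * t ∈ q)).resolve_right (ht q hq)
  obtain ⟨t, htJ, ht⟩ : ∃ t ∈ J, ∀ p ∈ P, t ∉ p := by
    by_contra h
    push Not at h
    obtain ⟨p, hp, hle⟩ := (Ideal.subset_union_prime (s := hPfin.toFinset) (f := id) ⊤ ⊤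
      (fun p hp _ _ => hPprime p (hPfin.mem_toFinset.mp hp))).mp
      (show (J : Set A) ⊆ ⋃ p ∈ (hPfin.toFinset : Set (Ideal A)), (id p : Ideal A) from fun t ht => by
        obtain ⟨p, hp, htp⟩ := h t ht
        exact Set.mem_iUnion₂.mpr ⟨p, hPfin.mem_toFinset.mpr hp, htp⟩)
    obtain ⟨a, ha, hann⟩ := hPann p (hPfin.mem_toFinset.mp hp)
    exact ha (hkill a fun i hi => hann i (hle hi))
  exact ⟨t, hPcover t ht, htJ⟩

end Groth.Agent.S3834
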