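import Groth.Statements.S3835
import Groth.Agent.S3843
import Groth.Agent.Lib.SchDense.Basic
import Mathlib.AlgebraicGeometry.Sites.Fpqc


set_option autoImplicit false
set_option maxHeartbeats 1000000
set_option linter.all false
universe u
open CategoryTheory CategoryTheory.Limits AlgebraicGeometry TopologicalSpace
open Rat20

namespace Groth.Agent.S3835

/-- Let Y be separated over S, X an S-scheme with a schematically dense open subscheme U, h : U → Y an
S-morphism (a representative of a pseudo-morphism from X to Y over S), and f : X' → X a flat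
morphism locally of finite presentation, X' being regarded as an S-scheme through f. Let x' be a
point of X' with image x = f(x'). If there is an S-morphism from an open neighbourhood V' of x' to Y
agreeing with h ∘ f on f⁻¹(U) ∩ V' (the pulled-back pseudo-morphism is defined at x'), then there is
an S-morphism from an open neighbourhood V of x to Y agreeing with h on U ∩ V (the pseudo-morphism
is defined at x). -/
theorem result {X X' Y S : Scheme.{u}} (pX : X ⟶ S) (pY : Y ⟶ S)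
    [IsSeparated pY] (U : X.Opens) (hU : CInt.IsSchematicallyDense U) (h : (U : Scheme.{u}) ⟶ Y)
    (hh : h ≫ pY = U.ι ≫ pX) (f : X' ⟶ X) [Flat f] [LocallyOfFinitePresentation f] (x' : ↥X')
    (V' : X'.Opens) (hx' : x' ∈ V') (v' : (V' : Scheme.{u}) ⟶ Y) (hv'S : v' ≫ pY = V'.ι ≫ f ≫ pX)
    (hv' : X'.homOfLE (inf_le_right : f ⁻¹ᵁ U ⊓ V' ≤ V') ≫ v' =
      X'.homOfLE (inf_le_left : f ⁻¹ᵁ U ⊓ V' ≤ f ⁻¹ᵁ U) ≫ (f ∣_ U) ≫ h) :
    ∃ (V : X.Opens) (v : (V : Scheme.{u}) ⟶ Y), f x' ∈ V ∧ v ≫ pY = V.ι ≫ pX ∧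
      X.homOfLE (inf_le_right : U ⊓ V ≤ V) ≫ v = X.homOfLE (inf_le_left : U ⊓ V ≤ U) ≫ h := by
  have hW : IsOpen (Set.range (V'.ι ≫ f)) :=
    (V'.ι ≫ f).isOpenMap.isOpen_range
  let W : X.Opens := ⟨Set.range (V'.ι ≫ f), hW⟩
  have hle : V' ≤ f ⁻¹ᵁ W := fun x hx => ⟨⟨x, hx⟩, rfl⟩
  let g : (V' : Scheme.{u}) ⟶ (W : Scheme.{u}) := f.resLE W V' hle
  have hg : g ≫ W.ι = V'.ι ≫ f := Scheme.Hom.resLE_comp_ι f hle
  haveI : Flat g := by show _root_.AlgebraicGeometry.Flat (f.resLE W V' hle); delta Scheme.Hom.resLE; infer_instance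
  haveI : LocallyOfFinitePresentation g := by show LocallyOfFinitePresentation (f.resLE W V' hle); delta Scheme.Hom.resLE; infer_instance
  haveI : Surjective g := ⟨fun w => by
    obtain ⟨t, ht⟩ := w.2
    refine ⟨t, W.ι.isOpenEmbedding.injective ?_⟩
    rw [← Scheme.Hom.comp_apply, hg]
    exact ht⟩
  -- maps to `V'` landing in `U`
  have key : ∀ {T : Scheme.{u}} (t : T ⟶ V') (b : T ⟶ U), t ≫ V'.ι ≫ f = b ≫ U.ι →
      t ≫ v' = b ≫ h := by
    intro T t b hb
    have hr : Set.range (t ≫ V'.ι) ⊆ Set.range (f ⁻¹ᵁ U ⊓ V').ι := by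
      rw [Scheme.Opens.range_ι]
      rintro _ ⟨x, rfl⟩
      refine ⟨?_, (t x).2⟩
      show f ((t ≫ V'.ι) x) ∈ U
      rw [← Scheme.Hom.comp_apply, Category.assoc, hb, Scheme.Hom.comp_apply]
      exact (b x).2
    let l := IsOpenImmersion.lift (f ⁻¹ᵁ U ⊓ V').ι (t ≫ V'.ι) hr
    have hl : l ≫ (f ⁻¹ᵁ U ⊓ V').ι = t ≫ V'.ι := IsOpenImmersion.lift_fac _ _ _
    have e1 : l ≫ X'.homOfLE inf_le_right = t := by
      rw [← cancel_mono V'.ι, Category.assoc, Scheme.homOfLE_ι, hl]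
    have e2 : l ≫ X'.homOfLE inf_le_left ≫ (f ∣_ U) = b := by
      rw [← cancel_mono U.ι]
      simp only [Category.assoc, morphismRestrict_ι, Scheme.homOfLE_ι_assoc]
      rw [reassoc_of% hl]
      exact hb
    calc t ≫ v' = l ≫ X'.homOfLE inf_le_right ≫ v' := by rw [← Category.assoc, e1]
      _ = (l ≫ X'.homOfLE inf_le_left ≫ (f ∣_ U)) ≫ h := by rw [hv']; simp only [Category.assoc]
      _ = b ≫ h := by rw [e2]
  have hgU : ∀ {T : Scheme.{u}} (g₁ g₂ : T ⟶ V'), g₁ ≫ g = g₂ ≫ g → g₁ ≫ v' = g₂ ≫ v' := by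
    intro T g₁ g₂ hT
    suffices hp : pullback.fst g g ≫ v' = pullback.snd g g ≫ v' by
      rw [← pullback.lift_fst g₁ g₂ hT, Category.assoc, hp, pullback.lift_snd_assoc]
    let q : pullback g g ⟶ X := pullback.fst g g ≫ g ≫ W.ι
    have hD := Groth.Agent.S3843.result q U hU
    refine Groth.Agent.Lib.SchDense.Basic.ext_of_isSchematicallyDense pY ?_ hD ?_
    · simp only [Category.assoc, hv'S]
      rw [← reassoc_of% hg, pullback.condition_assoc]
    · have hq : (q ⁻¹ᵁ U).ι ≫ pullback.snd g g ≫ V'.ι ≫ f = (q ∣_ U) ≫ U.ι := by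
        rw [morphismRestrict_ι, ← hg, ← pullback.condition_assoc]
      have hp : (q ⁻¹ᵁ U).ι ≫ pullback.fst g g ≫ V'.ι ≫ f = (q ∣_ U) ≫ U.ι := by
        rw [morphismRestrict_ι, ← hg]
      rw [← Category.assoc, key ((q ⁻¹ᵁ U).ι ≫ pullback.fst g g) (q ∣_ U) (by rw [Category.assoc]; exact hp),
        ← Category.assoc, key ((q ⁻¹ᵁ U).ι ≫ pullback.snd g g) (q ∣_ U) (by rw [Category.assoc]; exact hq)]
  let v : (W : Scheme.{u}) ⟶ Y := EffectiveEpi.desc g v' fun g₁ g₂ h12 => hgU g₁ g₂ h12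
  have hv : g ≫ v = v' := EffectiveEpi.fac g v' _
  refine ⟨W, v, ⟨⟨x', hx'⟩, rfl⟩, ?_, ?_⟩
  · rw [← cancel_epi g, reassoc_of% hv, hv'S, reassoc_of% hg]
  · let j := X.homOfLE (inf_le_right : U ⊓ W ≤ W)
    haveI : Epi (pullback.snd g j) := inferInstance
    rw [← cancel_epi (pullback.snd g j), ← pullback.condition_assoc, hv,
      key (pullback.fst g j) (pullback.snd g j ≫ X.homOfLE (inf_le_left : U ⊓ W ≤ U)) ?_, Category.assoc]
    rw [← hg, pullback.condition_assoc, Category.assoc, Scheme.homOfLE_ι, Scheme.homOfLE_ι]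

end Groth.Agent.S3835
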