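import Groth.Statements.S3836
import Groth.Agent.H26.BirationalZMT
import Groth.Agent.H75.RedSub


set_option autoImplicit false
universe u
open CategoryTheory CategoryTheory.Limits AlgebraicGeometry TopologicalSpace
open Rat20

namespace Groth.Agent.S3836

/-- Let X be a locally integral S-scheme, Y an S-scheme locally of finite type and separated over S, and
h : U → Y an S-morphism on a dense open subset (a rational S-map ω). Let Γ be the closure in X ×_S Y
of the graph of h and p : Γ → X the projection. If x is a point of X whose local ring is integrally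
closed and the fibre p⁻¹(x) contains an isolated point, then ω is defined at x: some S-morphism from
an open neighbourhood of x to Y agrees with h on U. -/
theorem result {X Y S : Scheme.{u}} (pX : X ⟶ S) (pY : Y ⟶ S)
    [LocallyOfFiniteType pY] [IsSeparated pY] (hX : ∀ y : ↥X, ∃ W : X.Opens, y ∈ W ∧ IsIntegral (W : Scheme.{u}))
    (U : X.Opens) (hU : Dense (U : Set ↥X)) (h : (U : Scheme.{u}) ⟶ Y) (hh : U.ι ≫ pX = h ≫ pY)
    (x : ↥X) (hx : IsIntegrallyClosed (X.presheaf.stalk x))
    (z : ↥(pullback pX pY)) (hz : pullback.fst pX pY z = x)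
    (hzΓ : z ∈ closure (Set.range (pullback.lift U.ι h hh)))
    (hiso : ∃ W : (pullback pX pY).Opens, (W : Set ↥(pullback pX pY)) ∩ closure (Set.range (pullback.lift U.ι h hh)) ∩
      (pullback.fst pX pY) ⁻¹' {x} = {z}) :
    ∃ (V : X.Opens) (v : (V : Scheme.{u}) ⟶ Y), x ∈ V ∧ v ≫ pY = V.ι ≫ pX ∧
      X.homOfLE (inf_le_right : U ⊓ V ≤ V) ≫ v = X.homOfLE (inf_le_left : U ⊓ V ≤ U) ≫ h := by
  classical
  let P := pullback pX pY
  have : IsReduced X := by
    have : ∀ y : X, _root_.IsReduced (X.presheaf.stalk y) := fun y => by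
      obtain ⟨W, hyW, hW⟩ := hX y
      have : _root_.IsReduced ((W : Scheme.{u}).presheaf.stalk ⟨y, hyW⟩) :=
        AlgebraicGeometry.isReduced_stalk_of_isReduced _ _
      exact isReduced_of_injective (W.stalkIso ⟨y, hyW⟩).inv.hom
        (ConcreteCategory.bijective_of_isIso _).1
    exact isReduced_of_isReduced_stalk X
  let j : (U : Scheme.{u}) ⟶ P := pullback.lift U.ι h hh
  have : IsImmersion (j ≫ pullback.fst pX pY) := by
    rw [pullback.lift_fst]; infer_instance
  have : IsImmersion j := IsImmersion.of_comp j (pullback.fst pX pY)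
  obtain ⟨G, l, i, hl, hi, hG, hrange, hli⟩ := Groth.Agent.H75.RedSub.exists_factor j
  obtain ⟨W, hxW, hWint⟩ := hX x
  let qg := i ≫ pullback.fst pX pY
  let O := qg ⁻¹ᵁ W
  let q := qg ∣_ W
  let l₀ := l ∣_ O
  let U₀ := l ⁻¹ᵁ O
  have hk : (l₀ ≫ q) ≫ W.ι = U₀.ι ≫ U.ι := by
    simp only [l₀, q, Category.assoc, morphismRestrict_ι]
    erw [morphismRestrict_ι_assoc]
    simp only [qg, ← Category.assoc]
    simp only [Category.assoc]
    rw [reassoc_of% hli, pullback.lift_fst]
  have : IsOpenImmersion ((l₀ ≫ q) ≫ W.ι) := by rw [hk]; infer_instance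
  have : IsOpenImmersion (l₀ ≫ q) := IsOpenImmersion.of_comp _ W.ι
  have hne : Nonempty U₀ := by
    obtain ⟨y, hyW, hyU⟩ := hU.inter_open_nonempty W W.2 ⟨x, hxW⟩
    refine ⟨⟨⟨y, hyU⟩, ?_⟩⟩
    let y' : (U : Scheme.{u}) := ⟨y, hyU⟩
    change pullback.fst pX pY (i (l y')) ∈ W
    rw [← Scheme.Hom.comp_apply l, hli, ← Scheme.Hom.comp_apply, pullback.lift_fst]
    exact hyW
  have : Nonempty (U₀ : Scheme.{u}) := hne
  have : IsIntegral (U₀ : Scheme.{u}) := isIntegral_of_isOpenImmersion (l₀ ≫ q)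
  have hdl : DenseRange l := fun g => by
    rw [i.isEmbedding.isInducing.closure_eq_preimage_closure_image, Set.mem_preimage, ← Set.range_comp,
      ← TopCat.coe_comp, ← Scheme.Hom.comp_base, hli, ← hrange]
    exact Set.mem_range_self g
  have hdl₀ : DenseRange l₀ := by
    have : IsDominant l := ⟨hdl⟩
    have : IsDominant l₀ := IsZariskiLocalAtTarget.restrict ‹IsDominant l› O
    exact this.denseRange
  have hirr : IrreducibleSpace (O : Scheme.{u}) := by
    have h1 := ((IrreducibleSpace.isIrreducible_univ (U₀ : Scheme.{u})).image l₀ l₀.continuous.continuousOn).closure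
    rw [Set.image_univ, hdl₀.closure_range] at h1
    exact irreducibleSpace_def _ |>.mpr h1
  have : IsIntegral (O : Scheme.{u}) := isIntegral_of_irreducibleSpace_of_isReduced _
  have hη : l₀ (genericPoint (U₀ : Scheme.{u})) = genericPoint (O : Scheme.{u}) :=
    genericPoint_eq_of_isOpenImmersion l₀
  have hgen : q (genericPoint (O : Scheme.{u})) = genericPoint (W : Scheme.{u}) := by
    rw [← hη, ← Scheme.Hom.comp_apply]
    exact genericPoint_eq_of_isOpenImmersion (l₀ ≫ q)
  have hbir : IsIso (q.stalkMap (genericPoint (O : Scheme.{u}))) := by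
    have h1 : IsIso ((l₀ ≫ q).stalkMap (genericPoint (U₀ : Scheme.{u}))) :=
      (IsOpenImmersion.iff_isIso_stalkMap.mp ‹IsOpenImmersion (l₀ ≫ q)›).2 _
    have h2 : IsIso (l₀.stalkMap (genericPoint (U₀ : Scheme.{u}))) :=
      (IsOpenImmersion.iff_isIso_stalkMap.mp inferInstance).2 _
    have h3 : IsIso (q.stalkMap (l₀ (genericPoint (U₀ : Scheme.{u}))) ≫
        l₀.stalkMap (genericPoint (U₀ : Scheme.{u}))) :=
      (Scheme.Hom.stalkMap_comp l₀ q (genericPoint (U₀ : Scheme.{u}))) ▸ h1
    have h4 := IsIso.of_isIso_comp_right (q.stalkMap (l₀ (genericPoint (U₀ : Scheme.{u}))))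
      (l₀.stalkMap (genericPoint (U₀ : Scheme.{u})))
    rwa [hη] at h4
  obtain ⟨z', hz'⟩ : z ∈ Set.range i := hrange ▸ hzΓ
  have hzO : z' ∈ O := by
    change pullback.fst pX pY (i z') ∈ W
    rw [hz', hz]; exact hxW
  let zO : (O : Scheme.{u}) := ⟨z', hzO⟩
  have hqz : q zO = ⟨x, hxW⟩ := by
    apply Subtype.ext
    refine (morphismRestrict_base_coe qg W zO).trans ?_
    change pullback.fst pX pY (i z') = x
    rw [hz', hz]
  have hy : IsIntegrallyClosed ((W : Scheme.{u}).presheaf.stalk (q zO)) := by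
    rw [hqz]
    exact IsIntegrallyClosed.of_equiv (W.stalkIso ⟨x, hxW⟩).commRingCatIsoToRingEquiv.symm
  have hqf : q.QuasiFiniteAt zO := by
    rw [Scheme.Hom.quasiFiniteAt_iff_isOpen_singleton_asFiber]
    obtain ⟨N, hN⟩ := hiso
    have he : ∀ w : q.fiber (q zO), i (O.ι (q.fiberι (q zO) w)) ∈ N → w = q.asFiber zO := by
      intro w hw
      apply (q.fiberι (q zO)).isEmbedding.injective
      apply Subtype.ext
      apply i.isEmbedding.injective
      rw [q.fiberι_asFiber]
      have hmem : i (O.ι (q.fiberι (q zO) w)) ∈ ((N : Set P) ∩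
          closure (Set.range j)) ∩ pullback.fst pX pY ⁻¹' {x} := by
        refine ⟨⟨hw, hrange ▸ Set.mem_range_self _⟩, ?_⟩
        have h1 : q (q.fiberι (q zO) w) = q zO := by
          have : q.fiberι (q zO) w ∈ Set.range (q.fiberι (q zO)) := Set.mem_range_self w
          rwa [Scheme.Hom.range_fiberι] at this
        have h2 := congrArg Subtype.val (h1.trans hqz)
        rw [morphismRestrict_base_coe] at h2
        exact h2
      rw [hN] at hmem
      exact hmem.trans hz'.symm
    have : ({q.asFiber zO} : Set (q.fiber (q zO))) =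
        (q.fiberι (q zO) ≫ O.ι ≫ i) ⁻¹' (N : Set P) := by
      ext w
      refine ⟨?_, fun hw => he w hw⟩
      rintro rfl
      rw [Set.mem_preimage, Scheme.Hom.comp_apply, q.fiberι_asFiber]
      change i z' ∈ (N : Set P)
      rw [hz']
      have : z ∈ ((N : Set P) ∩ closure (Set.range j)) ∩ pullback.fst pX pY ⁻¹' {x} := by
        rw [hN]; rfl
      exact this.1.1
    rw [this]
    exact N.2.preimage (q.fiberι (q zO) ≫ O.ι ≫ i).continuous
  obtain ⟨U₁, hxU₁, hiso₁⟩ :=
    Groth.Agent.H26.BirationalZMT.exists_isIso_morphismRestrict q hgen hbir zO hy hqf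
  rw [hqz] at hxU₁
  let V : X.Opens := W.ι ''ᵁ U₁
  let e : (U₁ : Scheme.{u}) ≅ (V : Scheme.{u}) := W.ι.isoImage U₁
  let s : (V : Scheme.{u}) ⟶ (O : Scheme.{u}) := e.inv ≫ inv (q ∣_ U₁) ≫ (q ⁻¹ᵁ U₁).ι
  have hs : s ≫ O.ι ≫ qg = V.ι := by
    have : O.ι ≫ qg = q ≫ W.ι := (morphismRestrict_ι qg W).symm
    rw [this]
    simp only [s, Category.assoc]
    rw [← morphismRestrict_ι_assoc, IsIso.inv_hom_id_assoc]
    simp [e]
    rfl
  refine ⟨V, s ≫ O.ι ≫ i ≫ pullback.snd pX pY, ⟨⟨x, hxW⟩, hxU₁, rfl⟩, ?_, ?_⟩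
  · have : s ≫ O.ι ≫ i ≫ pullback.fst pX pY = V.ι := hs
    rw [← this]
    simp only [Category.assoc, pullback.condition]
  · -- on `U ⊓ V` both agree with the graph
    let a : ((U ⊓ V : X.Opens) : Scheme.{u}) ⟶ G := X.homOfLE inf_le_right ≫ s ≫ O.ι
    let b : ((U ⊓ V : X.Opens) : Scheme.{u}) ⟶ G := X.homOfLE inf_le_left ≫ l
    have hab : a = b := by
      let O' := qg ⁻¹ᵁ (V ⊓ W)
      have ha : ∀ w, a w ∈ O' := fun w => by
        have : qg (a w) = w.1 := by
          rw [← Scheme.Hom.comp_apply]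
          simp only [a, Category.assoc, hs, Scheme.homOfLE_ι]
          rfl
        change qg (a w) ∈ V ⊓ W
        rw [this]
        refine ⟨w.2.2, ?_⟩
        obtain ⟨w', -, hw'⟩ := w.2.2
        exact hw' ▸ w'.2
      have hb : ∀ w, b w ∈ O' := fun w => by
        have : qg (b w) = w.1 := by
          rw [← Scheme.Hom.comp_apply]
          simp only [b, qg, Category.assoc, reassoc_of% hli, j, pullback.lift_fst, Scheme.homOfLE_ι]
          rfl
        change qg (b w) ∈ V ⊓ W
        rw [this]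
        refine ⟨w.2.2, ?_⟩
        obtain ⟨w', -, hw'⟩ := w.2.2
        exact hw' ▸ w'.2
      have hmono : Mono (O'.ι ≫ qg) := by
        have hle : O' ≤ O := fun g hg => hg.2
        have hle' : G.homOfLE hle ''ᵁ ⊤ ≤ q ⁻¹ᵁ U₁ := by
          rintro _ ⟨g, -, rfl⟩
          obtain ⟨w', hw', hw''⟩ := g.2.1
          change q (G.homOfLE hle g) ∈ U₁
          have : q (G.homOfLE hle g) = w' := by
            apply Subtype.ext
            refine (morphismRestrict_base_coe qg W _).trans (Eq.trans ?_ hw''.symm)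
            refine congrArg qg ?_
            change (G.homOfLE hle ≫ O.ι) g = O'.ι g
            rw [Scheme.homOfLE_ι]
          exact this ▸ hw'
        let t := IsOpenImmersion.lift (q ⁻¹ᵁ U₁).ι (G.homOfLE hle) (by
          rw [Scheme.Opens.range_ι]
          rintro _ ⟨g, rfl⟩
          exact hle' ⟨g, trivial, rfl⟩)
        have ht : t ≫ (q ⁻¹ᵁ U₁).ι = G.homOfLE hle := IsOpenImmersion.lift_fac _ _ _
        have : Mono (t ≫ (q ⁻¹ᵁ U₁).ι) := by rw [ht]; infer_instance
        have : Mono t := mono_of_mono t (q ⁻¹ᵁ U₁).ι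
        have heq : O'.ι ≫ qg = t ≫ (q ∣_ U₁) ≫ U₁.ι ≫ W.ι := by
          rw [morphismRestrict_ι_assoc, reassoc_of% ht, show q ≫ W.ι = O.ι ≫ qg from
            morphismRestrict_ι qg W, Scheme.homOfLE_ι_assoc]
        rw [heq]; infer_instance
      let a' := IsOpenImmersion.lift O'.ι a (by rw [Scheme.Opens.range_ι]; rintro _ ⟨w, rfl⟩; exact ha w)
      let b' := IsOpenImmersion.lift O'.ι b (by rw [Scheme.Opens.range_ι]; rintro _ ⟨w, rfl⟩; exact hb w)
      have ea : a' ≫ O'.ι = a := IsOpenImmersion.lift_fac _ _ _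
      have eb : b' ≫ O'.ι = b := IsOpenImmersion.lift_fac _ _ _
      have : a' = b' := by
        rw [← cancel_mono (O'.ι ≫ qg), reassoc_of% ea, reassoc_of% eb]
        simp only [a, b, qg, Category.assoc, reassoc_of% hli, j, pullback.lift_fst]
        rw [show s ≫ O.ι ≫ i ≫ pullback.fst pX pY = V.ι from hs, Scheme.homOfLE_ι, Scheme.homOfLE_ι]
      rw [← ea, ← eb, this]
    have h2 := congrArg (· ≫ i ≫ pullback.snd pX pY) hab
    simp only [a, b, Category.assoc, reassoc_of% hli, j, pullback.lift_snd] at h2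
    exact h2

end Groth.Agent.S3836
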