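import Groth.Statements.S3837
import Groth.Agent.S3836
import Groth.Agent.H26.SectionExtendDvr


set_option autoImplicit false
universe u
open CategoryTheory CategoryTheory.Limits AlgebraicGeometry TopologicalSpace
open Rat20

namespace Groth.Agent.S3837

/-- Let X be a normal S-scheme (locally integral with integrally closed local rings), Y an S-scheme
locally of finite type and separated over S, h : U → Y an S-morphism on a dense open subset (a
rational S-map ω), and f : X' → X a morphism locally of finite type and universally open with X'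
reduced, so that f⁻¹(U) is dense and ω ∘ f is defined. Then for x' in X' with image x, ω is defined
at x if and only if ω ∘ f is defined at x': some S-morphism on an open neighbourhood of x agrees
with h on U if and only if some S-morphism on an open neighbourhood of x' agrees with h ∘ f on the
preimage of U. -/
theorem result {X X' Y S : Scheme.{u}} (pX : X ⟶ S) (pY : Y ⟶ S)
    [LocallyOfFiniteType pY] [IsSeparated pY] (hX : ∀ y : ↥X, ∃ W : X.Opens, y ∈ W ∧ IsIntegral (W : Scheme.{u}))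
    (hXn : ∀ y : ↥X, IsIntegrallyClosed (X.presheaf.stalk y))
    (U : X.Opens) (hU : Dense (U : Set ↥X)) (h : (U : Scheme.{u}) ⟶ Y) (hh : h ≫ pY = U.ι ≫ pX)
    (f : X' ⟶ X) [LocallyOfFiniteType f] [UniversallyOpen f] [IsReduced X'] (x' : ↥X') :
    (∃ (V : X.Opens) (v : (V : Scheme.{u}) ⟶ Y), f x' ∈ V ∧ v ≫ pY = V.ι ≫ pX ∧
        X.homOfLE (inf_le_right : U ⊓ V ≤ V) ≫ v = X.homOfLE (inf_le_left : U ⊓ V ≤ U) ≫ h) ↔
      ∃ (V' : X'.Opens) (v' : (V' : Scheme.{u}) ⟶ Y), x' ∈ V' ∧ v' ≫ pY = V'.ι ≫ f ≫ pX ∧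
        X'.homOfLE (inf_le_right : f ⁻¹ᵁ U ⊓ V' ≤ V') ≫ v' =
          X'.homOfLE (inf_le_left : f ⁻¹ᵁ U ⊓ V' ≤ f ⁻¹ᵁ U) ≫ (f ∣_ U) ≫ h := by
  classical
  constructor
  · rintro ⟨V, v, hxV, hvS, hvU⟩
    refine ⟨f ⁻¹ᵁ V, (f ∣_ V) ≫ v, hxV, ?_, ?_⟩
    · rw [Category.assoc, hvS, morphismRestrict_ι_assoc]
    · let c : ((f ⁻¹ᵁ U ⊓ f ⁻¹ᵁ V : X'.Opens) : Scheme.{u}) ⟶ ((U ⊓ V : X.Opens) : Scheme.{u}) :=
        f.resLE (U ⊓ V) (f ⁻¹ᵁ U ⊓ f ⁻¹ᵁ V) le_rfl
      have h1 : c ≫ X.homOfLE (inf_le_right : U ⊓ V ≤ V) =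
          X'.homOfLE (inf_le_right : f ⁻¹ᵁ U ⊓ f ⁻¹ᵁ V ≤ f ⁻¹ᵁ V) ≫ (f ∣_ V) := by
        rw [← cancel_mono V.ι, Category.assoc, Category.assoc, morphismRestrict_ι,
          Scheme.homOfLE_ι, Scheme.homOfLE_ι_assoc]
        exact Scheme.Hom.resLE_comp_ι _ _
      have h2 : c ≫ X.homOfLE (inf_le_left : U ⊓ V ≤ U) =
          X'.homOfLE (inf_le_left : f ⁻¹ᵁ U ⊓ f ⁻¹ᵁ V ≤ f ⁻¹ᵁ U) ≫ (f ∣_ U) := by
        rw [← cancel_mono U.ι, Category.assoc, Category.assoc, morphismRestrict_ι,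
          Scheme.homOfLE_ι, Scheme.homOfLE_ι_assoc]
        exact Scheme.Hom.resLE_comp_ι _ _
      rw [← reassoc_of% h1, hvU, reassoc_of% h2]
  rintro ⟨V', v', hxV', hv'S, hv'U⟩
  let P := pullback pX pY
  let p := pullback.fst pX pY
  let j : (U : Scheme.{u}) ⟶ P := pullback.lift U.ι h hh.symm
  let P' := pullback f p
  let p' := pullback.fst f p
  let q := pullback.snd f p
  have hjp : j ≫ p = U.ι := pullback.lift_fst _ _ _
  have : IsImmersion (j ≫ p) := by rw [hjp]; infer_instance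
  have : IsImmersion j := IsImmersion.of_comp j p
  let γ : (V' : Scheme.{u}) ⟶ P' :=
    pullback.lift V'.ι (pullback.lift (V'.ι ≫ f) v' (by rw [hv'S, Category.assoc]))
      (by rw [pullback.lift_fst])
  have hγp : γ ≫ p' = V'.ι := pullback.lift_fst _ _ _
  let O' := p' ⁻¹ᵁ V'
  -- the graph of `v'` is closed over `V'`
  have hγclosed : closure (Set.range γ) ∩ (O' : Set P') ⊆ Set.range γ := by
    let γ' := IsOpenImmersion.lift O'.ι γ (by
      rw [Scheme.Opens.range_ι]; rintro _ ⟨t, rfl⟩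
      change (γ ≫ p') t ∈ V'
      rw [hγp]; exact t.2)
    have hγ' : γ' ≫ O'.ι = γ := IsOpenImmersion.lift_fac _ _ _
    have : γ' ≫ (p' ∣_ V') = 𝟙 _ := by
      rw [← cancel_mono V'.ι, Category.assoc, morphismRestrict_ι, reassoc_of% hγ', hγp, Category.id_comp]
    have : IsClosedImmersion (γ' ≫ (p' ∣_ V')) := by rw [this]; infer_instance
    have : IsClosedImmersion γ' := IsClosedImmersion.of_comp γ' (p' ∣_ V')
    rintro w ⟨hw, hwO⟩
    let w' : (O' : Scheme.{u}) := ⟨w, hwO⟩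
    have hmem : w' ∈ closure (Set.range γ') := by
      rw [O'.ι.isEmbedding.isInducing.closure_eq_preimage_closure_image, Set.mem_preimage,
        ← Set.range_comp, ← TopCat.coe_comp, ← Scheme.Hom.comp_base, hγ']
      exact hw
    rw [γ'.isClosedEmbedding.isClosed_range.closure_eq] at hmem
    obtain ⟨t, ht⟩ := hmem
    exact ⟨t, by rw [← hγ', Scheme.Hom.comp_apply, ht]; rfl⟩
  -- over `V'` the preimage of the graph of `h` lies in the graph of `v'`
  have hsub : (O' : Set P') ∩ q ⁻¹' Set.range j ⊆ Set.range γ := by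
    rintro w ⟨hwO, hwj⟩
    let a := P'.fromSpecResidueField w
    have hpt : ∀ t, a t = w := fun t => P'.fromSpecResidueField_apply w t
    obtain ⟨c, hc⟩ : ∃ c, c ≫ j = a ≫ q := by
      let e := pullback.snd j (a ≫ q)
      have hr : Set.range e = Set.univ := by
        rw [Scheme.Pullback.range_snd]
        exact Set.eq_univ_of_forall fun t => by
          rw [Set.mem_preimage, Scheme.Hom.comp_apply, hpt]; exact hwj
      have : IsClosedImmersion e := IsClosedImmersion.of_isPreimmersion _ (hr ▸ isClosed_univ)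
      have : Surjective e := ⟨Set.range_eq_univ.mp hr⟩
      have : IsIso e := isIso_of_isClosedImmersion_of_surjective e
      exact ⟨inv e ≫ pullback.fst j (a ≫ q), by
        rw [Category.assoc, pullback.condition, IsIso.inv_hom_id_assoc]⟩
    have hcU : c ≫ U.ι = a ≫ p' ≫ f := by
      rw [← hjp, reassoc_of% hc, pullback.condition]
    have hch : c ≫ h = a ≫ q ≫ pullback.snd pX pY := by
      rw [← reassoc_of% hc, pullback.lift_snd]
    obtain ⟨l, hl⟩ := Groth.Agent.H26.SectionExtend.exists_lift_opens (a ≫ p') (f ⁻¹ᵁ U ⊓ V')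
      fun t => by
        refine ⟨?_, ?_⟩
        · change f ((a ≫ p') t) ∈ U
          rw [← Scheme.Hom.comp_apply, Category.assoc, ← hcU]
          exact (c t).2
        · rw [Scheme.Hom.comp_apply, hpt]; exact hwO
    let l' := l ≫ X'.homOfLE (inf_le_right : f ⁻¹ᵁ U ⊓ V' ≤ V')
    have hl' : l' ≫ V'.ι = a ≫ p' := by rw [Category.assoc, Scheme.homOfLE_ι, hl]
    have hc' : l ≫ X'.homOfLE (inf_le_left : f ⁻¹ᵁ U ⊓ V' ≤ f ⁻¹ᵁ U) ≫ (f ∣_ U) = c := by
      rw [← cancel_mono U.ι, Category.assoc, Category.assoc, morphismRestrict_ι,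
        Scheme.homOfLE_ι_assoc, reassoc_of% hl, hcU]
    have hla : l' ≫ γ = a := by
      apply pullback.hom_ext
      · rw [Category.assoc, hγp, hl']
      · apply pullback.hom_ext
        · simp only [γ, Category.assoc, pullback.lift_snd, pullback.lift_fst, reassoc_of% hl']
          exact congrArg (a ≫ ·) pullback.condition
        · simp only [γ, l', Category.assoc, pullback.lift_snd, hv'U, reassoc_of% hc', hch]
          rfl
    let t : Spec (P'.residueField w) := IsLocalRing.closedPoint _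
    exact ⟨l' t, by rw [← Scheme.Hom.comp_apply, hla, hpt]⟩
  -- the point over `x'`
  let x₁ : (V' : Scheme.{u}) := ⟨x', hxV'⟩
  let z₀ := q (γ x₁)
  have hz₀ : p z₀ = f x' := by
    change (γ ≫ q ≫ p) x₁ = f x'
    rw [← pullback.condition, reassoc_of% hγp]
    rfl
  have hz₀Γ : z₀ ∈ closure (Set.range j) := by
    have hd : Dense ((V'.ι ⁻¹ᵁ (f ⁻¹ᵁ U) : (V' : Scheme.{u}).Opens) : Set (V' : Scheme.{u})) :=
      (hU.preimage f.isOpenMap).preimage V'.ι.isOpenEmbedding.isOpenMap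
    refine (closure_mono ?_) ((image_closure_subset_closure_image
      (γ ≫ q).continuous) ⟨x₁, hd x₁, rfl⟩)
    rintro _ ⟨t, ht, rfl⟩
    let t' : ((f ⁻¹ᵁ U ⊓ V' : X'.Opens) : Scheme.{u}) := ⟨t.1, ht, t.2⟩
    have : X'.homOfLE (inf_le_right : f ⁻¹ᵁ U ⊓ V' ≤ V') ≫ γ ≫ q =
        (X'.homOfLE (inf_le_left : f ⁻¹ᵁ U ⊓ V' ≤ f ⁻¹ᵁ U) ≫ (f ∣_ U)) ≫ j := by
      apply pullback.hom_ext
      · simp only [γ, q, j, Category.assoc, pullback.lift_snd, pullback.lift_fst, morphismRestrict_ι,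
          Scheme.homOfLE_ι_assoc]
      · simp only [γ, q, j, Category.assoc, pullback.lift_snd, hv'U]
    refine ⟨(X'.homOfLE (inf_le_left : f ⁻¹ᵁ U ⊓ V' ≤ f ⁻¹ᵁ U) ≫ (f ∣_ U)) t', ?_⟩
    rw [← Scheme.Hom.comp_apply, ← this, Scheme.Hom.comp_apply]
    congr 1
    apply Subtype.ext
    change (X'.homOfLE (inf_le_right : f ⁻¹ᵁ U ⊓ V' ≤ V') ≫ V'.ι) t' = t.1
    rw [Scheme.homOfLE_ι]; rfl
  refine Groth.Agent.S3836.result pX pY hX U hU h hh.symm (f x') (hXn _) z₀ hz₀ hz₀Γ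
    ⟨⊤, ?_⟩
  ext z
  simp only [TopologicalSpace.Opens.coe_top, Set.univ_inter, Set.mem_inter_iff, Set.mem_preimage,
    Set.mem_singleton_iff]
  refine ⟨fun ⟨hzΓ, hz⟩ => ?_, fun e => e ▸ ⟨hz₀Γ, hz₀⟩⟩
  obtain ⟨w, hw₁, hw₂⟩ := Scheme.Pullback.exists_preimage_pullback (f := f) (g := p) x' z hz.symm
  have hwO : w ∈ (O' : Set P') := by
    change p' w ∈ V'
    rw [hw₁]; exact hxV'
  have hwcl : w ∈ closure ((O' : Set P') ∩ q ⁻¹' Set.range j) := by
    refine O'.2.inter_closure ⟨hwO, ?_⟩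
    rw [← q.isOpenMap.preimage_closure_eq_closure_preimage q.continuous, Set.mem_preimage, hw₂]
    exact hzΓ
  obtain ⟨t, rfl⟩ := hγclosed ⟨closure_mono hsub hwcl, hwO⟩
  have ht : t = x₁ := by
    apply Subtype.ext
    change V'.ι t = x'
    rw [← hγp]
    exact hw₁
  rw [← hw₂, ht]

end Groth.Agent.S3837
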