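import Groth.Statements.S3838
import Groth.Agent.Lib.CartierDescent.Glue

set_option autoImplicit false
universe u
open CategoryTheory CategoryTheory.Limits AlgebraicGeometry TopologicalSpace
open Div21
open Groth.Agent.Lib.CartierDescent

namespace Groth.Agent.S3838

/-- Let f : X → Y be a faithfully flat morphism between locally Noetherian schemes, with f quasi-compact
or open, and let D' be an effective Cartier divisor on X with ideal sheaf 𝓙. D' is the pullback of
some effective Cartier divisor on Y if and only if the following holds at every point y of Y whose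
local ring has depth at most 1: writing Y₁ = Spec 𝒪_{Y,y}, X₁ = X ×_Y Y₁ and f₁ : X₁ → Y₁, the
pullback of D' to X₁ is the pullback along f₁ of some effective Cartier divisor on Y₁. (The
published statement is more general; only the case of effective Cartier divisors is stated here.) -/
theorem result {X Y : Scheme.{u}} [IsLocallyNoetherian X]
    [IsLocallyNoetherian Y] (f : X ⟶ Y) [Flat f] [Surjective f] (hf : QuasiCompact f ∨ IsOpenMap f)
    (𝓙 : X.IdealSheafData) (hJ : BlowUp.IsEffCartierIdeal 𝓙) :
    (∃ 𝓘 : Y.IdealSheafData, BlowUp.IsEffCartierIdeal 𝓘 ∧ 𝓘.comap f = 𝓙) ↔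
      ∀ y : ↥Y, LocCoh.depth ↑(Y.presheaf.stalk y) ↑(Y.presheaf.stalk y) ≤ 1 →
        ∃ 𝓘₁ : (Spec (Y.presheaf.stalk y)).IdealSheafData, BlowUp.IsEffCartierIdeal 𝓘₁ ∧
          𝓘₁.comap (pullback.snd f (Y.fromSpecStalk y)) = 𝓙.comap (pullback.fst f (Y.fromSpecStalk y)) := by
    constructor
    · rintro ⟨I, hI, rfl⟩ y -
      refine ⟨I.comap (Y.fromSpecStalk y), isEffCartierIdeal_comap_fromSpecStalk hI y, ?_⟩
      rw [← Scheme.IdealSheafData.comap_comp, ← Scheme.IdealSheafData.comap_comp, pullback.condition]
    · intro H
      refine exists_descent f hf 𝓙 hJ fun z hz => ?_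
      obtain ⟨I₁, hI₁, he⟩ := H z hz
      obtain ⟨a, -, ha⟩ := exists_topIdeal_eq_span hI₁
      refine ⟨a, fun x h => ?_⟩
      let φ := Y.presheaf.stalkSpecializes h ≫ f.stalkMap x
      let l : Spec (X.presheaf.stalk x) ⟶ pullback f (Y.fromSpecStalk z) :=
        pullback.lift (X.fromSpecStalk x) (Spec.map φ) (by
          simp only [φ, Spec.map_comp, Category.assoc, Scheme.SpecMap_stalkSpecializes_fromSpecStalk,
            Scheme.SpecMap_stalkMap_fromSpecStalk])
      have := congrArg (fun I => topIdeal (I.comap l)) he
      simp only [← Scheme.IdealSheafData.comap_comp, l, pullback.lift_fst, pullback.lift_snd] at this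
      rw [topIdeal_comap, ha, topIdeal_comap_fromSpecStalk, span_eq_map_span] at this
      exact this.symm

end Groth.Agent.S3838
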