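import Groth.Statements.S3851
import Groth.Agent.H2.CB.Tfae
import Mathlib.FieldTheory.IsAlgClosed.AlgebraicClosure
import Mathlib.Tactic.TFAE

set_option autoImplicit false
universe u
open scoped TensorProduct
open EGA418

namespace Groth.Agent.S3851

/-- a) iff a') iff b), and b) implies d): let k be a field, A a complete Noetherian local k-algebra
whose residue field is finite over k, p a non-maximal prime of A, n the largest dimension of an
irreducible component of Spec A containing p, and Ω̂ the completion of the module of differentials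
of A over k for the topology of the maximal ideal. For a field extension k' of k write A' = A ⊗̂_k
k' (the completion of A ⊗_k k' for the extension of the maximal ideal). The following are
equivalent: (a) for every extension k' and every prime p' of A' over p, A'_{p'} is regular; (a') for
some perfect extension k' and some prime p' of A' over p, A'_{p'} is regular; (b) Ω̂_p is a free
A_p-module of rank n. Moreover (b) implies (d): A_p is geometrically regular over k. (The converse
of the last implication, valid when [k : k^p] is finite, is not stated.) -/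
theorem result (k A : Type u) [Field k] [CommRing A]
    [IsLocalRing A] [IsNoetherianRing A] [Algebra k A] [IsAdicComplete (IsLocalRing.maximalIdeal A) A]
    [Module.Finite k (IsLocalRing.ResidueField A)] (p : Ideal A) [p.IsPrime] (hp : p ≠ IsLocalRing.maximalIdeal A)
    (n : ℕ) (hn₁ : ∀ q ∈ minimalPrimes A, q ≤ p → ringKrullDim (A ⧸ q) ≤ n)
    (hn₂ : ∃ q ∈ minimalPrimes A, q ≤ p ∧ ringKrullDim (A ⧸ q) = n) :
    List.TFAE [
      ∀ (k' : Type u) [Field k'] [Algebra k k']
        (p' : Ideal (AdicCompletion ((IsLocalRing.maximalIdeal A).map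
          (Algebra.TensorProduct.includeLeft : A →ₐ[k] A ⊗[k] k')) (A ⊗[k] k'))) [p'.IsPrime],
        (p'.comap (algebraMap (A ⊗[k] k') _)).comap
            (Algebra.TensorProduct.includeLeft : A →ₐ[k] A ⊗[k] k').toRingHom = p →
          IsRegularLocalRing (Localization.AtPrime p'),
      ∃ (k' : Type u) (_ : Field k') (_ : Algebra k k') (_ : PerfectField k')
        (p' : Ideal (AdicCompletion ((IsLocalRing.maximalIdeal A).map
          (Algebra.TensorProduct.includeLeft : A →ₐ[k] A ⊗[k] k')) (A ⊗[k] k'))) (_ : p'.IsPrime),
        (p'.comap (algebraMap (A ⊗[k] k') _)).comap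
            (Algebra.TensorProduct.includeLeft : A →ₐ[k] A ⊗[k] k').toRingHom = p ∧
          IsRegularLocalRing (Localization.AtPrime p'),
      Module.Free (Localization.AtPrime p)
          (LocalizedModule p.primeCompl (AdicCompletion (IsLocalRing.maximalIdeal A) (KaehlerDifferential k A))) ∧
        Module.finrank (Localization.AtPrime p)
          (LocalizedModule p.primeCompl (AdicCompletion (IsLocalRing.maximalIdeal A) (KaehlerDifferential k A))) = n] ∧
    ((Module.Free (Localization.AtPrime p)
          (LocalizedModule p.primeCompl (AdicCompletion (IsLocalRing.maximalIdeal A) (KaehlerDifferential k A))) ∧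
        Module.finrank (Localization.AtPrime p)
          (LocalizedModule p.primeCompl (AdicCompletion (IsLocalRing.maximalIdeal A) (KaehlerDifferential k A))) = n) →
      CAlg.IsGeometricallyRegular k (Localization.AtPrime p)) := by
  classical
  haveI := H2.Omega.Basic.finite k A
  obtain ⟨dA, hdA⟩ := H2.Omega.Unram.exists_dim (A := A)
  obtain ⟨x, hx, hrad⟩ := Lib.Cohen.PSRegular.exists_sop A hdA
  obtain ⟨g, hg, hgfin⟩ := H2.Omega.Tools.exists_finite_algHom (k := k) x hx hrad
  letI : Algebra (MvPowerSeries (Fin dA) k) A := g.toRingHom.toAlgebra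
  haveI : IsScalarTower k (MvPowerSeries (Fin dA) k) A := .of_algebraMap_eq fun c => (g.commutes c).symm
  haveI : Module.Finite (MvPowerSeries (Fin dA) k) A := hgfin
  haveI : IsLocalHom (algebraMap (MvPowerSeries (Fin dA) k) A) :=
    H2.Omega.Unram.isLocalHom fun i => by rw [show algebraMap _ A _ = g _ from rfl, hg]; exact hx i
  have hb : (Module.Free (Localization.AtPrime p) (LocalizedModule p.primeCompl (H2.Omega.Basic.Om k A)) ∧
      Module.finrank (Localization.AtPrime p) (LocalizedModule p.primeCompl (H2.Omega.Basic.Om k A)) = n) →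
      Module.finrank p.ResidueField (TensorProduct A p.ResidueField (H2.Omega.Basic.Om k A)) ≤ n := by
    rintro ⟨hF, hr⟩
    haveI := hF
    let b := Module.finBasisOfFinrankEq (Localization.AtPrime p) _ hr
    exact (H2.Omega.Tools.exists_span_iff (M := H2.Omega.Basic.Om k A) p n).1 ⟨b, b.span_eq⟩
  refine ⟨?_, fun h => (H2.CB.Tfae.regular_of_rank p hp n hn₁ hn₂ (hb h) dA).2⟩
  tfae_have 1 → 2 := fun h => by
    obtain ⟨e, he⟩ := H2.CB.Base.exists_equiv k (AlgebraicClosure k) A dA
    obtain ⟨Q, hQ, hQp⟩ := H2.CB.Regular.exists_prime_over k (AlgebraicClosure k) A dA p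
    haveI := hQ
    have hc : ((Q.comap e.toRingHom).comap (algebraMap (A ⊗[k] AlgebraicClosure k) _)).comap
        (Algebra.TensorProduct.includeLeft : A →ₐ[k] A ⊗[k] AlgebraicClosure k).toRingHom = p := by
      rw [Ideal.comap_comap, Ideal.comap_comap, ← hQp]
      congr 1
      ext a
      exact (he (a ⊗ₜ 1)).trans (H2.CB.Base.toMdl_include k _ A dA a)
    exact ⟨AlgebraicClosure k, inferInstance, inferInstance, inferInstance, Q.comap e.toRingHom, inferInstance,
      hc, h (AlgebraicClosure k) (Q.comap e.toRingHom) hc⟩
  tfae_have 2 → 3 := by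
    rintro ⟨k', _, _, _, p', hp', hc, hreg⟩
    obtain ⟨e, he⟩ := H2.CB.Base.exists_equiv k k' A dA
    haveI : (p'.comap e.symm.toRingHom).IsPrime := Ideal.IsPrime.comap _
    have hQ : (p'.comap e.symm.toRingHom).comap (algebraMap A (H2.CB.Base.Mdl k k' A dA)) = p := by
      rw [← hc, Ideal.comap_comap, Ideal.comap_comap]
      congr 1
      refine RingHom.ext fun a => ?_
      show e.symm (algebraMap A _ a) = AdicCompletion.of _ _ (a ⊗ₜ[k] (1 : k'))
      rw [← H2.CB.Base.toMdl_include k k' A dA a, ← he, RingEquiv.symm_apply_apply]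
    haveI := hreg
    have hreg' : IsRegularLocalRing (Localization.AtPrime (p'.comap e.symm.toRingHom)) :=
      IsRegularLocalRing.of_ringEquiv (R := Localization.AtPrime p')
        (R' := Localization.AtPrime (p'.comap e.symm.toRingHom))
        (Localization.localRingEquiv (p'.comap e.symm.toRingHom) p' e.symm rfl).symm
    obtain ⟨hregA, hle⟩ := H2.CB.Tfae.rank_le_of_regular p k' dA n hn₁ _ hQ hreg'
    haveI := hregA
    haveI := Lib.Regular.Quotient.isDomain (Localization.AtPrime p)
    obtain ⟨q, hqm, hqp, hd⟩ := hn₂
    haveI : q.IsPrime := hqm.1.1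
    obtain ⟨s, hs⟩ := H2.Omega.Tools.exists_genAt (M := H2.Omega.Basic.Om k A) p
    have e' := le_antisymm hle (H2.Omega.Lower.le_finrank k A p q hqp hd)
    refine H2.Omega.Free.basis_of_genAt p (fun i => s (Fin.cast e'.symm i)) ?_ q hqp hqm hd
    convert hs using 1
    exact (Fin.castOrderIso e'.symm).surjective.range_comp s
  tfae_have 3 → 1 := fun h k' _ _ p' _ hc => by
    obtain ⟨e, he⟩ := H2.CB.Base.exists_equiv k k' A dA
    haveI : (p'.comap e.symm.toRingHom).IsPrime := Ideal.IsPrime.comap _
    have hQ : (p'.comap e.symm.toRingHom).comap (algebraMap A (H2.CB.Base.Mdl k k' A dA)) = p := by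
      rw [← hc, Ideal.comap_comap, Ideal.comap_comap]
      congr 1
      refine RingHom.ext fun a => ?_
      show e.symm (algebraMap A _ a) = AdicCompletion.of _ _ (a ⊗ₜ[k] (1 : k'))
      rw [← H2.CB.Base.toMdl_include k k' A dA a, ← he, RingEquiv.symm_apply_apply]
    haveI := (H2.CB.Tfae.regular_of_rank p hp n hn₁ hn₂ (hb h) dA).1 k' (p'.comap e.symm.toRingHom) hQ
    exact IsRegularLocalRing.of_ringEquiv (R := Localization.AtPrime (p'.comap e.symm.toRingHom))
      (R' := Localization.AtPrime p') (Localization.localRingEquiv (p'.comap e.symm.toRingHom) p' e.symm rfl)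
  tfae_finish

end Groth.Agent.S3851
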