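import Groth.Statements.S3852
import Groth.Agent.H30.IdealLemmas

set_option autoImplicit false
universe u
open FCompl

namespace Groth.Agent.S3852

open AlgebraicGeometry in
/-- Second assertion; stated for quasi-coherent ideal sheaves, with the condition on supports as an
inclusion, which is what the proof uses: Let X be a Noetherian scheme and I, J ideal sheaves such
that the zero locus of J is contained in the zero locus of I. Then I^n ≤ J for some n ≥ 1. -/
theorem result
    (X : Scheme.{u}) [IsNoetherian X] (I J : X.IdealSheafData)
    (h : (J.support : Set X) ⊆ I.support) :
    ∃ n : ℕ, I ^ (n + 1) ≤ J := by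
  exact Groth.Agent.H30.IdealLemmas.exists_pow_le_of_support_le I J (fun V => by
    have : IsNoetherianRing Γ(X, V.1) := IsLocallyNoetherian.component_noetherian V
    exact IsNoetherian.noetherian _) h

end Groth.Agent.S3852
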