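import Groth.Statements.S3860
import Mathlib.RingTheory.AdicCompletion.RingHom

set_option autoImplicit false
universe u
open FCompl

namespace Groth.Agent.S3860

open AlgebraicGeometry in
/-- (Affine adic case; the formal spectra presented as the systems Spec(A/I^(n+1)) and Spec(B/K^(n+1)).)
Let I be an ideal of a ring A which is complete and separated for the I-adic topology, and K an
ideal of a ring B. Then φ ↦ (Spec of the induced maps B/K^(n+1) -> A/I^(n+1)) is a bijection from
the ring homomorphisms φ : B -> A with φ(K) ⊆ I onto the morphisms of systems from Spf(A) to Spf(B),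
i.e. the compatible families of morphisms Spec(A/I^(n+1)) -> Spec(B/K^(n+1)). -/
theorem result (A B : Type u) [CommRing A] [CommRing B] (I : Ideal A) (K : Ideal B)
    [IsAdicComplete I A] :
    Function.Bijective (fun φ : {φ : B →+* A // K ≤ I.comap φ} ↦ FSch.spfMap I K φ.1 φ.2) := by
  open CategoryTheory AlgebraicGeometry in
  have hkey : ∀ {φ : B →+* A} (hφ : K ≤ I.comap φ) (n : ℕ) (b : B),
      FSch.quotPowMap I K φ hφ n (Ideal.Quotient.mk _ b) = Ideal.Quotient.mk _ (φ b) :=
    fun _ _ _ => rfl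
  constructor
  · rintro ⟨φ₁, h₁⟩ ⟨φ₂, h₂⟩ h
    apply Subtype.ext
    refine RingHom.ext fun b => IsHausdorff.eq_iff_smodEq (I := I) |>.mpr fun n => ?_
    rw [smul_eq_mul, Ideal.mul_top, SModEq.sub_mem]
    refine Ideal.pow_le_pow_right (Nat.le_succ n) ?_
    have h' := congrArg (fun k : FSch.spf A I ⟶ FSch.spf B K => (k : FSch.Hom _ _).app n) h
    simp only [FSch.spfMap_app] at h'
    have h'' := congrArg (fun k : CommRingCat.of _ ⟶ CommRingCat.of _ => k.hom (Ideal.Quotient.mk (K ^ (n + 1)) b))
      (Spec.map_injective h')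
    rw [← Ideal.Quotient.eq_zero_iff_mem, map_sub, sub_eq_zero, ← hkey h₁ n b, ← hkey h₂ n b]
    exact h''
  · intro ψ
    let ψ' : ∀ n, B ⧸ K ^ (n + 1) →+* A ⧸ I ^ (n + 1) := fun n =>
      (Spec.preimage ((ψ : FSch.Hom _ _).app n)).hom
    have hψ' : ∀ n, Spec.map (CommRingCat.ofHom (ψ' n)) = (ψ : FSch.Hom _ _).app n :=
      fun n => Spec.map_preimage _
    have hcompat : ∀ n, (Ideal.Quotient.factor (Ideal.pow_le_pow_right (Nat.le_succ (n + 1)))).comp (ψ' (n + 1)) =
        (ψ' n).comp (Ideal.Quotient.factor (Ideal.pow_le_pow_right (Nat.le_succ (n + 1)))) := by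
      intro n
      have hc := (ψ : FSch.Hom _ _).comm n
      rw [← hψ' n, ← hψ' (n + 1)] at hc
      have := Spec.map_injective ((Spec.map_comp _ _).trans (hc.symm.trans (Spec.map_comp _ _).symm))
      exact congrArg CommRingCat.Hom.hom this
    let f : ∀ n, B →+* A ⧸ I ^ (n + 1) := fun n => (ψ' n).comp (Ideal.Quotient.mk _)
    have hf : ∀ {m : ℕ}, (Ideal.Quotient.factorPow I (Nat.le_succ (m + 1))).comp (f (m + 1)) = f m := by
      intro m
      refine RingHom.ext fun b => ?_
      exact congrArg (fun k : _ →+* _ => k (Ideal.Quotient.mk (K ^ (m + 1 + 1)) b)) (hcompat m)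
    let φ := IsAdicComplete.StrictMono.liftRingHom I (a := fun n => n + 1)
      (fun a b hab => Nat.succ_lt_succ hab) f hf
    have hφ : ∀ n b, Ideal.Quotient.mk (I ^ (n + 1)) (φ b) = f n b := fun n b =>
      IsAdicComplete.StrictMono.mk_liftRingHom I _ f hf b
    refine ⟨⟨φ, fun b hb => ?_⟩, FSch.Hom.ext (funext fun n => ?_)⟩
    · rw [Ideal.mem_comap]
      have h0 := hφ 0 b
      have hb' : Ideal.Quotient.mk (K ^ (0 + 1)) b = 0 := by
        rw [Ideal.Quotient.eq_zero_iff_mem, pow_one]; exact hb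
      simp only [f, RingHom.comp_apply, hb', map_zero] at h0
      rw [Ideal.Quotient.eq_zero_iff_mem, pow_one] at h0
      exact h0
    · refine Eq.trans ?_ (hψ' n)
      rw [FSch.spfMap_app]
      refine congrArg _ (congrArg CommRingCat.ofHom (Ideal.Quotient.ringHom_ext (RingHom.ext fun b => ?_)))
      exact hφ n b

end Groth.Agent.S3860
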