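import Groth.Statements.S3863
import Groth.Agent.H30.FSch.AffineEquiv
import Groth.Agent.H30.FSch.ComplExact

set_option autoImplicit false
universe u
open FCompl

namespace Groth.Agent.S3863

open AlgebraicGeometry in
open CategoryTheory in
/-- The formal spectrum of A is presented as the system of closed subschemes of Spec A cut out by the
powers of J, and for an A-module M the system of modules M^Δ is the family of pullbacks of the sheaf
M̃ associated to M to these subschemes, with its canonical transition isomorphisms. Let A be a
Noetherian ring, complete and separated for the J-adic topology, and M, N finite A-modules. Then u ↦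
u^Δ is a bijection from Hom_A(M, N) onto the set of morphisms of systems of modules M^Δ → N^Δ. -/
theorem result (A : Type u) [CommRing A] [IsNoetherianRing A]
    (J : Ideal A) [IsAdicComplete J A] (M N : ModuleCat.{u} A) [Module.Finite A M] [Module.Finite A N] :
    Function.Bijective (fun u : M ⟶ N ↦
      FSch.complModMap (FSch.idealSpec A J) ((tilde.functor (CommRingCat.of A)).map u)) := by
  have hN := Groth.Agent.H30.IdealLemmas.isLocNoethFormal_completionAlong (Spec (CommRingCat.of A)) (FSch.idealSpec A J)
  have hI : ∀ k, (FSch.completionToX _ (FSch.idealSpec A J) k).ker.ideal ⟨⊤, isAffineOpen_top _⟩ =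
      (J ^ (k + 1)).map (Scheme.ΓSpecIso (CommRingCat.of A)).inv.hom := fun k => by
    rw [Groth.Agent.H30.ComplSec.ker_completionToX, Groth.Agent.H30.IdealLemmas.idealSpec_ideal_top, Ideal.map_pow]
  have hE : ∀ (F G : (Spec (CommRingCat.of A)).Modules) (φ : F ⟶ G),
      HEq (FSch.complModMap (FSch.idealSpec A J) φ)
        (Groth.Agent.H30.ComplSec.pullSysMap (FSch.completionToX _ (FSch.idealSpec A J))
          (FSch.completionToX_comm _ (FSch.idealSpec A J)) φ) := fun F G φ =>
    Groth.Agent.H30.ComplExact.hom_heq
      (Groth.Agent.H30.ComplSec.complMod_eq _ (FSch.idealSpec A J) F)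
      (Groth.Agent.H30.ComplSec.complMod_eq _ (FSch.idealSpec A J) G) _ _ fun _ => HEq.rfl
  exact Groth.Agent.H30.AffineEquiv.bijective_of_heq
    (Groth.Agent.H30.ComplSec.complMod_eq _ (FSch.idealSpec A J) ((tilde.functor (CommRingCat.of A)).obj M))
    (Groth.Agent.H30.ComplSec.complMod_eq _ (FSch.idealSpec A J) ((tilde.functor (CommRingCat.of A)).obj N)) _
    (fun u : M ⟶ N => Groth.Agent.H30.ComplSec.pullSysMap (FSch.completionToX _ (FSch.idealSpec A J))
      (FSch.completionToX_comm _ (FSch.idealSpec A J)) ((tilde.functor (CommRingCat.of A)).map u))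
    (fun u => hE _ _ _)
    (Groth.Agent.H30.AffineEquiv.pullSysMap_bijective' hN (FSch.completionToX _ (FSch.idealSpec A J))
      (FSch.completionToX_comm _ (FSch.idealSpec A J)) J hI M N)

end Groth.Agent.S3863
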