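import Groth.Statements.S3868
import Groth.Agent.Lib.Adic.RingLimit
import Groth.Agent.Lib.Lim.Thickening
import Groth.Agent.H30.SysLemmas

set_option autoImplicit false
universe u
open FCompl

namespace Groth.Agent.S3868

open AlgebraicGeometry in
open CategoryTheory in
/-- (Systems of thickenings.) Let (X_n) be a system of schemes whose transition maps are surjective
closed immersions, with the kernel ideal of X_n -> X_(n+1) the (n+1)-st power of that of X_0 ->
X_(n+1), X_0 affine and locally Noetherian, and the kernel ideal of X_0 -> X_1 of finite type. Then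
the system is isomorphic to the formal spectrum Spec(A/J) -> Spec(A/J^2) -> ... of some Noetherian
ring A complete and separated for the J-adic topology, J an ideal of A. -/
theorem result (𝔛 : FSch.Sys.{u}) (hF : 𝔛.IsFormal) (hA : 𝔛.IsAdic)
    [IsAffine (𝔛.X 0)] [IsLocallyNoetherian (𝔛.X 0)] (hft : FSch.IdealFT (𝔛.ι 0).ker) :
    ∃ (A : Type u) (_ : CommRing A) (J : Ideal A),
      IsNoetherianRing A ∧ IsAdicComplete J A ∧ Nonempty (𝔛 ≅ FSch.spf A J) := by
  classical
  have hcl : ∀ n, IsClosedImmersion (𝔛.toX n) := H30.SysLemmas.toX_isClosedImmersion hF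
  have haff : ∀ n, IsAffine (𝔛.X n) := fun n => by
    have := hcl n
    have := H30.SysLemmas.toX_surjective hF n
    exact Lib.Lim.Thickening.isAffine_of_surjective (𝔛.toX n)
  let R : ℕ → Type u := fun n => Γ(𝔛.X n, ⊤)
  let u : ∀ n, R (n + 1) →+* R n := fun n => (𝔛.ι n).appTop.hom
  let v : ∀ n, R n →+* R 0 := fun n => (𝔛.toX n).appTop.hom
  have hu : ∀ n, Function.Surjective (u n) := fun n => by
    have := (hF n).1
    have := haff (n + 1)
    exact (𝔛.ι n).app_surjective _ (isAffineOpen_top _)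
  have hv0 : v 0 = RingHom.id (R 0) := rfl
  have hv : ∀ n, (v n).comp (u n) = v (n + 1) := fun n => rfl
  have hker : ∀ n, RingHom.ker (u n) = RingHom.ker (v (n + 1)) ^ (n + 1) := fun n => by
    have := (hF n).1
    have := hcl (n + 1)
    have := haff (n + 1)
    let T : (𝔛.X (n + 1)).affineOpens := ⟨⊤, isAffineOpen_top _⟩
    have e := congrArg (fun I : (𝔛.X (n + 1)).IdealSheafData => I.ideal T) (hA n)
    simp only [Scheme.IdealSheafData.ideal_pow, Pi.pow_apply, Scheme.Hom.ker_apply] at e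
    exact e
  have hfg : (RingHom.ker (v 1)).FG := by
    have := (hF 0).1
    have := haff 1
    have e := hft ⟨⊤, isAffineOpen_top _⟩
    rw [Scheme.Hom.ker_apply] at e
    have hv1 : 𝔛.toX 1 = 𝔛.ι 0 := Category.id_comp _
    change (RingHom.ker (𝔛.toX 1).appTop.hom).FG
    rw [hv1]
    exact e
  let g₁ : (∀ n, R n) →+* (∀ n, R n) :=
    Pi.ringHom fun n => (u n).comp (Pi.evalRingHom R (n + 1))
  let S : Subring (∀ n, R n) := RingHom.eqLocus g₁ (RingHom.id _)
  let p : ∀ n, S →+* R n := fun n => (Pi.evalRingHom R n).comp S.subtype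
  have hp : ∀ n, (u n).comp (p (n + 1)) = p n := fun n =>
    RingHom.ext fun x => congrFun x.2 n
  have hinj : ∀ x : S, (∀ n, p n x = 0) → x = 0 := fun x h => Subtype.ext (funext h)
  have hlift : ∀ y : (∀ n, R n), (∀ n, u n (y (n + 1)) = y n) → ∃ x : S, ∀ n, p n x = y n :=
    fun y hy => ⟨⟨y, funext hy⟩, fun n => rfl⟩
  obtain ⟨hc, hpk, hJ⟩ := Lib.Adic.RingLimit.main hu hv0 hv hker hfg hp hinj hlift
  set J : Ideal S := RingHom.ker (p 0) with hJdef
  haveI : IsAdicComplete J S := hc
  haveI : IsNoetherianRing (R 0) := IsLocallyNoetherian.component_noetherian ⟨⊤, isAffineOpen_top _⟩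
  haveI : IsNoetherianRing (S ⧸ J) := isNoetherianRing_of_ringEquiv (R 0)
    (RingHom.quotientKerEquivOfSurjective (hpk 0).1).symm
  haveI hN : IsNoetherianRing S := Lib.Adic.Complete.isNoetherianRing_of_fg hJ
  refine ⟨S, inferInstance, J, hN, hc, ?_⟩
  let e : ∀ n, (S ⧸ J ^ (n + 1)) ≃+* R n := fun n =>
    (Ideal.quotEquivOfEq (hpk n).2.symm).trans (RingHom.quotientKerEquivOfSurjective (hpk n).1)
  have he : ∀ n (a : S), e n (Ideal.Quotient.mk _ a) = p n a := fun n a => rfl
  let φ : ∀ n, 𝔛.X n ≅ (FSch.spf S J).X n := fun n =>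
    haveI := haff n
    (𝔛.X n).isoSpec ≪≫ Scheme.Spec.mapIso ((e n).toCommRingCatIso).op
  have hφ : ∀ n, (φ n).hom ≫ (FSch.spf S J).ι n = 𝔛.ι n ≫ (φ (n + 1)).hom := fun n => by
    haveI := haff n
    haveI := haff (n + 1)
    change ((𝔛.X n).isoSpec.hom ≫ Spec.map (CommRingCat.ofHom (e n).toRingHom)) ≫
        Spec.map (CommRingCat.ofHom (Ideal.Quotient.factor _)) =
      𝔛.ι n ≫ (𝔛.X (n + 1)).isoSpec.hom ≫ Spec.map (CommRingCat.ofHom (e (n + 1)).toRingHom)
    rw [← Category.assoc (𝔛.ι n), ← Scheme.isoSpec_hom_naturality, Category.assoc, Category.assoc,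
      ← Spec.map_comp, ← Spec.map_comp]
    congr 2
    ext a
    exact (RingHom.congr_fun (hp n) a).symm
  exact ⟨{ hom := ⟨fun n => (φ n).hom, hφ⟩
           inv := ⟨fun n => (φ n).inv, fun n => by
             rw [Iso.inv_comp_eq, ← Category.assoc, hφ n, Category.assoc, Iso.hom_inv_id,
               Category.comp_id]⟩
           hom_inv_id := FSch.Hom.ext (funext fun n => (φ n).hom_inv_id)
           inv_hom_id := FSch.Hom.ext (funext fun n => (φ n).inv_hom_id) }⟩

end Groth.Agent.S3868
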