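import Groth.Statements.S3874
import Groth.Agent.H30.Compl

set_option autoImplicit false
universe u
open FCompl

namespace Groth.Agent.S3874

/-- Let A be a Noetherian ring, J an ideal, f ∈ A and n ≥ 0, and let A_{f} be the completion of the
localization A_f for the topology defined by the extension of J. There is a ring isomorphism from
the localization of A/J^(n+1) away from the class of f onto A_{f} modulo the (n+1)-st power of the
extension of J to A_{f}, compatible with the canonical maps from A (and hence unique). In terms of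
formal spectra: the open D(f) of Spf(A) is Spf(A_{f}), and at level n its ring is the ring
(A/J^(n+1))_f of the open D(f) of Spec(A/J^(n+1)). -/
theorem result (A : Type u) [CommRing A] [IsNoetherianRing A] (J : Ideal A)
    (f : A) (n : ℕ) :
    ∃ e : Localization.Away (Ideal.Quotient.mk (J ^ (n + 1)) f) ≃+*
        FSch.cAway A J f ⧸ (J.map (algebraMap A (FSch.cAway A J f))) ^ (n + 1),
      ∀ a : A, e (algebraMap (A ⧸ J ^ (n + 1)) _ (Ideal.Quotient.mk (J ^ (n + 1)) a)) =
        Ideal.Quotient.mk _ (algebraMap A (FSch.cAway A J f) a) := by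
  let S := Localization.Away f
  let K : Ideal S := J.map (algebraMap A S)
  have hK : K.FG := IsNoetherian.noetherian _
  have hJ' : J.map (algebraMap A (FSch.cAway A J f)) = K.map (algebraMap S (FSch.cAway A J f)) := by
    rw [Ideal.map_map, ← IsScalarTower.algebraMap_eq]
  have hloc : IsLocalization.Away (Ideal.Quotient.mk (J ^ (n + 1)) f)
      (S ⧸ (J ^ (n + 1)).map (algebraMap A S)) := by
    have h : IsLocalization (Algebra.algebraMapSubmonoid (A ⧸ J ^ (n + 1)) (Submonoid.powers f))
        (S ⧸ (J ^ (n + 1)).map (algebraMap A S)) := inferInstance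
    rw [Algebra.algebraMapSubmonoid, Submonoid.map_powers] at h
    exact h
  let e₁ : Localization.Away (Ideal.Quotient.mk (J ^ (n + 1)) f) ≃+* S ⧸ (J ^ (n + 1)).map (algebraMap A S) :=
    (IsLocalization.algEquiv (Submonoid.powers (Ideal.Quotient.mk (J ^ (n + 1)) f)) _ _).toRingEquiv
  let e₂ : S ⧸ (J ^ (n + 1)).map (algebraMap A S) ≃+* S ⧸ K ^ (n + 1) :=
    Ideal.quotEquivOfEq (Ideal.map_pow _ _ _)
  let e₃ := (Groth.Agent.H30.Compl.quotPowEquiv K hK (n + 1)).symm
  let e₄ : FSch.cAway A J f ⧸ (K.map (algebraMap S (FSch.cAway A J f))) ^ (n + 1) ≃+*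
      FSch.cAway A J f ⧸ (J.map (algebraMap A (FSch.cAway A J f))) ^ (n + 1) :=
    Ideal.quotEquivOfEq (by rw [hJ'])
  refine ⟨((e₁.trans e₂).trans e₃).trans e₄, fun a => ?_⟩
  have h₁ : e₁ (algebraMap (A ⧸ J ^ (n + 1)) _ (Ideal.Quotient.mk (J ^ (n + 1)) a)) =
      Ideal.Quotient.mk _ (algebraMap A S a) :=
    (IsLocalization.algEquiv (Submonoid.powers (Ideal.Quotient.mk (J ^ (n + 1)) f)) _
      (S ⧸ (J ^ (n + 1)).map (algebraMap A S))).commutes _
  have h₃ : e₃ (Ideal.Quotient.mk _ (algebraMap A S a)) =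
      Ideal.Quotient.mk _ (algebraMap S (FSch.cAway A J f) (algebraMap A S a)) :=
    (RingEquiv.symm_apply_eq _).mpr (Groth.Agent.H30.Compl.quotPowEquiv_algebraMap K hK (n + 1) _).symm
  simp only [RingEquiv.trans_apply, h₁]
  rw [show e₂ (Ideal.Quotient.mk _ (algebraMap A S a)) = Ideal.Quotient.mk _ (algebraMap A S a) from rfl, h₃]
  change Ideal.Quotient.mk _ _ = _
  rw [← IsScalarTower.algebraMap_apply]
  rfl

end Groth.Agent.S3874
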