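import Groth.Statements.S3877
import Groth.Agent.Lib.ToposFin.CohomTop
-- import your own Groth.Agent.* helpers here

set_option autoImplicit false
open CategoryTheory CategoryTheory.Limits Opposite
universe u
open ToposFin

namespace Groth.Agent.S3877

open Groth.Agent.Lib.ToposFin

/-- Let E be the topos of sheaves on a small site and assume E is coherent, i.e. an algebraic topos
whose final object is coherent. Then for every q the functor F ↦ H^q(E, F) on abelian sheaves (Ext
groups out of the constant sheaf Z) preserves colimits indexed by any small filtered category. -/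
theorem result {C : Type u} [SmallCategory C]
    {J : GrothendieckTopology C} (hE : ToposFin.IsAlgebraic J) (hT : ToposFin.IsCoherent (⊤_ (ToposFin.Sh J)))
    (Λ : Type u) [SmallCategory Λ] [IsFiltered Λ] (q : ℕ) :
    PreservesColimitsOfShape Λ (Sheaf.functorH J q : Sheaf J AddCommGrpCat.{u} ⥤ AddCommGrpCat.{u}) := by
  have h := CohomTop.colimAcyclic_of_iso (CohomTop.freeTopIso J)
    (Cohom.colimAcyclic_free hE hT Λ)
  haveI := h.preservesColimitsOfShape q
  exact preservesColimitsOfShape_of_natIso
    (F := (Abelian.extFunctor.{u} q).obj (Opposite.op ((constantSheaf J AddCommGrpCat.{u}).obj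
      (AddCommGrpCat.of (ULift.{u} ℤ)))))
    (NatIso.ofComponents (fun _ => Iso.refl _))

end Groth.Agent.S3877
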