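import Groth.Statements.S3883
import Groth.Agent.Lib.EtSite.ClosedComplement

set_option autoImplicit false
open CategoryTheory CategoryTheory.Limits AlgebraicGeometry Opposite
universe u
open EtDesc

namespace Groth.Agent.S3883

/-- Let i : Y -> X be a closed immersion and j : U -> X an open immersion whose image is the complement
of the image of i. Then the direct image functor i_* on etale sheaves of sets is fully faithful, and
a sheaf of sets F on X is isomorphic to some i_* G if and only if j^* F is a final object. -/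
theorem result {Y X U : Scheme.{u}} (i : Y ⟶ X)
    [IsClosedImmersion i] (j : U ⟶ X) [IsOpenImmersion j]
    (hU : Set.range j.base = (Set.range i.base)ᶜ) :
    (EtDesc.pushSh i).Full ∧ (EtDesc.pushSh i).Faithful ∧
    ∀ F : EtDesc.Sh X, (EtDesc.pushSh i).essImage F ↔ IsIso (terminal.from ((EtDesc.pullSh j).obj F)) := by
  obtain ⟨hf, hf'⟩ := Groth.Agent.Lib.EtSite.Immersion.fullyFaithful_pushSh_of_isClosedImmersion i
  refine ⟨hf, hf', fun F => ⟨?_, fun h => ?_⟩⟩
  · rintro ⟨G, ⟨e⟩⟩
    refine Groth.Agent.Lib.EtSite.Stalk.isIso_of_stalks _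
      (Groth.Agent.Lib.EtSite.Stalk.enoughPts_pt fun x => ?_)
    let ζ := Groth.Agent.Lib.EtSite.Basic.geomPoint U x
    obtain ⟨hT⟩ := Groth.Agent.Lib.EtSite.ClosedComplement.unique_stalk_terminal ζ
    have hη : (ζ ≫ j).base default ∉ Set.range i.base := by
      have : j.base x ∈ Set.range j.base := ⟨x, rfl⟩
      rw [hU] at this
      rw [Scheme.Hom.comp_apply, Groth.Agent.Lib.EtSite.Basic.geomPoint_apply]
      exact this
    let e' := (((Groth.Agent.Lib.EtSite.Pull.stalkPullSh j ζ).app F) ≪≫
      (Scheme.pointSmallEtale (ζ ≫ j)).sheafFiber.mapIso e.symm).toEquiv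
    obtain ⟨z⟩ := Groth.Agent.Lib.EtSite.ClosedComplement.nonempty_stalk_push i hη G
    exact ⟨fun a b _ => e'.injective
        (Groth.Agent.Lib.EtSite.Immersion.stalk_push_eq_of_disjoint i hη G _ _),
      fun b => ⟨e'.symm z, (hT.eq_default _).trans (hT.eq_default _).symm⟩⟩
  · refine (Groth.Agent.Lib.EtSite.ClosedEssImage.essImage_iff i F).2
      (Groth.Agent.Lib.EtSite.ClosedEssImage.isIso_unit i F fun x hx => ?_)
    obtain ⟨v, rfl⟩ : x ∈ Set.range j.base := by rw [hU]; exact hx
    let ζ := Groth.Agent.Lib.EtSite.Basic.geomPoint U v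
    obtain ⟨hT⟩ := Groth.Agent.Lib.EtSite.ClosedComplement.unique_stalk_terminal ζ
    let e' := ((((Groth.Agent.Lib.EtSite.Pull.stalkPullSh j ζ).app F).symm) ≪≫
      (Scheme.pointSmallEtale ζ).sheafFiber.mapIso (asIso (terminal.from _))).toEquiv
    exact ⟨_, inferInstance, inferInstance, ζ ≫ j,
      congrArg j.base (Groth.Agent.Lib.EtSite.Basic.geomPoint_apply v _),
      ⟨fun a b => e'.injective ((hT.eq_default _).trans (hT.eq_default _).symm)⟩,
      ⟨e'.symm hT.default⟩⟩

end Groth.Agent.S3883
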