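import Groth.Statements.S3894
import Mathlib.CategoryTheory.Limits.Types.Products
import Mathlib.CategoryTheory.Sites.Limits

set_option autoImplicit false
universe u
open CategoryTheory CategoryTheory.Limits Opposite
open Tors

namespace Groth.Agent.S3894

/-- A torsor P under an abelian sheaf G is trivial, i.e. equivariantly isomorphic to G acting on itself
by translations, if and only if P has a global section (a morphism from the final sheaf of sets). -/
theorem result {C : Type u} [SmallCategory C] {J : GrothendieckTopology C}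
    {G : Sheaf J AddCommGrpCat.{u}} (T : Tors.Torsor G) : T.IsTrivial ↔ T.HasSection := by
  constructor
  · rintro ⟨e, he⟩
    let p : ∀ U : Cᵒᵖ, T.P.obj.obj U := fun U => e.hom.hom.app U (0 : G.obj.obj U)
    refine ⟨⟨{ app := fun U => TypeCat.ofHom fun _ => p U, naturality := fun U V f => ?_ }⟩⟩
    ext x
    show p V = T.P.obj.map f (p U)
    refine Eq.trans ?_ (NatTrans.naturality_apply e.hom.hom f (0 : G.obj.obj U))
    exact congrArg (e.hom.hom.app V) (map_zero (G.obj.map f).hom).symm
  · rintro ⟨s⟩
    have hu : ∀ U : Cᵒᵖ, Nonempty (Unique ((⊤_ (Sheaf J (Type u))).obj.obj U)) := fun U =>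
      ⟨Types.isTerminalEquivUnique _ (IsTerminal.isTerminalObj
        (sheafToPresheaf J (Type u) ⋙ (evaluation Cᵒᵖ (Type u)).obj U) _ terminalIsTerminal)⟩
    let z : ∀ U : Cᵒᵖ, (⊤_ (Sheaf J (Type u))).obj.obj U := fun U => (hu U).some.default
    let p : ∀ U : Cᵒᵖ, T.P.obj.obj U := fun U => s.hom.app U (z U)
    have hp : ∀ {U V : Cᵒᵖ} (f : U ⟶ V), T.P.obj.map f (p U) = p V := fun {U V} f =>
      (NatTrans.naturality_apply s.hom f (z U)).symm.trans (congrArg _ ((hu V).some.uniq _))
    let η : ((sheafCompose J (forget AddCommGrpCat.{u})).obj G).obj ⟶ T.P.obj :=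
      { app := fun U => TypeCat.ofHom fun g => T.vadd g (p U)
        naturality := fun U V f => by
          ext g
          show T.vadd (G.obj.map f g) (p V) = T.P.obj.map f (T.vadd g (p U))
          exact ((T.map_vadd f g (p U)).trans (congrArg _ (hp f))).symm }
    haveI : ∀ U, IsIso (η.app U) := fun U => (isIso_iff_bijective _).2
      ⟨fun g h hgh => ExistsUnique.unique (T.free_transitive (p U) (T.vadd g (p U))) rfl hgh.symm,
        fun q => ⟨_, (T.free_transitive (p U) q).exists.choose_spec⟩⟩
    haveI : IsIso η := NatIso.isIso_of_isIso_app η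
    exact ⟨(fullyFaithfulSheafToPresheaf J (Type u)).preimageIso (asIso η), fun U g h => T.add_vadd g h (p U)⟩

end Groth.Agent.S3894
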