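import Groth.Statements.S3895
import Groth.Agent.Lib.TorsH1.Basic

set_option autoImplicit false
universe u
open CategoryTheory CategoryTheory.Limits Opposite
open Tors

namespace Groth.Agent.S3895

/-- In a map-free form (small site, abelian sheaf G): the first cohomology group H^1(G) (Ext^1 out of
the constant sheaf Z) is zero if and only if every G-torsor has a global section. The source's
statement is stronger: a canonical bijection between isomorphism classes of G-torsors and H^1(G). -/
theorem result {C : Type u} [SmallCategory C] {J : GrothendieckTopology C}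
    (G : Sheaf J AddCommGrpCat.{u}) :
    Subsingleton (Sheaf.H.{u} G 1) ↔ ∀ T : Tors.Torsor G, T.HasSection := by
  obtain ⟨S, hS, rfl, hI, hI', hseq⟩ := Groth.Agent.Lib.TorsH1.exists_seq G
  constructor
  · intro hH T
    refine Groth.Agent.Lib.TorsH1.hasSection_of_lift hseq (fun s => ?_) T
    obtain ⟨x₂, hx₂⟩ := Abelian.Ext.covariant_sequence_exact₃ _ hS
      (Abelian.Ext.mk₀ (Groth.Agent.Lib.TorsH1.homOfFam s)) (zero_add 1) (hH.elim _ _)
    obtain ⟨a, rfl⟩ := (Abelian.Ext.mk₀_bijective _ _).2 x₂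
    rw [Abelian.Ext.mk₀_comp_mk₀] at hx₂
    have ha := (Abelian.Ext.mk₀_bijective _ _).1 hx₂
    refine ⟨Groth.Agent.Lib.TorsH1.famOfHom a, fun U => ?_⟩
    rw [← Groth.Agent.Lib.TorsH1.famOfHom_comp, ha, Groth.Agent.Lib.TorsH1.famOfHom_homOfFam]
  · intro hT
    refine subsingleton_of_forall_eq 0 fun x => ?_
    obtain ⟨x₃, rfl⟩ := Abelian.Ext.covariant_sequence_exact₁ _ hS x
      (Abelian.Ext.eq_zero_of_injective _) (zero_add 1)
    obtain ⟨q, rfl⟩ := (Abelian.Ext.mk₀_bijective _ _).2 x₃
    obtain ⟨t, ht⟩ := Groth.Agent.Lib.TorsH1.exists_lift_of_hasSection hseq hT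
      (Groth.Agent.Lib.TorsH1.famOfHom q)
    have hq : Groth.Agent.Lib.TorsH1.homOfFam t ≫ S.g = q := by
      apply Groth.Agent.Lib.TorsH1.famOfHom_injective
      refine Subtype.ext (funext fun U => ?_)
      rw [Groth.Agent.Lib.TorsH1.famOfHom_comp, Groth.Agent.Lib.TorsH1.famOfHom_homOfFam, ht]
    rw [← hq, ← Abelian.Ext.mk₀_comp_mk₀, Abelian.Ext.comp_assoc_of_second_deg_zero,
      hS.comp_extClass, Abelian.Ext.comp_zero]

end Groth.Agent.S3895
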