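import Groth.Statements.S5510
import Groth.Agent.Lib.CentW.Reductive

set_option autoImplicit false
open CategoryTheory MonoidalCategory CartesianMonoidalCategory MonObj GrpObj AlgebraicGeometry
universe u
open RedSub

namespace Groth.Agent.S5510

/-- Let G be a reductive S-group. Then the centre of G is representable by a closed subgroup scheme Z of
G which is of multiplicative type (here: of multiplicative type and of finite type, i.e.
fpqc-locally on the base Zariski-locally isomorphic to some D(M) with M finitely generated, which is
what the split case gives). -/
theorem result {S : Scheme.{u}} (G : Over S) [GrpObj G] (hG : Red.IsReductive G) :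
    ∃ (Z : Over S) (_ : GrpObj Z) (j : Z ⟶ G), Red.IsCentre j ∧ IsClosedImmersion j.left ∧ SGA3x.IsMultTypeFT Z := by
  exact Groth.Agent.Lib.CentW.exists_centre_closed hG

end Groth.Agent.S5510
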