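import Groth.Statements.S3954
import Groth.Agent.H82.Bruhat.Range
-- import your own Groth.Agent.* helpers here

set_option autoImplicit false
open CategoryTheory MonoidalCategory CartesianMonoidalCategory MonObj GrpObj AlgebraicGeometry
universe u
open RedSub
open Groth.Agent.H82 Groth.Agent.H82.Bruhat Groth.Agent.H82.Contract

namespace Groth.Agent.S3954

/-- Let G be a split reductive S-group (splitting D), b a system of simple roots with enumerations e⁻,
e⁺ of the negative and positive roots, and n a family of S-points of G normalising the torus and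
realising the reflections s_a of all roots a. Then G is covered by the translates n_w Ω of the big
cell Ω (image of the big cell map) by the products n_w = n_{a_1} ⋯ n_{a_k} of these points: every
point of the underlying space of G lies in the image of the left translate by some such product of
the big cell map. -/
theorem result {S : Scheme.{u}} {G : Over S} [GrpObj G] (D : Red.SplitRed G)
    (b : D.P.Base) {n m : ℕ} (eneg : Fin n → D.idx) (epos : Fin m → D.idx)
    (hneg : RedSub.Enumerates (RedSub.negRoots D.P b) eneg) (hpos : RedSub.Enumerates (RedSub.posRoots D.P b) epos)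
    (nr : D.idx → (𝟙_ (Over S) ⟶ G)) (hnr : RedSub.RealisesReflections D nr) (x : ↥G.left) :
    ∃ w : List D.idx,
      x ∈ Set.range ((toUnit _ ≫ (w.map nr).prod) * RedSub.cellMap D eneg epos).left.base := by
  classical
  haveI : D.P.IsCrystallographic := ⟨fun i j => ⟨D.P.pairing i j, by simp⟩⟩
  haveI : IsAddTorsionFree D.M := .of_isTorsionFree ℤ D.M
  haveI : IsAddTorsionFree (Module.Dual ℤ D.M) := .of_isTorsionFree ℤ _
  haveI : D.P.IsReduced := Weyl.isReduced_of_base b
  obtain ⟨l, hA⟩ := exists_adapted b
  obtain ⟨Y, g, L, hY, hg, hL⟩ := exists_inCell hA hnr x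
  obtain ⟨k, e, he⟩ := Borel.exists_enum (D := D) (RedSub.negMeetNeg D.P b (RedSub.wordPerm D.P L))
  obtain ⟨y, v, hv, hy, rfl⟩ := exists_normal_form hA hnr e he hL
  obtain ⟨t, w, rfl⟩ := exists_bor_form hA epos hpos hv
  rw [negRoots_eq hA] at hneg
  rw [posRoots_eq hA] at hpos
  have hw : w ≫ RedSub.prodMap (Red.Ga S) m (fun j => D.u (epos j)) ∈ unip (D := D) l Y :=
    isLimPt_pos (fun j => Set.ext_iff.1 hpos.2 _ |>.1 (Set.mem_range_self j)) w
  obtain ⟨z, hz⟩ := exists_cell_of_form hA.ne hneg hpos t hy hw
  obtain ⟨o⟩ := nonempty_acPt hY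
  refine ⟨L, z.left o, ?_⟩
  rw [← hg o, ← Scheme.Hom.comp_apply, ← Over.comp_left, MonObj.comp_mul, hz, ← Category.assoc,
    toUnit_unique (z ≫ toUnit _) (toUnit Y)]
  exact congrArg (fun h : Y ⟶ G => h.left o) (by rw [rp]; group)

end Groth.Agent.S3954
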