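import Groth.Statements.S3955
import Groth.Agent.H82.Bruhat.Range
-- import your own Groth.Agent.* helpers here

set_option autoImplicit false
open CategoryTheory MonoidalCategory CartesianMonoidalCategory MonObj GrpObj AlgebraicGeometry
universe u
open RedSub
open Groth.Agent.H82 Groth.Agent.H82.Bruhat

namespace Groth.Agent.S3955

/-- Let G be a split reductive S-group (splitting D), b a system of simple roots with enumeration e⁺ of
the positive roots, and n a family of S-points of G realising the reflections. For a word l in the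
roots let w_l be the corresponding Weyl group element, n_l the product of the n's along l, and C_l
the image of the Bruhat cell map (y, t, x) ↦ ∏_{a ∈ R_- ∩ w_l(R_-)} u_a(y_a) · n_l · t · ∏_{a ∈ R_+}
u_a(x_a). Then the C_l, for w_l ranging over the Weyl group, partition the underlying space of G:
every point lies in some C_l, and if a point lies in C_l and C_{l'} then w_l = w_{l'}. -/
theorem result {S : Scheme.{u}} {G : Over S} [GrpObj G] (D : Red.SplitRed G) (b : D.P.Base)
    {m : ℕ} (epos : Fin m → D.idx) (hpos : RedSub.Enumerates (RedSub.posRoots D.P b) epos)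
    (nr : D.idx → (𝟙_ (Over S) ⟶ G)) (hnr : RedSub.RealisesReflections D nr) :
    (∀ x : ↥G.left, ∃ (l : List D.idx) (k : ℕ) (e : Fin k → D.idx),
      RedSub.Enumerates (RedSub.negMeetNeg D.P b (RedSub.wordPerm D.P l)) e ∧
        x ∈ Set.range (RedSub.bruhatMap D nr l e epos).left.base) ∧
    ∀ (l l' : List D.idx) (k k' : ℕ) (e : Fin k → D.idx) (e' : Fin k' → D.idx) (x : ↥G.left),
      RedSub.Enumerates (RedSub.negMeetNeg D.P b (RedSub.wordPerm D.P l)) e →
      RedSub.Enumerates (RedSub.negMeetNeg D.P b (RedSub.wordPerm D.P l')) e' →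
      x ∈ Set.range (RedSub.bruhatMap D nr l e epos).left.base →
      x ∈ Set.range (RedSub.bruhatMap D nr l' e' epos).left.base →
      RedSub.wordPerm D.P l = RedSub.wordPerm D.P l' := by
  classical
  haveI : D.P.IsCrystallographic := ⟨fun i j => ⟨D.P.pairing i j, by simp⟩⟩
  haveI : IsAddTorsionFree D.M := .of_isTorsionFree ℤ D.M
  haveI : IsAddTorsionFree (Module.Dual ℤ D.M) := .of_isTorsionFree ℤ _
  haveI : D.P.IsReduced := Weyl.isReduced_of_base b
  obtain ⟨l, hA⟩ := exists_adapted b
  refine ⟨fun x => ?_, fun L L' k k' e e' x he he' hx hx' => ?_⟩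
  · obtain ⟨Y, g, L, hY, hg, hL⟩ := exists_inCell hA hnr x
    obtain ⟨k, e, he⟩ := Borel.exists_enum (D := D) (RedSub.negMeetNeg D.P b (RedSub.wordPerm D.P L))
    obtain ⟨y, v, hv, -, rfl⟩ := exists_normal_form hA hnr e he hL
    obtain ⟨t, w, rfl⟩ := exists_bor_form hA epos hpos hv
    obtain ⟨o⟩ := nonempty_acPt hY
    refine ⟨L, k, e, he, (lift y (lift t w)).left o, ?_⟩
    rw [← hg o, ← Scheme.Hom.comp_apply, ← Over.comp_left, comp_bruhatMap]
    simp only [lift_fst, lift_snd_assoc, lift_snd, _root_.mul_assoc]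
  · obtain ⟨p, hp⟩ := hx
    obtain ⟨p', hp'⟩ := hx'
    obtain ⟨q, hq, hq'⟩ := Scheme.Pullback.exists_preimage_pullback (f := (RedSub.bruhatMap D nr L e epos).left)
      (g := (RedSub.bruhatMap D nr L' e' epos).left) p p' (hp.trans hp'.symm)
    let f := (RedSub.bruhatMap D nr L e epos).left
    let f' := (RedSub.bruhatMap D nr L' e' epos).left
    let W : Over S := Over.mk (Limits.pullback.fst f f' ≫
      (RedSub.pow (Red.Ga S) k ⊗ (D.T ⊗ RedSub.pow (Red.Ga S) m)).hom)
    let π : W ⟶ RedSub.pow (Red.Ga S) k ⊗ (D.T ⊗ RedSub.pow (Red.Ga S) m) :=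
      Over.homMk (Limits.pullback.fst f f') rfl
    let π' : W ⟶ RedSub.pow (Red.Ga S) k' ⊗ (D.T ⊗ RedSub.pow (Red.Ga S) m) :=
      Over.homMk (Limits.pullback.snd f f') (by
        change Limits.pullback.snd f f' ≫ _ = Limits.pullback.fst f f' ≫ _
        rw [← Over.w (RedSub.bruhatMap D nr L e epos), ← Over.w (RedSub.bruhatMap D nr L' e' epos),
          ← Category.assoc, ← Category.assoc, ← Limits.pullback.condition])
    have hπ : π ≫ RedSub.bruhatMap D nr L e epos = π' ≫ RedSub.bruhatMap D nr L' e' epos :=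
      Over.OverMorphism.ext Limits.pullback.condition
    obtain ⟨Y, r, hY, -⟩ := exists_acPt W q
    haveI := hY.aff
    haveI := hY.isField.nontrivial
    refine wordPerm_eq hA hnr (inCell_of_comp hA e he epos hpos (r ≫ π)) ?_
    rw [Category.assoc, hπ, ← Category.assoc]
    exact inCell_of_comp hA e' he' epos hpos (r ≫ π')

end Groth.Agent.S3955
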