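import Groth.Statements.S3957
import Groth.Agent.H82.R2.GenLocal

set_option autoImplicit false
open CategoryTheory MonoidalCategory CartesianMonoidalCategory MonObj GrpObj AlgebraicGeometry
universe u
open RedSub
open Groth.Agent.Lib.RedPts Groth.Agent.H82.R2
open Groth.Agent.H82.RankOne (P P_eq P_add P_zero P_neg P_comp Sys)
open Groth.Agent.H82.Contract (cochar chr)

namespace Groth.Agent.S3957

variable {S : Scheme.{u}} {G : Over S} [GrpObj G] (D : Red.SplitRed G)

/-- Evaluation of a character at points of the split torus, as units. -/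
noncomputable def ev (m : D.M) (X : Over S) : (X ⟶ D.T) →* Γ(X.left, ⊤)ˣ :=
  haveI := Groth.Agent.H82.R2.Cent.isMonHom_chr (D := D) m
  MonoidHom.mk' (fun t => (Gm.isUnit_gmFn (t ≫ chr D m)).unit) fun a c => Units.ext (by
    simp [MonObj.mul_comp, Gm.gmFn_mul])

theorem torus_ext {X : Over S} {t t' : X ⟶ D.T} (h : ∀ m, ev D m X t = ev D m X t') : t = t' := by
  refine Groth.Agent.H82.Weyl.ext_dsFn (D := D) fun m => ?_
  have := congrArg Units.val (h m)
  simp only [ev, MonoidHom.mk'_apply, IsUnit.unit_spec, chr, ← Category.assoc, Gm.gmFn_chi] at this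
  exact this

theorem ev_cochar (l : D.M →+ ℤ) (m : D.M) {X : Over S} (z : Γ(X.left, ⊤)ˣ) :
    ev D m X (Gm.gmPt z ≫ cochar D l) = z ^ l m := Units.ext (by
  simp only [ev, MonoidHom.mk'_apply, IsUnit.unit_spec, Groth.Agent.H82.Contract.gmFn_cochar])

theorem ev_add (m n : D.M) {X : Over S} (t : X ⟶ D.T) : ev D (m + n) X t = ev D m X t * ev D n X t := Units.ext (by
  simp only [ev, MonoidHom.mk'_apply, IsUnit.unit_spec, Units.val_mul]
  rw [chr, chr, chr, ← Category.assoc, ← Category.assoc, ← Category.assoc, Gm.chi_add, Gm.gmFn_mul])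

/-- A point of the split torus is the product of its coordinates along a basis of the lattice. -/
theorem eq_prod {N : ℕ} (B : Module.Basis (Fin N) ℤ D.M) {X : Over S} (t : X ⟶ D.T) :
    t = (List.ofFn fun k => Gm.gmPt (ev D (B k) X t) ≫ cochar D (B.coord k).toAddMonoidHom).prod := by
  classical
  refine torus_ext D fun m => ?_
  rw [map_list_prod, List.map_ofFn, List.prod_ofFn]
  let φ : D.M →+ Additive Γ(X.left, ⊤)ˣ := AddMonoidHom.mk' (fun m => Additive.ofMul (ev D m X t)) fun a c => by
    rw [ev_add]; rfl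
  have h : φ m = ∑ k, B.repr m k • φ (B k) := by
    conv_lhs => rw [← B.sum_repr m]
    simp only [map_sum, map_zsmul]
  have h' := congrArg Additive.toMul h
  rw [toMul_sum] at h'
  refine h'.trans (Finset.prod_congr rfl fun k _ => ?_)
  rw [Function.comp_apply, ev_cochar, toMul_zsmul]
  rfl

/-- Let A be a local ring, S = Spec A, and G a split reductive S-group with a pinning D which is simply
connected (the coroots span the coweight lattice). Then G(S) is generated by the sections of the
root groups u_a(G_a(S)) for a a simple root or the negative of a simple root. -/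
theorem result {A : Type u} [CommRing A] [IsLocalRing A]
    {G : Over (Spec (CommRingCat.of A))} [GrpObj G] (D : Red.Pinning G)
    (hsc : Submodule.span ℤ (Set.range D.P.coroot) = ⊤) :
    Subgroup.closure
        {g : 𝟙_ (Over (Spec (CommRingCat.of A))) ⟶ G | ∃ a : D.idx, (a ∈ D.base.support ∨ D.P.reflectionPerm a a ∈ D.base.support) ∧
            ∃ x : 𝟙_ _ ⟶ Red.Ga (Spec (CommRingCat.of A)), g = x ≫ D.u a} = ⊤ := by
  classical
  set H : Subgroup (𝟙_ (Over (Spec (CommRingCat.of A))) ⟶ G) := Subgroup.closure _ with hH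
  have hs : ∀ a ∈ D.base.support, ∀ x : Γ((𝟙_ (Over (Spec (CommRingCat.of A)))).left, ⊤),
      P (D.u a) x ∈ H ∧ P (D.u (D.P.reflectionPerm a a)) x ∈ H := fun a ha x =>
    ⟨Subgroup.subset_closure ⟨a, Or.inl ha, Ga.gaPt x, rfl⟩,
      Subgroup.subset_closure ⟨_, Or.inr (by rw [neg_neg_root]; exact ha), Ga.gaPt x, rfl⟩⟩
  have hroot := root_mem_of_simple (D := D.toSplitRed) D.base H hs
  refine eq_top_of_local (D := D.toSplitRed) D.base H (fun t => ?_) hs
  haveI : IsMonHom (show D.T ⟶ Red.DS _ D.M from D.split.hom.hom.hom) := D.split.hom.hom.isMonHom_hom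
  -- the cocharacters are generated by the coroots
  have hco : ∀ (l : Module.Dual ℤ D.M) (z : Γ((𝟙_ (Over (Spec (CommRingCat.of A)))).left, ⊤)ˣ),
      Sys.H D.i (cochar D.toSplitRed l.toAddMonoidHom) z ∈ H := by
    intro l
    have hl : l ∈ Submodule.span ℤ (Set.range D.P.coroot) := hsc ▸ Submodule.mem_top
    induction hl using Submodule.span_induction with
    | mem l hl =>
      obtain ⟨a, rfl⟩ := hl
      intro z
      obtain ⟨m, hm, hd⟩ := exists_dualC (D := D.toSplitRed) D.base a
      haveI := isMonHom_scl (S := Spec (CommRingCat.of A)) m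
      haveI := Groth.Agent.H82.R2.Cent.isMonHom_chr (D := D.toSplitRed) (D.P.root a)
      haveI : IsMonHom (D.u a) := (D.rootHom a).1
      haveI : IsMonHom (D.u (D.P.reflectionPerm a a)) := (D.rootHom _).1
      rw [(sys_of_dualC hd).coroot_eq, P_scl, P_scl]
      exact mul_mem (mul_mem (mul_mem (hroot _ _) (hroot _ _)) (hroot _ _)) (hroot _ _)
    | zero =>
      intro z
      have h := cochar_add (D := D.toSplitRed) (0 : Module.Dual ℤ D.M).toAddMonoidHom (0 : Module.Dual ℤ D.M).toAddMonoidHom z
      rw [show (0 : Module.Dual ℤ D.M).toAddMonoidHom + (0 : Module.Dual ℤ D.M).toAddMonoidHom =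
        (0 : Module.Dual ℤ D.M).toAddMonoidHom by ext; simp] at h
      rw [left_eq_mul.1 h]
      exact one_mem _
    | add l l' _ _ ih ih' =>
      intro z
      rw [show (l + l').toAddMonoidHom = l.toAddMonoidHom + l'.toAddMonoidHom from rfl, cochar_add]
      exact mul_mem (ih z) (ih' z)
    | smul k l _ ih =>
      intro z
      have hk : ∀ k : ℤ, Sys.H D.i (cochar D.toSplitRed (k • l).toAddMonoidHom) z =
          Sys.H D.i (cochar D.toSplitRed l.toAddMonoidHom) (z ^ k) := fun k => by
        simp only [Sys.H, ← Category.assoc]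
        refine congrArg (· ≫ D.i) (torus_ext D.toSplitRed fun j => ?_)
        rw [ev_cochar, ev_cochar, ← zpow_mul]
        rfl
      rw [hk]
      exact ih _
  -- every section of the torus is a product of values of cocharacters
  rw [eq_prod D.toSplitRed (Module.finBasis ℤ D.M) t]
  generalize hE : List.ofFn _ = E
  suffices h : ∀ c ∈ E, c ≫ D.i ∈ H by
    clear hE
    induction E with
    | nil => rw [List.prod_nil, MonObj.one_comp]; exact one_mem _
    | cons c E ih =>
      rw [List.prod_cons, MonObj.mul_comp]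
      exact mul_mem (h c List.mem_cons_self) (ih fun d hd => h d (List.mem_cons_of_mem _ hd))
  intro c hc
  rw [← hE, List.mem_ofFn] at hc
  obtain ⟨k, rfl⟩ := hc
  rw [Category.assoc]
  exact hco _ _

end Groth.Agent.S3957
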