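import Groth.Statements.S3962
import Groth.Agent.S8425


set_option autoImplicit false
open CategoryTheory MonoidalCategory CartesianMonoidalCategory MonObj GrpObj AlgebraicGeometry
set_option maxHeartbeats 1000000
set_option linter.all false
universe u
open RedSub

namespace Groth.Agent.S3962

/-- Let G be a reductive S-group and B ⟶ G a Borel subgroup in the following sense: a sub-group-scheme
of type (R) whose geometric fibres are Borel subgroups (closedness is not assumed). Then B is closed
in G and B is its own normaliser: a point of G normalises B (after every base change) if and only if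
it lies in B. -/
theorem result {S : Scheme.{u}} {G B : Over S} [GrpObj G] [GrpObj B]
    (hG : Red.IsReductive G) (i : B ⟶ G) (hB : RedSub.IsBorelSub i) :
    IsClosedImmersion i.left ∧ Red.IsNormalizerOf i i := by
  haveI : IsAffineHom G.hom := hG.1
  haveI : Smooth G.hom := hG.2.1
  obtain ⟨⟨⟨hm, hi'⟩, hs, hq, -, -⟩, hgeom⟩ := hB
  have hconn : ∀ s : S, _root_.IsConnected (G.hom.base ⁻¹' {s}) := by
    intro s
    haveI : ConnectedSpace ↥(Limits.pullback G.hom (Red.geomPt s)) := (hG.2.2 s).2.2.1
    have h1 : Set.range (Limits.pullback.fst G.hom (Red.geomPt s)) = G.hom ⁻¹' {s} := by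
      rw [Scheme.Pullback.range_fst]
      congr 1
      refine Set.eq_singleton_iff_unique_mem.2 ⟨⟨IsLocalRing.closedPoint _, ?_⟩, ?_⟩
      · exact Scheme.fromSpecResidueField_apply s _
      · rintro _ ⟨z, rfl⟩
        exact Scheme.fromSpecResidueField_apply s _
    rw [← h1]
    exact isConnected_range (Scheme.Hom.continuous _)
  exact (Groth.Agent.S8425.result S G hconn B i ⟨hm, hi', hs, hq, hgeom⟩).symm

end Groth.Agent.S3962
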