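import Groth.Statements.S3975
import Groth.Agent.Lib.CentW.ParTransp
import Groth.Agent.Lib.Gerbe.RedSub

set_option autoImplicit false
open CategoryTheory MonoidalCategory CartesianMonoidalCategory MonObj GrpObj AlgebraicGeometry
universe u
open RedSub

namespace Groth.Agent.S3975

open CategoryTheory.Limits
open Groth.Agent.Lib Groth.Agent.Lib.RedPts

set_option linter.style.haveILetI false

/-- One inclusion, given that the conjugators exist locally. -/
theorem exists_le {S : Scheme.{u}} {G P P' B : Over S} [GrpObj G] [GrpObj P] [GrpObj P'] [GrpObj B]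
    (hG : Red.IsReductive G) (p : P ⟶ G) (p' : P' ⟶ G) (hP' : Red.IsParabolic p') (b : B ⟶ G) (hB : Red.IsBorel b)
    (c : B ⟶ P) (hc : c ≫ p = b) (c' : B ⟶ P') (hc' : c' ≫ p' = b)
    (hconj : ∀ s : S, ∃ (U : Scheme.{u}) (f : U ⟶ S) (_ : Etale f), s ∈ Set.range f.base ∧
      ∃ g : 𝟙_ _ ⟶ Red.bc f G, RedSub.ConjEq ((Over.pullback f).map p) ((Over.pullback f).map p') g) :
    ∃ e : P ⟶ P', e ≫ p' = p := by
  choose U f hf hs g hg using hconj
  haveI := hf
  haveI := hP'.1
  haveI := hP'.2.1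
  have hBp : Red.IsParabolic (c' ≫ p') := by
    rw [hc']
    exact ⟨hB.1, hB.2.1, hB.2.2.1, fun s => ⟨(hB.2.2.2 s).1, (hB.2.2.2 s).2.1, (hB.2.2.2 s).2.2.1,
      _, inferInstance, 𝟙 _, by rw [Category.id_comp]; exact hB.2.2.2 s⟩⟩
  obtain ⟨l, hl⟩ := Gerbe.RedSub.exists_factor_of_family p'.left p.left (fun s => pullback P.hom (f s))
    (fun s => pullback.fst P.hom (f s)) (fun w => by
      obtain ⟨y, hy⟩ := hs (P.hom w)
      obtain ⟨x, hx, -⟩ := Scheme.Pullback.exists_preimage_pullback (f := P.hom) (g := f (P.hom w)) w y hy.symm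
      exact ⟨P.hom w, x, hx⟩)
    (fun s => inferInstance) (fun s => inferInstance) fun s => by
      let X : Over S := Over.mk (pullback.fst P.hom (f s) ≫ P.hom)
      let Y₀ : Over (U s) := Over.mk (pullback.snd P.hom (f s))
      let x₀ : X ⟶ P := Over.homMk (pullback.fst P.hom (f s)) rfl
      let θ : X ⟶ (Over.map (f s)).obj Y₀ := Over.homMk (𝟙 _) (by
        show 𝟙 _ ≫ pullback.snd P.hom (f s) ≫ f s = pullback.fst P.hom (f s) ≫ P.hom
        rw [Category.id_comp, pullback.condition])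
      let gX : X ⟶ G := θ ≫ BC.down (f s) (toUnit Y₀ ≫ g s)
      have key : ∀ (X' : Over S) (x : X' ⟶ X) (h : X' ⟶ P),
          ∃ h' : X' ⟶ P', (x ≫ gX) * (h ≫ p) * (x ≫ gX)⁻¹ = h' ≫ p' := fun X' x h => by
        let Y : Over (U s) := Over.mk (x.left ≫ pullback.snd P.hom (f s))
        let ε : (Over.map (f s)).obj Y ≅ X' := Over.isoMk (Iso.refl _) (by
          show 𝟙 _ ≫ X'.hom = (x.left ≫ pullback.snd P.hom (f s)) ≫ f s
          rw [Category.id_comp, Category.assoc, ← pullback.condition, ← Over.w x]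
          rfl)
        let y : Y ⟶ Y₀ := Over.homMk x.left rfl
        obtain ⟨h', hh'⟩ := (hg s Y (toUnit Y)).1 (BC.up (f s) (ε.hom ≫ h))
        refine ⟨ε.inv ≫ BC.down (f s) h', ?_⟩
        have hx : ε.hom ≫ x ≫ gX = BC.down (f s) (toUnit Y ≫ g s) := by
          have h1 : ε.hom ≫ x ≫ θ = (Over.map (f s)).map y := Over.OverMorphism.ext (by simp [ε, θ, y])
          simp only [gX]
          rw [reassoc_of% h1, ← BC.down_comp, ← Category.assoc y, toUnit_unique (y ≫ toUnit Y₀) (toUnit Y)]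
        have h2 := congrArg (BC.down (f s)) hh'
        rw [BC.down_mul, BC.down_mul, BC.down_inv, BC.down_map, BC.down_map, BC.down_up] at h2
        rw [← cancel_epi ε.hom]
        simp only [MonObj.comp_mul, GrpObj.comp_inv, hx, Iso.hom_inv_id_assoc, Category.assoc]
        simpa only [Category.assoc] using h2
      obtain ⟨z, hz⟩ := CentW.factor_of_fwdFrom_parabolic hG p' hP' c' hBp gX fun X' x h => by
        obtain ⟨h', hh'⟩ := key X' x (h ≫ c)
        exact ⟨h', by simpa only [Category.assoc, hc, hc'] using hh'⟩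
      obtain ⟨h', hh'⟩ := key X (𝟙 X) x₀
      refine ⟨(z⁻¹ * h' * z).left, ?_⟩
      have h3 : (z⁻¹ * h' * z) ≫ p' = x₀ ≫ p := by
        rw [MonObj.mul_comp, MonObj.mul_comp, GrpObj.inv_comp, hz, ← hh', Category.id_comp]
        group
      exact congrArg (fun φ : X ⟶ G => φ.left) h3
  exact ⟨Over.homMk l (by rw [← Over.w p', reassoc_of% hl, Over.w p]), Over.OverMorphism.ext hl⟩

/-- Let G be a reductive S-group, P and P' two parabolic subgroups of G and B a Borel subgroup of G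
contained in both. If P and P' are conjugate in G locally for the etale topology, then P = P' as
subgroups of G. -/
theorem result {S : Scheme.{u}} {G P P' B : Over S} [GrpObj G]
    [GrpObj P] [GrpObj P'] [GrpObj B] (hG : Red.IsReductive G) (p : P ⟶ G) (p' : P' ⟶ G) (hP : Red.IsParabolic p)
    (hP' : Red.IsParabolic p') (b : B ⟶ G) (hB : Red.IsBorel b) (hb : ∃ c : B ⟶ P, c ≫ p = b)
    (hb' : ∃ c' : B ⟶ P', c' ≫ p' = b)
    (hconj : ∀ s : S, ∃ (U : Scheme.{u}) (f : U ⟶ S) (_ : Etale f), s ∈ Set.range f.base ∧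
      ∃ g : 𝟙_ _ ⟶ Red.bc f G, RedSub.ConjEq ((Over.pullback f).map p) ((Over.pullback f).map p') g) :
    ∃ e : P ≅ P', e.hom ≫ p' = p := by
  obtain ⟨c, hc⟩ := hb
  obtain ⟨c', hc'⟩ := hb'
  obtain ⟨e, he⟩ := exists_le hG p p' hP' b hB c hc c' hc' hconj
  obtain ⟨e', he'⟩ := exists_le hG p' p hP b hB c' hc' c hc fun s => by
    obtain ⟨U, f, hf, hs, g, hg⟩ := hconj s
    refine ⟨U, f, hf, hs, g⁻¹, fun X' x => ⟨fun h => ?_, fun h => ?_⟩⟩
    · obtain ⟨w, hw⟩ := (hg X' x).2 h
      exact ⟨w, by rw [GrpObj.comp_inv, _root_.inv_inv]; exact hw⟩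
    · obtain ⟨w, hw⟩ := (hg X' x).1 h
      exact ⟨w, by rw [GrpObj.comp_inv, _root_.inv_inv]; exact hw⟩
  haveI := hP.2.1
  haveI := hP'.2.1
  haveI : Mono p := Over.mono_of_mono_left p
  haveI : Mono p' := Over.mono_of_mono_left p'
  exact ⟨⟨e, e', (cancel_mono p).1 (by rw [Category.assoc, he', he, Category.id_comp]),
    (cancel_mono p').1 (by rw [Category.assoc, he, he', Category.id_comp])⟩, he⟩

end Groth.Agent.S3975
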