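import Groth.Statements.S3988
import Groth.Agent.H82.BorelStd.Fibre
import Groth.Agent.H82.BorelStd.Fibrewise
import Groth.Agent.H82.Contract.Open
import Groth.Agent.H82.Roots.Base
import Groth.Agent.Lib.H1.AlmostSimple.Roots

set_option autoImplicit false
open CategoryTheory MonoidalCategory CartesianMonoidalCategory MonObj GrpObj AlgebraicGeometry
universe u
open RedSub
open Groth.Agent.Lib.RedPts Groth.Agent.H82 Groth.Agent.H82.BigCell Groth.Agent.H82.Contract
open Groth.Agent.H82.RankOne (P P_eq P_zero P_comp)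

namespace Groth.Agent.S3988

set_option maxHeartbeats 4000000 in
/-- Let G be a split reductive S-group (splitting D) and B a Borel subgroup of G containing the torus T
of the splitting. Then locally on S, B is the Borel subgroup of a system of positive roots: every
point of S has an open neighbourhood V and a system of simple roots b such that, over V, the root
homomorphism u_a factors through B exactly when a is positive for b. -/
theorem result {S : Scheme.{u}} {G B : Over S} [GrpObj G] [GrpObj B]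
    (D : Red.SplitRed G) (i : B ⟶ G) (hB : Red.IsBorel i) (t : D.T ⟶ B) (ht : t ≫ i = D.i) (s : S) :
    ∃ (V : S.Opens), s ∈ V ∧ ∃ b : D.P.Base, ∀ a : D.idx,
      (∃ v : Red.bc V.ι (Red.Ga S) ⟶ Red.bc V.ι B, v ≫ (Over.pullback V.ι).map i = (Over.pullback V.ι).map (D.u a)) ↔
        a ∈ RedSub.posRoots D.P b := by
  classical
  haveI := hB.1
  haveI := hB.2.1
  haveI : Smooth B.hom := hB.2.2.1
  haveI := D.maximalTorus.1
  haveI := D.reductive.2.1
  haveI := isAffineHom D
  haveI : Nonempty S := ⟨s⟩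
  haveI := Groth.Agent.H82.Reduced.isReduced D
  haveI : D.P.IsCrystallographic := Groth.Agent.H82.R2.crys D
  choose ls hls hlsB using fun x : S => BorelStd.exists_functional hB t ht x
  set l := ls s with hldef
  have hl : ∀ a, l (D.P.root a) ≠ 0 := hls s
  let σ : D.idx → (S ⟶ G.left) := fun a => (P (D.u a) (1 : Γ((𝟙_ (Over S)).left, ⊤))).left
  have hσ : ∀ (x : S) (a : D.idx), σ a x ∈ Set.range i.left ↔ 0 < ls x (D.P.root a) := fun x a =>
    BorelStd.mem_iff hB (hls x) (hlsB x) a
  let V : S.Opens := ⟨⋂ a : {a : D.idx // l (D.P.root a) < 0}, (σ a ⁻¹' Set.range i.left)ᶜ,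
    isOpen_iInter_of_finite fun a => ((i.left.isClosedEmbedding.isClosed_range).preimage (σ a).continuous).isOpen_compl⟩
  have hsV : s ∈ V := Set.mem_iInter.2 fun a hx => by
    have := (hσ s a).1 hx
    exact absurd a.2 (not_lt.2 this.le)
  have hneg : ∀ a : D.idx, D.P.root (D.P.reflectionPerm a a) = -D.P.root a := fun a => by
    rw [D.P.root_reflectionPerm, D.P.reflection_apply_self]
  have hsign : ∀ x ∈ V, ∀ a : D.idx, 0 < ls x (D.P.root a) ↔ 0 < l (D.P.root a) := by
    intro x hx a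
    have h1 : ∀ a : D.idx, 0 < ls x (D.P.root a) → 0 < l (D.P.root a) := fun a ha => by
      rcases lt_or_gt_of_ne (hl a) with h | h
      · exact absurd ((hσ x a).2 ha) (Set.mem_iInter.1 hx ⟨a, h⟩)
      · exact h
    refine ⟨h1 a, fun ha => ?_⟩
    rcases lt_or_gt_of_ne (hls x a) with h | h
    · have := h1 (D.P.reflectionPerm a a) (by rw [hneg, map_neg]; omega)
      rw [hneg, map_neg] at this
      omega
    · exact h
  -- the base
  obtain ⟨b, hb⟩ := Roots.exists_base_of_pointed (P := D.P) (R' := {a | 0 < l (D.P.root a)}) (by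
    intro L hL hsum
    rcases L with _ | ⟨a, L⟩
    · rfl
    exfalso
    have h0 : ∀ L : List D.idx, (∀ a ∈ L, 0 < l (D.P.root a)) → 0 ≤ l (L.map D.P.root).sum := by
      intro L
      induction L with
      | nil => simp
      | cons c L ih =>
        intro h
        rw [List.map_cons, List.sum_cons, map_add]
        have := h c (List.mem_cons_self ..)
        have := ih fun d hd => h d (List.mem_cons_of_mem _ hd)
        omega
    have h2 := h0 L fun d hd => hL d (List.mem_cons_of_mem _ hd)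
    have h3 : 0 < l (D.P.root a) := hL a (List.mem_cons_self ..)
    have := congrArg l hsum
    rw [List.map_cons, List.sum_cons, map_add, map_zero] at this
    omega)
  have hpos : ∀ a, a ∈ RedSub.posRoots D.P b ↔ 0 < l (D.P.root a) := by
    intro a
    obtain ⟨l₂, hlp, -⟩ := exists_regular (D := D) b
    refine ⟨fun ha => ?_, fun ha => hb ha⟩
    rcases lt_or_gt_of_ne (hl a) with h | h
    · have hp : D.P.reflectionPerm a a ∈ RedSub.posRoots D.P b :=
        hb (show 0 < l (D.P.root (D.P.reflectionPerm a a)) by rw [hneg, map_neg]; omega)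
      have h1 := hlp a ha
      have h2 := hlp _ hp
      rw [hneg, map_neg] at h2
      omega
    · exact h
  refine ⟨V, hsV, b, fun a => Iff.trans ⟨?_, ?_⟩ (hpos a).symm⟩
  · rintro ⟨v, hv⟩
    let Z : Over (V : Scheme.{u}) := 𝟙_ _
    let x₀ : (Over.map V.ι).obj Z ⟶ Red.Ga S := Ga.gaPt 1
    have h1 : BC.down V.ι (BC.up V.ι x₀ ≫ v) ≫ i = toUnit _ ≫ P (D.u a) (1 : Γ((𝟙_ (Over S)).left, ⊤)) := by
      rw [← BC.down_map, Category.assoc, hv, BC.down_map, BC.down_up, P_comp, map_one]
      rfl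
    refine (hσ s a).1 ⟨(BC.down V.ι (BC.up V.ι x₀ ≫ v)).left ⟨s, hsV⟩, ?_⟩
    rw [← Scheme.Hom.comp_apply, ← Over.comp_left, h1, Over.comp_left, Scheme.Hom.comp_apply]
    congr 1
  intro ha
  -- the product of the negative root groups and `B` over `V`
  let V' : Over S := Over.mk V.ι
  obtain ⟨n, eneg, hen⟩ := Borel.exists_enum (D := D) {a | 0 < (-l) (D.P.root a)}
  obtain ⟨m, epos, hep⟩ := Borel.exists_enum (D := D) {a | 0 < l (D.P.root a)}
  obtain ⟨he, he', hcell⟩ := Bruhat.isOpenImmersion_cell hl hen hep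
  have hl' : ∀ a, (-l) (D.P.root a) ≠ 0 := fun a => by simpa using hl a
  have hcard : n + m = Fintype.card D.idx := by
    have hbij : Function.Bijective (Sum.elim eneg epos) := by
      refine ⟨hen.1.sumElim hep.1 fun c d hcd => ?_, fun c => ?_⟩
      · have h1 := he c
        rw [hcd] at h1
        exact absurd (he' d) (not_lt.2 h1.le)
      · rcases lt_or_gt_of_ne (hl c) with h | h
        · obtain ⟨k, hk⟩ : c ∈ Set.range eneg := hen.2 ▸ (by simpa using h)
          exact ⟨Sum.inl k, hk⟩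
        · obtain ⟨k, hk⟩ : c ∈ Set.range epos := hep.2 ▸ h
          exact ⟨Sum.inr k, hk⟩
    simpa using Fintype.card_of_bijective hbij
  have hxl : ∀ x ∈ V, (∀ k, ls x (D.P.root (eneg k)) < 0) ∧ ∀ k, 0 < ls x (D.P.root (epos k)) := fun x hx =>
    ⟨fun k => by
      have h1 := hls x (eneg k)
      have h2 := (hsign x hx (eneg k)).not.2 (not_lt.2 (he k).le)
      omega, fun k => (hsign x hx _).2 (he' k)⟩
  let U := RedSub.pow (Red.Ga S) n
  let neg : U ⟶ G := RedSub.prodMap (Red.Ga S) n fun k => D.u (eneg k)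
  let W : Over S := U ⊗ (B ⊗ V')
  let ψ : W ⟶ G ⊗ V' := lift ((fst U (B ⊗ V') ≫ neg) * (snd U (B ⊗ V') ≫ fst B V' ≫ i))
    (snd U (B ⊗ V') ≫ snd B V')
  have hnegmem : ∀ {l₁ : D.M →+ ℤ}, (∀ k, l₁ (D.P.root (eneg k)) < 0) → ∀ {X : Over S} (z : X ⟶ U),
      z ≫ neg ∈ Bruhat.unip (D := D) (-l₁) X := fun {l₁} hk {X} z => by
    refine isLimPt_pos (l := -l₁) (fun k => ?_) z
    have := hk k
    simp only [AddMonoidHom.neg_apply]
    omega
  -- mono on the geometric fibres
  haveI hψm : Mono ψ.left := by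
    haveI : LocallyOfFiniteType V.ι := inferInstance
    haveI : Smooth U.hom := by
      haveI := smoothOfRelativeDimension_pow S n
      exact SmoothOfRelativeDimension.smooth n _
    haveI : LocallyOfFiniteType W.hom := by
      change LocallyOfFiniteType (Limits.pullback.fst U.hom (Limits.pullback.fst B.hom V'.hom ≫ B.hom) ≫ U.hom)
      haveI : LocallyOfFiniteType (Limits.pullback.fst B.hom V'.hom ≫ B.hom) := by
        haveI : LocallyOfFiniteType V'.hom := inferInstanceAs (LocallyOfFiniteType V.ι)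
        infer_instance
      infer_instance
    haveI : LocallyOfFiniteType ψ.left := by
      haveI : LocallyOfFiniteType (ψ.left ≫ (G ⊗ V').hom) := by rw [Over.w ψ]; infer_instance
      exact locallyOfFiniteType_of_comp ψ.left (G ⊗ V').hom
    refine BorelStd.mono_of_geomFibres ψ fun x => ⟨fun {X} z z' hzz => BC.down_injective ?_⟩
    set zd := BC.down (Red.geomPt x) z
    set zd' := BC.down (Red.geomPt x) z'
    have hψ : zd ≫ ψ = zd' ≫ ψ := by
      simp only [zd, zd', ← BC.down_map, hzz]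
    rcases isEmpty_or_nonempty X.left with hX | ⟨⟨p⟩⟩
    · exact Over.OverMorphism.ext ((isInitialOfIsEmpty (X := X.left)).hom_ext _ _)
    have hx : x ∈ V := by
      have h1 := ((zd ≫ snd U (B ⊗ V') ≫ snd B V').left p).2
      have h2 : V.ι ((zd ≫ snd U (B ⊗ V') ≫ snd B V').left p) = x := by
        rw [← Scheme.Hom.comp_apply]
        refine (congrArg (fun φ => φ p) (Over.w (zd ≫ snd U (B ⊗ V') ≫ snd B V'))).trans ?_
        exact (Scheme.Hom.comp_apply _ _ _).trans (BorelStd.geomPt_apply x _)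
      exact h2 ▸ h1
    obtain ⟨hxn, hxp⟩ := hxl x hx
    let c := zd ≫ snd U (B ⊗ V') ≫ fst B V'
    let c' := zd' ≫ snd U (B ⊗ V') ≫ fst B V'
    have hψ1 := congrArg (· ≫ fst G V') hψ
    simp only [ψ, Category.assoc, lift_fst, MonObj.comp_mul] at hψ1
    have hψ2 := congrArg (· ≫ snd G V') hψ
    simp only [ψ, Category.assoc, lift_snd] at hψ2
    have hψ1' : ((zd ≫ fst U (B ⊗ V')) ≫ neg) * (c ≫ i) = ((zd' ≫ fst U (B ⊗ V')) ≫ neg) * (c' ≫ i) := by
      simpa only [c, c', Category.assoc] using hψ1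
    set v := (zd ≫ fst U (B ⊗ V')) ≫ neg
    set v' := (zd' ≫ fst U (B ⊗ V')) ≫ neg
    have hwneg : v'⁻¹ * v ∈ Bruhat.unip (D := D) (-(ls x)) _ := mul_mem (inv_mem (hnegmem hxn _)) (hnegmem hxn _)
    have hwbor : v'⁻¹ * v ∈ Bruhat.bor (D := D) (ls x) _ := by
      have e : v'⁻¹ * v = (c' ≫ i) * (c ≫ i)⁻¹ := by
        rw [eq_mul_inv_iff_mul_eq, _root_.mul_assoc, hψ1', inv_mul_cancel_left]
      rw [e]
      refine mul_mem ?_ (inv_mem ?_)
      · have := BorelStd.down_mem_bor (hls x) hen.1 hep.1 hxn hxp hcard (hlsB x) (BC.up (Red.geomPt x) c')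
        rwa [BC.down_up] at this
      · have := BorelStd.down_mem_bor (hls x) hen.1 hep.1 hxn hxp hcard (hlsB x) (BC.up (Red.geomPt x) c)
        rwa [BC.down_up] at this
    have hw1 : v'⁻¹ * v = 1 := by
      obtain ⟨L, hL⟩ := hwbor
      obtain ⟨τ, hτ⟩ := exists_torus_of_regular (hls x) (Borel.commutes_of_isLimPt hL)
      have h1 : (τ ≫ D.i)⁻¹ * (v'⁻¹ * v) ∈ Bruhat.unip (D := D) (ls x) _ := by
        have := (isLimPt_torus_pt (l := ls x) τ).inv.mul hL
        rw [← hτ, inv_mul_cancel] at this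
        exact this
      exact (Groth.Agent.H82.R2.Iso.form_unique (t := 1) (t' := τ) (hls x) hwneg (one_mem _) (one_mem _) h1
        (by rw [MonObj.one_comp, _root_.mul_one, _root_.mul_one, _root_.one_mul, mul_inv_cancel_left])).1
    have hvv : v = v' := (inv_mul_eq_one.1 hw1).symm
    haveI : Mono i := Over.mono_of_mono_left i
    haveI : Mono neg := by
      exact mono_of_isClosedImmersion _ (mono_prodMap_neg (l := ls x) hen.1 hxn)
    refine CartesianMonoidalCategory.hom_ext _ _ ((cancel_mono neg).1 hvv)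
      (CartesianMonoidalCategory.hom_ext _ _ ?_ ?_)
    · simp only [Category.assoc]
      rw [hvv] at hψ1'
      exact (cancel_mono i).1 (mul_left_cancel hψ1')
    · simpa only [Category.assoc] using hψ2
  -- dimensions
  have hdimB : ∀ y : B.left, B.hom y ∈ V → FlatMor.fibreDimAt B.hom y =
      ((Module.finrank ℤ D.M + m : ℕ) : WithBot ℕ∞) := by
    intro y hy
    set x := B.hom y
    obtain ⟨hxn, hxp⟩ := hxl x hy
    let D₁ := BorelStd.geomSplit D x
    haveI := isAffineHom D₁
    haveI : IsOpenImmersion (RedSub.cellMap D₁ eneg epos).left :=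
      isOpenImmersion_cellMap (D := D₁) (l := ls x) (e := eneg) (e' := epos) hen.1 hep.1 hxn hxp hcard
    haveI := Borel.mono_borelMap (D := D₁) (l := ls x) (e := eneg) (e' := epos) hep.1 hxp
    let iB := (Over.pullback (Red.geomPt x)).map i
    haveI : Mono i := Over.mono_of_mono_left i
    haveI : Mono iB := inferInstance
    have hiff := fun {X : Over (Spec (CommRingCat.of (AlgebraicClosure (S.residueField x))))}
      (g : X ⟶ Red.geomFibre x G) => Borel.exists_iff_lim (D := D₁) (e := eneg) (e' := epos) (hls x) hxn hxp g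
    obtain ⟨r, hr⟩ := (hlsB x (RedSub.borelMap D₁ epos)).2 ((hiff _).1 ⟨𝟙 _, Category.id_comp _⟩)
    obtain ⟨r', hr'⟩ := (hiff iB).2 ((hlsB x iB).1 ⟨𝟙 _, Category.id_comp _⟩)
    haveI : IsIso r := ⟨r', (cancel_mono (RedSub.borelMap D₁ epos)).1 (by
        rw [Category.assoc, hr', hr, Category.id_comp]),
      (cancel_mono iB).1 (by rw [Category.assoc, hr, hr', Category.id_comp])⟩
    haveI : IsIso r.left := ((Over.forget _).mapIso (asIso r)).isIso_hom
    obtain ⟨z, hz, -⟩ := Scheme.Pullback.exists_preimage_pullback (f := B.hom) (g := Red.geomPt x) y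
      (IsLocalRing.closedPoint _) (BorelStd.geomPt_apply x _).symm
    rw [← hz, ← Groth.Agent.H2.FibreDimPullback.fibreDimAt_of_isPullback
      (IsPullback.of_hasPullback B.hom (Red.geomPt x)) z]
    haveI : SmoothOfRelativeDimension (Module.finrank ℤ D.M) D₁.T.hom := smooth_T D₁
    haveI := smoothOfRelativeDimension_pow (Spec (CommRingCat.of (AlgebraicClosure (S.residueField x)))) m
    haveI hrel : SmoothOfRelativeDimension (Module.finrank ℤ D.M + m)
        (D₁.T ⊗ RedSub.pow (Red.Ga _) m).hom := smoothOfRelativeDimension_tensor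
    obtain ⟨z₁, hz₁⟩ := r.left.homeomorph.surjective z
    have hsq : IsPullback r.left (D₁.T ⊗ RedSub.pow (Red.Ga _) m).hom (Limits.pullback.snd B.hom (Red.geomPt x)) (𝟙 _) :=
      IsPullback.of_horiz_isIso ⟨(Over.w r).trans (Category.comp_id _).symm⟩
    have h1 := Groth.Agent.H2.FibreDimPullback.fibreDimAt_of_isPullback hsq z₁
    rw [fibreDimAt_of_smoothOfRelativeDimension _ (n := Module.finrank ℤ D.M + m) z₁] at h1
    rw [show z = r.left z₁ from hz₁.symm]
    exact h1.symm
  haveI : SmoothOfRelativeDimension (Module.finrank ℤ D.M + m) (Limits.pullback.snd B.hom V.ι) :=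
    haveI : Smooth (Limits.pullback.snd B.hom V.ι) := MorphismProperty.pullback_snd _ _ inferInstance
    BorelStd.smoothOfRelativeDimension_of_fibreDimAt _ fun y => by
      rw [Groth.Agent.H2.FibreDimPullback.fibreDimAt_of_isPullback (IsPullback.of_hasPullback B.hom V.ι) y]
      refine hdimB _ ?_
      rw [← Scheme.Hom.comp_apply, Limits.pullback.condition, Scheme.Hom.comp_apply]
      exact (Limits.pullback.snd B.hom V.ι y).2
  haveI : SmoothOfRelativeDimension (Module.finrank ℤ D.M + Fintype.card D.idx) G.hom :=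
    BorelStd.smoothOfRelativeDimension_of_fibreDimAt _ fun y => fibreDimAt_group D y
  haveI : SmoothOfRelativeDimension 0 V'.hom := inferInstanceAs (SmoothOfRelativeDimension 0 V.ι)
  haveI hGV : SmoothOfRelativeDimension (Module.finrank ℤ D.M + Fintype.card D.idx + 0) (G ⊗ V').hom :=
    smoothOfRelativeDimension_tensor
  haveI : SmoothOfRelativeDimension (Module.finrank ℤ D.M + m + 0) (B ⊗ V').hom := by
    have : (B ⊗ V').hom = Limits.pullback.snd B.hom V.ι ≫ V.ι := Limits.pullback.condition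
    rw [this]
    infer_instance
  haveI := smoothOfRelativeDimension_pow S n
  haveI hWd : SmoothOfRelativeDimension (n + (Module.finrank ℤ D.M + m + 0)) W.hom := smoothOfRelativeDimension_tensor
  haveI := hWd.smooth
  haveI := hGV.smooth
  haveI : Etale ψ.left :=
    Groth.Agent.H2.Rigid.etale_of_unramified W.hom (G ⊗ V').hom _ (Over.w _) fun x => by
      rw [fibreDimAt_of_smoothOfRelativeDimension _ (n := n + (Module.finrank ℤ D.M + m + 0)) x,
        fibreDimAt_of_smoothOfRelativeDimension _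
          (n := Module.finrank ℤ D.M + Fintype.card D.idx + 0) (ψ.left x), ← hcard]
      congr 1
      omega
  haveI : IsOpenImmersion ψ.left := IsOpenImmersion.of_flat_of_mono _
  haveI : Mono ψ := Over.mono_of_mono_left ψ
  -- the root group lands in the image
  let A : Over S := Red.Ga S ⊗ V'
  let φ : A ⟶ G ⊗ V' := lift (fst _ _ ≫ D.u a) (snd _ _)
  have hone : ∀ {X : Over S}, tuple n (fun _ => (1 : X ⟶ Red.Ga S)) ≫ neg = 1 := fun {X} => by
    rw [comp_prodMap]
    refine prodPts_one fun k => ?_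
    haveI : IsMonHom (D.u (eneg k)) := (D.rootHom (eneg k)).1
    rw [← Category.assoc, tuple_proj, MonObj.one_comp]
  have hrange : Set.range φ.left ⊆ Set.range ψ.left := by
    rintro _ ⟨q, rfl⟩
    set x := A.hom q with hxdef
    have hx : x ∈ V := by
      have h1 : A.hom q = V.ι ((snd (Red.Ga S) V').left q) := by
        rw [← Over.w (snd (Red.Ga S) V'), Scheme.Hom.comp_apply]
        rfl
      rw [hxdef, h1]
      exact ((snd (Red.Ga S) V').left q).2
    obtain ⟨z, hz, -⟩ := Scheme.Pullback.exists_preimage_pullback (f := A.hom) (g := Red.geomPt x) q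
      (IsLocalRing.closedPoint _) (BorelStd.geomPt_apply x _).symm
    let d := BC.down (Red.geomPt x) (𝟙 (Red.bc (Red.geomPt x) A))
    let x' : Red.bc (Red.geomPt x) A ⟶ Red.Ga _ := Ga.gaPt (Red.gaFn (d ≫ fst (Red.Ga S) V') :)
    obtain ⟨zb, hzb⟩ := (hlsB x (x' ≫ Roots.fu D a)).2 ⟨1,
      Bruhat.root_mem_unip (D := BorelStd.geomSplit D x) (c := a) ((hsign x hx a).2 ha) _⟩
    have hzb' : BC.down (Red.geomPt x) zb ≫ i =
        Ga.gaPt (X := (Over.map (Red.geomPt x)).obj _) (Red.gaFn (d ≫ fst (Red.Ga S) V') :) ≫ D.u a := by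
      refine (BC.down_map zb i).symm.trans ((congrArg (BC.down (Red.geomPt x)) hzb).trans ?_)
      rw [Roots.down_fu, Ga.gaFn_gaPt]
    have h1 : d ≫ φ = lift (tuple n fun _ => 1) (lift (BC.down _ zb) (d ≫ snd (Red.Ga S) V')) ≫ ψ := by
      refine CartesianMonoidalCategory.hom_ext _ _ ?_ ?_
      · simp only [φ, ψ, Category.assoc, lift_fst, MonObj.comp_mul]
        rw [lift_fst_assoc, lift_snd_assoc, lift_fst_assoc, hone, _root_.one_mul, hzb', ← Category.assoc]
        exact congrArg (· ≫ D.u a) (Ga.eq_gaPt _ rfl)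
      · simp only [φ, ψ, Category.assoc, lift_snd]
        rw [lift_snd_assoc, lift_snd]
    refine ⟨(lift (tuple n fun _ => 1) (lift (BC.down _ zb) (d ≫ snd (Red.Ga S) V'))).left z, ?_⟩
    rw [← Scheme.Hom.comp_apply, ← Over.comp_left, ← h1, Over.comp_left, Scheme.Hom.comp_apply]
    congr 1
  let k : A ⟶ W := Over.homMk (IsOpenImmersion.lift ψ.left φ.left hrange) (by
    rw [← Over.w ψ, IsOpenImmersion.lift_fac_assoc, Over.w φ])
  have hk : k ≫ ψ = φ := Over.OverMorphism.ext (IsOpenImmersion.lift_fac _ _ _)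
  let v : A ⟶ G := (k ≫ fst U (B ⊗ V')) ≫ neg
  let β : A ⟶ B := k ≫ snd U (B ⊗ V') ≫ fst B V'
  have hua : fst (Red.Ga S) V' ≫ D.u a = v * (β ≫ i) := by
    have := congrArg (· ≫ fst G V') hk
    simp only [φ, ψ, Category.assoc, lift_fst, MonObj.comp_mul] at this
    simpa only [v, β, Category.assoc] using this.symm
  -- `B` meets the negative unipotent part trivially
  have huniq : ∀ {X : Over S} (_ : X ⟶ V') (g : X ⟶ G) (g' : X ⟶ B), g ∈ Bruhat.unip (D := D) (-l) X →
      g' ≫ i = g → g = 1 := by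
    intro X τ g g' hg hg'
    obtain ⟨w, hw⟩ := Bruhat.exists_prod_unip hl' eneg hen hg
    have hw' : tuple n (fun k => Ga.gaPt (w k)) ≫ neg = g := by
      rw [comp_prodMap, hw]
      refine congrArg _ (funext fun k => ?_)
      rw [← Category.assoc, tuple_proj]
      rfl
    have h1 : lift (tuple n fun k => Ga.gaPt (w k)) (lift (1 : X ⟶ B) τ) ≫ ψ =
        lift (tuple n fun _ => 1) (lift g' τ) ≫ ψ := by
      refine CartesianMonoidalCategory.hom_ext _ _ ?_ ?_
      · simp only [ψ, Category.assoc, lift_fst, MonObj.comp_mul]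
        rw [lift_fst_assoc, lift_snd_assoc, lift_fst_assoc, lift_fst_assoc, lift_snd_assoc, lift_fst_assoc, hw', hone,
          MonObj.one_comp, _root_.mul_one, _root_.one_mul, hg']
      · simp only [ψ, Category.assoc, lift_snd]
        rw [lift_snd_assoc, lift_snd, lift_snd_assoc, lift_snd]
    have h2 := congrArg (· ≫ fst U (B ⊗ V')) ((cancel_mono ψ).1 h1)
    simp only [lift_fst] at h2
    rw [← hw', h2, hone]
  have hvneg : v ∈ Bruhat.unip (D := D) (-l) A := hnegmem he _
  let d : ℕ := (l (D.P.root a)).toNat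
  have hd : (d : ℤ) = l (D.P.root a) := Int.toNat_of_nonneg ha.le
  have hvbor : ∃ L, IsLimPt (gcochar D l) v L := by
    refine ⟨lift 1 (snd (Red.Ga S) V') ≫ v, fun Y f hY => ?_⟩
    let C₁ : Γ(Y.left, ⊤) →+* Polynomial Γ(Y.left, ⊤) := Polynomial.C
    let q₀ : Γ((poly Y).left, ⊤) := fn Y C₁ (Polynomial.X ^ d)
    let a₀ := Red.gaFn (f ≫ fst (Red.Ga S) V')
    let F : poly Y ⟶ A := lift (Ga.gaPt (q₀ * (polyHom Y).left.appTop a₀)) (polyHom Y ≫ f ≫ snd (Red.Ga S) V')
    refine ⟨F ≫ v, ?_, ?_⟩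
    · haveI : IsMonHom (D.u a) := (D.rootHom a).1
      let τ := Gm.gmPt (sU Y) ≫ cochar D l
      have hcs : cs (gcochar D l) Y = τ ≫ D.i := cs_eq Y
      have hm : (toPoly Y).left.appTop q₀ = ((sU Y ^ d : Γ((laur Y).left, ⊤)ˣ) : Γ((laur Y).left, ⊤)) := by
        refine (toPoly_fn Y (Polynomial.X ^ d)).trans ?_
        rw [map_pow, Polynomial.toLaurent_X, map_pow, Units.val_pow_eq_pow_val, sU_val]
      have ha₀ : (toPoly Y).left.appTop ((polyHom Y).left.appTop a₀) = (laurHom Y).left.appTop a₀ := by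
        change (((polyHom Y).left.appTop ≫ (toPoly Y).left.appTop) a₀) = _
        rw [← Scheme.Hom.comp_appTop, ← Over.comp_left, toPoly_polyHom]
      have h1 : (toPoly Y ≫ F) ≫ fst (Red.Ga S) V' ≫ D.u a =
          (τ ≫ D.i) * (laurHom Y ≫ f ≫ fst (Red.Ga S) V' ≫ D.u a) * (τ ≫ D.i)⁻¹ := by
        have e1 : (toPoly Y ≫ F) ≫ fst (Red.Ga S) V' =
            Ga.gaPt (Red.gmFn (τ ≫ chr D (D.P.root a)) * (laurHom Y).left.appTop a₀) := by
          refine Ga.eq_gaPt _ ?_
          rw [Category.assoc, lift_fst, Ga.gaFn_comp, Ga.gaFn_gaPt, map_mul, hm, ha₀,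
            hasDeg D l (D.P.root a) (sU Y), ← hd, zpow_natCast]
        have e2 : laurHom Y ≫ f ≫ fst (Red.Ga S) V' = Ga.gaPt ((laurHom Y).left.appTop a₀) :=
          Ga.eq_gaPt _ (Ga.gaFn_comp _ _)
        rw [← Category.assoc, e1, ← Category.assoc f, ← Category.assoc (laurHom Y), e2]
        exact eq_mul_inv_iff_mul_eq.2 (isRootPts D a τ _).symm
      set F' := toPoly Y ≫ F
      set f' := laurHom Y ≫ f
      set g₁ := F' ≫ v
      set g₂ := (τ ≫ D.i) * (f' ≫ v) * (τ ≫ D.i)⁻¹
      have h2 : g₁ * ((F' ≫ β) ≫ i) = g₂ * (((τ ≫ t) * (f' ≫ β) * (τ ≫ t)⁻¹) ≫ i) := by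
        have c1 : ((τ ≫ t) * (f' ≫ β) * (τ ≫ t)⁻¹) ≫ i = (τ ≫ D.i) * ((f' ≫ β) ≫ i) * (τ ≫ D.i)⁻¹ := by
          rw [MonObj.mul_comp, MonObj.mul_comp, GrpObj.inv_comp, Category.assoc τ t i, ht]
        rw [c1, Category.assoc F' β i, Category.assoc f' β i]
        simp only [g₁, g₂]
        rw [← MonObj.comp_mul, ← hua, h1]
        rw [show laurHom Y ≫ f ≫ fst (Red.Ga S) V' ≫ D.u a = f' ≫ (fst (Red.Ga S) V' ≫ D.u a) from
          (Category.assoc _ _ _).symm, hua, MonObj.comp_mul]
        group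
      have hg₂ : g₂ ∈ Bruhat.unip (D := D) (-l) _ := Bruhat.torus_conj_unip (-l) τ (by
        simpa only [v, ← Category.assoc] using hnegmem he _)
      have hg₁ : g₁ ∈ Bruhat.unip (D := D) (-l) _ := by simpa only [g₁, v, ← Category.assoc] using hnegmem he _
      have h3 : g₂⁻¹ * g₁ = 1 := huniq (F' ≫ snd (Red.Ga S) V') _
        (((τ ≫ t) * (f' ≫ β) * (τ ≫ t)⁻¹) * (F' ≫ β)⁻¹) (mul_mem (inv_mem hg₂) hg₁) (by
          rw [MonObj.mul_comp, GrpObj.inv_comp, eq_comm, eq_mul_inv_iff_mul_eq, _root_.mul_assoc, h2,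
            inv_mul_cancel_left])
      show toPoly Y ≫ F ≫ v = _
      rw [← Category.assoc, conjPt, hcs]
      exact ((inv_mul_eq_one.1 h3).symm : g₁ = g₂).trans (by simp only [g₂, f', Category.assoc])
    · refine (Category.assoc (Contract.zeroSec Y) F v).symm.trans
        ((congrArg (· ≫ v) (CartesianMonoidalCategory.hom_ext _ _ ?_ ?_)).trans (Category.assoc f _ v))
      · refine Ga.gaFn_injective ?_
        rw [Category.assoc, lift_fst, Category.assoc, lift_fst, MonObj.comp_one, Ga.gaFn_one, Ga.gaFn_comp,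
          Ga.gaFn_gaPt, map_mul]
        rw [show (Contract.zeroSec Y).left.appTop q₀ = 0 from (Contract.zeroSec_fn Y (Polynomial.X ^ d)).trans (by
          rw [Polynomial.eval_pow, Polynomial.eval_X, zero_pow (by omega : d ≠ 0)]), zero_mul]
      · rw [Category.assoc, lift_snd, Category.assoc, lift_snd, zeroSec_polyHom_assoc]
  have hv1 : v = 1 := by
    obtain ⟨L, hL⟩ := hvbor
    obtain ⟨τ, hτ⟩ := exists_torus_of_regular hl (Borel.commutes_of_isLimPt hL)
    have h1 : (τ ≫ D.i)⁻¹ * v ∈ Bruhat.unip (D := D) l _ := by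
      have := (isLimPt_torus_pt (l := l) τ).inv.mul hL
      rw [← hτ, inv_mul_cancel] at this
      exact this
    exact (Groth.Agent.H82.R2.Iso.form_unique (t := 1) (t' := τ) hl hvneg (one_mem _) (one_mem _) h1
      (by rw [MonObj.one_comp, _root_.mul_one, _root_.mul_one, _root_.one_mul, mul_inv_cancel_left])).1
  rw [hv1, _root_.one_mul] at hua
  let Z := Red.bc V.ι (Red.Ga S)
  let e : (Over.map V.ι).obj Z ⟶ A := lift (BC.down V.ι (𝟙 Z)) (Over.homMk Z.hom rfl)
  refine ⟨BC.up V.ι (e ≫ β), BC.down_injective ?_⟩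
  rw [BC.down_map, BC.down_up, Category.assoc, ← hua, lift_fst_assoc, ← BC.down_map, Category.id_comp]

end Groth.Agent.S3988
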