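import Groth.Statements.S3992
import Groth.Agent.Lib.SmWeil.TorusInter
import Groth.Agent.Lib.SmWeil.BorelPreimage
import Groth.Agent.Lib.GrpQ.MonoClosed
import Groth.Agent.H1.Classical.TorusUnipotent
import Groth.Agent.Lib.RedPts.BC
import Groth.Agent.Lib.Tori.BaseChange

set_option autoImplicit false
set_option linter.style.haveILetI false
open CategoryTheory MonoidalCategory CartesianMonoidalCategory MonObj GrpObj AlgebraicGeometry
universe u
open RedSub

namespace Groth.Agent.S3992

/-- Let G be a reductive S-group, T a maximal torus of G and U a sub-group-scheme of G, smooth over S,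
whose geometric fibres are connected and unipotent (contain no non-trivial subtorus), and which is
normalised by T. Then U x_G T is trivial: a point of U whose image in G lies in T is the unit. (The
source does not require connected fibres; with the prelude's surrogate for unipotency, connectedness
is needed for the hypothesis to mean unipotent.) -/
theorem result {S : Scheme.{u}} {G T U : Over S} [GrpObj G]
    [GrpObj T] [GrpObj U] (hG : Red.IsReductive G) (i : T ⟶ G) (hT : Red.IsMaximalTorus i) (j : U ⟶ G)
    (hU : RedSub.IsSubgrp j) [Smooth U.hom]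
    (hfib : ∀ s : S, ConnectedSpace ↥(Red.geomFibre s U).left ∧
      Red.HasNoSubtorus (AlgebraicClosure (S.residueField s)) (Red.geomFibre s U))
    (hnorm : ∀ (X : Over S) (x : X ⟶ T) (y : X ⟶ U), ∃ y' : X ⟶ U, (x ≫ i) * (y ≫ j) * (x ≫ i)⁻¹ = y' ≫ j)
    (X : Over S) (y : X ⟶ U) (x : X ⟶ T) (h : y ≫ j = x ≫ i) : y = 1 := by
  haveI := hT.1
  haveI := hT.2.1
  haveI : IsMonHom j := hU.1
  haveI : IsImmersion j.left := hU.2
  haveI : Mono j := Over.mono_of_mono_left j
  haveI := hG.1
  haveI := hG.2.1
  let W : Over S := CategoryTheory.Limits.pullback j i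
  have hsq : IsPullback (CategoryTheory.Limits.pullback.fst j i) (CategoryTheory.Limits.pullback.snd j i) j i :=
    IsPullback.of_hasPullback j i
  let p : X ⟶ W := hsq.lift y x h
  let e : 𝟙_ (Over S) ⟶ W := hsq.lift (1 : 𝟙_ (Over S) ⟶ U) 1 (by rw [MonObj.one_comp, MonObj.one_comp])
  haveI : Smooth T.hom := Groth.Agent.Lib.Tori.Basic.smooth_of_isTorus hT.2.2.1
  haveI : LocallyOfFiniteType i.left := by
    haveI : LocallyOfFiniteType (i.left ≫ G.hom) := by rw [Over.w]; infer_instance
    exact locallyOfFiniteType_of_comp i.left G.hom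
  haveI : LocallyOfFiniteType (CategoryTheory.Limits.pullback.fst j i).left :=
    MorphismProperty.of_isPullback (P := @LocallyOfFiniteType) (hsq.map (Over.forget S)).flip ‹_›
  haveI : LocallyOfFiniteType W.hom := by
    rw [← Over.w (CategoryTheory.Limits.pullback.fst j i)]
    infer_instance
  have hW : IsIso W.hom := by
    refine Groth.Agent.Lib.SmWeil.TorusInter.isIso_of_geomFibres W.hom e.left (Over.w e) fun s => ?_
    let g := Red.geomPt s
    obtain ⟨hGa, hGs, hGc, -⟩ := hG.2.2 s
    haveI := hGa
    haveI := hGs
    haveI := hGc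
    obtain ⟨hUc, hUn⟩ := hfib s
    haveI := hUc
    haveI : Smooth (Red.bc g U).hom := MorphismProperty.pullback_snd (P := @Smooth) _ _ inferInstance
    haveI : IsImmersion ((Over.pullback g).map j).left :=
      MorphismProperty.of_isPullback (Groth.Agent.H87.Charts.isPullback_map g j) hU.2
    haveI : Mono ((Over.pullback g).map j) := inferInstance
    haveI : Mono ((Over.pullback g).map i) := inferInstance
    haveI : LocallyOfFiniteType (Red.bc g G).hom := inferInstance
    haveI : QuasiCompact (Red.bc g G).hom := inferInstance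
    haveI : IsLocallyNoetherian (Red.bc g G).left := LocallyOfFiniteType.isLocallyNoetherian (Red.bc g G).hom
    haveI : CompactSpace (Red.bc g G).left := inferInstance
    haveI : IsNoetherian (Red.bc g G).left := {}
    haveI : TopologicalSpace.NoetherianSpace (Red.bc g U).left :=
      ((Over.pullback g).map j).left.isEmbedding.isInducing.noetherianSpace
    haveI : QuasiCompact ((Over.pullback g).map j).left := inferInstance
    haveI : IsClosedImmersion ((Over.pullback g).map j).left :=
      Groth.Agent.Lib.GrpQ.MonoClosed.isClosedImmersion_of_mono _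
    haveI : IsAffine (Red.bc g U).left := isAffine_of_isAffineHom ((Over.pullback g).map j).left
    have hNT := Groth.Agent.H1.Classical.Unipotent.noTorsion_of_hasNoSubtorus hUn
    have hTs : Red.IsTorus (Red.bc g T) := Groth.Agent.Lib.Tori.Basic.isTorus_bc hT.2.2.1 g
    have HF := hsq.map (Over.pullback g)
    let e' : 𝟙_ (Over _) ⟶ Red.bc g W :=
      HF.lift (1 : 𝟙_ (Over _) ⟶ Red.bc g U) 1 (by rw [MonObj.one_comp, MonObj.one_comp])
    have huniq : ∀ {Z : Over _} (w : Z ⟶ Red.bc g W), w = toUnit Z ≫ e' := fun {Z} w => by
      have hb := Groth.Agent.H1.Classical.TorusUnipotent.eq_one ((Over.pullback g).map i) hTs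
        ((Over.pullback g).map j) hNT (w ≫ (Over.pullback g).map (CategoryTheory.Limits.pullback.fst j i) ≫
          (Over.pullback g).map j)
        ⟨w ≫ (Over.pullback g).map (CategoryTheory.Limits.pullback.snd j i), by rw [Category.assoc, ← HF.w]⟩
        ⟨w ≫ (Over.pullback g).map (CategoryTheory.Limits.pullback.fst j i), Category.assoc _ _ _⟩
      refine HF.hom_ext ?_ ?_
      · rw [Category.assoc, HF.lift_fst, MonObj.comp_one, ← cancel_mono ((Over.pullback g).map j), Category.assoc,
          hb, MonObj.one_comp]
      · rw [Category.assoc, HF.lift_snd, MonObj.comp_one, ← cancel_mono ((Over.pullback g).map i), Category.assoc,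
          ← HF.w, hb, MonObj.one_comp]
    show IsIso (Red.bc g W).hom
    refine ⟨e'.left, ?_, Over.w e'⟩
    have hid := congrArg (·.left) (huniq (𝟙 (Red.bc g W)))
    simp only [Over.comp_left, Over.id_left] at hid
    exact hid.symm
  have hp : p = toUnit X ≫ e := Over.OverMorphism.ext (by rw [← cancel_mono W.hom, Over.w, Over.w])
  have h1 := congrArg (· ≫ CategoryTheory.Limits.pullback.fst j i) hp
  simp only [Category.assoc, p, e, hsq.lift_fst, MonObj.comp_one] at h1
  exact h1

end Groth.Agent.S3992
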