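import Groth.Statements.S4024
import Mathlib.LinearAlgebra.Dual.Lemmas
import Mathlib.RingTheory.MvPolynomial.Homogeneous
import Mathlib.LinearAlgebra.FiniteDimensional.Lemmas
import Mathlib.RingTheory.MvPolynomial.EulerIdentity

set_option autoImplicit false
universe u
open CategoryTheory CategoryTheory.Limits AlgebraicGeometry
open LefPen

namespace Groth.Agent.S4024

open MvPolynomial

variable {k : Type u} [Field k] {r : ℕ}

/-- The directional derivative in the direction `w` at the point `v`. -/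
noncomputable def D (w v : Fin (r + 1) → k) : MvPolynomial (Fin (r + 1)) k →ₗ[k] k :=
  ∑ i, (w i) • ((aeval v).toLinearMap ∘ₗ (pderiv i).toLinearMap)

lemma D_apply (w v : Fin (r + 1) → k) (p : MvPolynomial (Fin (r + 1)) k) :
    D w v p = ∑ i, w i * aeval v (pderiv i p) := by
  simp [D]

lemma D_mul (w v : Fin (r + 1) → k) (p q : MvPolynomial (Fin (r + 1)) k) :
    D w v (p * q) = D w v p * aeval v q + aeval v p * D w v q := by
  simp only [D_apply, pderiv_mul, map_add, map_mul, Finset.sum_mul, Finset.mul_sum, ← Finset.sum_add_distrib]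
  exact Finset.sum_congr rfl fun i _ => by ring

lemma D_X (w v : Fin (r + 1) → k) (a : Fin (r + 1)) : D w v (X a) = w a := by
  rw [D_apply, Finset.sum_eq_single a (fun i _ hne => by rw [pderiv_X_of_ne (Ne.symm hne), map_zero, mul_zero]) (by simp),
    pderiv_X_self, map_one, mul_one]

/-- A functional as a linear form. -/
noncomputable def lin : ((Fin (r + 1) → k) →ₗ[k] k) →ₗ[k] MvPolynomial (Fin (r + 1)) k where
  toFun φ := ∑ i, φ (Pi.single i 1) • X i
  map_add' a b := by simp [add_smul, Finset.sum_add_distrib]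
  map_smul' c a := by simp [mul_smul, Finset.smul_sum]

lemma lin_eval (φ : (Fin (r + 1) → k) →ₗ[k] k) (v : Fin (r + 1) → k) : aeval v (lin φ) = φ v := by
  conv_rhs => rw [← Finset.univ_sum_single v, map_sum]
  simp only [lin, LinearMap.coe_mk, AddHom.coe_mk, map_sum, map_smul, aeval_X]
  refine Finset.sum_congr rfl fun i _ => ?_
  rw [show (Pi.single i (v i) : Fin (r + 1) → k) = v i • Pi.single i 1 by simp [← Pi.single_smul], map_smul, smul_eq_mul, smul_eq_mul, mul_comm]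

lemma lin_D (φ : (Fin (r + 1) → k) →ₗ[k] k) (w v : Fin (r + 1) → k) : D w v (lin φ) = φ w := by
  rw [← lin_eval φ w]
  simp only [lin, LinearMap.coe_mk, AddHom.coe_mk, map_sum, map_smul, aeval_X, D_X]

lemma lin_mem (φ : (Fin (r + 1) → k) →ₗ[k] k) : (lin φ).IsHomogeneous 1 := by
  simp only [lin, LinearMap.coe_mk, AddHom.coe_mk]
  refine IsHomogeneous.sum _ _ _ fun i _ => ?_
  rw [smul_eq_C_mul]
  exact isHomogeneous_C_mul_X _ i

lemma D_pow (φ : (Fin (r + 1) → k) →ₗ[k] k) (w v : Fin (r + 1) → k) (n : ℕ) :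
    D w v (lin φ ^ (n + 1)) = (n + 1 : ℕ) * φ v ^ n * φ w := by
  induction n with
  | zero => simp [lin_D]
  | succ n ih =>
    rw [pow_succ, D_mul, ih, lin_D, lin_eval, map_pow, lin_eval]
    push_cast
    ring

/-- `ℓ ^ (d-1) * φ` as a form of degree `d`. -/
noncomputable def test {d : ℕ} (hd : 2 ≤ d) (ℓ φ : (Fin (r + 1) → k) →ₗ[k] k) : LefPen.Form r k d :=
  ⟨lin ℓ ^ (d - 1) * lin φ, by
    have h := ((lin_mem ℓ).pow (d - 1)).mul (lin_mem φ)
    rwa [show 1 * (d - 1) + 1 = d by omega] at h⟩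

/-- The map whose kernel is the tangency condition at `[v]`. -/
noncomputable def T (d : ℕ) (W : Submodule k (Fin (r + 1) → k)) (v : Fin (r + 1) → k)
    (ℓ : (Fin (r + 1) → k) →ₗ[k] k) : LefPen.Form r k d →ₗ[k] Module.Dual k W :=
  LinearMap.mk₂ k (fun (F : LefPen.Form r k d) (w : W) =>
      D w.1 v F.1 - ((d : k) - 1) * aeval v F.1 * ℓ w.1)
    (fun a b w => by simp only [Submodule.coe_add, map_add]; ring)
    (fun c a w => by simp only [Submodule.coe_smul, map_smul, smul_eq_mul]; ring)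
    (fun F a b => by simp only [Submodule.coe_add, D_apply, Pi.add_apply, add_mul, Finset.sum_add_distrib, map_add]; ring)
    (fun c F a => by
      simp only [Submodule.coe_smul, D_apply, Pi.smul_apply, smul_eq_mul, mul_assoc, ← Finset.mul_sum, map_smul]; ring)

lemma T_apply (d : ℕ) (W : Submodule k (Fin (r + 1) → k)) (v : Fin (r + 1) → k)
    (ℓ : (Fin (r + 1) → k) →ₗ[k] k) (F : LefPen.Form r k d) (w : W) :
    T d W v ℓ F w = D w.1 v F.1 - ((d : k) - 1) * aeval v F.1 * ℓ w.1 := rfl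

lemma euler {d : ℕ} (F : LefPen.Form r k d) (v : Fin (r + 1) → k) : D v v F.1 = (d : k) * aeval v F.1 := by
  have h := congrArg (aeval v) ((mem_homogeneousSubmodule d F.1).mp F.2).sum_X_mul_pderiv
  rw [map_sum, map_nsmul, nsmul_eq_mul] at h
  rw [D_apply, ← h]
  exact Finset.sum_congr rfl fun i _ => by rw [map_mul, aeval_X]

lemma ker_T (d : ℕ) (W : Submodule k (Fin (r + 1) → k)) (v : Fin (r + 1) → k) (hv : v ∈ W)
    (ℓ : (Fin (r + 1) → k) →ₗ[k] k) (hℓ : ℓ v = 1) :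
    LinearMap.ker (T d W v ℓ) = LinearMap.ker (LefPen.tangLin (d := d) k W v) := by
  ext F
  have hlin : LefPen.tangLin (d := d) k W v F = (aeval v F.1, fun w : W => D w.1 v F.1) := by
    simp [LefPen.tangLin, D_apply, LinearMap.pi_apply]
    funext w
    simp
  rw [LinearMap.mem_ker, LinearMap.mem_ker, hlin]
  constructor
  · intro h
    have h1 := LinearMap.congr_fun h ⟨v, hv⟩
    rw [T_apply, euler, hℓ] at h1
    have h0 : aeval v F.1 = 0 := by
      simp only [LinearMap.zero_apply] at h1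
      linear_combination h1
    refine Prod.ext h0 (funext fun w => ?_)
    have h2 := LinearMap.congr_fun h w
    rw [T_apply, h0] at h2
    simpa using h2
  · intro h
    have h0 : aeval v F.1 = 0 := congrArg Prod.fst h
    ext w
    have h2 : D w.1 v F.1 = 0 := congrFun (congrArg Prod.snd h) w
    rw [T_apply, h0, h2]
    simp

lemma T_test_self {d : ℕ} (hd : 2 ≤ d) (W : Submodule k (Fin (r + 1) → k)) (v : Fin (r + 1) → k)
    (ℓ φ : (Fin (r + 1) → k) →ₗ[k] k) (hℓ : ℓ v = 1) (w : W) : T d W v ℓ (test hd ℓ φ) w = φ w.1 := by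
  obtain ⟨e, rfl⟩ : ∃ e, d = e + 2 := ⟨d - 2, by omega⟩
  rw [T_apply]
  simp only [test, show e + 2 - 1 = e + 1 by omega, D_mul, D_pow, lin_D, lin_eval, map_mul, map_pow, hℓ]
  push_cast
  ring

lemma T_test_other {d : ℕ} (hd : 2 ≤ d) (W : Submodule k (Fin (r + 1) → k)) (v : Fin (r + 1) → k)
    (ℓ ℓ' φ : (Fin (r + 1) → k) →ₗ[k] k) (hℓ : ℓ' v = 0) (w : W) :
    T d W v ℓ (test hd ℓ' φ) w = (if d = 2 then φ v * ℓ' w.1 else 0) := by
  obtain ⟨e, rfl⟩ : ∃ e, d = e + 2 := ⟨d - 2, by omega⟩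
  rw [T_apply]
  simp only [test, show e + 2 - 1 = e + 1 by omega, D_mul, D_pow, lin_D, lin_eval, map_mul, map_pow, hℓ]
  rcases e with _ | e
  · simp [mul_comm]
  · simp

lemma D_symm (F : LefPen.Form r k 2) (a b : Fin (r + 1) → k) : D a b F.1 = D b a F.1 := by
  have hF : F.1 ∈ (homogeneousSubmodule (Fin (r + 1)) k 1) * (homogeneousSubmodule (Fin (r + 1)) k 1) := by
    rw [← pow_two, homogeneousSubmodule_one_pow]
    exact F.2
  have hL : ∀ L ∈ homogeneousSubmodule (Fin (r + 1)) k 1, ∀ w v : Fin (r + 1) → k, D w v L = aeval w L := by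
    intro L hL
    rw [homogeneousSubmodule_one_eq_span_X] at hL
    induction hL using Submodule.span_induction with
    | mem x hx =>
      obtain ⟨i, rfl⟩ := hx
      simp [D_X]
    | zero => simp
    | add x y _ _ hx hy => intro w v; rw [map_add, map_add, hx, hy]
    | smul c x _ hx => intro w v; rw [map_smul, map_smul, hx]
  generalize F.1 = p at hF
  induction hF using Submodule.mul_induction_on' with
  | mem_mul_mem x hx y hy => rw [D_mul, D_mul, hL x hx, hL y hy, hL x hx, hL y hy]; ring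
  | add x _ y _ hx hy => rw [map_add, map_add, hx, hy]

lemma exists_dual (v₁ v₂ : Fin (r + 1) → k) (hv : LinearIndependent k ![v₁, v₂]) :
    ∃ ℓ : (Fin (r + 1) → k) →ₗ[k] k, ℓ v₁ = 1 ∧ ℓ v₂ = 0 := by
  have h : v₁ ∉ Submodule.span k {v₂} := by
    intro hmem
    obtain ⟨c, hc⟩ := Submodule.mem_span_singleton.mp hmem
    have := LinearIndependent.pair_iff.mp hv 1 (-c) (by rw [one_smul, neg_smul, hc, add_neg_cancel])
    exact one_ne_zero this.1
  obtain ⟨f, hf1, hf2⟩ := Submodule.exists_dual_map_eq_bot_of_notMem h inferInstance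
  refine ⟨(f v₁)⁻¹ • f, by simp [inv_mul_cancel₀ hf1], ?_⟩
  have : f v₂ ∈ (Submodule.span k {v₂}).map f := Submodule.mem_map_of_mem (Submodule.mem_span_singleton_self _)
  rw [hf2, Submodule.mem_bot] at this
  simp [this]


/-- Let k be a field (the source works over an algebraically closed field; the count is the same over
any field), d ≥ 2, x₁ = [v₁] and x₂ = [v₂] two distinct points of projective r-space and P(W₁) ∋ x₁,
P(W₂) ∋ x₂ linear subspaces. In the space of degree-d forms, those whose hypersurface passes through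
x₁ tangentially to P(W₁) and through x₂ tangentially to P(W₂) form a linear subspace of codimension
dim P(W₁) + dim P(W₂) + 2 = dim W₁ + dim W₂ when d ≥ 3 or when the line x₁x₂ is not contained in
both P(W₁) and P(W₂), and of codimension dim W₁ + dim W₂ - 1 when d = 2 and the line x₁x₂ lies in
P(W₁) ∩ P(W₂). -/
theorem result (k : Type u) [Field k] (r d : ℕ) (hd : 2 ≤ d)
    (W₁ W₂ : Submodule k (Fin (r + 1) → k)) (v₁ v₂ : Fin (r + 1) → k) (h₁ : v₁ ∈ W₁) (h₂ : v₂ ∈ W₂)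
    (hv : LinearIndependent k ![v₁, v₂]) :
    ((3 ≤ d ∨ ¬ (v₂ ∈ W₁ ∧ v₁ ∈ W₂)) →
      Module.finrank k (LefPen.Form r k d) =
        Module.finrank k ↥(LefPen.tangentForms k d W₁ v₁ W₂ v₂) + (Module.finrank k ↥W₁ + Module.finrank k ↥W₂)) ∧
    ((d = 2 ∧ v₂ ∈ W₁ ∧ v₁ ∈ W₂) →
      Module.finrank k (LefPen.Form r k d) + 1 =
        Module.finrank k ↥(LefPen.tangentForms k d W₁ v₁ W₂ v₂) + (Module.finrank k ↥W₁ + Module.finrank k ↥W₂)) := by
  classical
  obtain ⟨ℓ₁, h11, h12⟩ := exists_dual v₁ v₂ hv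
  obtain ⟨ℓ₂, h22, h21⟩ := exists_dual v₂ v₁ (LinearIndependent.pair_symm_iff.mp hv)
  let T₁ := T d W₁ v₁ ℓ₁
  let T₂ := T d W₂ v₂ ℓ₂
  let Φ := T₁.prod T₂
  have hker : LinearMap.ker Φ = LefPen.tangentForms k d W₁ v₁ W₂ v₂ := by
    rw [LinearMap.ker_prod, ker_T d W₁ v₁ h₁ ℓ₁ h11, ker_T d W₂ v₂ h₂ ℓ₂ h22]
    rfl
  haveI : FiniteDimensional k (LefPen.Form r k d) := by
    exact Module.Finite.iff_fg.mpr (MvPolynomial.homogeneousSubmodule_fg (Fin (r + 1)) k d)
  have hrn := Φ.finrank_range_add_finrank_ker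
  rw [hker] at hrn
  have hΦ1 : ∀ φ, Φ (test hd ℓ₁ φ) = (φ.domRestrict W₁, if d = 2 then φ v₂ • ℓ₁.domRestrict W₂ else 0) := by
    intro φ
    refine Prod.ext (LinearMap.ext fun w => ?_) (LinearMap.ext fun w => ?_)
    · exact T_test_self hd W₁ v₁ ℓ₁ φ h11 w
    · change T d W₂ v₂ ℓ₂ (test hd ℓ₁ φ) w = _
      rw [T_test_other hd W₂ v₂ ℓ₂ ℓ₁ φ h12 w]
      split_ifs <;> rfl
  have hΦ2 : ∀ ψ, Φ (test hd ℓ₂ ψ) = ((if d = 2 then ψ v₁ • ℓ₂.domRestrict W₁ else 0), ψ.domRestrict W₂) := by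
    intro ψ
    refine Prod.ext (LinearMap.ext fun w => ?_) (LinearMap.ext fun w => ?_)
    · change T d W₁ v₁ ℓ₁ (test hd ℓ₂ ψ) w = _
      rw [T_test_other hd W₁ v₁ ℓ₁ ℓ₂ ψ h21 w]
      split_ifs <;> rfl
    · exact T_test_self hd W₂ v₂ ℓ₂ ψ h22 w
  have hext : ∀ (W : Submodule k (Fin (r + 1) → k)) (α : Module.Dual k W), ∃ φ : (Fin (r + 1) → k) →ₗ[k] k, φ.domRestrict W = α :=
    fun W α => α.exists_extend
  have hext0 : ∀ (W : Submodule k (Fin (r + 1) → k)) (v : Fin (r + 1) → k), v ∉ W → ∀ α : Module.Dual k W,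
      ∃ φ : (Fin (r + 1) → k) →ₗ[k] k, φ.domRestrict W = α ∧ φ v = 0 := by
    intro W v hv' α
    obtain ⟨φ, hφ⟩ := hext W α
    obtain ⟨f, hf1, hf2⟩ := Submodule.exists_dual_map_eq_bot_of_notMem hv' inferInstance
    refine ⟨φ - (φ v / f v) • f, ?_, by simp [div_mul_cancel₀ _ hf1]⟩
    ext w
    have hw : f w.1 ∈ W.map f := Submodule.mem_map_of_mem w.2
    rw [hf2, Submodule.mem_bot] at hw
    rw [← hφ]
    simp [hw]
  have hdim : Module.finrank k (Module.Dual k W₁ × Module.Dual k W₂) = Module.finrank k W₁ + Module.finrank k W₂ := by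
    rw [Module.finrank_prod, Subspace.dual_finrank_eq, Subspace.dual_finrank_eq]
  constructor
  · intro hcase
    have hsurj : LinearMap.range Φ = ⊤ := by
      have hadd : ∀ (a : Module.Dual k W₁) (b : Module.Dual k W₂),
          ((a, (0 : Module.Dual k W₂)) ∈ LinearMap.range Φ) → ((0 : Module.Dual k W₁), b) ∈ LinearMap.range Φ → (a, b) ∈ LinearMap.range Φ :=
        fun a b ha hb => by simpa using add_mem ha hb
      rw [eq_top_iff]
      rintro ⟨α, β⟩ -
      rcases eq_or_ne d 2 with hd2 | hd2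
      · have hd3 : ¬ 3 ≤ d := by omega
        have hnot : v₂ ∉ W₁ ∨ v₁ ∉ W₂ := by
          rcases hcase with h | h
          · exact absurd h hd3
          · exact not_and_or.mp h
        rcases hnot with hn | hn
        · have h1 : ∀ a, (a, (0 : Module.Dual k W₂)) ∈ LinearMap.range Φ := by
            intro a
            obtain ⟨φ, hφ, hφ0⟩ := hext0 W₁ v₂ hn a
            exact ⟨test hd ℓ₁ φ, by rw [hΦ1, hφ, hφ0, if_pos hd2, zero_smul]⟩
          refine hadd α β (h1 α) ?_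
          obtain ⟨ψ, hψ⟩ := hext W₂ β
          have := sub_mem (LinearMap.mem_range_self Φ (test hd ℓ₂ ψ)) (h1 (ψ v₁ • ℓ₂.domRestrict W₁))
          simpa [hΦ2, hψ, hd2] using this
        · have h1 : ∀ b, ((0 : Module.Dual k W₁), b) ∈ LinearMap.range Φ := by
            intro b
            obtain ⟨ψ, hψ, hψ0⟩ := hext0 W₂ v₁ hn b
            exact ⟨test hd ℓ₂ ψ, by rw [hΦ2, hψ, hψ0, if_pos hd2, zero_smul]⟩
          refine hadd α β ?_ (h1 β)
          obtain ⟨φ, hφ⟩ := hext W₁ α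
          have := sub_mem (LinearMap.mem_range_self Φ (test hd ℓ₁ φ)) (h1 (φ v₂ • ℓ₁.domRestrict W₂))
          simpa [hΦ1, hφ, hd2] using this
      · obtain ⟨φ, hφ⟩ := hext W₁ α
        obtain ⟨ψ, hψ⟩ := hext W₂ β
        exact hadd α β ⟨test hd ℓ₁ φ, by rw [hΦ1, hφ, if_neg hd2]⟩ ⟨test hd ℓ₂ ψ, by rw [hΦ2, hψ, if_neg hd2]⟩
    rw [hsurj, finrank_top, hdim] at hrn
    omega
  · rintro ⟨hd2, h21', h12'⟩
    let Λ : (Module.Dual k W₁ × Module.Dual k W₂) →ₗ[k] k :=
      (LinearMap.applyₗ (⟨v₂, h21'⟩ : W₁)).coprod (- LinearMap.applyₗ (⟨v₁, h12'⟩ : W₂))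
    have hΛ : ∀ a b, Λ (a, b) = a ⟨v₂, h21'⟩ - b ⟨v₁, h12'⟩ := fun a b => by simp [Λ, sub_eq_add_neg]
    have hrange : LinearMap.range Φ = LinearMap.ker Λ := by
      refine le_antisymm ?_ ?_
      · rintro _ ⟨F, rfl⟩
        rw [LinearMap.mem_ker, show Φ F = (T₁ F, T₂ F) from rfl, hΛ]
        simp only [T₁, T₂, T_apply, h12, h21, mul_zero, sub_zero]
        subst hd2
        rw [D_symm F v₂ v₁, sub_self]
      · rintro ⟨α, β⟩ hab
        rw [LinearMap.mem_ker, hΛ, sub_eq_zero] at hab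
        obtain ⟨φ, hφ⟩ := hext W₁ α
        obtain ⟨ψ, hψ⟩ := hext W₂ β
        have hφc : φ v₂ = α ⟨v₂, h21'⟩ := by rw [← hφ]; rfl
        have hψc : ψ v₁ = α ⟨v₂, h21'⟩ := by rw [hab, ← hψ]; rfl
        refine ⟨test hd ℓ₁ φ + test hd ℓ₂ ψ - (α ⟨v₂, h21'⟩) • test hd ℓ₁ ℓ₂, ?_⟩
        rw [map_sub, map_add, map_smul, hΦ1, hΦ2, hΦ1, if_pos hd2, if_pos hd2, if_pos hd2, hφ, hψ, hφc, hψc, h22]
        refine Prod.ext ?_ ?_ <;> simp <;> abel
    have hΛs : Function.Surjective Λ := by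
      intro c
      obtain ⟨φ, hφ1, hφ2⟩ : ∃ φ : (Fin (r + 1) → k) →ₗ[k] k, φ v₂ = c ∧ φ v₁ = 0 :=
        ⟨c • ℓ₂, by simp [h22], by simp [h21]⟩
      exact ⟨(φ.domRestrict W₁, 0), by rw [hΛ]; simp [hφ1]⟩
    have hk := Λ.finrank_range_add_finrank_ker
    rw [LinearMap.range_eq_top.mpr hΛs, finrank_top, Module.finrank_self, hdim] at hk
    rw [hrange] at hrn
    omega


end Groth.Agent.S4024
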