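import Groth.Statements.S4027
import Mathlib.Algebra.Polynomial.Laurent
import Mathlib.Algebra.MvPolynomial.Nilpotent
import Mathlib.RingTheory.Polynomial.GaussLemma
import Mathlib.RingTheory.Polynomial.UniqueFactorization

set_option autoImplicit false
universe u
open LefPen

namespace Groth.Agent.S4027


open Polynomial in
/-- If `F` is irreducible, with `F(0) ≠ 0`, its line substitution is irreducible in `k[X][T]`. -/
private theorem aux {k : Type u} [Field k] {σ : Type}
    (F : MvPolynomial σ k) (hF : Irreducible F) (hF0 : MvPolynomial.eval (fun _ => (0 : k)) F ≠ 0) :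
    (MvPolynomial.eval₂ (Polynomial.C.comp MvPolynomial.C)
        (fun j => Polynomial.C (MvPolynomial.X j) * Polynomial.X) F).IsPrimitive ∧
    Irreducible (MvPolynomial.eval₂ (Polynomial.C.comp MvPolynomial.C)
        (fun j => Polynomial.C (MvPolynomial.X j) * Polynomial.X) F) := by
  classical
  set sub : MvPolynomial σ k →+* (MvPolynomial σ k)[X] :=
    MvPolynomial.eval₂Hom (Polynomial.C.comp MvPolynomial.C)
      (fun j => Polynomial.C (MvPolynomial.X j) * Polynomial.X) with hsub
  change (sub F).IsPrimitive ∧ Irreducible (sub F)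
  set g : MvPolynomial σ k →+* LaurentPolynomial (MvPolynomial σ k) :=
    MvPolynomial.eval₂Hom (LaurentPolynomial.C.comp MvPolynomial.C)
      (fun j => LaurentPolynomial.C (MvPolynomial.X j) * LaurentPolynomial.T (-1)) with hg
  set θ : (MvPolynomial σ k)[X] →+* LaurentPolynomial (MvPolynomial σ k) :=
    Polynomial.eval₂RingHom g (LaurentPolynomial.T 1) with hθ
  have hθsub : θ.comp sub = LaurentPolynomial.C := by
    apply MvPolynomial.ringHom_ext
    · intro r; simp [hθ, hsub, hg]
    · intro j
      simp only [hθ, hsub, hg, RingHom.comp_apply, MvPolynomial.eval₂Hom_X', map_mul,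
        Polynomial.coe_eval₂RingHom, Polynomial.eval₂_C, Polynomial.eval₂_X]
      rw [mul_assoc, ← LaurentPolynomial.T_add]
      simp
  have hθinj : Function.Injective θ := by
    let K := FractionRing (MvPolynomial σ k)[X]
    let a := algebraMap (MvPolynomial σ k)[X] K
    have hX : a Polynomial.X ≠ 0 := by
      rw [Ne, map_eq_zero_iff a (IsFractionRing.injective _ K)]; exact Polynomial.X_ne_zero
    let x : Kˣ := Units.mk0 _ hX
    let ψ : LaurentPolynomial (MvPolynomial σ k) →+* K :=
      LaurentPolynomial.eval₂ (a.comp sub) x
    have hC : ψ.comp g = a.comp Polynomial.C := by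
      apply MvPolynomial.ringHom_ext
      · intro r; simp [ψ, hg, hsub]
      · intro j
        simp only [ψ, hg, hsub, RingHom.comp_apply, MvPolynomial.eval₂Hom_X', map_mul,
          LaurentPolynomial.eval₂_C, LaurentPolynomial.eval₂_T, zpow_neg_one]
        simp [x, mul_assoc, mul_inv_cancel₀ hX]
    have hall : ψ.comp θ = a := by
      apply Polynomial.ringHom_ext
      · intro p
        simpa [hθ] using RingHom.congr_fun hC p
      · simp [hθ, ψ, x]
    intro p q hpq
    apply IsFractionRing.injective (MvPolynomial σ k)[X] K
    change a p = a q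
    rw [← hall]; simp [hpq]
  have h0 : (sub F).coeff 0 = MvPolynomial.C (MvPolynomial.eval (fun _ => (0 : k)) F) := by
    have : Polynomial.constantCoeff.comp sub
        = MvPolynomial.C.comp (MvPolynomial.eval (fun _ => (0 : k))) := by
      apply MvPolynomial.ringHom_ext
      · intro r; simp [hsub]
      · intro j; simp [hsub]
    exact RingHom.congr_fun this F
  have hu0 : IsUnit ((sub F).coeff 0) := by
    rw [h0]; exact (IsUnit.mk0 _ hF0).map MvPolynomial.C
  have hprim : (sub F).IsPrimitive := by
    intro r hr
    exact isUnit_of_dvd_unit ((Polynomial.C_dvd_iff_dvd_coeff _ _).1 hr 0) hu0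
  refine ⟨hprim, ?_, ?_⟩
  · intro h
    have h1 : IsUnit ((Polynomial.evalRingHom (1 : MvPolynomial σ k)) (sub F)) := h.map _
    have : (Polynomial.evalRingHom (1 : MvPolynomial σ k)).comp sub = RingHom.id _ := by
      apply MvPolynomial.ringHom_ext
      · intro r; simp [hsub]
      · intro j; simp [hsub]
    rw [show (Polynomial.evalRingHom (1 : MvPolynomial σ k)) (sub F) = F from
      RingHom.congr_fun this F] at h1
    exact hF.not_isUnit h1
  · -- key step: a factor whose image is divisible only by powers of `T` is a unit
    have key : ∀ (A B : (MvPolynomial σ k)[X]) (p : (MvPolynomial σ k)[X]) (n j : ℕ),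
        sub F = A * B → Associated p (Polynomial.X ^ j) →
        p.toLaurent = θ B * LaurentPolynomial.T n → IsUnit B := by
      intro A B p n j hAB hp hpB
      obtain ⟨u, hu⟩ := hp.symm
      obtain ⟨c, hc, hcu⟩ := Polynomial.isUnit_iff.1 u.isUnit
      have hB0 : B.coeff 0 ≠ 0 := by
        intro h
        rw [hAB, Polynomial.mul_coeff_zero, h, mul_zero] at hu0
        exact not_isUnit_zero hu0
      have hgc : g c = LaurentPolynomial.C c := by
        obtain ⟨d, hd, rfl⟩ := MvPolynomial.isUnit_iff_eq_C_of_isReduced.1 hc
        simp [hg]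
      have hc0 : c ≠ 0 := hc.ne_zero
      have e : θ (B * Polynomial.X ^ n) = θ (Polynomial.C c * Polynomial.X ^ j) := by
        have t : ∀ m : ℕ, θ (Polynomial.X ^ m) = LaurentPolynomial.T (m : ℤ) := by
          intro m; simp [hθ, LaurentPolynomial.T_pow]
        rw [map_mul, map_mul, t, t, ← hpB, ← hu, ← hcu, map_mul, Polynomial.toLaurent_X_pow,
          Polynomial.toLaurent_C, mul_comm]
        congr 1
        simp only [hθ, Polynomial.coe_eval₂RingHom, Polynomial.eval₂_C, hgc]
      have e' := hθinj e
      have hnj : n = j := by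
        rcases Nat.lt_trichotomy n j with h | h | h
        · exfalso
          have := congrArg (fun q => Polynomial.coeff q n) e'
          simp [Polynomial.coeff_mul_X_pow', not_le.2 h] at this
          exact hB0 this
        · exact h
        · exfalso
          have := congrArg (fun q => Polynomial.coeff q j) e'
          simp [Polynomial.coeff_mul_X_pow', not_le.2 h] at this
          exact hc0 this.symm
      subst hnj
      rw [mul_right_cancel₀ (pow_ne_zero n Polynomial.X_ne_zero) e']
      exact hc.map Polynomial.C
    intro A B hAB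
    obtain ⟨n, p, hp⟩ := LaurentPolynomial.exists_T_pow (θ A)
    obtain ⟨m, q, hq⟩ := LaurentPolynomial.exists_T_pow (θ B)
    have hpq : p * q = Polynomial.C F * Polynomial.X ^ (n + m) := by
      apply Polynomial.toLaurent_injective
      have : θ A * θ B = LaurentPolynomial.C F := by
        rw [← map_mul, ← hAB]; exact RingHom.congr_fun hθsub F
      rw [map_mul, map_mul, hp, hq, Polynomial.toLaurent_C, Polynomial.toLaurent_X_pow, Nat.cast_add,
        LaurentPolynomial.T_add, ← this]
      ring
    have hP : Prime (Polynomial.C F) := Polynomial.prime_C_iff.2 hF.prime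
    rcases hP.dvd_or_dvd (hpq ▸ dvd_mul_right (Polynomial.C F) _ : Polynomial.C F ∣ p * q) with
      ⟨p', h⟩ | ⟨q', h⟩
    · right
      have : p' * q = Polynomial.X ^ (n + m) := by
        apply mul_left_cancel₀ hP.ne_zero
        rw [← mul_assoc, ← h, hpq]
      obtain ⟨j, -, hj⟩ := (dvd_prime_pow Polynomial.prime_X _).1 (this ▸ dvd_mul_left q p')
      exact key A B q m j hAB hj hq
    · left
      have : p * q' = Polynomial.X ^ (n + m) := by
        apply mul_left_cancel₀ hP.ne_zero
        rw [← mul_assoc, mul_comm _ p, mul_assoc, ← h, hpq]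
      obtain ⟨j, -, hj⟩ := (dvd_prime_pow Polynomial.prime_X _).1 (this ▸ dvd_mul_right p q')
      exact key B A p n j (hAB.trans (mul_comm A B)) hj hp

/-- Let k be an algebraically closed field, r ≥ 2, and F ∈ k[X_1, …, X_r] an irreducible polynomial with
F(0) ≠ 0 (in the source the origin is the base point of the lines considered and lies off the
hypersurface F = 0; without this the claim fails, e.g. for X_1 - X_2^2). Then the polynomial G(T) =
F(X_1 T, …, X_r T), with coefficients in the field of rational functions k(X_1, …, X_r), is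
irreducible. -/
theorem result (k : Type u) [Field k] [IsAlgClosed k] (r : ℕ) (hr : 2 ≤ r)
    (F : MvPolynomial (Fin r) k) (hF : Irreducible F) (hF0 : MvPolynomial.eval (fun _ => (0 : k)) F ≠ 0) :
    Irreducible ((MvPolynomial.eval₂ (Polynomial.C.comp MvPolynomial.C)
        (fun j => Polynomial.C (MvPolynomial.X j) * Polynomial.X) F).map
      (algebraMap (MvPolynomial (Fin r) k) (FractionRing (MvPolynomial (Fin r) k)))) := by
  obtain ⟨hprim, hirr⟩ := aux F hF hF0
  exact hprim.irreducible_iff_irreducible_map_fraction_map.1 hirr

end Groth.Agent.S4027
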