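import Groth.Statements.S4039
import Groth.Agent.Lib.Quad45.Geom

set_option autoImplicit false
universe u
open CategoryTheory CategoryTheory.Limits AlgebraicGeometry
open LefPen

namespace Groth.Agent.S4039

/-- Let k be a finite field with q elements, n ≥ 0, and Q a quadratic form in n + 2 variables over k
whose zero scheme X = V(Q) ⊆ P^{n+1}_k is smooth over k of relative dimension n (a smooth quadric of
dimension n over k). Then the number of k-rational points of X is Σ_{i=0}^{n} q^i if n is odd, and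
Σ_{i=0}^{n} q^i + ε q^{n/2} with ε = 1 or ε = -1 if n is even, where ε = 1 exactly when X is split,
i.e. contains a k-rational linear subspace of dimension n/2 (Q vanishes on a subspace of k^{n+2} of
dimension n/2 + 1). -/
theorem result (k : Type u) [Field k] [Fintype k] (n : ℕ) (Q : LefPen.Form (n + 1) k 2)
    [SmoothOfRelativeDimension n ((LefPen.hypIdeal Q).subschemeι ≫ CohB1.ProjSpace.toSpec (n + 1) k)] :
    (Odd n → (SgaExt.pointCount ((LefPen.hypIdeal Q).subschemeι ≫ CohB1.ProjSpace.toSpec (n + 1) k) k : ℤ) =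
      ∑ i ∈ Finset.range (n + 1), (Fintype.card k : ℤ) ^ i) ∧
    (Even n → ∃ ε : ℤ, (ε = 1 ∨ ε = -1) ∧
      (SgaExt.pointCount ((LefPen.hypIdeal Q).subschemeι ≫ CohB1.ProjSpace.toSpec (n + 1) k) k : ℤ) =
        (∑ i ∈ Finset.range (n + 1), (Fintype.card k : ℤ) ^ i) + ε * (Fintype.card k : ℤ) ^ (n / 2) ∧
      (ε = 1 ↔ ∃ W : Submodule k (Fin (n + 1 + 1) → k), Module.finrank k ↥W = n / 2 + 1 ∧
        ∀ w ∈ W, MvPolynomial.eval w Q.1 = 0)) := by
  classical
  obtain ⟨φ, hev, hpol⟩ := Groth.Agent.Lib.Quad45.Geom.exists_quadraticForm Q.1 Q.2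
  have hnd := Groth.Agent.Lib.Quad45.Geom.nondeg_of_smooth Q φ hev hpol
  have hd : Module.finrank k (Fin (n + 1 + 1) → k) = n + 2 := by
    rw [Module.finrank_fintype_fun_eq_card, Fintype.card_fin]
  obtain ⟨hodd, heven⟩ :=
    Groth.Agent.Lib.Quad45.Count.card_zeros_eq (n + 2) _ φ hnd hd
  have hZ : (Nat.card k - 1) *
      SgaExt.pointCount ((LefPen.hypIdeal Q).subschemeι ≫ CohB1.ProjSpace.toSpec (n + 1) k) k + 1 =
      Nat.card { v // φ v = 0 } := by
    rcases Groth.Agent.Lib.Quad45.Geom.units_mul_points Q with h | h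
    · rw [h]
      exact Nat.card_congr (Equiv.subtypeEquivRight fun v => by rw [hev])
    · exact absurd (by rw [← hev, map_zero]) h
  generalize SgaExt.pointCount ((LefPen.hypIdeal Q).subschemeι ≫ CohB1.ProjSpace.toSpec (n + 1) k) k = P
    at hZ ⊢
  rw [Nat.card_eq_fintype_card] at hZ
  set q := (Fintype.card k : ℤ) with hq
  have hq1 : 2 ≤ Fintype.card k := Fintype.one_lt_card
  have hZ' : (Nat.card { v // φ v = 0 } : ℤ) = (q - 1) * P + 1 := by
    rw [← hZ, hq]
    push_cast [Nat.cast_sub (show 1 ≤ Fintype.card k by omega)]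
    ring
  have hne : q * (q - 1) ≠ 0 := mul_ne_zero (by omega) (by omega)
  have hgeom := geom_sum_mul q (n + 1)
  rw [Nat.card_eq_fintype_card (α := k)] at hodd heven
  refine ⟨fun ho => ?_, fun he => ?_⟩
  · have h := hodd (by simpa [parity_simps] using ho)
    rw [hZ'] at h
    refine mul_left_cancel₀ hne ?_
    linear_combination h - q * hgeom
  · obtain ⟨l, rfl⟩ := he
    have hl : (l + l) / 2 = l := by omega
    rw [hl]
    have key : ∀ ε : ℤ, (ε = 1 ∧ Groth.Agent.Lib.Quad45.Count.HasIso φ (l + 1) ∨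
        ε = -1 ∧ ¬ Groth.Agent.Lib.Quad45.Count.HasIso φ (l + 1)) →
        (P : ℤ) = ∑ i ∈ Finset.range (l + l + 1), q ^ i + ε * q ^ l := by
      intro ε hε
      have h := heven (l + 1) (by omega) ε hε
      rw [hZ'] at h
      refine mul_left_cancel₀ hne ?_
      linear_combination h - q * hgeom
    have hiff : Groth.Agent.Lib.Quad45.Count.HasIso φ (l + 1) ↔
        ∃ W : Submodule k (Fin (l + l + 1 + 1) → k), Module.finrank k ↥W = l + 1 ∧
          ∀ w ∈ W, MvPolynomial.eval w Q.1 = 0 := by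
      simp [Groth.Agent.Lib.Quad45.Count.HasIso, hev]
    by_cases hW : Groth.Agent.Lib.Quad45.Count.HasIso φ (l + 1)
    · exact ⟨1, Or.inl rfl, key 1 (Or.inl ⟨rfl, hW⟩), iff_of_true rfl (hiff.1 hW)⟩
    · exact ⟨-1, Or.inr rfl, key (-1) (Or.inr ⟨rfl, hW⟩),
        iff_of_false (by norm_num) (fun h => hW (hiff.2 h))⟩

end Groth.Agent.S4039
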