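import Groth.Statements.S4047
import Mathlib.RingTheory.WittVector.Complete
import Mathlib.RingTheory.WittVector.Teichmuller
import Mathlib.RingTheory.WittVector.Domain
import Mathlib.NumberTheory.Basic
import Mathlib.Algebra.BigOperators.ModEq
import Mathlib.NumberTheory.Padics.PadicVal.Basic
import Mathlib.Data.Nat.Choose.Multinomial
import Mathlib.Data.Nat.Digits.Lemmas
import Mathlib.FieldTheory.Finite.Basic
import Mathlib.FieldTheory.Perfect
import Mathlib.RingTheory.MvPolynomial.Homogeneous

set_option autoImplicit false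
universe u
open LefPen

namespace Groth.Agent.S4047

/-- Rotated digit sum: `B p f L l = ∑_e L[e] * p ^ ((e + l) % f)`. -/
def B (p f : ℕ) : List ℕ → ℕ → ℕ
  | [], _ => 0
  | d :: L, l => d * p ^ (l % f) + B p f L (l + 1)

theorem B_modEq (p f : ℕ) (hp : 1 ≤ p) (L : List ℕ) : ∀ l,
    B p f L l ≡ p ^ l * Nat.ofDigits p L [MOD p ^ f - 1] := by
  induction L with
  | nil => intro l; simp [B, Nat.ModEq.refl]
  | cons d L ih =>
    intro l
    have h1 : p ^ l ≡ p ^ (l % f) [MOD p ^ f - 1] := by
      conv_lhs => rw [← Nat.mod_add_div l f, pow_add, pow_mul]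
      have h0 : p ^ f ≡ 1 [MOD p ^ f - 1] :=
        ((Nat.modEq_iff_dvd' (Nat.one_le_pow _ _ hp)).2 dvd_rfl).symm
      simpa using Nat.ModEq.mul_left (p ^ (l % f)) (h0.pow (l / f))
    rw [B, Nat.ofDigits_cons, mul_add, show p ^ l * (p * Nat.ofDigits p L) = p ^ (l + 1) * Nat.ofDigits p L by ring,
      mul_comm (p ^ l) d]
    exact Nat.ModEq.add (Nat.ModEq.mul_left d h1.symm) (ih (l + 1))

theorem B_pos (p f : ℕ) (hp : 0 < p) (L : List ℕ) (h : Nat.ofDigits p L ≠ 0) : ∀ l, 0 < B p f L l := by
  induction L with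
  | nil => simp at h
  | cons d L ih =>
    intro l
    rcases Nat.eq_zero_or_pos d with rfl | hd
    · have h' : Nat.ofDigits p L ≠ 0 := fun h' => h (by rw [Nat.ofDigits_cons, h']; simp)
      exact lt_of_lt_of_le (ih h' (l + 1)) (Nat.le_add_left _ _)
    · exact lt_of_lt_of_le (Nat.mul_pos hd (pow_pos hp _)) (Nat.le_add_right _ _)

theorem sum_rotate (p f : ℕ) (hf : 0 < f) : ∀ l₀,
    ∑ l ∈ Finset.range f, p ^ ((l + l₀) % f) = ∑ l ∈ Finset.range f, p ^ l := by
  intro l₀
  induction l₀ with
  | zero => exact Finset.sum_congr rfl fun l hl => by rw [add_zero, Nat.mod_eq_of_lt (Finset.mem_range.1 hl)]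
  | succ m ih =>
    rw [← ih]
    obtain ⟨g, rfl⟩ : ∃ g, f = g + 1 := ⟨f - 1, by omega⟩
    rw [Finset.sum_range_succ' (fun l => p ^ ((l + m) % (g + 1))), Finset.sum_range_succ]
    refine congrArg₂ _ (Finset.sum_congr rfl fun l _ => by rw [Nat.add_right_comm, add_assoc]) ?_
    simp only [Nat.zero_add]
    rw [show g + (m + 1) = m + (g + 1) by omega, Nat.add_mod_right]

theorem B_sum (p f : ℕ) (hp : 2 ≤ p) (hf : 0 < f) (L : List ℕ) : ∀ l₀,
    (p - 1) * ∑ l ∈ Finset.range f, B p f L (l + l₀) = (p ^ f - 1) * L.sum := by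
  induction L with
  | nil => simp [B]
  | cons d L ih =>
    intro l₀
    simp only [B, Finset.sum_add_distrib, ← Finset.mul_sum, List.sum_cons, mul_add]
    rw [sum_rotate p f hf l₀, Finset.sum_congr rfl (fun l _ => by rw [add_assoc] :
      ∀ l ∈ Finset.range f, B p f L (l + l₀ + 1) = B p f L (l + (l₀ + 1))), ih (l₀ + 1)]
    congr 1
    have h := Nat.geomSum_eq hp f
    have hdvd : p - 1 ∣ p ^ f - 1 := by simpa using Nat.sub_dvd_pow_sub_pow p 1 f
    rw [h, ← mul_assoc, mul_comm (p - 1) d, mul_assoc, Nat.mul_div_cancel' hdvd, mul_comm]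

theorem factorial_val (p : ℕ) [Fact p.Prime] (n : ℕ) :
    (p - 1) * padicValNat p n.factorial + (p.digits n).sum = n := by
  rw [sub_one_mul_padicValNat_factorial]
  exact Nat.sub_add_cancel (Nat.digit_sum_le p n)

theorem prod_factorial_val (p : ℕ) [Fact p.Prime] {E : Type*} (s : Finset E) (a : E → ℕ) :
    padicValNat p (∏ t ∈ s, (a t).factorial) = ∑ t ∈ s, padicValNat p (a t).factorial := by
  induction s using Finset.cons_induction with
  | empty => simp
  | cons t s ht ih =>
    rw [Finset.prod_cons, Finset.sum_cons,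
      padicValNat.mul (a t).factorial_ne_zero (Finset.prod_ne_zero_iff.2 fun t _ => (a t).factorial_ne_zero), ih]

/-- The key `p`-divisibility of the multinomial coefficient. -/
theorem multinomial_bound {E ι : Type*} [DecidableEq ι] [Fintype ι] (p f : ℕ) [hp : Fact p.Prime] (hf : 0 < f)
    (s : Finset E) (e : E → ι → ℕ) (a : E → ℕ) (d j N m : ℕ)
    (hd : 0 < d) (he : ∀ t ∈ s, ∑ i, e t i = d) (hN : Fintype.card ι = N) (hj : j * d < N)
    (hu : ∀ i, p ^ f - 1 ∣ ∑ t ∈ s, e t i * a t)
    (ha : ∑ t ∈ s, a t = p ^ m * (p ^ f - 1)) :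
    p ^ (f * j) ∣ Nat.multinomial s a *
      (p ^ f) ^ (Finset.univ.filter fun i => ∑ t ∈ s, e t i * a t = 0).card := by
  have hp2 := hp.out.two_le
  set Q := p ^ f - 1
  have hQ : 0 < Q := Nat.sub_pos_of_lt (Nat.one_lt_pow hf.ne' hp2)
  set z := (Finset.univ.filter fun i => ∑ t ∈ s, e t i * a t = 0).card
  set S := Finset.univ.filter fun i => ¬ ∑ t ∈ s, e t i * a t = 0
  have hzS : z + S.card = N := by
    rw [← hN, ← Finset.card_univ]; exact Finset.card_filter_add_card_filter_not _
  -- each rotation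
  have hl : ∀ l, Q * (j + 1 - z) ≤ ∑ t ∈ s, B p f (p.digits (a t)) l := by
    intro l
    have hmod : ∀ t, B p f (p.digits (a t)) l ≡ p ^ l * a t [MOD Q] := fun t => by
      have := B_modEq p f (by omega) (p.digits (a t)) l
      rwa [Nat.ofDigits_digits] at this
    have hpos : ∀ t, a t ≠ 0 → 0 < B p f (p.digits (a t)) l := fun t ht =>
      B_pos p f (by omega) _ (by rwa [Nat.ofDigits_digits]) l
    obtain ⟨k, hk⟩ : Q ∣ ∑ t ∈ s, B p f (p.digits (a t)) l := by
      refine Nat.modEq_zero_iff_dvd.1 ((Nat.ModEq.sum fun t _ => hmod t).trans ?_)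
      rw [← Finset.mul_sum, ha, Nat.modEq_zero_iff_dvd]
      exact Dvd.intro_left _ (mul_assoc _ _ _)
    have hk1 : 1 ≤ k := by
      obtain ⟨t, ht, hat⟩ := Finset.exists_ne_zero_of_sum_ne_zero
        (ha ▸ (Nat.mul_pos (pow_pos (by omega) m) hQ).ne' : ∑ t ∈ s, a t ≠ 0)
      have := lt_of_lt_of_le (hpos t hat) (Finset.single_le_sum (fun t _ => Nat.zero_le (B p f (p.digits (a t)) l)) ht)
      rw [hk] at this
      exact Nat.pos_of_mul_pos_left this
    have hk2 : S.card ≤ d * k := by
      refine Nat.le_of_mul_le_mul_left ?_ hQ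
      calc Q * S.card = ∑ _i ∈ S, Q := by rw [Finset.sum_const, smul_eq_mul, mul_comm]
        _ ≤ ∑ i ∈ S, ∑ t ∈ s, e t i * B p f (p.digits (a t)) l := by
          refine Finset.sum_le_sum fun i hi => Nat.le_of_dvd ?_ ?_
          · obtain ⟨t, ht, hte⟩ := Finset.exists_ne_zero_of_sum_ne_zero (Finset.mem_filter.1 hi).2
            exact lt_of_lt_of_le (Nat.mul_pos (Nat.pos_of_ne_zero (left_ne_zero_of_mul hte))
              (hpos t (right_ne_zero_of_mul hte)))
              (Finset.single_le_sum (fun t _ => Nat.zero_le (e t i * B p f (p.digits (a t)) l)) ht)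
          · refine Nat.modEq_zero_iff_dvd.1 ((Nat.ModEq.sum fun t _ => (hmod t).mul_left (e t i)).trans ?_)
            rw [Nat.modEq_zero_iff_dvd, Finset.sum_congr rfl (fun t _ => Nat.mul_left_comm (e t i) (p ^ l) (a t)), ← Finset.mul_sum]
            exact dvd_mul_of_dvd_right (hu i) _
        _ ≤ ∑ i, ∑ t ∈ s, e t i * B p f (p.digits (a t)) l :=
          Finset.sum_le_sum_of_subset (Finset.filter_subset _ _)
        _ = ∑ t ∈ s, d * B p f (p.digits (a t)) l := by
          rw [Finset.sum_comm]
          exact Finset.sum_congr rfl fun t ht => by rw [← Finset.sum_mul, he t ht]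
        _ = Q * (d * k) := by rw [← Finset.mul_sum, hk, Nat.mul_left_comm]
    rw [hk]
    refine Nat.mul_le_mul_left _ ?_
    by_contra hcon
    nlinarith [Nat.mul_le_mul_left d (show k + z ≤ j by omega), Nat.le_mul_of_pos_left z hd]
  have hsum : (p - 1) * (f * (j + 1 - z)) ≤ ∑ t ∈ s, (p.digits (a t)).sum := by
    refine Nat.le_of_mul_le_mul_left ?_ hQ
    calc Q * ((p - 1) * (f * (j + 1 - z))) = (p - 1) * ∑ _l ∈ Finset.range f, Q * (j + 1 - z) := by
          rw [Finset.sum_const, Finset.card_range, smul_eq_mul]; ring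
      _ ≤ (p - 1) * ∑ l ∈ Finset.range f, ∑ t ∈ s, B p f (p.digits (a t)) (l + 0) :=
          Nat.mul_le_mul_left _ (Finset.sum_le_sum fun l _ => hl _)
      _ = Q * ∑ t ∈ s, (p.digits (a t)).sum := by
          rw [Finset.sum_comm, Finset.mul_sum, Finset.mul_sum]
          exact Finset.sum_congr rfl fun t _ => B_sum p f hp2 hf _ 0
  -- digits of the total
  have hM : (p.digits (p ^ m * Q)).sum ≤ (p - 1) * f := by
    rw [Nat.digits_base_pow_mul hp2 hQ, List.sum_append, List.sum_replicate, smul_zero, zero_add]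
    refine (List.sum_le_card_nsmul _ (p - 1) fun x hx => Nat.le_sub_one_of_lt (Nat.digits_lt_base hp2 hx)).trans ?_
    rw [smul_eq_mul, mul_comm]
    exact Nat.mul_le_mul_left _ ((Nat.digits_length_le_iff hp2 Q).2 (Nat.sub_lt (pow_pos (by omega) f) one_pos))
  -- valuation of the coefficient
  set v := padicValNat p (Nat.multinomial s a)
  have hval : (p - 1) * v + (p.digits (p ^ m * Q)).sum = ∑ t ∈ s, (p.digits (a t)).sum := by
    have h1 : padicValNat p (∑ t ∈ s, a t).factorial = (∑ t ∈ s, padicValNat p (a t).factorial) + v := by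
      rw [← Nat.multinomial_spec s a, padicValNat.mul (Finset.prod_ne_zero_iff.2 fun t _ => (a t).factorial_ne_zero)
        (Nat.multinomial_pos s a).ne']
      rw [prod_factorial_val]
    have h2 := factorial_val p (∑ t ∈ s, a t)
    have h3 : ∑ t ∈ s, ((p - 1) * padicValNat p (a t).factorial + (p.digits (a t)).sum) = ∑ t ∈ s, a t :=
      Finset.sum_congr rfl fun t _ => factorial_val p (a t)
    rw [Finset.sum_add_distrib, ← Finset.mul_sum] at h3
    rw [h1, mul_add, ha] at h2
    rw [ha] at h3
    omega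
  have hv : f * j ≤ v + f * z := by
    have h4 : (p - 1) * (f * (j + 1 - z)) ≤ (p - 1) * (v + f) := by rw [mul_add]; omega
    have h5 := Nat.le_of_mul_le_mul_left h4 (by omega)
    rcases Nat.lt_or_ge j z with h | h
    · have := Nat.mul_le_mul_left f h.le; omega
    · obtain ⟨c, rfl⟩ := Nat.exists_eq_add_of_le h
      rw [show z + c + 1 - z = c + 1 by omega, Nat.mul_add, mul_one] at h5
      rw [Nat.mul_add]; omega
  refine (pow_dvd_pow p hv).trans ?_
  rw [pow_add, pow_mul]
  exact Nat.mul_dvd_mul_right pow_padicValNat_dvd _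

open WittVector in
theorem pow_dvd_of_cast (p : ℕ) [hp : Fact p.Prime] (k : Type*) [Field k] [CharP k p] [PerfectRing k p] (n c : ℕ)
    (h : (p : WittVector p k) ^ n ∣ (c : WittVector p k)) : p ^ n ∣ c := by
  rcases eq_or_ne c 0 with rfl | hc
  · exact dvd_zero _
  obtain ⟨v, c', hc', rfl⟩ := Nat.exists_eq_pow_mul_and_not_dvd hc p hp.out.ne_one
  rcases le_or_gt n v with hv | hv
  · exact (pow_dvd_pow p hv).trans (Dvd.intro _ rfl)
  exfalso
  rw [Nat.cast_mul, Nat.cast_pow, show n = v + (n - v) by omega, pow_add,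
    mul_dvd_mul_iff_left (pow_ne_zero _ (WittVector.p_nonzero p k))] at h
  have h1 := map_dvd WittVector.constantCoeff ((dvd_pow_self _ (by omega : n - v ≠ 0)).trans h)
  rw [map_natCast, map_natCast, CharP.cast_eq_zero, zero_dvd_iff, CharP.cast_eq_zero_iff k p] at h1
  exact hc' h1

open Classical in
theorem sum_teichmuller_pow (p : ℕ) [hp : Fact p.Prime] (k : Type*) [Field k] [Fintype k] [CharP k p] (u : ℕ)
    (hu : ¬ Fintype.card k - 1 ∣ u) : ∑ z : k, (WittVector.teichmuller p z) ^ u = 0 := by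
  obtain ⟨g, hg⟩ := IsCyclic.exists_generator (α := kˣ)
  have h1 : (g : k) ^ u ≠ 1 := fun h => hu (by
    rw [← Fintype.card_units, ← Nat.card_eq_fintype_card, ← orderOf_eq_card_of_forall_mem_zpowers hg]
    exact orderOf_dvd_of_pow_eq_one (Units.ext (by simpa using h)))
  have h2 : WittVector.teichmuller p (g : k) ^ u ≠ 1 := fun h => h1 (by
    have := congrArg WittVector.constantCoeff h
    rwa [map_pow, map_one, WittVector.constantCoeff_apply, WittVector.teichmuller_coeff_zero] at this)
  have h3 : WittVector.teichmuller p (g : k) ^ u * ∑ z : k, WittVector.teichmuller p z ^ u = ∑ z : k, WittVector.teichmuller p z ^ u := by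
    rw [Finset.mul_sum]
    simp_rw [← mul_pow, ← map_mul]
    exact Fintype.sum_equiv (Equiv.mulLeft₀ (g : k) g.ne_zero) _ _ fun _ => rfl
  exact (mul_left_eq_self₀.1 h3).resolve_left h2


/-- Let k be a finite field with q elements, F a homogeneous form of degree d > 0 in N variables over k,
and j a natural number with j d < N. Then q^j divides the number of zeros of F in k^N. -/
theorem result (k : Type u) [Field k] [Fintype k] [DecidableEq k] (N d j : ℕ)
    (hd : 0 < d) (F : MvPolynomial (Fin N) k) (hF : F.IsHomogeneous d) (hj : j * d < N) :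
    Fintype.card k ^ j ∣ Fintype.card {x : Fin N → k // MvPolynomial.eval x F = 0} := by
  obtain ⟨p, hchar⟩ := CharP.exists k
  obtain ⟨f, hp, hq⟩ := FiniteField.card k p
  have : Fact p.Prime := ⟨hp⟩
  have : PerfectRing k p := PerfectRing.ofFiniteOfIsReduced p k
  set q := Fintype.card k with hqdef
  let T : k →* WittVector p k := WittVector.teichmuller p
  have hT : ∀ z, WittVector.constantCoeff (T z) = z := fun z => by
    rw [WittVector.constantCoeff_apply]; exact WittVector.teichmuller_coeff_zero p z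
  have hker : ∀ y : WittVector p k, WittVector.constantCoeff y = 0 → (p : WittVector p k) ∣ y := fun y hy => by
    rwa [← RingHom.mem_ker, WittVector.ker_constantCoeff, Ideal.mem_span_singleton] at hy
  set m := (f : ℕ) * j
  let M := p ^ m * (p ^ (f : ℕ) - 1)
  have hf : 0 < (f : ℕ) := f.pos
  have hQ : 0 < p ^ (f : ℕ) - 1 := Nat.sub_pos_of_lt (Nat.one_lt_pow hf.ne' hp.two_le)
  let G : (Fin N → k) → WittVector p k := fun x =>
    ∑ e ∈ F.support, T (F.coeff e) * ∏ i, T (x i) ^ e i
  have hG : ∀ x, WittVector.constantCoeff (G x) = MvPolynomial.eval x F := fun x => by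
    rw [MvPolynomial.eval_eq', map_sum]
    refine Finset.sum_congr rfl fun e _ => ?_
    rw [map_mul, map_prod, hT]
    simp only [map_pow, hT]
  -- (1) the indicator
  have hind : ∀ x, (p : WittVector p k) ^ m ∣
      G x ^ M - (if MvPolynomial.eval x F = 0 then 0 else 1) := by
    intro x
    split_ifs with h
    · rw [sub_zero]
      refine ((pow_dvd_pow _ ?_).trans (pow_dvd_pow_of_dvd (hker _ ((hG x).trans h)) M))
      exact (Nat.lt_pow_self hp.one_lt).le.trans (Nat.le_mul_of_pos_right _ hQ)
    · have h1 : (p : WittVector p k) ∣ G x ^ (p ^ (f : ℕ) - 1) - 1 := hker _ (by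
        rw [map_sub, map_pow, map_one, hG, ← hq, FiniteField.pow_card_sub_one_eq_one _ h, sub_self])
      have h2 := dvd_sub_pow_of_dvd_sub h1 m
      rw [one_pow, ← pow_mul] at h2
      refine (pow_dvd_pow _ (Nat.le_succ m)).trans ?_
      rw [show M = (p ^ (f : ℕ) - 1) * p ^ m from mul_comm _ _]
      exact h2
  -- (2) the power sum
  have hsum : (p : WittVector p k) ^ m ∣ ∑ x, G x ^ M := by
    simp only [G, Finset.sum_pow_eq_sum_piAntidiag]
    rw [Finset.sum_comm]
    refine Finset.dvd_sum fun a ha => ?_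
    rw [← Finset.mul_sum]
    simp only [mul_pow, Finset.prod_mul_distrib, ← Finset.prod_pow, ← pow_mul]
    rw [← Finset.mul_sum]
    have hrw : ∀ x : Fin N → k, (∏ e ∈ F.support, ∏ i, T (x i) ^ (e i * a e)) =
        ∏ i, T (x i) ^ (∑ e ∈ F.support, e i * a e) := fun x => by
      rw [Finset.prod_comm]; simp only [Finset.prod_pow_eq_pow_sum]
    simp only [hrw]
    rw [← Fintype.prod_sum (fun i z => T z ^ (∑ e ∈ F.support, e i * a e))]
    by_cases hu : ∀ i, p ^ (f : ℕ) - 1 ∣ ∑ e ∈ F.support, e i * a e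
    · have hb := multinomial_bound p f hf F.support (fun e i => e i) a d j N m hd
        (fun e he => by
          rw [← Finsupp.degree_eq_sum]
          have := hF (MvPolynomial.mem_support_iff.1 he)
          rwa [Finsupp.degree_eq_weight_one]) (Fintype.card_fin N) hj hu
        (Finset.mem_piAntidiag.1 ha).1
      have hb' := map_dvd (Nat.castRingHom (WittVector p k)) hb
      simp only [map_mul, map_pow, eq_natCast] at hb'
      refine hb'.trans (mul_dvd_mul_left _ (Dvd.dvd.mul_left ?_ _))
      rw [← Finset.prod_const]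
      refine (dvd_of_eq (Finset.prod_congr rfl fun i hi => ?_)).trans
        (Finset.prod_dvd_prod_of_subset _ _ _ (Finset.filter_subset _ _))
      rw [(Finset.mem_filter.1 hi).2]
      simp [← hqdef, hq]
    · push Not at hu
      obtain ⟨i, hi⟩ := hu
      rw [Finset.prod_eq_zero (Finset.mem_univ i) (sum_teichmuller_pow p k _ (by rwa [← hqdef, hq])), mul_zero, mul_zero]
      exact dvd_zero _
  -- (3) conclusion
  set Z := Fintype.card {x : Fin N → k // MvPolynomial.eval x F = 0}
  have hnz : (∑ x : Fin N → k, if MvPolynomial.eval x F = 0 then (0 : WittVector p k) else 1) =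
      (q : WittVector p k) ^ N - Z := by
    have h1 : (∑ x : Fin N → k, if MvPolynomial.eval x F = 0 then (0 : WittVector p k) else 1) +
        (∑ x : Fin N → k, if MvPolynomial.eval x F = 0 then (1 : WittVector p k) else 0) = (q : WittVector p k) ^ N := by
      rw [← Finset.sum_add_distrib, Finset.sum_congr rfl (fun x _ => show _ = (1 : WittVector p k) by split_ifs <;> simp)]
      simp [hqdef]
    rw [Finset.sum_boole, ← Fintype.card_subtype] at h1
    exact eq_sub_of_add_eq h1
  have hZ : (p : WittVector p k) ^ m ∣ (Z : WittVector p k) := by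
    have h1 := dvd_sub hsum (Finset.dvd_sum fun x (_ : x ∈ Finset.univ) => hind x)
    rw [Finset.sum_sub_distrib, sub_sub_cancel, hnz] at h1
    have h2 : (p : WittVector p k) ^ m ∣ (q : WittVector p k) ^ N := by
      rw [hq, Nat.cast_pow, ← pow_mul]
      exact pow_dvd_pow _ (Nat.mul_le_mul_left _ (by nlinarith))
    simpa using dvd_sub h2 h1
  rw [hq, ← pow_mul]
  exact pow_dvd_of_cast p k m Z hZ

end Groth.Agent.S4047
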