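import Groth.Statements.S4058
import Groth.Agent.S19653

set_option autoImplicit false
universe u
open CategoryTheory CategoryTheory.Limits AlgebraicGeometry MonObj
open SGA7

namespace Groth.Agent.S4058

/-- A field-valued preimmersion computes the fibre at its image. -/
theorem exists_iso_fibre {X S : Scheme.{u}} (f : X ⟶ S) {K : Type u} [Field K]
    (g : Spec (CommRingCat.of K) ⟶ S) [IsPreimmersion g] (s : S)
    (hs : g (IsLocalRing.closedPoint K) = s) :
    ∃ (a : Spec (CommRingCat.of K) ≅ Spec (S.residueField s))
      (e : pullback f g ≅ f.fiber s), e.hom ≫ f.fiberToSpecResidueField s = pullback.snd f g ≫ a.hom := by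
  subst hs
  set s := g (IsLocalRing.closedPoint K)
  let a := Spec.map (S.descResidueField (Scheme.stalkClosedPointTo g))
  have ha : a ≫ S.fromSpecResidueField s = g :=
    S.descResidueField_stalkClosedPointTo_fromSpecResidueField K g
  haveI : IsPreimmersion (a ≫ S.fromSpecResidueField s) := by rw [ha]; infer_instance
  haveI : IsPreimmersion a := IsPreimmersion.of_comp a (S.fromSpecResidueField s)
  haveI : Surjective a := ⟨fun x => ⟨IsLocalRing.closedPoint K, Subsingleton.elim _ _⟩⟩
  haveI : IsClosedImmersion a := IsClosedImmersion.of_isPreimmersion a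
    (by rw [Set.range_eq_univ.2 a.surjective]; exact isClosed_univ)
  haveI : IsIso a := isIso_of_isClosedImmersion_of_surjective a
  have sq : IsPullback (pullback.fst f g) (pullback.snd f g ≫ a) f (S.fromSpecResidueField s) :=
    IsPullback.of_iso (IsPullback.of_hasPullback f g) (Iso.refl _) (Iso.refl _) (asIso a) (Iso.refl _)
      (by simp) (by simp) (by simp) (by simp [ha])
  exact ⟨asIso a, sq.isoPullback, sq.isoPullback_hom_snd⟩

/-- (iii) ⇒ (iv): let R be a discrete valuation ring with fraction field K and residue field k, and N a
group scheme over Spec R which is a Néron model of its generic fibre, an abelian variety over K. If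
the special fibre N ×_R k is proper over k, then N is proper over Spec R. (In (iii) as published the
special fibre is an abelian variety; connectedness of the special fibre is not assumed here.) -/
theorem result (R K : Type u) [CommRing R] [IsDomain R] [IsDiscreteValuationRing R] [Field K]
    [Algebra R K] [IsFractionRing R K]
    (N : Over (Spec (CommRingCat.of R))) [GrpObj N] (hN : SGA7.IsNeron R K N)
    [IsProper ((SGA7.genFib R K).obj N).hom] [GeometricallyIntegral ((SGA7.genFib R K).obj N).hom]
    [IsProper (Red.bc (Spec.map (CommRingCat.ofHom (IsLocalRing.residue R))) N).hom] :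
    IsProper N.hom := by
  obtain ⟨hsm, hsep, hqc, -⟩ := hN
  haveI := hsm; haveI := hsep; haveI := hqc
  let S := Spec (CommRingCat.of R)
  let g₀ : Spec (CommRingCat.of (IsLocalRing.ResidueField R)) ⟶ S :=
    Spec.map (CommRingCat.ofHom (IsLocalRing.residue R))
  let g₁ : Spec (CommRingCat.of K) ⟶ S := Spec.map (CommRingCat.ofHom (algebraMap R K))
  haveI : IsClosedImmersion g₀ := IsClosedImmersion.spec_of_surjective _ Ideal.Quotient.mk_surjective
  haveI : IsPreimmersion g₁ := IsPreimmersion.of_isLocalization (nonZeroDivisors R)
  obtain ⟨a₀, e₀, w₀⟩ := exists_iso_fibre N.hom g₀ (IsLocalRing.closedPoint R)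
    (PrimeSpectrum.ext (by
      show Ideal.comap (IsLocalRing.residue R) _ = _
      simp [IsLocalRing.closedPoint, IsLocalRing.maximalIdeal_eq_bot,
        ← RingHom.ker_eq_comap_bot, IsLocalRing.ker_residue]))
  obtain ⟨a₁, e₁, w₁⟩ := exists_iso_fibre N.hom g₁ (genericPoint S)
    (by
      rw [genericPoint_eq_bot_of_affine]
      refine PrimeSpectrum.ext ?_
      show Ideal.comap (algebraMap R K) _ = _
      simp [IsLocalRing.closedPoint, IsLocalRing.maximalIdeal_eq_bot, ← RingHom.ker_eq_comap_bot,
        (RingHom.injective_iff_ker_eq_bot _).1 (IsFractionRing.injective R K)])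
  haveI : IsProper (N.hom.fiberToSpecResidueField (IsLocalRing.closedPoint R)) := by
    have : IsProper (pullback.snd N.hom g₀) :=
      (inferInstance : IsProper (Red.bc g₀ N).hom)
    rw [show N.hom.fiberToSpecResidueField (IsLocalRing.closedPoint R) =
      e₀.inv ≫ pullback.snd N.hom g₀ ≫ a₀.hom by rw [← w₀, Iso.inv_hom_id_assoc]]
    infer_instance
  haveI : Nonempty ↥(N.hom.fiber (IsLocalRing.closedPoint R)) := ⟨e₀.hom
    (pullback.lift (f := N.hom) (g := g₀) (g₀ ≫ η[N].left) (𝟙 _) (by
      rw [Category.assoc, Over.w η[N]]; exact (Category.comp_id _).trans (Category.id_comp _).symm)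
      (IsLocalRing.closedPoint _))⟩
  haveI : GeometricallyConnected (N.hom.fiberToSpecResidueField (genericPoint S)) := by
    have h : GeometricallyConnected (pullback.snd N.hom g₁) := by
      haveI : GeometricallyIntegral (pullback.snd N.hom g₁) :=
        (inferInstance : GeometricallyIntegral ((SGA7.genFib R K).obj N).hom)
      rw [GeometricallyConnected.eq_geometrically]
      intro L _ t P pf ps hP
      haveI : IrreducibleSpace P := GeometricallyIrreducible.geometrically_irreducibleSpace
        (f := pullback.snd N.hom g₁) t pf ps hP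
      show ConnectedSpace P
      infer_instance
    rw [show N.hom.fiberToSpecResidueField (genericPoint S) =
      e₁.inv ≫ pullback.snd N.hom g₁ ≫ a₁.hom by rw [← w₁, Iso.inv_hom_id_assoc]]
    exact (MorphismProperty.cancel_left_of_respectsIso @GeometricallyConnected _ _).2
      ((MorphismProperty.cancel_right_of_respectsIso @GeometricallyConnected _ _).2 h)
  exact (Groth.Agent.S19653.result R N.left N.hom).1

end Groth.Agent.S4058
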