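import Groth.Statements.S4062
import Groth.Agent.Lib.LadicMonodromy.Padic
import Groth.Agent.Lib.LadicMonodromy.Inertia

set_option autoImplicit false
universe u
open CategoryTheory CategoryTheory.Limits AlgebraicGeometry MonObj
open SGA7

namespace Groth.Agent.S4062

open Groth.Agent.Lib.LadicMonodromy

/-- Let R be a henselian discrete valuation ring with fraction field K and residue field k, λ a prime
invertible in k, Ω a separable closure of K (Aut_K(Ω) carries the Krull topology), W a valuation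
subring of Ω lying over R, and ρ a continuous homomorphism from Aut_K(Ω) to GL_n(ℚ_λ). Assume that
no finite extension of k contains all roots of unity of λ-power order (for every finite extension k'
there is some λ^m such that k' has no primitive λ^m-th root of unity). Then there is an open
subgroup I₁ of Aut_K(Ω) such that ρ(σ) is unipotent for every σ in I₁ lying in the inertia group at
W. -/
theorem result (R K Ω : Type u) [CommRing R] [IsDomain R]
    [IsDiscreteValuationRing R] [HenselianLocalRing R] [Field K] [Algebra R K] [IsFractionRing R K]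
    [Field Ω] [Algebra K Ω] [IsSepClosure K Ω] (W : ValuationSubring Ω) (hW : SGA7.LiesOver K R W)
    (lam : ℕ) [Fact lam.Prime] (hlam : (lam : IsLocalRing.ResidueField R) ≠ 0)
    (hstar : ∀ (k' : Type u) [Field k'] [Algebra (IsLocalRing.ResidueField R) k'],
      FiniteDimensional (IsLocalRing.ResidueField R) k' → ∃ m : ℕ, ∀ ζ : k', ¬ IsPrimitiveRoot ζ (lam ^ m))
    (n : ℕ) (ρ : (Ω ≃ₐ[K] Ω) →* Matrix.GeneralLinearGroup (Fin n) (Padic lam)) (hρ : Continuous ρ) :
    ∃ I₁ : OpenSubgroup (Ω ≃ₐ[K] Ω), ∀ σ : Ω ≃ₐ[K] Ω, σ ∈ I₁ → SGA7.IsInertia W σ →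
      IsNilpotent ((ρ σ : Matrix (Fin n) (Fin n) (Padic lam)) - 1) := by
  classical
  letI : Algebra R Ω := ((algebraMap K Ω).comp (algebraMap R K)).toAlgebra
  haveI : IsScalarTower R K Ω := IsScalarTower.of_algebraMap_eq fun _ => rfl
  haveI : IsGalois K Ω := IsSepClosure.isGalois
  haveI : IsSepClosed Ω := IsSepClosure.sep_closed K
  -- `lam` is invertible in the residue field of `W`
  have hlW : (lam : IsLocalRing.ResidueField W) ≠ 0 := by
    have hu : IsUnit (lam : R) := by
      by_contra hu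
      apply hlam
      rw [← map_natCast (IsLocalRing.residue R), IsLocalRing.residue_eq_zero_iff]
      exact hu
    let g : R →+* W := (algebraMap R Ω).codRestrict W.toSubring fun r => algebraMap_mem hW r
    intro h0
    have := (hu.map ((IsLocalRing.residue W).comp g)).ne_zero
    simp [h0] at this
  have hlΩ : (lam : Ω) ≠ 0 := by
    intro h0
    apply hlW
    rw [← map_natCast (IsLocalRing.residue W)]
    have : (lam : W) = 0 := by ext; simpa using h0
    rw [this, map_zero]
  have hprim : ∀ m : ℕ, ∃ ζ : Ω, IsPrimitiveRoot ζ (lam ^ m) := by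
    intro m
    haveI : NeZero ((lam ^ m : ℕ) : Ω) := ⟨by simp [hlΩ]⟩
    have hpos : 0 < lam ^ m := pow_pos (Fact.out : lam.Prime).pos m
    obtain ⟨ζ, hζ⟩ := IsSepClosed.exists_root (Polynomial.cyclotomic (lam ^ m) Ω)
      (Polynomial.degree_cyclotomic_pos _ _ hpos).ne' (Polynomial.separable_cyclotomic _ _)
    exact ⟨ζ, Polynomial.isRoot_cyclotomic_iff.1 hζ⟩
  choose ζ hζ using hprim
  have hzpow : ∀ (m : ℕ) (g : Ω ≃ₐ[K] Ω), ∃ c : ℕ, g (ζ m) = ζ m ^ c := by
    intro m g
    haveI : NeZero (lam ^ m) := ⟨pow_ne_zero _ (Fact.out : lam.Prime).ne_zero⟩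
    obtain ⟨a, -, ha⟩ := (hζ m).eq_pow_of_pow_eq_one (ξ := g (ζ m))
      (by rw [← map_pow, (hζ m).pow_eq_one, map_one])
    exact ⟨a, ha.symm⟩
  choose χ hχ using hzpow
  have hact : ∀ (m : ℕ) (g : Ω ≃ₐ[K] Ω) (x : Ω), x ^ lam ^ m = 1 → g x = x ^ χ m g := by
    intro m g x hx
    haveI : NeZero (lam ^ m) := ⟨pow_ne_zero _ (Fact.out : lam.Prime).ne_zero⟩
    obtain ⟨a, -, ha⟩ := (hζ m).eq_pow_of_pow_eq_one hx
    rw [← ha, map_pow, hχ, ← pow_mul, ← pow_mul, mul_comm]
  have hiter : ∀ (m : ℕ) (g : Ω ≃ₐ[K] Ω) (d : ℕ) (x : Ω), x ^ lam ^ m = 1 →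
      (g ^ d) x = x ^ χ m g ^ d := by
    intro m g d x hx
    induction d with
    | zero => simp
    | succ d ih => rw [pow_succ', AlgEquiv.mul_apply, ih, map_pow, hact m g x hx, ← pow_mul, pow_succ']
  have hndvd : ∀ (m : ℕ) (g : Ω ≃ₐ[K] Ω), 1 ≤ m → ¬ lam ∣ χ m g := by
    intro m g hm hd
    obtain ⟨b, hb⟩ := hd
    have h1 : g (ζ m ^ lam ^ (m - 1)) = g 1 := by
      rw [map_pow, hχ, map_one, ← pow_mul, hb, mul_comm, ← _root_.mul_assoc, ← pow_succ,
        Nat.sub_add_cancel hm, pow_mul, (hζ m).pow_eq_one, one_pow]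
    have h2 := ((hζ m).pow_eq_one_iff_dvd _).1 (g.injective h1)
    have := (Nat.pow_dvd_pow_iff_le_right (Fact.out : lam.Prime).one_lt).1 h2
    omega
  -- the open subgroup of congruence level two
  let U : ℕ → Subgroup (Ω ≃ₐ[K] Ω) := fun m => (Cong n lam m).comap ρ
  have hUo : ∀ m, IsOpen (U m : Set (Ω ≃ₐ[K] Ω)) := fun m => (isOpen_cong m).preimage hρ
  refine ⟨⟨U 2, hUo 2⟩, fun σ hσ hin => ?_⟩
  -- an element with non-torsion cyclotomic character
  obtain ⟨τ, hτU, r, hr⟩ : ∃ τ ∈ U 2, ∃ r : ℕ, (τ ^ n.factorial) (ζ r) ≠ ζ r := by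
    by_contra hcon
    push Not at hcon
    let e := n.factorial
    have hepos : 0 < e := n.factorial_pos
    obtain ⟨t, e', hle, hee⟩ := Nat.exists_eq_pow_mul_and_not_dvd hepos.ne' lam (Fact.out : lam.Prime).ne_one
    let r0 := 2
    obtain ⟨F0, hF0, hF0U⟩ := (krullTopology_mem_nhds_one_iff K Ω _).1 ((hUo 2).mem_nhds (U 2).one_mem)
    haveI := hF0
    haveI : FiniteDimensional K (IntermediateField.adjoin K {ζ r0}) :=
      IntermediateField.adjoin.finiteDimensional (Algebra.IsIntegral.isIntegral _)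
    let F := F0 ⊔ IntermediateField.adjoin K {ζ r0}
    haveI : FiniteDimensional K F := IntermediateField.finiteDimensional_sup _ _
    have hmem : ∀ m, ζ m ∈ F := by
      intro m
      rw [← InfiniteGalois.fixedField_fixingSubgroup F, IntermediateField.mem_fixedField_iff]
      intro g hg
      have hgU : g ∈ U 2 := hF0U (IntermediateField.fixingSubgroup_le le_sup_left hg)
      have hgr : g (ζ r0) = ζ r0 :=
        (IntermediateField.mem_fixingSubgroup_iff _ _).1 hg _ ((le_sup_right : _ ≤ F) (IntermediateField.mem_adjoin_simple_self K _))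
      let M := m + t + r0
      have hM : (g ^ e) (ζ M) = ζ M := hcon g hgU M
      rw [hiter M g e _ (hζ M).pow_eq_one] at hM
      set c := χ M g with hc
      have hMpos : 0 < lam ^ M := pow_pos (Fact.out : lam.Prime).pos M
      have hcpos : 1 ≤ c := Nat.one_le_iff_ne_zero.2 fun h0 =>
        hndvd M g (by omega) (by rw [← hc, h0]; exact dvd_zero lam)
      have hce : lam ^ M ∣ c ^ e - 1 := by
        have h1 : ζ M ^ (c ^ e - 1) = 1 := by
          have : ζ M ^ (c ^ e - 1) * ζ M = 1 * ζ M := by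
            rw [← pow_succ, Nat.sub_add_cancel (Nat.one_le_pow _ _ hcpos), _root_.one_mul, hM]
          exact mul_right_cancel₀ ((hζ M).ne_zero hMpos.ne') this
        exact ((hζ M).pow_eq_one_iff_dvd _).1 h1
      have hcr : lam ^ r0 ∣ c - 1 := by
        have h1 : g (ζ r0) = ζ r0 ^ c := hact M g _ (by
          rw [show lam ^ M = lam ^ r0 * lam ^ (m + t) by rw [← pow_add]; congr 1; omega,
            pow_mul, (hζ r0).pow_eq_one, one_pow])
        rw [hgr] at h1
        have h2 : ζ r0 ^ (c - 1) * ζ r0 = 1 * ζ r0 := by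
          rw [← pow_succ, Nat.sub_add_cancel hcpos, _root_.one_mul, ← h1]
        exact ((hζ r0).pow_eq_one_iff_dvd _).1 (mul_right_cancel₀
          ((hζ r0).ne_zero (pow_ne_zero _ (Fact.out : lam.Prime).ne_zero)) h2)
      have hnorm : ∀ (a k : ℕ), lam ^ k ∣ a ↔ ‖(a : ℚ_[lam])‖ ≤ rad lam k := by
        intro a k
        have := (Padic.norm_int_le_pow_iff_dvd (p := lam) (a : ℤ) k).symm
        rw [Int.cast_natCast, _root_.zpow_neg, zpow_natCast, ← inv_pow, ← Int.natCast_dvd_natCast,
          Nat.cast_pow] at *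
        exact this
      have hlte : ‖((c ^ e - 1 : ℕ) : ℚ_[lam])‖ = ‖(e : ℚ_[lam])‖ * ‖((c - 1 : ℕ) : ℚ_[lam])‖ := by
        rw [Nat.cast_sub (Nat.one_le_pow _ _ hcpos), Nat.cast_sub hcpos, Nat.cast_pow, Nat.cast_one]
        refine norm_pow_sub_one padic_prime_norm hepos ?_
        have := (hnorm _ _).1 hcr
        rwa [Nat.cast_sub hcpos, Nat.cast_one] at this
      have hen : ‖(e : ℚ_[lam])‖ = rad lam t := by
        rw [show e = lam ^ t * e' from hee, Nat.cast_mul, norm_mul, Nat.cast_pow, norm_pow,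
          Padic.norm_p, (Padic.norm_natCast_eq_one_iff).2 ((Nat.Prime.coprime_iff_not_dvd Fact.out).2 hle),
          _root_.mul_one]
        rfl
      have hfin : lam ^ m ∣ c - 1 := by
        rw [hnorm]
        have h1 := (hnorm _ _).1 hce
        rw [hlte, hen] at h1
        have h2 : rad lam M ≤ rad lam t * rad lam m := by
          rw [rad, rad, rad, ← pow_add]
          exact rad_anti (l := lam) (by omega)
        exact le_of_mul_le_mul_left (h1.trans h2) (rad_pos t)
      have h1 : g (ζ m) = ζ m ^ c := hact M g _ (by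
        rw [show lam ^ M = lam ^ m * lam ^ (t + r0) by rw [← pow_add, show m + (t + r0) = M by omega],
          pow_mul, (hζ m).pow_eq_one, one_pow])
      rw [h1]
      obtain ⟨b, hb⟩ := hfin
      rw [show c = lam ^ m * b + 1 by omega, pow_succ, pow_mul, (hζ m).pow_eq_one, one_pow, _root_.one_mul]
    haveI := finite_IC (R := R) F
    haveI := tower (R := R) F
    haveI : IsLocalRing (IC R F) := Groth.Agent.H80.CompleteDVRExt.isLocalRing_of_finite_domain R _
    haveI : IsLocalHom (algebraMap R (IC R F)) := by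
      haveI : Algebra.IsIntegral R (IC R F) := Algebra.IsIntegral.of_finite R _
      haveI : FaithfulSMul R (IC R F) := by
        rw [faithfulSMul_iff_algebraMap_injective]
        intro a b hab
        have h1 := congrArg (fun z : IC R F => algebraMap F Ω (z : F)) hab
        simp only [Subalgebra.coe_algebraMap, ← IsScalarTower.algebraMap_apply R F Ω] at h1
        exact (IsFractionRing.injective R K) ((algebraMap K Ω).injective (by
          simpa [IsScalarTower.algebraMap_apply R K Ω] using h1))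
      exact Algebra.IsIntegral.isLocalHom R (IC R F)
    let k' := IsLocalRing.ResidueField (IC R F)
    haveI : FiniteDimensional (IsLocalRing.ResidueField R) k' :=
      Module.Finite.of_restrictScalars_finite R _ _
    obtain ⟨m, hm⟩ := hstar k' inferInstance
    have hpos : 0 < lam ^ m := pow_pos (Fact.out : lam.Prime).pos m
    have hzF : IsPrimitiveRoot (⟨ζ m, hmem m⟩ : F) (lam ^ m) :=
      IsPrimitiveRoot.of_map_of_injective (f := algebraMap F Ω) (hζ m) (algebraMap F Ω).injective
    let z : IC R F := ⟨⟨ζ m, hmem m⟩, (hzF.isIntegral hpos).tower_top⟩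
    have hz : IsPrimitiveRoot z (lam ^ m) :=
      IsPrimitiveRoot.of_map_of_injective (f := (IC R F).val) hzF Subtype.val_injective
    haveI : NeZero ((lam ^ m : ℕ) : k') := ⟨by
      have : (lam : k') ≠ 0 := by
        rw [← map_natCast (algebraMap (IsLocalRing.ResidueField R) k')]
        exact (map_ne_zero _).2 hlam
      simp [this]⟩
    refine hm (IsLocalRing.residue (IC R F) z) ?_
    rw [← Polynomial.isRoot_cyclotomic_iff,
      ← Polynomial.map_cyclotomic (lam ^ m) (IsLocalRing.residue (IC R F))]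
    exact Polynomial.IsRoot.map (hz.isRoot_cyclotomic hpos)
  have hr1 : 1 ≤ r := by
    rcases Nat.eq_zero_or_pos r with h | h
    · exfalso
      subst h
      have : ζ 0 = 1 := by simpa using (hζ 0).pow_eq_one
      exact hr (by rw [this, map_one])
    · exact h
  refine isNilpotent_of_conj (ρ σ) hσ r (ρ τ) (cong_mono (Nat.zero_le 2) hτU) (fun m => χ m τ) ?_ ?_
  · intro m hm
    refine ⟨hndvd m τ (hr1.trans hm), fun d hd1 hdn hmod => hr ?_⟩
    have hx : ζ r ^ lam ^ m = 1 := by
      rw [← Nat.add_sub_cancel' hm, pow_add, pow_mul, (hζ r).pow_eq_one, one_pow]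
    obtain ⟨q, hq⟩ := Nat.dvd_factorial hd1 hdn
    rw [hiter m τ _ _ hx, hq, pow_mul]
    have h1 : (χ m τ ^ d) ^ q ≡ 1 [MOD lam ^ r] := by simpa using hmod.pow q
    have hr' := (hζ r).pow_eq_one
    rw [pow_eq_pow_mod _ hr', h1, ← pow_eq_pow_mod _ hr', pow_one]
  · intro m
    let δ : Ω ≃ₐ[K] Ω := τ * σ * τ⁻¹ * (σ ^ χ m τ)⁻¹
    suffices hδV : δ ∈ U m by simpa [U, δ, map_mul, map_pow, map_inv] using hδV
    rcases Nat.lt_or_ge m 2 with hm2 | hm2
    · refine (Subgroup.comap_mono (f := ρ) (cong_mono hm2.le)) ?_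
      exact (U 2).mul_mem ((U 2).mul_mem ((U 2).mul_mem hτU hσ) ((U 2).inv_mem hτU))
        ((U 2).inv_mem ((U 2).pow_mem hσ _))
    have hδ2 : δ ∈ U 2 := (U 2).mul_mem ((U 2).mul_mem ((U 2).mul_mem hτU hσ) ((U 2).inv_mem hτU))
        ((U 2).inv_mem ((U 2).pow_mem hσ _))
    have hinI : σ ∈ inertia hW := hin
    have hδI : δ ∈ inertia hW := (inertia hW).mul_mem (conj_mem_inertia hW hin τ)
      ((inertia hW).inv_mem ((inertia hW).pow_mem hinI _))
    have hpowV : ∀ g ∈ U 2, g ^ lam ^ m ∈ U m := by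
      intro g hg
      show ρ (g ^ lam ^ m) ∈ Cong n lam m
      rw [map_pow]
      exact cong_mono (Nat.le_add_left m 2) (cong_pow_pow one_le_two hg m)
    have hnorm : ∀ g ∈ U 2, ∀ v ∈ U m, g * v * g⁻¹ ∈ U m := by
      intro g hg v hv
      show ρ (g * v * g⁻¹) ∈ Cong n lam m
      rw [map_mul, map_mul, map_inv]
      exact cong_conj (cong_mono (Nat.zero_le 2) hg) hv
    let P : Ω → Prop := fun x => ∀ v ∈ U m, v x = x
    have hPmove : ∀ g ∈ U 2, ∀ x, P x → P (g x) := by
      intro g hg x hx v hv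
      have := hx (g⁻¹ * v * g) (by simpa using hnorm g⁻¹ ((U 2).inv_mem hg) v hv)
      rw [AlgEquiv.mul_apply, AlgEquiv.mul_apply] at this
      have := congrArg g this
      rwa [show ∀ y, g (g⁻¹ y) = y from g.apply_symm_apply] at this
    have hN : ((lam ^ m : ℕ) : IsLocalRing.ResidueField W) ≠ 0 := by simp [hlW]
    have hthδ : ∀ x, P x → x ≠ 0 → th hW δ x = 1 := by
      intro x hx hx0
      have h1 : th hW (τ * σ * τ⁻¹) x = th hW (σ ^ χ m τ) x :=
        th_conj hW hN (hζ m) (hχ m τ) hin hx0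
          (hPmove _ ((U 2).inv_mem hτU) x hx _ (hpowV σ hσ))
      have h2 := th_mul hW (hδI : SGA7.IsInertia W δ) (τ := σ ^ χ m τ) hx0
      rw [show δ * σ ^ χ m τ = τ * σ * τ⁻¹ by simp [δ], h1] at h2
      have hne : th hW (σ ^ χ m τ) x ≠ 0 := by
        intro h0
        have h3 := th_mul hW (((inertia hW).pow_mem hinI (χ m τ)) : SGA7.IsInertia W _)
          (τ := (σ ^ χ m τ)⁻¹) hx0
        rw [mul_inv_cancel, th_one hW hx0, h0, zero_mul] at h3
        exact one_ne_zero h3
      exact (mul_eq_right₀ hne).1 h2.symm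
    -- descend along the powers of `δ`
    suffices hd : ∀ i ≤ m, δ ^ lam ^ (m - i) ∈ U m by simpa using hd m le_rfl
    intro i
    induction i with
    | zero => intro _; simpa using hpowV δ hδ2
    | succ i ih =>
      intro hi
      have hprev := ih (by omega)
      set g := δ ^ lam ^ (m - (i + 1)) with hg
      have hgl : g ^ lam ∈ U m := by
        rw [hg, ← pow_mul, ← pow_succ, show m - (i + 1) + 1 = m - i by omega]; exact hprev
      have hgI : SGA7.IsInertia W g := (inertia hW).pow_mem hδI _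
      have hg2 : g ∈ U 2 := (U 2).pow_mem hδ2 _
      have hfix : ∀ x, P x → g x = x := by
        intro x hx
        refine fix_of_th_eq_one hW hlW hgI P (fun y hy => ⟨hy _ hgl, fun v hv => ?_⟩) ?_ hx
        · rw [map_sub, map_div₀, map_sum, map_natCast, hy v hv]
          congr 2
          exact Finset.sum_congr rfl fun i _ => hPmove _ ((U 2).pow_mem hg2 i) y hy v hv
        · intro y hy hy0
          rw [hg, th_pow hW (hδI : SGA7.IsInertia W δ) hy0, hthδ y hy hy0, one_pow]
      have hclosed : IsClosed (U m : Set (Ω ≃ₐ[K] Ω)) := Subgroup.isClosed_of_isOpen _ (hUo m)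
      have := InfiniteGalois.fixingSubgroup_fixedField (⟨U m, hclosed⟩ : ClosedSubgroup (Ω ≃ₐ[K] Ω))
      show g ∈ (⟨U m, hclosed⟩ : ClosedSubgroup (Ω ≃ₐ[K] Ω)).1
      rw [← this, IntermediateField.mem_fixingSubgroup_iff]
      intro x hx
      exact hfix x fun v hv => (IntermediateField.mem_fixedField_iff _ _).1 hx v hv

end Groth.Agent.S4062
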