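import Groth.Statements.S4064
import Groth.Agent.Lib.ExtOne.Realize

set_option autoImplicit false
universe w v v'
open CategoryTheory CategoryTheory.Abelian
open SGA7

namespace Groth.Agent.S4064

/-- Let P -> F -> R and R -> E -> Q be short exact sequences in an abelian category (F an extension of R
by P, E an extension of Q by R). A blended extension of E by F is an object X with a monomorphism i
: F -> X and an epimorphism p : X -> E such that P -> X -> E (via i) and F -> X -> Q (via p) are
short exact and F -> X -> E is the composite F -> R -> E. Such an X exists if and only if the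
composite of the two extension classes, an element of Ext^2(Q, P), is zero. -/
theorem result {C : Type w} [Category.{v} C] [Abelian C]
    [HasExt.{v'} C] {P F R E Q : C} (a : P ⟶ F) (b : F ⟶ R) (wF : a ≫ b = 0)
    (hF : (ShortComplex.mk a b wF).ShortExact) (c : R ⟶ E) (d : E ⟶ Q) (wE : c ≫ d = 0)
    (hE : (ShortComplex.mk c d wE).ShortExact) :
    (∃ (X : C) (i : F ⟶ X) (p : X ⟶ E), i ≫ p = b ≫ c ∧
        (∃ w : (a ≫ i) ≫ p = 0, (ShortComplex.mk (a ≫ i) p w).ShortExact) ∧
        (∃ w : i ≫ (p ≫ d) = 0, (ShortComplex.mk i (p ≫ d) w).ShortExact)) ↔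
      hE.extClass.comp hF.extClass (rfl : 1 + 1 = 2) = 0 := by
  constructor
  · rintro ⟨X, i, p, hip, ⟨w₁, h₁⟩, -⟩
    let φ : ShortComplex.mk a b wF ⟶ ShortComplex.mk (a ≫ i) p w₁ :=
      { τ₁ := 𝟙 P
        τ₂ := i
        τ₃ := c
        comm₁₂ := by simp
        comm₂₃ := by simp [hip] }
    have hn := ShortComplex.ShortExact.extClass_naturality hF h₁ φ
    rw [show φ.τ₁ = 𝟙 P from rfl, Ext.comp_mk₀_id] at hn
    rw [hn]
    exact hE.extClass_comp_assoc h₁.extClass
  · intro h0
    obtain ⟨ξ, hξ⟩ := Ext.contravariant_sequence_exact₁ (hS := hE) (Y := P) hF.extClass (rfl : 1 + 1 = 2) h0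
    obtain ⟨X, f, g, w, hX, rfl⟩ := Groth.Agent.Lib.ExtOne.exists_shortExact_extClass ξ
    obtain ⟨i, hi₁, hi₂⟩ := Groth.Agent.Lib.ExtOne.exists_middle_hom hF hX (𝟙 P) c
      ((Ext.comp_mk₀_id _).trans hξ.symm)
    dsimp at hi₁ hi₂
    rw [Category.id_comp] at hi₁
    haveI := hX.mono_f
    haveI := hX.epi_g
    haveI := hE.mono_f
    haveI := hE.epi_g
    haveI := hF.epi_g
    have hif : (a ≫ i) ≫ g = 0 := by rw [hi₁]; exact w
    have hid : i ≫ (g ≫ d) = 0 := by rw [← Category.assoc, ← hi₂, Category.assoc, wE, Limits.comp_zero]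
    refine ⟨X, i, g, hi₂.symm, ⟨hif, ?_⟩, ⟨hid, ?_⟩⟩
    · convert! hX using 2
    · refine { exact := ?_, mono_f := ?_, epi_g := epi_comp g d }
      · rw [ShortComplex.exact_iff_exact_up_to_refinements]
        intro A k hk
        dsimp at k hk ⊢
        have hk' : (k ≫ g) ≫ d = 0 := by rw [Category.assoc]; exact hk
        obtain ⟨A₁, π₁, hπ₁, l, hl⟩ := hE.exact.exact_up_to_refinements (k ≫ g) hk'
        obtain ⟨A₂, π₂, hπ₂, l', hl'⟩ := surjective_up_to_refinements_of_epi b l
        dsimp at l hl
        have h3 : ((π₂ ≫ π₁) ≫ k - l' ≫ i) ≫ g = 0 := by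
          simp only [Preadditive.sub_comp, Category.assoc]
          rw [← hi₂, hl, reassoc_of% hl', sub_self]
        obtain ⟨A₃, π₃, hπ₃, m, hm⟩ := hX.exact.exact_up_to_refinements _ h3
        dsimp at m hm
        refine ⟨A₃, π₃ ≫ π₂ ≫ π₁, inferInstance, π₃ ≫ l' + m ≫ a, ?_⟩
        rw [Preadditive.add_comp, Category.assoc, Category.assoc, Category.assoc]
        erw [Category.assoc m a i, hi₁]
        rw [← hm]
        simp only [Preadditive.comp_sub, Category.assoc]
        abel
      · apply Preadditive.mono_of_cancel_zero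
        intro A k hk
        have hkb : (k ≫ b) ≫ c = 0 := by
          rw [Category.assoc, hi₂, ← Category.assoc, hk, Limits.zero_comp]
        rw [← Limits.zero_comp (f := c), cancel_mono] at hkb
        obtain ⟨l, hl⟩ := Limits.KernelFork.IsLimit.lift' hF.fIsKernel k hkb
        dsimp at l hl
        subst hl
        rw [Category.assoc, hi₁, ← Limits.zero_comp (f := f), cancel_mono] at hk
        rw [hk, Limits.zero_comp]

end Groth.Agent.S4064
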