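import Groth.Statements.S4065
import Mathlib.CategoryTheory.Abelian.Basic

set_option autoImplicit false
universe w v
open CategoryTheory
open SGA7

namespace Groth.Agent.S4065

/-- Let P -> F -> R and R -> E -> Q be short exact sequences in an abelian category and X a blended
extension of E by F: i : F -> X and p : X -> E with i, p composing to F -> R -> E and with P -> X ->
E and F -> X -> Q short exact. Then u ↦ 1_X + (X -> E -> Q -> P -> F -> X) is a bijection from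
Hom(Q, P) onto the set of endomorphisms φ of X with i φ = i and φ p = p (the automorphisms of the
blended extension; every such φ is invertible), and it turns addition into composition (a group
isomorphism Hom(Q, P) ≅ Aut(X)). -/
theorem result {C : Type w} [Category.{v} C] [Abelian C]
    {P F R E Q X : C} (a : P ⟶ F) (b : F ⟶ R) (wF : a ≫ b = 0)
    (hF : (ShortComplex.mk a b wF).ShortExact) (c : R ⟶ E) (d : E ⟶ Q) (wE : c ≫ d = 0)
    (hE : (ShortComplex.mk c d wE).ShortExact) (i : F ⟶ X) (p : X ⟶ E) (hip : i ≫ p = b ≫ c)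
    (w₁ : (a ≫ i) ≫ p = 0) (h₁ : (ShortComplex.mk (a ≫ i) p w₁).ShortExact)
    (w₂ : i ≫ (p ≫ d) = 0) (h₂ : (ShortComplex.mk i (p ≫ d) w₂).ShortExact) :
    Set.BijOn (fun v : Q ⟶ P => 𝟙 X + p ≫ d ≫ v ≫ a ≫ i) Set.univ
      {φ : X ⟶ X | i ≫ φ = i ∧ φ ≫ p = p} ∧
      ∀ v v' : Q ⟶ P, 𝟙 X + p ≫ d ≫ (v + v') ≫ a ≫ i =
        (𝟙 X + p ≫ d ≫ v ≫ a ≫ i) ≫ (𝟙 X + p ≫ d ≫ v' ≫ a ≫ i) := by
  haveI := h₁.mono_f
  haveI := h₂.epi_g
  have hz : ∀ {Y : C} (g : P ⟶ Y), (a ≫ i) ≫ p = 0 := fun _ => w₁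
  have w₁' : a ≫ i ≫ p = 0 := by rw [← Category.assoc]; exact w₁
  have w₂' : i ≫ p ≫ d = 0 := w₂
  refine ⟨⟨?_, ?_, ?_⟩, ?_⟩
  · intro v _
    refine ⟨?_, ?_⟩
    · simp [reassoc_of% w₂']
    · simp [w₁']
  · intro v _ v' _ h
    simp only [add_right_inj] at h
    have h' : (p ≫ d) ≫ (v ≫ (a ≫ i)) = (p ≫ d) ≫ (v' ≫ (a ≫ i)) := by
      simpa [Category.assoc] using h
    rw [cancel_epi, cancel_mono] at h'
    exact h'
  · rintro φ ⟨hφi, hφp⟩
    have hψ : i ≫ (φ - 𝟙 X) = 0 := by simp [hφi]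
    obtain ⟨w, hw⟩ := Limits.CokernelCofork.IsColimit.desc' h₂.gIsCokernel (φ - 𝟙 X) hψ
    simp at hw
    have hwp : w ≫ p = 0 := by
      rw [← cancel_epi (p ≫ d)]
      have : (φ - 𝟙 X) ≫ p = 0 := by simp [hφp]
      rw [← hw] at this
      simpa [Category.assoc] using this
    obtain ⟨v, hv⟩ := Limits.KernelFork.IsLimit.lift' h₁.fIsKernel w hwp
    simp at hv
    refine ⟨v, trivial, ?_⟩
    simp only
    rw [hv, hw]
    abel
  · intro v v'
    simp [reassoc_of% w₁', w₁']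
    abel

end Groth.Agent.S4065
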