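import Groth.Statements.S4070
import Groth.Agent.Lib.GrpSch.SepPoints
import Groth.Agent.Lib.Henselian.Sections
import Mathlib.AlgebraicGeometry.PullbackCarrier
import Mathlib.AlgebraicGeometry.Noetherian
import Mathlib.Topology.NoetherianSpace

set_option autoImplicit false
set_option linter.style.haveILetI false
set_option backward.isDefEq.respectTransparency false
universe u
open CategoryTheory CategoryTheory.Limits AlgebraicGeometry MonObj
open MonoidalCategory
open SGA7

namespace Groth.Agent.S4070

theorem finite_components (X : Type u) [TopologicalSpace X] [TopologicalSpace.NoetherianSpace X] :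
    Finite (ConnectedComponents X) := by
  haveI := (TopologicalSpace.NoetherianSpace.finite_irreducibleComponents (α := X)).to_subtype
  refine Finite.of_surjective (fun C : irreducibleComponents X =>
    ConnectedComponents.mk (C.2.1.1.some : X)) fun c => ?_
  obtain ⟨x, rfl⟩ := ConnectedComponents.surjective_coe c
  refine ⟨⟨irreducibleComponent x, irreducibleComponent_mem_irreducibleComponents x⟩, ?_⟩
  exact ConnectedComponents.coe_eq_coe'.2 (isIrreducible_irreducibleComponent.2.isPreconnected.subset_connectedComponent
    mem_irreducibleComponent (Set.Nonempty.some_mem _))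

/-- Let R be a strictly henselian discrete valuation ring (henselian, separably closed residue field)
with fraction field K and N a group scheme over Spec R which is a Néron model of its generic fibre,
an abelian variety A over K, so that sections of N over Spec R are the K-points of A. Then the
special fibre of N has finitely many connected components, every one of them is met by a section,
and two sections x, y meet the same connected component if and only if x · y⁻¹ meets the connected
component of the unit section: the component group of the special fibre is A(K) modulo the subgroup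
of points reducing into the identity component. -/
theorem result (R K : Type u) [CommRing R] [IsDomain R] [IsDiscreteValuationRing R] [HenselianLocalRing R]
    [IsSepClosed (IsLocalRing.ResidueField R)] [Field K] [Algebra R K] [IsFractionRing R K]
    (N : Over (Spec (CommRingCat.of R))) [GrpObj N] (hN : SGA7.IsNeron R K N)
    [IsProper ((SGA7.genFib R K).obj N).hom] [GeometricallyIntegral ((SGA7.genFib R K).obj N).hom] :
    (Set.range (SGA7.secComp R N)).Finite ∧
    (∀ z ∈ SGA7.specialFibreSet R N, ∃ x : 𝟙_ (Over (Spec (CommRingCat.of R))) ⟶ N, z ∈ SGA7.secComp R N x) ∧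
      ∀ x y : 𝟙_ (Over (Spec (CommRingCat.of R))) ⟶ N,
        SGA7.secComp R N x = SGA7.secComp R N y ↔ x * y⁻¹ ∈ SGA7.secUnitComp R N := by
  obtain ⟨hsm, -, hqc, -⟩ := hN
  have sec_pt : ∀ x : 𝟙_ (Over (Spec (CommRingCat.of R))) ⟶ N,
      x.left.base (IsLocalRing.closedPoint R) ∈ specialFibreSet R N := fun x => by
    show N.hom.base (x.left.base (IsLocalRing.closedPoint R)) = IsLocalRing.closedPoint R
    rw [← Scheme.Hom.comp_apply, Over.w x]
    rfl
  let sp : Spec (CommRingCat.of (IsLocalRing.ResidueField R)) ⟶ Spec (CommRingCat.of R) :=
    Spec.map (CommRingCat.ofHom (IsLocalRing.residue R))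
  have hsp : ∀ a, sp.base a = IsLocalRing.closedPoint R := fun a => by
    have ha : a = IsLocalRing.closedPoint (IsLocalRing.ResidueField R) := Subsingleton.elim _ _
    subst ha
    exact PrimeSpectrum.ext (by
      show (IsLocalRing.maximalIdeal (IsLocalRing.ResidueField R)).comap (IsLocalRing.residue R) = IsLocalRing.maximalIdeal R
      rw [IsLocalRing.maximalIdeal_eq_bot, ← RingHom.ker_eq_comap_bot, IsLocalRing.ker_residue])
  let P := pullback N.hom sp
  let j : P ⟶ N.left := pullback.fst N.hom sp
  let g : P ⟶ Spec (CommRingCat.of (IsLocalRing.ResidueField R)) := pullback.snd N.hom sp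
  have hrange : Set.range j.base = specialFibreSet R N := by
    rw [Scheme.Pullback.range_fst]
    have : Set.range sp.base = {IsLocalRing.closedPoint R} := Set.eq_singleton_iff_unique_mem.2
      ⟨⟨IsLocalRing.closedPoint _, hsp _⟩, by rintro _ ⟨a, rfl⟩; exact hsp a⟩
    exact congrArg (N.hom.base ⁻¹' ·) this
  haveI : Smooth g := MorphismProperty.pullback_snd _ _ hsm
  haveI : QuasiCompact g := MorphismProperty.pullback_snd _ _ hqc
  haveI : IsLocallyNoetherian P := LocallyOfFiniteType.isLocallyNoetherian g
  haveI : CompactSpace P := QuasiCompact.compactSpace_of_compactSpace g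
  haveI : IsNoetherian P := {}
  haveI : Finite (ConnectedComponents P) := finite_components P
  have himg : ∀ p q : P, q ∈ connectedComponent p →
      connectedComponentIn (specialFibreSet R N) (j.base p) = connectedComponentIn (specialFibreSet R N) (j.base q) := by
    intro p q hq
    apply connectedComponentIn_eq
    refine (isPreconnected_connectedComponent.image _ j.continuous.continuousOn).subset_connectedComponentIn
      ⟨p, mem_connectedComponent, rfl⟩ ?_ ⟨q, hq, rfl⟩
    rw [← hrange]
    exact Set.image_subset_range _ _
  refine ⟨?_, ?_, ?_⟩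
  · refine ((Set.finite_range fun c : ConnectedComponents P =>
      connectedComponentIn (specialFibreSet R N) (j.base (Quotient.out c)))).subset ?_
    rintro _ ⟨x, rfl⟩
    obtain ⟨p, hp⟩ : x.left.base (IsLocalRing.closedPoint R) ∈ Set.range j.base := hrange.symm ▸ sec_pt x
    refine ⟨ConnectedComponents.mk p, ?_⟩
    have hmem : Quotient.out (ConnectedComponents.mk p) ∈ connectedComponent p :=
      ConnectedComponents.coe_eq_coe'.1 (Quotient.out_eq _)
    show _ = connectedComponentIn _ _
    rw [← hp]
    exact (himg p _ hmem).symm
  · intro z hz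
    obtain ⟨p, rfl⟩ : z ∈ Set.range j.base := hrange.symm ▸ hz
    have hopen : IsOpen (connectedComponent p) := by
      rw [← isClosed_compl_iff, show (connectedComponent p)ᶜ = ⋃ c ∈ {c : ConnectedComponents P | c ≠ ConnectedComponents.mk p},
          ConnectedComponents.mk ⁻¹' {c} by
        ext q
        simp only [Set.mem_compl_iff, Set.mem_iUnion, Set.mem_preimage, Set.mem_singleton_iff, exists_prop, Set.mem_setOf_eq]
        rw [← ConnectedComponents.coe_eq_coe']
        exact ⟨fun h => ⟨_, h, rfl⟩, fun ⟨c, hc, e⟩ => e ▸ hc⟩]
      refine (Set.toFinite _).isClosed_biUnion fun c _ => ?_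
      obtain ⟨q, rfl⟩ := ConnectedComponents.surjective_coe c
      rw [connectedComponents_preimage_singleton]
      exact isClosed_connectedComponent
    let U : P.Opens := ⟨connectedComponent p, hopen⟩
    haveI : Nonempty U := ⟨⟨p, mem_connectedComponent⟩⟩
    obtain ⟨s₀, hs₀⟩ := Lib.GrpSch.exists_section_of_smooth (U.ι ≫ g)
    haveI : Smooth N.hom := hsm
    obtain ⟨u, hu, hu'⟩ := Lib.Henselian.Sections.exists_section_of_smooth N.hom (s₀ ≫ U.ι ≫ j) (by
      rw [Category.assoc, Category.assoc, pullback.condition]
      rw [← Category.assoc U.ι, ← Category.assoc s₀]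
      exact (congrArg (· ≫ sp) hs₀).trans (Category.id_comp _))
    refine ⟨Over.homMk u hu, ?_⟩
    let c₀ := IsLocalRing.closedPoint (IsLocalRing.ResidueField R)
    have hval : u.base (IsLocalRing.closedPoint R) = j.base (s₀.base c₀).1 := by
      rw [← hsp c₀]
      exact congrArg (fun t : Spec (CommRingCat.of (IsLocalRing.ResidueField R)) ⟶ N.left => t.base c₀) hu'
    show j.base p ∈ connectedComponentIn _ (u.base (IsLocalRing.closedPoint R))
    rw [hval, ← himg p _ (s₀.base c₀).2]
    exact mem_connectedComponentIn hz
  · have key : ∀ a b r : 𝟙_ (Over (Spec (CommRingCat.of R))) ⟶ N,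
        a.left.base (IsLocalRing.closedPoint R) ∈ secComp R N b →
        (a * r).left.base (IsLocalRing.closedPoint R) ∈ secComp R N (b * r) := by
      intro a b r h
      let T : N ⟶ N := 𝟙 N * (SemiCartesianMonoidalCategory.toUnit N ≫ r)
      have hT : ∀ w : 𝟙_ (Over (Spec (CommRingCat.of R))) ⟶ N, w ≫ T = w * r := fun w => by
        rw [MonObj.comp_mul, Category.comp_id, ← Category.assoc,
          SemiCartesianMonoidalCategory.toUnit_unique (w ≫ _) (𝟙 _), Category.id_comp]
      rw [← hT, ← hT]
      refine (isPreconnected_connectedComponentIn.image _ T.left.continuous.continuousOn).subset_connectedComponentIn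
        ⟨_, mem_connectedComponentIn (sec_pt b), rfl⟩ ?_ ⟨_, h, rfl⟩
      rintro _ ⟨w, hw, rfl⟩
      have := connectedComponentIn_subset _ _ hw
      show N.hom.base (T.left.base w) = _
      rw [← Scheme.Hom.comp_apply, Over.w T]
      exact this
    have hone : (η[N] : 𝟙_ (Over (Spec (CommRingCat.of R))) ⟶ N) = 1 := by
      rw [Hom.one_def, SemiCartesianMonoidalCategory.toUnit_unique (SemiCartesianMonoidalCategory.toUnit _) (𝟙 _),
        Category.id_comp]
    intro x y
    show _ ↔ (x * y⁻¹).left.base (IsLocalRing.closedPoint R) ∈ connectedComponentIn _ _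
    rw [hone]
    constructor
    · intro h
      have := key x y y⁻¹ (h ▸ mem_connectedComponentIn (sec_pt x))
      rwa [mul_inv_cancel] at this
    · intro h
      have := key (x * y⁻¹) 1 y h
      rw [inv_mul_cancel_right, _root_.one_mul] at this
      exact (connectedComponentIn_eq this).symm

end Groth.Agent.S4070
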