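import Groth.Statements.S4071
import Groth.Agent.S18494
import Groth.Agent.S0355
import Groth.Agent.H2.Rigid.MulEtale
import Groth.Agent.Lib.GrpSch.SepPoints
import Groth.Agent.Lib.Henselian.Sections
-- import your own Groth.Agent.* helpers here

set_option autoImplicit false
set_option linter.style.haveILetI false
set_option linter.overlappingInstances false
set_option linter.deprecated false
set_option linter.unusedSimpArgs false
universe u
open CategoryTheory CategoryTheory.Limits AlgebraicGeometry MonObj
open MonoidalCategory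
open SGA7

namespace Groth.Agent.S4071

open CartesianMonoidalCategory
open scoped CategoryTheory.Obj

attribute [local instance] Hom.commMonoid

variable {R : Type u} [CommRing R] [IsLocalRing R]

/-- The closed point of a section. -/
noncomputable abbrev cpt {N : Over (Spec (CommRingCat.of R))} (x : 𝟙_ (Over (Spec (CommRingCat.of R))) ⟶ N) :
    N.left :=
  x.left.base (IsLocalRing.closedPoint R)

theorem cpt_mem {N : Over (Spec (CommRingCat.of R))} (x : 𝟙_ (Over (Spec (CommRingCat.of R))) ⟶ N) :
    cpt x ∈ specialFibreSet R N := by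
  show N.hom.base (x.left.base (IsLocalRing.closedPoint R)) = IsLocalRing.closedPoint R
  rw [← Scheme.Hom.comp_apply, Over.w x]
  rfl

theorem cpt_comp {N M : Over (Spec (CommRingCat.of R))} (x : 𝟙_ (Over (Spec (CommRingCat.of R))) ⟶ N)
    (T : N ⟶ M) : cpt (x ≫ T) = T.left.base (cpt x) := rfl

/-- An endomorphism over the base moving the unit inside the unit component preserves it. -/
theorem mapsTo {N : Over (Spec (CommRingCat.of R))} (e : 𝟙_ (Over (Spec (CommRingCat.of R))) ⟶ N)
    (T : N ⟶ N) (h : cpt (e ≫ T) ∈ connectedComponentIn (specialFibreSet R N) (cpt e)) :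
    Set.MapsTo T.left.base (connectedComponentIn (specialFibreSet R N) (cpt e))
      (connectedComponentIn (specialFibreSet R N) (cpt e)) := by
  intro w hw
  rw [connectedComponentIn_eq h]
  refine (isPreconnected_connectedComponentIn.image _ T.left.continuous.continuousOn).subset_connectedComponentIn
    ⟨cpt e, mem_connectedComponentIn (cpt_mem e), rfl⟩ ?_ ⟨w, hw, rfl⟩
  rintro _ ⟨v, hv, rfl⟩
  have := connectedComponentIn_subset _ _ hv
  show N.hom.base (T.left.base v) = _
  rw [← Scheme.Hom.comp_apply, Over.w T]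
  exact this

theorem sp_apply (a : Spec (CommRingCat.of (IsLocalRing.ResidueField R))) :
    (Spec.map (CommRingCat.ofHom (IsLocalRing.residue R))).base a = IsLocalRing.closedPoint R := by
  have ha : a = IsLocalRing.closedPoint (IsLocalRing.ResidueField R) := Subsingleton.elim _ _
  subst ha
  exact PrimeSpectrum.ext (by
    show (IsLocalRing.maximalIdeal (IsLocalRing.ResidueField R)).comap (IsLocalRing.residue R) = IsLocalRing.maximalIdeal R
    rw [IsLocalRing.maximalIdeal_eq_bot, ← RingHom.ker_eq_comap_bot, IsLocalRing.ker_residue])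

theorem range_sp : Set.range (Spec.map (CommRingCat.ofHom (IsLocalRing.residue R))).base =
    {IsLocalRing.closedPoint R} :=
  Set.eq_singleton_iff_unique_mem.2
    ⟨⟨IsLocalRing.closedPoint _, sp_apply _⟩, by rintro _ ⟨a, rfl⟩; exact sp_apply a⟩

/-- A nonempty open piece of the special fibre is met by a section. -/
theorem exists_section [HenselianLocalRing R] [IsSepClosed (IsLocalRing.ResidueField R)]
    {N : Over (Spec (CommRingCat.of R))} [Smooth N.hom] {O : Set N.left} (hO : IsOpen O) {z : N.left}
    (hz : z ∈ specialFibreSet R N) (hzO : z ∈ O) :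
    ∃ x : 𝟙_ (Over (Spec (CommRingCat.of R))) ⟶ N, cpt x ∈ O := by
  let sp := Spec.map (CommRingCat.ofHom (IsLocalRing.residue R))
  let P := pullback N.hom sp
  let j : P ⟶ N.left := pullback.fst N.hom sp
  let g : P ⟶ _ := pullback.snd N.hom sp
  obtain ⟨p, rfl⟩ : z ∈ Set.range j.base := by
    rw [Scheme.Pullback.range_fst, range_sp]
    exact hz
  haveI : Smooth g := MorphismProperty.pullback_snd _ _ ‹_›
  let U : P.Opens := ⟨j.base ⁻¹' O, hO.preimage j.continuous⟩
  haveI : Nonempty U := ⟨⟨p, hzO⟩⟩
  obtain ⟨s₀, hs₀⟩ := Lib.GrpSch.exists_section_of_smooth (U.ι ≫ g)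
  obtain ⟨u, hu, hu'⟩ := Lib.Henselian.Sections.exists_section_of_smooth N.hom (s₀ ≫ U.ι ≫ j) (by
    rw [Category.assoc, Category.assoc, pullback.condition]
    rw [← Category.assoc U.ι, ← Category.assoc s₀]
    exact (congrArg (· ≫ sp) hs₀).trans (Category.id_comp _))
  refine ⟨Over.homMk u hu, ?_⟩
  let c₀ := IsLocalRing.closedPoint (IsLocalRing.ResidueField R)
  have hval : u.base (IsLocalRing.closedPoint R) = j.base (s₀.base c₀).1 := by
    rw [← sp_apply c₀]
    exact congrArg (fun t : Spec (CommRingCat.of (IsLocalRing.ResidueField R)) ⟶ N.left => t.base c₀) hu'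
  show u.base (IsLocalRing.closedPoint R) ∈ O
  rw [hval]
  exact (s₀.base c₀).2

/-- Sections lift along an étale endomorphism through any given point. -/
theorem exists_lift [HenselianLocalRing R] [IsSepClosed (IsLocalRing.ResidueField R)]
    {N : Over (Spec (CommRingCat.of R))} (f : N ⟶ N) [Etale f.left]
    (p : 𝟙_ (Over (Spec (CommRingCat.of R))) ⟶ N) {a : N.left} (ha : f.left.base a = cpt p) :
    ∃ q : 𝟙_ (Over (Spec (CommRingCat.of R))) ⟶ N, q ≫ f = p ∧ cpt q = a := by
  obtain ⟨w, hw₁, hw₂⟩ := Scheme.Pullback.exists_preimage_pullback (f := f.left) (g := p.left) a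
    (IsLocalRing.closedPoint R) ha
  obtain ⟨u, hu, huw⟩ := Lib.Henselian.Sections.exists_section_through (pullback.snd f.left p.left) w hw₂
  have hf : (u ≫ pullback.fst f.left p.left) ≫ f.left = p.left := by
    rw [Category.assoc, pullback.condition, reassoc_of% hu]
  refine ⟨Over.homMk (u ≫ pullback.fst f.left p.left) ?_, Over.OverMorphism.ext hf, ?_⟩
  · rw [← Over.w f, ← Category.assoc, hf]
    exact Over.w p
  · show (u ≫ pullback.fst f.left p.left).base (IsLocalRing.closedPoint R) = a
    rw [Scheme.Hom.comp_apply, huw, hw₁]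

/-- The unit component of the special fibre is irreducible and relatively open. -/
theorem unit_comp {N : Over (Spec (CommRingCat.of R))} [GrpObj N] [Smooth N.hom] [QuasiCompact N.hom] :
    IsIrreducible (connectedComponentIn (specialFibreSet R N) (cpt (η[N] : 𝟙_ _ ⟶ N))) ∧
      ∃ O : Set N.left, IsOpen O ∧
        O ∩ specialFibreSet R N = connectedComponentIn (specialFibreSet R N) (cpt (η[N] : 𝟙_ _ ⟶ N)) := by
  let sp := Spec.map (CommRingCat.ofHom (IsLocalRing.residue R))
  let G := (Over.pullback sp).obj N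
  let j : G.left ⟶ N.left := pullback.fst N.hom sp
  haveI : IsClosedImmersion sp := IsClosedImmersion.spec_of_surjective _ IsLocalRing.residue_surjective
  haveI : IsClosedImmersion j := MorphismProperty.pullback_fst _ _ inferInstance
  have hrange : Set.range j.base = specialFibreSet R N := by
    rw [Scheme.Pullback.range_fst, range_sp]
    rfl
  let p : G.left := η[G].left.base (IsLocalRing.closedPoint _)
  have hp : j.base p = cpt (η[N] : 𝟙_ _ ⟶ N) := by
    show (η[G].left ≫ j).base _ = _
    rw [Functor.obj.η_def]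
    simp only [Over.comp_left, Category.assoc, j, G, Over.pullback_map_left, pullback.lift_fst]
    simp only [Scheme.Hom.comp_apply]
    congr 1
    exact (congr($(pullback.condition (f := (𝟙_ (Over (Spec (CommRingCat.of R)))).hom) (g := sp)) _)).trans
      (sp_apply _)
  have himg : j.base '' connectedComponent p =
      connectedComponentIn (specialFibreSet R N) (cpt (η[N] : 𝟙_ _ ⟶ N)) := by
    rw [← hp]
    refine Set.Subset.antisymm ?_ fun y hy => ?_
    · refine (isPreconnected_connectedComponent.image _ j.continuous.continuousOn).subset_connectedComponentIn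
        ⟨p, mem_connectedComponent, rfl⟩ ?_
      rw [← hrange]
      exact Set.image_subset_range _ _
    · obtain ⟨q, rfl⟩ : y ∈ Set.range j.base := hrange.symm ▸ connectedComponentIn_subset _ _ hy
      refine ⟨q, ?_, rfl⟩
      have hs : _root_.IsPreconnected (j.base ⁻¹' connectedComponentIn (specialFibreSet R N) (j.base p)) := by
        rw [← j.isClosedEmbedding.isInducing.isPreconnected_image, Set.image_preimage_eq_of_subset
          (hrange.symm ▸ connectedComponentIn_subset _ _)]
        exact isPreconnected_connectedComponentIn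
      exact hs.subset_connectedComponent (mem_connectedComponentIn (hrange ▸ ⟨p, rfl⟩)) hy
  refine ⟨himg ▸ (S0355.result _ G).1.image _ j.continuous.continuousOn, ?_⟩
  haveI : Smooth G.hom := MorphismProperty.pullback_snd _ _ ‹_›
  haveI : QuasiCompact G.hom := MorphismProperty.pullback_snd _ _ ‹_›
  haveI : IsLocallyNoetherian G.left := LocallyOfFiniteType.isLocallyNoetherian G.hom
  haveI : CompactSpace G.left := QuasiCompact.compactSpace_of_compactSpace G.hom
  haveI : IsNoetherian G.left := {}
  haveI : Finite (_root_.ConnectedComponents G.left) := by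
    haveI := (TopologicalSpace.NoetherianSpace.finite_irreducibleComponents (α := G.left)).to_subtype
    refine Finite.of_surjective (fun C : irreducibleComponents G.left =>
      _root_.ConnectedComponents.mk (C.2.1.1.some : G.left)) fun c => ?_
    obtain ⟨x, rfl⟩ := _root_.ConnectedComponents.surjective_coe c
    refine ⟨⟨irreducibleComponent x, irreducibleComponent_mem_irreducibleComponents x⟩, ?_⟩
    exact _root_.ConnectedComponents.coe_eq_coe'.2 (isIrreducible_irreducibleComponent.2.isPreconnected.subset_connectedComponent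
      mem_irreducibleComponent (Set.Nonempty.some_mem _))
  have hopen : IsOpen (connectedComponent p) := by
    rw [← isClosed_compl_iff, show (connectedComponent p)ᶜ = ⋃ c ∈ {c : _root_.ConnectedComponents G.left | c ≠ _root_.ConnectedComponents.mk p},
        _root_.ConnectedComponents.mk ⁻¹' {c} by
      ext q
      simp only [Set.mem_compl_iff, Set.mem_iUnion, Set.mem_preimage, Set.mem_singleton_iff, exists_prop, Set.mem_setOf_eq]
      rw [← _root_.ConnectedComponents.coe_eq_coe']
      exact ⟨fun h => ⟨_, h, rfl⟩, fun ⟨c, hc, e⟩ => e ▸ hc⟩]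
    refine (Set.toFinite _).isClosed_biUnion fun c _ => ?_
    obtain ⟨q, rfl⟩ := _root_.ConnectedComponents.surjective_coe c
    rw [connectedComponents_preimage_singleton]
    exact isClosed_connectedComponent
  obtain ⟨O, hO, hOp⟩ := j.isClosedEmbedding.isInducing.isOpen_iff.1 hopen
  refine ⟨O, hO, ?_⟩
  rw [← himg, ← hOp, Set.image_preimage_eq_inter_range, hrange]

/-- Let R be a strictly henselian discrete valuation ring with fraction field K, N a group scheme over
Spec R which is a Néron model of its generic fibre, an abelian variety A over K, and n an integer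
invertible in the residue field of R. If x is a section of N (a K-point of A) whose n-th power meets
the connected component of the unit section in the special fibre, then there is a section y with y^n
= 1 such that x · y⁻¹ meets the connected component of the unit section: the n-torsion of the
component group is the image of the n-torsion of A(K). -/
theorem result (R K : Type u) [CommRing R] [IsDomain R] [IsDiscreteValuationRing R] [HenselianLocalRing R]
    [IsSepClosed (IsLocalRing.ResidueField R)] [Field K] [Algebra R K] [IsFractionRing R K]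
    (N : Over (Spec (CommRingCat.of R))) [GrpObj N] (hN : SGA7.IsNeron R K N)
    [IsProper ((SGA7.genFib R K).obj N).hom] [GeometricallyIntegral ((SGA7.genFib R K).obj N).hom]
    (n : ℕ) (hn : (n : IsLocalRing.ResidueField R) ≠ 0)
    (x : 𝟙_ (Over (Spec (CommRingCat.of R))) ⟶ N) (hx : x ^ n ∈ SGA7.secUnitComp R N) :
    ∃ y : 𝟙_ (Over (Spec (CommRingCat.of R))) ⟶ N, y ^ n = 1 ∧ x * y⁻¹ ∈ SGA7.secUnitComp R N := by
  obtain ⟨hsm, -, hqc, hbij⟩ := hN
  haveI : Smooth N.hom := hsm
  haveI : QuasiCompact N.hom := hqc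
  haveI : Smooth (N ⊗ N).hom := MorphismProperty.comp_mem _ _ _ (MorphismProperty.pullback_fst _ _ hsm) hsm
  haveI := S18494.isCommMonObj_of_proper ((SGA7.genFib R K).obj N)
  haveI : IsCommMonObj N := by
    refine ⟨?_⟩
    rw [MonObj.mul_eq_mul, MonObj.comp_mul, braiding_hom_fst, braiding_hom_snd]
    apply (hbij (N ⊗ N) inferInstance).1
    show (genFib R K).map _ = (genFib R K).map _
    rw [Functor.map_mul, Functor.map_mul, _root_.mul_comm]
  have hone : (η[N] : 𝟙_ (Over (Spec (CommRingCat.of R))) ⟶ N) = 1 := by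
    rw [Hom.one_def, toUnit_unique (toUnit _) (𝟙 _), Category.id_comp]
  have hu : IsUnit (n : R) := by
    rw [← IsLocalRing.residue_ne_zero_iff_isUnit, map_natCast]
    exact hn
  have hu' : IsUnit (n : Γ(Spec (CommRingCat.of R), ⊤)) := by
    have := hu.map (Scheme.ΓSpecIso (CommRingCat.of R)).inv.hom
    rwa [map_natCast] at this
  let f : N ⟶ N := 𝟙 N ^ n
  haveI : Etale f.left := H2.Rigid.etale_pow N n hu'
  have hfa : ∀ a : 𝟙_ (Over (Spec (CommRingCat.of R))) ⟶ N, a ≫ f = a ^ n := fun a => by
    simp [f, MonObj.comp_pow]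
  let z := x ^ n
  let C := connectedComponentIn (specialFibreSet R N) (cpt (η[N] : 𝟙_ _ ⟶ N))
  obtain ⟨hirr, O, hO, hOC⟩ := unit_comp (N := N)
  change O ∩ _ = C at hOC
  have he : cpt (η[N] : 𝟙_ _ ⟶ N) ∈ C := mem_connectedComponentIn (cpt_mem _)
  have hef : η[N] ≫ f = η[N] := by rw [hfa, hone, one_pow]
  have hf : Set.MapsTo f.left.base C C := mapsTo _ f (by rw [hef]; exact he)
  let T : N ⟶ N := (𝟙 N)⁻¹ * (toUnit N ≫ z)
  have hT : ∀ w : 𝟙_ (Over (Spec (CommRingCat.of R))) ⟶ N, w ≫ T = w⁻¹ * z := fun w => by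
    rw [MonObj.comp_mul, GrpObj.comp_inv, Category.comp_id, ← Category.assoc,
      toUnit_unique (w ≫ _) (𝟙 _), Category.id_comp]
  have hTT : T ≫ T = 𝟙 N := by
    rw [MonObj.comp_mul, GrpObj.comp_inv, Category.comp_id, ← Category.assoc,
      toUnit_unique (T ≫ _) (toUnit _), _root_.mul_inv_rev, _root_.inv_inv,
      mul_comm (toUnit N ≫ z)⁻¹, inv_mul_cancel_right]
  have hTC : Set.MapsTo T.left.base C C := mapsTo _ T (by rw [hT, hone, inv_one, _root_.one_mul]; exact hone ▸ hx)
  have hfO : IsOpen (f.left.base '' O) := f.left.isOpenMap _ hO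
  have hkey : ∀ w ∈ specialFibreSet R N, w ∈ f.left.base '' O → ∃ a ∈ C, f.left.base a = w := by
    rintro _ hw ⟨a, ha, rfl⟩
    refine ⟨a, hOC ▸ ⟨ha, ?_⟩, rfl⟩
    have : N.hom.base (f.left.base a) = IsLocalRing.closedPoint R := hw
    rwa [← Scheme.Hom.comp_apply, Over.w f] at this
  have hw₀ : f.left.base (cpt (η[N] : 𝟙_ _ ⟶ N)) ∈ f.left.base '' O :=
    ⟨_, (hOC.symm ▸ he : _ ∈ O ∩ specialFibreSet R N).1, rfl⟩
  obtain ⟨w, hwC, hw₁, hw₂⟩ := hirr.2 (f.left.base '' O) (T.left.base ⁻¹' (f.left.base '' O)) hfO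
    (hfO.preimage T.left.continuous) ⟨_, hf he, hw₀⟩ ⟨_, hTC (hf he), by
      show (T.left.base (T.left.base (f.left.base (cpt (η[N] : 𝟙_ _ ⟶ N))))) ∈ f.left.base '' O
      rw [← Scheme.Hom.comp_apply, ← Over.comp_left, hTT]
      exact hw₀⟩
  obtain ⟨p, hp₁, hp₂⟩ := exists_section (hfO.inter (hfO.preimage T.left.continuous))
    (connectedComponentIn_subset _ _ hwC) ⟨hw₁, hw₂⟩
  obtain ⟨a₀, ha₀, ha⟩ := hkey _ (cpt_mem p) hp₁
  obtain ⟨b₀, hb₀, hb⟩ := hkey _ (cpt_mem (p ≫ T)) hp₂
  obtain ⟨a, hap, hac⟩ := exists_lift f p ha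
  obtain ⟨b, hbp, hbc⟩ := exists_lift f (p ≫ T) hb
  rw [hfa] at hap hbp
  have hab : cpt (a * b) ∈ C := by
    let T' : N ⟶ N := 𝟙 N * (toUnit N ≫ b)
    have hT' : ∀ w : 𝟙_ (Over (Spec (CommRingCat.of R))) ⟶ N, w ≫ T' = w * b := fun w => by
      rw [MonObj.comp_mul, Category.comp_id, ← Category.assoc, toUnit_unique (w ≫ _) (𝟙 _), Category.id_comp]
    have hT'C : Set.MapsTo T'.left.base C C := mapsTo _ T' (by
      rw [hT', hone, _root_.one_mul, ← hone, hbc]; exact hb₀)
    rw [← hT']
    exact hT'C (show cpt a ∈ C by rw [hac]; exact ha₀)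
  refine ⟨x * (a * b)⁻¹, ?_, ?_⟩
  · rw [mul_pow, inv_pow, mul_pow, hap, hbp, hT, mul_inv_cancel_left, mul_inv_cancel]
  · rw [show x * (x * (a * b)⁻¹)⁻¹ = a * b by rw [_root_.mul_inv_rev, _root_.inv_inv, mul_comm (a * b), mul_inv_cancel_left]]
    exact hab

end Groth.Agent.S4071
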