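import Groth.Statements.S4075
import Groth.Agent.Lib.NeronInertia.Basic

set_option autoImplicit false
universe u
open CategoryTheory CategoryTheory.Limits AlgebraicGeometry MonObj
open SGA7

namespace Groth.Agent.S4075

open CategoryTheory.MonoidalCategory CategoryTheory.CartesianMonoidalCategory
attribute [local instance] Hom.group


/-- Let R be a henselian discrete valuation ring with fraction field K, Ω a separable closure of K, W a
valuation subring of Ω lying over R, N a group scheme over Spec R which is a Néron model of its
generic fibre A = N_K, an abelian variety, and m an integer invertible in the residue field. For an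
m-torsion Ω-point x of A, the inertia group at W fixes x if and only if the point of N underlying x
specialises to a point of the special fibre of N (x factors through the finite part of the m-torsion
of N): the fixed part of the m-torsion is the inertia invariants. -/
theorem result (R K Ω : Type u) [CommRing R] [IsDomain R]
    [IsDiscreteValuationRing R] [HenselianLocalRing R] [Field K] [Algebra R K] [IsFractionRing R K]
    [Field Ω] [Algebra K Ω] [IsSepClosure K Ω] (W : ValuationSubring Ω) (hW : SGA7.LiesOver K R W)
    (N : Over (Spec (CommRingCat.of R))) [GrpObj N] (hN : SGA7.IsNeron R K N)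
    [IsProper ((SGA7.genFib R K).obj N).hom] [GeometricallyIntegral ((SGA7.genFib R K).obj N).hom]
    (m : ℕ) (hm : (m : IsLocalRing.ResidueField R) ≠ 0)
    (x : SGA7.Pts Ω ((SGA7.genFib R K).obj N)) (hx : x ^ m = 1) :
    (∀ σ : Ω ≃ₐ[K] Ω, SGA7.IsInertia W σ → SGA7.galAct σ x = x) ↔
      ∃ z ∈ SGA7.specialFibreSet R N,
        (x.left ≫ pullback.fst N.hom (Spec.map (CommRingCat.ofHom (algebraMap R K)))).base
          (IsLocalRing.closedPoint Ω) ⤳ z := by
  letI : Algebra R Ω := ((algebraMap K Ω).comp (algebraMap R K)).toAlgebra
  haveI : IsScalarTower R K Ω := IsScalarTower.of_algebraMap_eq fun _ => rfl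
  haveI := hN.1
  haveI := hN.2.1
  haveI : IsCommMonObj ((SGA7.genFib R K).obj N) := by
    haveI : IsLocallyNoetherian (Spec (CommRingCat.of K)) := inferInstance
    haveI : LocallyOfFinitePresentation ((SGA7.genFib R K).obj N).hom :=
      Groth.Agent.H2.Rigid.lfp_of_noetherian _
    haveI : GeometricallyConnected ((SGA7.genFib R K).obj N).hom := ⟨fun k' _ y Z a b h => by
      haveI : IsIntegral Z := GeometricallyIntegral.geometrically_isIntegral (f := ((SGA7.genFib R K).obj N).hom) y a b h
      infer_instance⟩
    exact Groth.Agent.S7785.result _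
  haveI : IsCommMonObj N := by
    refine ⟨?_⟩
    have key : (snd N N * fst N N : N ⊗ N ⟶ N) = fst N N * snd N N := by
      refine ((hN.2.2.2 (N ⊗ N) ?_).1 ?_)
      · show Smooth (pullback.fst N.hom N.hom ≫ N.hom)
        infer_instance
      · show (SGA7.genFib R K).map _ = (SGA7.genFib R K).map _
        have h1 : ∀ a b : N ⊗ N ⟶ N, (SGA7.genFib R K).map (a * b) =
            (SGA7.genFib R K).map a * (SGA7.genFib R K).map b :=
          fun a b => map_mul (Functor.homMonoidHom (SGA7.genFib R K)) a b
        rw [h1, h1]
        letI := Hom.commMonoid (X := (SGA7.genFib R K).obj (N ⊗ N)) (M := (SGA7.genFib R K).obj N)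
        exact _root_.mul_comm _ _
    rw [Hom.mul_def, Hom.mul_def] at key
    have hb : (β_ N N).hom = lift (snd N N) (fst N N) := by ext <;> simp
    rw [hb]
    simpa using key
  constructor
  · intro h
    obtain ⟨u, hu⟩ := Groth.Agent.Lib.NeronInertia.extends_of_fixed W hW hN x h
    refine ⟨u (IsLocalRing.closedPoint W), ?_, ?_⟩
    · show (u ≫ N.hom) (IsLocalRing.closedPoint W) = IsLocalRing.closedPoint R
      rw [Groth.Agent.Lib.NeronInertia.over_base W hW x u hu]
      haveI : IsLocalHom (Groth.Agent.Lib.NeronInertia.gW W hW) := by
        refine ⟨fun r hr => ?_⟩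
        by_contra hnu
        exact (ValuationSubring.valuation_lt_one_iff W _).2 (hW.2 r hnu) hr
      exact IsLocalRing.comap_closedPoint _
    · rw [← hu]
      exact (IsLocalRing.specializes_closedPoint _).map u.continuous
  · rintro ⟨z, hz, hsp⟩ σ hσ
    obtain ⟨u, hu⟩ := Groth.Agent.Lib.NeronInertia.extends_of_specializes W hW x z hz hsp
    exact Groth.Agent.Lib.NeronInertia.fixed_of_extends W hW m hm N σ hσ x hx u hu

end Groth.Agent.S4075
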