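import Groth.Statements.S4085
import Groth.Agent.H81.GrpdCoeq.Main
-- import your own Groth.Agent.* helpers here

set_option autoImplicit false
universe u
open CategoryTheory MonoidalCategory CartesianMonoidalCategory MonObj GrpObj AlgebraicGeometry CategoryTheory.Limits
open GrpQ

namespace Groth.Agent.S4085

/-- Let (U, R, s, t, c) be a groupoid scheme over S such that the source map s is finite locally free
and, for every point x of U, the set t(s⁻¹(x)) is contained in an affine open of U. Then there are a
scheme Y and a morphism p : U → Y with t ≫ p = s ≫ p which is a coequalizer of (t, s) in the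
category of schemes; p is integral, surjective and open, two points of U have the same image exactly
when they are the target and source of a point of R, the morphism R → U ×_Y U with components (t, s)
is surjective, and Y is affine when U is. (The source also shows that (Y, p) is a cokernel in all
ringed spaces.) -/
theorem result (S : Scheme.{u}) (G : Grpd.GroupoidScheme S)
    (ha : Mor2.IsFinLocFree G.s)
    (hb : ∀ x : G.U, ∃ V : G.U.Opens, IsAffineOpen V ∧ G.t.base '' (G.s.base ⁻¹' {x}) ⊆ (V : Set G.U)) :
    ∃ (Y : Scheme.{u}) (p : G.U ⟶ Y) (w : G.t ≫ p = G.s ≫ p),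
      Nonempty (IsColimit (Cofork.ofπ p w)) ∧ IsIntegralHom p ∧ Surjective p ∧ IsOpenMap p.base ∧
      (∀ x y : G.U, p.base x = p.base y ↔ ∃ r : G.R, G.t.base r = x ∧ G.s.base r = y) ∧
      Function.Surjective (pullback.lift G.t G.s w).base ∧ (IsAffine G.U → IsAffine Y) := by
  obtain ⟨h1, h2, h3⟩ := ha
  obtain ⟨Y, p, hp⟩ := Groth.Agent.H81.GrpdCoeq.exists_isGood G hb
  refine ⟨Y, p, hp.cond.symm, ⟨?_⟩, hp.integral, ⟨hp.surj⟩, hp.openMap, fun x y => ?_, hp.pair, hp.affine⟩
  · exact Cofork.IsColimit.mk' _ fun c => ⟨hp.colim.some.desc (Cofork.ofπ c.π c.condition.symm),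
      hp.colim.some.fac (Cofork.ofπ c.π c.condition.symm) WalkingParallelPair.one,
      fun {m} hm => Cofork.IsColimit.hom_ext hp.colim.some (hm.trans
        (hp.colim.some.fac (Cofork.ofπ c.π c.condition.symm) WalkingParallelPair.one).symm)⟩
  · exact (eq_comm.trans (hp.fib y x)).trans (exists_congr fun r => and_comm)

end Groth.Agent.S4085
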