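import Groth.Statements.S4091
import Groth.Agent.H14.FppfDesc.Scheme
import Groth.Agent.H54.ThickBasic

set_option autoImplicit false
universe u
open CategoryTheory.Limits
open CategoryTheory MonoidalCategory CartesianMonoidalCategory MonObj GrpObj AlgebraicGeometry CategoryTheory.Limits
open GrpQ

namespace Groth.Agent.S4091

/-- Let p : X → Y and q : Y → S be morphisms of schemes with p surjective, flat and of finite
presentation. If p ≫ q is of finite type then q is of finite type; if p ≫ q is of finite
presentation then q is of finite presentation. -/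
theorem result {X Y S : Scheme.{u}} (p : X ⟶ Y) (q : Y ⟶ S)
    [Surjective p] [Flat p] [LocallyOfFinitePresentation p] [QuasiCompact p] [QuasiSeparated p] :
    ((LocallyOfFiniteType (p ≫ q) ∧ QuasiCompact (p ≫ q)) → (LocallyOfFiniteType q ∧ QuasiCompact q)) ∧
    ((LocallyOfFinitePresentation (p ≫ q) ∧ QuasiCompact (p ≫ q) ∧ QuasiSeparated (p ≫ q)) →
      (LocallyOfFinitePresentation q ∧ QuasiCompact q ∧ QuasiSeparated q)) := by
  refine ⟨fun h => ⟨H14.FppfDesc.Scheme.locallyOfFiniteType_of_comp p q h.1, ?_⟩, fun h =>
    ⟨H14.FppfDesc.Scheme.locallyOfFinitePresentation_of_comp p q h.1, ?_, ?_⟩⟩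
  · haveI := h.2
    exact H54.ThickBasic.quasiCompact_of_comp_surjective p q
  · haveI := h.2.1
    exact H54.ThickBasic.quasiCompact_of_comp_surjective p q
  · haveI := h.2.2
    refine ⟨?_⟩
    have h' : QuasiCompact (pullback.diagonal (p ≫ q) ≫
        pullback.map (p ≫ q) (p ≫ q) q q p p (𝟙 S) (by simp) (by simp)) := by
      have : QuasiCompact (pullback.map (p ≫ q) (p ≫ q) q q p p (𝟙 S) (by simp) (by simp)) :=
        MorphismProperty.pullbackMap (P := @QuasiCompact) inferInstance inferInstance rfl rfl
      infer_instance
    have heq : pullback.diagonal (p ≫ q) ≫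
        pullback.map (p ≫ q) (p ≫ q) q q p p (𝟙 S) (by simp) (by simp) = p ≫ pullback.diagonal q := by
      apply pullback.hom_ext
      · simp only [Category.assoc, pullback.map, pullback.lift_fst, pullback.diagonal_fst,
          pullback.diagonal_fst_assoc, Category.comp_id]
      · simp only [Category.assoc, pullback.map, pullback.lift_snd, pullback.diagonal_snd,
          pullback.diagonal_snd_assoc, Category.comp_id]
    rw [heq] at h'
    exact H54.ThickBasic.quasiCompact_of_comp_surjective p _

end Groth.Agent.S4091
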