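import Groth.Statements.S4092
import Groth.Agent.Lib.GrpQ.FfMono

set_option autoImplicit false
universe u
open CategoryTheory MonoidalCategory CartesianMonoidalCategory MonObj GrpObj AlgebraicGeometry CategoryTheory.Limits
open GrpQ

namespace Groth.Agent.S4092

/-- Let f : X → Y be a morphism of schemes which is locally of finite presentation. Then f factors as f
= f'' ∘ f' with f' : X → X' surjective, flat and locally of finite presentation and f'' : X' → Y a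
monomorphism if and only if the first projection X ×_Y X → X is flat. Moreover two such
factorisations are isomorphic: there is an isomorphism of the middle schemes compatible with both
maps. -/
theorem result {X Y : Scheme.{u}} (f : X ⟶ Y) [LocallyOfFinitePresentation f] :
    ((∃ (X' : Scheme.{u}) (f' : X ⟶ X') (f'' : X' ⟶ Y),
        Surjective f' ∧ Flat f' ∧ LocallyOfFinitePresentation f' ∧ Mono f'' ∧ f' ≫ f'' = f) ↔
      Flat (pullback.fst f f)) ∧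
    (∀ (X₁ X₂ : Scheme.{u}) (g₁ : X ⟶ X₁) (h₁ : X₁ ⟶ Y) (g₂ : X ⟶ X₂) (h₂ : X₂ ⟶ Y),
      Surjective g₁ → Flat g₁ → LocallyOfFinitePresentation g₁ → Mono h₁ → g₁ ≫ h₁ = f →
      Surjective g₂ → Flat g₂ → LocallyOfFinitePresentation g₂ → Mono h₂ → g₂ ≫ h₂ = f →
      ∃ φ : X₁ ≅ X₂, g₁ ≫ φ.hom = g₂ ∧ φ.hom ≫ h₂ = h₁) := by
  refine ⟨⟨?_, fun h ↦ ?_⟩, fun X₁ X₂ g₁ h₁ g₂ h₂ a₁ b₁ c₁ d₁ w₁ a₂ b₂ c₂ d₂ w₂ ↦ ?_⟩
  · rintro ⟨X', f', f'', -, hf, -, hm, w⟩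
    exact @Lib.GrpQ.FfMono.flat_fst_of_ffMono X Y f X' f' f'' hf hm w
  · obtain ⟨X', f', f'', h1, h2, h3, h4, -, h5⟩ := Lib.GrpQ.FfMono.exists_ffMono f h inferInstance
    exact ⟨X', f', f'', h1, h2, h3, h4, h5⟩
  · exact @Lib.GrpQ.FfMono.iso_of_ffMono X Y f X₁ X₂ g₁ h₁ g₂ h₂ a₁ b₁ c₁ d₁ w₁ a₂ b₂ c₂ d₂ w₂

end Groth.Agent.S4092
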