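import Groth.Statements.S4093
import Groth.Agent.Lib.GrpQ.FfMonoGrp

set_option autoImplicit false
universe u
open CategoryTheory MonoidalCategory CartesianMonoidalCategory MonObj GrpObj AlgebraicGeometry CategoryTheory.Limits
open GrpQ

namespace Groth.Agent.S4093

/-- Case a: ): let S be a scheme, G an S-group scheme locally of finite presentation over S acting on an
S-scheme X which is locally of finite type over S, and ξ an S-point of X whose stabilizer H (the
fibre of the orbit map g ↦ g·ξ over ξ) is flat over S. Then there are an S-scheme Q, locally of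
finite presentation over S, and a factorisation of the orbit map as p : G → Q followed by i : Q → X,
where p is surjective, flat and locally of finite presentation and i is a monomorphism; moreover the
square formed by (g, h) ↦ g·h, the first projection G ×_S H → G and p is cartesian (Q is the
quotient G/H). -/
theorem result (S : Scheme.{u}) (G X : Over S) [GrpObj G]
    [LocallyOfFinitePresentation G.hom] [LocallyOfFiniteType X.hom] (a : AlgGrp.Action G X)
    (ξ : 𝟙_ (Over S) ⟶ X) (hH : Flat (pullback (a.orbitMap ξ) ξ).hom) :
    ∃ (Q : Over S) (p : G ⟶ Q) (i : Q ⟶ X), p ≫ i = a.orbitMap ξ ∧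
      Surjective p.left ∧ Flat p.left ∧ LocallyOfFinitePresentation p.left ∧ Mono i ∧
      LocallyOfFinitePresentation Q.hom ∧
      IsPullback ((G ◁ pullback.fst (a.orbitMap ξ) ξ) ≫ μ[G]) (fst G (pullback (a.orbitMap ξ) ξ)) p p := by
  have hp : IsPullback (pullback.fst (a.orbitMap ξ) ξ) (toUnit _) (a.orbitMap ξ) ξ := by
    rw [← toUnit_unique (pullback.snd (a.orbitMap ξ) ξ) (toUnit _)]
    exact IsPullback.of_hasPullback _ _
  obtain ⟨Q, p, i, h1, h2, h3, h4, h5, h6, h7⟩ :=
    Lib.GrpQ.FfMono.exists_quot_stab a ξ _ hp hH (Or.inl ‹_›)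
  exact ⟨Q, p, i, h1, h2, h3, h4, h5, h6, h7.flip⟩

end Groth.Agent.S4093
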