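import Groth.Statements.S4095
import Groth.Agent.Lib.GrpdGen.Quot
import Groth.Agent.Lib.GrpdGen.Stabilizer
import Groth.Agent.Lib.GrpdQuot.Action


set_option autoImplicit false
universe u
open CategoryTheory MonoidalCategory CartesianMonoidalCategory MonObj GrpObj AlgebraicGeometry CategoryTheory.Limits
open GrpQ

namespace Groth.Agent.S4095

/-- Let S be noetherian, G an S-group scheme flat and of finite type over S acting on an S-scheme X of
finite type, with action d₀ : G ×_S X → X and projection d₁, and suppose the stabilizer F of the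
diagonal (the pullback of (d₀, d₁) : G ×_S X → X ×_S X along the diagonal) is quasi-finite over X.
Then there is a dense open U of X, saturated (d₀⁻¹(U) = d₁⁻¹(U)), such that the pair d₀|, d₁| :
d₁⁻¹(U) ⇉ U has a coequalizer p : U → V in schemes, with V of finite presentation over S and p
surjective, open and of finite presentation, and d₁⁻¹(U) → U ×_V U surjective; if moreover G acts
freely ((d₀, d₁) a monomorphism) then d₁⁻¹(U) ≅ U ×_V U via (d₀, d₁) and p is faithfully flat (U is
a G-torsor over V for the fppf topology). -/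
theorem result (S : Scheme.{u}) [IsNoetherian S] (G X : Over S) [GrpObj G]
    [Flat G.hom] [LocallyOfFiniteType G.hom] [QuasiCompact G.hom] [LocallyOfFiniteType X.hom] [QuasiCompact X.hom]
    (a : AlgGrp.Action G X)
    (hF : LocallyQuasiFinite (pullback.snd (lift a.act (snd G X)) (lift (𝟙 X) (𝟙 X))).left) :
    ∃ (U : X.left.Opens) (hU : a.act.left ⁻¹ᵁ U = (snd G X).left ⁻¹ᵁ U), Dense (U : Set X.left) ∧
      ∃ (V : Scheme.{u}) (p : (U : Scheme.{u}) ⟶ V)
        (w : a.act.left.resLE U ((snd G X).left ⁻¹ᵁ U) hU.ge ≫ p = ((snd G X).left ∣_ U) ≫ p) (q : V ⟶ S),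
        Nonempty (IsColimit (Cofork.ofπ p w)) ∧ p ≫ q = U.ι ≫ X.hom ∧
        Surjective p ∧ IsOpenMap p.base ∧ LocallyOfFinitePresentation p ∧
        LocallyOfFinitePresentation q ∧ QuasiCompact q ∧ QuasiSeparated q ∧
        Function.Surjective (pullback.lift (a.act.left.resLE U ((snd G X).left ⁻¹ᵁ U) hU.ge) ((snd G X).left ∣_ U) w).base ∧
        (Mono (lift a.act (snd G X)) →
          IsPullback (a.act.left.resLE U ((snd G X).left ⁻¹ᵁ U) hU.ge) ((snd G X).left ∣_ U) p p ∧ Flat p) := by
  let Φ := lift a.act (snd G X)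
  have hs : ∀ {P : MorphismProperty Scheme.{u}} [P.IsStableUnderBaseChange], P G.hom → P (snd G X).left :=
    fun h => Lib.GrpSch.snd_left_of X h
  have : Flat (snd G X).left := hs (P := @Flat) inferInstance
  have : LocallyOfFiniteType (snd G X).left := hs (P := @LocallyOfFiniteType) inferInstance
  have : QuasiCompact (snd G X).left := hs (P := @QuasiCompact) inferInstance
  have : LocallyOfFiniteType Φ.left := by
    have : LocallyOfFiniteType (Φ.left ≫ (snd X X).left) := by
      rw [← Over.comp_left, lift_snd]; infer_instance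
    exact locallyOfFiniteType_of_comp Φ.left (snd X X).left
  have hq : LocallyQuasiFinite Φ.left := Lib.GrpdGen.locallyQuasiFinite_shear a hF
  let D := Lib.GrpdQuot.actGrpd a
  have hj : D.j = Φ.left := by
    apply Limits.pullback.hom_ext
    · exact (Limits.pullback.lift_fst _ _ _).trans ((congrArg Over.Hom.left (lift_fst a.act (snd G X))).symm.trans rfl)
    · exact (Limits.pullback.lift_snd _ _ _).trans ((congrArg Over.Hom.left (lift_snd a.act (snd G X))).symm.trans rfl)
  have : Flat D.s := ‹Flat (snd G X).left›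
  have : LocallyOfFiniteType D.s := ‹LocallyOfFiniteType (snd G X).left›
  have : QuasiCompact D.s := ‹QuasiCompact (snd G X).left›
  have : LocallyOfFiniteType D.pU := ‹LocallyOfFiniteType X.hom›
  have : QuasiCompact D.pU := ‹QuasiCompact X.hom›
  have : LocallyQuasiFinite D.j := by rw [hj]; exact hq
  have : LocallyOfFiniteType D.j := by rw [hj]; exact ‹LocallyOfFiniteType Φ.left›
  obtain ⟨U, hU, hd, V, p, w, q, h1, h2, h3, h4, h5, h6, h7, h8, h9, h10⟩ := Lib.GrpdGen.exists_genQuot D
  refine ⟨U, hU, hd, V, p, w, q, h1, h2, h3, h4, h5, h6, h7, h8, h9, fun hm => h10 ?_⟩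
  have : Mono Φ := hm
  rw [hj]
  exact ((Over.forget S).map_mono Φ)


end Groth.Agent.S4095
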