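import Groth.Statements.S4096
import Groth.Agent.Lib.GrpQ.FfMonoAct
import Groth.Agent.Lib.Flat55.FlatDescend

set_option autoImplicit false
universe u
open CategoryTheory MonoidalCategory CartesianMonoidalCategory MonObj GrpObj AlgebraicGeometry CategoryTheory.Limits
open GrpQ

namespace Groth.Agent.S4096

set_option linter.style.haveILetI false

/-- Properties descending along a cover on the source. -/
theorem descend_props {A B C : Scheme.{u}} (e : A ⟶ B) (k : B ⟶ C) [Surjective e] [Flat e]
    [LocallyOfFinitePresentation e] [Surjective (e ≫ k)] [Flat (e ≫ k)]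
    [LocallyOfFinitePresentation (e ≫ k)] [QuasiCompact (e ≫ k)] [IsLocallyNoetherian C] :
    Surjective k ∧ Flat k ∧ LocallyOfFinitePresentation k ∧ QuasiCompact k ∧ QuasiSeparated k := by
  have hp : LocallyOfFinitePresentation k :=
    Lib.GrpQ.FfMono.lfp_of_cover e k
  have : IsLocallyNoetherian B := LocallyOfFiniteType.isLocallyNoetherian k
  refine ⟨Surjective.of_comp e k, Lib.Flat55.FlatDescend.flat_of_comp e k, hp, ⟨fun U hU hU' => ?_⟩,
    inferInstance⟩
  rw [← Set.image_preimage_eq (k ⁻¹' U) e.surjective, ← Set.preimage_comp]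
  exact (QuasiCompact.isCompact_preimage (f := e ≫ k) U hU hU').image e.continuous


/-- Let S be noetherian, G an S-group scheme flat and of finite type acting on an S-scheme X of finite
type, d = (d₀, d₁) : G ×_S X → X ×_S X, and F the stabilizer of the diagonal. Then a) d factors as ψ
: G ×_S X → Y surjective, flat and locally of finite presentation followed by a monomorphism τ : Y →
X ×_S X (Y represents the sheaf image of d) if and only if F is flat over X; b) in that case the two
morphisms Y → X induced by the projections are surjective, flat and of finite presentation. -/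
theorem result (S : Scheme.{u}) [IsNoetherian S] (G X : Over S) [GrpObj G]
    [Flat G.hom] [LocallyOfFiniteType G.hom] [QuasiCompact G.hom] [LocallyOfFiniteType X.hom] [QuasiCompact X.hom]
    (a : AlgGrp.Action G X) :
    ((∃ (Y : Over S) (ψ : G ⊗ X ⟶ Y) (τ : Y ⟶ X ⊗ X), ψ ≫ τ = lift a.act (snd G X) ∧
        Surjective ψ.left ∧ Flat ψ.left ∧ LocallyOfFinitePresentation ψ.left ∧ Mono τ) ↔
      Flat (pullback.snd (lift a.act (snd G X)) (lift (𝟙 X) (𝟙 X))).left) ∧
    (∀ (Y : Over S) (ψ : G ⊗ X ⟶ Y) (τ : Y ⟶ X ⊗ X), ψ ≫ τ = lift a.act (snd G X) →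
      Surjective ψ.left → Flat ψ.left → LocallyOfFinitePresentation ψ.left → Mono τ →
      (Surjective (τ ≫ fst X X).left ∧ Flat (τ ≫ fst X X).left ∧ LocallyOfFinitePresentation (τ ≫ fst X X).left ∧
        QuasiCompact (τ ≫ fst X X).left ∧ QuasiSeparated (τ ≫ fst X X).left ∧
       Surjective (τ ≫ snd X X).left ∧ Flat (τ ≫ snd X X).left ∧ LocallyOfFinitePresentation (τ ≫ snd X X).left ∧
        QuasiCompact (τ ≫ snd X X).left ∧ QuasiSeparated (τ ≫ snd X X).left)) := by
  haveI : IsLocallyNoetherian X.left := LocallyOfFiniteType.isLocallyNoetherian X.hom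
  haveI : LocallyOfFinitePresentation G.hom :=
    LocallyOfFinitePresentation.iff_locallyOfFiniteType.2 ‹_›
  haveI : LocallyOfFinitePresentation X.hom :=
    LocallyOfFinitePresentation.iff_locallyOfFiniteType.2 ‹_›
  haveI : Surjective G.hom := Lib.GrpQ.FfMono.surjective_hom G
  haveI hGX : LocallyOfFinitePresentation (G ⊗ X).hom := by
    rw [← Over.w (snd G X)]
    haveI : LocallyOfFinitePresentation (snd G X).left :=
      Lib.GrpSch.snd_left_of (P := @LocallyOfFinitePresentation) X ‹_›
    infer_instance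
  haveI : LocallyOfFiniteType (X ⊗ X).hom := by
    rw [← Over.w (snd X X)]
    haveI : LocallyOfFiniteType (snd X X).left :=
      Lib.GrpSch.snd_left_of (P := @LocallyOfFiniteType) X ‹_›
    infer_instance
  haveI hd : LocallyOfFinitePresentation (lift a.act (snd G X)).left :=
    Lib.AlgSpMor.Cancel.locallyOfFinitePresentation_of_comp (g := (X ⊗ X).hom)
      (by rw [Over.w]; infer_instance) ‹_›
  refine ⟨⟨fun ⟨Y, ψ, τ, w, _, hf, _, hm⟩ => ?_, fun hF => ?_⟩, fun Y ψ τ w hs hf hp hm => ?_⟩
  · refine (Lib.GrpQ.FfMono.flat_stabProj_iff a).1 ?_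
    have sq := (Lib.GrpQ.FfMono.isPullback_of_comp_mono ψ τ
      (w.symm ▸ Lib.GrpQ.FfMono.isPullback_kerPair a)).map (Over.forget S)
    exact MorphismProperty.of_isPullback (P := @Flat) sq.flip hf
  · have h1 := (Lib.GrpQ.FfMono.flat_stabProj_iff a).2 hF
    have h2 : LocallyOfFinitePresentation
        (pullback.fst (snd G X) (Lib.GrpQ.FfMono.stabProj a)).left := by
      refine MorphismProperty.of_isPullback (P := @LocallyOfFinitePresentation)
        (((IsPullback.of_hasPullback _ _).map (Over.forget S)).flip) ?_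
      exact MorphismProperty.of_isPullback (P := @LocallyOfFinitePresentation)
        ((IsPullback.of_hasPullback (lift a.act (snd G X)) (lift (𝟙 X) (𝟙 X))).map (Over.forget S)) hd
    obtain ⟨Y, ψ, τ, w, h3, h4, h5, h6, -, -⟩ :=
      Lib.GrpQ.FfMono.exists_ffMono_over _ (Lib.GrpQ.FfMono.isPullback_kerPair a) h1 h2
    exact ⟨Y, ψ, τ, w, h3, h4, h5, h6⟩
  · haveI := hs; haveI := hf; haveI := hp
    have e1 : ψ.left ≫ (τ ≫ fst X X).left = a.act.left := by
      rw [← Over.comp_left, ← Category.assoc, w, lift_fst]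
    have e2 : ψ.left ≫ (τ ≫ snd X X).left = (snd G X).left := by
      rw [← Over.comp_left, ← Category.assoc, w, lift_snd]
    haveI : Surjective (ψ.left ≫ (τ ≫ fst X X).left) := e1 ▸ Lib.GrpSch.act_left_of (P := @Surjective) a ‹_›
    haveI : Flat (ψ.left ≫ (τ ≫ fst X X).left) := e1 ▸ Lib.GrpSch.act_left_of (P := @Flat) a ‹_›
    haveI : LocallyOfFinitePresentation (ψ.left ≫ (τ ≫ fst X X).left) :=
      e1 ▸ Lib.GrpSch.act_left_of (P := @LocallyOfFinitePresentation) a ‹_›
    haveI : QuasiCompact (ψ.left ≫ (τ ≫ fst X X).left) := e1 ▸ Lib.GrpSch.act_left_of (P := @QuasiCompact) a ‹_›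
    haveI : Surjective (ψ.left ≫ (τ ≫ snd X X).left) := e2 ▸ Lib.GrpSch.snd_left_of (P := @Surjective) X ‹_›
    haveI : Flat (ψ.left ≫ (τ ≫ snd X X).left) := e2 ▸ Lib.GrpSch.snd_left_of (P := @Flat) X ‹_›
    haveI : LocallyOfFinitePresentation (ψ.left ≫ (τ ≫ snd X X).left) :=
      e2 ▸ Lib.GrpSch.snd_left_of (P := @LocallyOfFinitePresentation) X ‹_›
    haveI : QuasiCompact (ψ.left ≫ (τ ≫ snd X X).left) := e2 ▸ Lib.GrpSch.snd_left_of (P := @QuasiCompact) X ‹_›
    obtain ⟨f1, f2, f3, f4, f5⟩ := descend_props ψ.left (τ ≫ fst X X).left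
    obtain ⟨g1, g2, g3, g4, g5⟩ := descend_props ψ.left (τ ≫ snd X X).left
    exact ⟨f1, f2, f3, f4, f5, g1, g2, g3, g4, g5⟩

end Groth.Agent.S4096
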