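import Groth.Statements.S4097
import Groth.Agent.Lib.GrpdGen.FlatStabAct
import Groth.Agent.Lib.GrpdGen.FlatStabQuot

set_option autoImplicit false
universe u
open CategoryTheory MonoidalCategory CartesianMonoidalCategory MonObj GrpObj AlgebraicGeometry CategoryTheory.Limits
open GrpQ

namespace Groth.Agent.S4097

/-- Let S be noetherian, G an S-group scheme flat and of finite type acting on an S-scheme X of finite
type, and suppose that the stabilizer F of the diagonal is flat over X, or that X is reduced. Then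
there is a dense open U of X, saturated for the action, and a coequalizer p : U → V in schemes of
the induced pair d₀|, d₁| : d₁⁻¹(U) ⇉ U, with V of finite type over S and p surjective, flat and of
finite presentation. -/
theorem result (S : Scheme.{u}) [IsNoetherian S] (G X : Over S) [GrpObj G]
    [Flat G.hom] [LocallyOfFiniteType G.hom] [QuasiCompact G.hom] [LocallyOfFiniteType X.hom] [QuasiCompact X.hom]
    (a : AlgGrp.Action G X)
    (hF : Flat (pullback.snd (lift a.act (snd G X)) (lift (𝟙 X) (𝟙 X))).left ∨ IsReduced X.left) :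
    ∃ (U : X.left.Opens) (hU : a.act.left ⁻¹ᵁ U = (snd G X).left ⁻¹ᵁ U), Dense (U : Set X.left) ∧
      ∃ (V : Scheme.{u}) (p : (U : Scheme.{u}) ⟶ V)
        (w : a.act.left.resLE U ((snd G X).left ⁻¹ᵁ U) hU.ge ≫ p = ((snd G X).left ∣_ U) ≫ p) (q : V ⟶ S),
        Nonempty (IsColimit (Cofork.ofπ p w)) ∧ p ≫ q = U.ι ≫ X.hom ∧
        Surjective p ∧ Flat p ∧ LocallyOfFinitePresentation p ∧ LocallyOfFiniteType q ∧ QuasiCompact q := by
  haveI : IsLocallyNoetherian X.left := LocallyOfFiniteType.isLocallyNoetherian X.hom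
  haveI : CompactSpace X.left := QuasiCompact.compactSpace_of_compactSpace X.hom
  haveI : AlgebraicGeometry.IsNoetherian X.left := ⟨⟩
  haveI : LocallyOfFinitePresentation G.hom :=
    LocallyOfFinitePresentation.iff_locallyOfFiniteType.2 ‹_›
  haveI : LocallyOfFiniteType (X ⊗ X).hom := by
    rw [← Over.w (snd X X)]
    haveI : LocallyOfFiniteType (snd X X).left :=
      Lib.GrpSch.snd_left_of (P := @LocallyOfFiniteType) X ‹_›
    infer_instance
  haveI : LocallyOfFiniteType (snd G X).left := Lib.GrpSch.snd_left_of (P := @LocallyOfFiniteType) X ‹_›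
  haveI : QuasiCompact (snd G X).left := Lib.GrpSch.snd_left_of (P := @QuasiCompact) X ‹_›
  haveI : Flat (snd G X).left := Lib.GrpSch.snd_left_of (P := @Flat) X ‹_›
  haveI : IsLocallyNoetherian (X ⊗ X).left := LocallyOfFiniteType.isLocallyNoetherian (X ⊗ X).hom
  haveI : LocallyOfFiniteType (lift a.act (snd G X)).left := by
    haveI : LocallyOfFiniteType ((lift a.act (snd G X)).left ≫ (X ⊗ X).hom) := by
      rw [Over.w, ← Over.w (snd G X)]; infer_instance
    exact locallyOfFiniteType_of_comp _ (X ⊗ X).hom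
  haveI : QuasiCompact (lift a.act (snd G X)).left := by
    haveI : QuasiCompact ((lift a.act (snd G X)).left ≫ (X ⊗ X).hom) := by
      rw [Over.w, ← Over.w (snd G X)]; infer_instance
    exact QuasiCompact.of_comp _ (X ⊗ X).hom
  have sqF := (IsPullback.of_hasPullback (lift a.act (snd G X)) (lift (𝟙 X) (𝟙 X))).map (Over.forget S)
  haveI : LocallyOfFiniteType (Lib.GrpQ.FfMono.stabProj a).left :=
    MorphismProperty.of_isPullback (P := @LocallyOfFiniteType) sqF ‹_›
  haveI : QuasiCompact (Lib.GrpQ.FfMono.stabProj a).left :=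
    MorphismProperty.of_isPullback (P := @QuasiCompact) sqF ‹_›
  let A := Lib.GrpdQuot.actGrpd a
  haveI : Flat A.s := ‹Flat (snd G X).left›
  haveI : LocallyOfFiniteType A.s := ‹LocallyOfFiniteType (snd G X).left›
  haveI : QuasiCompact A.s := ‹QuasiCompact (snd G X).left›
  haveI : LocallyOfFiniteType A.pU := ‹LocallyOfFiniteType X.hom›
  haveI : QuasiCompact A.pU := ‹QuasiCompact X.hom›
  let U : A.U.Opens := Lib.GrpdGen.flatLocus a
  have hj : A.j = (lift a.act (snd G X)).left := by
    apply pullback.hom_ext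
    · rw [Lib.GrpdGen.j_fst A]
      exact congr($(lift_fst a.act (snd G X)).left).symm
    · rw [Lib.GrpdGen.j_snd A]
      exact congr($(lift_snd a.act (snd G X)).left).symm
  let kf : (Lib.GrpdGen.kerObj a).left ⟶ A.R := (Lib.GrpdGen.kerFst a).left
  let ks : (Lib.GrpdGen.kerObj a).left ⟶ A.R := (Lib.GrpQ.FfMono.kerSnd a).left
  have sqK : IsPullback kf ks A.j A.j := by
    rw [hj]
    exact (Lib.GrpQ.FfMono.isPullback_kerPair a).map (Over.forget S)
  haveI : Flat ((Lib.GrpQ.FfMono.stabProj a).left ∣_ U) := Lib.GrpdGen.flat_flatLocus a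
  haveI h1 : Flat ((Lib.GrpdGen.kerFst a).left ∣_ ((snd G X).left ⁻¹ᵁ U)) :=
    have sqs : IsPullback (Lib.GrpdGen.kerFst a).left
        (pullback.snd (snd G X) (Lib.GrpQ.FfMono.stabProj a)).left (snd G X).left
        (Lib.GrpQ.FfMono.stabProj a).left :=
      (IsPullback.of_hasPullback (snd G X) (Lib.GrpQ.FfMono.stabProj a)).map (Over.forget S)
    Lib.GrpdGen.flat_restrict_of_isPullback sqs U
  haveI : Flat (pullback.fst A.j A.j ∣_ (A.s ⁻¹ᵁ U)) := by
    have key : ∀ m : pullback A.j A.j ⟶ A.R, m = sqK.isoPullback.inv ≫ kf →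
        Flat (m ∣_ (A.s ⁻¹ᵁ U)) := by
      rintro m rfl
      exact (Lib.GrpdGen.flat_restrict_iff _ _).2 fun x hx => by
        rw [Scheme.Hom.stalkMap_comp]
        exact RingHom.Flat.comp ((Lib.GrpdGen.flat_restrict_iff kf _).1 h1 _ hx) (Flat.stalkMap _ _)
    exact key _ sqK.isoPullback_inv_fst.symm
  exact Lib.GrpdGen.exists_flatStabQuot A U (Lib.GrpdGen.flatLocus_saturated a)
    (Lib.GrpdGen.dense_flatLocus a hF)

end Groth.Agent.S4097
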