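import Groth.Statements.S4101
import Groth.Agent.Lib.FreeRes.EssFree
import Groth.Agent.Lib.Lim.Approx.Integral

set_option autoImplicit false
universe u
open CategoryTheory MonoidalCategory CartesianMonoidalCategory MonObj GrpObj AlgebraicGeometry CategoryTheory.Limits
open SGA3

namespace Groth.Agent.S4101

/-- Let f : Z → S be essentially free (every point of S has an affine open neighbourhood U and a flat
surjective morphism S' → U from an affine scheme S' such that Z ×_S S' is covered by affine opens
whose rings of sections are projective Γ(S')-modules) and j : Y → Z a closed immersion. Then there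
is a closed immersion t : T → S such that a morphism g : S' → S factors through T exactly when the
closed immersion Y ×_Z Z_{S'} → Z_{S'} deduced from j by base change is an isomorphism; if moreover
Z is quasi-compact over S and j is of finite presentation, then t is of finite presentation. (The
published statement omits the quasi-compactness of Z over S in the last clause; it is stated here
with it.) -/
theorem result (S Z Y : Scheme.{u}) (f : Z ⟶ S)
    (hf : SGA3x.IsEssentiallyFree f) (j : Y ⟶ Z) [IsClosedImmersion j] :
    ∃ (T : Scheme.{u}) (t : T ⟶ S), IsClosedImmersion t ∧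
      (∀ (S' : Scheme.{u}) (g : S' ⟶ S),
        (∃ g' : S' ⟶ T, g' ≫ t = g) ↔ IsIso (pullback.snd j (pullback.fst f g))) ∧
      (QuasiCompact f → LocallyOfFinitePresentation j → LocallyOfFinitePresentation t) := by
  obtain ⟨I, hI, hfg⟩ := Groth.Agent.Lib.FreeRes.exists_represents hf j.ker
  refine ⟨_, I.subschemeι, inferInstance, fun S' g => ?_, fun hqc hj =>
    Groth.Agent.Lib.Lim.IdealFP.lfp_subschemeι I (hfg hqc (Groth.Agent.Lib.Lim.Approx.Integral.isFG_ker_of_lfp j))⟩
  rw [Groth.Agent.Lib.HilbD.Basic.exists_lift_iff, hI _ _ _ (IsPullback.of_hasPullback f g),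
    IsClosedImmersion.isIso_iff_ker_eq_bot,
    ← Scheme.IdealSheafData.ker_fst_of_isClosedImmersion j (pullback.fst f g)]
  have e : (pullbackSymmetry (pullback.fst f g) j).hom ≫ pullback.snd j (pullback.fst f g) =
      pullback.fst (pullback.fst f g) j := pullbackSymmetry_hom_comp_snd _ _
  rw [← e, Scheme.Hom.ker_comp_of_isIso]

end Groth.Agent.S4101
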