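import Groth.Statements.S4104
import Groth.Agent.Lib.Hopf.FaithfullyFlat
-- import your own Groth.Agent.* helpers here

set_option autoImplicit false
universe u
open CategoryTheory MonoidalCategory CartesianMonoidalCategory MonObj GrpObj AlgebraicGeometry CategoryTheory.Limits
open SGA3

namespace Groth.Agent.S4104

/-- Let φ : A' → A be a bialgebra map between commutative Hopf algebras over a field k (a homomorphism
of affine k-groups Spec A → Spec A', not necessarily of finite type). If the corresponding morphism
of schemes is a monomorphism, i.e. φ is an epimorphism in the category of commutative rings, then φ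
is surjective (the homomorphism is a closed immersion). -/
theorem result (k : Type u) [Field k] (A' A : Type u) [CommRing A'] [HopfAlgebra k A']
    [CommRing A] [HopfAlgebra k A] (φ : A' →ₐc[k] A)
    (hepi : ∀ (R : Type u) [CommRing R] (f g : A →+* R), f.comp (φ : A' →+* A) = g.comp (φ : A' →+* A) → f = g) :
    Function.Surjective φ := by
  let B : Subalgebra k A := (φ : A' →ₐ[k] A).range
  have hB : SGA3.IsHopfSubalgebra k A B := by
    refine ⟨?_, ?_⟩
    · rintro _ ⟨x, rfl⟩
      have h := CoalgHomClass.map_comp_comul_apply φ x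
      change CoalgebraStruct.comul (R := k) (φ x) ∈ _
      rw [← h]
      generalize CoalgebraStruct.comul (R := k) x = y
      induction y using TensorProduct.induction_on with
      | zero => simp
      | tmul p q => exact ⟨⟨φ p, p, rfl⟩ ⊗ₜ ⟨φ q, q, rfl⟩, rfl⟩
      | add p q hp hq => rw [map_add]; exact add_mem hp hq
    · rintro _ ⟨x, rfl⟩
      exact ⟨HopfAlgebraStruct.antipode (R := k) x,
        (Groth.Agent.Lib.Hopf.FaithfullyFlat.map_antipode φ x).symm⟩
  have := Groth.Agent.Lib.Hopf.FaithfullyFlat.faithfullyFlat hB
  intro a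
  have h := hepi (TensorProduct B A A) Algebra.TensorProduct.includeLeftRingHom
    (Algebra.TensorProduct.includeRight (R := B) (A := A) (B := A)).toRingHom (RingHom.ext fun x => by
      show (φ x) ⊗ₜ[B] (1 : A) = (1 : A) ⊗ₜ[B] (φ x)
      have hx : (φ x) = (⟨φ x, x, rfl⟩ : B) • (1 : A) := by simp [Subalgebra.smul_def]
      conv_lhs => rw [hx, TensorProduct.smul_tmul, ← hx])
  obtain ⟨⟨b, x, hx⟩, hb⟩ := Groth.Agent.Lib.Hopf.FaithfullyFlat.mem_range_of_tmul_one_eq
    (DFunLike.congr_fun h a)
  exact ⟨x, hx.trans hb⟩

end Groth.Agent.S4104
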