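import Groth.Statements.S4107
import Groth.Agent.Lib.GrpQ.AntiAffSmooth
import Groth.Agent.Lib.GrpQ.KerRho


set_option autoImplicit false
universe u
open CategoryTheory MonoidalCategory CartesianMonoidalCategory MonObj GrpObj AlgebraicGeometry CategoryTheory.Limits
open SGA3

namespace Groth.Agent.S4107

/-- Let G be an algebraic group over a field k, ρ : G → Spec O(G) the canonical morphism and N = Ker ρ,
the fibre of ρ over the image of the unit section. Then O(N) = k (the structure morphism N → Spec k
induces an isomorphism on global sections), and N is smooth over k and connected. (The source adds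
that N is commutative and characteristic in G.) -/
theorem result (k : Type u) [Field k] (G : Over (Spec (CommRingCat.of k))) [GrpObj G]
    [LocallyOfFiniteType G.hom] [QuasiCompact G.hom] :
    IsIso (pullback.snd G.left.toSpecΓ (η[G].left ≫ G.left.toSpecΓ) ≫ (𝟙_ (Over (Spec (CommRingCat.of k)))).hom).appTop ∧
    Smooth (pullback.snd G.left.toSpecΓ (η[G].left ≫ G.left.toSpecΓ) ≫ (𝟙_ (Over (Spec (CommRingCat.of k)))).hom) ∧
    ConnectedSpace ↥(pullback G.left.toSpecΓ (η[G].left ≫ G.left.toSpecΓ)) := by
  obtain ⟨_, _⟩ := Groth.Agent.Lib.GrpQ.Affinization.exists_grp G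
  let ρ := Groth.Agent.Lib.GrpQ.Affinization.rho G
  have := Groth.Agent.Lib.GrpSch.isSeparated_of_field (Groth.Agent.Lib.GrpQ.Affinization.aff G)
  obtain ⟨N, _, i, hi, hcl, hK, -⟩ := Groth.Agent.Lib.GrpQ.exists_kernel ρ
  have : LocallyOfFiniteType N.hom := by rw [← Over.w i]; infer_instance
  have : QuasiCompact N.hom := by rw [← Over.w i]; infer_instance
  have hN := Groth.Agent.Lib.GrpQ.KerRho.isIso_appTop_kernel i hK
  have hbij : Function.Bijective ((Scheme.ΓSpecIso (CommRingCat.of k)).inv ≫ N.hom.appTop).hom :=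
    ConcreteCategory.bijective_of_isIso _
  have hsm := Groth.Agent.Lib.GrpQ.AntiAffSmooth.smooth N hbij
  have hc := Groth.Agent.Lib.GrpQ.AntiAff.connectedSpace hbij
  have hη : η[Groth.Agent.Lib.GrpQ.Affinization.aff G].left = η[G].left ≫ G.left.toSpecΓ := by
    rw [← IsMonHom.one_hom (f := ρ)]
    rfl
  have sq : IsPullback i.left (toUnit N).left G.left.toSpecΓ (η[G].left ≫ G.left.toSpecΓ) := by
    have := hK.map (Over.forget _)
    rw [← hη]
    exact this
  have e : pullback.snd G.left.toSpecΓ (η[G].left ≫ G.left.toSpecΓ) ≫ (𝟙_ (Over (Spec (CommRingCat.of k)))).hom =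
      sq.isoPullback.inv ≫ N.hom := by
    rw [Iso.eq_inv_comp, sq.isoPullback_hom_snd_assoc]
    exact Over.w (toUnit N)
  rw [e]
  refine ⟨?_, ?_, sq.isoPullback.hom.homeomorph.connectedSpace_iff.1 hc⟩
  · rw [Scheme.Hom.comp_appTop]
    have : IsIso sq.isoPullback.inv.appTop := inferInstanceAs (IsIso (sq.isoPullback.inv.app ⊤))
    exact IsIso.comp_isIso' hN this
  · infer_instance

end Groth.Agent.S4107
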