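import Groth.Statements.S4114
import Groth.Agent.S7948
import Groth.Agent.H1.Hopf
import Mathlib
-- import your own Groth.Agent.* helpers here

set_option autoImplicit false
set_option backward.isDefEq.respectTransparency false
set_option backward.isDefEq.respectTransparency.types false
set_option synthInstance.maxHeartbeats 400000
set_option maxHeartbeats 2000000
set_option linter.style.haveILetI false
universe u
open CategoryTheory MonoidalCategory CartesianMonoidalCategory MonObj GrpObj AlgebraicGeometry CategoryTheory.Limits
open SGA3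

namespace Groth.Agent.S4114

open Limits in
theorem affine_case {R : CommRingCat.{u}} [_root_.IsReduced R] (G : Over (Spec R)) [GrpObj G]
    (h1 : IsFinite G.hom) (h2 : Flat G.hom) (h3 : LocallyOfFinitePresentation G.hom)
    (r : ℕ) (hr : ∀ s, Scheme.Hom.finrank G.hom s = r) : (𝟙 G : G ⟶ G) ^ r = 1 := by
  haveI : IsAffine G.left := isAffine_of_isAffineHom G.hom
  obtain ⟨A, _, _, e, he⟩ := Groth.Agent.H1.Hopf.exists_iso (R := R) G
  haveI : IsIso e.hom.left := ((Over.forget _).mapIso e).isIso_hom
  let S' := (Spec (CommRingCat.of A)).asOver (Spec (CommRingCat.of R))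
  have hw : e.hom.left ≫ Spec.map (CommRingCat.ofHom (algebraMap R A)) = G.hom := Over.w e.hom
  haveI : IsFinite (Spec.map (CommRingCat.ofHom (algebraMap R A))) :=
    (MorphismProperty.cancel_left_of_respectsIso @IsFinite e.hom.left _).1 (by rw [hw]; infer_instance)
  haveI : Flat (Spec.map (CommRingCat.ofHom (algebraMap R A))) :=
    (MorphismProperty.cancel_left_of_respectsIso @Flat e.hom.left _).1 (by rw [hw]; infer_instance)
  haveI : LocallyOfFinitePresentation (Spec.map (CommRingCat.ofHom (algebraMap R A))) :=
    (MorphismProperty.cancel_left_of_respectsIso @LocallyOfFinitePresentation e.hom.left _).1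
      (by rw [hw]; infer_instance)
  haveI : Module.Finite R A := RingHom.finite_algebraMap.1 ((IsFinite.SpecMap_iff _).1 ‹_›)
  haveI : Module.Flat R A :=
    RingHom.flat_algebraMap_iff.1 ((HasRingHomProperty.Spec_iff (P := @Flat)).1 ‹_›)
  haveI : Algebra.FinitePresentation R A := RingHom.finitePresentation_algebraMap.1
    ((HasRingHomProperty.Spec_iff (P := @LocallyOfFinitePresentation)).1 ‹_›)
  haveI : Module.FinitePresentation R A := Module.FinitePresentation.of_finite_of_finitePresentation R A
  haveI : Module.Projective R A := Module.Flat.projective_of_finitePresentation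
  have hrk : ∀ q : PrimeSpectrum R, Module.rankAtStalk A q = r := fun q => by
    have h4 : ∀ s, Scheme.Hom.finrank (Spec.map (CommRingCat.ofHom (algebraMap R A))) s = r := by
      intro s
      have h5 := congrFun (@Scheme.Hom.finrank_comp_left_of_isIso _ _ _ e.hom.left
        (Spec.map (CommRingCat.ofHom (algebraMap R A))) inferInstance ‹_› ‹_›) s
      have h6 : Scheme.Hom.finrank (e.hom.left ≫ Spec.map (CommRingCat.ofHom (algebraMap R A))) s = r := by
        rw [hw]; exact hr s
      exact h5.symm.trans h6
    exact (Scheme.Hom.finrank_SpecMap_algebraMap R A q).symm.trans (h4 q)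
  have h := congrArg Spec.mapMulEquiv
    (Groth.Agent.S7948.result R A r hrk A (AlgHom.id R A))
  rw [map_pow, map_one, Groth.Agent.H1.Hopf.mapMulEquiv_id] at h
  rw [← cancel_mono e.hom, MonObj.pow_comp, MonObj.one_comp, Category.id_comp]
  calc e.hom ^ r = e.hom ≫ (𝟙 S') ^ r := by rw [MonObj.comp_pow, Category.comp_id]
    _ = 1 := by rw [h, MonObj.comp_one]

open Limits in
theorem bc_case {S : Scheme.{u}} (G : Over S) [GrpObj G]
    [IsFinite G.hom] [Flat G.hom] [LocallyOfFinitePresentation G.hom]
    (r : ℕ) (hr : ∀ s : S, Scheme.Hom.finrank G.hom s = r) {R : CommRingCat.{u}} [_root_.IsReduced R] (j : Spec R ⟶ S) :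
    pullback.fst G.hom j ≫ ((𝟙 G : G ⟶ G) ^ r).left = pullback.fst G.hom j ≫ (1 : G ⟶ G).left := by
  letI : GrpObj ((Over.pullback j).obj G) := Functor.grpObjObj (F := Over.pullback j)
  have key := affine_case ((Over.pullback j).obj G)
    (inferInstanceAs (IsFinite (pullback.snd G.hom j)))
    (inferInstanceAs (Flat (pullback.snd G.hom j)))
    (inferInstanceAs (LocallyOfFinitePresentation (pullback.snd G.hom j)))
    r (fun s => (Scheme.Hom.finrank_pullback_snd G.hom j s).trans (hr _))
  have h3 : (Over.pullback j).map ((𝟙 G : G ⟶ G) ^ r) = ((Over.pullback j).map (𝟙 G : G ⟶ G)) ^ r :=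
    map_pow (Functor.homMonoidHom (Over.pullback j)) (𝟙 G : G ⟶ G) r
  rw [CategoryTheory.Functor.map_id, key, ← Functor.map_one (Over.pullback j) (X := G) (M := G)] at h3
  have h5 := congrArg (fun x => x.left ≫ pullback.fst G.hom j) h3
  simp only [Over.pullback, Over.homMk_left, pullback.lift_fst] at h5
  exact h5


/-- Let S be a reduced scheme and G an S-group scheme which is finite locally free of constant rank n
over S. Then the n-th power morphism of G is the trivial endomorphism (g ↦ gⁿ factors through the
unit section). -/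
theorem result (S : Scheme.{u}) [IsReduced S] (G : Over S) [GrpObj G] (n : ℕ)
    (hG : Mor2.IsFinLocFreeOfDeg n G.hom) : (𝟙 G : G ⟶ G) ^ n = 1 := by
  obtain ⟨⟨h1, h2, h3⟩, hr⟩ := hG
  apply Over.OverMorphism.ext
  refine Scheme.Cover.hom_ext (S.affineOpenCover.openCover.pullback₁ G.hom) _ _ fun i => ?_
  have : AlgebraicGeometry.IsReduced (Spec (S.affineOpenCover.X i)) :=
    isReduced_of_isOpenImmersion (S.affineOpenCover.f i)
  have : _root_.IsReduced (S.affineOpenCover.X i) := (affine_isReduced_iff (S.affineOpenCover.X i)).1 this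
  exact bc_case G n hr (S.affineOpenCover.f i)

end Groth.Agent.S4114
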