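import Groth.Statements.S4118
import Groth.Agent.Lib.SmWeil.TorusCentralizer
import Groth.Agent.Lib.SmWeil.FieldTori
import Groth.Agent.H1.Classical.FieldDescent

set_option autoImplicit false
universe u
open CategoryTheory MonoidalCategory CartesianMonoidalCategory MonObj GrpObj AlgebraicGeometry CategoryTheory.Limits
open SGA3x

namespace Groth.Agent.S4118

/-- Let G be an S-group scheme, smooth, separated and of finite type over S, and i : T → G a maximal
torus. Then the centralizer of T is represented by a closed subgroup scheme c : C → G which is a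
Cartan subgroup of G (smooth over S with Cartan geometric fibres); T factors through C as a maximal
torus of C, and every maximal torus of C coincides with T (as a subgroup of C). -/
theorem result (S : Scheme.{u}) (G : Over S) [GrpObj G]
    [Smooth G.hom] [IsSeparated G.hom] [QuasiCompact G.hom]
    (T : Over S) [GrpObj T] (i : T ⟶ G) (hT : Red.IsMaximalTorus i) :
    ∃ (C : Over S) (_ : GrpObj C) (c : C ⟶ G), Red.IsCentralizerOf i c ∧ IsClosedImmersion c.left ∧ SGA3x.IsCartan c ∧
      ∃ i' : T ⟶ C, i' ≫ c = i ∧ Red.IsMaximalTorus i' ∧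
        ∀ (T' : Over S) [GrpObj T'] (j : T' ⟶ C), Red.IsMaximalTorus j → ∃ φ : T' ≅ T, φ.hom ≫ i' = j := by
  obtain ⟨hi, him, hTt, hmax⟩ := hT
  haveI := hi
  haveI := him
  obtain ⟨C, hC, c, hcen, hc, hsm⟩ := Lib.SmWeil.exists_centralizer_torus hTt i
  obtain ⟨hcm, hcmono, hcpts⟩ := hcen
  haveI := hcm
  haveI := hcmono
  refine ⟨C, hC, c, ⟨hcm, hcmono, hcpts⟩, hc, ⟨hcm, hcmono, hsm, fun s =>
    ⟨inferInstance, inferInstance, Red.geomFibre s T, inferInstance, (Over.pullback (Red.geomPt s)).map i,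
      ?_, H1.Classical.FieldDescent.isCentralizerOf_bc _ ⟨hcm, hcmono, hcpts⟩⟩⟩, ?_⟩
  · exact Lib.SmWeil.isMaximalTorus_of_maximal _ (Lib.Tori.Basic.isTorus_bc hTt _) (hmax s)
  obtain ⟨i', hi'⟩ := (hcpts T i).2 fun X' x h => by
    rw [← MonObj.mul_comp, ← MonObj.mul_comp, Lib.Tori.Comm.mul_comm_of_isTorus hTt]
  haveI : IsMonHom i' := by
    constructor
    · rw [← cancel_mono c, Category.assoc, hi', IsMonHom.one_hom, IsMonHom.one_hom]
    · rw [← cancel_mono c, Category.assoc, hi', IsMonHom.mul_hom i, Category.assoc, IsMonHom.mul_hom c,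
        ← hi', tensorHom_comp_tensorHom_assoc]
  haveI : Mono i' := mono_of_mono_fac hi'
  have hmax' : ∀ (s : S) (T' : Over (Spec (CommRingCat.of (AlgebraicClosure (S.residueField s))))) [GrpObj T']
      (j : T' ⟶ Red.geomFibre s C) [IsMonHom j] [Mono j] (f : Red.geomFibre s T ⟶ T'),
      Red.IsTorus T' → f ≫ j = (Over.pullback (Red.geomPt s)).map i' → IsIso f := by
    intro s T' _ j _ _ f hT' hf
    haveI : Mono ((Over.pullback (Red.geomPt s)).map c) := inferInstance
    exact hmax s T' (j ≫ (Over.pullback (Red.geomPt s)).map c) f hT' (by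
      rw [reassoc_of% hf, ← Functor.map_comp, hi'])
  refine ⟨i', hi', ⟨inferInstance, inferInstance, hTt, hmax'⟩, fun T' _ j hj => ?_⟩
  obtain ⟨hjm, hjmono, hT't, hjmax⟩ := hj
  haveI := hjm
  haveI := hjmono
  have hcomm : ∀ (X : Over S) (t : X ⟶ T) (r : X ⟶ T'), (t ≫ i) * (r ≫ j ≫ c) = (r ≫ j ≫ c) * (t ≫ i) :=
    fun X t r => by
      have h := (hcpts T' (j ≫ c)).1 ⟨j, rfl⟩ X r t
      exact h.symm
  obtain ⟨f, hf⟩ := H87.TorusIn.exists_fac i ⟨hi, him, hTt, hmax⟩ (j ≫ c) hT't hcomm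
  have hfj : f ≫ i' = j := by rw [← cancel_mono c, Category.assoc, hi', hf]
  haveI : IsSeparated C.hom := by rw [← Over.w c]; infer_instance
  haveI := hsm
  obtain ⟨g, hg⟩ := H87.TorusIn.exists_fac j ⟨hjm, hjmono, hT't, hjmax⟩ i' hTt fun X t r => by
    rw [← hfj, ← Category.assoc, ← MonObj.mul_comp, ← MonObj.mul_comp, Lib.Tori.Comm.mul_comm_of_isTorus hTt]
  exact ⟨⟨f, g, by rw [← cancel_mono j, Category.assoc, hg, hfj, Category.id_comp],
    by rw [← cancel_mono i', Category.assoc, hfj, hg, Category.id_comp]⟩, hfj⟩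

end Groth.Agent.S4118
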