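import Groth.Statements.S4130
import Groth.Agent.Lib.Hopf.GroupLikeSpan
import Groth.Agent.Lib.Hopf.IrredBaseChange
import Groth.Agent.Lib.Hopf.SubStruct
import Mathlib.RingTheory.HopfAlgebra.TensorProduct
import Mathlib.FieldTheory.IsAlgClosed.AlgebraicClosure
import Mathlib.RingTheory.Flat.FaithfullyFlat.Basic

set_option autoImplicit false
universe u
open TensorProduct
open SGA3

namespace Groth.Agent.S4130

open Groth.Agent.Lib.Hopf Groth.Agent.Lib.Hopf.Irred Groth.Agent.Lib.Hopf.IrredBaseChange

section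

variable (k : Type u) [Field k] (A : Type u) [CommRing A] [HopfAlgebra k A] [Coalgebra.IsCocomm k A]

local notation "J₀" => SGA3.augIdealSpan k A (irred k A)

omit [Coalgebra.IsCocomm k A] in
lemma mk_irred {a : A} (ha : a ∈ irred k A) :
    Ideal.Quotient.mk J₀ a = algebraMap k (A ⧸ J₀) (CoalgebraStruct.counit a) := by
  rw [← Ideal.Quotient.mk_algebraMap, ← sub_eq_zero, ← map_sub]
  exact Ideal.Quotient.eq_zero_iff_mem.2 (Ideal.subset_span
    ⟨(irred k A).sub_mem ha ((irred k A).algebraMap_mem _), by simp⟩)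

lemma isMultTypeConst_quot [Ideal.IsHopfIdeal k J₀] : SGA3b.IsMultTypeConst k (A ⧸ J₀) := by
  let K := AlgebraicClosure k
  refine ⟨K, inferInstance, inferInstance, inferInstance, ?_⟩
  let L := K ⊗[k] (A ⧸ J₀)
  let q : K ⊗[k] A →ₐc[K] L :=
    Bialgebra.TensorProduct.map (BialgHom.id K K) (Bialgebra.Quotient.mkBialgHom (R := k) J₀)
  have hq : ∀ c a, q (c ⊗ₜ[k] a) = c ⊗ₜ[k] Ideal.Quotient.mk J₀ a := fun c a => rfl
  have hsurj : Function.Surjective q := by
    intro y
    induction y using TensorProduct.induction_on with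
    | zero => exact ⟨0, map_zero q⟩
    | tmul c a =>
        obtain ⟨a, rfl⟩ := Ideal.Quotient.mk_surjective a
        exact ⟨c ⊗ₜ[k] a, hq c a⟩
    | add x y hx hy =>
        obtain ⟨p, rfl⟩ := hx
        obtain ⟨p', rfl⟩ := hy
        exact ⟨p + p', map_add q p p'⟩
  have hirr : ∀ b ∈ irred K (K ⊗[k] A), ∃ c : K, q b = c • (1 : L) := by
    intro b hb
    obtain ⟨n, hn⟩ := mem_irred.1 hb
    obtain ⟨z, rfl⟩ := F_baseChange_le n b hn
    clear hb hn
    induction z using TensorProduct.induction_on with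
    | zero => exact ⟨0, by simp⟩
    | tmul c a =>
        refine ⟨CoalgebraStruct.counit (R := k) (a : A) • c, ?_⟩
        rw [LinearMap.lTensor_tmul, Submodule.subtype_apply, hq, mk_irred k A (mem_irred.2 ⟨n, a.2⟩),
          Algebra.algebraMap_eq_smul_one, Algebra.TensorProduct.one_def, TensorProduct.tmul_smul,
          TensorProduct.smul_tmul', TensorProduct.smul_tmul']
        simp
    | add x y hx hy =>
        obtain ⟨c, hc⟩ := hx
        obtain ⟨d, hd⟩ := hy
        exact ⟨c + d, by rw [map_add, map_add, hc, hd, add_smul]⟩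
  let Φ : MonoidAlgebra K (GroupLike K L) →ₐc[K] L := MonoidAlgebra.liftGroupLikeBialgHom
  let Φl : MonoidAlgebra K (GroupLike K L) →ₗ[K] L := (Φ : MonoidAlgebra K (GroupLike K L) →ₐ[K] L).toLinearMap
  have hΦ : ∀ g : GroupLike K L, Φ (MonoidAlgebra.single g 1) = (g : L) := fun g => by
    simp [Φ]
  have hinj : Function.Injective Φ := by
    let b := MonoidAlgebra.basis (GroupLike K L) K
    have h1 : LinearIndependent K fun g => Φl (b g) := by
      have : (fun g => Φl (b g)) = GroupLike.val := by
        funext g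
        simpa [b, Φl] using hΦ g
      rw [this]
      exact linearIndep_groupLikeVal
    intro x y hxy
    refine b.repr.injective (h1 ?_)
    have e : ∀ z, Finsupp.linearCombination K (fun g => Φl (b g)) (b.repr z) = Φl z := fun z => by
      conv_rhs => rw [← b.linearCombination_repr z, Finsupp.apply_linearCombination]
      rfl
    rw [e, e]
    exact hxy
  have hΦs : Function.Surjective Φ := by
    intro y
    obtain ⟨x, rfl⟩ := hsurj y
    suffices GroupLikeSpan.transSpan K (K ⊗[k] A) ≤
        (LinearMap.range Φl).comap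
          (q : K ⊗[k] A →ₐ[K] L).toLinearMap by
      exact this (by rw [GroupLikeSpan.transSpan_eq_top]; exact Submodule.mem_top)
    refine iSup_le fun g => Submodule.map_le_iff_le_comap.2 fun b hb => ?_
    obtain ⟨c, hc⟩ := hirr b hb
    refine ⟨c • MonoidAlgebra.single (⟨q g, g.2.map q⟩ : GroupLike K L) 1, ?_⟩
    show Φ (c • MonoidAlgebra.single _ 1) = q ((g : K ⊗[k] A) * b)
    rw [map_smul, hΦ, map_mul, hc, mul_smul_comm, mul_one]
  exact ⟨GroupLike K L, inferInstance, ⟨(BialgEquiv.ofBijective Φ ⟨hinj, hΦs⟩).symm⟩⟩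

omit [Coalgebra.IsCocomm k A] in
lemma le_of_isMultTypeConst (I : Ideal A) [I.IsHopfIdeal k]
    (hI : SGA3b.IsMultTypeConst k (A ⧸ I)) : J₀ ≤ I := by
  obtain ⟨K, _, _, hff, M, _, ⟨e⟩⟩ := hI
  let f : A →ₐ[k] MonoidAlgebra K M :=
    (((e : K ⊗[k] (A ⧸ I) →ₐc[K] MonoidAlgebra K M) : K ⊗[k] (A ⧸ I) →ₐ[K]
      MonoidAlgebra K M).restrictScalars k).comp
      (Algebra.TensorProduct.includeRight.comp
        ((Bialgebra.Quotient.mkBialgHom (R := k) I : A →ₐc[k] A ⧸ I) : A →ₐ[k] A ⧸ I))
  have hf : Compat K f :=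
    (compat_includeRight.comp_left (Bialgebra.Quotient.mkBialgHom (R := k) I)).comp_bialgHom _
  refine Ideal.span_le.2 ?_
  rintro a ⟨⟨n, hn⟩, hε⟩
  have h := map_F_monoidAlgebra hf hn
  rw [hε, map_zero, map_zero] at h
  have h2 : (1 : K) ⊗ₜ[k] Ideal.Quotient.mk I a = 0 := e.injective (h.trans (map_zero e).symm)
  exact Ideal.Quotient.eq_zero_iff_mem.1 ((Module.FaithfullyFlat.one_tmul_eq_zero_iff k _ _).1 h2)

end

/-- Let A be a finitely generated commutative and cocommutative Hopf algebra over a field k (a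
commutative affine algebraic group G = Spec A). Then G has a largest subgroup M of multiplicative
type and G/M is unipotent: there is a Hopf ideal J of A (defining M) such that A/J is of
multiplicative type (diagonalizable after a faithfully flat extension of k), J is contained in every
Hopf ideal I with A/I of multiplicative type, and J is the ideal generated by the augmentation ideal
of the image of an injective bialgebra map φ : B → A from a Hopf algebra B (so Spec B = G/M) which
is unipotent in the fixed-vector sense. -/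
theorem result (k : Type u) [Field k]
    (A : Type u) [CommRing A] [HopfAlgebra k A] [Algebra.FiniteType k A] [Coalgebra.IsCocomm k A] :
    ∃ (J : Ideal A) (_ : J.IsHopfIdeal k), SGA3b.IsMultTypeConst k (A ⧸ J) ∧
      (∀ (I : Ideal A) [I.IsHopfIdeal k], SGA3b.IsMultTypeConst k (A ⧸ I) → J ≤ I) ∧
      ∃ (B : Type u) (_ : CommRing B) (_ : HopfAlgebra k B) (φ : B →ₐc[k] A), Function.Injective φ ∧
        J = Ideal.map (φ : B →+* A) (RingHom.ker (Bialgebra.counitAlgHom k B)) ∧ HopfRep.IsUnipotent k B := by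
  let B₀ := irred k A
  have hB : SGA3.IsHopfSubalgebra k A B₀ := isHopfSubalgebra_irred
  have := isHopfIdeal_augIdealSpan hB
  refine ⟨SGA3.augIdealSpan k A B₀, this, isMultTypeConst_quot k A,
    fun I _ hI => le_of_isMultTypeConst k A I hI, ?_⟩
  let H := SubStruct.subHopf hB
  let φ : B₀ →ₐc[k] A := BialgHom.ofAlgHom B₀.val rfl
    (AlgHom.ext fun b => SubStruct.map_subComul hB b)
  refine ⟨B₀, inferInstance, H, φ, Subtype.val_injective, ?_, ?_⟩
  · refine le_antisymm (Ideal.span_le.2 ?_) (Ideal.map_le_iff_le_comap.2 ?_)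
    · rintro a ⟨ha, hε⟩
      exact Ideal.mem_map_of_mem (φ : B₀ →+* A) (x := (⟨a, ha⟩ : B₀)) hε
    · intro b hb
      exact Ideal.subset_span ⟨b.2, hb⟩
  · refine isUnipotent_of_filtration (fun n => (F k A n).comap B₀.val.toLinearMap) ?_
      (fun n m h => Submodule.comap_mono (F_mono h)) ?_ ?_
    · intro b hb
      obtain ⟨c, hc⟩ := Submodule.mem_span_singleton.1 hb
      exact Submodule.mem_span_singleton.2 ⟨c, Subtype.ext hc⟩
    · intro b
      exact mem_irred.1 b.2
    · intro n b hb
      refine ComodRing.mem_tensorRight_of_slices fun χ => ?_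
      obtain ⟨p, hp⟩ := B₀.val.toLinearMap.exists_leftInverse_of_injective
        (LinearMap.ker_eq_bot.2 Subtype.val_injective)
      obtain ⟨χ', rfl⟩ : ∃ χ', χ' ∘ₗ B₀.val.toLinearMap = χ :=
        ⟨χ ∘ₗ p, by rw [LinearMap.comp_assoc, hp, LinearMap.comp_id]⟩
      have hz : ∀ z : B₀ ⊗[k] B₀, ((ComodRing.slice (χ' ∘ₗ B₀.val.toLinearMap) z : B₀) : A) =
          ComodRing.slice χ' (Algebra.TensorProduct.map B₀.val B₀.val z) := by
        intro z
        induction z using TensorProduct.induction_on with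
        | zero => simp
        | tmul x y => simp
        | add x y hx hy => simp [hx, hy]
      show ((ComodRing.slice _ _ : B₀) : A) ∈ F k A n
      rw [hz, map_sub, show Algebra.TensorProduct.map B₀.val B₀.val (CoalgebraStruct.comul b) =
        CoalgebraStruct.comul (b : A) from SubStruct.map_subComul hB b]
      exact ComodRing.slice_mem_of_mem (mem_succ.1 hb) χ' 

end Groth.Agent.S4130
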