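import Groth.Statements.S4136
import Groth.Agent.Lib.ImgMT.RedRank
-- import your own Groth.Agent.* helpers here

set_option autoImplicit false
universe u
open CategoryTheory MonoidalCategory CartesianMonoidalCategory MonObj GrpObj AlgebraicGeometry CategoryTheory.Limits
open SGA3x

namespace Groth.Agent.S4136

/-- First assertion: let G be an S-group scheme which is affine and smooth over S. Then the reductive
rank of the geometric fibres (the dimension of their maximal tori) is a lower semicontinuous
function on S: for every n the set of points whose geometric fibre has a maximal torus of dimension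
≥ n is open. (The source also proves that the nilpotent rank is upper semicontinuous.) -/
theorem result (S : Scheme.{u}) (G : Over S) [GrpObj G] [IsAffineHom G.hom] [Smooth G.hom] (n : ℕ) :
    IsOpen {s : S | ∃ r : WithBot ℕ∞, SGA3x.HasRedRank G s r ∧ (n : WithBot ℕ∞) ≤ r} := by
  have h : {s : S | ∃ r : WithBot ℕ∞, SGA3x.HasRedRank G s r ∧ (n : WithBot ℕ∞) ≤ r} =
      Set.range (Groth.Agent.Lib.ImgMT.RedRank.locusMap G n) := by
    ext s
    rw [← Groth.Agent.Lib.ImgMT.RedRank.ptOf_geomPt (S := S) s,
      ← Groth.Agent.Lib.ImgMT.RedRank.subAt_iff_mem, Groth.Agent.Lib.ImgMT.RedRank.ptOf_geomPt]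
    constructor
    · rintro ⟨x, hx, hn⟩
      obtain ⟨r, rfl, hr⟩ := (Groth.Agent.Lib.ImgMT.RedRank.hasRedRank_iff G s x).1 hx
      exact Groth.Agent.Lib.ImgMT.RedRank.subAt_of_mono (by exact_mod_cast hn) hr.1
    · intro hn
      obtain ⟨r, hr⟩ := Groth.Agent.Lib.ImgMT.RedRank.exists_isRk G (Red.geomPt s)
      exact ⟨r, (Groth.Agent.Lib.ImgMT.RedRank.hasRedRank_iff G s r).2 ⟨r, rfl, hr⟩, by exact_mod_cast hr.2 n hn⟩
  rw [h]
  exact Groth.Agent.Lib.ImgMT.RedRank.isOpen_range G n

end Groth.Agent.S4136
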