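import Groth.Statements.S4137
-- import your own Groth.Agent.* helpers here
import Groth.Agent.Lib.ActSep.GenericTransporter

set_option autoImplicit false
universe u
open CategoryTheory MonoidalCategory CartesianMonoidalCategory MonObj GrpObj AlgebraicGeometry CategoryTheory.Limits
open SGA3

namespace Groth.Agent.S4137

/-- Let S be an integral scheme, G and H S-group schemes of finite presentation over S and i : H → G a
homomorphism which is a quasi-compact monomorphism. Then there is a non-empty open U of S over which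
i becomes a closed immersion and the centralizer and the normalizer of H_U in G_U are representable
by closed subgroup schemes of G_U of finite presentation over U. -/
theorem result (S : Scheme.{u}) [IsIntegral S] (G H : Over S)
    [GrpObj G] [GrpObj H] [LocallyOfFinitePresentation G.hom] [QuasiCompact G.hom] [QuasiSeparated G.hom]
    [LocallyOfFinitePresentation H.hom] [QuasiCompact H.hom] [QuasiSeparated H.hom]
    (i : H ⟶ G) [IsMonHom i] [Mono i] [QuasiCompact i.left] :
    ∃ U : S.Opens, (U : Set S).Nonempty ∧ IsClosedImmersion ((Over.pullback U.ι).map i).left ∧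
      ∃ (C N : Over (U : Scheme.{u})) (_ : GrpObj C) (_ : GrpObj N) (c : C ⟶ Red.bc U.ι G) (n : N ⟶ Red.bc U.ι G),
        Red.IsCentralizerOf ((Over.pullback U.ι).map i) c ∧ IsClosedImmersion c.left ∧
          LocallyOfFinitePresentation C.hom ∧ QuasiCompact C.hom ∧
        Red.IsNormalizerOf ((Over.pullback U.ι).map i) n ∧ IsClosedImmersion n.left ∧
          LocallyOfFinitePresentation N.hom ∧ QuasiCompact N.hom := by
  obtain ⟨U₁, h₁, hsep⟩ := Groth.Agent.Lib.ActSep.GenericOpen.exists_open_isSeparated G
  obtain ⟨U₂, h₂, hfree⟩ := Groth.Agent.Lib.ActSep.GenericFree.exists_open_essentiallyFree H.hom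
  obtain ⟨U₃, h₃, hclosed⟩ := Groth.Agent.Lib.ActSep.GenericOpen.exists_open_isClosedImmersion i
  let U := U₁ ⊓ U₂ ⊓ U₃
  have hne : (U : Set S).Nonempty :=
    nonempty_preirreducible_inter (U₁ ⊓ U₂).isOpen U₃.isOpen
      (nonempty_preirreducible_inter U₁.isOpen U₂.isOpen h₁ h₂) h₃
  haveI : IsSeparated (Red.bc U.ι G).hom :=
    hsep U U.ι (by rw [Scheme.Opens.range_ι]; exact fun x hx => hx.1.1)
  have hH : SGA3x.IsEssentiallyFree (Red.bc U.ι H).hom :=
    hfree U U.ι (by rw [Scheme.Opens.range_ι]; exact fun x hx => hx.1.2)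
  haveI hi : IsClosedImmersion ((Over.pullback U.ι).map i).left :=
    hclosed U U.ι (by rw [Scheme.Opens.range_ι]; exact fun x hx => hx.2)
  haveI : LocallyOfFinitePresentation (Red.bc U.ι G).hom :=
    inferInstanceAs (LocallyOfFinitePresentation (pullback.snd G.hom U.ι))
  haveI : QuasiCompact (Red.bc U.ι G).hom :=
    inferInstanceAs (QuasiCompact (pullback.snd G.hom U.ι))
  haveI : QuasiSeparated (Red.bc U.ι G).hom :=
    inferInstanceAs (QuasiSeparated (pullback.snd G.hom U.ι))
  haveI : QuasiCompact (Red.bc U.ι H).hom :=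
    inferInstanceAs (QuasiCompact (pullback.snd H.hom U.ι))
  haveI : LocallyOfFinitePresentation (Red.bc U.ι H).hom :=
    inferInstanceAs (LocallyOfFinitePresentation (pullback.snd H.hom U.ι))
  haveI : LocallyOfFinitePresentation ((Over.pullback U.ι).map i).left :=
    Groth.Agent.Lib.Flat55.FibreTransfer.locallyOfFinitePresentation_of_comp
      (g := (Red.bc U.ι G).hom) (by rw [Over.w]; exact ‹LocallyOfFinitePresentation (Red.bc U.ι H).hom›) inferInstance
  obtain ⟨C, MC, c, hc, hcfp, hC⟩ := Groth.Agent.Lib.ActSep.GenericTransporter.exists_centralizer hH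
    ((Over.pullback U.ι).map i)
  obtain ⟨N, MN, n, hn, hnfp, hN⟩ := Groth.Agent.Lib.ActSep.GenericTransporter.exists_normalizer hH
    ((Over.pullback U.ι).map i)
  obtain ⟨a₁, a₂, -⟩ := Groth.Agent.Lib.ActSep.GenericTransporter.lfp_qc_qs c
  obtain ⟨b₁, b₂, -⟩ := Groth.Agent.Lib.ActSep.GenericTransporter.lfp_qc_qs n
  exact ⟨U, hne, hi, C, N, MC, MN, c, n, hC, hc, a₁, a₂, hN, hn, b₁, b₂⟩

end Groth.Agent.S4137
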