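import Groth.Statements.S4140
import Groth.Agent.S5334

set_option autoImplicit false
universe u
open CategoryTheory MonoidalCategory CartesianMonoidalCategory MonObj GrpObj AlgebraicGeometry CategoryTheory.Limits
open SGA3

namespace Groth.Agent.S4140

open Groth.Agent.Lib.GrpSch Groth.Agent.Lib.ActSep

/-- Let G be an S-group scheme locally of finite presentation over S such that s ↦ dim G_s is locally
constant, and σ, τ two S-points of G with values in the neutral component G⁰ (their images lie in
the union of the neutral components of the fibres). Then the subscheme of coincidences of σ and τ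
(the pullback of the diagonal of G along (σ, τ)) is a closed subscheme of S. -/
theorem result (S : Scheme.{u}) (G : Over S) [GrpObj G]
    [LocallyOfFinitePresentation G.hom]
    (hdim : IsLocallyConstant (fun s : S => topologicalKrullDim ↥(G.hom.base ⁻¹' {s})))
    (σ τ : 𝟙_ (Over S) ⟶ G) (hσ : Set.range σ.left.base ⊆ SGA3x.neutralSet G)
    (hτ : Set.range τ.left.base ⊆ SGA3x.neutralSet G) :
    IsClosedImmersion (pullback.fst (lift σ τ) (lift (𝟙 G) (𝟙 G))).left := by
  let Δ := pullback.diagonal G.hom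
  have hd : (lift (𝟙 G) (𝟙 G)).left = Δ := by
    apply pullback.hom_ext
    · exact (congrArg CommaMorphism.left (lift_fst (𝟙 G) (𝟙 G))).trans
        (pullback.diagonal_fst G.hom).symm
    · exact (congrArg CommaMorphism.left (lift_snd (𝟙 G) (𝟙 G))).trans
        (pullback.diagonal_snd G.hom).symm
  have hsq : IsPullback (pullback.fst (lift σ τ) (lift (𝟙 G) (𝟙 G))).left
      (pullback.snd (lift σ τ) (lift (𝟙 G) (𝟙 G))).left (lift σ τ).left (lift (𝟙 G) (𝟙 G)).left :=
    (IsPullback.of_hasPullback (lift σ τ) (lift (𝟙 G) (𝟙 G))).map (Over.forget S)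
  have : IsImmersion (lift (𝟙 G) (𝟙 G)).left := by rw [hd]; infer_instance
  have : IsImmersion (pullback.fst (lift σ τ) (lift (𝟙 G) (𝟙 G))).left :=
    MorphismProperty.of_isPullback (P := @IsImmersion) hsq.flip ‹IsImmersion (lift (𝟙 G) (𝟙 G)).left›
  have hr : Set.range (pullback.fst (lift σ τ) (lift (𝟙 G) (𝟙 G))).left =
      (lift σ τ).left ⁻¹' Set.range Δ := by
    rw [show (pullback.fst (lift σ τ) (lift (𝟙 G) (𝟙 G))).left =
        hsq.isoPullback.hom ≫ pullback.fst (lift σ τ).left (lift (𝟙 G) (𝟙 G)).left from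
        hsq.isoPullback_hom_fst.symm, Scheme.Hom.comp_base, TopCat.coe_comp,
      hsq.isoPullback.hom.surjective.range_comp, Scheme.Pullback.range_fst, hd]
  refine IsClosedImmersion.of_isPreimmersion _ (isClosed_of_closure_subset fun p hp => ?_)
  rw [hr] at hp ⊢
  let s : S := p
  obtain ⟨U, hU, heU, -⟩ := exists_isAffineOpen_mem_and_subset (U := ⊤) (x := η[G].left p) trivial
  have hUs : IsSeparated (U.ι ≫ G.hom) := by
    have : IsAffine U := hU
    infer_instance
  let a : AlgGrp.Action G G := actionMk μ[G]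
    (fun T x => by rw [← Hom.mul_def]; exact one_mul x)
    (fun T g h x => by rw [← Hom.mul_def, ← Hom.mul_def, ← Hom.mul_def]; exact mul_assoc g h x)
  obtain ⟨V, hV, hVsep⟩ := Groth.Agent.S5334.result S G G hdim a U hUs
  have hmem : ∀ ρ : 𝟙_ (Over S) ⟶ G, Set.range ρ.left.base ⊆ SGA3x.neutralSet G → ρ.left p ∈ V := by
    intro ρ hρ
    show ρ.left p ∈ (V : Set G.left)
    rw [hV]
    refine ⟨(lift ρ η[G]).left p, ⟨?_, ?_⟩, ?_⟩
    · show (fst G G).left ((lift ρ η[G]).left p) ∈ SGA3x.neutralSet G
      rw [← Scheme.Hom.comp_apply, ← Over.comp_left, lift_fst]; exact hρ ⟨p, rfl⟩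
    · show (snd G G).left ((lift ρ η[G]).left p) ∈ U
      rw [← Scheme.Hom.comp_apply, ← Over.comp_left, lift_snd]; exact heU
    · show a.act.left ((lift ρ η[G]).left p) = ρ.left p
      rw [← Scheme.Hom.comp_apply, ← Over.comp_left]
      refine congrArg (fun φ : 𝟙_ (Over S) ⟶ G => φ.left p) ?_
      show lift ρ η[G] ≫ μ[G] = ρ
      rw [← Hom.mul_def, show (η[G] : 𝟙_ (Over S) ⟶ G) = 1 by
        rw [Hom.one_def, toUnit_unique (toUnit (𝟙_ (Over S))) (𝟙 _), Category.id_comp]]
      exact mul_one ρ
  show (lift σ τ).left p ∈ Set.range Δ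
  refine Criterion.mem_range_diagonal_of_mem_closure G.hom hVsep
    (map_mem_closure (lift σ τ).left.continuous hp (fun _ h => h)) ?_ ?_
  · show (fst G G).left ((lift σ τ).left p) ∈ V
    rw [← Scheme.Hom.comp_apply, ← Over.comp_left, lift_fst]; exact hmem σ hσ
  · show (snd G G).left ((lift σ τ).left p) ∈ V
    rw [← Scheme.Hom.comp_apply, ← Over.comp_left, lift_snd]; exact hmem τ hτ

end Groth.Agent.S4140
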