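import Groth.Statements.S4149
import Groth.Agent.S8393
import Groth.Agent.H87.NilCentral
import Groth.Agent.H87.MT
import Groth.Agent.Lib.GrpQ.MonoClosed
-- import your own Groth.Agent.* helpers here

set_option autoImplicit false
set_option linter.style.haveILetI false
universe u
open CategoryTheory MonoidalCategory CartesianMonoidalCategory MonObj GrpObj AlgebraicGeometry CategoryTheory.Limits
open SGA3x

namespace Groth.Agent.S4149

open Groth.Agent Groth.Agent.Lib.RedPts

/-- Let G be an affine, connected algebraic group over a field k which is nilpotent (for some n the n-th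
term of the lower central series of G(X) is trivial for every k-scheme X). Then G has a largest
subgroup of multiplicative type M — a closed subgroup scheme of multiplicative type and of finite
type through which every such subgroup factors — and M is central in G. (The source adds that M is
characteristic and G/M unipotent.) -/
theorem result (k : Type u) [Field k] (G : Over (Spec (CommRingCat.of k)))
    [GrpObj G] [IsAffine G.left] [LocallyOfFiniteType G.hom] [ConnectedSpace ↥G.left]
    (hnil : ∃ n : ℕ, ∀ X : Over (Spec (CommRingCat.of k)), (⊤ : Subgroup (X ⟶ G)).lowerCentralSeries n = ⊥) :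
    ∃ (M : Over (Spec (CommRingCat.of k))) (_ : GrpObj M) (m : M ⟶ G), IsMonHom m ∧ IsClosedImmersion m.left ∧
      SGA3x.IsMultTypeFT M ∧
      (∀ (M' : Over (Spec (CommRingCat.of k))) [GrpObj M'] (m' : M' ⟶ G) [IsMonHom m'] [Mono m'],
        SGA3x.IsMultTypeFT M' → ∃ f : M' ⟶ M, f ≫ m = m') ∧
      ∀ (X : Over (Spec (CommRingCat.of k))) (x : X ⟶ M) (g : X ⟶ G), (x ≫ m) * g = g * (x ≫ m) := by
  obtain ⟨n, hn⟩ := hnil
  obtain ⟨Z, _, z, hz, hzm, hZ, hzc, huniv⟩ := Groth.Agent.S8393.result k G
  haveI := hz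
  haveI := hzm
  haveI : IsAffineHom Z.hom := H87.MT.isAffineHom hZ
  haveI : LocallyOfFinitePresentation Z.hom := H87.MT.locallyOfFinitePresentation hZ
  haveI : IsAffine Z.left := isAffine_of_isAffineHom Z.hom
  haveI : IsAffineHom z.left := isAffineHom_of_isAffine _
  refine ⟨Z, inferInstance, z, inferInstance, Lib.GrpQ.MonoClosed.isClosedImmersion_of_mono z, hZ, ?_, hzc⟩
  intro M' _ m' _ _ hM'
  have hcen := H87.NilCentral.central m' hM' ⟨n, hn⟩
  let f : Spec (CommRingCat.of k) ⟶ Spec (CommRingCat.of k) := 𝟙 _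
  let θ : (Over.map f).obj M' ≅ M' := Over.isoMk (Iso.refl _) (by simp [f])
  obtain ⟨v, hv⟩ : ∃ v : M' ⟶ Red.bc f G, BC.down f v = θ.hom ≫ m' := ⟨BC.up f _, BC.down_up _⟩
  have hmap : ∀ (X : Over (Spec (CommRingCat.of k))) (x : X ⟶ M') (θX : (Over.map f).obj X ≅ X),
      θX.hom.left = 𝟙 _ → BC.down f (x ≫ v) = θX.hom ≫ x ≫ m' := by
    intro X x θX hθ
    rw [BC.down_comp, hv, ← Category.assoc, ← Category.assoc]
    refine congrArg (· ≫ m') (Over.OverMorphism.ext ?_)
    simp [θ, hθ]
  let θ' : ∀ X : Over (Spec (CommRingCat.of k)), (Over.map f).obj X ≅ X :=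
    fun X => Over.isoMk (Iso.refl _) (by simp [f])
  have hmap' : ∀ (X : Over (Spec (CommRingCat.of k))) (x : X ⟶ M'), BC.down f (x ≫ v) = (θ' X).hom ≫ x ≫ m' :=
    fun X x => hmap X x (θ' X) rfl
  haveI : IsMonHom v := H87.HomDS.isMonHom_of_points _ fun X a b => BC.down_injective (by
    rw [BC.down_mul, hmap', hmap', hmap', MonObj.mul_comp, MonObj.comp_mul])
  obtain ⟨w, hw⟩ := huniv _ f M' v hM' fun X x g => BC.down_injective (by
    rw [BC.down_mul, BC.down_mul, hmap', ← Category.assoc]
    exact hcen _ _ _)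
  refine ⟨(θ' M').inv ≫ BC.down f w, ?_⟩
  rw [Category.assoc, ← BC.down_map, hw, ← Category.id_comp v, hmap', Category.id_comp, Iso.inv_hom_id_assoc]

end Groth.Agent.S4149
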