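import Groth.Statements.S4151
import Groth.Agent.H13.FinAvg.Glue

set_option autoImplicit false
universe u
open CategoryTheory MonoidalCategory CartesianMonoidalCategory MonObj GrpObj AlgebraicGeometry CategoryTheory.Limits
open SGA3x

namespace Groth.Agent.S4151

/-- (d) ⟹ (c), and the first assertion of (ii): let G be an S-group scheme, smooth and of finite
presentation over S with connected fibres, which acquires a Cartan subgroup after a flat surjective
base change that is an fpqc covering. Then G acquires a Cartan subgroup after an etale surjective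
base change, and any two Cartan subgroups C₁, C₂ of G are conjugate locally for the etale topology. -/
theorem result (S : Scheme.{u}) (G : Over S) [GrpObj G]
    [Smooth G.hom] [QuasiCompact G.hom] [QuasiSeparated G.hom]
    (hconn : ∀ s : S, _root_.IsConnected (G.hom.base ⁻¹' {s}))
    (hC : ∃ (S' : Scheme.{u}) (f : S' ⟶ S), Flat f ∧ Surjective f ∧
      (∀ V : S.Opens, IsAffineOpen V → ∃ W : S'.Opens, IsCompact (W : Set S') ∧ f.base '' (W : Set S') = (V : Set S)) ∧
      ∃ (C : Over S') (_ : GrpObj C) (c : C ⟶ Red.bc f G), SGA3x.IsCartan c) :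
    (∃ (S' : Scheme.{u}) (f : S' ⟶ S), Etale f ∧ Surjective f ∧
      ∃ (C : Over S') (_ : GrpObj C) (c : C ⟶ Red.bc f G), SGA3x.IsCartan c) ∧
    ∀ (C₁ C₂ : Over S) [GrpObj C₁] [GrpObj C₂] (c₁ : C₁ ⟶ G) (c₂ : C₂ ⟶ G),
      SGA3x.IsCartan c₁ → SGA3x.IsCartan c₂ →
      ∃ (S' : Scheme.{u}) (f : S' ⟶ S), Etale f ∧ Surjective f ∧
        ∃ g : 𝟙_ (Over S') ⟶ Red.bc f G, SGA3x.ConjBy ((Over.pullback f).map c₁) ((Over.pullback f).map c₂) g := by
  obtain ⟨S₁, f, hf, hfs, hcov, C, _, c, hc⟩ := hC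
  haveI := hf
  haveI := hfs
  exact ⟨Groth.Agent.H13.FinAvg.exists_etale_cartan hconn f hcov hc,
    fun C₁ C₂ _ _ c₁ c₂ h₁ h₂ => Groth.Agent.H13.FinAvg.exists_conj_cartan hconn h₁ h₂⟩

end Groth.Agent.S4151
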