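import Groth.Statements.S4243
import Mathlib.Combinatorics.Nullstellensatz

set_option autoImplicit false
open SGA4h

namespace Groth.Agent.S4243

/-- Let k be a finite field with q elements and P a nonzero homogeneous polynomial of degree d in r+1
variables over k. If P vanishes at every point of k^{r+1} (that is, the hypersurface P = 0 in
projective r-space passes through every rational point), then d ≥ q + 1. -/
theorem result (k : Type) [Field k] [Fintype k] (r d : ℕ)
    (P : MvPolynomial (Fin (r + 1)) k) (hP : P.IsHomogeneous d) (hP0 : P ≠ 0)
    (hvan : ∀ x : Fin (r + 1) → k, MvPolynomial.eval x P = 0) :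
    Fintype.card k + 1 ≤ d := by
  classical
  have hfin := fun (Q : MvPolynomial (Fin (r + 1)) k) (hd : ∀ i, Q.degreeOf i < Fintype.card k)
      (hv : ∀ x, MvPolynomial.eval x Q = 0) =>
    MvPolynomial.eq_zero_of_eval_zero_at_prod_finset Q (fun _ => (Finset.univ : Finset k))
      (fun i => by simpa using hd i) (fun x _ => hv x)
  by_contra hd
  apply hP0
  refine hfin P (fun i => ?_) hvan
  rw [MvPolynomial.degreeOf_lt_iff Fintype.card_pos]
  intro m hm
  have hmd : m.degree = d := by
    have := hP (MvPolynomial.mem_support_iff.1 hm)
    rw [Finsupp.degree_eq_weight_one]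
    exact this
  have hle : m i ≤ d := hmd ▸ Finsupp.le_degree i m
  by_contra hlt
  have hmi : m = Finsupp.single i d := by
    have hq : m i = d := by omega
    have := map_add (Finsupp.degree : (Fin (r + 1) →₀ ℕ) →+ ℕ) (Finsupp.single i (m i)) (m.erase i)
    rw [Finsupp.single_add_erase, hmd, Finsupp.degree_single, hq] at this
    have h0 : m.erase i = 0 := (Finsupp.degree_eq_zero_iff _).1 (by omega)
    conv_lhs => rw [← Finsupp.single_add_erase i m, h0, hq, add_zero]
  have he := hvan (Pi.single i 1)
  rw [MvPolynomial.eval_eq] at he
  rw [Finset.sum_eq_single (Finsupp.single i d)] at he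
  · apply MvPolynomial.mem_support_iff.1 hm
    rw [hmi]
    simpa [Finsupp.support_single_ne_zero, show d ≠ 0 by have := Fintype.card_pos (α := k); omega] using he
  · intro n hn hne
    have hnd : n.degree = d := by
      rw [Finsupp.degree_eq_weight_one]; exact hP (MvPolynomial.mem_support_iff.1 hn)
    obtain ⟨j, hj, hji⟩ : ∃ j ∈ n.support, j ≠ i := by
      by_contra hall
      push Not at hall
      have hn1 : n = Finsupp.single i (n i) := by
        ext j
        by_cases hji : j = i
        · simp [hji]
        · rw [Finsupp.single_eq_of_ne hji]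
          by_contra hj
          exact hji (hall j (Finsupp.mem_support_iff.2 hj))
      rw [hn1, Finsupp.degree_single] at hnd
      exact hne (hn1.trans (by rw [hnd]))
    rw [Finset.prod_eq_zero hj, mul_zero]
    rw [Pi.single_eq_of_ne hji, zero_pow (Finsupp.mem_support_iff.1 hj)]
  · exact fun h => absurd (hmi ▸ hm) h

end Groth.Agent.S4243
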