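import Groth.Statements.S4256
-- import your own Groth.Agent.* helpers here

set_option autoImplicit false
open scoped BigOperators
open SGA4h

namespace Groth.Agent.S4256

theorem char_sum {k R : Type} [AddCommMonoid k] [CommMonoid R] (ψ : AddChar k R) {n : ℕ} (x : Fin n → k) :
    ψ (∑ i, x i) = ∏ i, ψ (x i) := by
  induction n with
  | zero => simp
  | succ n ih => rw [Fin.sum_univ_succ, Fin.prod_univ_succ, AddChar.map_add_eq_mul, ih]

/-- Let k be a finite field, ψ a nontrivial additive character of k with values in a domain R, and n ≥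
1. Then the generalised Kloosterman sum with parameter 0, Σ ψ(x_1 + ⋯ + x_n) over all (x_1, …, x_n)
∈ k^n with x_1 ⋯ x_n = 0, equals (-1)^{n-1}. -/
theorem result (k : Type) [Field k] [Fintype k] [DecidableEq k] (R : Type) [CommRing R] [IsDomain R]
    (ψ : AddChar k R) (hψ : ψ ≠ 1) (n : ℕ) (hn : 1 ≤ n) :
    ∑ x ∈ (Finset.univ : Finset (Fin n → k)).filter (fun x => ∏ i, x i = 0), ψ (∑ i, x i) = (-1) ^ (n - 1) := by
  classical
  have h0 : ∑ a : k, ψ a = 0 := AddChar.sum_eq_zero_of_ne_one hψ
  have hall : ∑ x : Fin n → k, ψ (∑ i, x i) = 0 := by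
    simp only [char_sum]
    rw [← Fintype.piFinset_univ, ← Finset.sum_pow', h0, zero_pow (by omega)]
  have hu : ∑ a ∈ (Finset.univ : Finset k).filter (· ≠ 0), ψ a = -1 := by
    have := Finset.sum_filter_add_sum_filter_not (Finset.univ : Finset k) (· ≠ 0) (fun a => ψ a)
    rw [h0, show (Finset.univ : Finset k).filter (fun a => ¬ a ≠ 0) = {0} by ext; simp,
      Finset.sum_singleton, AddChar.map_zero_eq_one] at this
    exact eq_neg_of_add_eq_zero_left this
  have hne : ∑ x ∈ (Finset.univ : Finset (Fin n → k)).filter (fun x => ¬ ∏ i, x i = 0),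
      ψ (∑ i, x i) = (-1) ^ n := by
    rw [show (Finset.univ : Finset (Fin n → k)).filter (fun x => ¬ ∏ i, x i = 0) =
      Fintype.piFinset (fun _ : Fin n => (Finset.univ : Finset k).filter (· ≠ 0)) by
        ext x; simp [Finset.prod_eq_zero_iff]]
    simp only [char_sum]
    rw [← Finset.sum_pow', hu]
  have := Finset.sum_filter_add_sum_filter_not (Finset.univ : Finset (Fin n → k))
    (fun x => ∏ i, x i = 0) (fun x => ψ (∑ i, x i))
  rw [hall, hne] at this
  rw [eq_neg_of_add_eq_zero_left this]
  obtain ⟨m, rfl⟩ : ∃ m, n = m + 1 := ⟨n - 1, by omega⟩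
  simp [pow_succ]

end Groth.Agent.S4256
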