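import Groth.Statements.S4263
import Groth.Agent.H47.FrobConst.Basic

set_option backward.isDefEq.respectTransparency false

set_option autoImplicit false
universe u
open CategoryTheory CategoryTheory.Limits AlgebraicGeometry Opposite
open scoped BigOperators
open SGA4h

namespace Groth.Agent.S4263

open Groth.Agent.H47.FrobConst

theorem pullConst_galH {k K : Type u} [Field k] [Field K] [Algebra k K] {X₀ : Scheme.{u}}
    (a : X₀ ⟶ Spec (CommRingCat.of k)) (σ : K ≃ₐ[k] K) (Λ : Type) [CommRing Λ] [Fact FinFr.PullExact.{u}]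
    (n : ℕ) (x : EtCoh.H (FinFr.ext K a) ((EtCoh.pull (FinFr.extπ K a)).obj (EtCoh.const X₀ Λ)) n) :
    Sheaf.H.map (EtCore.pullConst (FinFr.extπ K a) Λ).hom n (FinFr.galH a σ (EtCoh.const X₀ Λ) n x) =
      FinFr.endConstAdd (Λ := Λ) (FinFr.galAct a σ) n
        (Sheaf.H.map (EtCore.pullConst (FinFr.extπ K a) Λ).hom n x) := by
  haveI := FinFr.pullExact_out (FinFr.galAct a σ)
  refine Eq.trans ?_ (congrArg (Sheaf.H.map (EtCore.pullConst (FinFr.galAct a σ) Λ).hom n)
    (EtCore.Hpull_natural (FinFr.galAct a σ) (EtCore.pullConst (FinFr.extπ K a) Λ).hom n x).symm)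
  refine (Sheaf.H.map_comp_apply _ _ _).symm.trans ?_
  refine Eq.trans ?_ (Sheaf.H.map_comp_apply _ _ _)
  exact congrArg (fun t => Sheaf.H.map t n
      (EtCore.Hpull (FinFr.galAct a σ) ((EtCoh.pull (FinFr.extπ K a)).obj (EtCoh.const X₀ Λ)) n x))
    (Groth.Agent.H61.HmapFunct.pullConst_comp (FinFr.galAct a σ) (FinFr.extπ K a) (FinFr.extπ K a)
      (FinFr.galAct_fst a σ) Λ)

/-- For an affine scheme and constant coefficients, pullback along the Frobenius endomorphism equals the
geometric Frobenius on cohomology: let k be a finite field with q elements, K an algebraic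
extension, R a k-algebra, X₀ = Spec R, φ_R : R → R the ring endomorphism r ↦ r^q (the Frobenius
endomorphism F of X₀ is Spec φ_R, a k-morphism), and Λ a coefficient ring. Then for every n the
endomorphism of H^n(X₀ ⊗_k K, Λ) induced by pullback along F × id (using the identifications of the
inverse images of the constant sheaf Λ with Λ) coincides with the geometric Frobenius F^* defined as
transport of structure by the inverse of the arithmetic Frobenius x ↦ x^q of K. -/
theorem result (k K : Type u) [Field k] [Fintype k] [Field K] [Algebra k K]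
    [Algebra.IsAlgebraic k K] (Λ : Type) [CommRing Λ] [Fact FinFr.PullExact.{u}]
    (R : Type u) [CommRing R] [Algebra k R] (φ : R →+* R) (hφ : ∀ r : R, φ r = r ^ Fintype.card k)
    (hw : Spec.map (CommRingCat.ofHom φ) ≫ Spec.map (CommRingCat.ofHom (algebraMap k R)) =
      Spec.map (CommRingCat.ofHom (algebraMap k R))) (n : ℕ)
    (x : EtCoh.H (FinFr.ext K (Spec.map (CommRingCat.ofHom (algebraMap k R))))
      (EtLam.pullback (FinFr.extπ K (Spec.map (CommRingCat.ofHom (algebraMap k R)))) (FinFr.constLam Λ (Spec (CommRingCat.of R)))).carrier n) :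
    FinFr.frob (K := K) (Spec.map (CommRingCat.ofHom (algebraMap k R))) (FinFr.constLam Λ (Spec (CommRingCat.of R))) n x =
      Sheaf.H.map (EtCore.pullConst (FinFr.extπ K (Spec.map (CommRingCat.ofHom (algebraMap k R)))) Λ).inv n
        (FinFr.endConstAdd (Λ := Λ) (FinFr.extHom K (Spec.map (CommRingCat.ofHom (algebraMap k R))) (Spec.map (CommRingCat.ofHom φ)) hw) n
          (Sheaf.H.map (EtCore.pullConst (FinFr.extπ K (Spec.map (CommRingCat.ofHom (algebraMap k R)))) Λ).hom n x)) := by
  obtain ⟨p, hp⟩ := CharP.exists k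
  obtain ⟨⟨m, hm⟩, hpp, hq⟩ := FiniteField.card k p
  haveI : Fact p.Prime := ⟨hpp⟩
  obtain ⟨m, rfl⟩ : ∃ j, m = j + 1 := ⟨m - 1, by omega⟩
  change Fintype.card k = p ^ (m + 1) at hq
  let a := Spec.map (CommRingCat.ofHom (algebraMap k R))
  haveI : FrobSch.IsCharP (Spec (CommRingCat.of k)) p := ⟨by
    refine (map_natCast (Scheme.ΓSpecIso (CommRingCat.of k)).inv.hom p).symm.trans ?_
    exact (congrArg _ (CharP.cast_eq_zero k p)).trans (map_zero _)⟩
  haveI : FrobSch.IsCharP (Spec (CommRingCat.of R)) p := FrobSch.IsCharP.of_hom a p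
  haveI : FrobSch.IsCharP (Spec (CommRingCat.of K)) p := FrobSch.IsCharP.of_hom (FinFr.specι k K) p
  haveI : FrobSch.IsCharP (FinFr.ext K a) p := FrobSch.IsCharP.of_hom (FinFr.extπ K a) p
  let σ : K ≃ₐ[k] K := FinFr.arith k K
  let F₁ := FinFr.extHom (K := K) a (Spec.map (CommRingCat.ofHom φ)) hw
  have h1 : F₁ ≫ FinFr.galAct a σ = frobPow p (FinFr.ext K a) m := by
    refine pullback.hom_ext ?_ ?_
    · rw [Category.assoc, frobPow_comp p _ m, frobPow_spec p R m φ (fun r => (hφ r).trans (by rw [hq]))]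
      exact (congrArg (F₁ ≫ ·) (FinFr.galAct_fst a σ)).trans (pullback.lift_fst _ _ _)
    · rw [Category.assoc, frobPow_comp p _ m,
        frobPow_spec p K m (σ : K →+* K) (fun r => show r ^ Fintype.card k = _ by rw [hq])]
      refine (congrArg (F₁ ≫ ·) (FinFr.galAct_snd a σ)).trans ?_
      refine (Category.assoc _ _ _).symm.trans ?_
      exact congrArg (· ≫ _) ((pullback.lift_snd _ _ _).trans (Category.comp_id _))
  have h2 : FinFr.galAct a σ ≫ FinFr.galAct a σ.symm = 𝟙 (FinFr.ext K a) := by
    refine pullback.hom_ext ?_ ?_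
    · rw [Category.assoc, Category.id_comp]
      exact (congrArg (_ ≫ ·) (FinFr.galAct_fst a σ.symm)).trans (FinFr.galAct_fst a σ)
    · rw [Category.assoc, Category.id_comp]
      refine (congrArg (_ ≫ ·) (FinFr.galAct_snd a σ.symm)).trans ?_
      refine (Category.assoc _ _ _).symm.trans ?_
      refine (congrArg (· ≫ _) (FinFr.galAct_snd a σ)).trans ?_
      rw [Category.assoc, ← Spec.map_comp, ← CommRingCat.ofHom_comp,
        show ((σ : K →+* K).comp (σ.symm : K →+* K)) = RingHom.id K from
          RingHom.ext fun r => σ.apply_symm_apply r]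
      simp
  have h3 : F₁ = frobPow p (FinFr.ext K a) m ≫ FinFr.galAct a σ.symm := by
    rw [← h1, Category.assoc, h2, Category.comp_id]
  let C := EtCore.pullConst (FinFr.extπ K a) Λ
  have h4 : FinFr.endConstAdd (Λ := Λ) F₁ n (Sheaf.H.map C.hom n x) =
      FinFr.endConstAdd (Λ := Λ) (FinFr.galAct a σ.symm) n (Sheaf.H.map C.hom n x) := by
    rw [h3, endConstAdd_comp, endConstAdd_frobPow]
  refine Eq.trans ?_ (congrArg (Sheaf.H.map C.inv n) h4).symm
  refine Eq.trans ?_ (congrArg (Sheaf.H.map C.inv n) (pullConst_galH a σ.symm Λ n x))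
  refine Eq.trans ?_ (Sheaf.H.map_comp_apply _ _ _)
  rw [Iso.hom_inv_id]
  exact (Sheaf.H.map_id_apply _).symm

end Groth.Agent.S4263
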