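import Groth.Statements.S4267
import Groth.Agent.Lib.RightAdjTensor.PerfPush
import Groth.Agent.Lib.Gen43.Restrict
import Groth.Agent.H54.PerfBaseChange
import Groth.Agent.Lib.DerivedOX.RestrictRpush


set_option autoImplicit false
universe u
open CategoryTheory CategoryTheory.Limits AlgebraicGeometry
attribute [local instance] HasDerivedCategory.standard
open KSix

namespace Groth.Agent.S4267

/-- In the case where the base is locally Noetherian: let f : X ⟶ Y be a proper morphism which is
perfect (affine-locally of finite tor-dimension and pseudo-coherent), with Y locally Noetherian, and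
E a bounded below perfect object of D(O_X). Assuming Rf_* exists, Rf_*E is a perfect object of
D(O_Y). -/
theorem result {X Y : Scheme.{u}} [IsLocallyNoetherian Y] (f : X ⟶ Y) [IsProper f]
    (hf : MoreMor.IsPerfectMor f) [DCoh.HasRpush f] (E : DCoh.D X) (b : ℤ) [E.IsGE b] (hE : DCoh.IsPerfect E) :
    DCoh.IsPerfect ((DCoh.Rpush f).obj E) := by
  refine Groth.Agent.Lib.Gen43.Restrict.isPerfect_of_cover fun y => ?_
  obtain ⟨_, ⟨(V : Y.Opens), (hV : IsAffineOpen V), rfl⟩, hyV, -⟩ :=
    Y.isBasis_affineOpens.exists_subset_of_mem_open (Set.mem_univ y) isOpen_univ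
  refine ⟨V, V.ι, inferInstance, ⟨y, hyV⟩, rfl, ?_⟩
  haveI := Groth.Agent.Lib.DerivedOX.Exists.hasRpush (f ∣_ V)
  haveI : IsAffine (V : Scheme.{u}) := hV
  haveI : IsNoetherian (V : Scheme.{u}) := {}
  haveI : IsLocallyNoetherian ((f ⁻¹ᵁ V : X.Opens) : Scheme.{u}) :=
    LocallyOfFiniteType.isLocallyNoetherian (f ∣_ V)
  haveI : CompactSpace ((f ⁻¹ᵁ V : X.Opens) : Scheme.{u}) :=
    QuasiCompact.compactSpace_of_compactSpace (f ∣_ V)
  haveI : IsNoetherian ((f ⁻¹ᵁ V : X.Opens) : Scheme.{u}) := {}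
  exact Groth.Agent.Lib.Perfect.Triangle.isPerfect_of_iso
    ((Groth.Agent.Lib.DerivedOX.RestrictRpush.restrictD_Rpush_iso f V).app E).symm
    (Groth.Agent.Lib.RightAdjTensor.PerfPush.isPerfect_Rpush (f ∣_ V)
      (Groth.Agent.H54.PerfBaseChange.mor_baseChange f (f ∣_ V) (f ⁻¹ᵁ V).ι V.ι
        (isPullback_morphismRestrict f V).flip hf)
      _ (Groth.Agent.Lib.Gen43.Restrict.isPerfect_restrict _ hE))

end Groth.Agent.S4267
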