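import Groth.Statements.S4273
import Groth.Agent.H41.AmpleRes.Resolve

set_option autoImplicit false
universe u
open CategoryTheory CategoryTheory.Limits AlgebraicGeometry
attribute [local instance] HasDerivedCategory.standard
open KSix
open scoped ZeroObject

namespace Groth.Agent.S4273

/-- Perfect amplitude in an empty interval forces zero. -/
theorem isZero_of_hasPerfectAmplitudeIn {X : Scheme.{u}} (E : DCoh.D X) (m n : ℤ) (hmn : n < m)
    (hE : KSix.HasPerfectAmplitudeIn m n E) : IsZero E := by
  have key : ∀ a k : ℤ, k ≠ a → IsZero (DCoh.HD E k) := fun a k hk => by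
    have h' : KSix.HasPerfectAmplitudeIn a a E := fun x => by
      obtain ⟨V, hx, hV⟩ := hE x
      refine ⟨V, hx, fun F hF => ?_⟩
      obtain ⟨T, hv, hf, he⟩ := hV F hF
      exact ⟨T, fun i _ => hv i (by omega), hf, he⟩
    obtain ⟨-, E₀, hv₀, -, ⟨e₀⟩⟩ :=
      Groth.Agent.Lib.Perfect.PerfAmp.of_hasPerfectAmplitudeIn le_rfl h'
    exact (((HomologicalComplex.ExactAt.of_isZero (hv₀ k (by omega))).isZero_homology).of_iso
      ((DerivedCategory.homologyFunctorFactors X.Modules k).app E₀)).of_iso
        ((DerivedCategory.homologyFunctor X.Modules k).mapIso e₀.symm)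
  haveI : IsIso (0 : E ⟶ E) := (DerivedCategory.isIso_iff (C := X.Modules) (0 : E ⟶ E)).2 fun k => by
    have hz := key (k + 1) k (by omega)
    exact ⟨0, hz.eq_of_src _ _, hz.eq_of_src _ _⟩
  rw [IsZero.iff_id_eq_zero, ← IsIso.hom_inv_id (0 : E ⟶ E), zero_comp]

/-- The converse is immediate): let X be a scheme with an ample family (L_i) of invertible modules, and
assume X separated or Noetherian. If E ∈ D(O_X) has perfect amplitude in [m, n], then E is
isomorphic in D(O_X) to (the image of) a complex F with F^i = 0 for i outside [m, n], F^i a finite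
direct sum of modules L_j^{⊗ -k} (k > 0) for i > m, and F^m finite locally free. -/
theorem result (X : Scheme.{u}) {ι : Type u} (L : ι → X.Modules)
    (hL : KSix.IsAmpleFamily L) (hX : X.IsSeparated ∨ IsNoetherian X)
    (E : DCoh.D X) (m n : ℤ) (hE : KSix.HasPerfectAmplitudeIn m n E) :
    ∃ F : CochainComplex X.Modules ℤ, DCoh.VanishesOutside F m n ∧ (∀ i : ℤ, m < i → KSix.InAddL L (F.X i)) ∧
      FlatMod.IsFinLocFree (F.X m) ∧ Nonempty (DCoh.toD X F ≅ E) := by
  haveI := hL.1
  haveI := hL.2.1
  have hP := Groth.Agent.H41.AmpleRes.covers_inAddL L hL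
  have hg := Groth.Agent.H41.AmpleRes.good_inAddL L
  by_cases hmn : m ≤ n
  · exact Groth.Agent.H41.AmpleRes.exists_perfect_resolution hP hg
      (Groth.Agent.H41.AmpleRes.hasKillers_of_or hX) E m n hmn hE
  have hz : IsZero E := by
    refine isZero_of_hasPerfectAmplitudeIn E m n (by omega) hE
  have h0 : ∀ i, IsZero ((0 : CochainComplex X.Modules ℤ).X i) := fun i =>
    Functor.map_isZero (HomologicalComplex.eval X.Modules (.up ℤ) i) (isZero_zero _)
  exact ⟨0, fun i _ => h0 i, fun i _ => hg.zero (h0 i),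
    Groth.Agent.Lib.Perfect.Stupid.isFinLocFree_isZero (h0 m),
    ⟨(Functor.map_isZero DerivedCategory.Q (isZero_zero _)).iso hz⟩⟩

end Groth.Agent.S4273
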