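import Groth.Statements.S4278
import Groth.Agent.Lib.IntTheory.ChiConst
import Groth.Agent.Lib.Cube.FamCx
import Groth.Agent.Lib.FibreDeg.Basic
import Groth.Agent.Lib.Curves.Degree
import Groth.Agent.Lib.Curves.GlobalSections
import Groth.Agent.Lib.Ample.Pow
import Groth.Agent.Lib.Snapper.Chi

set_option autoImplicit false
universe u
open CategoryTheory CategoryTheory.Limits AlgebraicGeometry
open Pic13

namespace Groth.Agent.S4278

/-- Let k be an algebraically closed field, X a proper k-scheme and L an invertible O_X-module which is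
τ-equivalent to zero. Then L is numerically equivalent to zero: its restriction to every integral
closed curve Y ⊆ X has degree χ(L|_Y) - χ(O_Y) = 0. -/
theorem result (k : Type u) [Field k] [IsAlgClosed k] (X : Scheme.{u}) [X.Over (Spec (CommRingCat.of k))]
    [IsProper (X ↘ Spec (CommRingCat.of k))]
    (L : X.Modules) (hL : PicF.IsInvertible L) (hτ : Pic13.IsTauEquivZero k X L) : Pic13.IsNumEquivZero k X L := by
  obtain ⟨n, hn, T, q, hT, hlft, hqc, M, hM, t, t₀, ht, ht₀, ⟨eL⟩, ⟨eO⟩⟩ := hτ
  intro Y ι _ hY hY1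
  haveI := hlft
  haveI : IsLocallyNoetherian T := LocallyOfFiniteType.isLocallyNoetherian q
  let pX := X ↘ Spec (CommRingCat.of k)
  let pY := ι ≫ pX
  letI : Y.Over (Spec (CommRingCat.of k)) := ⟨pY⟩
  haveI : IsProper (Y ↘ Spec (CommRingCat.of k)) := inferInstanceAs (IsProper (ι ≫ pX))
  haveI : IsProper pY := inferInstanceAs (IsProper (ι ≫ pX))
  haveI := hY
  haveI := Lib.Curves.GlobalSections.isNoetherian_of_proper k Y
  haveI : Flat pY := Lib.FibreDeg.Basic.flat_of_field pY
  let f : pullback pY q ⟶ T := pullback.snd pY q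
  let j : pullback pY q ⟶ Pic13.prodK k X q :=
    pullback.lift (pullback.fst pY q ≫ ι) (pullback.snd pY q)
      (by rw [Category.assoc]; exact pullback.condition)
  haveI : IsLocallyNoetherian (pullback pY q) := LocallyOfFiniteType.isLocallyNoetherian f
  have hMY : PicF.IsInvertible ((Scheme.Modules.pullback j).obj M) := PicLoc.isInvertible_pullback j hM
  obtain ⟨e, he, hform⟩ := Lib.IntTheory.ChiConst.exists_euler_scheme f _
    (Lib.Ample.GG.isCoh_of_isInvertible hMY)
    (Lib.Cube.FamCx.isFlatOver_of_isInvertible f hMY)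
  have key : ∀ (s : Spec (CommRingCat.of k) ⟶ T) (hs : s ≫ q = 𝟙 _),
      Curv2.euler k Y ((Scheme.Modules.pullback ι).obj (Pic13.fibreMod k X q s hs M)) =
        e (s (IsLocalRing.closedPoint k)) := by
    intro s hs
    let g' : Y ⟶ pullback pY q := pullback.lift (𝟙 Y) (pY ≫ s)
      (by rw [Category.id_comp, Category.assoc, hs, Category.comp_id])
    have hsq : IsPullback g' pY f s := by
      refine IsPullback.of_right ?_ (pullback.lift_snd _ _ _) (IsPullback.of_hasPullback pY q).flip.flip
      rw [pullback.lift_fst, hs]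
      exact IsPullback.of_horiz_isIso ⟨by simp⟩
    have hcomp : g' ≫ j = ι ≫ Pic13.sliceAt k X q s hs := by
      apply pullback.hom_ext
      · simp only [g', j, Pic13.sliceAt, Category.assoc, pullback.lift_fst, pullback.lift_fst_assoc,
          Category.id_comp, Category.comp_id]
      · simp only [g', j, Pic13.sliceAt, Category.assoc, pullback.lift_snd]
        rfl
    refine Eq.trans ?_ (hform k Y pY s g' hsq)
    exact Lib.Curves.Euler.euler_eq_of_iso (k := k)
      ((Scheme.Modules.pullbackComp ι (Pic13.sliceAt k X q s hs)).app M ≪≫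
        (Scheme.Modules.pullbackCongr hcomp.symm).app M ≪≫
        ((Scheme.Modules.pullbackComp g' j).app M).symm)
  have hchi : Curv2.euler k Y ((Scheme.Modules.pullback ι).obj (CohB1.tensorPow L n)) =
      Curv2.euler k Y (Coh.structureModule Y) := by
    haveI := hT
    calc _ = Curv2.euler k Y ((Scheme.Modules.pullback ι).obj (Pic13.fibreMod k X q t ht M)) :=
          Lib.Curves.Euler.euler_eq_of_iso (k := k) ((Scheme.Modules.pullback ι).mapIso eL.symm)
      _ = e (t (IsLocalRing.closedPoint k)) := key t ht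
      _ = e (t₀ (IsLocalRing.closedPoint k)) := he.apply_eq_of_preconnectedSpace _ _
      _ = _ := (key t₀ ht₀).symm.trans
          (Lib.Curves.Euler.euler_eq_of_iso (k := k)
            ((Scheme.Modules.pullback ι).mapIso eO ≪≫ PicLoc.pullbackStructureIso ι))
  have hLY : PicF.IsInvertible ((Scheme.Modules.pullback ι).obj L) := PicLoc.isInvertible_pullback ι hL
  have hdeg : ∀ m : ℕ, Curv2.deg k Y (CohB1.tensorPow ((Scheme.Modules.pullback ι).obj L) m) 1 =
      (m : ℤ) * Curv2.deg k Y ((Scheme.Modules.pullback ι).obj L) 1 := by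
    intro m
    induction m with
    | zero => simp [Curv2.deg, CohB1.tensorPow]
    | succ m ih =>
      rw [CohB1.tensorPow, Lib.Curves.Degree.deg_tensor hY1.le
        (Lib.TensorMod.Invertible.isInvertible_tensorPow hLY m) hLY, ih]
      push_cast
      ring
  have h0 := hdeg n
  unfold Curv2.deg at h0
  rw [← Lib.Curves.Euler.euler_eq_of_iso (k := k) (Lib.Ample.Pow.pullbackPow ι L n),
    show Curv2.euler k Y ((Lib.TensorMod.Pullback.pb ι).obj (CohB1.tensorPow L n)) = _ from hchi] at h0
  simp only [Nat.cast_one, one_mul, sub_self] at h0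
  have h1 := (mul_eq_zero.1 h0.symm).resolve_left (by exact_mod_cast hn.ne')
  unfold Pic13.curveDeg
  rw [Lib.Snapper.Chi.euler_eq_eulerCharLE (d := 1) hY1.le,
    Lib.Snapper.Chi.euler_eq_eulerCharLE (d := 1) hY1.le] at h1
  exact h1

end Groth.Agent.S4278
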