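import Groth.Statements.S4288
import Groth.Agent.H56.TwistAcyc.Main

set_option autoImplicit false
universe u
open CategoryTheory CategoryTheory.Limits AlgebraicGeometry
attribute [local instance] HasDerivedCategory.standard
open KSix

namespace Groth.Agent.S4288

/-- Let Y be an affine scheme, i : X ⟶ P^r_Y a closed immersion, f : X ⟶ Y the composite with the
projection, L = i^* O(1), and E a bounded below object of D(O_X), acyclic in degrees > a, which is
pseudo-coherent relative to Y (i.e. Ri_*E is pseudo-coherent on P^r_Y). Assuming the derived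
functors exist, there is an integer N such that for every n ≥ N the complex Rf_*(E ⊗^L L^{⊗ n}) is
pseudo-coherent on Y and acyclic in degrees > a. (The published statement allows any quasi-compact
base S, Y of finite type over S and a closed immersion into P(F) with F quasi-coherent of finite
type.) -/
theorem result {X Y : Scheme.{u}} [IsAffine Y] (r : ℕ)
    (i : X ⟶ CohB1.ProjSpaceOver r Y) [IsClosedImmersion i]
    [DCoh.HasRpush i] [DCoh.HasRpush (i ≫ CohB1.ProjSpaceOver.toBase r Y)]
    [∀ n : ℤ, DCoh.HasLTensorMod ((Scheme.Modules.pullback i).obj (Twist.twistOver r Y n))]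
    (E : DCoh.D X) (a b : ℤ) [E.IsGE b] [E.IsLE a]
    (hE : ∀ m : ℤ, DCoh.IsPseudoCoherentD m ((DCoh.Rpush i).obj E)) :
    ∃ N : ℤ, ∀ n : ℤ, N ≤ n →
      (∀ m : ℤ, DCoh.IsPseudoCoherentD m ((DCoh.Rpush (i ≫ CohB1.ProjSpaceOver.toBase r Y)).obj
        ((DCoh.LTensorMod ((Scheme.Modules.pullback i).obj (Twist.twistOver r Y n))).obj E))) ∧
      ((DCoh.Rpush (i ≫ CohB1.ProjSpaceOver.toBase r Y)).obj
        ((DCoh.LTensorMod ((Scheme.Modules.pullback i).obj (Twist.twistOver r Y n))).obj E)).IsLE a := by
  exact Groth.Agent.H56.TwistAcyc.main r i E a hE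

end Groth.Agent.S4288
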