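import Groth.Statements.S4297
import Groth.Agent.Lib.PCoh.Derived


set_option autoImplicit false
universe w v u
open CategoryTheory CategoryTheory.Limits
open PCoh

namespace Groth.Agent.S4297

/-- Punctual site: faithfulness of K⁻(C₀)/(acyclic complexes) ⟶ D(C): let C be an abelian category and
C₀ a strictly full additive subcategory, quasi-stable under kernels of epimorphisms and
quasi-liftable. If two chain maps f, g : E ⟶ E' between bounded above complexes with terms in C₀
have the same image in D(C), then there are a bounded above complex E'' with terms in C₀ and a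
quasi-isomorphism s : E'' ⟶ E such that s ≫ f and s ≫ g are homotopic. -/
theorem result {C : Type u} [Category.{v} C] [Abelian C] [HasDerivedCategory.{w} C]
    (P : ObjectProperty C) [P.IsClosedUnderIsomorphisms] [P.ContainsZero] (hsum : ∀ X Y : C, P X → P Y → P (X ⨯ Y))
    (hqs : PCoh.IsQuasiStableUnderKernels P) (hql : PCoh.IsQuasiLiftable P)
    (E E' : CochainComplex C ℤ) (hE : PCoh.IsStrictPCAll P E) (hE' : PCoh.IsStrictPCAll P E')
    (f g : E ⟶ E') (hfg : DerivedCategory.Q.map f = DerivedCategory.Q.map g) :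
    ∃ (E'' : CochainComplex C ℤ) (s : E'' ⟶ E), PCoh.IsStrictPCAll P E'' ∧ QuasiIso s ∧ Nonempty (Homotopy (s ≫ f) (s ≫ g)) := by
  have hh : (DerivedCategory.Qh (C := C)).map ((HomotopyCategory.quotient _ _).map f) =
      DerivedCategory.Qh.map ((HomotopyCategory.quotient _ _).map g) := by
    rw [← cancel_mono ((DerivedCategory.quotientCompQhIso C).hom.app E'),
      DerivedCategory.quotientCompQhIso_hom_naturality, DerivedCategory.quotientCompQhIso_hom_naturality, hfg]
  obtain ⟨X, s, hs, hcomp⟩ := (MorphismProperty.map_eq_iff_precomp (DerivedCategory.Qh (C := C))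
    (HomotopyCategory.quasiIso C (ComplexShape.up ℤ)) _ _).1 hh
  obtain ⟨X, rfl⟩ := HomotopyCategory.quotient_obj_surjective X
  obtain ⟨s, rfl⟩ := (HomotopyCategory.quotient _ _).map_surjective s
  have hs' : QuasiIso s := (HomotopyCategory.quotient_map_mem_quasiIso_iff s).1 hs
  have hX : ∀ n, Groth.Agent.Lib.PCoh.Resolve.Good P n X := fun n =>
    Groth.Agent.Lib.PCoh.Resolve.good_of_quasiIso s (Groth.Agent.Lib.PCoh.Resolve.good_of_strict hsum hqs ⟨hE.1, fun i _ => hE.2 i⟩)
  obtain ⟨b, hb⟩ := (hX 0).1
  obtain ⟨G, r, hG, hr, -⟩ := Groth.Agent.Lib.PCoh.Infinite.exists_resolutionAll hsum hql hX (b + 1) (fun i hi => hb i (by omega))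
  refine ⟨G, r ≫ s, hG, inferInstance, ⟨HomotopyCategory.homotopyOfEq _ _ ?_⟩⟩
  simp only [Functor.map_comp, Category.assoc, hcomp]

end Groth.Agent.S4297
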