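import Groth.Statements.S4302
import Groth.Agent.H56.ProjPC.Bound

set_option autoImplicit false
universe u
open CategoryTheory CategoryTheory.Limits AlgebraicGeometry
attribute [local instance] HasDerivedCategory.standard
open KSix

namespace Groth.Agent.S4302

/-- Over an affine base Y, through the embedding criterion for perfect amplitude: let i : X ⟶ P^r_Y be a
closed immersion with Y affine, f : X ⟶ Y the composite with the projection, and E a bounded object
of D(O_X) such that Ri_*E has perfect amplitude in [a, b] on P^r_Y. Assuming the derived functors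
exist, Rf_*E has perfect amplitude in [a, b + r] on Y (r bounds the cohomological dimension of f on
quasi-coherent modules). -/
theorem result {X Y : Scheme.{u}} [IsAffine Y] (r : ℕ)
    (i : X ⟶ CohB1.ProjSpaceOver r Y) [IsClosedImmersion i]
    [DCoh.HasRpush i] [DCoh.HasRpush (i ≫ CohB1.ProjSpaceOver.toBase r Y)]
    (E : DCoh.D X) (a₀ b₀ : ℤ) [E.IsGE a₀] [E.IsLE b₀] (a b : ℤ)
    (hE : KSix.HasPerfectAmplitudeIn a b ((DCoh.Rpush i).obj E)) :
    KSix.HasPerfectAmplitudeIn a (b + r) ((DCoh.Rpush (i ≫ CohB1.ProjSpaceOver.toBase r Y)).obj E) := by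
  haveI := Groth.Agent.Lib.DerivedOX.Exists.hasRpush (CohB1.ProjSpaceOver.toBase r Y)
  have key : KSix.HasPerfectAmplitudeIn a (b + r)
      ((DCoh.Rpush (CohB1.ProjSpaceOver.toBase r Y)).obj ((DCoh.Rpush i).obj E)) := by
    rcases le_or_gt a b with hab | hab
    · exact Groth.Agent.H56.ProjPC.perfAmp_Rpush_projSpace Y r _ hab hE
    · exact Groth.Agent.H56.ProjPC.perfAmp_of_isZero ((DCoh.Rpush _).map_isZero
        (Groth.Agent.H56.ProjPC.isZero_of_perfAmp hab hE)) _ _
  exact Groth.Agent.H56.ProjPC.perfAmp_of_iso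
    ((Groth.Agent.Lib.DerivedOX.PullComp.rpushCompIso i (CohB1.ProjSpaceOver.toBase r Y)).app E) key

end Groth.Agent.S4302
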