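import Groth.Statements.S4303
import Groth.Agent.Lib.PicBdd.IntConst

set_option autoImplicit false
set_option linter.style.haveILetI false
universe u
open CategoryTheory CategoryTheory.Limits AlgebraicGeometry
open Pic13

namespace Groth.Agent.S4303

open Groth.Agent Groth.Agent.Lib

section

variable {k : Type u} [Field k] {X : Scheme.{u}} [X.Over (Spec (CommRingCat.of k))]
  [IsProper (X ↘ Spec (CommRingCat.of k))]

theorem exists_const (s d : ℕ) (hd : topologicalKrullDim X ≤ d) (H' : X.Modules) (hH' : PicF.IsInvertible H')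
    (p : Lib.PicBdd.Strata.Piece k X) :
    ∃ c₁ c₂ : ℤ, ∀ (t : Spec (CommRingCat.of k) ⟶ p.T) (ht : t ≫ p.q = 𝟙 _) (L L' : X.Modules),
      (Pic13.fibreMod k X p.q t ht p.M ≅ L) → (CohB1.tensorMod L L' ≅ Coh.structureModule X) →
      FGA.intNum k X d (Matrix.vecCons L' (fun _ : Fin (s + 1) => H')) (Coh.structureModule X) = c₁ ∧
      FGA.intNum k X d (Matrix.vecCons L' (Matrix.vecCons L' (fun _ : Fin s => H'))) (Coh.structureModule X) = c₂ := by
  haveI := p.integral
  haveI := p.lft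
  let D := TensorMod.Dual.dual p.M
  let P := (Scheme.Modules.pullback (pullback.fst (X ↘ Spec (CommRingCat.of k)) p.q)).obj H'
  have hD : PicF.IsInvertible D := TensorMod.Invertible.isInvertible_dual p.inv
  have hP : PicF.IsInvertible P := PicLoc.isInvertible_pullback _ hH'
  have eP : ∀ (t : Spec (CommRingCat.of k) ⟶ p.T) (ht : t ≫ p.q = 𝟙 _),
      Nonempty (Pic13.fibreMod k X p.q t ht P ≅ H') := fun t ht =>
    ⟨(Scheme.Modules.pullbackComp _ _).app H' ≪≫
      (Scheme.Modules.pullbackCongr (PicBdd.Strata.sliceAt_fst p.q t ht)).app H' ≪≫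
      (Scheme.Modules.pullbackId X).app H'⟩
  by_cases h : ∃ t₀ : Spec (CommRingCat.of k) ⟶ p.T, t₀ ≫ p.q = 𝟙 _
  swap
  · exact ⟨0, 0, fun t ht => absurd ⟨t, ht⟩ h⟩
  obtain ⟨t₀, ht₀⟩ := h
  let A := Pic13.fibreMod k X p.q t₀ ht₀ D
  refine ⟨FGA.intNum k X d (Matrix.vecCons A (fun _ : Fin (s + 1) => H')) (Coh.structureModule X),
    FGA.intNum k X d (Matrix.vecCons A (Matrix.vecCons A (fun _ : Fin s => H'))) (Coh.structureModule X),
    fun t ht L L' e e' => ?_⟩
  have eD : Nonempty (Pic13.fibreMod k X p.q t ht D ≅ L') := PicBdd.IntConst.nonempty_fibre_dual p t ht e e'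
  constructor
  · refine PicBdd.IntConst.intNum_eq p.q (Matrix.vecCons D (fun _ : Fin (s + 1) => P))
      (Fin.cases hD fun _ => hP) hd _ _ t t₀ ht ht₀ (Fin.cases eD fun _ => eP t ht)
      (Fin.cases ⟨Iso.refl _⟩ fun _ => eP t₀ ht₀)
  · refine PicBdd.IntConst.intNum_eq p.q (Matrix.vecCons D (Matrix.vecCons D (fun _ : Fin s => P)))
      (Fin.cases hD (Fin.cases hD fun _ => hP)) hd _ _ t t₀ ht ht₀
      (Fin.cases eD (Fin.cases eD fun _ => eP t ht))
      (Fin.cases ⟨Iso.refl _⟩ (Fin.cases ⟨Iso.refl _⟩ fun _ => eP t₀ ht₀))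

end

/-- (i) implies (iii), over S = Spec k with k algebraically closed: let X be a proper integral k-scheme
of dimension r = s + 2 ≥ 2 carrying an ample invertible module H with inverse H', and P a family of
invertible O_X-modules. Condition (iii): as L runs through P (with inverse L'), the degree
(c₁(L)·c₁(H)^{r-1}) stays bounded and (c₁(L)²·c₁(H)^{r-2}) stays bounded below; condition (i): P is
bounded. Intersection numbers are those of FGA.intNum, taking the inverse modules as arguments. -/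
theorem result (k : Type u) [Field k] [IsAlgClosed k] (X : Scheme.{u})
    [X.Over (Spec (CommRingCat.of k))] [IsProper (X ↘ Spec (CommRingCat.of k))] [IsIntegral X] (s : ℕ)
    (hdim : topologicalKrullDim X = (s + 2 : ℕ)) (H H' : X.Modules) (hH : CohB1.IsAmple H)
    (hHH' : Nonempty (CohB1.tensorMod H H' ≅ Coh.structureModule X))
    (P : X.Modules → Prop) (hP : ∀ L, P L → PicF.IsInvertible L)
    (hb : Pic13.IsBounded k X P) :
    ∃ B : ℤ, ∀ L L' : X.Modules, P L → Nonempty (CohB1.tensorMod L L' ≅ Coh.structureModule X) →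
      |FGA.intNum k X (s + 2) (Matrix.vecCons L' (fun _ : Fin (s + 1) => H')) (Coh.structureModule X)| ≤ B ∧
      -B ≤ FGA.intNum k X (s + 2) (Matrix.vecCons L' (Matrix.vecCons L' (fun _ : Fin s => H'))) (Coh.structureModule X) := by
  classical
  obtain ⟨eH⟩ := hHH'
  have hH' : PicF.IsInvertible H' :=
    TensorMod.TensorInv.isInvertible_of_tensor_iso (TensorMod.Basic.comm H' H ≪≫ eH)
  obtain ⟨ps, hps⟩ := PicBdd.Core.exists_covers k hb
  choose c₁ c₂ hc using exists_const (k := k) (X := X) s (s + 2) hdim.le H' hH'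
  refine ⟨∑ p ∈ ps.toFinset, (|c₁ p| + |c₂ p|), fun L L' hL hLL' => ?_⟩
  obtain ⟨e'⟩ := hLL'
  obtain ⟨p, hp, t, ht, ⟨e⟩⟩ := hps L hL (hP L hL)
  obtain ⟨h1, h2⟩ := hc p t ht L L' e e'
  have hle : |c₁ p| + |c₂ p| ≤ ∑ p ∈ ps.toFinset, (|c₁ p| + |c₂ p|) :=
    Finset.single_le_sum (f := fun p => |c₁ p| + |c₂ p|) (fun _ _ => by positivity) (List.mem_toFinset.2 hp)
  rw [h1, h2]
  have h3 := abs_nonneg (c₁ p)
  have h4 := abs_nonneg (c₂ p)
  have h5 := neg_abs_le (c₂ p)
  exact ⟨by omega, by omega⟩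

end Groth.Agent.S4303
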