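import Groth.Statements.S4305
import Groth.Agent.S4278
import Groth.Agent.Lib.Nakai.UnifAbs

set_option autoImplicit false
universe u
open CategoryTheory CategoryTheory.Limits AlgebraicGeometry
open Pic13

namespace Groth.Agent.S4305

/-- Let k be an algebraically closed field, X an irreducible proper k-scheme of dimension ≤ d carrying
an ample invertible module H with inverse H', and L an invertible module with inverse L'. Condition
(v): χ(L^{⊗ m} ⊗ H^{⊗ n}) = χ(H^{⊗ n}) for all integers m, n — written with natural exponents on L,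
L', H, H' to cover all signs, Euler characteristics in degrees ≤ d; condition (i): L is τ-equivalent
to zero. -/
theorem result (k : Type u) [Field k] [IsAlgClosed k] (X : Scheme.{u})
    [X.Over (Spec (CommRingCat.of k))] [IsProper (X ↘ Spec (CommRingCat.of k))] [IrreducibleSpace X]
    (d : ℕ) (hd : topologicalKrullDim X ≤ d) (H H' L L' : X.Modules) (hH : CohB1.IsAmple H) (hL : PicF.IsInvertible L)
    (hHH' : Nonempty (CohB1.tensorMod H H' ≅ Coh.structureModule X)) (hLL' : Nonempty (CohB1.tensorMod L L' ≅ Coh.structureModule X))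
    (hτ : Pic13.IsTauEquivZero k X L) :
    ∀ m n : ℕ,
      FGA.eulerCharLE k X (CohB1.tensorMod (CohB1.tensorPow L m) (CohB1.tensorPow H n)) d = FGA.eulerCharLE k X (CohB1.tensorPow H n) d ∧
      FGA.eulerCharLE k X (CohB1.tensorMod (CohB1.tensorPow L m) (CohB1.tensorPow H' n)) d = FGA.eulerCharLE k X (CohB1.tensorPow H' n) d ∧
      FGA.eulerCharLE k X (CohB1.tensorMod (CohB1.tensorPow L' m) (CohB1.tensorPow H n)) d = FGA.eulerCharLE k X (CohB1.tensorPow H n) d ∧
      FGA.eulerCharLE k X (CohB1.tensorMod (CohB1.tensorPow L' m) (CohB1.tensorPow H' n)) d = FGA.eulerCharLE k X (CohB1.tensorPow H' n) d := by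
  haveI := Groth.Agent.Lib.Curves.GlobalSections.isNoetherian_of_proper k X
  obtain ⟨eH⟩ := hHH'
  obtain ⟨e⟩ := hLL'
  have hN := Groth.Agent.Lib.Nakai.UnifAbs.nta_of_num k hL (Groth.Agent.S4278.result k X L hL hτ)
  have hH' : PicF.IsInvertible H' := Groth.Agent.Lib.TensorMod.TensorInv.isInvertible_of_tensor_iso
    (Groth.Agent.Lib.TensorMod.Basic.comm H' H ≪≫ eH)
  have hL' : PicF.IsInvertible L' := Groth.Agent.Lib.TensorMod.TensorInv.isInvertible_of_tensor_iso
    (Groth.Agent.Lib.TensorMod.Basic.comm L' L ≪≫ e)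
  have key : ∀ (A : X.Modules), PicF.IsInvertible A → (∀ d : ℕ, topologicalKrullDim X ≤ d →
      Groth.Agent.Lib.Nakai.NTBound.NT k d A) → ∀ (G : X.Modules), PicF.IsInvertible G → ∀ m : ℕ,
      FGA.eulerCharLE k X (CohB1.tensorMod (CohB1.tensorPow A m) G) d = FGA.eulerCharLE k X G d :=
    fun A hA hNA G hG m => Groth.Agent.Lib.Nakai.UnifAbs.chi_eq k hH
      (Groth.Agent.Lib.Ample.GG.isCoh_of_isInvertible hG)
      ⟨Groth.Agent.Lib.TensorMod.Invertible.isInvertible_tensorPow hA m,
        fun e he => Groth.Agent.Lib.Nakai.NTBound.nt_pow he (hNA e he) m⟩ hd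
  have hNL' : ∀ d : ℕ, topologicalKrullDim X ≤ d → Groth.Agent.Lib.Nakai.NTBound.NT k d L' :=
    fun d' hd' => Groth.Agent.Lib.Nakai.NTBound.nt_inv hd' (hN.2 d' hd') hL' e
  intro m n
  have hHn := Groth.Agent.Lib.TensorMod.Invertible.isInvertible_tensorPow hH.1 n
  have hH'n := Groth.Agent.Lib.TensorMod.Invertible.isInvertible_tensorPow hH' n
  exact ⟨key L hL hN.2 _ hHn m, key L hL hN.2 _ hH'n m, key L' hL' hNL' _ hHn m, key L' hL' hNL' _ hH'n m⟩

end Groth.Agent.S4305
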