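import Groth.Statements.S4315
import Groth.Agent.Lib.AnLoc.Maps
import Groth.Agent.Lib.Unram.EtaleMono

set_option autoImplicit false
set_option backward.isDefEq.respectTransparency.types false
set_option linter.style.haveILetI false
open CategoryTheory AlgebraicGeometry Topology TopologicalSpace
open An

namespace Groth.Agent.S4315

/-- For X and Y reduced and locally of finite type over ℂ (associated analytic spaces = ℂ-points with
holomorphic functions): a morphism f : X → Y over ℂ is an isomorphism if and only if f^an is, i.e.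
if and only if the induced map X(ℂ) → Y(ℂ) is a homeomorphism whose inverse is holomorphic. -/
theorem result (X Y : Scheme.{0}) [X.Over An.SC] [Y.Over An.SC]
    [LocallyOfFiniteType (X ↘ An.SC)] [LocallyOfFiniteType (Y ↘ An.SC)] [IsReduced X] [IsReduced Y]
    (f : X ⟶ Y) [f.IsOver An.SC] :
    IsIso f ↔ ∃ e : An.Pts X ≃ₜ An.Pts Y, (⇑e = An.Pts.map f) ∧
      An.IsHolMap (⟨e.symm, e.symm.continuous⟩ : C(An.Pts Y, An.Pts X)) := by
  constructor
  · intro hf
    haveI : (inv f).IsOver An.SC := ⟨by rw [IsIso.inv_comp_eq, comp_over f]⟩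
    let e : An.Pts X ≃ₜ An.Pts Y :=
      { toFun := An.Pts.map f
        invFun := An.Pts.map (inv f)
        left_inv := fun x => Subtype.ext (by simp)
        right_inv := fun x => Subtype.ext (by simp)
        continuous_toFun := An.Pts.continuous_map f
        continuous_invFun := An.Pts.continuous_map (inv f) }
    exact ⟨e, rfl, fun V g hg => An.holPred_comp (inv f) V g hg⟩
  · rintro ⟨e, he, hhol⟩
    have hbij : ∀ x : An.Pts X, Function.Bijective (Lib.AnLoc.psi f x) := fun x => by
      constructor
      · rw [injective_iff_map_eq_zero]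
        intro b hb
        obtain ⟨u, hu⟩ := Quotient.exists_rep (Lib.AnLoc.toGerm (An.Pts.map f x) b)
        have hu' : Lib.AnLoc.toGerm (An.Pts.map f x) b = (u : Lib.AnLoc.Gm (An.Pts.map f x)) := hu.symm
        apply Lib.AnLoc.toGerm_injective (An.Pts.map f x)
        have h := Lib.AnLoc.toGerm_psi f x b u hu'
        rw [hb, map_zero] at h
        rw [map_zero, hu']
        refine Filter.Germ.coe_eq.mpr ?_
        have h1 : ∀ᶠ z in 𝓝 x, (0 : An.Pts X → ℂ) z = (u ∘ An.Pts.map f) z := Filter.Germ.coe_eq.mp h
        rw [← he] at h1 ⊢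
        have h2 : Filter.Tendsto e.symm (𝓝 (e x)) (𝓝 x) := e.symm.continuous.tendsto' _ _ (e.symm_apply_apply x)
        filter_upwards [h2.eventually h1] with y hy
        rw [Function.comp_apply, e.apply_symm_apply] at hy
        exact hy.symm
      · intro a
        obtain ⟨V, hV, g, rfl⟩ := TopCat.Presheaf.exists_germ_eq (An.anSpace X).presheaf a
        let φ : C(An.Pts Y, An.Pts X) := ⟨e.symm, e.symm.continuous⟩
        have hx : An.Pts.map f x ∈ (Opens.map (TopCat.ofHom φ)).obj V := by
          show e.symm (An.Pts.map f x) ∈ V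
          rw [← he, e.symm_apply_apply]; exact hV
        refine ⟨(An.anSpace Y).presheaf.germ ((Opens.map (TopCat.ofHom φ)).obj V) (An.Pts.map f x) hx
          ⟨fun y => g.1 ⟨φ y.1, y.2⟩, hhol V g.1 g.2⟩, ?_⟩
        apply Lib.AnLoc.toGerm_injective x
        rw [Lib.AnLoc.toGerm_psi f x _ _ (Lib.AnLoc.toGerm_germ (An.Pts.map f x) _ hx _),
          Lib.AnLoc.toGerm_germ x V hV g]
        refine Filter.Germ.coe_eq.mpr ?_
        filter_upwards [V.2.mem_nhds hV] with y hy
        have hy' : An.Pts.map f y ∈ (Opens.map (TopCat.ofHom φ)).obj V := by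
          show e.symm (An.Pts.map f y) ∈ V
          rw [← he, e.symm_apply_apply]; exact hy
        rw [Function.comp_apply, Lib.AnLoc.extFun_apply _ hy', Lib.AnLoc.extFun_apply _ hy]
        refine congrArg g.1 (Subtype.ext ?_)
        show e.symm (An.Pts.map f y) = y
        rw [← he, e.symm_apply_apply]
    haveI := Lib.AnPts.lft_of_over f
    haveI := Lib.AnPts.lfp_of_lft f
    haveI : JacobsonSpace X := LocallyOfFiniteType.jacobsonSpace (X ↘ An.SC)
    haveI : Flat f := H4.EndFlat.flat_of_closedPoints f fun p hp => by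
      obtain ⟨x, rfl⟩ := Lib.AnPts.exists_pt_eq hp
      exact (Lib.AnLoc.flat_psi_iff f x).mp (RingHom.Flat.of_bijective (hbij x))
    haveI : FormallyUnramified f := Lib.AnLoc.formallyUnramified_of_closedPoints f fun p hp => by
      obtain ⟨x, rfl⟩ := Lib.AnPts.exists_pt_eq hp
      refine (Lib.AnLoc.formallyUnramified_stk_iff f x).mpr ((Lib.AnLoc.map_maximalIdeal_psi_iff f x).mp ?_)
      refine le_antisymm (IsLocalRing.map_maximalIdeal_le _) fun b hb => ?_
      obtain ⟨a, rfl⟩ := (hbij x).2 b
      exact Ideal.mem_map_of_mem _ fun ha => hb (ha.map _)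
    haveI : Etale f := Etale.of_formallyUnramified_of_flat f
    haveI : Surjective f := ⟨fun y => by
      by_contra hy
      obtain ⟨q, hq⟩ := Lib.AnPts.exists_pt_mem_locallyClosed
        (f.isOpenMap.isOpen_range.isClosed_compl).isLocallyClosed ⟨y, hy⟩
      refine hq ⟨(e.symm q).pt, ?_⟩
      rw [← An.Pts.pt_map, ← he, e.apply_symm_apply]⟩
    haveI : Surjective (Limits.pullback.diagonal f) := ⟨fun y => by
      by_contra hy
      haveI : LocallyOfFiniteType (Limits.pullback f f ↘ An.SC) :=
        show LocallyOfFiniteType (Limits.pullback.fst f f ≫ X ↘ An.SC) from inferInstance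
      obtain ⟨z, hz⟩ := Lib.AnPts.exists_pt_mem_locallyClosed
        ((Limits.pullback.diagonal f).isOpenEmbedding.isOpen_range.isClosed_compl).isLocallyClosed ⟨y, hy⟩
      have h := An.Pts.map_pullback_condition f f z
      rw [← he] at h
      have h' := congrArg Subtype.val (e.injective h)
      refine hz ⟨(z.1 ≫ Limits.pullback.fst f f) An.cpt, ?_⟩
      rw [← Scheme.Hom.comp_apply]
      show _ = z.1 An.cpt
      refine congrArg (fun k : An.SC ⟶ Limits.pullback f f => k An.cpt)
        (?_ : (z.1 ≫ Limits.pullback.fst f f) ≫ Limits.pullback.diagonal f = z.1)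
      apply Limits.pullback.hom_ext
      · rw [Category.assoc, Limits.pullback.diagonal_fst, Category.comp_id]
      · rw [Category.assoc, Limits.pullback.diagonal_snd, Category.comp_id]
        exact h'⟩
    haveI := Lib.Unram.EtaleMono.isOpenImmersion_of_surjective_diagonal f
    exact (isIso_iff_isOpenImmersion_and_epi_base f).mpr
      ⟨inferInstance, (TopCat.epi_iff_surjective _).mpr f.surjective⟩

end Groth.Agent.S4315
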