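import Groth.Statements.S4316
import Groth.Agent.Lib.AnLoc.Comparison
import Groth.Agent.Lib.Regular.Descent

set_option autoImplicit false
open CategoryTheory AlgebraicGeometry Topology TopologicalSpace
open An

namespace Groth.Agent.S4316

/-- Let X be a reduced scheme locally of finite type over ℂ and x a ℂ-point of X, and write O_{X^an,x}
for the ring of germs of holomorphic functions at x on X(ℂ). Then the local rings O_{X,x} and
O_{X^an,x} have the same Krull dimension. The published statement is global (X and its associated
analytic space have the same dimension); it is stated here pointwise, comparing the two local rings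
at a single ℂ-point. -/
theorem result (X : Scheme.{0}) [X.Over An.SC] [LocallyOfFiniteType (X ↘ An.SC)] [IsReduced X] (x : An.Pts X) :
    ringKrullDim ↑(X.presheaf.stalk x.pt) = ringKrullDim ↑((An.anSpace X).presheaf.stalk x) := by
  letI := (Lib.AnLoc.phi x).hom.toAlgebra
  haveI := Lib.AnLoc.isNoetherianRing_stalk x
  haveI : Module.Flat (X.presheaf.stalk x.pt) (Lib.AnLoc.St x) := Lib.AnLoc.flat_phi x
  haveI : IsLocalHom (algebraMap (X.presheaf.stalk x.pt) (Lib.AnLoc.St x)) := Lib.AnLoc.isLocalHom_phi x
  exact (Lib.Regular.Descent.ringKrullDim_eq (R := X.presheaf.stalk x.pt) (Lib.AnLoc.St x)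
    (Lib.AnLoc.maximalIdeal_eq x).symm).symm

end Groth.Agent.S4316
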