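import Groth.Statements.S4318
import Groth.Agent.Lib.AnLoc.Formal

set_option autoImplicit false
set_option backward.isDefEq.respectTransparency.types false
set_option linter.style.haveILetI false
open CategoryTheory AlgebraicGeometry Topology TopologicalSpace
open An

namespace Groth.Agent.S4318

/-- Let X be a reduced scheme locally of finite type over ℂ and x a ℂ-point of X, and write O_{X^an,x}
for the ring of germs of holomorphic functions at x on X(ℂ). Then O_{X,x} is a normal domain (a
domain integrally closed in its fraction field) if and only if O_{X^an,x} is. The published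
statement is global (X has the property if and only if its associated analytic space does); it is
stated here pointwise, comparing the two local rings at a single ℂ-point. -/
theorem result (X : Scheme.{0}) [X.Over An.SC] [LocallyOfFiniteType (X ↘ An.SC)] [IsReduced X] (x : An.Pts X) :
    (IsDomain ↑(X.presheaf.stalk x.pt) ∧ IsIntegrallyClosed ↑(X.presheaf.stalk x.pt)) ↔ (IsDomain ↑((An.anSpace X).presheaf.stalk x) ∧ IsIntegrallyClosed ↑((An.anSpace X).presheaf.stalk x)) := by
  haveI := Lib.AnLoc.isNoetherianRing_stalk x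
  letI : Algebra (X.presheaf.stalk x.pt) (Lib.AnLoc.St x) := (Lib.AnLoc.phi x).hom.toAlgebra
  haveI : Module.Flat (X.presheaf.stalk x.pt) (Lib.AnLoc.St x) := Lib.AnLoc.flat_phi x
  haveI : IsLocalHom (algebraMap (X.presheaf.stalk x.pt) (Lib.AnLoc.St x)) := Lib.AnLoc.isLocalHom_phi x
  haveI : Module.FaithfullyFlat (X.presheaf.stalk x.pt) (Lib.AnLoc.St x) :=
    Module.FaithfullyFlat.of_flat_of_isLocalHom
  have hfib := Lib.AnLoc.regular_fibres x
  have key : ∀ (R : Type) [CommRing R] [IsNoetherianRing R] [IsLocalRing R],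
      (IsDomain R ∧ IsIntegrallyClosed R) → LocCoh.HasRk 1 R ∧ LocCoh.HasSk 2 R R := by
    rintro R _ _ _ ⟨_, _⟩
    refine H18.SerreCrit.normal_iff.mp fun p _ => ⟨inferInstance, ?_⟩
    exact isIntegrallyClosed_of_isLocalization _ p.primeCompl p.primeCompl_le_nonZeroDivisors
  constructor
  · intro h
    obtain ⟨h1, h2⟩ := key _ h
    exact H18.SerreCrit.isDomain_isIntegrallyClosed (Lib.AnLoc.St x)
      (Lib.AnLoc.FlatAscent.hasRk hfib 1 h1) (Lib.AnLoc.FlatAscent.hasSk hfib 2 h2)
  · intro h
    obtain ⟨h1, h2⟩ := key (Lib.AnLoc.St x) h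
    exact H18.SerreCrit.isDomain_isIntegrallyClosed (X.presheaf.stalk x.pt)
      (H21.SkDescent.hasRk (X.presheaf.stalk x.pt) (Lib.AnLoc.St x) h1)
      (H21.SkDescent.hasSk (X.presheaf.stalk x.pt) (Lib.AnLoc.St x) h2)

end Groth.Agent.S4318
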