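import Groth.Statements.S4319
import Groth.Agent.Lib.AnLoc.Comparison
import Groth.Agent.Lib.Regular.Descent
import Groth.Agent.H26.DepthFlat

set_option autoImplicit false
open CategoryTheory AlgebraicGeometry Topology TopologicalSpace
open An

namespace Groth.Agent.S4319

/-- Let X be a reduced scheme locally of finite type over ℂ and x a ℂ-point of X, and write O_{X^an,x}
for the ring of germs of holomorphic functions at x on X(ℂ). Then O_{X,x} is Cohen–Macaulay if and
only if O_{X^an,x} is. The published statement is global (X has the property if and only if its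
associated analytic space does); it is stated here pointwise, comparing the two local rings at a
single ℂ-point. -/
theorem result (X : Scheme.{0}) [X.Over An.SC] [LocallyOfFiniteType (X ↘ An.SC)] [IsReduced X] (x : An.Pts X) :
    LocCoh.IsCohenMacaulayLocalRing ↑(X.presheaf.stalk x.pt) ↔ LocCoh.IsCohenMacaulayLocalRing ↑((An.anSpace X).presheaf.stalk x) := by
  let A := ↑(X.presheaf.stalk x.pt)
  let B := ↑(Lib.AnLoc.St x)
  letI := (Lib.AnLoc.phi x).hom.toAlgebra
  haveI hA := Lib.AnLoc.isNoetherianRing_stalk x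
  haveI : Module.Flat (X.presheaf.stalk x.pt) (Lib.AnLoc.St x) := Lib.AnLoc.flat_phi x
  haveI : IsLocalHom (algebraMap (X.presheaf.stalk x.pt) (Lib.AnLoc.St x)) := Lib.AnLoc.isLocalHom_phi x
  have hm := (Lib.AnLoc.maximalIdeal_eq x).symm
  have hdim : ringKrullDim (Lib.AnLoc.St x) = ringKrullDim (X.presheaf.stalk x.pt) :=
    Lib.Regular.Descent.ringKrullDim_eq (R := X.presheaf.stalk x.pt) (Lib.AnLoc.St x) hm
  have h0 : ringKrullDim (Lib.AnLoc.St x ⧸ (IsLocalRing.maximalIdeal (X.presheaf.stalk x.pt)).map
      (algebraMap (X.presheaf.stalk x.pt) (Lib.AnLoc.St x))) = 0 :=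
    haveI := (IsLocalRing.maximalIdeal.isMaximal (Lib.AnLoc.St x))
    haveI : ((IsLocalRing.maximalIdeal (X.presheaf.stalk x.pt)).map
      (algebraMap (X.presheaf.stalk x.pt) (Lib.AnLoc.St x))).IsMaximal := hm.symm ▸ this
    letI := Ideal.Quotient.field ((IsLocalRing.maximalIdeal (X.presheaf.stalk x.pt)).map
      (algebraMap (X.presheaf.stalk x.pt) (Lib.AnLoc.St x)))
    ringKrullDim_eq_zero_of_field _
  have hdepth : LocCoh.depth (Lib.AnLoc.St x) (Lib.AnLoc.St x) =
      LocCoh.depth (X.presheaf.stalk x.pt) (X.presheaf.stalk x.pt) :=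
    (Lib.Depth.Basic.depth_congr (Algebra.TensorProduct.rid (X.presheaf.stalk x.pt) (Lib.AnLoc.St x)
      (Lib.AnLoc.St x)).symm.toLinearEquiv).trans (H26.DepthFlat.depth_baseChange_eq _ h0)
  constructor
  · intro h
    refine @LocCoh.IsCohenMacaulayLocalRing.mk _ _ inferInstance inferInstance ?_
    have h1 := h.supportDim_eq_depth
    rw [Module.supportDim_self_eq_ringKrullDim] at h1 ⊢
    exact hdim.trans (h1.trans (by rw [← hdepth]))
  · intro h
    refine @LocCoh.IsCohenMacaulayLocalRing.mk _ _ inferInstance inferInstance ?_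
    have h1 := h.supportDim_eq_depth
    rw [Module.supportDim_self_eq_ringKrullDim] at h1 ⊢
    exact hdim.symm.trans (h1.trans (by rw [← hdepth]))

end Groth.Agent.S4319
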