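import Groth.Statements.S4322
import Groth.Agent.Lib.AnLoc.Maps

set_option autoImplicit false
open CategoryTheory AlgebraicGeometry Topology TopologicalSpace
open An

namespace Groth.Agent.S4322

/-- Let X and Y be reduced schemes locally of finite type over ℂ and f : X → Y a morphism over ℂ. Then f
is flat if and only if f^an is, i.e. if and only if for every ℂ-point x of X the map on stalks
O_{Y^an, f(x)} → O_{X^an, x} induced by f^an is flat. -/
theorem result (X Y : Scheme.{0}) [X.Over An.SC] [Y.Over An.SC] [LocallyOfFiniteType (X ↘ An.SC)]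
    [LocallyOfFiniteType (Y ↘ An.SC)] [IsReduced X] [IsReduced Y] (f : X ⟶ Y) [f.IsOver An.SC] :
    Flat f ↔ ∀ x : An.Pts X, (PresheafedSpace.Hom.stalkMap (An.anMap f) x).hom.Flat := by
  haveI : JacobsonSpace X := LocallyOfFiniteType.jacobsonSpace (X ↘ An.SC)
  constructor
  · intro h x
    exact (Lib.AnLoc.flat_psi_iff f x).mpr (Flat.stalkMap f x.pt)
  · intro h
    refine H4.EndFlat.flat_of_closedPoints f fun p hp => ?_
    obtain ⟨x, rfl⟩ := Lib.AnPts.exists_pt_eq hp
    exact (Lib.AnLoc.flat_psi_iff f x).mp (h x)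

end Groth.Agent.S4322
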