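import Groth.Statements.S4324
import Groth.Agent.Lib.AnLoc.Inverse

set_option autoImplicit false
set_option backward.isDefEq.respectTransparency.types false
set_option linter.style.haveILetI false
open CategoryTheory AlgebraicGeometry Topology TopologicalSpace
open An

namespace Groth.Agent.S4324

/-- Let X and Y be reduced schemes locally of finite type over ℂ and f : X → Y a morphism over ℂ. Then f
is etale if and only if f^an is etale, i.e. a local isomorphism of analytic spaces, i.e. if and only
if for every ℂ-point x of X the map on stalks O_{Y^an, f(x)} → O_{X^an, x} induced by f^an is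
bijective. -/
theorem result (X Y : Scheme.{0}) [X.Over An.SC] [Y.Over An.SC] [LocallyOfFiniteType (X ↘ An.SC)]
    [LocallyOfFiniteType (Y ↘ An.SC)] [IsReduced X] [IsReduced Y] (f : X ⟶ Y) [f.IsOver An.SC] :
    Etale f ↔ ∀ x : An.Pts X, Function.Bijective (PresheafedSpace.Hom.stalkMap (An.anMap f) x).hom := by
  haveI := Lib.AnPts.lft_of_over f
  constructor
  · intro hf x
    refine ⟨?_, Lib.AnLoc.psi_surjective f x ((Lib.AnLoc.map_maximalIdeal_psi_iff f x).mpr
      ((Lib.AnLoc.formallyUnramified_stk_iff f x).mp (FormallyUnramified.stalkMap f x.pt)))⟩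
    letI : Algebra (Lib.AnLoc.St (An.Pts.map f x)) (Lib.AnLoc.St x) := (Lib.AnLoc.psi f x).toAlgebra
    haveI : Module.Flat (Lib.AnLoc.St (An.Pts.map f x)) (Lib.AnLoc.St x) :=
      (Lib.AnLoc.flat_psi_iff f x).mpr (Flat.stalkMap f x.pt)
    haveI : IsLocalHom (algebraMap (Lib.AnLoc.St (An.Pts.map f x)) (Lib.AnLoc.St x)) :=
      Lib.AnLoc.isLocalHom_psi f x
    haveI : Module.FaithfullyFlat (Lib.AnLoc.St (An.Pts.map f x)) (Lib.AnLoc.St x) :=
      Module.FaithfullyFlat.of_flat_of_isLocalHom
    exact FaithfulSMul.algebraMap_injective (Lib.AnLoc.St (An.Pts.map f x)) (Lib.AnLoc.St x)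
  · intro hbij
    haveI := Lib.AnPts.lfp_of_lft f
    haveI : JacobsonSpace X := LocallyOfFiniteType.jacobsonSpace (X ↘ An.SC)
    haveI : Flat f := H4.EndFlat.flat_of_closedPoints f fun p hp => by
      obtain ⟨x, rfl⟩ := Lib.AnPts.exists_pt_eq hp
      exact (Lib.AnLoc.flat_psi_iff f x).mp (RingHom.Flat.of_bijective (hbij x))
    haveI : FormallyUnramified f := Lib.AnLoc.formallyUnramified_of_closedPoints f fun p hp => by
      obtain ⟨x, rfl⟩ := Lib.AnPts.exists_pt_eq hp
      refine (Lib.AnLoc.formallyUnramified_stk_iff f x).mpr ((Lib.AnLoc.map_maximalIdeal_psi_iff f x).mp ?_)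
      refine le_antisymm (IsLocalRing.map_maximalIdeal_le _) fun b hb => ?_
      obtain ⟨a, rfl⟩ := (hbij x).2 b
      exact Ideal.mem_map_of_mem _ fun ha => hb (ha.map _)
    exact Etale.of_formallyUnramified_of_flat f

end Groth.Agent.S4324
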