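import Groth.Statements.S4329
import Groth.Agent.Lib.EtJ.PullExact
import Groth.Agent.H88.Hom.DerivedComp

set_option autoImplicit false
universe u
open CategoryTheory CategoryTheory.Limits AlgebraicGeometry Opposite
attribute [local instance] HasDerivedCategory.standard
open EtSix

namespace Groth.Agent.S4329

/-- Composition of derived direct images: for the small etale sites of schemes and abelian sheaves: let
f : X -> Y and g : Y -> Z be morphisms of schemes and assume the unbounded derived direct images
Rf_*, Rg_* and R(g ∘ f)_* exist (they do; the existence is recorded as instance hypotheses). Then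
the canonical morphism R(g ∘ f)_* -> Rg_* ∘ Rf_* of functors D(X_et) -> D(Z_et), induced by (g ∘
f)_* ≅ g_* ∘ f_* through the universal property of R(g ∘ f)_* as a right derived functor, is an
isomorphism. -/
theorem result {X Y Z : Scheme.{u}} (f : X ⟶ Y) (g : Y ⟶ Z)
    [DCoh.HasRpushEt X f] [DCoh.HasRpushEt Y g] [DCoh.HasRpushEt X (f ≫ g)] :
    IsIso (EtSix.compMap f g) := by
  haveI := Groth.Agent.Lib.EtJ.PullExact.pull_preservesFiniteLimits f
  haveI : PreservesFiniteColimits (EtCoh.pull f) :=
    have : PreservesColimitsOfSize.{0, 0} (EtCoh.pull f) :=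
      (EtCoh.pullPushAdj f).leftAdjoint_preservesColimits
    PreservesColimitsOfSize.preservesFiniteColimits _
  haveI : (EtCoh.pull f).Additive := (EtCoh.pullPushAdj f).left_adjoint_additive
  exact Groth.Agent.H88.Hom.DerivedComp.isIso_desc_compUnit (EtCoh.pullPushAdj f)
    (EtCoh.pushComp g f).inv

end Groth.Agent.S4329
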