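import Groth.Agent.H88.EtMod.CurveCd
import Groth.Agent.Lib.ProjSpace.SmoothDimEq
import Groth.Statements.S4334
-- import your own Groth.Agent.* helpers here

set_option autoImplicit false
universe u
open CategoryTheory CategoryTheory.Limits AlgebraicGeometry Opposite
open EtSix

namespace Groth.Agent.S4334

/-- The degree-two step in canonical form: let X be a smooth projective curve over an algebraically
closed field k (here: X integral, with a proper morphism X -> Spec k that is smooth of relative
dimension 1), and n an integer that is nonzero in k, so that the n-th power map on G_m is an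
epimorphism of sheaves on the small etale site (taken as the hypothesis h). Then the boundary map
H^1(X, G_m) -> H^2(X, μ_n) of the Kummer sequence is surjective, and its kernel is the image of
multiplication by n on H^1(X, G_m). -/
theorem result (k : Type u) [Field k] [IsAlgClosed k] {X : Scheme.{u}} [IsIntegral X]
    (f : X ⟶ Spec (CommRingCat.of k)) [IsProper f] [SmoothOfRelativeDimension 1 f]
    (n : ℕ) (hn : (n : k) ≠ 0) (h : Epi (EtCoh.powMap X n)) :
    Function.Surjective (EtSix.kummerBoundary h 1) ∧
      (EtSix.kummerBoundary h 1).ker = (n • AddMonoidHom.id (EtCoh.H X (EtCoh.Gm X) 1)).range := by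
  haveI : LocallyOfFiniteType f := inferInstance
  haveI : CompactSpace ↥X := QuasiCompact.compactSpace_of_compactSpace f
  have hdim : topologicalKrullDim X ≤ 1 :=
    le_of_eq (Groth.Agent.Lib.ProjSpace.SmoothDimEq.topologicalKrullDim_eq k f 1)
  haveI hs := Groth.Agent.H88.EtMod.CurveCd.subsingleton_H_Gm f hdim 2 le_rfl
  have hn' : ∀ (m : ℕ) (y : EtCoh.H X (EtCoh.Gm X) 1),
      y.comp (Abelian.Ext.mk₀ (m • 𝟙 (EtCoh.Gm X))) (add_zero 1) = m • y := by
    intro m y
    induction m with
    | zero => simp
    | succ m ih => rw [add_nsmul, one_nsmul, Abelian.Ext.mk₀_add, Abelian.Ext.comp_add, ih, Abelian.Ext.comp_mk₀_id,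
        add_nsmul, one_nsmul]
  refine ⟨fun x => ?_, ?_⟩
  · obtain ⟨y, hy⟩ := Abelian.Ext.covariant_sequence_exact₁ _ (EtSix.kummerShortExact h) x
      (@Subsingleton.elim _ hs _ _) (n₀ := 1) rfl
    exact ⟨y, hy⟩
  · ext x
    constructor
    · intro hx
      obtain ⟨y, hy⟩ := Abelian.Ext.covariant_sequence_exact₃ _ (EtSix.kummerShortExact h) x (n₁ := 2) rfl hx
      exact ⟨y, (hn' n y).symm.trans hy⟩
    · rintro ⟨y, rfl⟩
      show ((n • AddMonoidHom.id _) y).comp (EtSix.kummerShortExact h).extClass rfl = 0
      rw [AddMonoidHom.nsmul_apply, AddMonoidHom.id_apply, ← hn' n y]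
      exact (Abelian.Ext.comp_assoc_of_second_deg_zero (β := Abelian.Ext.mk₀ (EtSix.kummerSC X n).g) y
        (EtSix.kummerShortExact h).extClass rfl).trans
        ((congrArg (fun e => y.comp e rfl) (EtSix.kummerShortExact h).comp_extClass).trans
          (Abelian.Ext.comp_zero _ _ _ _ rfl))

end Groth.Agent.S4334
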