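import Groth.Statements.S4336
import Groth.Agent.Lib.LinTop.Complete

set_option autoImplicit false
universe u
open LinTop

namespace Groth.Agent.S4336

/-- Let A be an admissible ring and J an ideal of definition of A. An element of A is invertible if and
only if its image in A/J is invertible. -/
theorem result
    (A : Type u) [CommRing A] [UniformSpace A] [IsUniformAddGroup A] [IsTopologicalRing A]
    (hA : LinTop.IsAdmissible A) (J : Ideal A) (hJ : LinTop.IsIdealOfDefinition A J) (f : A) :
    IsUnit f ↔ IsUnit (Ideal.Quotient.mk J f) := by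
  obtain ⟨⟨hlin, -⟩, ht2, hc⟩ := hA
  exact ⟨fun h ↦ h.map _, fun h ↦ Lib.LinTop.Complete.isUnit_of_isUnit_mk
    (fun f hf ↦ Lib.LinTop.Basic.isTopologicallyNilpotent_of_mem hJ hf) h⟩

end Groth.Agent.S4336
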