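import Groth.Statements.S4337
import Groth.Agent.Lib.LinTop.Complete
import Mathlib.RingTheory.Nakayama
import Mathlib.LinearAlgebra.TensorProduct.Quotient

set_option autoImplicit false
universe u
open LinTop

namespace Groth.Agent.S4337

/-- Let A be an admissible ring, J an ideal of definition, and u : M -> N a homomorphism of A-modules
with N of finite type. Then u is surjective if and only if u tensored with A/J is surjective. -/
theorem result
    (A : Type u) [CommRing A] [UniformSpace A] [IsUniformAddGroup A] [IsTopologicalRing A]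
    (hA : LinTop.IsAdmissible A) (J : Ideal A) (hJ : LinTop.IsIdealOfDefinition A J)
    (M N : Type u) [AddCommGroup M] [Module A M] [AddCommGroup N] [Module A N] [Module.Finite A N]
    (u : M →ₗ[A] N) :
    Function.Surjective u ↔ Function.Surjective (u.rTensor (A ⧸ J)) := by
  obtain ⟨⟨hlin, -⟩, ht2, hc⟩ := hA
  have hjac : J ≤ (⊥ : Ideal A).jacobson := Lib.LinTop.Complete.le_jacobson
    fun f hf ↦ Lib.LinTop.Basic.isTopologicallyNilpotent_of_mem hJ hf
  refine ⟨fun h ↦ LinearMap.rTensor_surjective (A ⧸ J) h, fun h ↦ ?_⟩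
  rw [← LinearMap.range_eq_top]
  refine top_le_iff.mp (Submodule.le_of_le_smul_of_le_jacobson_bot Module.Finite.fg_top hjac ?_)
  intro y _
  obtain ⟨t, ht⟩ := h (y ⊗ₜ 1)
  obtain ⟨z, hz⟩ : ∃ z : M, z ⊗ₜ[A] (1 : A ⧸ J) = t := by
    clear ht
    induction t using TensorProduct.induction_on with
    | zero => exact ⟨0, TensorProduct.zero_tmul _ _⟩
    | tmul m q =>
      obtain ⟨a, rfl⟩ := Ideal.Quotient.mk_surjective q
      refine ⟨a • m, ?_⟩
      rw [TensorProduct.smul_tmul, Algebra.smul_def, mul_one]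
      rfl
    | add s t hs ht' =>
      obtain ⟨a, rfl⟩ := hs
      obtain ⟨b, rfl⟩ := ht'
      exact ⟨a + b, TensorProduct.add_tmul _ _ _⟩
  subst hz
  rw [LinearMap.rTensor_tmul] at ht
  have h0 : (y - u z) ⊗ₜ[A] (1 : A ⧸ J) = 0 := by rw [TensorProduct.sub_tmul, ht, sub_self]
  have h1 := congrArg (TensorProduct.tensorQuotEquivQuotSMul N J) h0
  rw [map_zero] at h1
  have h2 : (Submodule.Quotient.mk (y - u z) : N ⧸ J • (⊤ : Submodule A N)) = 0 := by
    rw [← h1]
    exact (TensorProduct.tensorQuotEquivQuotSMul_tmul_mk J (y - u z) 1 |>.trans (by simp)).symm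
  rw [Submodule.Quotient.mk_eq_zero] at h2
  have e : y = u z + (y - u z) := by abel
  rw [e]
  exact Submodule.add_mem_sup (LinearMap.mem_range_self u z) h2

end Groth.Agent.S4337
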