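import Groth.Statements.S4338
import Groth.Agent.Lib.LinTop.Complete

set_option autoImplicit false
universe u
open LinTop

namespace Groth.Agent.S4338

/-- For a finitely generated ideal. Let A be an admissible ring and I a finitely generated ideal
contained in an ideal of definition of A. Then A is separated and complete for the I-adic topology.
(The published statement has no finiteness hypothesis on I and is then not correct: the completion
of a polynomial ring in countably many variables over a field along the ideal generated by the
variables, with its inverse-limit topology, is admissible, the kernel of its projection onto the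
field is an ideal of definition, and the ring is not adically complete for that kernel.) -/
theorem result
    (A : Type u) [CommRing A] [UniformSpace A] [IsUniformAddGroup A] [IsTopologicalRing A]
    (hA : LinTop.IsAdmissible A) (J : Ideal A) (hJ : LinTop.IsIdealOfDefinition A J)
    (I : Ideal A) (hI : I.FG) (hIJ : I ≤ J) :
    IsAdicComplete I A := by
  obtain ⟨⟨hlin, -⟩, ht2, hc⟩ := hA
  have hsmall : ∀ U ∈ nhds (0 : A), ∃ n : ℕ, ((I ^ n : Ideal A) : Set A) ⊆ U := fun U hU ↦ by
    obtain ⟨n, -, hn⟩ := hJ.2 U hU
    exact ⟨n, subset_trans (Ideal.pow_right_mono hIJ n) hn⟩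
  have e : ∀ n, (I ^ n • ⊤ : Submodule A A) = I ^ n := fun n ↦ by simp
  refine { haus' := fun x hx ↦ ?_, prec' := fun f hf ↦ ?_ }
  · by_contra hx0
    obtain ⟨n, hn⟩ := hsmall {x}ᶜ (isOpen_compl_singleton.mem_nhds (Ne.symm hx0))
    have := hx n
    rw [SModEq.zero, e] at this
    exact hn this rfl
  · have hd : ∀ n m, f (n + (m + 1)) - f (n + m) ∈ (I ^ n : Ideal A) • (I ^ m : Submodule A A) := by
      intro n m
      have := (SModEq.sub_mem.mp (hf (show n + m ≤ n + (m + 1) by omega)))
      rw [e] at this
      rw [smul_eq_mul, ← pow_add, ← neg_sub]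
      exact neg_mem this
    have key : ∀ n, ∃ a ∈ (I ^ n : Ideal A),
        Filter.Tendsto (fun k ↦ f (n + k) - f n) Filter.atTop (nhds a) := by
      intro n
      obtain ⟨a, ha, hlim⟩ := Lib.LinTop.Complete.exists_lim_mem_smul (R := A) (M := A)
        (fun k ↦ I ^ k) (fun i j h ↦ Ideal.pow_le_pow_right h) hsmall (hI.pow (n := n))
        (fun m ↦ f (n + (m + 1)) - f (n + m)) (hd n)
      refine ⟨a, Submodule.smul_induction_on ha (fun r hr m _ ↦ (I ^ n).mul_mem_right m hr)
        (fun u v hu hv ↦ (I ^ n).add_mem hu hv), hlim.congr fun k ↦ ?_⟩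
      exact Finset.sum_range_sub (fun m ↦ f (n + m)) k
    choose a ha hlim using key
    refine ⟨f 0 + a 0, fun n ↦ SModEq.sub_mem.mpr ?_⟩
    rw [e]
    have h1 : Filter.Tendsto f Filter.atTop (nhds (f 0 + a 0)) := by
      simpa using (hlim 0).const_add (f 0)
    have h2 : Filter.Tendsto f Filter.atTop (nhds (f n + a n)) := by
      rw [← Filter.tendsto_add_atTop_iff_nat n]
      simpa [add_comm n] using (hlim n).const_add (f n)
    rw [tendsto_nhds_unique h1 h2, sub_add_cancel_left]
    exact neg_mem (ha n)

end Groth.Agent.S4338
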