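import Groth.Statements.S4347
import Groth.Agent.Lib.Adic.Lift
import Groth.Agent.Lib.Excellent.CompletionNoetherian
import Mathlib.RingTheory.RingHom.Flat
import Mathlib.RingTheory.AdicCompletion.AsTensorProduct

set_option autoImplicit false
universe u
open AdicRing

namespace Groth.Agent.S4347

/-- The completed ring of fractions of A with denominators in a multiplicative subset being the J-adic
completion of the localization of A at that subset: Let A be a Noetherian ring with the J-adic
topology and S' a multiplicative subset contained in the multiplicative subset S. Then the canonical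
map from the completed ring of fractions of A with denominators in S' to the one with denominators
in S is flat. (The published statement assumes A adic, i.e. also separated and complete; that is not
needed for this assertion.) -/
theorem result
    (A : Type u) [CommRing A] [IsNoetherianRing A] (J : Ideal A) (S' S : Submonoid A) (hS : S' ≤ S)
    (g : Localization S' →+* Localization S)
    (hg : g.comp (algebraMap A (Localization S')) = algebraMap A (Localization S))
    (hJ : (J.map (algebraMap A (Localization S'))).map g ≤ J.map (algebraMap A (Localization S))) :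
    (FSch.complMap (J.map (algebraMap A (Localization S'))) (J.map (algebraMap A (Localization S)))
      g hJ).Flat := by
  classical
  have hJfg : J.FG := (isNoetherianRing_iff_ideal_fg A).1 inferInstance J
  let I' := J.map (algebraMap A (Localization S'))
  let K := J.map (algebraMap A (Localization S))
  let φ := FSch.complMap I' K g hJ
  have hφ : ∀ s, φ (AdicCompletion.of I' _ s) = AdicCompletion.of K _ (g s) := fun s => by
    refine AdicCompletion.ext_evalₐ fun n => ?_
    simp only [φ, FSch.complMap]
    erw [AdicCompletion.evalₐ_liftRingHom]
    intro m k hle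
    refine RingHom.ext fun x => ?_
    obtain ⟨y, rfl⟩ := AdicCompletion.mk_surjective I' (Localization S') x
    simp only [RingHom.comp_apply, AlgHom.toRingHom_eq_coe, AlgHom.coe_toRingHom,
      AdicCompletion.evalₐ_mk, Ideal.quotientMap_mk, Ideal.Quotient.factorPow,
      Ideal.Quotient.factor_mk, Ideal.Quotient.eq, ← map_sub]
    exact FSch.pow_le_comap_pow_of_map_le I' K g hJ m
      (Ideal.Quotient.eq.1 (AdicCompletion.Ideal.mk_eq_mk _ hle y))
  have hφA : ∀ a : A, φ (algebraMap A (AdicCompletion I' (Localization S')) a) =
      algebraMap A (AdicCompletion K (Localization S)) a := fun a => by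
    rw [IsScalarTower.algebraMap_apply A (Localization S') (AdicCompletion I' (Localization S')),
      IsScalarTower.algebraMap_apply A (Localization S) (AdicCompletion K (Localization S))]
    change φ (AdicCompletion.of I' _ (algebraMap A _ a)) = AdicCompletion.of K _ _
    rw [hφ, ← RingHom.comp_apply g, hg]
    rfl
  let M : Submonoid (AdicCompletion I' (Localization S')) :=
    S.map (algebraMap A (AdicCompletion I' (Localization S')))
  let E := Localization M
  let KE := J.map (algebraMap A E)
  let Eh := AdicCompletion KE E
  haveI : IsNoetherianRing (Localization S') := IsLocalization.isNoetherianRing S' _ inferInstance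
  haveI : IsNoetherianRing E := IsLocalization.isNoetherianRing M E inferInstance
  haveI : IsAdicComplete (J.map (algebraMap A Eh)) Eh := by
    rw [IsAdicComplete.map_algebraMap_iff]
    exact (IsAdicComplete.map_algebraMap_iff J Eh).1
      (AdicCompletion.isAdicComplete (Ideal.FG.map hJfg _))
  haveI : IsAdicComplete (J.map (algebraMap A (AdicCompletion K (Localization S))))
      (AdicCompletion K (Localization S)) := by
    rw [IsAdicComplete.map_algebraMap_iff]
    exact (IsAdicComplete.map_algebraMap_iff J _).1
      (AdicCompletion.isAdicComplete (Ideal.FG.map hJfg _))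
  have hST : ∀ x : S, IsUnit (algebraMap A (AdicCompletion K (Localization S)) x) := fun x => by
    rw [IsScalarTower.algebraMap_apply A (Localization S) (AdicCompletion K (Localization S))]
    exact (IsLocalization.map_units (Localization S) x).map _
  have hSE : ∀ x : S, IsUnit (algebraMap A Eh x) := fun x => by
    rw [IsScalarTower.algebraMap_apply A E Eh,
      IsScalarTower.algebraMap_apply A (AdicCompletion I' (Localization S')) E]
    exact (IsLocalization.map_units E (⟨_, ⟨x.1, x.2, rfl⟩⟩ : M)).map _
  let φA : AdicCompletion I' (Localization S') →ₐ[A] AdicCompletion K (Localization S) :=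
    { φ with commutes' := hφA }
  have hM : ∀ y : M, IsUnit (φA y) := by
    rintro ⟨_, a, ha, rfl⟩
    rw [φA.commutes]
    exact hST ⟨a, ha⟩
  let ψ₀ : E →ₐ[A] AdicCompletion K (Localization S) :=
    { IsLocalization.lift (M := M) (g := φA.toRingHom) hM with
      commutes' := fun a => by
        change IsLocalization.lift (M := M) (g := φA.toRingHom) hM (algebraMap A E a) = _
        rw [IsScalarTower.algebraMap_apply A (AdicCompletion I' (Localization S')) E,
          IsLocalization.lift_eq]
        exact φA.commutes a }
  obtain ⟨Ψ, hΨ⟩ := Lib.Adic.Lift.exists_lift (I := J) ψ₀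
  obtain ⟨Φ, hΦ⟩ := Lib.Adic.Lift.exists_lift (I := J)
    (IsLocalization.liftAlgHom (M := S) (S := Localization S) (f := Algebra.ofId A Eh) hSE)
  have h1 : Ψ.comp Φ = AlgHom.id A _ := by
    refine Lib.Adic.Lift.hom_ext hJfg _ _ fun t => ?_
    exact AlgHom.congr_fun (IsLocalization.algHom_ext (A := A) S
      (f := (Ψ.comp Φ).comp (IsScalarTower.toAlgHom A (Localization S) _))
      (g := IsScalarTower.toAlgHom A (Localization S) _) (Subsingleton.elim _ _)) t
  have h2 : Φ.comp Ψ = AlgHom.id A _ := by
    refine Lib.Adic.Lift.hom_ext hJfg _ _ fun e => ?_
    have hS' : (Φ.comp φA) = (IsScalarTower.toAlgHom A E Eh).comp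
        (IsScalarTower.toAlgHom A (AdicCompletion I' (Localization S')) E) := by
      refine Lib.Adic.Lift.hom_ext hJfg _ _ fun s => ?_
      exact AlgHom.congr_fun (IsLocalization.algHom_ext (A := A) S'
        (f := (Φ.comp φA).comp (IsScalarTower.toAlgHom A (Localization S') _))
        (g := ((IsScalarTower.toAlgHom A E Eh).comp
          (IsScalarTower.toAlgHom A (AdicCompletion I' (Localization S')) E)).comp
            (IsScalarTower.toAlgHom A (Localization S') _)) (Subsingleton.elim _ _)) s
    have hcomp : (Φ.comp ψ₀).toRingHom = algebraMap E Eh := by
      refine IsLocalization.ringHom_ext M (RingHom.ext fun x => ?_)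
      change Φ (IsLocalization.lift (M := M) (g := φA.toRingHom) hM (algebraMap _ E x)) = _
      rw [IsLocalization.lift_eq]
      exact AlgHom.congr_fun hS' x
    change Φ (Ψ (AdicCompletion.of _ _ e)) = AdicCompletion.of _ _ e
    rw [hΨ]
    exact RingHom.congr_fun hcomp e
  have hbij : Function.Bijective Ψ := Function.bijective_iff_has_inverse.2
    ⟨Φ, AlgHom.congr_fun h2, AlgHom.congr_fun h1⟩
  have hfl1 : (algebraMap (AdicCompletion I' (Localization S')) E).Flat := by
    rw [RingHom.flat_algebraMap_iff]
    exact IsLocalization.flat E M
  have hfl2 : (algebraMap E Eh).Flat := by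
    rw [RingHom.flat_algebraMap_iff]
    exact AdicCompletion.flat_of_isNoetherian KE
  have heq : φ = Ψ.toRingHom.comp ((algebraMap E Eh).comp
      (algebraMap (AdicCompletion I' (Localization S')) E)) := RingHom.ext fun x => by
    change φ x = Ψ (AdicCompletion.of KE E (algebraMap _ E x))
    rw [hΨ]
    exact (IsLocalization.lift_eq (g := φA.toRingHom) hM x).symm
  change φ.Flat
  rw [heq]
  exact (hfl1.comp hfl2).comp (RingHom.Flat.of_bijective hbij)

end Groth.Agent.S4347
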