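import Groth.Statements.S4349
import Groth.Agent.H75.RatFunRing.More

set_option autoImplicit false
universe u
open RatFun

namespace Groth.Agent.S4349

open AlgebraicGeometry in
/-- Second assertion (in the form: sections over a dense open inject into the ring of rational
functions). Let X be a reduced scheme and V a dense open subset of X. The canonical map from the
sections of O_X over V to the ring R(X) of rational functions on X is injective. (The published
statement also assumes X locally integral or locally Noetherian; that hypothesis serves the
quasi-coherence of the sheaf of rational functions and is not needed here.) -/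
theorem result (X : Scheme.{u}) [IsReduced X]
    (V : X.Opens) (hV : Dense (V : Set X)) :
    Function.Injective (RatFun.toRing X V hV) := by
    intro a b hab
    have h0 : RatFun.toRing X V hV (a - b) = 0 := by rw [map_sub, sub_eq_zero]; exact hab
    obtain ⟨W, hle, hW, hW0⟩ := (H75.RatFunRing.toRing_eq_zero_iff X hV _).mp h0
    rw [← sub_eq_zero, ← AlgebraicGeometry.basicOpen_eq_bot_iff]
    have h1 : X.basicOpen (X.presheaf.map (CategoryTheory.homOfLE hle).op (a - b)) = ⊥ := by
      rw [hW0]; exact X.basicOpen_zero W
    rw [AlgebraicGeometry.Scheme.basicOpen_res] at h1
    refine TopologicalSpace.Opens.ext (Set.eq_empty_iff_forall_notMem.mpr fun x hx => ?_)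
    obtain ⟨z, hz1, hz2⟩ := hW.inter_open_nonempty _ (X.basicOpen (a - b)).2 ⟨x, hx⟩
    have : z ∈ W ⊓ X.basicOpen (a - b) := ⟨hz2, hz1⟩
    rw [h1] at this
    exact this

end Groth.Agent.S4349
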