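import Groth.Statements.S4363
import Mathlib
import Groth.Agent.Lib.PProj.AffineGen

set_option autoImplicit false
universe u v
open RedSep

namespace Groth.Agent.S4363

open CategoryTheory Limits AlgebraicGeometry TopologicalSpace

open AlgebraicGeometry in
open CategoryTheory in
/-- Let Y be an affine scheme, f : X -> Y a morphism and (U i) a cover of X by affine open subschemes.
Then f is separated if and only if, for every pair of indices i, j, the intersection of U i and U j
is an affine open and its ring of sections is generated, as a ring, by the images of the rings of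
sections of U i and of U j under the restriction maps. -/
theorem result
    {X Y : Scheme.{u}} [IsAffine Y] (f : X ⟶ Y) {ι : Type v} (U : ι → X.Opens)
    (hU : ∀ i, IsAffineOpen (U i)) (hcov : ⨆ i, U i = ⊤) :
    IsSeparated f ↔ ∀ i j, IsAffineOpen (U i ⊓ U j) ∧
      Subring.closure (Set.range (X.presheaf.map (homOfLE (inf_le_left : U i ⊓ U j ≤ U i)).op).hom ∪
        Set.range (X.presheaf.map (homOfLE (inf_le_right : U i ⊓ U j ≤ U j)).op).hom) = ⊤ := by
  have hY : IsAffineOpen (⊤ : Y.Opens) := isAffineOpen_top Y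
  have hle : ∀ i, U i ≤ f ⁻¹ᵁ ⊤ := fun i => le_top
  constructor
  · intro hs i j
    haveI := hs
    have hk : IsClosedImmersion (pullback.lift (𝟙 X) (𝟙 X) (rfl : 𝟙 X ≫ f = 𝟙 X ≫ f)) := hs.1
    have key := Groth.Agent.Lib.PProj.affine_and_gen (𝟙 X) (𝟙 X) f f rfl hk (hU i) (hU j) hY (hle i) (hle j)
    simp only [Scheme.Hom.appLE, Scheme.Hom.id_app, Category.id_comp] at key
    exact key
  · intro H
    refine ⟨?_⟩
    have cov : (⨆ p : ι × ι, (pullback.fst f f) ⁻¹ᵁ (U p.1) ⊓ (pullback.snd f f) ⁻¹ᵁ (U p.2)) = ⊤ := by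
      refine eq_top_iff.mpr fun z _ => ?_
      obtain ⟨i, hi⟩ := Opens.mem_iSup.mp (hcov.ge (Opens.mem_top ((pullback.fst f f) z)))
      obtain ⟨j, hj⟩ := Opens.mem_iSup.mp (hcov.ge (Opens.mem_top ((pullback.snd f f) z)))
      exact Opens.mem_iSup.mpr ⟨(i, j), hi, hj⟩
    refine (IsZariskiLocalAtTarget.iff_of_iSup_eq_top (P := @IsClosedImmersion) _ cov).mpr ?_
    rintro ⟨i, j⟩
    set V := (pullback.fst f f) ⁻¹ᵁ (U i) ⊓ (pullback.snd f f) ⁻¹ᵁ (U j) with hVdef
    have hV : IsAffineOpen V := by
      haveI : IsAffine (U i : Scheme.{u}) := hU i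
      haveI : IsAffine (U j : Scheme.{u}) := hU j
      let μ := pullback.map ((U i).ι ≫ f) ((U j).ι ≫ f) f f (U i).ι (U j).ι (𝟙 Y) (Category.comp_id _) (Category.comp_id _)
      haveI : IsOpenImmersion μ := Scheme.pullback_map_isOpenImmersion _ _ _ _ _ _ _ _ _
      have : μ.opensRange = V := by
        ext z
        have h0 : Set.range μ = _ := Scheme.Pullback.range_map _ _ f f (U i).ι (U j).ι (𝟙 Y) (Category.comp_id _) (Category.comp_id _)
        show z ∈ Set.range μ ↔ _
        rw [h0]
        simp only [Scheme.Opens.range_ι]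
        rfl
      exact this ▸ isAffineOpen_opensRange μ
    have hpre : pullback.diagonal f ⁻¹ᵁ V = U i ⊓ U j := by
      rw [hVdef, Scheme.Hom.preimage_inf, ← Scheme.Hom.comp_preimage, ← Scheme.Hom.comp_preimage,
        pullback.diagonal_fst, pullback.diagonal_snd]
      rfl
    obtain ⟨haff, hgen⟩ := H i j
    haveI : IsAffine (V : Scheme.{u}) := hV
    haveI : IsAffine ((pullback.diagonal f ⁻¹ᵁ V : X.Opens) : Scheme.{u}) := hpre ▸ haff
    refine IsClosedImmersion.of_surjective_of_isAffine _ ?_
    rw [Scheme.Hom.appTop, morphismRestrict_app']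
    have hsur : Function.Surjective ((pullback.diagonal f).appLE V (U i ⊓ U j) hpre.ge) := by
      rw [← RingHom.range_eq_top, eq_top_iff, ← hgen, Subring.closure_le]
      have key : ∀ (q : pullback f f ⟶ X) (W : X.Opens) (hWV : V ≤ q ⁻¹ᵁ W) (hW : U i ⊓ U j ≤ W),
          pullback.diagonal f ≫ q = 𝟙 X → q.appLE W V hWV ≫ (pullback.diagonal f).appLE V (U i ⊓ U j) hpre.ge =
            X.presheaf.map (homOfLE hW).op := by
        intro q W hWV hW e
        rw [Scheme.Hom.appLE_comp_appLE]
        simp only [e]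
        simp [Scheme.Hom.appLE]
        exact Category.id_comp _
      rintro a (⟨b, rfl⟩ | ⟨b, rfl⟩)
      · exact ⟨(pullback.fst f f).appLE (U i) V inf_le_left b, congrArg (fun φ => φ.hom b) (key _ (U i) inf_le_left inf_le_left (pullback.diagonal_fst f))⟩
      · exact ⟨(pullback.snd f f).appLE (U j) V inf_le_right b, congrArg (fun φ => φ.hom b) (key _ (U j) inf_le_right inf_le_right (pullback.diagonal_snd f))⟩
    have gen : ∀ V', V' = V → ∀ W, W = U i ⊓ U j → ∀ h, Function.Surjective ((pullback.diagonal f).appLE V' W h) := by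
      rintro _ rfl _ rfl _; exact hsur
    exact gen _ V.ι_image_top _ ((Scheme.Opens.ι_image_top _).trans hpre) _

end Groth.Agent.S4363
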