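import Groth.Statements.S4368
import Groth.Agent.H75.RedSub

set_option autoImplicit false
universe u
open RedSep

namespace Groth.Agent.S4368

open AlgebraicGeometry in
open CategoryTheory in
/-- Let X be a scheme and I a quasi-coherent sheaf of ideals of O_X whose support is all of X, so that
the closed subscheme it defines has underlying space X. Then that closed subscheme is reduced if and
only if I is the nilradical of O_X. In particular the closed subscheme defined by the nilradical is
the unique reduced closed subscheme of X with underlying space X (and, the support condition being
equivalent to I being contained in the nilradical, the smallest one). -/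
theorem result
    (X : Scheme.{u}) (I : X.IdealSheafData) (hI : I.support = ⊤) :
    IsReduced I.subscheme ↔ I = X.nilradical := by
  constructor
  · intro hr
    ext U : 2
    have : ∀ i, AlgebraicGeometry.IsReduced (I.subschemeCover.openCover.X i) :=
      fun i => isReduced_of_isOpenImmersion (I.subschemeCover.openCover.f i)
    have h1 : (I.ideal U).IsRadical := by
      have h2 : AlgebraicGeometry.IsReduced (Spec (CommRingCat.of (Γ(X, U.1) ⧸ I.ideal U))) := this U
      exact (Ideal.isRadical_iff_quotient_reduced _).2 ((affine_isReduced_iff (CommRingCat.of (Γ(X, U.1) ⧸ I.ideal U))).1 h2)
    have h3 : I.radical = X.nilradical := by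
      rw [← Scheme.IdealSheafData.vanishingIdeal_support, hI, Scheme.IdealSheafData.vanishingIdeal_top]
    rw [← h3]
    exact h1.radical.symm
  · rintro rfl
    exact Groth.Agent.H75.RedSub.isReduced_subscheme_of_isRadical _ fun U => Ideal.radical_isRadical _

end Groth.Agent.S4368
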