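import Groth.Statements.S4369

set_option autoImplicit false
universe u
open AffSch

namespace Groth.Agent.S4369

/-- Let φ : A' -> A be a ring homomorphism such that every f in A can be written f = h φ(f') with h
invertible in A (this holds in particular when φ is surjective). Then the associated continuous map
Spec A -> Spec A' is a homeomorphism onto its image. -/
theorem result
    {A' A : Type u} [CommRing A'] [CommRing A] (φ : A' →+* A)
    (h : ∀ f : A, ∃ (u : Aˣ) (f' : A'), f = (u : A) * φ f') :
    Topology.IsEmbedding (PrimeSpectrum.comap φ) := by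
  have key : ∀ (f : A) (f' : A') (u : Aˣ), f = (u : A) * φ f' →
      (PrimeSpectrum.basicOpen f : Set (PrimeSpectrum A)) =
        PrimeSpectrum.comap φ ⁻¹' (PrimeSpectrum.basicOpen f' : Set (PrimeSpectrum A')) := by
    intro f f' u e
    ext p
    change f ∉ p.asIdeal ↔ φ f' ∉ p.asIdeal
    rw [e, Ideal.unit_mul_mem_iff_mem _ u.isUnit]
  refine ⟨⟨le_antisymm (continuous_iff_le_induced.mp (PrimeSpectrum.continuous_comap φ)) ?_⟩,
    fun p q hpq => ?_⟩
  · refine le_of_le_of_eq (le_generateFrom ?_)
      PrimeSpectrum.isTopologicalBasis_basic_opens.eq_generateFrom.symm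
    rintro _ ⟨f, rfl⟩
    obtain ⟨u, f', e⟩ := h f
    exact ⟨_, (PrimeSpectrum.basicOpen f').isOpen, (key f f' u e).symm⟩
  · refine PrimeSpectrum.ext (Ideal.ext fun f => not_iff_not.mp ?_)
    obtain ⟨u, f', e⟩ := h f
    have hp : p ∈ (PrimeSpectrum.basicOpen f : Set (PrimeSpectrum A)) ↔ _ := Set.ext_iff.mp (key f f' u e) p
    have hq : q ∈ (PrimeSpectrum.basicOpen f : Set (PrimeSpectrum A)) ↔ _ := Set.ext_iff.mp (key f f' u e) q
    rw [Set.mem_preimage, hpq] at hp
    exact hp.trans hq.symm

end Groth.Agent.S4369
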