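import Groth.Statements.S4371
import Mathlib
import Groth.Agent.H26.Punctured

set_option autoImplicit false
universe u
open RedSep

namespace Groth.Agent.S4371

open CategoryTheory AlgebraicGeometry

open AlgebraicGeometry in
open CategoryTheory in
/-- Let K be a field and Y = Spec K[s, t] the affine plane over K. The open subset D(s) ∪ D(t) of Y, the
complement of the closed point s = t = 0, is not affine. -/
theorem result
    (K : Type u) [Field K] :
    ¬ IsAffineOpen (X := Spec (CommRingCat.of (MvPolynomial (Fin 2) K)))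
      (PrimeSpectrum.basicOpen (MvPolynomial.X 0 : MvPolynomial (Fin 2) K) ⊔
        PrimeSpectrum.basicOpen (MvPolynomial.X 1 : MvPolynomial (Fin 2) K)) := by
  intro h
  let R := MvPolynomial (Fin 2) K
  let P1 : Ideal R := RingHom.ker (MvPolynomial.eval₂Hom (Polynomial.C) ![0, Polynomial.X] : R →+* Polynomial K)
  let m : Ideal R := RingHom.ker (MvPolynomial.constantCoeff : R →+* K)
  haveI : P1.IsPrime := RingHom.ker_isPrime _
  haveI : m.IsPrime := RingHom.ker_isPrime _
  have h0m : MvPolynomial.X 0 ∈ m ∧ MvPolynomial.X 1 ∈ m := by simp [m, RingHom.mem_ker]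
  have hm : m ≤ Ideal.span {MvPolynomial.X 0, MvPolynomial.X 1} := by
    intro p hp
    rw [show ({MvPolynomial.X 0, MvPolynomial.X 1} : Set R) = MvPolynomial.X '' Set.univ by
      ext; simp [Fin.exists_fin_two, eq_comm]]
    rw [MvPolynomial.mem_ideal_span_X_image]
    intro d hd
    have : d ≠ 0 := by
      rintro rfl
      exact MvPolynomial.mem_support_iff.mp hd (show MvPolynomial.constantCoeff p = 0 from RingHom.mem_ker.mp hp)
    obtain ⟨i, hi⟩ := Finsupp.ne_iff.mp this
    exact ⟨i, trivial, by simpa using hi⟩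
  have hne : (⊥ : Ideal R) < P1 := bot_lt_iff_ne_bot.mpr fun e => MvPolynomial.X_ne_zero (R := K) (0 : Fin 2)
    ((Submodule.mem_bot R).mp (e ▸ (by simp [P1, RingHom.mem_ker] : (MvPolynomial.X 0 : R) ∈ P1)))
  have hlt : P1 < m := by
    refine lt_of_le_of_ne ?_ ?_
    · intro p hp
      rw [RingHom.mem_ker] at hp ⊢
      have : (Polynomial.constantCoeff).comp (MvPolynomial.eval₂Hom (Polynomial.C) ![0, Polynomial.X] : R →+* Polynomial K) = MvPolynomial.constantCoeff := by
        apply MvPolynomial.ringHom_ext <;> intro i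
        · simp
        · fin_cases i <;> simp
      rw [← this, RingHom.comp_apply, hp, map_zero]
    · intro e
      have : (MvPolynomial.X 1 : R) ∈ P1 := e ▸ h0m.2
      simp [P1, RingHom.mem_ker] at this
  haveI : (⊥ : Ideal R).IsPrime := Ideal.bot_prime
  let A := Localization.AtPrime m
  let i : Spec (CommRingCat.of A) ⟶ Spec (CommRingCat.of R) := Spec.map (CommRingCat.ofHom (algebraMap R A))
  have hpre : FEt.puncturedSpec A = i ⁻¹ᵁ (PrimeSpectrum.basicOpen (MvPolynomial.X 0 : R) ⊔ PrimeSpectrum.basicOpen (MvPolynomial.X 1 : R)) := by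
    ext x
    let p : PrimeSpectrum A := x
    show p ≠ IsLocalRing.closedPoint A ↔ (algebraMap R A (MvPolynomial.X 0) ∉ p.asIdeal ∨ algebraMap R A (MvPolynomial.X 1) ∉ p.asIdeal)
    constructor
    · intro hx
      by_contra h'
      push Not at h'
      apply hx
      apply PrimeSpectrum.ext
      refine le_antisymm (IsLocalRing.le_maximalIdeal p.2.ne_top) ?_
      show IsLocalRing.maximalIdeal A ≤ _
      rw [← Localization.AtPrime.map_eq_maximalIdeal, Ideal.map_le_iff_le_comap]
      refine hm.trans ?_
      rw [Ideal.span_le, Set.insert_subset_iff, Set.singleton_subset_iff]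
      exact h'
    · rintro hx e
      have : ∀ r ∈ m, algebraMap R A r ∈ p.asIdeal := fun r hr => by
        rw [e]
        exact (IsLocalization.AtPrime.to_map_mem_maximal_iff A m r).mpr hr
      rcases hx with hx | hx
      · exact hx (this _ h0m.1)
      · exact hx (this _ h0m.2)
  have haff : IsAffineOpen (FEt.puncturedSpec A) := hpre ▸ h.preimage i
  haveI : IsNoetherianRing A := IsLocalization.isNoetherianRing m.primeCompl A inferInstance
  have := Groth.Agent.H26.Punctured.ringKrullDim_le_one_of_isAffineOpen A haff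
  rw [IsLocalization.AtPrime.ringKrullDim_eq_height m A] at this
  have h2 : (2 : ℕ∞) ≤ m.height := by
    calc (2 : ℕ∞) = 0 + 1 + 1 := rfl
      _ ≤ (⊥ : Ideal R).height + 1 + 1 := by gcongr; exact bot_le
      _ ≤ P1.height + 1 := by gcongr; exact Ideal.height_add_one_le_of_lt_of_isPrime hne
      _ ≤ m.height := Ideal.height_add_one_le_of_lt_of_isPrime hlt
  have h3 : m.height ≤ 1 := by exact_mod_cast this
  exact absurd (h2.trans h3) (by norm_num)

end Groth.Agent.S4371
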