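import Groth.Statements.S4373
import Groth.Agent.Lib.Ample.Basis
import Groth.Agent.Lib.TensorMod.QCohInv
import Groth.Agent.Lib.TensorMod.GenLocal
import Mathlib.AlgebraicGeometry.QuasiAffine

set_option autoImplicit false
universe u
open CategoryTheory CategoryTheory.Limits AlgebraicGeometry
open EGA2

namespace Groth.Agent.S4373

/-- Let X be a quasi-affine scheme and L an invertible O_X-module. Then L is ample. (The published
statement also asserts that L is very ample for the canonical morphism to the spectrum of the global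
sections; that part is not stated here.) -/
theorem result (X : Scheme.{u}) [X.IsQuasiAffine] (L : X.Modules)
    (hL : PicF.IsInvertible L) : CohB1.IsAmple L := by
  have hqs : QuasiSeparatedSpace X := inferInstance
  have := Groth.Agent.Lib.TensorMod.QCohInv.isQCoh_of_isInvertible hL
  refine Groth.Agent.Lib.Ample.Pow.isAmple_iff.2 ⟨hL, inferInstance, fun x => ?_⟩
  obtain ⟨U, e, hxU, he⟩ := Groth.Agent.Lib.TensorMod.Gen.isInvertible_iff.1 hL x
  obtain ⟨_, ⟨r, hr, rfl⟩, hxr, hrU⟩ := TopologicalSpace.Opens.isBasis_iff_nbhd.1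
    (Scheme.IsQuasiAffine.isBasis_basicOpen X) hxU
  obtain ⟨n, t, ht⟩ := (Groth.Agent.Lib.QCoh.Localizing.localizes_of_qcqs L
    (isCompact_univ : IsCompact ((⊤ : X.Opens) : Set X)) (isQuasiSeparated_univ_iff.2 hqs) r).ext'
      (Groth.Agent.Lib.TensorMod.Dual.rs L hrU e)
  change Groth.Agent.Lib.TensorMod.Dual.rs L (X.basicOpen_le r) t =
    Groth.Agent.Lib.TensorMod.Dual.rf (X.basicOpen_le r) r ^ n •
      Groth.Agent.Lib.TensorMod.Dual.rs L hrU e at ht
  obtain ⟨s, hs⟩ := Groth.Agent.Lib.Ample.GenLocus.exists_hom_of_sec (L := L) (r • t)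
  have hu : IsUnit (Groth.Agent.Lib.TensorMod.Dual.rf (X.basicOpen_le r) r) :=
    RingedSpace.isUnit_res_basicOpen X.toLocallyRingedSpace.toRingedSpace r
  have hloc : CohB1.genLocus L s = X.basicOpen r := by
    apply le_antisymm
    · intro y hy
      obtain ⟨W, e', hyW, he'⟩ := Groth.Agent.Lib.TensorMod.Gen.isInvertible_iff.1 hL y
      obtain ⟨c, hc⟩ := Groth.Agent.Lib.Ample.GenLocus.exists_coord he'
        (Groth.Agent.Lib.TensorMod.Dual.rs L (le_top : W ≤ ⊤) t)
      have hsv : Groth.Agent.Lib.Ample.GenLocus.sv s W =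
          (Groth.Agent.Lib.TensorMod.Dual.rf (le_top : W ≤ ⊤) r * c) • e' := by
        rw [← Groth.Agent.Lib.Ample.GenLocus.rs_sv s le_top, hs,
          Groth.Agent.Lib.TensorMod.Dual.rs_smul, hc, smul_smul]
      have hy' : y ∈ X.basicOpen (Groth.Agent.Lib.TensorMod.Dual.rf (le_top : W ≤ ⊤) r * c) := by
        rw [← Groth.Agent.Lib.Ample.GenLocus.genLocus_inf_eq he' s hsv]
        exact ⟨hy, hyW⟩
      rw [Scheme.basicOpen_mul, Groth.Agent.Lib.TensorMod.Dual.rf, Scheme.basicOpen_res] at hy'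
      exact hy'.1.2
    · refine Groth.Agent.Lib.Ample.GenLocus.le_genLocus ?_
      rw [← Groth.Agent.Lib.Ample.GenLocus.rs_sv s (le_top : X.basicOpen r ≤ ⊤), hs,
        Groth.Agent.Lib.TensorMod.Dual.rs_smul, ht]
      exact Groth.Agent.Lib.TensorMod.GenLocal.isGen_smul
        (Groth.Agent.Lib.TensorMod.GenLocal.isGen_smul (he.res hrU) (hu.pow n)) hu
  exact Groth.Agent.Lib.Ample.Pow.AffineAt.mk Nat.one_pos (Groth.Agent.Lib.Ample.Pow.powOne L).symm s
    (by rw [hloc]; exact hxr) (by rw [hloc]; exact hr)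

end Groth.Agent.S4373
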