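import Groth.Statements.S4375
import Groth.Agent.Lib.ZarCoh.SerreAff
import Groth.Agent.Lib.TensorMod.LocFree

set_option autoImplicit false
universe u
open CategoryTheory.Limits
open CategoryTheory CategoryTheory.Limits AlgebraicGeometry
open EGA2

namespace Groth.Agent.S4375

/-- (c') ⇒ (a): let X be a quasi-compact separated scheme. Suppose that for every n, every
quasi-coherent O_X-module F admitting a monomorphism into the free module O_X^n, and every
epimorphism p : F → F'' onto a quasi-coherent O_X-module, the map induced by p on global sections is
surjective. Then X is affine. (The published statement also allows X to be a scheme whose underlying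
space is Noetherian; this row assumes it quasi-compact and separated.) -/
theorem result (X : Scheme.{u}) [CompactSpace X] [X.IsSeparated]
    (h : ∀ (n : ℕ) (F F'' : X.Modules) (i : F ⟶ FlatMod.freeMod X n) (p : F ⟶ F''),
      Mono i → Epi p → Coh.IsQCoh F → Coh.IsQCoh F'' →
        Function.Surjective (p.val.app (Opposite.op ⊤)).hom) :
    IsAffine X := by
  haveI := Groth.Agent.Lib.TensorMod.QCohInv.isQCoh_structureModule X
  refine ZarCoh.SerreAff.isAffine_of_surjective (fun K => ?_) (fun n f hf => ?_)
  · haveI : ((_root_.ClSub.quotMod K) : X.Modules).IsQuasicoherent := by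
      haveI := Groth.Agent.Lib.TensorMod.QCohInv.isQCoh_structureModule K.subscheme
      exact Groth.Agent.Lib.QCoh.Pushforward.isQCoh_pushforward K.subschemeι (M := Coh.structureModule K.subscheme)
    exact h 1 _ _ (Groth.Agent.Lib.TensorMod.LocFree.freeModOneIso X).inv (_root_.ClSub.toSubscheme K)
      inferInstance (Groth.Agent.Lib.ClSub.Quot.epi_toSubscheme K) inferInstance inferInstance
  · haveI : HasFiniteBiproducts X.Modules := HasFiniteBiproducts.of_hasFiniteCoproducts
    haveI : HasBiproductsOfShape (Fin n) X.Modules := HasFiniteBiproducts.out n
    let F : Fin n → X.Modules := fun _ => Coh.structureModule X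
    haveI : HasBiproduct F := HasBiproductsOfShape.has_biproduct F
    exact h n _ _ ((biproduct.isoProduct F).symm ≪≫ biproduct.isoCoproduct F).hom (ZarCoh.SerreAff.row f)
      inferInstance hf (ZarCoh.SerreAff.isQCoh_free n) inferInstance

end Groth.Agent.S4375
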