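import Groth.Statements.S4376
import Groth.Agent.Lib.CohDelta.SerreRel

set_option autoImplicit false
universe u
open CategoryTheory CategoryTheory.Limits AlgebraicGeometry
open EGA2

namespace Groth.Agent.S4376

open Groth.Agent.Lib Groth.Agent.Lib.CohDelta TopologicalSpace in
theorem isAffineOpen_preimage {X Y : Scheme.{u}} (f : X ⟶ Y) [IsSeparated f] [QuasiCompact f]
    (h : ∀ (F F'' : X.Modules) (p : F ⟶ F''), Coh.IsQCoh F → Coh.IsQCoh F'' → Epi p → Epi ((Coh.push f).map p))
    {V : Y.Opens} (hV : IsAffineOpen V) : IsAffineOpen (f ⁻¹ᵁ V) := by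
  let U := f ⁻¹ᵁ V
  haveI : CompactSpace (U : Scheme.{u}) :=
    isCompact_iff_compactSpace.mp (f.isCompact_preimage hV.isCompact)
  haveI : IsAffine (V : Scheme.{u}) := hV
  haveI : QuasiSeparatedSpace (U : Scheme.{u}) :=
    quasiSeparatedSpace_of_quasiSeparated (f ∣_ V)
  refine SerreRad.isAffine (X := (U : Scheme.{u})) fun Z₀ ↦ ?_
  let Zc : Closeds X := ⟨closure (⇑U.ι '' (Z₀ : Set (U : Scheme.{u}))), isClosed_closure⟩
  let K : X.IdealSheafData := Scheme.IdealSheafData.vanishingIdeal Zc
  haveI : AlgebraicGeometry.IsReduced K.subscheme := Groth.Agent.H75.RedSub.isReduced_vanishingIdeal _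
  let ι := K.subschemeι
  refine ⟨_, ι ∣_ U, inferInstance, ?_, ?_⟩
  · have hr : Set.range ⇑ι = (Zc : Set X) := by
      rw [Scheme.IdealSheafData.range_subschemeι, Scheme.IdealSheafData.coe_support_vanishingIdeal]
    apply U.ι.isOpenEmbedding.injective.image_injective
    ext x
    constructor
    · rintro ⟨u, ⟨z, rfl⟩, rfl⟩
      have hz : U.ι ((ι ∣_ U) z) ∈ (Zc : Set X) := by
        rw [← hr]
        exact ⟨(ι ⁻¹ᵁ U).ι z, (congr($(morphismRestrict_ι ι U) z)).symm⟩
      have hcl : (ι ∣_ U) z ∈ closure (Z₀ : Set (U : Scheme.{u})) := by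
        rw [U.ι.isOpenEmbedding.isInducing.closure_eq_preimage_closure_image]
        exact hz
      exact ⟨_, Z₀.isClosed.closure_eq ▸ hcl, rfl⟩
    · rintro ⟨u, hu, rfl⟩
      have : U.ι u ∈ Set.range ⇑ι := hr ▸ subset_closure ⟨u, hu, rfl⟩
      obtain ⟨z, hz⟩ := this
      have hzU : z ∈ ι ⁻¹ᵁ U := show ι z ∈ U from hz ▸ u.2
      refine ⟨_, ⟨⟨z, hzU⟩, rfl⟩, ?_⟩
      exact (congr($(morphismRestrict_ι ι U) ⟨z, hzU⟩)).trans hz
  · haveI := TensorMod.QCohInv.isQCoh_structureModule X
    haveI : ((_root_.ClSub.quotMod K) : X.Modules).IsQuasicoherent := by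
      haveI := TensorMod.QCohInv.isQCoh_structureModule K.subscheme
      exact QCoh.Pushforward.isQCoh_pushforward K.subschemeι (M := Coh.structureModule K.subscheme)
    have key : Function.Surjective (ι.app (U.ι ''ᵁ ⊤)) := by
      rw [U.ι_image_top]
      haveI : Epi ((Coh.push f).map (_root_.ClSub.toSubscheme K)) :=
        h _ _ (_root_.ClSub.toSubscheme K) (TensorMod.QCohInv.isQCoh_structureModule X) inferInstance
          (ClSub.Quot.epi_toSubscheme K)
      haveI : ((Coh.push f).obj (Coh.structureModule X)).IsQuasicoherent :=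
        QCoh.Pushforward.isQCoh_pushforward f (M := Coh.structureModule X)
      haveI : ((Coh.push f).obj (_root_.ClSub.quotMod K)).IsQuasicoherent :=
        QCoh.Pushforward.isQCoh_pushforward f (M := _root_.ClSub.quotMod K)
      exact QCoh.Closure.sections_surjective_of_epi ((Coh.push f).map (_root_.ClSub.toSubscheme K)) hV
    rw [morphismRestrict_app]
    intro s
    obtain ⟨a, ha⟩ := key (K.subscheme.presheaf.map
      (eqToHom (image_morphismRestrict_preimage ι U ⊤).symm).op s)
    refine ⟨a, ?_⟩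
    refine (congrArg (K.subscheme.presheaf.map
      (eqToHom (image_morphismRestrict_preimage ι U ⊤)).op) ha).trans ?_
    show (K.subscheme.presheaf.map _ ≫ K.subscheme.presheaf.map _) s = s
    rw [← Functor.map_comp]
    refine (congrArg (fun k ↦ K.subscheme.presheaf.map k s) (Subsingleton.elim _ (𝟙 _))).trans ?_
    rw [CategoryTheory.Functor.map_id]
    rfl

/-- (b) ⇒ (a): let f : X → Y be a separated quasi-compact morphism such that the direct image functor
f_* is exact on quasi-coherent O_X-modules, i.e. for every epimorphism p : F → F'' of quasi-coherent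
O_X-modules the morphism f_*(p) is again an epimorphism. Then f is an affine morphism. -/
theorem result {X Y : Scheme.{u}} (f : X ⟶ Y) [IsSeparated f] [QuasiCompact f]
    (h : ∀ (F F'' : X.Modules) (p : F ⟶ F''), Coh.IsQCoh F → Coh.IsQCoh F'' → Epi p → Epi ((Coh.push f).map p)) :
    IsAffineHom f := by
  exact ⟨fun V hV => isAffineOpen_preimage f h hV⟩

end Groth.Agent.S4376
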