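import Groth.Statements.S4378


set_option autoImplicit false
universe u
open CategoryTheory.Limits
open CategoryTheory CategoryTheory.Limits AlgebraicGeometry
open EGA2

namespace Groth.Agent.S4378

/-- Let q : Y → S be separated and of finite type, and f : X → Y a morphism such that X is also
separated and of finite type over S through f ≫ q. Then f is proper if and only if for every scheme
S' over S the morphism X ×_S S' → Y ×_S S' induced by f is closed (as a map of topological spaces). -/
theorem result {X Y S : Scheme.{u}} (q : Y ⟶ S) (f : X ⟶ Y)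
    [IsSeparated q] [LocallyOfFiniteType q] [QuasiCompact q]
    [IsSeparated (f ≫ q)] [LocallyOfFiniteType (f ≫ q)] [QuasiCompact (f ≫ q)] :
    IsProper f ↔ ∀ (S' : Scheme.{u}) (g : S' ⟶ S),
      IsClosedMap (pullback.map (f ≫ q) g q g f (𝟙 S') (𝟙 S) (Category.comp_id (f ≫ q))
        ((Category.comp_id g).trans (Category.id_comp g).symm)).base := by
  haveI : IsSeparated f := IsSeparated.of_comp f q
  haveI : LocallyOfFiniteType f := locallyOfFiniteType_of_comp f q
  constructor
  · intro hf S' g
    haveI := hf
    have sq : IsPullback (pullback.fst (f ≫ q) g)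
        (pullback.map (f ≫ q) g q g f (𝟙 S') (𝟙 S) (Category.comp_id (f ≫ q))
          ((Category.comp_id g).trans (Category.id_comp g).symm)) f (pullback.fst q g) := by
      refine IsPullback.of_bot (v₂₁ := pullback.snd q g) (h₃₁ := g) (v₁₂ := f) (v₂₂ := q) ?_ (pullback.lift_fst _ _ _).symm
        (IsPullback.of_hasPullback q g)
      rw [show pullback.map (f ≫ q) g q g f (𝟙 S') (𝟙 S) (Category.comp_id (f ≫ q)) ((Category.comp_id g).trans (Category.id_comp g).symm) ≫ pullback.snd q g = pullback.snd (f ≫ q) g from (pullback.lift_snd _ _ _).trans (Category.comp_id _)]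
      exact IsPullback.of_hasPullback (f ≫ q) g
    haveI : UniversallyClosed (pullback.map (f ≫ q) g q g f (𝟙 S') (𝟙 S) (Category.comp_id (f ≫ q))
        ((Category.comp_id g).trans (Category.id_comp g).symm)) :=
      MorphismProperty.of_isPullback sq inferInstance
    exact Scheme.Hom.isClosedMap _
  · intro h
    have hclosed : ∀ {T : Scheme.{u}} (v : T ⟶ Y), IsClosedMap (pullback.snd f v) := fun {T} v => by
      let m := pullback.map (f ≫ q) (v ≫ q) q (v ≫ q) f (𝟙 T) (𝟙 S) (Category.comp_id (f ≫ q))
        ((Category.comp_id (v ≫ q)).trans (Category.id_comp (v ≫ q)).symm)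
      let gr : T ⟶ pullback q (v ≫ q) := pullback.lift v (𝟙 T) (by rw [Category.id_comp])
      let j := pullback.mapDesc f v q
      have e : pullback.snd f v ≫ gr = j ≫ m := by
        have ej1 : j ≫ pullback.fst (f ≫ q) (v ≫ q) = pullback.fst f v :=
          (pullback.lift_fst _ _ _).trans (Category.comp_id _)
        have ej2 : j ≫ pullback.snd (f ≫ q) (v ≫ q) = pullback.snd f v :=
          (pullback.lift_snd _ _ _).trans (Category.comp_id _)
        have em1 : m ≫ pullback.fst q (v ≫ q) = pullback.fst (f ≫ q) (v ≫ q) ≫ f := pullback.lift_fst _ _ _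
        have em2 : m ≫ pullback.snd q (v ≫ q) = pullback.snd (f ≫ q) (v ≫ q) :=
          (pullback.lift_snd _ _ _).trans (Category.comp_id _)
        apply pullback.hom_ext
        · rw [Category.assoc, Category.assoc, show gr ≫ pullback.fst q (v ≫ q) = v from pullback.lift_fst _ _ _,
            em1, reassoc_of% ej1, pullback.condition]
        · rw [Category.assoc, Category.assoc, show gr ≫ pullback.snd q (v ≫ q) = 𝟙 T from pullback.lift_snd _ _ _,
            em2, ej2, Category.comp_id]
      have hgr : Function.Injective gr := fun a b hab => by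
        have e1 : gr ≫ pullback.snd q (v ≫ q) = 𝟙 T := pullback.lift_snd _ _ _
        have := congrArg (pullback.snd q (v ≫ q)) hab
        rw [← Scheme.Hom.comp_apply, ← Scheme.Hom.comp_apply, e1] at this
        exact this
      intro C hC
      have h1 : IsClosed (gr '' (pullback.snd f v '' C)) := by
        rw [Set.image_image]
        have : (fun x => gr (pullback.snd f v x)) = fun x => m (j x) := funext fun x => by
          rw [← Scheme.Hom.comp_apply, ← Scheme.Hom.comp_apply, e]
        rw [this]
        exact ((h T (v ≫ q)).comp j.isClosedEmbedding.isClosedMap) C hC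
      rw [← Set.preimage_image_eq (pullback.snd f v '' C) hgr]
      exact h1.preimage gr.continuous
    haveI : UniversallyClosed f := ⟨fun {X' Y'} i₁ i₂ f' sq => by
      have h1 := hclosed i₂
      show IsClosedMap f'
      have : (sq.flip.isoPullback.hom ≫ pullback.snd f i₂) = f' := sq.flip.isoPullback_hom_snd
      rw [← this]
      exact h1.comp sq.flip.isoPullback.hom.homeomorph.isClosedMap⟩
    exact { }

end Groth.Agent.S4378
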