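import Groth.Statements.S4389
import Mathlib.Tactic.Ring

set_option autoImplicit false
universe u
open EGA2

namespace Groth.Agent.S4389

/-- Let S be a ring graded in nonnegative degrees, S_0 its degree-zero subring, S_+ its irrelevant
ideal, and E a set of homogeneous elements of positive degree. Then E generates S_+ as an ideal of S
if and only if E generates S as an S_0-algebra. -/
theorem result {R A : Type u} [CommRing R] [CommRing A] [Algebra R A] (𝒜 : ℕ → Submodule R A) [GradedAlgebra 𝒜]
    (E : Set A) (hE : ∀ e ∈ E, ∃ d : ℕ, 0 < d ∧ e ∈ 𝒜 d) :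
    (HomogeneousIdeal.irrelevant 𝒜).toIdeal = Ideal.span E ↔ Algebra.adjoin (𝒜 0) E = ⊤ := by
  classical
  constructor
  · intro hI
    refine top_unique fun x _ => ?_
    set T := Algebra.adjoin (𝒜 0) E
    have key : ∀ (m : ℕ) (a : A), a ∈ 𝒜 m → a ∈ T := by
      intro m
      induction m using Nat.strong_induction_on with
      | _ m ih =>
        intro a ha
        rcases Nat.eq_zero_or_pos m with rfl | hm
        · exact T.algebraMap_mem (⟨a, ha⟩ : 𝒜 0)
        suffices ∀ z ∈ Ideal.span E, ∀ r : A, (DirectSum.decompose 𝒜 (r * z) m : A) ∈ T by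
          have h := this a (hI ▸ HomogeneousIdeal.mem_irrelevant_of_mem 𝒜 hm ha) 1
          rwa [one_mul, DirectSum.decompose_of_mem_same 𝒜 ha] at h
        intro z hz
        induction hz using Submodule.span_induction with
        | zero => intro r; simp
        | add u v _ _ hu hv =>
          intro r; rw [mul_add, DirectSum.decompose_add, DirectSum.add_apply, Submodule.coe_add]; exact T.add_mem (hu r) (hv r)
        | smul c u _ hu => intro r; rw [smul_eq_mul, ← mul_assoc]; exact hu _
        | mem z hz =>
          obtain ⟨d, hd0, hd⟩ := hE z hz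
          intro r
          induction r using DirectSum.Decomposition.inductionOn 𝒜 with
          | zero => simp
          | add u v hu hv => rw [add_mul, DirectSum.decompose_add, DirectSum.add_apply, Submodule.coe_add]; exact T.add_mem hu hv
          | @homogeneous l r =>
            have hmem : (r : A) * z ∈ 𝒜 (l + d) := SetLike.GradedMul.mul_mem r.2 hd
            by_cases h : l + d = m
            · subst h
              rw [DirectSum.decompose_of_mem_same 𝒜 hmem]
              exact T.mul_mem (ih l (by omega) _ r.2) (Algebra.subset_adjoin hz)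
            · rw [DirectSum.decompose_of_mem_ne 𝒜 hmem h]; exact T.zero_mem
    rw [← DirectSum.sum_support_decompose 𝒜 x]
    exact T.sum_mem fun i _ => key i _ (DirectSum.decompose 𝒜 x i).2
  · intro hadj
    have hle : Ideal.span E ≤ (HomogeneousIdeal.irrelevant 𝒜).toIdeal := Ideal.span_le.2 fun e he => by
      obtain ⟨d, hd0, hd⟩ := hE e he
      exact HomogeneousIdeal.mem_irrelevant_of_mem 𝒜 hd0 hd
    refine le_antisymm (fun x hx => ?_) hle
    have key : ∀ y ∈ Algebra.adjoin (𝒜 0) E, y - (GradedRing.proj 𝒜 0 y) ∈ Ideal.span E := by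
      intro y hy
      induction hy using Algebra.adjoin_induction with
      | mem g hg =>
        obtain ⟨d, hd0, hd⟩ := hE g hg
        rw [GradedRing.proj_apply, DirectSum.decompose_of_mem_ne 𝒜 hd hd0.ne', sub_zero]
        exact Ideal.subset_span hg
      | algebraMap r =>
        rw [GradedRing.proj_apply, DirectSum.decompose_of_mem_same 𝒜 (show algebraMap (𝒜 0) A r ∈ 𝒜 0 from r.2), sub_self]
        exact Ideal.zero_mem _
      | add u v _ _ hu hv =>
        rw [map_add, add_sub_add_comm]
        exact Ideal.add_mem _ hu hv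
      | mul u v _ _ hu hv =>
        have hm0 : GradedRing.proj 𝒜 0 (u * v) = GradedRing.proj 𝒜 0 u * GradedRing.proj 𝒜 0 v :=
          (GradedRing.projZeroRingHom 𝒜).map_mul u v
        rw [hm0, show u * v - GradedRing.proj 𝒜 0 u * GradedRing.proj 𝒜 0 v =
          (u - GradedRing.proj 𝒜 0 u) * v + GradedRing.proj 𝒜 0 u * (v - GradedRing.proj 𝒜 0 v) by ring]
        exact Ideal.add_mem _ (Ideal.mul_mem_right _ _ hu) (Ideal.mul_mem_left _ _ hv)
    have := key x (hadj ▸ Algebra.mem_top)
    rwa [(HomogeneousIdeal.mem_irrelevant_iff 𝒜 x).1 hx, sub_zero] at this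

end Groth.Agent.S4389
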