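import Groth.Statements.S4392
import Mathlib
-- import your own Groth.Agent.* helpers here

set_option autoImplicit false
universe u
open EGA2

namespace Groth.Agent.S4392


section
variable {R A : Type u} [CommRing R] [CommRing A] [Algebra R A] (𝒜 : ℕ → Submodule R A) [GradedAlgebra 𝒜]

theorem prod_split {ι : Type*} [Fintype ι] [DecidableEq ι] (g : ι → A) (d : ι → ℕ)
    (hg : ∀ i, g i ∈ 𝒜 (d i)) (L : ℕ) (hL : ∀ i, d i ∣ L) (e : ι → ℕ)
    (he : Fintype.card ι * L < ∑ i, e i * d i) :
    ∏ i, g i ^ e i ∈ 𝒜 L * 𝒜 (∑ i, e i * d i - L) := by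
  obtain ⟨i, hi⟩ : ∃ i, L < e i * d i := by
    by_contra h
    push_neg at h
    have h2 : ∑ i, e i * d i ≤ ∑ _i : ι, L := Finset.sum_le_sum fun i _ => h i
    rw [Finset.sum_const, Finset.card_univ, smul_eq_mul] at h2
    omega
  obtain ⟨q, rfl⟩ := hL i
  have hqe : q ≤ e i := by
    rw [mul_comm (d i) q] at hi
    exact (Nat.lt_of_mul_lt_mul_right hi).le
  set e' : ι → ℕ := Function.update e i (e i - q) with he'
  have h1 : ∏ j, g j ^ e j = g i ^ q * ∏ j, g j ^ e' j := by
    rw [← Finset.mul_prod_erase _ _ (Finset.mem_univ i),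
      ← Finset.mul_prod_erase _ (fun j => g j ^ e' j) (Finset.mem_univ i), ← mul_assoc]
    congr 1
    · rw [he', Function.update_self, ← pow_add]; congr 1; omega
    · exact Finset.prod_congr rfl fun j hj => by rw [he', Function.update_of_ne (Finset.mem_erase.mp hj).1]
  have h2 : ∑ j, e j * d j = d i * q + ∑ j, e' j * d j := by
    rw [← Finset.add_sum_erase _ _ (Finset.mem_univ i),
      ← Finset.add_sum_erase _ (fun j => e' j * d j) (Finset.mem_univ i), ← add_assoc]
    congr 1
    · rw [he', Function.update_self, Nat.sub_mul, mul_comm (d i) q, add_comm,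
        Nat.sub_add_cancel (Nat.mul_le_mul_right _ hqe)]
    · exact Finset.sum_congr rfl fun j hj => by rw [he', Function.update_of_ne (Finset.mem_erase.mp hj).1]
  rw [h1, h2, Nat.add_sub_cancel_left]
  refine Submodule.mul_mem_mul ?_ ?_
  · rw [mul_comm (d i) q, ← smul_eq_mul]; exact SetLike.pow_mem_graded q (hg i)
  · have := SetLike.prod_mem_graded (A := 𝒜) (fun j => e' j • d j) (fun j => g j ^ e' j) (F := Finset.univ)
      (fun j _ => SetLike.pow_mem_graded (e' j) (hg j))
    simpa [smul_eq_mul] using this

theorem proj_mem [Algebra.FiniteType (𝒜 0) A] :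
    ∃ L B : ℕ, 0 < L ∧ ∀ (a : A) (e : ℕ), B < e → (DirectSum.decompose 𝒜 a e : A) ∈ 𝒜 L * 𝒜 (e - L) := by
  classical
  obtain ⟨s, hs, hd⟩ := GradedAlgebra.exists_finset_adjoin_eq_top_and_homogeneous_ne_zero 𝒜
  choose d hd0 hdm using fun i : s => hd i.1 i.2
  refine ⟨∏ i, d i, Fintype.card s * ∏ i, d i, Finset.prod_pos fun i _ => Nat.pos_of_ne_zero (hd0 i), fun a e he => ?_⟩
  have ha : a ∈ Subalgebra.toSubmodule (Algebra.adjoin (𝒜 0) (s : Set A)) := by rw [hs]; exact Submodule.mem_top
  rw [Algebra.adjoin_eq_span] at ha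
  induction ha using Submodule.span_induction with
  | zero => simp
  | add x y _ _ hx hy => simp only [DirectSum.decompose_add, DirectSum.add_apply, Submodule.coe_add]; exact add_mem hx hy
  | smul r x _ hx =>
    have hrx : (DirectSum.decompose 𝒜 (r • x) e : A) = (r : A) * (DirectSum.decompose 𝒜 x e : A) := by
      rw [Algebra.smul_def, show algebraMap (𝒜 0) A r = (r : A) from rfl,
        DirectSum.coe_decompose_mul_of_left_mem_of_le 𝒜 r.2 (Nat.zero_le e), Nat.sub_zero]
    rw [hrx]
    refine Submodule.mul_induction_on hx (fun u hu v hv => ?_) (fun u v hu hv => ?_)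
    · rw [← mul_assoc]
      refine Submodule.mul_mem_mul ?_ hv
      simpa using SetLike.mul_mem_graded r.2 hu
    · rw [mul_add]; exact add_mem hu hv
  | mem x hx =>
    obtain ⟨f, rfl⟩ := Submonoid.mem_closure_finset'.mp hx
    have hdeg : ∏ i : s, (i : A) ^ f i ∈ 𝒜 (∑ i, f i * d i) := by
      have := SetLike.prod_mem_graded (A := 𝒜) (fun j => f j • d j) (fun j => (j : A) ^ f j) (F := Finset.univ)
        (fun j _ => SetLike.pow_mem_graded (f j) (hdm j))
      simpa [smul_eq_mul] using this
    by_cases h : ∑ i, f i * d i = e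
    · rw [← h, DirectSum.decompose_of_mem_same 𝒜 hdeg]
      exact prod_split 𝒜 _ d hdm _ (fun i => Finset.dvd_prod_of_mem d (Finset.mem_univ i)) f (h.symm ▸ he)
    · rw [DirectSum.decompose_of_mem_ne 𝒜 hdeg h]; exact zero_mem _

end


/-- Let S be a ring graded in nonnegative degrees which is an S_0-algebra of finite type, and M a
finitely generated graded S-module, graded in nonnegative degrees. Then there exist an integer n₁
and an integer h > 0 such that M_{n+h} = S_h M_n for every n ≥ n₁. (The published statement allows M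
graded in all integer degrees; this row takes M graded in nonnegative degrees.) -/
theorem result {R A : Type u} [CommRing R] [CommRing A] [Algebra R A] (𝒜 : ℕ → Submodule R A) [GradedAlgebra 𝒜] [Algebra.FiniteType (𝒜 0) A]
    {M : Type u} [AddCommGroup M] [Module R M] [Module A M] [IsScalarTower R A M] (ℳ : ℕ → Submodule R M) [DirectSum.Decomposition ℳ] [SetLike.GradedSMul 𝒜 ℳ] [Module.Finite A M] :
    ∃ (n₁ h : ℕ), 0 < h ∧ ∀ n : ℕ, n₁ ≤ n → ℳ (n + h) = (𝒜 h : Submodule R A) • (ℳ n : Submodule R M) := by
  classical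
  obtain ⟨L, B, hL, hproj⟩ := proj_mem 𝒜
  -- finitely many homogeneous generators of `M`
  obtain ⟨T, hT⟩ := Module.Finite.fg_top (R := A) (M := M)
  set D : ℕ := T.sup fun m => (DirectSum.decompose ℳ m).support.sup id with hD
  refine ⟨B + L + D + 1, L, hL, fun n hn => le_antisymm ?_ ?_⟩
  · intro x hx
    have hx' : (DirectSum.decompose ℳ x (n + L) : M) = x := DirectSum.decompose_of_mem_same ℳ hx
    rw [← hx']
    have hxT : x ∈ Submodule.span A (T : Set M) := hT ▸ Submodule.mem_top
    have key : ∀ (a : A) (u : M) (j : ℕ), u ∈ ℳ j → j ≤ D →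
        (DirectSum.decompose ℳ (a • u) (n + L) : M) ∈ (𝒜 L : Submodule R A) • (ℳ n : Submodule R M) := by
      intro a u j hu hj
      induction a using DirectSum.Decomposition.inductionOn 𝒜 with
      | zero => simp
      | add p q hp hq => simp only [add_smul, DirectSum.decompose_add, DirectSum.add_apply, Submodule.coe_add]; exact add_mem hp hq
      | @homogeneous i p =>
        obtain ⟨p, hp⟩ := p
        simp only
        have hpu : p • u ∈ ℳ (i + j) := SetLike.GradedSMul.smul_mem hp hu
        by_cases h : i + j = n + L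
        · rw [← h, DirectSum.decompose_of_mem_same ℳ hpu]
          have hp' := hproj p i (by omega)
          rw [DirectSum.decompose_of_mem_same 𝒜 hp] at hp'
          refine Submodule.mul_induction_on hp' (fun v hv w hw => ?_) (fun v w hv hw => ?_)
          · rw [mul_smul]
            refine Submodule.smul_mem_smul hv ?_
            have hwu : w • u ∈ ℳ ((i - L) + j) := SetLike.GradedSMul.smul_mem hw hu
            rwa [show i - L + j = n by omega] at hwu
          · rw [add_smul]; exact add_mem hv hw
        · rw [DirectSum.decompose_of_mem_ne ℳ hpu h]; exact zero_mem _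
    suffices H : ∀ y ∈ Submodule.span A (T : Set M), ∀ a : A, (DirectSum.decompose ℳ (a • y) (n + L) : M) ∈
        (𝒜 L : Submodule R A) • (ℳ n : Submodule R M) by simpa using H x hxT 1
    intro y hy
    induction hy using Submodule.span_induction with
    | zero => intro a; simp
    | add u v _ _ hu hv =>
      intro a
      simp only [smul_add, DirectSum.decompose_add, DirectSum.add_apply, Submodule.coe_add]
      exact add_mem (hu a) (hv a)
    | smul b u _ hu => intro a; rw [smul_smul]; exact hu _
    | mem m hm =>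
      intro a
      rw [← DirectSum.sum_support_decompose ℳ m, Finset.smul_sum]
      refine Finset.sum_induction _ (fun z => (DirectSum.decompose ℳ z (n + L) : M) ∈
          (𝒜 L : Submodule R A) • (ℳ n : Submodule R M)) (fun u v hu hv => ?_) (by simp)
        (fun j hj => key a _ j (SetLike.coe_mem _)
          ((Finset.le_sup (f := id) hj).trans (Finset.le_sup (f := fun m => (DirectSum.decompose ℳ m).support.sup id) hm)))
      simp only [DirectSum.decompose_add, DirectSum.add_apply, Submodule.coe_add]
      exact add_mem hu hv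
  · rw [Submodule.smul_le]
    intro a ha m hm
    rw [add_comm n L]
    exact SetLike.GradedSMul.smul_mem ha hm

end Groth.Agent.S4392
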