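import Groth.Statements.S4393
import Mathlib.RingTheory.GradedAlgebra.FiniteType
import Mathlib.Algebra.Algebra.Operations

set_option autoImplicit false
universe u
open EGA2

namespace Groth.Agent.S4393

/-- Let S be a ring graded in nonnegative degrees which is an S_0-algebra of finite type. Then there is
an integer h > 0 such that S_{mh} = (S_h)^m (the S_0-submodule spanned by m-fold products of
elements of S_h) for every m > 0. -/
theorem result {R A : Type u} [CommRing R] [CommRing A] [Algebra R A] (𝒜 : ℕ → Submodule R A) [GradedAlgebra 𝒜] [Algebra.FiniteType (𝒜 0) A] :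
    ∃ h : ℕ, 0 < h ∧ ∀ m : ℕ, 0 < m → 𝒜 (m * h) = (𝒜 h : Submodule R A) ^ m := by
  classical
  obtain ⟨s, hs, hdeg⟩ := GradedAlgebra.exists_finset_adjoin_eq_top_and_homogeneous_ne_zero 𝒜
  have hdeg' : ∀ g : s, ∃ d, d ≠ 0 ∧ (g : A) ∈ 𝒜 d := fun g => hdeg g.1 g.2
  choose d hd0 hd using hdeg'
  let e := ∏ g : s, d g
  have he : 0 < e := Finset.prod_pos fun g _ => Nat.pos_of_ne_zero (hd0 g)
  have hde : ∀ g, d g ∣ e := fun g => Finset.dvd_prod_of_mem d (Finset.mem_univ g)
  let N := Fintype.card s + 1
  let h := N * e
  have hh : 0 < h := Nat.mul_pos (Nat.succ_pos _) he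
  -- peeling off a sub-exponent of weight `k * e`
  have peel : ∀ (k : ℕ) (a : s → ℕ), N * e + k * e ≤ ∑ g, a g * d g →
      ∃ b : s → ℕ, (∀ g, b g ≤ a g) ∧ ∑ g, b g * d g = k * e := by
    intro k
    induction k with
    | zero => exact fun a _ => ⟨0, fun _ => Nat.zero_le _, by simp⟩
    | succ k ih =>
      intro a ha
      have hk : (k + 1) * e = k * e + e := Nat.succ_mul k e
      obtain ⟨b, hb, hbs⟩ := ih a (by omega)
      have hsplit : ∑ g, a g * d g = ∑ g, (a g - b g) * d g + ∑ g, b g * d g := by
        rw [← Finset.sum_add_distrib]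
        exact Finset.sum_congr rfl fun g _ => by rw [← add_mul, Nat.sub_add_cancel (hb g)]
      obtain ⟨g₀, hg₀⟩ : ∃ g, e ≤ (a g - b g) * d g := by
        by_contra hne
        push_neg at hne
        have hle : ∑ g, (a g - b g) * d g ≤ Fintype.card s * e := by
          rw [← Finset.card_univ, ← smul_eq_mul]
          exact Finset.sum_le_card_nsmul _ _ _ fun g _ => (hne g).le
        have hN : N * e = Fintype.card s * e + e := Nat.succ_mul _ e
        omega
      obtain ⟨q, hq⟩ := hde g₀
      have hqle : q ≤ a g₀ - b g₀ := by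
        rw [hq, mul_comm] at hg₀
        exact Nat.le_of_mul_le_mul_right hg₀ (Nat.pos_of_ne_zero (hd0 g₀))
      refine ⟨fun g => b g + if g = g₀ then q else 0, fun g => ?_, ?_⟩
      · show b g + _ ≤ a g
        have := hb g
        split_ifs with hg
        · subst hg; omega
        · omega
      · simp only [add_mul, Finset.sum_add_distrib, hbs, ite_mul, zero_mul, Finset.sum_ite_eq',
          Finset.mem_univ, if_true]
        rw [hq]
        ring
  have hmono : ∀ a : s → ℕ, (∏ g : s, (g : A) ^ a g) ∈ 𝒜 (∑ g, a g * d g) := fun a =>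
    SetLike.prod_mem_graded 𝒜 (fun g => a g * d g) (fun g => (g : A) ^ a g) fun g _ => by
      rw [← smul_eq_mul]; exact SetLike.pow_mem_graded (a g) (hd g)
  have hcl : ∀ x ∈ Submonoid.closure (s : Set A), ∃ a : s → ℕ, x = ∏ g : s, (g : A) ^ a g := by
    intro x hx
    induction hx using Submonoid.closure_induction with
    | mem x hx =>
      refine ⟨fun g => if g = ⟨x, hx⟩ then 1 else 0, ?_⟩
      simp only [pow_ite, pow_one, pow_zero, Finset.prod_ite_eq', Finset.mem_univ, if_true]
    | one => exact ⟨0, by simp⟩
    | mul x y _ _ hx hy =>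
      obtain ⟨a, rfl⟩ := hx
      obtain ⟨b, rfl⟩ := hy
      exact ⟨a + b, by simp [pow_add, Finset.prod_mul_distrib]⟩
  have step : ∀ n : ℕ, h + h ≤ n → 𝒜 n ≤ 𝒜 h * 𝒜 (n - h) := by
    intro n hn x hx
    let W : Submodule R A := 𝒜 h * 𝒜 (n - h)
    have hWzero : ∀ r ∈ 𝒜 0, ∀ w ∈ W, r * w ∈ W := by
      intro r hr w hw
      induction hw using Submodule.mul_induction_on' with
      | mem_mul_mem u hu v hv =>
        rw [mul_left_comm]
        refine Submodule.mul_mem_mul hu ?_
        have := SetLike.mul_mem_graded hr hv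
        rwa [zero_add] at this
      | add u _ v _ hu hv => rw [mul_add]; exact add_mem hu hv
    have hall : ∀ y : A, (DirectSum.decompose 𝒜 y n : A) ∈ W := by
      intro y
      have hy : y ∈ Subalgebra.toSubmodule (⊤ : Subalgebra (𝒜 0) A) := trivial
      rw [← hs, Algebra.adjoin_eq_span] at hy
      induction hy using Submodule.span_induction with
      | mem y hy =>
        obtain ⟨a, rfl⟩ := hcl y hy
        by_cases hn' : ∑ g, a g * d g = n
        · rw [DirectSum.decompose_of_mem_same 𝒜 (hn' ▸ hmono a)]
          obtain ⟨b, hb, hbs⟩ := peel N a (by omega)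
          have hab : ∀ g, a g = b g + (a g - b g) := fun g => (Nat.add_sub_cancel' (hb g)).symm
          rw [Finset.prod_congr rfl (fun g _ => by rw [hab g, pow_add]), Finset.prod_mul_distrib]
          refine Submodule.mul_mem_mul ((show ∑ g, b g * d g = h from hbs) ▸ hmono b) ?_
          have : ∑ g, (a g - b g) * d g = n - h := by
            have hsplit : ∑ g, a g * d g = ∑ g, b g * d g + ∑ g, (a g - b g) * d g := by
              rw [← Finset.sum_add_distrib]
              exact Finset.sum_congr rfl fun g _ => by rw [← add_mul, ← hab g]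
            show _ = n - N * e
            omega
          exact this ▸ hmono fun g => a g - b g
        · rw [DirectSum.decompose_of_mem_ne 𝒜 (hmono a) hn']
          exact zero_mem _
      | zero => rw [DirectSum.decompose_zero]; simp
      | add u v _ _ hu hv => rw [DirectSum.decompose_add, DirectSum.add_apply, Submodule.coe_add]; exact add_mem hu hv
      | smul r u _ hu =>
        have : (DirectSum.decompose 𝒜 (r • u) n : A) = (r : A) * DirectSum.decompose 𝒜 u n := by
          show (DirectSum.decompose 𝒜 ((r : A) * u) n : A) = _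
          rw [DirectSum.coe_decompose_mul_of_left_mem_of_le 𝒜 r.2 (Nat.zero_le n), Nat.sub_zero]
        rw [this]
        exact hWzero _ r.2 _ hu
    have := hall x
    rwa [DirectSum.decompose_of_mem_same 𝒜 hx] at this
  refine ⟨h, hh, fun m hm => ?_⟩
  induction m, hm using Nat.le_induction with
  | base => rw [pow_one]; exact congrArg 𝒜 (one_mul h)
  | succ m hm ih =>
    rw [pow_succ', ← ih]
    apply le_antisymm
    · have hm' : h ≤ m * h := Nat.le_mul_of_pos_left h hm
      have := step ((m + 1) * h) (by rw [Nat.succ_mul]; omega)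
      rwa [show (m + 1) * h - h = m * h by rw [Nat.succ_mul]; omega] at this
    · rw [Submodule.mul_le]
      intro u hu v hv
      have := SetLike.mul_mem_graded hu hv
      rwa [show h + m * h = (m + 1) * h by rw [Nat.succ_mul, add_comm]] at this

end Groth.Agent.S4393
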