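import Groth.Statements.S4394
import Groth.Agent.H83.Elem.NaturalGraded

set_option autoImplicit false
universe u
open EGA2

namespace Groth.Agent.S4394

/-- Let S be a ring graded in nonnegative degrees which is an S_0-algebra of finite type. Then for every
integer n > 0 there is m₀ such that S_m ⊆ (S_+)^n for all m ≥ m₀. -/
theorem result {R A : Type u} [CommRing R] [CommRing A] [Algebra R A] (𝒜 : ℕ → Submodule R A) [GradedAlgebra 𝒜] [Algebra.FiniteType (𝒜 0) A]
    (n : ℕ) (hn : 0 < n) :
    ∃ m₀ : ℕ, ∀ m : ℕ, m₀ ≤ m → (𝒜 m : Set A) ⊆ ((HomogeneousIdeal.irrelevant 𝒜).toIdeal ^ n : Ideal A) := by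
  classical
  obtain ⟨G⟩ := Groth.Agent.H83.NaturalGraded.gens_of_finiteType 𝒜 ‹_›
  let D := G.F.sup Prod.fst
  set I := (HomogeneousIdeal.irrelevant 𝒜).toIdeal
  have main : ∀ k m : ℕ, k * D + 1 ≤ m → ∀ a ∈ 𝒜 m, a ∈ I ^ k := by
    intro k
    induction k with
    | zero => intro m _ a _; simp
    | succ k ih =>
      intro m hm a ha
      suffices ∀ z ∈ Ideal.span (Prod.snd '' (G.F : Set (ℕ × A))), ∀ r : A, (DirectSum.decompose 𝒜 (r * z) m : A) ∈ I ^ (k + 1) by
        have h := this a (G.span m a (by omega) ha) 1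
        rwa [one_mul, DirectSum.decompose_of_mem_same 𝒜 ha] at h
      intro z hz
      induction hz using Submodule.span_induction with
      | zero => intro r; simp
      | add u v _ _ hu hv =>
        intro r; rw [mul_add, DirectSum.decompose_add, DirectSum.add_apply, Submodule.coe_add]; exact Ideal.add_mem _ (hu r) (hv r)
      | smul c u _ hu => intro r; rw [smul_eq_mul, ← mul_assoc]; exact hu _
      | mem z hz =>
        obtain ⟨f, hf, rfl⟩ := hz
        intro r
        induction r using DirectSum.Decomposition.inductionOn 𝒜 with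
        | zero => simp
        | add u v hu hv => rw [add_mul, DirectSum.decompose_add, DirectSum.add_apply, Submodule.coe_add]; exact Ideal.add_mem _ hu hv
        | @homogeneous l r =>
          have hmem : (r : A) * f.2 ∈ 𝒜 (l + f.1) := SetLike.GradedMul.mul_mem r.2 (G.mem f hf).1
          by_cases h : l + f.1 = m
          · have hfD : f.1 ≤ D := Finset.le_sup (f := Prod.fst) hf
            subst h
            rw [DirectSum.decompose_of_mem_same 𝒜 hmem, pow_succ]
            refine Ideal.mul_mem_mul (ih l ?_ _ r.2) (HomogeneousIdeal.mem_irrelevant_of_mem 𝒜 (G.mem f hf).2 (G.mem f hf).1)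
            rw [add_mul, one_mul] at hm; omega
          · rw [DirectSum.decompose_of_mem_ne 𝒜 hmem h]; exact Ideal.zero_mem _
  exact ⟨n * D + 1, fun m hm a ha => main n m hm a ha⟩

end Groth.Agent.S4394
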