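import Groth.Statements.S4395
import Mathlib

set_option autoImplicit false
universe u
open EGA2

namespace Groth.Agent.S4395

open DirectSum in
theorem exists_not_mem_tail {R A : Type u} [CommRing R] [CommRing A] [Algebra R A] (𝒜 : ℕ → Submodule R A)
    [GradedAlgebra 𝒜] (n₀ : ℕ) (𝔭 : HomogeneousIdeal 𝒜) (hP : 𝔭.toIdeal.IsPrime)
    (hirr : ¬ HomogeneousIdeal.irrelevant 𝒜 ≤ 𝔭) :
    ∃ n, n₀ ≤ n ∧ ∃ f ∈ 𝒜 n, f ∉ 𝔭.toIdeal := by
  classical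
  by_contra hcon
  push Not at hcon
  refine hirr fun x hx => ?_
  show x ∈ 𝔭.toIdeal
  rw [← DirectSum.sum_support_decompose 𝒜 x]
  refine Ideal.sum_mem _ fun i _ => ?_
  rcases Nat.eq_zero_or_pos i with rfl | hi
  · have h0 : (DirectSum.decompose 𝒜 x 0 : A) = 0 := by
      have := (HomogeneousIdeal.mem_irrelevant_iff 𝒜 x).mp hx
      rwa [GradedRing.proj_apply] at this
    rw [h0]
    exact Ideal.zero_mem _
  · apply hP.mem_of_pow_mem (n₀ + 1)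
    exact hcon _ (le_trans (Nat.le_succ n₀) (Nat.le_mul_of_pos_right (n₀ + 1) hi)) _
      (by rw [← smul_eq_mul]; exact SetLike.pow_mem_graded (n₀ + 1) (DirectSum.decompose 𝒜 x i).2)

theorem le_of_tail {R A : Type u} [CommRing R] [CommRing A] [Algebra R A] (𝒜 : ℕ → Submodule R A)
    [GradedAlgebra 𝒜] (n₀ : ℕ) (p : ℕ → AddSubgroup A) (𝔭 𝔮 : HomogeneousIdeal 𝒜)
    (hP : 𝔭.toIdeal.IsPrime) (hQ : 𝔮.toIdeal.IsPrime) (hirr : ¬ HomogeneousIdeal.irrelevant 𝒜 ≤ 𝔭)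
    (hp : ∀ n : ℕ, n₀ ≤ n → (𝔭.toIdeal : Set A) ∩ 𝒜 n = p n)
    (hq : ∀ n : ℕ, n₀ ≤ n → (𝔮.toIdeal : Set A) ∩ 𝒜 n = p n) : 𝔭 ≤ 𝔮 := by
  classical
  intro x hx
  show x ∈ 𝔮.toIdeal
  obtain ⟨n, hn, f, hf, hfP⟩ := exists_not_mem_tail 𝒜 n₀ 𝔭 hP hirr
  rw [← DirectSum.sum_support_decompose 𝒜 x]
  refine Ideal.sum_mem _ fun i _ => ?_
  set y : A := ((DirectSum.decompose 𝒜 x i : 𝒜 i) : A) with hy
  have hyP : y ∈ 𝔭.toIdeal := 𝔭.isHomogeneous i hx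
  have hyA : y ∈ 𝒜 i := (DirectSum.decompose 𝒜 x i).2
  have h1 : y * f ∈ (𝔭.toIdeal : Set A) ∩ 𝒜 (i + n) :=
    ⟨Ideal.mul_mem_right _ _ hyP, SetLike.GradedMul.mul_mem hyA hf⟩
  rw [hp _ (by omega), ← hq _ (by omega)] at h1
  refine (hQ.mem_or_mem h1.1).resolve_right fun hfQ => hfP ?_
  have h2 : f ∈ (𝔮.toIdeal : Set A) ∩ 𝒜 n := ⟨hfQ, hf⟩
  rw [hq n hn, ← hp n hn] at h2
  exact h2.1

/-- Let S be a ring graded in nonnegative degrees, n₀ > 0 an integer and, for every n ≥ n₀, p_n an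
additive subgroup of S_n. Then there is a graded prime ideal p of S not containing S_+ with p ∩ S_n
= p_n for all n ≥ n₀ if and only if: (1) S_m p_n ⊆ p_{m+n} for all m ≥ 0 and n ≥ n₀; (2) for m ≥ n₀,
n ≥ n₀, f ∈ S_m, g ∈ S_n, fg ∈ p_{m+n} implies f ∈ p_m or g ∈ p_n; (3) p_n ≠ S_n for at least one n
≥ n₀. Moreover such a graded prime ideal is unique. -/
theorem result {R A : Type u} [CommRing R] [CommRing A] [Algebra R A] (𝒜 : ℕ → Submodule R A) [GradedAlgebra 𝒜]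
    (n₀ : ℕ) (hn₀ : 0 < n₀) (p : ℕ → AddSubgroup A) (hp : ∀ n : ℕ, n₀ ≤ n → (p n : Set A) ⊆ 𝒜 n) :
    ((∃ 𝔭 : HomogeneousIdeal 𝒜, 𝔭.toIdeal.IsPrime ∧ ¬ HomogeneousIdeal.irrelevant 𝒜 ≤ 𝔭 ∧
        ∀ n : ℕ, n₀ ≤ n → (𝔭.toIdeal : Set A) ∩ 𝒜 n = p n) ↔
      ((∀ m n : ℕ, n₀ ≤ n → ∀ a ∈ 𝒜 m, ∀ b ∈ p n, a * b ∈ p (m + n)) ∧
        (∀ m n : ℕ, n₀ ≤ m → n₀ ≤ n → ∀ f ∈ 𝒜 m, ∀ g ∈ 𝒜 n, f * g ∈ p (m + n) → f ∈ p m ∨ g ∈ p n) ∧
        ∃ n : ℕ, n₀ ≤ n ∧ (p n : Set A) ≠ 𝒜 n)) ∧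
    ∀ 𝔭 𝔮 : HomogeneousIdeal 𝒜, 𝔭.toIdeal.IsPrime → 𝔮.toIdeal.IsPrime →
      ¬ HomogeneousIdeal.irrelevant 𝒜 ≤ 𝔭 → ¬ HomogeneousIdeal.irrelevant 𝒜 ≤ 𝔮 →
      (∀ n : ℕ, n₀ ≤ n → (𝔭.toIdeal : Set A) ∩ 𝒜 n = p n) → (∀ n : ℕ, n₀ ≤ n → (𝔮.toIdeal : Set A) ∩ 𝒜 n = p n) →
      𝔭 = 𝔮 := by
  classical
  refine ⟨⟨?_, ?_⟩, ?_⟩
  · rintro ⟨𝔭, hP, hirr, hpn⟩
    have hmem : ∀ n, n₀ ≤ n → ∀ a ∈ 𝒜 n, (a ∈ p n ↔ a ∈ 𝔭.toIdeal) := fun n hn a ha => by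
      have := Set.ext_iff.mp (hpn n hn) a
      exact ⟨fun h => (this.mpr h).1, fun h => this.mp ⟨h, ha⟩⟩
    refine ⟨fun m n hn a ha b hb => ?_, fun m n hm hn f hf g hg hfg => ?_, ?_⟩
    · rw [hmem _ (by omega) _ (SetLike.GradedMul.mul_mem ha (hp n hn hb))]
      exact Ideal.mul_mem_left _ _ ((hmem n hn b (hp n hn hb)).mp hb)
    · rw [hmem _ (by omega) _ (SetLike.GradedMul.mul_mem hf hg)] at hfg
      exact (hP.mem_or_mem hfg).imp (hmem m hm f hf).mpr (hmem n hn g hg).mpr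
    · obtain ⟨n, hn, f, hf, hfP⟩ := exists_not_mem_tail 𝒜 n₀ 𝔭 hP hirr
      refine ⟨n, hn, fun h => hfP ((hmem n hn f hf).mp ?_)⟩
      have : f ∈ (p n : Set A) := h.symm ▸ hf
      exact this
  · rintro ⟨h1, h2, d, hd, hd'⟩
    obtain ⟨f, hf, hfp⟩ : ∃ f ∈ 𝒜 d, f ∉ p d := by
      by_contra hc
      push Not at hc
      exact hd' (Set.Subset.antisymm (hp d hd) hc)
    let I : ℕ → Set A := fun m => {a | a ∈ 𝒜 m ∧ ∀ n, n₀ ≤ n → ∀ g ∈ 𝒜 n, a * g ∈ p (m + n)}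
    have hIp : ∀ m, n₀ ≤ m → ∀ a, (a ∈ I m ↔ a ∈ p m) := by
      intro m hm a
      refine ⟨fun ha => ?_, fun ha => ⟨hp m hm ha, fun n hn g hg => ?_⟩⟩
      · exact (h2 m d hm hd a ha.1 f hf (ha.2 d hd f hf)).resolve_right hfp
      · rw [mul_comm, add_comm]; exact h1 n m hm g hg a ha
    have hI0 : ∀ m, (0 : A) ∈ I m := fun m =>
      ⟨zero_mem _, fun n _ g _ => by rw [zero_mul]; exact zero_mem _⟩
    have hIadd : ∀ m a b, a ∈ I m → b ∈ I m → a + b ∈ I m := fun m a b ha hb =>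
      ⟨add_mem ha.1 hb.1, fun n hn g hg => by rw [add_mul]; exact add_mem (ha.2 n hn g hg) (hb.2 n hn g hg)⟩
    have hImul : ∀ l m r a, r ∈ 𝒜 l → a ∈ I m → r * a ∈ I (l + m) := fun l m r a hr ha =>
      ⟨SetLike.GradedMul.mul_mem hr ha.1, fun n hn g hg => by
        rw [mul_assoc, add_assoc]; exact h1 l (m + n) (by omega) r hr _ (ha.2 n hn g hg)⟩
    let J : Ideal A := Ideal.span (⋃ m, I m)
    have hJhom : J.IsHomogeneous 𝒜 := Ideal.homogeneous_span 𝒜 _ (by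
      intro a ha
      obtain ⟨m, hm⟩ := Set.mem_iUnion.mp ha
      exact ⟨m, hm.1⟩)
    have hJproj : ∀ x ∈ J, ∀ r m, (DirectSum.decompose 𝒜 (r * x) m : A) ∈ I m := by
      intro x hx
      induction hx using Submodule.span_induction with
      | zero => intro r m; simp [hI0]
      | add u v _ _ hu hv =>
        intro r m
        rw [mul_add, DirectSum.decompose_add, DirectSum.add_apply, Submodule.coe_add]
        exact hIadd m _ _ (hu r m) (hv r m)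
      | smul c u _ hu => intro r m; rw [smul_eq_mul, ← mul_assoc]; exact hu _ m
      | mem x hx =>
        obtain ⟨l, hl⟩ := Set.mem_iUnion.mp hx
        intro r
        induction r using DirectSum.Decomposition.inductionOn 𝒜 with
        | zero => intro m; simp [hI0]
        | add u v hu hv =>
          intro m
          rw [add_mul, DirectSum.decompose_add, DirectSum.add_apply, Submodule.coe_add]
          exact hIadd m _ _ (hu m) (hv m)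
        | @homogeneous i r =>
          intro m
          have hmem := hImul i l r x r.2 hl
          by_cases hm : i + l = m
          · subst hm; rwa [DirectSum.decompose_of_mem_same 𝒜 hmem.1]
          · rw [DirectSum.decompose_of_mem_ne 𝒜 hmem.1 hm]; exact hI0 m
    have hJmem : ∀ m a, a ∈ 𝒜 m → (a ∈ J ↔ a ∈ I m) := by
      intro m a ha
      refine ⟨fun h => ?_, fun h => Ideal.subset_span (Set.mem_iUnion.mpr ⟨m, h⟩)⟩
      have := hJproj a h 1 m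
      rwa [one_mul, DirectSum.decompose_of_mem_same 𝒜 ha] at this
    have hJtop : J ≠ ⊤ := by
      intro h
      refine hfp ((hIp d hd f).mp ?_)
      exact (hJmem d f hf).mp (h ▸ Submodule.mem_top)
    refine ⟨⟨J, hJhom⟩, hJhom.isPrime_of_homogeneous_mem_or_mem hJtop ?_, ?_, ?_⟩
    · rintro x y ⟨i, hx⟩ ⟨j, hy⟩ hxy
      rw [hJmem _ _ (SetLike.GradedMul.mul_mem hx hy)] at hxy
      by_contra hc
      push Not at hc
      rw [hJmem i x hx, hJmem j y hy] at hc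
      obtain ⟨n, hn, g, hg, hgx⟩ : ∃ n, n₀ ≤ n ∧ ∃ g ∈ 𝒜 n, x * g ∉ p (i + n) := by
        by_contra hh; push Not at hh; exact hc.1 ⟨hx, hh⟩
      obtain ⟨n', hn', g', hg', hgy⟩ : ∃ n, n₀ ≤ n ∧ ∃ g ∈ 𝒜 n, y * g ∉ p (j + n) := by
        by_contra hh; push Not at hh; exact hc.2 ⟨hy, hh⟩
      have h3 := hxy.2 (n + n') (by omega) (g * g') (SetLike.GradedMul.mul_mem hg hg')
      rw [mul_mul_mul_comm, add_add_add_comm] at h3
      exact (h2 _ _ (by omega) (by omega) _ (SetLike.GradedMul.mul_mem hx hg) _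
        (SetLike.GradedMul.mul_mem hy hg') h3).elim hgx hgy
    · intro hle
      refine hfp ((hIp d hd f).mp ((hJmem d f hf).mp (hle ?_)))
      exact HomogeneousIdeal.mem_irrelevant_of_mem 𝒜 (lt_of_lt_of_le hn₀ hd) hf
    · intro n hn
      ext a
      refine ⟨fun ⟨h, ha⟩ => (hIp n hn a).mp ((hJmem n a ha).mp h), fun h => ⟨?_, hp n hn h⟩⟩
      exact (hJmem n a (hp n hn h)).mpr ((hIp n hn a).mpr h)
  · intro 𝔭 𝔮 hP hQ hiP hiQ hpn hqn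
    exact le_antisymm (le_of_tail 𝒜 n₀ p 𝔭 𝔮 hP hQ hiP hpn hqn) (le_of_tail 𝒜 n₀ p 𝔮 𝔭 hQ hP hiQ hqn hpn)

end Groth.Agent.S4395
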