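import Groth.Statements.S4396
import Mathlib

set_option autoImplicit false
universe u
open AlgebraicGeometry
open EGA2

namespace Groth.Agent.S4396

/-- Let S be a ring graded in nonnegative degrees, d > 0, and S^{(d)} the graded ring whose degree-n
part is S_{nd} (given here as any graded ring S' with an injective algebra homomorphism φ : S' → S
carrying S'_n onto S_{nd} for every n); let f' ∈ S'_1, with image f = φ(f') ∈ S_d. Then there is a
ring isomorphism between the degree-zero homogeneous localization S_(f) and the quotient S'/(f' -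
1)S', whose inverse sends the class of an element x of S'_n to the fraction φ(x)/f^n. (The module
part of the published statement is not stated here.) -/
theorem result {R A : Type u} [CommRing R] [CommRing A] [Algebra R A] (𝒜 : ℕ → Submodule R A) [GradedAlgebra 𝒜]
    {B : Type u} [CommRing B] [Algebra R B] (ℬ : ℕ → Submodule R B) [GradedAlgebra ℬ]
    (d : ℕ) (hd : 0 < d) (φ : B →ₐ[R] A) (hφ : Function.Injective φ)
    (hdeg : ∀ n : ℕ, Submodule.map φ.toLinearMap (ℬ n) = 𝒜 (n * d)) (f' : B) (hf' : f' ∈ ℬ 1) :
    ∃ e : HomogeneousLocalization.Away 𝒜 (φ f') ≃+* B ⧸ Ideal.span {f' - 1},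
      ∀ (n : ℕ) (x : B), x ∈ ℬ n →
        (e.symm (Ideal.Quotient.mk (Ideal.span {f' - 1}) x)).val =
          Localization.mk (φ x) ⟨φ f' ^ n, pow_mem (Submonoid.mem_powers (φ f')) n⟩ := by
  classical
  have hx : ∀ n x, x ∈ ℬ n → φ x ∈ 𝒜 (n * d) := fun n x hxn => (hdeg n).le ⟨x, hxn, rfl⟩
  have hf : φ f' ∈ 𝒜 d := by
    have := hx 1 f' hf'
    rwa [one_mul] at this
  let mkn : ∀ n, ℬ n → HomogeneousLocalization.Away 𝒜 (φ f') := fun n x =>
    HomogeneousLocalization.Away.mk 𝒜 hf n (φ (x : B)) (by rw [smul_eq_mul]; exact hx n x x.2)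
  have hval : ∀ n (x : ℬ n), (mkn n x).val =
      Localization.mk (φ (x : B)) ⟨φ f' ^ n, pow_mem (Submonoid.mem_powers (φ f')) n⟩ := fun n x =>
    HomogeneousLocalization.Away.val_mk 𝒜 n hf _ (by rw [smul_eq_mul]; exact hx n x x.2)
  let gn : ∀ n, ℬ n →+ HomogeneousLocalization.Away 𝒜 (φ f') := fun n =>
    AddMonoidHom.mk' (mkn n) (fun x y => by
      apply HomogeneousLocalization.val_injective
      rw [HomogeneousLocalization.val_add, hval, hval, hval, Localization.add_mk_self, Submodule.coe_add, map_add])
  have hone : gn 0 (GradedMonoid.GOne.one (A := fun i => ℬ i)) = 1 := by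
    apply HomogeneousLocalization.val_injective
    show (mkn 0 (GradedMonoid.GOne.one (A := fun i => ℬ i))).val = _
    rw [hval, HomogeneousLocalization.val_one]
    have h1 : ((GradedMonoid.GOne.one (A := fun i => ℬ i) : ℬ 0) : B) = 1 := rfl
    rw [h1, map_one, ← Localization.mk_one]
    exact congrArg₂ Localization.mk rfl (Subtype.ext (pow_zero _))
  have hmul : ∀ {i j} (ai : ℬ i) (aj : ℬ j), gn _ (GradedMonoid.GMul.mul (A := fun i => ℬ i) ai aj) = gn _ ai * gn _ aj := by
    intro i j ai aj
    apply HomogeneousLocalization.val_injective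
    show (mkn (i + j) (GradedMonoid.GMul.mul (A := fun i => ℬ i) ai aj)).val = (mkn i ai * mkn j aj).val
    rw [HomogeneousLocalization.val_mul, hval, hval, hval, Localization.mk_mul]
    refine congrArg₂ Localization.mk ?_ (Subtype.ext (pow_add _ _ _))
    exact map_mul φ (ai : B) (aj : B)
  let θ : B →+* HomogeneousLocalization.Away 𝒜 (φ f') :=
    (DirectSum.toSemiring gn hone hmul).comp (DirectSum.decomposeRingEquiv ℬ).toRingHom
  have hθ : ∀ n (x : B) (h : x ∈ ℬ n), θ x = mkn n ⟨x, h⟩ := by
    intro n x h
    show DirectSum.toSemiring gn hone hmul (DirectSum.decompose ℬ x) = _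
    rw [DirectSum.decompose_of_mem ℬ h, DirectSum.toSemiring_of]
    rfl
  have hθval : ∀ n (x : B) (h : x ∈ ℬ n), (θ x).val =
      Localization.mk (φ x) ⟨φ f' ^ n, pow_mem (Submonoid.mem_powers (φ f')) n⟩ := fun n x h => by
    rw [hθ n x h, hval]
  have hsurj : Function.Surjective θ := by
    intro z
    obtain ⟨n, a, ha, rfl⟩ := HomogeneousLocalization.Away.mk_surjective 𝒜 hf z
    obtain ⟨b, hb, hba⟩ : a ∈ Submodule.map φ.toLinearMap (ℬ n) := by
      rw [hdeg]; rwa [smul_eq_mul] at ha
    refine ⟨b, HomogeneousLocalization.val_injective _ ?_⟩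
    rw [hθval n b hb, HomogeneousLocalization.Away.val_mk]
    exact congrArg₂ Localization.mk hba rfl
  have hf1 : θ f' = 1 := by
    apply HomogeneousLocalization.val_injective
    rw [hθval 1 f' hf', HomogeneousLocalization.val_one, Localization.mk_eq_mk', IsLocalization.mk'_eq_iff_eq_mul]
    simp
  set J := Ideal.span {f' - 1} with hJ
  have hker : RingHom.ker θ = J := by
    refine le_antisymm (fun b hb => ?_) ?_
    · rw [RingHom.mem_ker] at hb
      set s := DFinsupp.support (DirectSum.decompose ℬ b)
      set N := s.sup id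
      have hle : ∀ i ∈ s, i ≤ N := fun i hi => Finset.le_sup (f := id) hi
      set y : B := ∑ i ∈ s, (DirectSum.decompose ℬ b i : B) * f' ^ (N - i) with hy
      have hyN : y ∈ ℬ N := Submodule.sum_mem _ fun i hi => by
        have := SetLike.GradedMul.mul_mem (DirectSum.decompose ℬ b i).2 (SetLike.pow_mem_graded (N - i) hf')
        simpa [smul_eq_mul, Nat.add_sub_cancel' (hle i hi)] using this
      have hq : Ideal.Quotient.mk J f' = 1 := by
        rw [← (Ideal.Quotient.mk J).map_one, Ideal.Quotient.eq]
        exact Ideal.mem_span_singleton_self _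
      have hby : Ideal.Quotient.mk J b = Ideal.Quotient.mk J y := by
        conv_lhs => rw [← DirectSum.sum_support_decompose ℬ b]
        rw [hy, map_sum, map_sum]
        exact Finset.sum_congr rfl fun i _ => by rw [map_mul, map_pow, hq, one_pow, mul_one]
      have hθy : θ y = θ b := by
        conv_rhs => rw [← DirectSum.sum_support_decompose ℬ b]
        rw [hy, map_sum, map_sum]
        exact Finset.sum_congr rfl fun i _ => by rw [map_mul, map_pow, hf1, one_pow, mul_one]
      have h0 := congrArg HomogeneousLocalization.val (hθy.trans hb)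
      rw [hθval N y hyN, HomogeneousLocalization.val_zero, Localization.mk_eq_mk',
        IsLocalization.mk'_eq_zero_iff] at h0
      obtain ⟨⟨_, ⟨j, rfl⟩⟩, hc⟩ := h0
      have hc' : f' ^ j * y = 0 := hφ (by rw [map_mul, map_pow, map_zero]; exact hc)
      rw [← Ideal.Quotient.eq_zero_iff_mem, hby]
      have := congrArg (Ideal.Quotient.mk J) hc'
      rwa [map_mul, map_pow, hq, one_pow, one_mul, map_zero] at this
    · rw [hJ, Ideal.span_le, Set.singleton_subset_iff, SetLike.mem_coe, RingHom.mem_ker, map_sub, hf1, map_one, sub_self]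
  let e0 := RingHom.quotientKerEquivOfSurjective hsurj
  refine ⟨((Ideal.quotEquivOfEq hker.symm).trans e0).symm, fun n x h => ?_⟩
  rw [RingEquiv.symm_symm]
  exact hθval n x h

end Groth.Agent.S4396
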