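import Groth.Statements.S4398
import Groth.Agent.Lib.ProjGlue.MapLocal
-- import your own Groth.Agent.* helpers here

set_option autoImplicit false
universe u
open AlgebraicGeometry
open EGA2

open CategoryTheory

namespace Groth.Agent.S4398

/-- Let φ : S' → S be a homomorphism of rings graded in nonnegative degrees which maps S'_n bijectively
onto S_n for every n > 0, so that S_+ lies in the ideal generated by φ(S'_+) (stated as a hypothesis
because the induced morphism is built from it). Then the induced morphism Proj S → Proj S' is an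
isomorphism of schemes. (The published statement treats the cases S'_0 = ℤ and S'_0 = A with S'_n =
S_n for n > 0; this row allows any graded φ that is bijective in positive degrees.) -/
theorem result {R A : Type u} [CommRing R] [CommRing A] [Algebra R A] (𝒜 : ℕ → Submodule R A) [GradedAlgebra 𝒜]
    {B : Type u} [CommRing B] [Algebra R B] (ℬ : ℕ → Submodule R B) [GradedAlgebra ℬ]
    (φ : ℬ →+*ᵍ 𝒜) (hbij : ∀ n : ℕ, 0 < n → Set.BijOn φ (ℬ n) (𝒜 n))
    (hφ : HomogeneousIdeal.irrelevant 𝒜 ≤ (HomogeneousIdeal.irrelevant ℬ).map φ) :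
    CategoryTheory.IsIso (Proj.map φ hφ) := by
  refine Groth.Agent.Lib.ProjGlue.MapLocal.of_charts φ hφ (CategoryTheory.MorphismProperty.isomorphisms Scheme.{u})
    fun i b hi hb => ?_
  have hbij : Function.Bijective (HomogeneousLocalization.Away.map φ b) := by
    refine ⟨(injective_iff_map_eq_zero _).2 fun z hz => ?_, fun z => ?_⟩
    · obtain ⟨n, x, hx, rfl⟩ := HomogeneousLocalization.Away.mk_surjective ℬ hb z
      rw [HomogeneousLocalization.Away.map_mk] at hz
      have hz' := congrArg HomogeneousLocalization.val hz
      rw [HomogeneousLocalization.Away.val_mk, HomogeneousLocalization.val_zero, Localization.mk_eq_mk',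
        IsLocalization.mk'_eq_zero_iff] at hz'
      obtain ⟨⟨_, k, rfl⟩, hk⟩ := hz'
      refine HomogeneousLocalization.val_injective _ ?_
      rw [HomogeneousLocalization.Away.val_mk, HomogeneousLocalization.val_zero, Localization.mk_eq_mk',
        IsLocalization.mk'_eq_zero_iff]
      refine ⟨⟨b ^ (k + 1), k + 1, rfl⟩, ?_⟩
      have hd : b ^ (k + 1) * x ∈ ℬ ((k + 1) • i + n • i) :=
        SetLike.mul_mem_graded (SetLike.pow_mem_graded _ hb) hx
      refine (hbij ((k + 1) • i + n • i) (by simp only [smul_eq_mul]; positivity)).injOn hd (zero_mem _) ?_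
      change φ b ^ k * φ x = 0 at hk
      rw [map_mul, map_pow, map_zero, pow_succ', mul_assoc, hk, mul_zero]
    · obtain ⟨n, a, ha, rfl⟩ := HomogeneousLocalization.Away.mk_surjective 𝒜 (φ.map_mem hb) z
      have ha' : a * φ b ∈ 𝒜 ((n + 1) • i) := by
        rw [add_smul, one_smul]; exact SetLike.mul_mem_graded ha (φ.map_mem hb)
      obtain ⟨x, hx, hxa⟩ := (hbij ((n + 1) • i) (by simp only [smul_eq_mul]; positivity)).surjOn ha'
      refine ⟨HomogeneousLocalization.Away.mk ℬ hb (n + 1) x hx, HomogeneousLocalization.val_injective _ ?_⟩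
      rw [HomogeneousLocalization.Away.map_mk, HomogeneousLocalization.Away.val_mk,
        HomogeneousLocalization.Away.val_mk, Localization.mk_eq_mk_iff, Localization.r_iff_exists]
      refine ⟨1, ?_⟩
      change 1 * (φ b ^ n * φ x) = 1 * (φ b ^ (n + 1) * a)
      rw [hxa]; ring
  haveI : IsIso (CommRingCat.ofHom (HomogeneousLocalization.Away.map φ b)) :=
    (ConcreteCategory.isIso_iff_bijective _).2 hbij
  exact (inferInstance : IsIso (Spec.map (CommRingCat.ofHom (HomogeneousLocalization.Away.map φ b))))

end Groth.Agent.S4398
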