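import Groth.Statements.S4403
import Groth.Agent.Lib.H70.DomMap
import Groth.Agent.Lib.H70.TransposeGen
import Groth.Agent.Lib.ProjTilde.QCoh

set_option autoImplicit false
universe u
open CategoryTheory CategoryTheory.Limits AlgebraicGeometry
open EGA2

set_option linter.style.haveILetI false
noncomputable section

namespace Groth.Agent.S4403
open TopologicalSpace Opposite Groth.Agent.Lib.H70.DomMap Groth.Agent.Lib.ProjTilde.Frac

section

variable {R A : Type u} [CommRing R] [CommRing A] [Algebra R A] {𝒜 : ℕ → Submodule R A} [GradedAlgebra 𝒜]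

theorem isFrac_mem {n : ℤ} {i j : ℕ} {a s : A} (ha : a ∈ 𝒜 i) (hs : s ∈ 𝒜 j) {x : ProjectiveSpectrum 𝒜}
    (hsx : s ∉ x.asHomogeneousIdeal) (h : (i : ℤ) = j + n ∨ a = 0) :
    Localization.mk a ⟨s, hsx⟩ ∈ Twist.twistAt 𝒜 n x := by
  rcases h with h | h
  · exact Submodule.subset_span ⟨i, j, ⟨a, ha⟩, ⟨s, hs⟩, hsx, h, rfl⟩
  · subst h; rw [Localization.mk_zero]; exact zero_mem _

/-- A family of values that is locally one fraction of degree `n` gives a section of `O(n)`. -/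
def twistSec {n : ℤ} {U : Opens (ProjectiveSpectrum.top 𝒜)} (v : ∀ x : U, Twist.Loc 𝒜 x.1)
    (h : ∀ x : U, ∃ (V : Opens (ProjectiveSpectrum.top 𝒜)) (_ : x.1 ∈ V) (i j : ℕ) (a s : A), a ∈ 𝒜 i ∧
      s ∈ 𝒜 j ∧ ((i : ℤ) = j + n ∨ a = 0) ∧ ∀ y : U, y.1 ∈ V →
        ∃ hy : s ∉ y.1.asHomogeneousIdeal, v y = Localization.mk a ⟨s, hy⟩) :
    Twist.sectN (𝒜 := 𝒜) n (op U) :=
  ⟨fun x => ⟨v x, by
      obtain ⟨V, hxV, i, j, a, s, ha, hs, hij, hv⟩ := h x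
      obtain ⟨hsx, hx⟩ := hv x hxV
      rw [hx]
      exact isFrac_mem ha hs hsx hij⟩,
    fun x => by
      obtain ⟨V, hxV, i, j, a, s, ha, hs, hij, hv⟩ := h x
      exact ⟨V ⊓ U, ⟨hxV, x.2⟩, Opens.infLERight _ _, i, j, ⟨a, ha⟩, ⟨s, hs⟩,
        fun y => (hv ⟨y.1, y.2.2⟩ y.2.1).1, hij, fun y => (hv ⟨y.1, y.2.2⟩ y.2.1).2⟩⟩

theorem sectN_ext {n : ℤ} {U : Opens (ProjectiveSpectrum.top 𝒜)} {σ τ : Twist.sectN (𝒜 := 𝒜) n (op U)}
    (h : ∀ x : U, ((σ.1 x : Twist.twistAt 𝒜 n x.1) : Twist.Loc 𝒜 x.1) = (τ.1 x).1) : σ = τ :=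
  Subtype.ext (funext fun x => Subtype.ext (h x))

variable {g : A}

theorem pow_notMem {x : ProjectiveSpectrum 𝒜} (hx : g ∉ x.asHomogeneousIdeal) (k : ℕ) :
    g ^ k ∉ x.asHomogeneousIdeal := fun h => hx (x.isPrime.mem_of_pow_mem k h)

/-- `g ^ n` at a point of `D₊(g)`. -/
abbrev genVal (n : ℤ) (x : ProjectiveSpectrum 𝒜) (hx : g ∉ x.asHomogeneousIdeal) : Twist.Loc 𝒜 x :=
  Localization.mk (g ^ n.toNat) ⟨g ^ (-n).toNat, pow_notMem hx _⟩

theorem genVal_mul (n : ℤ) (x : ProjectiveSpectrum 𝒜) (hx : g ∉ x.asHomogeneousIdeal) :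
    genVal n x hx * genVal (-n) x hx = 1 := by
  rw [Localization.mk_mul, ← Localization.mk_one, Localization.mk_eq_mk_iff, Localization.r_iff_exists]
  exact ⟨1, by simp [mul_comm]⟩

variable (hg : g ∈ 𝒜 1)

/-- The section `g ^ n` of `O(n)` on `D₊(g)`. -/
def gen (n : ℤ) {U : Opens (ProjectiveSpectrum.top 𝒜)} (hU : U ≤ ProjectiveSpectrum.basicOpen 𝒜 g) :
    Twist.sectN (𝒜 := 𝒜) n (op U) :=
  twistSec (fun x => genVal n x.1 (hU x.2)) fun x =>
    ⟨U, x.2, n.toNat, (-n).toNat, g ^ n.toNat, g ^ (-n).toNat,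
      by simpa using SetLike.pow_mem_graded n.toNat hg,
      by simpa using SetLike.pow_mem_graded (-n).toNat hg, Or.inl (by omega),
      fun y hy => ⟨pow_notMem (hU hy) _, rfl⟩⟩

include hg in
theorem smul_gen_bijective (n : ℤ) {U : Opens (ProjectiveSpectrum.top 𝒜)}
    (hU : U ≤ ProjectiveSpectrum.basicOpen 𝒜 g) :
    Function.Bijective fun r : Twist.O (𝒜 := 𝒜) (op U) => r • gen hg n hU := by
  classical
  have hval : ∀ (r : Twist.O (𝒜 := 𝒜) (op U)) (x : U),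
      (((r • gen hg n hU).1 x : Twist.twistAt 𝒜 n x.1) : Twist.Loc 𝒜 x.1) =
        (r.1 x).val * genVal n x.1 (hU x.2) := fun r x => by
    show ((r.1 x • (gen hg n hU).1 x : Twist.twistAt 𝒜 n x.1) : Twist.Loc 𝒜 x.1) = _
    rw [Twist.coe_smul_val]
    rfl
  constructor
  · intro r s hrs
    refine Subtype.ext (funext fun x => HomogeneousLocalization.val_injective _ ?_)
    have h := congrArg (fun τ : Twist.sectN (𝒜 := 𝒜) n (op U) => (τ.1 x : Twist.Loc 𝒜 x.1)) hrs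
    simp only [hval] at h
    rw [← mul_one (r.1 x).val, ← mul_one (s.1 x).val, ← genVal_mul n x.1 (hU x.2), ← mul_assoc,
      ← mul_assoc, h]
  · intro σ
    have H : ∀ x : U, ∃ (V : Opens (ProjectiveSpectrum.top 𝒜)) (_ : x.1 ∈ V) (k : ℕ) (a s : A),
        a ∈ 𝒜 k ∧ s ∈ 𝒜 k ∧ ∀ y : U, y.1 ∈ V → ∃ hy : s ∉ y.1.asHomogeneousIdeal,
          (σ.1 y).1 * genVal (-n) y.1 (hU y.2) = Localization.mk a ⟨s, hy⟩ := by
      intro x
      obtain ⟨V, hxV, iV, i, j, ⟨a, ha⟩, ⟨s, hs⟩, hnin, hij, hw⟩ := σ.2 x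
      by_cases ha0 : a = 0
      · refine ⟨V, hxV, j, 0, s, zero_mem _, hs, fun y hy => ⟨hnin ⟨y.1, hy⟩, ?_⟩⟩
        have := hw ⟨y.1, hy⟩
        erw [this]
        simp only [ha0, Localization.mk_zero, zero_mul]
      · refine ⟨V, hxV, j + n.toNat, a * g ^ (-n).toNat, s * g ^ n.toNat, ?_,
          SetLike.mul_mem_graded hs (by simpa using SetLike.pow_mem_graded n.toNat hg),
          fun y hy => ⟨fun h => (y.1.isPrime.mem_or_mem h).elim (hnin ⟨y.1, hy⟩) (pow_notMem (hU y.2) _), ?_⟩⟩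
        · have h1 : i + (-n).toNat = j + n.toNat := by
            have := hij.resolve_right ha0
            omega
          exact h1 ▸ SetLike.mul_mem_graded ha (by simpa using SetLike.pow_mem_graded (-n).toNat hg)
        · have := hw ⟨y.1, hy⟩
          erw [this]
          simp only [genVal, neg_neg, Localization.mk_mul]
          rfl
    have Hx : ∀ x : U, ∃ q : Twist.A0 𝒜 x.1, q.val = (σ.1 x).1 * genVal (-n) x.1 (hU x.2) := fun x => by
      obtain ⟨V, hxV, k, a, s, ha, hs, hy⟩ := H x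
      obtain ⟨hsx, h⟩ := hy x hxV
      exact ⟨HomogeneousLocalization.mk ⟨k, ⟨a, ha⟩, ⟨s, hs⟩, hsx⟩, by rw [h, HomogeneousLocalization.val_mk]⟩
    choose r hr using Hx
    let r' : Twist.O (𝒜 := 𝒜) (op U) := ⟨r, fun x => by
      obtain ⟨V, hxV, k, a, s, ha, hs, hy⟩ := H x
      exact ⟨V ⊓ U, ⟨hxV, x.2⟩, Opens.infLERight _ _, k, ⟨a, ha⟩, ⟨s, hs⟩,
        fun y => (hy ⟨y.1, y.2.2⟩ y.2.1).1, fun y => HomogeneousLocalization.val_injective _ (by
          rw [HomogeneousLocalization.val_mk]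
          exact (hr ⟨y.1, y.2.2⟩).trans (hy ⟨y.1, y.2.2⟩ y.2.1).2)⟩⟩
    refine ⟨r', sectN_ext fun x => ?_⟩
    rw [hval]
    show (r x).val * _ = _
    rw [hr, mul_assoc, mul_comm (genVal (-n) _ _), genVal_mul, mul_one]

variable {B : Type u} [CommRing B] [Algebra R B] {ℬ : ℕ → Submodule R B} [GradedAlgebra ℬ] {φ : 𝒜 →+*ᵍ ℬ}
  {p : (PCone.dom φ : Scheme.{u}) ⟶ Proj 𝒜} (hp : IsDomMap p)

/-- `a / s ↦ φ a / φ s`. -/
def comapSec (n : ℤ) (U : (Proj 𝒜).Opens) (σ : Twist.sectN (𝒜 := 𝒜) n (op U)) :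
    Twist.sectN (𝒜 := ℬ) n (op ((PCone.dom φ).ι ''ᵁ (p ⁻¹ᵁ U))) :=
  twistSec (fun z => locMap hp ⟨z.1, by obtain ⟨w, -, hw⟩ := z.2; exact hw ▸ w.2⟩
      (σ.1 ⟨p ⟨z.1, by obtain ⟨w, -, hw⟩ := z.2; exact hw ▸ w.2⟩,
        by
          obtain ⟨w, hw, h⟩ := z.2
          exact (show w = ⟨z.1, h ▸ w.2⟩ from Subtype.ext h) ▸ hw⟩).1) fun z => by
    obtain ⟨⟨z', hz'⟩, hw, rfl⟩ := z.2
    obtain ⟨V, hxV, iV, i, j, ⟨a, ha⟩, ⟨s, hs⟩, hnin, hij, hw'⟩ := σ.2 ⟨p ⟨z.1, hz'⟩, hw⟩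
    refine ⟨(PCone.dom φ).ι ''ᵁ (p ⁻¹ᵁ V), ⟨⟨z.1, hz'⟩, hxV, rfl⟩, i, j, φ a, φ s, φ.map_mem ha,
      φ.map_mem hs, hij.imp id (fun h => by simp only at h; rw [h]; exact map_zero φ.toRingHom), fun y hy => ?_⟩
    obtain ⟨⟨y', hy'⟩, hyV, rfl⟩ := hy
    have hs' : φ s ∉ y.1.asHomogeneousIdeal := fun h => hnin ⟨p ⟨y.1, hy'⟩, hyV⟩
      ((SetLike.ext_iff.1 (comap_eq hp ⟨y.1, hy'⟩) s).2 h)
    refine ⟨hs', ?_⟩
    refine (congrArg (locMap hp ⟨y.1, hy'⟩) (hw' ⟨p ⟨y.1, hy'⟩, hyV⟩)).trans ?_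
    exact locMap_mk hp _ a s _ hs'

/-- The comparison map on sections. -/
def comapHom (n : ℤ) :
    Twist.twist 𝒜 n ⟶ (Scheme.Modules.pushforward p).obj ((Twist.twist ℬ n).restrict (PCone.dom φ).ι) :=
  Groth.Agent.Lib.ProjTilde.Hom.homMk
    (fun U => AddMonoidHom.mk' (fun σ => comapSec hp n U σ) fun σ τ => sectN_ext fun z =>
      (congrArg (locMap hp _) rfl).trans (map_add (locMap hp _) _ _))
    (fun U r σ => sectN_ext fun z => by
      obtain ⟨⟨z', hz'⟩, hw, rfl⟩ := z.2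
      refine Eq.trans ?_ (Twist.coe_smul_val n z.1 _ _).symm
      refine Eq.trans (congrArg (locMap hp _) (Twist.coe_smul_val n _ _ _)) ?_
      rw [map_mul]
      refine congrArg₂ (· * ·) ?_ rfl
      refine (val_app hp r ⟨z.1, hz'⟩ hw z.2).symm.trans ?_
      exact congrArg (fun t : (ProjectiveSpectrum.Proj.structureSheaf ℬ).1.obj
          (op ((PCone.dom φ).ι ''ᵁ (p ⁻¹ᵁ U))) => (t.1 z).val)
        (congr($(congrArg Iso.inv (Scheme.Opens.ι_appIso (PCone.dom φ) (p ⁻¹ᵁ U))) (p.app U r))).symm)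
    (fun U V h σ => rfl)

end

/-- Let φ : S' → S be a homomorphism of rings graded in nonnegative degrees such that the irrelevant
ideal of S' is generated by its degree-one elements, G(φ) ⊆ Proj S the open on which the morphism Φ
: G(φ) → Proj S' induced by φ is defined (Φ is characterised by its restrictions to the standard
charts), and n an integer. Then Φ^*(O(n)) is isomorphic to the restriction of O(n) from Proj S to
G(φ). (Existence of an isomorphism only; the published one is the canonical map ν.) -/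
theorem result {R A : Type u} [CommRing R] [CommRing A] [Algebra R A] (𝒜 : ℕ → Submodule R A) [GradedAlgebra 𝒜]
    {B : Type u} [CommRing B] [Algebra R B] (ℬ : ℕ → Submodule R B) [GradedAlgebra ℬ] (φ : 𝒜 →+*ᵍ ℬ)
    (hgen : (HomogeneousIdeal.irrelevant 𝒜).toIdeal = Ideal.span (𝒜 1 : Set A))
    (p : (PCone.dom φ : Scheme.{u}) ⟶ Proj 𝒜)
    (hp : ∀ (d : ℕ) (f : A) (hd : 0 < d) (hf : f ∈ 𝒜 d),
        PCone.chart φ hf hd ≫ p =
          Spec.map (CommRingCat.ofHom (HomogeneousLocalization.Away.map φ f)) ≫ Proj.awayι 𝒜 f hf hd)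
    (n : ℤ) :
    Nonempty ((Scheme.Modules.pullback p).obj (Twist.twist 𝒜 n) ≅ (Twist.twist ℬ n).restrict (PCone.dom φ).ι) := by
  haveI : (Twist.twist 𝒜 n).IsQuasicoherent := Groth.Agent.Lib.ProjTilde.QCoh.twist_isQCoh n
  refine ⟨@asIso _ _ _ _ _ (Groth.Agent.Lib.H70.TransposeGen.isIso_transpose_of_gen p (comapHom hp n) fun x => ?_)⟩
  obtain ⟨f, hf, hfx⟩ : ∃ f ∈ 𝒜 1, f ∉ (p x).asHomogeneousIdeal := by
    by_contra h
    push Not at h
    refine (p x).not_irrelevant_le ?_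
    change (HomogeneousIdeal.irrelevant 𝒜).toIdeal ≤ (p x).asHomogeneousIdeal.toIdeal
    rw [hgen, Ideal.span_le]
    exact h
  refine ⟨Proj.basicOpen 𝒜 f, Proj.isAffineOpen_basicOpen 𝒜 f hf Nat.one_pos, hfx,
    gen hf n (le_refl _), (smul_gen_bijective hf n (le_refl _)).2, fun W hW _ => ?_⟩
  have hW' : (PCone.dom φ).ι ''ᵁ W ≤ Proj.basicOpen ℬ (φ f) := by
    rintro _ ⟨y, hy, rfl⟩
    exact (notMem_iff hp Nat.one_pos hf y).1 (hW hy)
  have key : (((Twist.twist ℬ n).restrict (PCone.dom φ).ι).presheaf.map (homOfLE hW).op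
      ((comapHom hp n).app (Proj.basicOpen 𝒜 f) (gen hf n (le_refl _))) :
        Twist.sectN (𝒜 := ℬ) n (op ((PCone.dom φ).ι ''ᵁ W))) = gen (φ.map_mem hf) n hW' := by
    refine sectN_ext fun z => ?_
    obtain ⟨⟨z', hz'⟩, hw, rfl⟩ := z.2
    have h1 : φ (f ^ (-n).toNat) ∉ z.1.asHomogeneousIdeal := by
      rw [show φ (f ^ (-n).toNat) = φ f ^ (-n).toNat from map_pow φ.toRingHom f _]
      exact pow_notMem (hW' z.2) _
    refine (locMap_mk hp ⟨z.1, hz'⟩ _ _ _ h1).trans ?_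
    exact congrArg₂ Localization.mk (map_pow φ.toRingHom f _) (Subtype.ext (map_pow φ.toRingHom f _))
  rw [key]
  exact (smul_gen_bijective (φ.map_mem hf) n hW').comp
    (ConcreteCategory.bijective_of_isIso ((PCone.dom φ).ι.appIso W).inv)

end Groth.Agent.S4403
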