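import Groth.Statements.S4405
import Mathlib.RingTheory.GradedAlgebra.Homogeneous.Ideal
import Mathlib.RingTheory.GradedAlgebra.Radical

set_option autoImplicit false
universe u
open EGA2

namespace Groth.Agent.S4405

/-- Let S be a ring graded in nonnegative degrees and E any subset of the irrelevant ideal S_+. Then the
intersection of S_+ with the vanishing ideal of the closed subset V_+(E) of Proj S equals the
intersection of S_+ with the radical of the graded ideal generated by E (the smallest homogeneous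
ideal containing E). -/
theorem result {R A : Type u} [CommRing R] [CommRing A] [Algebra R A] (𝒜 : ℕ → Submodule R A) [GradedAlgebra 𝒜]
    (E : Set A) (hE : E ⊆ (HomogeneousIdeal.irrelevant 𝒜).toIdeal) :
    (HomogeneousIdeal.irrelevant 𝒜).toIdeal ⊓
        (ProjectiveSpectrum.vanishingIdeal (ProjectiveSpectrum.zeroLocus 𝒜 E)).toIdeal =
      (HomogeneousIdeal.irrelevant 𝒜).toIdeal ⊓ (Ideal.homogeneousHull 𝒜 (Ideal.span E)).toIdeal.radical := by
  set H := Ideal.homogeneousHull 𝒜 (Ideal.span E) with hH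
  refine le_antisymm (fun f hf => (⟨hf.1, ?a⟩ : f ∈ _ ∧ f ∈ _)) (fun f hf => (⟨hf.1, ?b⟩ : f ∈ _ ∧ f ∈ _))
  · change f ∈ H.toIdeal.radical
    by_contra hfH
    rw [Ideal.radical_eq_sInf, Submodule.mem_sInf] at hfH
    push Not at hfH
    obtain ⟨P, ⟨hHP, hP⟩, hfP⟩ := hfH
    have hcore : H.toIdeal ≤ (Ideal.homogeneousCore 𝒜 P).toIdeal := by
      have h1 := Ideal.homogeneousCore_mono 𝒜 hHP
      have h2 : (Ideal.homogeneousCore 𝒜 H.toIdeal).toIdeal = H.toIdeal :=
        Ideal.IsHomogeneous.toIdeal_homogeneousCore_eq_self H.isHomogeneous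
      exact h2 ▸ h1
    have hle := Ideal.toIdeal_homogeneousCore_le 𝒜 P
    let x : ProjectiveSpectrum 𝒜 :=
      ⟨Ideal.homogeneousCore 𝒜 P, Ideal.IsPrime.homogeneousCore hP, fun h => hfP (hle (h hf.1))⟩
    have hx : x ∈ ProjectiveSpectrum.zeroLocus 𝒜 E := fun e he =>
      hcore (Ideal.le_toIdeal_homogeneousHull 𝒜 _ (Ideal.subset_span he))
    exact hfP (hle (show f ∈ x.asHomogeneousIdeal from (ProjectiveSpectrum.mem_vanishingIdeal _ f).1 hf.2 x hx))
  · refine (ProjectiveSpectrum.mem_vanishingIdeal _ f).2 fun x hx => ?_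
    have hH' : H.toIdeal ≤ x.asHomogeneousIdeal.toIdeal := by
      have hspan : Ideal.span E ≤ x.asHomogeneousIdeal.toIdeal := Ideal.span_le.2 hx
      rw [hH]
      exact (Ideal.homogeneousHull_mono 𝒜 hspan).trans_eq
        (HomogeneousIdeal.homogeneousHull_toIdeal_eq_self x.asHomogeneousIdeal)
    have hH'' : H.toIdeal ≤ x.asHomogeneousIdeal.toIdeal := hH'
    have h3 : H.toIdeal.radical ≤ x.asHomogeneousIdeal.toIdeal :=
      (Ideal.IsRadical.radical_le_iff x.isPrime.isRadical).2 hH''
    exact h3 hf.2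

end Groth.Agent.S4405
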