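import Groth.Statements.S4409
import Groth.Agent.Lib.Ample.QAffCounit

set_option autoImplicit false
universe u
open CategoryTheory CategoryTheory.Limits AlgebraicGeometry
open EGA2

namespace Groth.Agent.S4409

/-- (a) ⇔ (d): let f : X → Y be a quasi-compact morphism. Then f is quasi-affine (the preimage of every
affine open of Y is a quasi-affine scheme) if and only if f is separated and, for every
quasi-coherent O_X-module F, the canonical morphism f^*(f_*(F)) → F (counit of the adjunction
between f^* and f_*) is an epimorphism. -/
theorem result {X Y : Scheme.{u}} (f : X ⟶ Y) [QuasiCompact f] :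
    Mor2.IsQuasiAffine f ↔ (IsSeparated f ∧ ∀ F : X.Modules, Coh.IsQCoh F →
      Epi ((Scheme.Modules.pullbackPushforwardAdjunction f).counit.app F)) := by
  constructor
  · intro hf
    refine ⟨?_, fun F hF => ?_⟩
    · rw [IsZariskiLocalAtTarget.iff_of_iSup_eq_top (P := @IsSeparated.{u}) _ (iSup_affineOpens_eq_top Y)]
      intro V
      haveI : Scheme.IsQuasiAffine (f ⁻¹ᵁ V.1 : Scheme.{u}) := hf.2 V.1 V.2
      infer_instance
    · haveI : F.IsQuasicoherent := hF
      exact Groth.Agent.Lib.Ample.QAffCounit.epi_counit f hf F
  · rintro ⟨hs, h⟩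
    exact Groth.Agent.Lib.Ample.QAffCounit.isQuasiAffine f h

end Groth.Agent.S4409
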