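import Groth.Statements.S4411
import Groth.Agent.H83.Elem.NaturalGraded
import Groth.Agent.S4389

set_option autoImplicit false
universe u
open EGA2

namespace Groth.Agent.S4411

/-- Let S be a ring graded in nonnegative degrees which is an S_0-algebra of finite type, d > 0, and
S^{(d)} the graded ring whose degree-n part is S_{nd} (given here as any graded ring S' with an
injective algebra homomorphism φ : S' → S carrying S'_n onto S_{nd} for every n). Then S^{(d)} is an
algebra of finite type over its degree-zero part S'_0 (which φ identifies with S_0). -/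
theorem result {R A : Type u} [CommRing R] [CommRing A] [Algebra R A] (𝒜 : ℕ → Submodule R A) [GradedAlgebra 𝒜] [Algebra.FiniteType (𝒜 0) A]
    {B : Type u} [CommRing B] [Algebra R B] (ℬ : ℕ → Submodule R B) [GradedAlgebra ℬ]
    (d : ℕ) (hd : 0 < d) (φ : B →ₐ[R] A) (hφ : Function.Injective φ)
    (hdeg : ∀ n : ℕ, Submodule.map φ.toLinearMap (ℬ n) = 𝒜 (n * d)) :
    Algebra.FiniteType (ℬ 0) B := by
  classical
  obtain ⟨G⟩ := Groth.Agent.H83.NaturalGraded.gens_of_finiteType 𝒜 ‹_›
  haveI := Groth.Agent.H83.NaturalGraded.finiteType_of_gens 𝒜 G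
  let s : Finset (ℕ × A) := G.F
  let ι := {p : ℕ × A // p ∈ s}
  -- small exponent vectors whose degree is a multiple of `d`
  let E : Finset (ι → ℕ) := (Fintype.piFinset fun _ : ι => Finset.range (d + 1)).filter fun α => d ∣ ∑ p, α p * p.1.1
  have hmon : ∀ α : ι → ℕ, (∏ p, p.1.2 ^ α p) ∈ 𝒜 (∑ p, α p * p.1.1) := fun α =>
    SetLike.prod_mem_graded (A := 𝒜) (g := fun p : ι => p.1.2 ^ α p) (i := fun p : ι => α p * p.1.1)
      fun p _ => by simpa [smul_eq_mul] using SetLike.pow_mem_graded (α p) (G.mem p.1 p.2).1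
  have hex : ∀ α ∈ E, ∃ b : B, φ b = ∏ p, p.1.2 ^ α p := fun α hα => by
    obtain ⟨m, hm⟩ := (Finset.mem_filter.1 hα).2
    have : (∏ p, p.1.2 ^ α p) ∈ Submodule.map φ.toLinearMap (ℬ m) := by
      rw [hdeg, mul_comm, ← hm]; exact hmon α
    obtain ⟨b, -, hb⟩ := this
    exact ⟨b, hb⟩
  choose β hβ using hex
  let gens : Finset B := E.attach.image fun α => β α.1 α.2
  set T := Algebra.adjoin (ℬ 0) (gens : Set B)
  have hmono : ∀ α : ι → ℕ, d ∣ ∑ p, α p * p.1.1 → ∃ t ∈ T, φ t = ∏ p, p.1.2 ^ α p := by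
    intro α
    induction hn : ∑ p, α p using Nat.strong_induction_on generalizing α with
    | _ n ih =>
      intro hd'
      by_cases hsmall : ∀ p, α p ≤ d
      · have hα : α ∈ E := Finset.mem_filter.2 ⟨Fintype.mem_piFinset.2 fun p => Finset.mem_range.2 (Nat.lt_succ_of_le (hsmall p)), hd'⟩
        exact ⟨β α hα, Algebra.subset_adjoin (Finset.mem_image.2 ⟨⟨α, hα⟩, Finset.mem_attach _ _, rfl⟩), hβ α hα⟩
      push Not at hsmall
      obtain ⟨q, hq⟩ := hsmall
      let α₁ : ι → ℕ := fun p => if p = q then d else 0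
      let α₂ : ι → ℕ := fun p => if p = q then α p - d else α p
      have hadd : ∀ p, α p = α₁ p + α₂ p := fun p => by
        simp only [α₁, α₂]; split_ifs with h
        · subst h; omega
        · omega
      have h1s : ∑ p, α₁ p * p.1.1 = d * q.1.1 := by
        rw [Finset.sum_eq_single q (fun p _ hp => by simp [α₁, hp]) (by simp)]
        simp [α₁]
      have hα₁ : α₁ ∈ E := Finset.mem_filter.2 ⟨Fintype.mem_piFinset.2 fun p => Finset.mem_range.2 (by simp only [α₁]; split_ifs <;> omega), h1s ▸ dvd_mul_right d _⟩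
      have h2d : d ∣ ∑ p, α₂ p * p.1.1 := by
        rw [show (∑ p, α p * p.1.1) = (∑ p, α₁ p * p.1.1) + ∑ p, α₂ p * p.1.1 by
          rw [← Finset.sum_add_distrib]; exact Finset.sum_congr rfl fun p _ => by rw [hadd p, add_mul]] at hd'
        exact (Nat.dvd_add_right (h1s ▸ dvd_mul_right d _)).1 hd'
      obtain ⟨t, ht, hφt⟩ := ih (∑ p, α₂ p) (by
        rw [← hn]
        exact Finset.sum_lt_sum (fun p _ => by have := hadd p; omega) ⟨q, Finset.mem_univ _, by simp only [α₂, if_pos rfl]; omega⟩) α₂ rfl h2d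
      refine ⟨β α₁ hα₁ * t, T.mul_mem (Algebra.subset_adjoin (Finset.mem_image.2 ⟨⟨α₁, hα₁⟩, Finset.mem_attach _ _, rfl⟩)) ht, ?_⟩
      rw [map_mul, hβ, hφt, ← Finset.prod_mul_distrib]
      exact Finset.prod_congr rfl fun p _ => by rw [← pow_add, ← hadd p]
  have hlift : ∀ (a : 𝒜 0), ∃ b : ℬ 0, φ (b : B) = (a : A) := fun a => by
    have : (a : A) ∈ Submodule.map φ.toLinearMap (ℬ 0) := by rw [hdeg, zero_mul]; exact a.2
    obtain ⟨b, hb, hb'⟩ := this
    exact ⟨⟨b, hb⟩, hb'⟩
  have hall : ∀ y : A, ∀ n : ℕ, ∃ t ∈ T, φ t = (DirectSum.decompose 𝒜 y (n * d) : A) := by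
    intro y n
    have hy : y ∈ Algebra.adjoin (𝒜 0) ((s.image Prod.snd : Finset A) : Set A) := by
      rw [show Algebra.adjoin (𝒜 0) ((s.image Prod.snd : Finset A) : Set A) = ⊤ from ?_]
      · trivial
      · refine (Groth.Agent.S4389.result 𝒜 _ ?_).1 ?_
        · intro e he
          obtain ⟨p, hp, rfl⟩ := Finset.mem_image.1 he
          exact ⟨p.1, (G.mem p hp).2, (G.mem p hp).1⟩
        · refine le_antisymm ?_ (Ideal.span_le.2 ?_)
          · rw [HomogeneousIdeal.irrelevant_eq_span, Ideal.span_le]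
            intro x hx
            simp only [Set.mem_iUnion] at hx
            obtain ⟨m, hm, hx⟩ := hx
            rw [Finset.coe_image]
            exact G.span m x hm hx
          · intro x hx
            obtain ⟨p, hp, rfl⟩ := Finset.mem_image.1 hx
            exact HomogeneousIdeal.mem_irrelevant_of_mem 𝒜 (G.mem p hp).2 (G.mem p hp).1
    rw [← Subalgebra.mem_toSubmodule, Algebra.adjoin_eq_span] at hy
    induction hy using Submodule.span_induction with
    | zero => exact ⟨0, T.zero_mem, by simp⟩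
    | add u v _ _ hu hv =>
      obtain ⟨t, ht, hu⟩ := hu
      obtain ⟨t', ht', hv⟩ := hv
      exact ⟨t + t', T.add_mem ht ht', by rw [map_add, hu, hv, DirectSum.decompose_add, DirectSum.add_apply, Submodule.coe_add]⟩
    | smul c u _ hu =>
      obtain ⟨t, ht, hu⟩ := hu
      obtain ⟨b, hb⟩ := hlift c
      refine ⟨(b : B) * t, T.mul_mem (T.algebraMap_mem b) ht, ?_⟩
      rw [map_mul, hb, hu]
      show _ = (DirectSum.decompose 𝒜 ((c : A) * u) (n * d) : A)
      rw [DirectSum.coe_decompose_mul_of_left_mem_of_le 𝒜 c.2 (Nat.zero_le _), Nat.sub_zero]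
    | mem u hu =>
      obtain ⟨f, rfl⟩ := Submonoid.mem_closure_finset'.1 hu
      have hp : ∃ α : ι → ℕ, (∏ i : (s.image Prod.snd : Finset A), i.1 ^ f i) = ∏ p, p.1.2 ^ α p := by
        have hsur : ∀ x : (s.image Prod.snd : Finset A), ∃ p : ι, p.1.2 = x.1 := fun x => by
          obtain ⟨p, hp, he⟩ := Finset.mem_image.1 x.2
          exact ⟨⟨p, hp⟩, he⟩
        choose sec hsec using hsur
        refine ⟨fun p => ∑ x ∈ Finset.univ.filter (fun x => sec x = p), f x, ?_⟩
        simp only [← Finset.prod_pow_eq_pow_sum]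
        rw [← Finset.prod_fiberwise Finset.univ sec (fun x => x.1 ^ f x)]
        exact Finset.prod_congr rfl fun p _ => Finset.prod_congr rfl fun x hx => by rw [← (Finset.mem_filter.1 hx).2, hsec]
      obtain ⟨α, hα⟩ := hp
      rw [hα]
      by_cases hD : ∑ p, α p * p.1.1 = n * d
      · rw [← hD, DirectSum.decompose_of_mem_same 𝒜 (hmon α)]
        exact hmono α (hD ▸ dvd_mul_left d n)
      · exact ⟨0, T.zero_mem, by rw [DirectSum.decompose_of_mem_ne 𝒜 (hmon α) hD, map_zero]⟩
  refine ⟨gens, top_unique fun y _ => ?_⟩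
  rw [← DirectSum.sum_support_decompose ℬ y]
  refine T.sum_mem fun n _ => ?_
  have hm : φ (DirectSum.decompose ℬ y n : B) ∈ 𝒜 (n * d) := by
    rw [← hdeg]; exact ⟨_, (DirectSum.decompose ℬ y n).2, rfl⟩
  obtain ⟨t, ht, hφt⟩ := hall (φ (DirectSum.decompose ℬ y n : B)) n
  rw [DirectSum.decompose_of_mem_same 𝒜 hm] at hφt
  exact hφ hφt ▸ ht

end Groth.Agent.S4411
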