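import Groth.Statements.S4416
import Groth.Agent.Lib.Chow.Projective

set_option autoImplicit false
universe u
open CategoryTheory CategoryTheory.Limits AlgebraicGeometry
open EGA2

namespace Groth.Agent.S4416

/-- Let r : X → S be separated of finite type, and assume either S Noetherian, or S quasi-compact and
separated with X having finitely many irreducible components. Then r is proper if and only if there
are a scheme X' and a surjective morphism f : X' → X with f ≫ r projective. Moreover, when r is
proper, f can be chosen so that in addition there is a dense open U of X with f⁻¹(U) dense in X'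
over which f is an isomorphism, and with X' irreducible (resp. reduced) if X is. (The published
statement also remarks that f is then projective; that is not stated here.) -/
theorem result {X S : Scheme.{u}} (r : X ⟶ S) [IsSeparated r] [LocallyOfFiniteType r] [QuasiCompact r]
    (h : IsNoetherian S ∨ (CompactSpace S ∧ S.IsSeparated ∧ (irreducibleComponents X).Finite)) :
    (IsProper r ↔ ∃ (X' : Scheme.{u}) (f : X' ⟶ X), Surjective f ∧ RelProj.IsProjective (f ≫ r)) ∧
    (IsProper r → ∃ (X' : Scheme.{u}) (f : X' ⟶ X), Surjective f ∧ RelProj.IsProjective (f ≫ r) ∧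
        (∃ U : X.Opens, Dense (U : Set X) ∧ Dense ((f ⁻¹ᵁ U : X'.Opens) : Set X') ∧ IsIso (f ∣_ U)) ∧
        (IrreducibleSpace X → IrreducibleSpace X') ∧ (IsReduced X → IsReduced X')) := by
  have key : IsProper r → ∃ (X' : Scheme.{u}) (f : X' ⟶ X), Surjective f ∧ RelProj.IsProjective (f ≫ r) ∧
      (∃ U : X.Opens, Dense (U : Set X) ∧ Dense ((f ⁻¹ᵁ U : X'.Opens) : Set X') ∧ IsIso (f ∣_ U)) ∧
      (IrreducibleSpace X → IrreducibleSpace X') ∧ (IsReduced X → IsReduced X') := by
    intro hr
    obtain ⟨n, X', π, j, U, hj, hjf, hπ, hs, hU, hiso, hd, hred⟩ := Lib.Chow.Projective.chow r h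
    haveI := hj
    haveI := hπ
    haveI := hiso
    refine ⟨X', π, hs,
      Lib.HProj.isProjective_of_isHProjective _ (Lib.Chow.Projective.isHProjective_comp r π j hjf),
      ⟨U, hU, hd, hiso⟩, fun hX => ?_, fun hX => hred (by haveI := hX; infer_instance)⟩
    haveI := hX
    exact Lib.Chow.Projective.irreducibleSpace_modification π U hd hU
  refine ⟨⟨fun hr => ?_, ?_⟩, key⟩
  · obtain ⟨X', f, h1, h2, -⟩ := key hr
    exact ⟨X', f, h1, h2⟩
  · rintro ⟨X', f, hs, hp⟩
    haveI := hs
    haveI := Lib.HProj.Proper.isProper_of_isProjective hp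
    haveI : UniversallyClosed r := UniversallyClosed.of_comp_surjective f r
    exact {}

end Groth.Agent.S4416
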