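import Groth.Statements.S4417
import Groth.Agent.Lib.Ample.CoprodModule

set_option autoImplicit false
universe u
open CategoryTheory CategoryTheory.Limits AlgebraicGeometry
open EGA2

namespace Groth.Agent.S4417

/-- Let f : X → Y and f' : X' → Y be quasi-projective morphisms (of finite type, each admitting a
relatively ample module). Then the morphism X ⨿ X' → Y restricting to f and f' on the two summands
is quasi-projective. -/
theorem result {X X' Y : Scheme.{u}} (f : X ⟶ Y) (f' : X' ⟶ Y)
    (hf : RelProj.IsQuasiProjective f) (hf' : RelProj.IsQuasiProjective f') :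
    RelProj.IsQuasiProjective (coprod.desc f f') := by
  obtain ⟨h1, h2, L, hL⟩ := hf
  obtain ⟨h1', h2', L', hL'⟩ := hf'
  haveI := h1; haveI := h2; haveI := h1'; haveI := h2'
  obtain ⟨M, ⟨e⟩, ⟨e'⟩⟩ := Lib.Ample.Coprod.exists_module L L'
  have hiso : ∀ {Z : Scheme.{u}} {g : Z ⟶ Y} {A B : Z.Modules}, (A ≅ B) →
      RelAmple.IsRelAmple g A → RelAmple.IsRelAmple g B := fun e h =>
    ⟨h.1, fun V => Lib.Ample.Pow.isAmple_of_iso ((Scheme.Modules.restrictFunctor _).mapIso e) (h.2 V)⟩
  have hM : RelAmple.IsRelAmple (coprod.desc f f') M :=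
    (Lib.Ample.Coprod.isRelAmple_coprod_iff f f' M).2 ⟨hiso e.symm hL, hiso e'.symm hL'⟩
  refine ⟨?_, hM.1, M, hM⟩
  refine IsZariskiLocalAtSource.of_openCover (P := @LocallyOfFiniteType) (coprodOpenCover.{u, u} X X') fun j => ?_
  rcases j with ⟨⟨⟩⟩ | ⟨⟨⟩⟩
  · change LocallyOfFiniteType (coprod.inl ≫ coprod.desc f f')
    rw [coprod.inl_desc]; exact h1
  · change LocallyOfFiniteType (coprod.inr ≫ coprod.desc f f')
    rw [coprod.inr_desc]; exact h1'

end Groth.Agent.S4417
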