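import Groth.Statements.S4420
import Groth.Agent.Lib.PProj.Compose
import Groth.Agent.Lib.ProjMor.Comp

set_option autoImplicit false
universe u
open CategoryTheory CategoryTheory.Limits AlgebraicGeometry
open EGA2

namespace Groth.Agent.S4420

/-- Let Y be a quasi-compact separated scheme possessing an ample invertible O_Y-module and f : X → Y a
morphism. Then f is projective if and only if there are r ≥ 0 and a closed immersion of X into
projective r-space over Y compatible with the projections (f is H-projective). -/
theorem result {X Y : Scheme.{u}} [CompactSpace Y] [Y.IsSeparated]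
    (hY : ∃ M : Y.Modules, CohB1.IsAmple M) (f : X ⟶ Y) :
    RelProj.IsProjective f ↔ RelProj.IsHProjective f := by
  refine ⟨fun hf => ?_, fun h => Lib.HProj.isProjective_of_isHProjective f h⟩
  obtain ⟨K, hK⟩ := hY
  haveI := Lib.HProj.Proper.isProper_of_isProjective hf
  obtain ⟨-, -, L, hL⟩ := Lib.PProj.isQuasiProjective_of_isProjective hf
  obtain ⟨r, i, hi, hif⟩ := Lib.ProjMor.Comp.exists_immersion f hL hK
  haveI := hi
  haveI : IsSeparated (CohB1.ProjSpaceOver.toBase r Y) := inferInstanceAs (IsSeparated (pullback.snd _ _))
  haveI : IsProper (i ≫ CohB1.ProjSpaceOver.toBase r Y) := hif.symm ▸ ‹_›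
  haveI : IsProper i := IsProper.of_comp i (CohB1.ProjSpaceOver.toBase r Y)
  exact ⟨r, i, IsClosedImmersion.of_isPreimmersion i i.isClosedMap.isClosed_range, hif⟩

end Groth.Agent.S4420
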