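import Groth.Statements.S4422
import Groth.Agent.Lib.PProj.Prod

set_option autoImplicit false
universe u
open CategoryTheory CategoryTheory.Limits AlgebraicGeometry
open EGA2

namespace Groth.Agent.S4422

/-- Let a : Y → S and a' : Y' → S be morphisms and f : X → Y, f' : X' → Y' projective morphisms (so X
and X' are S-schemes through f ≫ a and f' ≫ a'). Then the product f ×_S f' : X ×_S X' → Y ×_S Y' is
projective. -/
theorem result {X X' Y Y' S : Scheme.{u}} (a : Y ⟶ S) (a' : Y' ⟶ S) (f : X ⟶ Y) (f' : X' ⟶ Y')
    (hf : RelProj.IsProjective f) (hf' : RelProj.IsProjective f') :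
    RelProj.IsProjective (pullback.map (f ≫ a) (f' ≫ a') a a' f f' (𝟙 S) (Category.comp_id (f ≫ a)) (Category.comp_id (f' ≫ a'))) := by
  let G := pullback.map (f ≫ a) (f' ≫ a') a a' f f' (𝟙 S) (Category.comp_id (f ≫ a)) (Category.comp_id (f' ≫ a'))
  have e1 : G ≫ pullback.fst a a' = pullback.fst (f ≫ a) (f' ≫ a') ≫ f := pullback.lift_fst _ _ _
  have e2 : G ≫ pullback.snd a a' = pullback.snd (f ≫ a) (f' ≫ a') ≫ f' := pullback.lift_snd _ _ _
  let p : pullback (f ≫ a) (f' ≫ a') ⟶ pullback f (pullback.fst a a') := pullback.lift (pullback.fst _ _) G e1.symm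
  let q : pullback (f ≫ a) (f' ≫ a') ⟶ pullback f' (pullback.snd a a') := pullback.lift (pullback.snd _ _) G e2.symm
  have h₁ : p ≫ pullback.snd f (pullback.fst a a') = G := pullback.lift_snd _ _ _
  have h₂ : q ≫ pullback.snd f' (pullback.snd a a') = G := pullback.lift_snd _ _ _
  have hc := (pullback.condition (f := pullback.snd f (pullback.fst a a')) (g := pullback.snd f' (pullback.snd a a')))
  let r : pullback (pullback.snd f (pullback.fst a a')) (pullback.snd f' (pullback.snd a a')) ⟶
      pullback (f ≫ a) (f' ≫ a') :=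
    pullback.lift (pullback.fst _ _ ≫ pullback.fst _ _) (pullback.snd _ _ ≫ pullback.fst _ _) (by
      simp only [Category.assoc, pullback.condition_assoc]
      rw [pullback.condition])
  have hr₁ : r ≫ pullback.fst _ _ = pullback.fst _ _ ≫ pullback.fst _ _ := pullback.lift_fst _ _ _
  have hr₂ : r ≫ pullback.snd _ _ = pullback.snd _ _ ≫ pullback.fst _ _ := pullback.lift_snd _ _ _
  have hrG : r ≫ G = pullback.fst _ _ ≫ pullback.snd f (pullback.fst a a') := by
    apply pullback.hom_ext
    · simp [e1, reassoc_of% hr₁, pullback.condition, reassoc_of% hc]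
    · rw [Category.assoc, e2, reassoc_of% hr₂, hc]
      simp [pullback.condition]
  haveI : IsIso (pullback.lift p q (h₁.trans h₂.symm)) := by
    refine ⟨r, ?_, ?_⟩
    · apply pullback.hom_ext <;> simp only [p, q, Category.assoc, Category.id_comp, hr₁, hr₂, pullback.lift_fst_assoc, pullback.lift_snd_assoc, pullback.lift_fst, pullback.lift_snd]
    · apply pullback.hom_ext <;> apply pullback.hom_ext <;> simp only [p, q, Category.assoc, Category.id_comp, hr₁, hr₂, hrG, hc, pullback.lift_fst_assoc, pullback.lift_snd_assoc, pullback.lift_fst, pullback.lift_snd]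
  exact Lib.PProj.Main.isProjective_of_closedImmersion_prod p q G
    (hf₁ := Lib.PProj.Main.isProjective_pullback_snd hf _) (hf₂ := Lib.PProj.Main.isProjective_pullback_snd hf' _)
    h₁ h₂ inferInstance

end Groth.Agent.S4422
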