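import Groth.Statements.S4428
import Groth.Agent.Lib.Ample.External

set_option autoImplicit false
universe u
open CategoryTheory CategoryTheory.Limits AlgebraicGeometry
open EGA2

namespace Groth.Agent.S4428

/-- Let a₁ : Y₁ → S and a₂ : Y₂ → S be morphisms, f₁ : X₁ → Y₁ and f₂ : X₂ → Y₂ quasi-compact morphisms
(so X₁, X₂ are S-schemes through f_i ≫ a_i), and L₁, L₂ modules on X₁, X₂ ample relative to f₁, f₂.
Then the external tensor product p₁^*(L₁) ⊗ p₂^*(L₂) on X₁ ×_S X₂ (p₁, p₂ the projections) is ample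
relative to the product morphism f₁ ×_S f₂ : X₁ ×_S X₂ → Y₁ ×_S Y₂. -/
theorem result {X₁ X₂ Y₁ Y₂ S : Scheme.{u}} (a₁ : Y₁ ⟶ S) (a₂ : Y₂ ⟶ S)
    (f₁ : X₁ ⟶ Y₁) (f₂ : X₂ ⟶ Y₂) [QuasiCompact f₁] [QuasiCompact f₂] (L₁ : X₁.Modules) (L₂ : X₂.Modules)
    (hL₁ : RelAmple.IsRelAmple f₁ L₁) (hL₂ : RelAmple.IsRelAmple f₂ L₂) :
    RelAmple.IsRelAmple
      (pullback.map (f₁ ≫ a₁) (f₂ ≫ a₂) a₁ a₂ f₁ f₂ (𝟙 S) (Category.comp_id (f₁ ≫ a₁)) (Category.comp_id (f₂ ≫ a₂)))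
      (CohB1.tensorMod ((Scheme.Modules.pullback (pullback.fst (f₁ ≫ a₁) (f₂ ≫ a₂))).obj L₁)
        ((Scheme.Modules.pullback (pullback.snd (f₁ ≫ a₁) (f₂ ≫ a₂))).obj L₂)) := by
  let G := pullback.map (f₁ ≫ a₁) (f₂ ≫ a₂) a₁ a₂ f₁ f₂ (𝟙 S) (Category.comp_id (f₁ ≫ a₁)) (Category.comp_id (f₂ ≫ a₂))
  have e1 : G ≫ pullback.fst a₁ a₂ = pullback.fst (f₁ ≫ a₁) (f₂ ≫ a₂) ≫ f₁ := pullback.lift_fst _ _ _
  have e2 : G ≫ pullback.snd a₁ a₂ = pullback.snd (f₁ ≫ a₁) (f₂ ≫ a₂) ≫ f₂ := pullback.lift_snd _ _ _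
  let p : pullback (f₁ ≫ a₁) (f₂ ≫ a₂) ⟶ pullback f₁ (pullback.fst a₁ a₂) := pullback.lift (pullback.fst _ _) G e1.symm
  let q : pullback (f₁ ≫ a₁) (f₂ ≫ a₂) ⟶ pullback f₂ (pullback.snd a₁ a₂) := pullback.lift (pullback.snd _ _) G e2.symm
  have h₁ : p ≫ pullback.snd f₁ (pullback.fst a₁ a₂) = G := pullback.lift_snd _ _ _
  have h₂ : q ≫ pullback.snd f₂ (pullback.snd a₁ a₂) = G := pullback.lift_snd _ _ _
  have hc := (pullback.condition (f := pullback.snd f₁ (pullback.fst a₁ a₂)) (g := pullback.snd f₂ (pullback.snd a₁ a₂)))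
  let r : pullback (pullback.snd f₁ (pullback.fst a₁ a₂)) (pullback.snd f₂ (pullback.snd a₁ a₂)) ⟶
      pullback (f₁ ≫ a₁) (f₂ ≫ a₂) :=
    pullback.lift (pullback.fst _ _ ≫ pullback.fst _ _) (pullback.snd _ _ ≫ pullback.fst _ _) (by
      simp only [Category.assoc, pullback.condition_assoc]
      rw [pullback.condition])
  have hr₁ : r ≫ pullback.fst _ _ = pullback.fst _ _ ≫ pullback.fst _ _ := pullback.lift_fst _ _ _
  have hr₂ : r ≫ pullback.snd _ _ = pullback.snd _ _ ≫ pullback.fst _ _ := pullback.lift_snd _ _ _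
  have hrG : r ≫ G = pullback.fst _ _ ≫ pullback.snd f₁ (pullback.fst a₁ a₂) := by
    apply pullback.hom_ext
    · simp [e1, reassoc_of% hr₁, pullback.condition, reassoc_of% hc]
    · rw [Category.assoc, e2, reassoc_of% hr₂, hc]
      simp [pullback.condition]
  haveI : IsIso (pullback.lift p q (h₁.trans h₂.symm)) := by
    refine ⟨r, ?_, ?_⟩
    · apply pullback.hom_ext <;> simp only [p, q, Category.assoc, Category.id_comp, hr₁, hr₂, pullback.lift_fst_assoc, pullback.lift_snd_assoc, pullback.lift_fst, pullback.lift_snd]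
    · apply pullback.hom_ext <;> apply pullback.hom_ext <;> simp only [p, q, Category.assoc, Category.id_comp, hr₁, hr₂, hrG, hc, pullback.lift_fst_assoc, pullback.lift_snd_assoc, pullback.lift_fst, pullback.lift_snd]
  haveI : QuasiCompact (pullback.snd f₁ (pullback.fst a₁ a₂)) := inferInstance
  haveI : QuasiCompact G := by
    have hG : pullback.lift p q (h₁.trans h₂.symm) ≫ (pullback.fst _ _ ≫ pullback.snd f₁ (pullback.fst a₁ a₂)) = G := by
      rw [pullback.lift_fst_assoc, h₁]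
    rw [← hG]
    infer_instance
  have e₁ : p ≫ pullback.fst f₁ (pullback.fst a₁ a₂) = pullback.fst _ _ := pullback.lift_fst _ _ _
  have e₂ : q ≫ pullback.fst f₂ (pullback.snd a₁ a₂) = pullback.snd _ _ := pullback.lift_fst _ _ _
  have h := Lib.Ample.External.isRelAmple_external p q G h₁ h₂ inferInstance
    (Lib.Ample.RelAmple.isRelAmple_baseChange f₁ (pullback.fst a₁ a₂) hL₁)
    (Lib.Ample.RelAmple.isRelAmple_baseChange f₂ (pullback.snd a₁ a₂) hL₂)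
  refine ⟨h.1, fun V => Lib.Ample.Pow.isAmple_of_iso ((Scheme.Modules.restrictFunctor _).mapIso ?_) (h.2 V)⟩
  exact Lib.TensorMod.Basic.tensorIso
    ((Scheme.Modules.pullbackComp p _).app L₁ ≪≫ (Scheme.Modules.pullbackCongr e₁).app L₁)
    ((Scheme.Modules.pullbackComp q _).app L₂ ≪≫ (Scheme.Modules.pullbackCongr e₂).app L₂)

end Groth.Agent.S4428
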