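import Groth.Statements.S4429
import Groth.Agent.Lib.NormAmple.IntCharpoly
import Mathlib.LinearAlgebra.Charpoly.ToMatrix
import Mathlib.RingTheory.IntegralClosure.Algebra.Basic


set_option autoImplicit false
universe u
open EGA2

namespace Groth.Agent.S4429

/-- For an integral domain A with fraction field K, a finitely generated A-module E and an endomorphism
u of E, the coefficients of the characteristic polynomial of u ⊗ 1 acting on the K-vector space K
⊗_A E (the elementary symmetric functions of u, among them its trace and determinant) are integral
over A. -/
theorem result (A : Type u) [CommRing A] [IsDomain A] (K : Type u) [Field K]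
    [Algebra A K] [IsFractionRing A K] (E : Type u) [AddCommGroup E] [Module A E] [Module.Finite A E]
    (u : E →ₗ[A] E) (i : ℕ) :
    IsIntegral A (((u.baseChange K).charpoly).coeff i) := by
  classical
  obtain ⟨p, hp, hpu⟩ := (LinearMap.exists_monic_and_aeval_eq_zero A u : ∃ p : Polynomial A, p.Monic ∧ Polynomial.aeval u p = 0)
  let b := Module.finBasis K (TensorProduct A K E)
  rw [← LinearMap.charpoly_toMatrix (u.baseChange K) b]
  refine Groth.Agent.Lib.NormAmple.IntCharpoly.isIntegral_charpoly_coeff _ hp ?_ i
  have h1 : Polynomial.aeval (u.baseChange K) p = 0 := by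
    have h2 := (Polynomial.aeval_algHom_apply (Module.End.baseChangeHom A K E) u p)
    rw [hpu, map_zero] at h2
    exact h2
  show Polynomial.aeval (LinearMap.toMatrixAlgEquiv b (u.baseChange K)) (p.map (algebraMap A K)) = 0
  rw [Polynomial.aeval_algHom_apply, Polynomial.aeval_map_algebraMap, h1, map_zero]

end Groth.Agent.S4429
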