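import Groth.Statements.S4430
import Mathlib.FieldTheory.IsAlgClosed.AlgebraicClosure
import Mathlib.FieldTheory.IsAlgClosed.Spectrum
import Mathlib.LinearAlgebra.Matrix.Charpoly.Eigs
import Mathlib.LinearAlgebra.FiniteDimensional.Basic
import Mathlib.RingTheory.IntegralClosure.IsIntegralClosure.Basic
import Mathlib.RingTheory.TensorProduct.Finite


set_option autoImplicit false
universe u
open EGA2

namespace Groth.Agent.S4430

/-- Let A be an integral domain with fraction field K, E a finitely generated A-module and u an
endomorphism of E whose characteristic-polynomial coefficients (those of u ⊗ 1 on K ⊗_A E) all lie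
in A. If u is an automorphism of E, then its determinant, as an element of A, is invertible in A. -/
theorem result (A : Type u) [CommRing A] [IsDomain A] (K : Type u) [Field K]
    [Algebra A K] [IsFractionRing A K] (E : Type u) [AddCommGroup E] [Module A E] [Module.Finite A E]
    (u : E →ₗ[A] E) (hcoeff : ∀ i : ℕ, ((u.baseChange K).charpoly).coeff i ∈ (algebraMap A K).range)
    (a : A) (ha : algebraMap A K a = LinearMap.det (u.baseChange K)) (hu : Function.Bijective u) :
    IsUnit a := by
  classical
  let e := LinearEquiv.ofBijective u hu
  let v : E →ₗ[A] E := e.symm.toLinearMap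
  obtain ⟨q, hqm, hq⟩ : ∃ q : Polynomial A, q.Monic ∧ Polynomial.aeval v q = 0 :=
    Algebra.IsIntegral.isIntegral (R := A) v
  have huv : u.baseChange K * v.baseChange K = 1 := by
    rw [Module.End.mul_eq_comp, ← LinearMap.baseChange_comp,
      show u ∘ₗ v = LinearMap.id from LinearMap.ext fun x => e.apply_symm_apply x,
      LinearMap.baseChange_id]
    rfl
  have hdet : algebraMap A K a * LinearMap.det (v.baseChange K) = 1 := by
    rw [ha, ← map_mul, huv, map_one]
  have hqK : Polynomial.aeval (v.baseChange K) (q.map (algebraMap A K)) = 0 := by
    rw [Polynomial.aeval_map_algebraMap]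
    have : Module.End.baseChangeHom A K E v = v.baseChange K := rfl
    rw [← this, Polynomial.aeval_algHom_apply, hq, map_zero]
  let b := Module.finBasis K (TensorProduct A K E)
  let L := AlgebraicClosure K
  let N := (LinearMap.toMatrixAlgEquiv b (v.baseChange K)).map (algebraMap K L)
  have hN : Polynomial.aeval N (q.map (algebraMap A L)) = 0 := by
    have h1 : N = (IsScalarTower.toAlgHom K K L).mapMatrix
        (LinearMap.toMatrixAlgEquiv b (v.baseChange K)) := rfl
    rw [IsScalarTower.algebraMap_eq A K L, ← Polynomial.map_map, Polynomial.aeval_map_algebraMap, h1,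
      Polynomial.aeval_algHom_apply, Polynomial.aeval_algHom_apply, hqK, map_zero, map_zero]
  have hint : IsIntegral A (algebraMap K L (LinearMap.det (v.baseChange K))) := by
    have hd : algebraMap K L (LinearMap.det (v.baseChange K)) = N.det := by
      rw [← LinearMap.det_toMatrix b, RingHom.map_det]
      rfl
    rw [hd, Matrix.det_eq_prod_roots_charpoly_of_splits (IsAlgClosed.splits _)]
    refine IsIntegral.multiset_prod fun r hr => ⟨q, hqm, ?_⟩
    have hroot : N.charpoly.IsRoot r := (Polynomial.mem_roots'.mp hr).2
    rcases isEmpty_or_nonempty (Fin (Module.finrank K (TensorProduct A K E))) with hE | hE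
    · simp [Matrix.charpoly, Polynomial.IsRoot] at hroot
    · have := spectrum.subset_polynomial_aeval N (q.map (algebraMap A L))
        ⟨r, Matrix.mem_spectrum_of_isRoot_charpoly hroot, rfl⟩
      rw [hN, spectrum.zero_eq, Set.mem_singleton_iff] at this
      exact (Polynomial.eval_map _ _).symm.trans this
  let C := integralClosure A K
  let d : C := ⟨LinearMap.det (v.baseChange K),
    (isIntegral_algebraMap_iff (algebraMap K L).injective).mp hint⟩
  have hu' : IsUnit (algebraMap A C a) :=
    IsUnit.of_mul_eq_one d (Subtype.ext hdet)
  haveI : FaithfulSMul A C := (faithfulSMul_iff_algebraMap_injective A C).mpr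
    fun x y hxy => IsFractionRing.injective A K (congrArg Subtype.val hxy)
  exact isUnit_of_map_unit (algebraMap A C) a hu'

end Groth.Agent.S4430
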