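import Groth.Statements.S4431
import Mathlib.LinearAlgebra.Charpoly.BaseChange
import Mathlib.RingTheory.TensorProduct.Finite


set_option autoImplicit false
universe u
open EGA2

namespace Groth.Agent.S4431

/-- Let A be an integral domain with fraction field K, E a finitely generated torsion-free A-module and
u an endomorphism of E whose characteristic-polynomial coefficients (those of u ⊗ 1 on K ⊗_A E) all
lie in A. If the determinant of u is the image of a unit of A, then u is an automorphism of E. -/
theorem result (A : Type u) [CommRing A] [IsDomain A] (K : Type u) [Field K]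
    [Algebra A K] [IsFractionRing A K] (E : Type u) [AddCommGroup E] [Module A E] [Module.Finite A E]
    [Module.IsTorsionFree A E]
    (u : E →ₗ[A] E) (hcoeff : ∀ i : ℕ, ((u.baseChange K).charpoly).coeff i ∈ (algebraMap A K).range)
    (a : A) (ha : algebraMap A K a = LinearMap.det (u.baseChange K)) (hunit : IsUnit a) :
    Function.Bijective u := by
  classical
  obtain ⟨p, hp⟩ : ∃ p : Polynomial A, p.map (algebraMap A K) = (u.baseChange K).charpoly := by
    rw [← Polynomial.mem_lifts]
    exact (Polynomial.lifts_iff_coeff_lifts _).mpr fun i => RingHom.mem_range.mp (hcoeff i)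
  have hinjE : Function.Injective (TensorProduct.mk A K E 1) :=
    (IsLocalizedModule.injective_iff_isRegular (S := nonZeroDivisors A) _).mpr fun c =>
      IsSMulRegular.of_ne_zero (R := A) (nonZeroDivisors.coe_ne_zero c)
  have hcomm : ∀ (φ : E →ₗ[A] E) x,
      φ.baseChange K (TensorProduct.mk A K E 1 x) = TensorProduct.mk A K E 1 (φ x) := fun φ x => rfl
  have hpu : Polynomial.aeval u p = 0 := by
    refine LinearMap.ext fun x => hinjE ?_
    rw [← hcomm, show (Polynomial.aeval u p).baseChange K =
      Module.End.baseChangeHom A K E (Polynomial.aeval u p) from rfl,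
      ← Polynomial.aeval_algHom_apply, ← Polynomial.aeval_map_algebraMap K, hp]
    rw [show Module.End.baseChangeHom A K E u = u.baseChange K from rfl,
      LinearMap.aeval_self_charpoly]
    simp
  have hc0 : IsUnit (p.coeff 0) := by
    have : algebraMap A K (p.coeff 0) = algebraMap A K
        ((-1) ^ Module.finrank K (TensorProduct A K E) * a) := by
      rw [← Polynomial.coeff_map, hp, map_mul, map_pow, map_neg, map_one, ha,
        LinearMap.det_eq_sign_charpoly_coeff, ← mul_assoc, ← pow_add, ← two_mul, pow_mul]
      simp
    rw [IsFractionRing.injective A K this]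
    exact ((IsUnit.neg isUnit_one).pow _).mul hunit
  obtain ⟨c, hc⟩ := hc0.exists_left_inv
  have key : ∀ x, u (Polynomial.aeval u p.divX x) + p.coeff 0 • x = 0 := fun x => by
    have h := congr(Polynomial.aeval u $(Polynomial.X_mul_divX_add p) x)
    rw [hpu] at h
    simp only [map_add, map_mul, Polynomial.aeval_X, Polynomial.aeval_C, LinearMap.add_apply,
      Module.End.mul_apply, Module.algebraMap_end_apply, LinearMap.zero_apply] at h
    exact h
  have hsurj : Function.Surjective u := fun x => ⟨-(c • Polynomial.aeval u p.divX x), by
    rw [map_neg, map_smul, eq_neg_of_add_eq_zero_left (key x), smul_neg, neg_neg, smul_smul, hc,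
      one_smul]⟩
  exact ⟨OrzechProperty.injective_of_surjective_endomorphism u hsurj, hsurj⟩

end Groth.Agent.S4431
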