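import Groth.Statements.S4432
import Groth.Agent.Lib.NormAmple.IntCharpoly
import Mathlib.RingTheory.Polynomial.IsIntegral
import Mathlib
import Mathlib.RingTheory.Localization.FractionRing
import Mathlib.RingTheory.Finiteness.NilpotentKer
import Mathlib.RingTheory.TensorProduct.Finite

set_option autoImplicit false
set_option backward.isDefEq.respectTransparency false
universe u
open EGA2

namespace Groth.Agent.S4432

open scoped TensorProduct
open Polynomial

/-- Coefficients of characteristic polynomials are integral, over a reduced ring. -/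
theorem isIntegral_charpoly_coeff {A K : Type u} [CommRing A] [CommRing K] [IsReduced K]
    [IsNoetherianRing K] [Algebra A K] {n r : ℕ} (U : Matrix (Fin n) (Fin n) (MvPolynomial (Fin r) K))
    {p : (MvPolynomial (Fin r) A)[X]} (hp : p.Monic)
    (h : p.eval₂ ((algebraMap (MvPolynomial (Fin r) K) (Matrix (Fin n) (Fin n) (MvPolynomial (Fin r) K))).comp
      (MvPolynomial.map (algebraMap A K))) U = 0) (i : ℕ) (α : Fin r →₀ ℕ) :
    IsIntegral A ((U.charpoly.coeff i).coeff α) := by
  classical
  set c := (U.charpoly.coeff i).coeff α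
  have key : ∀ P ∈ minimalPrimes K, ∃ g : A[X], g.Monic ∧ Polynomial.aeval c g ∈ P := by
    intro P hP
    haveI : P.IsPrime := Ideal.IsMinimalPrime.isPrime hP
    let F := FractionRing (K ⧸ P)
    let π : K →+* F := (algebraMap (K ⧸ P) F).comp (Ideal.Quotient.mk P)
    letI : Algebra A F := (π.comp (algebraMap A K)).toAlgebra
    let L := FractionRing (MvPolynomial (Fin r) F)
    let ρ : MvPolynomial (Fin r) A →+* MvPolynomial (Fin r) F := MvPolynomial.map (algebraMap A F)
    letI : Algebra (MvPolynomial (Fin r) A) L :=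
      ((algebraMap (MvPolynomial (Fin r) F) L).comp ρ).toAlgebra
    let μ : MvPolynomial (Fin r) K →+* L :=
      (algebraMap (MvPolynomial (Fin r) F) L).comp (MvPolynomial.map π)
    have hμ : μ.comp (MvPolynomial.map (algebraMap A K)) = algebraMap (MvPolynomial (Fin r) A) L := by
      refine RingHom.ext fun x => ?_
      exact congrArg (algebraMap (MvPolynomial (Fin r) F) L) (MvPolynomial.map_map _ π x)
    have hU : Polynomial.aeval (U.map μ) (p.map (algebraMap (MvPolynomial (Fin r) A) L)) = 0 := by
      have h1 := congrArg μ.mapMatrix h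
      rw [map_zero, Polynomial.hom_eval₂] at h1
      rw [← hμ, Polynomial.aeval_def, Polynomial.eval₂_map]
      refine Eq.trans (congrArg (fun φ => Polynomial.eval₂ φ (U.map μ) p) (RingHom.ext fun x => ?_)) h1
      ext a b
      simp [Matrix.algebraMap_eq_diagonal, Matrix.diagonal, apply_ite μ]
    have h2 := Groth.Agent.Lib.NormAmple.IntCharpoly.isIntegral_charpoly_coeff (U.map μ) hp hU i
    rw [Matrix.charpoly_map, Polynomial.coeff_map] at h2
    letI : Algebra (MvPolynomial (Fin r) A) (MvPolynomial (Fin r) F) := ρ.toAlgebra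
    have h3 : IsIntegral (MvPolynomial (Fin r) A) (MvPolynomial.map π (U.charpoly.coeff i)) := by
      obtain ⟨q, hq, hq0⟩ := h2
      refine ⟨q, hq, IsFractionRing.injective (MvPolynomial (Fin r) F) L ?_⟩
      rw [map_zero, Polynomial.hom_eval₂]
      exact hq0
    have h4 := (MvPolynomial.isIntegral_iff_isIntegral_coeff (R := A) (S := F)).mp h3 α
    rw [MvPolynomial.coeff_map] at h4
    obtain ⟨g, hg, hg0⟩ := h4
    refine ⟨g, hg, Ideal.Quotient.eq_zero_iff_mem.mp (IsFractionRing.injective (K ⧸ P) F ?_)⟩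
    rw [map_zero, ← hg0, Polynomial.aeval_def]
    exact Polynomial.hom_eval₂ g _ π c
  choose g hg hgc using key
  have hfin := minimalPrimes.finite_of_isNoetherianRing K
  refine ⟨∏ P : hfin.toFinset, g P.1 (hfin.mem_toFinset.mp P.2), monic_prod_of_monic _ _ fun P _ => hg _ _, ?_⟩
  rw [← Polynomial.aeval_def, map_prod]
  have hmem : ∀ P ∈ minimalPrimes K, (∏ Q : hfin.toFinset,
      Polynomial.aeval c (g Q.1 (hfin.mem_toFinset.mp Q.2))) ∈ P := fun P hP => by
    obtain ⟨m, hm⟩ := Finset.dvd_prod_of_mem
      (fun Q : hfin.toFinset => Polynomial.aeval c (g Q.1 (hfin.mem_toFinset.mp Q.2)))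
      (Finset.mem_univ ⟨P, hfin.mem_toFinset.mpr hP⟩)
    rw [hm]
    exact Ideal.mul_mem_right _ _ (hgc P hP)
  rw [← Ideal.mem_bot, ← Ideal.radical_eq_iff.mpr Ideal.isRadical_bot, ← Ideal.sInf_minimalPrimes]
  exact Submodule.mem_sInf.mpr hmem


/-- Let A be a reduced Noetherian ring, K its total ring of fractions, and E a finitely generated
A-module with K ⊗_A E free over K. The A-subalgebra of K generated by the coefficients of the
characteristic polynomials of v ⊗ 1 (v running through all endomorphisms of E), i.e. by all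
elementary symmetric functions of all endomorphisms of E, is a finitely generated A-module. -/
theorem result (A : Type u) [CommRing A] [IsNoetherianRing A] [IsReduced A]
    (E : Type u) [AddCommGroup E] [Module A E] [Module.Finite A E]
    [Module.Free (FractionRing A) (TensorProduct A (FractionRing A) E)] :
    (Algebra.adjoin A {c : FractionRing A | ∃ (v : E →ₗ[A] E) (j : ℕ),
        c = ((v.baseChange (FractionRing A)).charpoly).coeff j}).toSubmodule.FG := by
  classical
  let K := FractionRing A
  haveI : IsNoetherianRing K := IsLocalization.isNoetherianRing (nonZeroDivisors A) K inferInstance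
  haveI : IsReduced K := inferInstance
  haveI : Module.Finite K (K ⊗[A] E) := inferInstance
  obtain ⟨n, ⟨e⟩⟩ : ∃ n : ℕ, Nonempty (Module.Basis (Fin n) K (K ⊗[A] E)) :=
    ⟨_, ⟨(Module.Free.chooseBasis K (K ⊗[A] E)).reindex (Fintype.equivFin _)⟩⟩
  let ψ : (E →ₗ[A] E) →ₐ[A] Matrix (Fin n) (Fin n) K :=
    ((LinearMap.toMatrixAlgEquiv e).toAlgHom.restrictScalars A).comp (Module.End.baseChangeHom A K E)
  haveI : Module.Finite A (E →ₗ[A] E) := inferInstance
  obtain ⟨r, v, hv⟩ := Submodule.fg_iff_exists_fin_generating_family.mp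
    (Module.Finite.fg_top (R := A) (M := E →ₗ[A] E))
  letI : Algebra (MvPolynomial (Fin r) A) (MvPolynomial (Fin r) K) :=
    (MvPolynomial.map (algebraMap A K)).toAlgebra
  haveI : IsScalarTower A (MvPolynomial (Fin r) A) (MvPolynomial (Fin r) K) :=
    IsScalarTower.of_algebraMap_eq fun x => by
      simp [RingHom.algebraMap_toAlgebra, MvPolynomial.algebraMap_eq]
  let ι : (E →ₗ[A] E) →ₐ[A] Matrix (Fin n) (Fin n) (MvPolynomial (Fin r) K) :=
    ((IsScalarTower.toAlgHom A K (MvPolynomial (Fin r) K)).mapMatrix).comp ψ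
  let Φ : MvPolynomial (Fin r) A ⊗[A] (E →ₗ[A] E) →ₐ[MvPolynomial (Fin r) A]
      Matrix (Fin n) (Fin n) (MvPolynomial (Fin r) K) :=
    Algebra.TensorProduct.lift (Algebra.ofId _ _) ι fun x y => Algebra.commutes x (ι y)
  let U := Φ (∑ l, (MvPolynomial.X l) ⊗ₜ[A] v l)
  obtain ⟨p, hp, hpU⟩ := (IsIntegral.of_finite (MvPolynomial (Fin r) A)
    (∑ l, (MvPolynomial.X l : MvPolynomial (Fin r) A) ⊗ₜ[A] v l)).map Φ
  have hint := fun i α => isIntegral_charpoly_coeff (A := A) U hp
    (by rw [← hpU, IsScalarTower.algebraMap_eq (MvPolynomial (Fin r) A) (MvPolynomial (Fin r) K)]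
        rfl) i α
  let C : Set K := ⋃ i ∈ Finset.range (n + 1), (fun α => (U.charpoly.coeff i).coeff α) ''
    ((U.charpoly.coeff i).support : Set (Fin r →₀ ℕ))
  have hC : C.Finite := (Finset.range (n + 1)).finite_toSet.biUnion fun i _ =>
    ((U.charpoly.coeff i).support.finite_toSet).image _
  have hfg : (Algebra.adjoin A C).toSubmodule.FG := fg_adjoin_of_finite hC fun x hx => by
    obtain ⟨i, -, α, -, rfl⟩ := Set.mem_iUnion₂.mp hx
    exact hint i α
  refine hfg.of_le ?_
  refine Subalgebra.toSubmodule.le_iff_le.mpr (Algebra.adjoin_le ?_)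
  rintro _ ⟨w, j, rfl⟩
  obtain ⟨a, ha⟩ := (Submodule.mem_span_range_iff_exists_fun A).mp (hv ▸ Submodule.mem_top (x := w))
  let ev : MvPolynomial (Fin r) K →ₐ[K] K := MvPolynomial.aeval fun l => algebraMap A K (a l)
  have hUw : U.map ev = LinearMap.toMatrix e e (w.baseChange K) := by
    rw [show LinearMap.toMatrix e e (w.baseChange K) = ψ w from rfl, ← ha, map_sum]
    simp only [U, map_sum, Φ, Algebra.TensorProduct.lift_tmul]
    ext x y
    simp [ι, Matrix.sum_apply, Algebra.ofId_apply, Matrix.algebraMap_eq_diagonal, Matrix.diagonal_mul,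
      RingHom.algebraMap_toAlgebra, ev, map_sum, Algebra.smul_def]
  have hc : (w.baseChange K).charpoly.coeff j = ev (U.charpoly.coeff j) := by
    rw [← LinearMap.charpoly_toMatrix (w.baseChange K) e, ← hUw]
    exact (congrArg (fun q => q.coeff j) (Matrix.charpoly_map U ev.toRingHom)).trans
      (Polynomial.coeff_map _ _)
  change (w.baseChange K).charpoly.coeff j ∈ Algebra.adjoin A C
  rw [hc]
  simp only [ev, MvPolynomial.aeval_def, MvPolynomial.eval₂_eq]
  refine sum_mem fun α hα => mul_mem ?_ (prod_mem fun l _ => pow_mem (Subalgebra.algebraMap_mem _ _) _)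
  rcases Nat.lt_or_ge j (n + 1) with hj | hj
  · exact Algebra.subset_adjoin (Set.mem_iUnion₂.mpr ⟨j, Finset.mem_range.mpr hj, α, hα, rfl⟩)
  · exfalso
    rcases subsingleton_or_nontrivial K with hK | hK
    · exact MvPolynomial.mem_support_iff.mp hα (Subsingleton.elim _ _)
    · rw [Polynomial.coeff_eq_zero_of_natDegree_lt (by
        rw [Matrix.charpoly_natDegree_eq_dim, Fintype.card_fin]; omega)] at hα
      simp at hα

end Groth.Agent.S4432
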