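import Groth.Statements.S4433
import Groth.Agent.H46.Dvr

set_option autoImplicit false
universe u
open EGA2

namespace Groth.Agent.S4433

/-- Let A be a Noetherian local domain that is not a field, K its field of fractions and L a finitely
generated field extension of K. Then there is a discrete valuation subring of L, with fraction field
L, which contains the image of A and dominates A (elements of the maximal ideal of A have valuation
less than one). -/
theorem result (A : Type u) [CommRing A] [IsDomain A] [IsNoetherianRing A]
    [IsLocalRing A] (hA : ¬ IsField A) (K : Type u) [Field K] [Algebra A K] [IsFractionRing A K]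
    (L : Type u) [Field L] [Algebra K L] [Algebra A L] [IsScalarTower A K L] (hfg : (⊤ : IntermediateField K L).FG) :
    ∃ R : ValuationSubring L, IsDiscreteValuationRing R ∧ (∀ a : A, algebraMap A L a ∈ R) ∧
      ∀ a ∈ IsLocalRing.maximalIdeal A, R.valuation (algebraMap A L a) < 1 := by
  classical
  have hinjA : Function.Injective (algebraMap A L) := by
    rw [IsScalarTower.algebraMap_eq A K L]
    exact (algebraMap K L).injective.comp (IsFractionRing.injective A K)
  obtain ⟨V, hV, hVloc⟩ := IsLocalRing.exists_factor_valuationRing (algebraMap A L)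
  obtain ⟨s, hs⟩ := hfg
  let sw : L → L := fun x => if x ∈ V then x else x⁻¹
  have hsw : ∀ x, sw x ∈ V := fun x => by
    by_cases hx : x ∈ V
    · simp [sw, hx]
    · simpa [sw, hx] using (V.mem_or_inv_mem x).resolve_left hx
  let C := Algebra.adjoin A ((s.image sw : Finset L) : Set L)
  have : IsNoetherianRing C := isNoetherianRing_of_fg ⟨_, rfl⟩
  have hCV : ∀ c : C, (c : L) ∈ V := by
    rintro ⟨c, hc⟩
    induction hc using Algebra.adjoin_induction with
    | mem x hx =>
      obtain ⟨y, _, rfl⟩ := Finset.mem_image.1 hx
      exact hsw y
    | algebraMap r => exact hV r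
    | add x y _ _ hx hy => exact add_mem hx hy
    | mul x y _ _ hx hy => exact mul_mem hx hy
  have : IsFractionRing C L := by
    refine .of_field C L fun z => ?_
    have hz : z ∈ Subfield.closure (C : Set L) := by
      have hzK : z ∈ IntermediateField.adjoin K (s : Set L) := by rw [hs]; trivial
      have hle : Set.range (algebraMap K L) ∪ (s : Set L) ⊆ Subfield.closure (C : Set L) := by
        rintro _ (⟨k, rfl⟩ | hy)
        · obtain ⟨a, b, _, rfl⟩ := IsFractionRing.div_surjective (A := A) k
          rw [map_div₀, ← IsScalarTower.algebraMap_apply A K L,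
            ← IsScalarTower.algebraMap_apply A K L]
          exact div_mem (Subfield.subset_closure (C.algebraMap_mem a))
            (Subfield.subset_closure (C.algebraMap_mem b))
        · rename_i y
          have hm : sw y ∈ Subfield.closure (C : Set L) :=
            Subfield.subset_closure (Algebra.subset_adjoin
              (Finset.mem_coe.2 (Finset.mem_image_of_mem sw (Finset.mem_coe.1 hy))))
          by_cases hyV : y ∈ V
          · simpa [sw, hyV] using hm
          · simpa [sw, hyV] using inv_mem hm
      exact (Subfield.closure_le.2 hle) hzK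
    obtain ⟨p, hp, q, hq, rfl⟩ := Subfield.mem_closure_iff.1 hz
    rw [show Subring.closure (C : Set L) = C.toSubring from Subring.closure_eq C.toSubring] at hp hq
    exact ⟨⟨p, hp⟩, ⟨q, hq⟩, rfl⟩
  let P : Ideal C := (IsLocalRing.maximalIdeal V).comap (C.toSubring.subtype.codRestrict V.toSubring hCV)
  let B := Localization.AtPrime P
  have : IsNoetherianRing B := IsLocalization.isNoetherianRing P.primeCompl B ‹_›
  let φ : B →+* L := IsLocalization.lift (M := P.primeCompl) (g := algebraMap C L) fun y =>
    isUnit_iff_ne_zero.2 ((map_ne_zero_iff _ (IsFractionRing.injective C L)).2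
      fun h => y.2 (h ▸ P.zero_mem))
  algebraize [φ]
  have : IsScalarTower C B L :=
    IsScalarTower.of_algebraMap_eq fun c => (IsLocalization.lift_eq _ c).symm
  have : IsFractionRing B L :=
    IsFractionRing.isFractionRing_of_isDomain_of_isLocalization P.primeCompl B L
  have hmP : ∀ a ∈ IsLocalRing.maximalIdeal A, algebraMap A C a ∈ P := fun a ha hu =>
    ha (hVloc.1 a hu)
  have hmB : ∀ a ∈ IsLocalRing.maximalIdeal A,
      algebraMap C B (algebraMap A C a) ∈ IsLocalRing.maximalIdeal B := fun a ha =>
    (IsLocalization.AtPrime.to_map_mem_maximal_iff B P _).2 (hmP a ha)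
  have hB : ¬ IsField B := by
    intro hF
    obtain ⟨a, ha, ha0⟩ := Submodule.exists_mem_ne_zero_of_ne_bot
      (fun h => hA (IsLocalRing.isField_iff_maximalIdeal_eq.2 h))
    have := hmB a ha
    rw [IsLocalRing.isField_iff_maximalIdeal_eq.1 hF, Ideal.mem_bot] at this
    refine ha0 (hinjA ?_)
    rw [map_zero, show algebraMap A L a = algebraMap C L (algebraMap A C a) from rfl,
      IsScalarTower.algebraMap_apply C B L, this, map_zero]
  obtain ⟨R, hR, hRmem, hRlt⟩ := Groth.Agent.H46.Dvr.exists_dvr_dominating (L := L) hB
  have e : ∀ a, algebraMap A L a = algebraMap B L (algebraMap C B (algebraMap A C a)) := fun a => by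
    rw [← IsScalarTower.algebraMap_apply C B L]; rfl
  exact ⟨R, hR, fun a => e a ▸ hRmem _, fun a ha => e a ▸ hRlt _ (hmB a ha)⟩

end Groth.Agent.S4433
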