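import Groth.Statements.S4434
import Groth.Agent.Lib.DvrCrit.Algebra
-- import your own Groth.Agent.* helpers here

set_option autoImplicit false
universe u
open EGA2

namespace Groth.Agent.S4434
set_option backward.isDefEq.respectTransparency false

/-- Let A be a Noetherian domain with field of fractions K and L a finitely generated field extension of
K. The integral closure of A in L is the intersection of the discrete valuation subrings of L (with
fraction field L) containing the image of A: an element of L is integral over A exactly when it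
belongs to all of them. -/
theorem result (A : Type u) [CommRing A] [IsDomain A] [IsNoetherianRing A]
    (K : Type u) [Field K] [Algebra A K] [IsFractionRing A K]
    (L : Type u) [Field L] [Algebra K L] [Algebra A L] [IsScalarTower A K L] (hfg : (⊤ : IntermediateField K L).FG) (x : L) :
    IsIntegral A x ↔ ∀ R : ValuationSubring L, IsDiscreteValuationRing R → (∀ a : A, algebraMap A L a ∈ R) → x ∈ R := by
  constructor
  · intro hx R _ hR
    let φ : A →+* R := (algebraMap A L).codRestrict R.toSubring hR
    letI := φ.toAlgebra
    haveI : IsScalarTower A R L := IsScalarTower.of_algebraMap_eq fun _ => rfl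
    obtain ⟨y, hy⟩ := IsIntegrallyClosed.isIntegral_iff.1 (hx.tower_top (A := R))
    exact hy ▸ y.2
  · intro H
    by_contra hx
    haveI : IsIntegrallyClosedIn (integralClosure A L).toSubring L :=
      inferInstanceAs (IsIntegrallyClosedIn (integralClosure A L) L)
    obtain ⟨V, hAV, hxV⟩ := Subring.exists_le_valuationSubring_of_isIntegrallyClosedIn
      (R := (integralClosure A L).toSubring) (x := x) hx
    have hAV' : ∀ a, algebraMap A L a ∈ V := fun a => hAV ((integralClosure A L).algebraMap_mem a)
    have hx' : x⁻¹ ∈ V := (V.mem_or_inv_mem x).resolve_left hxV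
    have hx0 : x ≠ 0 := fun h => hxV (h ▸ V.zero_mem)
    let ev : Polynomial A →+* V :=
      Polynomial.eval₂RingHom ((algebraMap A L).codRestrict V.toSubring hAV') ⟨x⁻¹, hx'⟩
    let evL : Polynomial A →+* L := V.subtype.comp ev
    have hX : ev Polynomial.X ∈ IsLocalRing.maximalIdeal V := by
      intro hu
      obtain ⟨c, hc⟩ := isUnit_iff_exists_inv.1 hu
      have hc' : x⁻¹ * (c : L) = 1 := by simpa [ev] using congrArg Subtype.val hc
      exact hxV ((inv_inv x) ▸ (inv_eq_of_mul_eq_one_right hc') ▸ c.2)
    have hlt : RingHom.ker evL < (IsLocalRing.maximalIdeal V).comap ev := by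
      refine lt_of_le_of_ne (fun a ha => ?_) fun e => ?_
      · rw [Ideal.mem_comap, show ev a = 0 from Subtype.ext ha]
        exact zero_mem _
      · have h1 : (Polynomial.X : Polynomial A) ∈ RingHom.ker evL := e ▸ hX
        exact hx0 (inv_eq_zero.1 (by simpa [evL, ev] using h1))
    obtain ⟨s, hs⟩ := hfg
    have hC : ∀ a, evL (Polynomial.C a) = algebraMap A L a := fun a =>
      congrArg Subtype.val (Polynomial.eval₂_C _ _)
    have hclo : Subfield.closure (Set.range evL ∪ (s : Set L)) = ⊤ := by
      refine eq_top_iff.2 fun z _ => ?_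
      have hz : z ∈ IntermediateField.adjoin K (s : Set L) := by rw [hs]; trivial
      refine (Subfield.closure_le.2 ?_ : _ ≤ Subfield.closure (Set.range evL ∪ (s : Set L))) hz
      rintro _ (⟨k, rfl⟩ | h)
      · obtain ⟨a, b, _, rfl⟩ := IsFractionRing.div_surjective (A := A) k
        rw [map_div₀, ← IsScalarTower.algebraMap_apply A K L, ← IsScalarTower.algebraMap_apply A K L]
        exact div_mem (Subfield.subset_closure (Or.inl ⟨Polynomial.C a, hC a⟩))
          (Subfield.subset_closure (Or.inl ⟨Polynomial.C b, hC b⟩))
      · exact Subfield.subset_closure (Or.inr h)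
    obtain ⟨W, hW, hmem, hcomap⟩ := Lib.DvrCrit.exists_dvr evL s hclo _ hlt
    have h1 : evL.codRestrict W.toSubring hmem Polynomial.X ∈ IsLocalRing.maximalIdeal W := by
      rw [← Ideal.mem_comap, hcomap]; exact hX
    have hxW : x ∈ W := H W hW fun a => hC a ▸ hmem (Polynomial.C a)
    refine h1 (isUnit_iff_exists_inv.2 ⟨⟨x, hxW⟩, Subtype.ext ?_⟩)
    show evL Polynomial.X * x = 1
    simp [evL, ev, hx0]

end Groth.Agent.S4434
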