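import Groth.Statements.S4435
import Groth.Agent.Lib.GenFinite.Degree
import Mathlib.RingTheory.Adjoin.Field


set_option autoImplicit false
universe u
open CategoryTheory CategoryTheory.Limits AlgebraicGeometry
open EGA2

namespace Groth.Agent.S4435

/-- The fraction field of an integral algebra is integral over the fraction field of the base. -/
theorem field_case {R B L F : Type u} [CommRing R] [CommRing B] [Field L] [Field F] (ψ : R →+* B) (a : R →+* L)
    (β : B →+* F) (φ : L →+* F) (comm : ∀ r, φ (a r) = β (ψ r))
    (hfrac : ∀ z : F, ∃ b c : B, z * β c = β b ∧ β c ≠ 0) :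
    (ψ.IsIntegral → φ.IsIntegral) ∧ (ψ.Finite → φ.Finite) := by
  letI := φ.toAlgebra
  letI : Algebra R L := a.toAlgebra
  letI : Algebra R B := ψ.toAlgebra
  letI : Algebra R F := (φ.comp a).toAlgebra
  haveI : IsScalarTower R L F := .of_algebraMap_eq fun _ => rfl
  let β' : B →ₐ[R] F := { β with commutes' := fun r => (comm r).symm }
  have hint : ψ.IsIntegral → ∀ b : B, IsIntegral L (β b) := fun hψ b => by
    have h1 : IsIntegral R b := hψ b
    exact IsIntegral.tower_top (A := L) (IsIntegral.map β' h1)
  have key : ψ.IsIntegral → ∀ z : F, ∃ b c : B, z = β b * (β c)⁻¹ ∧ IsIntegral L (β b) ∧ IsIntegral L (β c) := by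
    intro hψ z
    obtain ⟨b, c, e, hc⟩ := hfrac z
    exact ⟨b, c, (eq_mul_inv_iff_mul_eq₀ hc).mpr e, (hint hψ b),
      (hint hψ c)⟩
  refine ⟨fun h z => ?_, fun h => ?_⟩
  · obtain ⟨b, c, rfl, hb, hc⟩ := key h z
    exact hb.mul hc.inv
  · haveI : Module.Finite R B := h
    obtain ⟨s, hs⟩ := Module.Finite.fg_top (R := R) (M := B)
    let A : Subalgebra L F := Algebra.adjoin L (β '' (s : Set B))
    have hsint : ∀ x ∈ β '' (s : Set B), IsIntegral L x := by
      rintro _ ⟨b, _, rfl⟩
      exact hint h.to_isIntegral b
    have hA : A.toSubmodule.FG := fg_adjoin_of_finite (s.finite_toSet.image β) hsint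
    have hmem : ∀ b : B, β b ∈ A := fun b => by
      have hb : b ∈ Submodule.span R (s : Set B) := hs ▸ Submodule.mem_top
      refine Submodule.span_induction (fun x hx => Algebra.subset_adjoin ⟨x, hx, rfl⟩) ?_ ?_ ?_ hb
      · simp
      · intro x y _ _ hx hy; rw [map_add]; exact add_mem hx hy
      · intro r x _ hx
        rw [Algebra.smul_def, map_mul, show β (algebraMap R B r) = algebraMap L F (a r) from (comm r).symm]
        exact mul_mem (Subalgebra.algebraMap_mem A (a r)) hx
    have htop : A = ⊤ := eq_top_iff.mpr fun z _ => by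
      obtain ⟨b, c, rfl, hb, hc⟩ := key h.to_isIntegral z
      refine mul_mem (hmem b) ?_
      exact A.inv_mem_of_algebraic (x := ⟨β c, hmem c⟩) hc.isAlgebraic
    rw [htop, Algebra.top_toSubmodule] at hA
    exact ⟨hA⟩

/-- Let X, S be integral schemes and f : X ⟶ S a dominant morphism. If f is integral, the field of
rational functions of X is algebraic over that of S; if f is finite, it is a finite extension. Here
the extension is given by the stalk map of f at the generic point of X, whose source is the local
ring of S at the generic point of S (f being dominant), i.e. the function field of S. -/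
theorem result {X S : Scheme.{u}} [IsIntegral X] [IsIntegral S]
    (f : X ⟶ S) [IsDominant f] :
    (IsIntegralHom f → (f.stalkMap (genericPoint X)).hom.IsIntegral) ∧
      (IsFinite f → (f.stalkMap (genericPoint X)).hom.Finite) := by
  haveI : IsDominant f := inferInstance
  let η := genericPoint X
  have hη : f η = genericPoint S := Groth.Agent.Lib.GenFinite.Degree.map_genericPoint f
  obtain ⟨V, hV, hηV, -⟩ := exists_isAffineOpen_mem_and_subset (X := S) (x := f η) (U := ⊤) trivial
  letI : Field (S.presheaf.stalk (f η)) :=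
    (show IsField (S.presheaf.stalk (f η)) by rw [hη]; exact Semifield.toIsField S.functionField).toField
  have comm : ∀ r, (f.stalkMap η).hom ((S.presheaf.germ V (f η) hηV).hom r) =
      (X.presheaf.germ (f ⁻¹ᵁ V) η hηV).hom ((f.app V).hom r) := fun r =>
    Scheme.Hom.germ_stalkMap_apply f V η hηV r
  have main : IsAffineOpen (f ⁻¹ᵁ V) → ((f.app V).hom.IsIntegral → (f.stalkMap η).hom.IsIntegral) ∧
      ((f.app V).hom.Finite → (f.stalkMap η).hom.Finite) := by
    intro hU
    haveI : Nonempty (f ⁻¹ᵁ V : X.Opens) := ⟨⟨η, hηV⟩⟩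
    haveI : IsFractionRing Γ(X, f ⁻¹ᵁ V) X.functionField := functionField_isFractionRing_of_isAffineOpen X _ hU
    exact field_case (F := X.functionField) (f.app V).hom (S.presheaf.germ V (f η) hηV).hom
      (X.presheaf.germ (f ⁻¹ᵁ V) η hηV).hom (f.stalkMap η).hom comm fun z => by
        obtain ⟨b, c, hc, e⟩ := IsFractionRing.div_surjective (A := Γ(X, f ⁻¹ᵁ V)) z
        have hc0 := IsFractionRing.to_map_ne_zero_of_mem_nonZeroDivisors (K := X.functionField) hc
        exact ⟨b, c, ((div_eq_iff hc0).mp e).symm, hc0⟩
  exact ⟨fun h => (main (hV.preimage f)).1 (IsIntegralHom.isIntegral_app f V hV), fun h => (main (hV.preimage f)).2 (IsFinite.finite_app (f := f) V hV)⟩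

end Groth.Agent.S4435
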