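import Groth.Statements.S4438
import Groth.Agent.Lib.NormAmple.FinFreeMain
import Groth.Agent.Lib.NormAmple.Restrict

set_option autoImplicit false
universe u
open CategoryTheory CategoryTheory.Limits AlgebraicGeometry
open EGA2

namespace Groth.Agent.S4438

/-- In existence form: let f : X ⟶ Y be a quasi-compact morphism and g : X' ⟶ X a finite surjective
morphism such that the direct image of O_{X'} is a finite locally free O_X-module. Then there is an
invertible O_X-module ample relative to f if and only if there is an invertible O_{X'}-module ample
relative to f ∘ g. (For the descent direction the published statement names the module on X, the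
norm of the given one; this row asserts existence only. The other direction is the inverse image
along the affine morphism g.) -/
theorem result {X X' Y : Scheme.{u}} (f : X ⟶ Y) [QuasiCompact f]
    (g : X' ⟶ X) [IsFinite g] [Surjective g]
    (hfree : FlatMod.IsFinLocFree ((Coh.push g).obj (Coh.structureModule X'))) :
    (∃ L : X.Modules, PicF.IsInvertible L ∧ RelAmple.IsRelAmple f L) ↔
      ∃ L' : X'.Modules, PicF.IsInvertible L' ∧ RelAmple.IsRelAmple (g ≫ f) L' := by
  constructor
  · rintro ⟨L, hL, hA⟩
    exact ⟨_, PicLoc.isInvertible_pullback g hL, Groth.Agent.Lib.Ample.RelAmple.isRelAmple_pullback f g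
      (Groth.Agent.Lib.Ample.Pullback.isQuasiAffine_of_isAffineHom g) hA⟩
  · rintro ⟨L', hL', hA⟩
    let N := Groth.Agent.Lib.NormAmple.FinFreeMain.toPreNorm
      (Groth.Agent.Lib.NormAmple.FinFreeMain.unitAtlas hfree) g.surjective
    obtain ⟨P, hP, ⟨D⟩⟩ := Groth.Agent.Lib.NormAmple.Bundle.exists_frames N hL'
    exact ⟨P, hP, Groth.Agent.Lib.NormAmple.Restrict.isRelAmple_norm f g.surjective D hP hA⟩

end Groth.Agent.S4438
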