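import Groth.Statements.S4439
import Groth.Agent.S2342
import Groth.Agent.Lib.SchImage.Integral
-- import your own Groth.Agent.* helpers here

set_option autoImplicit false
universe u
open CategoryTheory CategoryTheory.Limits AlgebraicGeometry
open EGA2

namespace Groth.Agent.S4439

/-- Let A be a valuation ring with field of fractions K and f : X ⟶ Spec A a separated morphism whose
underlying map is closed. Then restriction to the generic point is a bijection from sections of f to
K-rational points of the generic fibre: every morphism Spec K ⟶ X over Spec A extends to exactly one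
section of f. -/
theorem result (A : Type u) [CommRing A] [IsDomain A]
    [ValuationRing A] (K : Type u) [Field K] [Algebra A K] [IsFractionRing A K] (X : Scheme.{u})
    (f : X ⟶ Spec (CommRingCat.of A)) [IsSeparated f] (hf : IsClosedMap f.base)
    (x : Spec (CommRingCat.of K) ⟶ X) (hx : x ≫ f = Spec.map (CommRingCat.ofHom (algebraMap A K))) :
    ∃! s : Spec (CommRingCat.of A) ⟶ X, s ≫ f = 𝟙 _ ∧ Spec.map (CommRingCat.ofHom (algebraMap A K)) ≫ s = x := by
  let i := Spec.map (CommRingCat.ofHom (algebraMap A K))
  let S := Spec (CommRingCat.of A)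
  haveI hi : IsPreimmersion i := IsPreimmersion.of_isLocalization (nonZeroDivisors A)
  haveI : IsDominant i := ⟨(PrimeSpectrum.denseRange_comap_iff_ker_le_nilRadical (algebraMap A K)).mpr (by
    rw [(RingHom.injective_iff_ker_eq_bot _).mp (IsFractionRing.injective A K)]; exact bot_le)⟩
  haveI : X.IsSeparated := ⟨by
    rw [Limits.terminal.hom_ext (Limits.terminal.from X) (f ≫ Limits.terminal.from S)]
    infer_instance⟩
  have hz : ∀ z, i.base z = genericPoint S := fun z => by
    refine ((genericPoint_spec S).eq ?_).symm
    change closure {i.base z} = ⊤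
    rw [Set.top_eq_univ, ← i.denseRange.closure_range]
    congr 1
    refine Set.Subset.antisymm (Set.singleton_subset_iff.2 ⟨z, rfl⟩) ?_
    rintro _ ⟨w, rfl⟩
    rw [Subsingleton.elim w z]
    exact Set.mem_singleton _
  obtain ⟨z₀⟩ : Nonempty (Spec (CommRingCat.of K)) := inferInstance
  let p := x.base z₀
  have hp : f.base p = genericPoint S := (congrArg (fun m : Spec (CommRingCat.of K) ⟶ S => m.base z₀) hx).trans (hz z₀)
  -- `p` is closed in the generic fibre
  have hclosed : ∀ q, p ⤳ q → f.base q = genericPoint S → q = p := by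
    intro q hpq hq
    let s := pullback.lift x (𝟙 _) (by rw [hx, Category.id_comp])
    haveI : IsClosedImmersion (s ≫ pullback.snd f i) := by rw [pullback.lift_snd]; infer_instance
    haveI : IsClosedImmersion s := IsClosedImmersion.of_comp s (pullback.snd f i)
    haveI : IsPreimmersion (pullback.fst f i) := MorphismProperty.pullback_fst f i hi
    have hqr : q ∈ Set.range (pullback.fst f i) := by
      rw [Scheme.Pullback.range_fst]
      exact ⟨z₀, (hz z₀).trans hq.symm⟩
    obtain ⟨q', rfl⟩ := hqr
    have hfs : (pullback.fst f i).base (s.base z₀) = p :=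
      congrArg (fun m : Spec (CommRingCat.of K) ⟶ X => m.base z₀) (pullback.lift_fst _ _ _)
    have hq' : q' ∈ Set.range s.base := by
      rw [← hfs] at hpq
      exact ((pullback.fst f i).isEmbedding.isInducing.specializes_iff.1 hpq).mem_closed
        s.isClosedEmbedding.isClosed_range ⟨z₀, rfl⟩
    obtain ⟨w, rfl⟩ := hq'
    rw [Subsingleton.elim w z₀, hfs]
  haveI : QuasiCompact x := by
    haveI : IsAffineHom (x ≫ f) := by rw [hx]; infer_instance
    exact QuasiCompact.of_comp x f
  haveI := Groth.Agent.Lib.SchImage.Integral.isIntegral x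
  let Z := x.image
  let g : Z ⟶ S := x.imageι ≫ f
  haveI : Z.IsSeparated := ⟨by
    rw [Limits.terminal.hom_ext (Limits.terminal.from Z) (x.imageι ≫ Limits.terminal.from X)]
    infer_instance⟩
  let η := x.toImage.base z₀
  have hη : x.imageι.base η = p := by
    change (x.toImage ≫ x.imageι).base z₀ = p
    rw [Scheme.Hom.toImage_imageι]
  have hrange : ∀ z : Z, p ⤳ x.imageι.base z := fun z => by
    rw [← hη]
    refine (Specializes.map ?_ x.imageι.continuous)
    have hd := x.toImage.denseRange
    rw [specializes_iff_mem_closure]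
    have : Set.range x.toImage.base = {η} := Set.Subset.antisymm (by
      rintro _ ⟨w, rfl⟩; rw [Subsingleton.elim w z₀]; exact rfl) (Set.singleton_subset_iff.2 ⟨z₀, rfl⟩)
    rw [← this, hd.closure_range]
    exact Set.mem_univ z
  have hfib : g.base ⁻¹' {genericPoint S} = {η} := by
    refine Set.Subset.antisymm (fun z hz' => ?_) (Set.singleton_subset_iff.2 ?_)
    · exact x.imageι.isEmbedding.injective ((hclosed _ (hrange z) hz').trans hη.symm)
    · change f.base (x.imageι.base η) = genericPoint S
      rw [hη]; exact hp
  have hgc : IsClosedMap g.base := hf.comp x.imageι.isClosedEmbedding.isClosedMap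
  have hres : Function.Bijective (g.residueFieldMap η).hom := by
    refine ⟨RingHom.injective _, fun b => ?_⟩
    have hcomp : x.toImage ≫ g = i := by
      show x.toImage ≫ x.imageι ≫ f = _
      rw [← Category.assoc, Scheme.Hom.toImage_imageι]
      exact hx
    have hsurj : Function.Surjective ((x.toImage ≫ g).residueFieldMap z₀).hom := by
      haveI : IsPreimmersion (x.toImage ≫ g) := hcomp ▸ hi
      intro c
      obtain ⟨c', rfl⟩ := Ideal.Quotient.mk_surjective c
      obtain ⟨a, rfl⟩ := (x.toImage ≫ g).stalkMap_surjective z₀ c'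
      exact ⟨S.residue _ a, ConcreteCategory.congr_hom (Scheme.residue_residueFieldMap (x.toImage ≫ g) z₀) a⟩
    rw [Scheme.residueFieldMap_comp] at hsurj
    obtain ⟨a, ha⟩ := hsurj ((x.toImage.residueFieldMap z₀).hom b)
    exact ⟨a, RingHom.injective (x.toImage.residueFieldMap z₀).hom ha⟩
  haveI : IsIso g := Groth.Agent.S2342.result A Z g hgc η hfib hres
  have hcomp : x.toImage ≫ g = i := by
    show x.toImage ≫ x.imageι ≫ f = _
    rw [← Category.assoc, Scheme.Hom.toImage_imageι]
    exact hx
  refine ⟨inv g ≫ x.imageι, ⟨by simp [g], ?_⟩, fun s' ⟨h1, h2⟩ => ?_⟩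
  · change i ≫ inv g ≫ x.imageι = x
    rw [← hcomp, Category.assoc, IsIso.hom_inv_id_assoc, Scheme.Hom.toImage_imageι]
  · refine ext_of_isDominant_of_isSeparated f (h1.trans (by simp [g])) i ?_
    rw [h2, ← hcomp, Category.assoc, IsIso.hom_inv_id_assoc, Scheme.Hom.toImage_imageι]

end Groth.Agent.S4439
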