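import Groth.Statements.S4441
import Groth.Agent.Lib.DvrCrit.Birational
-- import your own Groth.Agent.* helpers here

set_option autoImplicit false
universe u
open CategoryTheory CategoryTheory.Limits AlgebraicGeometry
open EGA2

namespace Groth.Agent.S4441
set_option backward.isDefEq.respectTransparency false

/-- Let X and Y be integral separated schemes and f : X ⟶ Y a dominant, quasi-compact, universally
closed morphism, ξ the generic point of X. Every valuation subring R of the function field K(X) of X
which dominates the local ring of Y at a point y (via O_{Y,y} → O_{Y,f(ξ)} → K(X): image inside R,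
maximal ideal into the maximal ideal of R) also dominates the local ring of X at some point x (via
O_{X,x} → K(X)). -/
theorem result {X Y : Scheme.{u}} [IsIntegral X] [IsIntegral Y]
    [X.IsSeparated] [Y.IsSeparated] (f : X ⟶ Y) [IsDominant f] [QuasiCompact f] [UniversallyClosed f]
    (R : ValuationSubring X.functionField) (y : Y) (hy : f.base (genericPoint X) ⤳ y)
    (hdom : (∀ a : Y.presheaf.stalk y, (Y.presheaf.stalkSpecializes hy ≫ f.stalkMap (genericPoint X)).hom a ∈ R) ∧
      ∀ a ∈ IsLocalRing.maximalIdeal (Y.presheaf.stalk y),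
        R.valuation ((Y.presheaf.stalkSpecializes hy ≫ f.stalkMap (genericPoint X)).hom a) < 1) :
    ∃ x : X, (∀ a : X.presheaf.stalk x, algebraMap (X.presheaf.stalk x) X.functionField a ∈ R) ∧
      ∀ a ∈ IsLocalRing.maximalIdeal (X.presheaf.stalk x), R.valuation (algebraMap (X.presheaf.stalk x) X.functionField a) < 1 := by
  obtain ⟨φ, -, w⟩ := Lib.DvrCrit.exists_morphism f (Lib.DvrCrit.up R) y hy
    ((Lib.DvrCrit.down_up R).symm ▸ hdom)
  obtain ⟨l, -, hl⟩ := Lib.DvrCrit.existence_apply (K := X.residueField (genericPoint X))
    (Lib.DvrCrit.existence_of_universallyClosed f) (X.fromSpecResidueField (genericPoint X)) φ w.symm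
  have hx : (𝟙 X : X ⟶ X).base (genericPoint X) ⤳ l (IsLocalRing.closedPoint (Lib.DvrCrit.up R)) :=
    genericPoint_specializes _
  have h := (Lib.DvrCrit.dominates_id_iff _ _ hx).1
    (Lib.DvrCrit.dominates_of_morphism (𝟙 X) (Lib.DvrCrit.up R) l (hl.trans (Category.comp_id _).symm) _ rfl hx)
  rw [Lib.DvrCrit.down_up] at h
  exact ⟨_, h⟩

end Groth.Agent.S4441
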