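import Groth.Statements.S4442
import Groth.Agent.H2.Rigid.DimPoint

set_option autoImplicit false
universe u
open CategoryTheory CategoryTheory.Limits AlgebraicGeometry
attribute [local instance] Curv2.resAlgebra
open EGA2

namespace Groth.Agent.S4442

/-- (a) ⇔ (b): let X be a scheme of finite type over a field k. The residue fields of the generic points
of the irreducible components of X all have transcendence degree one over k if and only if the local
ring of X at every closed point has dimension one. (The published statement has a third equivalent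
condition: the irreducible closed subsets of X other than the irreducible components are exactly the
closed points of X. This row states only the equivalence of the first two.) -/
theorem result (k : Type u) [Field k] (X : Scheme.{u})
    [X.Over (Spec (CommRingCat.of k))] [LocallyOfFiniteType (X ↘ (Spec (CommRingCat.of k)))]
    [QuasiCompact (X ↘ (Spec (CommRingCat.of k)))] :
    (∀ x : X, closure ({x} : Set X) ∈ irreducibleComponents (X : Type u) → Algebra.trdeg k (X.residueField x) = 1) ↔
      ∀ x : X, IsClosed ({x} : Set X) → ringKrullDim (X.presheaf.stalk x) = 1 := by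
  let f : X ⟶ Spec (CommRingCat.of k) := X ↘ Spec (CommRingCat.of k)
  haveI : LocallyOfFiniteType f := inferInstanceAs (LocallyOfFiniteType (X ↘ Spec (CommRingCat.of k)))
  haveI : QuasiCompact f := inferInstanceAs (QuasiCompact (X ↘ Spec (CommRingCat.of k)))
  haveI : CompactSpace X := QuasiCompact.compactSpace_of_compactSpace f
  open Groth.Agent.Lib.Cyc in
  have hδ := FieldDim.isDimFun_fdelta f
  open Groth.Agent.Lib.Cyc in
  have htr : ∀ x : X, Algebra.trdeg k (X.residueField x) = 1 ↔ FieldDim.fdelta f x = 1 := fun x => by
    rw [Groth.Agent.H2.Rigid.DimPoint.fdelta_eq_trdeg]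
    have h0 := FieldDim.fdelta_nonneg f x
    constructor
    · intro h
      have h1 : (FieldDim.fdelta f x).toNat = 1 := by exact_mod_cast h
      omega
    · intro h
      have h1 : (FieldDim.fdelta (X ↘ Spec (CommRingCat.of k)) x).toNat = 1 := by
        change (FieldDim.fdelta f x).toNat = 1
        omega
      rw [h1]; norm_num
  open Groth.Agent.Lib.Cyc in
  have hmax : ∀ x : X, closure ({x} : Set X) ∈ irreducibleComponents (X : Type u) ↔ DimFun.IsMaxPt x := fun x => by
    constructor
    · intro h y hy
      have h1 : closure ({y} : Set X) ⊆ closure {x} :=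
        h.2 isIrreducible_singleton.closure (specializes_iff_closure_subset.1 hy)
      exact ((specializes_iff_closure_subset.2 h1).antisymm hy).eq.symm
    · intro h
      refine ⟨isIrreducible_singleton.closure, fun s hs hle => ?_⟩
      obtain ⟨g, hg⟩ := QuasiSober.sober (α := X) hs.closure isClosed_closure
      have hgx : g ⤳ x := hg.specializes (subset_closure (hle (subset_closure rfl)))
      rw [← h g hgx, hg.def]
      exact subset_closure
  open Groth.Agent.Lib.Cyc in
  constructor
  · intro h x hx
    have hle1 : ∀ y : X, FieldDim.fdelta f y ≤ 1 := fun y => by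
      obtain ⟨ξ, hξ, hmξ⟩ := DimFun.exists_isMaxPt_specializes y
      have := DimFun.le_of_specializes hδ hξ
      rw [(htr ξ).1 (h ξ ((hmax ξ).2 hmξ))] at this
      exact this
    have hx0 : FieldDim.fdelta f x = 0 := FieldDim.fdelta_of_isClosed f x hx
    refine le_antisymm (Order.krullDim_le_one_iff.2 fun p => ?_) ?_
    · by_contra hp
      rw [not_or] at hp
      simp only [isMin_iff_forall_not_lt, isMax_iff_forall_not_lt, not_forall, not_not] at hp
      obtain ⟨⟨q, hq⟩, ⟨r, hr⟩⟩ := hp
      have key : ∀ a b : PrimeSpectrum (X.presheaf.stalk x), a < b →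
          FieldDim.fdelta f (X.fromSpecStalk x b) < FieldDim.fdelta f (X.fromSpecStalk x a) := fun a b hab =>
        DimFun.lt_of_specializes hδ ((DimFun.fromSpecStalk_specializes_iff x a b).2 hab.le)
          fun e => hab.ne (DimFun.fromSpecStalk_injective x e)
      have h1 := key _ _ hq
      have h2 := key _ _ hr
      have h3 := hle1 (X.fromSpecStalk x q)
      have h4 := FieldDim.fdelta_nonneg f (X.fromSpecStalk x r)
      omega
    · obtain ⟨ξ, hξ, hmξ⟩ := DimFun.exists_isMaxPt_specializes x
      have h1 := DimFun.krullDim_zeroLocus_genPrime hδ x ξ hξ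
      have h2 : Order.krullDim (PrimeSpectrum.zeroLocus (R := X.presheaf.stalk x)
          (RingHom.ker (Cyc.specMap x ξ hξ) : Set (X.presheaf.stalk x))) ≤
          ringKrullDim (X.presheaf.stalk x) :=
        Order.krullDim_le_of_strictMono Subtype.val fun _ _ h => h
      rw [h1, (htr ξ).1 (h ξ ((hmax ξ).2 hmξ)), hx0] at h2
      simpa using h2
  · intro h ξ hξ
    have hmξ := (hmax ξ).1 hξ
    rw [htr]
    obtain ⟨x, hxξ, hx⟩ := IsClosed.exists_closed_singleton (isClosed_closure (s := ({ξ} : Set X)))
      ⟨ξ, subset_closure rfl⟩
    have hsp : ξ ⤳ x := specializes_iff_mem_closure.2 hxξ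
    have hx0 : FieldDim.fdelta f x = 0 := FieldDim.fdelta_of_isClosed f x hx
    have h1 := DimFun.krullDim_zeroLocus_genPrime hδ x ξ hsp
    have h2 : Order.krullDim (PrimeSpectrum.zeroLocus (R := X.presheaf.stalk x)
        (RingHom.ker (Cyc.specMap x ξ hsp) : Set (X.presheaf.stalk x))) ≤
        ringKrullDim (X.presheaf.stalk x) :=
      Order.krullDim_le_of_strictMono Subtype.val fun _ _ h => h
    rw [h1, h x hx, hx0] at h2
    have h3 : (FieldDim.fdelta f ξ - 0).toNat ≤ 1 := by exact_mod_cast h2
    have h0 := FieldDim.fdelta_nonneg f ξ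
    rcases eq_or_ne x ξ with rfl | hne
    · have h4 := (DimFun.ringKrullDim_stalk_eq_zero_iff x).2 hmξ
      rw [h x hx] at h4
      exact absurd h4 one_ne_zero
    · have h4 := DimFun.lt_of_specializes hδ hsp (Ne.symm hne)
      omega

end Groth.Agent.S4442
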