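import Groth.Statements.S4443
import Groth.Agent.Lib.CurvePts.Basic
import Mathlib.AlgebraicGeometry.Noetherian
import Mathlib.Topology.JacobsonSpace

set_option autoImplicit false
universe u
open CategoryTheory CategoryTheory.Limits AlgebraicGeometry
open EGA2

namespace Groth.Agent.S4443

/-- Let X be an irreducible algebraic curve over a field k (separated and of finite type over k,
nonempty, irreducible, local rings at closed points of dimension one). Then the generic point is the
only non-closed point of X, and the closed subsets of X distinct from X are exactly the finite sets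
of closed points. (The published statement adds that these are also exactly the subsets of X that
are not dense in X, an immediate consequence; this row does not state it.) -/
theorem result (k : Type u) [Field k] (X : Scheme.{u})
    [X.Over (Spec (CommRingCat.of k))] [LocallyOfFiniteType (X ↘ (Spec (CommRingCat.of k)))]
    [QuasiCompact (X ↘ (Spec (CommRingCat.of k)))] [IsSeparated (X ↘ (Spec (CommRingCat.of k)))]
    [Nonempty X] [IrreducibleSpace X] (hcurve : ∀ x : X, IsClosed ({x} : Set X) → ringKrullDim (X.presheaf.stalk x) = 1) :
    (∀ x : X, ¬ IsClosed ({x} : Set X) → x = genericPoint X) ∧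
      ∀ F : Set X, IsClosed F → (F ≠ Set.univ ↔ (F.Finite ∧ ∀ x ∈ F, IsClosed ({x} : Set X))) := by
  haveI : JacobsonSpace X := LocallyOfFiniteType.jacobsonSpace (X ↘ (Spec (CommRingCat.of k)))
  haveI : IsLocallyNoetherian X := LocallyOfFiniteType.isLocallyNoetherian (X ↘ (Spec (CommRingCat.of k)))
  haveI : CompactSpace X := QuasiCompact.compactSpace_of_compactSpace (X ↘ (Spec (CommRingCat.of k)))
  haveI : IsNoetherian X := {}
  have hη := Lib.CurvePts.not_isClosed_generic hcurve
  refine ⟨fun x hx => (Lib.CurvePts.closed_or_generic hcurve x).resolve_left hx, fun F hF => ⟨fun hne => ?_, ?_⟩⟩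
  · have hηF : genericPoint X ∉ F := fun h => hne (Set.eq_univ_of_univ_subset (by
      rw [← (genericPoint_spec X).def]
      exact closure_minimal (Set.singleton_subset_iff.mpr h) hF))
    have hcl : ∀ x ∈ F, IsClosed ({x} : Set X) := fun x hx =>
      (Lib.CurvePts.closed_or_generic hcurve x).resolve_right fun e => hηF (e ▸ hx)
    refine ⟨?_, hcl⟩
    obtain ⟨T, hTf, hTc, hTi, rfl⟩ := TopologicalSpace.NoetherianSpace.exists_finite_set_isClosed_irreducible hF
    rw [Set.sUnion_eq_biUnion]
    refine hTf.biUnion fun Z hZ => ?_
    obtain ⟨ξ, hξ⟩ := QuasiSober.sober (hTi Z hZ) (hTc Z hZ)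
    rw [← hξ.def, (hcl ξ (Set.mem_sUnion_of_mem hξ.mem hZ)).closure_eq]
    exact Set.finite_singleton _
  · rintro ⟨-, hcl⟩ rfl
    exact hη (hcl _ (Set.mem_univ _))

end Groth.Agent.S4443
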