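import Groth.Statements.S4444
import Groth.Agent.Lib.CurveCompl53.Basic
import Groth.Agent.S2280
import Groth.Agent.Lib.AffineCompl.Dim
import Groth.Agent.Lib.QfhGalois.Basic
import Groth.Agent.Lib.HensChart.Coprod
import Mathlib.AlgebraicGeometry.Limits

set_option autoImplicit false
universe u
open CategoryTheory CategoryTheory.Limits AlgebraicGeometry
open EGA2

namespace Groth.Agent.S4444
theorem isClosed_fibre {X : Type*} [TopologicalSpace X] (c : _root_.ConnectedComponents X) :
    IsClosed (ConnectedComponents.mk ⁻¹' {c}) := by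
  obtain ⟨x, rfl⟩ := ConnectedComponents.surjective_coe c
  rw [connectedComponents_preimage_singleton]
  exact isClosed_connectedComponent

theorem finite_connectedComponents (X : Type*) [TopologicalSpace X] [TopologicalSpace.NoetherianSpace X] :
    Finite (_root_.ConnectedComponents X) := by
  haveI := (TopologicalSpace.NoetherianSpace.finite_irreducibleComponents (α := X)).to_subtype
  refine Finite.of_surjective
    (fun Z : irreducibleComponents X => ConnectedComponents.mk Z.2.1.nonempty.choose) fun c => ?_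
  obtain ⟨x, rfl⟩ := ConnectedComponents.surjective_coe c
  refine ⟨⟨_, irreducibleComponent_mem_irreducibleComponents x⟩, ConnectedComponents.coe_eq_coe'.2 ?_⟩
  exact (irreducibleComponent_mem_irreducibleComponents x).1.isConnected.isPreconnected.subset_connectedComponent
    mem_irreducibleComponent (irreducibleComponent_mem_irreducibleComponents x).1.nonempty.choose_spec

theorem dim_eq_one {k : Type u} [Field k] {X : Scheme.{u}} (f : X ⟶ Spec (CommRingCat.of k))
    [LocallyOfFiniteType f]
    (hcurve : ∀ x : X, IsClosed ({x} : Set X) → ringKrullDim (X.presheaf.stalk x) = 1)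
    (O : X.Opens) [IsIntegral (O : Scheme.{u})]
    (hcl : ∀ z : ↥(O : Scheme.{u}), IsClosed ({z} : Set ↥(O : Scheme.{u})) → IsClosed ({z.1} : Set X)) :
    topologicalKrullDim (O : Scheme.{u}) = 1 := by
  haveI : LocallyOfFiniteType (O.ι ≫ f) := inferInstance
  haveI : JacobsonSpace (O : Scheme.{u}) := LocallyOfFiniteType.jacobsonSpace (O.ι ≫ f)
  obtain ⟨z, -, hz⟩ := nonempty_inter_closedPoints (Z := (Set.univ : Set ↥(O : Scheme.{u})))
    Set.univ_nonempty isClosed_univ.isLocallyClosed
  rw [← Groth.Agent.Lib.AffineCompl.Dim.ringKrullDim_stalk_of_isClosed (O.ι ≫ f) (mem_closedPoints_iff.1 hz),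
    ← hcurve z.1 (hcl z (mem_closedPoints_iff.1 hz))]
  exact (ringKrullDim_eq_of_ringEquiv (asIso (O.ι.stalkMap z)).commRingCatIsoToRingEquiv).symm

theorem dim_stalk_eq_one {k : Type u} [Field k] {X : Scheme.{u}} (f : X ⟶ Spec (CommRingCat.of k))
    [IsIntegral X] [LocallyOfFiniteType f] (hdim : topologicalKrullDim X = 1) (z : X)
    (hz : IsClosed ({z} : Set X)) : ringKrullDim (X.presheaf.stalk z) = 1 := by
  rw [Groth.Agent.Lib.AffineCompl.Dim.ringKrullDim_stalk_of_isClosed f hz, hdim]

theorem exists_sigma_ι {σ : Type u} (Y : σ → Scheme.{u}) (y : ↥(∐ Y)) :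
    ∃ (c : σ) (z : Y c), Sigma.ι Y c z = y := by
  obtain ⟨⟨c, z⟩, rfl⟩ := (sigmaMk Y).surjective y
  exact ⟨c, z, (sigmaMk_mk Y c z).symm⟩

theorem isIso_sigmaDesc (X : Scheme.{u})
    (hO : ∀ c, IsOpen (ConnectedComponents.mk ⁻¹' {c})) :
    IsIso (Sigma.desc fun c : _root_.ConnectedComponents X =>
      Scheme.Opens.ι (X := X) ⟨ConnectedComponents.mk ⁻¹' {c}, hO c⟩) := by
  let O : _root_.ConnectedComponents X → X.Opens := fun c => ⟨_, hO c⟩
  haveI : IsOpenImmersion (Sigma.desc fun c => (O c).ι) := isOpenImmersion_sigmaDesc _ _ (fun a b hab => by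
    change Disjoint (Set.range (O a).ι) (Set.range (O b).ι)
    simp only [Scheme.Opens.range_ι]
    exact Disjoint.preimage ConnectedComponents.mk (Set.disjoint_singleton.2 hab))
  haveI : Epi (Sigma.desc fun c => (O c).ι).base := (TopCat.epi_iff_surjective _).2 fun x =>
    ⟨Sigma.ι (fun c => (O c : Scheme.{u})) (ConnectedComponents.mk x) ⟨x, rfl⟩,
      (Scheme.Hom.comp_apply _ _ _).symm.trans
        (congrArg (fun φ : (O (ConnectedComponents.mk x) : Scheme.{u}) ⟶ X => φ ⟨x, rfl⟩)
          (Sigma.ι_desc (fun c => (O c).ι) (ConnectedComponents.mk x)))⟩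
  exact IsOpenImmersion.isIso _

theorem isOpenImmersion_sigmaMap {σ : Type u} {Z Y : σ → Scheme.{u}} (j : ∀ c, Z c ⟶ Y c)
    [∀ c, IsOpenImmersion (j c)] : IsOpenImmersion (Limits.Sigma.map j) := by
  have e : Limits.Sigma.map j = Sigma.desc fun c => j c ≫ Sigma.ι Y c :=
    Sigma.hom_ext _ _ fun c => by rw [Sigma.ι_map, Sigma.ι_desc]
  rw [e]
  refine isOpenImmersion_sigmaDesc _ _ fun a b hab => Set.disjoint_left.2 ?_
  rintro _ ⟨x, rfl⟩ ⟨y, hy⟩
  simp only [Scheme.Hom.comp_apply, ← sigmaMk_mk] at hy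
  exact hab (congrArg Sigma.fst ((sigmaMk Y).injective hy)).symm

theorem isProper_sigmaDesc {σ : Type u} [Finite σ] {Y : σ → Scheme.{u}} {S : Scheme.{u}} (g : ∀ c, Y c ⟶ S)
    [∀ c, IsProper (g c)] : IsProper (Sigma.desc g) := by
  haveI : UniversallyClosed (Sigma.desc g) :=
    Groth.Agent.Lib.QfhGalois.universallyClosed_sigmaDesc g fun c => inferInstance
  haveI : IsSeparated (Sigma.desc g) := Groth.Agent.Lib.HensChart.isSeparated_sigmaDesc g
  haveI : IsZariskiLocalAtSource @LocallyOfFiniteType :=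
    HasRingHomProperty.instIsZariskiLocalAtSource
  haveI : LocallyOfFiniteType (Sigma.desc g) := IsZariskiLocalAtSource.sigmaDesc (P := @LocallyOfFiniteType) fun c => inferInstance
  exact {}


set_option maxHeartbeats 1000000 in
/-- Every normal algebraic curve X over a field k (separated and of finite type over k, nonempty, local
rings at closed points of dimension one, all local rings integrally closed domains) admits a
k-morphism which is an open immersion with dense image into a normal algebraic curve proper over k.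
(The uniqueness of this completion up to unique isomorphism is not part of this row.) -/
theorem result (k : Type u) [Field k] (X : Scheme.{u})
    [X.Over (Spec (CommRingCat.of k))] [LocallyOfFiniteType (X ↘ (Spec (CommRingCat.of k)))]
    [QuasiCompact (X ↘ (Spec (CommRingCat.of k)))] [IsSeparated (X ↘ (Spec (CommRingCat.of k)))] [Nonempty X]
    (hcurve : ∀ x : X, IsClosed ({x} : Set X) → ringKrullDim (X.presheaf.stalk x) = 1) (hnorm : Pi1.IsNormalScheme X) :
    ∃ (Xc : Scheme.{u}) (sc : Xc ⟶ Spec (CommRingCat.of k)) (j : X ⟶ Xc), IsOpenImmersion j ∧ Dense (Set.range j.base) ∧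
      j ≫ sc = X ↘ (Spec (CommRingCat.of k)) ∧ IsProper sc ∧ Pi1.IsNormalScheme Xc ∧
      ∀ x : Xc, IsClosed ({x} : Set Xc) → ringKrullDim (Xc.presheaf.stalk x) = 1 := by
  let f := X ↘ (Spec (CommRingCat.of k))
  haveI : IsLocallyNoetherian X := LocallyOfFiniteType.isLocallyNoetherian f
  haveI : CompactSpace X := QuasiCompact.compactSpace_of_compactSpace f
  haveI : IsNoetherian X := {}
  haveI : Finite (_root_.ConnectedComponents X) := finite_connectedComponents X
  have hopen : ∀ c : _root_.ConnectedComponents X, IsOpen (ConnectedComponents.mk ⁻¹' {c}) := fun c => by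
    have hc : (ConnectedComponents.mk ⁻¹' {c})ᶜ = ConnectedComponents.mk ⁻¹' ({c}ᶜ : Set _) := rfl
    rw [← isClosed_compl_iff, hc, show ConnectedComponents.mk ⁻¹' ({c}ᶜ : Set _) =
      ⋃ d ∈ ({c}ᶜ : Set _), ConnectedComponents.mk ⁻¹' {d} by ext x; simp]
    exact (Set.toFinite _).isClosed_biUnion fun d _ =>
      isClosed_fibre d
  let O : _root_.ConnectedComponents X → X.Opens := fun c => ⟨_, hopen c⟩
  have hint : ∀ c, IsIntegral (O c : Scheme.{u}) := fun c => by
    haveI : ConnectedSpace (O c : Scheme.{u}) := by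
      obtain ⟨x, rfl⟩ := ConnectedComponents.surjective_coe c
      refine _root_.isConnected_iff_connectedSpace.1 ?_
      show _root_.IsConnected (ConnectedComponents.mk ⁻¹' {ConnectedComponents.mk x})
      rw [connectedComponents_preimage_singleton]
      exact isConnected_connectedComponent
    haveI : IsLocallyNoetherian (O c : Scheme.{u}) := inferInstance
    refine (Groth.Agent.S2280.result (O c : Scheme.{u})).2.2 ⟨inferInstance, fun x => ?_⟩
    haveI : IsDomain (X.presheaf.stalk ((O c).ι x)) := (hnorm x.1).1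
    exact MulEquiv.isDomain _ (asIso ((O c).ι.stalkMap x)).commRingCatIsoToRingEquiv.symm.toMulEquiv
  have hclosedpt : ∀ c (z : ↥(O c : Scheme.{u})), IsClosed ({z} : Set ↥(O c : Scheme.{u})) →
      IsClosed ({z.1} : Set X) := fun c z hz => by
    have h1 : Subtype.val '' ({z} : Set ↥(O c : Scheme.{u})) = {z.1} := Set.image_singleton
    exact h1 ▸ (IsClosed.isClosedEmbedding_subtypeVal (isClosed_fibre c)).isClosedMap _ hz
  have hcompl : ∀ c, ∃ (Y : Scheme.{u}) (g : Y ⟶ Spec (CommRingCat.of k)) (j : (O c : Scheme.{u}) ⟶ Y),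
      IsIntegral Y ∧ IsProper g ∧ IsOpenImmersion j ∧ j ≫ g = (O c).ι ≫ f ∧
        topologicalKrullDim Y = 1 ∧ Pi1.IsNormalScheme Y := fun c => by
    haveI := hint c
    refine Groth.Agent.Lib.CurveCompl53.Basic.exists_normal_completion k _ ((O c).ι ≫ f) ?_ fun x => ?_
    · exact dim_eq_one f hcurve (O c) (hclosedpt c)
    · haveI : IsIntegrallyClosed (X.presheaf.stalk ((O c).ι x)) := (hnorm x.1).2
      exact IsIntegrallyClosed.of_equiv (asIso ((O c).ι.stalkMap x)).commRingCatIsoToRingEquiv
  choose Y g j hY hg hj hjk hdim hnY using hcompl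
  haveI := fun c => hY c
  haveI := fun c => hg c
  haveI := fun c => hj c
  haveI : IsIso (Sigma.desc fun c => (O c).ι) := isIso_sigmaDesc X hopen
  let e : (∐ fun c => (O c : Scheme.{u})) ≅ X := asIso (Sigma.desc fun c => (O c).ι)
  let sc : (∐ Y) ⟶ Spec (CommRingCat.of k) := Sigma.desc g
  let jm : (∐ fun c => (O c : Scheme.{u})) ⟶ ∐ Y := Limits.Sigma.map j
  haveI : IsOpenImmersion jm := isOpenImmersion_sigmaMap j
  haveI : IsProper sc := isProper_sigmaDesc g
  have hd : Dense (Set.range jm) := by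
    rw [dense_iff_closure_eq]
    refine Set.eq_univ_iff_forall.2 ?_
    intro y
    obtain ⟨c, z, rfl⟩ := exists_sigma_ι Y y
    have hz : z ∈ closure (Set.range (j c)) := by
      have := ((j c).opensRange.2).dense (Set.range_nonempty (j c))
      exact this.closure_eq ▸ Set.mem_univ z
    refine closure_mono ?_ (image_closure_subset_closure_image (Sigma.ι Y c).continuous ⟨z, hz, rfl⟩)
    rintro _ ⟨_, ⟨w, rfl⟩, rfl⟩
    exact ⟨Sigma.ι (fun c => (O c : Scheme.{u})) c w, by
      rw [← Scheme.Hom.comp_apply, Sigma.ι_map, Scheme.Hom.comp_apply]⟩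
  refine ⟨∐ Y, sc, e.inv ≫ jm, inferInstance, ?_, ?_, inferInstance, ?_, ?_⟩
  · have : Set.range (e.inv ≫ jm) = Set.range jm := by
      rw [Scheme.Hom.comp_base, TopCat.coe_comp, Set.range_comp,
        (Set.range_eq_univ.2 (Scheme.homeoOfIso e.symm).surjective : Set.range e.inv = Set.univ), Set.image_univ]
    rw [this]; exact hd
  · rw [Category.assoc, Iso.inv_comp_eq]
    refine Sigma.hom_ext _ _ fun c => ?_
    rw [Sigma.ι_map_assoc, Sigma.ι_desc, hjk]
    exact ((Category.assoc _ _ _).symm.trans (congrArg (· ≫ f) (Sigma.ι_desc (fun c => (O c).ι) c))).symm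
  · intro y
    obtain ⟨c, z, rfl⟩ := exists_sigma_ι Y y
    have e' := (asIso ((Sigma.ι Y c).stalkMap z)).commRingCatIsoToRingEquiv
    haveI := (hnY c z).1
    haveI := (hnY c z).2
    exact ⟨@MulEquiv.isDomain _ _ _ _ (hnY c z).1 e'.toMulEquiv, IsIntegrallyClosed.of_equiv e'.symm⟩
  · intro y hy
    obtain ⟨c, z, rfl⟩ := exists_sigma_ι Y y
    have hz : IsClosed ({z} : Set (Y c)) := by
      have := hy.preimage (Sigma.ι Y c).continuous
      rwa [← Set.image_singleton, Set.preimage_image_eq _ (Sigma.ι Y c).isOpenEmbedding.injective] at this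
    rw [ringKrullDim_eq_of_ringEquiv (asIso ((Sigma.ι Y c).stalkMap z)).commRingCatIsoToRingEquiv]
    exact dim_stalk_eq_one (g c) (hdim c) z hz

end Groth.Agent.S4444
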