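import Groth.Statements.S4445
import Groth.Agent.S2344
import Groth.Agent.Lib.CurvePts.Normal
import Mathlib.AlgebraicGeometry.SpreadingOut

set_option autoImplicit false
universe u
open CategoryTheory CategoryTheory.Limits AlgebraicGeometry
attribute [local instance] Curv2.stalkAlgebra
open EGA2

namespace Groth.Agent.S4445

/-- Let X be a normal irreducible algebraic curve over a field k with field of rational functions K, and
Y an integral complete (proper over k) algebraic curve with field of rational functions L. Dominant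
k-morphisms X ⟶ Y correspond bijectively to k-embeddings L → K: for every k-algebra homomorphism φ :
L → K there is exactly one k-morphism u : X ⟶ Y mapping the generic point of X to the generic point
of Y and inducing φ on the stalks at the generic points. -/
theorem result (k : Type u) [Field k] (X Y : Scheme.{u})
    [X.Over (Spec (CommRingCat.of k))] [LocallyOfFiniteType (X ↘ (Spec (CommRingCat.of k)))]
    [QuasiCompact (X ↘ (Spec (CommRingCat.of k)))] [IsSeparated (X ↘ (Spec (CommRingCat.of k)))] [IsIntegral X]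
    (hX : ∀ x : X, IsClosed ({x} : Set X) → ringKrullDim (X.presheaf.stalk x) = 1) (hnorm : Pi1.IsNormalScheme X)
    [Y.Over (Spec (CommRingCat.of k))] [IsProper (Y ↘ (Spec (CommRingCat.of k)))] [IsIntegral Y]
    (hY : ∀ y : Y, IsClosed ({y} : Set Y) → ringKrullDim (Y.presheaf.stalk y) = 1)
    (φ : Y.functionField →ₐ[k] X.functionField) :
    ∃! u : X ⟶ Y, u ≫ (Y ↘ (Spec (CommRingCat.of k))) = X ↘ (Spec (CommRingCat.of k)) ∧
      ∃ hu : u.base (genericPoint X) = genericPoint Y,
        (Y.presheaf.stalkSpecializes (specializes_of_eq hu) ≫ u.stalkMap (genericPoint X)).hom = (φ : Y.functionField →+* X.functionField) := by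
  haveI : IsLocallyNoetherian X := LocallyOfFiniteType.isLocallyNoetherian (X ↘ (Spec (CommRingCat.of k)))
  set ηX := genericPoint X
  set ηY := genericPoint Y
  let φc : Y.presheaf.stalk ηY ⟶ X.presheaf.stalk ηX := CommRingCat.ofHom (φ : Y.functionField →+* X.functionField)
  let f : Spec (X.presheaf.stalk ηX) ⟶ Y := Spec.map φc ≫ Y.fromSpecStalk ηY
  have hf : f ≫ (Y ↘ (Spec (CommRingCat.of k))) = X.fromSpecStalk ηX ≫ (X ↘ (Spec (CommRingCat.of k))) := by
    rw [Category.assoc, Lib.CurvePts.fromSpecStalk_over, Lib.CurvePts.fromSpecStalk_over, ← Spec.map_comp]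
    exact congrArg Spec.map (CommRingCat.hom_ext (RingHom.ext φ.commutes))
  obtain ⟨U, hηU, g, hfg, hgk⟩ := spread_out_of_isGermInjective' (X ↘ (Spec (CommRingCat.of k)))
    (Y ↘ (Spec (CommRingCat.of k))) f hf
  obtain ⟨u, ⟨hUu, huk⟩, -⟩ := Groth.Agent.S2344.result k X Y hX hnorm U
    (U.2.dense ⟨ηX, hηU⟩) g hgk
  have hu : X.fromSpecStalk ηX ≫ u = f := by
    rw [hfg, ← hUu, ← Category.assoc, Scheme.Opens.fromSpecStalkOfMem_ι]
  have key : ∀ v : X ⟶ Y, (∃ hv : v.base ηX = ηY,
      (Y.presheaf.stalkSpecializes (specializes_of_eq hv) ≫ v.stalkMap ηX).hom = φc.hom) ↔ X.fromSpecStalk ηX ≫ v = f := by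
    intro v
    constructor
    · rintro ⟨hv, he⟩
      show _ = Spec.map φc ≫ Y.fromSpecStalk ηY
      rw [← CommRingCat.hom_ext he, Spec.map_comp, Category.assoc,
        Scheme.SpecMap_stalkSpecializes_fromSpecStalk, Scheme.SpecMap_stalkMap_fromSpecStalk]
    · intro he
      have h1 : v ηX = ηY := by
        have := congrArg (fun m => m (IsLocalRing.closedPoint X.functionField)) he
        rw [Scheme.Hom.comp_apply, Scheme.fromSpecStalk_closedPoint] at this
        refine this.trans ?_
        show Y.fromSpecStalk ηY (Spec.map φc (IsLocalRing.closedPoint X.functionField)) = ηY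
        rw [show Spec.map φc (IsLocalRing.closedPoint X.functionField) = IsLocalRing.closedPoint Y.functionField from
            @Subsingleton.elim _ (inferInstanceAs (Subsingleton (PrimeSpectrum Y.functionField))) _ _]
        exact Scheme.fromSpecStalk_closedPoint
      refine ⟨h1, congrArg CommRingCat.Hom.hom (Spec.map_injective ?_)⟩
      rw [← cancel_mono (Y.fromSpecStalk ηY), Spec.map_comp, Category.assoc,
        Scheme.SpecMap_stalkSpecializes_fromSpecStalk, Scheme.SpecMap_stalkMap_fromSpecStalk, he]
  refine ⟨u, ⟨huk, (key u).mpr hu⟩, fun v ⟨hvk, hv⟩ => ?_⟩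
  haveI : IsDominant (X.fromSpecStalk ηX) := by
    refine ⟨fun z => ?_⟩
    refine closure_mono ?_ ((genericPoint_spec X).specializes (Set.mem_univ z)).mem_closure
    rintro _ rfl
    exact ⟨_, Scheme.fromSpecStalk_closedPoint⟩
  exact ext_of_isDominant_of_isSeparated (Y ↘ (Spec (CommRingCat.of k))) (hvk.trans huk.symm)
    (X.fromSpecStalk ηX) (((key v).mp hv).trans hu.symm)

end Groth.Agent.S4445
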