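import Groth.Statements.S4449
import Groth.Agent.Lib.DvrCrit.Birational
-- import your own Groth.Agent.* helpers here

set_option autoImplicit false
universe u
open CategoryTheory CategoryTheory.Limits AlgebraicGeometry
open EGA2

namespace Groth.Agent.S4449
set_option backward.isDefEq.respectTransparency false

/-- Case of an arbitrary integral separated base: let Y and X be integral separated schemes and f : X ⟶
Y a dominant morphism of finite type, ξ the generic point of X. Suppose that every valuation subring
R of K(X) other than K(X) itself which dominates the local ring of Y at a point y (via O_{Y,y} →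
O_{Y,f(ξ)} → K(X)) dominates the local ring of X at some point x (via O_{X,x} → K(X)). Then f is
proper. (Compare the locally Noetherian variant with discrete valuation rings.) -/
theorem result {X Y : Scheme.{u}} [IsIntegral X] [IsIntegral Y]
    [X.IsSeparated] [Y.IsSeparated] (f : X ⟶ Y) [IsDominant f] [LocallyOfFiniteType f] [QuasiCompact f]
    (h : ∀ (R : ValuationSubring X.functionField), R ≠ ⊤ →
      ∀ (y : Y) (hy : f.base (genericPoint X) ⤳ y),
        ((∀ a : Y.presheaf.stalk y, (Y.presheaf.stalkSpecializes hy ≫ f.stalkMap (genericPoint X)).hom a ∈ R) ∧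
          ∀ a ∈ IsLocalRing.maximalIdeal (Y.presheaf.stalk y),
            R.valuation ((Y.presheaf.stalkSpecializes hy ≫ f.stalkMap (genericPoint X)).hom a) < 1) →
        ∃ x : X, (∀ a : X.presheaf.stalk x, algebraMap (X.presheaf.stalk x) X.functionField a ∈ R) ∧
          ∀ a ∈ IsLocalRing.maximalIdeal (X.presheaf.stalk x), R.valuation (algebraMap (X.presheaf.stalk x) X.functionField a) < 1) :
    IsProper f := by
  have hsep : IsSeparated f := by
    haveI : IsSeparated (f ≫ Limits.terminal.from Y) := by
      rw [Limits.terminalIsTerminal.hom_ext (f ≫ Limits.terminal.from Y) (Limits.terminal.from X)]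
      infer_instance
    exact IsSeparated.of_comp f (Limits.terminal.from Y)
  have huc : UniversallyClosed f := by
    refine Lib.DvrCrit.universallyClosed_of_residueExistence f
      (Lib.DvrCrit.residueExistence_of_generizations (𝟙 X) f (fun z => z = genericPoint X)
        (fun x => ⟨_, rfl, genericPoint_specializes x⟩) (Lib.DvrCrit.uniqueness_of_isSeparated f)
        fun z hz W φ w => ?_)
    subst hz
    rw [Category.id_comp] at w
    have hy := Lib.DvrCrit.gen_specializes W φ _ w
    have hy' : f.base (genericPoint X) ⤳ φ (IsLocalRing.closedPoint W) :=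
      Lib.DvrCrit.fromSpecResidueField_point (genericPoint X) f _ ▸ hy
    rw [Category.comp_id]
    by_cases htop : Lib.DvrCrit.down W = ⊤
    · refine Lib.DvrCrit.exists_lift_of_dominates f W φ w (genericPoint X)
        (fun a => htop ▸ ValuationSubring.mem_top _) fun a ha => ?_
      have : a = 0 := by
        by_contra h0
        exact ha (show IsUnit (a : X.functionField) from isUnit_iff_ne_zero.2 h0)
      simp [this]
    obtain ⟨x, h1, h2⟩ := h (Lib.DvrCrit.down W) htop _ hy'
      (Lib.DvrCrit.dominates_of_morphism f W φ w _ rfl hy')
    exact Lib.DvrCrit.exists_lift_of_dominates f W φ w x h1 h2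
  exact { }

end Groth.Agent.S4449
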