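import Groth.Statements.S4451
import Groth.Agent.Lib.CurvePts.Normal
import Groth.Agent.Lib.SchLoc.Allied
import Mathlib.AlgebraicGeometry.ValuativeCriterion
import Mathlib.AlgebraicGeometry.Noetherian
import Mathlib.Topology.JacobsonSpace

set_option autoImplicit false
universe u
open CategoryTheory CategoryTheory.Limits AlgebraicGeometry
attribute [local instance] Curv2.stalkAlgebra
open EGA2

namespace Groth.Agent.S4451

/-- Let X be a normal, complete, irreducible algebraic curve over a field k with field of rational
functions K. The set of local rings of X, as subrings of K, consists of K itself (at the generic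
point) and of the valuation rings of K containing k (and distinct from K): every non-generic point
has such a valuation ring as local ring, and every such valuation ring is the local ring of exactly
one point. -/
theorem result (k : Type u) [Field k] (X : Scheme.{u})
    [X.Over (Spec (CommRingCat.of k))] [IsProper (X ↘ (Spec (CommRingCat.of k)))] [IsIntegral X]
    (hX : ∀ x : X, IsClosed ({x} : Set X) → ringKrullDim (X.presheaf.stalk x) = 1) (hnorm : Pi1.IsNormalScheme X) :
    (∀ x : X, x ≠ genericPoint X → ∃ R : ValuationSubring X.functionField, R ≠ ⊤ ∧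
        (R : Set X.functionField) = Set.range (algebraMap (X.presheaf.stalk x) X.functionField)) ∧
      ∀ R : ValuationSubring X.functionField, R ≠ ⊤ → (∀ c : k, algebraMap k X.functionField c ∈ R) →
        ∃! x : X, (R : Set X.functionField) = Set.range (algebraMap (X.presheaf.stalk x) X.functionField) := by
  haveI : JacobsonSpace X := LocallyOfFiniteType.jacobsonSpace (X ↘ (Spec (CommRingCat.of k)))
  haveI : IsLocallyNoetherian X := LocallyOfFiniteType.isLocallyNoetherian (X ↘ (Spec (CommRingCat.of k)))
  haveI : X.IsSeparated := ⟨by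
    rw [← terminal.comp_from (X ↘ (Spec (CommRingCat.of k)))]; infer_instance⟩
  have hclosed : ∀ x : X, x ≠ genericPoint X → IsClosed ({x} : Set X) := fun x hx =>
    (Lib.CurvePts.closed_or_generic hX x).resolve_right hx
  refine ⟨fun x hx => Lib.CurvePts.exists_valuationSubring hnorm (hX x (hclosed x hx)), fun R hR hk => ?_⟩
  let ψ : k →+* R := (algebraMap k X.functionField).codRestrict R.toSubring hk
  have hψ : CommRingCat.ofHom ψ ≫ CommRingCat.ofHom (algebraMap R X.functionField) =
      CommRingCat.ofHom (Curv2.stalkMap k X (genericPoint X)) := rfl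
  let S : ValuativeCommSq (X ↘ (Spec (CommRingCat.of k))) :=
    { R := R
      K := X.functionField
      i₁ := X.fromSpecStalk (genericPoint X)
      i₂ := Spec.map (CommRingCat.ofHom ψ)
      commSq := ⟨by rw [← Spec.map_comp, hψ, Lib.CurvePts.fromSpecStalk_over]⟩ }
  have hE : ValuativeCriterion.Existence (X ↘ (Spec (CommRingCat.of k))) :=
    (UniversallyClosed.eq_valuativeCriterion.le _ _ _ (inferInstance : UniversallyClosed (X ↘ (Spec (CommRingCat.of k))))).1
  obtain ⟨⟨l, hl, -⟩⟩ := (hE S).exists_lift
  replace hl : Spec.map (CommRingCat.ofHom (algebraMap R X.functionField)) ≫ l =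
      X.fromSpecStalk (genericPoint X) := hl
  set x := l (IsLocalRing.closedPoint R) with hxdef
  let χ : X.presheaf.stalk x ⟶ CommRingCat.of R := Scheme.stalkClosedPointTo l
  have hχ : CommRingCat.ofHom (algebraMap (X.presheaf.stalk x) X.functionField) =
      χ ≫ CommRingCat.ofHom (algebraMap R X.functionField) := by
    apply Spec.map_injective
    rw [← cancel_mono (X.fromSpecStalk x), Lib.SchLoc.specMap_algebraMap_fromSpecStalk, Spec.map_comp,
      Category.assoc, Scheme.Spec_stalkClosedPointTo_fromSpecStalk, hl]
  have hsub : Set.range (algebraMap (X.presheaf.stalk x) X.functionField) ⊆ (R : Set X.functionField) := by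
    rintro _ ⟨a, rfl⟩
    rw [← CommRingCat.hom_ofHom (algebraMap (X.presheaf.stalk x) X.functionField), hχ]
    exact (χ.hom a).2
  have hx : x ≠ genericPoint X := fun e => by
    refine hR (eq_top_iff.mpr fun z _ => hsub ?_)
    have : genericPoint X ⤳ x := e ▸ specializes_rfl
    obtain ⟨w, hw⟩ := (ConcreteCategory.bijective_of_isIso
      (X.presheaf.stalkCongr (.of_eq e)).hom).2 z
    exact ⟨w, hw⟩
  obtain ⟨V, hV, hVx⟩ := Lib.CurvePts.exists_valuationSubring hnorm (hX x (hclosed x hx))
  have hmem : ∀ z, z ∈ V ↔ z ∈ Set.range (algebraMap (X.presheaf.stalk x) X.functionField) := fun z =>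
    Set.ext_iff.mp hVx z
  let g : X.presheaf.stalk x →+* V :=
    (algebraMap (X.presheaf.stalk x) X.functionField).codRestrict V.toSubring fun a => (hmem _).mpr ⟨a, rfl⟩
  have hg : Function.Bijective g := ⟨fun a b hab => IsFractionRing.injective _ X.functionField (congrArg Subtype.val hab),
    fun z => by obtain ⟨a, ha⟩ := (hmem z.1).mp z.2; exact ⟨a, Subtype.ext ha⟩⟩
  haveI : Ring.KrullDimLE 1 V := Ring.krullDimLE_iff.mpr
    ((ringKrullDim_eq_of_ringEquiv (RingEquiv.ofBijective g hg)).symm.trans (hX x (hclosed x hx))).le
  obtain rfl : V = R := ValuationSubring.eq_of_le_of_ne_top (A := V) (B := R) (fun z hz => hsub (hVx ▸ hz)) hR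
  refine ⟨x, hVx, fun y hy => ?_⟩
  have h : (algebraMap (X.presheaf.stalk y) X.functionField).range =
      (algebraMap (X.presheaf.stalk x) X.functionField).range :=
    SetLike.coe_injective ((RingHom.coe_range _).trans (hy.symm.trans (hVx.trans (RingHom.coe_range _).symm)))
  exact ((Lib.SchLoc.specializes_of_range_le h.le).antisymm (Lib.SchLoc.specializes_of_range_le h.ge)).eq.symm

end Groth.Agent.S4451
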