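import Groth.Statements.S4453
import Groth.Agent.Lib.PProj.Compose
import Groth.Agent.Lib.NormAmple.Restrict
import Groth.Agent.Lib.NormAmple.FinFreeMain
import Groth.Agent.Lib.GrpdQuot.Separation

set_option autoImplicit false
universe u
open CategoryTheory CategoryTheory.Limits AlgebraicGeometry
open EGA2

namespace Groth.Agent.S4453

/-- Let Y be a quasi-compact separated scheme or a scheme whose underlying space is Noetherian, f : X ⟶
Y a morphism of finite type and g : X' ⟶ X a finite surjective morphism such that the direct image
of O_{X'} is a finite locally free O_X-module. Then f is projective if and only if f ∘ g is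
projective. (The companion assertion, on quasi-projectivity, is the
existence-of-a-relatively-ample-module equivalence stated separately.) -/
theorem result {X X' Y : Scheme.{u}} (f : X ⟶ Y) [LocallyOfFiniteType f]
    [QuasiCompact f] (g : X' ⟶ X) [IsFinite g] [Surjective g]
    (hfree : FlatMod.IsFinLocFree ((Coh.push g).obj (Coh.structureModule X')))
    (hY : (CompactSpace Y ∧ Y.IsSeparated) ∨ TopologicalSpace.NoetherianSpace Y) :
    RelProj.IsProjective f ↔ RelProj.IsProjective (g ≫ f) := by
  have hq : CompactSpace Y ∧ QuasiSeparatedSpace Y := by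
    rcases hY with ⟨h1, h2⟩ | h <;> exact ⟨inferInstance, inferInstance⟩
  haveI := hq.1
  haveI := hq.2
  refine ⟨fun hf => Lib.PProj.isProjective_comp (Lib.PProj.isProjective_of_isFinite g) hf, fun h => ?_⟩
  haveI := Lib.HProj.Proper.isProper_of_isProjective h
  haveI : IsSeparated f := Lib.GrpdQuot.isSeparated_of_finite_surjective g f
  haveI : UniversallyClosed f := UniversallyClosed.of_comp_surjective g f
  haveI : IsProper f := { }
  obtain ⟨-, -, L, hL⟩ := Lib.PProj.isQuasiProjective_of_isProjective h
  obtain ⟨P, hP, ⟨D⟩⟩ := Lib.NormAmple.Bundle.exists_frames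
    (Lib.NormAmple.FinFreeMain.toPreNorm (Lib.NormAmple.FinFreeMain.unitAtlas hfree) g.surjective)
    (Lib.Ample.RelAmple.isInvertible_of_isRelAmple hL)
  exact Lib.PProj.isProjective_of_isProper f ⟨inferInstance, inferInstance, P,
    Lib.NormAmple.Restrict.isRelAmple_norm f g.surjective D hP hL⟩

end Groth.Agent.S4453
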