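import Groth.Statements.S4458
import Groth.Agent.H52.DevSummand

set_option autoImplicit false
universe u
open Groth.Agent.Lib Groth.Agent.Lib.Modules.StalkModule Groth.Agent.Lib.Devissage.Basic Groth.Agent.H52.DevSummand
open Coherent

namespace Groth.Agent.S4458

open AlgebraicGeometry CategoryTheory CategoryTheory.Limits in
/-- Let X be a Noetherian scheme and K' a class of O_X-modules, closed under isomorphism, containing 0,
such that in every short exact sequence of coherent modules with two terms in K' the third is in K',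
and such that every coherent direct summand of a coherent module in K' is in K'. Let X' be a closed
subset such that for every irreducible closed subset Z ⊆ X' with generic point y there is a coherent
module G in K' supported in Z, annihilated by the ideal sheaf of the reduced closed subscheme Z,
whose stalk at y is nonzero. Then every coherent O_X-module with support contained in X' belongs to
K'. (The published statement asks of G only that it lie in K' and have nonzero stalk at y, remarking
that this amounts to G having support Z; that is not sufficient: on the spectrum of the ring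
k[e]/(e^2) of dual numbers over a field the free coherent modules form such a class K', containing
the structure sheaf and not the residue field. This row asks G to be supported in Z and annihilated
by the ideal sheaf of Z, which is what the published proof uses, through the stalk of G at y being a
vector space over the residue field of y.) -/
theorem result (X : Scheme.{u}) [IsNoetherian X]
    (K' : ObjectProperty X.Modules) [K'.IsClosedUnderIsomorphisms]
    (h0 : ∀ M : X.Modules, IsZero M → K' M)
    (hex : ∀ S : ShortComplex X.Modules, S.ShortExact → Coh.IsCoh S.X₁ → Coh.IsCoh S.X₂ → Coh.IsCoh S.X₃ →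
      (K' S.X₁ → K' S.X₂ → K' S.X₃) ∧ (K' S.X₁ → K' S.X₃ → K' S.X₂) ∧ (K' S.X₂ → K' S.X₃ → K' S.X₁))
    (hsum : ∀ (M N : X.Modules) (i : N ⟶ M) (r : M ⟶ N), i ≫ r = 𝟙 N → Coh.IsCoh M → Coh.IsCoh N →
      K' M → K' N)
    (X' : Set X) (hX' : IsClosed X')
    (hgen : ∀ (Z : Set X) (hZ : IsClosed Z), IsIrreducible Z → Z ⊆ X' → ∀ y : X, closure {y} = Z →
      ∃ G : X.Modules, Coh.IsCoh G ∧ K' G ∧ CohB1.support G ⊆ Z ∧
        ClSub.KilledByIdeal (Scheme.IdealSheafData.vanishingIdeal ⟨Z, hZ⟩) G ∧ y ∈ CohB1.support G)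
    (F : X.Modules) (hF : Coh.IsCoh F) (hsupp : CohB1.support F ⊆ X') : K' F := by
  have hthick : Groth.Agent.Lib.ProperFin.Devissage.Thick (X' : Set X) (fun M => K' M) :=
    ⟨h0, fun S hS a b c => ⟨(hex S hS a.1 b.1 c.1).2.1, (hex S hS a.1 b.1 c.1).2.2,
      (hex S hS a.1 b.1 c.1).1⟩⟩
  refine devissage' _ ⟨X', hX'⟩ hthick (fun y hy small => ?_) F ⟨hF, hsupp⟩
  have hT := hthick.mono (closure_minimal (Set.singleton_subset_iff.mpr hy) hX')
  obtain ⟨G, hG, hKG, hGs, hGk, hGy⟩ := hgen (closure {y}) isClosed_closure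
    isIrreducible_singleton.closure (closure_minimal (Set.singleton_subset_iff.mpr hy) hX') y rfl
  obtain ⟨B, hB, hBy⟩ := Groth.Agent.Lib.Devissage.Closure.exists_generator y
  haveI := hG.2
  haveI := Groth.Agent.Lib.Modules.GenStalk.finite_stalk G y
  haveI : Nontrivial (G.presheaf.stalk y) := not_subsingleton_iff_nontrivial.mp hGy
  have hGnil := stalk_killed G y hGk
  obtain ⟨φ, hφ, hBnil⟩ := exists_surjective_residue (R := X.presheaf.stalk y)
    (M := G.presheaf.stalk y) (N := B.presheaf.stalk y) hBy
  obtain ⟨M, α, β, hM, hαy, hβy, hαβ⟩ := bridge hG hB.1 y φ hφ hBnil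
  -- a section of `φ`
  have hσ : ∃ σ : B.presheaf.stalk y →ₗ[X.presheaf.stalk y] G.presheaf.stalk y, ∀ x, φ (σ x) = x := by
    haveI : IsSimpleModule (X.presheaf.stalk y) (B.presheaf.stalk y) :=
      Module.length_eq_one_iff.mp hBy
    haveI : Nontrivial (B.presheaf.stalk y) := IsSimpleModule.nontrivial (X.presheaf.stalk y) _
    obtain ⟨x, hx⟩ := exists_ne (0 : B.presheaf.stalk y)
    obtain ⟨v, hv⟩ := hφ x
    let p : Submodule (X.presheaf.stalk y) (G.presheaf.stalk y) := Submodule.span _ {v}
    have hinj : Function.Injective (φ ∘ₗ p.subtype) := by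
      refine (injective_iff_map_eq_zero _).mpr ?_
      rintro ⟨w, hw⟩ hw0
      obtain ⟨a, rfl⟩ := Submodule.mem_span_singleton.mp hw
      have hax : a • x = 0 := by rw [← hv, ← map_smul]; exact hw0
      refine Subtype.ext (hGnil a (fun ha => hx ?_) v)
      exact ha.smul_eq_zero.mp hax
    have hsurj : Function.Surjective (φ ∘ₗ p.subtype) := by
      refine LinearMap.range_eq_top.mp ((eq_bot_or_eq_top _).resolve_left fun h => hx ?_)
      have := (LinearMap.range_eq_bot.mp h)
      rw [← hv]
      exact LinearMap.congr_fun this ⟨v, Submodule.mem_span_singleton_self v⟩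
    let e := LinearEquiv.ofBijective (φ ∘ₗ p.subtype) ⟨hinj, hsurj⟩
    exact ⟨p.subtype ∘ₗ e.symm.toLinearMap, fun z => e.apply_symm_apply z⟩
  obtain ⟨σ, hσ⟩ := hσ
  let C : X.Modules := B ⊞ kernel α
  have hH : CohIn (closure {y}) (kernel α) :=
    ⟨CohBasics.Closure.isCoh_kernel α hG hM.1.1,
      (Groth.Agent.Lib.Modules.Support.support_subset_of_mono (kernel.ι α)).trans hGs⟩
  have hC : CohIn (closure {y}) C := by
    refine ⟨CohBasics.Closure.isCoh_biprod hB.1 hH.1, ?_⟩
    rw [Groth.Agent.Lib.Modules.Support.support_eq_union_of_shortExact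
      (ShortComplex.Splitting.ofHasBinaryBiproduct B (kernel α)).shortExact]
    exact Set.union_subset hB.2 hH.2
  let lam : C.presheaf.stalk y →ₗ[X.presheaf.stalk y] G.presheaf.stalk y :=
    σ ∘ₗ stalkMapₗ (biprod.fst : C ⟶ B) y +
      stalkMapₗ (kernel.ι α) y ∘ₗ stalkMapₗ (biprod.snd : C ⟶ kernel α) y
  have hker : ∀ h, φ (stalkMapₗ (kernel.ι α) y h) = 0 := fun h => hβy.1 (by
    rw [← hαβ, map_zero, ← LinearMap.comp_apply, ← stalkMapₗ_comp, kernel.condition,
      stalkMapₗ_zero]
    rfl)
  have h1 : ∀ c, φ (lam c) = stalkMapₗ (biprod.fst : C ⟶ B) y c := fun c => by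
    simp only [lam, LinearMap.add_apply, LinearMap.comp_apply, map_add, hσ, hker, add_zero]
  have e1 : ∀ (b : B.presheaf.stalk y) (h : (kernel α).presheaf.stalk y),
      lam (stalkMapₗ (biprod.inl : B ⟶ C) y b + stalkMapₗ (biprod.inr : kernel α ⟶ C) y h) =
        σ b + stalkMapₗ (kernel.ι α) y h := fun b h => by
    simp only [lam, map_add, LinearMap.add_apply, LinearMap.comp_apply]
    simp only [← LinearMap.comp_apply (stalkMapₗ (biprod.fst : C ⟶ B) y),
      ← LinearMap.comp_apply (stalkMapₗ (biprod.snd : C ⟶ kernel α) y), ← stalkMapₗ_comp]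
    simp [C, stalkMapₗ_zero, stalkMapₗ_id]
  have hlam : Function.Bijective lam := by
    refine ⟨(injective_iff_map_eq_zero _).mpr fun c hc => ?_, fun g => ?_⟩
    · have hb : stalkMapₗ (biprod.fst : C ⟶ B) y c = 0 := by rw [← h1, hc, map_zero]
      have hc2 : stalkMapₗ (kernel.ι α) y (stalkMapₗ (biprod.snd : C ⟶ kernel α) y c) = 0 := by
        simpa [lam, hb] using hc
      have hh : stalkMapₗ (biprod.snd : C ⟶ kernel α) y c = 0 :=
        (mono_iff_stalkMapₗ_injective (kernel.ι α)).mp inferInstance y (hc2.trans (map_zero _).symm)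
      have := LinearMap.congr_fun (congrArg (fun f => stalkMapₗ f y)
        (biprod.total : biprod.fst ≫ biprod.inl + biprod.snd ≫ biprod.inr = 𝟙 C)) c
      simp only [stalkMapₗ_add, stalkMapₗ_comp, LinearMap.add_apply, LinearMap.comp_apply, hb, hh,
        map_zero, add_zero, stalkMapₗ_id, LinearMap.id_apply] at this
      exact this.symm
    · obtain ⟨h, hh⟩ := eq_stalk_kernel α (g - σ (φ g)) (by
        rw [hαβ, map_sub, hσ, sub_self, map_zero])
      exact ⟨_, (e1 (φ g) h).trans (by rw [hh, add_sub_cancel])⟩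
  obtain ⟨M', α', β', hM', -, hβ'y, hαβ'⟩ := bridge hC.1 hG y lam hlam.2 hGnil
  have hα'y : Function.Bijective (stalkMapₗ α' y) := by
    rw [show ⇑(stalkMapₗ α' y) = stalkMapₗ β' y ∘ lam from funext hαβ']
    exact hβ'y.comp hlam
  have hKC : K' C :=
    (iff_of_bijective hT small α' hC hM' hα'y).mpr
      ((iff_of_bijective hT small β' ⟨hG, hGs⟩ hM' hβ'y).mp hKG)
  exact ⟨B, hB, hBy, hsum C B biprod.inl biprod.fst biprod.inl_fst hC.1 hB.1 hKC⟩

end Groth.Agent.S4458
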