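import Groth.Statements.S4462
import Groth.Agent.H84.FormalFun.TensorQuot
import Groth.Agent.Lib.Exchange.Proper
import Groth.Agent.Lib.Exchange.Fibre
import Groth.Agent.Lib.Cube.SemiCont
-- import your own Groth.Agent.* helpers here

set_option autoImplicit false
universe u
open Coherent

namespace Groth.Agent.S4462

open AlgebraicGeometry CategoryTheory in
/-- Second assertion: for a local base: let A be a Noetherian local ring with maximal ideal m and closed
point y, X a scheme proper over Spec A, F a coherent O_X-module flat over Spec A and n ≥ 0 such that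
H^(n+1)(X_y, F_y) = 0, where X_y is the closed fibre and F_y the restriction of F to it. Then for
every p ≥ 0 the canonical map H^n(X, F) → H^n(X, F/m^(p+1)F) is surjective. (For a general locally
Noetherian base the published statement is about the stalk of R^n f_* F at a point; over the local
ring of that point this is the module H^n(X, F) used here.) -/
theorem result (A : Type u) [CommRing A] [IsNoetherianRing A]
    [IsLocalRing A] (X : Scheme.{u}) [X.Over (Spec (CommRingCat.of A))]
    [IsProper (X ↘ Spec (CommRingCat.of A))] (F : X.Modules) (hF : Coh.IsCoh F)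
    (hfl : FlatMod.IsFlatOver (X ↘ Spec (CommRingCat.of A)) F) (n : ℕ)
    (hvan : Subsingleton (CohIII.fiberH (X ↘ Spec (CommRingCat.of A)) F (IsLocalRing.closedPoint A) (n + 1)))
    (p : ℕ) :
    Function.Surjective (Formal.toHHmodPow (IsLocalRing.maximalIdeal A) F n p) := by
  obtain ⟨b, P, -, hfin, hfree, -, hiso⟩ := ZarCoh.Exchange.Proper.exists_rep A F hF hfl
  haveI := hfree
  haveI := hfin
  haveI : F.IsQuasicoherent := hF.1
  let x : PrimeSpectrum A := IsLocalRing.closedPoint A
  obtain ⟨e₁⟩ := hiso (n + 1)
  obtain ⟨e₀⟩ := hiso n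
  let q : ℤ := -((n + 1 : ℕ) : ℤ)
  have hd : CohIII.dRank P q x = 0 := by
    rw [← ZarCoh.Exchange.Fibre.fiberRank_eq (X ↘ Spec (CommRingCat.of A)) F x e₁]
    haveI : Subsingleton (CohIII.fiberH (X ↘ Spec (CommRingCat.of A)) F x (n + 1)) := hvan
    exact Module.finrank_zero_of_subsingleton
  haveI hT := (Groth.Agent.Lib.Cube.SemiCont.dRank_eq_zero_iff P hfin q x).1 hd
  open Groth.Agent.Lib.FlatCx.Basic Groth.Agent.Lib.FlatCx.HKer in
  have hflat : Module.Flat A (Q P q) := by
    let l := Dbar P q (q - 1)
    have hinj : Function.Injective (l.baseChange x.asIdeal.ResidueField) := by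
      haveI := (Groth.Agent.Lib.Cube.SemiCont.bcEquiv P q (q - 1) (by omega) x).toEquiv.subsingleton
      exact LinearMap.ker_eq_bot.1 (Submodule.eq_bot_of_subsingleton)
    haveI : x.asIdeal.IsMaximal := IsLocalRing.maximalIdeal.isMaximal A
    let s : IsLocalRing.ResidueField A ≃ₗ[A] x.asIdeal.ResidueField :=
      LinearEquiv.ofBijective (IsScalarTower.toAlgHom A (A ⧸ x.asIdeal) x.asIdeal.ResidueField).toLinearMap
        (Ideal.bijective_algebraMap_quotient_residueField x.asIdeal)
    have hinj' : Function.Injective (l.lTensor (IsLocalRing.ResidueField A)) := fun u v h => by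
      refine (TensorProduct.congr s (LinearEquiv.refl A (Q P q))).injective (hinj ?_)
      have key : ∀ w, l.lTensor x.asIdeal.ResidueField
          (TensorProduct.congr s (LinearEquiv.refl A (Q P q)) w) =
          TensorProduct.congr s (LinearEquiv.refl A (P.X (q - 1)))
            (l.lTensor (IsLocalRing.ResidueField A) w) := fun w => by
        induction w using TensorProduct.induction_on with
        | zero => simp only [map_zero]
        | tmul c m => rfl
        | add a b ha hb => simp only [map_add, ha, hb]
      exact (key u).trans ((congrArg _ h).trans (key v).symm)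
    haveI : Module.Finite A (Q P q) := Module.Finite.quotient _ _
    obtain ⟨l', hl'⟩ := (IsLocalRing.split_injective_iff_lTensor_residueField_injective l).2 hinj'
    exact Module.Flat.of_retract l l' hl'
  haveI hepi : (CohIII.tensorAFunctor A F ⋙ CohIII.HAb X n).PreservesEpimorphisms :=
    (ZarCoh.Exchange.Proper.preservesEpi_iff e₀).2
      ((Groth.Agent.Lib.FlatCx.Basic.preservesEpi_iff P (-(n : ℤ)) q (by omega)).2 hflat)
  let g := Groth.Agent.H84.FormalFun.TensorQuot.mkq (IsLocalRing.maximalIdeal A ^ (p + 1))
  haveI : Epi g := (ModuleCat.epi_iff_surjective _).2 (Submodule.mkQ_surjective _)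
  have hsurj : Function.Surjective ((CohIII.tensorAFunctor A F ⋙ CohIII.HAb X n).map g).hom :=
    (AddCommGrpCat.epi_iff_surjective _).1 inferInstance
  obtain ⟨ψ, hψ⟩ := Groth.Agent.H84.FormalFun.TensorQuot.exists_iso (IsLocalRing.maximalIdeal A) (p + 1) F
  intro y
  obtain ⟨w, hw⟩ := hsurj (Groth.Agent.Lib.Curves.LES.isoK A ψ n y)
  refine ⟨Groth.Agent.Lib.Curves.LES.isoK A (ZarCoh.Exchange.Main.oneIso A F) n w,
    (Groth.Agent.Lib.Curves.LES.isoK A ψ n).injective (Eq.trans ?_ hw)⟩
  change Groth.Agent.Lib.Curves.LES.mapK A ψ.hom n (Groth.Agent.Lib.Curves.LES.mapK A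
      (Formal.modPowπ (IsLocalRing.maximalIdeal A) (p + 1) F) n
      (Groth.Agent.Lib.Curves.LES.mapK A (ZarCoh.Exchange.Main.oneIso A F).hom n w)) =
    Groth.Agent.Lib.Curves.LES.mapK A ((CohIII.tensorAFunctor A F).map g) n w
  rw [← LinearMap.comp_apply, ← Groth.Agent.Lib.Curves.LES.mapK_comp, hψ, ← LinearMap.comp_apply,
    ← Groth.Agent.Lib.Curves.LES.mapK_comp, Iso.hom_inv_id_assoc]

end Groth.Agent.S4462
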