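import Groth.Statements.S4464
import Groth.Agent.H34.Stein.Unibranch
-- import your own Groth.Agent.* helpers here

set_option autoImplicit false
universe u
open Coherent

namespace Groth.Agent.S4464

open AlgebraicGeometry CategoryTheory in
/-- Let X and Y be locally Noetherian integral schemes, f : X → Y a proper dominant morphism, and
suppose that the algebraic closure of the function field R(Y) in R(X) is purely inseparable over
R(Y): every element of R(X) satisfying a nonzero polynomial over R(Y) has a p^e-th power coming from
R(Y), p being the characteristic exponent. Then for every point y of Y whose local ring is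
unibranch, the fibre X_y is connected and nonempty. -/
theorem result {X Y : Scheme.{u}} [IsIntegral X]
    [IsIntegral Y] [IsLocallyNoetherian X] [IsLocallyNoetherian Y] (f : X ⟶ Y) [IsProper f]
    (hdom : f.base (genericPoint X) ⤳ genericPoint Y)
    (hrad : ∀ x : X.functionField,
      (∃ q : Polynomial Y.functionField, q ≠ 0 ∧
        Polynomial.eval₂ (CohIII.stalkToFunctionField f (genericPoint Y) hdom) x q = 0) →
      ∃ e : ℕ, x ^ (ringExpChar X.functionField ^ e) ∈
        Set.range (CohIII.stalkToFunctionField f (genericPoint Y) hdom))
    (y : Y) (hy : CAlg2.IsUnibranch (Y.presheaf.stalk y)) :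
    ConnectedSpace ↥(f.fiber y) := by
  classical
  letI : Algebra Y.functionField X.functionField :=
    (CohIII.stalkToFunctionField f (genericPoint Y) hdom).toAlgebra
  let L := algebraicClosure Y.functionField X.functionField
  haveI : IsPurelyInseparable Y.functionField L := by
    haveI := expChar_of_injective_algebraMap
      (algebraMap Y.functionField X.functionField).injective (ringExpChar Y.functionField)
    have hq : ringExpChar X.functionField = ringExpChar Y.functionField := ringExpChar.eq _ _
    rw [isPurelyInseparable_iff_pow_mem Y.functionField (ringExpChar Y.functionField)]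
    intro x
    obtain ⟨q, hq0, hqx⟩ := mem_algebraicClosure_iff.1 x.2
    obtain ⟨e, r, hr⟩ := hrad x.1 ⟨q, hq0, hqx⟩
    exact ⟨e, r, Subtype.ext (hr.trans (by rw [hq]; rfl))⟩
  have hs : Subsingleton (↥L →ₐ[Y.functionField] AlgebraicClosure Y.functionField) := by
    have h := Field.finSepDegree_eq_of_isAlgClosed Y.functionField L (AlgebraicClosure Y.functionField)
    rw [IsPurelyInseparable.finSepDegree_eq_one Y.functionField L, eq_comm,
      Nat.card_eq_one_iff_unique] at h
    exact h.1
  haveI : Finite (↥L →ₐ[Y.functionField] AlgebraicClosure Y.functionField) := inferInstance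
  obtain ⟨F, hF⟩ := Groth.Agent.H34.Stein.exists_injective_emb f hdom rfl y hy
  haveI : Subsingleton (_root_.ConnectedComponents ↥(f.fiber y)) := hF.subsingleton
  haveI : Nonempty ↥(f.fiber y) := Groth.Agent.H34.Stein.surjective_of_generic f hdom y
  exact connectedSpace_iff_connectedComponent.2 ⟨Classical.arbitrary _, Set.eq_univ_of_forall fun x =>
    ConnectedComponents.coe_eq_coe'.1 (Subsingleton.elim _ _)⟩

end Groth.Agent.S4464
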