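import Groth.Statements.S4465
import Groth.Agent.Lib.Exchange.Thick.Twist
import Groth.Agent.Lib.Exchange.RelVanish
import Groth.Agent.Lib.CohDelta.AbComp
import Groth.Agent.Lib.RDer.Connecting
import Groth.Agent.Lib.Ample.RelAmple
import Groth.Agent.H34.HOne
import Groth.Agent.S0792
import Groth.Agent.S0796

set_option autoImplicit false
universe u
open Coherent

namespace Groth.Agent.S4465

open AlgebraicGeometry CategoryTheory CategoryTheory.Limits in
noncomputable def toCycles {A : Type*} [Category A] [Abelian A] (C : ShortComplex A) : C.X₁ ⟶ kernel C.g :=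
  kernel.lift C.g C.f C.zero

open AlgebraicGeometry CategoryTheory CategoryTheory.Limits in
theorem epi_toCycles {A : Type*} [Category A] [Abelian A] (C : ShortComplex A) (h : C.Exact) :
    Epi (toCycles C) :=
  C.exact_iff_epi_kernel_lift.1 h

open AlgebraicGeometry CategoryTheory CategoryTheory.Limits in
theorem exact_of_epi {A : Type*} [Category A] [Abelian A] {B : Type*} [Category B] [Abelian B]
    (C : ShortComplex A) (F : A ⥤ B) [F.Additive] [PreservesFiniteLimits F]
    (h : Epi (F.map (toCycles C))) : (C.map F).Exact := by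
  rw [ShortComplex.exact_iff_epi_kernel_lift]
  have : kernel.lift (F.map C.g) (F.map C.f) (by rw [← F.map_comp, C.zero, F.map_zero]) =
      F.map (toCycles C) ≫ (PreservesKernel.iso F C.g).hom := by
    rw [← cancel_mono (kernel.ι (F.map C.g)), kernel.lift_ι, Category.assoc, PreservesKernel.iso_hom,
      kernelComparison_comp_ι, ← F.map_comp, toCycles, kernel.lift_ι]
  change Epi (kernel.lift (F.map C.g) (F.map C.f) _)
  rw [this]
  exact epi_comp _ _

open AlgebraicGeometry CategoryTheory CategoryTheory.Limits Groth.Agent.Lib Groth.Agent.Lib.TensorMod.Basic in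
theorem exists_vanish {X Y : Scheme.{u}} (f : X ⟶ Y) [IsNoetherian Y] [LocallyOfFiniteType f]
    [QuasiCompact f] (L : X.Modules) (hL : PicF.IsInvertible L) (hamp : RelAmple.IsRelAmple f L)
    (K : X.Modules) (hK : Coh.IsCoh K) (hs : ClSub.IsProperOver f (CohB1.support K)) :
    ∃ N : ℕ, ∀ n : ℕ, N ≤ n →
      IsZero ((Coh.RpushAb f 1).obj (Coh.toAb (CohB1.tensorMod K (CohB1.tensorPow L n)))) := by
  haveI : IsLocallyNoetherian X := LocallyOfFiniteType.isLocallyNoetherian f
  obtain ⟨Z, i, _, hp, G, hGq, hGft, ⟨e⟩⟩ := (Groth.Agent.S0792.result f K hK.1 hK.2).1 hs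
  haveI := hp
  haveI : IsLocallyNoetherian Z := LocallyOfFiniteType.isLocallyNoetherian i
  have hZ := Groth.Agent.Lib.Ample.RelAmple.isRelAmple_pullback f i
    (Groth.Agent.Lib.Ample.Pullback.isQuasiAffine_of_isAffineHom i) hamp
  have hL' : PicF.IsInvertible ((Scheme.Modules.pullback i).obj L) :=
    PicLoc.isInvertible_pullback i hL
  obtain ⟨N, hN⟩ := Groth.Agent.Lib.Exchange.RelVanish.exists_isZero_RpushAb (i ≫ f) _ hL'
    (fun W hW => hZ.2 ⟨W, hW⟩) G ⟨hGq, hGft⟩
  refine ⟨N, fun n hn => ?_⟩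
  haveI : (CohB1.tensorMod G (CohB1.tensorPow ((Scheme.Modules.pullback i).obj L) n)).IsQuasicoherent :=
    (CohBasics.Closure.isCoh_of_iso (comm _ G) (Snapper.Twist.isCoh_twist
      (TensorMod.Invertible.isInvertible_tensorPow hL' n) ⟨hGq, hGft⟩)).1
  obtain ⟨θ⟩ := Groth.Agent.Lib.CohDelta.AbComp.nonempty_iso i f
    (injectiveResolution (CohB1.tensorMod G (CohB1.tensorPow ((Scheme.Modules.pullback i).obj L) n))) 1
  let φ : CohB1.tensorMod K (CohB1.tensorPow L n) ≅ (Scheme.Modules.pushforward i).obj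
      (CohB1.tensorMod G (CohB1.tensorPow ((Scheme.Modules.pullback i).obj L) n)) :=
    tensorIso e.symm (Iso.refl _) ≪≫
      Groth.Agent.Lib.Exchange.Thick.pushTwistIso i hL G (Iso.refl _) n
  exact (hN n hn 0).of_iso ((Coh.RpushAb f 1).mapIso ((H34.HOne.ab X).mapIso φ) ≪≫ θ)

open AlgebraicGeometry CategoryTheory CategoryTheory.Limits Groth.Agent.Lib in
theorem epi_push_of_isZero {X Y : Scheme.{u}} (f : X ⟶ Y) {S : ShortComplex X.Modules} (hS : S.ShortExact)
    (h : IsZero ((Coh.RpushAb f 1).obj (Coh.toAb S.X₁))) : Epi ((Coh.push f).map S.g) := by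
  have hS' : (S.map (H34.HOne.ab X)).ShortExact := H34.HOne.shortExact_toAb hS
  let les := (RDer.Connecting.nonempty_derivedLES (Coh.pushAb f)).some
  have hδ : les.δ _ hS' 0 1 rfl = 0 := h.eq_of_tgt _ _
  have h0 : Epi (((Coh.pushAb f).rightDerived 0).map (S.map (H34.HOne.ab X)).g) :=
    (les.exact₃ _ hS' 0 1 rfl).epi_f hδ
  have h1 : Epi ((Coh.pushAb f).map (S.map (H34.HOne.ab X)).g) :=
    ((MorphismProperty.epimorphisms _).arrow_mk_iso_iff
      (Arrow.isoMk (((Coh.pushAb f).rightDerivedZeroIsoSelf).app _)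
        (((Coh.pushAb f).rightDerivedZeroIsoSelf).app _)
        (((Coh.pushAb f).rightDerivedZeroIsoSelf).hom.naturality _).symm)).1 h0
  haveI : Epi ((H34.HOne.ab Y).map ((Coh.push f).map S.g)) := h1
  exact (SheafOfModules.toSheaf Y.ringCatSheaf).epi_of_epi_map this

open AlgebraicGeometry CategoryTheory CategoryTheory.Limits in
/-- Let Y be a Noetherian scheme, f : X → Y a morphism of finite type, L an invertible O_X-module ample
relative to f and F → G → H a sequence of coherent O_X-modules which is exact at G, such that the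
supports of F and of H are proper over Y. Then there is N such that for every n ≥ N the induced
sequence f_*(F(n)) → f_*(G(n)) → f_*(H(n)) of O_Y-modules is exact, where M(n) = M ⊗ L^{⊗ n}. -/
theorem result {X Y : Scheme.{u}} (f : X ⟶ Y)
    [IsNoetherian Y] [LocallyOfFiniteType f] [QuasiCompact f] (L : X.Modules) (hL : PicF.IsInvertible L)
    (hamp : RelAmple.IsRelAmple f L) (C : ShortComplex X.Modules) (hC : C.Exact)
    (h1 : Coh.IsCoh C.X₁) (h2 : Coh.IsCoh C.X₂) (h3 : Coh.IsCoh C.X₃)
    (hs1 : ClSub.IsProperOver f (CohB1.support C.X₁)) (hs3 : ClSub.IsProperOver f (CohB1.support C.X₃)) :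
    ∃ N : ℕ, ∀ n : ℕ, N ≤ n →
      (C.map (DCoh.tensorRightMod (CohB1.tensorPow L n) ⋙ Coh.push f)).Exact := by
  haveI : IsLocallyNoetherian X := LocallyOfFiniteType.isLocallyNoetherian f
  let C' := ShortComplex.mk (Limits.kernel.ι (Groth.Agent.S4465.toCycles C)) (Groth.Agent.S4465.toCycles C)
    (Limits.kernel.condition _)
  haveI : Epi (Groth.Agent.S4465.toCycles C) := Groth.Agent.S4465.epi_toCycles C hC
  have hK : Coh.IsCoh (Limits.kernel C.g) := Groth.Agent.Lib.CohBasics.Closure.isCoh_kernel C.g h2 h3.1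
  have hC' : C'.ShortExact :=
    { exact := ShortComplex.exact_of_f_is_kernel _ (Limits.kernelIsKernel _) }
  have hK' : Coh.IsCoh C'.X₁ := Groth.Agent.Lib.CohBasics.Closure.isCoh_kernel _ h1 hK.1
  obtain ⟨N, hN⟩ := exists_vanish f L hL hamp C'.X₁ hK'
    ((Groth.Agent.S0796.result f C' hC' hK' h1 hK).1 hs1).1
  refine ⟨N, fun n hn => ?_⟩
  haveI := Groth.Agent.H78.Existence.Vanish.isEquivalence_tw hL n
  let T := DCoh.tensorRightMod (CohB1.tensorPow L n)
  let η : T ≅ Groth.Agent.H78.Existence.Vanish.tw L n :=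
    NatIso.ofComponents (fun M => Iso.refl _) (fun g => by exact (Category.comp_id _).trans (Category.id_comp _).symm)
  haveI : T.IsEquivalence := Functor.isEquivalence_of_iso η.symm
  haveI : Epi ((Coh.push f).map (T.map (Groth.Agent.S4465.toCycles C))) :=
    epi_push_of_isZero f (S := C'.map T) (hC'.map_of_exact T) (hN n hn)
  exact Groth.Agent.S4465.exact_of_epi C (T ⋙ Coh.push f) this

end Groth.Agent.S4465
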