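import Groth.Statements.S4469
import Groth.Agent.H26.BirationalZMT

set_option autoImplicit false
universe u
open CAlg

namespace Groth.Agent.S4469

/-- Let A be an integrally closed Noetherian local domain with field of fractions K, B an A-algebra of
finite type which is a domain with the same field of fractions (A → B → K compatible with A → K),
and 𝔫 a maximal ideal of B lying over the maximal ideal 𝔪 of A and minimal among the prime ideals of
B lying over 𝔪. Then B = A: the structure map A → B is bijective. -/
theorem result (A B K : Type u) [CommRing A]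
    [IsDomain A] [IsNoetherianRing A] [IsLocalRing A] [IsIntegrallyClosed A] [CommRing B] [IsDomain B]
    [Field K] [Algebra A B] [Algebra B K] [Algebra A K] [IsScalarTower A B K] [IsFractionRing A K]
    [IsFractionRing B K] [Algebra.FiniteType A B] (n : Ideal B) [n.IsMaximal]
    (hn : n.comap (algebraMap A B) = IsLocalRing.maximalIdeal A)
    (hmin : ∀ q : Ideal B, q.IsPrime → q.comap (algebraMap A B) = IsLocalRing.maximalIdeal A → q ≤ n → q = n) :
    Function.Bijective (algebraMap A B) := by
    classical
    haveI : IsNoetherianRing B := Algebra.FiniteType.isNoetherianRing A B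
    have hinjA : Function.Injective (algebraMap A B) := by
      intro x y h
      apply IsFractionRing.injective A K
      rw [IsScalarTower.algebraMap_apply A B K, IsScalarTower.algebraMap_apply A B K, h]
    have hfrac : ∀ b : B, ∃ a s : A, s ≠ 0 ∧ b * algebraMap A B s = algebraMap A B a := by
      intro b
      obtain ⟨⟨a, s⟩, has⟩ := IsLocalization.surj (nonZeroDivisors A) (algebraMap B K b)
      refine ⟨a, s, nonZeroDivisors.coe_ne_zero s, IsFractionRing.injective B K ?_⟩
      rw [map_mul, ← IsScalarTower.algebraMap_apply A B K, ← IsScalarTower.algebraMap_apply A B K]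
      exact has
    set I := (IsLocalRing.maximalIdeal A).map (algebraMap A B)
    have hfin := Ideal.finite_minimalPrimes_of_isNoetherianRing B I
    obtain ⟨t, htn, ht⟩ : ∃ t, t ∉ n ∧ ∀ Q ∈ I.minimalPrimes, Q ≠ n → t ∈ Q := by
      have hex : ∀ Q ∈ I.minimalPrimes, Q ≠ n → ∃ t ∈ Q, t ∉ n := fun Q hQ hne => by
        by_contra hc
        push Not at hc
        refine hne (hmin Q hQ.1.1 ?_ hc)
        haveI := hQ.1.1
        exact ((IsLocalRing.maximalIdeal.isMaximal A).eq_of_le
          (Ideal.IsPrime.comap _).ne_top (Ideal.map_le_iff_le_comap.mp hQ.1.2)).symm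
      choose! t htQ htn using hex
      refine ⟨∏ Q ∈ hfin.toFinset.filter (· ≠ n), t Q, fun h => ?_, fun Q hQ hne => ?_⟩
      · rw [Ideal.IsPrime.prod_mem_iff] at h
        obtain ⟨Q, hQ, hQn⟩ := h
        rw [Finset.mem_filter, Set.Finite.mem_toFinset] at hQ
        exact htn Q hQ.1 hQ.2 hQn
      · exact Ideal.mem_of_dvd _ (Finset.dvd_prod_of_mem t
          (Finset.mem_filter.mpr ⟨hfin.mem_toFinset.mpr hQ, hne⟩)) (htQ Q hQ hne)
    have hq : (algebraMap A B).QuasiFiniteAt n := by
      suffices h : Algebra.QuasiFiniteAt A n by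
        show @Algebra.QuasiFiniteAt A B _ _ (algebraMap A B).toAlgebra n _
        rwa [toAlgebra_algebraMap]
      let q : PrimeSpectrum B := ⟨n, inferInstance⟩
      refine (Algebra.quasiFiniteAt_iff_isOpen_singleton_fiber (R := A) q).mpr ?_
      refine isOpen_induced_iff.mpr ⟨PrimeSpectrum.basicOpen t, (PrimeSpectrum.basicOpen t).2, ?_⟩
      ext ⟨r, hr⟩
      simp only [Set.mem_preimage, Set.mem_singleton_iff, Subtype.mk.injEq]
      refine ⟨fun h => ?_, fun h => h ▸ htn⟩
      have hr' : r.asIdeal.comap (algebraMap A B) = IsLocalRing.maximalIdeal A :=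
        (congrArg PrimeSpectrum.asIdeal (show PrimeSpectrum.comap (algebraMap A B) r =
          PrimeSpectrum.comap (algebraMap A B) q from hr)).trans hn
      obtain ⟨Q, hQ, hle⟩ := Ideal.exists_minimalPrimes_le
        (show I ≤ r.asIdeal from Ideal.map_le_iff_le_comap.mpr hr'.ge)
      have hQn : Q = n := by
        by_contra hne
        exact h (hle (ht Q hQ hne))
      subst hQn
      exact PrimeSpectrum.ext ((Ideal.IsMaximal.eq_of_le inferInstance r.2.ne_top hle).symm)
    have hni : IsIntegrallyClosed (Localization.AtPrime (n.comap (algebraMap A B))) :=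
      isIntegrallyClosed_of_isLocalization _ (n.comap (algebraMap A B)).primeCompl
        (Ideal.primeCompl_le_nonZeroDivisors _)
    obtain ⟨a, ha, hgen⟩ := Groth.Agent.H26.BirationalZMT.exists_denominator (algebraMap A B) hinjA
      (RingHom.finiteType_algebraMap.mpr ‹_›) hfrac n hq hni
    refine ⟨hinjA, fun b => ?_⟩
    obtain ⟨c, m, hc⟩ := hgen b
    have hu : IsUnit (a ^ m) := by
      refine IsUnit.pow m ?_
      by_contra h
      exact ha (by rw [← Ideal.mem_comap, hn]; exact h)
    obtain ⟨v, hv⟩ := hu.exists_right_inv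
    refine ⟨c * v, ?_⟩
    rw [map_mul, ← hc, mul_assoc, ← map_pow, ← map_mul, hv, map_one, mul_one]

end Groth.Agent.S4469
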