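import Groth.Statements.S4472
import Groth.Agent.H84.Unibranch.Congr
import Groth.Agent.S2348
import Groth.Agent.Lib.BlowUpExists.Proper
-- import your own Groth.Agent.* helpers here

set_option autoImplicit false
universe u
open Coherent

namespace Groth.Agent.S4472

open AlgebraicGeometry CategoryTheory in
/-- Let A be a unibranch Noetherian local domain (a local domain whose integral closure is a local ring)
with maximal ideal m, let 𝔞 be an ideal of definition of A (𝔞 ⊆ m and m^p ⊆ 𝔞 for some p), and let b
: X → Spec A be a blowing up of Spec A in the ideal sheaf defined by 𝔞. Then the fibre of b over the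
closed point is preconnected. Its underlying space is that of Proj of the associated graded ring ⊕
𝔞^i/𝔞^(i+1), so this says that Proj is connected (possibly empty). -/
theorem result (A : Type u) [CommRing A] [IsDomain A]
    [IsNoetherianRing A] [IsLocalRing A] (hA : CAlg2.IsUnibranch A) (𝔞 : Ideal A)
    (hle : 𝔞 ≤ IsLocalRing.maximalIdeal A)
    (hpow : ∃ p : ℕ, IsLocalRing.maximalIdeal A ^ p ≤ 𝔞) {X : Scheme.{u}}
    (b : X ⟶ Spec (CommRingCat.of A))
    (hb : BlowUp.IsBlowUp b
      (Scheme.IdealSheafData.ofIdealTop (𝔞.map (Scheme.ΓSpecIso (CommRingCat.of A)).inv.hom))) :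
    PreconnectedSpace ↥(b.fiber (IsLocalRing.closedPoint A)) := by
  set I := Scheme.IdealSheafData.ofIdealTop (𝔞.map (Scheme.ΓSpecIso (CommRingCat.of A)).inv.hom)
    with hIdef
  by_cases hI : I = ⊥
  · have hc : I.comap b = ⊥ := by rw [hI]; exact (Scheme.IdealSheafData.map_gc b).l_bot
    haveI : IsEmpty X := ⟨fun x => by
      obtain ⟨U, hxU, f, hf, hfU⟩ := hb.1 x
      rw [hc] at hfU
      have hf0 : f = 0 := Ideal.span_singleton_eq_bot.1 hfU.symm
      haveI : Nonempty U.1 := ⟨⟨x, hxU⟩⟩
      exact nonZeroDivisors.ne_zero hf hf0⟩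
    haveI : IsEmpty ↥(b.fiber (IsLocalRing.closedPoint A)) :=
      Function.isEmpty (b.fiberι (IsLocalRing.closedPoint A)).base
    exact ⟨by
      rw [Set.eq_empty_of_isEmpty (Set.univ : Set ↥(b.fiber (IsLocalRing.closedPoint A)))]
      exact isPreconnected_empty⟩
  haveI : IsProper b := Groth.Agent.Lib.BlowUpExists.isProper_of_isBlowUp hb fun U => by
    haveI := IsLocallyNoetherian.component_noetherian U
    exact IsNoetherian.noetherian _
  obtain ⟨_, hgen, hres⟩ := Groth.Agent.S2348.result I hI b hb
  have hdom : b.base (genericPoint X) ⤳ genericPoint (Spec (CommRingCat.of A)) :=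
    specializes_of_eq hgen
  letI : Algebra (Spec (CommRingCat.of A)).functionField X.functionField :=
    (CohIII.stalkToFunctionField b (genericPoint (Spec (CommRingCat.of A))) hdom).toAlgebra
  have hsurj : Function.Surjective
      (algebraMap (Spec (CommRingCat.of A)).functionField X.functionField) := by
    intro x
    obtain ⟨r, hr⟩ := hres.2 (X.residue (genericPoint X) x)
    obtain ⟨a, rfl⟩ := (Spec (CommRingCat.of A)).residue_surjective _ r
    have h1 : (b.stalkMap (genericPoint X)).hom a = x := by
      haveI : Nontrivial (X.residueField (genericPoint X)) := inferInstance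
      refine RingHom.injective ((X.residue (genericPoint X)).hom : X.functionField →+* _) ?_
      refine Eq.trans ?_ hr
      exact (ConcreteCategory.congr_hom (Scheme.residue_residueFieldMap b (genericPoint X)) a).symm
    refine ⟨((Spec (CommRingCat.of A)).presheaf.stalkSpecializes (specializes_of_eq hgen.symm)).hom a, ?_⟩
    refine Eq.trans (congrArg (b.stalkMap (genericPoint X)).hom ?_) h1
    show ((Spec (CommRingCat.of A)).presheaf.stalkSpecializes (specializes_of_eq hgen.symm) ≫
      (Spec (CommRingCat.of A)).presheaf.stalkSpecializes hdom).hom a = a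
    rw [TopCat.Presheaf.stalkSpecializes_comp, TopCat.Presheaf.stalkSpecializes_refl]
    rfl
  haveI : Subsingleton (↥(algebraicClosure (Spec (CommRingCat.of A)).functionField X.functionField)
      →ₐ[(Spec (CommRingCat.of A)).functionField]
        AlgebraicClosure (Spec (CommRingCat.of A)).functionField) := ⟨fun σ τ => AlgHom.ext fun z => by
    obtain ⟨k, hk⟩ := hsurj z.1
    rw [show z = algebraMap (Spec (CommRingCat.of A)).functionField _ k from Subtype.ext hk.symm,
      σ.commutes, τ.commutes]⟩
  haveI : IsDomain (CommRingCat.of A) := ‹IsDomain A›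
  obtain ⟨F, hF⟩ := Groth.Agent.H34.Stein.exists_injective_emb b hdom rfl (IsLocalRing.closedPoint A)
    (Groth.Agent.H84.Unibranch.isUnibranch_of_ringEquiv
      (stalkClosedPointIso (CommRingCat.of A)).symm.commRingCatIsoToRingEquiv hA)
  haveI : Subsingleton (ConnectedComponents ↥(b.fiber (IsLocalRing.closedPoint A))) := hF.subsingleton
  exact preconnectedSpace_iff_connectedComponent.2 fun x => Set.eq_univ_of_forall fun z =>
    ConnectedComponents.coe_eq_coe.1 (Subsingleton.elim (ConnectedComponents.mk z) (ConnectedComponents.mk x)) ▸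
      mem_connectedComponent

end Groth.Agent.S4472
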