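import Groth.Statements.S4475
import Groth.Agent.Lib.Koszul.Stable.Top
import Mathlib.RingTheory.MvPolynomial.Ideal
import Mathlib.Data.Finsupp.Weight
import Mathlib.Algebra.Algebra.RestrictScalars

set_option autoImplicit false
universe u
open Koszul3

namespace Groth.Agent.S4475

section
open MvPolynomial Groth.Agent.Lib.Koszul.Stable

variable (A : Type u) [CommRing A] (r : ℕ)

local notation "P" => MvPolynomial (Fin (r + 1)) A
local notation "fs" => List.ofFn (fun j : Fin (r + 1) => (X j : MvPolynomial (Fin (r + 1)) A))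
local notation "MP" => ModuleCat.of (MvPolynomial (Fin (r + 1)) A) (MvPolynomial (Fin (r + 1)) A)

/-- The constant exponent. -/
noncomputable def cst (n : ℕ) : Fin (r + 1) →₀ ℕ := Finsupp.equivFunOnFinite.symm fun _ => n

@[simp] theorem cst_apply (n : ℕ) (j : Fin (r + 1)) : cst r n j = n := rfl

theorem pow_list (n : ℕ) :
    (fs).map (· ^ n) = List.ofFn (fun j : Fin (r + 1) => (X j : P) ^ n) := by
  rw [List.map_ofFn]; rfl

theorem prod_pow (n : ℕ) : ((fs).map (· ^ n)).prod = monomial (cst r n) (1 : A) := by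
  rw [pow_list, List.prod_ofFn, ← Finsupp.univ_sum_single (cst r n), monomial_sum_one]
  exact Finset.prod_congr rfl fun j _ => X_pow_eq_monomial

theorem mem_span_pow (n : ℕ) (s : Set (Fin (r + 1))) (x : P) :
    x ∈ Ideal.span ((fun j : Fin (r + 1) => (X j : P) ^ n) '' s) ↔
      ∀ d ∈ x.support, ∃ j ∈ s, n ≤ d j := by
  have : (fun j : Fin (r + 1) => (X j : P) ^ n) '' s =
      (fun e => monomial e (1 : A)) '' ((fun j => Finsupp.single j n) '' s) := by
    simp only [X_pow_eq_monomial, Set.image_image]
  rw [this, mem_ideal_span_monomial_image]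
  simp only [Set.exists_mem_image, Finsupp.single_le_iff]

theorem mem_ofList_pow (n : ℕ) (x : P) :
    x ∈ Ideal.ofList ((fs).map (· ^ n)) • (⊤ : Submodule P P) ↔
      ∀ d ∈ x.support, ∃ j, n ≤ d j := by
  rw [smul_eq_mul, Ideal.mul_top, pow_list, Ideal.ofList,
    show {a | a ∈ List.ofFn (fun j : Fin (r + 1) => (X j : P) ^ n)} =
      (fun j : Fin (r + 1) => (X j : P) ^ n) '' Set.univ by ext a; simp only [Set.mem_ofPred_eq, List.mem_ofFn, Set.image_univ, Set.mem_range],
    mem_span_pow]
  simp

theorem weaklyRegular (n : ℕ) : RingTheory.Sequence.IsWeaklyRegular P ((fs).map (· ^ n)) := by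
  rw [pow_list, RingTheory.Sequence.isWeaklyRegular_iff_Fin]
  intro i
  have e : Ideal.ofList ((List.ofFn fun j : Fin (r + 1) => (X j : P) ^ n).take i) •
      (⊤ : Submodule P P) =
        Ideal.span ((fun j : Fin (r + 1) => (X j : P) ^ n) '' {j | (j : ℕ) < i}) := by
    rw [smul_eq_mul, Ideal.mul_top, Ideal.ofList]
    congr 1
    ext a
    simp only [Set.mem_ofPred_eq, List.mem_take_iff_getElem, List.length_ofFn, List.getElem_ofFn,
      Set.mem_image]
    constructor
    · rintro ⟨l, hl, rfl⟩
      exact ⟨⟨l, by omega⟩, (by omega : l < i), rfl⟩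
    · rintro ⟨l, hl, rfl⟩
      exact ⟨l, lt_min hl l.2, rfl⟩
  rw [isSMulRegular_quotient_iff_mem_of_smul_mem, e]
  simp only [Fin.getElem_fin, List.getElem_ofFn, smul_eq_mul]
  intro y hy
  rw [mem_span_pow] at hy ⊢
  intro d hd
  obtain ⟨l, hl, hle⟩ := hy (Finsupp.single ⟨i, by simpa using i.2⟩ n + d) (by
    rw [mem_support_iff, X_pow_eq_monomial, coeff_monomial_mul, one_mul]
    exact mem_support_iff.1 hd)
  refine ⟨l, hl, ?_⟩
  have hne : (⟨(i : ℕ), by simpa using i.2⟩ : Fin (r + 1)) ≠ l := by
    rintro rfl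
    exact absurd hl (lt_irrefl (i : ℕ))
  rwa [Finsupp.add_apply, Finsupp.single_eq_of_ne hne.symm, zero_add] at hle

theorem deg_eq : ((r + 1 : ℕ) : ℤ) - ((fs).length : ℤ) = 0 := by simp

/-- The level maps onto the top degree cohomology. -/
noncomputable def ι (n : ℕ) : P →ₗ[P] CohIII.koszulHLim fs MP (r + 1) :=
  KLim.of fs MP (r + 1) n ∘ₗ Top.topClsAt MP ((fs).map (· ^ n)) _ (deg_eq A r)

theorem ι_mul (n m : ℕ) (h : n ≤ m) (x : P) :
    ι A r m (monomial (cst r (m - n)) 1 * x) = ι A r n x := by
  show KLim.of fs MP (r + 1) m (Top.topClsAt MP ((fs).map (· ^ m)) _ (deg_eq A r) _) =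
    KLim.of fs MP (r + 1) n (Top.topClsAt MP ((fs).map (· ^ n)) _ (deg_eq A r) _)
  rw [← KLim.of_tr fs h, show KLim.tr fs MP (r + 1) n m h
    (Top.topClsAt MP ((fs).map (· ^ n)) _ (deg_eq A r) x) = _ from
      Top.topClsAt_trans MP n m h fs _ (deg_eq A r) x, prod_pow, smul_eq_mul]

theorem exists_ι (z : CohIII.koszulHLim fs MP (r + 1)) : ∃ n x, ι A r n x = z := by
  obtain ⟨n, y, rfl⟩ := KLim.exists_of fs z
  obtain ⟨x, rfl⟩ := Top.topClsAt_surjective MP _ _ (deg_eq A r) y
  exact ⟨n, x, rfl⟩

theorem ι_eq_zero_iff (n : ℕ) (x : P) : ι A r n x = 0 ↔ ∀ d ∈ x.support, ∃ j, n ≤ d j := by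
  refine ⟨fun h => ?_, fun h => ?_⟩
  · obtain ⟨m, hm, hz⟩ := KLim.exists_tr_eq_zero fs
      (show KLim.of fs MP (r + 1) n (Top.topClsAt MP ((fs).map (· ^ n)) _ (deg_eq A r) x) = 0 from h)
    rw [show KLim.tr fs MP (r + 1) n m hm
      (Top.topClsAt MP ((fs).map (· ^ n)) _ (deg_eq A r) x) = _ from
        Top.topClsAt_trans MP n m hm fs _ (deg_eq A r) x, Top.topClsAt_eq_zero_iff, prod_pow] at hz
    replace hz := (mem_ofList_pow A r m (monomial (cst r (m - n)) 1 * x)).1 hz
    intro d hd
    obtain ⟨j, hj⟩ := hz (cst r (m - n) + d) (by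
      rw [mem_support_iff, coeff_monomial_mul, one_mul]
      exact mem_support_iff.1 hd)
    rw [Finsupp.add_apply, cst_apply] at hj
    exact ⟨j, by omega⟩
  · show KLim.of fs MP (r + 1) n (Top.topClsAt MP ((fs).map (· ^ n)) _ (deg_eq A r) x) = 0
    rw [(Top.topClsAt_eq_zero_iff MP _ _ (deg_eq A r) x).2 ((mem_ofList_pow A r n x).2 h), map_zero]

/-- The exponents of the basis. -/
abbrev Exp : Type := {e : Fin (r + 1) →₀ ℕ // ∀ j, 1 ≤ e j}

/-- The basis vectors. -/
noncomputable def vec (e : Exp r) : CohIII.koszulHLim fs MP (r + 1) :=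
  ι A r e.1.degree (monomial (cst r e.1.degree - e.1) 1)

theorem vec_eq (e : Exp r) (n : ℕ) (hn : e.1.degree ≤ n) :
    vec A r e = ι A r n (monomial (cst r n - e.1) 1) := by
  rw [vec, ← ι_mul A r _ n hn, monomial_mul, one_mul]
  refine congrArg (fun d => ι A r n (monomial d 1)) (Finsupp.ext fun j => ?_)
  simp only [Finsupp.add_apply, Finsupp.tsub_apply, cst_apply]
  have := e.1.le_degree j
  omega

/-- The free module maps to the top cohomology. -/
noncomputable def G : (Exp r →₀ A) →ₗ[A] RestrictScalars A P (CohIII.koszulHLim fs MP (r + 1)) :=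
  Finsupp.linearCombination A fun e =>
    (RestrictScalars.addEquiv A P (CohIII.koszulHLim fs MP (r + 1))).symm (vec A r e)

theorem G_apply (c : Exp r →₀ A) (n : ℕ) (hn : ∀ e ∈ c.support, e.1.degree ≤ n) :
    RestrictScalars.addEquiv A P _ (G A r c) =
      ι A r n (∑ e ∈ c.support, monomial (cst r n - e.1) (c e)) := by
  rw [G, Finsupp.linearCombination_apply, Finsupp.sum, map_sum, map_sum]
  refine Finset.sum_congr rfl fun e he => ?_
  rw [RestrictScalars.addEquiv_map_smul, AddEquiv.apply_symm_apply, vec_eq A r e n (hn e he),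
    ← map_smul, smul_eq_mul, algebraMap_eq, C_mul_monomial, mul_one]

theorem G_bijective : Function.Bijective (G A r) := by
  classical
  refine ⟨?_, ?_⟩
  · rw [injective_iff_map_eq_zero]
    intro c hc
    by_contra hne
    obtain ⟨e, he⟩ := Finsupp.support_nonempty_iff.2 hne
    let n := c.support.sup fun e => e.1.degree
    have hn : ∀ e ∈ c.support, e.1.degree ≤ n := fun e he =>
      Finset.le_sup (f := fun e : Exp r => e.1.degree) he
    have h0 := G_apply A r c n hn
    rw [hc, map_zero] at h0
    obtain ⟨j, hj⟩ := (ι_eq_zero_iff A r n _).1 h0.symm (cst r n - e.1) (by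
      rw [mem_support_iff, coeff_sum, Finset.sum_eq_single e]
      · rw [coeff_monomial, if_pos rfl]
        exact Finsupp.mem_support_iff.1 he
      · intro b hb hbe
        rw [coeff_monomial, if_neg]
        intro h
        refine hbe (Subtype.ext (Finsupp.ext fun j => ?_))
        have := DFunLike.congr_fun h j
        simp only [Finsupp.tsub_apply, cst_apply] at this
        have := b.1.le_degree j
        have := e.1.le_degree j
        have := hn b hb
        have := hn e he
        omega
      · exact fun h => absurd he h)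
    simp only [Finsupp.tsub_apply, cst_apply] at hj
    have := e.2 j
    have := e.1.le_degree j
    have := hn e he
    omega
  · rw [← LinearMap.range_eq_top, eq_top_iff]
    intro z _
    obtain ⟨n, x, hz⟩ := exists_ι A r (RestrictScalars.addEquiv A P _ z)
    rw [← AddEquiv.symm_apply_apply (RestrictScalars.addEquiv A P _) z, ← hz,
      ← support_sum_monomial_coeff x, map_sum, map_sum]
    refine Submodule.sum_mem _ fun d _ => ?_
    generalize coeff d x = a
    rw [← mul_one a, ← C_mul_monomial, ← smul_eq_mul, map_smul, ← algebraMap_eq,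
      RestrictScalars.addEquiv_symm_map_algebraMap_smul]
    refine Submodule.smul_mem _ _ ?_
    by_cases hd : ∃ j, n ≤ d j
    · rw [(ι_eq_zero_iff A r n _).2 (fun d' hd' => ?_), map_zero]
      · exact Submodule.zero_mem _
      · rw [Finset.mem_singleton.1 (support_monomial_subset hd')]
        exact hd
    · simp only [not_exists, not_le] at hd
      let e : Exp r := ⟨cst r n - d, fun j => by
        simp only [Finsupp.tsub_apply, cst_apply]; have := hd j; omega⟩
      refine ⟨Finsupp.single e 1, (RestrictScalars.addEquiv A P _).injective ?_⟩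
      rw [AddEquiv.apply_symm_apply, G, Finsupp.linearCombination_single, one_smul,
        AddEquiv.apply_symm_apply, vec_eq A r e (max n e.1.degree) (le_max_right _ _),
        ← ι_mul A r n _ (le_max_left n e.1.degree) (monomial d 1), monomial_mul, one_mul]
      refine congrArg (fun d => ι A r _ (monomial d 1)) (Finsupp.ext fun j => ?_)
      simp only [e, Finsupp.add_apply, Finsupp.tsub_apply, cst_apply]
      have := hd j
      omega

end

open CategoryTheory CategoryTheory.Limits in
/-- Let A be a ring, S = A[T_0, …, T_r] the polynomial ring and T = (T_0, …, T_r). Then the direct-limit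
Koszul cohomology H^i((T), S), the colimit over n of the Koszul cohomologies H^i(T^n, S), vanishes
for every i ≠ r + 1, and H^(r+1)((T), S) is a free A-module (the source gives an explicit basis
indexed by the monomials with all exponents positive). -/
theorem result (A : Type u) [CommRing A] (r : ℕ) :
    (∀ i : ℕ, i ≠ r + 1 →
      Subsingleton (CohIII.koszulHLim (List.ofFn (fun j : Fin (r + 1) => (MvPolynomial.X j : MvPolynomial (Fin (r + 1)) A)))
        (ModuleCat.of (MvPolynomial (Fin (r + 1)) A) (MvPolynomial (Fin (r + 1)) A)) i)) ∧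
    Module.Free A (RestrictScalars A (MvPolynomial (Fin (r + 1)) A)
      (CohIII.koszulHLim (List.ofFn (fun j : Fin (r + 1) => (MvPolynomial.X j : MvPolynomial (Fin (r + 1)) A)))
        (ModuleCat.of (MvPolynomial (Fin (r + 1)) A) (MvPolynomial (Fin (r + 1)) A)) (r + 1))) := by
  refine ⟨fun i hi => ?_, Module.Free.of_equiv (LinearEquiv.ofBijective (G A r) (G_bijective A r))⟩
  refine Groth.Agent.Lib.Koszul.Stable.KLim.subsingleton_lim _ fun n => ?_
  exact Groth.Agent.Lib.Koszul.Stable.Top.subsingleton_homology_of_weaklyRegular _ _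
    (weaklyRegular A r n) _ (by rw [List.length_ofFn]; omega)

end Groth.Agent.S4475
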