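import Groth.Statements.S4476
import Groth.Agent.Lib.Exchange.HomLift

set_option autoImplicit false
universe u
attribute [local instance] HasDerivedCategory.standard
open Coherent

namespace Groth.Agent.S4476

open AlgebraicGeometry CategoryTheory in
/-- Over a local base. Let A be a Noetherian local ring with closed point y, X a scheme proper and flat
over Spec A, F and G finite locally free O_X-modules and F_y, G_y their restrictions (module
pullbacks) to the closed fibre X_y. Assume that the internal Hom functor Hom(F_y, −) exists as the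
right adjoint of F_y ⊗ − and that H^1(X_y, Hom(F_y, G_y)) = 0. Then every morphism u₀ : F_y → G_y is
the restriction to X_y of a morphism u : F → G; moreover for every such u, if u₀ is a monomorphism
(resp. an epimorphism) then u is a monomorphism (resp. an epimorphism). (Over a general locally
Noetherian base the published statements give u on the inverse image of a neighbourhood of y; over
the spectrum of a local ring that neighbourhood is the whole base.) -/
theorem result (A : Type u) [CommRing A] [IsNoetherianRing A]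
    [IsLocalRing A] (X : Scheme.{u}) [X.Over (Spec (CommRingCat.of A))]
    [IsProper (X ↘ Spec (CommRingCat.of A))] [Flat (X ↘ Spec (CommRingCat.of A))]
    (F G : X.Modules) (hF : FlatMod.IsFinLocFree F) (hG : FlatMod.IsFinLocFree G)
    [DCoh.HasSheafHom (CohIII.fiberMod (X ↘ Spec (CommRingCat.of A)) F (IsLocalRing.closedPoint A))]
    (h1 : Subsingleton (Coh.HH ((X ↘ Spec (CommRingCat.of A)).fiber (IsLocalRing.closedPoint A))
      ((DCoh.sheafHom (CohIII.fiberMod (X ↘ Spec (CommRingCat.of A)) F (IsLocalRing.closedPoint A))).obj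
        (CohIII.fiberMod (X ↘ Spec (CommRingCat.of A)) G (IsLocalRing.closedPoint A))) 1))
    (u₀ : CohIII.fiberMod (X ↘ Spec (CommRingCat.of A)) F (IsLocalRing.closedPoint A) ⟶
      CohIII.fiberMod (X ↘ Spec (CommRingCat.of A)) G (IsLocalRing.closedPoint A)) :
    (∃ u : F ⟶ G,
      (Scheme.Modules.pullback ((X ↘ Spec (CommRingCat.of A)).fiberι (IsLocalRing.closedPoint A))).map u = u₀) ∧
    ∀ u : F ⟶ G,
      (Scheme.Modules.pullback ((X ↘ Spec (CommRingCat.of A)).fiberι (IsLocalRing.closedPoint A))).map u = u₀ →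
        (Mono u₀ → Mono u) ∧ (Epi u₀ → Epi u) := by
  let S := Spec (CommRingCat.of A)
  let f : X ⟶ S := X ↘ Spec (CommRingCat.of A)
  let y : PrimeSpectrum A := IsLocalRing.closedPoint A
  haveI : IsLocallyNoetherian X := LocallyOfFiniteType.isLocallyNoetherian f
  letI : (f.fiber y).Over (Spec (CommRingCat.of y.asIdeal.ResidueField)) :=
    ⟨f.fiberToSpecResidueField y ≫ Spec.map (Scheme.Spec.residueFieldIso (CommRingCat.of A) y).inv⟩
  have hsq := ZarCoh.Exchange.Fibre.isPullback_fiber f y
  obtain ⟨E⟩ := ZarCoh.Exchange.HomAdj.nonempty_sheafHom_iso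
    (Iso.refl (CohIII.fiberMod f F y)) (Iso.refl (CohIII.fiberMod f G y))
  haveI := h1
  have h1' : Subsingleton (Coh.HH (f.fiber y) (RefHull.homSh (CohIII.fiberMod f F y)
      (CohIII.fiberMod f G y)) 1) :=
    (Groth.Agent.Lib.Curves.LES.isoK y.asIdeal.ResidueField E.symm 1).injective.subsingleton
  refine ⟨ZarCoh.Exchange.HomLift.exists_hom_of_isUnit y hsq hF hG h1'
    (fun a ha => IsLocalRing.notMem_maximalIdeal.1 ha) u₀, fun u hu => ?_⟩
  have key : ∀ x : X, ∃ z : f.fiber y, x ⤳ f.fiberι y z := fun x => by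
    have h2 : y ∈ f '' closure {x} :=
      (IsLocalRing.specializes_closedPoint (R := A) (f x)).mem_closed (f.isClosedMap _ isClosed_closure)
        ⟨x, subset_closure rfl, rfl⟩
    obtain ⟨x', hx', hfx⟩ := h2
    obtain ⟨z, rfl⟩ : x' ∈ Set.range (f.fiberι y) := by
      rw [Scheme.Hom.range_fiberι]
      exact hfx
    exact ⟨z, specializes_iff_mem_closure.2 hx'⟩
  have hbc : ∀ z : f.fiber y, ZarCoh.Exchange.HomPullback.bc (f.fiberι y) z
      (Groth.Agent.Lib.Modules.StalkModule.stalkMapₗ u (f.fiberι y z)) =
      Groth.Agent.Lib.Modules.StalkModule.stalkMapₗ u₀ z := fun z => by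
    rw [ZarCoh.Exchange.HomPullback.bc_stalkMap, hu]
  haveI : F.IsQuasicoherent := (Groth.Agent.Lib.Perfect.Coherent.isCoh_of_isFinLocFree hF).1
  haveI : G.IsQuasicoherent := (Groth.Agent.Lib.Perfect.Coherent.isCoh_of_isFinLocFree hG).1
  refine ⟨fun hm => ?_, fun he => ?_⟩
  · rw [Groth.Agent.Lib.Modules.StalkModule.mono_iff_stalkMapₗ_injective] at hm ⊢
    intro x
    obtain ⟨z, hz⟩ := key x
    haveI := Groth.Agent.Lib.RefHull.LocFree.finite_stalk
      (Groth.Agent.Lib.Perfect.Coherent.isCoh_of_isFinLocFree hF) (f.fiberι y z)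
    refine ZarCoh.Exchange.HomLift.injective_of_specializes u hz
      (ZarCoh.Exchange.HomLift.injective_of_bc f y z
        (ZarCoh.Exchange.NearFibre.isFlatOver_of_isFinLocFree f hG) _ ?_)
    rw [hbc]
    exact hm z
  · rw [Groth.Agent.Lib.Modules.StalkModule.epi_iff_stalkMapₗ_surjective] at he ⊢
    intro x
    obtain ⟨z, hz⟩ := key x
    haveI := Groth.Agent.Lib.RefHull.LocFree.finite_stalk
      (Groth.Agent.Lib.Perfect.Coherent.isCoh_of_isFinLocFree hG) (f.fiberι y z)
    refine ZarCoh.Exchange.HomLift.surjective_of_specializes u hz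
      (ZarCoh.Exchange.HomLift.surjective_of_bc (f.fiberι y) z
        ((f.fiberι y).stalkMap_surjective z) _ ?_)
    rw [hbc]
    exact he z

end Groth.Agent.S4476
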