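import Groth.Statements.S4479
import Groth.Agent.H68.TwistCech.Main
import Groth.Prelude.Def_GrMod2
-- import your own Groth.Agent.* helpers here

set_option autoImplicit false
universe u
open Koszul3

namespace Groth.Agent.S4479

theorem tilde_eq {R A : Type u} [CommRing R] [CommRing A] [Algebra R A] (𝒜 : ℕ → Submodule R A)
    [GradedAlgebra 𝒜] {M : Type u} [AddCommGroup M] [Module R M] [Module A M]
    (ℳ : ℕ → Submodule R M) [SetLike.GradedSMul 𝒜 ℳ] (n : ℤ) :
    GrTilde.tilde 𝒜 ℳ n = GrMod.tilde 𝒜 ℳ n := rfl

open AlgebraicGeometry CategoryTheory in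
/-- For a graded module concentrated in nonnegative degrees. Let S be a nonnegatively graded ring, f_1,
…, f_r homogeneous elements of S of positive degrees, M a graded S-module, X = Proj S and U ⊆ X the
union of the opens D_+(f_i). Then for every p ≥ 1 the direct sum over all integers n of the groups
H^p(U, M(n)~|_U) is isomorphic, as an additive group, to the direct-limit Koszul cohomology
H^(p+1)((f), M), the colimit over m of the Koszul cohomologies H^(p+1)(f^m, M) of M as an S-module.
(The source's isomorphism is canonical and of degree 0 for the gradings; only the existence of an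
additive isomorphism is asserted.) -/
theorem result {R A : Type u} [CommRing R] [CommRing A]
    [Algebra R A] (𝒜 : ℕ → Submodule R A) [GradedAlgebra 𝒜] (fs : List A)
    (hfs : ∀ a ∈ fs, ∃ d : ℕ, 0 < d ∧ a ∈ 𝒜 d) {M : Type u} [AddCommGroup M] [Module R M] [Module A M]
    [IsScalarTower R A M] (ℳ : ℕ → Submodule R M) [DirectSum.Decomposition ℳ] [SetLike.GradedSMul 𝒜 ℳ]
    (p : ℕ) (hp : 1 ≤ p) :
    Nonempty (DirectSum ℤ (fun n : ℤ => Coh.HHon (Proj 𝒜) (GrTilde.tilde 𝒜 ℳ n)
        (⨆ i : Fin fs.length, Proj.basicOpen 𝒜 (fs.get i)) p) ≃+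
      CohIII.koszulHLim fs (ModuleCat.of A M) (p + 1)) := by
  simp only [tilde_eq]
  exact Groth.Agent.H68.TwistCech.nonempty_equiv fs hfs p hp

end Groth.Agent.S4479
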