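import Groth.Statements.S4480
import Groth.Agent.H34.Stein.NormalPoint
import Mathlib.AlgebraicGeometry.Geometrically.Connected
-- import your own Groth.Agent.* helpers here

set_option autoImplicit false
universe u
open Coherent

namespace Groth.Agent.S4480

open AlgebraicGeometry CategoryTheory in
/-- Let X and Y be locally Noetherian integral schemes and f : X → Y a proper dominant morphism such
that the function field R(Y) is algebraically closed in R(X) (every element of R(X) satisfying a
nonzero polynomial over R(Y) comes from R(Y)). Let y be a point of Y whose local ring is integrally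
closed (a normal point). Then the fibre X_y is geometrically connected over the residue field of y
(its base change to every field extension of that residue field is connected and nonempty; in
particular X_y is connected and nonempty), and there is an open neighbourhood U of y such that
O_Y(V) → O_X(f⁻¹V) is an isomorphism for every open V ⊆ U. -/
theorem result {X Y : Scheme.{u}}
    [IsIntegral X] [IsIntegral Y] [IsLocallyNoetherian X] [IsLocallyNoetherian Y] (f : X ⟶ Y) [IsProper f]
    (hdom : f.base (genericPoint X) ⤳ genericPoint Y)
    (halg : ∀ x : X.functionField,
      (∃ q : Polynomial Y.functionField, q ≠ 0 ∧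
        Polynomial.eval₂ (CohIII.stalkToFunctionField f (genericPoint Y) hdom) x q = 0) →
      x ∈ Set.range (CohIII.stalkToFunctionField f (genericPoint Y) hdom))
    (y : Y) (hy : IsIntegrallyClosed (Y.presheaf.stalk y)) :
    GeometricallyConnected (f.fiberToSpecResidueField y) ∧
      ∃ U : Y.Opens, y ∈ U ∧ ∀ V : Y.Opens, V ≤ U → IsIso (f.app V) := by

  obtain ⟨D, hyD, hconn, happ⟩ := Groth.Agent.H34.Stein.isIso_app_near_normal f hdom halg y hy
  refine ⟨?_, D, hyD, happ⟩
  let u : D.toScheme := ⟨y, hyD⟩
  have sq := isPullback_fiberToSpecResidueField_of_isPullback (isPullback_morphismRestrict f D).flip u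
  have hJ : IsIso (Spec.map (D.ι.residueFieldMap u)) := inferInstance
  haveI := hJ
  have h : GeometricallyConnected ((f ∣_ D).fiberToSpecResidueField u) :=
    MorphismProperty.pullback_snd _ _ hconn
  have hI := sq.isIso_fst_of_isIso
  exact (MorphismProperty.arrow_mk_iso_iff @GeometricallyConnected
    (Arrow.isoMk (@asIso _ _ _ _ _ hI) (@asIso _ _ _ _ _ hJ) sq.w)).1 h

end Groth.Agent.S4480
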