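import Groth.Statements.S4481
import Groth.Agent.Lib.Cech.Module
import Mathlib.AlgebraicGeometry.Morphisms.QuasiSeparated
-- import your own Groth.Agent.* helpers here

set_option autoImplicit false
universe u
open Coherent

namespace Groth.Agent.S4481

open AlgebraicGeometry CategoryTheory Opposite in
/-- Let X be a separated scheme, f_1, …, f_n global functions on X such that every open X_{f_i} is
quasi-compact, U the union of the X_{f_i}, and suppose there are sections g_1, …, g_n of O_X over U
with Σ g_i · (f_i|_U) = 1. Then for every quasi-coherent O_X-module G and every p > 0 the Čech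
cohomology group of G in degree p with respect to the family of opens (X_{f_i}) is zero. (The
published statement also covers a scheme whose underlying space is Noetherian, not necessarily
separated; this row treats separated X.) -/
theorem result (X : Scheme.{u}) [X.IsSeparated] (n : ℕ)
    (f : Fin n → Γ(X, ⊤)) (hqc : ∀ i, IsCompact (X.basicOpen (f i) : Set X))
    (g : Fin n → Γ(X, ⨆ i, X.basicOpen (f i)))
    (hg : (Finset.univ.sum fun i => g i *
      (X.presheaf.map (homOfLE (le_top : (⨆ i, X.basicOpen (f i)) ≤ ⊤)).op).hom (f i)) = 1)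
    (G : X.Modules) [Coh.IsQCoh G] (p : ℕ) (hp : 0 < p) :
    Limits.IsZero (CohB1.cechH (fun i : ULift.{u} (Fin n) => X.basicOpen (f i.down)) G p) := by
  obtain ⟨q, rfl⟩ := Nat.exists_eq_succ_of_ne_zero hp.ne'
  refine (Groth.Agent.Lib.Cech.Complex.isZero_homology_succ_iff
    (X := X.toPresheafedSpace.carrier) _ _ q).mpr ?_
  have hspan : Ideal.span (Set.range fun k : ULift.{u} (Fin n) =>
      (X.presheaf.map (homOfLE (le_top : (⨆ i, X.basicOpen (f i)) ≤ ⊤)).op).hom (f k.down)) = ⊤ := by
    rw [Ideal.eq_top_iff_one, ← hg]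
    exact Submodule.sum_mem _ fun i _ =>
      Ideal.mul_mem_left _ _ (Ideal.subset_span ⟨ULift.up i, rfl⟩)
  have hU : ∀ k : ULift.{u} (Fin n), X.basicOpen (f k.down) = X.basicOpen
      ((X.presheaf.map (homOfLE (le_top : (⨆ i, X.basicOpen (f i)) ≤ ⊤)).op).hom (f k.down)) := by
    intro k
    rw [Scheme.basicOpen_res]
    exact (inf_eq_right.mpr (le_iSup (fun i => X.basicOpen (f i)) k.down)).symm
  have : QuasiSeparatedSpace X := inferInstance
  let U : ULift.{u} (Fin n) → X.Opens := fun k => X.basicOpen (f k.down)
  have hc : ∀ {q : ℕ} (i : Fin (q + 1) → ULift.{u} (Fin n)),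
      IsCompact (Groth.Agent.Lib.Cech.Complex.inter (X := X.toPresheafedSpace.carrier) U i : Set X) :=
    fun i => Groth.Agent.Lib.Cech.Module.isCompact_inter (X := X) U (fun k => hqc k.down) i
  have hqs : ∀ {q : ℕ} (i : Fin (q + 1) → ULift.{u} (Fin n)),
      IsQuasiSeparated (Groth.Agent.Lib.Cech.Complex.inter (X := X.toPresheafedSpace.carrier) U i : Set X) :=
    fun i => IsQuasiSeparated.of_quasiSeparatedSpace _
  have hG : G.IsQuasicoherent := inferInstance
  exact @Groth.Agent.Lib.Cech.Module.exactSucc_basicOpens X (ULift.{u} (Fin n)) inferInstance G hG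
    (⨆ i, X.basicOpen (f i)) _ hspan U hU (fun i => hc i) (fun i => hqs i) q

end Groth.Agent.S4481
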