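import Groth.Statements.S4482
import Groth.Agent.S0847
import Groth.Prelude.Def_CohPull
import Groth.Agent.H95.ProjQuot.Coherent
import Groth.Agent.Lib.ProjTilde.FiniteType
import Groth.Agent.Lib.ProjTilde.Tensor
import Groth.Agent.Lib.ProjCoh.Scalars
import Groth.Agent.Lib.AlphaBij.GrModAlpha

set_option autoImplicit false
universe u
open Coherent

namespace Groth.Agent.S4482

section
open CategoryTheory CategoryTheory.Limits AlgebraicGeometry TopologicalSpace Opposite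
open Groth.Agent.Lib Groth.Agent.Lib.TensorMod.Basic Groth.Agent.Lib.ProjTilde.Basic

variable {A S : Type u} [CommRing A] [CommRing S] [Algebra A S] (𝒜 : ℕ → Submodule A S) [GradedAlgebra 𝒜]
variable {M : Type u} [AddCommGroup M] [Module A M] [Module S M] [IsScalarTower A S M]
variable (ℳ : ℕ → Submodule A M) [SetLike.GradedSMul 𝒜 ℳ] [DirectSum.Decomposition ℳ]

theorem toGlobal_val (a : A) (x : (⊤ : Opens (ProjectiveSpectrum.top 𝒜))) :
    (((Coh.toGlobal (Proj 𝒜 ↘ Spec (CommRingCat.of A)) a : Coh.Γtop (Proj 𝒜)) :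
      Twist.O (𝒜 := 𝒜) (op ⊤)).1 x).val = Localization.mk (algebraMap A S a) 1 := by
  have h : Coh.toGlobal (Proj 𝒜 ↘ Spec (CommRingCat.of A)) a =
      (Proj.toSpecZero 𝒜).appTop ((Scheme.ΓSpecIso (CommRingCat.of (𝒜 0))).inv (algebraMap A (𝒜 0) a)) := by
    change ((Scheme.ΓSpecIso (CommRingCat.of A)).inv ≫ (Proj.toSpecZero 𝒜 ≫
      Spec.map (CommRingCat.ofHom (algebraMap A (𝒜 0)))).appTop) a = _
    rw [Scheme.Hom.comp_appTop, ← Category.assoc, ← Scheme.ΓSpecIso_inv_naturality]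
    rfl
  rw [h]
  erw [ProjCoh.Sections.toSpecZero_appTop_val]
  rfl

/-- Degree `n` elements as classes in `H^0`. -/
noncomputable def toH0 (n : ℕ) (m : ℳ n) : Coh.HH (Proj 𝒜) (GrTilde.tilde 𝒜 ℳ (n : ℤ)) 0 :=
  (Sheaf.H.equiv₀ (Coh.toAb (GrTilde.tilde 𝒜 ℳ (n : ℤ))) isTerminalTop).symm (GrTilde.globalOf 𝒜 ℳ m)

theorem equiv₀_toH0 (n : ℕ) (m : ℳ n) :
    Sheaf.H.equiv₀ (Coh.toAb (GrTilde.tilde 𝒜 ℳ (n : ℤ))) isTerminalTop (toH0 𝒜 ℳ n m) =
      GrTilde.globalOf 𝒜 ℳ m :=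
  AddEquiv.apply_symm_apply _ _

theorem length_h0 (n : ℕ) (h : Function.Bijective (fun m : ℳ n => GrTilde.globalOf 𝒜 ℳ m)) :
    Module.length A (Coh.HH (Proj 𝒜) (GrTilde.tilde 𝒜 ℳ (n : ℤ)) 0) = Module.length A (ℳ n) := by
  let φ : ℳ n →ₗ[A] Coh.HH (Proj 𝒜) (GrTilde.tilde 𝒜 ℳ (n : ℤ)) 0 :=
    { toFun := toH0 𝒜 ℳ n
      map_add' := fun m m' => by
        simp only [toH0]
        refine Eq.trans (congrArg _ ?_) (map_add _ _ _)
        exact ProjTilde.Frac.sect_ext (U := ⊤) fun x => by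
          haveI : x.1.asHomogeneousIdeal.toIdeal.IsPrime := x.1.isPrime
          change LocalizedModule.mk ((m : M) + m') (1 : x.1.asHomogeneousIdeal.toIdeal.primeCompl) = LocalizedModule.mk (m : M) 1 + LocalizedModule.mk (m' : M) 1
          rw [LocalizedModule.mk_add_mk]
          simp
      map_smul' := fun a m => by
        apply (Sheaf.H.equiv₀ (Coh.toAb (GrTilde.tilde 𝒜 ℳ (n : ℤ))) isTerminalTop).injective
        refine Eq.trans ?_ (Sheaf.H.equiv₀_naturality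
          (f := Coh.smulAb (GrTilde.tilde 𝒜 ℳ (n : ℤ)) (Coh.toGlobal (Proj 𝒜 ↘ Spec (CommRingCat.of A)) a))
          _ (toH0 𝒜 ℳ n m))
        refine (equiv₀_toH0 𝒜 ℳ n (a • m)).trans ?_
        refine Eq.trans ?_ (Coh.smulAb_app _ _ (op ⊤) _).symm
        rw [equiv₀_toH0]
        refine ProjTilde.Frac.sect_ext (U := ⊤) fun x => ?_
        haveI : x.1.asHomogeneousIdeal.toIdeal.IsPrime := x.1.isPrime
        change LocalizedModule.mk (((a • m : ℳ n) : M)) (1 : x.1.asHomogeneousIdeal.toIdeal.primeCompl) =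
          (((Coh.toGlobal (Proj 𝒜 ↘ Spec (CommRingCat.of A)) a : Coh.Γtop (Proj 𝒜)) :
            Twist.O (𝒜 := 𝒜) (op ⊤)).1 x).val • LocalizedModule.mk (m : M) (1 : x.1.asHomogeneousIdeal.toIdeal.primeCompl)
        refine Eq.trans ?_ (congrArg (fun z : Twist.Loc 𝒜 x.1 => z • (LocalizedModule.mk (m : M) (1 : x.1.asHomogeneousIdeal.toIdeal.primeCompl) : GrTilde.LocMod 𝒜 (M := M) x.1)) (toGlobal_val 𝒜 a x)).symm
        rw [LocalizedModule.mk_smul_mk, mul_one, algebraMap_smul]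
        rfl }
  have hφ : Function.Bijective φ :=
    (Sheaf.H.equiv₀ (Coh.toAb (GrTilde.tilde 𝒜 ℳ (n : ℤ))) isTerminalTop).symm.bijective.comp h
  exact ((LinearEquiv.ofBijective φ hφ).length_eq).symm

theorem subsingleton_of_iso {X : Scheme.{u}} {F G : X.Modules} (e : F ≅ G) (p : ℕ)
    [Subsingleton (Coh.HH X F p)] : Subsingleton (Coh.HH X G p) :=
  Function.Injective.subsingleton (f := CohPull.mapH e.inv p) fun a b h => by
    have := congrArg (CohPull.mapH e.hom p) h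
    have he : (SheafOfModules.toSheaf X.ringCatSheaf).map e.inv ≫ (SheafOfModules.toSheaf X.ringCatSheaf).map e.hom = 𝟙 _ :=
      (CategoryTheory.Functor.map_comp _ _ _).symm.trans ((congrArg _ e.inv_hom_id).trans (CategoryTheory.Functor.map_id _ _))
    simp only [CohPull.mapH, ← Sheaf.H.map_comp_apply, he] at this
    simpa using this

theorem twistIso (n : ℕ) (hcov : ∀ x : ProjectiveSpectrum 𝒜, ∃ (p q : ℕ) (c e : S), c ∈ 𝒜 p ∧ e ∈ 𝒜 q ∧
      (p : ℤ) = q + n ∧ c * e ∉ x.asHomogeneousIdeal) :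
    Nonempty (Twist.twistBy 𝒜 (GrTilde.tilde 𝒜 ℳ 0) n ≅ GrTilde.tilde 𝒜 ℳ (n : ℤ)) :=
  ⟨tensorIso (Iso.refl _) (twistIsoTilde _) ≪≫ ProjTilde.Tensor.tensorTildeIso 0 (n : ℤ) hcov ≪≫
    eqToIso (congrArg (GrTilde.tilde 𝒜 ℳ) (zero_add (n : ℤ)))⟩

theorem isCoh_tilde [IsNoetherianRing S] [Module.Finite S M] : Coh.IsCoh (GrTilde.tilde 𝒜 ℳ 0) :=
  ⟨ProjTilde.QCoh.tilde_isQCoh 0, ProjTilde.FiniteType.isFT (IsNoetherian.noetherian _) ⟨0, IsNoetherian.noetherian _⟩⟩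

theorem sum_eq {r : ℕ} (T : ℕ → Type u) [∀ j, AddCommGroup (T j)] [∀ j, Module A (T j)]
    (hT : ∀ p < r, Subsingleton (T (p + 1))) :
    ((Finset.range (r + 1)).sum fun j => (-1 : ℤ) ^ j * ((Module.length A (T j)).toNat : ℤ)) =
      ((Module.length A (T 0)).toNat : ℤ) := by
  rw [Finset.sum_range_succ', Finset.sum_eq_zero fun p hp => ?_]
  · simp
  · haveI := hT p (Finset.mem_range.1 hp)
    simp [Module.length_eq_zero]

theorem exists_vanish [IsNoetherianRing S] [Module.Finite S M] (r : ℕ)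
    (hcov1 : ∀ x : ProjectiveSpectrum 𝒜, ∃ c, c ∈ 𝒜 1 ∧ c ∉ x.asHomogeneousIdeal) :
    ∃ N : ℕ, ∀ n : ℕ, N ≤ n → ∀ p < r, Subsingleton (Coh.HH (Proj 𝒜) (GrTilde.tilde 𝒜 ℳ (n : ℤ)) (p + 1)) := by
  choose d₀ hd₀ using fun p : ℕ => S0847.aux 𝒜 (GrTilde.tilde 𝒜 ℳ 0) (isCoh_tilde 𝒜 ℳ) (p + 1) (Nat.succ_pos p)
  refine ⟨(Finset.range r).sup fun p => (d₀ p).toNat, fun n hn p hp => ?_⟩
  have hcov : ∀ x : ProjectiveSpectrum 𝒜, ∃ (p q : ℕ) (c e : S), c ∈ 𝒜 p ∧ e ∈ 𝒜 q ∧ (p : ℤ) = q + n ∧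
      c * e ∉ x.asHomogeneousIdeal := fun x => by
    obtain ⟨c, hc, hi⟩ := hcov1 x
    refine ⟨n, 0, c ^ n, 1, by simpa using SetLike.pow_mem_graded n hc, SetLike.GradedOne.one_mem,
      by simp, fun h => hi (x.isPrime.mem_of_pow_mem n (by simpa using h))⟩
  have hle : d₀ p ≤ (n : ℤ) := by
    have h1 : (d₀ p).toNat ≤ n :=
      (Finset.le_sup (f := fun p => (d₀ p).toNat) (Finset.mem_range.2 hp)).trans hn
    omega
  obtain ⟨e⟩ := twistIso 𝒜 ℳ n hcov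
  exact @subsingleton_of_iso _ _ _ e (p + 1) (hd₀ p n hle)

theorem aux [IsArtinianRing A] (r : ℕ) (g : Fin (r + 1) → S) (hg1 : ∀ i, g i ∈ 𝒜 1)
    (hgen : Algebra.adjoin A (Set.range g) = ⊤) [Module.Finite S M] :
    ∃ N : ℕ, ∀ n : ℕ, N ≤ n →
      ((Finset.range (r + 1)).sum fun j => (-1 : ℤ) ^ j *
          ((Module.length A (Coh.HH (Proj 𝒜) (GrTilde.tilde 𝒜 ℳ (n : ℤ)) j)).toNat : ℤ)) =
        ((Module.length A ↥(ℳ n)).toNat : ℤ) := by
  classical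
  haveI : Algebra.FiniteType A S := ⟨⟨Finset.univ.image g, by simpa using hgen⟩⟩
  haveI : IsNoetherianRing S := Algebra.FiniteType.isNoetherianRing A S
  have hcov1 : ∀ x : ProjectiveSpectrum 𝒜, ∃ c, c ∈ 𝒜 1 ∧ c ∉ x.asHomogeneousIdeal := fun x => by
    obtain ⟨i, hi⟩ := ZeroCyc99.Twist.exists_notMem g (fun _ => 1) (fun _ => Nat.one_pos) hg1 hgen x
    exact ⟨g i, hg1 i, hi⟩
  obtain ⟨N₁, hN₁⟩ := exists_vanish 𝒜 ℳ r hcov1
  obtain ⟨N, hN⟩ := Lib.AlphaBij.GrModAlpha.grTilde 𝒜 ℳ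
  exact ⟨max N N₁, fun n hn =>
    (sum_eq (A := A) (fun j => Coh.HH (Proj 𝒜) (GrTilde.tilde 𝒜 ℳ (n : ℤ)) j)
      (hN₁ n ((le_max_right _ _).trans hn))).trans
      (congrArg (fun x : ℕ∞ => (x.toNat : ℤ)) (length_h0 𝒜 ℳ n (hN n ((le_max_left _ _).trans hn))))⟩

end

open AlgebraicGeometry CategoryTheory in
/-- Let A be an Artinian local ring, S a graded A-algebra with S_0 the image of A, generated by r+1
elements of degree one spanning S_1, M a finitely generated graded S-module (graded in nonnegative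
degrees) and X = Proj S. Then there is N such that for every n ≥ N the Euler characteristic of the
module M(n)~, namely the alternating sum over 0 ≤ j ≤ r of the lengths of the A-modules H^j(X,
M(n)~), equals the length of the A-module M_n. -/
theorem result {A S : Type u} [CommRing A] [IsArtinianRing A]
    [IsLocalRing A] [CommRing S] [Algebra A S] (𝒜 : ℕ → Submodule A S) [GradedAlgebra 𝒜]
    (h0 : ∀ s ∈ 𝒜 0, s ∈ Set.range (algebraMap A S)) (r : ℕ) (g : Fin (r + 1) → S)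
    (hg1 : ∀ i, g i ∈ 𝒜 1) (hspan : Submodule.span A (Set.range g) = 𝒜 1)
    (hgen : Algebra.adjoin A (Set.range g) = ⊤) {M : Type u} [AddCommGroup M] [Module A M] [Module S M]
    [IsScalarTower A S M] [Module.Finite S M] (ℳ : ℕ → Submodule A M) [DirectSum.Decomposition ℳ]
    [SetLike.GradedSMul 𝒜 ℳ] :
    ∃ N : ℕ, ∀ n : ℕ, N ≤ n →
      ((Finset.range (r + 1)).sum fun j => (-1 : ℤ) ^ j *
          ((Module.length A (Coh.HH (Proj 𝒜) (GrTilde.tilde 𝒜 ℳ (n : ℤ)) j)).toNat : ℤ)) =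
        ((Module.length A ↥(ℳ n)).toNat : ℤ) := by
  exact aux 𝒜 ℳ r g hg1 hgen

end Groth.Agent.S4482
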