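import Groth.Statements.S4484
import Groth.Agent.H34.Stein.Unibranch
-- import your own Groth.Agent.* helpers here

set_option autoImplicit false
universe u
open Coherent

namespace Groth.Agent.S4484

open AlgebraicGeometry CategoryTheory in
/-- Let X and Y be locally Noetherian integral schemes and f : X → Y a proper dominant morphism; regard
the function field R(X) as an extension of R(Y) through f. Suppose that the algebraic closure of
R(Y) in R(X) has finite separable degree n over R(Y). Then for every point y of Y whose local ring
is unibranch, the fibre X_y has finitely many, and at most n, connected components. -/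
theorem result {X Y : Scheme.{u}} [IsIntegral X]
    [IsIntegral Y] [IsLocallyNoetherian X] [IsLocallyNoetherian Y] (f : X ⟶ Y) [IsProper f]
    (hdom : f.base (genericPoint X) ⤳ genericPoint Y) [Algebra Y.functionField X.functionField]
    (halg : algebraMap Y.functionField X.functionField = CohIII.stalkToFunctionField f (genericPoint Y) hdom)
    (n : ℕ) (hn0 : 0 < n)
    (hn : Field.finSepDegree Y.functionField ↥(algebraicClosure Y.functionField X.functionField) = n)
    (y : Y) (hy : CAlg2.IsUnibranch (Y.presheaf.stalk y)) :
    Finite (_root_.ConnectedComponents ↥(f.fiber y)) ∧
      Nat.card (_root_.ConnectedComponents ↥(f.fiber y)) ≤ n := by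
  classical
  have : Finite (↥(algebraicClosure Y.functionField X.functionField) →ₐ[Y.functionField]
      AlgebraicClosure Y.functionField) := by
    have h := Field.finSepDegree_eq_of_isAlgClosed Y.functionField
      ↥(algebraicClosure Y.functionField X.functionField) (AlgebraicClosure Y.functionField)
    exact Nat.finite_of_card_ne_zero (by omega)
  obtain ⟨F, hF⟩ := Groth.Agent.H34.Stein.exists_injective_emb f hdom halg y hy
  refine ⟨Finite.of_injective F hF, ?_⟩
  rw [← hn, Field.finSepDegree_eq_of_isAlgClosed Y.functionField
    ↥(algebraicClosure Y.functionField X.functionField) (AlgebraicClosure Y.functionField)]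
  exact Nat.card_le_card_of_injective F hF

end Groth.Agent.S4484
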