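import Groth.Statements.S4487
import Groth.Agent.Lib.FlatCx.Generic
import Mathlib.RingTheory.Nilpotent.Lemmas
import Mathlib.Algebra.Homology.HomologySequence

set_option autoImplicit false
universe u
open FlatCx

namespace Groth.Agent.S4487

section
open CategoryTheory CategoryTheory.Limits TensorProduct
open Groth.Agent.Lib.FlatCx Groth.Agent.Lib.FlatCx.Basic Groth.Agent.Lib.FlatCx.HKer Groth.Agent.Lib.FlatCx.Local

variable {A : Type u} [CommRing A] (P : ChainComplex (ModuleCat.{u} A) ℤ) [∀ i, Module.Flat A (P.X i)]

/-- The functor to complexes. -/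
noncomputable abbrev seq (S : ShortComplex (ModuleCat.{u} A)) : ShortComplex (ChainComplex (ModuleCat.{u} A) ℤ) :=
  ShortComplex.mk (CohIII.tensorMap P S.f) (CohIII.tensorMap P S.g) (by
    refine HomologicalComplex.hom_ext _ _ fun i => ModuleCat.hom_ext ?_
    show S.g.hom.lTensor (P.X i) ∘ₗ S.f.hom.lTensor (P.X i) = 0
    rw [← LinearMap.lTensor_comp, ← ModuleCat.hom_comp, S.zero]
    exact LinearMap.lTensor_zero _)

theorem seq_shortExact {S : ShortComplex (ModuleCat.{u} A)} (hS : S.ShortExact) : (seq P S).ShortExact :=
  HomologicalComplex.shortExact_of_degreewise_shortExact _ fun i =>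
    { exact := (ShortComplex.ShortExact.moduleCat_exact_iff_function_exact _).2
        (Module.Flat.lTensor_exact (P.X i)
          ((ShortComplex.ShortExact.moduleCat_exact_iff_function_exact S).1 hS.exact))
      mono_f := (ModuleCat.mono_iff_injective _).2
        (Module.Flat.lTensor_preserves_injective_linearMap _ ((ModuleCat.mono_iff_injective _).1 hS.mono_f))
      epi_g := (ModuleCat.epi_iff_surjective _).2
        (LinearMap.lTensor_surjective _ ((ModuleCat.epi_iff_surjective _).1 hS.epi_g)) }

theorem finite_T_free [IsNoetherianRing A] (hfg : ∀ n : ℤ, Module.Finite A (CohIII.T P n (ModuleCat.of A A)))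
    (n : ℤ) : ∀ r : ℕ, Module.Finite A (CohIII.T P n (ModuleCat.of A (Fin r → A)))
  | 0 => by
    have hz : IsZero (ModuleCat.of A (Fin 0 → A)) := ModuleCat.isZero_of_subsingleton _
    have := ModuleCat.subsingleton_of_isZero ((CohIII.TFun P n).map_isZero hz)
    exact inferInstanceAs (Module.Finite A ((CohIII.TFun P n).obj (ModuleCat.of A (Fin 0 → A))))
  | r + 1 => by
    have := finite_T_free hfg n r
    have := hfg n
    let f : ModuleCat.of A A ⟶ ModuleCat.of A (Fin (r + 1) → A) :=
      ModuleCat.ofHom (LinearMap.single A (fun _ : Fin (r + 1) => A) 0)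
    let g : ModuleCat.of A (Fin (r + 1) → A) ⟶ ModuleCat.of A (Fin r → A) :=
      ModuleCat.ofHom (LinearMap.funLeft A A Fin.succ)
    let S : ShortComplex (ModuleCat.{u} A) := ShortComplex.mk f g (by
      refine ModuleCat.hom_ext (LinearMap.ext fun x => funext fun i => ?_)
      show (Pi.single 0 x : Fin (r + 1) → A) i.succ = 0
      exact Pi.single_eq_of_ne (Fin.succ_ne_zero i) _)
    have hS : S.ShortExact :=
      { exact := (ShortComplex.ShortExact.moduleCat_exact_iff_function_exact S).2 fun v =>
          ⟨fun hv => ⟨v 0, funext fun i => by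
            refine Fin.cases ?_ (fun i => ?_) i
            · show (Pi.single 0 (v 0) : Fin (r + 1) → A) 0 = v 0
              exact Pi.single_eq_same _ _
            · show (Pi.single 0 (v 0) : Fin (r + 1) → A) i.succ = v i.succ
              exact (Pi.single_eq_of_ne (Fin.succ_ne_zero i) _).trans (congrFun hv i).symm⟩,
            by
              rintro ⟨x, rfl⟩
              funext i
              show (Pi.single 0 x : Fin (r + 1) → A) i.succ = 0
              exact Pi.single_eq_of_ne (Fin.succ_ne_zero i) _⟩
        mono_f := (ModuleCat.mono_iff_injective _).2 fun x y h => Pi.single_injective (0 : Fin (r + 1)) h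
        epi_g := (ModuleCat.epi_iff_surjective _).2 fun v => ⟨Fin.cases 0 v, funext fun i => rfl⟩ }
    have hex := (ShortComplex.ShortExact.moduleCat_exact_iff_function_exact _).1
      ((seq_shortExact P hS).homology_exact₂ n)
    have h₁ : IsNoetherian A (CohIII.T P n (ModuleCat.of A A)) := inferInstance
    have h₂ : IsNoetherian A (CohIII.T P n (ModuleCat.of A (Fin r → A))) := inferInstance
    have : IsNoetherian A (CohIII.T P n (ModuleCat.of A (Fin (r + 1) → A))) :=
      isNoetherian_of_range_eq_ker (HomologicalComplex.homologyMap (seq P S).f n).hom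
        (HomologicalComplex.homologyMap (seq P S).g n).hom hex.linearMap_ker_eq.symm
    infer_instance

theorem finite_T [IsNoetherianRing A] {i₀ : ℤ} (hb : ∀ i < i₀, IsZero (P.X i))
    (hfg : ∀ n : ℤ, Module.Finite A (CohIII.T P n (ModuleCat.of A A))) :
    ∀ (k : ℕ) (n : ℤ), n - i₀ < k → ∀ (M : ModuleCat.{u} A), Module.Finite A M →
      Module.Finite A (CohIII.T P n M) := by
  intro k
  induction k with
  | zero =>
    intro n hn M _
    have := ModuleCat.isZero_iff_subsingleton.1 (hb n (by omega))
    have : Subsingleton ((CohIII.tensorObj P M).X n) := inferInstanceAs (Subsingleton (P.X n ⊗[A] M))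
    have : Subsingleton (CohIII.T P n M) := ModuleCat.subsingleton_of_isZero
      (((CohIII.tensorObj P M).exactAt_iff_isZero_homology n).1
        (ShortComplex.exact_of_isZero_X₂ _ (ModuleCat.isZero_of_subsingleton ((CohIII.tensorObj P M).X n))))
    infer_instance
  | succ k ih =>
    intro n hn M hM
    obtain ⟨r, p, hp⟩ := Module.Finite.exists_fin' A M
    let S : ShortComplex (ModuleCat.{u} A) :=
      ShortComplex.mk (ModuleCat.ofHom (LinearMap.ker p).subtype) (ModuleCat.ofHom p)
        (by ext x; exact x.2)
    have hS : S.ShortExact :=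
      { exact := (ShortComplex.ShortExact.moduleCat_exact_iff_function_exact S).2
          (LinearMap.exact_subtype_ker_map p)
        mono_f := (ModuleCat.mono_iff_injective _).2 (LinearMap.ker p).injective_subtype
        epi_g := (ModuleCat.epi_iff_surjective _).2 hp }
    have hex := (ShortComplex.ShortExact.moduleCat_exact_iff_function_exact _).1
      ((seq_shortExact P hS).homology_exact₃ n (n - 1) (by simp))
    have := finite_T_free P hfg n r
    have := ih (n - 1) (by omega) (ModuleCat.of A (LinearMap.ker p)) inferInstance
    have h₁ : IsNoetherian A (CohIII.T P n (ModuleCat.of A (Fin r → A))) := inferInstance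
    have h₂ : IsNoetherian A (CohIII.T P (n - 1) (ModuleCat.of A (LinearMap.ker p))) := inferInstance
    have : IsNoetherian A (CohIII.T P n M) :=
      isNoetherian_of_range_eq_ker (HomologicalComplex.homologyMap (seq P S).g n).hom
        ((seq_shortExact P hS).δ n (n - 1) (by simp)).hom hex.linearMap_ker_eq.symm
    infer_instance

theorem finite_bc_homology [IsNoetherianRing A] {i₀ : ℤ} (hb : ∀ i < i₀, IsZero (P.X i))
    (hfg : ∀ n : ℤ, Module.Finite A (CohIII.T P n (ModuleCat.of A A)))
    (B : Type u) [CommRing B] [Algebra A B] [Module.Finite A B] [IsNoetherianRing B] (n : ℤ) :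
    Module.Finite B ((BaseChange.bc P B).homology n) := by
  have hpq : (n - 1) + 1 = n := by omega
  have := finite_T P hb hfg ((n - i₀).toNat + 1) n (by omega) (ModuleCat.of A B) inferInstance
  have h1 : Module.Finite A (LinearMap.ker ((Dbar P n (n - 1)).rTensor B)) :=
    Module.Finite.equiv (TKerEquiv P (ModuleCat.of A B) hpq)
  have h2 : Module.Finite A (LinearMap.ker ((Dbar P n (n - 1)).baseChange B)) := by
    refine Module.Finite.equiv (R := A) (M := LinearMap.ker ((Dbar P n (n - 1)).rTensor B))
      (LinearEquiv.ofBijective (((TensorProduct.comm A (Q P n) B).toLinearMap ∘ₗ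
        (LinearMap.ker ((Dbar P n (n - 1)).rTensor B)).subtype).codRestrict
          ((LinearMap.ker ((Dbar P n (n - 1)).baseChange B)).restrictScalars A) fun x => ?_) ⟨?_, ?_⟩)
    · show (Dbar P n (n - 1)).lTensor B (TensorProduct.comm A (Q P n) B x.1) = 0
      rw [show (Dbar P n (n - 1)).lTensor B (TensorProduct.comm A (Q P n) B x.1) =
        TensorProduct.comm A (P.X (n - 1)) B ((Dbar P n (n - 1)).rTensor B x.1) from
          LinearMap.congr_fun (TensorProduct.map_comp_comm_eq _ _) x.1]
      rw [show (Dbar P n (n - 1)).rTensor B x.1 = 0 from x.2, map_zero]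
    · exact fun x y h => Subtype.ext ((TensorProduct.comm A (Q P n) B).injective (congrArg Subtype.val h))
    · rintro ⟨y, hy⟩
      refine ⟨⟨(TensorProduct.comm A (Q P n) B).symm y, ?_⟩,
        Subtype.ext ((TensorProduct.comm A (Q P n) B).apply_symm_apply y)⟩
      apply (TensorProduct.comm A (P.X (n - 1)) B).injective
      rw [map_zero, show TensorProduct.comm A (P.X (n - 1)) B ((Dbar P n (n - 1)).rTensor B
        ((TensorProduct.comm A (Q P n) B).symm y)) = (Dbar P n (n - 1)).lTensor B
          (TensorProduct.comm A (Q P n) B ((TensorProduct.comm A (Q P n) B).symm y)) from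
          (LinearMap.congr_fun (TensorProduct.map_comp_comm_eq _ _) _).symm,
        LinearEquiv.apply_symm_apply]
      exact hy
  have : Module.Finite B (LinearMap.ker ((Dbar P n (n - 1)).baseChange B)) :=
    Module.Finite.of_restrictScalars_finite A B _
  exact Module.Finite.equiv
    (homologyKerEquiv (BaseChange.bc P B) hpq ≪≫ₗ BaseChange.kerDbarEquiv P B n (n - 1)).symm

end

open CategoryTheory CategoryTheory.Limits in
/-- The case of the homological functor T_p(M) = H_p(P ⊗_A M) of a chain complex P of flat modules over
a commutative ring A. Let A be Noetherian and suppose P_i = 0 for i < i₀ and that every T_n(A) is a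
finitely generated A-module. Then for every integer N there is a dense open subset U of Spec A such
that, for every p ≤ N, the function x ↦ dim_{k(x)} H_p(P ⊗_A k(x)) is locally constant on U. (The
published statement says constant on U; over the product of two fields, with P the projective module
supported on one factor placed in degree 0, the only dense open set is the whole two-point spectrum
and the ranks there are 1 and 0, so locally constant on U is what holds; the argument produces U as
a disjoint union of opens, one dense in each irreducible component, on each of which the functions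
are constant.) -/
theorem result {A : Type u} [CommRing A] [IsNoetherianRing A]
    (P : ChainComplex (ModuleCat.{u} A) ℤ) (hP : ∀ i, Module.Flat A (P.X i)) (i₀ : ℤ)
    (hb : ∀ i < i₀, IsZero (P.X i))
    (hfg : ∀ n : ℤ, Module.Finite A (CohIII.T P n (ModuleCat.of A A))) (N : ℤ) :
    ∃ U : Set (PrimeSpectrum A), IsOpen U ∧ Dense U ∧
      ∀ p ≤ N, IsLocallyConstant (fun x : U => CohIII.dRank P p x) := by
  open Groth.Agent.Lib.FlatCx in
  have := hP
  let B := A ⧸ nilradical A
  have hred : IsReduced B := (Ideal.isRadical_iff_quotient_reduced _).1 (Ideal.radical_isRadical _)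
  obtain ⟨U, hU, hd, hc⟩ := Generic.exists_dense_open_red (BaseChange.bc P B) (i₀ := i₀)
    (fun i hi => Fkr.isZero_bc_X P hb B i hi) (finite_bc_homology P hb hfg B) N
  let φ : PrimeSpectrum B → PrimeSpectrum A := PrimeSpectrum.comap (algebraMap A B)
  have hemb : Topology.IsClosedEmbedding φ :=
    PrimeSpectrum.isClosedEmbedding_comap_of_surjective B (algebraMap A B) Ideal.Quotient.mk_surjective
  have hsurj : Function.Surjective φ := fun x => by
    have hx : x ∈ Set.range φ := by
      rw [range_comap_of_surjective B (algebraMap A B) Ideal.Quotient.mk_surjective]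
      intro a ha
      exact nilradical_le_prime x.asIdeal (Ideal.Quotient.eq_zero_iff_mem.1 ha)
    exact hx
  let e : PrimeSpectrum B ≃ₜ PrimeSpectrum A :=
    (Equiv.ofBijective φ ⟨hemb.injective, hsurj⟩).toHomeomorphOfIsInducing hemb.toIsInducing
  refine ⟨e.symm ⁻¹' U, hU.preimage e.symm.continuous, hd.preimage e.symm.isOpenMap, fun p hp => ?_⟩
  let r : (e.symm ⁻¹' U) → U := fun x => ⟨e.symm x.1, x.2⟩
  rw [show (fun x : (e.symm ⁻¹' U) => CohIII.dRank P p x) =
      (fun y : U => CohIII.dRank (BaseChange.bc P B) p y) ∘ r from funext fun x =>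
    ((Fkr.dRank_baseChange P B p (e.symm x.1)).trans
      (congrArg (CohIII.dRank P p) (e.apply_symm_apply x.1))).symm]
  exact (hc p hp).comp_continuous (by fun_prop)

end Groth.Agent.S4487
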