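import Groth.Statements.S4492
import Groth.Agent.Lib.FlatCx.HalfExact

set_option autoImplicit false
universe u
open FlatCx

namespace Groth.Agent.S4492

open CategoryTheory CategoryTheory.Limits in
/-- (The published statement is for arbitrary abelian categories; this row is for functors between
module categories.) Let F be an additive functor from A-modules to B-modules which is half exact
(every short exact sequence 0 → E' → E → E'' → 0 goes to a sequence F(E') → F(E) → F(E'') exact at
the middle) and such that F(S) has finite length for every simple A-module S. Then F(E) has finite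
length for every A-module E of finite length; and for every short exact sequence 0 → E' → E → E'' →
0 of A-modules with E of finite length one has length F(E) ≤ length F(E') + length F(E''), with
equality if and only if 0 → F(E') → F(E) → F(E'') → 0 is (short) exact. Lengths are Mathlib's,
valued in ℕ∞. -/
theorem result {A B : Type u} [Ring A] [Ring B]
    (F : ModuleCat.{u} A ⥤ ModuleCat.{u} B) [F.Additive]
    (hF : ∀ S : ShortComplex (ModuleCat.{u} A), S.ShortExact → (S.map F).Exact)
    (hS : ∀ M : ModuleCat.{u} A, IsSimpleModule A M → Module.length B (F.obj M) ≠ ⊤) :
    (∀ E : ModuleCat.{u} A, Module.length A E ≠ ⊤ → Module.length B (F.obj E) ≠ ⊤) ∧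
      ∀ S : ShortComplex (ModuleCat.{u} A), S.ShortExact → Module.length A S.X₂ ≠ ⊤ →
        Module.length B (F.obj S.X₂) ≤ Module.length B (F.obj S.X₁) + Module.length B (F.obj S.X₃) ∧
          (Module.length B (F.obj S.X₂) = Module.length B (F.obj S.X₁) + Module.length B (F.obj S.X₃) ↔
            (S.map F).ShortExact) := by
  open Groth.Agent.Lib.FlatCx.HalfExact in
  refine ⟨fun E hE => length_map_ne_top F hF hS (Module.length_ne_top_iff.1 hE), fun S hse hE =>
    ⟨length_map_le F hF S hse, length_map_eq_iff F hF S hse ?_ ?_⟩⟩
  · exact length_map_ne_top F hF hS (Module.length_ne_top_iff.1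
      (ne_top_of_le_ne_top hE (Module.length_le_of_injective S.f.hom hse.moduleCat_injective_f)))
  · exact length_map_ne_top F hF hS (Module.length_ne_top_iff.1
      (ne_top_of_le_ne_top hE (Module.length_le_of_surjective S.g.hom hse.moduleCat_surjective_g)))

end Groth.Agent.S4492
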