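import Groth.Statements.S4493
import Groth.Agent.Lib.FlatCxW.LocColim
import Mathlib.RingTheory.LocalProperties.Exactness
import Mathlib.Algebra.Category.ModuleCat.ChangeOfRings
import Mathlib.Algebra.Module.LocalizedModule.Exact
import Mathlib.Algebra.Homology.ShortComplex.ExactFunctor
import Mathlib.Algebra.Homology.ShortComplex.ModuleCat

set_option autoImplicit false
universe u
open FlatCx

namespace Groth.Agent.S4493

section
open CategoryTheory CategoryTheory.Limits
open Groth.Agent.Lib.FlatCxW.LocColim

variable {A : Type u} [CommRing A] (T : ModuleCat.{u} A ⥤ ModuleCat.{u} A) [T.Additive] [T.Linear A]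
  (hT : ∀ (J : Type u) [SmallCategory J] [IsFiltered J], PreservesColimitsOfShape J T)
  (m : Ideal A) [m.IsMaximal]

/-- `T` precomposed with restriction of scalars. -/
noncomputable abbrev Tm : ModuleCat.{u} (Localization.AtPrime m) ⥤ ModuleCat.{u} A :=
  ModuleCat.restrictScalars (algebraMap A (Localization.AtPrime m)) ⋙ T

/-- The localized modules. -/
noncomputable abbrev Lm (M : ModuleCat.{u} A) : ModuleCat.{u} (Localization.AtPrime m) :=
  ModuleCat.of (Localization.AtPrime m) (LocalizedModule m.primeCompl M)

/-- Forgetting the localized structure. -/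
noncomputable def reIso (M : ModuleCat.{u} A) :
    (ModuleCat.restrictScalars (algebraMap A (Localization.AtPrime m))).obj (Lm m M) ≅
      ModuleCat.of A (LocalizedModule m.primeCompl M) :=
  LinearEquiv.toModuleIso
    (show (ModuleCat.restrictScalars (algebraMap A (Localization.AtPrime m))).obj (Lm m M) ≃ₗ[A]
        LocalizedModule m.primeCompl M from
      { toFun := fun x => x
        invFun := fun x => x
        left_inv := fun _ => rfl
        right_inv := fun _ => rfl
        map_add' := fun _ _ => rfl
        map_smul' := fun a x => algebraMap_smul (Localization.AtPrime m) a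
          (show LocalizedModule m.primeCompl M from x) })

/-- The localized map. -/
noncomputable abbrev lmap {M N : ModuleCat.{u} A} (f : M ⟶ N) : Lm m M ⟶ Lm m N :=
  ModuleCat.ofHom (LocalizedModule.map m.primeCompl f.hom)

/-- The localisation map. -/
noncomputable abbrev lmk (M : ModuleCat.{u} A) :
    M ⟶ (ModuleCat.restrictScalars (algebraMap A (Localization.AtPrime m))).obj (Lm m M) :=
  ModuleCat.ofHom (LocalizedModule.mkLinearMap m.primeCompl M) ≫ (reIso m M).inv

include hT in
theorem isLoc (M : ModuleCat.{u} A) : IsLocalizedModule m.primeCompl (T.map (lmk m M)).hom := by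
  have := hT (Idx m.primeCompl)
  have := isLocalizedModule m.primeCompl M T
  rw [T.map_comp]
  exact IsLocalizedModule.of_linearEquiv m.primeCompl _ (T.mapIso (reIso m M).symm).toLinearEquiv

include hT in
theorem map_eq {M N : ModuleCat.{u} A} (f : M ⟶ N) :
    (have := isLoc T hT m M
     have := isLoc T hT m N
     IsLocalizedModule.map m.primeCompl (T.map (lmk m M)).hom (T.map (lmk m N)).hom (T.map f).hom) =
      ((Tm T m).map (lmap m f)).hom := by
  have := isLoc T hT m M
  have := isLoc T hT m N
  refine IsLocalizedModule.ext m.primeCompl (T.map (lmk m M)).hom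
    (IsLocalizedModule.map_units (T.map (lmk m N)).hom) ?_
  rw [IsLocalizedModule.map_comp]
  show (T.map f ≫ T.map (lmk m N)).hom = (T.map (lmk m M) ≫ T.map _).hom
  rw [← T.map_comp, ← T.map_comp]
  congr 2
  ext x
  show LocalizedModule.mk (f.hom x) 1 =
    LocalizedModule.map m.primeCompl f.hom (LocalizedModule.mk x 1)
  rw [LocalizedModule.map_mk]

theorem shortExact_loc {S : ShortComplex (ModuleCat.{u} A)} (hS : S.ShortExact) :
    (ShortComplex.mk (lmap m S.f) (lmap m S.g) (ModuleCat.hom_ext (LinearMap.ext fun x =>
      (LocalizedModule.map_exact m.primeCompl _ _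
        ((ShortComplex.ShortExact.moduleCat_exact_iff_function_exact S).1 hS.exact) _).2
          ⟨x, rfl⟩))).ShortExact where
  exact := (ShortComplex.ShortExact.moduleCat_exact_iff_function_exact _).2
    (LocalizedModule.map_exact m.primeCompl _ _
        ((ShortComplex.ShortExact.moduleCat_exact_iff_function_exact S).1 hS.exact))
  mono_f := (ModuleCat.mono_iff_injective _).2
    (LocalizedModule.map_injective m.primeCompl _ ((ModuleCat.mono_iff_injective _).1 hS.mono_f))
  epi_g := (ModuleCat.epi_iff_surjective _).2
    (LocalizedModule.map_surjective m.primeCompl _ ((ModuleCat.epi_iff_surjective _).1 hS.epi_g))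

end

open CategoryTheory CategoryTheory.Limits in
/-- Let A be a commutative ring and T an additive A-linear endofunctor of the category of A-modules
which preserves filtered colimits. For a maximal ideal m write T_m for T precomposed with
restriction of scalars along A → A_m (a functor from A_m-modules to A-modules). If T_m is left exact
for every maximal ideal m then T is left exact, and if T_m is right exact for every maximal ideal m
then T is right exact (exactness meaning preservation of finite limits, resp. finite colimits). -/
theorem result {A : Type u} [CommRing A]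
    (T : ModuleCat.{u} A ⥤ ModuleCat.{u} A) [T.Additive] [T.Linear A]
    (hT : ∀ (J : Type u) [SmallCategory J] [IsFiltered J], PreservesColimitsOfShape J T) :
    ((∀ (m : Ideal A) [m.IsMaximal],
        PreservesFiniteLimits (ModuleCat.restrictScalars (algebraMap A (Localization.AtPrime m)) ⋙ T)) →
      PreservesFiniteLimits T) ∧
    ((∀ (m : Ideal A) [m.IsMaximal],
        PreservesFiniteColimits (ModuleCat.restrictScalars (algebraMap A (Localization.AtPrime m)) ⋙ T)) →
      PreservesFiniteColimits T) := by
  refine ⟨fun h => ?_, fun h => ?_⟩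
  · have hfin : (∀ (S : ShortComplex (ModuleCat.{u} A)), S.ShortExact → (S.map T).Exact ∧ Mono (T.map S.f)) →
        PreservesFiniteLimits T :=
      (Functor.preservesFiniteLimits_iff_forall_exact_map_and_mono T).2
    refine hfin fun S hS => ?_
    have key : ∀ (m : Ideal A) [m.IsMaximal], _ := fun m _ =>
      (Functor.preservesFiniteLimits_iff_forall_exact_map_and_mono (Tm T m)).1 (h m) _
        (shortExact_loc m hS)
    refine ⟨(ShortComplex.ShortExact.moduleCat_exact_iff_function_exact _).2 ?_,
      (ModuleCat.mono_iff_injective _).2 ?_⟩
    · have := fun m hm => @isLoc A _ T _ _ hT m hm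
      refine exact_of_isLocalized_maximal _ (fun m _ => (T.map (lmk m S.X₁)).hom) _
        (fun m _ => (T.map (lmk m S.X₂)).hom) _ (fun m _ => (T.map (lmk m S.X₃)).hom) _ _ fun m _ => ?_
      show Function.Exact (IsLocalizedModule.map m.primeCompl _ _ (T.map S.f).hom)
        (IsLocalizedModule.map m.primeCompl _ _ (T.map S.g).hom)
      rw [map_eq T hT m S.f, map_eq T hT m S.g]
      exact (ShortComplex.ShortExact.moduleCat_exact_iff_function_exact _).1 (key m).1
    · have := fun m hm => @isLoc A _ T _ _ hT m hm
      refine injective_of_isLocalized_maximal _ (fun m _ => (T.map (lmk m S.X₁)).hom) _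
        (fun m _ => (T.map (lmk m S.X₂)).hom) _ fun m _ => ?_
      show Function.Injective (IsLocalizedModule.map m.primeCompl _ _ (T.map S.f).hom)
      rw [map_eq T hT m S.f]
      exact (ModuleCat.mono_iff_injective _).1 (key m).2
  · have hfin : (∀ (S : ShortComplex (ModuleCat.{u} A)), S.ShortExact → (S.map T).Exact ∧ Epi (T.map S.g)) →
        PreservesFiniteColimits T :=
      ((Functor.preservesFiniteColimits_tfae T).out 0 3).1
    refine hfin fun S hS => ?_
    have key : ∀ (m : Ideal A) [m.IsMaximal], _ := fun m _ =>
      (Functor.preservesFiniteColimits_iff_forall_exact_map_and_epi (Tm T m)).1 (h m) _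
        (shortExact_loc m hS)
    refine ⟨(ShortComplex.ShortExact.moduleCat_exact_iff_function_exact _).2 ?_,
      (ModuleCat.epi_iff_surjective _).2 ?_⟩
    · have := fun m hm => @isLoc A _ T _ _ hT m hm
      refine exact_of_isLocalized_maximal _ (fun m _ => (T.map (lmk m S.X₁)).hom) _
        (fun m _ => (T.map (lmk m S.X₂)).hom) _ (fun m _ => (T.map (lmk m S.X₃)).hom) _ _ fun m _ => ?_
      show Function.Exact (IsLocalizedModule.map m.primeCompl _ _ (T.map S.f).hom)
        (IsLocalizedModule.map m.primeCompl _ _ (T.map S.g).hom)
      rw [map_eq T hT m S.f, map_eq T hT m S.g]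
      exact (ShortComplex.ShortExact.moduleCat_exact_iff_function_exact _).1 (key m).1
    · have := fun m hm => @isLoc A _ T _ _ hT m hm
      refine surjective_of_isLocalized_maximal _ (fun m _ => (T.map (lmk m S.X₂)).hom) _
        (fun m _ => (T.map (lmk m S.X₃)).hom) _ fun m _ => ?_
      show Function.Surjective (IsLocalizedModule.map m.primeCompl _ _ (T.map S.g).hom)
      rw [map_eq T hT m S.g]
      exact (ModuleCat.epi_iff_surjective _).1 (key m).2

end Groth.Agent.S4493
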