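import Groth.Statements.S4498
import Groth.Agent.Lib.Exchange.GlobalSections

set_option autoImplicit false
universe u
attribute [local instance] HasDerivedCategory.standard
open Coherent

namespace Groth.Agent.S4498

open AlgebraicGeometry CategoryTheory Opposite in
/-- The global form over an affine base. Let A be a Noetherian ring, X a proper A-scheme with structure
morphism f, and F, F' coherent O_X-modules flat over Spec A. Let η be a natural transformation from
the functor M ↦ Γ(X, f^*(M~) ⊗ F) to the functor M ↦ Γ(X, f^*(M~) ⊗ F') of the A-module M (the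
published statement takes η induced by a homomorphism F → F'; this row allows any natural
transformation, which is all the argument uses). Then the kernel functor M ↦ Ker(η_M) is
corepresentable by a finitely generated A-module R: there are such an R and a natural transformation
ι : Hom_A(R, −) → Γ(X, f^*(−~) ⊗ F) with injective components whose image at every M is exactly the
kernel of η_M. (R is then unique up to unique isomorphism.) -/
theorem result (A : Type u) [CommRing A]
    [IsNoetherianRing A] (X : Scheme.{u}) [X.Over (Spec (CommRingCat.of A))]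
    [IsProper (X ↘ Spec (CommRingCat.of A))] (F F' : X.Modules) (hF : Coh.IsCoh F) (hF' : Coh.IsCoh F')
    (hfl : FlatMod.IsFlatOver (X ↘ Spec (CommRingCat.of A)) F)
    (hfl' : FlatMod.IsFlatOver (X ↘ Spec (CommRingCat.of A)) F')
    (η : CohIII.tensorAFunctor A F ⋙ CohIII.globalSectionsA A ⟶ CohIII.tensorAFunctor A F' ⋙ CohIII.globalSectionsA A) :
    ∃ (R : ModuleCat.{u} A) (ι : (linearCoyoneda A (ModuleCat.{u} A)).obj (op R) ⟶
        CohIII.tensorAFunctor A F ⋙ CohIII.globalSectionsA A),
      Module.Finite A R ∧ (∀ M : ModuleCat.{u} A, Function.Injective (ι.app M).hom) ∧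
        ∀ (M : ModuleCat.{u} A) (x : (CohIII.tensorAFunctor A F ⋙ CohIII.globalSectionsA A).obj M),
          (η.app M).hom x = 0 ↔ ∃ y, (ι.app M).hom y = x := by
  obtain ⟨Q, hQ, ⟨θ⟩⟩ := ZarCoh.Exchange.GlobalSections.exists_corep A F hF hfl
  obtain ⟨Q', hQ', ⟨θ'⟩⟩ := ZarCoh.Exchange.GlobalSections.exists_corep A F' hF' hfl'
  haveI := hQ
  let nt := θ.inv ≫ η ≫ θ'.hom
  let v : Q' ⟶ Q := (nt.app Q).hom (𝟙 Q)
  have hv : ∀ (M : ModuleCat.{u} A) (ψ : Q ⟶ M), (nt.app M).hom ψ = v ≫ ψ := fun M ψ => by
    have := ConcreteCategory.congr_hom (nt.naturality ψ) (𝟙 Q)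
    have h2 : (nt.app M).hom (𝟙 Q ≫ ψ) = v ≫ ψ := this
    rwa [Category.id_comp] at h2
  let π : Q ⟶ ModuleCat.of A (Q ⧸ LinearMap.range v.hom) := ModuleCat.ofHom (LinearMap.range v.hom).mkQ
  haveI : Epi π := (ModuleCat.epi_iff_surjective _).2 (Submodule.mkQ_surjective _)
  refine ⟨ModuleCat.of A (Q ⧸ LinearMap.range v.hom),
    (linearCoyoneda A (ModuleCat.{u} A)).map π.op ≫ θ.inv, (inferInstance : Module.Finite A (Q ⧸ _)),
    fun M y y' h => ?_, fun M x => ?_⟩
  · have h' : π ≫ (show ModuleCat.of A (Q ⧸ LinearMap.range v.hom) ⟶ M from y) =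
        π ≫ (show ModuleCat.of A (Q ⧸ LinearMap.range v.hom) ⟶ M from y') :=
      ((θ.app M).toLinearEquiv.symm.injective h)
    exact (cancel_epi π).1 h'
  · let ψ : Q ⟶ M := (θ.app M).toLinearEquiv x
    have hx : (θ.inv.app M).hom ψ = x := (θ.app M).toLinearEquiv.symm_apply_apply x
    have hη : (η.app M).hom x = 0 ↔ v ≫ ψ = 0 := by
      rw [← hv M ψ]
      show (η.app M).hom x = 0 ↔ (θ'.hom.app M).hom ((η.app M).hom ((θ.inv.app M).hom ψ)) = 0
      rw [hx]
      exact ⟨fun h => by rw [h]; exact map_zero _,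
        fun h => (θ'.app M).toLinearEquiv.injective (h.trans (map_zero _).symm)⟩
    rw [hη]
    constructor
    · intro h
      let y : ModuleCat.of A (Q ⧸ LinearMap.range v.hom) ⟶ M :=
        ModuleCat.ofHom ((LinearMap.range v.hom).liftQ ψ.hom (by
          rintro _ ⟨z, rfl⟩
          exact ConcreteCategory.congr_hom h z))
      refine ⟨y, ?_⟩
      show (θ.inv.app M).hom (π ≫ y) = x
      rw [show π ≫ y = ψ from ModuleCat.hom_ext (Submodule.liftQ_mkQ _ _ _), hx]
    · rintro ⟨y, hy⟩
      have hψ : ψ = π ≫ (show ModuleCat.of A (Q ⧸ LinearMap.range v.hom) ⟶ M from y) := by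
        apply (θ.app M).toLinearEquiv.symm.injective
        exact ((θ.app M).toLinearEquiv.symm_apply_apply x).trans hy.symm
      rw [hψ, ← Category.assoc, show v ≫ π = 0 from ModuleCat.hom_ext (LinearMap.range_mkQ_comp _),
        Limits.zero_comp]

end Groth.Agent.S4498
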