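import Groth.Statements.S4500
import Groth.Agent.Lib.Amp36.HomTensor
-- import your own Groth.Agent.* helpers here

set_option autoImplicit false
universe u
attribute [local instance] HasDerivedCategory.standard
open Coherent

namespace Groth.Agent.S4500

open AlgebraicGeometry CategoryTheory CategoryTheory.Limits Opposite in
/-- The global form over an affine base. Let A be a Noetherian ring, X a proper A-scheme with structure
morphism f, F a coherent O_X-module flat over Spec A, and G an O_X-module admitting a presentation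
E₁ → E₀ → G → 0 with E₀, E₁ finite locally free O_X-modules. Then there are a finitely generated
A-module N and an isomorphism of functors of the A-module M between Hom_{O_X}(G, f^*(M~) ⊗ F) and
Hom_A(N, M) (as abelian-group-valued functors). (N is then unique up to unique isomorphism.) -/
theorem result (A : Type u) [CommRing A] [IsNoetherianRing A]
    (X : Scheme.{u}) [X.Over (Spec (CommRingCat.of A))] [IsProper (X ↘ Spec (CommRingCat.of A))]
    (F : X.Modules) (hF : Coh.IsCoh F) (hfl : FlatMod.IsFlatOver (X ↘ Spec (CommRingCat.of A)) F)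
    (G E₀ E₁ : X.Modules) (h₀ : FlatMod.IsFinLocFree E₀) (h₁ : FlatMod.IsFinLocFree E₁)
    (v : E₁ ⟶ E₀) (π : E₀ ⟶ G) [Epi π] (w : v ≫ π = 0) (hex : (ShortComplex.mk v π w).Exact) :
    ∃ N : ModuleCat.{u} A, Module.Finite A N ∧
      Nonempty (CohIII.tensorAFunctor A F ⋙ preadditiveCoyoneda.obj (op G) ≅
        (linearCoyoneda A (ModuleCat.{u} A)).obj (op N) ⋙ forget₂ (ModuleCat.{u} A) AddCommGrpCat.{u}) := by
  obtain ⟨Q₀, hQ₀, ⟨a⟩⟩ := Groth.Agent.Lib.Amp36.HomTensor.exists_corep_hom A E₀ F h₀ hF hfl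
  obtain ⟨Q₁, hQ₁, ⟨b⟩⟩ := Groth.Agent.Lib.Amp36.HomTensor.exists_corep_hom A E₁ F h₁ hF hfl
  haveI := hQ₀
  let nt := a.inv ≫ Functor.whiskerLeft (CohIII.tensorAFunctor A F) (preadditiveCoyoneda.map v.op) ≫ b.hom
  let w' : Q₁ ⟶ Q₀ := (nt.app Q₀).hom (𝟙 Q₀)
  have hv : ∀ (M : ModuleCat.{u} A) (ψ : Q₀ ⟶ M), (nt.app M).hom ψ = w' ≫ ψ := fun M ψ => by
    have := ConcreteCategory.congr_hom (nt.naturality ψ) (𝟙 Q₀)
    have h2 : (nt.app M).hom (𝟙 Q₀ ≫ ψ) = w' ≫ ψ := this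
    rwa [Category.id_comp] at h2
  let ρ : Q₀ ⟶ ModuleCat.of A (Q₀ ⧸ LinearMap.range w'.hom) :=
    ModuleCat.ofHom (LinearMap.range w'.hom).mkQ
  haveI : Epi ρ := (ModuleCat.epi_iff_surjective _).2 (Submodule.mkQ_surjective _)
  have hρ : w' ≫ ρ = 0 := ModuleCat.hom_ext (LinearMap.range_mkQ_comp _)
  have hai : ∀ M (x : E₀ ⟶ (CohIII.tensorAFunctor A F).obj M),
      (a.inv.app M).hom ((a.hom.app M).hom x) = x :=
    fun M x => (a.app M).addCommGroupIsoToAddEquiv.symm_apply_apply x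
  have hia : ∀ M (y : Q₀ ⟶ M), (a.hom.app M).hom ((a.inv.app M).hom y) = y :=
    fun M y => (a.app M).addCommGroupIsoToAddEquiv.apply_symm_apply y
  have hbi : ∀ M (x : E₁ ⟶ (CohIII.tensorAFunctor A F).obj M),
      (b.inv.app M).hom ((b.hom.app M).hom x) = x :=
    fun M x => (b.app M).addCommGroupIsoToAddEquiv.symm_apply_apply x
  -- `χ ↦ a (π ≫ χ)` identifies `Hom(G, T M)` with the maps `Q₀ ⟶ M` killing `Q₁`
  let fwd : ∀ M : ModuleCat.{u} A, (G ⟶ (CohIII.tensorAFunctor A F).obj M) → (Q₀ ⟶ M) :=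
    fun M χ => (a.hom.app M).hom (π ≫ χ)
  have hfwd : ∀ M χ, w' ≫ fwd M χ = 0 := fun M χ => by
    rw [← hv]
    show (b.hom.app M).hom (v ≫ (a.inv.app M).hom ((a.hom.app M).hom (π ≫ χ))) = 0
    rw [hai, ← Category.assoc, w, Limits.zero_comp]
    exact map_zero _
  let Φ : ∀ M : ModuleCat.{u} A, (G ⟶ (CohIII.tensorAFunctor A F).obj M) →+
      (ModuleCat.of A (Q₀ ⧸ LinearMap.range w'.hom) ⟶ M) := fun M =>
    AddMonoidHom.mk' (fun χ => ModuleCat.ofHom ((LinearMap.range w'.hom).liftQ (fwd M χ).hom (by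
      rintro _ ⟨z, rfl⟩
      exact ConcreteCategory.congr_hom (hfwd M χ) z)))
      fun χ χ' => by
        refine (cancel_epi ρ).1 ?_
        refine ModuleCat.hom_ext (LinearMap.ext fun z => ?_)
        show (fwd M (χ + χ')).hom z = (fwd M χ).hom z + (fwd M χ').hom z
        simp only [fwd, Preadditive.comp_add]
        exact congrArg (fun t : Q₀ ⟶ M => t.hom z) (map_add (a.hom.app M).hom (π ≫ χ) (π ≫ χ'))
  have hΦ : ∀ M χ, ρ ≫ Φ M χ = fwd M χ := fun M χ => ModuleCat.hom_ext (Submodule.liftQ_mkQ _ _ _)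
  have hinj : ∀ M, Function.Injective (Φ M) := fun M χ χ' h => by
    have h' := (hΦ M χ).symm.trans ((congrArg (ρ ≫ ·) h).trans (hΦ M χ'))
    refine (cancel_epi π).1 ?_
    have h2 := congrArg (a.inv.app M).hom h'
    rwa [hai, hai] at h2
  have hsurj : ∀ M, Function.Surjective (Φ M) := fun M ψ => by
    let φ : E₀ ⟶ (CohIII.tensorAFunctor A F).obj M := (a.inv.app M).hom (ρ ≫ ψ)
    have hb : (b.hom.app M).hom (v ≫ φ) = 0 := by
      rw [show (b.hom.app M).hom (v ≫ φ) = (nt.app M).hom (ρ ≫ ψ) from rfl, hv, ← Category.assoc, hρ,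
        Limits.zero_comp]
      rfl
    have hφ : v ≫ φ = 0 := by
      have h2 := congrArg (b.inv.app M).hom hb
      rw [hbi] at h2
      exact h2.trans (map_zero _)
    refine ⟨hex.desc φ hφ, (cancel_epi ρ).1 ?_⟩
    rw [hΦ]
    show (a.hom.app M).hom (π ≫ hex.desc φ hφ) = _
    rw [show π ≫ hex.desc φ hφ = φ from hex.g_desc φ hφ]
    exact hia M (ρ ≫ ψ)
  refine ⟨ModuleCat.of A (Q₀ ⧸ LinearMap.range w'.hom), (inferInstance : Module.Finite A (Q₀ ⧸ _)),
    ⟨NatIso.ofComponents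
      (fun M => AddEquiv.toAddCommGrpIso (AddEquiv.ofBijective (Φ M) ⟨hinj M, hsurj M⟩)) fun {M M'} g => ?_⟩⟩
  ext χ0
  obtain ⟨χ, rfl⟩ : ∃ χ : G ⟶ (CohIII.tensorAFunctor A F).obj M, χ = χ0 := ⟨χ0, rfl⟩
  show Φ M' (χ ≫ (CohIII.tensorAFunctor A F).map g) = Φ M χ ≫ g
  refine (cancel_epi ρ).1 ?_
  refine (hΦ M' _).trans (Eq.trans ?_ (((congrArg (· ≫ g) (hΦ M χ)).symm.trans (Category.assoc _ _ _))))
  show (a.hom.app M').hom (π ≫ χ ≫ (CohIII.tensorAFunctor A F).map g) = _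
  refine (congrArg (a.hom.app M').hom (Category.assoc π χ _).symm).trans ?_
  exact congrArg (fun φ => φ.hom (show E₀ ⟶ (CohIII.tensorAFunctor A F).obj M from π ≫ χ)) (a.hom.naturality g)

end Groth.Agent.S4500
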