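import Groth.Statements.S4505
import Groth.Agent.Lib.Exchange.Proper
import Groth.Agent.Lib.FlatCx.Local
import Groth.Agent.Lib.FlatCx.Generic
import Groth.Agent.Lib.InjHull.Complete
-- import your own Groth.Agent.* helpers here

set_option autoImplicit false
universe u
attribute [local instance] HasDerivedCategory.standard
open Coherent

namespace Groth.Agent.S4505

open CategoryTheory Groth.Agent.Lib.FlatCx in
theorem length_quot_pow_ne_top (A : Type u) [CommRing A] [IsNoetherianRing A] [IsLocalRing A] (n : ℕ) :
    Module.length A (A ⧸ IsLocalRing.maximalIdeal A ^ (n + 1)) ≠ ⊤ :=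
  Module.length_ne_top_iff.2
    (Groth.Agent.Lib.InjHull.Complete.isFiniteLength_quotient_pow (R := A) (IsLocalRing.maximalIdeal A) (n + 1))

open CategoryTheory Groth.Agent.Lib.FlatCx in
theorem length_T_residue_ne_top {A : Type u} [CommRing A] [IsNoetherianRing A] [IsLocalRing A]
    (P : ChainComplex (ModuleCat.{u} A) ℤ) (hP : ∀ i, Module.Finite A (P.X i)) (p : ℤ) :
    Module.length A (CohIII.T P p (ModuleCat.of A (IsLocalRing.ResidueField A))) ≠ ⊤ := by
  have := hP p
  let k := IsLocalRing.ResidueField A
  obtain ⟨n, g, hg⟩ := Module.Finite.exists_fin' A (Basic.Q P p)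
  haveI : IsSimpleModule A k := isSimpleModule_iff_quot_maximal.2
    ⟨_, IsLocalRing.maximalIdeal.isMaximal A, ⟨LinearEquiv.refl A _⟩⟩
  have h1 : Function.Surjective (g.rTensor k) := LinearMap.rTensor_surjective _ hg
  have h2 : Module.length A (TensorProduct A (Fin n → A) k) ≠ ⊤ := by
    rw [((TensorProduct.comm A _ _).trans (TensorProduct.piScalarRight A A k (Fin n))).length_eq]
    exact Module.length_ne_top
  exact ne_top_of_le_ne_top h2
    ((Module.length_le_of_injective _ (HKer.TKerEquiv P (ModuleCat.of A k) (by omega : (p - 1) + 1 = p)).injective).trans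
      ((Module.length_le_of_injective _ (Submodule.subtype_injective _)).trans
        (Module.length_le_of_surjective _ h1)))

open CategoryTheory Groth.Agent.Lib.FlatCx in
/-- The length criterion for the functor of a complex of finite free modules. -/
theorem exact_iff_length {A : Type u} [CommRing A] [IsNoetherianRing A] [IsLocalRing A]
    (P : ChainComplex (ModuleCat.{u} A) ℤ) (hP : ∀ i, Module.Finite A (P.X i))
    [∀ i, Module.Flat A (P.X i)] (p : ℤ) :
    ((CohIII.TFun P p).PreservesMonomorphisms ∧ (CohIII.TFun P p).PreservesEpimorphisms) ↔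
      ∃ n₀ : ℕ, ∀ n : ℕ, n₀ ≤ n →
        Module.length A (CohIII.T P p (ModuleCat.of A (A ⧸ IsLocalRing.maximalIdeal A ^ (n + 1)))) =
          Module.length A (CohIII.T P p (ModuleCat.of A (IsLocalRing.ResidueField A))) *
            Module.length A (A ⧸ IsLocalRing.maximalIdeal A ^ (n + 1)) := by
  let m := IsLocalRing.maximalIdeal A
  refine ⟨fun h => ⟨0, fun n _ => Local.length_T_eq_of_exact P p h _ (length_quot_pow_ne_top A n)⟩,
    fun ⟨n₀, h⟩ => ?_⟩
  have hk := length_T_residue_ne_top P hP p
  obtain ⟨d, hd⟩ := ENat.ne_top_iff_exists.1 hk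
  have key : ∀ n, n₀ ≤ n →
      Function.Injective ((CohIII.TFun P p).map (ModuleCat.ofHom (LinearMap.ker
        (Ideal.Quotient.factorₐ A (Ideal.pow_le_self (I := m) (Nat.succ_ne_zero n))).toLinearMap).subtype)).hom ∧
      Function.Surjective ((CohIII.TFun P p).map (ModuleCat.ofHom
        (Ideal.Quotient.factorₐ A (Ideal.pow_le_self (I := m) (Nat.succ_ne_zero n))).toLinearMap :
          ModuleCat.of A (A ⧸ m ^ (n + 1)) ⟶ ModuleCat.of A (A ⧸ m))).hom := by
    intro n hn
    let g : (A ⧸ m ^ (n + 1)) →ₗ[A] (A ⧸ m) :=
      (Ideal.Quotient.factorₐ A (Ideal.pow_le_self (I := m) (Nat.succ_ne_zero n))).toLinearMap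
    have hg : Function.Surjective g :=
      Ideal.Quotient.factor_surjective (Ideal.pow_le_self (I := m) (Nat.succ_ne_zero n))
    let S : ShortComplex (ModuleCat.{u} A) :=
      ShortComplex.mk (ModuleCat.ofHom (LinearMap.ker g).subtype) (ModuleCat.ofHom g)
        (ModuleCat.hom_ext (LinearMap.exact_subtype_ker_map g).linearMap_comp_eq_zero)
    have hS : S.ShortExact :=
      { exact := (ShortComplex.ShortExact.moduleCat_exact_iff_function_exact _).2 (LinearMap.exact_subtype_ker_map g)
        mono_f := (ModuleCat.mono_iff_injective _).2 (Submodule.subtype_injective _)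
        epi_g := (ModuleCat.epi_iff_surjective _).2 hg }
    have hB : Module.length A (A ⧸ m ^ (n + 1)) =
        Module.length A (LinearMap.ker g) + 1 := by
      rw [Module.length_eq_add_of_exact (LinearMap.ker g).subtype g (Submodule.subtype_injective _) hg
        (LinearMap.exact_subtype_ker_map g)]
      congr 1
      rw [Module.length_eq_one_iff]
      exact isSimpleModule_iff_quot_maximal.2
        ⟨_, IsLocalRing.maximalIdeal.isMaximal A, ⟨LinearEquiv.refl A _⟩⟩
    have hK : Module.length A (LinearMap.ker g) ≠ ⊤ :=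
      ne_top_of_le_ne_top (length_quot_pow_ne_top A n) (Module.length_le_of_injective _ (Submodule.subtype_injective _))
    have hKle : Module.length A (CohIII.T P p S.X₁) ≤ (d : ℕ∞) * Module.length A (LinearMap.ker g) :=
      HalfExact.length_le_mul (CohIII.TFun P p) (Local.isHalfExact_TFun P p) d
        (fun M hM => ((Local.length_T_simple P p M hM).trans hd.symm).le) (Module.length_ne_top_iff.1 hK)
    have h1 : Module.length A (CohIII.T P p S.X₁) ≠ ⊤ :=
      ne_top_of_le_ne_top (WithTop.mul_ne_top (ENat.coe_ne_top d) hK) hKle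
    have h3 : Module.length A (CohIII.T P p S.X₃) = (d : ℕ∞) := hd.symm
    have h2 : Module.length A (CohIII.T P p S.X₂) = (d : ℕ∞) * Module.length A (LinearMap.ker g) + d := by
      refine (h n hn).trans ?_
      rw [← hd, hB, mul_add, mul_one]
    have hle := HalfExact.length_map_le (CohIII.TFun P p) (Local.isHalfExact_TFun P p) S hS
    have hse := (HalfExact.length_map_eq_iff (CohIII.TFun P p) (Local.isHalfExact_TFun P p) S hS h1
      (by rw [show Module.length A ((CohIII.TFun P p).obj S.X₃) = (d : ℕ∞) from h3]; exact ENat.coe_ne_top d)).1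
      (le_antisymm hle (by
        show _ + Module.length A (CohIII.T P p S.X₃) ≤ Module.length A (CohIII.T P p S.X₂)
        rw [h3, h2]
        exact add_le_add hKle le_rfl))
    exact ⟨hse.moduleCat_injective_f, hse.moduleCat_surjective_g⟩
  refine ⟨?_, Generic.preservesEpi_of_adic P hP p (p - 1) (by omega) n₀ fun n hn => (key n hn).2⟩
  refine (Basic.preservesEpi_iff_preservesMono P (p + 1) p (by omega)).1
    (Generic.preservesEpi_of_adic P hP (p + 1) p (by omega) n₀ fun n hn => ?_)
  refine (Basic.surjective_iff P (p + 1) p (by omega) _ _ (Submodule.subtype_injective _)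
    (Ideal.Quotient.factor_surjective (Ideal.pow_le_self (I := m) (Nat.succ_ne_zero n)))
    (LinearMap.exact_subtype_ker_map _)).2 ?_
  exact (Basic.injective_iff P p (p - 1) (by omega) _ (Submodule.subtype_injective _)).1 (key n hn).1


open AlgebraicGeometry CategoryTheory in
/-- (b) ⇔ (c), for a complex reduced to one sheaf and a local base (so that the point y is the closed
point and O_y = A). Let A be a Noetherian local ring with maximal ideal m and residue field k, X a
proper A-scheme with structure morphism f, F a coherent O_X-module flat over Spec A, and write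
T^p(M) = H^p(X, f^*(M~) ⊗ F) for an A-module M. Then the functor T^p takes injections to injections
and surjections to surjections (F is cohomologically flat in degree p) if and only if there is n₀
such that for every n ≥ n₀ one has length_A T^p(A/m^(n+1)) = length_A T^p(k) · length_A (A/m^(n+1))
(lengths of A-modules, valued in ℕ∞; all are finite here). -/
theorem result (A : Type u) [CommRing A]
    [IsNoetherianRing A] [IsLocalRing A] (X : Scheme.{u}) [X.Over (Spec (CommRingCat.of A))]
    [IsProper (X ↘ Spec (CommRingCat.of A))] (F : X.Modules) (hF : Coh.IsCoh F)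
    (hfl : FlatMod.IsFlatOver (X ↘ Spec (CommRingCat.of A)) F) (p : ℕ) :
    ((CohIII.tensorAFunctor A F ⋙ CohIII.HAb X p).PreservesMonomorphisms ∧
        (CohIII.tensorAFunctor A F ⋙ CohIII.HAb X p).PreservesEpimorphisms) ↔
      ∃ n₀ : ℕ, ∀ n : ℕ, n₀ ≤ n →
        Module.length A (Coh.HH X ((CohIII.tensorAFunctor A F).obj
            (ModuleCat.of A (A ⧸ IsLocalRing.maximalIdeal A ^ (n + 1)))) p) =
          Module.length A (Coh.HH X ((CohIII.tensorAFunctor A F).obj
              (ModuleCat.of A (IsLocalRing.ResidueField A))) p) *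
            Module.length A (A ⧸ IsLocalRing.maximalIdeal A ^ (n + 1)) := by
  obtain ⟨b, P, -, hfin, hfree, -, hiso⟩ := ZarCoh.Exchange.Proper.exists_rep A F hF hfl
  haveI := hfree
  obtain ⟨e⟩ := hiso p
  have hl : ∀ M : ModuleCat.{u} A, Module.length A (Coh.HH X ((CohIII.tensorAFunctor A F).obj M) p) =
      Module.length A (CohIII.T P (-(p : ℤ)) M) := fun M =>
    ((ZarCoh.Exchange.Main.linearEquivApp A F e M).length_eq).symm
  rw [ZarCoh.Exchange.Proper.preservesEpi_iff e, ZarCoh.Exchange.Proper.preservesMono_iff e,
    exact_iff_length P hfin (-(p : ℤ))]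
  simp only [hl]

end Groth.Agent.S4505
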