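import Groth.Statements.S4508
import Groth.Agent.Lib.IntTheory.ChiConst
import Groth.Agent.Lib.Flat55.FlatOverAt

set_option autoImplicit false
universe u
open Coherent

namespace Groth.Agent.S4508

open AlgebraicGeometry CategoryTheory CategoryTheory.Limits in
/-- For a single sheaf placed in degree 0 (the published statement is for a finite complex of such
sheaves). Let Y and Y' be locally Noetherian schemes, f : X ⟶ Y proper, g : Y' ⟶ Y any morphism, F a
coherent O_X-module flat over Y; let X' = X ×_Y Y' with projections f' : X' ⟶ Y' and X' ⟶ X, and F'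
the pullback of F to X'. Then F' is flat over Y', and for every point y' of Y' the Euler–Poincaré
characteristic of the fibre, Σ_i (−1)^i dim_{k(y')} H^i(X'_{y'}, F'_{y'}), equals Σ_i (−1)^i
dim_{k(g(y'))} H^i(X_{g(y')}, F_{g(y')}). -/
theorem result {X Y Y' : Scheme.{u}} (f : X ⟶ Y) (g : Y' ⟶ Y) [IsProper f]
    [IsLocallyNoetherian Y] [IsLocallyNoetherian Y'] (F : X.Modules) (hF : Coh.IsCoh F)
    (hfl : FlatMod.IsFlatOver f F) :
    FlatMod.IsFlatOver (pullback.snd f g) ((Scheme.Modules.pullback (pullback.fst f g)).obj F) ∧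
      ∀ y' : Y', PerfAux.eulerChar (pullback.snd f g) ((Scheme.Modules.pullback (pullback.fst f g)).obj F) y' =
        PerfAux.eulerChar f F (g.base y') := by
  open Groth.Agent.Lib in
  have hflat : FlatMod.IsFlatOver (pullback.snd f g)
      ((Scheme.Modules.pullback (pullback.fst f g)).obj F) := fun x =>
    Flat55.FlatOverAt.isFlatOverAt_baseChange f (pullback.snd f g) (pullback.fst f g) g
      (IsPullback.of_hasPullback f g) F x (hfl _)
  refine ⟨hflat, fun y' => ?_⟩
  obtain ⟨e, -, he⟩ := Groth.Agent.Lib.IntTheory.ChiConst.exists_euler_scheme f F hF hfl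
  let q := (pullback.snd f g).fiberToSpecResidueField y'
  let σ := Y'.fromSpecResidueField y'
  let g'' := (pullback.snd f g).fiberι y' ≫ pullback.fst f g
  have hsq : IsPullback g'' q f (σ ≫ g) :=
    (IsPullback.of_hasPullback (pullback.snd f g) σ).paste_horiz (IsPullback.of_hasPullback f g)
  have h1 := he (Y'.residueField y') _ q (σ ≫ g) g'' hsq
  have h2 := he (Y.residueField (g.base y')) (f.fiber (g.base y'))
    (f.fiberToSpecResidueField (g.base y')) (Y.fromSpecResidueField (g.base y'))
    (f.fiberι (g.base y')) (IsPullback.of_hasPullback f _)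
  let : ((pullback.snd f g).fiber y').Over (Spec (CommRingCat.of (Y'.residueField y'))) := ⟨q⟩
  refine (Groth.Agent.Lib.Curves.Euler.euler_eq_of_iso (k := Y'.residueField y')
    ((Scheme.Modules.pullbackComp ((pullback.snd f g).fiberι y') (pullback.fst f g)).app F)).trans
    (h1.trans (Eq.trans ?_ h2.symm))
  exact congrArg e ((congrArg g (Scheme.fromSpecResidueField_apply _ _)).trans
    (Scheme.fromSpecResidueField_apply _ _).symm)

end Groth.Agent.S4508
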