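import Groth.Statements.S4510
import Groth.Agent.H34.CohFlat0.Local
-- import your own Groth.Agent.* helpers here

set_option autoImplicit false
universe u
attribute [local instance] HasDerivedCategory.standard
open Coherent

namespace Groth.Agent.S4510

open AlgebraicGeometry CategoryTheory CategoryTheory.Limits in
/-- Over a local base (so that the point y is the closed point and cohomological flatness at y is
exactness of T^A_0). Let A be a Noetherian local ring with maximal ideal m, X a proper and flat
A-scheme with structure morphism f, y the closed point of Spec A (the point whose prime ideal is m),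
and suppose that the ring of global functions Γ(X_y, O_{X_y}) of the closed fibre is an étale
k(y)-algebra (a finite product of finite separable extensions of k(y)). Then O_X is cohomologically
flat over Spec A in degree 0: the functor M ↦ H^0(X, f^*(M~) ⊗ O_X) of the A-module M takes
injections to injections and surjections to surjections. -/
theorem result (A : Type u) [CommRing A]
    [IsNoetherianRing A] [IsLocalRing A] (X : Scheme.{u}) [X.Over (Spec (CommRingCat.of A))]
    [IsProper (X ↘ Spec (CommRingCat.of A))] [Flat (X ↘ Spec (CommRingCat.of A))]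
    (y : ↥(Spec (CommRingCat.of A))) (hy : y.asIdeal = IsLocalRing.maximalIdeal A)
    (het : Algebra.Etale ((Spec (CommRingCat.of A)).residueField y)
      Γ((X ↘ Spec (CommRingCat.of A)).fiber y, ⊤)) :
    (CohIII.tensorAFunctor A (Coh.structureModule X) ⋙ CohIII.HAb X 0).PreservesMonomorphisms ∧
      (CohIII.tensorAFunctor A (Coh.structureModule X) ⋙ CohIII.HAb X 0).PreservesEpimorphisms := by
  obtain rfl : y = IsLocalRing.closedPoint A := PrimeSpectrum.ext hy
  let f := X ↘ Spec (CommRingCat.of A)
  let e : IsLocalRing.ResidueField A →+* (IsLocalRing.maximalIdeal A).ResidueField :=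
    algebraMap (A ⧸ IsLocalRing.maximalIdeal A) (IsLocalRing.maximalIdeal A).ResidueField
  haveI : IsIso (CommRingCat.ofHom e) :=
    (ConcreteCategory.isIso_iff_bijective _).mpr (Ideal.bijective_algebraMap_quotient_residueField _)
  have hi : IsIso (Spec.map (CommRingCat.ofHom e)) :=
    inferInstanceAs (IsIso (Scheme.Spec.map (CommRingCat.ofHom e).op))
  let ψ : CommRingCat.of (IsLocalRing.ResidueField A) ⟶
      (Spec (CommRingCat.of A)).residueField (IsLocalRing.closedPoint A) :=
    CommRingCat.ofHom e ≫ (Scheme.Spec.residueFieldIso (CommRingCat.of A) (IsLocalRing.closedPoint A)).inv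
  have hψ : Spec.map (Scheme.Spec.residueFieldIso (CommRingCat.of A) (IsLocalRing.closedPoint A)).inv ≫
      Spec.map (CommRingCat.ofHom e) = Spec.map ψ := (Spec.map_comp _ _).symm
  have hres : Spec.map (CommRingCat.ofHom e) ≫
      Spec.map (CommRingCat.ofHom (IsLocalRing.residue A)) =
      Spec.map (CommRingCat.ofHom (algebraMap A (IsLocalRing.closedPoint A).asIdeal.ResidueField)) := by
    rw [← Spec.map_comp]
    rfl
  have hsq : IsPullback (f.fiberι (IsLocalRing.closedPoint A))
      (f.fiberToSpecResidueField (IsLocalRing.closedPoint A) ≫ Spec.map ψ) f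
      (Spec.map (CommRingCat.ofHom (IsLocalRing.residue A))) := by
    refine IsPullback.of_iso (ZarCoh.Exchange.Fibre.isPullback_fiber f (IsLocalRing.closedPoint A))
      (Iso.refl _) (Iso.refl _) (@asIso _ _ _ _ (Spec.map (CommRingCat.ofHom e)) hi) (Iso.refl _) ?_ ?_ ?_ ?_
    · simp
    · simp [← hψ]
    · simp
    · exact (Category.comp_id _).trans hres.symm
  exact Groth.Agent.H34.CohFlat0.exact_of_etale (p := f) hsq
    (Groth.Agent.H34.CohFlat0.etale_glob_comp ψ _ het)

end Groth.Agent.S4510
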