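import Groth.Statements.S4511
import Groth.Agent.Lib.Cohen.Presentation
import Groth.Agent.Lib.Cohen.CTensorReduced
-- import your own Groth.Agent.* helpers here

set_option autoImplicit false
universe u
open EGA41

namespace Groth.Agent.S4511

open IsLocalRing in
/-- Let A be a complete Noetherian local ring whose residue field has characteristic p (p = 0 allowed).
The following are equivalent: (a) A contains a field, i.e. there is a ring homomorphism from a field
into A; (b) p·1 = 0 in A; (c) A is isomorphic to a quotient of a power series ring K[[T_1, …, T_n]]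
over a field K. Moreover, when they hold, the surjection in (c) may be chosen with kernel contained
in the square of the maximal ideal of K[[T_1, …, T_n]]. -/
theorem result (A : Type u) [CommRing A] [IsLocalRing A] [IsNoetherianRing A]
    [IsAdicComplete (maximalIdeal A) A] (p : ℕ) [CharP (ResidueField A) p] :
    [∃ (K : Type u) (_ : Field K), Nonempty (K →+* A),
     (p : A) = 0,
     ∃ (K : Type u) (_ : Field K) (n : ℕ) (f : MvPowerSeries (Fin n) K →+* A), Function.Surjective f].TFAE ∧
    ((p : A) = 0 → ∃ (K : Type u) (_ : Field K) (n : ℕ) (f : MvPowerSeries (Fin n) K →+* A),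
      Function.Surjective f ∧ RingHom.ker f ≤ maximalIdeal (MvPowerSeries (Fin n) K) ^ 2) := by
  classical
  have key : (p : A) = 0 → ∃ (K : Type u) (_ : Field K) (n : ℕ)
      (f : MvPowerSeries (Fin n) K →+* A),
      Function.Surjective f ∧ RingHom.ker f ≤ maximalIdeal (MvPowerSeries (Fin n) K) ^ 2 := by
    intro hp
    obtain ⟨k₀, hk₀, ⟨hk₀A⟩⟩ : ∃ (K : Type u) (_ : Field K), Nonempty (Algebra K A) := by
      rcases CharP.char_is_prime_or_zero (ResidueField A) p with hprime | rfl
      · haveI := Fact.mk hprime
        haveI : CharP A p := by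
          refine ⟨fun m => ⟨fun hm => (CharP.cast_eq_zero_iff (ResidueField A) p m).1 ?_, ?_⟩⟩
          · rw [← map_natCast (residue A), hm, map_zero]
          · rintro ⟨c, rfl⟩
            rw [Nat.cast_mul, hp, zero_mul]
        exact ⟨ULift.{u} (ZMod p), inferInstance, ⟨((ZMod.castHom (dvd_refl p) A).comp
          (ULift.ringEquiv : ULift.{u} (ZMod p) ≃+* ZMod p).toRingHom).toAlgebra⟩⟩
      · haveI := CharP.charP_to_charZero (ResidueField A)
        have hunit : ∀ m : ℤ, m ≠ 0 → IsUnit (m : A) := fun m hm => by
          by_contra hu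
          have := (residue_eq_zero_iff (m : A)).2 hu
          rw [map_intCast] at this
          exact hm (Int.cast_eq_zero.1 this)
        have hlift : ∀ y : nonZeroDivisors ℤ, IsUnit (Int.castRingHom A y) :=
          fun y => hunit y (nonZeroDivisors.coe_ne_zero y)
        exact ⟨ULift.{u} ℚ, inferInstance, ⟨((IsLocalization.lift hlift : ℚ →+* A).comp
          (ULift.ringEquiv : ULift.{u} ℚ ≃+* ℚ).toRingHom).toAlgebra⟩⟩
    obtain ⟨σ, hσ⟩ := Groth.Agent.H24.CoefficientField.exists_coefficientField A k₀
    letI := σ.toAlgebra
    have hfg : (maximalIdeal A).FG := IsNoetherian.noetherian _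
    obtain ⟨n, x, hn, hx⟩ : ∃ (n : ℕ) (x : Fin n → A), n = (maximalIdeal A).spanFinrank ∧
        Ideal.span (Set.range x) = maximalIdeal A := by
      obtain ⟨s, hs, hspan⟩ := Submodule.FG.exists_span_finset_card_eq_spanFinrank hfg
      refine ⟨s.card, fun i => (s.equivFin.symm i : A), hs, ?_⟩
      rw [← Function.comp_def (fun a : s => (a : A)), Set.range_comp, Equiv.range_eq_univ,
        Set.image_univ, Subtype.range_coe_subtype]
      exact hspan
    have hxm : ∀ i, x i ∈ maximalIdeal A := fun i => hx ▸ Ideal.subset_span ⟨i, rfl⟩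
    haveI : IsAdicComplete (maximalIdeal (ResidueField A)) (ResidueField A) := by
      rw [IsLocalRing.maximalIdeal_eq_bot]; infer_instance
    have hloc : (maximalIdeal (ResidueField A)).map (algebraMap (ResidueField A) A) ≤
        maximalIdeal A := by
      rw [IsLocalRing.maximalIdeal_eq_bot, Ideal.map_bot]; exact bot_le
    have hres : Function.Surjective ((residue A).comp (algebraMap (ResidueField A) A)) :=
      fun z => ⟨z, hσ z⟩
    obtain ⟨g, hgX, hgfin⟩ := Groth.Agent.Lib.Cohen.FiniteOver.exists_finite_algHom hloc hres x hxm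
      (le_trans (by rw [hx]; exact le_sup_right) Ideal.le_radical)
    let P := MvPowerSeries (Fin n) (ResidueField A)
    have hM : maximalIdeal P = Ideal.span (Set.range MvPowerSeries.X) := by
      rw [Groth.Agent.Lib.Cohen.CTensorReduced.maximalIdeal_ps, IsLocalRing.maximalIdeal_eq_bot,
        Ideal.map_bot, sup_bot_eq]
    refine ⟨_, inferInstance, n, g.toRingHom, ?_, ?_⟩
    · letI : Algebra P A := g.toRingHom.toAlgebra
      haveI : Module.Finite P A := hgfin
      have htop : (⊤ : Submodule P A) ≤ LinearMap.range (Algebra.linearMap P A) := by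
        refine Submodule.le_of_le_smul_of_le_jacobson_bot Module.Finite.fg_top
          (jacobson_eq_maximalIdeal ⊥ bot_ne_top).ge ?_
        intro r _
        refine Submodule.mem_sup.2 ⟨σ (residue A r), ⟨algebraMap (ResidueField A) P (residue A r),
          g.commutes _⟩, r - σ (residue A r), ?_, by abel⟩
        rw [Ideal.smul_top_eq_map, Submodule.restrictScalars_mem]
        refine (le_of_eq_of_le hx.symm (Ideal.span_le.2 ?_)) ?_
        · rintro _ ⟨i, rfl⟩
          exact hgX i ▸ Ideal.mem_map_of_mem (algebraMap P A)
            (show (MvPowerSeries.X i : P) ∈ maximalIdeal P from hM ▸ Ideal.subset_span ⟨i, rfl⟩)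
        · rw [← residue_eq_zero_iff, map_sub, hσ, sub_self]
      intro r
      exact htop (Submodule.mem_top (x := r))
    · intro f hf
      rw [RingHom.mem_ker] at hf
      have hfM : f ∈ maximalIdeal P := fun hu => (hu.map g.toRingHom).ne_zero hf
      rw [hM, Ideal.mem_span_range_iff_exists_fun] at hfM
      obtain ⟨c, rfl⟩ := hfM
      have hgc : ∀ i, g (c i) ∈ maximalIdeal A := by
        intro j
        by_contra hj
        have hu : IsUnit (g (c j)) := by simpa using hj
        have hsum : ∑ i, g (c i) * x i = 0 := by simpa [hgX] using hf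
        let S : Finset A := (Finset.univ.erase j).image x
        have hjS : x j ∈ Ideal.span (S : Set A) := by
          rw [← Finset.add_sum_erase _ _ (Finset.mem_univ j), add_eq_zero_iff_eq_neg] at hsum
          refine (Ideal.unit_mul_mem_iff_mem _ hu).1 ?_
          rw [hsum]
          exact neg_mem (Ideal.sum_mem _ fun i hi => Ideal.mul_mem_left _ _
            (Ideal.subset_span (Finset.mem_image_of_mem x hi)))
        have hle : Ideal.span (S : Set A) = maximalIdeal A := by
          refine le_antisymm (Ideal.span_le.2 fun a ha => ?_) (hx ▸ Ideal.span_le.2 ?_)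
          · obtain ⟨i, -, rfl⟩ := Finset.mem_image.1 ha
            exact hxm i
          · rintro _ ⟨i, rfl⟩
            rcases eq_or_ne i j with rfl | hne
            · exact hjS
            · exact Ideal.subset_span
                (Finset.mem_image_of_mem x (Finset.mem_erase.2 ⟨hne, Finset.mem_univ i⟩))
        have h1 : (maximalIdeal A).spanFinrank ≤ S.card := by
          rw [← hle, ← Set.ncard_coe_finset]
          exact Submodule.spanFinrank_span_le_ncard_of_finite S.finite_toSet
        have h2 : S.card ≤ n - 1 := by
          refine Finset.card_image_le.trans ?_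
          simp
        have := j.2
        omega
      refine Ideal.sum_mem _ fun i _ => ?_
      rw [pow_two]
      refine Ideal.mul_mem_mul (fun hu => ?_) (hM ▸ Ideal.subset_span ⟨i, rfl⟩)
      exact hgc i (hu.map g.toRingHom)
  refine ⟨?_, key⟩
  tfae_have 1 → 2 := by
    rintro ⟨K, _, ⟨i⟩⟩
    haveI : CharP K p :=
      ((RingHom.charP_iff ((residue A).comp i) ((residue A).comp i).injective p).2 inferInstance)
    rw [← map_natCast i, CharP.cast_eq_zero, map_zero]
  tfae_have 2 → 3 := by
    intro hp
    obtain ⟨K, hK, n, f, hf, -⟩ := key hp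
    exact ⟨K, hK, n, f, hf⟩
  tfae_have 3 → 1 := by
    rintro ⟨K, hK, n, f, -⟩
    exact ⟨K, hK, ⟨f.comp MvPowerSeries.C⟩⟩
  tfae_finish

end Groth.Agent.S4511
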