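import Groth.Statements.S4513
import Groth.Agent.Lib.PBasis.FieldSmooth
-- import your own Groth.Agent.* helpers here

set_option autoImplicit false
universe u
open EGA41

namespace Groth.Agent.S4513

open IsLocalRing in
/-- Let A be a Noetherian local ring and k a field mapping to A such that A is formally smooth over k
for the adic topology of its maximal ideal (k discrete). Then every field K with k → K → A
(compatible ring maps) is a separable extension of k, i.e. K is geometrically reduced over k. -/
theorem result {k A K : Type u} [Field k] [CommRing A]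
    [IsLocalRing A] [IsNoetherianRing A] [Algebra k A] (h : CAlgX.IsAdicFormallySmooth k A (maximalIdeal A))
    [Field K] [Algebra k K] [Algebra K A] [IsScalarTower k K A] :
    Algebra.IsGeometricallyReduced k K := by
  refine Groth.Agent.Lib.PBasis.FieldSmooth.isGeometricallyReduced_iff_injective_int.2
    (Groth.Agent.Lib.PBasis.FieldSmooth.injective_iff_derivations_extend.2 fun D => ?_)
  let ι : K →+* (ResidueField A) := (residue A).comp (algebraMap K A)
  let j : k →+* (ResidueField A) := ι.comp (algebraMap k K)
  let e : k →+* TrivSqZeroExt (ResidueField A) (ResidueField A) :=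
    { toFun := fun a => TrivSqZeroExt.inl (j a) + TrivSqZeroExt.inr (ι (D a))
      map_one' := by simp
      map_mul' := fun a b => by
        ext
        · simp [map_mul]
        · simp only [Derivation.leibniz, Algebra.smul_def, map_add, map_mul]
          simp [j]
          ring
      map_zero' := by simp
      map_add' := fun a b => by ext <;> simp }
  letI : Algebra k (TrivSqZeroExt (ResidueField A) (ResidueField A)) := e.toAlgebra
  let J : Ideal (TrivSqZeroExt (ResidueField A) (ResidueField A)) := RingHom.ker (TrivSqZeroExt.fstHom (ResidueField A) (ResidueField A) (ResidueField A)).toRingHom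
  have hJ : J ^ 2 = ⊥ := by
    rw [pow_two, eq_bot_iff, Ideal.mul_le]
    intro x hx y hy
    replace hx : x.fst = 0 := hx
    replace hy : y.fst = 0 := hy
    rw [Ideal.mem_bot]
    ext <;> simp [hx, hy]
  let ψ : A →ₐ[k] TrivSqZeroExt (ResidueField A) (ResidueField A) ⧸ J :=
    { ((Ideal.Quotient.mk J).comp (TrivSqZeroExt.inlHom (ResidueField A) (ResidueField A))).comp (residue A) with
      commutes' := fun a => by
        refine Ideal.Quotient.eq.2 ?_
        change (TrivSqZeroExt.inl (residue A (algebraMap k A a)) - e a).fst = 0
        simp [e, j, ι, IsScalarTower.algebraMap_apply k K A] }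
  obtain ⟨χ, hχ⟩ := h (TrivSqZeroExt (ResidueField A) (ResidueField A)) J hJ ψ ⟨1, fun x hx => by
    rw [pow_one] at hx
    change Ideal.Quotient.mk J (TrivSqZeroExt.inl (residue A x)) = 0
    rw [(residue_eq_zero_iff x).2 hx, TrivSqZeroExt.inl_zero, map_zero]⟩
  have hfst : ∀ x : A, (χ x).fst = residue A x := fun x => by
    have h1 : (χ x - TrivSqZeroExt.inl (residue A x)).fst = 0 :=
      Ideal.Quotient.eq.1 (AlgHom.congr_fun hχ x)
    simpa [sub_eq_zero] using h1
  obtain ⟨T, hT⟩ := LinearMap.exists_leftInverse_of_injective (Algebra.linearMap K (ResidueField A))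
    (LinearMap.ker_eq_bot.2 ι.injective)
  have hTa : ∀ (x : K) (l : (ResidueField A)), T (ι x * l) = x * T l := fun x l => by
    rw [← smul_eq_mul x (T l), ← map_smul, Algebra.smul_def]; rfl
  let D'' : K →+ K :=
    { toFun := fun x => T ((χ (algebraMap K A x)).snd)
      map_zero' := by simp
      map_add' := fun x y => by simp [map_add] }
  refine ⟨Derivation.mk' D''.toIntLinearMap (fun x y => ?_), fun a => ?_⟩
  · change T ((χ (algebraMap K A (x * y))).snd) =
      x * T ((χ (algebraMap K A y)).snd) + y * T ((χ (algebraMap K A x)).snd)
    rw [← hTa, ← hTa, ← map_add, map_mul, map_mul, TrivSqZeroExt.snd_mul, hfst, hfst]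
    simp [ι, mul_comm]
  · change T ((χ (algebraMap K A (algebraMap k K a))).snd) = D a
    rw [← IsScalarTower.algebraMap_apply, χ.commutes]
    change T ((e a).snd) = D a
    have h2 : T (ι (D a)) = D a := LinearMap.congr_fun hT (D a)
    simpa [e] using h2

end Groth.Agent.S4513
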