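import Groth.Statements.S4514
import Groth.Agent.H68.FlatLift

set_option autoImplicit false
universe u
open EGA41

namespace Groth.Agent.S4514

open IsLocalRing TensorProduct in
/-- Let A be a Noetherian local ring with residue field k, and let B₀ be a k-algebra which is a complete
regular local ring. Then there exist a complete Noetherian local ring B and a local homomorphism A →
B making B a flat A-module, such that B₀ is k-isomorphic to k ⊗_A B = B/𝔪B. -/
theorem result {A : Type u} [CommRing A] [IsLocalRing A] [IsNoetherianRing A]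
    (B₀ : Type u) [CommRing B₀] [IsRegularLocalRing B₀] [IsAdicComplete (maximalIdeal B₀) B₀]
    [Algebra (ResidueField A) B₀] :
    ∃ (B : Type u) (_ : CommRing B) (_ : IsLocalRing B) (_ : IsNoetherianRing B) (_ : Algebra A B)
      (_ : IsLocalHom (algebraMap A B)),
      IsAdicComplete (maximalIdeal B) B ∧ Module.Flat A B ∧
        Nonempty (ResidueField A ⊗[A] B ≃ₐ[ResidueField A] B₀) := by
  letI : Algebra A B₀ := ((algebraMap (ResidueField A) B₀).comp (residue A)).toAlgebra
  haveI : IsScalarTower A (ResidueField A) B₀ := IsScalarTower.of_algebraMap_eq fun _ => rfl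
  have hm : (maximalIdeal A).map (algebraMap A B₀) = ⊥ := by
    refine eq_bot_iff.mpr (Ideal.map_le_iff_le_comap.mpr fun a ha => ?_)
    show algebraMap (ResidueField A) B₀ (residue A a) = 0
    rw [(residue_eq_zero_iff a).mpr ha, map_zero]
  haveI : IsLocalHom (algebraMap A B₀) := ((local_hom_TFAE _).out 2 0).mp (hm.le.trans bot_le)
  obtain ⟨C, iC, jC, kC, π, hN, hC, hloc, hflat, hπ, hker⟩ :=
    H68.FlatLift.exists_flat_lift' (A := A) (B := B₀) hm
  refine ⟨C, iC, jC, hN, kC, hloc, hC, hflat, ⟨?_⟩⟩
  refine AlgEquiv.ofBijective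
    (Algebra.TensorProduct.lift (Algebra.ofId (ResidueField A) B₀) π fun _ _ => Commute.all _ _)
    ⟨(injective_iff_map_eq_zero _).mpr fun z hz => ?_, fun b => ?_⟩
  · obtain ⟨c, hc⟩ := H68.FlatLift.exists_one_tmul (maximalIdeal A) z
    subst hc
    have h1 : Algebra.TensorProduct.lift (Algebra.ofId (ResidueField A) B₀) π
        (fun _ _ => Commute.all _ _) ((1 : ResidueField A) ⊗ₜ[A] c) = π c := by
      rw [Algebra.TensorProduct.lift_tmul, map_one, one_mul]
    exact H68.FlatLift.one_tmul_eq_zero (maximalIdeal A) (hker.le (h1.symm.trans hz))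
  · obtain ⟨c, rfl⟩ := hπ b
    exact ⟨(1 : ResidueField A) ⊗ₜ[A] c, by rw [Algebra.TensorProduct.lift_tmul, map_one, one_mul]⟩

end Groth.Agent.S4514
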