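import Groth.Statements.S4515
import Mathlib.RingTheory.AdicCompletion.Basic
import Mathlib.RingTheory.Flat.Basic
import Mathlib.LinearAlgebra.TensorProduct.RightExactness


set_option autoImplicit false
universe u
open EGA41 TensorProduct

namespace Groth.Agent.S4515

/-- Let A be a ring, J an ideal of A, and M, N two A-modules which are Hausdorff for the J-adic
topology; suppose moreover that N is J-adically complete and M is flat. Let u : N → M be A-linear.
If the induced map N/JN → M/JM is bijective (surjectivity and injectivity written out below), then u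
is bijective. -/
theorem result {A : Type u} [CommRing A] (J : Ideal A)
    {M N : Type u} [AddCommGroup M] [Module A M] [AddCommGroup N] [Module A N]
    [IsHausdorff J M] [IsAdicComplete J N] [Module.Flat A M] (u : N →ₗ[A] M)
    (hsurj : ∀ m : M, ∃ n : N, m - u n ∈ (J • ⊤ : Submodule A M))
    (hinj : ∀ n : N, u n ∈ (J • ⊤ : Submodule A M) → n ∈ (J • ⊤ : Submodule A N)) :
    Function.Bijective u := by
  classical
  -- the inverse of the reduction of `u`
  obtain ⟨v, hv⟩ : ∃ v : M →ₗ[A] N ⧸ (J • ⊤ : Submodule A N), v ∘ₗ u = (J • ⊤ : Submodule A N).mkQ := by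
    choose g hg using hsurj
    have hwd : ∀ (m : M) (n : N), m - u n ∈ (J • ⊤ : Submodule A M) →
        (Submodule.Quotient.mk (g m) : N ⧸ (J • ⊤ : Submodule A N)) = Submodule.Quotient.mk n := fun m n h => by
      rw [Submodule.Quotient.eq]
      refine hinj _ ?_
      rw [map_sub]
      simpa using sub_mem h (hg m)
    refine ⟨{ toFun := fun m => Submodule.Quotient.mk (g m), map_add' := fun a b => ?_,
              map_smul' := fun c a => ?_ }, LinearMap.ext fun n => hwd (u n) n (by simp)⟩
    · rw [← Submodule.Quotient.mk_add]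
      refine hwd _ _ ?_
      rw [map_add, add_sub_add_comm]
      exact add_mem (hg a) (hg b)
    · rw [RingHom.id_apply, ← Submodule.Quotient.mk_smul]
      refine hwd _ _ ?_
      rw [map_smul, ← smul_sub]
      exact Submodule.smul_mem _ c (hg a)
  have hstep : ∀ (k : ℕ) (n : N), n ∈ (J ^ k • ⊤ : Submodule A N) → u n ∈ (J ^ (k + 1) • ⊤ : Submodule A M) →
      n ∈ (J ^ (k + 1) • ⊤ : Submodule A N) := by
    intro k n hn hun
    let μN := TensorProduct.lift ((LinearMap.lsmul A N).comp (J ^ k).subtype)
    let μM := TensorProduct.lift ((LinearMap.lsmul A M).comp (J ^ k).subtype)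
    let ι : ↥(J ^ (k + 1)) →ₗ[A] ↥(J ^ k) := Submodule.inclusion (Ideal.pow_le_pow_right (Nat.le_succ k))
    let q := (LinearMap.range ι).mkQ
    have hq : Function.Exact ι q := LinearMap.exact_map_mkQ_range ι
    have repN : ∀ (j : ℕ) (y : N), y ∈ (J ^ j • ⊤ : Submodule A N) →
        ∃ z, TensorProduct.lift ((LinearMap.lsmul A N).comp (J ^ j).subtype) z = y := fun j y hy => by
      refine Submodule.smul_induction_on hy (fun a ha b _ => ⟨⟨a, ha⟩ ⊗ₜ b, by simp⟩) ?_
      rintro a b ⟨za, rfl⟩ ⟨zb, rfl⟩
      exact ⟨za + zb, map_add _ _ _⟩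
    have repM : ∀ (j : ℕ) (y : M), y ∈ (J ^ j • ⊤ : Submodule A M) →
        ∃ z, TensorProduct.lift ((LinearMap.lsmul A M).comp (J ^ j).subtype) z = y := fun j y hy => by
      refine Submodule.smul_induction_on hy (fun a ha b _ => ⟨⟨a, ha⟩ ⊗ₜ b, by simp⟩) ?_
      rintro a b ⟨za, rfl⟩ ⟨zb, rfl⟩
      exact ⟨za + zb, map_add _ _ _⟩
    obtain ⟨z, rfl⟩ := repN k n hn
    obtain ⟨w, hw⟩ := repM (k + 1) _ hun
    have hμ : Function.Injective μM := by
      rw [show μM = (TensorProduct.lid A M).toLinearMap ∘ₗ LinearMap.rTensor M (J ^ k).subtype from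
        TensorProduct.ext' fun a b => by simp [μM]]
      exact (TensorProduct.lid A M).injective.comp
        (Module.Flat.rTensor_preserves_injective_linearMap _ (Submodule.injective_subtype _))
    have hnat : ∀ z, μM (LinearMap.lTensor _ u z) = u (μN z) := fun z => by
      induction z using TensorProduct.induction_on with
      | zero => simp
      | tmul a b => simp [μM, μN]
      | add a b ha hb => simp [ha, hb]
    have hnat' : ∀ w, μM (LinearMap.rTensor M ι w) =
        TensorProduct.lift ((LinearMap.lsmul A M).comp (J ^ (k + 1)).subtype) w := fun w => by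
      induction w using TensorProduct.induction_on with
      | zero => simp
      | tmul a b => simp [μM, ι]
      | add a b ha hb => simp [ha, hb]
    have heq : LinearMap.lTensor _ u z = LinearMap.rTensor M ι w := hμ (by rw [hnat, hnat', hw])
    have h0 : LinearMap.lTensor (↥(J ^ k) ⧸ LinearMap.range ι) u (LinearMap.rTensor N q z) = 0 := by
      have hc : ∀ z, LinearMap.lTensor (↥(J ^ k) ⧸ LinearMap.range ι) u (LinearMap.rTensor N q z) =
          LinearMap.rTensor M q (LinearMap.lTensor _ u z) := fun z => by
        induction z using TensorProduct.induction_on with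
        | zero => simp
        | tmul a b => simp
        | add a b ha hb => simp [ha, hb]
      rw [hc, heq]
      exact (rTensor_exact M hq (Submodule.mkQ_surjective _) _).mpr ⟨w, rfl⟩
    have h1 : LinearMap.lTensor (↥(J ^ k) ⧸ LinearMap.range ι) (J • ⊤ : Submodule A N).mkQ (LinearMap.rTensor N q z) = 0 := by
      rw [← hv, LinearMap.lTensor_comp, LinearMap.comp_apply, h0, map_zero]
    obtain ⟨t, ht⟩ := (lTensor_exact _ (LinearMap.exact_subtype_mkQ _) (Submodule.mkQ_surjective _) _).mp h1
    have ht0 : LinearMap.lTensor (↥(J ^ k) ⧸ LinearMap.range ι) (J • ⊤ : Submodule A N).subtype t = 0 := by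
      clear ht
      induction t using TensorProduct.induction_on with
      | zero => simp
      | tmul c x =>
        obtain ⟨x, hx⟩ := x
        rw [LinearMap.lTensor_tmul, Submodule.subtype_apply]
        suffices h : ∀ y ∈ (J • ⊤ : Submodule A N), c ⊗ₜ[A] y = 0 from h x hx
        intro y hy
        refine Submodule.smul_induction_on hy (fun a ha b _ => ?_) (fun a b ha hb => by rw [TensorProduct.tmul_add, ha, hb, add_zero])
        rw [TensorProduct.tmul_smul, TensorProduct.smul_tmul']
        induction c using Submodule.Quotient.induction_on with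
        | _ j =>
          rw [← Submodule.Quotient.mk_smul, (Submodule.Quotient.mk_eq_zero _).mpr, TensorProduct.zero_tmul]
          exact ⟨⟨a * j, by rw [pow_succ']; exact Ideal.mul_mem_mul ha j.2⟩, Subtype.ext rfl⟩
      | add a b ha hb => rw [map_add, ha, hb, add_zero]
    rw [ht0] at ht
    obtain ⟨z', hz'⟩ := (rTensor_exact N hq (Submodule.mkQ_surjective _) _).mp ht.symm
    rw [← hz']
    have : ∀ z', TensorProduct.lift ((LinearMap.lsmul A N).comp (J ^ k).subtype) (LinearMap.rTensor N ι z') ∈
        (J ^ (k + 1) • ⊤ : Submodule A N) := fun z' => by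
      induction z' using TensorProduct.induction_on with
      | zero => simp
      | tmul a b => simpa [ι] using Submodule.smul_mem_smul a.2 (Submodule.mem_top (x := b))
      | add a b ha hb => simpa using add_mem ha hb
    exact this z'
  refine ⟨(injective_iff_map_eq_zero u).mpr fun n hn => IsHausdorff.haus (I := J) inferInstance n fun k => ?_, fun m => ?_⟩
  · rw [SModEq.zero]
    induction k with
    | zero => simp
    | succ k ih => exact hstep k n ih (by rw [hn]; exact zero_mem _)
  have happrox : ∀ (k : ℕ) (y : M), ∃ n : N, y ∈ (J ^ k • ⊤ : Submodule A M) →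
      n ∈ (J ^ k • ⊤ : Submodule A N) ∧ y - u n ∈ (J ^ (k + 1) • ⊤ : Submodule A M) := fun k y => by
    by_cases hy : y ∈ (J ^ k • ⊤ : Submodule A M)
    · obtain ⟨n, h1, h2⟩ : ∃ n : N, n ∈ (J ^ k • ⊤ : Submodule A N) ∧ y - u n ∈ (J ^ (k + 1) • ⊤ : Submodule A M) := by
        refine Submodule.smul_induction_on hy (fun a ha b _ => ?_) ?_
        · obtain ⟨n, hn⟩ := hsurj b
          refine ⟨a • n, Submodule.smul_mem_smul ha Submodule.mem_top, ?_⟩
          rw [map_smul, ← smul_sub, pow_succ, Submodule.mul_smul]
          exact Submodule.smul_mem_smul ha hn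
        · rintro a b ⟨na, ha, ha'⟩ ⟨nb, hb, hb'⟩
          refine ⟨na + nb, add_mem ha hb, ?_⟩
          rw [map_add, add_sub_add_comm]
          exact add_mem ha' hb'
      exact ⟨n, fun _ => ⟨h1, h2⟩⟩
    · exact ⟨0, fun h => absurd h hy⟩
  choose c hc using happrox
  let s : ℕ → N := fun k => Nat.rec (0 : N) (fun j sj => sj + c j (m - u sj)) k
  have hs : ∀ k, m - u (s k) ∈ (J ^ k • ⊤ : Submodule A M) := fun k => by
    induction k with
    | zero => simp
    | succ k ih =>
      show m - u (s k + c k (m - u (s k))) ∈ _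
      rw [map_add, ← sub_sub]
      exact (hc k _ ih).2
  have hcauchy : ∀ {a b : ℕ}, a ≤ b → s a ≡ s b [SMOD (J ^ a • ⊤ : Submodule A N)] := fun {a b} hab => by
    induction b, hab using Nat.le_induction with
    | base => rfl
    | succ b hab ih =>
      refine ih.trans (SModEq.sub_mem.mpr ?_)
      show s b - (s b + c b (m - u (s b))) ∈ _
      rw [sub_add_cancel_left]
      exact neg_mem (Submodule.smul_mono_left (Ideal.pow_le_pow_right hab) (hc b _ (hs b)).1)
  obtain ⟨L, hL⟩ := IsPrecomplete.prec (I := J) inferInstance hcauchy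
  refine ⟨L, (sub_eq_zero.mp (IsHausdorff.haus (I := J) inferInstance (m - u L) fun k => ?_)).symm⟩
  rw [SModEq.zero, show m - u L = (m - u (s k)) + u (s k - L) by rw [map_sub]; abel]
  refine add_mem (hs k) ?_
  have hm : Submodule.map u (J ^ k • ⊤ : Submodule A N) ≤ (J ^ k • ⊤ : Submodule A M) := by
    rw [Submodule.map_smul'']
    exact Submodule.smul_mono le_rfl le_top
  exact hm (Submodule.mem_map_of_mem (SModEq.sub_mem.mp (hL k)))


end Groth.Agent.S4515
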