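import Groth.Statements.S4516
import Groth.Agent.Lib.PBasis.Deriv

set_option autoImplicit false
universe u
open EGA41

namespace Groth.Agent.S4516

/-- Let p be a prime, B an A-algebra of characteristic p and A' an A-subalgebra of B contained in
A[B^p]. Then the canonical map between Ω_{B/A} and Ω_{B/A'} is bijective (every A-derivation of B
vanishes on A[B^p]). -/
theorem result (p : ℕ) [Fact p.Prime] {A B : Type u}
    [CommRing A] [CommRing B] [Algebra A B] [CharP B p] (A' : Subalgebra A B)
    (hA' : A' ≤ EGA41.pPowerSubalgebra p A B) :
    Function.Bijective (KaehlerDifferential.map A A' B B) := by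
  refine ⟨?_, KaehlerDifferential.map_surjective A A' B⟩
  let D : Derivation A' B (Ω[B⁄A]) := Derivation.mk'
    { toFun := fun b => KaehlerDifferential.D A B b
      map_add' := fun a b => map_add _ a b
      map_smul' := fun r b => by
        simp only [RingHom.id_apply]
        rw [Subalgebra.smul_def, smul_eq_mul, Derivation.leibniz,
          Groth.Agent.Lib.PBasis.Deriv.derivation_pPower_eq_zero _ (hA' r.2), smul_zero, add_zero]
        rfl } (fun a b => Derivation.leibniz _ a b)
  refine Function.LeftInverse.injective (g := D.liftKaehlerDifferential) fun ω => ?_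
  suffices D.liftKaehlerDifferential ∘ₗ (KaehlerDifferential.map A A' B B) = LinearMap.id from
    LinearMap.congr_fun this ω
  refine Derivation.liftKaehlerDifferential_unique _ _ (Derivation.ext fun b => ?_)
  change D.liftKaehlerDifferential (KaehlerDifferential.map A A' B B (KaehlerDifferential.D A B b)) =
    KaehlerDifferential.D A B b
  rw [KaehlerDifferential.map_D, Derivation.liftKaehlerDifferential_comp_D]
  rfl

end Groth.Agent.S4516
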