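import Groth.Statements.S4517
import Mathlib.RingTheory.Kaehler.Basic
import Mathlib.Algebra.CharP.Lemmas
import Mathlib.RingTheory.Nilpotent.Lemmas


set_option autoImplicit false
universe u
open EGA41 TensorProduct

namespace Groth.Agent.S4517

/-- Let p be a prime, B an A-algebra of characteristic p, and suppose there is s ≥ 0 such that b^(p^s)
lies in the image of A for every b ∈ B. Then the kernel of the multiplication map B ⊗_A B → B is a
nil ideal. -/
theorem result (p : ℕ) [Fact p.Prime] {A B : Type u}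
    [CommRing A] [CommRing B] [Algebra A B] [CharP B p] (s : ℕ)
    (hpow : ∀ b : B, b ^ p ^ s ∈ Set.range (algebraMap A B)) :
    ∀ x ∈ KaehlerDifferential.ideal A B, IsNilpotent x := by
  intro x hx
  rw [← KaehlerDifferential.span_range_eq_ideal] at hx
  have hle : Ideal.span (Set.range fun b : B => (1 : B) ⊗ₜ[A] b - b ⊗ₜ[A] (1 : B)) ≤ nilradical (B ⊗[A] B) := by
    rw [Ideal.span_le]
    rintro _ ⟨b, rfl⟩
    rcases subsingleton_or_nontrivial (B ⊗[A] B) with hs | hn
    · exact ⟨1, Subsingleton.elim _ _⟩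
    have hp : (p : B ⊗[A] B) = 0 := by
      rw [← map_natCast (algebraMap B (B ⊗[A] B)), CharP.cast_eq_zero, map_zero]
    haveI : CharP (B ⊗[A] B) p := CharP.charP_iff_prime_eq_zero (Fact.out) |>.mpr hp
    refine ⟨p ^ s, ?_⟩
    obtain ⟨a, ha⟩ := hpow b
    rw [sub_pow_char_pow, Algebra.TensorProduct.tmul_pow, Algebra.TensorProduct.tmul_pow, one_pow, ← ha,
      Algebra.algebraMap_eq_smul_one, TensorProduct.smul_tmul, sub_self]
    exact Submodule.zero_mem _
  exact hle hx


end Groth.Agent.S4517
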