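import Groth.Statements.S4518
import Groth.Agent.Lib.PBasis.Basic
import Mathlib.RingTheory.AlgebraTower
import Mathlib.LinearAlgebra.Basis.Basic
import Mathlib.Data.Finsupp.Basic

set_option autoImplicit false
universe u
open EGA41

namespace Groth.Agent.S4518

open Groth.Agent.Lib.PBasis.Basic

/-- Linear independence depends only on the image of the scalars. -/
theorem li_of_range_eq {R R' B ι : Type u} [CommRing R] [CommRing R'] [CommRing B] [Algebra R B]
    [Algebra R' B] (hinj' : Function.Injective (algebraMap R' B))
    (h : Set.range (algebraMap R' B) ⊆ Set.range (algebraMap R B)) {v : ι → B}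
    (hv : LinearIndependent R v) : LinearIndependent R' v := by
  classical
  rw [linearIndependent_iff'] at hv ⊢
  intro T g hsum i hi
  choose σ hσ using fun j => h ⟨g j, rfl⟩
  have h0 := hv T σ ?_ i hi
  · refine hinj' ?_
    rw [← hσ i, h0, map_zero, map_zero]
  · rw [← hsum]
    exact Finset.sum_congr rfl fun j _ => by rw [Algebra.smul_def, Algebra.smul_def, hσ]

/-- Independence over a ring from that of products with a basis. -/
theorem li_of_smul {R S B ι κ : Type u} [CommRing R] [CommRing S] [CommRing B] [Algebra R S]
    [Algebra S B] [Algebra R B] [IsScalarTower R S B] (b : Module.Basis ι R S) {c : κ → B}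
    (h : LinearIndependent R fun q : ι × κ => b q.1 • c q.2) : LinearIndependent S c := by
  classical
  rw [linearIndependent_iff'] at h ⊢
  intro T g hsum j hj
  let s : Finset ι := T.biUnion fun k => (b.repr (g k)).support
  have hz := h (s ×ˢ T) (fun q => b.repr (g q.2) q.1) (by
    rw [Finset.sum_product_right, ← hsum]
    refine Finset.sum_congr rfl fun k hk => ?_
    have e : g k = ∑ i ∈ s, b.repr (g k) i • b i := by
      conv_lhs => rw [← b.linearCombination_repr (g k), Finsupp.linearCombination_apply]
      exact Finsupp.sum_of_support_subset _ (Finset.subset_biUnion_of_mem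
        (fun k => (b.repr (g k)).support) hk) _ (fun i _ => zero_smul _ _)
    conv_rhs => rw [e]
    rw [Finset.sum_smul]
    exact Finset.sum_congr rfl fun i _ => (smul_assoc _ _ _).symm)
  refine b.repr.injective (Finsupp.ext fun i => ?_)
  rw [map_zero, Finsupp.zero_apply]
  by_cases hi : i ∈ s
  · exact hz (i, j) (Finset.mem_product.2 ⟨hi, hj⟩)
  · by_contra hne
    exact hi (Finset.mem_biUnion.2 ⟨j, hj, Finsupp.mem_support_iff.2 hne⟩)

/-- Reduced exponents on a disjoint union. -/
noncomputable def expSum (p : ℕ) (ι κ : Type u) : Exp p (ι ⊕ κ) ≃ Exp p ι × Exp p κ where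
  toFun e := (⟨(Finsupp.sumFinsuppEquivProdFinsupp e.1).1, fun i => e.2 (Sum.inl i)⟩,
    ⟨(Finsupp.sumFinsuppEquivProdFinsupp e.1).2, fun j => e.2 (Sum.inr j)⟩)
  invFun q := ⟨Finsupp.sumFinsuppEquivProdFinsupp.symm (q.1.1, q.2.1),
    fun i => i.rec (fun i => q.1.2 i) (fun j => q.2.2 j)⟩
  left_inv e := Subtype.ext (Finsupp.sumFinsuppEquivProdFinsupp.symm_apply_apply e.1)
  right_inv q := by
    have h := Finsupp.sumFinsuppEquivProdFinsupp.apply_symm_apply (q.1.1, q.2.1)
    exact Prod.ext (Subtype.ext (congr_arg Prod.fst h)) (Subtype.ext (congr_arg Prod.snd h))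

theorem monos_sum {B : Type u} [CommRing B] {p : ℕ} {ι κ : Type u} (x : ι → B) (y : κ → B)
    (q : Exp p ι × Exp p κ) :
    monos p (Sum.elim x y) ((expSum p ι κ).symm q) = monos p x q.1 * monos p y q.2 := by
  have : ((expSum p ι κ).symm q).1 = q.1.1.mapDomain Sum.inl + q.2.1.mapDomain Sum.inr := by
    ext (i | j)
    · rw [Finsupp.add_apply, Finsupp.mapDomain_apply Sum.inl_injective,
        Finsupp.mapDomain_of_notMem_range _ _ (by rintro ⟨j, hj⟩; cases hj), add_zero]
      rfl
    · rw [Finsupp.add_apply, Finsupp.mapDomain_apply Sum.inr_injective,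
        Finsupp.mapDomain_of_notMem_range _ _ (by rintro ⟨j, hj⟩; cases hj), zero_add]
      rfl
  change EGA41.pMonomial (Sum.elim x y) _ = _
  rw [this, pMonomial_add]
  congr 1
  · exact Finsupp.prod_mapDomain_index_inj Sum.inl_injective
  · exact Finsupp.prod_mapDomain_index_inj Sum.inr_injective

theorem pPower_range {p : ℕ} {A B : Type u} [CommRing A] [CommRing B] [Algebra A B]
    (hpow : ∀ b : B, b ^ p ∈ Set.range (algebraMap A B)) :
    Set.range (algebraMap (EGA41.pPowerSubalgebra p A B) B) = Set.range (algebraMap A B) := by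
  refine Set.Subset.antisymm ?_ ?_
  · rintro _ ⟨⟨b, hb⟩, rfl⟩
    rw [pPower_eq_range p hpow] at hb
    exact Algebra.mem_bot.1 hb
  · rintro _ ⟨a, rfl⟩
    exact ⟨⟨_, Subalgebra.algebraMap_mem _ a⟩, rfl⟩

theorem isPGenerating_iff' {p : ℕ} (hp : 1 < p) {A B ι : Type u} [CommRing A] [CommRing B]
    [Algebra A B] (hpow : ∀ b : B, b ^ p ∈ Set.range (algebraMap A B)) (x : ι → B) :
    EGA41.IsPGenerating p A x ↔ Algebra.adjoin A (Set.range x) = ⊤ := by
  rw [isPGenerating_iff p hp]
  constructor
  · intro h
    refine Algebra.eq_top_iff.2 fun b => ?_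
    have hb : b ∈ Algebra.adjoin (EGA41.pPowerSubalgebra p A B) (Set.range x) := h ▸ Algebra.mem_top
    induction hb using Algebra.adjoin_induction with
    | mem y hy => exact Algebra.subset_adjoin hy
    | algebraMap r =>
      have hr : algebraMap _ B r ∈ Set.range (algebraMap A B) :=
        (pPower_range hpow).le ⟨r, rfl⟩
      obtain ⟨a, ha⟩ := hr
      exact ha ▸ Subalgebra.algebraMap_mem _ a
    | add a b _ _ ha hb => exact add_mem ha hb
    | mul a b _ _ ha hb => exact mul_mem ha hb
  · intro h
    refine Algebra.eq_top_iff.2 fun b => ?_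
    have hb : b ∈ Algebra.adjoin A (Set.range x) := h ▸ Algebra.mem_top
    induction hb using Algebra.adjoin_induction with
    | mem y hy => exact Algebra.subset_adjoin hy
    | algebraMap r => exact Subalgebra.algebraMap_mem _ (⟨_, Subalgebra.algebraMap_mem _ r⟩ :
        EGA41.pPowerSubalgebra p A B)
    | add a b _ _ ha hb => exact add_mem ha hb
    | mul a b _ _ ha hb => exact mul_mem ha hb


/-- Let p be a prime and A → C → B rings of characteristic p with C → B injective and every p-th power
of B in the image of A (so, identifying, B^p ⊆ A ⊆ C ⊆ B up to replacing A by its image); let x be a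
family of elements of C and y a family of elements of B. (i) If x is a system of p-generators of C
over A and y one of B over C, then the family obtained by putting x (viewed in B) and y together is
a system of p-generators of B over A. (ii) If x is a p-basis of C over A, then y is p-independent
over C if and only if the combined family is p-independent over A. (The published statement only
asks B^p ⊆ C and reduces to B^p ⊆ A by enlarging A to A[B^p]; but p-independence of x in C over A
refers to A[C^p], which can be smaller than A[B^p] — for A = 𝔽_p, C = 𝔽_p(t^p) ⊂ B = 𝔽_p(t), x =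
(t^p), y = (t), x is a p-basis of C over A and y is p-independent over C while (t^p, t) is not
p-independent over A — so this row assumes B^p ⊆ A, the case the published proof treats.) -/
theorem result (p : ℕ) [Fact p.Prime] {A C B : Type u} [CommRing A] [CommRing C]
    [CommRing B] [Algebra A C] [Algebra C B] [Algebra A B] [IsScalarTower A C B] [CharP B p]
    (hinj : Function.Injective (algebraMap C B)) (hpow : ∀ b : B, b ^ p ∈ Set.range (algebraMap A B))
    {ι κ : Type u} (x : ι → C) (y : κ → B) :
    (EGA41.IsPGenerating p A x → EGA41.IsPGenerating p C y →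
      EGA41.IsPGenerating p A (Sum.elim (fun i => algebraMap C B (x i)) y)) ∧
    (EGA41.IsPBasis p A x →
      (EGA41.IsPIndependent p C y ↔ EGA41.IsPIndependent p A (Sum.elim (fun i => algebraMap C B (x i)) y))) := by
  have hp : 1 < p := (Fact.out : p.Prime).one_lt
  have hpowC : ∀ c : C, c ^ p ∈ Set.range (algebraMap A C) := fun c => by
    obtain ⟨a, ha⟩ := hpow (algebraMap C B c)
    exact ⟨a, hinj (by rw [← IsScalarTower.algebraMap_apply, ha, map_pow])⟩
  have hpowB : ∀ b : B, b ^ p ∈ Set.range (algebraMap C B) := fun b => by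
    obtain ⟨a, ha⟩ := hpow b
    exact ⟨algebraMap A C a, by rw [← IsScalarTower.algebraMap_apply, ha]⟩
  constructor
  · intro hx hy
    rw [isPGenerating_iff' hp hpowC] at hx
    rw [isPGenerating_iff' hp hpowB] at hy
    rw [isPGenerating_iff' hp hpow]
    refine Algebra.eq_top_iff.2 fun b => ?_
    have hb : b ∈ Algebra.adjoin C (Set.range y) := hy ▸ Algebra.mem_top
    induction hb using Algebra.adjoin_induction with
    | mem z hz =>
      obtain ⟨j, rfl⟩ := hz
      exact Algebra.subset_adjoin ⟨Sum.inr j, rfl⟩
    | algebraMap c =>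
      have hc : c ∈ Algebra.adjoin A (Set.range x) := hx ▸ Algebra.mem_top
      induction hc using Algebra.adjoin_induction with
      | mem z hz =>
        obtain ⟨i, rfl⟩ := hz
        exact Algebra.subset_adjoin ⟨Sum.inl i, rfl⟩
      | algebraMap r =>
        rw [← IsScalarTower.algebraMap_apply]
        exact Subalgebra.algebraMap_mem _ r
      | add a b _ _ ha hb => rw [map_add]; exact add_mem ha hb
      | mul a b _ _ ha hb => rw [map_mul]; exact mul_mem ha hb
    | add a b _ _ ha hb => exact add_mem ha hb
    | mul a b _ _ ha hb => exact mul_mem ha hb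
  · intro hx
    let R := EGA41.pPowerSubalgebra p A C
    haveI : IsScalarTower R C B := IsScalarTower.of_algebraMap_eq' rfl
    have hRB : Set.range (algebraMap R B) =
        Set.range (algebraMap (EGA41.pPowerSubalgebra p A B) B) := by
      rw [pPower_range hpow]
      refine Set.Subset.antisymm ?_ ?_
      · rintro _ ⟨r, rfl⟩
        have hr : algebraMap R C r ∈ Set.range (algebraMap A C) :=
          (pPower_range hpowC).le ⟨r, rfl⟩
        obtain ⟨a, ha⟩ := hr
        exact ⟨a, by rw [IsScalarTower.algebraMap_apply A C B, ha]; rfl⟩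
      · rintro _ ⟨a, rfl⟩
        exact ⟨⟨_, Subalgebra.algebraMap_mem _ a⟩, (IsScalarTower.algebraMap_apply A C B a).symm⟩
    have hinjR : Function.Injective (algebraMap R B) := hinj.comp Subtype.val_injective
    let bC : Module.Basis (Exp p ι) R C := Module.Basis.mk hx.1 hx.2.ge
    have hprod : monos p (Sum.elim (fun i => algebraMap C B (x i)) y) ∘ (expSum p ι κ).symm =
        fun q : Exp p ι × Exp p κ => bC q.1 • monos p y q.2 := funext fun q => by
      rw [Function.comp_apply, monos_sum, show bC q.1 = monos p x q.1 from Module.Basis.mk_apply _ _ _, Algebra.smul_def,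
        map_pMonomial]
      rfl
    have e1 : EGA41.IsPIndependent p C y ↔ LinearIndependent C (monos p y) :=
      ⟨li_of_range_eq hinj (pPower_range hpowB).ge,
        li_of_range_eq Subtype.val_injective (pPower_range hpowB).le⟩
    have e2 : EGA41.IsPIndependent p A (Sum.elim (fun i => algebraMap C B (x i)) y) ↔
        LinearIndependent R (monos p (Sum.elim (fun i => algebraMap C B (x i)) y)) :=
      ⟨li_of_range_eq hinjR hRB.le, li_of_range_eq Subtype.val_injective hRB.ge⟩
    rw [e1, e2, ← linearIndependent_equiv (expSum p ι κ).symm, hprod]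
    refine ⟨fun h => linearIndependent_smul bC.linearIndependent h, li_of_smul bC⟩

end Groth.Agent.S4518
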