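import Groth.Statements.S4522
import Mathlib.RingTheory.Kaehler.Basic
import Mathlib.Algebra.TrivSqZeroExt.Basic
import Mathlib.FieldTheory.KummerPolynomial
import Mathlib.FieldTheory.Minpoly.Field
import Mathlib.Algebra.CharP.Frobenius
import Mathlib.Order.Zorn


set_option autoImplicit false
universe u
open EGA41 TensorProduct

namespace Groth.Agent.S4522

open TrivSqZeroExt in
theorem exists_extension (p : ℕ) [hp : Fact p.Prime] {R K L : Type u} [Field R] [Field K] [Field L]
    [Algebra R K] [Algebra K L] [Algebra R L] [IsScalarTower R K L] [CharP L p]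
    (hR : Set.range (algebraMap R L) = Set.range fun y : L => y ^ p)
    (hK : ∀ y : L, y ^ p ∈ Set.range (algebraMap K L))
    {V : Type u} [AddCommGroup V] [Module L V] [Module Lᵐᵒᵖ V] [IsCentralScalar L V] [Module K V]
    [IsScalarTower K L V] [Module R V] [IsScalarTower R L V]
    (d : Derivation R K V) : ∃ D : Derivation R L V, ∀ a : K, D (algebraMap K L a) = d a := by
  classical
  -- the graph of `d`
  let γ : K →+* (TrivSqZeroExt L V) :=
    { toFun := fun a => inl (algebraMap K L a) + inr (d a)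
      map_one' := TrivSqZeroExt.ext (by simp) (by simp)
      map_mul' := fun a b => TrivSqZeroExt.ext (by simp) (by
        simp [d.leibniz, algebraMap_smul, op_smul_eq_smul])
      map_zero' := TrivSqZeroExt.ext (by simp) (by simp)
      map_add' := fun a b => TrivSqZeroExt.ext (by simp) (by simp) }
  let π : (TrivSqZeroExt L V) →+* L := (TrivSqZeroExt.fstHom L L V).toRingHom
  have hγ : ∀ a, π (γ a) = algebraMap K L a := fun a => by simp [π, γ]
  let P : Set (Subring (TrivSqZeroExt L V)) := {Γ | γ.range ≤ Γ ∧ Function.Injective (π.comp Γ.subtype)}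
  have h0 : γ.range ∈ P := ⟨le_rfl, fun ⟨x, hx⟩ ⟨y, hy⟩ h => by
    obtain ⟨a, rfl⟩ := hx
    obtain ⟨b, rfl⟩ := hy
    have : algebraMap K L a = algebraMap K L b := by rw [← hγ, ← hγ]; exact h
    exact Subtype.ext (congrArg γ ((algebraMap K L).injective this))⟩
  obtain ⟨Γ, -, hΓ⟩ := zorn_le_nonempty₀ P (fun c hc hchain y hy => by
    refine ⟨sSup c, ⟨(hc hy).1.trans (le_sSup hy), ?_⟩, fun z hz => le_sSup hz⟩
    rintro ⟨x, hx⟩ ⟨x', hx'⟩ h
    obtain ⟨A, hA, hxA⟩ := (Subring.mem_sSup_of_directedOn ⟨y, hy⟩ hchain.directedOn).mp hx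
    obtain ⟨B, hB, hxB⟩ := (Subring.mem_sSup_of_directedOn ⟨y, hy⟩ hchain.directedOn).mp hx'
    obtain ⟨C, hC, hAC, hBC⟩ := hchain.directedOn A hA B hB
    have h' := (hc hC).2 (a₁ := (⟨x, hAC hxA⟩ : C)) (a₂ := (⟨x', hBC hxB⟩ : C)) h
    exact Subtype.ext (congrArg (fun z : C => (z : TrivSqZeroExt L V)) h')) γ.range h0
  obtain ⟨hle, hinj⟩ := hΓ.prop
  -- p-th powers have zero derivative
  have hpow : ∀ y : L, (inl (y ^ p) : (TrivSqZeroExt L V)) ∈ Γ := fun y => by
    obtain ⟨r, hr⟩ := hR.ge ⟨y, rfl⟩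
    refine hle ⟨algebraMap R K r, ?_⟩
    refine TrivSqZeroExt.ext ?_ ?_
    · simp [γ, ← IsScalarTower.algebraMap_apply, hr]
    · simp [γ]
  have hsurj : ∀ x : L, ∃ g : Γ, π g = x := by
    intro x
    by_contra hx
    push Not at hx
    haveI : CharP L p := inferInstance
    have hfield : IsField Γ := by
      refine ⟨⟨0, 1, fun h => zero_ne_one (α := L) (by simpa using congrArg (fun g : Γ => π g) h)⟩, mul_comm, fun {g} hg => ?_⟩
      have hne : π g ≠ 0 := fun h => hg (hinj (h.trans (by simp)))
      obtain ⟨a, ha⟩ := hK (π g)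
      have hc : γ a⁻¹ ∈ Γ := hle ⟨_, rfl⟩
      refine ⟨⟨γ a⁻¹, hc⟩ * g ^ (p - 1), hinj ?_⟩
      change π g * π (γ a⁻¹ * (g : (TrivSqZeroExt L V)) ^ (p - 1)) = π 1
      rw [map_mul, map_pow, hγ, map_inv₀, ha, map_one]
      have : π g ^ p = π g * π g ^ (p - 1) := by
        rw [← pow_succ', Nat.sub_add_cancel hp.out.one_le]
      rw [this]
      field_simp
    letI := hfield.toField
    let σ : Γ →+* L := π.comp Γ.subtype
    letI : Algebra Γ L := σ.toAlgebra
    let c : Γ := ⟨inl (x ^ p), hpow x⟩
    have hirr : Irreducible (Polynomial.X ^ p - Polynomial.C c) := X_pow_sub_C_irreducible_of_prime hp.out fun b hb => hx b (by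
      have h1 : σ b ^ p = x ^ p := by
        rw [← map_pow, hb]; exact TrivSqZeroExt.fst_inl V (x ^ p)
      exact frobenius_inj L p h1)
    have hroot : Polynomial.aeval x (Polynomial.X ^ p - Polynomial.C c) = 0 := by
      simp only [map_sub, map_pow, Polynomial.aeval_X, Polynomial.aeval_C]
      rw [sub_eq_zero]
      exact (TrivSqZeroExt.fst_inl V (x ^ p)).symm
    have hmin := minpoly.eq_of_irreducible_of_monic hirr hroot (Polynomial.monic_X_pow_sub_C c hp.out.ne_zero)
    let ξ : (TrivSqZeroExt L V) := inl x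
    let ev : Polynomial Γ →+* (TrivSqZeroExt L V) := Polynomial.eval₂RingHom Γ.subtype ξ
    have hev : ∀ q, π (ev q) = Polynomial.aeval x q := fun q => by
      show π (Polynomial.eval₂ Γ.subtype ξ q) = _
      rw [Polynomial.hom_eval₂]
      rfl
    have hmax : ev.range ≤ Γ := by
      refine hΓ.le_of_ge ⟨fun t ht => ⟨Polynomial.C ⟨t, hle ht⟩, Polynomial.eval₂_C _ _⟩, ?_⟩
        (fun t ht => ⟨Polynomial.C ⟨t, ht⟩, Polynomial.eval₂_C _ _⟩)
      rintro ⟨t, ⟨q, rfl⟩⟩ ⟨t', ⟨q', rfl⟩⟩ h
      have h1 : Polynomial.aeval x (q - q') = 0 := by rw [map_sub, ← hev, ← hev, sub_eq_zero]; exact h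
      obtain ⟨s, hs⟩ := hmin ▸ minpoly.dvd Γ x h1
      have h2 : ev (Polynomial.X ^ p - Polynomial.C c) = 0 := by
        show Polynomial.eval₂ Γ.subtype ξ _ = 0
        rw [Polynomial.eval₂_sub, Polynomial.eval₂_X_pow, Polynomial.eval₂_C, sub_eq_zero]
        exact TrivSqZeroExt.inl_pow (M := V) x p
      refine Subtype.ext (sub_eq_zero.mp ?_)
      show ev q - ev q' = 0
      rw [← map_sub, hs, map_mul, h2, zero_mul]
    exact hx ⟨ξ, hmax ⟨Polynomial.X, Polynomial.eval₂_X _ _⟩⟩ (TrivSqZeroExt.fst_inl V x)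
  choose g hg using hsurj
  have hadd : ∀ x y, g (x + y) = g x + g y := fun x y => hinj (by
    show π (g (x + y)) = π (g x + g y : Γ)
    rw [hg]; simp [hg])
  have hmul : ∀ x y, g (x * y) = g x * g y := fun x y => hinj (by
    show π (g (x * y)) = π (g x * g y : Γ)
    rw [hg]; simp [hg])
  have hsmul : ∀ (a : K), (g (algebraMap K L a) : (TrivSqZeroExt L V)) = γ a := fun a =>
    congrArg Subtype.val (hinj (a₁ := g (algebraMap K L a)) (a₂ := ⟨γ a, hle ⟨a, rfl⟩⟩) (by
      show π (g (algebraMap K L a)) = π (γ a); rw [hg, hγ]))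
  have hfst : ∀ x, (g x : (TrivSqZeroExt L V)).fst = x := hg
  let L₀ : L →ₗ[R] V :=
    { toFun := fun x => (g x : (TrivSqZeroExt L V)).snd
      map_add' := fun x y => by rw [hadd]; rfl
      map_smul' := fun r x => by
        rw [Algebra.smul_def, hmul, IsScalarTower.algebraMap_apply R K L]
        show ((g (algebraMap K L (algebraMap R K r)) : (TrivSqZeroExt L V)) * (g x : (TrivSqZeroExt L V))).snd = _
        rw [hsmul, TrivSqZeroExt.snd_mul, op_smul_eq_smul]
        simp [γ, hfst, ← IsScalarTower.algebraMap_apply, algebraMap_smul] }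
  refine ⟨Derivation.mk' L₀ fun x y => ?_, fun a => ?_⟩
  · show (g (x * y) : (TrivSqZeroExt L V)).snd = x • (g y : (TrivSqZeroExt L V)).snd + y • (g x : (TrivSqZeroExt L V)).snd
    rw [hmul]
    show ((g x : (TrivSqZeroExt L V)) * (g y : (TrivSqZeroExt L V))).snd = _
    rw [TrivSqZeroExt.snd_mul, op_smul_eq_smul, hfst, hfst]
  · show (g (algebraMap K L a) : (TrivSqZeroExt L V)).snd = d a
    rw [hsmul]
    simp [γ]

/-- Let L be a field of characteristic p > 0 and K a subfield with L^p ⊆ K ⊆ L (here R → K → L with the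
image of R in L the set of p-th powers and every p-th power of L in the image of K). Then the
canonical L-linear map L ⊗_K Ω_{K/L^p} → Ω_{L/L^p} is injective, so that 0 → Ω_{K/L^p} ⊗_K L →
Ω_{L/L^p} → Ω_{L/K} → 0 is exact: the imperfection module of L over K relative to L^p vanishes. -/
theorem result (p : ℕ) [Fact p.Prime] {R K L : Type u} [Field R] [Field K] [Field L]
    [Algebra R K] [Algebra K L] [Algebra R L] [IsScalarTower R K L] [CharP L p]
    (hR : Set.range (algebraMap R L) = Set.range fun y : L => y ^ p)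
    (hK : ∀ y : L, y ^ p ∈ Set.range (algebraMap K L)) :
    Function.Injective (KaehlerDifferential.mapBaseChange R K L) := by
  classical
  let V := L ⊗[K] (Ω[K⁄R])
  haveI : IsCentralScalar L V := ⟨fun r v => by
    induction v using TensorProduct.induction_on with
    | zero => rw [smul_zero, smul_zero]
    | add a b ha hb => rw [smul_add, smul_add, ha, hb]
    | tmul a b => rw [TensorProduct.smul_tmul', TensorProduct.smul_tmul', op_smul_eq_smul]⟩
  let d : Derivation R K V := ((TensorProduct.mk K L (Ω[K⁄R])) 1).compDer (KaehlerDifferential.D R K)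
  obtain ⟨D, hD⟩ := exists_extension p hR hK d
  have h : D.liftKaehlerDifferential ∘ₗ KaehlerDifferential.mapBaseChange R K L = LinearMap.id := by
    refine TensorProduct.AlgebraTensorModule.ext fun c w => ?_
    show D.liftKaehlerDifferential (KaehlerDifferential.mapBaseChange R K L (c ⊗ₜ w)) = c ⊗ₜ w
    have key : ∀ w, D.liftKaehlerDifferential (KaehlerDifferential.map R R K L w) = (1 : L) ⊗ₜ[K] w := fun w => by
      have hw : w ∈ Submodule.span K (Set.range (KaehlerDifferential.D R K)) := by
        rw [KaehlerDifferential.span_range_derivation]; trivial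
      induction hw using Submodule.span_induction with
      | mem x hx =>
        obtain ⟨a, rfl⟩ := hx
        rw [KaehlerDifferential.map_D, D.liftKaehlerDifferential_comp_D, hD]
        rfl
      | zero => simp
      | add x y _ _ hx hy => rw [map_add, map_add, hx, hy, TensorProduct.tmul_add]
      | smul a x _ hx =>
        rw [map_smul, ← algebraMap_smul L a, map_smul, hx, TensorProduct.tmul_smul, algebraMap_smul]
    rw [KaehlerDifferential.mapBaseChange_tmul, map_smul, key, TensorProduct.smul_tmul', smul_eq_mul, mul_one]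
  exact Function.LeftInverse.injective (g := D.liftKaehlerDifferential) fun z => LinearMap.congr_fun h z


end Groth.Agent.S4522
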