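import Groth.Statements.S4524
import Groth.Agent.H21.KBasis
import Mathlib.RingTheory.Unramified.Field
import Mathlib.FieldTheory.Perfect


set_option autoImplicit false
universe u
open EGA41

namespace Groth.Agent.S4524

/-- Let k be a field of characteristic 0 and K an extension of k. Then Ω_{K/k} = 0 if and only if K is
an algebraic extension of k. -/
theorem result {k K : Type u} [Field k] [CharZero k] [Field K] [Algebra k K] :
    Subsingleton (Ω[K⁄k]) ↔ Algebra.IsAlgebraic k K := by
  classical
  constructor
  · intro h
    obtain ⟨s, hs⟩ := exists_isTranscendenceBasis k K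
    haveI : Algebra.IsAlgebraic (IntermediateField.adjoin k (Set.range ((↑) : s → K))) K :=
      hs.isAlgebraic_field
    haveI : CharZero (IntermediateField.adjoin k (Set.range ((↑) : s → K))) :=
      charZero_of_injective_algebraMap (RingHom.injective (algebraMap k _))
    haveI : Algebra.IsSeparable (IntermediateField.adjoin k (Set.range ((↑) : s → K))) K := inferInstance
    obtain ⟨b, -⟩ := Groth.Agent.H21.KBasis.exists_basis_of_isSeparable hs.1 ‹_›
    haveI := h
    haveI : IsEmpty s := ⟨fun i => b.ne_zero i (Subsingleton.elim _ _)⟩
    exact hs.isEmpty_iff_isAlgebraic.mp inferInstance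
  · intro h
    haveI : Algebra.IsSeparable k K := inferInstance
    haveI : Algebra.FormallyUnramified k K := Algebra.FormallyUnramified.of_isSeparable k K
    infer_instance


end Groth.Agent.S4524
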