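import Groth.Statements.S4528
import Groth.Agent.Lib.Adic.Complete
import Mathlib.RingTheory.AdicCompletion.Functoriality
import Mathlib.RingTheory.Kaehler.Basic
import Mathlib.LinearAlgebra.TensorProduct.Quotient

set_option autoImplicit false
universe u
open EGA41

namespace Groth.Agent.S4528

open IsLocalRing in
/-- Let k be a field (any characteristic) and A a complete Noetherian local k-algebra whose residue
field K is an extension of finite type of k. Then the completed module of differentials, i.e. the
𝔪-adic completion of Ω_{A/k}, is an A-module of finite type. -/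
theorem result {k A : Type u} [Field k] [CommRing A] [IsLocalRing A]
    [IsNoetherianRing A] [IsAdicComplete (maximalIdeal A) A] [Algebra k A]
    [Algebra.EssFiniteType k (ResidueField A)] :
    Module.Finite A (AdicCompletion (maximalIdeal A) (Ω[A⁄k])) := by
  let K := IsLocalRing.ResidueField A
  let M := Ω[A⁄k]
  let m := IsLocalRing.maximalIdeal A
  have hsurj : Function.Surjective (algebraMap A K) := IsLocalRing.residue_surjective
  haveI hKfin : Module.Finite A K := Module.Finite.of_surjective (Algebra.linearMap A K) hsurj
  haveI : Module.Finite K (Ω[K⁄k]) := inferInstance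
  haveI : Module.Finite A (Ω[K⁄k]) := Module.Finite.trans K _
  haveI : Module.Finite A (TensorProduct A K M) := by
    let f := (KaehlerDifferential.mapBaseChange k A K).restrictScalars A
    let g := KaehlerDifferential.kerCotangentToTensor k A K
    haveI : Module.Finite A ↥(RingHom.ker (algebraMap A K)) :=
      Module.Finite.iff_fg.2 (IsNoetherian.noetherian _)
    haveI : Module.Finite A (RingHom.ker (algebraMap A K)).Cotangent :=
      Module.Finite.of_surjective _ (Ideal.toCotangent_surjective _)
    have hex : Function.Exact g f := KaehlerDifferential.exact_kerCotangentToTensor_mapBaseChange k A K hsurj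
    haveI : Module.Finite A (LinearMap.ker f) := by
      rw [hex.linearMap_ker_eq]; infer_instance
    haveI := Module.Finite.equiv f.quotKerEquivRange.symm
    exact Module.Finite.of_submodule_quotient (LinearMap.ker f)
  haveI hq : Module.Finite A (M ⧸ (m • ⊤ : Submodule A M)) :=
    haveI : Module.Finite A (TensorProduct A (A ⧸ m) M) := ‹Module.Finite A (TensorProduct A K M)›
    Module.Finite.equiv (TensorProduct.quotTensorEquivQuotSMul M m)
  obtain ⟨n, e, he⟩ := Module.Finite.exists_fin' A (M ⧸ (m • ⊤ : Submodule A M))
  obtain ⟨f, hf⟩ := Module.projective_lifting_property (Submodule.mkQ (m • ⊤ : Submodule A M)) e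
    (Submodule.mkQ_surjective _)
  have h : Function.Surjective (Submodule.mkQ (m • ⊤) ∘ₗ f) := hf ▸ he
  haveI : IsAdicComplete m (Fin n → A) := Groth.Agent.Lib.Adic.Complete.isAdicComplete_of_finite
  haveI : Module.Finite A (AdicCompletion m (Fin n → A)) :=
    Module.Finite.equiv (AdicCompletion.ofLinearEquiv m (Fin n → A))
  exact Module.Finite.of_surjective ((AdicCompletion.map m f).restrictScalars A)
    (AdicCompletion.map_surjective_of_mkQ_comp_surjective h)

end Groth.Agent.S4528
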