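import Groth.Statements.S4529
import Mathlib.RingTheory.Nakayama
import Mathlib.RingTheory.FiniteType
import Mathlib.RingTheory.Noetherian.Orzech
import Mathlib.Algebra.Module.Projective
import Mathlib.RingTheory.Finiteness.Basic
import Mathlib.RingTheory.Nilpotent.Basic


set_option autoImplicit false
universe u
open EGA41

namespace Groth.Agent.S4529

/-- Let A be a ring, M, N two A-modules with N projective, u : M → N a homomorphism and J an ideal of A;
suppose either (i) J is nilpotent, or (ii) J is contained in the Jacobson radical of A and M is of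
finite type. Then u is left invertible if and only if the induced map u₀ : M/JM → N/JN is left
invertible. (A left inverse of u₀ composed with N → N/JN is an A-linear map v : N → M/JM with v ∘ u
the projection, and conversely; the right-hand side is written in that form.) -/
theorem result {A : Type u} [CommRing A] {M N : Type u} [AddCommGroup M] [Module A M]
    [AddCommGroup N] [Module A N] [Module.Projective A N] (u : M →ₗ[A] N) (J : Ideal A)
    (hJ : IsNilpotent J ∨ (J ≤ (⊥ : Ideal A).jacobson ∧ Module.Finite A M)) :
    (∃ w : N →ₗ[A] M, w ∘ₗ u = LinearMap.id) ↔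
      ∃ v : N →ₗ[A] M ⧸ (J • ⊤ : Submodule A M), v ∘ₗ u = (J • ⊤ : Submodule A M).mkQ := by
  classical
  constructor
  · rintro ⟨w, hw⟩
    exact ⟨(J • ⊤ : Submodule A M).mkQ ∘ₗ w, by rw [LinearMap.comp_assoc, hw, LinearMap.comp_id]⟩
  rintro ⟨v, hv⟩
  obtain ⟨w, hw⟩ := Module.projective_lifting_property (J • ⊤ : Submodule A M).mkQ v (Submodule.mkQ_surjective _)
  let δ : M →ₗ[A] M := w ∘ₗ u - LinearMap.id
  have hδ : ∀ x, δ x ∈ (J • ⊤ : Submodule A M) := fun x => by
    rw [← Submodule.Quotient.mk_eq_zero]
    have h := LinearMap.congr_fun hv x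
    rw [← hw] at h
    simp only [LinearMap.comp_apply, Submodule.mkQ_apply] at h
    simp [δ, h]
  have hbij : Function.Bijective (w ∘ₗ u) := by
    rcases hJ with ⟨k, hk⟩ | ⟨hjac, hfin⟩
    · have hpow : ∀ (j : ℕ) (x : M), (δ ^ j) x ∈ (J ^ j • ⊤ : Submodule A M) := fun j => by
        induction j with
        | zero => intro x; simp
        | succ j ih =>
          intro x
          rw [pow_succ' δ j, Module.End.mul_apply]
          have hmap : Submodule.map δ (J ^ j • ⊤ : Submodule A M) ≤ (J ^ (j + 1) • ⊤ : Submodule A M) := by
            rw [Submodule.map_smul'', pow_succ, Submodule.mul_smul]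
            refine Submodule.smul_mono le_rfl ?_
            rintro _ ⟨y, -, rfl⟩
            exact hδ y
          exact hmap (Submodule.mem_map_of_mem (ih x))
      have hnil : IsNilpotent δ := ⟨k, LinearMap.ext fun x => by
        have h := hpow k x
        rw [hk] at h
        simpa using h⟩
      have hu : IsUnit (w ∘ₗ u) := by
        rw [show w ∘ₗ u = 1 + δ from LinearMap.ext fun x => by simp [δ]]
        exact hnil.isUnit_one_add
      exact (Module.End.isUnit_iff _).mp hu
    · have hsurj : Function.Surjective (w ∘ₗ u) := by
        rw [← LinearMap.range_eq_top, ← top_le_iff]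
        refine Submodule.le_of_le_smul_of_le_jacobson_bot Module.Finite.fg_top hjac fun x _ => ?_
        rw [show x = (w ∘ₗ u) x + (-δ x) by simp [δ]]
        exact Submodule.add_mem_sup ⟨x, rfl⟩ (neg_mem (hδ x))
      exact ⟨OrzechProperty.injective_of_surjective_endomorphism _ hsurj, hsurj⟩
  let e := LinearEquiv.ofBijective (w ∘ₗ u) hbij
  exact ⟨e.symm.toLinearMap ∘ₗ w, LinearMap.ext fun x => e.symm_apply_apply x⟩


end Groth.Agent.S4529
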