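import Groth.Statements.S4530
import Groth.Agent.Lib.LeftInv45.Basic
import Mathlib.RingTheory.Spectrum.Prime.Topology


set_option autoImplicit false
universe u
open EGA41 TensorProduct

namespace Groth.Agent.S4530

open TensorProduct in
/-- Let A be a ring, M an A-module of finite type, N a projective A-module, u : M → N a homomorphism.
For a prime ideal 𝔭 the following are equivalent: (a) u_𝔭 : M_𝔭 → N_𝔭 is left invertible; (b) u ⊗ 1
: M ⊗ k(𝔭) → N ⊗ k(𝔭) is injective; (d) there is f ∉ 𝔭 with u_f : M_f → N_f left invertible.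
Moreover the set of such 𝔭 is open in Spec A. (The published statement also has a determinant
criterion (c); this row omits it.) -/
theorem result {A : Type u} [CommRing A] {M N : Type u} [AddCommGroup M] [Module A M]
    [Module.Finite A M] [AddCommGroup N] [Module A N] [Module.Projective A N] (u : M →ₗ[A] N) :
    (∀ p : PrimeSpectrum A,
      [∃ w : LocalizedModule p.asIdeal.primeCompl N →ₗ[A] LocalizedModule p.asIdeal.primeCompl M,
          w ∘ₗ LocalizedModule.map p.asIdeal.primeCompl u = LinearMap.id,
       Function.Injective (u.lTensor p.asIdeal.ResidueField),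
       ∃ f : A, f ∉ p.asIdeal ∧
          ∃ w : LocalizedModule (Submonoid.powers f) N →ₗ[A] LocalizedModule (Submonoid.powers f) M,
            w ∘ₗ LocalizedModule.map (Submonoid.powers f) u = LinearMap.id].TFAE) ∧
    IsOpen {p : PrimeSpectrum A |
      ∃ w : LocalizedModule p.asIdeal.primeCompl N →ₗ[A] LocalizedModule p.asIdeal.primeCompl M,
        w ∘ₗ LocalizedModule.map p.asIdeal.primeCompl u = LinearMap.id} := by
  classical
  have hab : ∀ p : PrimeSpectrum A, (∃ w : LocalizedModule p.asIdeal.primeCompl N →ₗ[A] LocalizedModule p.asIdeal.primeCompl M,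
      w ∘ₗ LocalizedModule.map p.asIdeal.primeCompl u = LinearMap.id) → Function.Injective (u.lTensor p.asIdeal.ResidueField) :=
    fun p ⟨w, hw⟩ => Lib.LeftInv45.injective_of_localized_inverse u _ p.asIdeal (fun _ hs => hs) w hw
  refine ⟨fun p => ?_, ?_⟩
  · tfae_have 1 → 2 := hab p
    tfae_have 2 → 3 := fun h => by
      obtain ⟨f, hf, w, hw⟩ := Lib.LeftInv45.exists_smul_id_of_injective u p.asIdeal h
      exact ⟨f, hf, Lib.LeftInv45.exists_localized_inverse u _ (Submonoid.mem_powers f) hw⟩
    tfae_have 3 → 2 := by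
      rintro ⟨f, hf, w, hw⟩
      exact Lib.LeftInv45.injective_of_localized_inverse u _ p.asIdeal (by
        rintro _ ⟨n, rfl⟩ hmem
        exact hf (p.2.mem_of_pow_mem n hmem)) w hw
    tfae_have 2 → 1 := fun h => by
      obtain ⟨f, hf, w, hw⟩ := Lib.LeftInv45.exists_smul_id_of_injective u p.asIdeal h
      exact Lib.LeftInv45.exists_localized_inverse u _ (show f ∈ p.asIdeal.primeCompl from hf) hw
    tfae_finish
  · rw [isOpen_iff_forall_mem_open]
    intro p hp
    obtain ⟨f, hf, w, hw⟩ := Lib.LeftInv45.exists_smul_id_of_injective u p.asIdeal (hab p hp)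
    exact ⟨PrimeSpectrum.basicOpen f, fun q hq => Lib.LeftInv45.exists_localized_inverse u _
      (show f ∈ q.asIdeal.primeCompl from hq) hw, (PrimeSpectrum.basicOpen f).2, hf⟩


end Groth.Agent.S4530
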