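import Groth.Statements.S4531
import Groth.Agent.Lib.LeftInv45.Basic
import Mathlib.RingTheory.Flat.FaithfullyFlat.Algebra
import Mathlib.LinearAlgebra.TensorProduct.Associator


set_option autoImplicit false
universe u
open EGA41 TensorProduct

namespace Groth.Agent.S4531

open TensorProduct in
/-- Let A be a ring, M an A-module of finite type, N a projective A-module and u : M → N a homomorphism.
(i) u is left invertible if and only if u_𝔪 : M_𝔪 → N_𝔪 is left invertible for every maximal ideal 𝔪
of A. (ii) If A' is an A-algebra which is a faithfully flat A-module, u is left invertible if and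
only if u ⊗ 1 : M ⊗_A A' → N ⊗_A A' is left invertible (as an A'-linear map). -/
theorem result {A : Type u} [CommRing A] {M N : Type u} [AddCommGroup M] [Module A M]
    [Module.Finite A M] [AddCommGroup N] [Module A N] [Module.Projective A N] (u : M →ₗ[A] N) :
    ((∃ w : N →ₗ[A] M, w ∘ₗ u = LinearMap.id) ↔
      ∀ (m : Ideal A) [m.IsMaximal],
        ∃ w : LocalizedModule m.primeCompl N →ₗ[A] LocalizedModule m.primeCompl M,
          w ∘ₗ LocalizedModule.map m.primeCompl u = LinearMap.id) ∧
    ∀ (A' : Type u) [CommRing A'] [Algebra A A'] [Module.FaithfullyFlat A A'],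
      (∃ w : N →ₗ[A] M, w ∘ₗ u = LinearMap.id) ↔
        ∃ w : A' ⊗[A] N →ₗ[A'] A' ⊗[A] M, w ∘ₗ u.baseChange A' = LinearMap.id := by
  classical
  constructor
  · constructor
    · rintro ⟨w, hw⟩ m hm
      haveI := hm.isPrime
      exact Lib.LeftInv45.exists_localized_inverse u _ (one_mem m.primeCompl) (w := w) (by rw [one_smul, hw])
    · intro h
      refine Lib.LeftInv45.exists_leftInverse_of_forall_maximal u fun m hm => ?_
      haveI := hm.isPrime
      obtain ⟨w, hw⟩ := h m
      exact Lib.LeftInv45.exists_smul_id_of_injective u m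
        (Lib.LeftInv45.injective_of_localized_inverse u _ m (fun _ hs => hs) w hw)
  intro A' _ _ _
  constructor
  · rintro ⟨w, hw⟩
    exact ⟨w.baseChange A', by rw [← LinearMap.baseChange_comp, hw, LinearMap.baseChange_id]⟩
  rintro ⟨w, hw⟩
  refine Lib.LeftInv45.exists_leftInverse_of_forall_maximal u fun m hm => ?_
  haveI := hm.isPrime
  refine Lib.LeftInv45.exists_smul_id_of_injective u m ((injective_iff_map_eq_zero _).mpr fun z hz => ?_)
  let k := m.ResidueField
  let η : k ⊗[A] M →ₗ[A] k ⊗[A] (A' ⊗[A] M) := (TensorProduct.mk A A' M 1).lTensor k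
  let η' : k ⊗[A] N →ₗ[A] k ⊗[A] (A' ⊗[A] N) := (TensorProduct.mk A A' N 1).lTensor k
  have hη : Function.Injective η := by
    have h1 := Module.FaithfullyFlat.tensorProduct_mk_injective (A := A) (B := A') (k ⊗[A] M)
    have h2 : η = (TensorProduct.leftComm A A' k M).toLinearMap ∘ₗ TensorProduct.mk A A' (k ⊗[A] M) 1 :=
      TensorProduct.ext' fun c x => by simp [η]
    rw [h2]
    exact (TensorProduct.leftComm A A' k M).injective.comp h1
  have hcomm : LinearMap.lTensor k ((u.baseChange A').restrictScalars A) ∘ₗ η = η' ∘ₗ u.lTensor k :=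
    TensorProduct.ext' fun c x => by simp [η, η']
  have h3 : LinearMap.lTensor k ((u.baseChange A').restrictScalars A) (η z) = 0 := by
    rw [← LinearMap.comp_apply, hcomm, LinearMap.comp_apply, hz, map_zero]
  have h4 : LinearMap.lTensor k ((w.restrictScalars A) ∘ₗ (u.baseChange A').restrictScalars A) (η z) = η z := by
    rw [← LinearMap.restrictScalars_comp, hw]
    simp
  rw [LinearMap.lTensor_comp, LinearMap.comp_apply, h3, map_zero] at h4
  exact hη (by rw [← h4, map_zero])


end Groth.Agent.S4531
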