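import Groth.Statements.S4532
import Groth.Agent.Lib.Smoothing.SymSmooth

set_option autoImplicit false
universe u
open EGA41

namespace Groth.Agent.S4532

/-- Let A be a discrete ring and V a projective A-module. Then the symmetric algebra of V over A, with
the discrete topology, is a formally smooth A-algebra. -/
theorem result (A : Type u) [CommRing A] (V : Type u) [AddCommGroup V] [Module A V]
    [Module.Projective A V] : Algebra.FormallySmooth A (SymmetricAlgebra A V) := by
  exact Groth.Agent.Lib.Smoothing.SymSmooth.formallySmooth


end Groth.Agent.S4532
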