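import Groth.Statements.S4534
import Groth.Agent.Lib.FSAdic.Basic

set_option autoImplicit false
universe u
open EGA41

namespace Groth.Agent.S4534

open Groth.Agent.Lib.FSAdic.Basic

/-- Let A → B → C be continuous homomorphisms of adic rings (A with the 𝔞-adic, B the 𝔟-adic, C the
𝔠-adic topology; continuity: a power of 𝔞 maps into 𝔟 and a power of 𝔟 into 𝔠). If B is formally
smooth over A and C formally smooth over B, then C is formally smooth over A. -/
theorem result {A B C : Type u} [CommRing A] [CommRing B] [CommRing C] [Algebra A B] [Algebra B C]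
    [Algebra A C] [IsScalarTower A B C] (𝔞 : Ideal A) (𝔟 : Ideal B) (𝔠 : Ideal C)
    (hAB : ∃ k : ℕ, (𝔞 ^ k).map (algebraMap A B) ≤ 𝔟) (hBC : ∃ k : ℕ, (𝔟 ^ k).map (algebraMap B C) ≤ 𝔠)
    (hB : EGA41.IsFormallySmoothAdic A 𝔞 B 𝔟) (hC : EGA41.IsFormallySmoothAdic B 𝔟 C 𝔠) :
    EGA41.IsFormallySmoothAdic A 𝔞 C 𝔠 := by
  intro D _ _ J hJ ha u ⟨k, hk⟩
  obtain ⟨kb, hkb⟩ := hBC
  -- restrict to `B`
  let uB : B →ₐ[A] D ⧸ J := u.comp (IsScalarTower.toAlgHom A B C)
  have huB : Kills 𝔟 uB := by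
    refine ⟨kb * k, fun x hx => hk _ ?_⟩
    rw [pow_mul] at hx
    refine Ideal.pow_right_mono hkb k ?_
    rw [← Ideal.map_pow]
    exact Ideal.mem_map_of_mem _ hx
  obtain ⟨v, hv, n, hn⟩ := exists_lift hB (Ideal.Quotient.mkₐ A J) Ideal.Quotient.mk_surjective
    (by rw [show RingHom.ker (Ideal.Quotient.mkₐ A J).toRingHom = J from Ideal.mk_ker]; exact hJ)
    ha uB huB
  letI : Algebra B D := v.toRingHom.toAlgebra
  haveI : IsScalarTower A B D := IsScalarTower.of_algebraMap_eq fun a => (v.commutes a).symm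
  let u' : C →ₐ[B] D ⧸ J :=
    { u with commutes' := fun b => (AlgHom.congr_fun hv b).symm }
  obtain ⟨w, hw⟩ := hC D J hJ ⟨n, by
    rw [Ideal.map_eq_bot_iff_le_ker]; exact fun x hx => hn x hx⟩ u' ⟨k, hk⟩
  exact ⟨w.restrictScalars A, AlgHom.ext fun c => AlgHom.congr_fun hw c⟩

end Groth.Agent.S4534
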