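import Groth.Statements.S4535
import Groth.Agent.Lib.FSAdic.Basic

set_option autoImplicit false
universe u
open EGA41

namespace Groth.Agent.S4535

open Groth.Agent.Lib.FSAdic.Basic

open TensorProduct in
/-- Let B (𝔟-adic) be formally smooth over A (𝔞-adic) and let A' (𝔞'-adic) be a topological A-algebra (a
power of 𝔞 maps into 𝔞'). Then the A'-algebra A' ⊗_A B, with the tensor product topology, i.e. the
adic topology of the ideal generated by the images of 𝔞' and 𝔟, is formally smooth over A'. -/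
theorem result {A B A' : Type u} [CommRing A] [CommRing B] [CommRing A'] [Algebra A B] [Algebra A A']
    (𝔞 : Ideal A) (𝔟 : Ideal B) (𝔞' : Ideal A') (hAA' : ∃ k : ℕ, (𝔞 ^ k).map (algebraMap A A') ≤ 𝔞')
    (hB : EGA41.IsFormallySmoothAdic A 𝔞 B 𝔟) :
    EGA41.IsFormallySmoothAdic A' 𝔞' (A' ⊗[A] B)
      (𝔞'.map (algebraMap A' (A' ⊗[A] B)) ⊔
        𝔟.map (Algebra.TensorProduct.includeRight : B →ₐ[A] A' ⊗[A] B).toRingHom) := by
  refine of_sqZero fun D _ _ J hJ ha u hu => ?_
  obtain ⟨k, hk⟩ := hu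
  obtain ⟨m, hm⟩ := hAA'
  obtain ⟨n, hn⟩ := ha
  letI : Algebra A D := ((algebraMap A' D).comp (algebraMap A A')).toAlgebra
  haveI : IsScalarTower A A' D := IsScalarTower.of_algebraMap_eq' rfl
  haveI : IsScalarTower A A' (D ⧸ J) := IsScalarTower.of_algebraMap_eq' rfl
  let uB : B →ₐ[A] D ⧸ J := (u.restrictScalars A).comp Algebra.TensorProduct.includeRight
  obtain ⟨v, hv⟩ := hB D J ⟨2, hJ⟩ ⟨m * n, by
    rw [Ideal.map_eq_bot_iff_le_ker]
    intro x hx
    rw [pow_mul] at hx
    have h1 : algebraMap A A' x ∈ 𝔞' ^ n := by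
      refine Ideal.pow_right_mono hm n ?_
      rw [← Ideal.map_pow]
      exact Ideal.mem_map_of_mem _ hx
    have h2 := Ideal.mem_map_of_mem (algebraMap A' D) h1
    rw [hn] at h2
    rw [RingHom.mem_ker]
    exact h2⟩ uB ⟨k, fun x hx => hk _ (Ideal.pow_right_mono le_sup_right k (by
      rw [← Ideal.map_pow]; exact Ideal.mem_map_of_mem _ hx))⟩
  refine ⟨Algebra.TensorProduct.lift (Algebra.ofId A' D) v (fun _ _ => Commute.all _ _), ?_⟩
  refine Algebra.TensorProduct.ext (Subsingleton.elim _ _) ?_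
  ext b
  simpa [uB] using AlgHom.congr_fun hv b

end Groth.Agent.S4535
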