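import Groth.Statements.S4536
import Groth.Agent.Lib.FSAdic.Basic

set_option autoImplicit false
universe u
open EGA41

namespace Groth.Agent.S4536

open Groth.Agent.Lib.FSAdic.Basic

/-- Let A carry the 𝔞-adic and B the 𝔟-adic topology, A → B being continuous (a power of 𝔞 maps into 𝔟).
Then B is formally smooth over A if and only if for every n the (A/𝔞ⁿ)-algebra B/𝔞ⁿB, with the adic
topology of the image of 𝔟, is formally smooth over the discrete ring A/𝔞ⁿ. -/
theorem result {A B : Type u} [CommRing A] [CommRing B] [Algebra A B]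
    (𝔞 : Ideal A) (𝔟 : Ideal B) (hAB : ∃ k : ℕ, (𝔞 ^ k).map (algebraMap A B) ≤ 𝔟) :
    EGA41.IsFormallySmoothAdic A 𝔞 B 𝔟 ↔
      ∀ n : ℕ, EGA41.IsFormallySmoothAdic (A ⧸ 𝔞 ^ n) ⊥ (B ⧸ (𝔞 ^ n).map (algebraMap A B))
        (𝔟.map (Ideal.Quotient.mk ((𝔞 ^ n).map (algebraMap A B)))) := by
  constructor
  · intro h n C _ _ J hJ _ u ⟨k, hk⟩
    letI : Algebra A C := ((algebraMap (A ⧸ 𝔞 ^ n) C).comp (algebraMap A (A ⧸ 𝔞 ^ n))).toAlgebra
    haveI : IsScalarTower A (A ⧸ 𝔞 ^ n) C := IsScalarTower.of_algebraMap_eq' rfl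
    haveI : IsScalarTower A (A ⧸ 𝔞 ^ n) (C ⧸ J) := IsScalarTower.of_algebraMap_eq' rfl
    have hC : (𝔞 ^ n).map (algebraMap A C) = ⊥ := by
      rw [Ideal.map_eq_bot_iff_le_ker]
      intro x hx
      rw [RingHom.mem_ker, IsScalarTower.algebraMap_apply A (A ⧸ 𝔞 ^ n) C,
        Ideal.Quotient.algebraMap_eq, Ideal.Quotient.eq_zero_iff_mem.2 hx, map_zero]
    obtain ⟨v, hv⟩ := h C J hJ ⟨n, hC⟩ ((u.restrictScalars A).comp (Ideal.Quotient.mkₐ A _))
      ⟨k, fun x hx => hk _ (by rw [← Ideal.map_pow]; exact Ideal.mem_map_of_mem _ hx)⟩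
    have hker : ∀ x ∈ (𝔞 ^ n).map (algebraMap A B), v x = 0 := by
      intro x hx
      have : (𝔞 ^ n).map (algebraMap A B) ≤ RingHom.ker v.toRingHom := by
        refine Ideal.map_le_iff_le_comap.2 fun a ha' => ?_
        have h0 := Ideal.mem_map_of_mem (algebraMap A C) ha'
        rw [hC] at h0
        rw [Ideal.mem_comap, RingHom.mem_ker]
        exact (v.commutes a).trans h0
      exact this hx
    let w := Ideal.Quotient.liftₐ _ v hker
    refine ⟨{ w with commutes' := fun r => ?_ }, ?_⟩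
    · obtain ⟨a, rfl⟩ := Ideal.Quotient.mk_surjective r
      exact v.commutes a
    · ext x
      obtain ⟨b, rfl⟩ := Ideal.Quotient.mk_surjective x
      exact AlgHom.congr_fun hv b
  · intro h
    refine of_sqZero fun C _ _ J hJ ⟨n, hn⟩ u ⟨k, hk⟩ => ?_
    have hA : ∀ a ∈ 𝔞 ^ n, algebraMap A C a = 0 := fun a ha' => by
      have h0 := Ideal.mem_map_of_mem (algebraMap A C) ha'
      rw [hn] at h0
      exact h0
    letI : Algebra (A ⧸ 𝔞 ^ n) C := (Ideal.Quotient.lift _ (algebraMap A C) hA).toAlgebra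
    haveI : IsScalarTower A (A ⧸ 𝔞 ^ n) C := IsScalarTower.of_algebraMap_eq fun a => rfl
    have hB' : ∀ x ∈ (𝔞 ^ n).map (algebraMap A B), u x = 0 := by
      intro x hx
      have : (𝔞 ^ n).map (algebraMap A B) ≤ RingHom.ker u.toRingHom := by
        refine Ideal.map_le_iff_le_comap.2 fun a ha' => ?_
        rw [Ideal.mem_comap, RingHom.mem_ker]
        refine (u.commutes a).trans ?_
        rw [IsScalarTower.algebraMap_apply A C (C ⧸ J), hA a ha', map_zero]
      exact this hx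
    let w := Ideal.Quotient.liftₐ _ u hB'
    let w' : (B ⧸ (𝔞 ^ n).map (algebraMap A B)) →ₐ[A ⧸ 𝔞 ^ n] C ⧸ J :=
      { w with
        commutes' := fun r => by
          obtain ⟨a, rfl⟩ := Ideal.Quotient.mk_surjective r
          exact u.commutes a }
    obtain ⟨v, hv⟩ := h n C J ⟨2, hJ⟩ ⟨1, by simp⟩ w' ⟨k, fun x hx => by
      rw [← Ideal.map_pow, Ideal.mem_map_iff_of_surjective _ Ideal.Quotient.mk_surjective] at hx
      obtain ⟨b, hb, rfl⟩ := hx
      exact hk b hb⟩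
    exact ⟨(v.restrictScalars A).comp (Ideal.Quotient.mkₐ A _),
      AlgHom.ext fun b => AlgHom.congr_fun hv _⟩

end Groth.Agent.S4536
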