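import Groth.Statements.S4539
import Groth.Agent.H68.CohenFS
import Mathlib.RingTheory.DiscreteValuationRing.TFAE
import Mathlib.RingTheory.Flat.TorsionFree
import Mathlib.RingTheory.DedekindDomain.Dvr
import Mathlib.Data.Nat.Prime.Int
import Mathlib.RingTheory.Localization.AtPrime.Basic

set_option autoImplicit false
universe u
open EGA41

namespace Groth.Agent.S4539

open IsLocalRing in
/-- Let A be a local ring with residue characteristic p (p = 0 or a prime), P the prime local ring ℤ_(p)
(ℚ if p = 0) and P → A its unique local homomorphism. Then A is a Cohen ring, i.e. a Cohen P-algebra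
— Noetherian and complete, flat over P, with pA its maximal ideal (and residue field separable over
the prime field) — if and only if A is a field of characteristic 0 or a complete discrete valuation
ring of residue characteristic > 0 whose maximal ideal is generated by p·1. -/
theorem result (p : ℕ) [hp : (Ideal.span {(p : ℤ)}).IsPrime]
    {A : Type} [CommRing A] [IsLocalRing A] [CharP (ResidueField A) p]
    [Algebra (Localization.AtPrime (Ideal.span {(p : ℤ)})) A]
    [IsLocalHom (algebraMap (Localization.AtPrime (Ideal.span {(p : ℤ)})) A)] :
    EGA41.IsCohenAlgebra (Localization.AtPrime (Ideal.span {(p : ℤ)})) A ↔ EGA41.IsCohenRingEGA A := by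
  let P := Localization.AtPrime (Ideal.span {(p : ℤ)})
  have hcp : CharP (ResidueField A) p := inferInstance
  have hmP : maximalIdeal P = Ideal.span {(p : P)} := by
    rw [← Localization.AtPrime.map_eq_maximalIdeal, Ideal.map_span, Set.image_singleton, map_natCast]
  have hmap : (maximalIdeal P).map (algebraMap P A) = Ideal.span {(p : A)} := by
    rw [hmP, Ideal.map_span, Set.image_singleton, map_natCast]
  have hpA : (p : A) ∈ maximalIdeal A := by
    rw [← residue_eq_zero_iff, map_natCast, CharP.cast_eq_zero]
  constructor
  · rintro ⟨-, hN, hcompl, hflat, hm, -⟩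
    haveI := hN
    haveI := hflat
    rw [hmap] at hm
    rcases eq_or_ne p 0 with h0 | h0
    · rw [h0, Nat.cast_zero, Ideal.span_singleton_eq_bot.mpr rfl] at hm
      left
      refine ⟨IsLocalRing.isField_iff_maximalIdeal_eq.mpr hm.symm, ⟨fun a b hab => ?_⟩⟩
      have h1 := congrArg (residue A) hab
      rw [map_natCast, map_natCast] at h1
      haveI : CharP (ResidueField A) 0 := h0 ▸ hcp
      haveI := CharP.charP_to_charZero (ResidueField A)
      exact Nat.cast_injective h1
    · right
      have hp : p.Prime := by
        have h1 := (Ideal.span_singleton_prime (by exact_mod_cast h0 : (p : ℤ) ≠ 0)).mp hp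
        exact Nat.prime_iff_prime_int.mpr h1
      have hinjP : Function.Injective (algebraMap ℤ P) :=
        IsLocalization.injective P (Ideal.primeCompl_le_nonZeroDivisors (Ideal.span {(p : ℤ)}))
      have hpP : (p : P) ≠ 0 := fun hz => h0 (by
        have h1 : (p : ℤ) = 0 := hinjP (by rw [map_natCast, map_zero]; exact hz)
        exact_mod_cast h1)
      have hreg : IsSMulRegular A (p : A) := by
        have h1 : IsSMulRegular P (p : P) := fun a b hab => mul_left_cancel₀ hpP hab
        have h2 := IsSMulRegular.of_flat (S := A) h1
        rwa [map_natCast] at h2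
      haveI : (Ideal.span {(p : A)}).IsMaximal := hm ▸ maximalIdeal.isMaximal A
      letI := Ideal.Quotient.field (Ideal.span {(p : A)})
      haveI : IsRegularLocalRing A := by
        refine Lib.Regular.Quotient.of_quotient_singleton hpA hreg
          (IsRegularLocalRing.of_spanFinrank_maximalIdeal_le _ ?_)
        rw [show maximalIdeal (A ⧸ Ideal.span {(p : A)}) = ⊥ from Ideal.eq_bot_of_prime _,
          Submodule.spanFinrank_bot, Nat.cast_zero]
        exact ringKrullDim_nonneg_of_nontrivial
      haveI := Lib.Regular.Quotient.isDomain A
      have hA0 : (p : A) ≠ 0 := fun h => by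
        have h1 : (1 : A) = 0 := hreg (by simp [h])
        exact one_ne_zero h1
      have hnf : ¬ IsField A := fun hf => by
        rw [IsLocalRing.isField_iff_maximalIdeal_eq.mp hf, Ideal.mem_bot] at hpA
        exact hA0 hpA
      have hpr : (maximalIdeal A).IsPrincipal := ⟨⟨(p : A), hm.symm⟩⟩
      haveI : IsDiscreteValuationRing A := ((IsDiscreteValuationRing.TFAE A hnf).out 4 0).mp hpr
      exact ⟨inferInstance, inferInstance, hcompl, p, hp, hm.symm⟩
  · intro h
    have hz : CharZero A ∧ IsDomain A ∧ IsNoetherianRing A ∧ IsAdicComplete (maximalIdeal A) A ∧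
        maximalIdeal A = Ideal.span {(p : A)} := by
      rcases h with ⟨hf, hc⟩ | ⟨_, _, hcompl, q, hq, hm⟩
      · letI := hf.toField
        have h0 : maximalIdeal A = ⊥ := Ideal.eq_bot_of_prime _
        refine ⟨hc, inferInstance, inferInstance, ?_, ?_⟩
        · rw [h0]; infer_instance
        · rw [h0] at hpA ⊢
          rw [Ideal.mem_bot] at hpA
          rw [hpA, Ideal.span_singleton_eq_bot.mpr rfl]
      · have hqp : q = p := by
          have h1 : CharP (ResidueField A) q := (CharP.charP_iff_prime_eq_zero hq).mpr
            (by rw [← map_natCast (residue A), residue_eq_zero_iff, hm]; exact Ideal.mem_span_singleton_self _)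
          exact CharP.eq (ResidueField A) h1 hcp
        subst hqp
        refine ⟨?_, inferInstance, inferInstance, hcompl, hm⟩
        obtain ⟨c, hc⟩ := CharP.exists A
        rcases CharP.char_is_prime_or_zero A c with hc' | hc'
        · exfalso
          have h1 : CharP (ResidueField A) c := (CharP.charP_iff_prime_eq_zero hc').mpr
            (by rw [← map_natCast (residue A), CharP.cast_eq_zero, map_zero])
          have h2 := CharP.eq (ResidueField A) h1 hcp
          subst h2
          refine IsDiscreteValuationRing.not_a_field A ?_
          rw [hm, CharP.cast_eq_zero, Ideal.span_singleton_eq_bot.mpr rfl]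
        · subst hc'
          exact CharP.charP_to_charZero A
    obtain ⟨hc, hdom, hN, hcompl, hm⟩ := hz
    haveI := hc
    haveI := hdom
    haveI : IsDomain P := IsLocalization.isDomain_localization (Ideal.primeCompl_le_nonZeroDivisors _)
    haveI : IsDedekindDomain P := IsLocalization.isDedekindDomain ℤ
      (Ideal.primeCompl_le_nonZeroDivisors (Ideal.span {(p : ℤ)})) P
    haveI : Module.Flat P A := IsDedekindDomain.flat_iff_torsion_eq_bot.mpr (by
      rw [Submodule.eq_bot_iff]
      rintro x ⟨⟨r, hr⟩, hrx⟩
      rw [Submonoid.smul_def, Algebra.smul_def, mul_eq_zero] at hrx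
      refine hrx.resolve_left fun h0 => ?_
      obtain ⟨⟨a, b⟩, hab⟩ := IsLocalization.surj (Ideal.span {(p : ℤ)}).primeCompl r
      have ha : a = 0 := by
        have h2 := congrArg (algebraMap P A) hab
        rw [map_mul, h0, zero_mul, eq_intCast (algebraMap ℤ P), map_intCast] at h2
        exact_mod_cast h2.symm
      simp only [ha, map_zero] at hab
      exact nonZeroDivisors.ne_zero hr
        ((IsLocalization.map_units P b).mul_left_eq_zero.mp hab))
    refine ⟨inferInstance, hN, hcompl, inferInstance, hmap.trans hm.symm, ?_⟩
    have hfrac : ∀ x : ResidueField P, ∃ a b : ℤ,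
        (b : ResidueField P) ≠ 0 ∧ (b : ResidueField P) * x = a := fun x => by
      obtain ⟨x, rfl⟩ := residue_surjective x
      obtain ⟨⟨a, b⟩, hab⟩ := IsLocalization.surj (Ideal.span {(p : ℤ)}).primeCompl x
      refine ⟨a, b, ?_, ?_⟩
      · have hu := (IsLocalization.map_units P b).map (residue P)
        rw [eq_intCast (algebraMap ℤ P), map_intCast] at hu
        exact hu.ne_zero
      · rw [mul_comm, ← map_intCast (residue P), ← map_intCast (residue P), ← map_mul]
        exact congrArg _ (by simpa using hab)
    haveI := H68.CohenFS.subsingleton_of_frac (ResidueField P) hfrac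
    refine S2451.result.mp (Algebra.FormallySmooth.iff_comp_surjective.mpr fun D _ _ J hJ ψ => ?_)
    haveI : IsRegularLocalRing (ResidueField A) := by
      refine IsRegularLocalRing.of_spanFinrank_maximalIdeal_le _ ?_
      rw [show maximalIdeal (ResidueField A) = ⊥ from Ideal.eq_bot_of_prime _, Submodule.spanFinrank_bot,
        Nat.cast_zero]
      exact ringKrullDim_nonneg_of_nontrivial
    exact H68.CohenFS.adic_of_regular_of_subsingleton D J hJ ψ ⟨1, fun x hx => by
      rw [pow_one, show maximalIdeal (ResidueField A) = ⊥ from Ideal.eq_bot_of_prime _, Ideal.mem_bot] at hx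
      rw [hx, map_zero]⟩

end Groth.Agent.S4539
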