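import Groth.Statements.S4543
import Groth.Agent.H68.FlatLift

set_option autoImplicit false
universe u
open EGA41

namespace Groth.Agent.S4543

open IsLocalRing in
/-- Let A be a Noetherian ring, J an ideal of A, B and B' two A-algebras which are Noetherian local
rings, the structure maps being continuous for the J-adic topology on A (JB and JB' lie in the
maximal ideals); suppose B and B' are complete for the J-adic topologies, B is a formally smooth
A-algebra for the J-adic topology on A and the JB-adic topology on B (nilpotent test ideals, test
algebras killed by a power of J, test maps killing a power of JB), and B' is a flat A-module. Then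
every (A/J)-algebra isomorphism u₀ : B/JB ≅ B'/JB' comes from an A-algebra isomorphism u : B ≅ B' by
passing to quotients. (B is taken formally smooth for the JB-adic topology, the topology along which
the argument lifts B → B'/JB' to B'; read with the convention that a local ring carries the adic
topology of its maximal ideal, the published hypothesis would be formal smoothness for the
maximal-ideal topology on B, a weaker condition when JB is strictly smaller than the maximal ideal,
and that reading is not what the argument establishes.) -/
theorem result {A B B' : Type u} [CommRing A] [IsNoetherianRing A] (J : Ideal A)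
    [CommRing B] [IsLocalRing B] [IsNoetherianRing B] [Algebra A B]
    [CommRing B'] [IsLocalRing B'] [IsNoetherianRing B'] [Algebra A B']
    (hB : J.map (algebraMap A B) ≤ maximalIdeal B) (hB' : J.map (algebraMap A B') ≤ maximalIdeal B')
    [IsAdicComplete (J.map (algebraMap A B)) B] [IsAdicComplete (J.map (algebraMap A B')) B']
    (hfs : EGA41.IsFormallySmoothAdic A J B (J.map (algebraMap A B))) [Module.Flat A B']
    (u₀ : (B ⧸ J.map (algebraMap A B)) ≃ₐ[A ⧸ J] (B' ⧸ J.map (algebraMap A B'))) :
    ∃ u : B ≃ₐ[A] B', ∀ b : B,
      Ideal.Quotient.mk (J.map (algebraMap A B')) (u b) = u₀ (Ideal.Quotient.mk (J.map (algebraMap A B)) b) := by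
  haveI : Nontrivial (B' ⧸ J.map (algebraMap A B')) := Ideal.Quotient.nontrivial_iff.mpr fun h =>
    (maximalIdeal.isMaximal B').ne_top (top_le_iff.mp (h.ge.trans hB'))
  let u : B →ₐ[A] B' ⧸ J.map (algebraMap A B') :=
    { u₀.toRingEquiv.toRingHom.comp (Ideal.Quotient.mk (J.map (algebraMap A B))) with
      commutes' := fun a => u₀.commutes (Ideal.Quotient.mk J a) }
  have hu : Function.Surjective u := fun z => by
    obtain ⟨b, hb⟩ := Ideal.Quotient.mk_surjective (u₀.symm z)
    exact ⟨b, by show u₀ (Ideal.Quotient.mk _ b) = z; rw [hb, AlgEquiv.apply_symm_apply]⟩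
  have h0 : ∀ b, u b = 0 → b ∈ J.map (algebraMap A B) := fun b hb => by
    rw [← Ideal.Quotient.eq_zero_iff_mem]
    exact u₀.injective (hb.trans (map_zero u₀).symm)
  exact H68.FlatLift.exists_algEquiv_lift J _ _ le_rfl hB le_rfl hB' hfs u hu h0
    ⟨1, Ideal.map_le_iff_le_comap.mpr fun b hb => by
      rw [pow_one] at hb
      have h1 : u.toRingHom b = 0 := by
        show u₀ (Ideal.Quotient.mk _ b) = 0
        rw [Ideal.Quotient.eq_zero_iff_mem.mpr hb, map_zero]
      rw [Ideal.mem_comap, h1]
      exact zero_mem _⟩

end Groth.Agent.S4543
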