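import Groth.Statements.S4545
import Groth.Agent.Lib.PBasis.EventualIF
import Groth.Agent.S4525
import Mathlib.FieldTheory.IsAlgClosed.AlgebraicClosure

set_option autoImplicit false
universe u
open EGA41

namespace Groth.Agent.S4545

open TensorProduct in
/-- Let K be a field of characteristic p > 0, k₀ a subfield and (k_α) a decreasing filtered family of
subfields of K containing k₀. Then ⋂_α k_α(K^p) = k₀(K^p) if and only if for every extension L of K
such that Υ_{L/K/k₀} has finite rank over L there is an α with k_α admissible for L over K relative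
to k₀, i.e. with Υ_{L/K/k₀} → Υ_{L/K/k_α} injective. (The published statement has two further
equivalent conditions; this row states (a) ⇔ (b).) -/
theorem result (p : ℕ) [Fact p.Prime] {k₀ K : Type u}
    [Field k₀] [Field K] [Algebra k₀ K] [CharP K p]
    {ι : Type u} [Preorder ι] [IsDirected ι (· ≤ ·)] [Nonempty ι] (k : ι → IntermediateField k₀ K) (hk : Antitone k) :
    (⨅ i, k i ⊔ IntermediateField.adjoin k₀ (Set.range fun y : K => y ^ p)) =
        IntermediateField.adjoin k₀ (Set.range fun y : K => y ^ p) ↔
      ∀ (L : Type u) [Field L] [Algebra K L] [Algebra k₀ L] [IsScalarTower k₀ K L],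
        Module.Finite L (EGA41.imperfection k₀ K L) →
          ∃ i, ∀ ω ∈ EGA41.imperfection k₀ K L,
            ((KaehlerDifferential.map k₀ (k i) K K).restrictScalars K).baseChange L ω = 0 → ω = 0 := by
  constructor
  · intro h L _ _ _ _ hfin
    haveI := hfin
    obtain ⟨i₀, hi₀⟩ := Lib.PBasis.Eventual.eventually_ker_inf_eq_bot (p := p) (P₀ := k₀)
      (fun i => k i) (Lib.PBasis.EventualIF.hanti_iff p k hk) (Lib.PBasis.EventualIF.hint_iff p k h)
      (fun i => (KaehlerDifferential.map k₀ (k i) K K).restrictScalars K)
      (fun i y => by simp) (EGA41.imperfection k₀ K L)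
    exact ⟨i₀, hi₀ i₀ le_rfl⟩
  · intro h
    refine le_antisymm (fun y hy => ?_) (le_iInf fun i => le_sup_right)
    rw [← Lib.PBasis.EventualIF.mem_pPower_base_iff]
    refine Lib.PBasis.Eventual.mem_pPowerSubalgebra_of_D_eq_zero ?_
    obtain ⟨z, hz⟩ := IsAlgClosed.exists_pow_nat_eq (algebraMap K (AlgebraicClosure K) y)
      (Fact.out : p.Prime).pos
    let L := IntermediateField.adjoin K ({z} : Set (AlgebraicClosure K))
    haveI : Module.Finite K L :=
      IntermediateField.adjoin.finiteDimensional (Algebra.IsIntegral.isIntegral z)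
    let z' : L := ⟨z, IntermediateField.mem_adjoin_simple_self K z⟩
    have hz' : z' ^ p = algebraMap K L y := Subtype.ext hz
    haveI : CharP L p := charP_of_injective_algebraMap (algebraMap K L).injective p
    obtain ⟨-, hfin, -⟩ := Groth.Agent.S4525.result (k := k₀) (K := K) (L := L)
    obtain ⟨i, hi⟩ := h L hfin
    have hmem : (1 : L) ⊗ₜ[K] KaehlerDifferential.D k₀ K y ∈ EGA41.imperfection k₀ K L := by
      rw [EGA41.imperfection, LinearMap.mem_ker, KaehlerDifferential.mapBaseChange_tmul,
        KaehlerDifferential.map_D, one_smul, ← hz']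
      exact Lib.PBasis.Deriv.derivation_pow_eq_zero (p := p) _ z'
    have h0 := hi _ hmem (by
      rw [LinearMap.baseChange_tmul, LinearMap.restrictScalars_apply, KaehlerDifferential.map_D]
      rw [show KaehlerDifferential.D (k i) K (algebraMap K K y) = 0 from
        Lib.PBasis.EventualIF.map_D_eq_zero p k ((iInf_le _ i : _ ≤ k i ⊔ _) hy),
        TensorProduct.tmul_zero])
    refine Module.Flat.rTensor_preserves_injective_linearMap (M := Ω[K⁄k₀])
      (Algebra.linearMap K L) (algebraMap K L).injective |>.comp
      (TensorProduct.lid K (Ω[K⁄k₀])).symm.injective ?_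
    simpa using h0

end Groth.Agent.S4545
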