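import Groth.Statements.S4546
import Groth.Agent.Lib.PBasis.EventualIF
import Groth.Agent.Lib.PBasis.Deriv

set_option autoImplicit false
universe u
open EGA41

namespace Groth.Agent.S4546

/-- Let K be a field of characteristic p > 0, k₀ a subfield, (k_α) a decreasing filtered family of
subfields of K containing k₀ with ⋂_α k_α(K^p) = k₀(K^p). Then for every extension L of K such that
Υ_{L/K/k₀} has finite rank over L, one has ⋂_α k_α(L^p) = k₀(L^p) (the k_α being viewed inside L). -/
theorem result (p : ℕ) [Fact p.Prime] {k₀ K L : Type u}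
    [Field k₀] [Field K] [Field L] [Algebra k₀ K] [Algebra K L] [Algebra k₀ L] [IsScalarTower k₀ K L] [CharP K p] [CharP L p]
    {ι : Type u} [Preorder ι] [IsDirected ι (· ≤ ·)] [Nonempty ι] (k : ι → IntermediateField k₀ K) (hk : Antitone k)
    (h : (⨅ i, k i ⊔ IntermediateField.adjoin k₀ (Set.range fun y : K => y ^ p)) =
      IntermediateField.adjoin k₀ (Set.range fun y : K => y ^ p))
    [Module.Finite L (EGA41.imperfection k₀ K L)] :
    (⨅ i, (k i).map (IsScalarTower.toAlgHom k₀ K L) ⊔ IntermediateField.adjoin k₀ (Set.range fun y : L => y ^ p)) =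
      IntermediateField.adjoin k₀ (Set.range fun y : L => y ^ p) := by
  refine le_antisymm (fun z hz => ?_) (le_iInf fun i => le_sup_right)
  rw [← Lib.PBasis.EventualIF.mem_pPower_base_iff]
  refine Lib.PBasis.Eventual.mem_pPowerSubalgebra_of_D_eq_zero ?_
  let β := KaehlerDifferential.mapBaseChange k₀ K L
  let f : ∀ i, Ω[K⁄k₀] →ₗ[K] Ω[K⁄k i] := fun i =>
    (KaehlerDifferential.map k₀ (k i) K K).restrictScalars K
  have hanti := Lib.PBasis.EventualIF.hanti_iff p k hk
  have hint := Lib.PBasis.EventualIF.hint_iff p k h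
  -- the differential comes from the kernel of every map
  have hex : ∀ i, ∃ x, (f i).baseChange L x = 0 ∧ β x = KaehlerDifferential.D k₀ L z := by
    intro i
    let N : Submodule L (Ω[L⁄k₀]) := (LinearMap.ker ((f i).baseChange L)).map β
    suffices KaehlerDifferential.D k₀ L z ∈ N from this
    have hP : ∀ a ∈ k i, KaehlerDifferential.D k₀ L (algebraMap K L a) ∈ N := fun a ha => by
      refine ⟨(1 : L) ⊗ₜ[K] KaehlerDifferential.D k₀ K a, ?_, by simp [β]⟩
      rw [SetLike.mem_coe, LinearMap.mem_ker, LinearMap.baseChange_tmul]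
      simp only [f, LinearMap.restrictScalars_apply, KaehlerDifferential.map_D]
      rw [show algebraMap K K a = algebraMap (k i) K ⟨a, ha⟩ from rfl, Derivation.map_algebraMap,
        TensorProduct.tmul_zero]
    rw [← Submodule.Quotient.mk_eq_zero]
    let D : Derivation ((k i).map (IsScalarTower.toAlgHom k₀ K L)) L (Ω[L⁄k₀] ⧸ N) :=
      Derivation.mk'
        { toFun := fun w => N.mkQ (KaehlerDifferential.D k₀ L w)
          map_add' := fun a b => by simp only [map_add]
          map_smul' := fun a w => by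
            obtain ⟨a', ha', haa⟩ := a.2
            have h1 : N.mkQ (KaehlerDifferential.D k₀ L (a : L)) = 0 := by
              rw [← haa]
              exact (Submodule.Quotient.mk_eq_zero _).2 (hP a' ha')
            rw [RingHom.id_apply, show a • w = (a : L) * w from rfl, Derivation.leibniz, map_add,
              map_smul, map_smul, h1, smul_zero, add_zero]
            exact algebraMap_smul L a (N.mkQ (KaehlerDifferential.D k₀ L w)) }
        (fun a b => by simp)
    exact Lib.PBasis.Deriv.derivation_pPower_eq_zero (p := p) D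
      ((Lib.PBasis.EventualIF.mem_pPower_iff p _ z).2 ((iInf_le _ i : _ ≤ (k i).map _ ⊔ _) hz))
  choose x hx hxz using hex
  obtain ⟨i₀, hi₀⟩ := Lib.PBasis.Eventual.eventually_ker_inf_eq_bot (p := p) (P₀ := k₀)
    (fun i => k i) hanti hint f (fun i y => by simp [f]) (EGA41.imperfection k₀ K L)
  -- the preimage does not depend on the index
  have heq : ∀ i, i₀ ≤ i → x i = x i₀ := fun i hi => by
    rw [← sub_eq_zero]
    obtain ⟨g, hg⟩ := Lib.PBasis.Eventual.exists_factor (p := p) (K := K) (P := k i₀) (Q := k i)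
      fun a => hanti i₀ i hi _ ((EGA41.pPowerSubalgebra p (k i) K).algebraMap_mem a)
    have hgf : g ∘ₗ f i = f i₀ := by
      refine LinearMap.ext_on (KaehlerDifferential.span_range_derivation k₀ K) ?_
      rintro _ ⟨y, rfl⟩
      simp [f, hg]
    refine hi₀ i₀ le_rfl _ ?_ ?_
    · rw [EGA41.imperfection, LinearMap.mem_ker, map_sub, hxz, hxz, sub_self]
    · rw [map_sub, hx i₀, sub_zero, ← hgf, LinearMap.baseChange_comp, LinearMap.comp_apply, hx i,
        map_zero]
  obtain ⟨i₁, hi₁⟩ := Lib.PBasis.Eventual.eventually_ker_inf_eq_bot (p := p) (P₀ := k₀)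
    (fun i => k i) hanti hint f (fun i y => by simp [f]) (Submodule.span L {x i₀})
  obtain ⟨j, hj₀, hj₁⟩ := directed_of (· ≤ ·) i₀ i₁
  have h0 := hi₁ j hj₁ _ (Submodule.subset_span rfl) (heq j hj₀ ▸ hx j)
  rw [← hxz i₀, h0, map_zero]

end Groth.Agent.S4546
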