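import Groth.Statements.S4547
import Groth.Agent.Lib.LeftInv45.Basic
import Mathlib.RingTheory.LocalRing.Module
import Mathlib.LinearAlgebra.FreeModule.Basic


set_option autoImplicit false
universe u
open EGA41 TensorProduct

namespace Groth.Agent.S4547

open IsLocalRing TensorProduct in
/-- Let A be a local ring with residue field k, M an A-module of finite type, N a projective A-module
and u : M → N a homomorphism. Then u is left invertible if and only if there is a finite system of
generators (x_i) of M such that the elements 1 ⊗ u(x_i) of k ⊗_A N are linearly independent over k;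
and such a system (x_i) is then a basis of M. -/
theorem result {A : Type u} [CommRing A] [IsLocalRing A] {M N : Type u}
    [AddCommGroup M] [Module A M] [Module.Finite A M] [AddCommGroup N] [Module A N] [Module.Projective A N]
    (u : M →ₗ[A] N) :
    ((∃ w : N →ₗ[A] M, w ∘ₗ u = LinearMap.id) ↔
      ∃ (m : ℕ) (x : Fin m → M), Submodule.span A (Set.range x) = ⊤ ∧
        LinearIndependent (ResidueField A) (fun i => (1 : ResidueField A) ⊗ₜ[A] u (x i))) ∧
    ∀ (m : ℕ) (x : Fin m → M), Submodule.span A (Set.range x) = ⊤ →
      LinearIndependent (ResidueField A) (fun i => (1 : ResidueField A) ⊗ₜ[A] u (x i)) →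
        ∃ b : Module.Basis (Fin m) A M, ∀ i, b i = x i := by
  classical
  haveI : Module.Finite A M := inferInstance
  have key : ∀ (m : ℕ) (x : Fin m → M), Submodule.span A (Set.range x) = ⊤ →
      LinearIndependent (ResidueField A) (fun i => (1 : ResidueField A) ⊗ₜ[A] u (x i)) →
      (∃ w : N →ₗ[A] M, w ∘ₗ u = LinearMap.id) ∧ LinearIndependent A x := by
    intro m x hspan hli
    obtain ⟨φ, hdet⟩ := Lib.LeftInv45.exists_det_ne_zero (ResidueField A) (fun i => u (x i)) hli
    set D := Matrix.of fun i j => φ j (u (x i)) with hD
    have hunit : IsUnit D.det := by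
      by_contra h
      exact hdet (Ideal.Quotient.eq_zero_iff_mem.mpr h)
    obtain ⟨v, hv⟩ := hunit
    refine ⟨⟨∑ i, (((↑v⁻¹ : A) • ∑ j, D.adjugate j i • φ j)).smulRight (x i), LinearMap.ext_on_range hspan fun i => ?_⟩, ?_⟩
    · have : ∀ i', (∑ j, D.adjugate j i' * φ j (u (x i))) = (D * D.adjugate) i i' := fun i' => by
        rw [Matrix.mul_apply]
        exact Finset.sum_congr rfl fun j _ => mul_comm _ _
      simp only [LinearMap.comp_apply, LinearMap.sum_apply, LinearMap.smulRight_apply, LinearMap.smul_apply, smul_eq_mul, this,
        Matrix.mul_adjugate, Matrix.smul_apply, Matrix.one_apply, ← hv]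
      simp
    · rw [Fintype.linearIndependent_iff]
      intro c hc
      have h1 : Matrix.vecMul c D = 0 := by
        funext j
        have := congrArg (fun z => φ j (u z)) hc
        simpa [Matrix.vecMul, dotProduct, hD] using this
      have h2 := congrArg (fun w => Matrix.vecMul w D.adjugate) h1
      simp only [Matrix.vecMul_vecMul, Matrix.mul_adjugate, Matrix.zero_vecMul, Matrix.vecMul_smul, Matrix.vecMul_one] at h2
      intro i
      have h3 := congrFun h2 i
      rw [Pi.smul_apply, smul_eq_mul, ← hv] at h3
      exact (Units.mul_right_eq_zero v).mp h3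
  refine ⟨⟨?_, fun ⟨m, x, hs, hli⟩ => (key m x hs hli).1⟩, fun m x hs hli => ⟨Module.Basis.mk (key m x hs hli).2 hs.ge, fun i => Module.Basis.mk_apply _ _ i⟩⟩
  rintro ⟨w, hw⟩
  haveI : Module.Projective A M := Module.Projective.of_split u w hw
  haveI : Module.Free A M := Module.free_of_flat_of_isLocalRing
  let b := (Module.finBasis A M)
  refine ⟨_, b, b.span_eq, ?_⟩
  have hinj : Function.Injective (u.baseChange (ResidueField A)) := fun a c hac => by
    have := congrArg (w.baseChange (ResidueField A)) hac
    rwa [← LinearMap.comp_apply, ← LinearMap.comp_apply, ← LinearMap.baseChange_comp, hw, LinearMap.baseChange_id] at this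
  have := (b.baseChange (ResidueField A)).linearIndependent.map' (u.baseChange (ResidueField A)) (LinearMap.ker_eq_bot.mpr hinj)
  have e : ⇑(u.baseChange (ResidueField A)) ∘ ⇑(b.baseChange (ResidueField A)) = fun i => (1 : ResidueField A) ⊗ₜ[A] u (b i) :=
    funext fun i => by simp
  rw [e] at this
  exact this


end Groth.Agent.S4547
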