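import Groth.Statements.S4548
import Groth.Agent.Lib.PBasis.EventualIF
import Mathlib.FieldTheory.IntermediateField.Adjoin.Basic
import Mathlib.RingTheory.IntegralClosure.IsIntegralClosure.Basic
import Mathlib.RingTheory.MvPowerSeries.Expand
import Mathlib.RingTheory.MvPowerSeries.Equiv
import Mathlib.RingTheory.MvPowerSeries.NoZeroDivisors

set_option autoImplicit false
universe u
open EGA41

namespace Groth.Agent.S4548


section Aux

open MvPowerSeries

variable {L k : Type u} [Field L] [Field k] [Algebra L k] {r : ℕ} {p : ℕ}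

/-- The embedding `L[[T]] → k[[T]]`, `T ↦ T^p`. -/
private noncomputable def ψ (hp : p ≠ 0) :
    MvPowerSeries (Fin r) L →+* MvPowerSeries (Fin r) k :=
  (MvPowerSeries.expand p hp).toRingHom.comp (MvPowerSeries.map (algebraMap L k))

private theorem coeff_ψ_smul (hp : p ≠ 0) (g : MvPowerSeries (Fin r) L) (n : Fin r →₀ ℕ) :
    coeff (p • n) (ψ (k := k) hp g) = algebraMap L k (coeff n g) := by
  simp [ψ]

private theorem ψ_injective (hp : p ≠ 0) : Function.Injective (ψ (L := L) (k := k) (r := r) hp) := by
  intro g g' h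
  ext n
  exact (algebraMap L k).injective (by rw [← coeff_ψ_smul hp, h, coeff_ψ_smul])

private theorem coeff_ψ_mul (hp : p ≠ 0) (g : MvPowerSeries (Fin r) L)
    (f : MvPowerSeries (Fin r) k) (n a : Fin r →₀ ℕ) (ha : ∀ i, a i < p) :
    coeff (p • n + a) (ψ hp g * f) =
      ∑ x ∈ Finset.antidiagonal n, coeff x.1 g • coeff (p • x.2 + a) f := by
  classical
  rw [coeff_mul]
  let e : (Fin r →₀ ℕ) × (Fin r →₀ ℕ) → (Fin r →₀ ℕ) × (Fin r →₀ ℕ) := fun x => (p • x.1, p • x.2 + a)
  have he : Set.InjOn e (Finset.antidiagonal n : Set _) := fun x _ y _ h => by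
    simp only [e, Prod.mk.injEq, add_left_inj, nsmul_right_inj hp] at h
    exact Prod.ext h.1 h.2
  rw [← Finset.sum_subset (s₁ := (Finset.antidiagonal n).image e), Finset.sum_image he]
  · refine Finset.sum_congr rfl fun x _ => ?_
    rw [coeff_ψ_smul, Algebra.smul_def]
  · intro z hz
    obtain ⟨x, hx, rfl⟩ := Finset.mem_image.1 hz
    rw [Finset.mem_antidiagonal] at hx ⊢
    rw [← hx]
    simp [e, smul_add, add_assoc]
  · intro z hz hnot
    by_cases hdiv : ∀ i, p ∣ z.1 i
    · exfalso
      apply hnot
      rw [Finset.mem_antidiagonal] at hz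
      let u : Fin r →₀ ℕ := Finsupp.equivFunOnFinite.symm fun i => z.1 i / p
      have hu : p • u = z.1 := Finsupp.ext fun i => by
        simp [u, Nat.mul_div_cancel' (hdiv i)]
      have hle : u ≤ n := fun i => by
        have := congrArg (fun m => m i) hz
        simp only [Finsupp.add_apply, Finsupp.smul_apply, smul_eq_mul, ← hu] at this
        by_contra hlt
        have h2 : p * (n i + 1) ≤ p * u i := Nat.mul_le_mul_left p (by omega)
        have := ha i
        rw [mul_add] at h2
        omega
      refine Finset.mem_image.2 ⟨(u, n - u), ?_, Prod.ext hu ?_⟩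
      · rw [Finset.mem_antidiagonal]; exact add_tsub_cancel_of_le hle
      · have : p • u + (p • (n - u) + a) = z.1 + z.2 := by
          rw [← add_assoc, ← smul_add, add_tsub_cancel_of_le hle, hz]
        rw [hu] at this
        exact add_left_cancel this
    · push Not at hdiv
      obtain ⟨i, hi⟩ := hdiv
      have : coeff z.1 (ψ (k := k) hp g) = 0 := coeff_expand_of_not_dvd p hp _ hi
      rw [this, zero_mul]

/-- A component along `λ` in the residue class `a`. -/
private noncomputable def comp (p : ℕ) (a : Fin r →₀ ℕ) (l : k →ₗ[L] L) (f : MvPowerSeries (Fin r) k) :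
    MvPowerSeries (Fin r) L :=
  fun n => l (coeff (p • n + a) f)

private theorem coeff_comp (a : Fin r →₀ ℕ) (l : k →ₗ[L] L) (f : MvPowerSeries (Fin r) k)
    (n : Fin r →₀ ℕ) : coeff n (comp p a l f) = l (coeff (p • n + a) f) := rfl

private theorem comp_mul (hp : p ≠ 0) (a : Fin r →₀ ℕ) (ha : ∀ i, a i < p) (l : k →ₗ[L] L)
    (g : MvPowerSeries (Fin r) L) (f : MvPowerSeries (Fin r) k) :
    comp p a l (ψ hp g * f) = g * comp p a l f := by
  classical
  ext n
  rw [coeff_comp, coeff_ψ_mul hp g f n a ha, coeff_mul, map_sum]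
  simp [coeff_comp]

/-- The fraction field of the image meets `k[[T]]` in the image. -/
private theorem mem_range_of_mul (hp : p ≠ 0) {f : MvPowerSeries (Fin r) k}
    {s t : MvPowerSeries (Fin r) L} (ht : t ≠ 0) (h : ψ hp t * f = ψ hp s) :
    f ∈ (ψ (L := L) (k := k) (r := r) hp).range := by
  obtain ⟨l, hl⟩ := (Algebra.linearMap L k).exists_leftInverse_of_injective
    (LinearMap.ker_eq_bot.2 (algebraMap L k).injective)
  have h1 : comp p 0 l (1 : MvPowerSeries (Fin r) k) = 1 := by
    classical
    ext n
    rw [coeff_comp, add_zero, coeff_one, coeff_one]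
    simp only [smul_eq_zero, hp, false_or]
    split_ifs
    · simpa using LinearMap.congr_fun hl 1
    · simp
  have hz : ∀ i, (0 : Fin r →₀ ℕ) i < p := fun i => Nat.pos_of_ne_zero hp
  have h2 : t * comp p 0 l f = s := by
    have h3 := congrArg (comp p 0 l) h
    rw [comp_mul hp 0 hz, ← mul_one (ψ hp s), comp_mul hp 0 hz, h1, mul_one] at h3
    exact h3
  refine ⟨comp p 0 l f, mul_left_cancel₀ ((map_ne_zero_iff _ (ψ_injective hp)).2 ht) ?_⟩
  rw [h, ← map_mul, h2]

private theorem free_finite [FiniteDimensional L k] (hp : p ≠ 0) :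
    Module.Free (ψ (L := L) (k := k) (r := r) hp).range (MvPowerSeries (Fin r) k) ∧
      Module.Finite (ψ (L := L) (k := k) (r := r) hp).range (MvPowerSeries (Fin r) k) := by
  classical
  let B := MvPowerSeries (Fin r) L
  let A := MvPowerSeries (Fin r) k
  letI : Algebra B A := (ψ (L := L) (k := k) (r := r) hp).toAlgebra
  let b := Module.finBasis L k
  let J := (Fin r → Fin p) × Fin (Module.finrank L k)
  let toF : (Fin r → Fin p) → Fin r →₀ ℕ := fun a => Finsupp.equivFunOnFinite.symm fun i => (a i : ℕ)
  have htoF : ∀ a i, toF a i < p := fun a i => (a i).2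
  let Φ : A →ₗ[B] (J → B) :=
    { toFun := fun f x => comp p (toF x.1) (b.coord x.2) f
      map_add' := fun f g => by
        funext x
        ext n
        simp [coeff_comp]
      map_smul' := fun c f => by
        funext x
        exact comp_mul hp _ (htoF x.1) _ c f }
  let md : (Fin r →₀ ℕ) → Fin r → Fin p := fun m i => ⟨m i % p, Nat.mod_lt _ (Nat.pos_of_ne_zero hp)⟩
  let dv : (Fin r →₀ ℕ) → Fin r →₀ ℕ := fun m => Finsupp.equivFunOnFinite.symm fun i => m i / p
  have hsplit : ∀ m, p • dv m + toF (md m) = m := fun m => Finsupp.ext fun i => by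
    simp [dv, toF, md, Nat.div_add_mod]
  have hbij : Function.Bijective Φ := by
    refine ⟨fun f g h => ?_, fun c => ?_⟩
    · ext m
      rw [← hsplit m]
      refine b.ext_elem fun j => ?_
      exact congrArg (coeff (dv m)) (congrFun h (md m, j))
    · refine ⟨fun m => ∑ j, coeff (dv m) (c (md m, j)) • b j, ?_⟩
      funext x
      ext n
      have h1 : md (p • n + toF x.1) = x.1 := funext fun i => Fin.ext (by
        simp [md, toF, Nat.add_mul_mod_self_left, Nat.mod_eq_of_lt (x.1 i).2, add_comm])
      have h2 : dv (p • n + toF x.1) = n := Finsupp.ext fun i => by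
        simp [dv, toF, add_comm (p * n i), Nat.add_mul_div_left _ _ (Nat.pos_of_ne_zero hp),
          Nat.div_eq_of_lt (x.1 i).2]
      change b.coord x.2 (∑ j, coeff (dv (p • n + toF x.1)) (c (md (p • n + toF x.1), j)) • b j) = _
      rw [h1, h2, Module.Basis.coord_apply, Module.Basis.repr_sum_self]
  let bas : Module.Basis J B A := Module.Basis.ofEquivFun (LinearEquiv.ofBijective Φ hbij)
  let e : B ≃+* (ψ (L := L) (k := k) (r := r) hp).range :=
    RingEquiv.ofBijective (ψ (L := L) (k := k) (r := r) hp).rangeRestrict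
      ⟨fun x y h => ψ_injective hp (congrArg Subtype.val h),
        (ψ (L := L) (k := k) (r := r) hp).rangeRestrict_surjective⟩
  let bas' := bas.mapCoeffs e fun c x => rfl
  exact ⟨Module.Free.of_basis bas', Module.Finite.of_basis bas'⟩

end Aux

/-- Let k be a field of characteristic p > 0, A = k[[T_1, …, T_r]] and K its field of fractions. Then
there is a decreasing filtered family (A_α) of Noetherian subrings of A (rendered: a nonempty
family, directed downwards for inclusion) such that A is a free A_α-module of finite type for every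
α and, K_α denoting the subfield of K generated by A_α (its field of fractions inside K), ⋂_α K_α =
K^p. -/
theorem result (p : ℕ) [Fact p.Prime] (k : Type u) [Field k] [CharP k p]
    (r : ℕ) :
    ∃ (ι : Type u) (_ : Nonempty ι) (S : ι → Subring (MvPowerSeries (Fin r) k)),
      (∀ a b : ι, ∃ c, S c ≤ S a ⊓ S b) ∧
      (∀ i, IsNoetherianRing (S i) ∧ Module.Free (S i) (MvPowerSeries (Fin r) k) ∧ Module.Finite (S i) (MvPowerSeries (Fin r) k)) ∧
      ((⨅ i, Subfield.closure (algebraMap (MvPowerSeries (Fin r) k) (FractionRing (MvPowerSeries (Fin r) k)) '' (S i)) :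
          Set (FractionRing (MvPowerSeries (Fin r) k)))) =
        Set.range fun x : FractionRing (MvPowerSeries (Fin r) k) => x ^ p := by
  classical
  have : ExpChar k p := ExpChar.prime Fact.out
  let k₀ : Subfield k := (frobenius k p).fieldRange
  have hp : p ≠ 0 := (Fact.out : p.Prime).ne_zero
  have : IsDomain (MvPowerSeries (Fin r) k) := NoZeroDivisors.to_isDomain _
  obtain ⟨B, -, -, hB⟩ := Lib.PBasis.Field.exists_pBasis (p := p) (k := k₀) (K := k) Set.univ ∅
    (Set.empty_subset _) Lib.PBasis.Field.isPGenerating_univ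
    ((Lib.PBasis.Field.isPIndependent_set_iff (∅ : Set k)).2 (by simp))
  obtain ⟨b, hb⟩ := Lib.PBasis.Field.isPBasis_iff_D.1 hB
  let P : Finset B → IntermediateField k₀ k := fun F =>
    Lib.PBasis.Field.FF p k₀ (B \ ((Subtype.val : B → k) '' F))
  have hP : Antitone P := fun F G hFG =>
    Lib.PBasis.Field.FF_mono (Set.sdiff_subset_sdiff_right (Set.image_mono (Finset.coe_subset.2 hFG)))
  -- the intersection of the subfields consists of the `p`-th powers
  have hinter : ∀ y : k, (∀ F, y ∈ P F) → ∃ z : k, z ^ p = y := by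
    intro y hy
    have hy0 : y ∈ IntermediateField.adjoin k₀ (Set.range fun z : k => z ^ p) := by
      rw [← Lib.PBasis.EventualIF.mem_pPower_base_iff]
      refine Lib.PBasis.Eventual.mem_pPowerSubalgebra_of_D_eq_zero (b.ext_elem fun a => ?_)
      rw [map_zero, Finsupp.zero_apply]
      refine Lib.PBasis.Field.eq_of_eqOn_FF ((b.coord a).compDer (KaehlerDifferential.D k₀ k)) ?_
        (hy ({a} : Finset B))
      rintro z ⟨hzB, hz⟩
      have hne : (⟨z, hzB⟩ : B) ≠ a := fun he =>
        hz ⟨a, by simp, (congr_arg Subtype.val he).symm⟩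
      change b.repr (KaehlerDifferential.D k₀ k ((⟨z, hzB⟩ : B) : k)) a = 0
      rw [← hb ⟨z, hzB⟩, Module.Basis.repr_self, Finsupp.single_eq_of_ne hne.symm]
    have hle : IntermediateField.adjoin k₀ (Set.range fun z : k => z ^ p) ≤ ⊥ :=
      IntermediateField.adjoin_le_iff.2 (by
        rintro _ ⟨z, rfl⟩
        exact IntermediateField.mem_bot.2 ⟨⟨z ^ p, ⟨z, rfl⟩⟩, rfl⟩)
    obtain ⟨c, hc⟩ := IntermediateField.mem_bot.1 (hle hy0)
    obtain ⟨z, hz⟩ := c.2
    exact ⟨z, hz.trans hc⟩
  have hfin : ∀ F, FiniteDimensional (P F) k := fun F => by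
    have htop : IntermediateField.adjoin (P F) ((Subtype.val : B → k) '' (F : Set B)) = ⊤ := by
      refine IntermediateField.restrictScalars_injective k₀ ?_
      rw [Lib.PBasis.Field.restrict_adjoin_FF, IntermediateField.restrictScalars_top, eq_top_iff]
      intro z _
      have hz : z ∈ Lib.PBasis.Field.FF p k₀ (Set.range (Subtype.val : B → k)) := by
        rw [Lib.PBasis.Field.isPGenerating_iff_FF.1 hB.2]
        trivial
      refine Lib.PBasis.Field.FF_mono ?_ hz
      rw [Set.sdiff_union_self, Subtype.range_coe]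
      exact Set.subset_union_left
    haveI : Finite ((Subtype.val : B → k) '' (F : Set B)) := (F.finite_toSet.image _).to_subtype
    haveI := IntermediateField.finiteDimensional_adjoin (K := P F)
      (S := (Subtype.val : B → k) '' (F : Set B)) fun z _ =>
        IsIntegral.of_pow (R := P F) (Fact.out : p.Prime).pos
          (isIntegral_algebraMap (R := P F) (x := (⟨z ^ p, Lib.PBasis.Field.pow_mem_FF _ z⟩ : P F)))
    exact Module.Finite.equiv ((IntermediateField.equivOfEq htop).trans
      IntermediateField.topEquiv).toLinearEquiv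
  let S : Finset B → Subring (MvPowerSeries (Fin r) k) := fun F =>
    (ψ (L := P F) (k := k) (r := r) hp).range
  refine ⟨Finset B, ⟨∅⟩, S, fun F G => ⟨F ∪ G, ?_⟩, fun F => ?_, ?_⟩
  · have hmono : ∀ F G : Finset B, F ⊆ G → S G ≤ S F := by
      rintro F G hFG _ ⟨g, rfl⟩
      refine ⟨MvPowerSeries.map (IntermediateField.inclusion (hP hFG)).toRingHom g, ?_⟩
      simp only [ψ, RingHom.comp_apply, MvPowerSeries.map_map]
      rfl
    exact le_inf (hmono _ _ Finset.subset_union_left) (hmono _ _ Finset.subset_union_right)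
  · exact ⟨isNoetherianRing_range _, free_finite hp⟩
  · set K := FractionRing (MvPowerSeries (Fin r) k)
    -- `p`-th powers lie in every subring
    have hpow : ∀ (F : Finset B) (f : MvPowerSeries (Fin r) k), f ^ p ∈ S F := by
      intro F f
      refine ⟨MvPowerSeries.map ((frobenius k p).codRestrict (P F).toSubfield fun z =>
        Lib.PBasis.Field.pow_mem_FF _ z) f, ?_⟩
      rw [← MvPowerSeries.map_frobenius_expand p hp, MvPowerSeries.map_expand]
      simp only [ψ, RingHom.comp_apply, MvPowerSeries.map_map]
      rfl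
    ext x
    simp only [Subfield.coe_iInf, Set.mem_iInter, SetLike.mem_coe, Set.mem_range, Set.iInf_eq_iInter]
    constructor
    · intro hx
      obtain ⟨a, c, hc, rfl⟩ := IsFractionRing.div_surjective (A := MvPowerSeries (Fin r) k) x
      have hc0 : algebraMap _ K c ≠ 0 := IsFractionRing.to_map_ne_zero_of_mem_nonZeroDivisors hc
      set f := a * c ^ (p - 1) with hf
      have hcp : c * c ^ (p - 1) = c ^ p := by rw [← pow_succ', Nat.sub_add_cancel (Nat.pos_of_ne_zero hp)]
      have hfmem : ∀ F, f ∈ S F := by
        intro F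
        have h1 : algebraMap _ K f ∈ Subfield.closure
            (algebraMap (MvPowerSeries (Fin r) k) K '' (SetLike.coe (S F))) := by
          have : algebraMap _ K f = algebraMap _ K a / algebraMap _ K c * algebraMap _ K (c ^ p) := by
            rw [hf, ← hcp, map_mul, map_mul, div_mul_eq_mul_div, eq_div_iff hc0]
            ring
          rw [this]
          exact mul_mem (hx F) (Subfield.subset_closure ⟨_, hpow F c, rfl⟩)
        obtain ⟨u, hu, v, hv, huv⟩ := Subfield.mem_closure_iff.1 h1
        rw [← Subring.coe_map, Subring.closure_eq] at hu hv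
        obtain ⟨u, ⟨s, rfl⟩, rfl⟩ := hu
        obtain ⟨v, ⟨t, rfl⟩, rfl⟩ := hv
        by_cases ht : t = 0
        · subst ht
          rw [map_zero, map_zero, div_zero, eq_comm,
            map_eq_zero_iff _ (IsFractionRing.injective (MvPowerSeries (Fin r) k) K)] at huv
          rw [huv]; exact zero_mem _
        refine mem_range_of_mul (s := s) hp ht (IsFractionRing.injective (MvPowerSeries (Fin r) k) K ?_)
        rw [map_mul, ← huv, mul_div_cancel₀]
        exact (map_ne_zero_iff _ (IsFractionRing.injective _ K)).2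
          ((map_ne_zero_iff _ (ψ_injective hp)).2 ht)
      -- hence `f` is a `p`-th power
      have hcoef : ∀ n, ∃ z : k, z ^ p = MvPowerSeries.coeff (p • n) f := fun n => hinter _ fun F => by
        obtain ⟨g, hg⟩ := hfmem F
        rw [← hg, coeff_ψ_smul]
        exact (MvPowerSeries.coeff n g).2
      choose h hh using hcoef
      have hfp : f = (show MvPowerSeries (Fin r) k from h) ^ p := by
        rw [← MvPowerSeries.map_frobenius_expand p hp]
        ext m
        rw [MvPowerSeries.coeff_map]
        by_cases hdiv : ∀ i, p ∣ m i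
        · have : m = p • (Finsupp.equivFunOnFinite.symm fun i => m i / p : Fin r →₀ ℕ) :=
            Finsupp.ext fun i => by simp [Nat.mul_div_cancel' (hdiv i)]
          rw [this, MvPowerSeries.coeff_expand_smul, frobenius_def]
          exact (hh _).symm
        · push Not at hdiv
          obtain ⟨i, hi⟩ := hdiv
          obtain ⟨g, hg⟩ := hfmem ∅
          rw [MvPowerSeries.coeff_expand_of_not_dvd p hp _ hi, map_zero, ← hg]
          exact MvPowerSeries.coeff_expand_of_not_dvd p hp _ hi
      refine ⟨algebraMap _ K (show MvPowerSeries (Fin r) k from h) / algebraMap _ K c, ?_⟩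
      rw [div_pow, ← map_pow, ← map_pow, ← hfp, ← hcp, hf, map_mul, map_mul,
        mul_div_mul_right _ _ (by rw [map_pow]; exact pow_ne_zero _ hc0)]
    · rintro ⟨y, rfl⟩ F
      obtain ⟨a, c, -, rfl⟩ := IsFractionRing.div_surjective (A := MvPowerSeries (Fin r) k) y
      rw [div_pow, ← map_pow, ← map_pow]
      exact div_mem (Subfield.subset_closure ⟨_, hpow F a, rfl⟩)
        (Subfield.subset_closure ⟨_, hpow F c, rfl⟩)

end Groth.Agent.S4548
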