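import Groth.Statements.S4549
import Groth.Agent.Lib.PBasis.EventualIF
import Mathlib.FieldTheory.IntermediateField.Adjoin.Basic
import Mathlib.RingTheory.IntegralClosure.IsIntegralClosure.Basic

set_option autoImplicit false
universe u
open EGA41

namespace Groth.Agent.S4549

open TensorProduct in
/-- Let K be a field of characteristic p, k₀ a subfield and L an extension of K such that Υ_{L/K/k₀} has
finite rank over L. Then there is a subfield k of K containing k₀(K^p), with [K : k] finite, which
is k₀-admissible for the extension L of K, i.e. such that Υ_{L/K/k₀} → Υ_{L/K/k} is injective. (The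
published statement uses the characteristic exponent and so also covers characteristic 0, where k =
K works; this row treats characteristic p > 0.) -/
theorem result (p : ℕ) [Fact p.Prime] {k₀ K L : Type u} [Field k₀] [Field K] [Field L]
    [Algebra k₀ K] [Algebra K L] [Algebra k₀ L] [IsScalarTower k₀ K L] [CharP K p]
    [Module.Finite L (EGA41.imperfection k₀ K L)] :
    ∃ k : IntermediateField k₀ K, (∀ y : K, y ^ p ∈ k) ∧ Module.Finite k K ∧
      ∀ ω ∈ EGA41.imperfection k₀ K L,
        ((KaehlerDifferential.map k₀ k K K).restrictScalars K).baseChange L ω = 0 → ω = 0 := by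
  classical
  obtain ⟨B, -, -, hB⟩ := Lib.PBasis.Field.exists_pBasis (p := p) (k := k₀) (K := K) Set.univ ∅
    (Set.empty_subset _) Lib.PBasis.Field.isPGenerating_univ
    ((Lib.PBasis.Field.isPIndependent_set_iff (∅ : Set K)).2 (by simp))
  obtain ⟨b, hb⟩ := Lib.PBasis.Field.isPBasis_iff_D.1 hB
  let P : Finset B → IntermediateField k₀ K := fun F =>
    Lib.PBasis.Field.FF p k₀ (B \ ((Subtype.val : B → K) '' F))
  have hP : Antitone P := fun F G hFG =>
    Lib.PBasis.Field.FF_mono (Set.sdiff_subset_sdiff_right (Set.image_mono (Finset.coe_subset.2 hFG)))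
  have hpow : ∀ F, IntermediateField.adjoin k₀ (Set.range fun y : K => y ^ p) ≤ P F := fun F =>
    IntermediateField.adjoin.mono _ _ _ Set.subset_union_left
  have h : (⨅ F, P F ⊔ IntermediateField.adjoin k₀ (Set.range fun y : K => y ^ p)) =
      IntermediateField.adjoin k₀ (Set.range fun y : K => y ^ p) := by
    refine le_antisymm (fun y hy => ?_) (le_iInf fun F => le_sup_right)
    rw [← Lib.PBasis.EventualIF.mem_pPower_base_iff]
    refine Lib.PBasis.Eventual.mem_pPowerSubalgebra_of_D_eq_zero (b.ext_elem fun a => ?_)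
    rw [map_zero, Finsupp.zero_apply]
    have hy' : y ∈ P ({a} : Finset B) := by
      have := (iInf_le _ ({a} : Finset B) : _ ≤ P ({a} : Finset B) ⊔ _) hy
      rwa [sup_eq_left.2 (hpow _)] at this
    refine Lib.PBasis.Field.eq_of_eqOn_FF ((b.coord a).compDer (KaehlerDifferential.D k₀ K)) ?_ hy'
    rintro z ⟨hzB, hz⟩
    have hne : (⟨z, hzB⟩ : B) ≠ a := fun he =>
      hz ⟨a, by simp, (congr_arg Subtype.val he).symm⟩
    change b.repr (KaehlerDifferential.D k₀ K ((⟨z, hzB⟩ : B) : K)) a = 0
    rw [← hb ⟨z, hzB⟩, Module.Basis.repr_self, Finsupp.single_eq_of_ne hne.symm]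
  obtain ⟨F, hF⟩ := Lib.PBasis.Eventual.eventually_ker_inf_eq_bot (p := p) (P₀ := k₀)
    (fun F => P F) (Lib.PBasis.EventualIF.hanti_iff p P hP) (Lib.PBasis.EventualIF.hint_iff p P h)
    (fun F => (KaehlerDifferential.map k₀ (P F) K K).restrictScalars K)
    (fun F y => by simp) (EGA41.imperfection k₀ K L)
  refine ⟨P F, fun y => Lib.PBasis.Field.pow_mem_FF _ y, ?_, hF F le_rfl⟩
  have htop : IntermediateField.adjoin (P F) ((Subtype.val : B → K) '' (F : Set B)) = ⊤ := by
    refine IntermediateField.restrictScalars_injective k₀ ?_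
    rw [Lib.PBasis.Field.restrict_adjoin_FF, IntermediateField.restrictScalars_top, eq_top_iff]
    intro z _
    have hz : z ∈ Lib.PBasis.Field.FF p k₀ (Set.range (Subtype.val : B → K)) := by
      rw [Lib.PBasis.Field.isPGenerating_iff_FF.1 hB.2]
      trivial
    refine Lib.PBasis.Field.FF_mono ?_ hz
    rw [Set.sdiff_union_self, Subtype.range_coe]
    exact Set.subset_union_left
  haveI : Finite ((Subtype.val : B → K) '' (F : Set B)) := (F.finite_toSet.image _).to_subtype
  haveI := IntermediateField.finiteDimensional_adjoin (K := P F)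
    (S := (Subtype.val : B → K) '' (F : Set B)) fun z _ =>
      IsIntegral.of_pow (R := P F) (Fact.out : p.Prime).pos
        (isIntegral_algebraMap (R := P F) (x := (⟨z ^ p, Lib.PBasis.Field.pow_mem_FF _ z⟩ : P F)))
  exact Module.Finite.equiv ((IntermediateField.equivOfEq htop).trans
    IntermediateField.topEquiv).toLinearEquiv

end Groth.Agent.S4549
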