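import Groth.Statements.S4550
import Mathlib.LinearAlgebra.Basis.VectorSpace
import Mathlib.RingTheory.MvPowerSeries.Expand
import Mathlib.RingTheory.MvPowerSeries.NoZeroDivisors
-- import your own Groth.Agent.* helpers here

set_option autoImplicit false
universe u
open EGA41

namespace Groth.Agent.S4550

theorem coeff_pow_mem {k : Type u} [Field k] {r : ℕ} (p : ℕ) [ExpChar k p] (f : MvPowerSeries (Fin r) k)
    (e : ℕ) : ∀ n, ∃ c : k, MvPowerSeries.coeff n (f ^ p ^ e) = c ^ p ^ e := by
  induction e with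
  | zero => exact fun n => ⟨MvPowerSeries.coeff n f, by simp⟩
  | succ e ih =>
    intro n
    have hp : p ≠ 0 := (expChar_pos k p).ne'
    rw [pow_succ p, pow_mul, ← MvPowerSeries.map_frobenius_expand p hp, MvPowerSeries.coeff_map]
    by_cases hn : ∀ i, p ∣ n i
    · obtain ⟨m, rfl⟩ : ∃ m, n = p • m :=
        ⟨n.mapRange (· / p) (Nat.zero_div p), Finsupp.ext fun i => by simp [Nat.mul_div_cancel' (hn i)]⟩
      obtain ⟨c, hc⟩ := ih m
      refine ⟨c, ?_⟩
      rw [MvPowerSeries.coeff_expand_smul, frobenius_def, hc, ← pow_mul]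
    · push Not at hn
      obtain ⟨i, hi⟩ := hn
      refine ⟨0, ?_⟩
      rw [MvPowerSeries.coeff_expand_of_not_dvd p hp _ hi, map_zero, zero_pow]
      positivity

/-- The series with coefficients in a subfield. -/
def coeffSubring {k : Type u} [Field k] (r : ℕ) (F : Subfield k) :
    Subring (MvPowerSeries (Fin r) k) where
  carrier := {f | ∀ n, MvPowerSeries.coeff n f ∈ F}
  zero_mem' n := by simp [F.zero_mem]
  one_mem' n := by
    classical
    rw [MvPowerSeries.coeff_one]; split <;> simp [F.zero_mem, F.one_mem]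
  add_mem' hf hg n := by rw [map_add]; exact F.add_mem (hf n) (hg n)
  neg_mem' hf n := by rw [map_neg]; exact F.neg_mem (hf n)
  mul_mem' {f g} hf hg n := by
    classical
    rw [MvPowerSeries.coeff_mul]
    exact F.sum_mem fun x _ => F.mul_mem (hf x.1) (hg x.2)

theorem mem_of_mul_mem {k : Type u} [Field k] {r : ℕ} (F : Subfield k) {c γ : MvPowerSeries (Fin r) k}
    (hγ : γ ∈ coeffSubring r F) (hγ0 : γ ≠ 0) (h : c * γ ∈ coeffSubring r F) :
    c ∈ coeffSubring r F := by
  classical
  obtain ⟨π, hπ⟩ := LinearMap.exists_leftInverse_of_injective (Algebra.linearMap F k)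
    (LinearMap.ker_eq_bot.2 (algebraMap F k).injective)
  let c' : MvPowerSeries (Fin r) k := fun n => (π (MvPowerSeries.coeff n c) : k)
  have hc' : c' ∈ coeffSubring r F := fun n => (π _).2
  have key : c' * γ = c * γ := by
    ext n
    have h1 : MvPowerSeries.coeff n (c * γ) = ((π (MvPowerSeries.coeff n (c * γ)) : F) : k) :=
      (congrArg Subtype.val (LinearMap.congr_fun hπ ⟨_, h n⟩)).symm
    rw [h1, MvPowerSeries.coeff_mul, MvPowerSeries.coeff_mul, map_sum, AddSubmonoidClass.coe_finset_sum]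
    refine Finset.sum_congr rfl fun x _ => ?_
    have : MvPowerSeries.coeff x.1 c * MvPowerSeries.coeff x.2 γ =
        (⟨_, hγ x.2⟩ : F) • MvPowerSeries.coeff x.1 c := by
      rw [Algebra.smul_def, mul_comm]; rfl
    rw [this, map_smul]
    change _ = (⟨_, hγ x.2⟩ : F).1 * _
    rw [mul_comm]
    rfl
  exact mul_right_cancel₀ hγ0 key ▸ hc'

theorem mem_closure {k : Type u} [Field k] {r : ℕ} (F : Subfield k)
    {x : FractionRing (MvPowerSeries (Fin r) k)}
    (hx : x ∈ Subfield.closure (algebraMap (MvPowerSeries (Fin r) k)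
      (FractionRing (MvPowerSeries (Fin r) k)) '' (coeffSubring r F : Set _))) :
    ∃ a ∈ coeffSubring r F, ∃ b ∈ coeffSubring r F, b ≠ 0 ∧
      x * algebraMap _ _ b = algebraMap _ _ a := by
  rw [Subfield.mem_closure_iff] at hx
  obtain ⟨y, hy, z, hz, rfl⟩ := hx
  rw [← Subring.coe_map, Subring.closure_eq, Subring.mem_map] at hy hz
  obtain ⟨a, ha, rfl⟩ := hy
  obtain ⟨b, hb, rfl⟩ := hz
  rcases eq_or_ne b 0 with rfl | hb0
  · exact ⟨0, zero_mem _, 1, one_mem _, one_ne_zero, by simp⟩
  · refine ⟨a, ha, b, hb, hb0, div_mul_cancel₀ _ ?_⟩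
    exact (map_ne_zero_iff _ (IsFractionRing.injective _ _)).2 hb0

/-- Let k be a field, (k_α) a decreasing filtered family of subfields of k with intersection k₀, and
suppose there is a power q of the characteristic exponent of k with k^q ⊆ k₀. Then, inside k((T_1,
…, T_r)), one has ⋂_α k_α((T_1, …, T_r)) = k₀((T_1, …, T_r)); here F((T)) is the subfield of the
fraction field of k[[T]] generated by the power series with all coefficients in F. -/
theorem result {k : Type u} [Field k] {ι : Type u} [Nonempty ι] (F : ι → Subfield k)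
    (hdir : ∀ a b : ι, ∃ c, F c ≤ F a ⊓ F b) (e : ℕ) (hq : ∀ x : k, x ^ ringExpChar k ^ e ∈ ⨅ i, F i) (r : ℕ) :
    (⨅ i, Subfield.closure (algebraMap (MvPowerSeries (Fin r) k) (FractionRing (MvPowerSeries (Fin r) k)) ''
        {f | ∀ n, MvPowerSeries.coeff n f ∈ F i})) =
      Subfield.closure (algebraMap (MvPowerSeries (Fin r) k) (FractionRing (MvPowerSeries (Fin r) k)) ''
        {f | ∀ n, MvPowerSeries.coeff n f ∈ ⨅ i, F i}) := by
  let p := ringExpChar k
  haveI : ExpChar k p := inferInstance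
  refine le_antisymm (fun x hx => ?_) (le_iInf fun i => Subfield.closure_mono
    (Set.image_mono fun f hf n => (iInf_le F i) (hf n)))
  rw [Subfield.mem_iInf] at hx
  obtain ⟨i₀⟩ := ‹Nonempty ι›
  obtain ⟨a, ha, b, hb, hb0, hab⟩ := mem_closure (F i₀) (hx i₀)
  have hq1 : 0 < p ^ e := pow_pos (expChar_pos k p) e
  let c := a * b ^ (p ^ e - 1)
  let β := b ^ p ^ e
  have hβ : ∀ n, MvPowerSeries.coeff n β ∈ ⨅ i, F i := fun n => by
    obtain ⟨z, hz⟩ := coeff_pow_mem p b e n
    rw [hz]; exact hq z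
  have hxβ : x * algebraMap _ _ β = algebraMap _ _ c := by
    rw [show β = b * b ^ (p ^ e - 1) by rw [← pow_succ', Nat.sub_add_cancel hq1], map_mul, map_mul,
      ← mul_assoc, hab]
  have hc : ∀ n, MvPowerSeries.coeff n c ∈ ⨅ i, F i := by
    intro n
    rw [Subfield.mem_iInf]
    intro i
    obtain ⟨a', ha', b', hb', hb0', hab'⟩ := mem_closure (F i) (hx i)
    refine mem_of_mul_mem (F i) hb' hb0' ?_ n
    have : c * b' = a' * β := IsFractionRing.injective (MvPowerSeries (Fin r) k)
      (FractionRing (MvPowerSeries (Fin r) k)) (by rw [map_mul _ c, map_mul _ a', ← hxβ, ← hab']; ring)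
    rw [this]
    exact mul_mem ha' fun m => Subfield.mem_iInf.1 (hβ m) i
  have hβ0 : algebraMap _ (FractionRing (MvPowerSeries (Fin r) k)) β ≠ 0 :=
    (map_ne_zero_iff _ (IsFractionRing.injective _ _)).2 (pow_ne_zero _ hb0)
  rw [show x = algebraMap _ _ c / algebraMap _ _ β by rw [← hxβ, mul_div_cancel_right₀ _ hβ0]]
  exact Subfield.div_mem _ (Subfield.subset_closure ⟨c, hc, rfl⟩) (Subfield.subset_closure ⟨β, hβ, rfl⟩)

end Groth.Agent.S4550
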