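import Groth.Statements.S4551
import Mathlib.RingTheory.Nilpotent.GeometricallyReduced
import Mathlib.RingTheory.Flat.Basic
import Mathlib.RingTheory.MvPowerSeries.NoZeroDivisors
import Mathlib.RingTheory.TensorProduct.Maps

set_option autoImplicit false
universe u
open EGA41

namespace Groth.Agent.S4551


open TensorProduct in
/-- `k' ⊗ k[[T]] → k'[[T]]` is injective, so the tensor product is reduced. -/
private theorem isReduced_tensor (k k' : Type u) [Field k] [Field k'] [Algebra k k'] (r : ℕ) :
    IsReduced (k' ⊗[k] MvPowerSeries (Fin r) k) := by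
  classical
  let f : k' →ₐ[k] MvPowerSeries (Fin r) k' := IsScalarTower.toAlgHom k k' _
  let g : MvPowerSeries (Fin r) k →ₐ[k] MvPowerSeries (Fin r) k' :=
    { MvPowerSeries.map (algebraMap k k') with
      commutes' := fun c => by
        simp [MvPowerSeries.algebraMap_apply] }
  let φ := Algebra.TensorProduct.lift f g fun _ _ => mul_comm _ _
  refine isReduced_of_injective φ ?_
  rw [injective_iff_map_eq_zero]
  intro x hx
  let b := Module.Free.chooseBasis k k'
  obtain ⟨c, hc⟩ := TensorProduct.eq_repr_basis_left (N := MvPowerSeries (Fin r) k) b x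
  have hc0 : c = 0 := by
    ext i : 1
    ext n
    have h1 : (c.sum fun i m => MvPowerSeries.coeff n m • b i) = 0 := by
      have := congrArg (MvPowerSeries.coeff n) hx
      rw [← hc, map_finsuppSum, map_finsuppSum, map_zero] at this
      rw [← this]
      refine Finsupp.sum_congr fun i _ => ?_
      simp [φ, f, g, Algebra.smul_def, mul_comm]
      simp [MvPowerSeries.algebraMap_apply]
    have h2 := linearIndependent_iff'.1 b.linearIndependent c.support (fun i => MvPowerSeries.coeff n (c i)) h1 i
    by_cases hi : i ∈ c.support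
    · simpa using h2 hi
    · simp [Finsupp.notMem_support_iff.1 hi]
  simp [← hc, hc0]

open TensorProduct in
/-- Reducedness passes to the fraction field. -/
private theorem isReduced_tensor_frac (k k' A K : Type u) [Field k] [Field k'] [Algebra k k']
    [CommRing A] [IsDomain A] [Algebra k A] [Field K] [Algebra A K] [Algebra k K] [IsScalarTower k A K]
    [IsFractionRing A K] [IsReduced (k' ⊗[k] A)] : IsReduced (k' ⊗[k] K) := by
  let ι := Algebra.TensorProduct.map (AlgHom.id k k') (IsScalarTower.toAlgHom k A K)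
  have hι : Function.Injective ι :=
    Module.Flat.lTensor_preserves_injective_linearMap
      (IsScalarTower.toAlgHom k A K).toLinearMap (IsFractionRing.injective A K)
  have hclear : ∀ y : k' ⊗[k] K, ∃ s : A, s ≠ 0 ∧ ∃ z, ι z = (1 ⊗ₜ algebraMap A K s) * y := by
    intro y
    induction y using TensorProduct.induction_on with
    | zero => exact ⟨1, one_ne_zero, 0, by simp⟩
    | tmul a x =>
      obtain ⟨u, v, hv, rfl⟩ := IsFractionRing.div_surjective (A := A) x
      have hv0 : algebraMap A K v ≠ 0 := IsFractionRing.to_map_ne_zero_of_mem_nonZeroDivisors hv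
      refine ⟨v, nonZeroDivisors.ne_zero hv, a ⊗ₜ u, ?_⟩
      simp [ι, mul_div_cancel₀ _ hv0]
    | add y₁ y₂ h₁ h₂ =>
      obtain ⟨s₁, hs₁, z₁, e₁⟩ := h₁
      obtain ⟨s₂, hs₂, z₂, e₂⟩ := h₂
      refine ⟨s₁ * s₂, mul_ne_zero hs₁ hs₂, (1 ⊗ₜ s₂) * z₁ + (1 ⊗ₜ s₁) * z₂, ?_⟩
      rw [map_add, map_mul, map_mul, e₁, e₂, mul_add, ← mul_assoc, ← mul_assoc]
      simp [ι, mul_comm]
  refine ⟨fun y hy => ?_⟩
  obtain ⟨s, hs, z, hz⟩ := hclear y
  have hu : IsUnit ((1 : k') ⊗ₜ[k] algebraMap A K s) :=
    (IsUnit.mk0 _ ((map_ne_zero_iff _ (IsFractionRing.injective A K)).2 hs)).map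
      (Algebra.TensorProduct.includeRight : K →ₐ[k] k' ⊗[k] K)
  have hnil : IsNilpotent z :=
    (IsNilpotent.map_iff hι).1 (hz ▸ (Commute.all _ _).isNilpotent_mul_left hy)
  rw [hnil.eq_zero, map_zero] at hz
  exact (hu.mul_right_eq_zero).1 hz.symm

/-- For every field k (any characteristic) the field of fractions k((T_1, …, T_r)) of the power series
ring k[[T_1, …, T_r]] is a separable extension of k, i.e. it is geometrically reduced over k. -/
theorem result (k : Type u) [Field k] (r : ℕ) :
    Algebra.IsGeometricallyReduced k (FractionRing (MvPowerSeries (Fin r) k)) := by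
  rw [Algebra.isGeometricallyReduced_field_iff]
  have : IsDomain (MvPowerSeries (Fin r) k) := NoZeroDivisors.to_isDomain _
  have := isReduced_tensor k (AlgebraicClosure k) r
  exact isReduced_tensor_frac k (AlgebraicClosure k) (MvPowerSeries (Fin r) k) _

end Groth.Agent.S4551
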