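import Groth.Statements.S4552
import Mathlib.Algebra.Module.Projective
import Mathlib.Algebra.Module.Torsion.Basic


set_option autoImplicit false
universe u
open EGA41

namespace Groth.Agent.S4552

/-- For the 𝔞-adic topology on A and the deduced topology on M: the topological A-module M is formally
projective (for every open ideal 𝔞ⁿ, every pair of (A/𝔞ⁿ)-modules P, Q, every surjection P → Q and
every continuous A-linear map M → Q — here automatically continuous — there is a continuous A-linear
lift M → P) if and only if it is strictly formally projective, i.e. M/𝔞ⁿM is a projective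
(A/𝔞ⁿ)-module for every n. -/
theorem result {A : Type u} [CommRing A] (𝔞 : Ideal A) (M : Type u)
    [AddCommGroup M] [Module A M] :
    (∀ (n : ℕ) (P Q : Type u) [AddCommGroup P] [Module A P] [AddCommGroup Q] [Module A Q],
      (∀ a ∈ 𝔞 ^ n, ∀ y : P, a • y = 0) → (∀ a ∈ 𝔞 ^ n, ∀ y : Q, a • y = 0) →
      ∀ f : P →ₗ[A] Q, Function.Surjective f → ∀ v : M →ₗ[A] Q, ∃ w : M →ₗ[A] P, f ∘ₗ w = v) ↔
    ∀ n : ℕ, Module.Projective (A ⧸ 𝔞 ^ n) (M ⧸ (𝔞 ^ n • ⊤ : Submodule A M)) := by
  classical
  constructor
  · intro h n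
    set I := 𝔞 ^ n
    set Q := M ⧸ (I • ⊤ : Submodule A M)
    let f : (Q →₀ A ⧸ I) →ₗ[A ⧸ I] Q := Finsupp.linearCombination (A ⧸ I) id
    have hf : Function.Surjective f := fun q => ⟨Finsupp.single q 1, by simp [f]⟩
    have hQ : ∀ a ∈ I, ∀ y : Q, a • y = 0 := fun a ha y => by
      induction y using Submodule.Quotient.induction_on with
      | _ m => rw [← Submodule.Quotient.mk_smul, Submodule.Quotient.mk_eq_zero]; exact Submodule.smul_mem_smul ha trivial
    have hP : ∀ a ∈ I, ∀ y : (Q →₀ A ⧸ I), a • y = 0 := fun a ha y => by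
      ext q
      rw [Finsupp.smul_apply, Algebra.smul_def, Ideal.Quotient.algebraMap_eq, Ideal.Quotient.eq_zero_iff_mem.mpr ha, zero_mul]
      rfl
    obtain ⟨w, hw⟩ := h n (Q →₀ A ⧸ I) Q hP hQ (f.restrictScalars A) hf (I • ⊤ : Submodule A M).mkQ
    have hle : (I • ⊤ : Submodule A M) ≤ LinearMap.ker w := Submodule.smul_le.mpr fun a ha m _ => by
      rw [LinearMap.mem_ker, map_smul]; exact hP a ha _
    let s : Q →ₗ[A ⧸ I] (Q →₀ A ⧸ I) := LinearMap.extendScalarsOfSurjective Ideal.Quotient.mk_surjective (Submodule.liftQ _ w hle)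
    refine Module.Projective.of_split s f (LinearMap.ext fun q => ?_)
    induction q using Submodule.Quotient.induction_on with
    | _ m => exact LinearMap.congr_fun hw m
  · intro h n P Q _ _ _ _ hP hQ f hf v
    set I := 𝔞 ^ n
    have hPt : Module.IsTorsionBySet A P I := fun y a => hP a a.2 y
    have hQt : Module.IsTorsionBySet A Q I := fun y a => hQ a a.2 y
    letI := hPt.module
    letI := hQt.module
    haveI : IsScalarTower A (A ⧸ I) P := hPt.isScalarTower
    haveI : IsScalarTower A (A ⧸ I) Q := hQt.isScalarTower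
    haveI := h n
    have hle : (I • ⊤ : Submodule A M) ≤ LinearMap.ker v := Submodule.smul_le.mpr fun a ha m _ => by
      rw [LinearMap.mem_ker, map_smul]; exact hQ a ha _
    let f' : P →ₗ[A ⧸ I] Q := LinearMap.extendScalarsOfSurjective Ideal.Quotient.mk_surjective f
    let v' : (M ⧸ (I • ⊤ : Submodule A M)) →ₗ[A ⧸ I] Q :=
      LinearMap.extendScalarsOfSurjective Ideal.Quotient.mk_surjective (Submodule.liftQ _ v hle)
    obtain ⟨w, hw⟩ := Module.projective_lifting_property f' v' hf
    exact ⟨(w.restrictScalars A) ∘ₗ (I • ⊤ : Submodule A M).mkQ,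
      LinearMap.ext fun m => LinearMap.congr_fun hw (Submodule.Quotient.mk m)⟩


end Groth.Agent.S4552
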