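import Groth.Statements.S4555
import Mathlib.RingTheory.MvPowerSeries.Evaluation
import Mathlib.RingTheory.MvPowerSeries.Basic
import Mathlib.RingTheory.Nilpotent.Basic


set_option autoImplicit false
universe u
open EGA41

namespace Groth.Agent.S4555

/-- Multi-indices of total degree `< m`. -/
noncomputable def degLT (n m : ℕ) : Finset (Fin n →₀ ℕ) :=
  ((Finset.univ : Finset (Fin n → Fin m)).image fun v => Finsupp.equivFunOnFinite.symm fun i => (v i : ℕ)).filter
    fun d => d.degree < m

theorem mem_degLT {n m : ℕ} {d : Fin n →₀ ℕ} : d ∈ degLT n m ↔ d.degree < m := by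
  classical
  refine ⟨fun h => (Finset.mem_filter.mp h).2, fun h => Finset.mem_filter.mpr ⟨Finset.mem_image.mpr ?_, h⟩⟩
  have hlt : ∀ i, d i < m := fun i => lt_of_le_of_lt (Finsupp.le_degree i d) h
  exact ⟨fun i => ⟨d i, hlt i⟩, Finset.mem_univ _, Finsupp.ext fun i => rfl⟩

theorem mem_pow_of_coeff {A : Type u} [CommRing A] {n : ℕ} :
    ∀ (m : ℕ) (f : MvPowerSeries (Fin n) A), (∀ d : Fin n →₀ ℕ, d.degree < m → MvPowerSeries.coeff d f = 0) →
      f ∈ RingHom.ker (MvPowerSeries.constantCoeff : MvPowerSeries (Fin n) A →+* A) ^ m := by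
  classical
  intro m
  induction m with
  | zero => intro f _; simp
  | succ m ih =>
    intro f hf
    let g : Fin n → MvPowerSeries (Fin n) A := fun i ν =>
      if ∀ j < i, ν j = 0 then MvPowerSeries.coeff (ν + Finsupp.single i 1) f else 0
    have hcoeff : ∀ i ν, MvPowerSeries.coeff ν (g i) = if ∀ j < i, ν j = 0 then MvPowerSeries.coeff (ν + Finsupp.single i 1) f else 0 :=
      fun i ν => rfl
    have hsum : f = ∑ i, MvPowerSeries.X i * g i := by
      ext ν
      simp only [map_sum, MvPowerSeries.X, MvPowerSeries.coeff_monomial_mul, one_mul]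
      rcases eq_or_ne ν 0 with rfl | hν
      · rw [hf 0 (by simp)]
        refine (Finset.sum_eq_zero fun i _ => ?_).symm
        rw [if_neg]
        simp
      · have hne : (Finset.univ.filter fun i => ν i ≠ 0).Nonempty := by
          by_contra h
          rw [Finset.not_nonempty_iff_eq_empty, Finset.filter_eq_empty_iff] at h
          exact hν (Finsupp.ext fun i => not_not.mp (h (Finset.mem_univ i)))
        set i₀ := (Finset.univ.filter fun i => ν i ≠ 0).min' hne
        have hi₀ : ν i₀ ≠ 0 := (Finset.mem_filter.mp (Finset.min'_mem _ hne)).2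
        have hmin : ∀ j < i₀, ν j = 0 := fun j hj => by
          by_contra h
          exact absurd hj (not_lt.mpr (Finset.min'_le _ j (Finset.mem_filter.mpr ⟨Finset.mem_univ _, h⟩)))
        rw [Finset.sum_eq_single i₀]
        · rw [if_pos (Finsupp.single_le_iff.mpr (Nat.one_le_iff_ne_zero.mpr hi₀)), hcoeff, if_pos,
            tsub_add_cancel_of_le (Finsupp.single_le_iff.mpr (Nat.one_le_iff_ne_zero.mpr hi₀))]
          intro j hj
          rw [Finsupp.tsub_apply, hmin j hj, zero_tsub]
        · intro i _ hi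
          by_cases hle : Finsupp.single i 1 ≤ ν
          · rw [if_pos hle, hcoeff, if_neg]
            intro h
            have hνi : ν i ≠ 0 := Nat.one_le_iff_ne_zero.mp (Finsupp.single_le_iff.mp hle)
            rcases lt_or_gt_of_ne hi with hlt | hgt
            · exact hνi (hmin i hlt)
            · have := h i₀ hgt
              rw [Finsupp.tsub_apply, Finsupp.single_apply, if_neg (ne_of_gt hgt), tsub_zero] at this
              exact hi₀ this
          · rw [if_neg hle]
        · simp
    rw [hsum, pow_succ']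
    refine Ideal.sum_mem _ fun i _ => Ideal.mul_mem_mul (by simp) (ih _ fun d hd => ?_)
    rw [hcoeff]
    split_ifs
    · refine hf _ ?_
      rw [map_add, Finsupp.degree_single]
      omega
    · rfl

theorem exists_eval (A : Type u) [CommRing A] (𝔞 : Ideal A) (n : ℕ) (E : Type u) [CommRing E]
    [Algebra A E] (hE : ∃ k : ℕ, (𝔞 ^ k).map (algebraMap A E) = ⊥) (z : Fin n → E) (hz : ∀ i, IsNilpotent (z i)) :
    ∃ g : MvPowerSeries (Fin n) A →ₐ[A] E,
      (∃ m : ℕ, ∀ x ∈ (𝔞.map (MvPowerSeries.C : A →+* MvPowerSeries (Fin n) A) ⊔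
        RingHom.ker (MvPowerSeries.constantCoeff : MvPowerSeries (Fin n) A →+* A)) ^ m, g x = 0) ∧
      ∀ i, g (MvPowerSeries.X i) = z i := by
  classical
  letI : UniformSpace A := ⊥
  letI : UniformSpace E := ⊥
  haveI : DiscreteUniformity A := ⟨rfl⟩
  haveI : DiscreteUniformity E := ⟨rfl⟩
  haveI : DiscreteTopology A := inferInstance
  haveI : DiscreteTopology E := inferInstance
  haveI : ContinuousSMul A E := ⟨continuous_of_discreteTopology⟩
  haveI : IsLinearTopology E E := IsLinearTopology.mk_of_hasBasis' E (p := fun _ : Unit => True)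
    (s := fun _ => (⊥ : Submodule E E)) (by simpa [nhds_discrete] using Filter.hasBasis_pure (0 : E))
    (fun s m hm => s.smul_mem _)
  have ha : MvPowerSeries.HasEval z :=
    { hpow := fun i => by
        obtain ⟨N, hN⟩ := hz i
        show Filter.Tendsto _ _ _
        rw [nhds_discrete, Filter.tendsto_pure]
        exact Filter.eventually_atTop.mpr ⟨N, fun k hk => pow_eq_zero_of_le hk hN⟩
      tendsto_zero := by simp [Filter.cofinite_eq_bot] }
  refine ⟨MvPowerSeries.aeval ha, ?_, fun i => by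
    rw [← MvPolynomial.coe_X, MvPowerSeries.aeval_coe, MvPolynomial.aeval_X]⟩
  let Q : Ideal E := 𝔞.map (algebraMap A E) + ∑ i, Ideal.span {z i}
  have hQ : IsNilpotent Q := by
    refine Commute.isNilpotent_add (Commute.all _ _) ?_ (isNilpotent_sum fun i _ => ?_)
    · obtain ⟨k, hk⟩ := hE
      exact ⟨k, by rw [← Ideal.map_pow]; exact hk⟩
    · obtain ⟨N, hN⟩ := hz i
      exact ⟨N, by rw [Ideal.span_singleton_pow, hN, Ideal.span_singleton_eq_bot.mpr rfl]; rfl⟩
  obtain ⟨m, hm⟩ := hQ
  refine ⟨m, fun x hx => ?_⟩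
  have hle : (𝔞.map (MvPowerSeries.C : A →+* MvPowerSeries (Fin n) A) ⊔
        RingHom.ker (MvPowerSeries.constantCoeff : MvPowerSeries (Fin n) A →+* A)) ≤ Q.comap (MvPowerSeries.aeval ha) := by
    refine sup_le (Ideal.map_le_iff_le_comap.mpr fun a haa => ?_) fun f hf => ?_
    · show MvPowerSeries.aeval ha (MvPowerSeries.C a) ∈ Q
      rw [← MvPolynomial.coe_C, MvPowerSeries.aeval_coe, MvPolynomial.aeval_C]
      exact Ideal.mem_sup_left (Ideal.mem_map_of_mem _ haa)
    · show MvPowerSeries.aeval ha f ∈ Q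
      have hs := MvPowerSeries.hasSum_aeval ha f
      refine IsClosed.mem_of_tendsto (isClosed_discrete (Q : Set E)) hs (Filter.Eventually.of_forall fun t => Ideal.sum_mem _ fun d _ => ?_)
      rcases eq_or_ne d 0 with rfl | hd
      · rw [MvPowerSeries.coeff_zero_eq_constantCoeff_apply, show MvPowerSeries.constantCoeff f = 0 from hf, zero_smul]
        exact zero_mem _
      · obtain ⟨i, hi⟩ := Finsupp.support_nonempty_iff.mpr hd
        rw [Algebra.smul_def]
        refine Ideal.mul_mem_left _ _ (Ideal.mem_sup_right ?_)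
        refine Ideal.prod_mem (I := ∑ j, Ideal.span {z j}) hi ?_
        refine Ideal.pow_mem_of_mem _ ?_ _ (Nat.pos_of_ne_zero (Finsupp.mem_support_iff.mp hi))
        exact (Finset.single_le_sum (f := fun j => Ideal.span {z j}) (fun j _ => bot_le) (Finset.mem_univ i))
          (Ideal.mem_span_singleton_self _)
  have h := Ideal.pow_right_mono hle m hx
  have h' := Ideal.map_mono (f := MvPowerSeries.aeval ha) (Ideal.le_comap_pow (MvPowerSeries.aeval ha) m) (Ideal.mem_map_of_mem (MvPowerSeries.aeval ha) h)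
  have h'' := Ideal.map_comap_le h'
  rw [hm] at h''
  exact h''

/-- Let A carry the 𝔞-adic topology, B = A[[T_1, …, T_n]] the product topology (the adic topology of 𝔞B
+ (T_1, …, T_n)), and let E be a discrete topological A-algebra (a power of 𝔞 kills E). (i) If f : B
→ E is a continuous A-algebra homomorphism then each f(T_i) is nilpotent. (ii) Conversely, for every
family (z_i) of nilpotent elements of E there is one and only one continuous A-algebra homomorphism
g : B → E with g(T_i) = z_i for all i. -/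
theorem result (A : Type u) [CommRing A] (𝔞 : Ideal A) (n : ℕ) (E : Type u) [CommRing E]
    [Algebra A E] (hE : ∃ k : ℕ, (𝔞 ^ k).map (algebraMap A E) = ⊥) :
    (∀ f : MvPowerSeries (Fin n) A →ₐ[A] E,
      (∃ m : ℕ, ∀ x ∈ (𝔞.map (MvPowerSeries.C : A →+* MvPowerSeries (Fin n) A) ⊔
        RingHom.ker (MvPowerSeries.constantCoeff : MvPowerSeries (Fin n) A →+* A)) ^ m, f x = 0) →
      ∀ i, IsNilpotent (f (MvPowerSeries.X i))) ∧
    ∀ z : Fin n → E, (∀ i, IsNilpotent (z i)) →
      ∃! g : MvPowerSeries (Fin n) A →ₐ[A] E,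
        (∃ m : ℕ, ∀ x ∈ (𝔞.map (MvPowerSeries.C : A →+* MvPowerSeries (Fin n) A) ⊔
          RingHom.ker (MvPowerSeries.constantCoeff : MvPowerSeries (Fin n) A →+* A)) ^ m, g x = 0) ∧
        ∀ i, g (MvPowerSeries.X i) = z i := by
  classical
  set J := 𝔞.map (MvPowerSeries.C : A →+* MvPowerSeries (Fin n) A) ⊔
    RingHom.ker (MvPowerSeries.constantCoeff : MvPowerSeries (Fin n) A →+* A)
  refine ⟨fun f ⟨m, hm⟩ i => ⟨m, ?_⟩, fun z hz => ?_⟩
  · rw [← map_pow]
    exact hm _ (Ideal.pow_mem_pow (Ideal.mem_sup_right (by simp)) m)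
  obtain ⟨g, ⟨m, hm⟩, hg⟩ := exists_eval A 𝔞 n E hE z hz
  refine ⟨g, ⟨⟨m, hm⟩, hg⟩, fun g' ⟨⟨m', hm'⟩, hg'⟩ => ?_⟩
  refine AlgHom.ext fun f => ?_
  let M := m ⊔ m'
  let P : MvPolynomial (Fin n) A := ∑ d ∈ degLT n M, MvPolynomial.monomial d (MvPowerSeries.coeff d f)
  have hP : f - (P : MvPowerSeries (Fin n) A) ∈ J ^ M := by
    refine Ideal.pow_right_mono le_sup_right M (mem_pow_of_coeff M _ fun d hd => ?_)
    rw [map_sub, MvPolynomial.coeff_coe]
    simp only [P, MvPolynomial.coeff_sum, MvPolynomial.coeff_monomial, Finset.sum_ite_eq', mem_degLT, hd, if_true, sub_self]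
  have h1 : ∀ (h : MvPowerSeries (Fin n) A →ₐ[A] E) (k : ℕ), k ≤ M → (∀ x ∈ J ^ k, h x = 0) → h f = h P := fun h k hk hh => by
    rw [← sub_eq_zero, ← map_sub]
    exact hh _ (Ideal.pow_le_pow_right hk hP)
  have h2 : g'.comp (MvPolynomial.coeToMvPowerSeries.algHom A) = g.comp (MvPolynomial.coeToMvPowerSeries.algHom A) :=
    MvPolynomial.algHom_ext fun i => by
      simp [MvPolynomial.coeToMvPowerSeries.algHom_apply, hg, hg']
  rw [h1 g' m' le_sup_right hm', h1 g m le_sup_left hm]
  simpa [MvPolynomial.coeToMvPowerSeries.algHom_apply] using AlgHom.congr_fun h2 P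


end Groth.Agent.S4555
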