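import Groth.Statements.S4556
import Groth.Agent.Lib.FSAdic.Basic

set_option autoImplicit false
universe u
open EGA41

namespace Groth.Agent.S4556

/-- Let B be a formally smooth A-algebra, E and E' two A-algebras, R (resp. R') a nilpotent ideal of E
(resp. E'), f : E → E' a surjective A-algebra homomorphism with f(R) = R', and f' : E/R → E'/R' the
induced homomorphism. Let u : B → E/R be an A-algebra homomorphism and v' : B → E' an A-algebra
homomorphism through which f' ∘ u factors (v' followed by E' → E'/R' equals f' ∘ u). Then there is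
an A-algebra homomorphism v : B → E with f ∘ v = v'. (The published statement assumes only f(R) ⊆
R'; in that form it fails for B = ℚ[x, x⁻¹], E = ℚ[t], E' = ℚ[t]/(t²), R = 0, R' = (t), u : x ↦ 1
and v' : x ↦ 1 + t, since any v sends x to a unit of ℚ[t], a constant; the argument identifies R'
with the image of R, and that equality is assumed here.) -/
theorem result {A B E E' : Type u} [CommRing A] [CommRing B] [Algebra A B]
    [Algebra.FormallySmooth A B] [CommRing E] [CommRing E'] [Algebra A E] [Algebra A E']
    (R : Ideal E) (R' : Ideal E') (hR : IsNilpotent R) (hR' : IsNilpotent R')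
    (f : E →ₐ[A] E') (hf : Function.Surjective f) (hfR : R.map f.toRingHom = R')
    (u : B →ₐ[A] E ⧸ R) (v' : B →ₐ[A] E')
    (huv : (Ideal.Quotient.mkₐ A R').comp v' =
      (Ideal.quotientMapₐ R' f (fun x hx => hfR.le (Ideal.mem_map_of_mem f.toRingHom hx))).comp u) :
    ∃ v : B →ₐ[A] E, f.comp v = v' := by
  let e := Ideal.quotientKerAlgEquivOfSurjective hf
  obtain ⟨t, ht1, ht2⟩ := Groth.Agent.Lib.FSAdic.Basic.exists_lift_inf R (RingHom.ker f.toRingHom)
    u (e.symm.toAlgHom.comp v') (fun b => by
      obtain ⟨c, hc⟩ := Ideal.Quotient.mk_surjective (u b)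
      have h1 : Ideal.Quotient.mk R' (v' b) = Ideal.Quotient.mk R' (f c) := by
        have h0 := AlgHom.congr_fun huv b
        simp only [AlgHom.comp_apply, ← hc] at h0
        exact h0
      have h2 := (Ideal.Quotient.mk_eq_mk_iff_sub_mem _ _).1 h1
      rw [← hfR, Ideal.mem_map_iff_of_surjective f.toRingHom hf] at h2
      obtain ⟨r, hr, hr'⟩ := h2
      refine ⟨c + r, ?_, e.injective ?_⟩
      · rw [← hc, Ideal.Quotient.mk_eq_mk_iff_sub_mem]
        simpa using hr
      · refine Eq.trans ?_ (e.apply_symm_apply (v' b)).symm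
        have hr'' : f r = v' b - f c := hr'
        calc e (Ideal.Quotient.mk _ (c + r)) = f (c + r) := rfl
          _ = v' b := by rw [map_add, hr'']; ring)
  obtain ⟨n, hn⟩ := hR
  obtain ⟨v, hv⟩ := Algebra.FormallySmooth.exists_lift (R ⊓ RingHom.ker f.toRingHom)
    ⟨n, le_bot_iff.1 ((Ideal.pow_right_mono inf_le_left n).trans hn.le)⟩ t
  refine ⟨v, AlgHom.ext fun b => ?_⟩
  have h1 : Ideal.Quotient.mk (RingHom.ker f.toRingHom) (v b) = e.symm (v' b) := by
    have h0 := AlgHom.congr_fun ht2 b
    rw [← hv] at h0
    exact h0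
  have h2 := congr_arg e h1
  rw [AlgEquiv.apply_symm_apply] at h2
  exact h2

end Groth.Agent.S4556
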