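import Groth.Statements.S4558
import Mathlib.RingTheory.Kaehler.Basic
import Mathlib.Algebra.Module.Projective
import Mathlib.RingTheory.AdicCompletion.Functoriality
import Mathlib.RingTheory.Ideal.Cotangent
import Mathlib.LinearAlgebra.TensorProduct.Quotient


set_option autoImplicit false
universe u
open EGA41 TensorProduct

namespace Groth.Agent.S4558

theorem finite_completion {B : Type u} [CommRing B] (I : Ideal B) [IsAdicComplete I B] {M : Type u}
    [AddCommGroup M] [Module B M] {k : ℕ} (f : (Fin k → B) →ₗ[B] M)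
    (hf : ∀ w, ∃ c, w - f c ∈ (I • ⊤ : Submodule B M)) : Module.Finite B (AdicCompletion I M) := by
  classical
  have hstep : ∀ (i : ℕ) (w : M), ∃ c : Fin k → B, w ∈ (I ^ i • ⊤ : Submodule B M) →
      c ∈ (I ^ i • ⊤ : Submodule B (Fin k → B)) ∧ w - f c ∈ (I ^ (i + 1) • ⊤ : Submodule B M) := fun i w => by
    by_cases hw : w ∈ (I ^ i • ⊤ : Submodule B M)
    · obtain ⟨c, h1, h2⟩ : ∃ c : Fin k → B, c ∈ (I ^ i • ⊤ : Submodule B (Fin k → B)) ∧ w - f c ∈ (I ^ (i + 1) • ⊤ : Submodule B M) := by
        refine Submodule.smul_induction_on hw (fun a ha b _ => ?_) ?_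
        · obtain ⟨c, hc⟩ := hf b
          refine ⟨a • c, Submodule.smul_mem_smul ha Submodule.mem_top, ?_⟩
          rw [map_smul, ← smul_sub, pow_succ, Submodule.mul_smul]
          exact Submodule.smul_mem_smul ha hc
        · rintro a b ⟨c, hc, hc'⟩ ⟨c', hd, hd'⟩
          refine ⟨c + c', add_mem hc hd, ?_⟩
          rw [map_add, add_sub_add_comm]
          exact add_mem hc' hd'
      exact ⟨c, fun _ => ⟨h1, h2⟩⟩
    · exact ⟨0, fun h => absurd h hw⟩
  choose c hc using hstep
  have hsurj : Function.Surjective (((AdicCompletion.map I f).restrictScalars B) ∘ₗ AdicCompletion.of I (Fin k → B)) := by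
    haveI : IsPrecomplete I (Fin k → B) := IsPrecomplete.mk fun a ha => by
      choose L hL using fun l : Fin k => IsPrecomplete.prec (I := I) (inferInstance : IsPrecomplete I B)
        (f := fun i => a i l) fun {m n} hmn => by
          have hm : Submodule.map (LinearMap.proj (R := B) (φ := fun _ : Fin k => B) l) (I ^ m • ⊤) ≤ I ^ m • ⊤ := by
            rw [Submodule.map_smul'']
            exact Submodule.smul_mono le_rfl le_top
          exact SModEq.sub_mem.mpr (hm (Submodule.mem_map_of_mem (SModEq.sub_mem.mp (ha hmn))))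
      refine ⟨L, fun n => SModEq.sub_mem.mpr ?_⟩
      rw [← Finset.univ_sum_single (a n - L)]
      refine sum_mem fun l _ => ?_
      have hl := SModEq.sub_mem.mp (hL l n)
      rw [smul_eq_mul, Ideal.mul_top] at hl
      rw [show Pi.single l ((a n - L) l) = (a n - L) l • (Pi.single l (1 : B) : Fin k → B) by
        rw [← Pi.single_smul, smul_eq_mul, mul_one]]
      exact Submodule.smul_mem_smul hl Submodule.mem_top
    rw [LinearMap.coe_comp]
    refine Function.Surjective.comp (g := ⇑((AdicCompletion.map I f).restrictScalars B)) ?_ (AdicCompletion.of_surjective I (Fin k → B))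
    intro x
    obtain ⟨a, rfl⟩ := AdicCompletion.mk_surjective I M x
    let b : ℕ → (Fin k → B) := fun i => Nat.rec (0 : Fin k → B) (fun j bj => bj + c j (a (j + 1) - f bj)) i
    have hb : ∀ i, a i - f (b i) ∈ (I ^ i • ⊤ : Submodule B M) := fun i => by
      induction i with
      | zero => simp
      | succ i ih =>
        have hmem : a (i + 1) - f (b i) ∈ (I ^ i • ⊤ : Submodule B M) := by
          rw [show a (i + 1) - f (b i) = (a (i + 1) - a i) + (a i - f (b i)) by abel]
          exact add_mem (SModEq.sub_mem.mp (a.2 (Nat.le_succ i)).symm) ih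
        show a (i + 1) - f (b i + c i (a (i + 1) - f (b i))) ∈ _
        rw [map_add, ← sub_sub]
        exact (hc i _ hmem).2
    have hcauchy : AdicCompletion.IsAdicCauchy I (Fin k → B) b := fun {m n} hmn => by
      induction n, hmn using Nat.le_induction with
      | base => rfl
      | succ n hmn ih =>
        refine ih.trans (SModEq.sub_mem.mpr ?_)
        show b n - (b n + c n (a (n + 1) - f (b n))) ∈ _
        rw [sub_add_cancel_left]
        refine neg_mem (Submodule.smul_mono_left (Ideal.pow_le_pow_right hmn) (hc n _ ?_).1)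
        rw [show a (n + 1) - f (b n) = (a (n + 1) - a n) + (a n - f (b n)) by abel]
        exact add_mem (SModEq.sub_mem.mp (a.2 (Nat.le_succ n)).symm) (hb n)
    let bb : AdicCompletion.AdicCauchySequence I (Fin k → B) := ⟨b, hcauchy⟩
    refine ⟨AdicCompletion.mk I _ bb, AdicCompletion.ext fun i => ?_⟩
    show (Submodule.Quotient.mk (f (b i)) : M ⧸ (I ^ i • ⊤ : Submodule B M)) = Submodule.Quotient.mk (a i)
    exact ((Submodule.Quotient.eq _).mpr (hb i)).symm
  exact Module.Finite.of_surjective _ hsurj

/-- Let A be a discrete ring, B an adic topological A-algebra with ideal of definition 𝔫 (B separated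
and complete for the 𝔫-adic topology) and B₀ = B/𝔫. If Ω_{B₀/A} and 𝔫/𝔫² are B₀-modules of finite
type, then Ω̂_{B/A}, the 𝔫-adic completion of Ω_{B/A}, is a B-module of finite type. -/
theorem result {A B : Type u} [CommRing A] [CommRing B] [Algebra A B] (𝔫 : Ideal B)
    [IsAdicComplete 𝔫 B] [Module.Finite (B ⧸ 𝔫) (Ω[B ⧸ 𝔫⁄A])] [Module.Finite (B ⧸ 𝔫) 𝔫.Cotangent] :
    Module.Finite B (AdicCompletion 𝔫 (Ω[B⁄A])) := by
  classical
  set Q := B ⧸ 𝔫
  set Ω' := Ω[B⁄A]
  haveI : Module.Finite B (Ω[Q⁄A]) := Module.Finite.trans Q _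
  have hker : RingHom.ker (algebraMap B Q) = 𝔫 := Ideal.mk_ker
  haveI hcot : Module.Finite B 𝔫.Cotangent := Module.Finite.trans Q _
  haveI : Module.Finite B (RingHom.ker (algebraMap B Q)).Cotangent := by rw [hker]; exact hcot
  let ψ := (KaehlerDifferential.mapBaseChange A B Q).restrictScalars B
  haveI : Module.Finite B (Q ⊗[B] Ω') := by
    haveI : Module.Finite B (LinearMap.ker ψ) := by
      have h : LinearMap.range (KaehlerDifferential.kerCotangentToTensor A B Q) = LinearMap.ker ψ := by
        rw [KaehlerDifferential.range_kerCotangentToTensor A B Q Ideal.Quotient.mk_surjective]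
        rfl
      rw [← h]
      infer_instance
    haveI : Module.Finite B ((Q ⊗[B] Ω') ⧸ LinearMap.ker ψ) :=
      Module.Finite.equiv (LinearMap.quotKerEquivOfSurjective ψ
        (KaehlerDifferential.mapBaseChange_surjective A B Q Ideal.Quotient.mk_surjective)).symm
    exact Module.Finite.of_submodule_quotient (LinearMap.ker ψ)
  haveI : Module.Finite B (Ω' ⧸ (𝔫 • ⊤ : Submodule B Ω')) :=
    Module.Finite.equiv (TensorProduct.quotTensorEquivQuotSMul Ω' 𝔫)
  obtain ⟨k, g, hg⟩ := Module.Finite.exists_fin' B (Ω' ⧸ (𝔫 • ⊤ : Submodule B Ω'))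
  obtain ⟨f, hf⟩ := Module.projective_lifting_property (𝔫 • ⊤ : Submodule B Ω').mkQ g (Submodule.mkQ_surjective _)
  exact finite_completion 𝔫 f fun w => by
    obtain ⟨c, hc⟩ := hg (Submodule.Quotient.mk w)
    exact ⟨c, (Submodule.Quotient.eq _).mp (hc.symm.trans (LinearMap.congr_fun hf c).symm)⟩


end Groth.Agent.S4558
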