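import Groth.Statements.S4559
import Mathlib.RingTheory.Kaehler.Basic
import Mathlib.RingTheory.AdicCompletion.Basic


set_option autoImplicit false
universe u
open EGA41 TensorProduct

namespace Groth.Agent.S4559

theorem step {A B E : Type u} [CommRing A] [CommRing B] [Algebra A B] [CommRing E] [Algebra A E]
    (𝔟 : Ideal B) (J : Ideal E) (v₁ v₂ : B →ₐ[A] E) (m : ℕ) (hm : ∀ x ∈ 𝔟 ^ m, v₁ x = 0)
    (htop : (𝔟 ^ m • ⊤ : Submodule B (Ω[B⁄A])) = ⊤) (j : ℕ) (ih : ∀ b, v₁ b - v₂ b ∈ J ^ (j + 1)) :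
    ∀ b, v₁ b - v₂ b ∈ J ^ (j + 1 + 1) := by
  let Q := E ⧸ J ^ (j + 1 + 1)
  let w : B →ₐ[A] Q := (Ideal.Quotient.mkₐ A _).comp v₁
  letI : Algebra B Q := w.toRingHom.toAlgebra
  haveI : IsScalarTower A B Q := IsScalarTower.of_algebraMap_eq fun a => (w.commutes a).symm
  let L : B →ₗ[A] Q := (Ideal.Quotient.mkₐ A (J ^ (j + 1 + 1))).toLinearMap ∘ₗ (v₁.toLinearMap - v₂.toLinearMap)
  let D : Derivation A B Q := Derivation.mk' L fun a b => by
    show Ideal.Quotient.mk _ (v₁ (a * b) - v₂ (a * b)) =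
      Ideal.Quotient.mk _ (v₁ a) * Ideal.Quotient.mk _ (v₁ b - v₂ b) + Ideal.Quotient.mk _ (v₁ b) * Ideal.Quotient.mk _ (v₁ a - v₂ a)
    rw [← map_mul, ← map_mul, ← map_add, Ideal.Quotient.eq, map_mul, map_mul,
      show v₁ a * v₁ b - v₂ a * v₂ b - (v₁ a * (v₁ b - v₂ b) + v₁ b * (v₁ a - v₂ a)) = -((v₁ a - v₂ a) * (v₁ b - v₂ b)) by ring,
      neg_mem_iff]
    exact Ideal.pow_le_pow_right (show j + 1 + 1 ≤ (j + 1) + (j + 1) by omega)
      (by rw [pow_add J (j + 1) (j + 1)]; exact Ideal.mul_mem_mul (ih a) (ih b))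
  intro b
  have hmem : KaehlerDifferential.D A B b ∈ LinearMap.ker D.liftKaehlerDifferential := by
    have h : KaehlerDifferential.D A B b ∈ (𝔟 ^ m • ⊤ : Submodule B (Ω[B⁄A])) := by rw [htop]; trivial
    refine Submodule.smul_le.mpr (fun x hx y _ => ?_) h
    rw [LinearMap.mem_ker, map_smul]
    show Ideal.Quotient.mk _ (v₁ x) * _ = 0
    rw [hm x hx, map_zero, zero_mul]
  rw [LinearMap.mem_ker, Derivation.liftKaehlerDifferential_comp_D] at hmem
  exact Ideal.Quotient.eq_zero_iff_mem.mp hmem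

theorem of_unramified {A B : Type u} [CommRing A] [CommRing B] [Algebra A B] (𝔞 : Ideal A) (𝔟 : Ideal B)
    (hAB : ∃ k : ℕ, (𝔞 ^ k).map (algebraMap A B) ≤ 𝔟)
    (H : ∀ (E : Type u) [CommRing E] [Algebra A E], (∃ k : ℕ, (𝔞 ^ k).map (algebraMap A E) = ⊥) →
      ∀ J : Ideal E, IsNilpotent J → ∀ v₁ v₂ : B →ₐ[A] E,
        (∃ m : ℕ, ∀ x ∈ 𝔟 ^ m, v₁ x = 0) → (∃ m : ℕ, ∀ x ∈ 𝔟 ^ m, v₂ x = 0) →
        (∀ b : B, Ideal.Quotient.mk J (v₁ b) = Ideal.Quotient.mk J (v₂ b)) → v₁ = v₂)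
    (m : ℕ) : (𝔟 ^ m • ⊤ : Submodule B (Ω[B⁄A])) = ⊤ := by
  let I := KaehlerDifferential.ideal A B
  let K : Ideal (B ⊗[A] B) := I ^ 2 ⊔ (𝔟 ^ m).map (algebraMap B (B ⊗[A] B))
  let q : B ⊗[A] B →ₐ[A] (B ⊗[A] B) ⧸ K := Ideal.Quotient.mkₐ A K
  let v₁ := q.comp (Algebra.TensorProduct.includeLeft (S := A) : B →ₐ[A] B ⊗[A] B)
  let v₂ := q.comp (Algebra.TensorProduct.includeRight : B →ₐ[A] B ⊗[A] B)
  have hv1 : ∀ x ∈ 𝔟 ^ m, v₁ x = 0 := fun x hx =>
    Ideal.Quotient.eq_zero_iff_mem.mpr (Ideal.mem_sup_right (Ideal.mem_map_of_mem _ hx))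
  have hδ : ∀ b, v₂ b - v₁ b ∈ I.map q := fun b => by
    show q _ - q _ ∈ _
    rw [← map_sub]
    exact Ideal.mem_map_of_mem q (KaehlerDifferential.one_smul_sub_smul_one_mem_ideal A b)
  have hI2 : (I.map q) ^ 2 = ⊥ := by
    rw [← Ideal.map_pow]
    refine eq_bot_iff.mpr (Ideal.map_le_iff_le_comap.mpr fun x hx => ?_)
    exact Ideal.Quotient.eq_zero_iff_mem.mpr (Ideal.mem_sup_left hx)
  have hv2 : ∀ x ∈ 𝔟 ^ (m + m), v₂ x = 0 := fun x hx => by
    rw [pow_add] at hx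
    refine Submodule.mul_induction_on hx (fun y hy z hz => ?_) (fun a b ha hb => by rw [map_add, ha, hb, add_zero])
    have h1 : v₂ y ∈ I.map q := by simpa [hv1 y hy] using hδ y
    have h2 : v₂ z ∈ I.map q := by simpa [hv1 z hz] using hδ z
    have h3 := Ideal.mul_mem_mul h1 h2
    have h4 : (I.map q) ^ 2 = I.map q * I.map q := pow_two _
    rw [← h4, hI2] at h3
    rw [map_mul]
    exact h3
  have hE : ∃ k : ℕ, (𝔞 ^ k).map (algebraMap A ((B ⊗[A] B) ⧸ K)) = ⊥ := by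
    obtain ⟨k, hk⟩ := hAB
    refine ⟨k * m, eq_bot_iff.mpr (Ideal.map_le_iff_le_comap.mpr fun a ha => ?_)⟩
    show algebraMap A _ a = 0
    rw [← v₁.commutes]
    refine hv1 _ ?_
    have := Ideal.mem_map_of_mem (algebraMap A B) ha
    rw [pow_mul, Ideal.map_pow] at this
    exact Ideal.pow_right_mono hk m this
  have heq := H _ hE (I.map q) ⟨2, hI2⟩ v₁ v₂ ⟨m, hv1⟩ ⟨m + m, hv2⟩ fun b =>
    Ideal.Quotient.eq.mpr (by rw [← neg_sub]; exact neg_mem (hδ b))
  let π := Algebra.TensorProduct.lmul' A (S := B)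
  let ψ : B ⊗[A] B →ₗ[B] Ω[B⁄A] := TensorProduct.AlgebraTensorModule.lift
    ((LinearMap.lsmul B (B →ₗ[A] Ω[B⁄A])).flip (KaehlerDifferential.D A B).toLinearMap)
  have hψt : ∀ x y, ψ (x ⊗ₜ y) = x • KaehlerDifferential.D A B y := fun x y => rfl
  have hψmul : ∀ s t, ψ (s * t) = π s • ψ t + π t • ψ s := fun s t => by
    induction s using TensorProduct.induction_on with
    | zero => simp
    | add a b ha hb => rw [add_mul, map_add, map_add, ha, hb, map_add, add_smul, smul_add]; abel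
    | tmul x y =>
      induction t using TensorProduct.induction_on with
      | zero => simp
      | add a b ha hb => rw [mul_add, map_add, map_add, ha, hb, map_add, add_smul, smul_add]; abel
      | tmul x' y' =>
        rw [Algebra.TensorProduct.tmul_mul_tmul, hψt, hψt, hψt, Derivation.leibniz]
        simp only [π, Algebra.TensorProduct.lmul'_apply_tmul, smul_add, smul_smul]
        congr 1 <;> congr 1 <;> ring
  have hψ1 : ∀ c : B, ψ (algebraMap B (B ⊗[A] B) c) = 0 := fun c => by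
    show ψ (c ⊗ₜ[A] (1 : B)) = 0
    rw [hψt, Derivation.map_one_eq_zero, smul_zero]
  have hle : ∀ x ∈ K, ψ x ∈ (𝔟 ^ m • ⊤ : Submodule B (Ω[B⁄A])) := by
    intro x hx
    obtain ⟨y, hy, z, hz, rfl⟩ := Submodule.mem_sup.mp hx
    rw [map_add]
    refine add_mem ?_ ?_
    · rw [pow_two] at hy
      refine Submodule.mul_induction_on hy (fun s hs t ht => ?_) (fun a b ha hb => by rw [map_add]; exact add_mem ha hb)
      rw [hψmul, show π s = 0 from hs, show π t = 0 from ht, zero_smul, zero_smul, add_zero]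
      exact zero_mem _
    · clear hx
      induction hz using Submodule.span_induction with
      | mem w hw =>
        obtain ⟨c, hc, rfl⟩ := hw
        rw [hψ1]; exact zero_mem _
      | zero => rw [map_zero]; exact zero_mem _
      | add a b _ _ ha hb => rw [map_add]; exact add_mem ha hb
      | smul c w hw ih =>
        rw [smul_eq_mul, hψmul]
        refine add_mem (Submodule.smul_mem _ _ ih) (Submodule.smul_mem_smul ?_ Submodule.mem_top)
        have hπ : π.toRingHom.comp (algebraMap B (B ⊗[A] B)) = RingHom.id B :=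
          RingHom.ext fun a => (Algebra.TensorProduct.lmul'_apply_tmul a 1).trans (mul_one a)
        have := Ideal.mem_map_of_mem π.toRingHom (show w ∈ (𝔟 ^ m).map (algebraMap B (B ⊗[A] B)) from hw)
        rw [Ideal.map_map, hπ, Ideal.map_id] at this
        exact this
  rw [eq_top_iff]
  conv_lhs => rw [← KaehlerDifferential.span_range_derivation A B]
  rw [Submodule.span_le]
  rintro _ ⟨b, rfl⟩
  have hb := AlgHom.congr_fun heq b
  have h := hle _ (Ideal.Quotient.eq.mp hb.symm)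
  rw [map_sub] at h
  change ψ ((1 : B) ⊗ₜ[A] b) - ψ (b ⊗ₜ[A] (1 : B)) ∈ _ at h
  rw [hψt, hψt,
    Derivation.map_one_eq_zero, smul_zero, sub_zero, one_smul] at h
  exact h

/-- Let A be 𝔞-adic and B a topological A-algebra for the 𝔟-adic topology (a power of 𝔞 maps into 𝔟).
Then B is a formally unramified A-algebra (for every homomorphism E → C of discrete A-algebras with
nilpotent kernel and every continuous u : B → C there is at most one continuous lift B → E; here E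
discrete means killed by a power of 𝔞, and one may take C = E/J) if and only if the separated
completion of Ω_{B/A}, i.e. its 𝔟-adic completion, is zero. -/
theorem result {A B : Type u} [CommRing A] [CommRing B] [Algebra A B]
    (𝔞 : Ideal A) (𝔟 : Ideal B) (hAB : ∃ k : ℕ, (𝔞 ^ k).map (algebraMap A B) ≤ 𝔟) :
    (∀ (E : Type u) [CommRing E] [Algebra A E], (∃ k : ℕ, (𝔞 ^ k).map (algebraMap A E) = ⊥) →
      ∀ J : Ideal E, IsNilpotent J → ∀ v₁ v₂ : B →ₐ[A] E,
        (∃ m : ℕ, ∀ x ∈ 𝔟 ^ m, v₁ x = 0) → (∃ m : ℕ, ∀ x ∈ 𝔟 ^ m, v₂ x = 0) →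
        (∀ b : B, Ideal.Quotient.mk J (v₁ b) = Ideal.Quotient.mk J (v₂ b)) → v₁ = v₂) ↔
    Subsingleton (AdicCompletion 𝔟 (Ω[B⁄A])) := by
  classical
  have hsub : Subsingleton (AdicCompletion 𝔟 (Ω[B⁄A])) ↔ ∀ m : ℕ, (𝔟 ^ m • ⊤ : Submodule B (Ω[B⁄A])) = ⊤ := by
    constructor
    · intro hs m
      rw [eq_top_iff]
      intro w _
      have h := congrArg (AdicCompletion.eval 𝔟 (Ω[B⁄A]) m) (hs.elim (AdicCompletion.of 𝔟 _ w) 0)
      rw [map_zero, AdicCompletion.eval_of, Submodule.mkQ_apply, Submodule.Quotient.mk_eq_zero] at h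
      exact h
    · intro h
      refine ⟨fun x y => AdicCompletion.ext fun m => ?_⟩
      haveI : Subsingleton (Ω[B⁄A] ⧸ (𝔟 ^ m • ⊤ : Submodule B (Ω[B⁄A]))) := Submodule.Quotient.subsingleton_iff.mpr (h m)
      exact Subsingleton.elim _ _
  rw [hsub]
  constructor
  · intro H m
    exact of_unramified 𝔞 𝔟 hAB H m
  · rintro htop E _ _ - J ⟨k, hk⟩ v₁ v₂ ⟨m, hm⟩ - hmod
    have hstep : ∀ j, ∀ b, v₁ b - v₂ b ∈ J ^ (j + 1) := by
      intro j
      induction j with
      | zero => intro b; rw [zero_add, pow_one, ← Ideal.Quotient.eq]; exact hmod b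
      | succ j ih => exact step 𝔟 J v₁ v₂ m hm (htop m) j ih
    refine AlgHom.ext fun b => sub_eq_zero.mp ?_
    have := Ideal.pow_le_pow_right (Nat.le_succ k) (hstep k b)
    rw [hk] at this
    exact this


end Groth.Agent.S4559
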