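import Groth.Statements.S4560
import Groth.Agent.S4559


set_option autoImplicit false
universe u
open EGA41 TensorProduct

namespace Groth.Agent.S4560

theorem subsingleton_quot {A B : Type u} [CommRing A] [CommRing B] [Algebra A B] (𝔪 : Ideal A)
    (htop : (𝔪.map (algebraMap A B) • ⊤ : Submodule B (Ω[B⁄A])) = ⊤) :
    Subsingleton (Ω[B ⧸ 𝔪.map (algebraMap A B)⁄A ⧸ 𝔪]) := by
  set 𝔟 := 𝔪.map (algebraMap A B)
  let φ := KaehlerDifferential.map A (A ⧸ 𝔪) B (B ⧸ 𝔟)
  refine subsingleton_of_forall_eq 0 fun w => ?_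
  have hw : w ∈ (⊤ : Submodule (B ⧸ 𝔟) _) := trivial
  rw [← KaehlerDifferential.span_range_derivation] at hw
  induction hw using Submodule.span_induction with
  | mem x hx =>
    obtain ⟨c, rfl⟩ := hx
    obtain ⟨b, rfl⟩ := Ideal.Quotient.mk_surjective c
    have h : KaehlerDifferential.D A B b ∈ LinearMap.ker φ := by
      have hb : KaehlerDifferential.D A B b ∈ (𝔟 • ⊤ : Submodule B (Ω[B⁄A])) := by rw [htop]; trivial
      refine Submodule.smul_le.mpr (fun x hx y _ => ?_) hb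
      rw [LinearMap.mem_ker, map_smul, ← algebraMap_smul (B ⧸ 𝔟) x, Ideal.Quotient.algebraMap_eq,
        Ideal.Quotient.eq_zero_iff_mem.mpr hx, zero_smul]
    rw [LinearMap.mem_ker, KaehlerDifferential.map_D] at h
    exact h
  | zero => rfl
  | add x y _ _ hx hy => rw [hx, hy, add_zero]
  | smul c x _ hx => rw [hx, smul_zero]

theorem top_of_subsingleton {A B : Type u} [CommRing A] [CommRing B] [Algebra A B] (𝔪 : Ideal A)
    (h0 : Subsingleton (Ω[B ⧸ 𝔪.map (algebraMap A B)⁄A ⧸ 𝔪])) :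
    (𝔪.map (algebraMap A B) • ⊤ : Submodule B (Ω[B⁄A])) = ⊤ := by
  set 𝔟 := 𝔪.map (algebraMap A B) with h𝔟
  let Q := Ω[B⁄A] ⧸ (𝔟 • ⊤ : Submodule B (Ω[B⁄A]))
  have htor : Module.IsTorsionBySet B Q 𝔟 := fun z a => by
    induction z using Submodule.Quotient.induction_on with
    | _ w => rw [← Submodule.Quotient.mk_smul, Submodule.Quotient.mk_eq_zero]; exact Submodule.smul_mem_smul a.2 trivial
  letI : Module (B ⧸ 𝔟) Q := htor.module
  haveI : IsScalarTower B (B ⧸ 𝔟) Q := htor.isScalarTower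
  letI : Module (A ⧸ 𝔪) Q := Module.compHom Q (algebraMap (A ⧸ 𝔪) (B ⧸ 𝔟))
  haveI : IsScalarTower (A ⧸ 𝔪) (B ⧸ 𝔟) Q :=
    ⟨fun a b z => by rw [Algebra.smul_def, mul_smul]; rfl⟩
  let P : Derivation A B Q := (𝔟 • ⊤ : Submodule B (Ω[B⁄A])).mkQ.compDer (KaehlerDifferential.D A B)
  have hker : 𝔟.restrictScalars A ≤ LinearMap.ker P.toLinearMap := by
    intro b hb
    change P b = 0
    have hb' : b ∈ Submodule.span B (algebraMap A B '' (𝔪 : Set A)) := hb
    induction hb' using Submodule.span_induction with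
    | mem x hx => obtain ⟨a, ha, rfl⟩ := hx; exact P.map_algebraMap a
    | zero => exact map_zero _
    | add x y hxx hyy hx hy => rw [map_add, hx hxx, hy hyy, add_zero]
    | smul c x hxx hx =>
      rw [smul_eq_mul, P.leibniz, hx hxx, smul_zero, zero_add]
      exact @htor (P c) ⟨x, hxx⟩
  let L : (B ⧸ 𝔟) →ₗ[A ⧸ 𝔪] Q :=
    { toFun := Submodule.liftQ (𝔟.restrictScalars A) P.toLinearMap hker
      map_add' := fun x y => map_add (Submodule.liftQ (𝔟.restrictScalars A) P.toLinearMap hker) x y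
      map_smul' := by
        intro c x
        obtain ⟨c, rfl⟩ := Ideal.Quotient.mk_surjective c
        obtain ⟨x, rfl⟩ := Ideal.Quotient.mk_surjective x
        rw [Algebra.smul_def]
        show P (algebraMap A B c * x) = Ideal.Quotient.mk 𝔟 (algebraMap A B c) • P x
        rw [P.leibniz, P.map_algebraMap, smul_zero, add_zero, ← Ideal.Quotient.algebraMap_eq, algebraMap_smul, algebraMap_smul]
        exact (algebraMap_smul B c (P x)).symm }
  let D : Derivation (A ⧸ 𝔪) (B ⧸ 𝔟) Q := Derivation.mk' L (by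
    intro a b
    obtain ⟨a, rfl⟩ := Ideal.Quotient.mk_surjective a
    obtain ⟨b, rfl⟩ := Ideal.Quotient.mk_surjective b
    show P (a * b) = Ideal.Quotient.mk 𝔟 a • P b + Ideal.Quotient.mk 𝔟 b • P a
    rw [P.leibniz, ← Ideal.Quotient.algebraMap_eq, algebraMap_smul, algebraMap_smul])
  rw [eq_top_iff]
  conv_lhs => rw [← KaehlerDifferential.span_range_derivation A B]
  rw [Submodule.span_le]
  rintro _ ⟨b, rfl⟩
  have h : D (Ideal.Quotient.mk 𝔟 b) = 0 := by
    rw [← D.liftKaehlerDifferential_comp_D, h0.elim (KaehlerDifferential.D (A ⧸ 𝔪) (B ⧸ 𝔟) _) 0, map_zero]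
  exact (Submodule.Quotient.mk_eq_zero _).mp h

/-- Let A be a ring, 𝔪 an ideal of A, B an A-algebra; give A the 𝔪-adic topology and B the topology
deduced from it (the 𝔪B-adic topology), and put A₀ = A/𝔪, B₀ = B/𝔪B. Then B is a formally unramified
A-algebra (for these topologies: E discrete means killed by a power of 𝔪, and continuity of maps B →
E is then automatic) if and only if Ω_{B₀/A₀} = 0, i.e. B₀ is a formally unramified A₀-algebra. -/
theorem result {A B : Type u} [CommRing A] [CommRing B] [Algebra A B] (𝔪 : Ideal A) :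
    (∀ (E : Type u) [CommRing E] [Algebra A E], (∃ k : ℕ, (𝔪 ^ k).map (algebraMap A E) = ⊥) →
      ∀ J : Ideal E, IsNilpotent J → ∀ v₁ v₂ : B →ₐ[A] E,
        (∀ b : B, Ideal.Quotient.mk J (v₁ b) = Ideal.Quotient.mk J (v₂ b)) → v₁ = v₂) ↔
    Subsingleton (Ω[B ⧸ 𝔪.map (algebraMap A B)⁄A ⧸ 𝔪]) := by
  classical
  set 𝔟 := 𝔪.map (algebraMap A B) with h𝔟
  have h59 := Groth.Agent.S4559.result 𝔪 𝔟 (A := A) (B := B) ⟨1, by rw [pow_one]⟩
  have hcont : ∀ (E : Type u) [CommRing E] [Algebra A E], (∃ k : ℕ, (𝔪 ^ k).map (algebraMap A E) = ⊥) →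
      ∀ v : B →ₐ[A] E, ∃ m : ℕ, ∀ x ∈ 𝔟 ^ m, v x = 0 := fun E _ _ ⟨k, hk⟩ v => by
    refine ⟨k, fun x hx => ?_⟩
    rw [h𝔟, ← Ideal.map_pow] at hx
    have := Ideal.mem_map_of_mem v.toRingHom hx
    rw [Ideal.map_map, show v.toRingHom.comp (algebraMap A B) = algebraMap A E from v.comp_algebraMap, hk] at this
    exact this
  rw [iff_iff_eq] at h59
  constructor
  · intro H
    have h1 : Subsingleton (AdicCompletion 𝔟 (Ω[B⁄A])) := h59 ▸ fun E _ _ hE J hJ v₁ v₂ _ _ h => H E hE J hJ v₁ v₂ h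
    have htop : (𝔟 • ⊤ : Submodule B (Ω[B⁄A])) = ⊤ := by
      rw [eq_top_iff]
      intro w _
      have h := congrArg (AdicCompletion.eval 𝔟 (Ω[B⁄A]) 1) (h1.elim (AdicCompletion.of 𝔟 _ w) 0)
      rw [map_zero, AdicCompletion.eval_of, Submodule.mkQ_apply, Submodule.Quotient.mk_eq_zero, pow_one] at h
      exact h
    exact subsingleton_quot 𝔪 htop
  · intro h0 E _ _ hE J hJ v₁ v₂ hmod
    have h1 : Subsingleton (AdicCompletion 𝔟 (Ω[B⁄A])) := by
      have htop := top_of_subsingleton 𝔪 h0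
      have hpow : ∀ m : ℕ, (𝔟 ^ m • ⊤ : Submodule B (Ω[B⁄A])) = ⊤ := fun m => by
        induction m with
        | zero => simp
        | succ m ih => rw [pow_succ, Submodule.mul_smul, htop, ih]
      refine ⟨fun x y => AdicCompletion.ext fun m => ?_⟩
      haveI : Subsingleton (Ω[B⁄A] ⧸ (𝔟 ^ m • ⊤ : Submodule B (Ω[B⁄A]))) := Submodule.Quotient.subsingleton_iff.mpr (hpow m)
      exact Subsingleton.elim _ _
    have h := cast h59.symm h1
    exact h E hE J hJ v₁ v₂ (hcont E hE v₁) (hcont E hE v₂) hmod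


end Groth.Agent.S4560
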