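import Groth.Statements.S4561
import Mathlib

set_option autoImplicit false
set_option backward.isDefEq.respectTransparency false
universe u
open EGA41

namespace Groth.Agent.S4561

theorem exists_coeffs (p : ℕ) [Fact p.Prime] {k₀ K₀ : Type u} [Field k₀] [Field K₀] [Algebra k₀ K₀] [CharP k₀ p]
    (hfin : Module.Finite (Subfield.closure (Set.range fun x : k₀ => x ^ p)) k₀) :
    ∃ (N : ℕ) (e : Fin N → k₀), ∀ x ∈ Subfield.closure (Set.range (algebraMap k₀ K₀) ∪ Set.range fun y : K₀ => y ^ p),
      ∃ g : Fin N → K₀, (∀ i, g i ∈ Subfield.closure (Set.range fun y : K₀ => y ^ p)) ∧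
        ∑ i, algebraMap k₀ K₀ (e i) * g i = x := by
  classical
  haveI : CharP K₀ p := charP_of_injective_algebraMap (algebraMap k₀ K₀).injective p
  set G := Subfield.closure (Set.range fun y : K₀ => y ^ p) with hG
  obtain ⟨N, e, he⟩ := Module.Finite.exists_fin (R := Subfield.closure (Set.range fun x : k₀ => x ^ p)) (M := k₀)
  refine ⟨N, e, ?_⟩
  let W : Submodule G K₀ := Submodule.span G (Set.range fun i => algebraMap k₀ K₀ (e i))
  have hmap : ∀ c ∈ Subfield.closure (Set.range fun x : k₀ => x ^ p), algebraMap k₀ K₀ c ∈ G := by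
    intro c hc
    have h1 : algebraMap k₀ K₀ c ∈ (Subfield.closure (Set.range fun x : k₀ => x ^ p)).map (algebraMap k₀ K₀) :=
      ⟨c, hc, rfl⟩
    rw [RingHom.map_field_closure] at h1
    refine Subfield.closure_mono ?_ h1
    rintro _ ⟨_, ⟨x, rfl⟩, rfl⟩
    exact ⟨algebraMap k₀ K₀ x, (map_pow _ _ _).symm⟩
  have hk : ∀ a, algebraMap k₀ K₀ a ∈ W := by
    intro a
    obtain ⟨c, rfl⟩ := (Submodule.mem_span_range_iff_exists_fun _).mp (he ▸ Submodule.mem_top : a ∈ _)
    rw [map_sum]
    refine sum_mem fun i _ => ?_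
    rw [Subfield.smul_def, smul_eq_mul, map_mul]
    have : algebraMap k₀ K₀ (c i : k₀) * algebraMap k₀ K₀ (e i) =
        (⟨_, hmap _ (c i).2⟩ : G) • algebraMap k₀ K₀ (e i) := rfl
    rw [this]
    exact W.smul_mem _ (Submodule.subset_span ⟨i, rfl⟩)
  have hgen : ∀ g ∈ G, g ∈ W := fun g hg => by
    have : g = (⟨g, hg⟩ : G) • algebraMap k₀ K₀ 1 := by rw [map_one, Subfield.smul_def, smul_eq_mul, mul_one]
    rw [this]
    exact W.smul_mem _ (hk 1)
  have hmul : ∀ x ∈ W, ∀ y ∈ W, x * y ∈ W := by
    intro x hx y hy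
    induction hx using Submodule.span_induction with
    | mem a ha =>
      obtain ⟨i, rfl⟩ := ha
      induction hy using Submodule.span_induction with
      | mem b hb => obtain ⟨j, rfl⟩ := hb; rw [← map_mul]; exact hk _
      | zero => simp
      | add u v _ _ hu hv => rw [mul_add]; exact add_mem hu hv
      | smul c u _ hu => rw [mul_smul_comm]; exact W.smul_mem _ hu
    | zero => simp
    | add u v _ _ hu hv => rw [add_mul]; exact add_mem hu hv
    | smul c u _ hu => rw [smul_mul_assoc]; exact W.smul_mem _ hu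
  let S : Subfield K₀ :=
    { carrier := W
      zero_mem' := W.zero_mem
      add_mem' := W.add_mem
      neg_mem' := W.neg_mem
      one_mem' := hgen 1 G.one_mem
      mul_mem' := fun hx hy => hmul _ hx _ hy
      inv_mem' := fun x hx => by
        rcases eq_or_ne x 0 with rfl | h0
        · rw [inv_zero]; exact W.zero_mem
        have hpow : ∀ j : ℕ, x ^ j ∈ W := by
          intro j
          induction j with
          | zero => rw [pow_zero]; exact hgen 1 G.one_mem
          | succ j ih => rw [pow_succ]; exact hmul _ ih _ hx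
        have h1 : x⁻¹ = x ^ (p - 1) * (x ^ p)⁻¹ := by
          have hp : p - 1 + 1 = p := Nat.sub_add_cancel (Fact.out : p.Prime).one_le
          have h2 : x ^ p = x ^ (p - 1) * x := by rw [← pow_succ, hp]
          rw [h2, mul_inv, ← mul_assoc, mul_inv_cancel₀ (pow_ne_zero _ h0), one_mul]
        rw [h1]
        exact hmul _ (hpow _) _ (hgen _ (G.inv_mem (Subfield.subset_closure ⟨x, rfl⟩))) }
  intro x hx
  have hxS : x ∈ S := by
    refine Subfield.closure_le.mpr ?_ hx
    rintro _ (⟨a, rfl⟩ | ⟨y, rfl⟩)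
    · exact hk a
    · exact hgen _ (Subfield.subset_closure ⟨y, rfl⟩)
  obtain ⟨g, rfl⟩ := (Submodule.mem_span_range_iff_exists_fun _).mp (hxS : x ∈ W)
  exact ⟨fun i => g i, fun i => (g i).2, Finset.sum_congr rfl fun i _ => mul_comm _ _⟩

/-- Let k₀ be a field of characteristic p > 0 with [k₀ : k₀^p] < ∞ and K₀ an extension of k₀. Inside
K₀((T_1, …, T_r)) one has (k₀(K₀^p))((T_1, …, T_r)) = k₀(K₀^p((T_1, …, T_r))); here, for a subfield
F of K₀, F((T)) denotes the subfield of the fraction field of K₀[[T]] generated by the power series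
with all coefficients in F. -/
theorem result (p : ℕ) [Fact p.Prime] {k₀ K₀ : Type u} [Field k₀] [Field K₀] [Algebra k₀ K₀] [CharP k₀ p]
    (hfin : Module.Finite (Subfield.closure (Set.range fun x : k₀ => x ^ p)) k₀) (r : ℕ) :
    Subfield.closure (algebraMap (MvPowerSeries (Fin r) K₀) (FractionRing (MvPowerSeries (Fin r) K₀)) ''
        {f | ∀ n, MvPowerSeries.coeff n f ∈
          Subfield.closure (Set.range (algebraMap k₀ K₀) ∪ Set.range fun y : K₀ => y ^ p)}) =
      Subfield.closure
        (Set.range (algebraMap k₀ (FractionRing (MvPowerSeries (Fin r) K₀))) ∪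
          (Subfield.closure (algebraMap (MvPowerSeries (Fin r) K₀) (FractionRing (MvPowerSeries (Fin r) K₀)) ''
            {f | ∀ n, MvPowerSeries.coeff n f ∈ Subfield.closure (Set.range fun y : K₀ => y ^ p)}) :
            Set (FractionRing (MvPowerSeries (Fin r) K₀)))) := by
  classical
  have halg : ∀ a : k₀, algebraMap k₀ (FractionRing (MvPowerSeries (Fin r) K₀)) a =
      algebraMap (MvPowerSeries (Fin r) K₀) _ (MvPowerSeries.C (algebraMap k₀ K₀ a)) := fun a => by
    rw [IsScalarTower.algebraMap_apply k₀ (MvPowerSeries (Fin r) K₀), MvPowerSeries.algebraMap_apply]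
  obtain ⟨N, e, he⟩ := exists_coeffs p (K₀ := K₀) hfin
  apply le_antisymm
  · rw [Subfield.closure_le]
    rintro _ ⟨f, hf, rfl⟩
    choose g hg hsum using fun n => he _ (hf n)
    let G : Fin N → MvPowerSeries (Fin r) K₀ := fun i n => g n i
    have hfe : f = ∑ i, MvPowerSeries.C (algebraMap k₀ K₀ (e i)) * G i := by
      ext n
      rw [map_sum, ← hsum n]
      exact Finset.sum_congr rfl fun i _ => by rw [MvPowerSeries.coeff_C_mul]; rfl
    rw [SetLike.mem_coe, hfe, map_sum]
    refine sum_mem fun i _ => ?_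
    rw [map_mul, ← halg]
    exact mul_mem (Subfield.subset_closure (Or.inl ⟨e i, rfl⟩))
      (Subfield.subset_closure (Or.inr (Subfield.subset_closure ⟨G i, fun n => hg n i, rfl⟩)))
  · rw [Subfield.closure_le, Set.union_subset_iff]
    refine ⟨?_, ?_⟩
    · rintro _ ⟨a, rfl⟩
      rw [halg]
      refine Subfield.subset_closure ⟨_, fun n => ?_, rfl⟩
      rw [MvPowerSeries.coeff_C]
      split_ifs
      · exact Subfield.subset_closure (Or.inl ⟨a, rfl⟩)
      · exact zero_mem _
    · exact Subfield.closure_mono (Set.image_mono fun f hf n =>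
        Subfield.closure_mono Set.subset_union_right (hf n))

end Groth.Agent.S4561
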