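import Groth.Statements.S4564
import Groth.Agent.H24.CompleteFinite
import Groth.Agent.Lib.Henselian.LocalRing
import Groth.Agent.Lib.Cohen.CompleteNagata

set_option autoImplicit false
universe u
open CAlg

namespace Groth.Agent.S4564

/-- Let A be a complete Noetherian local domain with fraction field K and K' a finite extension of K.
Then the integral closure of A in K' is a local ring, complete for the adic topology of its maximal
ideal. -/
theorem result {A K' : Type u} [CommRing A]
    [IsDomain A] [IsLocalRing A] [IsNoetherianRing A] [IsAdicComplete (IsLocalRing.maximalIdeal A) A]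
    [Field K'] [Algebra A K'] [Algebra (FractionRing A) K'] [IsScalarTower A (FractionRing A) K']
    [FiniteDimensional (FractionRing A) K'] :
    ∃ _ : IsLocalRing (integralClosure A K'),
      IsAdicComplete (IsLocalRing.maximalIdeal (integralClosure A K')) (integralClosure A K') := by
  classical
  haveI : HenselianLocalRing A :=
    Lib.Henselian.LocalRing.henselianLocalRing_of_henselianRing (R := A)
  haveI : Module.Finite A (integralClosure A K') :=
    Lib.Cohen.CompleteNagata.isN2 A K' inferInstance
  have hbij := Lib.Henselian.Finite.toPiLocalization_bijective (A := A) (B := integralClosure A K')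
  obtain ⟨M, hM⟩ := Ideal.exists_maximal (integralClosure A K')
  haveI : IsLocalRing (integralClosure A K') := by
    refine IsLocalRing.of_unique_max_ideal ⟨M, hM, fun N hN => ?_⟩
    by_contra hne
    let m : MaximalSpectrum (integralClosure A K') := ⟨M, hM⟩
    let n : MaximalSpectrum (integralClosure A K') := ⟨N, hN⟩
    obtain ⟨x, hx⟩ := hbij.2 (Pi.single m 1)
    have hidem : IsIdempotentElem x := hbij.1 (by
      rw [map_mul, hx, ← Pi.single_mul, one_mul])
    rcases IsIdempotentElem.iff_eq_zero_or_one.mp hidem with rfl | rfl
    · rw [map_zero] at hx
      exact zero_ne_one ((congrFun hx m).trans (Pi.single_eq_same m _))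
    · rw [map_one] at hx
      exact one_ne_zero ((congrFun hx n).trans (Pi.single_eq_of_ne
        (show n ≠ m from fun h => hne (congrArg MaximalSpectrum.asIdeal h)) _))
  exact ⟨inferInstance, H24.CompleteFinite.isAdicComplete_maximalIdeal (R := A)⟩

end Groth.Agent.S4564
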