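import Groth.Statements.S4565
import Groth.Agent.Lib.Cohen.Unramified

set_option autoImplicit false
universe u
open TensorProduct
open CAlg

namespace Groth.Agent.S4565

/-- Let A be a Noetherian local domain with fraction field K whose adic completion Â is reduced, R the
total ring of fractions of Â and K' a finite extension of K. If R ⊗_A K' (equal to R ⊗_K K', since K
is a localization of A and the nonzero elements of A are invertible in R) is reduced, then the
integral closure of A in K' is a finitely generated A-module. -/
theorem result {A K' R : Type u}
    [CommRing A] [IsDomain A] [IsLocalRing A] [IsNoetherianRing A]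
    (hred : IsReduced (AdicCompletion (IsLocalRing.maximalIdeal A) A))
    [CommRing R] [Algebra (AdicCompletion (IsLocalRing.maximalIdeal A) A) R]
    [IsFractionRing (AdicCompletion (IsLocalRing.maximalIdeal A) A) R] [Algebra A R]
    [IsScalarTower A (AdicCompletion (IsLocalRing.maximalIdeal A) A) R]
    [Field K'] [Algebra A K'] [Algebra (FractionRing A) K'] [IsScalarTower A (FractionRing A) K']
    [FiniteDimensional (FractionRing A) K'] (h : IsReduced (R ⊗[A] K')) :
    Module.Finite A (integralClosure A K') := by
  haveI : Module.FaithfullyFlat A (AdicCompletion (IsLocalRing.maximalIdeal A) A) :=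
    Module.FaithfullyFlat.of_flat_of_isLocalHom
  haveI : Module.Flat A (FractionRing A) := IsLocalization.flat _ (nonZeroDivisors A)
  haveI : Module.Flat A K' := Module.Flat.trans A (FractionRing A) K'
  refine Groth.Agent.Lib.Cohen.Unramified.finite_of_isReduced_tensor
    (AdicCompletion (IsLocalRing.maximalIdeal A) A)
    (Groth.Agent.Lib.Cohen.Unramified.isNagata_completion A) (FractionRing A) K' ?_
  haveI := h
  refine isReduced_of_injective
    (Algebra.TensorProduct.map (IsScalarTower.toAlgHom A
      (AdicCompletion (IsLocalRing.maximalIdeal A) A) R) (AlgHom.id A K')) ?_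
  exact Module.Flat.rTensor_preserves_injective_linearMap (M := K')
    (IsScalarTower.toAlgHom A (AdicCompletion (IsLocalRing.maximalIdeal A) A) R).toLinearMap
    (IsFractionRing.injective (AdicCompletion (IsLocalRing.maximalIdeal A) A) R)

end Groth.Agent.S4565
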