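import Groth.Statements.S4566
import Groth.Agent.Lib.Cohen.NagataLocal

set_option autoImplicit false
universe u
open CAlg

namespace Groth.Agent.S4566

/-- Let A be a Noetherian local domain with fraction field K whose adic completion Â is reduced, and R
the total ring of fractions of Â with its K-algebra structure. If R is geometrically reduced over K
then A is Japanese (N-2). (The published statement asks R to be a separable K-algebra; what is used
is that K' ⊗_K R is reduced for every finite extension K' of K, which geometric reducedness gives.) -/
theorem result {A R : Type u}
    [CommRing A] [IsDomain A] [IsLocalRing A] [IsNoetherianRing A]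
    (hred : IsReduced (AdicCompletion (IsLocalRing.maximalIdeal A) A))
    [CommRing R] [Algebra (AdicCompletion (IsLocalRing.maximalIdeal A) A) R]
    [IsFractionRing (AdicCompletion (IsLocalRing.maximalIdeal A) A) R] [Algebra A R]
    [IsScalarTower A (AdicCompletion (IsLocalRing.maximalIdeal A) A) R]
    [Algebra (FractionRing A) R] [IsScalarTower A (FractionRing A) R]
    (h : Algebra.IsGeometricallyReduced (FractionRing A) R) :
    CAlg.IsN2 A := by
  intro L _ _ _ _ hfd
  let C := AdicCompletion (IsLocalRing.maximalIdeal A) A
  haveI : Module.FaithfullyFlat A C := Module.FaithfullyFlat.of_flat_of_isLocalHom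
  haveI : Module.Flat A (FractionRing A) := IsLocalization.flat _ (nonZeroDivisors A)
  haveI : Module.Flat A L := Module.Flat.trans A (FractionRing A) L
  haveI := h
  haveI : IsReduced (TensorProduct (FractionRing A) L R) := inferInstance
  haveI : IsReduced (TensorProduct A L R) :=
    isReduced_of_injective (IsLocalization.algebraTensorEquiv (nonZeroDivisors A) (FractionRing A) L R).symm
      (EquivLike.injective _)
  haveI : IsReduced (TensorProduct A L C) :=
    isReduced_of_injective (Algebra.TensorProduct.map (AlgHom.id A L) (IsScalarTower.toAlgHom A C R))
      (Module.Flat.lTensor_preserves_injective_linearMap (IsScalarTower.toAlgHom A C R).toLinearMap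
        (IsFractionRing.injective C R))
  exact Groth.Agent.Lib.Cohen.Unramified.finite_of_isReduced_tensor C
    (Groth.Agent.Lib.Cohen.Unramified.isNagata_completion A) (FractionRing A) L
    (isReduced_of_injective (Algebra.TensorProduct.comm A C L) (EquivLike.injective _))

end Groth.Agent.S4566
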