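import Groth.Statements.S4568
import Groth.Agent.S12124
import Mathlib.RingTheory.Localization.Integral
import Mathlib.RingTheory.Ideal.Height
import Mathlib.Tactic

set_option autoImplicit false
universe u
open CAlg

namespace Groth.Agent.S4568

set_option maxHeartbeats 1000000 in
theorem local_integral {A : Type u} [CommRing A] [IsDomain A] [IsNoetherianRing A]
    (h : ∀ C : Subalgebra A (FractionRing A), C ≤ integralClosure A (FractionRing A) → Module.Finite A C →
      ∀ (q : Ideal C) [q.IsPrime], q.height = 1 → (q.comap (algebraMap A C)).height = 1)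
    (x : FractionRing A)
    (hx : ∀ p : PrimeSpectrum A, p.asIdeal.height = 1 → ∃ s : A, s ∉ p.asIdeal ∧
          IsIntegral A (algebraMap A (FractionRing A) s * x))
    (M : Ideal A) [M.IsMaximal] :
    ∃ t : A, t ∉ M ∧ IsIntegral A (algebraMap A (FractionRing A) t * x) := by
  classical
  let AM := Localization.AtPrime M
  haveI : IsDomain AM :=
    IsLocalization.isDomain_of_le_nonZeroDivisors AM M.primeCompl_le_nonZeroDivisors
  haveI : IsNoetherianRing AM := IsLocalization.isNoetherianRing M.primeCompl AM inferInstance
  let K' := FractionRing AM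
  haveI : FaithfulSMul A K' := (faithfulSMul_iff_algebraMap_injective A K').mpr (by
    rw [IsScalarTower.algebraMap_eq A AM K']
    exact (IsFractionRing.injective AM K').comp
      (IsLocalization.injective AM M.primeCompl_le_nonZeroDivisors))
  haveI : IsFractionRing A K' := by
    refine IsFractionRing.of_field (K := K') (R := A) (surj := fun z => ?_)
    obtain ⟨a, b, hb, rfl⟩ := IsFractionRing.div_surjective (A := AM) z
    obtain ⟨a', u, rfl⟩ := IsLocalization.exists_mk'_eq M.primeCompl a
    obtain ⟨b', v, rfl⟩ := IsLocalization.exists_mk'_eq M.primeCompl b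
    refine ⟨a' * v, b' * u, ?_⟩
    have e : ∀ (r : A) (w : M.primeCompl), algebraMap A K' r =
        algebraMap AM K' (IsLocalization.mk' AM r w) * algebraMap A K' w := fun r w => by
      rw [IsScalarTower.algebraMap_apply A AM K' w, ← map_mul, IsLocalization.mk'_spec,
        ← IsScalarTower.algebraMap_apply]
    have hne : ∀ w : M.primeCompl, algebraMap A K' w ≠ 0 := fun w h0 => by
      rw [IsScalarTower.algebraMap_apply A AM K'] at h0
      exact ((IsLocalization.map_units AM w).map (algebraMap AM K')).ne_zero h0
    rw [map_mul, map_mul, e a' u, e b' v]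
    rw [mul_assoc, mul_assoc, mul_comm (algebraMap A K' (v : A)) (algebraMap A K' (u : A)),
      mul_div_mul_right _ _ (mul_ne_zero (hne u) (hne v))]
  let ψ : FractionRing A ≃ₐ[A] K' := FractionRing.algEquiv A K'
  obtain ⟨C, hCfin, -, hC, -⟩ := Groth.Agent.S12124.result (A := AM)
  obtain ⟨G, hG⟩ := hCfin.fg_top
  have hgen : ∀ g : C, ∃ t : M.primeCompl, IsIntegral A (t • (g : K')) := fun g => by
    have : IsIntegral AM (g : K') := (IsIntegral.of_finite AM g).map C.val
    exact IsIntegral.exists_multiple_integral_of_isLocalization M.primeCompl _ this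
  choose t ht using hgen
  let S : Set (FractionRing A) := (fun g : C => ψ.symm (t g • (g : K'))) '' (G : Set C)
  have hSint : ∀ d ∈ S, IsIntegral A d := by
    rintro _ ⟨g, -, rfl⟩
    exact (ht g).map ψ.symm
  let D : Subalgebra A (FractionRing A) := Algebra.adjoin A S
  have hDfin : Module.Finite A D :=
    Module.Finite.iff_fg.mpr (fg_adjoin_of_finite (G.finite_toSet.image _) hSint)
  have hDint : D ≤ integralClosure A (FractionRing A) := Algebra.adjoin_le hSint
  have hDC : D ≤ (C.restrictScalars A).comap ψ.toAlgHom := by
    refine Algebra.adjoin_le ?_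
    rintro _ ⟨g, -, rfl⟩
    show ψ (ψ.symm (t g • (g : K'))) ∈ C
    rw [AlgEquiv.apply_symm_apply, Submonoid.smul_def, ← algebraMap_smul AM (t g : A)]
    exact C.smul_mem g.2 _
  let φ : D →+* C :=
    { toFun := fun d => ⟨ψ d, hDC d.2⟩
      map_one' := Subtype.ext (map_one ψ)
      map_mul' := fun a b => Subtype.ext (map_mul ψ _ _)
      map_zero' := Subtype.ext (map_zero ψ)
      map_add' := fun a b => Subtype.ext (map_add ψ _ _) }
  letI : Algebra D C := φ.toAlgebra
  have hφA : ∀ a : A, φ (algebraMap A D a) = algebraMap A C a := fun a => Subtype.ext (ψ.commutes a)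
  let MD : Submonoid D := Algebra.algebraMapSubmonoid D M.primeCompl
  -- the elements of C which are fractions of elements of D
  have hsurjC : ∀ c : C, ∃ (d : D) (u : M.primeCompl), c * algebraMap A C u = φ d := by
    intro c
    have hc : c ∈ Submodule.span AM (G : Set C) := hG ▸ Submodule.mem_top
    induction hc using Submodule.span_induction with
    | mem g hg =>
      refine ⟨⟨_, Algebra.subset_adjoin ⟨g, hg, rfl⟩⟩, t g, Subtype.ext ?_⟩
      show (g : K') * algebraMap A K' (t g) = ψ (ψ.symm (t g • (g : K')))
      rw [AlgEquiv.apply_symm_apply, Submonoid.smul_def, Algebra.smul_def, mul_comm]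
    | zero => exact ⟨0, 1, by rw [zero_mul, map_zero]⟩
    | add c c' _ _ h1 h2 =>
      obtain ⟨d, u, hd⟩ := h1
      obtain ⟨d', u', hd'⟩ := h2
      refine ⟨d * algebraMap A D u' + d' * algebraMap A D u, u * u', ?_⟩
      rw [map_add, map_mul, map_mul, hφA, hφA, ← hd, ← hd', Submonoid.coe_mul, map_mul]
      ring
    | smul a c _ h1 =>
      obtain ⟨d, u, hd⟩ := h1
      obtain ⟨r, v, rfl⟩ := IsLocalization.exists_mk'_eq M.primeCompl a
      refine ⟨d * algebraMap A D r, u * v, ?_⟩
      rw [map_mul, hφA, ← hd, Submonoid.coe_mul, map_mul, Algebra.smul_def,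
        IsScalarTower.algebraMap_apply A AM C r, ← IsLocalization.mk'_spec AM r v, map_mul,
        ← IsScalarTower.algebraMap_apply A AM C]
      ring
  haveI : IsLocalization MD C := by
    refine { map_units := ?_, surj := ?_, exists_of_eq := ?_ }
    · rintro ⟨_, u, hu, rfl⟩
      show IsUnit (φ (algebraMap A D u))
      rw [hφA, IsScalarTower.algebraMap_apply A AM C]
      exact (IsLocalization.map_units AM (⟨u, hu⟩ : M.primeCompl)).map _
    · intro c
      obtain ⟨d, u, hd⟩ := hsurjC c
      exact ⟨⟨d, ⟨_, u, u.2, rfl⟩⟩, by
        show c * φ (algebraMap A D u) = φ d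
        rw [hφA]; exact hd⟩
    · intro a b hab
      exact ⟨1, by rw [show a = b from Subtype.ext (ψ.injective (congrArg Subtype.val hab))]⟩
  have hxC : ψ x ∈ integralClosure AM K' := by
    refine (hC _).mpr fun P _ hP => ?_
    let q := P.comap (algebraMap D C)
    have hq : q.height = 1 := (IsLocalization.height_comap MD P).trans hP
    have hp : (q.comap (algebraMap A D)).height = 1 := h D hDint hDfin q hq
    obtain ⟨s, hs, hsx⟩ := hx ⟨q.comap (algebraMap A D), inferInstance⟩ hp
    refine ⟨algebraMap A C s, fun hmem => hs ?_, ?_⟩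
    · show φ (algebraMap A D s) ∈ P
      rwa [hφA]
    · have h1 : IsIntegral A (ψ (algebraMap A (FractionRing A) s * x)) := hsx.map ψ
      rw [map_mul, AlgEquiv.commutes] at h1
      exact h1.tower_top
  obtain ⟨u, hu⟩ := IsIntegral.exists_multiple_integral_of_isLocalization M.primeCompl (ψ x)
    (show IsIntegral AM (ψ x) from hxC)
  refine ⟨u, u.2, ?_⟩
  have h1 := hu.map ψ.symm
  rwa [Submonoid.smul_def, map_smul, AlgEquiv.symm_apply_apply, Algebra.smul_def] at h1

/-- Let A be a Noetherian domain with fraction field K and A' its integral closure in K. Assume that for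
every sub-A-algebra C of A' which is finite over A, every height-one prime of C lies over a
height-one prime of A. Then A' is the intersection in K of the localizations A'_p over the
height-one primes p of A. -/
theorem result {A : Type u} [CommRing A] [IsDomain A] [IsNoetherianRing A]
    (h : ∀ C : Subalgebra A (FractionRing A), C ≤ integralClosure A (FractionRing A) → Module.Finite A C →
      ∀ (q : Ideal C) [q.IsPrime], q.height = 1 → (q.comap (algebraMap A C)).height = 1) :
    (integralClosure A (FractionRing A) : Set (FractionRing A)) =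
      ⋂ (p : PrimeSpectrum A) (_ : p.asIdeal.height = 1),
        {x : FractionRing A | ∃ s : A, s ∉ p.asIdeal ∧
          algebraMap A (FractionRing A) s * x ∈ integralClosure A (FractionRing A)} := by
  classical
  ext x
  simp only [SetLike.mem_coe, Set.mem_iInter, Set.mem_setOf_eq]
  refine ⟨fun hx p _ => ⟨1, fun h1 => p.2.ne_top ((Ideal.eq_top_iff_one _).mpr h1), ?_⟩, fun hx => ?_⟩
  · rw [map_one, one_mul]; exact hx
  · let J : Ideal A :=
      Submodule.comap (LinearMap.toSpanSingleton A (FractionRing A) x)
        (Subalgebra.toSubmodule (integralClosure A (FractionRing A)))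
    have hJ : J = ⊤ := by
      by_contra hne
      obtain ⟨M, hM, hle⟩ := Ideal.exists_le_maximal J hne
      obtain ⟨t, ht, htx⟩ := local_integral h x hx M
      refine ht (hle ?_)
      show t • x ∈ integralClosure A (FractionRing A)
      rw [Algebra.smul_def]
      exact htx
    have h1 : (1 : A) ∈ J := hJ ▸ Submodule.mem_top
    simpa [J] using h1

end Groth.Agent.S4568
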