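import Groth.Statements.S4569
import Mathlib.RingTheory.Localization.Ideal
import Mathlib.RingTheory.Localization.AtPrime.Basic

set_option autoImplicit false
universe u
open CAlg

namespace Groth.Agent.S4569

/-- Let A be a ring, x a non-zero-divisor of A with p = xA prime. For every n > 0 the inverse image in A
of x^n A_p is x^n A. -/
theorem result {A : Type u} [CommRing A] (x : A)
    (hx : x ∈ nonZeroDivisors A) [(Ideal.span ({x} : Set A)).IsPrime] (n : ℕ) (hn : 0 < n) :
    Ideal.comap (algebraMap A (Localization.AtPrime (Ideal.span ({x} : Set A))))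
      (Ideal.map (algebraMap A (Localization.AtPrime (Ideal.span ({x} : Set A)))) (Ideal.span ({x ^ n} : Set A))) =
      Ideal.span ({x ^ n} : Set A) := by
  set P : Ideal A := Ideal.span ({x} : Set A) with hP
  refine le_antisymm ?_ Ideal.le_comap_map
  intro z hz
  rw [Ideal.mem_comap, IsLocalization.mem_map_algebraMap_iff P.primeCompl] at hz
  obtain ⟨⟨⟨a, ha⟩, s⟩, h⟩ := hz
  rw [← map_mul, IsLocalization.eq_iff_exists P.primeCompl] at h
  obtain ⟨c, hc⟩ := h
  have key : ∀ (m : ℕ) (t w : A), t ∉ P → t * w ∈ Ideal.span {x ^ m} → w ∈ Ideal.span {x ^ m} := by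
    intro m
    induction m with
    | zero => intro t w _ _; simp
    | succ m ih =>
      intro t w ht hw
      have hwP : w ∈ P := ((inferInstance : P.IsPrime).mem_or_mem
        (Ideal.span_singleton_le_span_singleton.mpr (dvd_pow_self x m.succ_ne_zero) hw)).resolve_left ht
      rw [hP, Ideal.mem_span_singleton'] at hwP
      obtain ⟨w', rfl⟩ := hwP
      obtain ⟨q, hq⟩ := Ideal.mem_span_singleton'.mp hw
      have : t * w' = q * x ^ m := (mul_cancel_right_mem_nonZeroDivisors hx).mp (by
        rw [mul_assoc, ← hq, pow_succ]; ring)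
      obtain ⟨r, hr⟩ := Ideal.mem_span_singleton'.mp
        (ih t w' ht (Ideal.mem_span_singleton'.mpr ⟨q, this.symm⟩))
      exact Ideal.mem_span_singleton'.mpr ⟨r, by rw [← hr, pow_succ]; ring⟩
  refine key n ((c : A) * s) z ?_ ?_
  · exact fun hmem => ((inferInstance : P.IsPrime).mem_or_mem hmem).elim c.2 s.2
  · have : (c : A) * s * z = c * a := by rw [← hc]; ring
    rw [this]
    exact Ideal.mul_mem_left _ _ ha

end Groth.Agent.S4569
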