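import Groth.Statements.S4572
import Groth.Agent.Lib.Dim.Integral
import Mathlib.RingTheory.RegularLocalRing.Defs


set_option autoImplicit false
universe u
open IsLocalRing
open EGA41

namespace Groth.Agent.S4572

/-- Let A be a regular local ring and A' a local ring containing A as a subring over which it is
module-finite. Then A' is regular if and only if the embedding dimensions agree: dim_K(m/m²) =
dim_{K'}(m'/m'²) for the maximal ideals and residue fields of A and A'. -/
theorem result {A A' : Type u} [CommRing A]
    [IsRegularLocalRing A] [CommRing A'] [IsLocalRing A'] [IsNoetherianRing A'] [Algebra A A'] [Module.Finite A A']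
    (hinj : Function.Injective (algebraMap A A')) :
    IsRegularLocalRing A' ↔
      Module.finrank (ResidueField A) (CotangentSpace A) = Module.finrank (ResidueField A') (CotangentSpace A') := by
  classical
  haveI : FaithfulSMul A A' := (faithfulSMul_iff_algebraMap_injective A A').mpr hinj
  have hd : ringKrullDim A' = ringKrullDim A := Groth.Agent.Lib.Dim.Integral.ringKrullDim_eq_of_isIntegral
  have hA := (IsRegularLocalRing.iff_finrank_cotangentSpace A).mp inferInstance
  rw [IsRegularLocalRing.iff_finrank_cotangentSpace A', hd, ← hA]
  constructor
  · intro h; exact_mod_cast h.symm
  · intro h; exact_mod_cast h.symm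


end Groth.Agent.S4572
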