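import Groth.Statements.S4575
import Groth.Agent.Lib.Regular.Adapted
import Mathlib.LinearAlgebra.Dimension.OrzechProperty

set_option autoImplicit false
universe u
open IsLocalRing
open EGA41

namespace Groth.Agent.S4575

/-- Let R be a regular local ring with maximal ideal m and n a proper ideal with R/n regular. Then
(n/n²) ⊗_R K → (m/m²) ⊗_R K is injective, K the residue field; stated in the equivalent form n ∩ m²
= m·n (the kernel of n/mn → m/m² is (n ∩ m²)/mn). -/
theorem result {R : Type u} [CommRing R] [IsRegularLocalRing R]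
    (n : Ideal R) (hn : n ≠ ⊤) (hreg : IsRegularRing (R ⧸ n)) :
    n ⊓ maximalIdeal R ^ 2 = maximalIdeal R * n := by
  classical
  refine le_antisymm ?_ (le_inf Ideal.mul_le_right ?_)
  swap
  · rw [sq]; exact Ideal.mul_mono_right (IsLocalRing.le_maximalIdeal hn)
  have : Nontrivial (R ⧸ n) := Ideal.Quotient.nontrivial_iff.mpr hn
  have : IsLocalRing (R ⧸ n) := .of_surjective' _ Ideal.Quotient.mk_surjective
  have : IsRegularLocalRing (R ⧸ n) := IsRegularLocalRing.of_isRegularRing_of_isLocalRing _
  obtain ⟨s, t, hs, hst, hlen, -⟩ := Groth.Agent.Lib.Regular.Adapted.exists_adapted _ R rfl n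
  let L := s ++ t
  let v : Fin L.length → R := fun i => L[(i : ℕ)]
  have hv : Ideal.span (Set.range v) = maximalIdeal R := by
    rw [← hst, Ideal.ofList]
    congr 1
    ext a
    simp [v, L, List.mem_iff_getElem, Fin.exists_iff]
  have hvm : ∀ i, v i ∈ maximalIdeal R := fun i => hv ▸ Ideal.subset_span ⟨i, rfl⟩
  let c : Fin L.length → CotangentSpace R := fun i => (maximalIdeal R).toCotangent ⟨v i, hvm i⟩
  have hspanR : Submodule.span R (Set.range c) = ⊤ := by
    rw [show Set.range c = (maximalIdeal R).toCotangent '' Set.range (fun i => (⟨v i, hvm i⟩ : maximalIdeal R)) by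
      rw [← Set.range_comp]; rfl, ← Submodule.map_span]
    rw [show Submodule.span R (Set.range fun i => (⟨v i, hvm i⟩ : maximalIdeal R)) = ⊤ from ?_,
      Submodule.map_top, LinearMap.range_eq_top]
    · exact Ideal.toCotangent_surjective _
    · refine Submodule.map_injective_of_injective (maximalIdeal R).injective_subtype ?_
      rw [Submodule.map_span, Submodule.map_top, Submodule.range_subtype, ← Set.range_comp]
      exact hv
  have hlin : LinearIndependent (ResidueField R) c := by
    refine linearIndependent_of_top_le_span_of_card_eq_finrank ?_ ?_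
    · rw [← Submodule.restrictScalars_le R, Submodule.restrictScalars_top, ← hspanR]
      exact Submodule.span_le_restrictScalars R (ResidueField R) _
    · rw [Fintype.card_fin, ← spanFinrank_maximalIdeal_eq_finrank_cotangentSpace, List.length_append, hlen]
  rintro x ⟨hxn, hx2⟩
  have hxm : x ∈ maximalIdeal R := IsLocalRing.le_maximalIdeal hn hxn
  rw [← hs, Ideal.ofList] at hxn
  have hvs : Ideal.span {a | a ∈ s} = Ideal.span (Set.range fun i : Fin s.length => v ⟨i, by simp [L]; omega⟩) := by
    congr 1
    ext a
    simp [v, L, List.mem_iff_getElem, Fin.exists_iff]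
  rw [hvs] at hxn
  obtain ⟨a, ha⟩ := Ideal.mem_span_range_iff_exists_fun.mp hxn
  have hlin' := hlin.comp (fun i : Fin s.length => (⟨i, by simp [L]; omega⟩ : Fin L.length))
    (fun i j h => Fin.ext (by simpa using h))
  have hzero : ∀ i, residue R (a i) = 0 := by
    refine Fintype.linearIndependent_iff.mp hlin' (fun i => residue R (a i)) ?_
    have h0 : (maximalIdeal R).toCotangent ⟨x, hxm⟩ = 0 := by
      rw [Ideal.toCotangent_eq_zero]; exact hx2
    rw [← h0, show (⟨x, hxm⟩ : maximalIdeal R) =
      ∑ i : Fin s.length, a i • (⟨v ⟨i, by simp [L]; omega⟩, hvm _⟩ : maximalIdeal R) from Subtype.ext (by simp [ha]),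
      map_sum]
    refine Finset.sum_congr rfl fun i _ => ?_
    rw [map_smul]
    rfl
  rw [← ha]
  refine Ideal.sum_mem _ fun i _ => Ideal.mul_mem_mul ((residue_eq_zero_iff _).mp (hzero i)) ?_
  rw [← hs, Ideal.ofList, hvs]
  exact Ideal.subset_span ⟨i, rfl⟩

end Groth.Agent.S4575
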