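import Groth.Statements.S4576
import Groth.Agent.H68.FSLocal
import Mathlib.RingTheory.Spectrum.Prime.Topology

set_option autoImplicit false
universe u
open EGA41

namespace Groth.Agent.S4576

/-- Let B be a formally smooth A-algebra (discrete topologies), C = B/J a quotient with J/J² finitely
generated. Then the set of primes p of C with C_p formally smooth over A is open in Spec C. (The
equivalent variant with C_p formally smooth over A_q, q the contraction of p to A, is not stated.) -/
theorem result {A B C : Type u} [CommRing A] [CommRing B] [CommRing C]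
    [Algebra A B] [Algebra B C] [Algebra A C] [IsScalarTower A B C] [Algebra.FormallySmooth A B]
    (hsurj : Function.Surjective (algebraMap B C)) [Module.Finite B (RingHom.ker (algebraMap B C)).Cotangent] :
    IsOpen {p : PrimeSpectrum C | Algebra.FormallySmooth A (Localization.AtPrime p.asIdeal)} := by
  let I : Ideal C := (H68.FSLocal.retrIdeal A (RingHom.ker (algebraMap B C))).map (algebraMap B C)
  have h : {p : PrimeSpectrum C | Algebra.FormallySmooth A (Localization.AtPrime p.asIdeal)} =
      (PrimeSpectrum.zeroLocus (I : Set C))ᶜ := by
    ext p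
    simp only [Set.mem_ofPred_eq, Set.mem_compl_iff, PrimeSpectrum.mem_zeroLocus, SetLike.coe_subset_coe]
    constructor
    · intro hp hle
      obtain ⟨s, hs, hsm⟩ := H68.FSLocal.exists_retr (R := A) hsurj p.asIdeal.primeCompl
        (Localization.AtPrime p.asIdeal)
      exact hsm (hle (Ideal.mem_map_of_mem _ hs))
    · intro hle
      obtain ⟨c, hc, hcp⟩ := SetLike.not_le_iff_exists.mp hle
      obtain ⟨s, hs, rfl⟩ := (Ideal.mem_map_iff_of_surjective _ hsurj).mp hc
      exact H68.FSLocal.formallySmooth_of_retr hsurj p.asIdeal.primeCompl _ hs hcp
  rw [h]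
  exact (PrimeSpectrum.isClosed_zeroLocus _).isOpen_compl

end Groth.Agent.S4576
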