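import Groth.Statements.S4578
import Groth.Agent.H68.FSLocal
import Groth.Agent.H68.AdicSmoothLifts
import Groth.Agent.S4512
import Groth.Agent.S4573
import Mathlib.Tactic.TFAE

set_option autoImplicit false
universe u
open IsLocalRing
open EGA41

namespace Groth.Agent.S4578

/-- Let k₀ be a field, k an extension field of k₀ which is separable (formally smooth) over k₀, C a
k-algebra of finite type and p a prime ideal of C. The following are equivalent: C_p is formally
smooth over k₀ (discrete topologies); C_p is formally smooth over k₀ for the adic topology of its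
maximal ideal; C_f is formally smooth over k₀ for some f ∉ p; C_p is geometrically regular over k₀.
(The published statement adds that the set of primes p having these properties is open in Spec C;
that openness is not stated here.) -/
theorem result {k₀ k C : Type u} [Field k₀] [Field k] [Algebra k₀ k]
    [Algebra.FormallySmooth k₀ k] [CommRing C] [Algebra k C] [Algebra k₀ C] [IsScalarTower k₀ k C]
    [Algebra.FiniteType k C]
    (p : Ideal C) [p.IsPrime] :
    [Algebra.FormallySmooth k₀ (Localization.AtPrime p),
     CAlgX.IsAdicFormallySmooth k₀ (Localization.AtPrime p) (maximalIdeal (Localization.AtPrime p)),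
     ∃ f : C, f ∉ p ∧ Algebra.FormallySmooth k₀ (Localization.Away f),
     CAlg.IsGeometricallyRegular k₀ (Localization.AtPrime p)].TFAE := by
  obtain ⟨q, hq⟩ := ExpChar.exists k₀
  obtain ⟨n, π, hπ⟩ := Algebra.FiniteType.iff_quotient_mvPolynomial''.mp
    (inferInstance : Algebra.FiniteType k C)
  let P₀ := MvPolynomial (Fin n) k
  let : Algebra P₀ C := π.toRingHom.toAlgebra
  have : IsScalarTower k₀ P₀ C := IsScalarTower.of_algebraMap_eq fun r => by
    show algebraMap k₀ C r = π (algebraMap k₀ P₀ r)
    rw [IsScalarTower.algebraMap_apply k₀ k P₀, π.commutes, ← IsScalarTower.algebraMap_apply]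
  have : IsNoetherianRing C := Algebra.FiniteType.isNoetherianRing k C
  have : Algebra.FormallySmooth k₀ P₀ := Algebra.FormallySmooth.comp k₀ k P₀
  have hs₀ : Function.Surjective (algebraMap P₀ C) := hπ
  have : Module.Finite P₀ (RingHom.ker (algebraMap P₀ C)).Cotangent :=
    Module.Finite.of_surjective _ (RingHom.ker (algebraMap P₀ C)).toCotangent_surjective
  have : IsNoetherianRing (Localization.AtPrime p) :=
    IsLocalization.isNoetherianRing p.primeCompl _ inferInstance
  tfae_have 1 → 2 := by
    intro h A _ _ J hJ ψ _
    exact Algebra.FormallySmooth.comp_surjective _ _ J hJ ψ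
  tfae_have 2 → 1 := by
    intro h
    let Q : Ideal P₀ := p.comap (algebraMap P₀ C)
    let P := Localization.AtPrime Q
    let : Algebra P (Localization.AtPrime p) :=
      (Localization.localRingHom Q p (algebraMap P₀ C) rfl).toAlgebra
    have hc : ∀ x, algebraMap P (Localization.AtPrime p) (algebraMap P₀ P x) =
        algebraMap C (Localization.AtPrime p) (algebraMap P₀ C x) :=
      fun x => Localization.localRingHom_to_map _ _ _ rfl x
    have : IsScalarTower k₀ P (Localization.AtPrime p) := IsScalarTower.of_algebraMap_eq fun r => by
      rw [IsScalarTower.algebraMap_apply k₀ P₀ P, hc, ← IsScalarTower.algebraMap_apply k₀ P₀ C,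
        ← IsScalarTower.algebraMap_apply k₀ C]
    have : Algebra.FormallyEtale P₀ P := Algebra.FormallyEtale.of_isLocalization Q.primeCompl
    have : Algebra.FormallySmooth k₀ P := Algebra.FormallySmooth.comp k₀ P₀ P
    have hs : Function.Surjective (algebraMap P (Localization.AtPrime p)) := fun b => by
      obtain ⟨⟨s, ⟨t, ht⟩⟩, hb⟩ := IsLocalization.surj p.primeCompl b
      obtain ⟨s', rfl⟩ := hπ s
      obtain ⟨t', rfl⟩ := hπ t
      refine ⟨IsLocalization.mk' P s' (⟨t', ht⟩ : Q.primeCompl), ?_⟩
      refine (IsLocalization.map_units (Localization.AtPrime p) (⟨π t', ht⟩ : p.primeCompl)).mul_left_inj.mp ?_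
      rw [hb]
      show algebraMap P _ _ * algebraMap C _ (algebraMap P₀ C t') = algebraMap C _ (algebraMap P₀ C s')
      rw [← hc, ← hc, ← map_mul]
      exact congrArg _ (IsLocalization.mk'_spec P s' _)
    have : IsNoetherianRing P := IsLocalization.isNoetherianRing Q.primeCompl P inferInstance
    refine Groth.Agent.H68.FSLocal.formallySmooth_of_hasLifts_local hs ?_
    have : IsLocalization (⊥ : Submonoid k₀) k₀ := IsLocalization.self fun x hx => by
      rw [Submonoid.mem_bot] at hx; subst hx; exact isUnit_one
    exact Groth.Agent.H68.AdicSmoothLifts.hasLifts_of_isAdicFormallySmooth k₀ ⊥ h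
  tfae_have 1 → 3 := by
    intro h
    obtain ⟨s, hs, hsp⟩ := Groth.Agent.H68.FSLocal.exists_retr (R := k₀) hs₀ p.primeCompl
      (Localization.AtPrime p)
    exact ⟨algebraMap P₀ C s, hsp,
      Groth.Agent.H68.FSLocal.formallySmooth_of_retr hs₀ (Submonoid.powers (algebraMap P₀ C s))
        (Localization.Away (algebraMap P₀ C s)) hs (Submonoid.mem_powers _)⟩
  tfae_have 3 → 1 := by
    rintro ⟨f, hf, h⟩
    have hle : Submonoid.powers f ≤ p.primeCompl := Submonoid.powers_le.mpr hf
    let : Algebra (Localization.Away f) (Localization.AtPrime p) :=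
      IsLocalization.localizationAlgebraOfSubmonoidLe (Localization.Away f) (Localization.AtPrime p)
        (Submonoid.powers f) p.primeCompl hle
    have : IsScalarTower C (Localization.Away f) (Localization.AtPrime p) :=
      IsLocalization.localization_isScalarTower_of_submonoid_le _ _ _ _ hle
    have : IsScalarTower k₀ (Localization.Away f) (Localization.AtPrime p) :=
      IsScalarTower.of_algebraMap_eq fun r => by
        rw [IsScalarTower.algebraMap_apply k₀ C (Localization.Away f), ← IsScalarTower.algebraMap_apply C,
          ← IsScalarTower.algebraMap_apply k₀ C]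
    have := IsLocalization.isLocalization_of_submonoid_le (Localization.Away f) (Localization.AtPrime p)
      (Submonoid.powers f) p.primeCompl hle
    have : Algebra.FormallySmooth (Localization.Away f) (Localization.AtPrime p) :=
      Algebra.FormallySmooth.of_isLocalization
        (Submonoid.map (algebraMap C (Localization.Away f)) p.primeCompl)
    exact Algebra.FormallySmooth.comp k₀ (Localization.Away f) _
  tfae_have 2 → 4 := fun h => (Groth.Agent.S4512.result h).1
  tfae_have 4 → 2 := fun h => (Groth.Agent.S4573.result q).mpr fun k' _ _ hfin _ => h k' hfin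
  tfae_finish

end Groth.Agent.S4578
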