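import Groth.Statements.S4579
import Groth.Agent.S4578
import Mathlib.Tactic.TFAE

set_option autoImplicit false
universe u
open EGA41

namespace Groth.Agent.S4579

/-- Let k₀ be a field, k a separable (formally smooth) extension field of k₀ and C a k-algebra of finite
type. The following are equivalent: C is formally smooth over k₀ (discrete topologies); every C_p, p
prime, is formally smooth over k₀; every C_m, m maximal, is; C is geometrically regular over k₀.
(Geometric regularity is tested on finite extensions of k₀. The published statement quantifies the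
last condition over all extensions k' of k₀; for infinite ones the base change need not be
Noetherian, so it need not be regular in the Noetherian sense, and the printed proof passes through
the local rings as here.) -/
theorem result {k₀ k C : Type u} [Field k₀] [Field k] [Algebra k₀ k]
    [Algebra.FormallySmooth k₀ k] [CommRing C] [Algebra k C] [Algebra k₀ C] [IsScalarTower k₀ k C]
    [Algebra.FiniteType k C] :
    [Algebra.FormallySmooth k₀ C,
     ∀ (p : Ideal C) [p.IsPrime], Algebra.FormallySmooth k₀ (Localization.AtPrime p),
     ∀ (m : Ideal C) [m.IsMaximal], Algebra.FormallySmooth k₀ (Localization.AtPrime m),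
     CAlg.IsGeometricallyRegular k₀ C].TFAE := by
  obtain ⟨q, hq⟩ := ExpChar.exists k₀
  obtain ⟨n, π, hπ⟩ := Algebra.FiniteType.iff_quotient_mvPolynomial''.mp
    (inferInstance : Algebra.FiniteType k C)
  let P₀ := MvPolynomial (Fin n) k
  let : Algebra P₀ C := π.toRingHom.toAlgebra
  have : IsScalarTower k₀ P₀ C := IsScalarTower.of_algebraMap_eq fun r => by
    show algebraMap k₀ C r = π (algebraMap k₀ P₀ r)
    rw [IsScalarTower.algebraMap_apply k₀ k P₀, π.commutes, ← IsScalarTower.algebraMap_apply]
  have : IsNoetherianRing C := Algebra.FiniteType.isNoetherianRing k C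
  have : Algebra.FormallySmooth k₀ P₀ := Algebra.FormallySmooth.comp k₀ k P₀
  have hs₀ : Function.Surjective (algebraMap P₀ C) := hπ
  have : Module.Finite P₀ (RingHom.ker (algebraMap P₀ C)).Cotangent :=
    Module.Finite.of_surjective _ (RingHom.ker (algebraMap P₀ C)).toCotangent_surjective
  tfae_have 1 → 2 := by
    intro h p _
    infer_instance
  tfae_have 2 → 3 := fun h m hm => h m
  tfae_have 3 → 1 := fun h => Groth.Agent.H68.FSLocal.formallySmooth_of_forall_maximal hs₀ h
  tfae_have 1 → 4 := by
    intro h k' _ _ hfin
    have : Algebra.FiniteType k₀ k' := inferInstance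
    have : IsNoetherianRing (TensorProduct k₀ C k') := Algebra.FiniteType.isNoetherianRing C _
    have : IsNoetherianRing (TensorProduct k₀ k' C) :=
      isNoetherianRing_of_ringEquiv _ (Algebra.TensorProduct.comm k₀ C k').toRingEquiv
    refine isRegularRing_iff.mpr fun 𝔮 _ => ?_
    have : IsNoetherianRing (Localization.AtPrime 𝔮) :=
      IsLocalization.isNoetherianRing 𝔮.primeCompl _ inferInstance
    have hfs : CAlgX.IsAdicFormallySmooth k' (Localization.AtPrime 𝔮)
        (IsLocalRing.maximalIdeal (Localization.AtPrime 𝔮)) := fun A _ _ J hJ ψ _ =>
      Algebra.FormallySmooth.comp_surjective _ _ J hJ ψ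
    have := (Groth.Agent.S4512.result hfs).1 k' inferInstance
    have : IsRegularRing (Localization.AtPrime 𝔮) :=
      IsRegularRing.of_ringEquiv (Algebra.TensorProduct.lid k' (Localization.AtPrime 𝔮)).toRingEquiv
    exact IsRegularLocalRing.of_isRegularRing_of_isLocalRing _
  tfae_have 4 → 3 := by
    intro h m _
    refine ((Groth.Agent.S4578.result (k₀ := k₀) (k := k) (C := C) m).out 3 0).mp ?_
    intro E _ _ hfin
    have := h E hfin
    let M := m.primeCompl.map (Algebra.TensorProduct.includeRight (R := k₀) (A := E) (B := C))
    have := Groth.Agent.Lib.SymGr.BaseChange.isRegularRing_of_isLocalization M (Localization M)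
    exact IsRegularRing.of_ringEquiv
      (IsLocalization.tensorProductEquivOfMapIncludeRight k₀ E m.primeCompl (Localization.AtPrime m)
        (Localization M)).toRingEquiv.symm
  tfae_finish

end Groth.Agent.S4579
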