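import Groth.Statements.S4580
import Groth.Agent.Lib.PBasis.SmoothQuot
-- import your own Groth.Agent.* helpers here

set_option autoImplicit false
universe u
open EGA41

namespace Groth.Agent.S4580

/-- Let k₀ be a field, k a separable (formally smooth) extension field of k₀, B = k[T_1, ..., T_r], J an
ideal of B and q a prime of B containing J, with image p in C = B/J. Then C_p is formally smooth
over k₀ for the discrete topologies if and only if there exist f_1, ..., f_m ∈ J whose images
generate J B_q and k₀-derivations D_1, ..., D_m of B with det(D_j f_i) ∉ q. -/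
theorem result {k₀ k : Type u} [Field k₀] [Field k] [Algebra k₀ k]
    [Algebra.FormallySmooth k₀ k] (r : ℕ) (J q : Ideal (MvPolynomial (Fin r) k)) [q.IsPrime] (hJq : J ≤ q)
    [(q.map (Ideal.Quotient.mk J)).IsPrime] :
    Algebra.FormallySmooth k₀ (Localization.AtPrime (q.map (Ideal.Quotient.mk J))) ↔
      ∃ (m : ℕ) (f : Fin m → MvPolynomial (Fin r) k) (D : Fin m → Derivation k₀ (MvPolynomial (Fin r) k) (MvPolynomial (Fin r) k)),
        (∀ i, f i ∈ J) ∧
        J.map (algebraMap (MvPolynomial (Fin r) k) (Localization.AtPrime q)) =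
          Ideal.span (Set.range fun i => algebraMap (MvPolynomial (Fin r) k) (Localization.AtPrime q) (f i)) ∧
        Matrix.det (Matrix.of fun i j => D j (f i)) ∉ q := by
  haveI : Algebra.FormallySmooth k₀ (MvPolynomial (Fin r) k) := Algebra.FormallySmooth.comp k₀ k (MvPolynomial (Fin r) k)
  have hsurj : Function.Surjective (algebraMap (MvPolynomial (Fin r) k) ((MvPolynomial (Fin r) k) ⧸ J)) := Ideal.Quotient.mk_surjective
  have hker : RingHom.ker (algebraMap (MvPolynomial (Fin r) k) ((MvPolynomial (Fin r) k) ⧸ J)) = J := Ideal.mk_ker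
  have hq : (q.map (Ideal.Quotient.mk J)).comap (Ideal.Quotient.mk J) = q := by
    rw [Ideal.comap_map_of_surjective _ Ideal.Quotient.mk_surjective, ← RingHom.ker_eq_comap_bot,
      Ideal.mk_ker, sup_eq_left]
    exact hJq
  have hmem : ∀ b : (MvPolynomial (Fin r) k), algebraMap (MvPolynomial (Fin r) k) ((MvPolynomial (Fin r) k) ⧸ J) b ∈ q.map (Ideal.Quotient.mk J) ↔ b ∈ q := fun b =>
    (Ideal.mem_comap (f := Ideal.Quotient.mk J)).symm.trans (by rw [hq])
  haveI : Module.Finite (MvPolynomial (Fin r) k) (RingHom.ker (algebraMap (MvPolynomial (Fin r) k) ((MvPolynomial (Fin r) k) ⧸ J))).Cotangent :=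
    Module.Finite.of_surjective _ (Ideal.toCotangent_surjective _)
  constructor
  · intro h
    obtain ⟨m, x, D, s, hs, hspan, hdet⟩ :=
      Groth.Agent.Lib.PBasis.SmoothQuot.exists_derivations (A := k₀) hsurj
        (q.map (Ideal.Quotient.mk J))
        (Groth.Agent.Lib.PBasis.SmoothQuot.injective_of_formallySmooth_atPrime (A := k₀) hsurj
          (q.map (Ideal.Quotient.mk J)))
    refine ⟨m, fun i => (x i : (MvPolynomial (Fin r) k)), D, fun i => hker.le (x i).2, ?_, fun hd => hdet ((hmem _).2 hd)⟩
    refine le_antisymm ?_ (Ideal.span_le.2 (by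
      rintro _ ⟨i, rfl⟩; exact Ideal.mem_map_of_mem _ (hker.le (x i).2)))
    refine Submodule.le_of_le_smul_of_le_jacobson_bot (I := J.map (algebraMap (MvPolynomial (Fin r) k) (Localization.AtPrime q)))
      (Ideal.fg_of_isNoetherianRing _) ?_ ?_
    · rw [IsLocalRing.jacobson_eq_maximalIdeal _ bot_ne_top,
        ← Localization.AtPrime.map_eq_maximalIdeal]
      exact Ideal.map_mono hJq
    · refine Ideal.map_le_iff_le_comap.2 fun y hy => ?_
      have h1 := hspan ((RingHom.ker (algebraMap (MvPolynomial (Fin r) k) ((MvPolynomial (Fin r) k) ⧸ J))).toCotangent ⟨y, hker.ge hy⟩)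
      rw [← map_smul, show (Set.range fun i => (RingHom.ker (algebraMap (MvPolynomial (Fin r) k) ((MvPolynomial (Fin r) k) ⧸ J))).toCotangent (x i)) = (RingHom.ker (algebraMap (MvPolynomial (Fin r) k) ((MvPolynomial (Fin r) k) ⧸ J))).toCotangent '' Set.range x from
        (Set.range_comp _ _), ← Submodule.map_span] at h1
      obtain ⟨z, hz, hzy⟩ := h1
      have h2 : (z : (MvPolynomial (Fin r) k)) - s * y ∈ (RingHom.ker (algebraMap (MvPolynomial (Fin r) k) ((MvPolynomial (Fin r) k) ⧸ J))) ^ 2 := (Ideal.toCotangent_eq _).1 hzy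
      have hzS : algebraMap (MvPolynomial (Fin r) k) (Localization.AtPrime q) (z : (MvPolynomial (Fin r) k)) ∈ Ideal.span (Set.range fun i =>
          algebraMap (MvPolynomial (Fin r) k) (Localization.AtPrime q) (x i : (MvPolynomial (Fin r) k))) := by
        clear hzy h2
        induction hz using Submodule.span_induction with
        | mem z hz => obtain ⟨i, rfl⟩ := hz; exact Ideal.subset_span ⟨i, rfl⟩
        | zero => simp
        | add a b _ _ ha hb => rw [Submodule.coe_add, map_add]; exact add_mem ha hb
        | smul c a _ ha =>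
          rw [Submodule.coe_smul, smul_eq_mul, map_mul]; exact Ideal.mul_mem_left _ _ ha
      have hu : IsUnit (algebraMap (MvPolynomial (Fin r) k) (Localization.AtPrime q) s) :=
        IsLocalization.map_units (Localization.AtPrime q)
          (⟨s, fun hsq => hs ((hmem s).2 hsq)⟩ : q.primeCompl)
      rw [Ideal.mem_comap, ← Ideal.unit_mul_mem_iff_mem _ hu, ← map_mul,
        show s * y = (z : (MvPolynomial (Fin r) k)) - ((z : (MvPolynomial (Fin r) k)) - s * y) by ring, map_sub]
      refine sub_mem (Ideal.mem_sup_left hzS) (Ideal.mem_sup_right ?_)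
      rw [smul_eq_mul, ← Ideal.map_mul, ← pow_two]
      exact Ideal.mem_map_of_mem _ (Ideal.pow_right_mono hker.le 2 h2)
  · rintro ⟨m, f, D, hf, hgen, hdet⟩
    obtain ⟨G, hG⟩ := (IsNoetherian.noetherian J : J.FG)
    classical
    have hG1 : ∀ y ∈ G, ∃ c : (MvPolynomial (Fin r) k), c ∉ q ∧ c * y ∈ Ideal.span (Set.range f) := by
      intro y hy
      have h1 : algebraMap (MvPolynomial (Fin r) k) (Localization.AtPrime q) y ∈
          (Ideal.span (Set.range f)).map (algebraMap (MvPolynomial (Fin r) k) (Localization.AtPrime q)) := by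
        rw [Ideal.map_span, ← Set.range_comp]
        exact hgen ▸ Ideal.mem_map_of_mem _ (hG ▸ Submodule.subset_span hy)
      obtain ⟨c, hc, hcy⟩ := (IsLocalization.algebraMap_mem_map_algebraMap_iff q.primeCompl _ _ _).1 h1
      exact ⟨c, hc, hcy⟩
    choose! c hc hcy using hG1
    let s : (MvPolynomial (Fin r) k) := ∏ y ∈ G, c y
    have hs : s ∉ q := fun h => by
      obtain ⟨y, hy, hyq⟩ := (Ideal.IsPrime.prod_mem_iff (p := q)).1 h
      exact hc y hy hyq
    have hsJ : ∀ y ∈ J, s * y ∈ Ideal.span (Set.range f) := by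
      intro y hy
      rw [← hG] at hy
      induction hy using Submodule.span_induction with
      | mem z hz =>
        obtain ⟨w, hw⟩ := Finset.dvd_prod_of_mem c hz
        rw [show s = c z * w from hw, mul_comm (c z) w, mul_assoc]
        exact Ideal.mul_mem_left _ _ (hcy z hz)
      | zero => simp
      | add a b _ _ ha hb => rw [mul_add]; exact add_mem ha hb
      | smul a b _ hb => rw [smul_eq_mul, mul_left_comm]; exact Ideal.mul_mem_left _ _ hb
    let x : Fin m → RingHom.ker (algebraMap (MvPolynomial (Fin r) k) ((MvPolynomial (Fin r) k) ⧸ J)) := fun i => ⟨f i, hker.ge (hf i)⟩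
    have hspan : ∀ z : (RingHom.ker (algebraMap (MvPolynomial (Fin r) k) ((MvPolynomial (Fin r) k) ⧸ J))).Cotangent, s • z ∈ Submodule.span (MvPolynomial (Fin r) k)
        (Set.range fun i => (RingHom.ker (algebraMap (MvPolynomial (Fin r) k) ((MvPolynomial (Fin r) k) ⧸ J))).toCotangent (x i)) := by
      intro z
      obtain ⟨y, rfl⟩ := Ideal.toCotangent_surjective _ z
      rw [← map_smul, show (Set.range fun i => (RingHom.ker (algebraMap (MvPolynomial (Fin r) k) ((MvPolynomial (Fin r) k) ⧸ J))).toCotangent (x i)) =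
        (RingHom.ker (algebraMap (MvPolynomial (Fin r) k) ((MvPolynomial (Fin r) k) ⧸ J))).toCotangent '' Set.range x from Set.range_comp _ _,
        ← Submodule.map_span]
      refine Submodule.mem_map_of_mem ?_
      apply (Submodule.apply_mem_span_image_iff_mem_span
        (f := (RingHom.ker (algebraMap (MvPolynomial (Fin r) k) ((MvPolynomial (Fin r) k) ⧸ J))).subtype) Subtype.val_injective).1
      rw [← Set.range_comp]
      exact hsJ _ (hker.le y.2)
    refine Groth.Agent.Lib.PBasis.SmoothQuot.formallySmooth_of_hasSplit hsurj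
      (q.map (Ideal.Quotient.mk J)).primeCompl _ ?_
      (Groth.Agent.Lib.PBasis.SmoothQuot.hasSplit_of_derivations x D s hspan)
    rw [IsScalarTower.algebraMap_apply (MvPolynomial (Fin r) k) ((MvPolynomial (Fin r) k) ⧸ J) (Localization.AtPrime _)]
    refine IsLocalization.map_units _ (⟨_, fun h => ?_⟩ : (q.map (Ideal.Quotient.mk J)).primeCompl)
    exact (‹q.IsPrime›.mem_or_mem ((hmem _).1 h)).elim hs hdet

end Groth.Agent.S4580
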