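import Groth.Statements.S4586
import Groth.Agent.Lib.ProCons45.Basic

set_option autoImplicit false
universe u
open AlgebraicGeometry CategoryTheory Topology
open EGA41

namespace Groth.Agent.S4586

/-- Let f : X → Y be surjective and either quasi-compact or locally of finite presentation, E ⊆ Y. Then
E is locally constructible (resp. pro-constructible, resp. ind-constructible) if and only if f⁻¹(E)
is. -/
theorem result {X Y : Scheme.{u}} (f : X ⟶ Y) [Surjective f]
    (hf : QuasiCompact f ∨ LocallyOfFinitePresentation f) (E : Set Y) :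
    (IsLocallyConstructible E ↔ IsLocallyConstructible (f.base ⁻¹' E)) ∧
    (ProCons.IsProConstructible E ↔ ProCons.IsProConstructible (f.base ⁻¹' E)) ∧
    (ProCons.IsIndConstructible E ↔ ProCons.IsIndConstructible (f.base ⁻¹' E)) := by
  have hs : f.base '' (f.base ⁻¹' E) = E := Set.image_preimage_eq E f.surjective
  have hsc : f.base '' (f.base ⁻¹' Eᶜ) = Eᶜ := Set.image_preimage_eq _ f.surjective
  have hp : ∀ {Z : Set Y}, Groth.Agent.Lib.LimTop.PC.IsPC Z →
      Groth.Agent.Lib.LimTop.PC.IsPC (f.base ⁻¹' Z) := fun hZ => hZ.preimage f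
  have key : ∀ Z : Set Y, f.base '' (f.base ⁻¹' Z) = Z → f.base '' (f.base ⁻¹' Zᶜ) = Zᶜ →
      (Groth.Agent.Lib.LimTop.PC.IsPC Z ↔ Groth.Agent.Lib.LimTop.PC.IsPC (f.base ⁻¹' Z)) := by
    intro Z hZ hZc
    refine ⟨hp, fun h => ?_⟩
    rcases hf with hq | hl
    · exact hZ ▸ Groth.Agent.Lib.ProCons45.Basic.isPC_image f h
    · have := Groth.Agent.Lib.ProCons45.Basic.isIndConstructible_image f
        ((Groth.Agent.Lib.ProCons45.Basic.isIndConstructible_iff_isPC (E := f.base ⁻¹' Zᶜ)).mpr (by simpa using h))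
      rw [hZc, Groth.Agent.Lib.ProCons45.Basic.isIndConstructible_iff_isPC, compl_compl] at this
      exact this
  have k1 := key E hs hsc
  have k2 : Groth.Agent.Lib.LimTop.PC.IsPC Eᶜ ↔
      Groth.Agent.Lib.LimTop.PC.IsPC (f.base ⁻¹' E)ᶜ := key Eᶜ hsc (by simpa using hs)
  simp only [Groth.Agent.Lib.ProCons45.Basic.isLocallyConstructible_iff_isPC, Groth.Agent.Lib.ProCons45.Basic.isProConstructible_iff_isPC,
    Groth.Agent.Lib.ProCons45.Basic.isIndConstructible_iff_isPC]
  exact ⟨and_congr k1 k2, k1, k2⟩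

end Groth.Agent.S4586
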