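import Groth.Statements.S4587
import Mathlib.AlgebraicGeometry.Properties

set_option autoImplicit false
universe u
open AlgebraicGeometry CategoryTheory
open EGA41

namespace Groth.Agent.S4587

/-- A morphism of schemes f : X → Y is generizing if and only if, for every irreducible closed subset Y'
of Y, each irreducible component of f⁻¹(Y') has dense image in Y'. -/
theorem result {X Y : Scheme.{u}} (f : X ⟶ Y) :
    GeneralizingMap f.base ↔
      ∀ Y' : Set Y, IsClosed Y' → IsIrreducible Y' →
        ∀ Z ∈ irreducibleComponents ↥(f.base ⁻¹' Y'), closure (f.base '' (Subtype.val '' Z)) = Y' := by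
  constructor
  · intro h Y' hY' hirr Z hZ
    have hcl : IsClosed (Subtype.val '' Z : Set X) :=
      (hY'.preimage f.continuous).isClosedEmbedding_subtypeVal.isClosedMap _
        (isClosed_of_mem_irreducibleComponents Z hZ)
    have hZi : IsIrreducible (Subtype.val '' Z : Set X) := hZ.1.image _ continuous_subtype_val.continuousOn
    have hz := hZi.isGenericPoint_genericPoint hcl
    obtain ⟨z', hz'Z, hz'⟩ := hz.mem
    have hη := hirr.isGenericPoint_genericPoint hY'
    obtain ⟨x', hx', hfx'⟩ := h (hη.specializes (show f.base hZi.genericPoint ∈ Y' from hz' ▸ z'.2))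
    have hsub : closure {x'} ⊆ f.base ⁻¹' Y' := closure_minimal
      (Set.singleton_subset_iff.mpr (show f.base x' ∈ Y' from hfx' ▸ hη.mem)) (hY'.preimage f.continuous)
    have hle : (Subtype.val '' Z : Set X) ⊆ closure {x'} := hz.def ▸ closure_minimal
      (Set.singleton_subset_iff.mpr hx'.mem_closure) isClosed_closure
    let x'' : ↥(f.base ⁻¹' Y') := ⟨x', hsub (subset_closure rfl)⟩
    have hcl'' : closure ({x''} : Set ↥(f.base ⁻¹' Y')) = Subtype.val ⁻¹' closure {x'} := by
      rw [Topology.IsInducing.subtypeVal.closure_eq_preimage_closure_image, Set.image_singleton]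
    have hge : closure ({x''} : Set ↥(f.base ⁻¹' Y')) ⊆ Z :=
      hZ.2 isIrreducible_singleton.closure (hcl''.symm ▸ Set.image_subset_iff.mp hle)
    refine Set.Subset.antisymm (closure_minimal ?_ hY') ?_
    · rintro _ ⟨_, ⟨a, -, rfl⟩, rfl⟩; exact a.2
    · have hmem : f.base x' ∈ f.base '' (Subtype.val '' Z) :=
        Set.mem_image_of_mem _ (Set.mem_image_of_mem Subtype.val (hge (subset_closure rfl)))
      rw [hfx'] at hmem
      exact le_of_eq_of_le hη.def.symm (closure_mono (Set.singleton_subset_iff.mpr hmem))
  · intro h x y hy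
    let Y' := closure ({y} : Set Y)
    let x₀ : ↥(f.base ⁻¹' Y') := ⟨x, hy.mem_closure⟩
    have hZ := irreducibleComponent_mem_irreducibleComponents x₀
    have hcl : IsClosed (Subtype.val '' irreducibleComponent x₀ : Set X) :=
      (isClosed_closure.preimage f.continuous).isClosedEmbedding_subtypeVal.isClosedMap _
        (isClosed_of_mem_irreducibleComponents _ hZ)
    have hZi : IsIrreducible (Subtype.val '' irreducibleComponent x₀ : Set X) :=
      hZ.1.image _ continuous_subtype_val.continuousOn
    have hz := hZi.isGenericPoint_genericPoint hcl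
    refine ⟨hZi.genericPoint, hz.specializes ⟨x₀, mem_irreducibleComponent, rfl⟩, ?_⟩
    have h1 := h Y' isClosed_closure isIrreducible_singleton.closure _ hZ
    have h2 := hz.image f.continuous
    rw [h1] at h2
    exact h2.eq (show IsGenericPoint y Y' from rfl)

end Groth.Agent.S4587
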