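import Groth.Statements.S4589
import Groth.Agent.H19.EGA.NagataMain

set_option autoImplicit false
universe u
open IsLocalRing
open EGA41

namespace Groth.Agent.S4589

/-- Under the hypotheses of Nagata's Jacobian criterion — k a field of characteristic exponent p with k
finite over k^p, A a complete Noetherian local ring with residue field finite over a separable
extension K₀ of k, A a K₀-algebra formally smooth for its adic topology, q an ideal of A and B = A/q
— the set of primes n of B with B_n formally smooth over k for the adic topology of its maximal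
ideal is open in Spec B. -/
theorem result (p : ℕ) {k K₀ A : Type u} [Field k] [ExpChar k p]
    (hk : p = 1 ∨ Module.Finite (frobenius k p).fieldRange k)
    [Field K₀] [Algebra k K₀] [Algebra.IsGeometricallyReduced k K₀]
    [CommRing A] [IsLocalRing A] [IsNoetherianRing A] [IsAdicComplete (maximalIdeal A) A]
    [Algebra k A] [Algebra K₀ A] [IsScalarTower k K₀ A] [Module.Finite K₀ (ResidueField A)]
    (hA : CAlgX.IsAdicFormallySmooth K₀ A (maximalIdeal A))
    (q : Ideal A) :
    IsOpen {n : PrimeSpectrum (A ⧸ q) |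
      CAlgX.IsAdicFormallySmooth k (Localization.AtPrime n.asIdeal) (maximalIdeal (Localization.AtPrime n.asIdeal))} := by
  classical
  obtain ⟨T, hT⟩ := IsNoetherian.noetherian q
  rw [isOpen_iff_forall_mem_open]
  intro n hn
  haveI hprime : ∀ m : PrimeSpectrum (A ⧸ q),
      ((m.asIdeal.comap (Ideal.Quotient.mk q)).map (Ideal.Quotient.mk q)).IsPrime := fun m => by
    rw [Ideal.map_comap_of_surjective _ Ideal.Quotient.mk_surjective]
    exact m.isPrime
  have hle : ∀ m : PrimeSpectrum (A ⧸ q), q ≤ m.asIdeal.comap (Ideal.Quotient.mk q) := fun m x hx => by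
    rw [Ideal.mem_comap, Ideal.Quotient.eq_zero_iff_mem.2 hx]
    exact zero_mem _
  have htr : ∀ (I J : Ideal (A ⧸ q)) [I.IsPrime] [J.IsPrime], I = J →
      CAlgX.IsAdicFormallySmooth k (Localization.AtPrime I) (maximalIdeal (Localization.AtPrime I)) →
      CAlgX.IsAdicFormallySmooth k (Localization.AtPrime J) (maximalIdeal (Localization.AtPrime J)) := by
    intro I J _ _ h hFS
    subst h
    exact hFS
  have hme : ∀ m : PrimeSpectrum (A ⧸ q),
      (m.asIdeal.comap (Ideal.Quotient.mk q)).map (Ideal.Quotient.mk q) = m.asIdeal := fun m =>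
    Ideal.map_comap_of_surjective _ Ideal.Quotient.mk_surjective _
  obtain ⟨r, D, f, hf, hspan, hdet⟩ :=
    (H19.EGA.NagataMain.criterion p hk hA q (n.asIdeal.comap (Ideal.Quotient.mk q)) (hle n)).1
      (htr _ _ (hme n).symm hn)
  have hex : ∀ x : T, ∃ t, t ∉ n.asIdeal.comap (Ideal.Quotient.mk q) ∧
      t * (x : A) ∈ Ideal.span (Set.range f) := fun x =>
    (H19.EGA.NagataCrit.map_eq_span_iff q _ f hf).1 hspan _ (hT ▸ Submodule.subset_span x.2)
  choose t ht htx using hex
  let S := Matrix.det (Matrix.of fun i j => D i (f j)) * ∏ x, t x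
  refine ⟨PrimeSpectrum.basicOpen (Ideal.Quotient.mk q S), fun m hm => ?_,
    PrimeSpectrum.isOpen_basicOpen, ?_⟩
  · have hS : S ∉ m.asIdeal.comap (Ideal.Quotient.mk q) := hm
    refine htr _ _ (hme m)
      ((H19.EGA.NagataMain.criterion p hk hA q (m.asIdeal.comap (Ideal.Quotient.mk q)) (hle m)).2
        ⟨r, D, f, hf, (H19.EGA.NagataCrit.map_eq_span_iff q _ f hf).2 fun x hx => ?_,
          fun h => hS (Ideal.mul_mem_right _ _ h)⟩)
    refine ⟨∏ x, t x, fun h => hS (Ideal.mul_mem_left _ _ h), ?_⟩
    have hx' : x ∈ Submodule.span A (T : Set A) := hT.symm ▸ hx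
    induction hx' using Submodule.span_induction with
    | mem y hy =>
      obtain ⟨c, hc⟩ := Finset.dvd_prod_of_mem t (Finset.mem_univ (⟨y, hy⟩ : T))
      rw [hc, mul_right_comm]
      exact Ideal.mul_mem_right _ _ (htx ⟨y, hy⟩)
    | zero => rw [mul_zero]; exact zero_mem _
    | add a b ha hb iha ihb => rw [mul_add]; exact add_mem (iha (hT ▸ ha)) (ihb (hT ▸ hb))
    | smul c y hy ih =>
      rw [smul_eq_mul, mul_left_comm]
      exact Ideal.mul_mem_left _ _ (ih (hT ▸ hy))
  · show S ∉ n.asIdeal.comap (Ideal.Quotient.mk q)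
    intro h
    rcases (Ideal.IsPrime.mem_or_mem inferInstance h) with h | h
    · exact hdet h
    · obtain ⟨x, -, hx⟩ := Ideal.IsPrime.prod_mem_iff.1 h
      exact ht x hx

end Groth.Agent.S4589
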