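import Groth.Statements.S4590
import Mathlib.RingTheory.Polynomial.ScaleRoots
import Mathlib.Algebra.Polynomial.Lifts
import Mathlib.RingTheory.Flat.FaithfullyFlat.Algebra
import Mathlib.RingTheory.Flat.TorsionFree
import Mathlib.RingTheory.IntegralClosure.IsIntegral.Basic
import Mathlib.Tactic.FieldSimp

set_option autoImplicit false
universe u
open CAlg

namespace Groth.Agent.S4590

/-- Let A be a domain with fraction field K, B a faithfully flat A-algebra, C = B_red and R the total
ring of fractions of C. Then A → C is injective with nonzero elements going to non-zero-divisors, so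
that K embeds in R, and an element of K is integral over C in R if and only if it is integral over
A. -/
theorem result {A B : Type u} [CommRing A] [IsDomain A]
    [CommRing B] [Algebra A B] [Module.FaithfullyFlat A B] :
    Function.Injective (algebraMap A (B ⧸ nilradical B)) ∧
    (∀ a : A, a ≠ 0 → algebraMap A (B ⧸ nilradical B) a ∈ nonZeroDivisors (B ⧸ nilradical B)) ∧
    ∀ (R : Type u) [CommRing R] [Algebra (B ⧸ nilradical B) R] [IsFractionRing (B ⧸ nilradical B) R]
      [Algebra A R] [IsScalarTower A (B ⧸ nilradical B) R] [Algebra (FractionRing A) R]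
      [IsScalarTower A (FractionRing A) R] (x : FractionRing A),
      IsIntegral (B ⧸ nilradical B) (algebraMap (FractionRing A) R x) ↔ IsIntegral A x := by
  classical
  have hBi : Function.Injective (algebraMap A B) := FaithfulSMul.algebraMap_injective A B
  have hinj : Function.Injective (algebraMap A (B ⧸ nilradical B)) := by
    rw [injective_iff_map_eq_zero]
    intro a ha
    obtain ⟨n, hn⟩ := mem_nilradical.1 (Ideal.Quotient.eq_zero_iff_mem.1 ha :
      algebraMap A B a ∈ nilradical B)
    rw [← map_pow] at hn
    exact eq_zero_of_pow_eq_zero (hBi (hn.trans (map_zero _).symm))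
  have hnzd : ∀ a : A, a ≠ 0 → algebraMap A (B ⧸ nilradical B) a ∈ nonZeroDivisors (B ⧸ nilradical B) := by
    intro a ha
    rw [mem_nonZeroDivisors_iff_right]
    intro y hy
    obtain ⟨b, rfl⟩ := Ideal.Quotient.mk_surjective y
    rw [show algebraMap A (B ⧸ nilradical B) a = Ideal.Quotient.mk _ (algebraMap A B a) from rfl,
      ← map_mul, Ideal.Quotient.eq_zero_iff_mem, mem_nilradical] at hy
    obtain ⟨n, hn⟩ := hy
    refine Ideal.Quotient.eq_zero_iff_mem.2 (mem_nilradical.2 ⟨n, ?_⟩)
    have hreg : IsSMulRegular B (a ^ n) :=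
      Module.Flat.isSMulRegular_of_isRegular (isRegular_of_ne_zero (pow_ne_zero n ha))
    apply hreg
    show a ^ n • b ^ n = a ^ n • 0
    rw [smul_zero, Algebra.smul_def, map_pow, mul_comm, ← mul_pow]
    exact hn
  refine ⟨hinj, hnzd, ?_⟩
  intro R _ _ _ _ _ _ _ x
  haveI : Nontrivial (B ⧸ nilradical B) := hinj.nontrivial
  haveI : Nontrivial B := hBi.nontrivial
  have hR : Function.Injective (algebraMap (B ⧸ nilradical B) R) := IsFractionRing.injective _ R
  haveI : Nontrivial R := hR.nontrivial
  refine ⟨fun hx => ?_, fun hx => ?_⟩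
  · obtain ⟨a, s, hs, rfl⟩ := IsFractionRing.div_surjective (A := A) x
    have hs0 : s ≠ 0 := nonZeroDivisors.ne_zero hs
    obtain ⟨p, hp, hpx⟩ := hx
    obtain ⟨P₀, hP₀, -, hP₀m⟩ := Polynomial.lifts_and_natDegree_eq_and_monic
      (f := Ideal.Quotient.mk (nilradical B)) (p := p)
      ((Polynomial.lifts_iff_coeff_lifts p).2 fun i => Ideal.Quotient.mk_surjective _) hp
    have hsdiv : algebraMap (FractionRing A) R (algebraMap A (FractionRing A) a / algebraMap A (FractionRing A) s) *
        algebraMap A R s = algebraMap A R a := by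
      rw [IsScalarTower.algebraMap_apply A (FractionRing A) R s,
        IsScalarTower.algebraMap_apply A (FractionRing A) R a, ← map_mul,
        div_mul_cancel₀ _ (IsFractionRing.to_map_ne_zero_of_mem_nonZeroDivisors hs)]
    have h0 : Ideal.Quotient.mk (nilradical B)
        ((P₀.scaleRoots (algebraMap A B s)).eval (algebraMap A B a)) = 0 := by
      apply hR
      rw [map_zero, ← Polynomial.eval_map_apply, Polynomial.map_scaleRoots _ _ _ (by
        rw [hP₀m.leadingCoeff, map_one]; exact one_ne_zero), hP₀, ← Polynomial.eval₂_at_apply]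
      have h1 := Polynomial.scaleRoots_eval₂_eq_zero (algebraMap (B ⧸ nilradical B) R)
        (s := algebraMap A (B ⧸ nilradical B) s) hpx
      rw [← IsScalarTower.algebraMap_apply A (B ⧸ nilradical B) R, mul_comm, hsdiv,
        IsScalarTower.algebraMap_apply A (B ⧸ nilradical B) R] at h1
      exact h1
    obtain ⟨N, hN⟩ := mem_nilradical.1 (Ideal.Quotient.eq_zero_iff_mem.1 h0)
    have hN' : ((P₀ ^ N).scaleRoots (algebraMap A B s)).eval (algebraMap A B a) = 0 := by
      rw [Polynomial.pow_scaleRoots' _ _ _ (by rw [hP₀m.leadingCoeff, one_pow]; exact one_ne_zero),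
        Polynomial.eval_pow, hN]
    let M := (P₀ ^ N).natDegree
    have hQm : (P₀ ^ N).Monic := hP₀m.pow N
    let J : Ideal A := Ideal.span (Set.range fun i : Fin M => s ^ (M - (i : ℕ)) * a ^ (i : ℕ))
    have hJ : a ^ M ∈ J := by
      rw [← Ideal.comap_map_eq_self_of_faithfullyFlat (B := B) J, Ideal.mem_comap]
      have heval : ((P₀ ^ N).scaleRoots (algebraMap A B s)).eval (algebraMap A B a) =
          ∑ i ∈ Finset.range M, (P₀ ^ N).coeff i * algebraMap A B (s ^ (M - i) * a ^ i) +
            algebraMap A B (a ^ M) := by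
        rw [Polynomial.eval_eq_sum_range, Polynomial.natDegree_scaleRoots, Finset.sum_range_succ]
        simp only [Polynomial.coeff_scaleRoots, map_mul, map_pow, mul_assoc, M]
        rw [hQm.coeff_natDegree, Nat.sub_self, pow_zero, one_mul, one_mul]
      rw [hN'] at heval
      rw [eq_neg_of_add_eq_zero_right heval.symm]
      refine neg_mem (sum_mem fun i hi => Ideal.mul_mem_left _ _ ?_)
      exact Ideal.mem_map_of_mem _ (Ideal.subset_span ⟨⟨i, Finset.mem_range.1 hi⟩, rfl⟩)
    obtain ⟨e, he⟩ := Ideal.mem_span_range_iff_exists_fun.1 hJ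
    let q : Polynomial A := Polynomial.X ^ M - ∑ i : Fin M, Polynomial.C (e i) * Polynomial.X ^ (i : ℕ)
    refine ⟨q, ?_, ?_⟩
    · refine Polynomial.monic_X_pow_sub ((Polynomial.degree_sum_fin_lt fun i : Fin M => e i))
    · have hsK : algebraMap A (FractionRing A) s ≠ 0 :=
        IsFractionRing.to_map_ne_zero_of_mem_nonZeroDivisors hs
      have hterm : ∀ i : Fin M, algebraMap A (FractionRing A) (e i) *
          (algebraMap A (FractionRing A) a / algebraMap A (FractionRing A) s) ^ (i : ℕ) *
            algebraMap A (FractionRing A) s ^ M =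
          algebraMap A (FractionRing A) (e i * (s ^ (M - (i : ℕ)) * a ^ (i : ℕ))) := by
        intro i
        rw [map_mul, map_mul, map_pow, map_pow, div_pow, pow_sub₀ _ hsK i.2.le]
        field_simp
      have : Polynomial.eval₂ (algebraMap A (FractionRing A))
          (algebraMap A (FractionRing A) a / algebraMap A (FractionRing A) s) q *
            algebraMap A (FractionRing A) s ^ M = 0 := by
        simp only [q, Polynomial.eval₂_sub, Polynomial.eval₂_finsetSum, Polynomial.eval₂_mul,
          Polynomial.eval₂_C, Polynomial.eval₂_pow, Polynomial.eval₂_X, sub_mul, Finset.sum_mul]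
        rw [Finset.sum_congr rfl fun i _ => hterm i, ← map_sum, he, map_pow, div_pow,
          div_mul_cancel₀ _ (pow_ne_zero _ hsK), sub_self]
      exact (mul_eq_zero.1 this).resolve_right (pow_ne_zero _ hsK)
  · haveI : IsScalarTower A (B ⧸ nilradical B) R := inferInstance
    exact IsIntegral.tower_top (hx.map (IsScalarTower.toAlgHom A (FractionRing A) R))

end Groth.Agent.S4590
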