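import Groth.Statements.S4593
import Mathlib.Algebra.Category.Ring.FilteredColimits
import Mathlib.RingTheory.Spectrum.Prime.RingHom
-- import your own Groth.Agent.* helpers here

set_option autoImplicit false
universe u
open CategoryTheory CategoryTheory.Limits AlgebraicGeometry
open EGA41

namespace Groth.Agent.S4593

set_option backward.isDefEq.respectTransparency false

/-- Let B be a ring, (A_i) a filtered system of B-algebras with colimit A. The image of Spec A in Spec B
is the intersection of the images of the Spec A_i. -/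
theorem result {I : Type u} [SmallCategory I] [IsFiltered I]
    (B : CommRingCat.{u}) (D : I ⥤ CommRingCat.{u}) (s : (Functor.const I).obj B ⟶ D) (c : Cocone D)
    (hc : IsColimit c) (i₀ : I) :
    Set.range (Spec.map (s.app i₀ ≫ c.ι.app i₀)).base = ⋂ i : I, Set.range (Spec.map (s.app i)).base := by
  ext p
  simp only [Set.mem_iInter]
  have hs : ∀ {i j : I} (g : i ⟶ j), s.app i ≫ D.map g = s.app j := fun g =>
    (s.naturality g).symm.trans (Category.id_comp _)
  have hφ : ∀ i, s.app i ≫ c.ι.app i = s.app i₀ ≫ c.ι.app i₀ := fun i => by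
    rw [← c.w (IsFiltered.leftToMax i i₀),
      ← c.w (IsFiltered.rightToMax i i₀), ← Category.assoc, ← Category.assoc, hs, hs]
  constructor
  · rintro ⟨q, rfl⟩ i
    refine ⟨(Spec.map (c.ι.app i)).base q, ?_⟩
    have h := congrArg (fun φ : B ⟶ c.pt => (Spec.map φ).base q) (hφ i)
    refine Eq.trans ?_ h
    rw [Spec.map_comp]
    rfl
  · intro h
    let φ := (s.app i₀ ≫ c.ι.app i₀).hom
    refine (PrimeSpectrum.mem_range_comap_iff φ).mpr (le_antisymm ?_ Ideal.le_comap_map)
    intro b hb
    have key : ∀ y ∈ Ideal.map φ p.asIdeal, ∃ (i : I) (y' : D.obj i),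
        y' ∈ Ideal.map (s.app i).hom p.asIdeal ∧ (c.ι.app i).hom y' = y := by
      intro y hy
      induction hy using Submodule.span_induction with
      | mem y hy =>
        obtain ⟨z, hz, rfl⟩ := hy
        exact ⟨i₀, (s.app i₀).hom z, Ideal.mem_map_of_mem _ hz, rfl⟩
      | zero => exact ⟨i₀, 0, Ideal.zero_mem _, map_zero _⟩
      | add y z _ _ hy hz =>
        obtain ⟨i, y', hy', rfl⟩ := hy
        obtain ⟨j, z', hz', rfl⟩ := hz
        refine ⟨IsFiltered.max i j, (D.map (IsFiltered.leftToMax i j)).hom y' +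
          (D.map (IsFiltered.rightToMax i j)).hom z', Ideal.add_mem _ ?_ ?_, ?_⟩
        · rw [← hs (IsFiltered.leftToMax i j), CommRingCat.hom_comp, ← Ideal.map_map]
          exact Ideal.mem_map_of_mem _ hy'
        · rw [← hs (IsFiltered.rightToMax i j), CommRingCat.hom_comp, ← Ideal.map_map]
          exact Ideal.mem_map_of_mem _ hz'
        · rw [map_add, ← CommRingCat.comp_apply, ← CommRingCat.comp_apply, c.w, c.w]
          rfl
      | smul a y _ hy =>
        obtain ⟨i, y', hy', rfl⟩ := hy
        obtain ⟨j, a', rfl⟩ := Types.jointly_surjective _ (isColimitOfPreserves (forget CommRingCat) hc) a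
        refine ⟨IsFiltered.max j i, (D.map (IsFiltered.leftToMax j i)).hom a' *
          (D.map (IsFiltered.rightToMax j i)).hom y', Ideal.mul_mem_left _ _ ?_, ?_⟩
        · rw [← hs (IsFiltered.rightToMax j i), CommRingCat.hom_comp, ← Ideal.map_map]
          exact Ideal.mem_map_of_mem _ hy'
        · rw [map_mul, ← CommRingCat.comp_apply, ← CommRingCat.comp_apply, c.w, c.w]
          rfl
    obtain ⟨i, y', hy', he⟩ := key (φ b) hb
    have e2 : (c.ι.app i).hom y' = (c.ι.app i).hom ((s.app i).hom b) :=
      he.trans (congrArg (fun g : B ⟶ c.pt => g.hom b) (hφ i)).symm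
    obtain ⟨k, g, hg⟩ := (Types.FilteredColimit.isColimit_eq_iff'
      (isColimitOfPreserves (forget CommRingCat) hc) _ _).mp e2
    have hk : b ∈ Ideal.comap (s.app k).hom (Ideal.map (s.app k).hom p.asIdeal) := by
      rw [Ideal.mem_comap]
      have e3 : (s.app k).hom b = (D.map g).hom y' := by
        refine Eq.trans ?_ hg.symm
        exact (congrArg (fun ψ : B ⟶ D.obj k => ψ.hom b) (hs g)).symm
      have hm : (D.map g).hom y' ∈ Ideal.map (s.app i ≫ D.map g).hom p.asIdeal := by
        rw [CommRingCat.hom_comp, ← Ideal.map_map]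
        exact Ideal.mem_map_of_mem _ hy'
      rw [hs g] at hm
      exact (congrArg (· ∈ Ideal.map (s.app k).hom p.asIdeal) e3).mpr hm
    rwa [(PrimeSpectrum.mem_range_comap_iff (s.app k).hom).mp (h k)] at hk

end Groth.Agent.S4593
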