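-- Proof of statement S4594.
import Groth.Statements.S4594
import Mathlib.RingTheory.Smooth.Basic
import Mathlib.RingTheory.Kaehler.Basic

set_option autoImplicit false
set_option backward.isDefEq.respectTransparency false
universe u
open TensorProduct KaehlerDifferential
open EGA41

namespace Groth.Agent.S4594

open TensorProduct KaehlerDifferential in
/-- The kernel of the conormal map when the quotient is formally smooth modulo `p`. -/
theorem ker_le {Λ A C : Type u} [CommRing Λ] [CommRing A] [CommRing C] [Algebra Λ A] [Algebra A C]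
    [Algebra Λ C] [IsScalarTower Λ A C] (hsurj : Function.Surjective (algebraMap A C)) (p : ℕ)
    [Algebra (Λ ⧸ Ideal.span {(p : Λ)}) C] [IsScalarTower Λ (Λ ⧸ Ideal.span {(p : Λ)}) C]
    [Algebra.FormallySmooth (Λ ⧸ Ideal.span {(p : Λ)}) C]
    (hp : (p : A) ∈ RingHom.ker (algebraMap A C)) (y : RingHom.ker (algebraMap A C))
    (hy : (1 : C) ⊗ₜ[A] D Λ A y.1 = 0) :
    y.1 ∈ (RingHom.ker (algebraMap A C)) ^ 2 ⊔ Ideal.span {(p : A)} := by
  let J := RingHom.ker (algebraMap A C)
  let I : Ideal A := J ^ 2 ⊔ Ideal.span {(p : A)}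
  have hIJ : I ≤ J := sup_le (Ideal.pow_le_self two_ne_zero) ((Ideal.span_singleton_le_iff_mem _).2 hp)
  letI alg : Algebra (Λ ⧸ Ideal.span {(p : Λ)}) (A ⧸ I) :=
    (Ideal.Quotient.lift (Ideal.span {(p : Λ)}) (algebraMap Λ (A ⧸ I)) fun a ha ↦ by
      obtain ⟨b, rfl⟩ := Ideal.mem_span_singleton'.1 ha
      rw [map_mul, map_natCast, ← map_natCast (Ideal.Quotient.mk I), Ideal.Quotient.eq_zero_iff_mem.2
        (Ideal.mem_sup_right (Ideal.mem_span_singleton_self (p : A))), mul_zero]).toAlgebra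
  let g₀ : A ⧸ I →ₐ[Λ] C :=
    Ideal.Quotient.liftₐ I (IsScalarTower.toAlgHom Λ A C) fun a ha ↦ RingHom.mem_ker.1 (hIJ ha)
  let g : A ⧸ I →ₐ[Λ ⧸ Ideal.span {(p : Λ)}] C :=
    { g₀.toRingHom with
      commutes' := fun r ↦ by
        obtain ⟨r, rfl⟩ := Ideal.Quotient.mk_surjective r
        exact (g₀.commutes r).trans (IsScalarTower.algebraMap_apply Λ (Λ ⧸ Ideal.span {(p : Λ)}) C r) }
  have hgmk : ∀ a, g (Ideal.Quotient.mk I a) = algebraMap A C a := fun a ↦ rfl
  have hg : Function.Surjective g := fun c ↦ by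
    obtain ⟨a, rfl⟩ := hsurj c
    exact ⟨Ideal.Quotient.mk I a, rfl⟩
  have hK2 : ∀ x z : A ⧸ I, g x = 0 → g z = 0 → x * z = 0 := by
    intro x z hx hz
    obtain ⟨x, rfl⟩ := Ideal.Quotient.mk_surjective x
    obtain ⟨z, rfl⟩ := Ideal.Quotient.mk_surjective z
    rw [hgmk] at hx hz
    rw [← map_mul, Ideal.Quotient.eq_zero_iff_mem]
    refine Ideal.mem_sup_left ?_
    rw [pow_two]
    exact Ideal.mul_mem_mul (RingHom.mem_ker.2 hx) (RingHom.mem_ker.2 hz)
  have hnil : IsNilpotent (RingHom.ker (g : A ⧸ I →+* C)) := ⟨2, by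
    rw [pow_two, Ideal.zero_eq_bot, eq_bot_iff, Ideal.mul_le]
    exact fun x hx z hz ↦ hK2 x z hx hz⟩
  let s : C →ₐ[Λ ⧸ Ideal.span {(p : Λ)}] A ⧸ I :=
    Algebra.FormallySmooth.liftOfSurjective (AlgHom.id _ C) g hg hnil
  have hs : ∀ c, g (s c) = c := fun c ↦
    Algebra.FormallySmooth.liftOfSurjective_apply (AlgHom.id _ C) g hg hnil c
  have hsΛ : ∀ r : Λ, s (algebraMap Λ C r) = algebraMap Λ (A ⧸ I) r := fun r ↦ by
    rw [IsScalarTower.algebraMap_apply Λ (Λ ⧸ Ideal.span {(p : Λ)}) C r, AlgHom.commutes]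
    rfl
  let K : Submodule A (A ⧸ I) :=
    { carrier := {x | g x = 0}
      add_mem' := fun {x z} hx hz ↦ by simp [Set.mem_ofPred_eq ▸ hx, Set.mem_ofPred_eq ▸ hz]
      zero_mem' := map_zero g
      smul_mem' := fun a x hx ↦ by
        change g (Ideal.Quotient.mk I a * x) = 0
        rw [map_mul, show g x = 0 from hx, mul_zero] }
  let δ₀ : A →ₗ[Λ] K :=
    { toFun := fun a ↦ ⟨Ideal.Quotient.mk I a - s (algebraMap A C a), by
        change g _ = 0
        rw [map_sub, hs, hgmk, sub_self]⟩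
      map_add' := fun a b ↦ Subtype.ext (by
        change Ideal.Quotient.mk I (a + b) - s (algebraMap A C (a + b)) =
          (Ideal.Quotient.mk I a - s (algebraMap A C a)) +
            (Ideal.Quotient.mk I b - s (algebraMap A C b))
        rw [map_add, map_add, map_add]; abel)
      map_smul' := fun r a ↦ Subtype.ext (by
        change Ideal.Quotient.mk I (r • a) - s (algebraMap A C (r • a)) =
          r • (Ideal.Quotient.mk I a - s (algebraMap A C a))
        rw [Algebra.smul_def, Algebra.smul_def, map_mul, map_mul, map_mul,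
          ← IsScalarTower.algebraMap_apply Λ A C, hsΛ, mul_sub]
        rfl) }
  let δ : Derivation Λ A K := Derivation.mk' δ₀ fun a b ↦ Subtype.ext (by
    change Ideal.Quotient.mk I (a * b) - s (algebraMap A C (a * b)) =
      Ideal.Quotient.mk I a * (Ideal.Quotient.mk I b - s (algebraMap A C b)) +
        Ideal.Quotient.mk I b * (Ideal.Quotient.mk I a - s (algebraMap A C a))
    rw [map_mul, map_mul, map_mul]
    have := hK2 _ _ (δ₀ a).2 (δ₀ b).2
    change (Ideal.Quotient.mk I a - s (algebraMap A C a)) *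
      (Ideal.Quotient.mk I b - s (algebraMap A C b)) = 0 at this
    linear_combination -this)
  let L : Ω[A⁄Λ] →ₗ[A] K := δ.liftKaehlerDifferential
  let Φ : C ⊗[A] Ω[A⁄Λ] →+ A ⧸ I := TensorProduct.liftAddHom
    (AddMonoidHom.mk' (fun c ↦ AddMonoidHom.mk' (fun ω ↦ s c * (L ω : A ⧸ I))
      fun ω ω' ↦ by rw [map_add, Submodule.coe_add, mul_add])
      fun c c' ↦ AddMonoidHom.ext fun ω ↦ by
        change s (c + c') * _ = s c * _ + s c' * _
        rw [map_add, add_mul])
    fun a c ω ↦ by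
      change s (a • c) * (L ω : A ⧸ I) = s c * (L (a • ω) : A ⧸ I)
      rw [map_smul L, Submodule.coe_smul, Algebra.smul_def a c, map_mul]
      change _ = s c * (Ideal.Quotient.mk I a * (L ω : A ⧸ I))
      have := hK2 _ _ (δ₀ a).2 (L ω).2
      change (Ideal.Quotient.mk I a - s (algebraMap A C a)) * (L ω : A ⧸ I) = 0 at this
      linear_combination -(s c) * this
  have h0 : Φ (1 ⊗ₜ[A] D Λ A y.1) = 0 := by rw [hy, map_zero]
  change s 1 * (L (D Λ A y.1) : A ⧸ I) = 0 at h0
  rw [map_one, one_mul, show L (D Λ A y.1) = δ y.1 from δ.liftKaehlerDifferential_comp_D y.1] at h0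
  change Ideal.Quotient.mk I y.1 - s (algebraMap A C y.1) = 0 at h0
  rw [RingHom.mem_ker.1 y.2, map_zero, sub_zero] at h0
  exact Ideal.Quotient.eq_zero_iff_mem.1 h0


/-- Let Λ be a ring, A → C a surjection of Λ-algebras with kernel J, C of characteristic p > 0, and π
the class of p·1 in J/J². If C is formally smooth over Λ/pΛ for the discrete topologies, then 0 →
(J/J²)/Cπ → Ω_{A/Λ} ⊗_A C → Ω_{C/Λ} → 0 is exact: the kernel of the conormal map J/J² → Ω_{A/Λ} ⊗_A
C is the span of π, and the base-change map to Ω_{C/Λ} is surjective with kernel the image of J/J². -/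
theorem result {Λ A C : Type u} [CommRing Λ] [CommRing A]
    [CommRing C] [Algebra Λ A] [Algebra A C] [Algebra Λ C] [IsScalarTower Λ A C]
    (hsurj : Function.Surjective (algebraMap A C)) (p : ℕ) [Fact p.Prime] [CharP C p]
    [Algebra (Λ ⧸ Ideal.span {(p : Λ)}) C] [IsScalarTower Λ (Λ ⧸ Ideal.span {(p : Λ)}) C]
    [Algebra.FormallySmooth (Λ ⧸ Ideal.span {(p : Λ)}) C]
    (hp : (p : A) ∈ RingHom.ker (algebraMap A C)) :
    LinearMap.ker (kerCotangentToTensor Λ A C) =
        Submodule.span A {(RingHom.ker (algebraMap A C)).toCotangent ⟨(p : A), hp⟩} ∧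
      LinearMap.range (kerCotangentToTensor Λ A C) = (LinearMap.ker (mapBaseChange Λ A C)).restrictScalars A ∧
      Function.Surjective (mapBaseChange Λ A C) := by
  refine ⟨le_antisymm (fun x hx ↦ ?_) ?_,
    KaehlerDifferential.range_kerCotangentToTensor Λ A C hsurj,
    KaehlerDifferential.mapBaseChange_surjective Λ A C hsurj⟩
  · obtain ⟨y, rfl⟩ := Ideal.toCotangent_surjective _ x
    rw [LinearMap.mem_ker, KaehlerDifferential.kerCotangentToTensor_toCotangent] at hx
    obtain ⟨u, hu, v, hv, huv⟩ := Submodule.mem_sup.1 (ker_le hsurj p hp y hx)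
    obtain ⟨a, rfl⟩ := Ideal.mem_span_singleton'.1 hv
    refine Submodule.mem_span_singleton.2 ⟨a, ?_⟩
    rw [← map_smul, Ideal.toCotangent_eq]
    have : a * (p : A) - y.1 = -u := by rw [← huv]; ring
    change a * (p : A) - y.1 ∈ _
    rw [this]
    exact neg_mem hu
  · rw [Submodule.span_singleton_le_iff_mem, LinearMap.mem_ker,
      KaehlerDifferential.kerCotangentToTensor_toCotangent]
    simp

end Groth.Agent.S4594
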