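import Groth.Statements.S4595
import Groth.Agent.Lib.PBasis.PEquations
-- import your own Groth.Agent.* helpers here

set_option autoImplicit false
universe u
open TensorProduct IsLocalRing
open EGA41

namespace Groth.Agent.S4595

/-- Let A be an Artinian local ring of characteristic p > 0 with maximal ideal m of square zero and
residue field K, f_1, …, f_r ∈ A, and B = A[T_1, …, T_r]/(T_1^p − f_1, …, T_r^p − f_r). Then B is
local, and dim_K m = dim_{K'}(m'/m'²) (m', K' the maximal ideal and residue field of B) if and only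
if the d f_i ⊗ 1 are linearly independent in Ω_A ⊗_A K. -/
theorem result {A : Type u} [CommRing A]
    [IsArtinianRing A] [IsLocalRing A] (hm : maximalIdeal A ^ 2 = ⊥) (p : ℕ) [Fact p.Prime] [CharP A p]
    {r : ℕ} (f : Fin r → A) :
    let B := MvPolynomial (Fin r) A ⧸ Ideal.span (Set.range fun i => MvPolynomial.X i ^ p - MvPolynomial.C (f i))
    ∃ _ : IsLocalRing B,
      (Module.finrank (ResidueField A) (CotangentSpace A) = Module.finrank (ResidueField B) (CotangentSpace B) ↔
        LinearIndependent (ResidueField A) (fun i => (1 : ResidueField A) ⊗ₜ[A] KaehlerDifferential.D ℤ A (f i))) := by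
  intro B
  haveI : CharP (ResidueField A) p := by
    refine (CharP.charP_iff_prime_eq_zero Fact.out).2 ?_
    rw [← map_natCast (residue A), CharP.cast_eq_zero, map_zero]
  let c : Fin r → Fin p → A := fun _ _ => 0
  have hId : Groth.Agent.Lib.PBasis.LocalQuot.eqIdeal
      (fun i => Groth.Agent.Lib.PBasis.PEquations.poly p (c i) (f i)) =
      Ideal.span (Set.range fun i => MvPolynomial.X i ^ p - MvPolynomial.C (f i)) := by
    unfold Groth.Agent.Lib.PBasis.LocalQuot.eqIdeal
    simp [Groth.Agent.Lib.PBasis.PEquations.aeval_poly, c]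
  have hfacts := Groth.Agent.Lib.PBasis.PEquations.facts c f
  obtain ⟨hloc, hlh, hfin, -, -, -⟩ := hfacts
  rw [hId] at hloc hlh hfin
  haveI : IsLocalRing B := hloc
  haveI : IsLocalHom (algebraMap A B) := hlh
  haveI : Module.Finite A B := hfin
  refine ⟨hloc, ?_⟩
  exact Groth.Agent.Lib.PBasis.JacobianIndex.finrank_cotangent_eq_iff (p := p)
    (by rw [CharP.cast_eq_zero]; exact Ideal.zero_mem _)
    (π := Ideal.Quotient.mkₐ A _) (Ideal.Quotient.mkₐ_surjective A _)
    (F := fun i => Polynomial.aeval (MvPolynomial.X i)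
      (Groth.Agent.Lib.PBasis.PEquations.poly p (c i) (f i)))
    ((Ideal.Quotient.mkₐ_ker A _).trans hId.symm)
    (Groth.Agent.Lib.PBasis.PEquations.diffEq c f)

end Groth.Agent.S4595
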