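import Groth.Statements.S4598
import Groth.Agent.Lib.ProCons45.Descend

set_option autoImplicit false
universe u
open AlgebraicGeometry CategoryTheory CategoryTheory.Limits
open EGA41

namespace Groth.Agent.S4598

/-- If g : Y' → Y is quasi-compact and surjective and the base change X ×_Y Y' → Y' of f : X → Y is
quasi-separated, then f is quasi-separated. -/
theorem result {X Y Y' : Scheme.{u}} (f : X ⟶ Y)
    (g : Y' ⟶ Y) [QuasiCompact g] [Surjective g] [QuasiSeparated (pullback.snd f g)] :
    QuasiSeparated f := by
  rw [quasiSeparated_eq_diagonal_is_quasiCompact]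
  set_option backward.isDefEq.respectTransparency.types false in
  exact MorphismProperty.of_pullback_snd_of_descendsAlong
    (P := MorphismProperty.diagonal @QuasiCompact) (Q := (@Surjective ⊓ @QuasiCompact : MorphismProperty Scheme.{u}))
    ⟨inferInstance, inferInstance⟩
    (quasiSeparated_eq_diagonal_is_quasiCompact ▸ (inferInstance : QuasiSeparated (pullback.snd f g)))

end Groth.Agent.S4598
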