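import Groth.Statements.S4601
import Mathlib.RingTheory.Flat.Stability
import Mathlib.RingTheory.Flat.Localization
import Mathlib.LinearAlgebra.TensorProduct.RightExactness
import Mathlib.LinearAlgebra.Basis.VectorSpace
import Mathlib.RingTheory.Localization.FractionRing

set_option autoImplicit false
universe u
open TensorProduct
open CAlg

namespace Groth.Agent.S4601

/-- Let A be a domain with fraction field K, B a Noetherian A-algebra which is flat over A, K' an
extension field of K, B₁ = B_red and R its total ring of fractions. For every sub-A-algebra A' of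
K', the map (A' ⊗_A B)_red → (K' ⊗_A R)_red is injective, i.e. an element of A' ⊗_A B with nilpotent
image in K' ⊗_A R is nilpotent. -/
theorem result {A B K' R : Type u} [CommRing A]
    [IsDomain A] [CommRing B] [Algebra A B] [IsNoetherianRing B] [Module.Flat A B]
    [Field K'] [Algebra A K'] [Algebra (FractionRing A) K'] [IsScalarTower A (FractionRing A) K']
    [CommRing R] [Algebra (B ⧸ nilradical B) R] [IsFractionRing (B ⧸ nilradical B) R]
    [Algebra B R] [IsScalarTower B (B ⧸ nilradical B) R] [Algebra A R] [IsScalarTower A B R]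
    (A' : Subalgebra A K') (x : ↥A' ⊗[A] B)
    (hx : IsNilpotent (Algebra.TensorProduct.map A'.val (IsScalarTower.toAlgHom A B R) x)) :
    IsNilpotent x := by
  classical
  letI : Algebra A (B ⧸ nilradical B) := inferInstance
  haveI : IsScalarTower A (B ⧸ nilradical B) R := IsScalarTower.of_algebraMap_eq fun a => by
    rw [IsScalarTower.algebraMap_apply A B R, IsScalarTower.algebraMap_apply B (B ⧸ nilradical B) R,
      ← IsScalarTower.algebraMap_apply A B (B ⧸ nilradical B)]
  haveI : Module.Flat A K' := Module.Flat.trans A (FractionRing A) K'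
  let q : B →ₐ[A] B ⧸ nilradical B := IsScalarTower.toAlgHom A B (B ⧸ nilradical B)
  let j : B ⧸ nilradical B →ₐ[A] R := IsScalarTower.toAlgHom A (B ⧸ nilradical B) R
  let i : ↥A' ⊗[A] B →ₐ[A] K' ⊗[A] B := Algebra.TensorProduct.map A'.val (AlgHom.id A B)
  let f : K' ⊗[A] B →ₐ[A] K' ⊗[A] (B ⧸ nilradical B) := Algebra.TensorProduct.map (AlgHom.id A K') q
  let g : K' ⊗[A] (B ⧸ nilradical B) →ₐ[A] K' ⊗[A] R := Algebra.TensorProduct.map (AlgHom.id A K') j
  have hi : Function.Injective i :=
    Module.Flat.rTensor_preserves_injective_linearMap A'.val.toLinearMap Subtype.val_injective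
  have hg : Function.Injective g :=
    Module.Flat.lTensor_preserves_injective_linearMap (M := K') j.toLinearMap
      (IsFractionRing.injective (B ⧸ nilradical B) R)
  have hcomp : Algebra.TensorProduct.map A'.val (IsScalarTower.toAlgHom A B R) = g.comp (f.comp i) := by
    refine Algebra.TensorProduct.ext' fun a b => ?_
    simp only [i, f, g, q, j, AlgHom.comp_apply, Algebra.TensorProduct.map_tmul, IsScalarTower.toAlgHom_apply,
      AlgHom.id_apply, ← IsScalarTower.algebraMap_apply B (B ⧸ nilradical B) R]
  obtain ⟨n, hn⟩ := hx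
  rw [hcomp, ← map_pow, AlgHom.comp_apply, map_eq_zero_iff g hg, AlgHom.comp_apply] at hn
  have hker : ∀ y ∈ RingHom.ker f, IsNilpotent y := by
    intro y hy
    have hsurj : Function.Surjective q := Ideal.Quotient.mk_surjective
    rw [show RingHom.ker f = (RingHom.ker q).map Algebra.TensorProduct.includeRight from
      Algebra.TensorProduct.lTensor_ker q hsurj] at hy
    have hle : (RingHom.ker q).map (Algebra.TensorProduct.includeRight : B →ₐ[A] K' ⊗[A] B) ≤ nilradical _ := by
      rw [Ideal.map_le_iff_le_comap]
      intro b hb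
      have hb' : b ∈ nilradical B := Ideal.Quotient.eq_zero_iff_mem.mp hb
      exact IsNilpotent.map hb' _
    exact hle hy
  obtain ⟨m, hm⟩ := hker _ hn
  refine ⟨n * m, hi ?_⟩
  rw [map_pow, map_zero, pow_mul, ← map_pow, hm]

end Groth.Agent.S4601
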