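import Groth.Statements.S4605
import Groth.Agent.Lib.PBasis.PEquations
import Groth.Agent.Lib.PBasis.Basic
-- import your own Groth.Agent.* helpers here

set_option autoImplicit false
universe u
open IsLocalRing
open EGA41

namespace Groth.Agent.S4605

/-- Let A be a local ring with maximal ideal m of square zero and residue field K of characteristic p >
0, F_i(T_i) = T_i^p + p Σ_{k=1}^{p-1} c_{ik} T_i^{p-k} − f_i (i in a finite index set) with c_{ik},
f_i ∈ A, and suppose the residues of the f_i in K are p-independent over K^p. Then A' = A[T_i]/(F_i)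
is local with maximal ideal m A'. (The identification of the residue field with K(a_i^{1/p}) is not
restated.) -/
theorem result {A : Type u} [CommRing A]
    [IsLocalRing A] (hm : maximalIdeal A ^ 2 = ⊥) (p : ℕ) [Fact p.Prime] [CharP (ResidueField A) p]
    {ι : Type u} [Finite ι] (c : ι → Fin p → A) (f : ι → A)
    (hind : LinearIndependent (↥(frobenius (ResidueField A) p).fieldRange)
      (fun e : {e : ι →₀ ℕ // ∀ i, e i < p} => EGA41.pMonomial (fun i => residue A (f i)) e.1)) :
    let F : ι → MvPolynomial ι A := fun i =>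
      MvPolynomial.X i ^ p + (p : MvPolynomial ι A) * (Finset.univ.sum fun j : Fin p =>
        if (j : ℕ) = 0 then 0 else MvPolynomial.C (c i j) * MvPolynomial.X i ^ (p - (j : ℕ))) - MvPolynomial.C (f i)
    ∃ _ : IsLocalRing (MvPolynomial ι A ⧸ Ideal.span (Set.range F)),
      maximalIdeal (MvPolynomial ι A ⧸ Ideal.span (Set.range F)) =
        (maximalIdeal A).map (algebraMap A (MvPolynomial ι A ⧸ Ideal.span (Set.range F))) := by
  intro F
  classical
  haveI := Fintype.ofFinite ι
  have hId : Groth.Agent.Lib.PBasis.LocalQuot.eqIdeal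
      (fun i => Groth.Agent.Lib.PBasis.PEquations.poly p (c i) (f i)) = Ideal.span (Set.range F) := by
    unfold Groth.Agent.Lib.PBasis.LocalQuot.eqIdeal
    congr 2
    funext i
    rw [Groth.Agent.Lib.PBasis.PEquations.aeval_poly]
  obtain ⟨hloc, hlh, hfin, -, hne, hX⟩ := Groth.Agent.Lib.PBasis.PEquations.facts c f
  rw [hId] at hloc hlh hfin hne hX
  generalize hJ : Ideal.span (Set.range F) = J at hloc hlh hfin hne hX ⊢
  refine ⟨hloc, ?_⟩
  haveI := hloc
  haveI := hlh
  set I := (maximalIdeal A).map (algebraMap A (MvPolynomial ι A ⧸ J)) with hI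
  refine le_antisymm ?_ (le_maximalIdeal hne)
  let Q := (MvPolynomial ι A ⧸ J) ⧸ I
  let x : ι → Q := fun i => Ideal.Quotient.mk I (Ideal.Quotient.mk J (MvPolynomial.X i))
  have hx : ∀ i, algebraMap A Q (f i) = x i ^ p := fun i => by
    rw [← map_pow, IsScalarTower.algebraMap_apply A (MvPolynomial ι A ⧸ J) Q]
    exact (Ideal.Quotient.eq.2 (hX i)).symm
  have hspan := Groth.Agent.Lib.PBasis.Basic.span_monos_eq (Fact.out : p.Prime).one_lt x f hx
  have hadj : Algebra.adjoin A (Set.range x) = ⊤ := by
    refine top_le_iff.1 fun z _ => ?_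
    obtain ⟨b, rfl⟩ := Ideal.Quotient.mk_surjective z
    obtain ⟨q, rfl⟩ := Ideal.Quotient.mk_surjective b
    induction q using MvPolynomial.induction_on with
    | C a => exact (Algebra.adjoin A (Set.range x)).algebraMap_mem a
    | add a b ha hb => rw [map_add, map_add]; exact add_mem (ha trivial) (hb trivial)
    | mul_X a i ha =>
      rw [map_mul, map_mul]
      exact mul_mem (ha trivial) (Algebra.subset_adjoin ⟨i, rfl⟩)
  intro b hb
  have hmem : Ideal.Quotient.mk I b ∈
      Submodule.span A (Set.range (Groth.Agent.Lib.PBasis.Basic.monos p x)) := by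
    rw [hspan, hadj]
    trivial
  obtain ⟨a, ha⟩ := Finsupp.mem_span_range_iff_exists_finsupp.1 hmem
  let L := ResidueField (MvPolynomial ι A ⧸ J)
  haveI : CharP L p := charP_of_injective_algebraMap
    (algebraMap (ResidueField A) (ResidueField (MvPolynomial ι A ⧸ J))).injective p
  haveI : ExpChar (ResidueField (MvPolynomial ι A ⧸ J)) p := ExpChar.prime Fact.out
  let φ : Q →+* ResidueField (MvPolynomial ι A ⧸ J) :=
    Ideal.Quotient.factor (le_maximalIdeal hne)
  have hφa : ∀ a : A, φ (algebraMap A Q a) =
      algebraMap (ResidueField A) (ResidueField (MvPolynomial ι A ⧸ J)) (residue A a) := fun a => by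
    rw [IsScalarTower.algebraMap_apply A (MvPolynomial ι A ⧸ J) Q,
      show algebraMap (ResidueField A) (ResidueField (MvPolynomial ι A ⧸ J)) (residue A a) =
        algebraMap (MvPolynomial ι A ⧸ J) (ResidueField (MvPolynomial ι A ⧸ J)) (algebraMap A _ a) from
          (IsScalarTower.algebraMap_apply A (ResidueField A) (ResidueField (MvPolynomial ι A ⧸ J)) a).symm.trans (IsScalarTower.algebraMap_apply A _ _ a)]
    rfl
  have hφb : φ (Ideal.Quotient.mk I b) = 0 := (residue_eq_zero_iff b).2 hb
  have hmono : ∀ e : Groth.Agent.Lib.PBasis.Basic.Exp p ι,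
      φ (EGA41.pMonomial x e.1) ^ p = algebraMap (ResidueField A)
        (ResidueField (MvPolynomial ι A ⧸ J)) (EGA41.pMonomial (fun i => residue A (f i)) e.1) := by
    intro e
    rw [Groth.Agent.Lib.PBasis.Basic.map_pMonomial, EGA41.pMonomial, map_finsuppProd,
      Finsupp.prod, Finsupp.prod, ← Finset.prod_pow]
    refine Finset.prod_congr rfl fun i _ => ?_
    rw [map_pow, ← hφa, hx, map_pow, ← pow_mul, ← pow_mul, mul_comm]
  rw [← ha, Finsupp.sum, map_sum] at hφb
  have h1 := congr_arg (frobenius (ResidueField (MvPolynomial ι A ⧸ J)) p) hφb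
  rw [map_sum, map_zero] at h1
  have hterm : ∀ e : Groth.Agent.Lib.PBasis.Basic.Exp p ι,
      frobenius (ResidueField (MvPolynomial ι A ⧸ J)) p
        (φ (a e • Groth.Agent.Lib.PBasis.Basic.monos p x e)) =
      algebraMap (ResidueField A) (ResidueField (MvPolynomial ι A ⧸ J))
        (residue A (a e) ^ p * EGA41.pMonomial (fun i => residue A (f i)) e.1) := fun e => by
    rw [frobenius_def,
      show a e • Groth.Agent.Lib.PBasis.Basic.monos p x e =
        algebraMap A Q (a e) * EGA41.pMonomial x e.1 from Algebra.smul_def (R := A) (A := Q) _ _,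
      map_mul, mul_pow, hφa, hmono, map_mul, map_pow]
  rw [Finset.sum_congr rfl (fun e _ => hterm e), ← map_sum] at h1
  have h2 := (map_eq_zero_iff _ (RingHom.injective _)).1 h1
  have h3 : ∀ e ∈ a.support, residue A (a e) = 0 := by
    intro e he
    have h := linearIndependent_iff'.1 hind a.support
      (fun e => ⟨residue A (a e) ^ p, residue A (a e), frobenius_def _ _⟩) (by
        refine Eq.trans (Finset.sum_congr rfl fun e _ => ?_) h2
        rfl) e he
    exact eq_zero_of_pow_eq_zero (congr_arg Subtype.val h)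
  rw [← Ideal.Quotient.eq_zero_iff_mem, ← ha]
  refine Finset.sum_eq_zero fun e he => ?_
  rw [show (fun i (b : A) => b • Groth.Agent.Lib.PBasis.Basic.monos p x i) e (a e) =
      algebraMap A Q (a e) * EGA41.pMonomial x e.1 from Algebra.smul_def (R := A) (A := Q) _ _,
    IsScalarTower.algebraMap_apply A (MvPolynomial ι A ⧸ J) Q,
    Ideal.Quotient.algebraMap_eq, Ideal.Quotient.eq_zero_iff_mem.2
      (Ideal.mem_map_of_mem _ ((residue_eq_zero_iff _).1 (h3 e he)))]
  exact zero_mul (M₀ := Q) _

end Groth.Agent.S4605
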