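import Groth.Statements.S4606
import Groth.Agent.H68.RetrResidue
import Groth.Agent.H68.AdicSmoothLifts
import Mathlib.RingTheory.SurjectiveOnStalks
import Mathlib.RingTheory.Smooth.Basic

set_option autoImplicit false
universe u
open TensorProduct KaehlerDifferential IsLocalRing
open EGA41

namespace Groth.Agent.S4606

/-- Let B be a Noetherian A-algebra formally smooth for the discrete topologies, B → C a surjection with
kernel J, p a prime of C and q its contraction to A. Then C_p is formally smooth over A_q (A_q
discrete, C_p with the adic topology of its maximal ideal) if and only if κ(p) ⊗ J/J² → κ(p) ⊗ (C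
⊗_B Ω_{B/A}) is injective. (The equivalent variant with the q-adic topology on A_q is not stated.) -/
theorem result {A B C : Type u} [CommRing A]
    [CommRing B] [CommRing C] [Algebra A B] [Algebra B C] [Algebra A C] [IsScalarTower A B C] [IsNoetherianRing B]
    [Algebra.FormallySmooth A B] (hsurj : Function.Surjective (algebraMap B C)) (p : Ideal C) [p.IsPrime]
    [Algebra (Localization.AtPrime (p.comap (algebraMap A C))) (Localization.AtPrime p)]
    [IsScalarTower A (Localization.AtPrime (p.comap (algebraMap A C))) (Localization.AtPrime p)] :
    CAlgX.IsAdicFormallySmooth (Localization.AtPrime (p.comap (algebraMap A C))) (Localization.AtPrime p)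
        (maximalIdeal (Localization.AtPrime p)) ↔
      Function.Injective ((kerCotangentToTensor A B C).lTensor p.ResidueField) := by
  set q := p.comap (algebraMap A C)
  haveI : IsNoetherianRing C := isNoetherianRing_of_surjective B C _ hsurj
  haveI : Module.Finite B (RingHom.ker (algebraMap B C)).Cotangent :=
    haveI : Module.Finite B (RingHom.ker (algebraMap B C)) := .of_fg (IsNoetherian.noetherian _)
    .of_surjective _ (RingHom.ker (algebraMap B C)).toCotangent_surjective
  constructor
  · intro h
    haveI : Algebra.FormallySmooth A (Localization.AtPrime p) := by
      let P := p.comap (algebraMap B C)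
      let f : Localization.AtPrime P →+* Localization.AtPrime p :=
        Localization.localRingHom P p (algebraMap B C) rfl
      letI : Algebra (Localization.AtPrime P) (Localization.AtPrime p) := f.toAlgebra
      haveI : IsScalarTower A (Localization.AtPrime P) (Localization.AtPrime p) :=
        IsScalarTower.of_algebraMap_eq fun a => by
          show _ = f (algebraMap A (Localization.AtPrime P) a)
          rw [IsScalarTower.algebraMap_apply A B (Localization.AtPrime P),
            Localization.localRingHom_to_map, ← IsScalarTower.algebraMap_apply A B C,
            ← IsScalarTower.algebraMap_apply A C (Localization.AtPrime p)]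
      haveI : Algebra.FormallySmooth B (Localization.AtPrime P) :=
        Algebra.FormallySmooth.of_isLocalization P.primeCompl
      haveI : Algebra.FormallySmooth A (Localization.AtPrime P) := Algebra.FormallySmooth.comp A B _
      refine H68.FSLocal.formallySmooth_of_hasLifts_local (P := Localization.AtPrime P) ?_
        (H68.AdicSmoothLifts.hasLifts_of_isAdicFormallySmooth (Localization.AtPrime q) q.primeCompl h)
      exact (RingHom.surjectiveOnStalks_of_surjective hsurj) p inferInstance
    obtain ⟨s, hs, hsm⟩ := H68.FSLocal.exists_retr (R := A) hsurj p.primeCompl (Localization.AtPrime p)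
    exact H68.RetrResidue.injective_of_retr hsurj p hs hsm
  · intro hinj D _ _ J hJ ψ _
    obtain ⟨s, hs, hsp⟩ := H68.RetrResidue.retr_of_injective hsurj p hinj
    haveI : Algebra.FormallySmooth A (Localization.AtPrime p) :=
      H68.FSLocal.formallySmooth_of_retr hsurj p.primeCompl _ hs hsp
    haveI : Algebra.FormallySmooth (Localization.AtPrime q) (Localization.AtPrime p) :=
      Algebra.FormallySmooth.localization_base q.primeCompl
    exact Algebra.FormallySmooth.exists_lift J ⟨2, hJ⟩ ψ

end Groth.Agent.S4606
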