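import Groth.Statements.S4607
import Mathlib.AlgebraicGeometry.PullbackCarrier
import Mathlib.AlgebraicGeometry.Pullbacks

set_option autoImplicit false
universe u
open TensorProduct
open EGA41

namespace Groth.Agent.S4607

/-- First assertion, case of two factors: for A-algebras A' and A'' the image of Spec(A' ⊗_A A'') in
Spec A is the intersection of the images of Spec A' and Spec A''. -/
theorem result {A A' A'' : Type u} [CommRing A] [CommRing A'] [CommRing A'']
    [Algebra A A'] [Algebra A A''] :
    Set.range (PrimeSpectrum.comap (algebraMap A (A' ⊗[A] A''))) =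
      Set.range (PrimeSpectrum.comap (algebraMap A A')) ∩ Set.range (PrimeSpectrum.comap (algebraMap A A'')) := by
  open AlgebraicGeometry CategoryTheory in
  let p' := Spec.map (CommRingCat.ofHom (algebraMap A A'))
  open AlgebraicGeometry CategoryTheory in
  let p'' := Spec.map (CommRingCat.ofHom (algebraMap A A''))
  open AlgebraicGeometry CategoryTheory in
  calc
    _ = Set.range ((pullbackSpecIso A A' A'').inv ≫ Limits.pullback.fst p' p'' ≫ p') := by
      rw [← Category.assoc, pullbackSpecIso_inv_fst, ← Spec.map_comp]
      rfl
    _ = Set.range (Limits.pullback.fst p' p'' ≫ p') := by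
      rw [Scheme.Hom.comp_base, TopCat.coe_comp, Set.range_comp,
        ((pullbackSpecIso A A' A'').inv.surjective).range_eq, Set.image_univ]
    _ = _ := Scheme.Pullback.range_fst_comp p' p''

end Groth.Agent.S4607
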