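import Groth.Statements.S4608
import Groth.Agent.Lib.ProCons45.Coprod

set_option autoImplicit false
universe u
open AlgebraicGeometry CategoryTheory CategoryTheory.Limits
open EGA41

namespace Groth.Agent.S4608

/-- A morphism from a disjoint union X' ⨿ X'' → Y is quasi-compact if and only if its two components
are. -/
theorem result {X' X'' Y : Scheme.{u}} (f' : X' ⟶ Y) (f'' : X'' ⟶ Y) :
    QuasiCompact (coprod.desc f' f'') ↔ QuasiCompact f' ∧ QuasiCompact f'' := by
  exact Groth.Agent.Lib.ProCons45.Coprod.quasiCompact_desc_iff f' f''

end Groth.Agent.S4608
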