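import Groth.Statements.S4610
import Mathlib.RingTheory.AdjoinRoot
import Mathlib.LinearAlgebra.Dimension.Free

set_option autoImplicit false
universe u
open EGA41

namespace Groth.Agent.S4610

variable {A : Type u} [CommRing A]

/-- The quotient by separated monic polynomials. -/
abbrev Q {r : ℕ} (F : Fin r → Polynomial A) : Type u :=
  MvPolynomial (Fin r) A ⧸ Ideal.span (Set.range fun i =>
    Polynomial.aeval (MvPolynomial.X i : MvPolynomial (Fin r) A) (F i))

theorem aeval_root {r : ℕ} (F : Fin r → Polynomial A) (i : Fin r) :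
    Polynomial.aeval (Ideal.Quotient.mk _ (MvPolynomial.X i) : Q F) (F i) = 0 := by
  have h := Polynomial.aeval_algHom_apply (Ideal.Quotient.mkₐ A
    (Ideal.span (Set.range fun i =>
      Polynomial.aeval (MvPolynomial.X i : MvPolynomial (Fin r) A) (F i))))
    (MvPolynomial.X i) (F i)
  refine h.trans (Ideal.Quotient.eq_zero_iff_mem.2 (Ideal.subset_span ⟨i, rfl⟩))

/-- The universal property. -/
noncomputable def lift {r : ℕ} (F : Fin r → Polynomial A) {S : Type u} [CommRing S] [Algebra A S]
    (x : Fin r → S) (hx : ∀ i, Polynomial.aeval (x i) (F i) = 0) : Q F →ₐ[A] S :=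
  Ideal.Quotient.liftₐ _ (MvPolynomial.aeval x) fun p hp => by
    have : Ideal.span (Set.range fun i =>
        Polynomial.aeval (MvPolynomial.X i : MvPolynomial (Fin r) A) (F i)) ≤
        RingHom.ker (MvPolynomial.aeval x).toRingHom := by
      rw [Ideal.span_le]
      rintro _ ⟨i, rfl⟩
      have h := Polynomial.aeval_algHom_apply (MvPolynomial.aeval x (R := A)) (MvPolynomial.X i) (F i)
      rw [MvPolynomial.aeval_X, hx i] at h
      exact h.symm
    exact this hp

theorem lift_mk_X {r : ℕ} (F : Fin r → Polynomial A) {S : Type u} [CommRing S] [Algebra A S]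
    (x : Fin r → S) (hx : ∀ i, Polynomial.aeval (x i) (F i) = 0) (i : Fin r) :
    lift F x hx (Ideal.Quotient.mk _ (MvPolynomial.X i)) = x i :=
  MvPolynomial.aeval_X x i

/-- One variable at a time. -/
noncomputable def equiv {r : ℕ} (F : Fin (r + 1) → Polynomial A) :
    Q F ≃ₐ[A] AdjoinRoot ((F 0).map (algebraMap A (Q (F ∘ Fin.succ)))) :=
  let g := (F 0).map (algebraMap A (Q (F ∘ Fin.succ)))
  let fwd : Q F →ₐ[A] AdjoinRoot g := lift F
    (Fin.cons (AdjoinRoot.root g)
      fun j => AdjoinRoot.of g (Ideal.Quotient.mk _ (MvPolynomial.X j))) fun i => by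
    refine Fin.cases ?_ (fun j => ?_) i
    · rw [Fin.cons_zero]
      have h := AdjoinRoot.eval₂_root g
      rw [Polynomial.eval₂_map] at h
      exact h
    · rw [Fin.cons_succ]
      have h := congr_arg (AdjoinRoot.of g) (aeval_root (F ∘ Fin.succ) j)
      rw [Polynomial.aeval_def, Polynomial.hom_eval₂, map_zero] at h
      exact h
  let inner : Q (F ∘ Fin.succ) →ₐ[A] Q F :=
    lift (F ∘ Fin.succ) (fun j => Ideal.Quotient.mk _ (MvPolynomial.X j.succ))
      fun j => aeval_root F j.succ
  have hroot : Polynomial.eval₂ inner.toRingHom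
      (Ideal.Quotient.mk _ (MvPolynomial.X 0) : Q F) g = 0 := by
    rw [Polynomial.eval₂_map]
    refine Eq.trans ?_ (aeval_root F 0)
    rw [Polynomial.aeval_def]
    exact congr_arg (fun φ => Polynomial.eval₂ φ _ _) inner.comp_algebraMap
  let bwd : AdjoinRoot g →ₐ[A] Q F :=
    { AdjoinRoot.lift inner.toRingHom (Ideal.Quotient.mk _ (MvPolynomial.X 0)) hroot with
      commutes' := fun a => by
        refine (AdjoinRoot.lift_of hroot).trans ?_
        exact inner.commutes a }
  AlgEquiv.ofAlgHom fwd bwd
    (by
      apply AlgHom.coe_ringHom_injective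
      refine AdjoinRoot.ringHom_ext ?_ ?_
      · have h : (fwd.comp bwd).comp (IsScalarTower.toAlgHom A (Q (F ∘ Fin.succ)) (AdjoinRoot g)) =
            IsScalarTower.toAlgHom A (Q (F ∘ Fin.succ)) (AdjoinRoot g) := by
          refine Ideal.Quotient.algHom_ext _ (MvPolynomial.algHom_ext fun j => ?_)
          refine (congr_arg fwd (AdjoinRoot.lift_of hroot)).trans ?_
          change fwd (inner (Ideal.Quotient.mk _ (MvPolynomial.X j))) = _
          rw [lift_mk_X, lift_mk_X, Fin.cons_succ]
          rfl
        exact congr_arg AlgHom.toRingHom h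
      · refine (congr_arg fwd (AdjoinRoot.lift_root hroot)).trans ?_
        rw [lift_mk_X, Fin.cons_zero]
        rfl)
    (Ideal.Quotient.algHom_ext _ (MvPolynomial.algHom_ext fun i => by
      change bwd (fwd (Ideal.Quotient.mk _ (MvPolynomial.X i))) = _
      rw [lift_mk_X]
      refine Fin.cases ?_ (fun j => ?_) i
      · rw [Fin.cons_zero]
        exact AdjoinRoot.lift_root hroot
      · rw [Fin.cons_succ]
        refine (AdjoinRoot.lift_of hroot).trans ?_
        exact lift_mk_X _ _ _ j))

theorem free_finrank [Nontrivial A] : ∀ {r : ℕ} (F : Fin r → Polynomial A),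
    (∀ i, (F i).Monic) →
    Module.Free A (Q F) ∧ Module.finrank A (Q F) = Finset.univ.prod fun i => (F i).natDegree
  | 0, F, _ => by
    have h : (Ideal.span (Set.range fun i =>
        Polynomial.aeval (MvPolynomial.X i : MvPolynomial (Fin 0) A) (F i))) = ⊥ := by
      rw [Set.range_eq_empty, Ideal.span_empty]
    let e : A ≃ₗ[A] Q F := ((MvPolynomial.isEmptyAlgEquiv A (Fin 0)).symm.trans
      ((AlgEquiv.quotientBot A _).symm.trans (Ideal.quotientEquivAlgOfEq A h.symm))).toLinearEquiv
    exact ⟨Module.Free.of_equiv e, by simp [← e.finrank_eq]⟩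
  | r + 1, F, hF => by
    obtain ⟨h1, h2⟩ := free_finrank (F ∘ Fin.succ) fun i => hF i.succ
    let g := (F 0).map (algebraMap A (Q (F ∘ Fin.succ)))
    have hg : g.Monic := (hF 0).map _
    haveI : Module.Free (Q (F ∘ Fin.succ)) (AdjoinRoot g) :=
      Module.Free.of_basis (AdjoinRoot.powerBasis' hg).basis
    haveI := h1
    haveI : Module.Free A (AdjoinRoot g) := Module.Free.trans (S := Q (F ∘ Fin.succ))
    refine ⟨Module.Free.of_equiv (equiv F).symm.toLinearEquiv, ?_⟩
    rw [(equiv F).toLinearEquiv.finrank_eq, Fin.prod_univ_succ]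
    rcases subsingleton_or_nontrivial (Q (F ∘ Fin.succ)) with hs | hs
    · haveI : Subsingleton (AdjoinRoot g) := Module.subsingleton (Q (F ∘ Fin.succ)) _
      rw [Module.finrank_zero_of_subsingleton (M := AdjoinRoot g)]
      rw [Module.finrank_zero_of_subsingleton] at h2
      simp only [Function.comp_apply] at h2
      rw [← h2, mul_zero]
    · rw [← Module.finrank_mul_finrank A (Q (F ∘ Fin.succ)) (AdjoinRoot g), h2,
        (AdjoinRoot.powerBasis' hg).finrank, AdjoinRoot.powerBasis'_dim, (hF 0).natDegree_map,
        mul_comm]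
      rfl


/-- Let A be a nonzero ring and F_1, …, F_r monic one-variable polynomials of degrees d_1, …, d_r; then
A[T_1, …, T_r]/(F_1(T_1), …, F_r(T_r)) is a free A-module of rank ∏ d_i. (The published statement
assumes A local with maximal ideal of square zero and A' local, which this assertion does not use;
its bound [K' : K] ≤ d and part (ii) are not stated.) -/
theorem result {A : Type u} [CommRing A] [Nontrivial A]
    {r : ℕ} (F : Fin r → Polynomial A) (hF : ∀ i, (F i).Monic) :
    Module.Free A (MvPolynomial (Fin r) A ⧸ Ideal.span (Set.range fun i => Polynomial.aeval (MvPolynomial.X i : MvPolynomial (Fin r) A) (F i))) ∧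
      Module.finrank A (MvPolynomial (Fin r) A ⧸ Ideal.span (Set.range fun i => Polynomial.aeval (MvPolynomial.X i : MvPolynomial (Fin r) A) (F i))) =
        Finset.univ.prod fun i => (F i).natDegree := by
  exact free_finrank F hF

end Groth.Agent.S4610
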