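import Groth.Statements.S4611
import Mathlib.RingTheory.EssentialFiniteness
import Mathlib.RingTheory.LocalRing.MaximalIdeal.Basic

set_option autoImplicit false
universe u
open EGA41

namespace Groth.Agent.S4611

/-- A local algebra essentially of finite type over a ring A is A-isomorphic to a quotient of a
localization A[T_1, …, T_n]_q of a polynomial algebra at a prime ideal q; stated as the existence of
a surjective A-algebra map from such a localization. -/
theorem result {A B : Type u} [CommRing A]
    [CommRing B] [IsLocalRing B] [Algebra A B] [Algebra.EssFiniteType A B] :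
    ∃ (n : ℕ) (q : Ideal (MvPolynomial (Fin n) A)) (_ : q.IsPrime)
      (φ : Localization.AtPrime q →ₐ[A] B), Function.Surjective φ := by
  classical
  let s := Algebra.EssFiniteType.finset A B
  let e : Fin s.card ≃ s := s.equivFin.symm
  let ψ : MvPolynomial (Fin s.card) A →ₐ[A] B := MvPolynomial.aeval fun i => (e i : B)
  let q : Ideal (MvPolynomial (Fin s.card) A) := (IsLocalRing.maximalIdeal B).comap ψ.toRingHom
  have hq : q.IsPrime := Ideal.comap_isPrime _ _
  have hu : ∀ y : q.primeCompl, IsUnit (ψ y) := fun y =>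
    IsLocalRing.notMem_maximalIdeal.mp y.2
  refine ⟨s.card, q, hq, IsLocalization.liftAlgHom (f := ψ) hu, fun b => ?_⟩
  have hrange : ∀ c : Algebra.EssFiniteType.subalgebra A B, ∃ p, ψ p = c := fun c => by
    have : (c : B) ∈ ψ.range := by
      have hle : Algebra.EssFiniteType.subalgebra A B ≤ ψ.range := Algebra.adjoin_le fun z hz =>
        ⟨MvPolynomial.X (e.symm ⟨z, hz⟩), by simp [ψ]⟩
      exact hle c.2
    exact this
  obtain ⟨c, m, hm⟩ := IsLocalization.exists_mk'_eq (Algebra.EssFiniteType.submonoid A B) b
  obtain ⟨pc, hpc⟩ := hrange c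
  obtain ⟨pm, hpm⟩ := hrange m.1
  have hpmq : pm ∈ q.primeCompl := fun h => (IsLocalRing.mem_maximalIdeal _).mp h (show IsUnit (ψ pm) by
    rw [hpm]; exact IsLocalization.map_units B m)
  refine ⟨IsLocalization.mk' _ pc ⟨pm, hpmq⟩, ?_⟩
  rw [IsLocalization.liftAlgHom_apply, IsLocalization.lift_mk'_spec, ← hm]
  show ψ pc = ψ pm * _
  rw [hpc, hpm, mul_comm]
  exact (IsLocalization.mk'_spec B c m).symm

end Groth.Agent.S4611
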