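import Groth.Statements.S4616
import Groth.Agent.Lib.SymGr.OverField
import Groth.Agent.Lib.PBasis.Eventual

set_option autoImplicit false
universe u
open TensorProduct KaehlerDifferential IsLocalRing
open EGA41

namespace Groth.Agent.S4616

section

variable {Λ P k A : Type u} [CommRing Λ] [CommRing P] [CommRing k] [CommRing A]
  [Algebra Λ P] [Algebra Λ k] [Algebra P k] [Algebra Λ A] [Algebra P A] [Algebra k A]
  [IsScalarTower Λ P k] [IsScalarTower Λ P A] [IsScalarTower Λ k A] [IsScalarTower P k A]

/-- The kernel of a change of base of differentials comes from the small ring. -/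
theorem exists_ker_preimage (w : A ⊗[P] Ω[P⁄Λ]) :
    ∃ u : A ⊗[k] Ω[k⁄Λ], (KaehlerDifferential.map Λ P k k).baseChange A u = 0 ∧
      mapBaseChange Λ k A u = mapBaseChange Λ P A w := by
  induction w using TensorProduct.induction_on with
  | zero => exact ⟨0, map_zero _, by rw [map_zero, map_zero]⟩
  | add a b ha hb =>
    obtain ⟨u, hu, hu'⟩ := ha
    obtain ⟨v, hv, hv'⟩ := hb
    exact ⟨u + v, by rw [map_add, hu, hv, add_zero], by rw [map_add, map_add, hu', hv']⟩
  | tmul a ω =>
    have hω : ω ∈ Submodule.span P (Set.range (KaehlerDifferential.D Λ P)) := by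
      rw [span_range_derivation]
      trivial
    induction hω using Submodule.span_induction generalizing a with
    | mem z hz =>
      obtain ⟨c, rfl⟩ := hz
      refine ⟨a ⊗ₜ[k] KaehlerDifferential.D Λ k (algebraMap P k c), ?_, ?_⟩
      · rw [LinearMap.baseChange_tmul, map_D, Algebra.algebraMap_self_apply,
          Derivation.map_algebraMap, TensorProduct.tmul_zero]
      · rw [mapBaseChange_tmul, mapBaseChange_tmul, map_D, map_D,
          ← IsScalarTower.algebraMap_apply P k A]
    | zero => exact ⟨0, map_zero _, by rw [TensorProduct.tmul_zero, map_zero, map_zero]⟩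
    | add x y _ _ hx hy =>
      obtain ⟨u, hu, hu'⟩ := hx a
      obtain ⟨v, hv, hv'⟩ := hy a
      exact ⟨u + v, by rw [map_add, hu, hv, add_zero],
        by rw [TensorProduct.tmul_add, map_add, map_add, hu', hv']⟩
    | smul r x _ hx =>
      rw [← TensorProduct.smul_tmul]
      exact hx (r • a)

theorem map_lTensor_comp (N : Type u) [AddCommGroup N] [Module A N] (x : N ⊗[A] (A ⊗[k] Ω[k⁄Λ])) :
    (mapBaseChange P k A).lTensor N (((KaehlerDifferential.map Λ P k k).baseChange A).lTensor N x) =
      ((KaehlerDifferential.map Λ P A A)).lTensor N ((mapBaseChange Λ k A).lTensor N x) := by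
  have h := congr_arg (LinearMap.lTensor N)
    (Lib.SymGr.OverField.map_comp_mapBaseChange Λ P k A)
  rw [LinearMap.lTensor_comp, LinearMap.lTensor_comp] at h
  exact LinearMap.congr_fun h x

/-- Injectivity descends to a bigger base. -/
theorem injective_of_injective (N : Type u) [AddCommGroup N] [Module A N]
    (h : Function.Injective ((mapBaseChange Λ k A).lTensor N)) :
    Function.Injective ((mapBaseChange P k A).lTensor N) := by
  rw [injective_iff_map_eq_zero]
  intro x hx
  obtain ⟨y, rfl⟩ := LinearMap.lTensor_surjective N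
    (g := (KaehlerDifferential.map Λ P k k).baseChange A)
    (LinearMap.lTensor_surjective A (map_surjective Λ P k)) x
  rw [map_lTensor_comp] at hx
  obtain ⟨w, hw⟩ := (lTensor_exact N (exact_mapBaseChange_map Λ P A) (map_surjective Λ P A) _).1 hx
  suffices ∀ w : N ⊗[A] (A ⊗[P] Ω[P⁄Λ]), ∃ v,
      ((KaehlerDifferential.map Λ P k k).baseChange A).lTensor N v = 0 ∧
        (mapBaseChange Λ k A).lTensor N v = (mapBaseChange Λ P A).lTensor N w by
    obtain ⟨v, hv, hv'⟩ := this w
    rw [← h (hv'.trans hw), hv]
  intro w
  induction w using TensorProduct.induction_on with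
  | zero => exact ⟨0, map_zero _, by rw [map_zero, map_zero]⟩
  | add a b ha hb =>
    obtain ⟨u, hu, hu'⟩ := ha
    obtain ⟨v, hv, hv'⟩ := hb
    exact ⟨u + v, by rw [map_add, hu, hv, add_zero], by rw [map_add, map_add, hu', hv']⟩
  | tmul q m =>
    obtain ⟨u, hu, hu'⟩ := exists_ker_preimage (k := k) m
    exact ⟨q ⊗ₜ[A] u, by rw [LinearMap.lTensor_tmul, hu, TensorProduct.tmul_zero],
      by rw [LinearMap.lTensor_tmul, LinearMap.lTensor_tmul, hu']⟩

end

theorem cancel_lTensor {k A N M M' : Type u} [CommRing k] [CommRing A] [Algebra k A] [CommRing N]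
    [Algebra A N] [Algebra k N] [IsScalarTower k A N] [AddCommGroup M] [Module k M] [AddCommGroup M']
    [Module k M'] (f : M →ₗ[k] M') (v : N ⊗[A] (A ⊗[k] M)) :
    TensorProduct.AlgebraTensorModule.cancelBaseChange k A A N M' ((f.baseChange A).lTensor N v) =
      f.baseChange N (TensorProduct.AlgebraTensorModule.cancelBaseChange k A A N M v) := by
  induction v using TensorProduct.induction_on with
  | zero => simp only [map_zero]
  | add a b ha hb => simp only [map_add, ha, hb]
  | tmul n u =>
    induction u using TensorProduct.induction_on with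
    | zero => simp only [TensorProduct.tmul_zero, map_zero]
    | add a b ha hb => simp only [TensorProduct.tmul_add, map_add, ha, hb]
    | tmul a m =>
      simp only [LinearMap.lTensor_tmul, LinearMap.baseChange_tmul,
        TensorProduct.AlgebraTensorModule.cancelBaseChange_tmul]

theorem mem_pPower_subfield {k : Type u} [Field k] (p : ℕ) [Fact p.Prime] [CharP k p] (S : Subfield k)
    (y : k) : y ∈ EGA41.pPowerSubalgebra p S k ↔ y ∈ S ⊔ (frobenius k p).fieldRange := by
  rw [← Lib.PBasis.Eventual.mem_FF_empty_iff, Lib.PBasis.Field.FF, Set.union_empty,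
    ← IntermediateField.mem_toSubfield, IntermediateField.adjoin_toSubfield, Subfield.closure_union,
    show Set.range (algebraMap S k) = (S : Set k) from Subtype.range_coe,
    show (Set.range fun z : k => z ^ p) = ((frobenius k p).fieldRange : Set k) by
      ext z; simp [RingHom.mem_fieldRange, frobenius_def],
    Subfield.closure_eq, Subfield.closure_eq]

/-- Let k be a field of characteristic p > 0, A a local k-algebra with maximal ideal m and residue field
K, (k_α) a decreasing directed family of subfields of k with ⋂ k_α(k^p) = k^p. Then A is formally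
smooth over k for the m-adic topology if and only if the maps Sym^n_K(m/m²) → m^n/m^(n+1) are
bijective (n ≥ 1) and, for all large α, Ω_{k/k_α} ⊗_k K → Ω_{A/k_α} ⊗_A K is injective. -/
theorem result {k A : Type u}
    [Field k] (p : ℕ) [Fact p.Prime] [CharP k p] [CommRing A] [IsLocalRing A] [Algebra k A]
    {ι : Type u} [Preorder ι] [IsDirected ι (fun a b => a ≤ b)] [Nonempty ι] (kα : ι → Subfield k)
    (hanti : Antitone kα) (hint : ⨅ α, (kα α ⊔ (frobenius k p).fieldRange) = (frobenius k p).fieldRange) :
    CAlgX.IsAdicFormallySmooth k A (maximalIdeal A) ↔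
      (PP16.SymGrBijective A (maximalIdeal A) ∧ ∃ α₀ : ι, ∀ α : ι, α₀ ≤ α →
        Function.Injective ((mapBaseChange (kα α) k A).lTensor (ResidueField A))) := by
  rw [Lib.SymGr.OverField.iff_symGr_and_injective_bot]
  refine and_congr_right' ⟨fun h => ?_, fun ⟨α₀, hα⟩ => ?_⟩
  · obtain ⟨α₀⟩ := ‹Nonempty ι›
    refine ⟨α₀, fun α _ => ?_⟩
    letI : Algebra (⊥ : Subfield k) (kα α) :=
      (Subfield.inclusion (bot_le : (⊥ : Subfield k) ≤ kα α)).toAlgebra
    haveI : IsScalarTower (⊥ : Subfield k) (kα α) k := IsScalarTower.of_algebraMap_eq fun _ => rfl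
    haveI : IsScalarTower (⊥ : Subfield k) (kα α) A := IsScalarTower.of_algebraMap_eq fun _ => rfl
    exact injective_of_injective (ResidueField A) h
  · rw [injective_iff_map_eq_zero]
    intro x hx
    let e := TensorProduct.AlgebraTensorModule.cancelBaseChange k A A (ResidueField A)
      (Ω[k⁄(⊥ : Subfield k)])
    let f : ∀ α, Ω[k⁄(⊥ : Subfield k)] →ₗ[k] Ω[k⁄kα α] := fun α =>
      letI : Algebra (⊥ : Subfield k) (kα α) :=
        (Subfield.inclusion (bot_le : (⊥ : Subfield k) ≤ kα α)).toAlgebra
      haveI : IsScalarTower (⊥ : Subfield k) (kα α) k := IsScalarTower.of_algebraMap_eq fun _ => rfl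
      KaehlerDifferential.map (⊥ : Subfield k) (kα α) k k
    obtain ⟨α₁, hα₁⟩ := Lib.PBasis.Eventual.eventually_ker_inf_eq_bot (p := p)
      (P₀ := (⊥ : Subfield k)) (fun α => kα α)
      (fun i j hij y hy => by
        rw [mem_pPower_subfield] at hy ⊢
        exact sup_le_sup_right (hanti hij) _ hy)
      (fun y hy => by
        rw [mem_pPower_subfield, bot_sup_eq, ← hint, Subfield.mem_iInf]
        exact fun i => (mem_pPower_subfield p (kα i) y).1 (hy i))
      f (fun α y => by
        let := (Subfield.inclusion (bot_le : (⊥ : Subfield k) ≤ kα α)).toAlgebra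
        simp [f]) (Submodule.span (ResidueField A) {e x})
    obtain ⟨α, hα₀, hαα₁⟩ := directed_of (fun a b => a ≤ b) α₀ α₁
    letI : Algebra (⊥ : Subfield k) (kα α) :=
      (Subfield.inclusion (bot_le : (⊥ : Subfield k) ≤ kα α)).toAlgebra
    haveI : IsScalarTower (⊥ : Subfield k) (kα α) k := IsScalarTower.of_algebraMap_eq fun _ => rfl
    haveI : IsScalarTower (⊥ : Subfield k) (kα α) A := IsScalarTower.of_algebraMap_eq fun _ => rfl
    have h1 : ((f α).baseChange A).lTensor (ResidueField A) x = 0 := hα α hα₀ (by
      rw [map_zero]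
      exact (map_lTensor_comp (ResidueField A) x).trans (by rw [hx, map_zero]))
    refine e.injective ?_
    rw [map_zero]
    refine hα₁ α hαα₁ _ (Submodule.subset_span rfl) ?_
    rw [← cancel_lTensor, h1, map_zero]

end Groth.Agent.S4616
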