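import Groth.Statements.S4622
import Groth.Agent.Lib.UnivHomeo.Basic
import Groth.Agent.H52.FBase.Descend
import Mathlib.FieldTheory.PurelyInseparable.Basic

set_option autoImplicit false
open CategoryTheory AlgebraicGeometry
universe u
open FBase

namespace Groth.Agent.S4622

/-- Let k be a separably closed field, k' an algebraic closure of k and X a scheme over k. Then the
projection X ⊗_k k' → X is a universal homeomorphism. -/
theorem result {k k' : Type u} [Field k] [IsSepClosed k] [Field k'] [Algebra k k']
    [IsAlgClosure k k'] {X : Scheme.{u}} (f : X ⟶ Spec (CommRingCat.of k)) :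
    FlatMor.IsUnivHomeo (FBase.bcπ f k') := by
  have : Algebra.IsAlgebraic k k' := IsAlgClosure.isAlgebraic
  have : IsPurelyInseparable k k' := inferInstance
  let σ := Spec.map (CommRingCat.ofHom (algebraMap k k'))
  have h1 : IsIntegralHom σ := IsIntegralHom.SpecMap_iff.mpr
    (algebraMap_isIntegral_iff.mpr inferInstance)
  have h2 : UniversallyInjective σ := ((tfae_universallyInjective σ).out 1 0 rfl rfl).mp
    fun K _ a b h => by
      obtain ⟨α, rfl⟩ := Spec.map_surjective a
      obtain ⟨β, rfl⟩ := Spec.map_surjective b
      simp only [σ, ← Spec.map_comp] at h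
      have := congrArg CommRingCat.Hom.hom (Spec.map_injective h)
      exact congrArg Spec.map (CommRingCat.hom_ext
        (IsPurelyInseparable.injective_comp_algebraMap k k' K this))
  have h3 : Surjective σ := Groth.Agent.H52.FBase.Descend.surjective_specMap_field k k'
  have h := (Groth.Agent.Lib.UnivHomeo.Basic.iff_integral_universallyInjective_surjective σ).mpr
    ⟨h1, h2, h3⟩
  exact MorphismProperty.pullback_fst _ _ h

end Groth.Agent.S4622
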