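import Groth.Statements.S4624
import Groth.Agent.H52.FBase.Connected

set_option autoImplicit false
open CategoryTheory AlgebraicGeometry
universe u
open Groth.Agent.H52.FBase
open FBase

namespace Groth.Agent.S4624

/-- Let h : X → Y be a surjective morphism of schemes over a field k. If X is geometrically connected
over k, then Y is geometrically connected over k. -/
theorem result {k : Type u} [Field k] {X Y : Scheme.{u}}
    (f : X ⟶ Spec (CommRingCat.of k)) (g : Y ⟶ Spec (CommRingCat.of k)) (h : X ⟶ Y) (w : h ≫ g = f)
    [Surjective h] [GeometricallyConnected f] : GeometricallyConnected g := by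
  refine ⟨geometrically_iff_of_commRing_of_isClosedUnderIsomorphisms.mpr fun K _ _ => ?_⟩
  subst w
  let b := Spec.map (CommRingCat.ofHom (algebraMap k K))
  have h1 : ConnectedSpace ↥(Limits.pullback (h ≫ g) b) :=
    pullback_of_geometrically GeometricallyConnected.geometrically_connectedSpace _ _
  have hs : Surjective (Limits.pullback.map (h ≫ g) b g b h (𝟙 _) (𝟙 _) (by simp) (by simp)) := ⟨by
    rw [← Set.range_eq_univ, Scheme.Pullback.range_map]
    simp [h.surjective.range_eq]⟩
  exact @Descend.connectedSpace_of_surjective _ _ _ hs h1

end Groth.Agent.S4624
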