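import Groth.Statements.S4626
import Groth.Agent.H52.FBase.Descend
import Groth.Prelude.Def_FDesc

set_option autoImplicit false
open CategoryTheory AlgebraicGeometry
universe u
open Groth.Agent.H52.FBase
open FBase

namespace Groth.Agent.S4626

/-- Let X be a scheme over a field k and K an extension field of k. Then X is geometrically reduced over
k if and only if X ⊗_k K, with its structure of K-scheme, is geometrically reduced over K. -/
theorem result {k K : Type u} [Field k] [Field K] [Algebra k K]
    {X : Scheme.{u}} (f : X ⟶ Spec (CommRingCat.of k)) :
    GeometricallyReduced f ↔ GeometricallyReduced (FBase.bcStr f K) := by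
  rw [GeometricallyReduced.eq_geometrically]
  exact (Descend.geometrically_bc_iff (fun p _ _ h => Descend.isReduced_of_flat_surjective p h) f).symm

end Groth.Agent.S4626
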