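import Groth.Statements.S4632
import Groth.Agent.H52.QFlat.Basic
import Groth.Agent.Lib.SchTopo.Closure

set_option autoImplicit false
open CategoryTheory AlgebraicGeometry
universe u
open FDesc

namespace Groth.Agent.S4632

open CategoryTheory.Limits in
/-- Let f : X → Y be a quasi-compact dominant morphism and g : Y' → Y a quasi-flat morphism (for
instance a flat one). Then the base change X ×_Y Y' → Y' is dominant. -/
theorem result {X Y Y' : Scheme.{u}} (f : X ⟶ Y) (g : Y' ⟶ Y)
    [QuasiCompact f] [IsDominant f] (hg : FDesc.IsQuasiFlat g) : IsDominant (pullback.snd f g) := by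
  rw [isDominant_iff, DenseRange, Scheme.Pullback.range_snd, dense_iff_closure_eq, Set.eq_univ_iff_forall]
  intro y
  obtain ⟨a, ha⟩ := Groth.Agent.Lib.SchTopo.Closure.exists_specializes_of_mem_closure_range f
    (f.denseRange (g y))
  obtain ⟨y', hy', hgy'⟩ := Groth.Agent.H52.QFlat.Basic.generalizingMap hg ha
  exact hy'.mem_closed isClosed_closure (subset_closure ⟨a, hgy'.symm⟩)

end Groth.Agent.S4632
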