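import Groth.Statements.S4633
import Groth.Agent.H52.QFlat.Basic
import Groth.Agent.Lib.SchTopo.Closure
import Mathlib.AlgebraicGeometry.Morphisms.UniversallyOpen
import Mathlib.AlgebraicGeometry.Morphisms.Preimmersion

set_option autoImplicit false
open CategoryTheory AlgebraicGeometry
universe u
open CategoryTheory.Limits
open FDesc

namespace Groth.Agent.S4633

open CategoryTheory.Limits in
/-- Let f : X → Y be a morphism such that every irreducible component of X dominates an irreducible
component of Y (the closure of its image under f is an irreducible component of Y), and let g : Y' →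
Y be quasi-flat (for instance flat). Then every irreducible component of X ×_Y Y' dominates an
irreducible component of Y'. -/
theorem result {X Y Y' : Scheme.{u}} (f : X ⟶ Y) (g : Y' ⟶ Y)
    (hf : ∀ Z ∈ irreducibleComponents ↥X, closure (⇑f '' Z) ∈ irreducibleComponents ↥Y)
    (hg : FDesc.IsQuasiFlat g) (Z' : Set ↥(pullback f g)) (hZ' : Z' ∈ irreducibleComponents ↥(pullback f g)) :
    closure (⇑(pullback.snd f g) '' Z') ∈ irreducibleComponents ↥Y' := by
  have hξ := hZ'.1.isGenericPoint_genericPoint (isClosed_of_mem_irreducibleComponents _ hZ')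
  set ξ := hZ'.1.genericPoint
  have hξmax : ∀ w, w ⤳ ξ → w = ξ := fun w hw => by
    refine Groth.Agent.Lib.SchTopo.Closure.eq_of_specializes_of_closure_mem ?_ hw
    rwa [hξ.def]
  have hxmax : closure {pullback.fst f g ξ} ∈ irreducibleComponents X := by
    refine Groth.Agent.Lib.SchTopo.Closure.maximal_of_forall_eq fun a ha => ?_
    obtain ⟨w, hw, hw'⟩ := Groth.Agent.H52.QFlat.Basic.generalizingMap_fst f g hg ha
    rw [← hw', hξmax w hw]
  set x := pullback.fst f g ξ with hxdef
  set y := pullback.snd f g ξ with hydef
  have hfxmax : closure {f x} ∈ irreducibleComponents Y := by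
    have := hf _ hxmax
    rwa [closure_image_closure f.continuous, Set.image_singleton] at this
  have hgoal : closure (pullback.snd f g '' Z') = closure {y} := by
    rw [← hξ.def, closure_image_closure (pullback.snd f g).continuous, Set.image_singleton]
  rw [hgoal]
  refine Groth.Agent.Lib.SchTopo.Closure.maximal_of_forall_eq fun b hb => ?_
  set s := f x with hs
  have hgy : g y = s := by
    simp only [hs, hxdef, hydef, ← Scheme.Hom.comp_apply, pullback.condition]
  have hgb : g b = s := Groth.Agent.Lib.SchTopo.Closure.eq_of_specializes_of_closure_mem hfxmax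
    (hgy ▸ hb.map g.continuous)
  let ρs := Y.fromSpecResidueField s
  let h : Spec (X.residueField x) ⟶ Spec (Y.residueField s) := Spec.map (f.residueFieldMap x)
  have hh : h ≫ ρs = X.fromSpecResidueField x ≫ f := Scheme.Hom.SpecMap_residueFieldMap_fromSpecResidueField f x
  let D := pullback h (pullback.fst ρs g)
  let u : D ⟶ pullback f g := (pullbackRightPullbackFstIso ρs g h).hom ≫
    pullback.map (h ≫ ρs) g f g (X.fromSpecResidueField x) (𝟙 _) (𝟙 _) (by rw [Category.comp_id, hh]) (by simp)
  have hsnd : u ≫ pullback.snd f g = pullback.snd h (pullback.fst ρs g) ≫ pullback.snd ρs g := by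
    simp only [u, Category.assoc]
    erw [pullback.lift_snd, Category.comp_id]
    exact pullbackRightPullbackFstIso_hom_snd _ _ _
  obtain ⟨d, hd⟩ : ξ ∈ Set.range u := by
    have hr : Set.range u = Set.range (pullback.map (h ≫ ρs) g f g (X.fromSpecResidueField x) (𝟙 _) (𝟙 _) (by rw [Category.comp_id, hh]) (by simp)) := by
      simp only [u, Scheme.Hom.comp_base, TopCat.coe_comp]
      exact (pullbackRightPullbackFstIso ρs g h).hom.surjective.range_comp _
    rw [hr, Scheme.Pullback.range_map, Scheme.range_fromSpecResidueField]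
    exact ⟨rfl, by simp⟩
  obtain ⟨c, -, hc2⟩ := Scheme.Pullback.exists_preimage_pullback (f := ρs) (g := g) default b
    (by rw [Scheme.fromSpecResidueField_apply, hgb])
  set c₀ := pullback.snd h (pullback.fst ρs g) d with hc₀
  have hc₀' : pullback.snd ρs g c₀ = y := by
    rw [hc₀, ← Scheme.Hom.comp_apply, ← hsnd, Scheme.Hom.comp_apply, hd]
  have hemb : Topology.IsEmbedding (pullback.snd ρs g) :=
    (pullback.snd ρs g).isEmbedding
  have hcc : c ⤳ c₀ := hemb.isInducing.specializes_iff.mp (by rw [hc2, hc₀']; exact hb)
  have : Flat h := inferInstance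
  obtain ⟨d', hd', hd'c⟩ := Flat.generalizingMap (pullback.snd h (pullback.fst ρs g)) hcc
  have hud : u d' = ξ := hξmax _ (hd ▸ hd'.map u.continuous)
  rw [← hc2, ← hd'c, ← Scheme.Hom.comp_apply, ← hsnd, Scheme.Hom.comp_apply, hud]

end Groth.Agent.S4633
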