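import Groth.Statements.S4634
import Groth.Agent.H52.QFlat.Basic
import Groth.Agent.Lib.SchTopo.Closure

set_option autoImplicit false
open CategoryTheory AlgebraicGeometry
universe u
open FDesc

namespace Groth.Agent.S4634

/-- Let f : X → Y be a quasi-flat quasi-compact morphism and F a closed subset of X which is saturated
for f, i.e. F = f⁻¹(f(F)). Then F is the inverse image of the closure of f(F). -/
theorem result {X Y : Scheme.{u}} (f : X ⟶ Y) (hf : FDesc.IsQuasiFlat f)
    [QuasiCompact f] (F : Set ↥X) (hF : IsClosed F) (hsat : ⇑f ⁻¹' (⇑f '' F) = F) :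
    ⇑f ⁻¹' closure (⇑f '' F) = F := by
  refine Set.Subset.antisymm (fun x hx => ?_) fun x hx => subset_closure ⟨x, hx, rfl⟩
  let i := (Scheme.IdealSheafData.vanishingIdeal ⟨F, hF⟩).subschemeι
  have hr : Set.range i = F := by
    simp [i, Scheme.IdealSheafData.range_subschemeι, Scheme.IdealSheafData.coe_support_vanishingIdeal, hF.closure_eq]
  have hr' : Set.range (i ≫ f) = f '' F := by
    rw [Scheme.Hom.comp_base, TopCat.coe_comp, Set.range_comp, hr]
  rw [Set.mem_preimage, ← hr'] at hx
  obtain ⟨a, ha⟩ := Groth.Agent.Lib.SchTopo.Closure.exists_specializes_of_mem_closure_range (i ≫ f) hx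
  obtain ⟨x', hx', hfx'⟩ := Groth.Agent.H52.QFlat.Basic.generalizingMap hf ha
  have : x' ∈ F := by
    rw [← hsat]
    exact ⟨i a, hr.le ⟨a, rfl⟩, hfx'.symm⟩
  exact hx'.mem_closed hF this

end Groth.Agent.S4634
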