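import Groth.Statements.S4637
import Groth.Agent.Lib.StalkLoc.AssStalk
import Mathlib.RingTheory.Localization.Submodule

set_option autoImplicit false
open CategoryTheory AlgebraicGeometry
universe u
open AssSch

namespace Groth.Agent.S4637

/-- Let X be a locally Noetherian scheme, F a coherent O_X-module and x a point of X. Then x is the
generic point of an irreducible component of Supp F (F_x ≠ 0 and every point y with F_y ≠ 0 that
specialises to x equals x) if and only if F_x is a nonzero module of finite length over the local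
ring O_{X,x}. -/
theorem result {X : Scheme.{u}} [IsLocallyNoetherian X] (F : X.Modules)
    (hF : Coh.IsCoh F) (x : X) :
    (Nontrivial ↑(F.presheaf.stalk x) ∧ ∀ y : X, Nontrivial ↑(F.presheaf.stalk y) → y ⤳ x → y = x) ↔
      (Nontrivial ↑(F.presheaf.stalk x) ∧ IsFiniteLength ↑(X.presheaf.stalk x) ↑(F.presheaf.stalk x)) := by
  have : F.IsQuasicoherent := hF.1
  have : SheafOfModules.IsFiniteType (R := X.ringCatSheaf) F := hF.2
  have := Groth.Agent.Lib.Modules.GenStalk.finite_stalk F x
  obtain ⟨U, hU, hxU, -⟩ := exists_isAffineOpen_mem_and_subset (x := x) (U := ⊤) trivial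
  have := IsLocallyNoetherian.component_noetherian ⟨U, hU⟩
  let _ := TopCat.Presheaf.algebra_section_stalk X.presheaf (⟨x, hxU⟩ : U)
  have := hU.isLocalization_stalk ⟨x, hxU⟩
  have : IsNoetherianRing (X.presheaf.stalk x) :=
    IsLocalization.isNoetherianRing (hU.primeIdealOf ⟨x, hxU⟩).asIdeal.primeCompl _ inferInstance
  refine and_congr_right fun hx => ⟨fun h => ?_, fun h y hy hyx => ?_⟩
  · refine Groth.Agent.Lib.StalkLoc.AssStalk.isFiniteLength_of_associatedPrimes fun q hq => ?_
    let qq : Spec (X.presheaf.stalk x) := ⟨q, hq.1⟩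
    have hz := (Groth.Agent.Lib.StalkLoc.AssStalk.mem_associatedPrimes_stalk_iff x qq).mp hq
    have hne : Nontrivial ↑(F.presheaf.stalk (X.fromSpecStalk x qq)) := by
      by_contra h
      rw [not_nontrivial_iff_subsingleton] at h
      exact not_isAssociatedPrime_of_subsingleton hz
    exact (Groth.Agent.Lib.StalkLoc.AssStalk.closedPoint_eq_iff qq).mp
      (h _ hne ((Scheme.range_fromSpecStalk (X := X) (x := x)).le ⟨_, rfl⟩))
  · obtain ⟨z, hz, hzy⟩ := Groth.Agent.Lib.StalkLoc.AssStalk.exists_ass_specializes hy
    obtain ⟨q, hq⟩ := (Scheme.range_fromSpecStalk (X := X) (x := x)).ge (hzy.trans hyx)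
    rw [← hq, ← Groth.Agent.Lib.StalkLoc.AssStalk.mem_associatedPrimes_stalk_iff x q] at hz
    have hqm : q.asIdeal = IsLocalRing.maximalIdeal (X.presheaf.stalk x) := by
      obtain ⟨hp, f, hf⟩ := (isAssociatedPrime_iff_exists_injective_linearMap q.asIdeal _).mp hz
      have hflen := h.of_injective hf
      rw [isFiniteLength_iff_isNoetherian_isArtinian] at hflen
      have : IsArtinianRing (X.presheaf.stalk x ⧸ q.asIdeal) := isArtinian_of_tower (X.presheaf.stalk x) hflen.2
      exact IsLocalRing.eq_maximalIdeal (Ideal.Quotient.maximal_of_isField _ (IsArtinianRing.isField_of_isDomain _))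
    have : z = x := hq.symm.trans ((Groth.Agent.Lib.StalkLoc.AssStalk.closedPoint_eq_iff q).mpr hqm)
    subst this
    exact (hyx.antisymm hzy).eq

end Groth.Agent.S4637
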