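import Groth.Statements.S4638
import Groth.Agent.Lib.StalkLoc.AssStalk

set_option autoImplicit false
open CategoryTheory AlgebraicGeometry
universe u
open AssSch

namespace Groth.Agent.S4638

/-- Let X be a locally Noetherian scheme, F a quasi-coherent O_X-module and f a global section of O_X.
Then f is F-regular, i.e. multiplication by the germ of f is injective on every stalk of F, if and
only if every associated point of F lies in the open subset X_f where f does not vanish. -/
theorem result {X : Scheme.{u}} [IsLocallyNoetherian X] (F : X.Modules)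
    (hF : Coh.IsQCoh F) (f : Γ(X, ⊤)) :
    (∀ x : X, IsSMulRegular ↑(F.presheaf.stalk x) (X.presheaf.germ ⊤ x trivial f)) ↔
      AssSch.Ass F ⊆ (X.basicOpen f : Set ↥X) := by
  have : F.IsQuasicoherent := hF
  constructor
  · intro h x hx
    by_contra hxf
    obtain ⟨hp, v, hv⟩ := (isAssociatedPrime_iff (R := X.presheaf.stalk x)).mp hx
    have hmem : X.presheaf.germ ⊤ x trivial f ∈ IsLocalRing.maximalIdeal (X.presheaf.stalk x) :=
      fun hu => hxf ((X.mem_basicOpen f x trivial).mpr hu)
    rw [hv, Submodule.mem_colon_singleton, Submodule.mem_bot] at hmem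
    have h0 : v = 0 := h x (show X.presheaf.germ ⊤ x trivial f • v = X.presheaf.germ ⊤ x trivial f • 0 by rw [hmem, smul_zero])
    subst h0
    exact hp.ne_top (hv.trans (eq_top_iff.mpr fun a _ => by simp [Submodule.mem_colon_singleton]))
  · intro h x
    intro v₁ v₂ hv
    by_contra hv0
    replace hv0 : v₁ - v₂ ≠ 0 := sub_ne_zero.mpr hv0
    obtain ⟨z, hz, hzass, -, hz'⟩ := Groth.Agent.Lib.StalkLoc.AssStalk.exists_ass_of_smul_eq_zero
      (U := ⊤) (x := x) trivial (v₁ - v₂) hv0
    exact hz' f (by rw [smul_sub]; exact sub_eq_zero.mpr hv) (h hzass)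

end Groth.Agent.S4638
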