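import Groth.Statements.S4639
import Groth.Agent.H52.FDesc.EmbDescent

set_option autoImplicit false
open CategoryTheory AlgebraicGeometry
universe u
open FDesc

namespace Groth.Agent.S4639

/-- The property of being quasi-compact and universally bicontinuous (every base change is a
homeomorphism onto its image) descends along a surjective, flat and quasi-compact base change. -/
theorem result :
    MorphismProperty.DescendsAlong
      (MorphismProperty.universally (topologically (fun f => Topology.IsEmbedding f)) ⊓ @QuasiCompact : MorphismProperty Scheme.{u})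
      (@Surjective ⊓ @Flat ⊓ @QuasiCompact : MorphismProperty Scheme.{u}) := by
  refine ⟨fun {A X Y Z fst snd f g} h hf hfst => ?_⟩
  have := hf.1.1
  have := hf.1.2
  have hg : QuasiCompact g := MorphismProperty.of_isPullback_of_descendsAlong
    (P := @QuasiCompact) (Q := @Surjective ⊓ @Flat ⊓ @QuasiCompact) h hf hfst.2
  refine ⟨fun {U V} i₁ i₂ g' hsq => ?_, hg⟩
  -- hsq : base change of g
  have : QuasiCompact g' := MorphismProperty.of_isPullback hsq.flip hg
  let p' := Limits.pullback.fst i₂ f
  let f' := Limits.pullback.fst p' g'
  let l : Limits.pullback p' g' ⟶ A := h.lift (f' ≫ Limits.pullback.snd i₂ f)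
    (Limits.pullback.snd p' g' ≫ i₁) (by
      rw [Category.assoc, Category.assoc, ← Limits.pullback.condition, ← hsq.w,
        ← Category.assoc, ← Category.assoc, Limits.pullback.condition])
  have hbig : IsPullback (Limits.pullback.snd p' g' ≫ i₁) f' g (Limits.pullback.snd i₂ f ≫ f) := by
    have := (IsPullback.of_hasPullback p' g').flip.paste_horiz hsq.flip
    rwa [show p' ≫ i₂ = Limits.pullback.snd i₂ f ≫ f from Limits.pullback.condition] at this
  have hsq' : IsPullback l f' fst (Limits.pullback.snd i₂ f) := by
    refine IsPullback.of_right ?_ (h.lift_fst _ _ _) h.flip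
    rwa [h.lift_snd]
  exact Groth.Agent.H52.FDesc.EmbDescent.isEmbedding (IsPullback.of_hasPullback p' g') (hfst.1 _ _ _ hsq'.flip)

end Groth.Agent.S4639
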