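import Groth.Statements.S4640
import Mathlib.RingTheory.Flat.TorsionFree
import Mathlib.RingTheory.Localization.BaseChange

set_option autoImplicit false
universe u
open FDesc

namespace Groth.Agent.S4640

open TensorProduct in
/-- Let A be a Dedekind domain with fraction field K, M an A-module and P' a K-submodule of K ⊗_A M. Let
φ : M → (K ⊗_A M)/P' be m ↦ class of 1 ⊗ m. Then a submodule Q of M equals ker φ if and only if M/Q
is a flat A-module and the kernel of the induced surjection K ⊗_A M → K ⊗_A (M/Q) is P'. Thus M/ker
φ is the unique flat quotient of M with generic fibre (K ⊗_A M)/P'. (The published statement takes A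
Noetherian, regular and of dimension 1; a field is allowed here, where the statement is immediate.) -/
theorem result {A K : Type u} [CommRing A] [IsDedekindDomain A] [Field K]
    [Algebra A K] [IsFractionRing A K] {M : Type u} [AddCommGroup M] [Module A M]
    (P' : Submodule K (K ⊗[A] M)) (Q : Submodule A M) :
    Q = LinearMap.ker ((P'.restrictScalars A).mkQ ∘ₗ TensorProduct.mk A K M 1) ↔
      (Module.Flat A (M ⧸ Q) ∧ LinearMap.ker (Q.mkQ.baseChange K) = P') := by
  set φ := (P'.restrictScalars A).mkQ ∘ₗ TensorProduct.mk A K M 1 with hφ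
  constructor
  · rintro rfl
    have hflat : Module.Flat A (M ⧸ LinearMap.ker φ) := by
      rw [IsDedekindDomain.flat_iff_torsion_eq_bot, eq_bot_iff]
      intro q hq
      obtain ⟨m, rfl⟩ := Submodule.Quotient.mk_surjective _ q
      obtain ⟨⟨a, ha⟩, hzero⟩ := hq
      change a • (Submodule.Quotient.mk m : M ⧸ LinearMap.ker φ) = 0 at hzero
      rw [← Submodule.Quotient.mk_smul, Submodule.Quotient.mk_eq_zero, LinearMap.mem_ker] at hzero
      rw [Submodule.mem_bot, Submodule.Quotient.mk_eq_zero, LinearMap.mem_ker]
      simp only [hφ, LinearMap.comp_apply, Submodule.mkQ_apply, TensorProduct.mk_apply,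
        Submodule.Quotient.mk_eq_zero, Submodule.restrictScalars_mem] at hzero ⊢
      rw [TensorProduct.tmul_smul, ← algebraMap_smul K a] at hzero
      have hne : algebraMap A K a ≠ 0 := IsFractionRing.to_map_ne_zero_of_mem_nonZeroDivisors ha
      have h := P'.smul_mem (algebraMap A K a)⁻¹ hzero
      rwa [smul_smul, inv_mul_cancel₀ hne, one_smul] at h
    refine ⟨hflat, ?_⟩
    let kq : M →ₗ[A] M ⧸ LinearMap.ker φ := (LinearMap.ker φ).mkQ
    apply le_antisymm
    · intro z hz
      obtain ⟨⟨m, s⟩, hms⟩ := IsLocalizedModule.surj (nonZeroDivisors A) (TensorProduct.mk A K M 1) z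
      rw [Submonoid.smul_def, ← algebraMap_smul K, TensorProduct.mk_apply] at hms
      have hne : algebraMap A K s ≠ 0 := IsFractionRing.to_map_ne_zero_of_mem_nonZeroDivisors s.2
      rw [LinearMap.mem_ker] at hz
      have h0 : (1 : K) ⊗ₜ[A] kq m = 0 := by
        have h := congrArg (kq.baseChange K) hms
        rw [map_smul, show kq.baseChange K z = 0 from hz, smul_zero] at h
        simpa using h.symm
      have hinj : Function.Injective (TensorProduct.mk A K (M ⧸ LinearMap.ker φ) 1) := by
        have := Module.Flat.rTensor_preserves_injective_linearMap (M := M ⧸ LinearMap.ker φ)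
          (Algebra.linearMap A K) (IsFractionRing.injective A K)
        intro x y hxy
        apply (TensorProduct.lid A (M ⧸ LinearMap.ker φ)).symm.injective
        apply this
        simpa using hxy
      have hm : kq m = 0 := hinj (by simpa using h0)
      have hmP : (1 : K) ⊗ₜ[A] m ∈ P' := by
        simpa [kq, hφ] using hm
      rw [← hms] at hmP
      have h := P'.smul_mem (algebraMap A K s)⁻¹ hmP
      rwa [smul_smul, inv_mul_cancel₀ hne, one_smul] at h
    · intro z hz
      obtain ⟨⟨m, s⟩, hms⟩ := IsLocalizedModule.surj (nonZeroDivisors A) (TensorProduct.mk A K M 1) z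
      rw [Submonoid.smul_def, ← algebraMap_smul K, TensorProduct.mk_apply] at hms
      have hne : algebraMap A K s ≠ 0 := IsFractionRing.to_map_ne_zero_of_mem_nonZeroDivisors s.2
      have hm : kq m = 0 := by
        simpa [kq, hφ, hms] using P'.smul_mem (algebraMap A K s) hz
      rw [LinearMap.mem_ker]
      have h := congrArg (kq.baseChange K) hms
      simpa [map_smul, hm, hne] using h
  · rintro ⟨hflat, hP⟩
    have hinj : Function.Injective (TensorProduct.mk A K (M ⧸ Q) 1) := by
      have := Module.Flat.rTensor_preserves_injective_linearMap (M := M ⧸ Q)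
        (Algebra.linearMap A K) (IsFractionRing.injective A K)
      intro x y hxy
      apply (TensorProduct.lid A (M ⧸ Q)).symm.injective
      apply this
      simpa using hxy
    ext m
    have h1 : m ∈ LinearMap.ker φ ↔ (1 : K) ⊗ₜ[A] m ∈ P' := by simp [hφ]
    rw [h1, ← hP, LinearMap.mem_ker, LinearMap.baseChange_tmul, Submodule.mkQ_apply,
      ← TensorProduct.mk_apply, map_eq_zero_iff _ hinj, Submodule.Quotient.mk_eq_zero]

end Groth.Agent.S4640
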