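import Groth.Statements.S4641
import Groth.Agent.H52.Ass.FlatTensor
import Groth.Agent.H52.FBase.NoEmb

set_option autoImplicit false
open CategoryTheory AlgebraicGeometry
universe u
open AssSch

namespace Groth.Agent.S4641

/-- Let f : X → Y be a morphism of locally Noetherian schemes such that Y has no embedded associated
points, and let F be a quasi-coherent O_X-module which is flat over Y. Then for every associated
point x of F, f(x) is a maximal point of Y (every point of Y specialising to f(x) equals f(x)). (The
published statement assumes only Y locally Noetherian; X is taken locally Noetherian here so that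
associated points are those whose maximal ideal is an annihilator.) -/
theorem result {X Y : Scheme.{u}} (f : X ⟶ Y) [IsLocallyNoetherian X]
    [IsLocallyNoetherian Y] (hY : AssSch.NoEmbedded (Coh.structureModule Y)) (F : X.Modules) (hF : Coh.IsQCoh F)
    (hfl : FlatMod.IsFlatOver f F) (x : X) (hx : x ∈ AssSch.Ass F) (y : Y) (hy : y ⤳ f x) : y = f x := by
  let R := Y.presheaf.stalk (f x)
  let S := X.presheaf.stalk x
  let _ : Algebra R S := (f.stalkMap x).hom.toAlgebra
  let _ := FlatMod.moduleStalkOver f F x
  have : IsScalarTower R S (F.presheaf.stalk x) := ⟨fun r s v => mul_smul ((f.stalkMap x).hom r) s v⟩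
  have : IsLocalHom (algebraMap R S) := inferInstanceAs (IsLocalHom (f.stalkMap x).hom)
  have : Module.Flat R (F.presheaf.stalk x) := hfl x
  have h := (Groth.Agent.H52.Ass.FlatTensor.hasAss_congr
    (TensorProduct.AlgebraTensorModule.rid R S (F.presheaf.stalk x))).mpr hx
  have hR := (Groth.Agent.H52.Ass.FlatTensor.hasAss_tensor_iff.mp h).1
  exact Groth.Agent.Lib.Flat55.GenericPoints.eq_of_specializes
    (Groth.Agent.H52.FBase.NoEmb.noEmbedded_iff.mp hY (f x) hR) hy

end Groth.Agent.S4641
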