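import Groth.Statements.S4646
import Groth.Agent.H52.FBase.ComponentsIrr

set_option autoImplicit false
open CategoryTheory AlgebraicGeometry
universe u
attribute [local instance] Curv2.resAlgebra
open FBase

namespace Groth.Agent.S4646

/-- Let X be a scheme over a field k having finitely many irreducible components, such that for the
generic point x of each irreducible component the separable algebraic closure of k in κ(x) has
finite degree over k. Then there is a finite separable extension L of k such that all irreducible
components of X ⊗_k L are geometrically irreducible over L: for every extension field K of L and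
every irreducible component Z' of X ⊗_k L, the inverse image of Z' in (X ⊗_k L) ⊗_L K is
irreducible. (No finite-type hypothesis on X.) -/
theorem result {k : Type u} [Field k] {X : Scheme.{u}}
    (f : X ⟶ Spec (CommRingCat.of k)) [Finite ↥(irreducibleComponents ↥X)]
    (hx : ∀ (Z : Set ↥X) (hZ : Z ∈ irreducibleComponents ↥X),
      FBase.ResidueFieldProp f hZ.1.genericPoint (fun K _ _ => FiniteDimensional k (separableClosure k K))) :
    ∃ (L : Type u) (_ : Field L) (_ : Algebra k L), FiniteDimensional k L ∧ Algebra.IsSeparable k L ∧
      ∀ (K : Type u) [Field K] [Algebra L K] (Z' : Set ↥(FBase.bc f L)), Z' ∈ irreducibleComponents ↥(FBase.bc f L) →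
        IsIrreducible (⇑(FBase.bcπ (FBase.bcStr f L) K) ⁻¹' Z') := by
  let _ : X.Over (Spec (CommRingCat.of k)) := ⟨f⟩
  have hx' : ∀ (Z : Set X) (hZ : Z ∈ irreducibleComponents X),
      FiniteDimensional k (separableClosure k (X.residueField hZ.1.genericPoint)) := by
    intro Z hZ
    obtain ⟨φ, hφ, hfin⟩ := hx Z hZ
    obtain rfl : φ = Curv2.resMap k X hZ.1.genericPoint := congrArg CommRingCat.Hom.hom (Spec.map_injective
      (a₁ := CommRingCat.ofHom φ) (a₂ := CommRingCat.ofHom (Curv2.resMap k X hZ.1.genericPoint))
      (hφ.trans (Groth.Agent.Lib.GeomConn.Residue.specMap_resMap k X _).symm))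
    exact hfin
  obtain ⟨E, hE, hirr⟩ := Groth.Agent.H52.FBase.ComponentsIrr.exists_finite_separable k X hx'
  refine ⟨E, inferInstance, inferInstance, hE,
    Algebra.isSeparable_tower_bot_of_isSeparable k E (SeparableClosure k), fun K _ _ Z' hZ' => ?_⟩
  have : Algebra.IsSeparable E (SeparableClosure k) :=
    Algebra.isSeparable_tower_top_of_isSeparable k E (SeparableClosure k)
  exact Groth.Agent.H52.FBase.ComponentsIrr.isIrreducible_preimage_bc k X E (SeparableClosure k)
    (hirr Z' hZ') K

end Groth.Agent.S4646
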