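import Groth.Statements.S4647
import Mathlib.RingTheory.Flat.FaithfullyFlat.Basic
import Mathlib.AlgebraicGeometry.Morphisms.Flat
import Mathlib.RingTheory.Spectrum.Prime.Topology
import Mathlib.RingTheory.Ideal.MinimalPrime.Localization
-- import your own Groth.Agent.* helpers here

set_option autoImplicit false
open CategoryTheory AlgebraicGeometry
universe u
open FDesc

namespace Groth.Agent.S4647

/-- Let f : X → Y be a faithfully flat (flat and surjective) morphism. If all local rings of X are
domains (in particular if X is locally integral) and the underlying space of Y is locally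
Noetherian, then Y is locally integral: every point of Y has an open neighbourhood which is an
integral scheme. -/
theorem result {X Y : Scheme.{u}} (f : X ⟶ Y) [Flat f] [Surjective f]
    (hX : ∀ x : X, IsDomain ↑(X.presheaf.stalk x))
    (hY : ∀ y : Y, ∃ U : Y.Opens, y ∈ U ∧ TopologicalSpace.NoetherianSpace ↥U) (y : Y) :
    ∃ U : Y.Opens, y ∈ U ∧ IsIntegral (U : Scheme.{u}) := by
  classical
  have hdom : ∀ y : Y, IsDomain (Y.presheaf.stalk y) := fun y => by
    obtain ⟨x, rfl⟩ := f.surjective y
    algebraize [(f.stalkMap x).hom]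
    have : Module.Flat (Y.presheaf.stalk (f x)) (X.presheaf.stalk x) := AlgebraicGeometry.Flat.stalkMap f x
    have : IsLocalHom (algebraMap (Y.presheaf.stalk (f x)) (X.presheaf.stalk x)) :=
      inferInstanceAs (IsLocalHom (f.stalkMap x).hom)
    have := Module.FaithfullyFlat.of_flat_of_isLocalHom (A := Y.presheaf.stalk (f x)) (B := X.presheaf.stalk x)
    have := hX x
    exact Function.Injective.isDomain (algebraMap (Y.presheaf.stalk (f x)) (X.presheaf.stalk x))
      (FaithfulSMul.algebraMap_injective _ _)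
  obtain ⟨U₀, hyU₀, hU₀⟩ := hY y
  obtain ⟨V, hV, hyV, hVU⟩ : ∃ V : Y.Opens, IsAffineOpen V ∧ y ∈ V ∧ (V : Set Y) ⊆ U₀ := by
    obtain ⟨_, ⟨W, hW, rfl⟩, hyW, hWU⟩ :=
      Y.isBasis_affineOpens.exists_subset_of_mem_open hyU₀ U₀.isOpen
    exact ⟨W, hW, hyW, hWU⟩
  have : IsAffine V := hV
  have hN : TopologicalSpace.NoetherianSpace (V : Scheme.{u}) :=
    (Topology.IsEmbedding.inclusion hVU).isInducing.noetherianSpace
  have hfin := TopologicalSpace.NoetherianSpace.finite_irreducibleComponents (α := (V : Scheme.{u}))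
  let T : Set (V : Scheme.{u}) := irreducibleComponent (⟨y, hyV⟩ : (V : Scheme.{u}))
  have hT : T ∈ irreducibleComponents (V : Scheme.{u}) :=
    irreducibleComponent_mem_irreducibleComponents _
  have huniq : ∀ (z : (V : Scheme.{u})) (A B : Set (V : Scheme.{u})),
      A ∈ irreducibleComponents (V : Scheme.{u}) → B ∈ irreducibleComponents (V : Scheme.{u}) →
      z ∈ A → z ∈ B → A = B := by
    intro z A B hA hB hzA hzB
    have : IsDomain ((V : Scheme.{u}).presheaf.stalk z) := by
      have := hdom (V.ι z)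
      exact (asIso (V.ι.stalkMap z)).commRingCatIsoToRingEquiv.symm.toMulEquiv.isDomain _
    have hmin : ∀ g : (V : Scheme.{u}), g ⤳ z → (∀ g', g' ⤳ g → g ⤳ g') →
        ∃ q : PrimeSpectrum ((V : Scheme.{u}).presheaf.stalk z),
          (V : Scheme.{u}).fromSpecStalk z q = g ∧ q.asIdeal = ⊥ := by
      intro g hg hgmax
      obtain ⟨q, hq⟩ : g ∈ Set.range ((V : Scheme.{u}).fromSpecStalk z) := by
        rw [Scheme.range_fromSpecStalk]; exact hg
      refine ⟨q, hq, ?_⟩
      let q0 : PrimeSpectrum ((V : Scheme.{u}).presheaf.stalk z) := ⟨⊥, Ideal.isPrime_bot⟩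
      have h0q : q0 ⤳ q := (PrimeSpectrum.le_iff_specializes _ _).1 bot_le
      have h1 : (V : Scheme.{u}).fromSpecStalk z q0 ⤳ g :=
        hq ▸ h0q.map ((V : Scheme.{u}).fromSpecStalk z).continuous
      have h2 : q ⤳ q0 := ((V : Scheme.{u}).fromSpecStalk z).isEmbedding.isInducing.specializes_iff.1
        (hq.symm ▸ hgmax _ h1)
      exact le_bot_iff.1 ((PrimeSpectrum.le_iff_specializes _ _).2 h2)
    have hgen : ∀ C ∈ irreducibleComponents (V : Scheme.{u}), z ∈ C →
        ∃ g, IsGenericPoint g C ∧ g ⤳ z ∧ ∀ g', g' ⤳ g → g ⤳ g' := by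
      intro C hC hzC
      have h := hC.1.isGenericPoint_genericPoint_closure
      rw [(isClosed_of_mem_irreducibleComponents C hC).closure_eq] at h
      refine ⟨_, h, h.specializes hzC, fun g' hg' => ?_⟩
      have h1 : C ⊆ closure {g'} := by
        rw [← h.def]
        exact closure_minimal (Set.singleton_subset_iff.2 (specializes_iff_mem_closure.1 hg')) isClosed_closure
      exact h.specializes (hC.2 isIrreducible_singleton.closure h1 (subset_closure rfl))
    obtain ⟨a, ha, haz, hamax⟩ := hgen A hA hzA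
    obtain ⟨b, hb, hbz, hbmax⟩ := hgen B hB hzB
    obtain ⟨qa, hqa, ea⟩ := hmin a haz hamax
    obtain ⟨qb, hqb, eb⟩ := hmin b hbz hbmax
    rw [← ha.def, ← hb.def, ← hqa, ← hqb, PrimeSpectrum.ext (ea.trans eb.symm)]
  let W' : (V : Scheme.{u}).Opens := ⟨T, by
    refine isClosed_compl_iff.1 ?_
    rw [show (Tᶜ : Set (V : Scheme.{u})) = ⋃₀ (irreducibleComponents (V : Scheme.{u}) \ {T}) from
      Set.ext fun z => ⟨fun hz => ⟨irreducibleComponent z,
        ⟨irreducibleComponent_mem_irreducibleComponents z,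
          fun e => hz ((Set.mem_singleton_iff.1 e) ▸ mem_irreducibleComponent)⟩, mem_irreducibleComponent⟩,
        fun ⟨C, ⟨hC, hne⟩, hzC⟩ hzT => hne (huniq z C T hC hT hzC hzT)⟩, Set.sUnion_eq_biUnion]
    exact (hfin.subset Set.sdiff_subset).isClosed_biUnion fun C hC =>
      isClosed_of_mem_irreducibleComponents C hC.1⟩
  let U : Y.Opens := V.ι ''ᵁ W'
  refine ⟨U, ⟨⟨y, hyV⟩, mem_irreducibleComponent, rfl⟩, ?_⟩
  have : IsReduced Y := by
    have : ∀ x : Y, _root_.IsReduced (Y.presheaf.stalk x) := fun x => by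
      have := hdom x
      infer_instance
    exact isReduced_of_isReduced_stalk Y
  have : IsReduced (U : Scheme.{u}) := isReduced_of_isOpenImmersion U.ι
  have hirr : IsIrreducible (U : Set Y) := by
    show IsIrreducible (V.ι '' T)
    exact hT.1.image _ V.ι.continuous.continuousOn
  have : Nonempty (U : Scheme.{u}) := ⟨⟨y, ⟨y, hyV⟩, mem_irreducibleComponent, rfl⟩⟩
  have : PreirreducibleSpace (U : Scheme.{u}) :=
    Subtype.preirreducibleSpace hirr.isPreirreducible
  have : IrreducibleSpace (U : Scheme.{u}) := ⟨inferInstance⟩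
  exact isIntegral_of_irreducibleSpace_of_isReduced _

end Groth.Agent.S4647
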