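import Groth.Statements.S4648
import Groth.Agent.S2493
import Groth.Agent.S2495
import Groth.Agent.Lib.ProCons45.Basic

set_option autoImplicit false
universe u
open CategoryTheory AlgebraicGeometry
open FDesc

namespace Groth.Agent.S4648

open Groth.Agent.Lib

theorem result {X Y : Scheme.{u}} (f : X ⟶ Y)
    (hf : FDesc.IsQuasiFlat f) [Surjective f] [QuasiCompact f] (Z : Set ↥Y) :
    (IsLocallyClosed Z ∧ ProCons.IsProConstructible Z) ↔
      (IsLocallyClosed (⇑f ⁻¹' Z) ∧ ProCons.IsProConstructible (⇑f ⁻¹' Z)) := by
  constructor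
  · rintro ⟨h1, h2⟩
    exact ⟨h1.preimage f.continuous, Subtrusive.ProConstructible.isProConstructible_preimage f h2⟩
  · rintro ⟨h1, h2⟩
    have hpc : ProCons.IsProConstructible Z := by
      rw [ProCons45.Basic.isProConstructible_iff_isPC] at h2 ⊢
      rw [← Set.image_preimage_eq Z f.surjective]
      exact ProCons45.Basic.isPC_image f h2
    refine ⟨?_, hpc⟩
    have hcl : ⇑f ⁻¹' closure Z = closure (⇑f ⁻¹' Z) := by
      refine Set.Subset.antisymm (fun x hx => ?_) (f.continuous.closure_preimage_subset Z)
      obtain ⟨z, hz, hzx⟩ := Subtrusive.ProConstructible.exists_generization_of_isProConstructible hpc hx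
      obtain ⟨x', hx', rfl⟩ := Groth.Agent.S2493.result f hf hzx
      exact hx'.mem_closed isClosed_closure (subset_closure hz)
    rw [isLocallyClosed_iff_isOpen_coborder, coborder] at h1 ⊢
    refine (Groth.Agent.S2495.result f hf).isOpen_preimage.1 ?_
    rw [Set.preimage_compl, Set.preimage_diff, hcl]
    exact h1

end Groth.Agent.S4648
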