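import Groth.Statements.S4650
import Mathlib.AlgebraicGeometry.Properties

set_option autoImplicit false
open CategoryTheory AlgebraicGeometry
universe u
open FDesc

namespace Groth.Agent.S4650

/-- Let f : X → Y be a morphism of schemes along which generizations lift (this holds for flat,
quasi-flat or open morphisms). Then every irreducible component of X dominates an irreducible
component of Y: the closure of its image is an irreducible component of Y. -/
theorem result {X Y : Scheme.{u}} (f : X ⟶ Y)
    (hf : GeneralizingMap ⇑f) (T : Set ↥X) (hT : T ∈ irreducibleComponents ↥X) :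
    closure (⇑f '' T) ∈ irreducibleComponents ↥Y := by
  refine ⟨(hT.1.image _ f.continuous.continuousOn).closure, fun W hW hle => ?_⟩
  have hcl := isClosed_of_mem_irreducibleComponents T hT
  have ht := hT.1.isGenericPoint_genericPoint hcl
  set t := hT.1.genericPoint with htdef
  have hw := hW.isGenericPoint_genericPoint_closure
  have hft : f t ∈ closure W := subset_closure (hle (subset_closure ⟨t, ht.mem, rfl⟩))
  obtain ⟨x', hx', hfx'⟩ := hf (hw.specializes hft)
  have hsub : T ⊆ closure {x'} := by
    rw [← ht.def]
    exact closure_minimal (Set.singleton_subset_iff.mpr hx'.mem_closure) isClosed_closure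
  have hx'T : x' ∈ T := hT.2 isIrreducible_singleton.closure hsub (subset_closure rfl)
  intro z hz
  have hz' : z ∈ closure ({hW.genericPoint} : Set Y) := by rw [hw.def]; exact subset_closure hz
  have hm : hW.genericPoint ∈ f '' T := ⟨x', hx'T, hfx'⟩
  exact closure_mono (Set.singleton_subset_iff.mpr hm) hz'

end Groth.Agent.S4650
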