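import Groth.Statements.S4651
import Mathlib.AlgebraicGeometry.Properties

set_option autoImplicit false
open CategoryTheory AlgebraicGeometry
universe u
open FDesc

namespace Groth.Agent.S4651

/-- Let Y be a scheme whose family of irreducible components is locally finite (every point has an open
neighbourhood meeting only finitely many irreducible components), and let f : X → Y be a morphism
along which generizations lift (e.g. flat, quasi-flat or open) such that every fibre f⁻¹(y) is a
finite set (e.g. f quasi-finite or radicial). Then the family of irreducible components of X is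
locally finite. -/
theorem result {X Y : Scheme.{u}} (f : X ⟶ Y)
    (hY : ∀ y : Y, ∃ U : Set ↥Y, IsOpen U ∧ y ∈ U ∧ {Z ∈ irreducibleComponents ↥Y | (Z ∩ U).Nonempty}.Finite)
    (hf : GeneralizingMap ⇑f) (hfin : ∀ y : Y, (⇑f ⁻¹' {y}).Finite) (x : X) :
    ∃ U : Set ↥X, IsOpen U ∧ x ∈ U ∧ {T ∈ irreducibleComponents ↥X | (T ∩ U).Nonempty}.Finite := by
  classical
  obtain ⟨U, hU, hxU, hfinU⟩ := hY (f x)
  refine ⟨f ⁻¹' U, hU.preimage f.continuous, hxU, ?_⟩
  let S := {T ∈ irreducibleComponents ↥X | (T ∩ f ⁻¹' U).Nonempty}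
  let gp : irreducibleComponents ↥X → X := fun T => T.2.1.genericPoint
  let wp : irreducibleComponents ↥Y → Y := fun W => W.2.1.genericPoint
  have hgp : ∀ T : irreducibleComponents ↥X, IsGenericPoint (gp T) (T : Set X) :=
    fun T => T.2.1.isGenericPoint_genericPoint (isClosed_of_mem_irreducibleComponents _ T.2)
  have key : ∀ T ∈ S, ∃ t, T = closure {t} ∧ t ∈ ⋃ W ∈ {Z ∈ irreducibleComponents ↥Y | (Z ∩ U).Nonempty},
      f ⁻¹' {y | IsGenericPoint y W} := by
    rintro T ⟨hT, a, haT, haU⟩
    have hg := hgp ⟨T, hT⟩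
    refine ⟨gp ⟨T, hT⟩, hg.def.symm, ?_⟩
    set t := gp ⟨T, hT⟩
    have hft : f t ∈ U := hU.stableUnderGeneralization ((hg.specializes haT).map f.continuous) haU
    obtain ⟨W, hW, htW⟩ : ∃ W ∈ irreducibleComponents ↥Y, f t ∈ W :=
      ⟨_, irreducibleComponent_mem_irreducibleComponents (f t), mem_irreducibleComponent⟩
    refine Set.mem_iUnion₂.mpr ⟨W, ⟨hW, ⟨f t, htW, hft⟩⟩, ?_⟩
    have hw := hW.1.isGenericPoint_genericPoint (isClosed_of_mem_irreducibleComponents _ hW)
    obtain ⟨x', hx', hfx'⟩ := hf (hw.specializes htW)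
    have hsub : T ⊆ closure {x'} := by
      rw [show T = closure {t} from hg.def.symm]
      exact closure_minimal (Set.singleton_subset_iff.mpr hx'.mem_closure) isClosed_closure
    have hx'T : x' ∈ T := hT.2 isIrreducible_singleton.closure hsub (subset_closure rfl)
    have : x' = t := (hx'.antisymm (hg.specializes hx'T)).eq
    subst this
    simpa [hfx'] using hw
  have hF : (⋃ W ∈ {Z ∈ irreducibleComponents ↥Y | (Z ∩ U).Nonempty},
      f ⁻¹' {y | IsGenericPoint y W}).Finite := by
    refine hfinU.biUnion fun W hW => ?_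
    have hw := hW.1.1.isGenericPoint_genericPoint (isClosed_of_mem_irreducibleComponents _ hW.1)
    refine (hfin hW.1.1.genericPoint).subset ?_
    intro a ha
    exact IsGenericPoint.eq ha hw
  refine (hF.image fun t => closure ({t} : Set X)).subset ?_
  intro T hT
  obtain ⟨t, rfl, ht⟩ := key T hT
  exact ⟨t, ht, rfl⟩

end Groth.Agent.S4651
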