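import Groth.Statements.S4652
import Groth.Agent.Lib.TensorMod.FPConv

set_option autoImplicit false
open CategoryTheory AlgebraicGeometry
universe u
open Groth.Agent.Lib Groth.Agent.Lib.TensorMod
open FDesc

namespace Groth.Agent.S4652

/-- Let X be a scheme, F a finitely presented O_X-module and x a point of X. Then F_x is a flat module
over the local ring O_{X,x} if and only if x has an open neighbourhood U such that the restriction
of F to U is finite locally free. -/
theorem result {X : Scheme.{u}} (F : X.Modules) (hF : CohB1.IsFP F) (x : X) :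
    FlatMod.IsFlatAt F x ↔ ∃ U : X.Opens, x ∈ U ∧ FlatMod.IsFinLocFree ((Scheme.Modules.pullback U.ι).obj F) := by
  have : SheafOfModules.IsFinitePresentation (R := X.ringCatSheaf) F := hF
  constructor
  · intro hflat
    obtain ⟨U, hU, hxU, hFP⟩ := FPCrit.exists_affine_finitePresentation F x
    have : IsAffine (U : Scheme.{u}) := hU
    have := hFP
    obtain ⟨σ, -⟩ := SheafOfModules.IsFinitePresentation.exists_quasicoherentData
      (show SheafOfModules X.ringCatSheaf from F)
    have hMq : F.IsQuasicoherent :=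
      SheafOfModules.IsQuasicoherent.mk (C := X.Opens) (R := X.ringCatSheaf) (M := F) ⟨σ⟩
    have : (F.restrict U.ι).IsQuasicoherent :=
      have := QCoh.Pullback.isQCoh_pullback U.ι F
      (SheafOfModules.isQuasicoherent (R := (U : Scheme.{u}).ringCatSheaf)).prop_of_iso
        ((Scheme.Modules.restrictFunctorIsoPullback U.ι).app F).symm ‹_›
    let y : (U : Scheme.{u}) := ⟨x, hxU⟩
    have : Module.Flat (X.presheaf.stalk (U.ι y)) (F.presheaf.stalk (U.ι y)) := hflat
    have := Modules.GenStalk.finite_stalk F (U.ι y)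
    have : Module.Free (X.presheaf.stalk (U.ι y)) (F.presheaf.stalk (U.ι y)) := Module.free_of_flat_of_isLocalRing
    have := FPCrit.free_stalk_restrict U.ι F y
    have : SheafOfModules.IsFiniteType (R := (U : Scheme.{u}).ringCatSheaf) (F.restrict U.ι) :=
      CohBasics.Affine.isFiniteType_of_finite_sections fun z =>
        ⟨⊤, isAffineOpen_top _, trivial, inferInstance⟩
    have := Modules.GenStalk.finite_stalk (F.restrict U.ι) y
    obtain ⟨W, n, hy, ⟨i⟩⟩ := FPCrit.exists_free_nhd (M := F.restrict U.ι) (isAffineOpen_top _) (x := y) trivial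
    obtain ⟨e, he⟩ := Basis.exists_basis_of_iso i
    obtain ⟨e', he'⟩ := TensorInv.exists_basis_image W he
    obtain ⟨j⟩ := Basis.exists_iso_of_basis he'
    exact ⟨U.ι ''ᵁ W, ⟨y, hy, rfl⟩, fun z => ⟨⊤, n, trivial,
      ⟨(Scheme.Modules.restrictFunctor _).mapIso
        (((Scheme.Modules.restrictFunctorIsoPullback (U.ι ''ᵁ W).ι).app F).symm ≪≫ j) ≪≫
        LocFree.restrictFreeModIso _ n⟩⟩⟩
  · rintro ⟨U, hxU, hfree⟩
    let y : (U : Scheme.{u}) := ⟨x, hxU⟩
    have := FPConv.free_stalk_of_isFinLocFree hfree y
    have : Module.Free ((U : Scheme.{u}).presheaf.stalk y) ((F.restrict U.ι).presheaf.stalk y) :=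
      Module.Free.of_equiv (Modules.StalkModule.stalkLinearEquiv
        ((Scheme.Modules.restrictFunctorIsoPullback U.ι).app F).symm y)
    have := FPConv.free_stalk_of_restrict U.ι F y
    exact inferInstanceAs (Module.Flat (X.presheaf.stalk (U.ι y)) (F.presheaf.stalk (U.ι y)))

end Groth.Agent.S4652
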