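import Groth.Statements.S4654
import Groth.Agent.S6304
import Groth.Agent.Lib.Modules.Stalk
import Groth.Agent.Lib.Modules.StalkModule

set_option autoImplicit false
open CategoryTheory AlgebraicGeometry
universe u
open FDesc

namespace Groth.Agent.S4654

/-- Let f : X → Y be a morphism of schemes and 0 → F' → F → F'' → 0 a short exact sequence of
quasi-coherent O_X-modules such that F'' is flat over Y. Then F is flat over Y if and only if F' is
flat over Y. -/
theorem result {X Y : Scheme.{u}} (f : X ⟶ Y) (S : ShortComplex X.Modules)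
    (hS : S.ShortExact) (h₁ : Coh.IsQCoh S.X₁) (h₂ : Coh.IsQCoh S.X₂) (h₃ : Coh.IsQCoh S.X₃)
    (hflat : FlatMod.IsFlatOver f S.X₃) :
    FlatMod.IsFlatOver f S.X₂ ↔ FlatMod.IsFlatOver f S.X₁ := by
  have key : ∀ x : X, FlatMod.IsFlatOverAt f S.X₂ x ↔ FlatMod.IsFlatOverAt f S.X₁ x := by
    intro x
    have hx := (Groth.Agent.Lib.Modules.Stalk.shortExact_iff_stalk S).mp hS x
    let R := Y.presheaf.stalk (f x)
    let _ : Module R (S.X₁.presheaf.stalk x) := FlatMod.moduleStalkOver f S.X₁ x
    let _ : Module R (S.X₂.presheaf.stalk x) := FlatMod.moduleStalkOver f S.X₂ x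
    let _ : Module R (S.X₃.presheaf.stalk x) := FlatMod.moduleStalkOver f S.X₃ x
    have : Module.Flat R (S.X₃.presheaf.stalk x) := hflat x
    let a : S.X₁.presheaf.stalk x →ₗ[R] S.X₂.presheaf.stalk x :=
      { toFun := Groth.Agent.Lib.Modules.StalkModule.stalkMapₗ S.f x
        map_add' := map_add _
        map_smul' := fun r z => map_smul _ ((f.stalkMap x).hom r) z }
    let b : S.X₂.presheaf.stalk x →ₗ[R] S.X₃.presheaf.stalk x :=
      { toFun := Groth.Agent.Lib.Modules.StalkModule.stalkMapₗ S.g x
        map_add' := map_add _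
        map_smul' := fun r z => map_smul _ ((f.stalkMap x).hom r) z }
    obtain ⟨h12, h21⟩ := Groth.Agent.S6304.result a b ((AddCommGrpCat.mono_iff_injective _).mp hx.mono_f)
      ((ShortComplex.ab_exact_iff_function_exact _).mp hx.exact)
      ((AddCommGrpCat.epi_iff_surjective _).mp hx.epi_g)
    exact ⟨h21, h12⟩
  exact forall_congr' key

end Groth.Agent.S4654
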