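import Groth.Statements.S4656
import Mathlib.RingTheory.RingHom.Flat
import Mathlib.AlgebraicGeometry.Morphisms.Flat
import Mathlib.RingTheory.Flat.FaithfullyFlat.Algebra

set_option autoImplicit false
open CategoryTheory AlgebraicGeometry
universe u
open FDesc

namespace Groth.Agent.S4656

open TensorProduct in
theorem of_comp_flat {A B C : Type u} [CommRing A] [CommRing B] [CommRing C] [IsLocalRing B]
    [IsLocalRing C] (φ : A →+* B) (ψ : B →+* C) [IsLocalHom ψ] (hψ : ψ.Flat) (h : (ψ.comp φ).Flat) :
    φ.Flat := by
  algebraize [φ, ψ, ψ.comp φ]
  have : Module.FaithfullyFlat B C := .of_flat_of_isLocalHom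
  show Module.Flat A B
  rw [Module.Flat.iff_lTensor_preserves_injective_linearMap]
  intro N N' _ _ _ _ u hu
  let uB : B ⊗[A] N →ₗ[B] B ⊗[A] N' := u.baseChange B
  have h1 : Function.Injective (u.lTensor C) := Module.Flat.lTensor_preserves_injective_linearMap u hu
  have h2 : Function.Injective (uB.lTensor C) := by
    have key : ∀ z, AlgebraTensorModule.cancelBaseChange A B B C N' (uB.lTensor C z) =
        u.lTensor C (AlgebraTensorModule.cancelBaseChange A B B C N z) := by
      intro z
      induction z with
      | zero => simp
      | add a b ha hb => simp [ha, hb]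
      | tmul c w =>
        induction w with
        | zero => simp
        | add a b ha hb => simp only [tmul_add, map_add, ha, hb]
        | tmul b n => simp [uB]
    intro a b hab
    apply (AlgebraTensorModule.cancelBaseChange A B B C N).injective
    apply h1
    rw [← key, ← key, hab]
  exact (Module.FaithfullyFlat.lTensor_injective_iff_injective B C uB).mp h2


/-- Let f : X → Y and g : Y → Z be morphisms of schemes and x a point of X at which f is flat (the local
ring of X at x is flat over that of Y at f(x)). Then the composite g ∘ f is flat at x if and only if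
g is flat at f(x). -/
theorem result {X Y Z : Scheme.{u}} (f : X ⟶ Y) (g : Y ⟶ Z) (x : X)
    (hf : (f.stalkMap x).hom.Flat) :
    ((f ≫ g).stalkMap x).hom.Flat ↔ (g.stalkMap (f x)).hom.Flat := by
  rw [Scheme.Hom.stalkMap_comp]
  change (RingHom.comp (f.stalkMap x).hom (g.stalkMap (f x)).hom).Flat ↔ _
  refine ⟨fun h => ?_, fun h => h.comp hf⟩
  exact of_comp_flat _ _ hf h

end Groth.Agent.S4656
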