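import Groth.Statements.S4665
import Groth.Agent.H52.FBase.Descend

set_option autoImplicit false
open CategoryTheory AlgebraicGeometry
universe u
open Groth.Agent.H52.FBase
open FBase

namespace Groth.Agent.S4665

open CategoryTheory.Limits in
/-- Let f : X → Y and g : Y' → Y be morphisms of schemes with g surjective, and let f' : X ×_Y Y' → Y'
be the base change of f. Say that a morphism has geometrically connected fibres when, for every
field K and every morphism from Spec K to its target, the base change to Spec K is empty or
connected (so an empty fibre counts as geometrically connected). If f' has geometrically connected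
fibres in this sense, then so has f. -/
theorem result {X Y Y' : Scheme.{u}} (f : X ⟶ Y)
    (g : Y' ⟶ Y) [Surjective g]
    (h : geometrically (fun Z : Scheme.{u} => IsEmpty ↥Z ∨ ConnectedSpace ↥Z) (pullback.snd f g)) :
    geometrically (fun Z : Scheme.{u} => IsEmpty ↥Z ∨ ConnectedSpace ↥Z) f := by
  have : ObjectProperty.IsClosedUnderIsomorphisms (fun Z : Scheme.{u} => IsEmpty ↥Z ∨ ConnectedSpace ↥Z) :=
    ⟨fun e hZ => hZ.imp (fun h => ⟨fun z => h.false (e.inv z)⟩)
      (fun h => Descend.connectedSpace_of_surjective e.hom h)⟩
  exact Descend.geometrically_of_surjective (fun p _ _ hp => hp.imp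
    (fun h => ⟨fun z => h.false (p.surjective z).choose⟩)
    (fun h => Descend.connectedSpace_of_surjective p h)) f g h

end Groth.Agent.S4665
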