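import Groth.Statements.S4674
import Mathlib.RingTheory.Flat.Basic
import Mathlib.LinearAlgebra.TensorProduct.Pi
import Mathlib.RingTheory.Finiteness.Cardinality

set_option autoImplicit false
open scoped TensorProduct
universe u v w
open FDesc

namespace Groth.Agent.S4674

/-- Let B be a flat A-algebra and M a finitely presented A-module. Then the annihilator of the B-module
B ⊗_A M is the ideal of B generated by the image of the annihilator of M. -/
theorem result {A : Type u} {B : Type v} [CommRing A] [CommRing B] [Algebra A B]
    [Module.Flat A B] (M : Type w) [AddCommGroup M] [Module A M] [Module.FinitePresentation A M] :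
    Module.annihilator B (B ⊗[A] M) = (Module.annihilator A M).map (algebraMap A B) := by
  obtain ⟨n, s, hs⟩ := Module.Finite.exists_fin (R := A) (M := M)
  let φ : A →ₗ[A] (Fin n → M) := LinearMap.pi fun i => LinearMap.toSpanSingleton A M (s i)
  apply le_antisymm
  · intro b hb
    rw [Module.mem_annihilator] at hb
    have hex : Function.Exact ((Module.annihilator A M).subtype) φ := by
      intro a
      constructor
      · intro ha
        refine ⟨⟨a, ?_⟩, rfl⟩
        rw [← Submodule.annihilator_top, ← hs, Submodule.mem_annihilator_span]
        rintro ⟨_, i, rfl⟩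
        exact congrFun ha i
      · rintro ⟨⟨a, ha⟩, rfl⟩
        ext i
        exact Module.mem_annihilator.mp ha (s i)
    have hφ : φ.lTensor B (b ⊗ₜ 1) = 0 := by
      apply (TensorProduct.piRight A A B (fun _ : Fin n => M)).injective
      ext i
      have := hb ((1 : B) ⊗ₜ s i)
      rw [TensorProduct.smul_tmul', smul_eq_mul, mul_one] at this
      simpa [φ] using this
    obtain ⟨t, ht⟩ := (Module.Flat.lTensor_exact B hex _).mp hφ
    have hb' : b = TensorProduct.rid A B ((Module.annihilator A M).subtype.lTensor B t) := by
      simp [ht]
    rw [hb']
    clear ht hb'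
    induction t with
    | zero => simp
    | add x y hx hy => rw [map_add, map_add]; exact add_mem hx hy
    | tmul c a =>
      simp only [LinearMap.lTensor_tmul, Submodule.coe_subtype, TensorProduct.rid_tmul, Algebra.smul_def]
      exact Ideal.mul_mem_right _ _ (Ideal.mem_map_of_mem _ a.2)
  · rw [Ideal.map_le_iff_le_comap]
    intro a ha
    rw [Ideal.mem_comap, Module.mem_annihilator]
    intro z
    induction z with
    | zero => simp
    | add x y hx hy => rw [smul_add, hx, hy, add_zero]
    | tmul c m =>
      rw [algebraMap_smul, ← TensorProduct.tmul_smul, Module.mem_annihilator.mp ha m, TensorProduct.tmul_zero]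

end Groth.Agent.S4674
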