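import Groth.Statements.S4675
import Mathlib.Algebra.Module.Submodule.Equiv

set_option autoImplicit false
universe u v
open FDesc

namespace Groth.Agent.S4675

/-- Let B be a ring, not necessarily commutative, and V, W two left B-modules which are isomorphic. For
a B-linear map u : V → W the following are equivalent: every B-linear map V → W can be written
uniquely as u ∘ c with c a B-linear endomorphism of V (that is, u is a basis of Hom_B(V, W) for its
right module structure over End_B(V)); u is bijective. -/
theorem result {B : Type u} [Ring B] {V W : Type v} [AddCommGroup V] [AddCommGroup W]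
    [Module B V] [Module B W] (e : V ≃ₗ[B] W) (u : V →ₗ[B] W) :
    (∀ v : V →ₗ[B] W, ∃! c : V →ₗ[B] V, v = u ∘ₗ c) ↔ Function.Bijective u := by
  constructor
  · intro h
    obtain ⟨c, hc, -⟩ := h e.toLinearMap
    have hsurj : Function.Surjective u := fun w => by
      obtain ⟨v, rfl⟩ := e.surjective w
      exact ⟨c v, (LinearMap.congr_fun hc v).symm⟩
    refine ⟨?_, hsurj⟩
    obtain ⟨d, -, hd⟩ := h u
    have hid : LinearMap.id = d := hd _ rfl
    have h2 : c ∘ₗ e.symm.toLinearMap ∘ₗ u = d := hd _ (by
      ext v
      have := LinearMap.congr_fun hc (e.symm (u v))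
      simpa using this)
    intro a b hab
    have ha := LinearMap.congr_fun (h2.trans hid.symm) a
    have hb := LinearMap.congr_fun (h2.trans hid.symm) b
    simp only [LinearMap.comp_apply, LinearMap.id_apply] at ha hb
    rw [← ha, ← hb, hab]
  · intro h v
    let ue := LinearEquiv.ofBijective u h
    refine ⟨ue.symm.toLinearMap ∘ₗ v, ?_, ?_⟩
    · ext x
      exact (ue.apply_symm_apply (v x)).symm
    · rintro c rfl
      ext x
      exact (ue.symm_apply_apply (c x)).symm

end Groth.Agent.S4675
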