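import Groth.Statements.S4682
import Groth.Agent.H75.RedKer
import Groth.Agent.H75.RedSub
import Groth.Agent.H52.FBase.ReducedProd

set_option autoImplicit false
open CategoryTheory AlgebraicGeometry
universe u
open FBase

namespace Groth.Agent.S4682

/-- Let Y be a scheme over a field K', let K be an extension field of K' which is separable over K'
(Spec K → Spec K' is geometrically reduced), let g : Y ⊗_{K'} K → Y be the projection and T a closed
subset of Y ⊗_{K'} K. Then T is defined over K' as a closed subset, that is T = g⁻¹(T') for some
closed subset T' of Y, if and only if the reduced closed subscheme of Y ⊗_{K'} K with support T is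
defined over K', that is, there is a quasi-coherent ideal sheaf of O_Y whose inverse image in Y
⊗_{K'} K is the vanishing ideal sheaf of T. -/
theorem result {K' K : Type u} [Field K'] [Field K] [Algebra K' K]
    {Y : Scheme.{u}} (fY : Y ⟶ Spec (CommRingCat.of K'))
    [GeometricallyReduced (Spec.map (CommRingCat.ofHom (algebraMap K' K)))]
    (T : TopologicalSpace.Closeds ↥(FBase.bc fY K)) :
    (∃ T' : TopologicalSpace.Closeds ↥Y, (T : Set ↥(FBase.bc fY K)) = ⇑(FBase.bcπ fY K) ⁻¹' (T' : Set ↥Y)) ↔
      ∃ J : Y.IdealSheafData, J.comap (FBase.bcπ fY K) = Scheme.IdealSheafData.vanishingIdeal T := by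
  constructor
  · rintro ⟨T', hT⟩
    refine ⟨Scheme.IdealSheafData.vanishingIdeal T', ?_⟩
    let I := Scheme.IdealSheafData.vanishingIdeal T'
    have : AlgebraicGeometry.IsReduced I.subscheme := Groth.Agent.H75.RedSub.isReduced_vanishingIdeal T'
    let σ := Spec.map (CommRingCat.ofHom (algebraMap K' K))
    have : GeometricallyReduced σ := ‹_›
    have := Groth.Agent.H52.FBase.ReducedProd.isReduced_pullback σ (I.subschemeι ≫ fY)
    have := isReduced_of_isOpenImmersion (Limits.pullbackSymmetry (I.subschemeι ≫ fY) σ).hom
    have := isReduced_of_isOpenImmersion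
      (Limits.pullbackRightPullbackFstIso fY σ I.subschemeι).hom
    have : AlgebraicGeometry.IsReduced
        (Limits.pullback (Limits.pullback.fst fY σ) I.subschemeι) :=
      isReduced_of_isOpenImmersion (Limits.pullbackSymmetry (Limits.pullback.fst fY σ) I.subschemeι).hom
    show (Limits.pullback.fst (Limits.pullback.fst fY σ) I.subschemeι).ker = _
    rw [Groth.Agent.H75.RedKer.ker_eq_vanishingIdeal]
    congr 1
    apply TopologicalSpace.Closeds.ext
    show closure (Set.range (Limits.pullback.fst (Limits.pullback.fst fY σ) I.subschemeι)) = (T : Set ↥(FBase.bc fY K))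
    rw [Scheme.Pullback.range_fst, Scheme.IdealSheafData.range_subschemeι,
      Scheme.IdealSheafData.coe_support_vanishingIdeal, hT]
    exact (T'.isClosed.preimage (FBase.bcπ fY K).continuous).closure_eq
  · rintro ⟨J, hJ⟩
    refine ⟨J.support, ?_⟩
    have := congrArg (fun I : (FBase.bc fY K).IdealSheafData => (I.support : Set ↥(FBase.bc fY K))) hJ
    simp only [Scheme.IdealSheafData.support_comap, Scheme.IdealSheafData.coe_support_vanishingIdeal] at this
    exact this.symm

end Groth.Agent.S4682
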