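import Groth.Statements.S4693
import Groth.Agent.S2598
import Mathlib.RingTheory.Ideal.KrullsHeightTheorem
import Mathlib.RingTheory.KrullDimension.Module

set_option autoImplicit false
set_option linter.style.haveILetI false
universe u
open EGA4

namespace Groth.Agent.S4693

/-- Let A → B be a local homomorphism of Noetherian local rings such that the closed fibre ring B/m_A B
has Krull dimension 0 (that is, m_A B is an ideal of definition of B). Then dim B ≤ dim A. If
moreover some finite B-module which is flat over A has support equal to all of Spec B (for instance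
if B is flat over A), then dim B = dim A. -/
theorem result (A B : Type u) [CommRing A] [CommRing B] [IsNoetherianRing A]
    [IsNoetherianRing B] [IsLocalRing A] [IsLocalRing B] [Algebra A B] [IsLocalHom (algebraMap A B)]
    (h0 : ringKrullDim (EGA4.FibRing A B) = 0) :
    ringKrullDim B ≤ ringKrullDim A ∧
      (∀ (N : Type u) [AddCommGroup N] [Module B N] [Module A N] [IsScalarTower A B N] [Module.Finite B N]
          [Module.Flat A N], Module.support B N = Set.univ → ringKrullDim B = ringKrullDim A) := by
  have hle : ringKrullDim B ≤ ringKrullDim A := by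
    haveI : (IsLocalRing.maximalIdeal B).LiesOver (IsLocalRing.maximalIdeal A) :=
      ⟨(((IsLocalRing.local_hom_TFAE (algebraMap A B)).out 0 4 rfl rfl).1 inferInstance).symm⟩
    have h1 := Ideal.height_le_height_add_of_liesOver (IsLocalRing.maximalIdeal A) (IsLocalRing.maximalIdeal B)
    have hprime : ((IsLocalRing.maximalIdeal B).map
        (Ideal.Quotient.mk ((IsLocalRing.maximalIdeal A).map (algebraMap A B)))).IsPrime :=
      Ideal.map_isPrime_of_surjective Ideal.Quotient.mk_surjective
        (by rw [Ideal.mk_ker]; exact IsLocalRing.map_maximalIdeal_le _)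
    have h2 : ((IsLocalRing.maximalIdeal B).map
        (Ideal.Quotient.mk ((IsLocalRing.maximalIdeal A).map (algebraMap A B)))).height = 0 := by
      have h3 := Ideal.height_le_ringKrullDim_of_ne_top hprime.ne_top
      rw [show ringKrullDim (B ⧸ (IsLocalRing.maximalIdeal A).map (algebraMap A B)) = 0 from h0] at h3
      exact nonpos_iff_eq_zero.1 (WithBot.coe_le_coe.1 h3)
    rw [h2, add_zero] at h1
    rw [← IsLocalRing.maximalIdeal_height_eq_ringKrullDim, ← IsLocalRing.maximalIdeal_height_eq_ringKrullDim]
    exact WithBot.coe_le_coe.2 h1
  refine ⟨hle, fun N _ _ _ _ _ _ hN => ?_⟩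
  haveI : Nontrivial N := by
    have hm : (⟨IsLocalRing.maximalIdeal B, inferInstance⟩ : PrimeSpectrum B) ∈ Module.support B N := by
      rw [hN]; exact Set.mem_univ _
    by_contra hn
    rw [not_nontrivial_iff_subsingleton] at hn
    rw [Module.support_eq_empty] at hm
    exact hm
  have h1 := Groth.Agent.S2598.result A B A N
  rw [Module.supportDim_eq_of_equiv ((TensorProduct.AlgebraTensorModule.rid A B N)),
    Module.supportDim_self_eq_ringKrullDim,
    Module.supportDim, hN] at h1
  have h2 : Module.supportDim B (EGA4.FibMod A B N) = 0 := by
    refine le_antisymm ?_ ?_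
    · rw [← h0, ← Module.supportDim_quotient_eq_ringKrullDim]
      refine Order.krullDim_le_of_strictMono
        (fun q => (⟨q.1, by
          obtain ⟨r, hq⟩ := q
          rw [Module.support_quotient] at hq
          rw [Module.mem_support_iff_of_finite, Ideal.annihilator_quotient]
          exact hq.2⟩ : Module.support B (B ⧸ EGA4.mB A B))) ?_
      exact fun _ _ h => h
    · have hq : (⟨IsLocalRing.maximalIdeal B, inferInstance⟩ : PrimeSpectrum B) ∈
          Module.support B (EGA4.FibMod A B N) := by
        rw [Module.support_quotient, hN]
        exact ⟨Set.mem_univ _, IsLocalRing.map_maximalIdeal_le (algebraMap A B)⟩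
      haveI : Nonempty (Module.support B (EGA4.FibMod A B N)) := ⟨⟨_, hq⟩⟩
      exact Order.krullDim_nonneg
  rw [h2, add_zero] at h1
  rw [← h1, ringKrullDim]
  exact (Order.krullDim_eq_of_orderIso OrderIso.Set.univ).symm

end Groth.Agent.S4693
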