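import Groth.Statements.S4694
import Groth.Agent.H22.DepthTensor
import Mathlib

set_option autoImplicit false
universe u
open EGA4

namespace Groth.Agent.S4694

open TensorProduct in
/-- Let A → B be a local homomorphism of Noetherian local rings, M a finite A-module and N a nonzero
finite B-module, flat over A, whose closed-fibre module N/m_A N has finite length. Then the depth of
the B-module N ⊗_A M equals the depth of the A-module M. (The companion equality of codepths in the
published item is not restated.) -/
theorem result {A B M N : Type u} [CommRing A] [CommRing B]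
    [IsNoetherianRing A] [IsNoetherianRing B] [IsLocalRing A] [IsLocalRing B] [Algebra A B]
    [IsLocalHom (algebraMap A B)] [AddCommGroup M] [Module A M] [Module.Finite A M]
    [AddCommGroup N] [Module B N] [Module A N] [IsScalarTower A B N] [Module.Finite B N] [Nontrivial N]
    [Module.Flat A N] (hN : IsFiniteLength B (EGA4.FibMod A B N)) :
    LocCoh.depth B (N ⊗[A] M) = LocCoh.depth A M := by
  haveI : Nontrivial (N ⧸ H22.DepthTensor.mS A B • (⊤ : Submodule B N)) := H22.DepthTensor.nontrivial_fibre
  have h0 : LocCoh.depth B (N ⧸ H22.DepthTensor.mS A B • (⊤ : Submodule B N)) = 0 := by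
    rw [Groth.Agent.Lib.Depth.Assoc.depth_eq_zero_iff]
    obtain ⟨p, hp⟩ := associatedPrimes.nonempty B (N ⧸ H22.DepthTensor.mS A B • (⊤ : Submodule B N))
    haveI : IsArtinian B (N ⧸ H22.DepthTensor.mS A B • (⊤ : Submodule B N)) :=
      (isFiniteLength_iff_isNoetherian_isArtinian.1 hN).2
    haveI := IsAssociatedPrime.isPrime hp
    suffices p.IsMaximal by rwa [← IsLocalRing.eq_maximalIdeal this]
    obtain ⟨-, x, hx⟩ := isAssociatedPrime_iff.1 hp
    haveI : IsArtinian B (B ⧸ p) := by
      let f : (B ⧸ p) →ₗ[B] (N ⧸ H22.DepthTensor.mS A B • (⊤ : Submodule B N)) :=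
        Submodule.liftQ p (LinearMap.toSpanSingleton B _ x) (fun r hr => by
          rw [hx, Submodule.mem_colon_singleton, Submodule.mem_bot] at hr; exact hr)
      refine isArtinian_of_injective f ?_
      rw [injective_iff_map_eq_zero]
      intro z hz
      obtain ⟨r, rfl⟩ := Submodule.mkQ_surjective p z
      have hf : f (p.mkQ r) = r • x := rfl
      rw [hf] at hz
      rw [Submodule.mkQ_apply, Submodule.Quotient.mk_eq_zero, hx, Submodule.mem_colon_singleton, Submodule.mem_bot]
      exact hz
    haveI : IsArtinianRing (B ⧸ p) := isArtinian_of_tower B this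
    exact Ideal.Quotient.maximal_of_isField _ (IsArtinianRing.isField_of_isDomain (B ⧸ p))
  rw [H22.DepthTensor.depth_tensor, h0, add_zero]

end Groth.Agent.S4694
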