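import Groth.Statements.S4695
import Groth.Agent.H2.Rigid.GeomRegHom

set_option autoImplicit false
universe u
open EGA4

namespace Groth.Agent.S4695

open TensorProduct in
/-- Case of regular morphisms, affine form: let A → B be a homomorphism of Noetherian rings and A' a
Noetherian A-algebra, and assume that B or A' is of finite type over A. If A → B is regular then the
base change A' → A' ⊗_A B is regular; the converse holds when A' is faithfully flat over A. -/
theorem result (A B A' : Type u) [CommRing A] [CommRing B] [CommRing A']
    [IsNoetherianRing A] [IsNoetherianRing B] [IsNoetherianRing A'] [Algebra A B] [Algebra A A']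
    (hft : Algebra.FiniteType A B ∨ Algebra.FiniteType A A') :
    (CAlg.IsRegularHom A B → CAlg.IsRegularHom A' (A' ⊗[A] B)) ∧
      (Module.FaithfullyFlat A A' → CAlg.IsRegularHom A' (A' ⊗[A] B) → CAlg.IsRegularHom A B) := by
  have : IsNoetherianRing (A' ⊗[A] B) := by
    rcases hft with h | h
    · have : Algebra.FiniteType A' (A' ⊗[A] B) := inferInstance
      exact Algebra.FiniteType.isNoetherianRing A' _
    · have : Algebra.FiniteType B (B ⊗[A] A') := inferInstance
      have := Algebra.FiniteType.isNoetherianRing B (B ⊗[A] A')
      exact isNoetherianRing_of_ringEquiv _ (Algebra.TensorProduct.comm A B A').toRingEquiv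
  exact ⟨Groth.Agent.H2.Rigid.GeomRegHom.isRegularHom_baseChange,
    fun _ h => Groth.Agent.H2.Rigid.GeomRegHom.isRegularHom_descend h⟩

end Groth.Agent.S4695
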