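import Groth.Statements.S4701
import Groth.Agent.Lib.Excellent.RegLocus

set_option autoImplicit false
set_option linter.style.haveILetI false
universe u
open EGA4

namespace Groth.Agent.S4701

/-- Let A be a Noetherian ring. The regular locus of every quotient ring A/I is open in its spectrum if
and only if, for every prime ideal p, the regular locus of the domain A/p contains a nonempty open
subset of Spec(A/p). (The published statement quantifies over all subschemes of Spec A; open
subschemes of the closed ones add nothing, so closed subschemes are used here.) -/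
theorem result (A : Type u) [CommRing A] [IsNoetherianRing A] :
    (∀ I : Ideal A, IsOpen (EGA4.regLocus (A ⧸ I))) ↔
      ∀ (p : Ideal A) [p.IsPrime],
        ∃ U : Set (PrimeSpectrum (A ⧸ p)), IsOpen U ∧ U.Nonempty ∧ U ⊆ EGA4.regLocus (A ⧸ p) := by
  constructor
  · intro h p _
    exact ⟨_, h p, ⟨_, Groth.Agent.Lib.Excellent.RegLocus.bot_mem_regLocus⟩, subset_rfl⟩
  · intro h I
    refine Groth.Agent.Lib.Excellent.RegLocus.isOpen_regLocus_of_quotients fun P _ => ?_
    have hle : I ≤ P.asIdeal.comap (Ideal.Quotient.mk I) := fun x hx => by
      simp [Ideal.Quotient.eq_zero_iff_mem.2 hx]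
    have hmap : (P.asIdeal.comap (Ideal.Quotient.mk I)).map (Ideal.Quotient.mk I) = P.asIdeal :=
      Ideal.map_comap_of_surjective _ Ideal.Quotient.mk_surjective _
    exact Groth.Agent.Lib.Excellent.RegLocus.exists_regular_open_of_ringEquiv
      (((DoubleQuot.quotQuotEquivQuotOfLE hle).symm).trans (Ideal.quotEquivOfEq hmap))
      (h (P.asIdeal.comap (Ideal.Quotient.mk I)))

end Groth.Agent.S4701
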