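import Groth.Statements.S4703
import Groth.Agent.Lib.Excellent.FibreNoetherian
import Groth.Agent.Lib.Excellent.Transport
import Mathlib.RingTheory.AdicCompletion.AsTensorProduct

set_option autoImplicit false
set_option linter.style.haveILetI false
universe u
open EGA4

namespace Groth.Agent.S4703

open TensorProduct in
/-- For the property 'geometrically regular', case of a local ring: let A be a Noetherian local ring
with completion Â. Then the formal fibres of A are geometrically regular (the completion map A → Â
is a regular homomorphism) if and only if, for every finite A-algebra B which is a domain and every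
prime ideal q of B ⊗_A Â whose contraction to B is zero, the local ring of B ⊗_A Â at q is regular.
(The published statement is for semi-local rings; this row takes A local.) -/
theorem result (A : Type u) [CommRing A] [IsNoetherianRing A] [IsLocalRing A] :
    CAlg.IsRegularHom A (EGA4.Cpl A) ↔
      ∀ (B : Type u) [CommRing B] [IsDomain B] [Algebra A B] [Module.Finite A B]
        (q : Ideal (B ⊗[A] EGA4.Cpl A)) [q.IsPrime],
        q.comap (algebraMap B (B ⊗[A] EGA4.Cpl A)) = ⊥ → IsRegularLocalRing (Localization.AtPrime q) := by
  open Groth.Agent.Lib.Excellent in
  rw [FormalFibre.forall_domain_iff (P := fun R [CommRing R] => IsRegularLocalRing R)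
    (fun R S _ _ e _ => IsRegularLocalRing.of_ringEquiv e)]
  constructor
  · intro h K _ _ hK Q _
    haveI : IsRegularRing (K ⊗[A] EGA4.Cpl A) :=
      (Groth.Agent.Lib.Excellent.FormalFibre.forall_fibre_iff
        (P := fun R [CommRing R] => IsRegularRing R)
        Groth.Agent.Lib.Excellent.Transport.isoInvariant_isRegularRing (EGA4.Cpl A)).1
        (fun p _ => (h.2 p).2) K hK
    exact IsRegularRing.isRegularLocalRing_localization Q
  · intro h
    refine ⟨inferInstance, fun p _ =>
      ⟨Groth.Agent.Lib.Excellent.FibreNoetherian.isNoetherianRing_fibre _ p, ?_⟩⟩
    refine (Groth.Agent.Lib.Excellent.FormalFibre.forall_fibre_iff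
        (P := fun R [CommRing R] => IsRegularRing R)
        Groth.Agent.Lib.Excellent.Transport.isoInvariant_isRegularRing (EGA4.Cpl A)).2
      (fun K _ _ hK => ?_) p
    haveI := Groth.Agent.Lib.Excellent.FibreNoetherian.isNoetherianRing_finPoint_tensor
      (IsLocalRing.maximalIdeal A) K hK
    exact isRegularRing_iff.2 (fun Q hQ => h K hK Q)

end Groth.Agent.S4703
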