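import Groth.Statements.S4708
import Groth.Agent.Lib.EGA75.Reduction
import Groth.Agent.Lib.EGA75.RegularComp

set_option autoImplicit false
set_option linter.style.haveILetI false
universe u
open EGA4

namespace Groth.Agent.S4708

/-- Let A → B be a local homomorphism of Noetherian local rings making B a flat A-module, such that the
residue field of B is a finite extension of the residue field k of A, and such that the formal
fibres of A are geometrically regular (the completion map A → Â is regular). If the k-algebra k ⊗_A
B̂, where B̂ is the completion of B, is geometrically regular over k, then every fibre of A → B is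
geometrically regular, that is, A → B is a regular homomorphism. -/
theorem result (A B : Type u) [CommRing A] [CommRing B]
    [IsNoetherianRing A] [IsNoetherianRing B] [IsLocalRing A] [IsLocalRing B] [Algebra A B]
    [IsLocalHom (algebraMap A B)] [Module.Flat A B]
    [Module.Finite (IsLocalRing.ResidueField A) (IsLocalRing.ResidueField B)]
    (hA : CAlg.IsRegularHom A (EGA4.Cpl A))
    (h : CAlg.IsGeometricallyRegular (IsLocalRing.maximalIdeal A).ResidueField
      ((IsLocalRing.maximalIdeal A).Fiber (EGA4.Cpl B))) :
    CAlg.IsRegularHom A B := by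
  haveI := Groth.Agent.Lib.EGA75.Complete.finite_residue A B
  have hclosed : ∀ (L : Type u) [Field L] [Algebra A L] [Module.Finite A L]
      (Q : Ideal (TensorProduct A L (EGA4.Cpl B))) [Q.IsPrime],
      IsRegularLocalRing (Localization.AtPrime Q) := by
    intro L _ _ _ Q _
    haveI := Groth.Agent.Lib.EGA75.Complete.of_closedFibre (P := fun R [CommRing R] => IsRegularRing R)
      Groth.Agent.Lib.Excellent.Transport.isoInvariant_isRegularRing A (EGA4.Cpl B) h L
    exact IsRegularRing.isRegularLocalRing_localization Q
  obtain ⟨_, hst, hflat, hfib⟩ := Groth.Agent.Lib.EGA75.Reduction.finPoint_completion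
    Groth.Agent.Lib.EGA75.Complete.liftProp_regular A B hclosed
  refine ⟨inferInstance, fun p _ => ⟨Groth.Agent.Lib.EGA75.Complete.isNoetherianRing_finPoint A B
    p.ResidueField (Groth.Agent.Lib.Excellent.FormalFibre.isFinPoint_residueField p), ?_⟩⟩
  refine (Groth.Agent.Lib.Excellent.FormalFibre.forall_fibre_iff
    (P := fun R [CommRing R] => IsRegularRing R)
    Groth.Agent.Lib.Excellent.Transport.isoInvariant_isRegularRing B).2 (fun K _ _ hK => ?_) p
  haveI : Module.FaithfullyFlat B (EGA4.Cpl B) := Module.FaithfullyFlat.of_flat_of_isLocalHom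
  refine Groth.Agent.Lib.EGA75.Reduction.descend (Q := fun R [CommRing R] => IsRegularRing R)
    Groth.Agent.Lib.Excellent.Transport.isoInvariant_isRegularRing
    (fun R S _ _ _ _ _ _ hS => Groth.Agent.Lib.EGA75.Reduction.isRegularRing_descent R S hS)
    A B (EGA4.Cpl B) K hK ?_
  refine Groth.Agent.Lib.EGA75.RegularComp.isRegularRing_comp_finPoint A (EGA4.Cpl A) (EGA4.Cpl B)
    (fun L _ _ hL => ?_) K hK
    ((Groth.Agent.Lib.Excellent.FormalFibre.forall_fibre_iff
      (P := fun R [CommRing R] => IsRegularRing R)
      Groth.Agent.Lib.Excellent.Transport.isoInvariant_isRegularRing (EGA4.Cpl A)).1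
      (fun q _ => (hA.2 q).2) K hK)
  haveI := Groth.Agent.Lib.EGA75.Complete.isNoetherianRing_finPoint (EGA4.Cpl A) (EGA4.Cpl B) L hL
  exact isRegularRing_iff.2 fun Q _ => hfib L hL Q

end Groth.Agent.S4708
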