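import Groth.Statements.S4709
import Groth.Agent.Lib.Cohen.QuasiExcellent
import Groth.Agent.Lib.Cohen.NagataFiniteType

set_option autoImplicit false
set_option linter.style.haveILetI false
universe u
open EGA4

namespace Groth.Agent.S4709

/-- Let A be a Noetherian ring such that (i) for every maximal ideal m the formal fibres of A_m are
geometrically reduced, and (ii) the regular locus of every A-algebra of finite type is open (A is
J-2). Then A is universally Japanese. -/
theorem result (A : Type u) [CommRing A] [IsNoetherianRing A]
    (h1 : ∀ (m : Ideal A) [m.IsMaximal], EGA4.HasGeomReducedFormalFibres (Localization.AtPrime m))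
    (h2 : EGA4.IsJ2 A) : CAlg.IsUniversallyJapanese A := by
  exact fun S _ _ _ _ => Groth.Agent.Lib.Cohen.NagataFiniteType.isN2_of_isNagata
    (Groth.Agent.Lib.Cohen.NagataFiniteType.isNagata_of_finiteType
      (Groth.Agent.Lib.Cohen.QuasiExcellent.isNagata_of_geomReduced A h1 h2))

end Groth.Agent.S4709
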