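import Groth.Statements.S4711
import Mathlib.RingTheory.Spectrum.Prime.ConstructibleSet
import Mathlib.RingTheory.Localization.Away.Basic
import Mathlib.Topology.Constructible

set_option autoImplicit false
set_option linter.style.haveILetI false
universe u
open EGA4

namespace Groth.Agent.S4711

open AlgebraicGeometry Topology in
/-- In any scheme X, every nonempty locally constructible subset E contains a point x such that the
one-point set {x} is locally closed in X (equivalently x is isolated in its closure). -/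
theorem result (X : Scheme.{u}) (E : Set X)
    (hE : Topology.IsLocallyConstructible E) (hne : E.Nonempty) :
    ∃ x ∈ E, IsLocallyClosed ({x} : Set X) := by
  obtain ⟨x₀, hx₀⟩ := hne
  obtain ⟨U, hU, hxU, -⟩ := exists_isAffineOpen_mem_and_subset (X := X) (x := x₀)
    (TopologicalSpace.Opens.mem_top x₀)
  have hc : Topology.IsConstructible (hU.fromSpec ⁻¹' E) :=
    (hE.preimage_of_isOpenEmbedding hU.fromSpec.isOpenEmbedding).isConstructible
  obtain ⟨S, hS⟩ := PrimeSpectrum.exists_constructibleSetData_iff.2 hc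
  have h0 : hU.primeIdealOf ⟨x₀, hxU⟩ ∈ S.toSet := by
    rw [hS]
    show hU.fromSpec _ ∈ E
    rwa [hU.fromSpec_primeIdealOf]
  simp only [PrimeSpectrum.ConstructibleSetData.toSet, Set.mem_iUnion] at h0
  obtain ⟨C, hCS, hqg, hqf⟩ := h0
  set q := hU.primeIdealOf ⟨x₀, hxU⟩
  rw [PrimeSpectrum.mem_zeroLocus, Set.singleton_subset_iff, SetLike.mem_coe] at hqf
  let L := Localization.Away C.f
  have hd : Disjoint ((Submonoid.powers C.f : Submonoid Γ(X, U)) : Set Γ(X, U)) q.asIdeal :=
    (Ideal.disjoint_powers_iff_notMem C.f q.isPrime.isRadical).2 hqf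
  obtain ⟨m, hm, hqm⟩ := Ideal.exists_le_maximal _
    (IsLocalization.isPrime_of_isPrime_disjoint (Submonoid.powers C.f) L q.asIdeal q.isPrime hd).ne_top
  let p : PrimeSpectrum Γ(X, U) := ⟨m.comap (algebraMap Γ(X, U) L), hm.isPrime.comap _⟩
  have hpf : C.f ∉ p.asIdeal := fun h => hm.ne_top (Ideal.eq_top_of_isUnit_mem _ h
    (IsLocalization.Away.algebraMap_isUnit C.f))
  have hqp : q.asIdeal ≤ p.asIdeal := Ideal.map_le_iff_le_comap.1 hqm
  have hmax : ∀ r : PrimeSpectrum Γ(X, U), p.asIdeal ≤ r.asIdeal → C.f ∉ r.asIdeal → r = p := by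
    intro r hle hrf
    have hr := (Ideal.disjoint_powers_iff_notMem C.f r.isPrime.isRadical).2 hrf
    have hc := IsLocalization.comap_map_of_isPrime_disjoint (Submonoid.powers C.f) L r.isPrime hr
    have he : m = r.asIdeal.map (algebraMap Γ(X, U) L) := hm.eq_of_le
      (IsLocalization.isPrime_of_isPrime_disjoint (Submonoid.powers C.f) L _ r.isPrime hr).ne_top (by
      conv_lhs => rw [← IsLocalization.map_comap (Submonoid.powers C.f) L m]
      exact Ideal.map_mono hle)
    exact PrimeSpectrum.ext (by rw [← hc, ← he])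
  have hpE : hU.fromSpec p ∈ E := by
    have : p ∈ S.toSet := by
      simp only [PrimeSpectrum.ConstructibleSetData.toSet, Set.mem_iUnion]
      refine ⟨C, hCS, fun g hg => hqp (hqg hg), ?_⟩
      rw [PrimeSpectrum.mem_zeroLocus, Set.singleton_subset_iff, SetLike.mem_coe]
      exact hpf
    rw [hS] at this
    exact this
  refine ⟨hU.fromSpec p, hpE, ?_⟩
  refine ⟨hU.fromSpec '' (PrimeSpectrum.basicOpen C.f : Set (PrimeSpectrum Γ(X, U))),
    closure {hU.fromSpec p},
    hU.fromSpec.isOpenEmbedding.isOpenMap _ (PrimeSpectrum.basicOpen C.f).2, isClosed_closure, ?_⟩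
  refine Set.Subset.antisymm ?_ ?_
  · rintro w rfl
    exact ⟨⟨p, hpf, rfl⟩, subset_closure rfl⟩
  · rintro w ⟨⟨r, hr, rfl⟩, hw⟩
    have hs : p ⤳ r := hU.fromSpec.isOpenEmbedding.isInducing.specializes_iff.1
      (specializes_iff_mem_closure.2 hw)
    rw [Set.mem_singleton_iff, hmax r ((PrimeSpectrum.le_iff_specializes p r).2 hs) hr]

end Groth.Agent.S4711
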