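import Groth.Statements.S4712
import Groth.Agent.Lib.RefHull.ClosedPoint
import Mathlib.Topology.KrullDimension

set_option autoImplicit false
set_option linter.style.haveILetI false
universe u
open EGA4

namespace Groth.Agent.S4712

open AlgebraicGeometry in
/-- Let X be a locally Noetherian scheme and x a point such that {x} is locally closed in X. Then the
closure of {x} has dimension at most 1, and every point of that closure other than x is a closed
point of X. -/
theorem result (X : Scheme.{u}) [IsLocallyNoetherian X] (x : X)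
    (hx : IsLocallyClosed ({x} : Set X)) :
    topologicalKrullDim (closure ({x} : Set X)) ≤ 1 ∧
      ∀ y ∈ closure ({x} : Set X), y ≠ x → IsClosed ({y} : Set X) := by
  obtain ⟨U₀, Z, hU₀, hZ, hxe⟩ := hx
  have hxU : x ∈ U₀ ∧ x ∈ Z := (Set.ext_iff.1 hxe x).1 rfl
  have key : ∀ w : X, w ∈ (⟨U₀, hU₀⟩ : X.Opens) → x ⤳ w → w = x := fun w hw hs =>
    (Set.ext_iff.1 hxe w).2 ⟨hw, hs.mem_closed hZ hxU.2⟩
  have hcl : ∀ y ∈ closure ({x} : Set X), y ≠ x → IsClosed ({y} : Set X) := fun y hy hne =>
    Groth.Agent.Lib.RefHull.ClosedPoint.isClosed_singleton_of_specializes (X := X)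
      (U := (⟨U₀, hU₀⟩ : X.Opens)) hxU.1 key (specializes_iff_mem_closure.2 hy) hne
  refine ⟨?_, hcl⟩
  let T := closure ({x} : Set X)
  haveI : QuasiSober T := (isClosed_closure.isClosedEmbedding_subtypeVal).quasiSober
  rw [topologicalKrullDim, Order.krullDim_le_one_iff]
  intro W
  obtain ⟨w, hw⟩ := QuasiSober.sober W.isIrreducible W.isClosed
  by_cases hwx : w.1 = x
  · right
    intro W' hle v _
    have : (⟨x, subset_closure rfl⟩ : T) ⤳ v := (subtype_specializes_iff _ _).2 (specializes_iff_mem_closure.2 v.2)
    have e : w = ⟨x, subset_closure rfl⟩ := Subtype.ext hwx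
    rw [← e] at this
    have h2 := this.mem_closure
    rwa [show closure ({w} : Set T) = (W : Set T) from hw] at h2
  · left
    intro W' hle
    have hsing : (W : Set T) = {w} := by
      rw [← show closure ({w} : Set T) = (W : Set T) from hw]
      refine IsClosed.closure_eq ?_
      have h1 := (hcl w.1 w.2 hwx).preimage (continuous_subtype_val : Continuous (Subtype.val : T → X))
      convert h1 using 1
      ext v
      simp [Subtype.ext_iff]
    intro v hv
    obtain ⟨u, hu⟩ := W'.isIrreducible.nonempty
    have h1 : u ∈ (W : Set T) := hle hu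
    have h2 : v ∈ (W : Set T) := hv
    rw [hsing] at h1 h2
    rwa [h2.trans h1.symm]

end Groth.Agent.S4712
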