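import Groth.Statements.S4713
import Groth.Agent.Lib.RefHull.ClosedPoint

set_option autoImplicit false
set_option linter.style.haveILetI false
universe u
open EGA4

namespace Groth.Agent.S4713

open AlgebraicGeometry in
/-- In a locally Noetherian scheme X, every nonempty closed subset contains a closed point of X. -/
theorem result (X : Scheme.{u}) [IsLocallyNoetherian X]
    (Z : Set X) (hZ : IsClosed Z) (hne : Z.Nonempty) : ∃ x ∈ Z, IsClosed ({x} : Set X) := by
  obtain ⟨z, hz⟩ := hne
  obtain ⟨y, hzy, hy⟩ := Groth.Agent.Lib.RefHull.ClosedPoint.exists_closed_specialization (X := X) z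
  exact ⟨y, hzy.mem_closed hZ hz, hy⟩

end Groth.Agent.S4713
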