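import Groth.Statements.S4720
import Groth.Agent.Lib.Excellent.SectionsDepth

set_option autoImplicit false
set_option linter.style.haveILetI false
universe u
open EGA4

namespace Groth.Agent.S4720

/-- Let A be a Noetherian ring, Z a subset of Spec A stable under specialization, M an A-module and N a
submodule of M. If M is Z-pure, so is N; conversely, if N and M/N are Z-pure, so is M. -/
theorem result (A : Type u) [CommRing A] [IsNoetherianRing A]
    (Z : Set (PrimeSpectrum A)) (hZ : StableUnderSpecialization Z) (M : Type u) [AddCommGroup M] [Module A M]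
    (N : Submodule A M) :
    (EGA4.IsPureAlong Z M → EGA4.IsPureAlong Z ↥N) ∧
      (EGA4.IsPureAlong Z ↥N → EGA4.IsPureAlong Z (M ⧸ N) → EGA4.IsPureAlong Z M) := by
  have hpure : ∀ (N : Type u) [AddCommGroup N] [Module A N],
      EGA4.IsPureAlong Z N ↔ ∀ p : PrimeSpectrum A, p.asIdeal ∈ associatedPrimes A N → p ∉ Z := by
    intro N _ _
    constructor
    · intro h p hp hpZ
      exact (Groth.Agent.Lib.Excellent.SectionsDepth.restrM_injective_iff p.asIdeal N).1
        ((Groth.Agent.Lib.Excellent.SectionsDepth.restrCompl_injective_iff p.asIdeal N).1 (h _ (Groth.Agent.Lib.Excellent.SectionsDepth.le_asIdeal_of_mem hZ hpZ))) _ hp le_rfl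
    · intro h J hJ
      rw [Groth.Agent.Lib.Excellent.SectionsDepth.restrCompl_injective_iff, Groth.Agent.Lib.Excellent.SectionsDepth.restrM_injective_iff]
      intro P hP hJP
      exact h ⟨P, hP.isPrime⟩ hP (hJ hJP)
  rw [hpure, hpure, hpure]
  refine ⟨fun h p hp => h p (associatedPrimes.subset_of_injective N.injective_subtype hp),
    fun h1 h2 p hp => ?_⟩
  rcases associatedPrimes.subset_union_of_exact (f := N.subtype) (g := N.mkQ) N.injective_subtype
    (LinearMap.exact_subtype_mkQ N) hp with h | h
  exacts [h1 p h, h2 p h]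

end Groth.Agent.S4720
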