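import Groth.Statements.S4721
import Groth.Agent.Lib.FEt.DepthTwo
import Mathlib.RingTheory.Ideal.MinimalPrime.Noetherian
import Mathlib.RingTheory.Ideal.KrullsHeightTheorem

set_option autoImplicit false
universe u
open EGA4

namespace Groth.Agent.S4721

theorem chain {α : Type u} (P : α → Prop) (Rel : α → α → Prop) {a b : α} (ha : P a)
    (h : Relation.ReflTransGen (fun x y => P x ∧ P y ∧ Rel x y) a b) :
    ∃ (n : ℕ) (c : Fin (n + 1) → α), c 0 = a ∧ c (Fin.last n) = b ∧ (∀ i, P (c i)) ∧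
      ∀ i : Fin n, Rel (c i.castSucc) (c i.succ) := by
  induction h with
  | refl => exact ⟨0, fun _ => a, rfl, rfl, fun _ => ha, fun i => i.elim0⟩
  | @tail x y hab hxy ih =>
    obtain ⟨n, c, h0, hl, hP, hR⟩ := ih
    refine ⟨n + 1, Fin.snoc c y, ?_, Fin.snoc_last (α := fun _ => α) _ _, fun i => ?_, fun i => ?_⟩
    · rw [← Fin.castSucc_zero, Fin.snoc_castSucc, h0]
    · induction i using Fin.lastCases with
      | last => simpa using hxy.2.1
      | cast i => simpa using hP i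
    · induction i using Fin.lastCases with
      | last =>
        rw [Fin.succ_last, Fin.snoc_last, Fin.snoc_castSucc, hl]
        exact hxy.2.2
      | cast i =>
        rw [← Fin.castSucc_succ, Fin.snoc_castSucc, Fin.snoc_castSucc]
        exact hR i

theorem reach (A : Type u) [CommRing A] [IsNoetherianRing A] [ConnectedSpace (PrimeSpectrum A)] (d : ℕ)
    (h : ∀ (p : Ideal A) [p.IsPrime], (d : ℕ∞) ≤ p.height →
      (2 : ℕ∞) ≤ LocCoh.depth (Localization.AtPrime p) (Localization.AtPrime p))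
    (p' p'' : Ideal A) (hp' : p' ∈ minimalPrimes A) (hp'' : p'' ∈ minimalPrimes A) :
    Relation.ReflTransGen (fun x y : Ideal A => x ∈ minimalPrimes A ∧ y ∈ minimalPrimes A ∧
      ∃ (q : Ideal A) (_ : q.IsPrime), x ≤ q ∧ y ≤ q ∧ q.height + 1 ≤ (d : ℕ∞)) p' p'' := by
  by_contra hno
  set Rel := Relation.ReflTransGen (fun x y : Ideal A => x ∈ minimalPrimes A ∧ y ∈ minimalPrimes A ∧
      ∃ (q : Ideal A) (_ : q.IsPrime), x ≤ q ∧ y ≤ q ∧ q.height + 1 ≤ (d : ℕ∞)) p' with hRel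
  have hfin : (minimalPrimes A).Finite := minimalPrimes.finite_of_isNoetherianRing A
  let T₁ : Set (PrimeSpectrum A) := ⋃ a ∈ {a | a ∈ minimalPrimes A ∧ Rel a}, PrimeSpectrum.zeroLocus (a : Set A)
  let T₂ : Set (PrimeSpectrum A) := ⋃ a ∈ {a | a ∈ minimalPrimes A ∧ ¬ Rel a}, PrimeSpectrum.zeroLocus (a : Set A)
  have hT₁ : IsClosed T₁ := (hfin.subset fun a ha => ha.1).isClosed_biUnion fun a _ => PrimeSpectrum.isClosed_zeroLocus _
  have hT₂ : IsClosed T₂ := (hfin.subset fun a ha => ha.1).isClosed_biUnion fun a _ => PrimeSpectrum.isClosed_zeroLocus _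
  have hmem : ∀ (a : Ideal A) (x : PrimeSpectrum A), a ∈ minimalPrimes A → a ≤ x.asIdeal → x ∈ T₁ ∪ T₂ := by
    intro a x ha hax
    by_cases hr : Rel a
    · exact Or.inl (Set.mem_biUnion ⟨ha, hr⟩ hax)
    · exact Or.inr (Set.mem_biUnion ⟨ha, hr⟩ hax)
  have hcov : ∀ x : PrimeSpectrum A, x ∈ T₁ ∪ T₂ := fun x => by
    obtain ⟨a, ha, hax⟩ := Ideal.exists_minimalPrimes_le (bot_le : (⊥ : Ideal A) ≤ x.asIdeal)
    exact hmem a x ha hax
  obtain ⟨z, -, hz⟩ := (isPreconnected_closed_iff.1 isPreconnected_univ) T₁ T₂ hT₁ hT₂ (fun x _ => hcov x)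
    ⟨⟨p', Ideal.minimalPrimes_isPrime hp'⟩, Set.mem_univ _,
      Set.mem_biUnion (x := p') ⟨hp', Relation.ReflTransGen.refl⟩ (fun _ hy => hy)⟩
    ⟨⟨p'', Ideal.minimalPrimes_isPrime hp''⟩, Set.mem_univ _, Set.mem_biUnion (x := p'') ⟨hp'', hno⟩ (fun _ hy => hy)⟩
  obtain ⟨q, hq, hqmin⟩ := (InvImage.wf (fun x : PrimeSpectrum A => x.asIdeal.height) wellFounded_lt).has_min
    (T₁ ∩ T₂) ⟨z, hz⟩
  obtain ⟨a, ⟨ha, hRa⟩, haq⟩ := Set.mem_iUnion₂.1 hq.1
  obtain ⟨b, ⟨hb, hRb⟩, hbq⟩ := Set.mem_iUnion₂.1 hq.2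
  have hab : a ≠ b := fun e => hRb (e ▸ hRa)
  have hht : (d : ℕ∞) ≤ q.asIdeal.height := by
    rw [← not_lt]
    intro hlt
    exact hRb (hRa.tail ⟨ha, hb, q.asIdeal, q.2, haq, hbq, Order.add_one_le_of_lt hlt⟩)
  let L := Localization.AtPrime q.asIdeal
  let c : PrimeSpectrum L → PrimeSpectrum A := PrimeSpectrum.comap (algebraMap A L)
  have hc : Continuous c := PrimeSpectrum.continuous_comap _
  have lift : ∀ e : Ideal A, e ∈ minimalPrimes A → e ≤ q.asIdeal → e ≠ q.asIdeal →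
      ∃ r : PrimeSpectrum L, r.asIdeal ≠ IsLocalRing.maximalIdeal L ∧ (c r).asIdeal = e := by
    intro e he heq hne
    have hep := Ideal.minimalPrimes_isPrime he
    have hdisj : Disjoint (q.asIdeal.primeCompl : Set A) e :=
      Set.disjoint_left.2 fun x hx hxe => hx (heq hxe)
    refine ⟨⟨e.map (algebraMap A L), IsLocalization.isPrime_of_isPrime_disjoint q.asIdeal.primeCompl L e hep hdisj⟩,
      fun h' => hne ?_, IsLocalization.under_map_of_isPrime_disjoint q.asIdeal.primeCompl L hep hdisj⟩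
    have := congrArg (Ideal.comap (algebraMap A L)) h'
    exact (IsLocalization.under_map_of_isPrime_disjoint q.asIdeal.primeCompl L hep hdisj).symm.trans
      (this.trans (IsLocalization.AtPrime.comap_maximalIdeal L q.asIdeal))
  have hane : a ≠ q.asIdeal := fun e => hab (le_antisymm (ha.2 ⟨Ideal.minimalPrimes_isPrime hb, bot_le⟩ (e ▸ hbq)) (e ▸ hbq))
  have hbne : b ≠ q.asIdeal := fun e => hab (le_antisymm (e ▸ haq) (hb.2 ⟨Ideal.minimalPrimes_isPrime ha, bot_le⟩ (e ▸ haq)))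
  obtain ⟨ra, hra, hca⟩ := lift a ha haq hane
  obtain ⟨rb, hrb, hcb⟩ := lift b hb hbq hbne
  obtain ⟨r, hr, hr₁, hr₂⟩ := isPreconnected_closed_iff.1
    (Groth.Agent.Lib.FEt.DepthTwo.isConnected_punctured (R := L) (h q.asIdeal hht)).isPreconnected
    (c ⁻¹' T₁) (c ⁻¹' T₂) (hT₁.preimage hc) (hT₂.preimage hc) (fun x _ => hcov (c x))
    ⟨ra, hra, Set.mem_biUnion (x := a) ⟨ha, hRa⟩ (show a ≤ (c ra).asIdeal from hca.ge)⟩
    ⟨rb, hrb, Set.mem_biUnion (x := b) ⟨hb, hRb⟩ (show b ≤ (c rb).asIdeal from hcb.ge)⟩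
  refine hqmin (c r) ⟨hr₁, hr₂⟩ (Ideal.height_strict_mono_of_isPrime ?_)
  refine lt_of_le_of_ne ?_ fun e => hr ?_
  · exact (Ideal.comap_mono (IsLocalRing.le_maximalIdeal r.2.ne_top)).trans
      (IsLocalization.AtPrime.comap_maximalIdeal L q.asIdeal).le
  · rw [← IsLocalization.map_under q.asIdeal.primeCompl L r.asIdeal]
    exact (congrArg (Ideal.map (algebraMap A L)) e).trans (Localization.AtPrime.map_eq_maximalIdeal)

/-- Let A be a Noetherian ring whose spectrum is connected and d a natural number such that for every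
prime p of height at least d the local ring A_p has depth at least 2. Then for any two distinct
minimal primes p', p'' of A there is a finite chain of minimal primes starting at p' and ending at
p'' such that any two consecutive members are both contained in a prime ideal of height at most d −
1 (the spectrum is connected in codimension at most d − 1). -/
theorem result (A : Type u) [CommRing A] [IsNoetherianRing A]
    [ConnectedSpace (PrimeSpectrum A)] (d : ℕ)
    (h : ∀ (p : Ideal A) [p.IsPrime], (d : ℕ∞) ≤ p.height →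
      (2 : ℕ∞) ≤ LocCoh.depth (Localization.AtPrime p) (Localization.AtPrime p))
    (p' p'' : Ideal A) (hp' : p' ∈ minimalPrimes A) (hp'' : p'' ∈ minimalPrimes A) (hne : p' ≠ p'') :
    ∃ (n : ℕ) (c : Fin (n + 1) → Ideal A), c 0 = p' ∧ c (Fin.last n) = p'' ∧ (∀ i, c i ∈ minimalPrimes A) ∧
      ∀ i : Fin n, ∃ (q : Ideal A) (_ : q.IsPrime),
        c i.castSucc ≤ q ∧ c i.succ ≤ q ∧ q.height + 1 ≤ (d : ℕ∞) := by
  obtain ⟨n, c, h0, hl, hP, hR⟩ := chain (fun x => x ∈ minimalPrimes A)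
    (fun x y => ∃ (q : Ideal A) (_ : q.IsPrime), x ≤ q ∧ y ≤ q ∧ q.height + 1 ≤ (d : ℕ∞)) hp'
    (reach A d h p' p'' hp' hp'')
  exact ⟨n, c, h0, hl, hP, hR⟩

end Groth.Agent.S4721
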