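import Groth.Statements.S4722
import Mathlib.RingTheory.Ideal.AssociatedPrime.Localization

set_option autoImplicit false
set_option linter.style.haveILetI false
universe u
open EGA4

namespace Groth.Agent.S4722

/-- `N` has a filtration with quotients embedded in `A ⧸ p`. -/
def Good (A : Type u) [CommRing A] (M : Type u) [AddCommGroup M] [Module A M] (p : Ideal A)
    (N : Submodule A M) : Prop :=
  ∃ (m : ℕ) (F : Fin (m + 1) → Submodule A M), Antitone F ∧ F 0 = N ∧ F (Fin.last m) = ⊥ ∧
    ∀ i : Fin m, ∃ g : (↥(F i.castSucc) ⧸ Submodule.comap (F i.castSucc).subtype (F i.succ)) →ₗ[A] (A ⧸ p),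
      Function.Injective g

theorem good_cons {A : Type u} [CommRing A] {M : Type u} [AddCommGroup M] [Module A M] {p : Ideal A}
    {N N' : Submodule A M} (hle : N ≤ N') (hN : Good A M p N)
    (g : (↥N' ⧸ Submodule.comap N'.subtype N) →ₗ[A] (A ⧸ p)) (hg : Function.Injective g) :
    Good A M p N' := by
  obtain ⟨m, F, hF, h0, hl, hq⟩ := hN
  refine ⟨m + 1, Fin.cons N' F, ?_, rfl, ?_, ?_⟩
  · rw [Fin.antitone_iff_succ_le]
    intro i
    induction i using Fin.cases with
    | zero => simpa [h0] using hle
    | succ i => simpa [← Fin.succ_castSucc] using hF (Fin.castSucc_le_succ i)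
  · rw [← Fin.succ_last]; simpa using hl
  · intro i
    induction i using Fin.cases with
    | zero =>
      change ∃ g : (↥N' ⧸ Submodule.comap N'.subtype (F 0)) →ₗ[A] (A ⧸ p), Function.Injective g
      rw [h0]
      exact ⟨g, hg⟩
    | succ i =>
      exact hq i

theorem good_top (A : Type u) [CommRing A] [IsNoetherianRing A] (M : Type u) [AddCommGroup M]
    [Module A M] [Module.Finite A M] (p : Ideal A) (hp : associatedPrimes A M = {p}) :
    Good A M p ⊤ := by
  classical
  have hpp : p.IsPrime := (show p ∈ associatedPrimes A M by rw [hp]; rfl).1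
  haveI := hpp
  have hzd : ∀ (s : A) (x : M), s ∉ p → s • x = 0 → x = 0 := by
    intro s x hs h
    by_contra hx
    have hmem : s ∈ ⋃ q ∈ associatedPrimes A M, (q : Set A) := by
      rw [biUnion_associatedPrimes_eq_zero_divisors]; exact ⟨x, hx, h⟩
    rw [hp] at hmem
    simp only [Set.mem_singleton_iff, Set.iUnion_iUnion_eq_left, SetLike.mem_coe] at hmem
    exact hs hmem
  have hnil : ∀ (r : A) (x : M), r ∈ p → ∃ k : ℕ, r ^ k • x = 0 := by
    intro r x hr
    have : r ∈ (Module.annihilator A (A ∙ x)).radical := by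
      rw [← Ideal.sInf_minimalPrimes, Submodule.mem_sInf]
      intro P hP
      have hPass : P ∈ associatedPrimes A M := associatedPrimes.subset_of_injective
        (Submodule.injective_subtype (A ∙ x))
        (Module.associatedPrimes.minimalPrimes_annihilator_subset_associatedPrimes A _ hP)
      rw [hp] at hPass
      rw [Set.mem_singleton_iff.1 hPass]; exact hr
    obtain ⟨k, hk⟩ := this
    exact ⟨k, (Submodule.mem_annihilator_span_singleton x _).1 hk⟩
  let S : Set (Submodule A M) :=
    {N | Good A M p N ∧ ∀ (s : A) (x : M), s ∉ p → s • x ∈ N → x ∈ N}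
  have hbot : (⊥ : Submodule A M) ∈ S :=
    ⟨⟨0, fun _ => ⊥, antitone_const, rfl, rfl, fun i => i.elim0⟩,
      fun s x hs h => (Submodule.mem_bot A).2 (hzd s x hs ((Submodule.mem_bot A).1 h))⟩
  obtain ⟨N, ⟨hgood, hsat⟩, hmax⟩ := set_has_maximal_iff_noetherian.2
    (inferInstance : IsNoetherian A M) S ⟨⊥, hbot⟩
  by_cases hN : N = ⊤
  · exact hN ▸ hgood
  exfalso
  haveI : Nontrivial (M ⧸ N) := Submodule.Quotient.nontrivial_iff.2 hN
  obtain ⟨P, hP⟩ := associatedPrimes.nonempty A (M ⧸ N)
  obtain ⟨hPp, z₀, hz₀⟩ := (AssociatedPrimes.mem_iff.trans isAssociatedPrime_iff).1 hP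
  obtain ⟨z, rfl⟩ := N.mkQ_surjective z₀
  have hPmem : ∀ r, r ∈ P ↔ r • z ∈ N := fun r => by
    rw [hz₀, Submodule.mem_colon_singleton, Submodule.mem_bot, Submodule.mkQ_apply,
      ← Submodule.Quotient.mk_smul, Submodule.Quotient.mk_eq_zero]
  have hznot : z ∉ N := fun h => hPp.ne_top ((Ideal.eq_top_iff_one _).2 ((hPmem 1).2 (by rwa [one_smul])))
  have hPeq : P = p := by
    refine le_antisymm (fun r hr => ?_) (fun r hr => ?_)
    · by_contra h; exact hznot (hsat r z h ((hPmem r).1 hr))
    · obtain ⟨k, hk⟩ := hnil r z hr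
      exact hPp.mem_of_pow_mem k ((hPmem _).2 (by rw [hk]; exact N.zero_mem))
  subst hPeq
  let N' : Submodule A M :=
    { carrier := {x | ∃ s : A, s ∉ P ∧ ∃ a : A, s • x - a • z ∈ N}
      zero_mem' := ⟨1, fun h => hPp.ne_top ((Ideal.eq_top_iff_one _).2 h), 0, by simp⟩
      add_mem' := by
        rintro x y ⟨s, hs, a, ha⟩ ⟨t, ht, b, hb⟩
        refine ⟨t * s, fun h => (hPp.mem_or_mem h).elim ht hs, t * a + s * b, ?_⟩
        have : (t * s) • (x + y) - (t * a + s * b) • z = t • (s • x - a • z) + s • (t • y - b • z) := by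
          simp only [smul_add, smul_sub, smul_smul, add_smul, mul_comm t s]; abel
        rw [this]
        exact N.add_mem (N.smul_mem _ ha) (N.smul_mem _ hb)
      smul_mem' := by
        rintro c x ⟨s, hs, a, ha⟩
        refine ⟨s, hs, c * a, ?_⟩
        have : s • c • x - (c * a) • z = c • (s • x - a • z) := by
          rw [smul_sub, smul_smul, smul_smul, smul_smul, mul_comm s c]
        rw [this]; exact N.smul_mem _ ha }
  have hNN' : N ≤ N' := fun x hx =>
    ⟨1, fun h => hPp.ne_top ((Ideal.eq_top_iff_one _).2 h), 0, by simpa using hx⟩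
  have hzN' : z ∈ N' := ⟨1, fun h => hPp.ne_top ((Ideal.eq_top_iff_one _).2 h), 1, by simp⟩
  obtain ⟨gen, hgen⟩ := IsNoetherian.noetherian N'
  choose! s hs a ha using fun x (hx : x ∈ N') => hx
  let u : A := ∏ x ∈ gen, s x
  have hu : u ∉ P := prod_mem (S := P.primeCompl) fun x hx =>
    hs x (hgen ▸ Submodule.subset_span hx)
  have hex : ∀ x : N', ∃ b : A, u • (x : M) - b • z ∈ N := by
    rintro ⟨x, hx⟩
    have hx' : x ∈ Submodule.span A (gen : Set M) := by rw [hgen]; exact hx
    change ∃ b : A, u • x - b • z ∈ N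
    clear hx
    induction hx' using Submodule.span_induction with
    | mem y hy =>
      refine ⟨(∏ w ∈ gen.erase y, s w) * a y, ?_⟩
      have : u • y - ((∏ w ∈ gen.erase y, s w) * a y) • z =
          (∏ w ∈ gen.erase y, s w) • (s y • y - a y • z) := by
        rw [smul_sub, smul_smul, smul_smul, Finset.prod_erase_mul gen s hy]
      rw [this]; exact N.smul_mem _ (ha y (hgen ▸ Submodule.subset_span hy))
    | zero => exact ⟨0, by simp⟩
    | add y y' _ _ ih ih' =>
      obtain ⟨b, hb⟩ := ih; obtain ⟨b', hb'⟩ := ih'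
      refine ⟨b + b', ?_⟩
      have : u • (y + y') - (b + b') • z = (u • y - b • z) + (u • y' - b' • z) := by
        simp only [smul_add, add_smul]; abel
      rw [this]; exact N.add_mem hb hb'
    | smul c y _ ih =>
      obtain ⟨b, hb⟩ := ih
      refine ⟨c * b, ?_⟩
      have : u • (c • y) - (c * b) • z = c • (u • y - b • z) := by
        rw [smul_sub, smul_smul, smul_smul, smul_smul, mul_comm u c]
      rw [this]; exact N.smul_mem _ hb
  choose b hb using hex
  have huniq : ∀ (x : N') (c : A), u • (x : M) - c • z ∈ N →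
      Ideal.Quotient.mk P (b x) = Ideal.Quotient.mk P c := fun x c hc => by
    rw [Ideal.Quotient.eq, hPmem, sub_smul]
    have := N.sub_mem hc (hb x)
    rwa [sub_sub_sub_cancel_left] at this
  let g₀ : N' →ₗ[A] A ⧸ P :=
    { toFun := fun x => Ideal.Quotient.mk P (b x)
      map_add' := fun x y => by
        rw [← map_add]
        refine huniq _ _ ?_
        have : u • ((x + y : N') : M) - (b x + b y) • z = (u • (x : M) - b x • z) + (u • (y : M) - b y • z) := by
          simp only [Submodule.coe_add, smul_add, add_smul]; abel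
        rw [this]; exact N.add_mem (hb x) (hb y)
      map_smul' := fun c x => by
        rw [RingHom.id_apply, Algebra.smul_def c (Ideal.Quotient.mk P (b x)),
          Ideal.Quotient.algebraMap_eq, ← map_mul]
        refine huniq _ _ ?_
        have : u • ((c • x : N') : M) - (c * b x) • z = c • (u • (x : M) - b x • z) := by
          rw [SetLike.val_smul, smul_sub, smul_smul, smul_smul, smul_smul, mul_comm u c]
        rw [this]; exact N.smul_mem _ (hb x) }
  have hker : Submodule.comap N'.subtype N ≤ LinearMap.ker g₀ := fun x hx => by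
    rw [LinearMap.mem_ker]
    change Ideal.Quotient.mk P (b x) = 0
    rw [← map_zero (Ideal.Quotient.mk P)]
    exact huniq x 0 (by simpa using N.smul_mem u hx)
  have hinj : Function.Injective (Submodule.liftQ _ g₀ hker) := by
    rw [← LinearMap.ker_eq_bot, Submodule.ker_liftQ_eq_bot]
    intro x hx
    have h1 : b x ∈ P := Ideal.Quotient.eq_zero_iff_mem.1 hx
    refine hsat u (x : M) hu ?_
    simpa using N.add_mem (hb x) ((hPmem _).1 h1)
  refine hmax N' ⟨good_cons hNN' hgood _ hinj, fun t x ht htx => ?_⟩ ?_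
  · obtain ⟨s', hs', a', ha'⟩ := htx
    exact ⟨s' * t, fun h => (hPp.mem_or_mem h).elim hs' ht, a', by rwa [mul_smul]⟩
  · exact lt_of_le_of_ne hNN' fun h => hznot (h ▸ hzN')


/-- Let A be a Noetherian ring and M a finite A-module whose set of associated primes is a single prime
p. Then M has a finite decreasing filtration by submodules M = M_0 ⊇ M_1 ⊇ ⋯ ⊇ M_m = 0 such that
each quotient M_h/M_{h+1} is isomorphic to a submodule of A/p (i.e. embeds A-linearly into A/p). -/
theorem result (A : Type u) [CommRing A] [IsNoetherianRing A]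
    (M : Type u) [AddCommGroup M] [Module A M] [Module.Finite A M] (p : Ideal A)
    (hp : associatedPrimes A M = {p}) :
    ∃ (m : ℕ) (F : Fin (m + 1) → Submodule A M), Antitone F ∧ F 0 = ⊤ ∧ F (Fin.last m) = ⊥ ∧
      ∀ i : Fin m, ∃ g : (↥(F i.castSucc) ⧸ Submodule.comap (F i.castSucc).subtype (F i.succ)) →ₗ[A] (A ⧸ p),
        Function.Injective g := by
  obtain ⟨m, F, h1, h2, h3, h4⟩ := good_top A M p hp
  exact ⟨m, F, h1, h2, h3, h4⟩

end Groth.Agent.S4722
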