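import Groth.Statements.S4724
import Mathlib.RingTheory.Nilpotent.Lemmas

set_option autoImplicit false
set_option linter.style.haveILetI false
universe u
open EGA4

namespace Groth.Agent.S4724

/-- Let (A_i) be a directed system of commutative rings with direct limit A. Then the nilradical of A is
the supremum of the extensions to A of the nilradicals of the A_i; in particular, if every A_i is
reduced then A is reduced. -/
theorem result (ι : Type u) [Preorder ι] [Nonempty ι] [IsDirectedOrder ι] (G : ι → Type u)
    [∀ i, CommRing (G i)] (f : ∀ i j, i ≤ j → G i →+* G j) [DirectedSystem G (fun i j h ↦ f i j h)] :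
    nilradical (Ring.DirectLimit G (fun i j h ↦ f i j h)) =
        ⨆ i, (nilradical (G i)).map (Ring.DirectLimit.of G (fun i j h ↦ f i j h) i) ∧
      ((∀ i, IsReduced (G i)) → IsReduced (Ring.DirectLimit G (fun i j h ↦ f i j h))) := by
  have h : nilradical (Ring.DirectLimit G (fun i j h ↦ f i j h)) =
        ⨆ i, (nilradical (G i)).map (Ring.DirectLimit.of G (fun i j h ↦ f i j h) i) := by
    apply le_antisymm
    · intro x hx
      obtain ⟨i, x, rfl⟩ := Ring.DirectLimit.exists_of x
      obtain ⟨n, hn⟩ := mem_nilradical.1 hx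
      rw [← map_pow] at hn
      obtain ⟨j, hij, hj⟩ := Ring.DirectLimit.of.zero_exact (f' := f) hn
      rw [map_pow] at hj
      rw [← Ring.DirectLimit.of_f hij]
      exact Ideal.mem_iSup_of_mem j (Ideal.mem_map_of_mem _ (mem_nilradical.2 ⟨n, hj⟩))
    · refine iSup_le fun i => Ideal.map_le_iff_le_comap.2 fun x hx => ?_
      exact mem_nilradical.2 ((mem_nilradical.1 hx).map _)
  refine ⟨h, fun hr => nilradical_eq_bot_iff.1 ?_⟩
  rw [h, iSup_eq_bot]
  intro i
  haveI := hr i
  rw [nilradical_eq_bot_iff.2 inferInstance, Ideal.map_bot]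

end Groth.Agent.S4724
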