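import Groth.Statements.S4726
import Mathlib.LinearAlgebra.TensorProduct.Quotient
import Mathlib.LinearAlgebra.TensorProduct.Pi
import Mathlib.Algebra.Module.FinitePresentation
import Mathlib.Algebra.Colimit.Ring

set_option autoImplicit false
set_option linter.style.haveILetI false
universe u
open EGA4

namespace Groth.Agent.S4726

open TensorProduct in
/-- Let (A_i) be a directed system of commutative rings with direct limit A and M a finitely presented
A-module. Then there exist an index i and a finitely presented A_i-module M_i such that M is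
isomorphic, as an A-module, to A ⊗_{A_i} M_i (A being an A_i-algebra through the canonical map). -/
theorem result (ι : Type u) [Preorder ι] [Nonempty ι] [IsDirectedOrder ι]
    (G : ι → Type u) [∀ i, CommRing (G i)] (f : ∀ i j, i ≤ j → G i →+* G j)
    [DirectedSystem G (fun i j h ↦ f i j h)] (M : Type u) [AddCommGroup M]
    [Module (Ring.DirectLimit G (fun i j h ↦ f i j h)) M]
    [Module.FinitePresentation (Ring.DirectLimit G (fun i j h ↦ f i j h)) M] :
    ∃ (i : ι) (Mi : Type u) (_ : AddCommGroup Mi) (_ : Module (G i) Mi), Module.FinitePresentation (G i) Mi ∧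
      letI : Algebra (G i) (Ring.DirectLimit G (fun i j h ↦ f i j h)) :=
        (Ring.DirectLimit.of G (fun i j h ↦ f i j h) i).toAlgebra
      Nonempty (M ≃ₗ[Ring.DirectLimit G (fun i j h ↦ f i j h)] (Ring.DirectLimit G (fun i j h ↦ f i j h)) ⊗[G i] Mi) := by
  classical
  obtain ⟨n, K, e, s, hs⟩ := Module.FinitePresentation.exists_fin (Ring.DirectLimit G (fun i j h ↦ f i j h)) M
  choose ix z hz using fun a : Ring.DirectLimit G (fun i j h ↦ f i j h) => Ring.DirectLimit.exists_of a
  obtain ⟨i, hi⟩ := Finset.exists_le ((s ×ˢ (Finset.univ : Finset (Fin n))).image fun q => ix (q.1 q.2))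
  have hlift : ∀ v ∈ s, ∃ w : Fin n → G i,
      (fun j => Ring.DirectLimit.of G (fun i j h ↦ f i j h) i (w j)) = v := by
    intro v hv
    have hle : ∀ j, ix (v j) ≤ i := fun j => hi _ (Finset.mem_image.2
      ⟨(v, j), Finset.mem_product.2 ⟨hv, Finset.mem_univ j⟩, rfl⟩)
    exact ⟨fun j => f _ i (hle j) (z (v j)), funext fun j => (Ring.DirectLimit.of_f (hle j) _).trans (hz (v j))⟩
  choose w hw using hlift
  letI : Algebra (G i) (Ring.DirectLimit G (fun i j h ↦ f i j h)) :=
    (Ring.DirectLimit.of G (fun i j h ↦ f i j h) i).toAlgebra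
  let L : Submodule (G i) (Fin n → G i) := Submodule.span (G i) (Set.range fun v : s => w v.1 v.2)
  refine ⟨i, (Fin n → G i) ⧸ L, inferInstance, inferInstance,
    Module.finitePresentation_of_surjective L.mkQ L.mkQ_surjective
      (by rw [Submodule.ker_mkQ]; exact Submodule.fg_span (Set.finite_range _)), ?_⟩
  refine aux (G i) (Ring.DirectLimit G (fun i j h ↦ f i j h)) M n (fun v : s => w v.1 v.2) K e ?_
  rw [← hs]
  congr 1
  ext v
  constructor
  · exact fun hv => ⟨⟨v, hv⟩, hw v hv⟩
  · rintro ⟨⟨v', hv'⟩, rfl⟩
    rw [Finset.mem_coe]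
    convert hv'
    exact hw v' hv'
where
  aux (R A : Type u) [CommRing R] [CommRing A] [Algebra R A] (N : Type u) [AddCommGroup N] [Module A N]
      (n : ℕ) {σ : Type u} (w : σ → Fin n → R) (K : Submodule A (Fin n → A))
      (e : N ≃ₗ[A] (Fin n → A) ⧸ K)
      (hK : K = Submodule.span A (Set.range fun v : σ => fun j => algebraMap R A (w v j))) :
      Nonempty (N ≃ₗ[A] A ⊗[R] ((Fin n → R) ⧸ Submodule.span R (Set.range w))) := by
    let L := Submodule.span R (Set.range w)
    let π : A ⊗[R] (Fin n → R) ≃ₗ[A] (Fin n → A) := TensorProduct.piScalarRight R A A (Fin n)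
    refine ⟨e.trans ((Submodule.Quotient.equiv _ _ π ?_).symm.trans
      (TensorProduct.AlgebraTensorModule.tensorQuotientEquiv A R A L).symm)⟩
    have hpi : ∀ (a : A) (v : Fin n → R), π (a ⊗ₜ[R] v) = a • fun j => algebraMap R A (v j) := fun a v => by
      rw [show π (a ⊗ₜ[R] v) = TensorProduct.piScalarRightHom R A A (Fin n) (a ⊗ₜ[R] v) from rfl,
        TensorProduct.piScalarRightHom_tmul]
      funext j
      rw [Pi.smul_apply, smul_eq_mul, Algebra.smul_def, mul_comm]
    refine le_antisymm ?_ ?_
    · rintro _ ⟨x, ⟨y, rfl⟩, rfl⟩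
      induction y using TensorProduct.induction_on with
      | zero => simp only [map_zero]; exact K.zero_mem
      | add a b ha hb => simp only [map_add]; exact K.add_mem ha hb
      | tmul a l =>
        show π (a ⊗ₜ[R] (l : Fin n → R)) ∈ K
        rw [hpi]
        refine K.smul_mem _ ?_
        obtain ⟨l, hl⟩ := l
        induction hl using Submodule.span_induction with
        | mem x hx =>
          obtain ⟨v, rfl⟩ := hx
          rw [hK]
          exact Submodule.subset_span ⟨v, rfl⟩
        | zero =>
          convert K.zero_mem using 1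
          funext j
          simp
        | add x y _ _ hx hy =>
          convert K.add_mem hx hy using 1
          funext j
          simp
        | smul r x _ hx =>
          convert K.smul_mem (algebraMap R A r) hx using 1
          funext j
          simp
    · rw [hK, Submodule.span_le]
      rintro _ ⟨v, rfl⟩
      refine ⟨(1 : A) ⊗ₜ[R] (w v), ⟨(1 : A) ⊗ₜ[R] (⟨w v, Submodule.subset_span ⟨v, rfl⟩⟩ : L), rfl⟩, ?_⟩
      show π ((1 : A) ⊗ₜ[R] w v) = _
      rw [hpi, one_smul]

end Groth.Agent.S4726
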