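import Groth.Statements.S4728
import Groth.Agent.Lib.NormalTensor.Formal
-- import your own Groth.Agent.* helpers here

set_option autoImplicit false
universe u
open EGA4

namespace Groth.Agent.S4728

/-- Let A be a Noetherian local domain of dimension 1 with maximal ideal m, A' a Noetherian local ring
and A → A' a local homomorphism which is normal (flat, with geometrically normal fibres). Then the
ideal m A' of A' is prime and the local ring of A' at m A' has dimension 1. (The remaining clauses
of the published item, describing A' inside its total ring of fractions, are not restated.) -/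
theorem result (A A' : Type u) [CommRing A] [CommRing A']
    [IsNoetherianRing A] [IsNoetherianRing A'] [IsLocalRing A] [IsLocalRing A'] [IsDomain A]
    (hA : ringKrullDim A = 1) [Algebra A A'] [IsLocalHom (algebraMap A A')] (h : EGA4.IsNormalHom A A') :
    ((IsLocalRing.maximalIdeal A).map (algebraMap A A')).IsPrime ∧
      ((IsLocalRing.maximalIdeal A).map (algebraMap A A')).height = 1 := by
  let m := IsLocalRing.maximalIdeal A
  haveI : Module.Flat A A' := h.1
  let κ := A ⧸ m
  letI : Field κ := Ideal.Quotient.field m
  have h1 : EGA4.IsNormalRing (TensorProduct A A' κ) :=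
    Groth.Agent.Lib.NormalTensor.BaseChange.isNormalRing_tensor_field h κ
  let I := m.map (algebraMap A A')
  have h2 : EGA4.IsNormalRing (A' ⧸ I) := Groth.Agent.Lib.NormalTensor.Basic.isNormalRing_congr
    (Algebra.TensorProduct.quotIdealMapEquivTensorQuot A' m).symm.toRingEquiv h1
  have hI : I ≠ ⊤ := ne_top_of_le_ne_top (IsLocalRing.maximalIdeal.isMaximal A').ne_top
    (((IsLocalRing.local_hom_TFAE (algebraMap A A')).out 0 2).mp ‹IsLocalHom (algebraMap A A')›)
  haveI : Nontrivial (A' ⧸ I) := Ideal.Quotient.nontrivial_iff.2 hI
  haveI : IsLocalRing (A' ⧸ I) := IsLocalRing.of_surjective' (Ideal.Quotient.mk I) Ideal.Quotient.mk_surjective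
  haveI := Groth.Agent.Lib.NormalTensor.Formal.isDomain_of_isNormalRing_local h2
  have hP : I.IsPrime := (Ideal.Quotient.isDomain_iff_prime I).1 ‹_›
  refine ⟨hP, ?_⟩
  haveI : I.LiesOver m := ⟨(IsLocalRing.eq_maximalIdeal (I := m) inferInstance).trans
    (((IsLocalRing.maximalIdeal.isMaximal A).eq_of_le (Ideal.IsPrime.under A I).ne_top Ideal.le_comap_map))⟩
  rw [Ideal.height_eq_height_add_of_liesOver_of_hasGoingDown m I, Ideal.map_quotient_self, Ideal.height_bot, add_zero]
  exact_mod_cast (IsLocalRing.maximalIdeal_height_eq_ringKrullDim (R := A)).trans hA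

end Groth.Agent.S4728
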