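import Groth.Statements.S4729
import Mathlib.RingTheory.KrullDimension.Module
import Mathlib.RingTheory.Localization.Ideal

set_option autoImplicit false
set_option linter.style.haveILetI false
universe u
open EGA4

namespace Groth.Agent.S4729

theorem comap_le {A : Type u} [CommRing A] (p : Ideal A) [p.IsPrime]
    (P : PrimeSpectrum (Localization.AtPrime p)) :
    P.asIdeal.comap (algebraMap A (Localization.AtPrime p)) ≤ p := fun x hx => by
  by_contra hxp
  exact P.2.ne_top (P.asIdeal.eq_top_of_isUnit_mem hx
    (IsLocalization.map_units (Localization.AtPrime p) (⟨x, hxp⟩ : p.primeCompl)))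

theorem mem_support_localized {A : Type u} [CommRing A] (M : Type u) [AddCommGroup M] [Module A M]
    (p : Ideal A) [p.IsPrime] (P : PrimeSpectrum (Localization.AtPrime p)) :
    P ∈ Module.support (Localization.AtPrime p) (LocalizedModule p.primeCompl M) ↔
      (⟨P.asIdeal.comap (algebraMap A (Localization.AtPrime p)), Ideal.IsPrime.comap _⟩ :
        PrimeSpectrum A) ∈ Module.support A M := by
  simp only [Module.mem_support_iff']
  constructor
  · rintro ⟨m, hm⟩
    induction m using LocalizedModule.induction_on with
    | _ z s =>
      refine ⟨z, fun r hr hz => hm (algebraMap A _ r) hr ?_⟩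
      rw [algebraMap_smul, LocalizedModule.smul'_mk, hz, LocalizedModule.zero_mk]
  · rintro ⟨z, hz⟩
    refine ⟨LocalizedModule.mk z 1, fun c hc h0 => ?_⟩
    obtain ⟨a, t, rfl⟩ := IsLocalization.exists_mk'_eq p.primeCompl c
    have ha : algebraMap A (Localization.AtPrime p) a ∉ P.asIdeal := fun ha => hc (by
      rw [IsLocalization.mk'_eq_mul_mk'_one]; exact Ideal.mul_mem_right _ _ ha)
    rw [← Localization.mk_eq_mk', LocalizedModule.mk_smul_mk, ← LocalizedModule.zero_mk (1 : p.primeCompl),
      LocalizedModule.mk_eq] at h0
    obtain ⟨u, hu⟩ := h0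
    simp only [one_smul, smul_zero, Submonoid.smul_def, smul_smul] at hu
    refine hz _ (fun hmem => ?_) hu
    rw [Ideal.mem_comap, map_mul] at hmem
    rcases P.2.mem_or_mem hmem with hh | hh
    · exact P.2.ne_top (P.asIdeal.eq_top_of_isUnit_mem hh (IsLocalization.map_units _ u))
    · exact ha hh


/-- Let A be a commutative ring, M a finite A-module and p ⊆ q prime ideals of A (so that p is a
generization of q). Then the dimension of the A_p-module M_p is at most the dimension of the
A_q-module M_q. -/
theorem result (A : Type u) [CommRing A] (M : Type u) [AddCommGroup M] [Module A M]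
    [Module.Finite A M] (p q : Ideal A) [p.IsPrime] [q.IsPrime] (hpq : p ≤ q) :
    Module.supportDim (Localization.AtPrime p) (LocalizedModule p.primeCompl M) ≤
      Module.supportDim (Localization.AtPrime q) (LocalizedModule q.primeCompl M) := by
  have e1 := mem_support_localized M p
  have e2 := mem_support_localized M q
  let g : Module.support (Localization.AtPrime p) (LocalizedModule p.primeCompl M) →
      Module.support (Localization.AtPrime q) (LocalizedModule q.primeCompl M) := fun P =>
    have hd : Disjoint (q.primeCompl : Set A) (P.1.asIdeal.comap (algebraMap A _)) :=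
      Set.disjoint_left.2 fun x hx hxP => hx (hpq (comap_le p P.1 hxP))
    ⟨⟨(P.1.asIdeal.comap (algebraMap A (Localization.AtPrime p))).map
        (algebraMap A (Localization.AtPrime q)),
      IsLocalization.isPrime_of_isPrime_disjoint _ _ _ (Ideal.IsPrime.comap _) hd⟩, by
      rw [e2]
      convert (e1 P.1).1 P.2 using 1
      exact PrimeSpectrum.ext (IsLocalization.under_map_of_isPrime_disjoint q.primeCompl _
        (Ideal.IsPrime.comap _) hd)⟩
  refine Order.krullDim_le_of_strictMono g fun P P' hlt => ?_
  have hle : P.1.asIdeal.comap (algebraMap A _) ≤ P'.1.asIdeal.comap (algebraMap A _) :=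
    Ideal.comap_mono (le_of_lt hlt)
  refine lt_of_le_of_ne (show (g P).1.asIdeal ≤ (g P').1.asIdeal from Ideal.map_mono hle) fun he => ?_
  have hd : ∀ R : Module.support (Localization.AtPrime p) (LocalizedModule p.primeCompl M),
      Disjoint (q.primeCompl : Set A) (R.1.asIdeal.comap (algebraMap A _)) := fun R =>
    Set.disjoint_left.2 fun x hx hxP => hx (hpq (comap_le p R.1 hxP))
  have h2 := congrArg (fun r : Module.support (Localization.AtPrime q) (LocalizedModule q.primeCompl M) =>
    r.1.asIdeal.comap (algebraMap A (Localization.AtPrime q))) he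
  simp only [g] at h2
  have hu : ∀ R : Module.support (Localization.AtPrime p) (LocalizedModule p.primeCompl M),
      ((R.1.asIdeal.comap (algebraMap A (Localization.AtPrime p))).map
        (algebraMap A (Localization.AtPrime q))).comap (algebraMap A (Localization.AtPrime q)) =
      R.1.asIdeal.comap (algebraMap A (Localization.AtPrime p)) := fun R =>
    IsLocalization.under_map_of_isPrime_disjoint q.primeCompl _ (Ideal.IsPrime.comap _) (hd R)
  rw [hu P, hu P'] at h2
  apply hlt.ne
  apply Subtype.ext
  apply PrimeSpectrum.ext
  rw [← IsLocalization.map_under p.primeCompl (Localization.AtPrime p) P.1.asIdeal,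
    ← IsLocalization.map_under p.primeCompl (Localization.AtPrime p) P'.1.asIdeal]
  exact congrArg _ h2

end Groth.Agent.S4729
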