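import Groth.Statements.S4731
import Mathlib

set_option autoImplicit false
universe u
open EGA4

namespace Groth.Agent.S4731

/-- Let S → R be an injective homomorphism of commutative rings making R a finite S-module, with R
Noetherian; let c be the conductor of S in R, the ideal of those s in S with s R contained in (the
image of) S. If S/c is Noetherian, then every increasing sequence of ideals of S contained in c is
eventually constant. -/
theorem result (S R : Type u) [CommRing S] [CommRing R] [Algebra S R]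
    [FaithfulSMul S R] [IsNoetherianRing R] [Module.Finite S R] (c : Ideal S)
    (hc : ∀ s : S, s ∈ c ↔ ∀ r : R, ∃ s' : S, algebraMap S R s' = algebraMap S R s * r)
    [IsNoetherianRing (S ⧸ c)] (a : ℕ →o Ideal S) (ha : ∀ n, a n ≤ c) :
    ∃ N : ℕ, ∀ n, N ≤ n → a n = a N := by
  classical
  set f := Algebra.linearMap S R
  let J : ℕ →o Ideal R := ⟨fun n => (a n).map (algebraMap S R), fun i j h => Ideal.map_mono (a.mono h)⟩
  obtain ⟨n₁, hn₁⟩ := monotone_stabilizes_iff_noetherian.2 (inferInstanceAs (IsNoetherian R R)) J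
  let J₁ : Submodule S R := (J n₁).restrictScalars S
  haveI : Module.Finite R (J n₁) := Module.Finite.iff_fg.2 (IsNoetherian.noetherian _)
  haveI : Module.Finite S J₁ := (Module.Finite.trans R (J n₁) : Module.Finite S (J n₁))
  let Q := J₁ ⧸ (c • ⊤ : Submodule S J₁)
  haveI : Module.Finite (S ⧸ c) Q := Module.Finite.of_restrictScalars_finite S _ _
  have hmem : ∀ n, n₁ ≤ n → ∀ x ∈ a n, f x ∈ J₁ := fun n hn x hx => by
    show f x ∈ J n₁
    rw [hn₁ n hn]; exact Ideal.mem_map_of_mem _ hx
  let mk : J₁ →ₗ[S] Q := (c • ⊤ : Submodule S J₁).mkQ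
  let Bn : ℕ → Submodule (S ⧸ c) Q := fun n =>
    { toAddSubmonoid := (Submodule.map mk (Submodule.comap J₁.subtype (Submodule.map f (a n)))).toAddSubmonoid
      smul_mem' := by
        intro r q hq
        obtain ⟨s, rfl⟩ := Ideal.Quotient.mk_surjective r
        exact (Submodule.map mk (Submodule.comap J₁.subtype (Submodule.map f (a n)))).smul_mem s hq }
  have hBmem : ∀ n q, q ∈ Bn n ↔ q ∈ Submodule.map mk (Submodule.comap J₁.subtype (Submodule.map f (a n))) := fun n q => Iff.rfl
  have hBn : Monotone Bn := fun i j h q hq => (hBmem j q).2 (Submodule.map_mono (Submodule.comap_mono (Submodule.map_mono (a.mono h))) ((hBmem i q).1 hq))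
  obtain ⟨n₂, hn₂⟩ := monotone_stabilizes_iff_noetherian.2 (inferInstanceAs (IsNoetherian (S ⧸ c) Q)) ⟨Bn, hBn⟩
  have hP : ∀ z : J₁, z ∈ (c • ⊤ : Submodule S J₁) → (z : R) ∈ Submodule.map f (a n₁) := by
    intro z hz
    refine Submodule.smul_induction_on hz (fun s hs w _ => ?_) ?_
    swap
    · intro u v hu hv; rw [Submodule.coe_add]; exact add_mem hu hv
    ·
      have hw : (w : R) ∈ Submodule.span R (algebraMap S R '' (a n₁ : Set S)) := w.2
      rw [Submodule.coe_smul]
      suffices ∀ u ∈ Submodule.span R (algebraMap S R '' (a n₁ : Set S)), ∀ r : R, s • (r * u) ∈ Submodule.map f (a n₁) by simpa using this _ hw 1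
      intro u hu0
      induction hu0 using Submodule.span_induction with
      | mem u hu =>
        obtain ⟨x, hx, rfl⟩ := hu
        intro r
        obtain ⟨s', hs'⟩ := (hc s).1 hs r
        refine ⟨x * s', (a n₁).mul_mem_right _ hx, ?_⟩
        show algebraMap S R (x * s') = _
        rw [map_mul, hs', Algebra.smul_def]; ring
      | zero => intro r; simp
      | add u v _ _ hu hv => intro r; rw [mul_add, smul_add]; exact add_mem (hu r) (hv r)
      | smul r' u _ hu => intro r; rw [smul_eq_mul, ← mul_assoc]; exact hu _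
  refine ⟨max n₁ n₂, fun n hn => le_antisymm (fun x hx => ?_) (a.mono hn)⟩
  set N := max n₁ n₂ with hN
  have h1 : mk ⟨f x, hmem n (by omega) x hx⟩ ∈ Bn n := (hBmem n _).2 ⟨⟨f x, hmem n (by omega) x hx⟩, ⟨x, hx, rfl⟩, rfl⟩
  have e1 : Bn n₂ = Bn n := hn₂ n (by omega)
  have e2 : Bn n₂ = Bn N := hn₂ N (by omega)
  rw [← e1, e2] at h1
  obtain ⟨w, ⟨y, hy, hyw⟩, hw⟩ := (hBmem N _).1 h1
  obtain ⟨y', hy', he⟩ := hP _ ((Submodule.Quotient.eq _).1 hw)
  have : f x = f (y - y') := by
    rw [map_sub, he, hyw]
    simp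
  rw [FaithfulSMul.algebraMap_injective S R this]
  exact sub_mem hy (a.mono (by omega) hy')

end Groth.Agent.S4731
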