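import Groth.Statements.S4732
import Mathlib.RingTheory.RegularLocalRing.Polynomial
import Mathlib.RingTheory.FiniteType

set_option autoImplicit false
universe u
open EGA4

namespace Groth.Agent.S4732

open AlgebraicGeometry CategoryTheory in
/-- Let k be a field, X a scheme locally of finite type over k and x a point of X. Then there are an
open neighbourhood U of x, a k-scheme Y all of whose local rings are regular, and an immersion U → Y
compatible with the structure morphisms to Spec k. -/
theorem result (k : Type u) [Field k] {X : Scheme.{u}}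
    (f : X ⟶ Spec (CommRingCat.of k)) [LocallyOfFiniteType f] (x : X) :
    ∃ (U : X.Opens) (_ : x ∈ U) (Y : Scheme.{u}) (g : Y ⟶ Spec (CommRingCat.of k)) (i : (U : Scheme.{u}) ⟶ Y),
      IsImmersion i ∧ i ≫ g = U.ι ≫ f ∧ ∀ y : Y, IsRegularLocalRing (Y.presheaf.stalk y) := by
  obtain ⟨U, hU, hxU, -⟩ := exists_isAffineOpen_mem_and_subset (show x ∈ (⊤ : X.Opens) from trivial)
  refine ⟨U, hxU, ?_⟩
  let q : Spec Γ(X, U) ⟶ Spec (CommRingCat.of k) := hU.fromSpec ≫ f
  letI : Algebra k Γ(X, U) := (Spec.preimage q).hom.toAlgebra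
  have hq : Spec.map (CommRingCat.ofHom (algebraMap k Γ(X, U))) = q := Spec.map_preimage q
  haveI : Algebra.FiniteType k Γ(X, U) := by
    have : LocallyOfFiniteType (Spec.map (CommRingCat.ofHom (algebraMap k Γ(X, U)))) := by
      rw [hq]; infer_instance
    exact (HasRingHomProperty.Spec_iff (P := @LocallyOfFiniteType)).mp this
  obtain ⟨n, φ, hφ⟩ := Algebra.FiniteType.iff_quotient_mvPolynomial''.mp (inferInstance : Algebra.FiniteType k Γ(X, U))
  let P := MvPolynomial (Fin n) k
  let i₀ : Spec Γ(X, U) ⟶ Spec (CommRingCat.of P) := Spec.map (CommRingCat.ofHom φ.toRingHom)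
  haveI : IsClosedImmersion i₀ := IsClosedImmersion.spec_of_surjective _ hφ
  have hw : i₀ ≫ Spec.map (CommRingCat.ofHom (algebraMap k P)) = q := by
    rw [← hq, ← Spec.map_comp]
    congr 1
    exact CommRingCat.hom_ext φ.comp_algebraMap
  refine ⟨Spec (CommRingCat.of P), Spec.map (CommRingCat.ofHom (algebraMap k P)), hU.isoSpec.hom ≫ i₀, inferInstance, ?_, ?_⟩
  · rw [Category.assoc, hw]
    simp only [q, IsAffineOpen.fromSpec, Category.assoc, Iso.hom_inv_id_assoc]
  · intro y
    let p : PrimeSpectrum P := y
    letI : Algebra P ((Spec (CommRingCat.of P)).presheaf.stalk y) :=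
      StructureSheaf.stalkAlgebra (CommRingCat.of P) y
    haveI : IsLocalization.AtPrime ((Spec (CommRingCat.of P)).presheaf.stalk y) p.asIdeal :=
      StructureSheaf.IsLocalization.to_stalk (CommRingCat.of P) y
    haveI : IsRegularLocalRing (Localization.AtPrime p.asIdeal) := isRegularRing_iff.mp inferInstance p.asIdeal
    exact IsRegularLocalRing.of_ringEquiv
      (IsLocalization.algEquiv p.asIdeal.primeCompl (Localization.AtPrime p.asIdeal) _).toRingEquiv

end Groth.Agent.S4732
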