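import Groth.Statements.S9256
import Groth.Agent.H2.Rigid.GeomRegLocal
import Groth.Agent.Lib.Cohen.DedekindGRing
import Groth.Agent.Lib.Cohen.QuasiExcellent

set_option autoImplicit false
universe u
open CAlg

namespace Groth.Agent.S9256

/-- For a field extension K of k, the ring map k → K is regular exactly when K is separable over k, that
is, geometrically reduced over k. -/
theorem result (k K : Type u) [Field k] [Field K]
    [Algebra k K] : CAlg.IsRegularHom k K ↔ Algebra.IsGeometricallyReduced k K := by
  have hiff : CAlg.IsRegularHom k K ↔ CAlg.IsGeometricallyRegular k K := by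
    constructor
    · intro h
      have := H2.Rigid.GeomRegHom.isNoetherianRing_fiber (S := K) (⊥ : Ideal k)
      exact H2.Rigid.GeomRegHom.descend K (⊥ : Ideal k).ResidueField (h.2 ⊥).2
    · intro h
      refine ⟨inferInstance, fun p _ => ⟨H2.Rigid.GeomRegHom.isNoetherianRing_fiber p, ?_⟩⟩
      have : IsNoetherianRing (TensorProduct k p.ResidueField K) := H2.Rigid.GeomRegHom.isNoetherianRing_fiber p
      exact H2.Rigid.GeomRegHom.baseChange K p.ResidueField h
  rw [hiff]
  constructor
  · intro h
    rw [Algebra.isGeometricallyReduced_field_iff]
    have hred : _root_.IsReduced (TensorProduct k K (AlgebraicClosure k)) := by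
      refine IsReduced.tensorProduct_of_flat_of_forall_fg fun B hB => ?_
      have hf : Module.Finite k B := by
        obtain ⟨s, rfl⟩ := hB
        exact Module.Finite.iff_fg.2 (fg_adjoin_of_finite s.finite_toSet fun x _ =>
          (Algebra.IsAlgebraic.isAlgebraic x).isIntegral)
      let _ : Field B := (Subalgebra.isField_of_algebraic B).toField
      have := h B hf
      have : _root_.IsReduced (TensorProduct k B K) :=
        Lib.Cohen.QuasiExcellent.isReduced_of_isRegularRing _
      exact isReduced_of_injective (Algebra.TensorProduct.comm k K B) (AlgEquiv.injective _)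
    exact isReduced_of_injective (Algebra.TensorProduct.comm k (AlgebraicClosure k) K) (AlgEquiv.injective _)
  · intro h
    refine H2.Rigid.GeomRegAlg.geometricallyRegular_iff_piReg.2 fun k' _ _ hf _ => ?_
    have := hf
    have : IsArtinianRing (TensorProduct k k' K) :=
      have : IsArtinianRing (TensorProduct k K k') := isArtinian_of_tower K (inferInstance : IsArtinian K (TensorProduct k K k'))
      (Algebra.TensorProduct.comm k K k').toRingEquiv.surjective.isArtinianRing
    exact Lib.Cohen.DedekindGRing.isRegularRing_of_artinian_reduced _

end Groth.Agent.S9256
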