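import Groth.Statements.S4734
import Groth.Agent.Lib.EGA75.NormFlatLocal
import Groth.Agent.Lib.EGA75.CodepthCriterion
import Groth.Agent.S2612

set_option autoImplicit false
set_option linter.style.haveILetI false
universe u
open EGA4

namespace Groth.Agent.S4734

/-- Let A be a Noetherian ring, I a nilpotent ideal of A and M a finite A-module whose support is all of
Spec A and which is normally flat along I. Then for every prime p of A: M satisfies Serre's
condition (S_n) at p if and only if the A-module A/I does; and the codepth of M_p is at most n if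
and only if the codepth of the A_p-module (A/I)_p is at most n (codepth written additively as dim ≤
depth + n). -/
theorem result (n : ℕ) (A : Type u) [CommRing A] [IsNoetherianRing A]
    (I : Ideal A) (hI : IsNilpotent I) (M : Type u) [AddCommGroup M] [Module A M] [Module.Finite A M]
    (hsupp : Module.support A M = Set.univ) (hM : EGA4.IsNormallyFlat I M) (p : Ideal A) [p.IsPrime] :
    (EGA4.HasSkAt n A M p ↔ EGA4.HasSkAt n A (A ⧸ I) p) ∧
      (Module.supportDim (Localization.AtPrime p) (LocalizedModule p.primeCompl M) ≤
          ((LocCoh.depth (Localization.AtPrime p) (LocalizedModule p.primeCompl M) : ℕ∞) : WithBot ℕ∞) + n ↔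
        Module.supportDim (Localization.AtPrime p) (LocalizedModule p.primeCompl (A ⧸ I)) ≤
          ((LocCoh.depth (Localization.AtPrime p) (LocalizedModule p.primeCompl (A ⧸ I)) : ℕ∞) : WithBot ℕ∞) + n) := by
  have key : ∀ q : PrimeSpectrum A,
      Module.supportDim (Localization.AtPrime q.asIdeal) (LocalizedModule q.asIdeal.primeCompl M) =
        Module.supportDim (Localization.AtPrime q.asIdeal) (LocalizedModule q.asIdeal.primeCompl (A ⧸ I)) ∧
      LocCoh.depth (Localization.AtPrime q.asIdeal) (LocalizedModule q.asIdeal.primeCompl M) =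
        LocCoh.depth (Localization.AtPrime q.asIdeal) (LocalizedModule q.asIdeal.primeCompl (A ⧸ I)) := by
    intro q
    let R := Localization.AtPrime q.asIdeal
    haveI : IsNoetherianRing R := IsLocalization.isNoetherianRing q.asIdeal.primeCompl R inferInstance
    haveI : Nontrivial (LocalizedModule q.asIdeal.primeCompl M) :=
      Module.mem_support_iff.1 (hsupp ▸ Set.mem_univ q)
    haveI : Module.Finite R (LocalizedModule q.asIdeal.primeCompl M) := Module.Finite.of_isLocalizedModule
      q.asIdeal.primeCompl (LocalizedModule.mkLinearMap q.asIdeal.primeCompl M)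
    have hnil : IsNilpotent (I.map (algebraMap A R)) := by
      obtain ⟨N, hN⟩ := hI
      exact ⟨N, by rw [← Ideal.map_pow, hN, Ideal.zero_eq_bot, Ideal.map_bot]; rfl⟩
    obtain ⟨h1, h2⟩ := Groth.Agent.S2612.result R (I.map (algebraMap A R)) hnil
      (LocalizedModule q.asIdeal.primeCompl M)
      (Groth.Agent.Lib.EGA75.NormFlatLocal.isNormallyFlat_localized q.asIdeal.primeCompl I M hM)
    let e := Groth.Agent.Lib.EGA75.CodepthCriterion.localizedQuotientEquiv I q.asIdeal
    rw [h1, h2, Module.supportDim_eq_of_equiv e, Module.supportDim_quotient_eq_ringKrullDim,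
      Groth.Agent.Lib.Depth.Basic.depth_congr e]
    exact ⟨rfl, rfl⟩
  refine ⟨?_, ?_⟩
  · rw [Groth.Agent.Lib.EGA75.SnLocus.hasSkAt_iff M n ⟨p, inferInstance⟩,
      Groth.Agent.Lib.EGA75.SnLocus.hasSkAt_iff (A ⧸ I) n ⟨p, inferInstance⟩]
    exact forall₂_congr fun q _ => by rw [(key q).1, (key q).2]
  · obtain ⟨h1, h2⟩ := key ⟨p, inferInstance⟩
    rw [h1, h2]

end Groth.Agent.S4734
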