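import Groth.Statements.S4735
import Groth.Agent.H18.HullFin.EssStrict

set_option autoImplicit false
universe u
open EGA4

namespace Groth.Agent.S4735

/-- Let A be a strictly formally catenary Noetherian local ring. Then every Noetherian local ring B
which is an A-algebra essentially of finite type is strictly formally catenary. -/
theorem result (A : Type u) [CommRing A] [IsNoetherianRing A] [IsLocalRing A]
    (hA : EGA4.IsFormallyStrictlyCatenary A) (B : Type u) [CommRing B] [IsNoetherianRing B] [IsLocalRing B]
    [Algebra A B] [Algebra.EssFiniteType A B] : EGA4.IsFormallyStrictlyCatenary B := by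
  intro p hp
  set P := p.comap (algebraMap A B) with hP
  haveI : p.LiesOver P := ⟨rfl⟩
  haveI : IsLocalRing (A ⧸ P) := .of_surjective' _ Ideal.Quotient.mk_surjective
  haveI : IsLocalRing (B ⧸ p) := .of_surjective' _ Ideal.Quotient.mk_surjective
  haveI : Algebra.EssFiniteType A (B ⧸ p) := Algebra.EssFiniteType.comp A B (B ⧸ p)
  haveI : Algebra.EssFiniteType (A ⧸ P) (B ⧸ p) := Algebra.EssFiniteType.of_comp A _ _
  haveI : FaithfulSMul (A ⧸ P) (B ⧸ p) :=
    (faithfulSMul_iff_algebraMap_injective _ _).2 (Ideal.quotientMap_injective' le_rfl)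
  exact H18.HullFin.EssStrict.isStrictlyEquidim_cpl (A ⧸ P) (hA P) (B ⧸ p)
    (H18.FEquidim.Loc.isFormallyEquidim_of_essFiniteType
      (H18.FEquidim.CM.isFormallyCatenary_of_strictly hA) (B ⧸ p)
      H18.FEquidim.Cpl.isEquidim_of_isDomain)

end Groth.Agent.S4735
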