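import Groth.Statements.S4737
import Groth.Agent.Lib.Excellent.QuotientFibre
import Groth.Agent.Lib.Excellent.Transport
import Groth.Agent.Lib.Excellent.Reduced
import Mathlib.RingTheory.AdicCompletion.AsTensorProduct

set_option autoImplicit false
set_option linter.style.haveILetI false
universe u
open EGA4

namespace Groth.Agent.S4737

/-- The property 'geometrically regular', case of a local ring: let A be a Noetherian local ring whose
completion map A → Â is regular (the formal fibres of A are geometrically regular). Then for every
proper ideal I of A, the completion map of the local ring A/I is regular. -/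
theorem result (A : Type u) [CommRing A] [IsNoetherianRing A] [IsLocalRing A]
    (hA : CAlg.IsRegularHom A (EGA4.Cpl A)) (I : Ideal A) [Nontrivial (A ⧸ I)] :
    CAlg.IsRegularHom (A ⧸ I) (EGA4.Cpl (A ⧸ I)) := by
  open Groth.Agent.Lib.Excellent in
  exact ⟨inferInstance, fun p _ =>
    ⟨QuotientFibre.formalFibre_quotient A I (P := fun R [CommRing R] => IsNoetherianRing R)
      (fun R _ _ _ e _ => isNoetherianRing_of_ringEquiv R e) (fun p _ => (hA.2 p).1) p,
    (FormalFibre.forall_fibre_iff (P := fun R [CommRing R] => IsRegularRing R)
      Transport.isoInvariant_isRegularRing (EGA4.Cpl (A ⧸ I))).2 (fun K _ _ hK =>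
        QuotientFibre.forall_fibre_quotient A I (P := fun R [CommRing R] => IsRegularRing R)
          Transport.isoInvariant_isRegularRing
          ((FormalFibre.forall_fibre_iff (P := fun R [CommRing R] => IsRegularRing R)
            Transport.isoInvariant_isRegularRing (EGA4.Cpl A)).1 fun p _ => (hA.2 p).2) K hK) p⟩⟩

end Groth.Agent.S4737
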