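import Groth.Statements.S4738
import Groth.Agent.Lib.Excellent.QuotientFibre
import Groth.Agent.Lib.Excellent.Transport
import Groth.Agent.Lib.Excellent.Reduced
import Mathlib.RingTheory.AdicCompletion.AsTensorProduct

set_option autoImplicit false
set_option linter.style.haveILetI false
universe u
open EGA4

namespace Groth.Agent.S4738

/-- For the property 'geometrically reduced', case of a local ring: if the formal fibres of a Noetherian
local ring A are geometrically reduced, then so are the formal fibres of A/I for every proper ideal
I of A. -/
theorem result (A : Type u) [CommRing A] [IsNoetherianRing A] [IsLocalRing A]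
    (hA : EGA4.HasGeomReducedFormalFibres A) (I : Ideal A) [Nontrivial (A ⧸ I)] :
    EGA4.HasGeomReducedFormalFibres (A ⧸ I) := by
  open Groth.Agent.Lib.Excellent in
  exact (FormalFibre.geomReduced_fibres_iff (EGA4.Cpl (A ⧸ I))).2 fun K _ _ hK =>
    QuotientFibre.forall_fibre_quotient A I (P := fun R [CommRing R] => IsReduced R)
      FormalFibre.isoInvariant_isReduced ((FormalFibre.geomReduced_fibres_iff (EGA4.Cpl A)).1 hA)
      K hK

end Groth.Agent.S4738
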