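import Groth.Statements.S4739
import Groth.Agent.Lib.GRing.FiniteType

set_option autoImplicit false
universe u
open EGA4

namespace Groth.Agent.S4739

open TensorProduct in
/-- Let A → B be a local homomorphism of Noetherian local rings and Â the completion of A, and suppose
B' = B ⊗_A Â is Noetherian. Then for every prime ideal n' of B' lying over the maximal ideal of B
and containing the image of the maximal ideal of A through Â (that is, lying over the maximal ideal
m_A Â of Â), the completion of B and the completion of the local ring B'_{n'} are isomorphic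
(existence of a ring isomorphism only). -/
theorem result (A B : Type u) [CommRing A] [CommRing B] [IsNoetherianRing A]
    [IsNoetherianRing B] [IsLocalRing A] [IsLocalRing B] [Algebra A B] [IsLocalHom (algebraMap A B)]
    [IsNoetherianRing (B ⊗[A] EGA4.Cpl A)] (n' : Ideal (B ⊗[A] EGA4.Cpl A)) [n'.IsPrime]
    (h1 : n'.comap (algebraMap B (B ⊗[A] EGA4.Cpl A)) = IsLocalRing.maximalIdeal B)
    (h2 : (IsLocalRing.maximalIdeal A).map
        ((Algebra.TensorProduct.includeRight.toRingHom : EGA4.Cpl A →+* B ⊗[A] EGA4.Cpl A).comp
          (algebraMap A (EGA4.Cpl A))) ≤ n') :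
    Nonempty (EGA4.Cpl B ≃+* EGA4.Cpl (Localization.AtPrime n')) := by
  let B' := B ⊗[A] EGA4.Cpl A
  let S := Localization.AtPrime n'
  haveI : IsNoetherianRing S := IsLocalization.isNoetherianRing n'.primeCompl _ inferInstance
  haveI : IsLocalHom (algebraMap B S) := by
    refine ((IsLocalRing.local_hom_TFAE _).out 0 4 rfl rfl).mpr ?_
    rw [IsScalarTower.algebraMap_eq B B' S, ← Ideal.comap_comap]
    exact (congrArg _ (IsLocalization.AtPrime.under_maximalIdeal S n')).trans h1
  haveI : Module.Flat B B' := inferInstance
  haveI : Module.Flat B S := Module.Flat.trans B B' S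
  have hle : ((IsLocalRing.maximalIdeal A).map (algebraMap A B')).map (algebraMap B' S) ≤
      (IsLocalRing.maximalIdeal B).map (algebraMap B S) := by
    rw [IsScalarTower.algebraMap_eq A B B', ← Ideal.map_map, Ideal.map_map (f := algebraMap B B'),
      ← IsScalarTower.algebraMap_eq B B' S]
    exact Ideal.map_mono (IsLocalRing.map_maximalIdeal_le _)
  obtain ⟨hm, hk⟩ := Groth.Agent.Lib.GRing.Component.of_approx (A := B) (S := S) (T := B') n' fun t => by
    obtain ⟨s, hs⟩ := Groth.Agent.Lib.GRing.FiniteType.approx A B t
    refine ⟨s, ?_⟩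
    rw [IsScalarTower.algebraMap_apply B B' S]
    have h := hle (Ideal.mem_map_of_mem (algebraMap B' S) hs)
    convert h using 1
    exact (map_sub (algebraMap (B ⊗[A] EGA4.Cpl A) (Localization.AtPrime n')) t _).symm
  obtain ⟨ψ, hψ⟩ := Groth.Agent.Lib.Unram.SmoothCompletion.exists_map (A := B) (B := S)
  exact ⟨RingEquiv.ofBijective ψ (Groth.Agent.S9232.result B S hm hk ψ hψ)⟩

end Groth.Agent.S4739
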