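import Groth.Statements.S4740
import Groth.Agent.H48.CTensor
import Groth.Agent.H80.Clopen.SeriesPurity

set_option autoImplicit false
universe u
attribute [local instance] Algebra.TensorProduct.rightAlgebra
open EGA4

namespace Groth.Agent.S4740

section
open IsLocalRing
open scoped TensorProduct

variable (k B : Type u) [Field k] [CommRing B] [Algebra k B] [IsNoetherianRing B] [IsLocalRing B]
  [IsAdicComplete (maximalIdeal B) B] (d : ℕ)
  (A : Type u) [CommRing A] [Algebra (MvPowerSeries (Fin d) k) A]
  [Module.Finite (MvPowerSeries (Fin d) k) A]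

local notation "PR" => MvPowerSeries (Fin d) k
local notation "PC" => MvPowerSeries (Fin d) B

omit [Field k] [IsNoetherianRing B] [Algebra k B] [IsAdicComplete (maximalIdeal B) B] in
theorem X_mem (i : Fin d) : (MvPowerSeries.X i : PC) ∈ maximalIdeal PC := by
  rw [Groth.Agent.Lib.Cohen.CTensorReduced.maximalIdeal_ps B d]
  exact Ideal.mem_sup_left (Ideal.subset_span ⟨i, rfl⟩)

theorem complete_model :
    IsAdicComplete ((maximalIdeal PC).map (algebraMap PC (PC ⊗[PR] A))) (PC ⊗[PR] A) := by
  haveI := Groth.Agent.Lib.Cohen.CTensorReduced.isAdicComplete_ps B d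
  haveI hc : IsAdicComplete (maximalIdeal PC) (PC ⊗[PR] A) :=
    Groth.Agent.Lib.Adic.Complete.isAdicComplete_of_finite
  exact (IsAdicComplete.map_algebraMap_iff _ _).2 hc

omit [IsAdicComplete (maximalIdeal B) B] in
theorem noeth_model : IsNoetherianRing (PC ⊗[PR] A) := IsNoetherianRing.of_finite PC _

omit [IsAdicComplete (maximalIdeal B) B] in
theorem finite_max : (Set.univ : Set (MaximalSpectrum (PC ⊗[PR] A))).Finite := by
  haveI := noeth_model k B d A
  haveI : Algebra.IsIntegral PC (PC ⊗[PR] A) := Algebra.IsIntegral.of_finite PC _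
  let MT := (maximalIdeal PC).map (algebraMap PC (PC ⊗[PR] A))
  refine Set.Finite.of_finite_image
    (MT.finite_minimalPrimes_of_isNoetherianRing.subset ?_)
    (f := MaximalSpectrum.asIdeal) fun a _ b _ h => MaximalSpectrum.ext h
  rintro _ ⟨⟨P, hP⟩, -, rfl⟩
  have h1 : P.comap (algebraMap PC (PC ⊗[PR] A)) = maximalIdeal PC :=
    IsLocalRing.eq_maximalIdeal (Ideal.isMaximal_comap_of_isIntegral_of_isMaximal P)
  refine ⟨⟨hP.isPrime, Ideal.map_le_iff_le_comap.2 h1.ge⟩, fun Q hQ hle => ?_⟩
  have hQp : Q.IsPrime := hQ.1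
  have h2 : Q.comap (algebraMap PC (PC ⊗[PR] A)) = maximalIdeal PC :=
    ((maximalIdeal.isMaximal PC).eq_of_le (Ideal.comap_ne_top _ hQp.ne_top)
      (Ideal.map_le_iff_le_comap.1 hQ.2)).symm
  have h3 : Q.IsMaximal := Ideal.isMaximal_of_isIntegral_of_isMaximal_comap Q (h2 ▸ maximalIdeal.isMaximal PC)
  exact (h3.eq_of_le hP.ne_top hle).ge

omit [IsLocalRing B] [IsAdicComplete (maximalIdeal B) B] [Module.Finite (MvPowerSeries (Fin d) k) A] in
theorem flat_left :
    letI : Algebra A (PC ⊗[PR] A) := Algebra.TensorProduct.rightAlgebra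
    Module.Flat A (PC ⊗[PR] A) := by
  haveI : Module.Flat PR PC := Groth.Agent.Lib.Cohen.PowerSeriesBaseChange.flat k B (Fin d)
  haveI : Module.Flat A (A ⊗[PR] PC) := Module.Flat.baseChange PR A PC
  exact Module.Flat.of_linearEquiv
    ({ (Algebra.TensorProduct.comm PR A PC).toAddEquiv with
      map_smul' := fun c z => by
        change Algebra.TensorProduct.comm PR A PC (c • z) = c • Algebra.TensorProduct.comm PR A PC z
        induction z using TensorProduct.induction_on with
        | zero => simp
        | add x y hx hy => rw [smul_add, map_add, map_add, smul_add, hx, hy]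
        | tmul a x =>
          rw [TensorProduct.smul_tmul', Algebra.TensorProduct.comm_tmul, Algebra.TensorProduct.comm_tmul,
            smul_eq_mul, Algebra.smul_def]
          change x ⊗ₜ[PR] (c * a) = ((1 : PC) ⊗ₜ[PR] c) * (x ⊗ₜ[PR] a)
          rw [Algebra.TensorProduct.tmul_mul_tmul, one_mul] } : (A ⊗[PR] PC) ≃ₗ[A] PC ⊗[PR] A).symm

theorem flat_right : Module.Flat B (PC ⊗[PR] A) := by
  haveI := noeth_model k B d A
  haveI := complete_model k B d A
  haveI : Module.Flat B PC := Groth.Agent.H80.Clopen.flat_series B d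
  have hI : (maximalIdeal B).map (algebraMap B (PC ⊗[PR] A)) ≤ Ideal.jacobson ⊥ := by
    refine le_trans ?_ (IsAdicComplete.le_jacobson_bot
      ((maximalIdeal PC).map (algebraMap PC (PC ⊗[PR] A))))
    rw [IsScalarTower.algebraMap_eq B PC (PC ⊗[PR] A), ← Ideal.map_map]
    refine Ideal.map_mono ?_
    rw [Groth.Agent.Lib.Cohen.CTensorReduced.maximalIdeal_ps B d]
    exact le_sup_right
  letI : Field (B ⧸ maximalIdeal B) := Ideal.Quotient.field _
  exact Groth.Agent.Lib.LocalFlat.Criterion.flat_of_injective_of_flat_quotient (PC ⊗[PR] A)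
    (maximalIdeal B) hI
    (Groth.Agent.H48.CTensor.injective_tensor_of_flat_quotient (maximalIdeal B)
      (Groth.Agent.H48.CTensor.flat_closedFibre k B d))

omit [IsNoetherianRing B] [IsAdicComplete (maximalIdeal B) B] in
theorem finite_residue (P : Ideal (PC ⊗[PR] A))
    (hP : ∀ i, algebraMap PC (PC ⊗[PR] A) (MvPowerSeries.X i) ∈ P) :
    Module.Finite B ((PC ⊗[PR] A) ⧸ P) := by
  classical
  haveI : Module.Finite PC (PC ⊗[PR] A) := inferInstance
  obtain ⟨s, hs⟩ := (inferInstance : Module.Finite PC (PC ⊗[PR] A)).fg_top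
  refine ⟨⟨s.image (Ideal.Quotient.mk P), eq_top_iff.2 fun q _ => ?_⟩⟩
  obtain ⟨t, rfl⟩ := Ideal.Quotient.mk_surjective q
  have ht : t ∈ Submodule.span PC (s : Set (PC ⊗[PR] A)) := hs ▸ Submodule.mem_top
  induction ht using Submodule.span_induction with
  | mem x hx => exact Submodule.subset_span (Finset.mem_coe.2 (Finset.mem_image_of_mem _ hx))
  | zero => rw [map_zero]; exact zero_mem _
  | add x y _ _ hx hy => rw [map_add]; exact add_mem (hx trivial) (hy trivial)
  | smul c x _ hx =>
    have h1 : algebraMap PC (PC ⊗[PR] A) (c - MvPowerSeries.C (MvPowerSeries.constantCoeff c)) ∈ P := by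
      have h2 : (Ideal.span (Set.range (MvPowerSeries.X : Fin d → PC))) ≤ P.comap (algebraMap PC _) :=
        Ideal.span_le.2 (Set.range_subset_iff.2 hP)
      exact h2 (Groth.Agent.H23.PSAut.mem_span_X_of_constantCoeff _ (by simp))
    have h3 : Ideal.Quotient.mk P (c • x) = MvPowerSeries.constantCoeff c • Ideal.Quotient.mk P x := by
      rw [show MvPowerSeries.constantCoeff c • Ideal.Quotient.mk P x =
        Ideal.Quotient.mk P (MvPowerSeries.constantCoeff c • x) from rfl,
        ← algebraMap_smul PC (MvPowerSeries.constantCoeff c) x,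
        Ideal.Quotient.eq]
      have h5 : ∀ c' : PC, c' • x = algebraMap PC (PC ⊗[PR] A) c' * x := fun c' => Algebra.smul_def c' x
      rw [h5, h5, ← sub_mul, ← map_sub]
      exact P.mul_mem_right _ h1
    rw [h3]
    exact Submodule.smul_mem _ _ (hx trivial)

end

section
open IsLocalRing
open scoped TensorProduct

variable (k B : Type u) [Field k] [CommRing B] [Algebra k B] {d : ℕ}
  (A : Type u) [CommRing A] [IsLocalRing A] [Algebra k A]

set_option maxHeartbeats 1000000 in
theorem closed_fibre (g : MvPowerSeries (Fin d) k →ₐ[k] A)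
    (hgm : Ideal.span (Set.range fun i => g (MvPowerSeries.X i)) = maximalIdeal A) :
    letI : Algebra (MvPowerSeries (Fin d) k) A := g.toRingHom.toAlgebra
    Nonempty (((MvPowerSeries (Fin d) B ⊗[MvPowerSeries (Fin d) k] A) ⧸
        (maximalIdeal A).map (Algebra.TensorProduct.includeRight :
          A →ₐ[MvPowerSeries (Fin d) k] MvPowerSeries (Fin d) B ⊗[MvPowerSeries (Fin d) k] A)) ≃+*
      (A ⧸ maximalIdeal A) ⊗[k] B) := by
  letI : Algebra (MvPowerSeries (Fin d) k) A := g.toRingHom.toAlgebra
  classical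
  let R := MvPowerSeries (Fin d) k
  let C := MvPowerSeries (Fin d) B
  let T := C ⊗[R] A
  let Q := (A ⧸ maximalIdeal A) ⊗[k] B
  let J : Ideal T := (maximalIdeal A).map (Algebra.TensorProduct.includeRight : A →ₐ[R] T)
  have hgmod : ∀ r : R, Ideal.Quotient.mk (maximalIdeal A) (g r) =
      algebraMap k (A ⧸ maximalIdeal A) (MvPowerSeries.constantCoeff r) := fun r => by
    have h1 : r - MvPowerSeries.C (MvPowerSeries.constantCoeff r) ∈
        Ideal.span (Set.range (MvPowerSeries.X : Fin d → R)) :=
      Groth.Agent.H23.PSAut.mem_span_X_of_constantCoeff _ (by simp)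
    have h2 : Ideal.span (Set.range (MvPowerSeries.X : Fin d → R)) ≤ (maximalIdeal A).comap g :=
      Ideal.span_le.2 (Set.range_subset_iff.2 fun i => by
        change g (MvPowerSeries.X i) ∈ maximalIdeal A
        rw [← hgm]
        exact Ideal.subset_span ⟨i, rfl⟩)
    have h3 : g r - g (MvPowerSeries.C (MvPowerSeries.constantCoeff r)) ∈ maximalIdeal A := by
      rw [← map_sub]; exact h2 h1
    rw [Ideal.Quotient.eq.2 h3, show g (MvPowerSeries.C (MvPowerSeries.constantCoeff r)) =
      algebraMap k A (MvPowerSeries.constantCoeff r) from g.commutes _]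
    rfl
  let fC : C →ₐ[R] Q :=
    { (Algebra.TensorProduct.includeRight : B →ₐ[k] Q).toRingHom.comp MvPowerSeries.constantCoeff with
      commutes' := fun r => by
        change (Algebra.TensorProduct.includeRight : B →ₐ[k] Q) (MvPowerSeries.constantCoeff (algebraMap R C r)) =
          (Algebra.TensorProduct.includeLeft : (A ⧸ maximalIdeal A) →ₐ[k] Q)
            (Ideal.Quotient.mk (maximalIdeal A) (g r))
        rw [hgmod, AlgHom.commutes, ← (Algebra.TensorProduct.includeRight : B →ₐ[k] Q).commutes]
        congr 1 }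
  let fA : A →ₐ[R] Q :=
    { (Algebra.TensorProduct.includeLeft : (A ⧸ maximalIdeal A) →ₐ[k] Q).toRingHom.comp
        (Ideal.Quotient.mk (maximalIdeal A)) with
      commutes' := fun r => by
        rfl }
  let ψ : T →ₐ[R] Q := Algebra.TensorProduct.lift fC fA fun _ _ => Commute.all _ _
  have hψt : ∀ (c : C) (a : A), ψ (c ⊗ₜ a) =
      (Ideal.Quotient.mk (maximalIdeal A) a) ⊗ₜ[k] MvPowerSeries.constantCoeff c := fun c a => by
    change ((1 : A ⧸ maximalIdeal A) ⊗ₜ[k] MvPowerSeries.constantCoeff c) *
      ((Ideal.Quotient.mk (maximalIdeal A) a) ⊗ₜ[k] (1 : B)) = _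
    rw [Algebra.TensorProduct.tmul_mul_tmul, one_mul, mul_one]
  let θB : B →ₐ[k] T ⧸ J :=
    { (Ideal.Quotient.mk J).comp ((algebraMap C T).comp MvPowerSeries.C) with
      commutes' := fun l => by
        change Ideal.Quotient.mk J (algebraMap C T (MvPowerSeries.C (algebraMap k B l))) = _
        rw [show (MvPowerSeries.C (algebraMap k B l) : C) = algebraMap k C l from (MvPowerSeries.algebraMap_apply).symm,
          ← IsScalarTower.algebraMap_apply k C T, Ideal.Quotient.mk_algebraMap] }
  haveI : IsScalarTower k R A := IsScalarTower.of_algebraMap_eq fun l => (g.commutes l).symm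
  haveI : IsScalarTower k R C := IsScalarTower.of_algebraMap_eq fun l => by
    simp [R, C, MvPowerSeries.algebraMap_apply'', MvPowerSeries.algebraMap_apply]
  let θA : (A ⧸ maximalIdeal A) →ₐ[k] T ⧸ J :=
    Ideal.Quotient.liftₐ _ (((Ideal.Quotient.mkₐ R J).comp
      (Algebra.TensorProduct.includeRight : A →ₐ[R] T)).restrictScalars k) fun a ha =>
        Ideal.Quotient.eq_zero_iff_mem.2 (Ideal.mem_map_of_mem _ ha)
  let θ : Q →ₐ[k] T ⧸ J := Algebra.TensorProduct.lift θA θB fun x y => by exact mul_comm (θA x) (θB y)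
  have hXJ : ∀ i, algebraMap C T (MvPowerSeries.X i) ∈ J := fun i => by
    have h1 : algebraMap C T (MvPowerSeries.X i) =
        (Algebra.TensorProduct.includeRight : A →ₐ[R] T) (g (MvPowerSeries.X i)) := by
      rw [show g (MvPowerSeries.X i) = algebraMap R A (MvPowerSeries.X i) from rfl, AlgHom.commutes,
        IsScalarTower.algebraMap_apply R C T]
      simp [R, C, MvPowerSeries.algebraMap_apply'']
    rw [h1]
    exact Ideal.mem_map_of_mem _ (hgm ▸ Ideal.subset_span ⟨i, rfl⟩)
  have hθψ : ∀ t, θ (ψ t) = Ideal.Quotient.mk J t := fun t => by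
    induction t using TensorProduct.induction_on with
    | zero => simp only [map_zero]
    | add x y hx hy => simp only [map_add, hx, hy]
    | tmul c a =>
      rw [hψt]
      change Ideal.Quotient.mk J ((1 : C) ⊗ₜ[R] a) *
        Ideal.Quotient.mk J (algebraMap C T (MvPowerSeries.C (MvPowerSeries.constantCoeff c))) = _
      rw [← map_mul, Ideal.Quotient.eq]
      have h2 : Ideal.span (Set.range (MvPowerSeries.X : Fin d → C)) ≤ J.comap (algebraMap C T) :=
        Ideal.span_le.2 (Set.range_subset_iff.2 hXJ)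
      have h3 : algebraMap C T (c - MvPowerSeries.C (MvPowerSeries.constantCoeff c)) ∈ J :=
        h2 (Groth.Agent.H23.PSAut.mem_span_X_of_constantCoeff _ (by simp))
      have h4 : c ⊗ₜ[R] a = (1 : C) ⊗ₜ[R] a * algebraMap C T c := by
        rw [Algebra.TensorProduct.algebraMap_apply, Algebra.TensorProduct.tmul_mul_tmul, one_mul, mul_one,
          Algebra.algebraMap_self, RingHom.id_apply]
      rw [h4, ← mul_sub, ← neg_sub, ← map_sub]
      exact J.mul_mem_left _ (J.neg_mem h3)
  have hsurj : Function.Surjective ψ := fun q => by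
    induction q using TensorProduct.induction_on with
    | zero => exact ⟨0, map_zero ψ⟩
    | add x y hx hy =>
      obtain ⟨u, hu⟩ := hx
      obtain ⟨v, hv⟩ := hy
      exact ⟨u + v, by rw [map_add, hu, hv]⟩
    | tmul a b =>
      obtain ⟨a, rfl⟩ := Ideal.Quotient.mk_surjective a
      exact ⟨(MvPowerSeries.C b : C) ⊗ₜ a, by rw [hψt, MvPowerSeries.constantCoeff_C]⟩
  have hker : RingHom.ker ψ.toRingHom = J := by
    refine le_antisymm (fun t ht => ?_) (Ideal.map_le_iff_le_comap.2 fun a ha => ?_)
    · rw [← Ideal.Quotient.eq_zero_iff_mem, ← hθψ, show ψ t = 0 from ht, map_zero]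
    · rw [Ideal.mem_comap, RingHom.mem_ker]
      change ψ ((1 : C) ⊗ₜ a) = 0
      rw [hψt, Ideal.Quotient.eq_zero_iff_mem.2 ha, TensorProduct.zero_tmul]
  exact ⟨(Ideal.quotEquivOfEq hker.symm).trans (RingHom.quotientKerEquivOfSurjective hsurj)⟩

end

open TensorProduct in
/-- Let k be a field and A, B complete Noetherian local rings containing k, the residue field of A being
a finite extension of k; let C be the completed tensor product of A and B over k (the completion of
A ⊗_k B at the ideal m_A ⊗ B + A ⊗ m_B). Then (i) C is Noetherian with finitely many maximal ideals;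
(ii) C is flat over A and over B; (iii) m_A C is contained in the Jacobson radical of C and C/m_A C
is isomorphic to (A/m_A) ⊗_k B; (iv) the residue field of C at each of its maximal ideals is a
finite B-module. (Completeness of C, also asserted in the published item, is not restated; the
isomorphism in (iii) is asserted to exist only.) -/
theorem result (k A B : Type u) [Field k] [CommRing A] [CommRing B] [Algebra k A] [Algebra k B]
    [IsNoetherianRing A] [IsNoetherianRing B] [IsLocalRing A] [IsLocalRing B]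
    [IsAdicComplete (IsLocalRing.maximalIdeal A) A] [IsAdicComplete (IsLocalRing.maximalIdeal B) B]
    [Module.Finite k (IsLocalRing.ResidueField A)] :
    (IsNoetherianRing (EGA4.CTensor k A B) ∧ (Set.univ : Set (MaximalSpectrum (EGA4.CTensor k A B))).Finite) ∧
      (Module.Flat A (EGA4.CTensor k A B) ∧ Module.Flat B (EGA4.CTensor k A B)) ∧
      ((IsLocalRing.maximalIdeal A).map (algebraMap A (EGA4.CTensor k A B)) ≤ (⊥ : Ideal (EGA4.CTensor k A B)).jacobson ∧
        Nonempty ((EGA4.CTensor k A B ⧸ (IsLocalRing.maximalIdeal A).map (algebraMap A (EGA4.CTensor k A B))) ≃+*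
          ((A ⧸ IsLocalRing.maximalIdeal A) ⊗[k] B))) ∧
      (∀ (M : Ideal (EGA4.CTensor k A B)) [M.IsMaximal], Module.Finite B (EGA4.CTensor k A B ⧸ M)) := by
  classical
  obtain ⟨d, g, hgm, hgfin, hΨ⟩ := Groth.Agent.H48.CTensor.exists_model k A B
  letI : Algebra (MvPowerSeries (Fin d) k) A := g.toRingHom.toAlgebra
  obtain ⟨Ψ, hΨA, hΨB⟩ := hΨ
  haveI : Module.Finite (MvPowerSeries (Fin d) k) A := hgfin
  let T := MvPowerSeries (Fin d) B ⊗[MvPowerSeries (Fin d) k] A
  haveI := noeth_model k B d A
  haveI := complete_model k B d A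
  have hsmulB : ∀ (b : B) (t : T), b • t = ((MvPowerSeries.C b : MvPowerSeries (Fin d) B) ⊗ₜ 1) * t :=
    fun b t => (Algebra.smul_def b t :)
  have hjacT : ∀ t ∈ (IsLocalRing.maximalIdeal A).map
      (Algebra.TensorProduct.includeRight : A →ₐ[MvPowerSeries (Fin d) k] T),
      t ∈ (⊥ : Ideal T).jacobson := by
    refine fun t ht => IsAdicComplete.le_jacobson_bot
      ((IsLocalRing.maximalIdeal (MvPowerSeries (Fin d) B)).map (algebraMap _ T))
      ((Ideal.map_le_iff_le_comap.2 ?_) ht)
    rw [← hgm, Ideal.span_le]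
    rintro _ ⟨i, rfl⟩
    rw [SetLike.mem_coe, Ideal.mem_comap]
    change (Algebra.TensorProduct.includeRight : A →ₐ[MvPowerSeries (Fin d) k] T)
      (algebraMap (MvPowerSeries (Fin d) k) A (MvPowerSeries.X i)) ∈ _
    rw [AlgHom.commutes, IsScalarTower.algebraMap_apply _ (MvPowerSeries (Fin d) B) T]
    refine Ideal.mem_map_of_mem _ ?_
    rw [show algebraMap (MvPowerSeries (Fin d) k) (MvPowerSeries (Fin d) B) (MvPowerSeries.X i) =
      MvPowerSeries.X i by simp [MvPowerSeries.algebraMap_apply'']]
    exact X_mem B d i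
  have hmapA : (IsLocalRing.maximalIdeal A).map (algebraMap A (EGA4.CTensor k A B)) =
      ((IsLocalRing.maximalIdeal A).map
        (Algebra.TensorProduct.includeRight : A →ₐ[MvPowerSeries (Fin d) k] T)).map Ψ.toRingHom := by
    rw [← Ideal.map_coe (Algebra.TensorProduct.includeRight : A →ₐ[MvPowerSeries (Fin d) k] T),
      Ideal.map_map]
    congr 1
    exact RingHom.ext fun a => (hΨA a).symm
  refine ⟨⟨isNoetherianRing_of_ringEquiv T Ψ, ?_⟩, ⟨?_, ?_⟩, ⟨?_, ?_⟩, fun M hM => ?_⟩
  · refine Set.Finite.of_finite_image (((finite_max k B d A).image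
      fun P => (P.asIdeal.map Ψ.toRingHom)).subset ?_) (f := MaximalSpectrum.asIdeal)
      fun a _ b _ h => MaximalSpectrum.ext h
    rintro _ ⟨⟨P, hP⟩, -, rfl⟩
    exact ⟨⟨P.comap Ψ.toRingHom, Ideal.comap_isMaximal_of_surjective _ Ψ.surjective⟩, trivial,
      Ideal.map_comap_of_surjective _ Ψ.surjective P⟩
  · letI : Algebra A T := Algebra.TensorProduct.rightAlgebra
    haveI := flat_left k B d A
    exact Module.Flat.of_linearEquiv
      ({ Ψ.toAddEquiv with
        map_smul' := fun a t => by
          simp only [RingHom.id_apply, Algebra.smul_def]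
          change Ψ (_ * t) = _ * Ψ t
          rw [map_mul]
          congr 1
          exact hΨA a } : T ≃ₗ[A] EGA4.CTensor k A B).symm
  · haveI := flat_right k B d A
    exact Module.Flat.of_linearEquiv
      ({ Ψ.toAddEquiv with
        map_smul' := fun b t => by
          change Ψ (b • t) = b • Ψ t
          rw [hsmulB, map_mul, hΨB, Algebra.smul_def] } : T ≃ₗ[B] EGA4.CTensor k A B).symm
  · rw [hmapA, Ideal.map_le_iff_le_comap]
    intro t ht
    rw [Ideal.mem_comap, Ideal.mem_jacobson_bot]
    intro y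
    obtain ⟨y, rfl⟩ := Ψ.surjective y
    have := (Ideal.mem_jacobson_bot.1 (hjacT t ht) y).map Ψ.toRingHom
    simpa using this
  · obtain ⟨e⟩ := closed_fibre k B A g hgm
    exact ⟨((Ideal.quotientEquiv _ _ Ψ hmapA).symm).trans e⟩
  · haveI := finite_residue k B d A (M.comap Ψ.toRingHom) fun i => by
      have hmax : (M.comap Ψ.toRingHom).IsMaximal :=
        Ideal.comap_isMaximal_of_surjective _ Ψ.surjective
      haveI : Algebra.IsIntegral (MvPowerSeries (Fin d) B) T := Algebra.IsIntegral.of_finite _ _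
      have h1 : (M.comap Ψ.toRingHom).comap (algebraMap (MvPowerSeries (Fin d) B) T) =
          IsLocalRing.maximalIdeal _ :=
        IsLocalRing.eq_maximalIdeal (Ideal.isMaximal_comap_of_isIntegral_of_isMaximal _)
      have h2 := h1.ge (X_mem B d i)
      exact h2
    let e : (T ⧸ M.comap Ψ.toRingHom) ≃+* (EGA4.CTensor k A B ⧸ M) :=
      Ideal.quotientEquiv _ _ Ψ (Ideal.map_comap_of_surjective _ Ψ.surjective M).symm
    exact Module.Finite.equiv
      ({ e.toAddEquiv with
        map_smul' := fun b q => by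
          obtain ⟨t, rfl⟩ := Ideal.Quotient.mk_surjective q
          change Ideal.Quotient.mk M (Ψ (b • t)) = b • Ideal.Quotient.mk M (Ψ t)
          rw [hsmulB, map_mul, hΨB, map_mul, Algebra.smul_def]
          rfl } :
        (T ⧸ M.comap Ψ.toRingHom) ≃ₗ[B] (EGA4.CTensor k A B ⧸ M))

end Groth.Agent.S4740
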