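import Groth.Statements.S4741
import Mathlib.RingTheory.Ideal.KrullsHeightTheorem
import Mathlib.RingTheory.Flat.Basic

set_option autoImplicit false
set_option linter.style.haveILetI false
universe u
open EGA4

namespace Groth.Agent.S4741

open AlgebraicGeometry CategoryTheory in
/-- Suppose X and Y are locally Noetherian schemes, f : X → Y is a morphism that is surjective, and Z is
a closed subset of Y. Then codim(f⁻¹(Z), X) ≤ codim(Z, Y), where the codimension of a closed subset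
means the infimum over its points of the dimensions of the local rings there; when f is in addition
flat, these two codimensions coincide. (In the published version the equality part assumes f
quasi-flat; here f is taken to be flat.) -/
theorem result {X Y : Scheme.{u}} (f : X ⟶ Y) [IsLocallyNoetherian X]
    [IsLocallyNoetherian Y] (hf : Function.Surjective f.base) (Z : Set Y) (hZ : IsClosed Z) :
    (⨅ x ∈ f.base ⁻¹' Z, ringKrullDim (X.presheaf.stalk x)) ≤ ⨅ y ∈ Z, ringKrullDim (Y.presheaf.stalk y) ∧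
      (Flat f → (⨅ x ∈ f.base ⁻¹' Z, ringKrullDim (X.presheaf.stalk x)) = ⨅ y ∈ Z, ringKrullDim (Y.presheaf.stalk y)) := by
  have key : ∀ {T : Scheme.{u}} {R : CommRingCat.{u}} (j : Spec R ⟶ T), IsOpenImmersion j →
      ∀ p : Spec R, ringKrullDim (T.presheaf.stalk (j p)) = ((p.asIdeal.height : ℕ∞) : WithBot ℕ∞) := by
    intro T R j hj p
    haveI := hj
    haveI : p.asIdeal.IsPrime := PrimeSpectrum.isPrime p
    rw [ringKrullDim_eq_of_ringEquiv ((asIso (j.stalkMap p)) ≪≫ Spec.stalkIso R p).commRingCatIsoToRingEquiv]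
    exact IsLocalization.AtPrime.ringKrullDim_eq_height p.asIdeal (Localization.AtPrime p.asIdeal)
  have chart : ∀ x : X, ∃ (U : Y.Opens) (W : X.Opens) (hU : IsAffineOpen U) (hW : IsAffineOpen W)
      (e : W ≤ f ⁻¹ᵁ U) (q : Spec Γ(X, W)), hW.fromSpec q = x := by
    intro x
    obtain ⟨U, hU, hxU, -⟩ := exists_isAffineOpen_mem_and_subset (x := f x) (U := ⊤) trivial
    obtain ⟨W, hW, hxW, hWU⟩ := exists_isAffineOpen_mem_and_subset (x := x) (U := f ⁻¹ᵁ U) hxU
    have hx' : x ∈ Set.range hW.fromSpec := by rw [IsAffineOpen.range_fromSpec]; exact hxW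
    obtain ⟨q, hq⟩ := hx'
    exact ⟨U, W, hU, hW, hWU, q, hq⟩
  have comm : ∀ {U : Y.Opens} {W : X.Opens} (hU : IsAffineOpen U) (hW : IsAffineOpen W)
      (e : W ≤ f ⁻¹ᵁ U) (q : Spec Γ(X, W)),
      f (hW.fromSpec q) = hU.fromSpec (PrimeSpectrum.comap (f.appLE U W e).hom q) := by
    intro U W hU hW e q
    rw [← Scheme.Hom.comp_apply, ← IsAffineOpen.SpecMap_appLE_fromSpec f hU hW e, Scheme.Hom.comp_apply]
    rfl
  have h1 : (⨅ x ∈ f.base ⁻¹' Z, ringKrullDim (X.presheaf.stalk x)) ≤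
      ⨅ y ∈ Z, ringKrullDim (Y.presheaf.stalk y) := by
    refine le_iInf₂ fun y hy => ?_
    obtain ⟨x₀, hx₀⟩ := hf y
    obtain ⟨U, W, hU, hW, e, q₀, hq₀⟩ := chart x₀
    haveI := IsLocallyNoetherian.component_noetherian (X := Y) ⟨U, hU⟩
    haveI := IsLocallyNoetherian.component_noetherian (X := X) ⟨W, hW⟩
    letI := (f.appLE U W e).hom.toAlgebra
    let p := PrimeSpectrum.comap (f.appLE U W e).hom q₀
    have hy' : hU.fromSpec p = y := by
      rw [← comm hU hW e q₀, hq₀]
      exact hx₀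
    haveI : q₀.asIdeal.IsPrime := PrimeSpectrum.isPrime q₀
    obtain ⟨Q, hQ, hQle⟩ := Ideal.exists_minimalPrimes_le
      (I := p.asIdeal.map (algebraMap Γ(Y, U) Γ(X, W))) (J := q₀.asIdeal)
      (Ideal.map_le_iff_le_comap.2 le_rfl)
    haveI := hQ.1.1
    have hQc : Q.comap (algebraMap Γ(Y, U) Γ(X, W)) = p.asIdeal :=
      le_antisymm (Ideal.comap_mono hQle) (Ideal.map_le_iff_le_comap.1 hQ.1.2)
    let x : Spec Γ(X, W) := ⟨Q, hQ.1.1⟩
    have hx : f (hW.fromSpec x) = y := by
      rw [comm hU hW e x, ← hy']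
      exact congrArg _ (PrimeSpectrum.ext hQc)
    refine le_trans (iInf₂_le (hW.fromSpec x) (show f (hW.fromSpec x) ∈ Z from hx.symm ▸ hy)) ?_
    rw [key hW.fromSpec inferInstance x, ← hy', key hU.fromSpec inferInstance p, WithBot.coe_le_coe]
    haveI : Q.LiesOver p.asIdeal := ⟨hQc.symm⟩
    haveI : p.asIdeal.IsPrime := p.isPrime
    refine (Ideal.height_le_height_add_of_liesOver p.asIdeal Q).trans (le_of_eq ?_)
    have h0 : (Q.map (Ideal.Quotient.mk (p.asIdeal.map (algebraMap Γ(Y, U) Γ(X, W))))).height = 0 := by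
      haveI : (Q.map (Ideal.Quotient.mk (p.asIdeal.map (algebraMap Γ(Y, U) Γ(X, W))))).IsPrime :=
        Ideal.isPrime_map_quotientMk_of_isPrime hQ.1.2
      refine Ideal.height_eq_zero_iff.2 ⟨⟨inferInstance, bot_le⟩, fun P hP hle => ?_⟩
      haveI := hP.1
      refine Ideal.map_le_iff_le_comap.2 (hQ.2 ⟨inferInstance, fun z hz => ?_⟩ ?_)
      · rw [Ideal.mem_comap, Ideal.Quotient.eq_zero_iff_mem.2 hz]; exact zero_mem _
      · refine (Ideal.comap_mono hle).trans (le_of_eq ?_)
        rw [Ideal.comap_map_of_surjective _ Ideal.Quotient.mk_surjective, ← RingHom.ker_eq_comap_bot,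
          Ideal.mk_ker, sup_eq_left.2 hQ.1.2]
    rw [h0, add_zero]
  refine ⟨h1, fun hflat => le_antisymm h1 (le_iInf₂ fun x hx => ?_)⟩
  obtain ⟨U, W, hU, hW, e, q, hq⟩ := chart x
  haveI := IsLocallyNoetherian.component_noetherian (X := X) ⟨W, hW⟩
  haveI := IsLocallyNoetherian.component_noetherian (X := Y) ⟨U, hU⟩
  letI := (f.appLE U W e).hom.toAlgebra
  haveI : Module.Flat Γ(Y, U) Γ(X, W) :=
    RingHom.flat_algebraMap_iff.1 (HasRingHomProperty.appLE (P := @Flat) f hflat ⟨U, hU⟩ ⟨W, hW⟩ e)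
  let p := PrimeSpectrum.comap (f.appLE U W e).hom q
  subst hq
  refine le_trans (iInf₂_le (hU.fromSpec p) (show hU.fromSpec p ∈ Z by rw [← comm hU hW e q]; exact hx)) ?_
  rw [key hW.fromSpec inferInstance q, key hU.fromSpec inferInstance p, WithBot.coe_le_coe]
  haveI : q.asIdeal.IsPrime := PrimeSpectrum.isPrime q
  haveI : p.asIdeal.IsPrime := p.isPrime
  haveI : q.asIdeal.LiesOver p.asIdeal := ⟨rfl⟩
  rw [Ideal.height_eq_height_add_of_liesOver_of_hasGoingDown p.asIdeal q.asIdeal]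
  exact le_self_add

end Groth.Agent.S4741
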