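import Groth.Statements.S4742
import Groth.Agent.Lib.Excellent.CatenaryDim
import Mathlib.RingTheory.Ideal.KrullsHeightTheorem

set_option autoImplicit false
universe u
open EGA4

namespace Groth.Agent.S4742

open Groth.Agent.Lib.Excellent in
theorem height_quot_succ_le {A : Type u} [CommRing A] {t : A} (ht : ∀ P ∈ minimalPrimes A, t ∉ P)
    (q : PrimeSpectrum A) (hq : t ∈ q.asIdeal) :
    (q.asIdeal.map (Ideal.Quotient.mk (Ideal.span {t}))).height + 1 ≤ q.asIdeal.height := by
  let mk := Ideal.Quotient.mk (Ideal.span {t})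
  have hle : RingHom.ker mk ≤ q.asIdeal := by
    rw [Ideal.mk_ker, Ideal.span_singleton_le_iff_mem]; exact hq
  haveI : (q.asIdeal.map mk).IsPrime := Ideal.map_isPrime_of_surjective Ideal.Quotient.mk_surjective hle
  let qb : PrimeSpectrum (A ⧸ Ideal.span {t}) := ⟨q.asIdeal.map mk, inferInstance⟩
  rw [show q.asIdeal.map mk = qb.asIdeal from rfl, PrimeSpectrum.height_eq_orderHeight, PrimeSpectrum.height_eq_orderHeight,
    Order.height_eq_iSup_last_eq]
  haveI : Nonempty {l : LTSeries (PrimeSpectrum (A ⧸ Ideal.span {t})) // l.last = qb} := ⟨⟨RelSeries.singleton _ qb, rfl⟩⟩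
  rw [iSup_subtype', ENat.iSup_add]
  refine iSup_le fun ⟨l, hl⟩ => ?_
  let l' : LTSeries (PrimeSpectrum A) := l.map (PrimeSpectrum.comap mk)
    (RingHom.strictMono_comap_of_surjective Ideal.Quotient.mk_surjective)
  obtain ⟨P, hP, hPle⟩ := Ideal.exists_minimalPrimes_le (J := (l'.head).asIdeal) bot_le
  have hlt : (⟨P, hP.1.1⟩ : PrimeSpectrum A) < l'.head := by
    refine lt_of_le_of_ne hPle fun h => ht P hP ?_
    rw [show P = l'.head.asIdeal from congrArg PrimeSpectrum.asIdeal h]
    simp only [l', LTSeries.head_map, PrimeSpectrum.comap_asIdeal, Ideal.mem_comap]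
    rw [Ideal.Quotient.eq_zero_iff_mem.2 (Ideal.mem_span_singleton_self t)]
    exact zero_mem _
  have hlast : (l'.cons ⟨P, hP.1.1⟩ hlt).last ≤ q := by
    rw [RelSeries.last_cons, show l'.last = PrimeSpectrum.comap mk qb by rw [← hl]; exact LTSeries.last_map _ _ _]
    refine (Ideal.comap_map_of_surjective mk Ideal.Quotient.mk_surjective q.asIdeal).le.trans (sup_le le_rfl ?_)
    exact hle
  have h := Order.length_le_height hlast
  simpa [l', RelSeries.cons, RelSeries.append, RelSeries.singleton, LTSeries.map] using h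

/-- Let A be a Noetherian local ring which is equidimensional and catenary, t an element of A belonging
to a system of parameters (dim A/tA + 1 = dim A), and Z a set of prime ideals of A stable under
specialization. Write X = Spec A, X₀ = V(t), X₁ = X ∖ X₀ and Z₀ = Z ∩ X₀, Z₁ = Z ∩ X₁. Then
codim(Z₀, X₀) ≤ codim(Z, X) ≤ codim(Z₁, X₁), where each codimension is the infimum of the heights of
the primes concerned, heights for Z₀ being taken in A/tA. -/
theorem result (A : Type u) [CommRing A] [IsNoetherianRing A] [IsLocalRing A]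
    (hA : EGA4.IsEquidim A) (hA' : CAlg.IsCatenary A) (t : A)
    (ht : ringKrullDim (A ⧸ Ideal.span {t}) + 1 = ringKrullDim A) (Z : Set (PrimeSpectrum A))
    (hZ : StableUnderSpecialization Z) :
    (⨅ p ∈ {p ∈ Z | t ∈ p.asIdeal}, (p.asIdeal.map (Ideal.Quotient.mk (Ideal.span {t}))).height) ≤
        ⨅ p ∈ Z, p.asIdeal.height ∧
      (⨅ p ∈ Z, p.asIdeal.height) ≤ ⨅ p ∈ {p ∈ Z | t ∉ p.asIdeal}, p.asIdeal.height := by
  have hmin : ∀ P ∈ minimalPrimes A, t ∉ P := by
    intro P hP htP
    haveI := hP.1.1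
    have h1 : ringKrullDim (A ⧸ P) ≤ ringKrullDim (A ⧸ Ideal.span {t}) :=
      ringKrullDim_le_of_surjective (Ideal.Quotient.factor ((Ideal.span_singleton_le_iff_mem P).2 htP))
        (Ideal.Quotient.factor_surjective _)
    rw [hA P hP] at h1
    obtain ⟨n, hn⟩ : ∃ n : ℕ, ringKrullDim A = n := by
      obtain ⟨n, hn⟩ := ENat.ne_top_iff_exists.1 (Ideal.height_ne_top (I := IsLocalRing.maximalIdeal A) (IsLocalRing.maximalIdeal.isMaximal A).ne_top)
      exact ⟨n, by rw [← IsLocalRing.maximalIdeal_height_eq_ringKrullDim, ← hn]; rfl⟩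
    rw [hn] at h1 ht
    generalize ringKrullDim (A ⧸ Ideal.span {t}) = d at h1 ht
    cases d with
    | bot => exact WithBot.bot_ne_natCast n (le_bot_iff.1 h1).symm
    | coe d =>
      cases d with
      | top => rw [← WithBot.coe_one, ← WithBot.coe_add, top_add, ← WithBot.coe_natCast, WithBot.coe_inj] at ht
               exact ENat.natCast_ne_top n ht.symm
      | coe d => norm_cast at h1 ht; omega
  have htm : t ∈ IsLocalRing.maximalIdeal A := by
    by_contra hu
    rw [IsLocalRing.mem_maximalIdeal, mem_nonunits_iff, not_not] at hu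
    haveI : Subsingleton (A ⧸ Ideal.span {t}) := Ideal.Quotient.subsingleton_iff.2 (Ideal.span_singleton_eq_top.2 hu)
    rw [ringKrullDim_eq_bot_of_subsingleton, WithBot.bot_add] at ht
    exact WithBot.bot_ne_coe (ht.trans (IsLocalRing.maximalIdeal_height_eq_ringKrullDim).symm)
  refine ⟨le_iInf₂ fun p hp => ?_, iInf_le_iInf_of_subset fun p hp => hp.1⟩
  by_cases htp : t ∈ p.asIdeal
  · refine (iInf₂_le p ⟨hp, htp⟩).trans ?_
    exact le_trans le_self_add (height_quot_succ_le hmin p htp)
  · obtain ⟨Q, hQ, -⟩ := Ideal.exists_minimalPrimes_le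
      (show p.asIdeal ⊔ Ideal.span {t} ≤ IsLocalRing.maximalIdeal A from
        sup_le (IsLocalRing.le_maximalIdeal p.2.ne_top) ((Ideal.span_singleton_le_iff_mem _).2 htm))
    let Q' : PrimeSpectrum A := ⟨Q, hQ.1.1⟩
    have hcov : p ⋖ Q' := Groth.Agent.Lib.Excellent.CatenaryDim.covBy_of_mem_minimalPrimes htp hQ
    have htQ : t ∈ Q'.asIdeal := hQ.1.2 (Ideal.mem_sup_right (Ideal.mem_span_singleton_self t))
    have hQZ : Q' ∈ Z := hZ ((PrimeSpectrum.le_iff_specializes p Q').1 hcov.le) hp
    refine (iInf₂_le Q' ⟨hQZ, htQ⟩).trans ?_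
    have h1 := height_quot_succ_le hmin Q' htQ
    rw [Groth.Agent.Lib.Excellent.CatenaryDim.height_covBy hA' hA hcov] at h1
    exact (WithTop.add_le_add_iff_right ENat.one_ne_top).1 h1

end Groth.Agent.S4742
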