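import Groth.Statements.S4745
import Groth.Agent.Lib.EGA75.Reduction

set_option autoImplicit false
set_option linter.style.haveILetI false
universe u
open EGA4

namespace Groth.Agent.S4745

/-- The case of the property 'normal': let A → B be a local homomorphism of Noetherian local rings
making B a flat A-module, such that the residue field of B is a finite extension of the residue
field k of A, and such that the formal fibres of A are geometrically normal. If the k-algebra k ⊗_A
B̂, where B̂ is the completion of B, is geometrically normal over k, then every fibre of A → B is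
geometrically normal, that is, A → B is a normal homomorphism. -/
theorem result (A B : Type u) [CommRing A] [CommRing B]
    [IsNoetherianRing A] [IsNoetherianRing B] [IsLocalRing A] [IsLocalRing B] [Algebra A B]
    [IsLocalHom (algebraMap A B)] [Module.Flat A B]
    [Module.Finite (IsLocalRing.ResidueField A) (IsLocalRing.ResidueField B)]
    (hA : EGA4.HasGeomNormalFormalFibres A)
    (h : EGA4.IsGeomNormal (IsLocalRing.maximalIdeal A).ResidueField
      ((IsLocalRing.maximalIdeal A).Fiber (EGA4.Cpl B))) :
    EGA4.IsNormalHom A B := by
  haveI := Groth.Agent.Lib.EGA75.Complete.finite_residue A B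
  obtain ⟨_, hst, hflat, hfib⟩ := Groth.Agent.Lib.EGA75.Reduction.finPoint_completion
    Groth.Agent.Lib.EGA75.Complete.liftProp_normal A B
    fun L _ _ _ Q _ => Groth.Agent.Lib.EGA75.Complete.of_closedFibre
      (P := fun R [CommRing R] => EGA4.IsNormalRing R)
      Groth.Agent.Lib.Excellent.Transport.isoInvariant_isNormalRing A (EGA4.Cpl B) h L Q
  refine ⟨inferInstance, (Groth.Agent.Lib.Excellent.FormalFibre.forall_fibre_iff
    (P := fun R [CommRing R] => EGA4.IsNormalRing R)
    Groth.Agent.Lib.Excellent.Transport.isoInvariant_isNormalRing B).2 fun K _ _ hK => ?_⟩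
  haveI : Module.FaithfullyFlat B (EGA4.Cpl B) := Module.FaithfullyFlat.of_flat_of_isLocalHom
  refine Groth.Agent.Lib.EGA75.Reduction.descend (Q := fun R [CommRing R] => EGA4.IsNormalRing R)
    Groth.Agent.Lib.Excellent.Transport.isoInvariant_isNormalRing
    (fun R S _ _ _ _ _ _ hS => Groth.Agent.Lib.EGA75.Reduction.isNormalRing_descent R S hS)
    A B (EGA4.Cpl B) K hK ?_
  exact Groth.Agent.S4696.isNormalRing_finPoint A (EGA4.Cpl A) (EGA4.Cpl B)
    (fun L _ _ hL Q _ => hfib L hL Q) K hK
    ((Groth.Agent.Lib.Excellent.FormalFibre.forall_fibre_iff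
      (P := fun R [CommRing R] => EGA4.IsNormalRing R)
      Groth.Agent.Lib.Excellent.Transport.isoInvariant_isNormalRing (EGA4.Cpl A)).1 hA K hK)

end Groth.Agent.S4745
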