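import Groth.Statements.S4746
import Groth.Agent.S2657
import Groth.Agent.Lib.Cohen.NagataFlatReduced
import Groth.Agent.Lib.Cohen.NagataFormalFibres
import Mathlib.RingTheory.AdicCompletion.AsTensorProduct
import Mathlib.RingTheory.Flat.FaithfullyFlat.Algebra

set_option autoImplicit false
set_option linter.style.haveILetI false
universe u
open EGA4

namespace Groth.Agent.S4746

theorem isReduced_tensor_of_faithfullyFlat (A B C K : Type u) [CommRing A] [CommRing B] [CommRing C]
    [CommRing K] [Algebra A B] [Algebra A C] [Algebra B C] [IsScalarTower A B C] [Algebra A K]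
    [Module.FaithfullyFlat B C] [IsReduced (TensorProduct A K C)] :
    IsReduced (TensorProduct A K B) := by
  letI : Algebra B (TensorProduct A K B) := Algebra.TensorProduct.rightAlgebra
  haveI : IsReduced (TensorProduct A B K) := by
    haveI : IsReduced (TensorProduct A C K) :=
      isReduced_of_injective (Algebra.TensorProduct.comm A C K) (AlgEquiv.injective _)
    haveI : IsReduced (TensorProduct B C (TensorProduct A B K)) :=
      isReduced_of_injective (Algebra.TensorProduct.cancelBaseChange A B C C K) (AlgEquiv.injective _)
    exact isReduced_of_injective (Algebra.TensorProduct.includeRight :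
      TensorProduct A B K →ₐ[B] TensorProduct B C (TensorProduct A B K))
      (Module.FaithfullyFlat.tensorProduct_mk_injective (TensorProduct A B K))
  exact isReduced_of_injective (Algebra.TensorProduct.comm A K B) (AlgEquiv.injective _)

/-- For the property 'reduced': let A → B be a local homomorphism of Noetherian local rings making B a
flat A-module, such that the residue field of B is a finite extension of the residue field k of A,
and such that the formal fibres of A are geometrically reduced. If the k-algebra k ⊗_A B̂, where B̂
is the completion of B, is geometrically reduced over k, then every fibre k(p) ⊗_A B of A → B is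
geometrically reduced over k(p). -/
theorem result (A B : Type u) [CommRing A] [CommRing B]
    [IsNoetherianRing A] [IsNoetherianRing B] [IsLocalRing A] [IsLocalRing B] [Algebra A B]
    [IsLocalHom (algebraMap A B)] [Module.Flat A B]
    [Module.Finite (IsLocalRing.ResidueField A) (IsLocalRing.ResidueField B)]
    (hA : EGA4.HasGeomReducedFormalFibres A)
    (h : Algebra.IsGeometricallyReduced (IsLocalRing.maximalIdeal A).ResidueField
      ((IsLocalRing.maximalIdeal A).Fiber (EGA4.Cpl B))) :
    ∀ (p : Ideal A) [p.IsPrime], Algebra.IsGeometricallyReduced p.ResidueField (p.Fiber B) := by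
  let C := EGA4.Cpl B
  haveI : Module.Flat A C := Module.Flat.trans A B C
  haveI : Module.FaithfullyFlat B C := Module.FaithfullyFlat.of_flat_of_isLocalHom
  have hjac : (IsLocalRing.maximalIdeal A).map (algebraMap A C) ≤ (⊥ : Ideal C).jacobson := by
    rw [IsLocalRing.jacobson_eq_maximalIdeal ⊥ bot_ne_top, IsScalarTower.algebraMap_eq A B C,
      ← Ideal.map_map]
    refine le_trans (Ideal.map_mono ?_) (le_of_eq (AdicCompletion.maximalIdeal_eq_map (R := B)).symm)
    exact ((IsLocalRing.local_hom_TFAE (algebraMap A B)).out 0 2).1 ‹_›
  have h0 : ∀ (L : Type u) [Field L] [Algebra A L] [Module.Finite A L],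
      IsReduced (TensorProduct A L C) := by
    intro L _ _ _
    let m := IsLocalRing.maximalIdeal A
    have hker : RingHom.ker (algebraMap A L) = m := by
      haveI := RingHom.ker_isPrime (algebraMap A L)
      refine IsLocalRing.eq_maximalIdeal ?_
      haveI : Algebra.IsIntegral A L := Algebra.IsIntegral.of_finite A L
      rw [RingHom.ker_eq_comap_bot]
      exact Ideal.isMaximal_comap_of_isIntegral_of_isMaximal (I := (⊥ : Ideal L))
    letI : Algebra m.ResidueField L := (Ideal.ResidueField.lift m (algebraMap A L) hker.ge
      (fun x hx => Ne.isUnit (fun h0 => hx (hker ▸ RingHom.mem_ker.2 h0)))).toAlgebra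
    haveI : IsScalarTower A m.ResidueField L := .of_algebraMap_eq fun a =>
      (Ideal.ResidueField.lift_algebraMap (I := m) (algebraMap A L) hker.ge _ a).symm
    haveI : Module.Finite m.ResidueField L := Module.Finite.of_restrictScalars_finite A _ L
    haveI : IsReduced (TensorProduct m.ResidueField L (m.Fiber C)) :=
      (Groth.Agent.Lib.Excellent.FormalFibre.isGeometricallyReduced_iff_finite _ _).1 h L inferInstance
    exact isReduced_of_injective
      (Algebra.TensorProduct.cancelBaseChange A m.ResidueField L L C).symm
      (AlgEquiv.injective _)
  refine (Groth.Agent.Lib.Excellent.FormalFibre.geomReduced_fibres_iff B).2 fun K _ _ hK => ?_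
  obtain ⟨B', hB', hfr⟩ := hK
  haveI : IsReduced (TensorProduct A (B' : Type u) C) :=
    Groth.Agent.Lib.Cohen.NagataFlatReduced.isReduced_tensor A (Groth.Agent.S2657.result A hA) C
      hjac h0 B'
  haveI := Groth.Agent.Lib.Cohen.NagataFormalFibres.isReduced_fractionRing_tensor A B' K C
  exact isReduced_tensor_of_faithfullyFlat A B C K

end Groth.Agent.S4746
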