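import Groth.Statements.S4747
import Groth.Agent.Lib.EGA75.Reduction
import Groth.Agent.Lib.EGA75.CM

set_option autoImplicit false
set_option linter.style.haveILetI false
universe u
open EGA4

namespace Groth.Agent.S4747

open TensorProduct in
/-- For the property 'Cohen–Macaulay': let A → B be a local homomorphism of Noetherian local rings
making B a flat A-module, such that the residue field of B is a finite extension of the residue
field k of A, and such that the formal fibres of A are Cohen–Macaulay. If for every finite extension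
k' of k the ring k' ⊗_k (k ⊗_A B̂) is Cohen–Macaulay (B̂ the completion of B), then for every prime
p of A and every finite extension K of k(p) the ring K ⊗_{k(p)} (k(p) ⊗_A B) is Cohen–Macaulay; in
particular all fibres of A → B are Cohen–Macaulay. -/
theorem result (A B : Type u) [CommRing A] [CommRing B]
    [IsNoetherianRing A] [IsNoetherianRing B] [IsLocalRing A] [IsLocalRing B] [Algebra A B]
    [IsLocalHom (algebraMap A B)] [Module.Flat A B]
    [Module.Finite (IsLocalRing.ResidueField A) (IsLocalRing.ResidueField B)]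
    (hA : EGA4.HasCMFormalFibres A)
    (h : ∀ (k' : Type u) [Field k'] [Algebra (IsLocalRing.maximalIdeal A).ResidueField k'],
      Module.Finite (IsLocalRing.maximalIdeal A).ResidueField k' →
        LocCoh.IsCohenMacaulayRing (k' ⊗[(IsLocalRing.maximalIdeal A).ResidueField]
          ((IsLocalRing.maximalIdeal A).Fiber (EGA4.Cpl B)))) :
    ∀ (p : Ideal A) [p.IsPrime] (K : Type u) [Field K] [Algebra p.ResidueField K],
      Module.Finite p.ResidueField K → LocCoh.IsCohenMacaulayRing (K ⊗[p.ResidueField] (p.Fiber B)) := by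
  haveI := Groth.Agent.Lib.EGA75.Complete.finite_residue A B
  obtain ⟨_, hst, hflat, hfib⟩ := Groth.Agent.Lib.EGA75.Reduction.finPoint_completion
    Groth.Agent.Lib.EGA75.CM.liftProp A B
    fun L _ _ _ Q _ => by
      haveI := Groth.Agent.Lib.EGA75.Complete.of_closedFibre
        (P := fun R [CommRing R] => LocCoh.IsCohenMacaulayRing R)
        Groth.Agent.Lib.EGA75.CM.isoInvariant_ring A (EGA4.Cpl B) h L
      exact LocCoh.IsCohenMacaulayRing.isCohenMacaulayLocalRing_localization Q
  haveI : Module.FaithfullyFlat B (EGA4.Cpl B) := Module.FaithfullyFlat.of_flat_of_isLocalHom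
  refine fun p _ K _ _ hK => Groth.Agent.Lib.EGA75.CM.fibres_of_forall A B (fun L _ _ hL Q _ => ?_) p K hK
  suffices hLB : LocCoh.IsCohenMacaulayRing (TensorProduct A L B) from
    hLB.isCohenMacaulayLocalRing_localization Q
  refine Groth.Agent.Lib.EGA75.Reduction.descend (Q := fun R [CommRing R] => LocCoh.IsCohenMacaulayRing R)
    Groth.Agent.Lib.EGA75.CM.isoInvariant_ring
    (fun R S _ _ _ _ _ _ hS => Groth.Agent.Lib.EGA75.CM.descent R S hS)
    A B (EGA4.Cpl B) L hL ?_
  haveI := Groth.Agent.Lib.EGA75.Complete.isNoetherianRing_finPoint A (EGA4.Cpl B) L hL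
  refine Groth.Agent.Lib.EGA75.CM.of_forall _ fun Q' _ => ?_
  exact Groth.Agent.Lib.EGA75.Comp.finPoint Groth.Agent.Lib.EGA75.CM.compProp A (EGA4.Cpl A) (EGA4.Cpl B)
    (fun L' _ _ hL' Q _ => hfib L' hL' Q) L hL
    (fun Q _ => (Groth.Agent.Lib.EGA75.CM.finPoint_of_fibres A (EGA4.Cpl A) hA L hL).isCohenMacaulayLocalRing_localization Q)
    Q'

end Groth.Agent.S4747
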