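import Groth.Statements.S4752
import Groth.Agent.Lib.Excellent.Reduced
import Groth.Agent.Lib.Cohen.NagataFormalFibres

set_option autoImplicit false
set_option linter.style.haveILetI false
universe u
open EGA4

namespace Groth.Agent.S4752

/-- Case of reduced morphisms, affine form: let A → B → C be homomorphisms of Noetherian rings, both
flat and with geometrically reduced fibres. Then the composite A → C is flat with geometrically
reduced fibres. -/
theorem result (A B C : Type u) [CommRing A] [CommRing B] [CommRing C] [IsNoetherianRing A]
    [IsNoetherianRing B] [IsNoetherianRing C] [Algebra A B] [Algebra B C] [Algebra A C] [IsScalarTower A B C]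
    [Module.Flat A B] [Module.Flat B C]
    (hAB : ∀ (p : Ideal A) [p.IsPrime], Algebra.IsGeometricallyReduced p.ResidueField (p.Fiber B))
    (hBC : ∀ (q : Ideal B) [q.IsPrime], Algebra.IsGeometricallyReduced q.ResidueField (q.Fiber C)) :
    Module.Flat A C ∧ ∀ (p : Ideal A) [p.IsPrime], Algebra.IsGeometricallyReduced p.ResidueField (p.Fiber C) := by
  refine ⟨Module.Flat.trans A B C,
    (Groth.Agent.Lib.Excellent.FormalFibre.geomReduced_fibres_iff C).2 fun K _ _ hK => ?_⟩
  haveI hKB := (Groth.Agent.Lib.Excellent.FormalFibre.geomReduced_fibres_iff B).1 hAB K hK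
  obtain ⟨B0, hB0, hfr⟩ := hK
  haveI : IsReduced (TensorProduct A (B0 : Type u) B) :=
    isReduced_of_injective (Algebra.TensorProduct.map B0.val (AlgHom.id A B))
      (Module.Flat.rTensor_preserves_injective_linearMap _ Subtype.val_injective)
  haveI : IsReduced (TensorProduct A B (B0 : Type u)) :=
    isReduced_of_injective (Algebra.TensorProduct.comm A B (B0 : Type u)) (AlgEquiv.injective _)
  haveI h1 : IsReduced (TensorProduct B (TensorProduct A B (B0 : Type u)) C) :=
    Groth.Agent.Lib.Excellent.Reduced.isReduced_finite_tensor C
      ((Groth.Agent.Lib.Excellent.FormalFibre.geomReduced_fibres_iff C).1 hBC) _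
  haveI : IsReduced (TensorProduct B C (TensorProduct A B (B0 : Type u))) :=
    isReduced_of_injective (Algebra.TensorProduct.comm B C _) (AlgEquiv.injective _)
  haveI : IsReduced (TensorProduct A C (B0 : Type u)) :=
    isReduced_of_injective (Algebra.TensorProduct.cancelBaseChange A B C C (B0 : Type u)).symm
      (AlgEquiv.injective _)
  haveI : IsReduced (TensorProduct A (B0 : Type u) C) :=
    isReduced_of_injective (Algebra.TensorProduct.comm A (B0 : Type u) C) (AlgEquiv.injective _)
  exact Groth.Agent.Lib.Cohen.NagataFormalFibres.isReduced_fractionRing_tensor A B0 K C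

end Groth.Agent.S4752
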