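import Groth.Statements.S4753
import Groth.Agent.S4746

set_option autoImplicit false
set_option linter.style.haveILetI false
universe u
open EGA4
open scoped TensorProduct

namespace Groth.Agent.S4753

/-- Case of reduced morphisms, affine form: let A → B → C be homomorphisms of Noetherian rings such that
B → C is faithfully flat with geometrically reduced fibres and the composite A → C is flat with
geometrically reduced fibres. Then A → B is flat with geometrically reduced fibres. -/
theorem result (A B C : Type u) [CommRing A] [CommRing B] [CommRing C]
    [IsNoetherianRing A] [IsNoetherianRing B] [IsNoetherianRing C] [Algebra A B] [Algebra B C] [Algebra A C]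
    [IsScalarTower A B C] [Module.FaithfullyFlat B C] [Module.Flat A C]
    (hBC : ∀ (q : Ideal B) [q.IsPrime], Algebra.IsGeometricallyReduced q.ResidueField (q.Fiber C))
    (hAC : ∀ (p : Ideal A) [p.IsPrime], Algebra.IsGeometricallyReduced p.ResidueField (p.Fiber C)) :
    Module.Flat A B ∧ ∀ (p : Ideal A) [p.IsPrime], Algebra.IsGeometricallyReduced p.ResidueField (p.Fiber B) := by
  have hflat : Module.Flat A B := by
    refine Module.Flat.iff_lTensor_preserves_injective_linearMap.2 fun N N' _ _ _ _ f hf x y hxy => ?_
    apply Module.FaithfullyFlat.tensorProduct_mk_injective (A := B) (B := C) (TensorProduct A B N)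
    let eN := TensorProduct.AlgebraTensorModule.cancelBaseChange A B C C N
    let eN' := TensorProduct.AlgebraTensorModule.cancelBaseChange A B C C N'
    apply eN.injective
    apply Module.Flat.lTensor_preserves_injective_linearMap (M := C) f hf
    have key : ∀ z : TensorProduct A B N, f.lTensor C (eN ((1 : C) ⊗ₜ[B] z)) = eN' ((1 : C) ⊗ₜ[B] (f.lTensor B z)) := by
      intro z
      induction z using TensorProduct.induction_on with
      | zero => simp
      | tmul b n => simp [eN, eN']
      | add a b ha hb => simp only [TensorProduct.tmul_add, map_add, ha, hb]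
    exact (key x).trans ((congrArg (fun z => eN' ((1 : C) ⊗ₜ[B] z)) hxy).trans (key y).symm)
  refine ⟨hflat, (Groth.Agent.Lib.Excellent.FormalFibre.geomReduced_fibres_iff B).2 fun K _ _ hK => ?_⟩
  haveI := (Groth.Agent.Lib.Excellent.FormalFibre.geomReduced_fibres_iff C).1 hAC K hK
  exact Groth.Agent.S4746.isReduced_tensor_of_faithfullyFlat A B C K

end Groth.Agent.S4753
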