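import Groth.Statements.S4756
import Groth.Agent.Lib.Excellent.LocalizedHom
import Groth.Agent.Lib.Excellent.Transport

set_option autoImplicit false
set_option linter.style.haveILetI false
universe u
open EGA4

namespace Groth.Agent.S4756

/-- Let A → B be a normal homomorphism of Noetherian rings (flat, with geometrically normal fibres) and
S a multiplicative subset of A. Then the induced homomorphism S⁻¹A → S⁻¹B (arbitrary localizations
at S and at its image) is normal. -/
theorem result (A B : Type u) [CommRing A] [CommRing B] [IsNoetherianRing A] [IsNoetherianRing B]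
    [Algebra A B] (h : EGA4.IsNormalHom A B) (S : Submonoid A)
    (A' B' : Type u) [CommRing A'] [CommRing B'] [Algebra A A'] [Algebra B B'] [Algebra A' B'] [Algebra A B']
    [IsScalarTower A A' B'] [IsScalarTower A B B'] [IsLocalization S A']
    [IsLocalization (Algebra.algebraMapSubmonoid B S) B'] :
    EGA4.IsNormalHom A' B' := by
  haveI := h.1
  exact ⟨Groth.Agent.Lib.Excellent.LocalizedHom.flat_localization (B := B) S A' B',
    (Groth.Agent.Lib.Excellent.FormalFibre.forall_fibre_iff
      (P := fun R [CommRing R] => EGA4.IsNormalRing R)
      Groth.Agent.Lib.Excellent.Transport.isoInvariant_isNormalRing B').2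
      (Groth.Agent.Lib.Excellent.LocalizedHom.forall_tensor_localization S A' B'
        (P := fun R [CommRing R] => EGA4.IsNormalRing R)
        Groth.Agent.Lib.Excellent.Transport.isoInvariant_isNormalRing
        ((Groth.Agent.Lib.Excellent.FormalFibre.forall_fibre_iff
          (P := fun R [CommRing R] => EGA4.IsNormalRing R)
          Groth.Agent.Lib.Excellent.Transport.isoInvariant_isNormalRing B).1 h.2))⟩

end Groth.Agent.S4756
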