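import Groth.Statements.S4763
import Groth.Agent.Lib.LimTop.Points


set_option autoImplicit false
universe u
open CategoryTheory AlgebraicGeometry
open Lim8

namespace Groth.Agent.S4763

/-- Let S = lim S_i be a cofiltered limit of schemes with affine transition maps and let i be an index.
The canonical projection S ⟶ S_i is dominant if and only if every transition map S_j ⟶ S_i is
dominant. -/
theorem result {I : Type u} [SmallCategory I] [IsCofiltered I]
    (D : I ⥤ Scheme.{u}) (c : Limits.Cone D) (hc : Limits.IsLimit c)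
    [∀ (i j : I) (f : i ⟶ j), IsAffineHom (D.map f)] (i : I) :
    IsDominant (c.π.app i) ↔ ∀ (j : I) (φ : j ⟶ i), IsDominant (D.map φ) := by
  constructor
  · intro hd j φ
    refine ⟨hd.denseRange.mono ?_⟩
    rintro _ ⟨s, rfl⟩
    exact ⟨c.π.app j s, Groth.Agent.Lib.LimTop.Points.π_map_apply φ s⟩
  · intro hd
    refine ⟨dense_iff_inter_open.mpr fun O hO ⟨x, hx⟩ => ?_⟩
    obtain ⟨_, ⟨V, hV : IsAffineOpen V, rfl⟩, hxV, hVO⟩ :=
      (D.obj i).isBasis_affineOpens.exists_subset_of_mem_open hx hO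
    obtain ⟨s, hs, -⟩ := Groth.Agent.Lib.LimTop.Points.exists_mem_affine hc hV
      (fun j φ => Set.univ) (fun j φ => Groth.Agent.Lib.LimTop.PC.IsPC.univ)
      (fun j φ => by
        obtain ⟨_, hyV, w, rfl⟩ :=
          dense_iff_inter_open.mp (hd j φ).denseRange (V : Set (D.obj i)) V.2 ⟨x, hxV⟩
        exact ⟨w, trivial, hyV⟩)
      (fun _ _ _ _ _ _ => trivial)
    exact ⟨_, hVO hs, s, rfl⟩

end Groth.Agent.S4763
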