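import Groth.Statements.S4765
import Groth.Agent.Lib.LimTop.Points


set_option autoImplicit false
universe u
open CategoryTheory AlgebraicGeometry
open Lim8

namespace Groth.Agent.S4765

/-- Let S = lim S_i be a cofiltered limit of schemes with affine transition maps and let i be an index
such that the projection S ⟶ S_j is surjective for every j over i. Then the projection S ⟶ S_i is an
open map if and only if every transition map S_j ⟶ S_i is an open map. This is the case of open
morphisms. -/
theorem result {I : Type u} [SmallCategory I] [IsCofiltered I]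
    (D : I ⥤ Scheme.{u}) (c : Limits.Cone D) (hc : Limits.IsLimit c)
    [∀ (i j : I) (f : i ⟶ j), IsAffineHom (D.map f)] (i : I)
    (hs : ∀ (j : I) (φ : j ⟶ i), Surjective (c.π.app j)) :
    IsOpenMap ⇑(c.π.app i) ↔ ∀ (j : I) (φ : j ⟶ i), IsOpenMap ⇑(D.map φ) := by
  constructor
  · intro h j φ U hU
    have hj := (hs j φ).surj
    have : (⇑(D.map φ) '' U) = ⇑(c.π.app i) '' (⇑(c.π.app j) ⁻¹' U) := by
      conv_lhs => rw [← Set.image_preimage_eq U hj, ← Set.image_comp]
      exact Set.image_congr fun s _ => Groth.Agent.Lib.LimTop.Points.π_map_apply φ s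
    rw [this]
    exact h _ (hU.preimage (c.π.app j).continuous)
  · intro h
    refine (Groth.Agent.Lib.LimTop.Points.isBasis_π hc).isOpenMap_iff.mpr ?_
    rintro _ ⟨j, V, -, rfl⟩
    obtain ⟨k, f, g, -⟩ := IsCofilteredOrEmpty.cone_objs j i
    have hk := (hs k g).surj
    have : ⇑(c.π.app i) '' (⇑(c.π.app j) ⁻¹' (V : Set (D.obj j))) =
        ⇑(D.map g) '' (⇑(D.map f) ⁻¹' (V : Set (D.obj j))) := by
      conv_rhs => rw [← Set.image_preimage_eq (⇑(D.map f) ⁻¹' (V : Set (D.obj j))) hk,
        ← Set.image_comp, Groth.Agent.Lib.LimTop.Points.preimage_π_eq]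
      exact Set.image_congr fun s _ => (Groth.Agent.Lib.LimTop.Points.π_map_apply g s).symm
    rw [this]
    exact h k g _ (V.2.preimage (D.map f).continuous)

end Groth.Agent.S4765
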