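import Groth.Statements.S4772
import Groth.Agent.Lib.LimTop.Components


set_option autoImplicit false
universe u
open CategoryTheory AlgebraicGeometry
open Lim8

namespace Groth.Agent.S4772

/-- Let S = lim S_i be a cofiltered limit of schemes whose transition maps are affine and dominant, some
stage S_{i₀} being quasi-compact. Then S is connected (in particular nonempty) if and only if there
is an index i over i₀ such that S_j is connected for every j over i. -/
theorem result {I : Type u} [SmallCategory I] [IsCofiltered I]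
    (D : I ⥤ Scheme.{u}) (c : Limits.Cone D) (hc : Limits.IsLimit c)
    [∀ (i j : I) (f : i ⟶ j), IsAffineHom (D.map f)] (i₀ : I)
    [CompactSpace (D.obj i₀)] (hd : ∀ (i j : I) (φ : i ⟶ j), IsDominant (D.map φ)) :
    ConnectedSpace c.pt ↔ ∃ (i : I) (_ : i ⟶ i₀), ∀ (j : I) (_ : j ⟶ i), ConnectedSpace (D.obj j) := by
  have hπ : ∀ (j : I) (_ : j ⟶ i₀), DenseRange ⇑(c.π.app j) := fun j _ =>
    Groth.Agent.Lib.LimTop.Components.denseRange_π hc j fun k ψ => (hd k j ψ).denseRange
  refine ⟨fun h => ⟨i₀, 𝟙 i₀, fun j φ => ?_⟩, fun ⟨i, φ, h⟩ => ?_⟩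
  · have hp : PreconnectedSpace (D.obj j) :=
      @DenseRange.preconnectedSpace c.pt _ _ _ h.toPreconnectedSpace _ (hπ j φ) (c.π.app j).continuous
    exact { toNonempty := h.toNonempty.map (c.π.app j) }
  · have hp := Groth.Agent.Lib.LimTop.Components.preconnectedSpace_of_eventually hc i₀ hπ φ fun j ψ => (h j ψ).toPreconnectedSpace
    refine { toNonempty := ?_ }
    obtain ⟨x⟩ := (h i (𝟙 i)).toNonempty
    obtain ⟨_, -, s, -⟩ := dense_iff_inter_open.mp (hπ i φ) Set.univ isOpen_univ ⟨x, trivial⟩
    exact ⟨s⟩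

end Groth.Agent.S4772
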