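import Groth.Statements.S4776
import Groth.Agent.Lib.LimTop.Affine


set_option autoImplicit false
universe u
open CategoryTheory AlgebraicGeometry
open Lim8

namespace Groth.Agent.S4776

/-- Let S = lim S_i be a cofiltered limit of schemes whose transition maps are affine, flat and
surjective, some stage S_{i₀} being quasi-compact, and assume that the underlying topological space
of S is Noetherian. Then S is integral if and only if there is an index i over i₀ such that S_j is
integral for every j over i. (The published statement carries neither the quasi-compactness nor the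
Noetherian hypothesis; its proof combines the reducedness criterion with the irreducibility
criterion for limits, and the latter is proved only under these two hypotheses, so they are assumed
here.) -/
theorem result {I : Type u} [SmallCategory I] [IsCofiltered I]
    (D : I ⥤ Scheme.{u}) (c : Limits.Cone D) (hc : Limits.IsLimit c)
    [∀ (i j : I) (f : i ⟶ j), IsAffineHom (D.map f)] (i₀ : I)
    [CompactSpace (D.obj i₀)] [TopologicalSpace.NoetherianSpace c.pt]
    (hf : ∀ (i j : I) (φ : i ⟶ j), Flat (D.map φ) ∧ Surjective (D.map φ)) :
    IsIntegral c.pt ↔ ∃ (i : I) (_ : i ⟶ i₀), ∀ (j : I) (_ : j ⟶ i), IsIntegral (D.obj j) := by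
  have hπ : ∀ (j : I) (_ : j ⟶ i₀), DenseRange ⇑(c.π.app j) := fun j _ =>
    Groth.Agent.Lib.LimTop.Components.denseRange_π hc j fun k ψ => (hf k j ψ).2.surj.denseRange
  refine ⟨fun h => ⟨i₀, 𝟙 i₀, fun j φ => ?_⟩, fun ⟨i, φ, h⟩ => ?_⟩
  · have : IrreducibleSpace c.pt := inferInstance
    have : IrreducibleSpace (D.obj j) := Groth.Agent.Lib.LimTop.Components.irreducibleSpace_stage i₀ hπ j φ
    have : Flat (c.π.app j) := Groth.Agent.Lib.LimTop.Affine.flat_π hc j fun k ψ => (hf k j ψ).1
    have : Surjective (c.π.app j) := ⟨fun x => by
      have hx : x ∈ Set.range ⇑(c.π.app j) := by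
        rw [Groth.Agent.Lib.LimTop.Points.range_π hc j]
        simp only [Set.mem_iInter]
        exact fun k ψ => (hf k j ψ).2.surj x
      exact hx⟩
    have : IsReduced (D.obj j) :=
      @Groth.Agent.Lib.LimTop.Affine.isReduced_of_flat_surjective c.pt (D.obj j) (c.π.app j) _ _ inferInstance
    exact isIntegral_of_irreducibleSpace_of_isReduced _
  · have : IrreducibleSpace c.pt := Groth.Agent.Lib.LimTop.Components.irreducibleSpace_of_eventually hc i₀ hπ φ
      fun j ψ => have := h j ψ; inferInstance
    have : IsReduced c.pt := by
      by_contra hn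
      obtain ⟨k, hk⟩ := Groth.Agent.Lib.LimTop.Affine.exists_not_isReduced hc hn
      obtain ⟨m, f, g, -⟩ := IsCofilteredOrEmpty.cone_objs k i
      have := h m g
      exact hk m f inferInstance
    exact isIntegral_of_irreducibleSpace_of_isReduced _

end Groth.Agent.S4776
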