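import Groth.Statements.S4785
import Groth.Agent.Lib.LimTop.Affine


set_option autoImplicit false
universe u
open CategoryTheory AlgebraicGeometry
open Lim8

namespace Groth.Agent.S4785

theorem injective_stalkMap {X Y : Scheme.{u}} (f : X ⟶ Y) [Flat f] (x : X) :
    Function.Injective (f.stalkMap x) := by
  algebraize [(f.stalkMap x).hom]
  have : Module.FaithfullyFlat (Y.presheaf.stalk (f x)) (X.presheaf.stalk x) :=
    @Module.FaithfullyFlat.of_flat_of_isLocalHom _ _ _ _ _ _ _
      (Flat.stalkMap f x) (f.toLRSHom.prop x)
  exact ‹RingHom.FaithfullyFlat _›.injective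

/-- Let S = lim S_i be a cofiltered limit of schemes whose transition maps are open immersions, so that
each S_j with j over i is an open subscheme of S_i. Then, for every index i, the projection S ⟶ S_i
is a topological embedding and every stalk map O_{S_i, π(s)} ⟶ O_{S, s} is an isomorphism; that is,
S is the subspace ⋂_j S_j of S_i with the induced structure sheaf. -/
theorem result {I : Type u} [SmallCategory I] [IsCofiltered I]
    (D : I ⥤ Scheme.{u}) (c : Limits.Cone D) (hc : Limits.IsLimit c)
    [∀ (i j : I) (f : i ⟶ j), IsAffineHom (D.map f)]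
    (hoi : ∀ (i j : I) (φ : i ⟶ j), IsOpenImmersion (D.map φ)) (i : I) :
    Topology.IsEmbedding ⇑(c.π.app i) ∧ ∀ s : c.pt, IsIso ((c.π.app i).stalkMap s) := by
  refine ⟨Groth.Agent.Lib.LimTop.Components.isEmbedding_π hc fun j φ =>
    (hoi j i φ).base_open.isEmbedding, fun s => ?_⟩
  rw [ConcreteCategory.isIso_iff_bijective]
  refine ⟨?_, Groth.Agent.Lib.LimTop.Affine.surjective_stalkMap_π hc i s fun j φ => ?_⟩
  · have : Flat (c.π.app i) := Groth.Agent.Lib.LimTop.Affine.flat_π hc i fun j φ => by
      have := hoi j i φ; infer_instance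
    exact injective_stalkMap (c.π.app i) s
  · have := hoi j i φ
    exact (ConcreteCategory.bijective_of_isIso _).2

end Groth.Agent.S4785
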