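import Groth.Statements.S4783
import Groth.Agent.Lib.LimTop.Reduced
import Groth.Agent.S4785


set_option autoImplicit false
universe u
open CategoryTheory AlgebraicGeometry
open Lim8

namespace Groth.Agent.S4783

/-- Let S = lim S_i be a cofiltered limit of schemes whose transition maps are open immersions (in
particular affine), and let S_{i₀} be a Noetherian stage. Then S is integral if and only if there is
an index i over i₀ such that S_j is integral for every j over i. -/
theorem result {I : Type u} [SmallCategory I] [IsCofiltered I]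
    (D : I ⥤ Scheme.{u}) (c : Limits.Cone D) (hc : Limits.IsLimit c)
    [∀ (i j : I) (f : i ⟶ j), IsAffineHom (D.map f)] (i₀ : I)
    [IsNoetherian (D.obj i₀)] (hoi : ∀ (i j : I) (φ : i ⟶ j), IsOpenImmersion (D.map φ)) :
    IsIntegral c.pt ↔ ∃ (i : I) (_ : i ⟶ i₀), ∀ (j : I) (_ : j ⟶ i), IsIntegral (D.obj j) := by
  have hN : ∀ U : (D.obj i₀).affineOpens, (nilradical Γ(D.obj i₀, U)).FG := fun U => by
    have := IsLocallyNoetherian.component_noetherian (X := D.obj i₀) U
    exact IsNoetherian.noetherian _
  obtain ⟨i₁, φ₁, hd⟩ := Groth.Agent.Lib.LimTop.Components.exists_denseRange_π_of_isEmbedding hc i₀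
    fun i j φ => (hoi i j φ).base_open.isEmbedding
  have := Groth.Agent.Lib.LimTop.Points.compactSpace_stage (D := D) φ₁
  refine ⟨fun h => ?_, fun ⟨i, φ, h⟩ => ?_⟩
  · obtain ⟨i₂, φ₂, hr⟩ := Groth.Agent.Lib.LimTop.Reduced.eventually_isReduced hc i₀ hoi hN
      fun s => (Groth.Agent.S4785.result D c hc hoi i₀).2 s
    obtain ⟨m, f, g, e⟩ := IsCofiltered.cospan φ₁ φ₂
    refine ⟨m, f ≫ φ₁, fun j ψ => ?_⟩
    have : IrreducibleSpace c.pt := inferInstance
    have : IrreducibleSpace (D.obj j) :=
      Groth.Agent.Lib.LimTop.Components.irreducibleSpace_stage i₁ hd j (ψ ≫ f)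
    have := hr j (ψ ≫ g)
    exact isIntegral_of_irreducibleSpace_of_isReduced _
  · obtain ⟨m, f, g, e⟩ := IsCofiltered.cospan φ₁ φ
    have : IrreducibleSpace c.pt := Groth.Agent.Lib.LimTop.Components.irreducibleSpace_of_eventually hc i₁ hd f
      fun j ψ => have := h j (ψ ≫ g); inferInstance
    have : IsReduced c.pt := by
      by_contra hn
      obtain ⟨k, hk⟩ := Groth.Agent.Lib.LimTop.Affine.exists_not_isReduced hc hn
      obtain ⟨m', f', g', -⟩ := IsCofilteredOrEmpty.cone_objs k i
      have := h m' g'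
      exact hk m' f' inferInstance
    exact isIntegral_of_irreducibleSpace_of_isReduced _

end Groth.Agent.S4783
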