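import Groth.Statements.S4786
import Groth.Agent.Lib.LimTop.OpenMap


set_option autoImplicit false
universe u
open CategoryTheory AlgebraicGeometry
open Lim8

namespace Groth.Agent.S4786

/-- Let S = lim S_i be a cofiltered limit of schemes whose transition maps are affine and flat, let
S_{i₁} be a quasi-compact stage, and let Z' and Z'' be pro-constructible subsets of S_{i₁} such that
the closure of Z' is constructible. Then the preimage of Z'' in S is contained in the closure of the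
preimage of Z' in S if and only if there is an index j over i₁ such that the preimage of Z'' in S_j
is contained in the closure of the preimage of Z' in S_j. -/
theorem result {I : Type u} [SmallCategory I] [IsCofiltered I]
    (D : I ⥤ Scheme.{u}) (c : Limits.Cone D) (hc : Limits.IsLimit c)
    [∀ (i j : I) (f : i ⟶ j), IsAffineHom (D.map f)] (i₁ : I) [CompactSpace (D.obj i₁)]
    (hfl : ∀ (i j : I) (φ : i ⟶ j), Flat (D.map φ))
    (Z' Z'' : Set (D.obj i₁)) (hZ' : ProCons.IsProConstructible Z') (hZ'' : ProCons.IsProConstructible Z'')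
    (hcl : Topology.IsConstructible (closure Z')) :
    (⇑(c.π.app i₁) ⁻¹' Z'' : Set c.pt) ⊆ closure (⇑(c.π.app i₁) ⁻¹' Z' : Set c.pt) ↔
      ∃ (j : I) (φ : j ⟶ i₁), ⇑(D.map φ) ⁻¹' Z'' ⊆ closure (⇑(D.map φ) ⁻¹' Z') := by
  have hπ : Flat (c.π.app i₁) := Groth.Agent.Lib.LimTop.Affine.flat_π hc i₁ fun j φ => hfl j i₁ φ
  have hZ := Groth.Agent.Lib.LimTop.PC.IsPC.of_isProConstructible hZ'
  rw [Groth.Agent.Lib.LimTop.OpenMap.closure_preimage_of_flat (c.π.app i₁) hZ]
  have hj : ∀ (j : I) (φ : j ⟶ i₁), closure (⇑(D.map φ) ⁻¹' Z') = ⇑(D.map φ) ⁻¹' closure Z' :=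
    fun j φ => @Groth.Agent.Lib.LimTop.OpenMap.closure_preimage_of_flat _ _ (D.map φ) (hfl j i₁ φ) _ hZ
  refine ⟨fun h => ?_, ?_⟩
  · obtain ⟨j, φ, hjφ⟩ := Groth.Agent.Lib.LimTop.Points.exists_map_preimage_subset hc i₁
      (Groth.Agent.Lib.LimTop.PC.IsPC.of_isProConstructible hZ'') (Groth.Agent.Lib.LimTop.PC.IsPC.compl_of_isConstructible hcl) h
    exact ⟨j, φ, by rw [hj]; exact hjφ⟩
  · rintro ⟨j, φ, h⟩
    rw [hj] at h
    rw [← Groth.Agent.Lib.LimTop.Points.preimage_π_eq φ Z'', ← Groth.Agent.Lib.LimTop.Points.preimage_π_eq φ (closure Z')]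
    exact Set.preimage_mono h

end Groth.Agent.S4786
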