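import Groth.Statements.S4787
import Groth.Agent.Lib.LimTop.Points


set_option autoImplicit false
universe u
open CategoryTheory AlgebraicGeometry
open Lim8

namespace Groth.Agent.S4787

open Groth.Agent.Lib.LimTop.PC Groth.Agent.Lib.LimTop.Points in
theorem aux {I : Type u} [SmallCategory I] [IsCofiltered I]
    (D : I ⥤ Scheme.{u}) (c : Limits.Cone D) (hc : Limits.IsLimit c)
    [∀ (i j : I) (f : i ⟶ j), IsAffineHom (D.map f)] (i₀ : I)
    [CompactSpace (D.obj i₀)] (E F : ∀ i : I, Set (D.obj i))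
    (hE : ∀ i, IsPC (E i)) (hF : ∀ i, IsPC (F i)ᶜ)
    (hEm : ∀ (i j : I) (φ : i ⟶ j), E i ⊆ ⇑(D.map φ) ⁻¹' E j)
    (hFm : ∀ (i j : I) (φ : i ⟶ j), ⇑(D.map φ) ⁻¹' F j ⊆ F i)
    (h : (⋂ i, ⇑(c.π.app i) ⁻¹' E i : Set c.pt) ⊆ (⋃ i, ⇑(c.π.app i) ⁻¹' F i : Set c.pt)) :
    ∃ (i : I) (_ : i ⟶ i₀), ∀ (j : I) (_ : j ⟶ i), E j ⊆ F j := by
  have hstab : ∀ {j k : I} (ψ : k ⟶ j), Set.MapsTo (D.map ψ) (E k \ F k) (E j \ F j) :=
    fun ψ w hw => ⟨hEm _ _ ψ hw.1, fun h' => hw.2 (hFm _ _ ψ h')⟩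
  by_contra! H
  obtain ⟨s, hs⟩ := exists_mem hc i₀ (fun j _ => E j \ F j) (fun j _ => (hE j).sdiff (hF j))
    (fun j φ => by
      obtain ⟨k, ψ, hk⟩ := H j φ
      obtain ⟨w, hwE, hwF⟩ := Set.not_subset.mp hk
      exact ⟨_, hstab ψ ⟨hwE, hwF⟩⟩)
    (fun j k ψ _ => hstab ψ)
  have hsE : s ∈ (⋂ i, ⇑(c.π.app i) ⁻¹' E i : Set c.pt) := by
    simp only [Set.mem_iInter, Set.mem_preimage]
    intro i
    obtain ⟨m, f, g, -⟩ := IsCofilteredOrEmpty.cone_objs i i₀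
    rw [← π_map_apply f s]
    exact hEm _ _ f (hs m g).1
  obtain ⟨i, hi⟩ := Set.mem_iUnion.mp (h hsE)
  obtain ⟨m, f, g, -⟩ := IsCofilteredOrEmpty.cone_objs i i₀
  refine (hs m g).2 (hFm _ _ f ?_)
  change D.map f (c.π.app m s) ∈ F i
  rw [π_map_apply]
  exact hi

/-- Let S = lim S_i be a cofiltered limit of schemes with affine transition maps, some stage S_{i₀}
being quasi-compact. For every index let E_i be a pro-constructible and F_i an ind-constructible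
subset of S_i such that, for every transition map S_i ⟶ S_j, E_i lies in the preimage of E_j and F_i
contains the preimage of F_j. Put E = ⋂ (preimage of E_i in S) and F = ⋃ (preimage of F_i in S).
Then E ⊆ F if and only if there is an index i over i₀ such that E_j ⊆ F_j for every j over i. -/
theorem result {I : Type u} [SmallCategory I] [IsCofiltered I]
    (D : I ⥤ Scheme.{u}) (c : Limits.Cone D) (hc : Limits.IsLimit c)
    [∀ (i j : I) (f : i ⟶ j), IsAffineHom (D.map f)] (i₀ : I)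
    [CompactSpace (D.obj i₀)] (E F : ∀ i : I, Set (D.obj i))
    (hE : ∀ i, ProCons.IsProConstructible (E i)) (hF : ∀ i, ProCons.IsIndConstructible (F i))
    (hEm : ∀ (i j : I) (φ : i ⟶ j), E i ⊆ ⇑(D.map φ) ⁻¹' E j)
    (hFm : ∀ (i j : I) (φ : i ⟶ j), ⇑(D.map φ) ⁻¹' F j ⊆ F i) :
    (⋂ i, ⇑(c.π.app i) ⁻¹' E i : Set c.pt) ⊆ (⋃ i, ⇑(c.π.app i) ⁻¹' F i : Set c.pt) ↔
      ∃ (i : I) (_ : i ⟶ i₀), ∀ (j : I) (_ : j ⟶ i), E j ⊆ F j := by
  constructor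
  · intro h
    exact aux D c hc i₀ E F (fun i => Groth.Agent.Lib.LimTop.PC.IsPC.of_isProConstructible (hE i))
      (fun i => Groth.Agent.Lib.LimTop.PC.IsPC.compl_of_isIndConstructible (hF i)) hEm hFm h
  · rintro ⟨i, -, hi⟩ s hs
    exact Set.mem_iUnion.mpr ⟨i, hi i (𝟙 i) (Set.mem_iInter.mp hs i)⟩

end Groth.Agent.S4787
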