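import Groth.Statements.S4794
import Groth.Agent.H47.ModStageFree
import Groth.Agent.Lib.LimTop.Affine
import Groth.Agent.Lib.Cyc.FP.Stalk
import Mathlib.CategoryTheory.Abelian.Exact

set_option autoImplicit false
universe u
open CategoryTheory AlgebraicGeometry
open Lim8

namespace Groth.Agent.S4794

/-- Let S = lim S_i be a cofiltered limit of schemes whose transition maps are affine and flat, and
S_{i₀} a quasi-compact stage; let f₀ : F₀ ⟶ G₀ be a homomorphism of quasi-coherent O-modules on
S_{i₀} whose kernel is an O-module of finite type. Then the pullback of f₀ along S ⟶ S_{i₀} is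
injective (a monomorphism of O_S-modules) if and only if, for some index j over i₀, the pullback of
f₀ along S_j ⟶ S_{i₀} is injective. -/
theorem result {I : Type u} [SmallCategory I] [IsCofiltered I]
    (D : I ⥤ Scheme.{u}) (c : Limits.Cone D) (hc : Limits.IsLimit c)
    [∀ (i j : I) (f : i ⟶ j), IsAffineHom (D.map f)] (i₀ : I) [CompactSpace (D.obj i₀)]
    (hfl : ∀ (i j : I) (φ : i ⟶ j), Flat (D.map φ))
    {F₀ G₀ : (D.obj i₀).Modules} [Coh.IsQCoh F₀]
    [Coh.IsQCoh G₀] (f₀ : F₀ ⟶ G₀)
    (hker : CohB1.IsFT (Limits.kernel f₀)) :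
    Mono ((Scheme.Modules.pullback (c.π.app i₀)).map f₀) ↔
      ∃ (j : I) (φ : j ⟶ i₀), Mono ((Scheme.Modules.pullback (D.map φ)).map f₀) := by
  haveI : F₀.IsQuasicoherent := inferInstanceAs (Coh.IsQCoh F₀)
  haveI : G₀.IsQuasicoherent := inferInstanceAs (Coh.IsQCoh G₀)
  haveI : ∀ {i j : I} (f : i ⟶ j), IsAffineHom (D.map f) := fun f => inferInstance
  have key : ∀ {T : Scheme.{u}} (g : T ⟶ D.obj i₀), Flat g →
      (Mono ((Scheme.Modules.pullback g).map f₀) ↔
        Limits.IsZero ((Scheme.Modules.pullback g).obj (Limits.kernel f₀))) := by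
    intro T g hg
    haveI := hg
    haveI : (Scheme.Modules.pullback g).Additive :=
      (Scheme.Modules.pullbackPushforwardAdjunction g).left_adjoint_additive
    haveI : Limits.PreservesColimitsOfSize.{u, u} (Scheme.Modules.pullback g) :=
      (Scheme.Modules.pullbackPushforwardAdjunction g).leftAdjoint_preservesColimits
    haveI : Limits.PreservesFiniteColimits (Scheme.Modules.pullback g) :=
      Limits.PreservesColimitsOfSize.preservesFiniteColimits _
    haveI : (Scheme.Modules.pullback g).PreservesMonomorphisms :=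
      ⟨fun u _ => Groth.Agent.Lib.Cyc.FP.Stalk.mono_pullback g u⟩
    haveI : (Scheme.Modules.pullback g).PreservesHomology :=
      Functor.preservesHomology_of_preservesMonos_and_cokernels _
    haveI : Limits.PreservesFiniteLimits (Scheme.Modules.pullback g) :=
      Functor.preservesFiniteLimits_of_preservesHomology _
    let e := Limits.PreservesKernel.iso (Scheme.Modules.pullback g) f₀
    refine ⟨fun h => (Limits.isZero_kernel_of_mono _).of_iso e, fun h => ?_⟩
    exact Preadditive.mono_of_isZero_kernel _ (h.of_iso e.symm)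
  haveI : (Limits.kernel f₀).IsQuasicoherent := Groth.Agent.Lib.QCoh.Closure.isQCoh_kernel _
  let K := Limits.kernel f₀
  haveI : (Groth.Agent.H47.FlatLimit.Z K).IsQuasicoherent :=
    Groth.Agent.Lib.QCoh.Closure.isQCoh_cokernel _
  have hz : Limits.IsZero (Groth.Agent.H47.FlatLimit.Z K) := Groth.Agent.H47.FlatLimit.isZero_Z K
  let u0 : Groth.Agent.H47.FlatLimit.Z K ⟶ K := 0
  have key2 : ∀ {T : Scheme.{u}} (g : T ⟶ D.obj i₀),
      Limits.IsZero ((Scheme.Modules.pullback g).obj K) ↔ Epi ((Scheme.Modules.pullback g).map u0) := by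
    intro T g
    refine ⟨fun h => h.epi _, fun h => ?_⟩
    have h0 : (Scheme.Modules.pullback g).map u0 = 0 :=
      (((Scheme.Modules.pullback g).map_isZero hz)).eq_of_src _ _
    rw [Limits.IsZero.iff_id_eq_zero, ← cancel_epi ((Scheme.Modules.pullback g).map u0), h0,
      Limits.zero_comp, Limits.zero_comp]
  have hπ : Flat (c.π.app i₀) :=
    Groth.Agent.Lib.LimTop.Affine.flat_π hc i₀ fun j φ => hfl j i₀ φ
  rw [key _ hπ, key2, Groth.Agent.H47.ModStage.epi_iff i₀ u0 hc hker]
  exact exists_congr fun j => exists_congr fun φ => by rw [key _ (hfl j i₀ φ), key2]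

end Groth.Agent.S4794
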