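import Groth.Statements.S4798
import Groth.Agent.H69.FibreLoci.Comps

set_option autoImplicit false
universe u
open CategoryTheory AlgebraicGeometry
open Cons9

namespace Groth.Agent.S4798
set_option backward.isDefEq.respectTransparency false
open Groth.Agent.H69.FibreLoci Groth.Agent.H46.FibreProf.Basic CategoryTheory AlgebraicGeometry

/-- Let f : X ⟶ S be a morphism of finite presentation and Z a locally constructible subset of X such
that, for every s ∈ S, Z_s = Z ∩ f⁻¹(s) is locally closed in the fibre f⁻¹(s). For s ∈ S let D(s) be
the set of dimensions of the irreducible components of Z_s (fibres as subspaces of X, dimensions as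
topological Krull dimensions). Then every level set {s | D(s) = Φ} of the function D is locally
constructible in S. (The published statement asserts that the function s ↦ D(s) is locally
constructible; this row states that each of its level sets is locally constructible.) -/
theorem result {X S : Scheme.{u}} (f : X ⟶ S)
    [LocallyOfFinitePresentation f] [QuasiCompact f] [QuasiSeparated f]
    (Z : Set X) (hZ : Topology.IsLocallyConstructible Z)
    (hZs : ∀ s : S, IsLocallyClosed (Subtype.val ⁻¹' Z : Set ↥(⇑f ⁻¹' {s})))
    (Φ : Set (WithBot ℕ∞)) :
    Topology.IsLocallyConstructible {s : S |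
      (fun T : Set ↥(Z ∩ ⇑f ⁻¹' {s}) => topologicalKrullDim ↥T) '' irreducibleComponents ↥(Z ∩ ⇑f ⁻¹' {s}) = Φ} := by
  classical
  by_cases hΦ : Φ ⊆ Set.range (fun n : ℕ => (n : WithBot ℕ∞))
  · convert Loci.isLocallyConstructible_levelSet
      (fun d => Loci.isLocallyConstructible_hasMax f hZ d) (Loci.bounded_hasMax f Z)
      ((fun n : ℕ => (n : WithBot ℕ∞)) ⁻¹' Φ) using 1
    ext s
    show _ = Φ ↔ ∀ d, _
    rw [Comps.comps_eq f s (hZs s)]
    constructor
    · intro h d
      have := Set.ext_iff.1 h (d : WithBot ℕ∞)
      rwa [(Nat.cast_injective (R := WithBot ℕ∞)).mem_set_image] at this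
    · intro h
      rw [← Set.image_preimage_eq_of_subset hΦ]
      exact congrArg _ (Set.ext h)
  · convert Topology.IsLocallyConstructible.empty using 1
    refine Set.eq_empty_iff_forall_notMem.2 fun s hs => hΦ ?_
    have h := (Comps.comps_eq f s (hZs s)).symm.trans hs
    exact h ▸ Set.image_subset_range _ _

end Groth.Agent.S4798
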