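import Groth.Statements.S4804
import Groth.Agent.H69.StageLocal
import Groth.Agent.Lib.Lim.Props
import Groth.Agent.Lib.Lim.OpenImm
import Groth.Agent.Lib.Lim.SmoothEtale
import Groth.Agent.Lib.Lim.FPDescend
-- import your own Groth.Agent.* helpers here

set_option autoImplicit false
universe u
open CategoryTheory AlgebraicGeometry
open Lim8

namespace Groth.Agent.S4804
open CategoryTheory CategoryTheory.Limits
set_option backward.isDefEq.respectTransparency false

/-- Let S = lim S_i be a cofiltered limit of schemes with affine transition maps, let f₀ : X₀ ⟶ Y₀ be a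
morphism of schemes over a stage S_{i₀}, with Y₀ quasi-compact and f₀ of finite type and
quasi-separated, and let f : X ⟶ Y be the base change of f₀ along S ⟶ S_{i₀} (base changes are
expressed by pullback squares). Then f is separated if and only if, for some index j over i₀, the
base change f_j : X_j ⟶ Y_j of f₀ along S_j ⟶ S_{i₀} is separated. -/
theorem result {I : Type u} [SmallCategory I] [IsCofiltered I]
    (D : I ⥤ Scheme.{u}) (c : Limits.Cone D) (hc : Limits.IsLimit c)
    [∀ (i j : I) (f : i ⟶ j), IsAffineHom (D.map f)] (i₀ : I)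
    {X₀ Y₀ : Scheme.{u}} (f₀ : X₀ ⟶ Y₀) (g₀ : Y₀ ⟶ D.obj i₀) [CompactSpace Y₀]
    [LocallyOfFiniteType f₀] [QuasiCompact f₀] [QuasiSeparated f₀]
    {X Y : Scheme.{u}} (f : X ⟶ Y) (g : Y ⟶ c.pt) (qY : Y ⟶ Y₀) (qX : X ⟶ X₀)
    (hY : IsPullback qY g g₀ (c.π.app i₀)) (hX : IsPullback qX f f₀ qY) :
    IsSeparated f ↔
      ∃ (j : I) (φ : j ⟶ i₀) (Xj Yj : Scheme.{u}) (fj : Xj ⟶ Yj) (gj : Yj ⟶ D.obj j) (pY : Yj ⟶ Y₀)
        (pX : Xj ⟶ X₀), IsPullback pY gj g₀ (D.map φ) ∧ IsPullback pX fj f₀ pY ∧ IsSeparated fj := by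
  refine ⟨fun hf => ?_, ?_⟩
  · obtain ⟨i, φ, hi⟩ := Groth.Agent.H69.StageLocal.exists_stage
      Groth.Agent.Lib.Lim.Props.isSeparated_descends D c hc i₀ f₀ g₀ f g qY qX hY hX trivial hf
    exact ⟨i, φ, _, _, _, pullback.snd _ _, pullback.fst _ _, pullback.fst _ _,
      IsPullback.of_hasPullback _ _, IsPullback.of_hasPullback _ _, hi⟩
  · rintro ⟨j, φ, Xj, Yj, fj, gj, pY, pX, hYj, hXj, hj⟩
    let t : Y ⟶ Yj := hYj.lift qY (g ≫ c.π.app j) (by rw [Category.assoc, c.w, hY.w])
    let s : X ⟶ Xj := hXj.lift qX (f ≫ t) (by rw [Category.assoc, hYj.lift_fst, hX.w])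
    have h : IsPullback s f fj t := by
      refine IsPullback.of_right ?_ (hXj.lift_snd _ _ _) hXj
      rw [hXj.lift_fst, hYj.lift_fst]
      exact hX
    exact MorphismProperty.of_isPullback (P := @IsSeparated) h hj


end Groth.Agent.S4804
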