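import Groth.Statements.S4806
import Groth.Agent.Lib.GrpSch.UnramifiedFibre
import Groth.Agent.Lib.Unram.EtaleMono
import Mathlib.AlgebraicGeometry.ZariskisMainTheorem


set_option autoImplicit false
universe u
open CategoryTheory AlgebraicGeometry
open Lim8

namespace Groth.Agent.S4806

/-- Let f : X ⟶ Y be a proper morphism of finite presentation. Then f is a closed immersion if and only
if, for every point y of Y, the scheme-theoretic fibre of f at y is empty or its structure morphism
to Spec κ(y) is an isomorphism. -/
theorem result {X Y : Scheme.{u}} (f : X ⟶ Y) [IsProper f]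
    [LocallyOfFinitePresentation f] :
    IsClosedImmersion f ↔ ∀ y : Y, IsEmpty (f.fiber y) ∨ IsIso (f.fiberToSpecResidueField y) := by
  constructor
  · intro hf y
    have : IsClosedImmersion (f.fiberToSpecResidueField y) :=
      MorphismProperty.of_isPullback (P := @IsClosedImmersion)
        (IsPullback.of_hasPullback f (Y.fromSpecResidueField y)) hf
    rcases isEmpty_or_nonempty (f.fiber y) with h | h
    · exact Or.inl h
    · have : Surjective (f.fiberToSpecResidueField y) := ⟨fun p => ⟨h.some, Subsingleton.elim _ _⟩⟩
      exact Or.inr (isIso_of_isClosedImmersion_of_surjective _)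
  · intro h
    have hoi : ∀ y, IsOpenImmersion (f.fiberToSpecResidueField y) := fun y => by
      rcases h y with h | h <;> infer_instance
    have : FormallyUnramified f :=
      Groth.Agent.Lib.GrpSch.formallyUnramified_of_fibres f fun y => by
        have := hoi y
        infer_instance
    have : UniversallyInjective f := by
      refine ((tfae_universallyInjective f).out 1 0).mp ?_
      intro K hK g₁ g₂ hg
      let w : Spec (CommRingCat.of K) ⟶ Y := g₁ ≫ f
      obtain ⟨⟨y, φ⟩, hw⟩ := (Scheme.SpecToEquivOfField K Y).symm.surjective w
      change Spec.map φ ≫ Y.fromSpecResidueField y = g₁ ≫ f at hw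
      let l₁ : Spec (CommRingCat.of K) ⟶ f.fiber y := Limits.pullback.lift g₁ (Spec.map φ) hw.symm
      let l₂ : Spec (CommRingCat.of K) ⟶ f.fiber y :=
        Limits.pullback.lift g₂ (Spec.map φ) (hg.symm.trans hw.symm)
      have := hoi y
      have hl : l₁ = l₂ := (cancel_mono (f.fiberToSpecResidueField y)).mp
        ((Limits.pullback.lift_snd _ _ _).trans (Limits.pullback.lift_snd _ _ _).symm)
      rw [← Limits.pullback.lift_fst (f := f) (g := Y.fromSpecResidueField y) g₁ (Spec.map φ) hw.symm,
        ← Limits.pullback.lift_fst (f := f) (g := Y.fromSpecResidueField y) g₂ (Spec.map φ) (hg.symm.trans hw.symm)]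
      exact congrArg (· ≫ Limits.pullback.fst f (Y.fromSpecResidueField y)) hl
    have := (UniversallyInjective.iff_diagonal f).mp this
    exact (IsClosedImmersion.iff_isProper_and_mono (f := f)).mpr
      ⟨inferInstance, Groth.Agent.Lib.Unram.EtaleMono.mono_of_surjective_diagonal f⟩

end Groth.Agent.S4806
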