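import Groth.Statements.S4807
import Groth.Agent.Lib.Lim.Approx.Integral
import Groth.Agent.Lib.Lim.Eventual

set_option autoImplicit false
universe u
open CategoryTheory AlgebraicGeometry
open Lim8

namespace Groth.Agent.S4807

/-- Let Y be a quasi-compact quasi-separated scheme and f : X ⟶ Y a separated morphism of finite type.
Let X' be the relative normalization of Y in X, the spectrum of the integral closure of O_Y in
f_*O_X, with its canonical morphism g : X ⟶ X'. Then f admits a factorization X ⟶ Y' ⟶ Y into an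
immersion followed by a finite morphism if and only if g is an immersion. -/
theorem result {X Y : Scheme.{u}} (f : X ⟶ Y)
    [CompactSpace Y] [QuasiSeparatedSpace Y] [IsSeparated f] [LocallyOfFiniteType f] [QuasiCompact f] :
    (∃ (Y' : Scheme.{u}) (f' : X ⟶ Y') (u : Y' ⟶ Y), IsImmersion f' ∧ IsFinite u ∧ f' ≫ u = f) ↔
      IsImmersion f.toNormalization := by
  constructor
  · rintro ⟨Y', f', u, hf', hu, rfl⟩
    have : IsImmersion ((f' ≫ u).toNormalization ≫ (f' ≫ u).normalizationDesc f' u rfl) := by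
      rwa [Scheme.Hom.toNormalization_normalizationDesc]
    exact IsImmersion.of_comp _ ((f' ≫ u).normalizationDesc f' u rfl)
  · intro hg
    obtain ⟨R, hfin⟩ := Lib.Lim.Approx.Integral.exists_finiteApprox f.fromNormalization
    set g := f.toNormalization with hgdef
    have : CompactSpace X := QuasiCompact.compactSpace_of_compactSpace f
    -- a quasi-compact open of the normalization in which `X` is closed
    obtain ⟨U, hUc, hUle, hUrange⟩ : ∃ U : f.normalization.Opens, IsCompact (U : Set f.normalization) ∧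
        U ≤ g.coborderRange ∧ g ⁻¹ᵁ U = ⊤ := by
      obtain ⟨T, hT⟩ := (isCompact_range g.continuous).elim_finite_subcover
        (fun W : {W : f.normalization.affineOpens // W.1 ≤ g.coborderRange} => (W.1.1 : Set f.normalization))
        (fun W => W.1.1.2) (fun y hy => by
          obtain ⟨W, hW, hyW, hle⟩ := exists_isAffineOpen_mem_and_subset (U := g.coborderRange) (x := y)
            (subset_coborder hy)
          exact Set.mem_iUnion.mpr ⟨⟨⟨W, hW⟩, hle⟩, hyW⟩)
      refine ⟨⨆ W ∈ T, W.1.1, ?_, iSup₂_le fun W _ => W.2, top_le_iff.mp fun y _ => ?_⟩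
      · simp only [TopologicalSpace.Opens.coe_iSup]
        exact T.isCompact_biUnion fun W _ => W.1.2.isCompact
      · obtain ⟨W, hW, hyW⟩ := Set.mem_iUnion₂.mp (hT ⟨y, rfl⟩)
        exact TopologicalSpace.Opens.mem_iSup.mpr ⟨W, TopologicalSpace.Opens.mem_iSup.mpr ⟨hW, hyW⟩⟩
    let c : Limits.Cone R.D := Limits.Cone.mk f.normalization R.π
    obtain ⟨i, V, hVc, hV⟩ := exists_preimage_eq R.D c R.isLimit U hUc
    let D' := opensDiagram R.D i V
    let c' : Limits.Cone D' := opensCone R.D c i V
    have : ∀ j : Over i, CompactSpace (D'.obj j) := fun j =>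
      isCompact_iff_compactSpace.mp (QuasiCompact.isCompact_preimage (f := R.D.map j.hom) _ V.2 hVc)
    let t' : D' ⟶ (Functor.const (Over i)).obj Y :=
    { app := fun j => (R.D.map j.hom ⁻¹ᵁ V).ι ≫ R.t.app j.left
      naturality := fun a b φ => by
        simp [D', opensDiagram] }
    let U' : f.normalization.Opens := R.π.app i ⁻¹ᵁ V
    have hV' : U' = U := hV
    have hrange : Set.range g ⊆ Set.range U'.ι := by
      rintro _ ⟨y, rfl⟩
      rw [Scheme.Opens.range_ι, hV']
      exact hUrange.ge (x := y) trivial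
    let y₀ : X ⟶ (U' : Scheme.{u}) := IsOpenImmersion.lift U'.ι g hrange
    have hy : y₀ ≫ U'.ι = g := IsOpenImmersion.lift_fac _ _ _
    have this₁ : IsClosedImmersion y₀ := by
      have hle : U' ≤ g.coborderRange := hV' ▸ hUle
      have e : y₀ ≫ f.normalization.homOfLE hle = g.liftCoborder := by
        rw [← cancel_mono g.coborderRange.ι, Category.assoc, f.normalization.homOfLE_ι, hy,
          Scheme.Hom.liftCoborder_ι]
      have : IsClosedImmersion (y₀ ≫ f.normalization.homOfLE hle) := e ▸ inferInstance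
      exact IsClosedImmersion.of_comp y₀ (f.normalization.homOfLE hle)
    let q : ∀ j : Over i, (U' : Scheme.{u}) ⟶ (R.D.map j.hom ⁻¹ᵁ V : (R.D.obj j.left).Opens) :=
      fun j => c'.π.app j
    have hc' : ∀ j : Over i, q j ≫ (R.D.map j.hom ⁻¹ᵁ V).ι =
        U'.ι ≫ c.π.app j.left := fun j => Scheme.Hom.resLE_comp_ι _ _
    have hyf : ∀ j : Over i, y₀ ≫ q j ≫ t'.app j = f := fun j => by
      change y₀ ≫ q j ≫ (R.D.map j.hom ⁻¹ᵁ V).ι ≫ R.t.app j.left = f
      rw [reassoc_of% hc' j, reassoc_of% hy, R.w, hgdef, Scheme.Hom.toNormalization_fromNormalization]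
    let k₀ : Over i := Over.mk (𝟙 i)
    have : LocallyOfFiniteType (y₀ ≫ q k₀ ≫ t'.app k₀) := by rw [hyf]; infer_instance
    obtain ⟨j, hj⟩ := @Lib.Lim.Eventual.exists_isClosedImmersion_comp _ _ _ _ D' t' c' _
      (isLimitOpensCone R.D c R.isLimit i V) _ X y₀ this₁ k₀ this
    refine ⟨R.D.obj j.left, g ≫ R.π.app j.left, R.t.app j.left, ?_, hfin _, ?_⟩
    · have e : g ≫ R.π.app j.left = (y₀ ≫ q j) ≫ (R.D.map j.hom ⁻¹ᵁ V).ι := by
        rw [Category.assoc, hc' j, reassoc_of% hy]
      rw [e]
      have : IsClosedImmersion (y₀ ≫ q j) := hj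
      infer_instance
    · rw [Category.assoc, R.w, hgdef, Scheme.Hom.toNormalization_fromNormalization]

end Groth.Agent.S4807
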