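import Groth.Statements.S4810
import Groth.Agent.H26.NormalSections


set_option autoImplicit false
universe u
open CategoryTheory AlgebraicGeometry
open Lim8

namespace Groth.Agent.S4810

/-- Let Y be an integral scheme, X an integral normal scheme (every local ring integrally closed) and f
: X ⟶ Y a dominant locally quasi-finite morphism (locally of finite type with discrete fibres). Let
Y' be the relative normalization of Y in X (here the normalization of Y in the function field of X)
and f' : X ⟶ Y' the canonical morphism, so that f is f' followed by the canonical morphism Y' ⟶ Y.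
Then f' is a local isomorphism, and f' is an open immersion if and only if f is separated. (The
published statement assumes f only locally quasi-finite; this row takes f moreover quasi-compact and
quasi-separated, the setting in which the relative normalization is built chart by chart from
integral closures.) -/
theorem result {X Y : Scheme.{u}} [IsIntegral X] [IsIntegral Y]
    (hN : ∀ x : X, IsIntegrallyClosed (X.presheaf.stalk x)) (f : X ⟶ Y) [IsDominant f]
    [LocallyQuasiFinite f] [LocallyOfFiniteType f] [QuasiCompact f] [QuasiSeparated f] :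
    IsLocalIso f.toNormalization ∧ (IsOpenImmersion f.toNormalization ↔ IsSeparated f) := by
  classical
  let fN := f.toNormalization
  have hloc : IsLocalIso fN := by
    refine ⟨fun x => ?_⟩
    obtain ⟨_, ⟨V, hV, rfl⟩, hxV, -⟩ := Y.isBasis_affineOpens.exists_subset_of_mem_open
      (Set.mem_univ (f x)) isOpen_univ
    obtain ⟨_, ⟨X₁, hX₁, rfl⟩, hxX₁, hX₁V : X₁ ≤ f ⁻¹ᵁ V⟩ :=
      X.isBasis_affineOpens.exists_subset_of_mem_open (show x ∈ f ⁻¹ᵁ V from hxV) (f ⁻¹ᵁ V).isOpen
    have : Nonempty X₁ := ⟨⟨_, hxX₁⟩⟩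
    have : Nonempty (f ⁻¹ᵁ V) := ⟨⟨_, hxV⟩⟩
    have hηX : genericPoint X ∈ X₁ :=
      Groth.Agent.H26.BirationalZMT.genericPoint_mem hxX₁
    have hηO : genericPoint X ∈ f ⁻¹ᵁ V := hX₁V hηX
    let A := Γ(Y, V)
    let φ := f.appLE V X₁ hX₁V
    let res := X.presheaf.map (homOfLE hX₁V).op
    have hφres : ∀ a, φ a = res (f.app V a) := fun a => rfl
    have hresinj : Function.Injective res := fun a b h => by
      apply germ_injective_of_isIntegral X _ hηO
      rw [← X.presheaf.germ_res_apply (homOfLE hX₁V) _ hηX a,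
        ← X.presheaf.germ_res_apply (homOfLE hX₁V) _ hηX b]
      exact congrArg _ h
    let := φ.hom.toAlgebra
    let := (f.app V).hom.toAlgebra
    let resA : Γ(X, f ⁻¹ᵁ V) →ₐ[A] Γ(X, X₁) := ⟨res.hom, fun a => rfl⟩
    -- integral elements extend
    have hext : ∀ b : Γ(X, X₁), IsIntegral A b → ∃ s : Γ(X, f ⁻¹ᵁ V), IsIntegral A s ∧ res s = b := by
      intro b hb
      have hk : ((X.presheaf.germ (f ⁻¹ᵁ V) _ hηO).hom.comp (f.app V).hom).IsIntegralElem
          (X.presheaf.germ X₁ _ hηX b) := by
        obtain ⟨p, hp, hp0⟩ := hb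
        refine ⟨p, hp, ?_⟩
        have := congrArg (X.presheaf.germ X₁ _ hηX).hom hp0
        rw [Polynomial.hom_eval₂, map_zero] at this
        refine Eq.trans ?_ this
        congr 1
        ext a
        exact (X.presheaf.germ_res_apply (homOfLE hX₁V) _ hηX (f.app V a)).symm
      obtain ⟨s, hs⟩ := Groth.Agent.H26.NormalSections.exists_section hN hηO (f.app V).hom _ hk
      have hsb : res s = b := by
        apply germ_injective_of_isIntegral X _ hηX
        exact (X.presheaf.germ_res_apply (homOfLE hX₁V) _ hηX s).trans hs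
      refine ⟨s, (isIntegral_algHom_iff resA hresinj).mp ?_, hsb⟩
      change IsIntegral A (res s)
      rw [hsb]; exact hb
    let V' := f.fromNormalization ⁻¹ᵁ V
    have hV' : IsAffineOpen V' := hV.preimage f.fromNormalization
    have hX₁V' : X₁ ≤ fN ⁻¹ᵁ V' := by
      rw [← Scheme.Hom.comp_preimage, f.toNormalization_fromNormalization]
      exact hX₁V
    let ψ := fN.appLE V' X₁ hX₁V'
    have hψ : ∀ c, ψ c = res ((f.normalizationObjIso hV).hom c).1 := fun c => by
      have h1 := ConcreteCategory.congr_hom (f.normalizationObjIso_hom_val hV) c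
      refine Eq.trans ?_ (congrArg res h1).symm
      change ψ c = (fN.appLE V' (f ⁻¹ᵁ V) _ ≫ res) c
      simp only [ψ, res, Scheme.Hom.appLE_map]
    have hψinj : Function.Injective ψ.hom := fun a b h => by
      have h' := hresinj ((hψ a).symm.trans (h.trans (hψ b)))
      exact (ConcreteCategory.bijective_of_isIso (f.normalizationObjIso hV).hom).1 (Subtype.ext h')
    have hψsurj : ∀ b, IsIntegral A b → ∃ c, ψ c = b := fun b hb => by
      obtain ⟨s, hs, hsb⟩ := hext b hb
      obtain ⟨c, hc⟩ := (ConcreteCategory.bijective_of_isIso (f.normalizationObjIso hV).hom).2 ⟨s, hs⟩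
      exact ⟨c, by rw [hψ, hc]; exact hsb⟩
    let q := hX₁.primeIdealOf ⟨x, hxX₁⟩
    have : Algebra.FiniteType A Γ(X, X₁) := f.finiteType_appLE hV hX₁ hX₁V
    have : Algebra.QuasiFiniteAt A q.asIdeal := (f.quasiFiniteAt x).quasiFiniteAt hX₁ hV hX₁V hxX₁
    obtain ⟨r, hrq, hr, hx'⟩ :=
      Algebra.zariskisMainProperty_iff.mp (Algebra.ZariskisMainProperty.of_finiteType (R := A) q.asIdeal)
    obtain ⟨t, ht⟩ := hψsurj r hr
    have hxW : x ∈ X.basicOpen (ψ t) := by
      have : q ∈ hX₁.fromSpec ⁻¹ᵁ X.basicOpen (ψ t) := by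
        rw [hX₁.fromSpec_preimage_basicOpen, ht]
        exact hrq
      change hX₁.fromSpec q ∈ X.basicOpen (ψ t) at this
      rwa [hX₁.fromSpec_primeIdealOf ⟨x, hxX₁⟩] at this
    obtain ⟨e, he⟩ := Groth.Agent.H26.BirationalZMT.isIso_resLE_basicOpen fN hV' hX₁ hX₁V' t hψinj
      (fun b => by
        obtain ⟨m, hm⟩ := hx' b
        obtain ⟨c, hc⟩ := hψsurj _ hm
        exact ⟨c, m, by rw [show (fN.appLE V' X₁ hX₁V').hom t = r from ht]; exact (mul_comm _ _).trans hc.symm⟩)
      hxW
    refine ⟨_, hxW, ?_⟩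
    rw [← Scheme.Hom.resLE_comp_ι fN e]
    infer_instance
  refine ⟨hloc, fun h => ?_, fun h => ?_⟩
  · rw [← f.toNormalization_fromNormalization]
    infer_instance
  · have htop : f.quasiFiniteLocus = ⊤ := Scheme.Hom.quasiFiniteLocus_eq_top f
    have : IsIso f.quasiFiniteLocus.ι := by
      have : Epi f.quasiFiniteLocus.ι.base := (TopCat.epi_iff_surjective _).mpr fun z =>
        ⟨⟨z, htop ▸ trivial⟩, rfl⟩
      exact IsOpenImmersion.isIso _
    have h2 : IsOpenImmersion (inv f.quasiFiniteLocus.ι ≫ f.quasiFiniteLocus.ι ≫ f.toNormalization) :=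
      inferInstance
    rwa [IsIso.inv_hom_id_assoc] at h2

end Groth.Agent.S4810
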