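import Groth.Statements.S4815
import Groth.Agent.H69.StageLocal
import Groth.Agent.Lib.Lim.Props
import Groth.Agent.Lib.Lim.OpenImm
import Groth.Agent.Lib.Lim.SmoothEtale
import Groth.Agent.Lib.Lim.FPDescend
-- import your own Groth.Agent.* helpers here

set_option autoImplicit false
universe u
open CategoryTheory AlgebraicGeometry
open Lim8

namespace Groth.Agent.S4815
open CategoryTheory CategoryTheory.Limits
set_option backward.isDefEq.respectTransparency false

/-- Let S = lim S_i be a cofiltered limit of schemes with affine transition maps and S_{i₀} a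
quasi-compact quasi-separated stage. Then every subscheme of finite presentation of S, that is every
immersion ι : Z ⟶ S which is locally of finite presentation and quasi-compact, is the base change
along S ⟶ S_j of an immersion of finite presentation Z_j ⟶ S_j, for some index j over i₀ (the base
change is expressed by a pullback square). -/
theorem result {I : Type u} [SmallCategory I] [IsCofiltered I]
    (D : I ⥤ Scheme.{u}) (c : Limits.Cone D) (hc : Limits.IsLimit c)
    [∀ (i j : I) (f : i ⟶ j), IsAffineHom (D.map f)] (i₀ : I)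
    [CompactSpace (D.obj i₀)] [QuasiSeparatedSpace (D.obj i₀)]
    {Z : Scheme.{u}} (ι : Z ⟶ c.pt) [IsImmersion ι] [LocallyOfFinitePresentation ι] [QuasiCompact ι] :
    ∃ (j : I) (_ : j ⟶ i₀) (Zj : Scheme.{u}) (ιj : Zj ⟶ D.obj j) (q : Z ⟶ Zj),
      IsImmersion ιj ∧ LocallyOfFinitePresentation ιj ∧ QuasiCompact ιj ∧ IsPullback q ι ιj (c.π.app j) := by
  haveI : ∀ {a b : I} (g : a ⟶ b), IsAffineHom (D.map g) := fun g => inferInstance
  haveI : CompactSpace c.pt := Groth.Agent.Lib.Lim.Basic.compactSpace_pt hc i₀
  haveI : QuasiSeparatedSpace c.pt := Groth.Agent.Lib.Lim.Basic.quasiSeparatedSpace_pt hc i₀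
  haveI : CompactSpace Z := QuasiCompact.compactSpace_of_compactSpace ι
  haveI : QuasiSeparatedSpace Z := quasiSeparatedSpace_of_quasiSeparated ι
  let D' := Over.forget i₀ ⋙ D
  let c' : Cone D' := c.whisker (Over.forget i₀)
  have hc' : IsLimit c' := (Functor.Initial.isLimitWhiskerEquiv (Over.forget i₀) c).symm hc
  haveI : ∀ {a b : Over i₀} (g : a ⟶ b), IsAffineHom (D'.map g) := fun g => inferInstanceAs (IsAffineHom (D.map g.left))
  haveI : ∀ a : Over i₀, CompactSpace (D'.obj a) := fun a =>
    show CompactSpace (D.obj a.left) from QuasiCompact.compactSpace_of_compactSpace (D.map a.hom)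
  haveI : ∀ a : Over i₀, QuasiSeparatedSpace (D'.obj a) := fun a =>
    show QuasiSeparatedSpace (D.obj a.left) from quasiSeparatedSpace_of_quasiSeparated (D.map a.hom)
  obtain ⟨⟨i, ⟨⟨⟩⟩, β'⟩, Zi, fi, q, hcZ, hqZ, hfp, hsq⟩ :=
    Groth.Agent.Lib.Lim.FPDescend.exists_descent (D := D') hc' ι
  let k := i
  let α : i ⟶ i := 𝟙 i
  let β : i ⟶ i₀ := β'
  haveI : CompactSpace (D.obj k) := QuasiCompact.compactSpace_of_compactSpace (D.map β)
  haveI : QuasiSeparatedSpace (D.obj k) := quasiSeparatedSpace_of_quasiSeparated (D.map β)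
  let fk : Zi ⟶ D.obj k := fi
  have hk : IsPullback q ι fk (c.π.app k) := hsq
  obtain ⟨l, φ, hl⟩ := Groth.Agent.Lib.Lim.OpenImm.isImmersion_descends D c hc (fun _ _ f => inferInstance)
    k inferInstance inferInstance fk hcZ hqZ (show LocallyOfFiniteType fk from haveI : LocallyOfFinitePresentation fk := hfp; inferInstance) ι _ hk inferInstance
  refine ⟨l, φ ≫ β, _, pullback.snd fk (D.map φ), _, hl, MorphismProperty.pullback_snd _ _ (show LocallyOfFinitePresentation fk from hfp),
    ?_, Groth.Agent.Lib.Lim.FPDescend.move hk φ⟩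
  haveI : CompactSpace Zi := hcZ
  haveI : QuasiCompact fk := inferInstance
  infer_instance


end Groth.Agent.S4815
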