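import Groth.Statements.S4816
import Groth.Agent.H69.StageLocal
import Groth.Agent.Lib.Lim.Props
import Groth.Agent.Lib.Lim.OpenImm
import Groth.Agent.Lib.Lim.SmoothEtale
import Groth.Agent.Lib.Lim.FPDescend
-- import your own Groth.Agent.* helpers here

set_option autoImplicit false
universe u
open CategoryTheory AlgebraicGeometry
open Lim8

namespace Groth.Agent.S4816
open CategoryTheory CategoryTheory.Limits
set_option backward.isDefEq.respectTransparency false

open CategoryTheory.Limits in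
/-- Let S = lim S_i be a cofiltered limit of schemes with affine transition maps and S_{i₀} a
quasi-compact stage; let ι₁ : Z₁ ⟶ S_{i₀} and ι₂ : Z₂ ⟶ S_{i₀} be two subschemes of finite
presentation of S_{i₀} (immersions which are locally of finite presentation and quasi-compact), with
base changes Z₁ ×_{S_{i₀}} T ⟶ T to T = S and to T = S_j. Then Z₁ ×_{S_{i₀}} S is a subscheme of Z₂
×_{S_{i₀}} S (its immersion into S factors through that of Z₂ ×_{S_{i₀}} S) if and only if, for some
index j over i₀, Z₁ ×_{S_{i₀}} S_j is a subscheme of Z₂ ×_{S_{i₀}} S_j. -/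
theorem result {I : Type u} [SmallCategory I] [IsCofiltered I]
    (D : I ⥤ Scheme.{u}) (c : Limits.Cone D) (hc : Limits.IsLimit c)
    [∀ (i j : I) (f : i ⟶ j), IsAffineHom (D.map f)] (i₀ : I) [CompactSpace (D.obj i₀)]
    {Z₁ Z₂ : Scheme.{u}} (ι₁ : Z₁ ⟶ D.obj i₀) (ι₂ : Z₂ ⟶ D.obj i₀)
    [IsImmersion ι₁] [LocallyOfFinitePresentation ι₁] [QuasiCompact ι₁]
    [IsImmersion ι₂] [LocallyOfFinitePresentation ι₂] [QuasiCompact ι₂] :
    (∃ k : pullback ι₁ (c.π.app i₀) ⟶ pullback ι₂ (c.π.app i₀),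
        k ≫ pullback.snd ι₂ (c.π.app i₀) = pullback.snd ι₁ (c.π.app i₀)) ↔
      ∃ (j : I) (φ : j ⟶ i₀) (k : pullback ι₁ (D.map φ) ⟶ pullback ι₂ (D.map φ)),
        k ≫ pullback.snd ι₂ (D.map φ) = pullback.snd ι₁ (D.map φ) := by
  have key : ∀ {T : Scheme.{u}} (b : T ⟶ D.obj i₀),
      (∃ k : pullback ι₁ b ⟶ pullback ι₂ b, k ≫ pullback.snd ι₂ b = pullback.snd ι₁ b) ↔
        IsIso (pullback.snd (pullback.fst ι₁ ι₂) (pullback.fst ι₁ b)) := by
    intro T b
    constructor
    · rintro ⟨k, hk⟩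
      have hw : pullback.fst ι₁ b ≫ ι₁ = (k ≫ pullback.fst ι₂ b) ≫ ι₂ := by
        rw [Category.assoc, pullback.condition (f := ι₂), ← Category.assoc, hk, pullback.condition]
      haveI : IsSplitEpi (pullback.snd (pullback.fst ι₁ ι₂) (pullback.fst ι₁ b)) :=
        IsSplitEpi.mk' ⟨pullback.lift (pullback.lift (pullback.fst ι₁ b) _ hw) (𝟙 _)
          (by rw [pullback.lift_fst, Category.id_comp]), pullback.lift_snd _ _ _⟩
      exact isIso_of_mono_of_isSplitEpi _
    · intro h
      refine ⟨pullback.lift (inv (pullback.snd (pullback.fst ι₁ ι₂) (pullback.fst ι₁ b)) ≫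
        pullback.fst _ _ ≫ pullback.snd ι₁ ι₂) (pullback.snd ι₁ b) ?_, pullback.lift_snd _ _ _⟩
      simp only [Category.assoc, ← pullback.condition (f := ι₁) (g := ι₂)]
      rw [← Category.assoc (pullback.fst (pullback.fst ι₁ ι₂) _), pullback.condition, Category.assoc,
        IsIso.inv_hom_id_assoc, pullback.condition]
  refine ⟨fun h => ?_, fun ⟨j, φ, hk⟩ => ?_⟩
  · haveI : CompactSpace Z₁ := QuasiCompact.compactSpace_of_compactSpace ι₁
    obtain ⟨i, φ, hi⟩ := Groth.Agent.H69.StageLocal.exists_stage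
      Groth.Agent.Lib.Lim.SmoothEtale.isIso_descends D c hc i₀ (pullback.fst ι₁ ι₂) ι₁
      (pullback.snd (pullback.fst ι₁ ι₂) (pullback.fst ι₁ (c.π.app i₀))) (pullback.snd ι₁ (c.π.app i₀))
      (pullback.fst _ _) (pullback.fst _ _) (IsPullback.of_hasPullback _ _)
      (IsPullback.of_hasPullback _ _) inferInstance ((key _).1 h)
    exact ⟨i, φ, (key _).2 hi⟩
  · obtain ⟨k, hk⟩ := hk
    refine (key _).2 ?_
    have hi : IsIso (pullback.snd (pullback.fst ι₁ ι₂) (pullback.fst ι₁ (D.map φ))) := (key _).1 ⟨k, hk⟩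
    exact Groth.Agent.Lib.Lim.Descend.prop_of_factor (P := MorphismProperty.isomorphisms Scheme) hi
      (pullback.lift (pullback.fst _ _) (pullback.snd ι₁ (c.π.app i₀) ≫ c.π.app j)
        (by rw [Category.assoc, c.w, pullback.condition])) (pullback.lift_fst _ _ _)
      (IsPullback.of_hasPullback _ _)


end Groth.Agent.S4816
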