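import Groth.Statements.S4817
import Groth.Agent.H69.StageLocal
import Groth.Agent.Lib.Lim.Props
import Groth.Agent.Lib.Lim.OpenImm
import Groth.Agent.Lib.Lim.SmoothEtale
import Groth.Agent.Lib.Lim.FPDescend
-- import your own Groth.Agent.* helpers here

set_option autoImplicit false
universe u
open CategoryTheory AlgebraicGeometry
open Lim8

namespace Groth.Agent.S4817
open CategoryTheory CategoryTheory.Limits
set_option backward.isDefEq.respectTransparency false

open CategoryTheory.Limits in
/-- Let S = lim S_i be a cofiltered limit of schemes with affine transition maps and S_{i₀} a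
quasi-compact stage; let ι₀ : Z₀ ⟶ S_{i₀} be a subscheme of finite presentation (an immersion which
is locally of finite presentation and quasi-compact). Then the base change Z₀ ×_{S_{i₀}} S ⟶ S of ι₀
is an open immersion if and only if, for some index j over i₀, the base change Z₀ ×_{S_{i₀}} S_j ⟶
S_j is an open immersion. This is the case of open subschemes. -/
theorem result {I : Type u} [SmallCategory I] [IsCofiltered I]
    (D : I ⥤ Scheme.{u}) (c : Limits.Cone D) (hc : Limits.IsLimit c)
    [∀ (i j : I) (f : i ⟶ j), IsAffineHom (D.map f)] (i₀ : I) [CompactSpace (D.obj i₀)]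
    {Z₀ : Scheme.{u}} (ι₀ : Z₀ ⟶ D.obj i₀) [IsImmersion ι₀] [LocallyOfFinitePresentation ι₀] [QuasiCompact ι₀] :
    IsOpenImmersion (pullback.snd ι₀ (c.π.app i₀)) ↔
      ∃ (j : I) (φ : j ⟶ i₀), IsOpenImmersion (pullback.snd ι₀ (D.map φ)) := by
  refine ⟨fun h => ?_, fun ⟨j, φ, hj⟩ => ?_⟩
  · obtain ⟨i, φ, hi⟩ := Groth.Agent.H69.StageLocal.exists_stage
      Groth.Agent.Lib.Lim.OpenImm.isOpenImmersion_descends D c hc i₀ ι₀ (𝟙 _) (pullback.snd ι₀ (c.π.app i₀))
      (𝟙 c.pt) (c.π.app i₀) (pullback.fst _ _) (IsPullback.id_vert _)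
      (IsPullback.of_hasPullback _ _) inferInstance h
    refine ⟨i, φ, ?_⟩
    refine Groth.Agent.Lib.Lim.Descend.prop_of_factor (P := @IsOpenImmersion) hi
      (pullback.lift (D.map φ) (𝟙 _) (by simp)) (pullback.lift_fst _ _ _) (IsPullback.of_hasPullback _ _)
  · exact Groth.Agent.Lib.Lim.Descend.prop_of_factor (P := @IsOpenImmersion) hj (c.π.app j) (c.w φ)
      (IsPullback.of_hasPullback _ _)


end Groth.Agent.S4817
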