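import Groth.Statements.S4821
import Mathlib.RingTheory.MvPolynomial.Localization
import Mathlib.RingTheory.Localization.Ideal

set_option autoImplicit false
universe u
open Cons9

namespace Groth.Agent.S4821

/-- Let A be an integral domain with fraction field K, and (P_i) a finite family of polynomials in
A[T_1, …, T_m], generating an ideal 𝔞; for a point s of Spec A write 𝔞_s for the ideal of κ(s)[T_1,
…, T_m] generated by the images of the P_i. If the zero locus of 𝔞_η in affine m-space over K = κ(η)
is empty, that is if 𝔞_η is the unit ideal, then there is an open neighbourhood D(f) (f ≠ 0) of the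
generic point such that 𝔞_s is the unit ideal (its zero locus is empty) for every s in D(f). -/
theorem result {A : Type u} [CommRing A] [IsDomain A] {m : ℕ}
    (P : Finset (MvPolynomial (Fin m) A))
    (hη : Ideal.span ((MvPolynomial.map (algebraMap A (FractionRing A))) '' (P : Set (MvPolynomial (Fin m) A))) = ⊤) :
    ∃ f : A, f ≠ 0 ∧ ∀ p : PrimeSpectrum A, f ∉ p.asIdeal →
      Ideal.span ((MvPolynomial.map (algebraMap A p.asIdeal.ResidueField)) '' (P : Set (MvPolynomial (Fin m) A))) = ⊤ := by
  classical
  haveI : IsDomain (MvPolynomial (Fin m) A) := inferInstance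
  let g := MvPolynomial.map (σ := Fin m) (algebraMap A (FractionRing A))
  let : Algebra (MvPolynomial (Fin m) A) (MvPolynomial (Fin m) (FractionRing A)) := g.toAlgebra
  have hloc : IsLocalization ((nonZeroDivisors A).map (MvPolynomial.C (σ := Fin m)))
      (MvPolynomial (Fin m) (FractionRing A)) := MvPolynomial.isLocalization _ _
  have htop : (Ideal.span (P : Set (MvPolynomial (Fin m) A))).map
      (algebraMap (MvPolynomial (Fin m) A) (MvPolynomial (Fin m) (FractionRing A))) = ⊤ := by
    rw [Ideal.map_span]; exact hη
  obtain ⟨c, hc, hcP⟩ := Set.not_disjoint_iff.1 (fun hd ↦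
    ((IsLocalization.map_algebraMap_ne_top_iff_disjoint
      ((nonZeroDivisors A).map (MvPolynomial.C (σ := Fin m))) _ _).2 hd) htop)
  obtain ⟨f, hf, rfl⟩ := hc
  refine ⟨f, nonZeroDivisors.ne_zero hf, fun p hp ↦ ?_⟩
  rw [← Ideal.map_span]
  refine Ideal.eq_top_of_isUnit_mem _ (Ideal.mem_map_of_mem _ hcP) ?_
  rw [MvPolynomial.map_C]
  exact (Ne.isUnit fun e ↦ hp (Ideal.algebraMap_residueField_eq_zero.1 e)).map MvPolynomial.C

end Groth.Agent.S4821
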