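import Groth.Statements.S4822
import Groth.Agent.H58AL.Fibrewise
import Groth.Agent.Lib.AlgSpMor.Cancel
-- import your own Groth.Agent.* helpers here

set_option autoImplicit false
open CategoryTheory AlgebraicGeometry
universe u
open Cons9

namespace Groth.Agent.S4822

open CategoryTheory.Limits in
set_option backward.isDefEq.respectTransparency.types false in
/-- Let g : Y ⟶ S and f : X ⟶ Y be morphisms such that X and Y are of finite presentation over S
(locally of finite presentation, quasi-compact and quasi-separated) and f is proper, and let L be an
invertible O_X-module. For each point s of S let f_s : X_s ⟶ Y_s be the morphism induced on the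
fibres over s and L_s the pullback of L to X_s. Then the set of s for which L_s is ample relative to
f_s is locally constructible in S. This is the case of relative ampleness (the very ample case is
not stated here). -/
theorem result {X Y S : Scheme.{u}} (f : X ⟶ Y) (g : Y ⟶ S)
    [LocallyOfFinitePresentation g] [QuasiCompact g] [QuasiSeparated g]
    [LocallyOfFinitePresentation (f ≫ g)] [QuasiCompact (f ≫ g)] [QuasiSeparated (f ≫ g)] [IsProper f]
    (L : X.Modules) (hL : PicF.IsInvertible L) :
    Topology.IsLocallyConstructible {s : S |
      RelAmple.IsRelAmple
        (pullback.lift (pullback.fst (f ≫ g) (S.fromSpecResidueField s) ≫ f) (pullback.snd (f ≫ g) (S.fromSpecResidueField s))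
          ((Category.assoc _ _ _).trans pullback.condition) :
          pullback (f ≫ g) (S.fromSpecResidueField s) ⟶ pullback g (S.fromSpecResidueField s))
        ((Scheme.Modules.pullback (pullback.fst (f ≫ g) (S.fromSpecResidueField s))).obj L)} := by
  have : QuasiSeparated f := QuasiSeparated.of_comp f g
  have : LocallyOfFiniteType g := inferInstance
  have : LocallyOfFinitePresentation f := Groth.Agent.Lib.AlgSpMor.Cancel.locallyOfFinitePresentation_of_comp (g := g) inferInstance inferInstance
  obtain ⟨hU, -⟩ := Groth.Agent.H58AL.Fibrewise.global f hL
  have key : ∀ s : S, RelAmple.IsRelAmple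
      (pullback.lift (pullback.fst (f ≫ g) (S.fromSpecResidueField s) ≫ f) (pullback.snd (f ≫ g) (S.fromSpecResidueField s))
          ((Category.assoc _ _ _).trans pullback.condition) :
          pullback (f ≫ g) (S.fromSpecResidueField s) ⟶ pullback g (S.fromSpecResidueField s))
        ((Scheme.Modules.pullback (pullback.fst (f ≫ g) (S.fromSpecResidueField s))).obj L) ↔
      s ∉ g '' {y | Groth.Agent.H58AL.Fibrewise.FibAmple f L y}ᶜ := by
    intro s
    rw [Groth.Agent.H58AL.Loci.ampleAt_iff]
    let a := S.fromSpecResidueField s
    have : IsProper (pullback.snd f (pullback.fst g a)) := MorphismProperty.pullback_snd _ _ inferInstance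
    have : LocallyOfFinitePresentation (pullback.snd f (pullback.fst g a)) :=
      MorphismProperty.pullback_snd _ _ inferInstance
    refine (Groth.Agent.H58AL.Fibrewise.global (pullback.snd f (pullback.fst g a))
      (PicLoc.isInvertible_pullback _ hL)).2.trans ?_
    constructor
    · rintro h ⟨y, hy, rfl⟩
      obtain ⟨z, hz⟩ : y ∈ Set.range (pullback.fst g a) := by
        rw [Scheme.Pullback.range_fst, Scheme.range_fromSpecResidueField]
        rfl
      exact hy (hz ▸ (Groth.Agent.H58AL.Fibrewise.fibAmple_iff
        (IsPullback.of_hasPullback f (pullback.fst g a)) hL z).1 (h z))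
    · intro h z
      refine (Groth.Agent.H58AL.Fibrewise.fibAmple_iff
        (IsPullback.of_hasPullback f (pullback.fst g a)) hL z).2 ?_
      by_contra hz
      refine h ⟨_, hz, ?_⟩
      rw [← Scheme.Hom.comp_apply, pullback.condition, Scheme.Hom.comp_apply]
      exact Scheme.fromSpecResidueField_apply _ _
  simp only [key]
  exact Groth.Agent.H58AL.Fibrewise.isLocallyConstructible_compl
    (g.isLocallyConstructible_image (Groth.Agent.H58AL.Fibrewise.isLocallyConstructible_compl hU))

end Groth.Agent.S4822
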