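import Groth.Statements.S4824
import Groth.Agent.H56.PolyIrred
import Mathlib.AlgebraicGeometry.Geometrically.Integral
import Mathlib.AlgebraicGeometry.Pullbacks
import Mathlib.RingTheory.Polynomial.UniqueFactorization

set_option autoImplicit false
open CategoryTheory AlgebraicGeometry
universe u
open Cons9

namespace Groth.Agent.S4824

open CategoryTheory AlgebraicGeometry Limits MvPolynomial TensorProduct

/-- Base change of a hypersurface ring. -/
noncomputable def equiv {k : Type u} [Field k] {n : ℕ} (F : MvPolynomial (Fin n) k) (K : Type u)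
    [Field K] [Algebra k K] :
    K ⊗[k] (MvPolynomial (Fin n) k ⧸ Ideal.span ({F} : Set (MvPolynomial (Fin n) k))) ≃ₐ[K]
      MvPolynomial (Fin n) K ⧸ Ideal.span ({F.map (algebraMap k K)} : Set (MvPolynomial (Fin n) K)) :=
  let I := Ideal.span ({F} : Set (MvPolynomial (Fin n) k))
  let J := Ideal.span ({F.map (algebraMap k K)} : Set (MvPolynomial (Fin n) K))
  let q : MvPolynomial (Fin n) k →ₐ[k] MvPolynomial (Fin n) K ⧸ J :=
    aeval fun i => Ideal.Quotient.mk J (X i)
  have hq : ∀ p, q p = Ideal.Quotient.mk J (p.map (algebraMap k K)) := fun p => by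
    induction p using MvPolynomial.induction_on with
    | C a => simp only [q, aeval_C, map_C]; rfl
    | add p q hp hq => simp only [map_add, hp, hq]
    | mul_X p i hp => simp only [map_mul, hp, map_X, q, aeval_X]
  let fwd : K ⊗[k] (MvPolynomial (Fin n) k ⧸ I) →ₐ[K] MvPolynomial (Fin n) K ⧸ J :=
    Algebra.TensorProduct.lift (Algebra.ofId K _) (Ideal.Quotient.liftₐ I q fun z hz => by
      obtain ⟨w, rfl⟩ := Ideal.mem_span_singleton.1 hz
      rw [hq, map_mul]
      exact Ideal.Quotient.eq_zero_iff_mem.2 (Ideal.mem_span_singleton.2 ⟨_, rfl⟩))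
      fun _ _ => .all _ _
  let r : MvPolynomial (Fin n) K →ₐ[K] K ⊗[k] (MvPolynomial (Fin n) k ⧸ I) :=
    aeval (R := K) fun i : Fin n => (1 : K) ⊗ₜ[k] Ideal.Quotient.mk I (X i : MvPolynomial (Fin n) k)
  have hr : ∀ p, r (p.map (algebraMap k K)) = (1 : K) ⊗ₜ Ideal.Quotient.mk I p := fun p => by
    simp only [r]
    rw [aeval_map_algebraMap]
    exact DFunLike.congr_fun (algHom_ext (A := K ⊗[k] (MvPolynomial (Fin n) k ⧸ I))
      (f := aeval fun i => (1 : K) ⊗ₜ Ideal.Quotient.mk I (X i))
      (g := Algebra.TensorProduct.includeRight.comp (Ideal.Quotient.mkₐ k I)) fun i => by simp) p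
  let bwd : MvPolynomial (Fin n) K ⧸ J →ₐ[K] K ⊗[k] (MvPolynomial (Fin n) k ⧸ I) :=
    Ideal.Quotient.liftₐ J r fun z hz => by
      obtain ⟨w, rfl⟩ := Ideal.mem_span_singleton.1 hz
      rw [map_mul, hr, Ideal.Quotient.eq_zero_iff_mem.2 (Ideal.mem_span_singleton_self F),
        tmul_zero]
      exact MulZeroClass.zero_mul (r w)
  AlgEquiv.ofAlgHom fwd bwd
    (Ideal.Quotient.algHom_ext _ (algHom_ext fun i => by
      show fwd (r (X i)) = Ideal.Quotient.mk J (X i)
      simp only [r, aeval_X, fwd, Algebra.TensorProduct.lift_tmul, map_one, one_mul]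
      exact aeval_X _ _))
    (Algebra.TensorProduct.ext (Subsingleton.elim _ _) (Ideal.Quotient.algHom_ext _
      (algHom_ext fun i => by
        show bwd (fwd ((1 : K) ⊗ₜ[k] Ideal.Quotient.mk I (X i))) = (1 : K) ⊗ₜ[k] Ideal.Quotient.mk I (X i)
        simp only [fwd, Algebra.TensorProduct.lift_tmul, map_one, one_mul]
        show bwd (q (X i)) = _
        simp only [q, aeval_X]
        exact aeval_X _ _)))

theorem geometricallyIntegral_hypersurface_iff {k : Type u} [Field k] {n : ℕ} (F : MvPolynomial (Fin n) k)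
    (hF : F ≠ 0) :
    GeometricallyIntegral (Spec.map (CommRingCat.ofHom
        (algebraMap k (MvPolynomial (Fin n) k ⧸ Ideal.span ({F} : Set (MvPolynomial (Fin n) k)))))) ↔
      ∀ (K : Type u) [Field K] [Algebra k K], Irreducible (F.map (algebraMap k K)) := by
  have : ObjectProperty.IsClosedUnderIsomorphisms (C := Scheme.{u}) IsIntegral :=
    ⟨fun e h => @IsIntegral.of_isIso _ _ h e.hom _⟩
  rw [AlgebraicGeometry.geometricallyIntegral_iff, geometrically_iff_of_commRing_of_isClosedUnderIsomorphisms]
  refine forall_congr' fun K => forall_congr' fun _ => forall_congr' fun _ => ?_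
  let R := MvPolynomial (Fin n) k ⧸ Ideal.span ({F} : Set (MvPolynomial (Fin n) k))
  let G := F.map (algebraMap k K)
  have hG : G ≠ 0 := fun h => hF (map_injective _ (algebraMap k K).injective (h.trans (map_zero _).symm))
  let e : pullback (Spec.map (CommRingCat.ofHom (algebraMap k R)))
      (Spec.map (CommRingCat.ofHom (algebraMap k K))) ≅
      Spec (CommRingCat.of (MvPolynomial (Fin n) K ⧸ Ideal.span ({G} : Set (MvPolynomial (Fin n) K)))) :=
    pullbackSymmetry _ _ ≪≫ pullbackSpecIso k K R ≪≫
      Scheme.Spec.mapIso (equiv F K).toRingEquiv.toCommRingCatIso.op.symm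
  have h1 : IsIntegral (pullback (Spec.map (CommRingCat.ofHom (algebraMap k R)))
      (Spec.map (CommRingCat.ofHom (algebraMap k K)))) ↔
      IsDomain (MvPolynomial (Fin n) K ⧸ Ideal.span ({G} : Set (MvPolynomial (Fin n) K))) :=
    ⟨fun h => (affine_isIntegral_iff _).1 (@IsIntegral.of_isIso _ _ h e.hom _),
      fun h => @IsIntegral.of_isIso _ _ ((affine_isIntegral_iff _).2 h) e.inv _⟩
  rw [h1, Ideal.Quotient.isDomain_iff_prime, Ideal.span_singleton_prime hG,
    UniqueFactorizationMonoid.irreducible_iff_prime]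

/-- Let k be a field, Ω an algebraically closed extension of k and F a non-constant polynomial in k[T_1,
…, T_n]. The following are equivalent: (a) the k-scheme Spec(k[T_1, …, T_n]/(F)) is geometrically
integral; (b) for every extension field K of k the image of F in K[T_1, …, T_n] is irreducible; (c)
the image of F in Ω[T_1, …, T_n] is irreducible. (Such an F is called geometrically irreducible.) -/
theorem result {k : Type u} [Field k] (Ω : Type u) [Field Ω] [Algebra k Ω]
    [IsAlgClosed Ω] {n : ℕ} (F : MvPolynomial (Fin n) k) (hF : 0 < F.totalDegree) :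
    List.TFAE [
      GeometricallyIntegral (Spec.map (CommRingCat.ofHom
        (algebraMap k (MvPolynomial (Fin n) k ⧸ Ideal.span ({F} : Set (MvPolynomial (Fin n) k)))))),
      ∀ (K : Type u) [Field K] [Algebra k K], Irreducible (MvPolynomial.map (algebraMap k K) F),
      Irreducible (MvPolynomial.map (algebraMap k Ω) F)] := by
  have hF0 : F ≠ 0 := fun h => by simp [h] at hF
  tfae_have 1 → 2 := (geometricallyIntegral_hypersurface_iff F hF0).1
  tfae_have 2 → 3 := fun h => h Ω
  tfae_have 3 → 1 := fun h => (geometricallyIntegral_hypersurface_iff F hF0).2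
    fun K _ _ => Groth.Agent.H56.PolyIrred.irreducible_map Ω hF h K
  tfae_finish

end Groth.Agent.S4824
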