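import Groth.Statements.S4825
import Groth.Agent.S0385
import Mathlib.AlgebraicGeometry.ValuativeCriterion
import Mathlib.AlgebraicGeometry.Morphisms.QuasiFinite

set_option autoImplicit false
open CategoryTheory AlgebraicGeometry
universe u
open Lim8

namespace Groth.Agent.S4825

open CategoryTheory.Limits in
/-- Let Y be a Noetherian scheme and f : X ⟶ Y a morphism of finite type. Then f admits a factorization
into an immersion followed by a finite morphism if and only if, for every point y of Y, the base
change X ×_Y Spec O_{Y,y} ⟶ Spec O_{Y,y} of f to the local scheme of Y at y admits such a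
factorization. (Pointwise criterion for pseudo-finite morphisms.) -/
theorem result {X Y : Scheme.{u}} (f : X ⟶ Y) [IsNoetherian Y]
    [LocallyOfFiniteType f] [QuasiCompact f] :
    (∃ (Y' : Scheme.{u}) (f' : X ⟶ Y') (u : Y' ⟶ Y), IsImmersion f' ∧ IsFinite u ∧ f' ≫ u = f) ↔
      ∀ y : Y, ∃ (Z : Scheme.{u}) (g : pullback f (Y.fromSpecStalk y) ⟶ Z) (u : Z ⟶ Spec (Y.presheaf.stalk y)),
        IsImmersion g ∧ IsFinite u ∧ g ≫ u = pullback.snd f (Y.fromSpecStalk y) := by
  constructor
  · rintro ⟨Y', f', u, hf', hu, rfl⟩ y
    let g : pullback (f' ≫ u) (Y.fromSpecStalk y) ⟶ pullback u (Y.fromSpecStalk y) :=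
      pullback.lift (pullback.fst _ _ ≫ f') (pullback.snd _ _) (by rw [Category.assoc, pullback.condition])
    have hpb : IsPullback (pullback.fst (f' ≫ u) (Y.fromSpecStalk y)) g f'
        (pullback.fst u (Y.fromSpecStalk y)) := by
      refine IsPullback.of_bot ?_ (pullback.lift_fst _ _ _).symm (IsPullback.of_hasPullback u _)
      rw [pullback.lift_snd]
      exact IsPullback.of_hasPullback _ _
    exact ⟨_, g, pullback.snd u _, MorphismProperty.of_isPullback hpb hf',
      inferInstance, pullback.lift_snd _ _ _⟩
  intro h
  -- the morphisms to the local schemes are separated and quasi-finite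
  have hloc : ∀ y : Y, IsSeparated (pullback.snd f (Y.fromSpecStalk y)) ∧
      LocallyQuasiFinite (pullback.snd f (Y.fromSpecStalk y)) := fun y => by
    obtain ⟨Z, g, u, hg, hu, e⟩ := h y
    rw [← e]
    exact ⟨inferInstance, inferInstance⟩
  have : IsLocallyNoetherian X := LocallyOfFiniteType.isLocallyNoetherian f
  have : QuasiSeparated f := inferInstance
  have : IsSeparated f := by
    refine IsSeparated.of_valuativeCriterion f fun S => ⟨fun l₁ l₂ => ?_⟩
    let y := S.i₂ (IsLocalRing.closedPoint S.R)
    let t : Spec (CommRingCat.of S.R) ⟶ Spec (Y.presheaf.stalk y) :=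
      Spec.map (Scheme.stalkClosedPointTo S.i₂)
    have ht : t ≫ Y.fromSpecStalk y = S.i₂ := Scheme.Spec_stalkClosedPointTo_fromSpecStalk S.i₂
    have := (hloc y).1
    let S' : ValuativeCommSq (pullback.snd f (Y.fromSpecStalk y)) :=
      { R := S.R
        K := S.K
        i₁ := pullback.lift S.i₁ (Spec.map (CommRingCat.ofHom (algebraMap S.R S.K)) ≫ t)
          (by rw [Category.assoc, ht, S.commSq.w])
        i₂ := t
        commSq := ⟨pullback.lift_snd _ _ _⟩ }
    let m : ∀ l : S.commSq.LiftStruct, S'.commSq.LiftStruct := fun l =>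
      { l := pullback.lift l.l t (by rw [l.fac_right, ht])
        fac_left := pullback.hom_ext (by
            rw [Category.assoc, pullback.lift_fst, pullback.lift_fst, l.fac_left]) (by
            rw [Category.assoc, pullback.lift_snd, pullback.lift_snd])
        fac_right := pullback.lift_snd _ _ _ }
    have e := congrArg (fun l => l.l ≫ pullback.fst f (Y.fromSpecStalk y))
      ((IsSeparated.valuativeCriterion (pullback.snd f (Y.fromSpecStalk y)) S').allEq (m l₁) (m l₂))
    simp only [m, pullback.lift_fst] at e
    exact CommSq.LiftStruct.ext e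
  have : LocallyQuasiFinite f := by
    refine LocallyQuasiFinite.of_finite_preimage_singleton f fun y => ?_
    have := (hloc y).2
    refine Set.Finite.subset (((pullback.snd f (Y.fromSpecStalk y)).finite_preimage_singleton
      (IsLocalRing.closedPoint (Y.presheaf.stalk y))).image (pullback.fst f (Y.fromSpecStalk y))) ?_
    intro x hx
    obtain ⟨z, hz, hz'⟩ := Scheme.Pullback.exists_preimage_pullback (f := f) (g := Y.fromSpecStalk y) x
      (IsLocalRing.closedPoint (Y.presheaf.stalk y))
      (hx.trans (Y.fromSpecStalk_closedPoint).symm)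
    exact ⟨z, hz', hz⟩
  obtain ⟨T, j, π, hj, -, hπ, e⟩ := Groth.Agent.S0385.result f
  exact ⟨T, j, π, inferInstance, hπ, e⟩

end Groth.Agent.S4825
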