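import Groth.Statements.S4826
import Groth.Agent.H46.GeomUniLC

set_option autoImplicit false
open CategoryTheory AlgebraicGeometry
universe u
open Cons9

namespace Groth.Agent.S4826

/-- Let X be a locally Noetherian scheme whose reduction has a normalization finite over X: for every
affine open U of X, the integral closure of Γ(U)_red in its total ring of fractions is a finite
module over Γ(U)_red. Then the set of points x of X at which X is geometrically unibranch (the local
ring O_{X,x} is geometrically unibranch) is locally constructible in X. -/
theorem result (X : Scheme.{u}) [IsLocallyNoetherian X]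
    (hfin : ∀ U : X.affineOpens, Module.Finite (CAlg2.red Γ(X, U.1)) (CAlg2.normRed Γ(X, U.1))) :
    Topology.IsLocallyConstructible {x : X | CAlg2.IsGeomUnibranch (X.presheaf.stalk x)} := by
  refine Topology.IsLocallyConstructible.of_isOpenCover
    (U := fun U : X.affineOpens => U.1) (.mk (iSup_affineOpens_eq_top X)) fun U => ?_
  have : IsNoetherianRing Γ(X, U.1) := IsLocallyNoetherian.component_noetherian U
  have := hfin U
  have h := (H46.GeomUniLC.main Γ(X, U.1)).preimage_of_isOpenEmbedding
    (f := fun x : U.1 => U.2.primeIdealOf x) U.2.isoSpec.hom.isOpenEmbedding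
  suffices key : (fun x : U.1 => U.2.primeIdealOf x) ⁻¹'
      {p : PrimeSpectrum Γ(X, U.1) | CAlg2.IsGeomUnibranch (Localization.AtPrime p.asIdeal)} =
      Subtype.val ⁻¹' {x : X | CAlg2.IsGeomUnibranch (X.presheaf.stalk x)} by
    rw [key] at h
    exact h
  refine Set.ext fun x => ?_
  exact (Lib.Unram.UnibranchBirational.isGeomUnibranch_stalk_iff U.2 x.2).symm

end Groth.Agent.S4826
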