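import Groth.Statements.S4827
import Groth.Agent.H46.FibreProf.NormalCons
import Groth.Agent.H46.FibreProf.ForallFibre
-- import your own Groth.Agent.* helpers here

set_option autoImplicit false
open CategoryTheory AlgebraicGeometry
universe u
open Cons9

namespace Groth.Agent.S4827

open Groth.Agent.H46.FibreProf in
/-- Let f : X ⟶ S be a morphism of finite presentation (locally of finite presentation, quasi-compact
and quasi-separated). Then the set of points s of S whose fibre X_s is geometrically normal over
κ(s), i.e. such that for every extension field K of κ(s) all local rings of X_s ⊗_{κ(s)} K are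
integrally closed domains, is locally constructible in S. This is the case of geometric normality. -/
theorem result {X S : Scheme.{u}} (f : X ⟶ S)
    [LocallyOfFinitePresentation f] [QuasiCompact f] [QuasiSeparated f] :
    Topology.IsLocallyConstructible {s : S |
      ∀ (K : Type u) [Field K] [Algebra (IsLocalRing.ResidueField (S.presheaf.stalk s)) K]
        (x' : ↥(FBase.bc (f.fiberToSpecResidueField s) K)),
        IsDomain ((FBase.bc (f.fiberToSpecResidueField s) K).presheaf.stalk x') ∧
          IsIntegrallyClosed ((FBase.bc (f.fiberToSpecResidueField s) K).presheaf.stalk x')} := by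
  convert ForallFibre.isLocallyConstructible_forall f (NormalCons.isLocallyConstructible_normal f) using 1
  ext s
  constructor
  · rintro h x rfl K _ _ x' -
    exact h K x'
  · intro h K iF iA x'
    have key : ∀ (x : X) (b : f.fiber s), f.fiberι s b = x → f.base x = s →
        (FBase.bcπ (f.fiberToSpecResidueField s) K).base x' = b →
        IsDomain ((FBase.bc (f.fiberToSpecResidueField s) K).presheaf.stalk x') ∧
          IsIntegrallyClosed ((FBase.bc (f.fiberToSpecResidueField s) K).presheaf.stalk x') := by
      intro x b hb hx hx'
      subst hx
      obtain rfl : b = f.asFiber x :=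
        (f.fiberι _).isEmbedding.injective (by rw [hb, f.fiberι_asFiber])
      exact h x rfl K x' hx'
    exact key _ ((FBase.bcπ (f.fiberToSpecResidueField s) K).base x') rfl
      (Groth.Agent.Lib.Cyc.FieldDim.apply_fiberι f s _) rfl

end Groth.Agent.S4827
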