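import Groth.Statements.S4828
import Groth.Agent.H46.FibreProf.RkCons
import Groth.Agent.H46.FibreProf.ForallFibre
-- import your own Groth.Agent.* helpers here

set_option autoImplicit false
open CategoryTheory AlgebraicGeometry
universe u
open Cons9

namespace Groth.Agent.S4828

open Groth.Agent.H46.FibreProf in
/-- Let f : X ⟶ S be a morphism of finite presentation (locally of finite presentation, quasi-compact
and quasi-separated) and k a natural number. Then the set of points s of S whose fibre X_s has the
geometric property (R_k), i.e. such that for every extension field K of κ(s) all local rings of X_s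
⊗_{κ(s)} K satisfy Serre's condition (R_k), is locally constructible in S. -/
theorem result {X S : Scheme.{u}} (f : X ⟶ S)
    [LocallyOfFinitePresentation f] [QuasiCompact f] [QuasiSeparated f] (k : ℕ) :
    Topology.IsLocallyConstructible {s : S |
      ∀ (K : Type u) [Field K] [Algebra (IsLocalRing.ResidueField (S.presheaf.stalk s)) K]
        (x' : ↥(FBase.bc (f.fiberToSpecResidueField s) K)),
        LocCoh.HasRk k ((FBase.bc (f.fiberToSpecResidueField s) K).presheaf.stalk x')} := by
  convert ForallFibre.isLocallyConstructible_forall f (RkCons.isLocallyConstructible_rk f k) using 1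
  ext s
  constructor
  · rintro h x rfl
    exact (RkCons.rk_iff_forall f k x).2 fun K _ _ x' _ => h K x'
  · intro h K iF iA x'
    have key : ∀ (x : X) (b : f.fiber s), f.fiberι s b = x → f.base x = s →
        (FBase.bcπ (f.fiberToSpecResidueField s) K).base x' = b →
        LocCoh.HasRk k ((FBase.bc (f.fiberToSpecResidueField s) K).presheaf.stalk x') := by
      intro x b hb hx hx'
      subst hx
      obtain rfl : b = f.asFiber x :=
        (f.fiberι _).isEmbedding.injective (by rw [hb, f.fiberι_asFiber])
      exact (RkCons.rk_iff_forall f k x).1 (h x rfl) K x' hx'
    exact key _ ((FBase.bcπ (f.fiberToSpecResidueField s) K).base x') rfl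
      (Groth.Agent.Lib.Cyc.FieldDim.apply_fiberι f s _) rfl

end Groth.Agent.S4828
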