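import Groth.Statements.S4831
import Groth.Agent.H69.FibreLoci.Loci
import Groth.Agent.H69.FibreLoci.Torsion
import Groth.Agent.H46.FibreDimNhd

set_option autoImplicit false
open CategoryTheory AlgebraicGeometry
universe u
open Cons9

namespace Groth.Agent.S4831
set_option backward.isDefEq.respectTransparency false
open Groth.Agent.H69.FibreLoci Groth.Agent.H46.FibreProf.Basic CategoryTheory AlgebraicGeometry

/-- Let S be a locally Noetherian scheme, f : X ⟶ S a morphism of finite type and F a coherent
O_X-module; suppose that every fibre X_s is locally integral (all its local rings are integral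
domains). For s in S let F_s be the pullback of F to the fibre X_s. Then the set of s such that F_s
is a torsion module over O_{X_s} (each stalk of F_s is its own torsion submodule over the local ring
of X_s, an integral domain) is locally constructible in S. -/
theorem result {X S : Scheme.{u}} (f : X ⟶ S) [IsLocallyNoetherian S]
    [LocallyOfFiniteType f] [QuasiCompact f] (F : X.Modules) [Coh.IsQCoh F] (hF : CohB1.IsFP F)
    (hint : ∀ (s : S) (x : ↥(f.fiber s)), IsDomain ((f.fiber s).presheaf.stalk x)) :
    Topology.IsLocallyConstructible {s : S | ∀ x : ↥(f.fiber s),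
      Submodule.torsion ((f.fiber s).presheaf.stalk x) (((Scheme.Modules.pullback (f.fiberι s)).obj F).presheaf.stalk x) = ⊤} := by
  haveI : SheafOfModules.IsFinitePresentation (R := X.ringCatSheaf) F := hF
  haveI := Groth.Agent.H26.FreeCrit.isQuasicoherent_of_isFP hF
  haveI : LocallyOfFinitePresentation f := Groth.Agent.H46.FibreDimNhd.locallyOfFinitePresentation f
  convert Groth.Agent.Lib.ProCons45.Basic.isLocallyConstructible_compl
    (Loci.isLocallyConstructible_exists (fun d => Loci.isLocallyConstructible_hasAssMax f F hF d)
      (Loci.bounded_hasAssMax f F)) using 1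
  ext s
  haveI := Groth.Agent.H46.QFin.isLocallyNoetherian_fiber f s
  haveI := isQuasicoherent_fm f F s
  constructor
  · rintro h ⟨d, θ, hθ, h0, -, hmax⟩
    obtain ⟨a, rfl⟩ := Groth.Agent.Lib.Cyc.FieldDim.exists_fiberι_eq f θ s hθ
    haveI := hint s a
    obtain ⟨z, hz, hne⟩ := (Torsion.torsion_stalk_eq_top_iff _ a).1 (h a) a
      ((mem_ass_iff f F s a).2 h0) specializes_rfl
    exact hne ((f.fiberι s).isEmbedding.injective (hmax _ ((fg_fiberι f).2 hz)))
  · intro h x
    haveI := hint s x
    refine (Torsion.torsion_stalk_eq_top_iff _ x).2 fun a ha _ => ?_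
    by_contra hc
    push Not at hc
    refine h ⟨_, f.fiberι s a, Groth.Agent.Lib.Cyc.FieldDim.apply_fiberι f s a,
      (mem_ass_iff f F s a).1 ha, rfl, fun w hw => ?_⟩
    obtain ⟨b, rfl, hb⟩ := fg_exists f hw
    rw [hc b hb]

end Groth.Agent.S4831
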