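import Groth.Statements.S4833
import Groth.Agent.H47.FibreFlatMod

set_option autoImplicit false
open CategoryTheory AlgebraicGeometry
universe u
open Cons9

namespace Groth.Agent.S4833

open CategoryTheory.Limits in
theorem flat_fibre_iff {X Y S : Scheme.{u}} (g : X ⟶ Y) (h : Y ⟶ S) (F : X.Modules) (s : S) :
    s ∈ H47.FibreFlatMod.E g h F ↔ FlatMod.IsFlatOver
      (pullback.lift (pullback.fst (g ≫ h) (S.fromSpecResidueField s) ≫ g) (pullback.snd (g ≫ h) (S.fromSpecResidueField s))
          ((Category.assoc _ _ _).trans pullback.condition) :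
        pullback (g ≫ h) (S.fromSpecResidueField s) ⟶ pullback h (S.fromSpecResidueField s))
      ((Scheme.Modules.pullback (pullback.fst (g ≫ h) (S.fromSpecResidueField s))).obj F) := by
  rw [← H47.FibreFlatMod.setOf_eq_E]
  rw [← H47.ConsFormal.fiberMap_eq]
  constructor
  · intro hs a
    have hx : (g ≫ h) ((g ≫ h).fiberι s a) = s :=
      (Scheme.Hom.range_fiberι (g ≫ h) s).subset ⟨a, rfl⟩
    exact (H47.FibreFlatMod.fibre_flat_quotient_iff g h F s a _ rfl).2 (hs _ hx)
  · intro hs x hx
    obtain ⟨a, ha⟩ : x ∈ Set.range ((g ≫ h).fiberι s) :=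
      (Scheme.Hom.range_fiberι (g ≫ h) s).symm.subset hx
    exact (H47.FibreFlatMod.fibre_flat_quotient_iff g h F s a x ha).1 (hs a)


open CategoryTheory.Limits in
/-- Let S be an integral Noetherian scheme with generic point η, let g : X ⟶ Y be an S-morphism between
schemes of finite type over S (structure morphisms h : Y ⟶ S and g ≫ h), and let F be a coherent
O_X-module. For s in S write g_s : X_s ⟶ Y_s for the morphism induced on the fibres over s and F_s
for the pullback of F to X_s. If F_η is not flat relative to g_η (not flat over O_{Y_η, g_η(x)} at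
some point x of X_η), then there is an open neighbourhood U of η such that for every s in U the
module F_s is not flat relative to g_s. -/
theorem result {X Y S : Scheme.{u}} [IsIntegral S] [IsNoetherian S]
    (g : X ⟶ Y) (h : Y ⟶ S) [LocallyOfFiniteType h] [QuasiCompact h]
    [LocallyOfFiniteType (g ≫ h)] [QuasiCompact (g ≫ h)]
    (F : X.Modules) [Coh.IsQCoh F] (hF : CohB1.IsFP F)
    (hη : ¬ FlatMod.IsFlatOver
      (pullback.lift (pullback.fst (g ≫ h) (S.fromSpecResidueField (genericPoint S)) ≫ g)
          (pullback.snd (g ≫ h) (S.fromSpecResidueField (genericPoint S)))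
          ((Category.assoc _ _ _).trans pullback.condition) :
        pullback (g ≫ h) (S.fromSpecResidueField (genericPoint S)) ⟶ pullback h (S.fromSpecResidueField (genericPoint S)))
      ((Scheme.Modules.pullback (pullback.fst (g ≫ h) (S.fromSpecResidueField (genericPoint S)))).obj F)) :
    ∃ U : S.Opens, genericPoint S ∈ U ∧ ∀ s ∈ U, ¬ FlatMod.IsFlatOver
      (pullback.lift (pullback.fst (g ≫ h) (S.fromSpecResidueField s) ≫ g) (pullback.snd (g ≫ h) (S.fromSpecResidueField s))
          ((Category.assoc _ _ _).trans pullback.condition) :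
        pullback (g ≫ h) (S.fromSpecResidueField s) ⟶ pullback h (S.fromSpecResidueField s))
      ((Scheme.Modules.pullback (pullback.fst (g ≫ h) (S.fromSpecResidueField s))).obj F) := by
  haveI : F.IsQuasicoherent := inferInstanceAs (Coh.IsQCoh F)
  haveI : IsLocallyNoetherian X := LocallyOfFiniteType.isLocallyNoetherian (g ≫ h)
  haveI : IsLocallyNoetherian Y := LocallyOfFiniteType.isLocallyNoetherian h
  haveI : LocallyOfFinitePresentation h := LocallyOfFinitePresentation.iff_locallyOfFiniteType.2 inferInstance
  haveI : LocallyOfFinitePresentation (g ≫ h) :=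
    LocallyOfFinitePresentation.iff_locallyOfFiniteType.2 inferInstance
  obtain ⟨-, h2⟩ := H47.ConsBasic.mem_interior_of_isConstructible (genericPoint_spec S)
    (H47.FibreFlatMod.isLocallyConstructible_E g h F hF).isConstructible
  have hn : genericPoint S ∉ H47.FibreFlatMod.E g h F := fun hm => hη ((flat_fibre_iff g h F _).1 hm)
  obtain ⟨O, hO, hOo, hηO⟩ := mem_interior.1 (h2 hn)
  exact ⟨⟨O, hOo⟩, hηO, fun s hs hf => hO hs ((flat_fibre_iff g h F s).2 hf)⟩

end Groth.Agent.S4833
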