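import Groth.Statements.S4836
import Mathlib

set_option autoImplicit false
universe u
open Cons9

namespace Groth.Agent.S4836

/-- Principle of finite extension. Let k be a field and C a property of extension fields of k (in a
fixed universe) satisfying: (i) if K has C and there is a k-homomorphism K → K', then K' has C; (ii)
if K has C, some subextension K' of K finitely generated over k has C; (iii) if K has C and K is the
field of fractions of an integral k-algebra of finite type A, then there is a nonzero f in A such
that every field quotient of A_f (as a k-algebra) has C. If some extension of k has C, then some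
finite extension of k has C (and then, by (i), so does every algebraically closed extension). -/
theorem result {k : Type u} [Field k]
    (C : ∀ (K : Type u) [Field K] [Algebra k K], Prop)
    (h₁ : ∀ (K K' : Type u) [Field K] [Algebra k K] [Field K'] [Algebra k K'],
      Nonempty (K →ₐ[k] K') → C K → C K')
    (h₂ : ∀ (K : Type u) [Field K] [Algebra k K], C K →
      ∃ K' : IntermediateField k K, K'.FG ∧ C K')
    (h₃ : ∀ (A K : Type u) [CommRing A] [IsDomain A] [Algebra k A] [Algebra.FiniteType k A]
      [Field K] [Algebra k K] [Algebra A K] [IsScalarTower k A K] [IsFractionRing A K], C K →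
      ∃ f : A, f ≠ 0 ∧ ∀ (K' : Type u) [Field K'] [Algebra k K'] (φ : Localization.Away f →ₐ[k] K'),
        Function.Surjective φ → C K')
    (hC : ∃ (K : Type u) (_ : Field K) (_ : Algebra k K), C K) :
    ∃ (K' : Type u) (_ : Field K') (_ : Algebra k K'), Module.Finite k K' ∧ C K' := by
  classical
  obtain ⟨K, _, _, hK⟩ := hC
  obtain ⟨L, ⟨s, hs⟩, hL⟩ := h₂ K hK
  subst hs
  let A : Subalgebra k K := Algebra.adjoin k (s : Set K)
  have hle : A ≤ (IntermediateField.adjoin k (s : Set K)).toSubalgebra := IntermediateField.algebra_adjoin_le_adjoin k _
  letI : Algebra A (IntermediateField.adjoin k (s : Set K)) := (Subalgebra.inclusion hle).toRingHom.toAlgebra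
  haveI : IsScalarTower k A (IntermediateField.adjoin k (s : Set K)) := IsScalarTower.of_algebraMap_eq fun c => rfl
  haveI : FaithfulSMul A (IntermediateField.adjoin k (s : Set K)) :=
    (faithfulSMul_iff_algebraMap_injective _ _).2 (Subalgebra.inclusion_injective hle)
  haveI : IsFractionRing A (IntermediateField.adjoin k (s : Set K)) := IsFractionRing.of_field _ _ fun z => by
    obtain ⟨r, hr, t, ht, hz⟩ := IntermediateField.mem_adjoin_iff_div.1 z.2
    exact ⟨⟨r, hr⟩, ⟨t, ht⟩, Subtype.ext hz⟩
  haveI : Algebra.FiniteType k A := (Subalgebra.fg_iff_finiteType _).1 ⟨s, rfl⟩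
  obtain ⟨f, hf, hfC⟩ := h₃ A (IntermediateField.adjoin k (s : Set K)) hL
  haveI : Nontrivial (Localization.Away f) := by
    have := IsLocalization.injective (Localization.Away f) (powers_le_nonZeroDivisors_of_noZeroDivisors hf)
    exact this.nontrivial
  obtain ⟨M, hM⟩ := Ideal.exists_maximal (Localization.Away f)
  haveI := hM
  letI := Ideal.Quotient.field M
  haveI : Algebra.FiniteType k (Localization.Away f) :=
    Algebra.FiniteType.trans (IsLocalization.finiteType_of_monoid_fg (Submonoid.powers f) (Localization.Away f) |> fun h => (inferInstance : Algebra.FiniteType k A)) (IsLocalization.finiteType_of_monoid_fg (Submonoid.powers f) (Localization.Away f))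
  haveI : Algebra.FiniteType k (Localization.Away f ⧸ M) :=
    Algebra.FiniteType.of_surjective (Ideal.Quotient.mkₐ k M) (Ideal.Quotient.mkₐ_surjective k M)
  exact ⟨_, inferInstance, inferInstance, finite_of_finite_type_of_isJacobsonRing k (Localization.Away f ⧸ M),
    hfC _ (Ideal.Quotient.mkₐ k M) (Ideal.Quotient.mkₐ_surjective k M)⟩

end Groth.Agent.S4836
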