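import Groth.Statements.S4837
import Groth.Agent.Lib.RelSpecBasics.Gamma
import Mathlib.AlgebraicGeometry.Morphisms.Immersion
import Mathlib.AlgebraicGeometry.Morphisms.ClosedImmersion

set_option autoImplicit false
open CategoryTheory AlgebraicGeometry
universe u
open Lim8

namespace Groth.Agent.S4837

section Helpers

open Opposite TopologicalSpace

theorem app_injective_of_forall_affine {X Z : Scheme.{u}} (g : X ⟶ Z)
    (h : ∀ W : Z.Opens, IsAffineOpen W → Function.Injective (g.app W)) (W : Z.Opens) :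
    Function.Injective (g.app W) := by
  refine (injective_iff_map_eq_zero (g.app W).hom).2 fun x hx => ?_
  choose V hV hxV hle' using fun p : W => exists_isAffineOpen_mem_and_subset (X := Z) (x := p.1) (U := W) p.2
  have hle : ∀ p, V p ≤ W := fun p => hle' p
  refine TopCat.Sheaf.eq_of_locally_eq' Z.sheaf V W (fun p => homOfLE (hle p))
    (fun p hp => Opens.mem_iSup.2 ⟨⟨p, hp⟩, hxV ⟨p, hp⟩⟩) _ _ fun p => ?_
  refine h (V p) (hV p) ?_
  change g.app (V p) (Z.presheaf.map (homOfLE (hle p)).op x) =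
    g.app (V p) (Z.presheaf.map (homOfLE (hle p)).op 0)
  refine Eq.trans ?_ ((congrArg (g.app (V p)) (map_zero (Z.presheaf.map _).hom)).trans (map_zero (g.app (V p)).hom)).symm
  refine (ConcreteCategory.congr_hom (g.naturality (homOfLE (hle p)).op) x).trans ?_
  exact (congrArg (X.presheaf.map _) hx).trans (map_zero (X.presheaf.map _).hom)

theorem ker_eq_bot_iff {X Z : Scheme.{u}} (g : X ⟶ Z) [QuasiCompact g] :
    g.ker = ⊥ ↔ ∀ W : Z.Opens, IsAffineOpen W → Function.Injective (g.app W) := by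
  constructor
  · intro h W hW
    refine (RingHom.injective_iff_ker_eq_bot (g.app W).hom).2 ?_
    rw [← Scheme.Hom.ker_apply g ⟨W, hW⟩, h]; rfl
  · intro h
    refine Scheme.IdealSheafData.ext (funext fun W => ?_)
    rw [Scheme.Hom.ker_apply g W]
    exact (RingHom.injective_iff_ker_eq_bot _).1 (h W W.2)

theorem isOpenImmersion_of_ker {X Z : Scheme.{u}} (g : X ⟶ Z) [IsImmersion g] [QuasiCompact g]
    (h : g.ker = ⊥) : IsOpenImmersion g := by
  have hk : g.liftCoborder.ker = ⊥ := by
    refine (ker_eq_bot_iff _).2 fun W hW => ?_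
    rw [liftCoborder_app]
    exact (ConcreteCategory.bijective_of_isIso
      (X.presheaf.map (eqToHom (g.liftCoborder_preimage W)).op)).1.comp
      ((ker_eq_bot_iff g).1 h _ (hW.image_of_isOpenImmersion g.coborderRange.ι))
  haveI := IsClosedImmersion.isIso_iff_ker_eq_bot.2 hk
  rw [← g.liftCoborder_ι]
  infer_instance

end Helpers

/-- Let f : X ⟶ Y be a quasi-compact quasi-separated morphism, C a quasi-coherent O_Y-algebra with
relative spectrum Z = Spec(C) over Y, g : X ⟶ Z a Y-morphism which is an immersion, and φ : C ⟶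
f_*O_X the homomorphism of O_Y-algebras corresponding to g (the canonical identification of C with
the direct image of O_Z followed by the map induced by g). Then the scheme-theoretic image of g is
the whole of Z, i.e. the kernel ideal of g vanishes, if and only if φ is injective; and when this
holds g is an open immersion. -/
theorem result {X Y : Scheme.{u}} (f : X ⟶ Y)
    [QuasiCompact f] [QuasiSeparated f] (C : RelSpec.QCAlg Y) (g : X ⟶ C.spec) (w : g ≫ C.π = f)
    [IsImmersion g] (φ : C ⟶ RelSpec.QCAlg.directImage f)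
    (hφ : C.gammaMap ≫ φ.hom = AffAlg.algHom C.π f g w) :
    (g.ker = ⊥ ↔ ∀ U : Y.Opens, Function.Injective (φ.hom.app (Opposite.op U)).hom) ∧
      (g.ker = ⊥ → IsOpenImmersion g) := by
  haveI : QuasiCompact (g ≫ C.π) := by rw [w]; infer_instance
  haveI : QuasiCompact g := QuasiCompact.of_comp g C.π
  haveI := Groth.Agent.Lib.RelSpecBasics.Gamma.isIso_gammaMap (A := C)
  have hφ' : ∀ U : Y.Opens, Function.Injective (φ.hom.app (Opposite.op U)).hom ↔
      Function.Injective (g.app (C.π ⁻¹ᵁ U)) := by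
    intro U
    have h1 := NatTrans.congr_app hφ (Opposite.op U)
    rw [NatTrans.comp_app] at h1
    have hb := ConcreteCategory.bijective_of_isIso (C.gammaMap.app (Opposite.op U))
    rw [← Function.Injective.of_comp_iff' _ hb]
    let ε : (TopCat.Presheaf.pushforward CommRingCat.{u} C.π.base).obj
        ((TopCat.Presheaf.pushforward CommRingCat.{u} g.base).obj X.presheaf) ⟶ AffAlg.alg f :=
      eqToHom (by subst w; rfl)
    have h2 : (⇑(φ.hom.app (Opposite.op U)).hom ∘ ⇑(C.gammaMap.app (Opposite.op U))) =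
        ⇑(ε.app (Opposite.op U)).hom ∘ ⇑(g.app (C.π ⁻¹ᵁ U)) := by
      funext x
      exact congrArg (fun e => e.hom x) h1
    rw [h2]
    exact (ConcreteCategory.bijective_of_isIso (ε.app (Opposite.op U))).1.of_comp_iff _
  refine ⟨⟨fun h U => (hφ' U).2 (app_injective_of_forall_affine g ((ker_eq_bot_iff g).1 h) _),
    fun h => ?_⟩, isOpenImmersion_of_ker g⟩
  refine (ker_eq_bot_iff g).2 fun W hW => ?_
  refine (injective_iff_map_eq_zero (g.app W).hom).2 fun x hx => ?_
  have key : ∀ p : W, ∃ V : C.spec.Opens, p.1 ∈ V ∧ ∃ hV : V ≤ W,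
      C.spec.presheaf.map (homOfLE hV).op x = 0 := by
    rintro ⟨p, hp⟩
    obtain ⟨U, hU, hpU, -⟩ := exists_isAffineOpen_mem_and_subset (X := Y) (x := C.π p) (U := ⊤) trivial
    obtain ⟨a, ha, hpa⟩ := hW.exists_basicOpen_le (⟨p, hpU⟩ : (C.π ⁻¹ᵁ U : C.spec.Opens)) hp
    have hA : IsAffineOpen (C.π ⁻¹ᵁ U) := hU.preimage C.π
    obtain ⟨b, hb, hpb⟩ := hA.exists_basicOpen_le (⟨p, hpa⟩ : C.spec.basicOpen a) hpU
    have hle : C.spec.basicOpen b ≤ W := hb.trans (C.spec.basicOpen_le a)
    refine ⟨_, hpb, hle, ?_⟩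
    haveI := hA.isLocalization_basicOpen b
    obtain ⟨⟨z, ⟨_, n, rfl⟩⟩, hz⟩ := IsLocalization.surj (Submonoid.powers b)
      (C.spec.presheaf.map (homOfLE hle).op x)
    have hinj := (hφ' U).1 (h U)
    have hu : IsUnit (algebraMap Γ(C.spec, C.π ⁻¹ᵁ U) Γ(C.spec, C.spec.basicOpen b) (b ^ n)) :=
      IsLocalization.map_units _ (⟨b ^ n, n, rfl⟩ : Submonoid.powers b)
    have h0 : g.app (C.spec.basicOpen b) (C.spec.presheaf.map (homOfLE hle).op x) = 0 := by
      rw [← CategoryTheory.comp_apply, g.naturality, CategoryTheory.comp_apply]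
      exact (congrArg (X.presheaf.map _) hx).trans (map_zero _)
    have hz' : g.app (C.spec.basicOpen b)
        (C.spec.presheaf.map (homOfLE (C.spec.basicOpen_le b)).op z) = 0 := by
      refine (congrArg (g.app (C.spec.basicOpen b)) hz.symm).trans ?_
      rw [map_mul, h0, zero_mul]
    obtain ⟨m, hm⟩ : ∃ m : ℕ, g.app (C.π ⁻¹ᵁ U) (b ^ m * z) = 0 := by
      have hcpt : IsCompact ((g ⁻¹ᵁ (C.π ⁻¹ᵁ U) : X.Opens) : Set X) :=
        g.isCompact_preimage hA.isCompact
      obtain ⟨m, hm⟩ := exists_pow_mul_eq_zero_of_res_basicOpen_eq_zero_of_isCompact X hcpt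
        (g.app (C.π ⁻¹ᵁ U) z) (g.app (C.π ⁻¹ᵁ U) b) (by
          have e : X.basicOpen (g.app (C.π ⁻¹ᵁ U) b) = g ⁻¹ᵁ C.spec.basicOpen b :=
            (Scheme.preimage_basicOpen g b).symm
          rw [← CategoryTheory.comp_apply, g.naturality, CategoryTheory.comp_apply] at hz'
          show X.presheaf.map (homOfLE (X.basicOpen_le _)).op _ = 0
          have h5 := congrArg (X.presheaf.map (eqToHom e).op) hz'
          rw [← CategoryTheory.comp_apply, ← Functor.map_comp, map_zero] at h5
          exact h5)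
      exact ⟨m, by rw [map_mul, map_pow]; exact hm⟩
    have hm0 : b ^ m * z = 0 := hinj (hm.trans (map_zero _).symm)
    have hz0 : algebraMap Γ(C.spec, C.π ⁻¹ᵁ U) Γ(C.spec, C.spec.basicOpen b) z = 0 :=
      (IsLocalization.map_eq_zero_iff (Submonoid.powers b) _ z).2 ⟨⟨_, m, rfl⟩, hm0⟩
    rw [hz0] at hz
    exact hu.mul_left_eq_zero.1 hz
  choose V hpV hV h0 using key
  refine TopCat.Sheaf.eq_of_locally_eq' C.spec.sheaf V W (fun p => homOfLE (hV p))
    (fun p hp => TopologicalSpace.Opens.mem_iSup.2 ⟨⟨p, hp⟩, hpV ⟨p, hp⟩⟩) _ _ fun p => ?_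
  exact (h0 p).trans (map_zero _).symm

end Groth.Agent.S4837
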