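import Groth.Statements.S4847
import Groth.Agent.H47.FibreCrit
import Groth.Agent.Lib.Modules.GenStalk

set_option autoImplicit false
universe u
open EGA43

namespace Groth.Agent.S4847

open AlgebraicGeometry CategoryTheory Limits in
/-- Case 1° (fibrewise flatness criterion for locally Noetherian schemes): let S, X and Y be locally
Noetherian schemes, f : X ⟶ Y and h : Y ⟶ S arbitrary morphisms, F a coherent O_X-module and x a
point of X with images y in Y and s in S, such that the stalk F_x is nonzero. Then F is flat over S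
at x and F_x / m_s F_x is flat over O_{Y,y} / m_s O_{Y,y} (that is, the fibre module F_s is flat
over the fibre Y_s at x) if and only if h is flat at y and F is flat over Y at x. No finiteness
hypothesis on f or h is required in this case. -/
theorem result {X Y S : Scheme.{u}}
    [IsLocallyNoetherian X] [IsLocallyNoetherian Y] [IsLocallyNoetherian S]
    (f : X ⟶ Y) (h : Y ⟶ S) (F : X.Modules) (hF : Coh.IsCoh F) (x : X)
    (hx : Nontrivial ↑(F.presheaf.stalk x)) :
    letI := FlatMod.moduleStalkOver f F x
    (FlatMod.IsFlatOverAt (f ≫ h) F x ∧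
      Module.Flat (↑(Y.presheaf.stalk (f x)) ⧸ Ideal.map (h.stalkMap (f x)).hom (IsLocalRing.maximalIdeal ↑(S.presheaf.stalk (h (f x)))))
        (↑(F.presheaf.stalk x) ⧸ (Ideal.map (h.stalkMap (f x)).hom (IsLocalRing.maximalIdeal ↑(S.presheaf.stalk (h (f x)))) •
          (⊤ : Submodule ↑(Y.presheaf.stalk (f x)) ↑(F.presheaf.stalk x))))) ↔
    ((h.stalkMap (f x)).hom.Flat ∧ FlatMod.IsFlatOverAt f F x) := by
  let R := S.presheaf.stalk (h (f x))
  let B := Y.presheaf.stalk (f x)
  let C := X.presheaf.stalk x
  let _ : Algebra R B := (h.stalkMap (f x)).hom.toAlgebra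
  let _ : Algebra B C := (f.stalkMap x).hom.toAlgebra
  let _ : Module B (F.presheaf.stalk x) := FlatMod.moduleStalkOver f F x
  let _ : Module R (F.presheaf.stalk x) := FlatMod.moduleStalkOver (f ≫ h) F x
  have : IsScalarTower B C (F.presheaf.stalk x) := ⟨fun r a w => mul_smul ((f.stalkMap x).hom r) a w⟩
  have : IsScalarTower R B (F.presheaf.stalk x) := ⟨fun r a w => by
    show (f.stalkMap x).hom ((h.stalkMap (f x)).hom r * a) • w =
      ((f ≫ h).stalkMap x).hom r • (f.stalkMap x).hom a • w
    rw [map_mul, mul_smul, Scheme.Hom.stalkMap_comp]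
    rfl⟩
  have : IsLocalHom (algebraMap R B) := inferInstanceAs (IsLocalHom (h.stalkMap (f x)).hom)
  have : IsLocalHom (algebraMap B C) := inferInstanceAs (IsLocalHom (f.stalkMap x).hom)
  have := hF.2
  have : Module.Finite C (F.presheaf.stalk x) := Lib.Modules.GenStalk.finite_stalk F x
  exact H47.FibreCrit.flat_iff (R := R) (B := B) (C := C) (F.presheaf.stalk x)

end Groth.Agent.S4847
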