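import Groth.Statements.S4852
import Groth.Agent.H47.NilpotentFree
import Mathlib.RingTheory.LocalRing.ResidueField.Basic
import Mathlib.RingTheory.Localization.AtPrime.Basic
import Mathlib.Tactic.LinearCombination
import Mathlib.LinearAlgebra.FreeModule.Basic
import Mathlib.LinearAlgebra.Basis.VectorSpace

set_option autoImplicit false
universe u
open TensorProduct
open EGA43

namespace Groth.Agent.S4852

/-- Let A be a semi-local ring (finitely many maximal ideals) whose Jacobson radical is nilpotent, for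
instance an Artinian ring, and let (u_i : A → B_i) be a family of ring homomorphisms whose kernels
have zero intersection. Then an A-module M is flat if and only if, for every i, the B_i-module B_i
⊗_A M is flat. -/
theorem result {A : Type u} [CommRing A]
    [Finite (MaximalSpectrum A)] (hnil : IsNilpotent (Ring.jacobson A))
    {ι : Type u} (B : ι → Type u) [∀ i, CommRing (B i)] [∀ i, Algebra A (B i)]
    (hB : ∀ a : A, (∀ i, algebraMap A (B i) a = 0) → a = 0)
    (M : Type u) [AddCommGroup M] [Module A M] :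
    Module.Flat A M ↔ ∀ i, Module.Flat (B i) (B i ⊗[A] M) := by
  classical
  refine ⟨fun _ i ↦ inferInstance, fun h ↦ ?_⟩
  obtain ⟨N, hN⟩ := hnil
  refine Module.flat_of_localized_maximal M fun m hm ↦ ?_
  have hx : ∀ n : MaximalSpectrum A, ∃ x : A, x ∉ m ∧ (n.asIdeal ≠ m → x ∈ n.asIdeal) := by
    intro n
    by_cases h' : n.asIdeal = m
    · exact ⟨1, (Ideal.ne_top_iff_one m).1 hm.ne_top, fun h'' ↦ absurd h' h''⟩
    · obtain ⟨x, hx1, hx2⟩ := SetLike.not_le_iff_exists.1
        (fun hle : n.asIdeal ≤ m ↦ h' (n.isMaximal.eq_of_le hm.ne_top hle))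
      exact ⟨x, hx2, fun _ ↦ hx1⟩
  choose x hx1 hx2 using hx
  have := Fintype.ofFinite (MaximalSpectrum A)
  let t := ∏ n, x n
  have ht : t ∉ m := fun h' ↦ by
    obtain ⟨n, _, hn⟩ := hm.isPrime.prod_mem_iff.1 h'
    exact hx1 n hn
  have htm : ∀ y ∈ m ^ N, t ^ N * y = 0 := by
    intro y hy
    have h1 : Ideal.span {t} * m ≤ Ring.jacobson A := by
      rw [Ring.jacobson_eq_sInf_isMaximal]
      refine le_sInf fun n hn ↦ ?_
      refine Ideal.mul_le.2 fun r hr y hy ↦ ?_
      by_cases h' : n = m
      · exact n.mul_mem_left r (h' ▸ hy)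
      · refine n.mul_mem_right y ((Ideal.span_singleton_le_iff_mem n).2 ?_ hr)
        exact n.mem_of_dvd (Finset.dvd_prod_of_mem x (Finset.mem_univ ⟨n, hn⟩)) (hx2 ⟨n, hn⟩ h')
    have h2 := Ideal.pow_right_mono h1 N
    rw [mul_pow, hN] at h2
    have := h2 (Ideal.mul_mem_mul (Ideal.pow_mem_pow (Ideal.mem_span_singleton_self t) N) hy)
    simpa using this
  let Am := Localization.AtPrime m
  have hunit : IsUnit (algebraMap A Am (t ^ N)) :=
    IsLocalization.map_units Am (⟨t ^ N, fun h' ↦ ht (hm.isPrime.mem_of_pow_mem N h')⟩ : m.primeCompl)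
  have hnil : IsNilpotent (IsLocalRing.maximalIdeal Am) := by
    refine ⟨N, ?_⟩
    rw [← Localization.AtPrime.map_eq_maximalIdeal, ← Ideal.map_pow, Ideal.zero_eq_bot,
      Ideal.map_eq_bot_iff_le_ker]
    intro y hy
    rw [RingHom.mem_ker]
    apply hunit.mul_left_cancel
    rw [← map_mul, htm y hy, map_zero, mul_zero]
  have : Module.Free (Am ⧸ IsLocalRing.maximalIdeal Am)
      ((Am ⧸ IsLocalRing.maximalIdeal Am) ⊗[Am] (Am ⊗[A] M)) :=
    inferInstanceAs (Module.Free (IsLocalRing.ResidueField Am)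
      (IsLocalRing.ResidueField Am ⊗[Am] (Am ⊗[A] M)))
  have key : Module.Free Am (Am ⊗[A] M) := by
    refine Groth.Agent.H47.NilpotentFree.free_of_flat_family hnil (fun i ↦ Am ⊗[A] B i) ?_ fun i ↦ ?_
    · intro a' ha'
      obtain ⟨a, s, rfl⟩ := IsLocalization.exists_mk'_eq m.primeCompl a'
      rw [IsLocalization.mk'_eq_zero_iff]
      refine ⟨⟨t ^ N, fun h' ↦ ht (hm.isPrime.mem_of_pow_mem N h')⟩, hB _ fun i ↦ ?_⟩
      have h1 : algebraMap Am (Am ⊗[A] B i) (algebraMap A Am a) = 0 := by
        rw [← IsLocalization.mk'_spec Am a s, map_mul, ha' i, zero_mul]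
      rw [← IsScalarTower.algebraMap_apply, Algebra.TensorProduct.algebraMap_apply' ] at h1
      have : IsLocalizedModule m.primeCompl (TensorProduct.mk A Am (B i) 1) :=
        (isLocalizedModule_iff_isBaseChange m.primeCompl Am _).2 (TensorProduct.isBaseChange A (B i) Am)
      obtain ⟨⟨u, hu⟩, hu'⟩ :=
        (IsLocalizedModule.eq_zero_iff m.primeCompl (TensorProduct.mk A Am (B i) 1)).1 h1
      obtain ⟨r, μ, hμ, hr⟩ : ∃ r : A, ∃ μ ∈ m ^ N, r * u + μ = 1 := by
        have htop : Ideal.span {u} ⊔ m ^ N = ⊤ := by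
          refine Ideal.sup_pow_eq_top ?_
          by_contra hne
          exact hu ((hm.eq_of_le hne le_sup_right) ▸
            le_sup_left (b := m) (Ideal.mem_span_singleton_self u))
        obtain ⟨y, hy, μ, hμ, hsum⟩ := Submodule.mem_sup.1 (htop ▸ Submodule.mem_top : (1 : A) ∈ _)
        obtain ⟨r, rfl⟩ := Ideal.mem_span_singleton'.1 hy
        exact ⟨r, μ, hμ, hsum⟩
      rw [Submonoid.smul_def, Algebra.smul_def] at hu'
      calc algebraMap A (B i) (t ^ N * a)
          = algebraMap A (B i) (t ^ N * r) * (algebraMap A (B i) u * algebraMap A (B i) a)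
            + algebraMap A (B i) (t ^ N * μ) * algebraMap A (B i) a := by
            rw [← map_mul, ← map_mul, ← map_mul, ← map_add]
            congr 1
            linear_combination (-(t ^ N * a)) * hr
        _ = 0 := by rw [hu', htm μ hμ]; simp
    · let : Algebra (B i) (Am ⊗[A] B i) := Algebra.TensorProduct.rightAlgebra
      have := h i
      have h2 : Module.Flat (Am ⊗[A] B i) ((Am ⊗[A] B i) ⊗[A] M) :=
        Module.Flat.of_linearEquiv (TensorProduct.AlgebraTensorModule.cancelBaseChange A (B i)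
          (Am ⊗[A] B i) (Am ⊗[A] B i) M).symm
      exact Module.Flat.of_linearEquiv (TensorProduct.AlgebraTensorModule.cancelBaseChange A Am
          (Am ⊗[A] B i) (Am ⊗[A] B i) M)
  have hflat : Module.Flat Am (LocalizedModule m.primeCompl M) :=
    Module.Flat.of_linearEquiv ((IsLocalizedModule.isBaseChange m.primeCompl Am
      (LocalizedModule.mkLinearMap m.primeCompl M)).equiv.symm)
  exact (Module.flat_iff_of_isLocalization Am m.primeCompl (LocalizedModule m.primeCompl M)).1 hflat

end Groth.Agent.S4852
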