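import Groth.Statements.S4854
import Groth.Agent.H47.FlatProperStage
import Groth.Agent.H56.SpecStalk

set_option autoImplicit false
universe u
open CategoryTheory AlgebraicGeometry
open EGA43

namespace Groth.Agent.S4854

open CategoryTheory.Limits

set_option backward.isDefEq.respectTransparency false
set_option linter.style.haveILetI false

/-- Germs of equal morphisms. -/
theorem germ_app_eq {P Y : Scheme.{u}} {p q : P ⟶ Y} (h : p = q) (V : Y.Opens) (s : Γ(Y, V)) (w : P)
    (hp : p w ∈ V) :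
    P.presheaf.germ (p ⁻¹ᵁ V) w hp (p.app V s) =
      P.presheaf.germ (q ⁻¹ᵁ V) w (by subst h; exact hp) (q.app V s) := by
  subst h
  rfl

/-- Restrictions of global sections killed by a morphism. -/
theorem germ_app_res_eq_zero {P Z : Scheme.{u}} (q : P ⟶ Z) (U : Z.Opens) (s : Γ(Z, ⊤))
    (hs : q.appTop s = 0) (w : P) (hw : w ∈ q ⁻¹ᵁ U) :
    P.presheaf.germ (q ⁻¹ᵁ U) w hw (q.app U (Z.presheaf.map (homOfLE le_top).op s)) = 0 := by
  rw [← CommRingCat.comp_apply (Z.presheaf.map (homOfLE le_top).op), q.naturality, CommRingCat.comp_apply,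
    show q.app ⊤ s = 0 from hs, map_zero, map_zero]

/-- Injectivity at a point passes to the local scheme at the point. -/
theorem inj_local {Y Y' : Scheme.{u}} (y : Y) (g : Y' ⟶ Y) [IsProper g]
    (hinj : ∀ (V : Y.Opens) (s : Γ(Y, V)), y ∈ V → g.app V s = 0 →
      ∃ W : Y.Opens, y ∈ W ∧ ∃ hWV : W ≤ V, Y.presheaf.map (homOfLE hWV).op s = 0)
    (a : Y.presheaf.stalk y)
    (ha : (pullback.snd g (Y.fromSpecStalk y)).appTop ((Scheme.ΓSpecIso _).inv a) = 0) : a = 0 := by
  obtain ⟨W₀, hyW, s₀, rfl⟩ := Y.presheaf.exists_germ_eq a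
  let u := Y.fromSpecStalk y
  let gA := pullback.snd g u
  -- germs vanish on the fibre
  have hz : ∀ (z : Y') (hz : g z ∈ W₀), g z = y → Y'.presheaf.germ (g ⁻¹ᵁ W₀) z hz (g.app W₀ s₀) = 0 := by
    intro z hzW hzy
    obtain ⟨w, hw, hw'⟩ := Scheme.Pullback.exists_preimage_pullback (f := g) (g := u) z
      (IsLocalRing.closedPoint _) (hzy.trans Scheme.fromSpecStalk_closedPoint.symm)
    subst hw
    haveI : Flat u := Groth.Agent.H56.SpecStalk.flat_fromSpecStalk _
    let p := pullback.fst g u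
    have hfl : (p.stalkMap w).hom.Flat := Flat.stalkMap p w
    have hinjp : Function.Injective (p.stalkMap w).hom := by
      letI := (p.stalkMap w).hom.toAlgebra
      haveI : Module.Flat (Y'.presheaf.stalk (p w)) ((pullback g u).presheaf.stalk w) := hfl
      haveI : IsLocalHom (algebraMap (Y'.presheaf.stalk (p w)) ((pullback g u).presheaf.stalk w)) :=
        inferInstanceAs (IsLocalHom (p.stalkMap w).hom)
      haveI : Module.FaithfullyFlat (Y'.presheaf.stalk (p w)) ((pullback g u).presheaf.stalk w) :=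
        Module.FaithfullyFlat.of_flat_of_isLocalHom
      exact FaithfulSMul.algebraMap_injective (Y'.presheaf.stalk (p w)) ((pullback g u).presheaf.stalk w)
    refine hinjp ?_
    rw [map_zero]
    refine (Scheme.Hom.germ_stalkMap_apply p (g ⁻¹ᵁ W₀) w hzW (g.app W₀ s₀)).trans ?_
    refine (germ_app_eq (pullback.condition (f := g) (g := u)) W₀ s₀ w hzW).trans ?_
    show (pullback g u).presheaf.germ (gA ⁻¹ᵁ (u ⁻¹ᵁ W₀)) w _ (gA.app (u ⁻¹ᵁ W₀) (u.app W₀ s₀)) = 0
    have h1 : u.app W₀ s₀ = (Spec (Y.presheaf.stalk y)).presheaf.map (homOfLE le_top).op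
        ((Scheme.ΓSpecIso _).inv (Y.presheaf.germ W₀ y hyW s₀)) := by
      rw [Scheme.fromSpecStalk_app hyW]
      rfl
    rw [h1]
    exact germ_app_res_eq_zero gA _ _ ha w _
  -- an open neighbourhood of the fibre where the section vanishes
  let O : Set Y' := {z | ∃ (U : Y'.Opens) (_ : z ∈ U) (hU : U ≤ g ⁻¹ᵁ W₀),
    Y'.presheaf.map (homOfLE hU).op (g.app W₀ s₀) = 0}
  have hO : IsOpen O := isOpen_iff_forall_mem_open.2 fun z ⟨U, hzU, hU, h⟩ =>
    ⟨U, fun z' hz' => ⟨U, hz', hU, h⟩, U.2, hzU⟩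
  have hcl : IsClosed (g '' Oᶜ) := g.isClosedMap _ hO.isClosed_compl
  let W : Y.Opens := W₀ ⊓ ⟨(g '' Oᶜ)ᶜ, hcl.isOpen_compl⟩
  have hyW' : y ∈ W := ⟨hyW, fun ⟨z, hzO, hzy⟩ => hzO (by
    have hzW : g z ∈ W₀ := hzy ▸ hyW
    obtain ⟨U, hzU, i₁, i₂, h⟩ := TopCat.Presheaf.germ_eq Y'.presheaf (U := g ⁻¹ᵁ W₀) (V := g ⁻¹ᵁ W₀) z hzW hzW (g.app W₀ s₀) 0
      ((hz z hzW hzy).trans (map_zero _).symm)
    exact ⟨U, hzU, i₁.le, h.trans (map_zero _)⟩)⟩
  have hsW : g.app W (Y.presheaf.map (homOfLE inf_le_left).op s₀) = 0 := by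
    rw [← CommRingCat.comp_apply (Y.presheaf.map (homOfLE inf_le_left).op), g.naturality, CommRingCat.comp_apply]
    refine TopCat.Presheaf.section_ext Y'.sheaf _ _ _ fun z hzW => ?_
    obtain ⟨U, hzU, hU, h⟩ : z ∈ O := by
      by_contra hzO
      exact hzW.2 ⟨z, hzO, rfl⟩
    rw [map_zero]
    refine (TopCat.Presheaf.germ_res_apply Y'.presheaf _ z hzW _).trans ?_
    rw [← TopCat.Presheaf.germ_res_apply Y'.presheaf (homOfLE hU) z hzU, h, map_zero]
  obtain ⟨W', hy', hW', h'⟩ := hinj W _ hyW' hsW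
  rw [← TopCat.Presheaf.germ_res_apply Y.presheaf (homOfLE inf_le_left) y hyW' s₀,
    ← TopCat.Presheaf.germ_res_apply Y.presheaf (homOfLE hW') y hy', h', map_zero]

open CategoryTheory.Limits in
/-- Let f : X ⟶ Y be locally of finite presentation, F a quasi-coherent O_X-module of finite
presentation, x a point of X with y = f x, and g : Y' ⟶ Y a proper morphism of finite presentation.
Assume (i) the map O_{Y,y} → (g_* O_{Y'})_y is injective, i.e. a section of O_Y on a neighbourhood
of y whose pullback to Y' vanishes is zero on some neighbourhood of y, and (ii) the pullback F' of F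
to X' = X ×_Y Y' is flat over Y' at every point of X' above x. Then F is f-flat at x. -/
theorem result {X Y Y' : Scheme.{u}} (f : X ⟶ Y)
    [LocallyOfFinitePresentation f] (F : X.Modules) [Coh.IsQCoh F] (hF : CohB1.IsFP F) (x : X)
    (g : Y' ⟶ Y) [IsProper g] [LocallyOfFinitePresentation g]
    (hinj : ∀ (V : Y.Opens) (s : Γ(Y, V)), f x ∈ V → g.app V s = 0 →
      ∃ W : Y.Opens, f x ∈ W ∧ ∃ hWV : W ≤ V, Y.presheaf.map (homOfLE hWV).op s = 0)
    (hflat : ∀ x' : ↥(pullback f g), pullback.fst f g x' = x →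
      FlatMod.IsFlatOverAt (pullback.snd f g) ((Scheme.Modules.pullback (pullback.fst f g)).obj F) x') :
    FlatMod.IsFlatOverAt f F x := by
  haveI : F.IsQuasicoherent := inferInstanceAs (Coh.IsQCoh F)
  let A : Type u := Y.presheaf.stalk (f x)
  let u : Spec (CommRingCat.of A) ⟶ Y := Y.fromSpecStalk (f x)
  haveI : Flat u := Groth.Agent.H56.SpecStalk.flat_fromSpecStalk _
  let fA : pullback f u ⟶ Spec (CommRingCat.of A) := pullback.snd f u
  let gA : pullback g u ⟶ Spec (CommRingCat.of A) := pullback.snd g u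
  haveI : IsProper gA := inferInstanceAs (IsProper (pullback.snd g u))
  haveI : LocallyOfFinitePresentation gA := inferInstanceAs (LocallyOfFinitePresentation (pullback.snd g u))
  haveI : LocallyOfFinitePresentation fA := inferInstanceAs (LocallyOfFinitePresentation (pullback.snd f u))
  obtain ⟨z₀, hz₁, hz₂⟩ := Scheme.Pullback.exists_preimage_pullback (f := f) (g := u) x
    (IsLocalRing.closedPoint A) Scheme.fromSpecStalk_closedPoint.symm
  obtain ⟨U, hU, hzU, -⟩ := exists_isAffineOpen_mem_and_subset (x := z₀) (U := (⊤ : (pullback f u).Opens)) trivial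
  haveI : IsAffine U.toScheme := hU
  let f' : U.toScheme ⟶ Spec (CommRingCat.of A) := U.ι ≫ fA
  let G := (Scheme.Modules.pullback (pullback.fst f u)).obj F
  haveI : G.IsQuasicoherent := Groth.Agent.Lib.QCoh.Pullback.isQCoh_pullback _ F
  let G' := (Scheme.Modules.pullback U.ι).obj G
  haveI : G'.IsQuasicoherent := Groth.Agent.Lib.QCoh.Pullback.isQCoh_pullback _ G
  have hG' : CohB1.IsFP G' :=
    Groth.Agent.H47.FlatLimit.isFP_pullback _ G (Groth.Agent.H47.FlatLimit.isFP_pullback _ F hF)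
  have hf' : f' ⟨z₀, hzU⟩ = IsLocalRing.closedPoint A := hz₂
  have key : FlatMod.IsFlatOverAt f' G' ⟨z₀, hzU⟩ := by
    refine Groth.Agent.H47.FlatProperStage.isFlatOverAt f' G' hG' ⟨z₀, hzU⟩ hf' gA ?_ ?_
    · intro V s hV hs
      have hVtop : V = ⊤ := (IsLocalRing.closedPoint_mem_iff V).1 (hf' ▸ hV)
      subst hVtop
      have h0 : (Scheme.ΓSpecIso (Y.presheaf.stalk (f x))).hom s = 0 := inj_local (f x) g hinj _ (by
        rw [← CommRingCat.comp_apply (Scheme.ΓSpecIso _).hom, Iso.hom_inv_id]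
        exact hs)
      refine ⟨⊤, trivial, le_rfl, ?_⟩
      have : s = 0 := by
        have h1 := congrArg (Scheme.ΓSpecIso (Y.presheaf.stalk (f x))).inv h0
        rw [map_zero, ← CommRingCat.comp_apply, Iso.hom_inv_id] at h1
        exact h1
      rw [this, map_zero]
    · intro w hw
      let t₁ : pullback f' gA ⟶ pullback fA gA :=
        pullback.map f' gA fA gA U.ι (𝟙 _) (𝟙 _) (Category.comp_id _) (by simp)
      let t₂ : pullback fA gA ⟶ pullback f g :=
        pullback.map fA gA f g (pullback.fst f u) (pullback.fst g u) u pullback.condition.symm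
          pullback.condition.symm
      have h11 : t₁ ≫ pullback.fst fA gA = pullback.fst f' gA ≫ U.ι := pullback.lift_fst _ _ _
      have h12 : t₁ ≫ pullback.snd fA gA = pullback.snd f' gA := by
        rw [pullback.lift_snd, Category.comp_id]
      have h21 : t₂ ≫ pullback.fst f g = pullback.fst fA gA ≫ pullback.fst f u := pullback.lift_fst _ _ _
      have h22 : t₂ ≫ pullback.snd f g = pullback.snd fA gA ≫ pullback.fst g u := pullback.lift_snd _ _ _
      have sq₁ : IsPullback t₁ (pullback.fst f' gA) (pullback.fst fA gA) U.ι :=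
        Groth.Agent.H47.FlatProperStage.isPullback_fst (d := 𝟙 _) (b := 𝟙 _) (by rw [Category.comp_id])
          (IsPullback.id_horiz gA) t₁ h11 (by rw [h12, Category.comp_id])
      have sq₂ : IsPullback t₂ (pullback.snd fA gA) (pullback.snd f g) (pullback.fst g u) :=
        Groth.Agent.H47.FlatProperStage.isPullback_snd (IsPullback.of_hasPullback f u) pullback.condition
          t₂ h21 h22
      haveI : Flat t₁ := MorphismProperty.of_isPullback (P := @Flat) sq₁.flip inferInstance
      let H := (Scheme.Modules.pullback (pullback.fst f g)).obj F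
      have e0 : pullback.fst f g (t₂ (t₁ w)) = x := by
        rw [← Scheme.Hom.comp_apply t₂, h21, Scheme.Hom.comp_apply, ← Scheme.Hom.comp_apply t₁, h11,
          Scheme.Hom.comp_apply, hw]
        exact hz₁
      have h1 := Groth.Agent.Lib.Flat55.FlatOverAt.isFlatOverAt_baseChange _ _ t₂ _ sq₂ H (t₁ w)
        (hflat _ e0)
      have h2 := (Groth.Agent.Lib.Flat55.FlatOverAt.isFlatOverAt_pullback_iff t₁ (pullback.snd fA gA) _ w
        (Flat.stalkMap t₁ w)).2 h1
      rw [h12] at h2
      refine Groth.Agent.Lib.Flat55.FlatOverAt.of_iso _ ?_ w h2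
      exact (Scheme.Modules.pullback t₁).mapIso
          ((Scheme.Modules.pullbackComp t₂ (pullback.fst f g)).app F ≪≫
            (Scheme.Modules.pullbackCongr h21).app F ≪≫
            ((Scheme.Modules.pullbackComp (pullback.fst fA gA) (pullback.fst f u)).app F).symm) ≪≫
        (Scheme.Modules.pullbackComp t₁ (pullback.fst fA gA)).app G ≪≫
        (Scheme.Modules.pullbackCongr h11).app G ≪≫
        ((Scheme.Modules.pullbackComp (pullback.fst f' gA) U.ι).app G).symm
  have h1 : FlatMod.IsFlatOverAt fA G z₀ :=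
    (Groth.Agent.Lib.Flat55.FlatOverAt.isFlatOverAt_pullback_iff U.ι fA G ⟨z₀, hzU⟩
      (Flat.stalkMap U.ι _)).1 key
  have h2 := Groth.Agent.Lib.Flat55.FlatOverAt.isFlatOverAt_of_baseChange f fA (pullback.fst f u) u
    (IsPullback.of_hasPullback f u) F z₀ (Flat.stalkMap u _) h1
  rw [hz₁] at h2
  exact h2

end Groth.Agent.S4854
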