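import Groth.Statements.S4855
import Groth.Agent.S4854
import Groth.Agent.H46.FibreProf.Unit

set_option autoImplicit false
universe u
open CategoryTheory AlgebraicGeometry
open EGA43

namespace Groth.Agent.S4855

open CategoryTheory.Limits TensorProduct

set_option backward.isDefEq.respectTransparency false in
/-- The inverse image of the structure module is flat where the morphism is. -/
theorem isFlatOverAt_pullback_unit {X P S : Scheme.{u}} (p : P ⟶ X) (q : P ⟶ S) (z : P)
    (h : (q.stalkMap z).hom.Flat) :
    FlatMod.IsFlatOverAt q ((Scheme.Modules.pullback p).obj (Coh.structureModule X)) z := by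
  let R := S.presheaf.stalk (q z)
  let O := P.presheaf.stalk z
  let Ox := X.presheaf.stalk (p z)
  let V := ((Scheme.Modules.pullback p).obj (Coh.structureModule X)).presheaf.stalk z
  letI : Algebra Ox O := (p.stalkMap z).hom.toAlgebra
  let e₂ : O ⊗[Ox] (Coh.structureModule X).presheaf.stalk (p z) ≃ₗ[O] V :=
    (asIso ((Groth.Agent.Lib.DerivedOX.PullbackStalk.comparison p z).app (Coh.structureModule X))).toLinearEquiv
  let e : O ≃ₗ[O] V :=
    (AlgebraTensorModule.rid Ox O O).symm ≪≫ₗ AlgebraTensorModule.congr (LinearEquiv.refl O O)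
      (Groth.Agent.Lib.BettiExact.TorComp.stalkUnitEquiv X (p z)).symm ≪≫ₗ e₂
  letI : Algebra R O := (q.stalkMap z).hom.toAlgebra
  letI : Module R V := FlatMod.moduleStalkOver q _ z
  haveI : IsScalarTower R O V := IsScalarTower.of_algebraMap_smul fun _ _ => rfl
  exact @Module.Flat.of_linearEquiv _ _ _ _ _ _ _ _ h (e.restrictScalars R).symm

open CategoryTheory.Limits in
/-- Let f : X ⟶ Y be a proper morphism of finite presentation such that the map O_Y → f_* O_X is
injective (on sections over every open subset of Y). Then f is flat if and only if the first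
projection X ×_Y X ⟶ X is flat. -/
theorem result {X Y : Scheme.{u}} (f : X ⟶ Y)
    [IsProper f] [LocallyOfFinitePresentation f] (hinj : ∀ V : Y.Opens, Function.Injective (f.app V)) :
    Flat f ↔ Flat (pullback.fst f f) := by
  refine ⟨fun _ => inferInstance, fun hfl => ?_⟩
  have hsnd : Flat (pullback.snd f f) := by
    rw [← pullbackSymmetry_hom_comp_fst]
    infer_instance
  refine (Flat.iff_flat_stalkMap f).2 fun x => (Groth.Agent.H46.FibreProf.Unit.isFlatOverAt_structureModule f x).1 ?_
  haveI : Coh.IsQCoh (Coh.structureModule X) := Groth.Agent.Lib.CurveBundle.Coherent.isQCoh_unit X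
  refine Groth.Agent.S4854.result f _ (Groth.Agent.H46.FibreProf.Unit.isFP_structureModule X) x f
    (fun V s hV hs => ⟨V, hV, le_rfl, by rw [hinj V (hs.trans (map_zero _).symm), map_zero]⟩) ?_
  intro x' _
  exact isFlatOverAt_pullback_unit _ _ x' (Flat.stalkMap (pullback.snd f f) x')

end Groth.Agent.S4855
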