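import Groth.Statements.S4858
import Groth.Agent.H47.QuasiHomeo
import Mathlib.Tactic.TFAE

set_option autoImplicit false
universe u
open EGA43

namespace Groth.Agent.S4858

/-- Conditions a), a′), c), c′) (very dense subsets): for a subset X₀ of a topological space X the
following are equivalent: every nonempty locally closed subset of X meets X₀; every closed subset Z
of X equals the closure of Z ∩ X₀; the map U ↦ U ∩ X₀ is injective on open subsets of X; the map F ↦
F ∩ X₀ is injective on closed subsets of X. -/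
theorem result {X : Type u} [TopologicalSpace X] (X₀ : Set X) :
    [∀ Z : Set X, IsLocallyClosed Z → Z.Nonempty → (Z ∩ X₀).Nonempty,
      ∀ Z : Set X, IsClosed Z → closure (Z ∩ X₀) = Z,
      ∀ U V : Set X, IsOpen U → IsOpen V → U ∩ X₀ = V ∩ X₀ → U = V,
      ∀ F F' : Set X, IsClosed F → IsClosed F' → F ∩ X₀ = F' ∩ X₀ → F = F'].TFAE := by
  tfae_have 1 → 3 := fun h U V hU hV e ↦
    (Groth.Agent.H47.QuasiHomeo.qh_val_iff_vd.2 h).1 U V hU hV
      (Subtype.preimage_coe_eq_preimage_coe_iff.2 (by rwa [Set.inter_comm, Set.inter_comm X₀]))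
  tfae_have 3 → 4 := fun h F F' hF hF' e ↦ compl_injective
    (h Fᶜ F'ᶜ hF.isOpen_compl hF'.isOpen_compl (by
      ext x
      have := Set.ext_iff.1 e x
      simp at this ⊢
      tauto))
  tfae_have 4 → 2 := fun h Z hZ ↦ h _ Z isClosed_closure hZ
    (Set.Subset.antisymm (Set.inter_subset_inter_left _ (closure_minimal Set.inter_subset_left hZ))
      fun x hx ↦ ⟨subset_closure hx, hx.2⟩)
  tfae_have 2 → 1 := by
    rintro h _ ⟨U, F, hU, hF, rfl⟩ ⟨x, hxU, hxF⟩
    by_contra hne
    have h1 : F ∩ X₀ ⊆ F \ U := fun y hy ↦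
      ⟨hy.1, fun hyU ↦ hne ⟨y, ⟨hyU, hy.1⟩, hy.2⟩⟩
    have h2 := closure_minimal h1 (hF.sdiff hU)
    rw [h F hF] at h2
    exact (h2 hxF).2 hxU
  tfae_finish

end Groth.Agent.S4858
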