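import Groth.Statements.S4859
import Groth.Agent.H47.QuasiHomeo
import Mathlib.Tactic.TFAE
import Mathlib.Topology.Sets.Closeds

set_option autoImplicit false
universe u
open EGA43

namespace Groth.Agent.S4859

/-- Conditions a), a′), b) (quasi-homeomorphisms): for a continuous map f : X₀ → X the following are
equivalent: taking preimages is a bijection from the open subsets of X onto the open subsets of X₀;
taking preimages is a bijection from the closed subsets of X onto the closed subsets of X₀; the
topology of X₀ is induced from X through f and the image f(X₀) is very dense in X, in the sense that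
two open subsets of X with the same trace on f(X₀) coincide. -/
theorem result {X₀ X : Type u} [TopologicalSpace X₀] [TopologicalSpace X]
    (f : X₀ → X) (hf : Continuous f) :
    [Function.Bijective (fun U : TopologicalSpace.Opens X =>
        (⟨f ⁻¹' (U : Set X), U.isOpen.preimage hf⟩ : TopologicalSpace.Opens X₀)),
      Function.Bijective (fun F : TopologicalSpace.Closeds X =>
        (⟨f ⁻¹' (F : Set X), F.isClosed.preimage hf⟩ : TopologicalSpace.Closeds X₀)),
      Topology.IsInducing f ∧
        ∀ U V : Set X, IsOpen U → IsOpen V → U ∩ Set.range f = V ∩ Set.range f → U = V].TFAE := by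
  tfae_have 1 ↔ 3 := by
    rw [← Groth.Agent.H47.QuasiHomeo.qh_iff_bijective hf]
    constructor
    · refine fun h ↦ ⟨⟨TopologicalSpace.ext_iff_isClosed.2 fun s ↦ ?_⟩, fun U V hU hV e ↦ h.1 U V hU hV ?_⟩
      · rw [isClosed_induced_iff]
        exact ⟨h.surj_closed, fun ⟨t, ht, e⟩ ↦ e ▸ ht.preimage hf⟩
      · rw [← Set.preimage_inter_range (f := f) (s := U), e, Set.preimage_inter_range]
    · rintro ⟨hi, h⟩
      refine ⟨fun U V hU hV e ↦ h U V hU hV ?_, fun V hV ↦ hi.isOpen_iff.1 hV⟩
      rw [← Set.image_preimage_eq_inter_range, e, Set.image_preimage_eq_inter_range]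
  tfae_have 1 ↔ 2 := by
    have hc : (fun F : TopologicalSpace.Closeds X =>
        (⟨f ⁻¹' (F : Set X), F.isClosed.preimage hf⟩ : TopologicalSpace.Closeds X₀)) =
        TopologicalSpace.Opens.compl ∘ (fun U : TopologicalSpace.Opens X =>
        (⟨f ⁻¹' (U : Set X), U.isOpen.preimage hf⟩ : TopologicalSpace.Opens X₀)) ∘
        TopologicalSpace.Closeds.compl := by
      funext F; ext x; simp
    rw [hc, (TopologicalSpace.Opens.compl_bijective (α := X₀)).of_comp_iff',
      Function.Bijective.of_comp_iff _ TopologicalSpace.Closeds.compl_bijective]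
  tfae_finish

end Groth.Agent.S4859
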