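import Groth.Statements.S4860
import Groth.Agent.H47.SemiLocal
import Mathlib.Tactic.TFAE

set_option autoImplicit false
universe u
open EGA43

namespace Groth.Agent.S4860

/-- For an integral domain B the following are equivalent: a) the localization B_f is a field for some
nonzero f; b) the fraction field of B is a finitely generated B-algebra; c) there is a field
containing B (an injective algebra map from B) which is a finitely generated B-algebra; d) the
generic point of Spec B is open. -/
theorem result (B : Type u) [CommRing B] [IsDomain B] :
    [∃ f : B, f ≠ 0 ∧ IsField (Localization.Away f),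
      Algebra.FiniteType B (FractionRing B),
      ∃ (K : Type u) (_ : Field K) (_ : Algebra B K), Function.Injective (algebraMap B K) ∧ Algebra.FiniteType B K,
      IsOpen ({⟨⊥, Ideal.bot_prime⟩} : Set (PrimeSpectrum B))].TFAE := by
  tfae_have 1 ↔ 4 := Groth.Agent.H47.SemiLocal.isOpen_generic_iff.symm
  tfae_have 1 → 2 := by
    rintro ⟨f, hf, hfield⟩
    let := hfield.toField
    have hle : Submonoid.powers f ≤ nonZeroDivisors B := powers_le_nonZeroDivisors_of_noZeroDivisors hf
    let φ : Localization.Away f →ₐ[B] FractionRing B :=
      IsLocalization.liftAlgHom (M := Submonoid.powers f) (f := Algebra.ofId B (FractionRing B))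
        fun y ↦ IsLocalization.map_units (FractionRing B) (⟨y, hle y.2⟩ : nonZeroDivisors B)
    refine Algebra.FiniteType.of_surjective φ fun z ↦ ?_
    obtain ⟨a, b, hb, rfl⟩ := IsFractionRing.div_surjective (A := B) z
    exact ⟨algebraMap B _ a / algebraMap B _ b, by
      rw [map_div₀, AlgHom.commutes, AlgHom.commutes]⟩
  tfae_have 2 → 3 := fun h ↦
    ⟨FractionRing B, inferInstance, inferInstance, IsFractionRing.injective B _, h⟩
  tfae_have 3 → 1 := fun ⟨K, _, _, hinj, hft⟩ ↦
    Groth.Agent.H47.SemiLocal.exists_isField_away_of_finiteType hinj
  tfae_finish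

end Groth.Agent.S4860
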