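import Groth.Statements.S4861
import Groth.Agent.H47.SemiLocal
import Mathlib.Tactic.TFAE

set_option autoImplicit false
universe u
open EGA43

namespace Groth.Agent.S4861

/-- For a Noetherian integral domain B the following are equivalent (and hence equivalent to: the
fraction field of B is a finitely generated B-algebra; the generic point of Spec B is open): a) the
localization B_f is a field for some nonzero f; e) Spec B is finite; f) B is semi-local (finitely
many maximal ideals) of Krull dimension at most 1. -/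
theorem result (B : Type u) [CommRing B] [IsDomain B]
    [IsNoetherianRing B] :
    [∃ f : B, f ≠ 0 ∧ IsField (Localization.Away f),
      Finite (PrimeSpectrum B),
      Finite (MaximalSpectrum B) ∧ ringKrullDim B ≤ 1].TFAE := by
  tfae_have 1 → 3 := by
    rintro ⟨f, hf, hfield⟩
    obtain ⟨h1, h2⟩ := Groth.Agent.H47.GDomain.key_domain hf
      ((Groth.Agent.H47.SemiLocal.isField_away_iff hf).1 hfield)
    have := Groth.Agent.H47.SemiLocal.dim_le_one h1
    exact ⟨Finite.of_injective MaximalSpectrum.toPrimeSpectrum MaximalSpectrum.toPrimeSpectrum_injective,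
      Ring.krullDimLE_iff.1 this⟩
  tfae_have 3 → 2 := by
    rintro ⟨hfin, hdim⟩
    have : Ring.KrullDimLE 1 B := Ring.krullDimLE_iff.2 hdim
    refine Finite.of_surjective (α := Option (MaximalSpectrum B))
      (fun o ↦ o.elim ⟨⊥, Ideal.isPrime_bot⟩ MaximalSpectrum.toPrimeSpectrum) fun P ↦ ?_
    by_cases h : P.asIdeal = ⊥
    · exact ⟨none, PrimeSpectrum.ext h.symm⟩
    · exact ⟨some ⟨P.asIdeal, Ideal.isMaximal_of_isPrime_of_ne_bot P.asIdeal h⟩, rfl⟩
  tfae_have 2 → 1 := by
    classical
    intro h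
    have := Fintype.ofFinite (PrimeSpectrum B)
    have hx : ∀ P : PrimeSpectrum B, ∃ x : B, x ≠ 0 ∧ (P.asIdeal ≠ ⊥ → x ∈ P.asIdeal) := fun P ↦ by
      by_cases h : P.asIdeal = ⊥
      · exact ⟨1, one_ne_zero, fun h' ↦ absurd h h'⟩
      · obtain ⟨x, hx, hx0⟩ := Submodule.exists_mem_ne_zero_of_ne_bot h
        exact ⟨x, hx0, fun _ ↦ hx⟩
    choose x hx0 hx using hx
    have hf : (∏ P, x P) ≠ 0 := Finset.prod_ne_zero_iff.2 fun P _ ↦ hx0 P
    exact ⟨_, hf, (Groth.Agent.H47.SemiLocal.isField_away_iff hf).2 fun P hP hPb ↦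
      P.mem_of_dvd (Finset.dvd_prod_of_mem x (Finset.mem_univ ⟨P, hP⟩)) (hx ⟨P, hP⟩ hPb)⟩
  tfae_finish

end Groth.Agent.S4861
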