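import Groth.Statements.S4862
import Groth.Agent.H47.SemiLocal
import Mathlib.Tactic.TFAE

set_option autoImplicit false
universe u
open EGA43

namespace Groth.Agent.S4862

/-- For a commutative ring A the following are equivalent: a) A is a Jacobson ring; b) for every prime
ideal p of A which is not maximal and every nonzero f of B = A/p, the localization B_f is not a
field; b′) every finitely generated A-algebra which is a field is a finite A-module. -/
theorem result (A : Type u) [CommRing A] :
    [IsJacobsonRing A,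
      ∀ (p : Ideal A) [p.IsPrime], ¬ p.IsMaximal → ∀ f : A ⧸ p, f ≠ 0 → ¬ IsField (Localization.Away f),
      ∀ (K : Type u) [Field K] [Algebra A K], Algebra.FiniteType A K → Module.Finite A K].TFAE := by
  tfae_have 1 → 3 := fun h K _ _ hft ↦ finite_of_finite_type_of_isJacobsonRing A K
  tfae_have 3 → 2 := by
    intro h p _ hp f hf hfield
    let := hfield.toField
    have hft : Algebra.FiniteType A (Localization.Away f) := Algebra.FiniteType.trans (S := A ⧸ p) inferInstance inferInstance
    have := h (Localization.Away f) hft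
    have : Module.Finite (A ⧸ p) (Localization.Away f) := Module.Finite.of_restrictScalars_finite A _ _
    have hint : Algebra.IsIntegral (A ⧸ p) (Localization.Away f) := inferInstance
    exact hp (Ideal.Quotient.maximal_of_isField p (isField_of_isIntegral_of_isField
      (S := Localization.Away f) (IsLocalization.injective _
        (powers_le_nonZeroDivisors_of_noZeroDivisors hf)) hfield))
  tfae_have 2 → 1 := by
    intro h
    refine isJacobsonRing_iff_prime_eq.2 fun P hP ↦ le_antisymm (fun x hx ↦ by_contra fun hxP ↦ ?_) Ideal.le_jacobson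
    obtain ⟨Q, hPQ, hQmax⟩ := zorn_le_nonempty₀
      {q : Ideal A | Disjoint (q : Set A) (Submonoid.powers x)} (fun c hc hc' y hy ↦ by
        refine ⟨sSup c, Set.disjoint_left.mpr fun z hz ↦ ?_, fun _ ↦ le_sSup⟩
        have : Nonempty c := ⟨⟨y, hy⟩⟩
        obtain ⟨q, hq⟩ := (Submodule.mem_iSup_of_directed _ hc'.directed).mp (sSup_eq_iSup' c ▸ hz)
        exact Set.disjoint_left.mp (hc q.2) hq) P
      (Set.disjoint_left.2 fun y hy hy' ↦ by
        obtain ⟨n, rfl⟩ := hy'
        exact hxP (hP.mem_of_pow_mem n hy))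
    have hQdis : Disjoint (Q : Set A) (Submonoid.powers x) := hQmax.1
    have hQ : Q.IsPrime := Ideal.isPrime_of_maximally_disjoint _ _ hQdis fun _ ↦ hQmax.not_prop_of_gt
    have hxQ : x ∉ Q := fun hxQ ↦ Set.disjoint_left.1 hQdis hxQ (Submonoid.mem_powers x)
    have hQnm : ¬ Q.IsMaximal := fun hm ↦ hxQ (Ideal.mem_sInf.1 hx ⟨hPQ, hm⟩)
    have hf : Ideal.Quotient.mk Q x ≠ 0 := fun e ↦ hxQ (Ideal.Quotient.eq_zero_iff_mem.1 e)
    refine h Q hQnm _ hf ((Groth.Agent.H47.SemiLocal.isField_away_iff hf).2 fun R hR hRb ↦ ?_)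
    by_contra hxR
    have hle : Q ≤ R.comap (Ideal.Quotient.mk Q) := fun q hq ↦ by
      simp [Ideal.mem_comap, Ideal.Quotient.eq_zero_iff_mem.2 hq]
    have heq : R.comap (Ideal.Quotient.mk Q) = Q := hQmax.2 (Set.disjoint_left.2 fun y hy hy' ↦ by
      obtain ⟨n, rfl⟩ := hy'
      exact hxR (hR.mem_of_pow_mem n (by simpa using hy))) hle |>.antisymm hle
    exact hRb (by rw [← Ideal.map_comap_of_surjective _ Ideal.Quotient.mk_surjective R, heq,
      Ideal.map_quotient_self])
  tfae_finish

end Groth.Agent.S4862
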