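import Groth.Statements.S4864
import Groth.Agent.H19.FlatLocus.Scheme

set_option autoImplicit false
universe u
open EGA43

namespace Groth.Agent.S4864

open AlgebraicGeometry CategoryTheory Limits in
/-- Let f : X ⟶ Y and g : Y ⟶ Z be morphisms of finite presentation and F a quasi-coherent O_X-module of
finite presentation. Then the set U of points y of Y such that, for every generization y' of y, F is
(f ≫ g)-flat at every point of X above y', is open in Y. -/
theorem result {X Y Z : Scheme.{u}} (f : X ⟶ Y) (g : Y ⟶ Z)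
    [LocallyOfFinitePresentation f] [QuasiCompact f] [QuasiSeparated f]
    [LocallyOfFinitePresentation g] [QuasiCompact g] [QuasiSeparated g]
    (F : X.Modules) [Coh.IsQCoh F] (hF : CohB1.IsFP F) :
    IsOpen {y : Y | ∀ y' : Y, y' ⤳ y → ∀ x : X, f x = y' → FlatMod.IsFlatOverAt (f ≫ g) F x} := by
  have : F.IsQuasicoherent := inferInstanceAs (Coh.IsQCoh F)
  have : SheafOfModules.IsFinitePresentation (R := X.ringCatSheaf) F := hF
  have hopen := H19.FlatLocus.Scheme.isOpen_isFlatOverAt (f ≫ g) F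
  rw [isOpen_iff_forall_mem_open]
  intro y hy
  obtain ⟨V, hV, hyV, -⟩ := exists_isAffineOpen_mem_and_subset (X := Y) (x := y) (U := ⊤) trivial
  let Z : Set X := {x | FlatMod.IsFlatOverAt (f ≫ g) F x}ᶜ
  -- each affine piece of the preimage
  have key : ∀ U : X.Opens, IsAffineOpen U → U ≤ f ⁻¹ᵁ V →
      ∃ b : Γ(Y, V), y ∈ Y.basicOpen b ∧ ∀ x ∈ U, x ∈ Z → f x ∉ Y.basicOpen b := by
    intro U hU hUV
    obtain ⟨I, hI⟩ := (PrimeSpectrum.isClosed_iff_zeroLocus_ideal _).1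
      (hopen.isClosed_compl.preimage hU.fromSpec.continuous)
    let φ := (f.appLE V U hUV).hom
    let q := hV.primeIdealOf ⟨y, hyV⟩
    have hb : ∃ b : Γ(Y, V), b ∉ q.asIdeal ∧ φ b ∈ I := by
      by_contra hne
      have hd : Disjoint (I : Set Γ(X, U)) (q.asIdeal.primeCompl.map φ : Set Γ(X, U)) := by
        rw [Set.disjoint_right]
        rintro _ ⟨b, hb, rfl⟩ h
        exact hne ⟨b, hb, h⟩
      obtain ⟨Q, hQ, hIQ, hQd⟩ := Ideal.exists_le_prime_disjoint I _ hd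
      let Q' : PrimeSpectrum Γ(X, U) := ⟨Q, hQ⟩
      have hsp : f (hU.fromSpec Q') ⤳ y := by
        have e : f (hU.fromSpec Q') = hV.fromSpec (PrimeSpectrum.comap φ Q') := by
          show (hU.fromSpec ≫ f) Q' = _
          rw [← hV.SpecMap_appLE_fromSpec f hU hUV]
          rfl
        rw [e, show y = hV.fromSpec q from (hV.fromSpec_primeIdealOf ⟨y, hyV⟩).symm]
        refine Specializes.map ?_ hV.fromSpec.continuous
        exact (PrimeSpectrum.le_iff_specializes (PrimeSpectrum.comap φ Q') q).1 fun b hb ↦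
          by_contra fun hbq ↦ Set.disjoint_left.1 hQd hb ⟨b, hbq, rfl⟩
      have hmem : Q' ∈ PrimeSpectrum.zeroLocus (I : Set Γ(X, U)) := hIQ
      rw [← hI] at hmem
      exact hmem (hy _ hsp _ rfl)
    obtain ⟨b, hbq, hbI⟩ := hb
    refine ⟨b, ?_, fun x hx hxZ hxb ↦ ?_⟩
    · rw [show y = hV.fromSpec q from (hV.fromSpec_primeIdealOf ⟨y, hyV⟩).symm]
      show hV.primeIdealOf ⟨y, hyV⟩ ∈ hV.fromSpec ⁻¹ᵁ Y.basicOpen b
      rw [hV.fromSpec_preimage_basicOpen]
      exact hbq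
    · have h1 : hU.primeIdealOf ⟨x, hx⟩ ∈ PrimeSpectrum.zeroLocus (I : Set Γ(X, U)) := by
        rw [← hI]
        show hU.fromSpec (hU.primeIdealOf ⟨x, hx⟩) ∈ Z
        rwa [hU.fromSpec_primeIdealOf]
      have h2 : x ∈ X.basicOpen (f.appLE V U hUV b) := by
        rw [Scheme.basicOpen_appLE]
        exact ⟨hx, hxb⟩
      have h3 : hU.primeIdealOf ⟨x, hx⟩ ∈ hU.fromSpec ⁻¹ᵁ X.basicOpen (f.appLE V U hUV b) := by
        show hU.fromSpec (hU.primeIdealOf ⟨x, hx⟩) ∈ X.basicOpen (f.appLE V U hUV b)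
        rw [hU.fromSpec_primeIdealOf]
        exact h2
      rw [hU.fromSpec_preimage_basicOpen] at h3
      exact h3 (h1 hbI)
  have hc : IsCompact ((f ⁻¹ᵁ V : X.Opens) : Set X) := f.isCompact_preimage hV.isCompact
  obtain ⟨s, hs, hcov⟩ := isCompact_iff_finite_and_eq_biUnion_affineOpens.1 hc
  have hle : ∀ U ∈ s, (U : X.Opens) ≤ f ⁻¹ᵁ V := fun U hU ↦
    hcov.symm ▸ le_iSup₂_of_le (f := fun (i : X.affineOpens) (_ : i ∈ s) ↦ (i : X.Opens)) U hU le_rfl
  choose b hyb hb using fun U : s ↦ key U.1 U.1.2 (hle U.1 U.2)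
  have := hs.to_subtype
  refine ⟨(V : Set Y) ∩ ⋂ U : s, (Y.basicOpen (b U) : Set Y), fun y' hy' z hz x hx ↦ ?_,
    V.2.inter (isOpen_iInter_of_finite fun U ↦ (Y.basicOpen (b U)).2),
    hyV, Set.mem_iInter.2 hyb⟩
  by_contra hxZ
  have hzV : z ∈ V := hz.mem_open V.2 hy'.1
  have hxf : x ∈ f ⁻¹ᵁ V := by show f x ∈ V; rw [hx]; exact hzV
  rw [hcov] at hxf
  obtain ⟨U, hU, hxU⟩ : ∃ U ∈ s, x ∈ (U : X.Opens) := by simpa only [TopologicalSpace.Opens.mem_iSup, exists_prop] using hxf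
  exact hb ⟨U, hU⟩ x hxU hxZ (hx ▸ hz.mem_open (Y.basicOpen _).2 (Set.mem_iInter.1 hy'.2 ⟨U, hU⟩))

end Groth.Agent.S4864
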