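import Groth.Statements.S4865
import Groth.Agent.H19.FlatLocus.Main

set_option autoImplicit false
universe u
open EGA43

namespace Groth.Agent.S4865

/-- Let A be a commutative ring, B a finitely presented A-algebra, C a finitely presented B-algebra and
M a finitely presented C-module. Then the set of prime ideals q of B such that the localized module
M_q (M regarded as a B-module) is flat over A is open in Spec B. -/
theorem result {A B C : Type u} [CommRing A] [CommRing B] [CommRing C]
    [Algebra A B] [Algebra B C] [Algebra A C] [IsScalarTower A B C]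
    [Algebra.FinitePresentation A B] [Algebra.FinitePresentation B C]
    (M : Type u) [AddCommGroup M] [Module C M] [Module B M] [Module A M]
    [IsScalarTower B C M] [IsScalarTower A C M] [IsScalarTower A B M] [Module.FinitePresentation C M] :
    IsOpen {q : PrimeSpectrum B | Module.Flat A (LocalizedModule q.asIdeal.primeCompl M)} := by
  have : Algebra.FinitePresentation A C := Algebra.FinitePresentation.trans A B C
  let U : Set (PrimeSpectrum C) :=
    {Q | Module.Flat A (LocalizedModule Q.asIdeal.primeCompl M)}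
  have hU : IsOpen U := H19.FlatLocus.isOpen_flat_of_finitePresentation
  have kB := fun q : PrimeSpectrum B ↦ H19.FlatLocus.flat_iff_killed (R := A) q.asIdeal.primeCompl
    (LocalizedModule.mkLinearMap q.asIdeal.primeCompl M)
  have kC := fun q : PrimeSpectrum C ↦ H19.FlatLocus.flat_iff_killed (R := A) q.asIdeal.primeCompl
    (LocalizedModule.mkLinearMap q.asIdeal.primeCompl M)
  have hsmul : ∀ (J : Ideal A) (b : B) (y : TensorProduct A M J), algebraMap B C b • y = b • y :=
    fun J b y ↦ algebraMap_smul C b y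
  rw [isOpen_iff_forall_mem_open]
  intro q hq
  obtain ⟨I, hI⟩ := (PrimeSpectrum.isClosed_iff_zeroLocus_ideal _).1 hU.isClosed_compl
  have hI' : ∀ Q : PrimeSpectrum C, Q ∉ U ↔ I ≤ Q.asIdeal := fun Q ↦ by
    rw [← Set.mem_compl_iff, hI, PrimeSpectrum.mem_zeroLocus, SetLike.coe_subset_coe]
  have hb : ∃ b : B, b ∉ q.asIdeal ∧ algebraMap B C b ∈ I := by
    by_contra hne
    have hd : Disjoint (I : Set C) (q.asIdeal.primeCompl.map (algebraMap B C) : Set C) := by
      rw [Set.disjoint_right]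
      rintro _ ⟨b, hb, rfl⟩ h
      exact hne ⟨b, hb, h⟩
    obtain ⟨Q, hQ, hIQ, hQd⟩ := Ideal.exists_le_prime_disjoint I _ hd
    refine (hI' ⟨Q, hQ⟩).2 hIQ ((kC ⟨Q, hQ⟩).2 fun J y hy ↦ ?_)
    obtain ⟨b, hb, hby⟩ := (kB q).1 hq J y hy
    exact ⟨algebraMap B C b, fun h ↦ Set.disjoint_left.1 hQd h ⟨b, hb, rfl⟩,
      (hsmul J b y).trans hby⟩
  obtain ⟨b, hbq, hbI⟩ := hb
  refine ⟨_, fun q' (hq' : b ∉ q'.asIdeal) ↦ (kB q').2 fun J y hy ↦ ?_,
    (PrimeSpectrum.basicOpen b).2, hbq⟩
  by_contra hne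
  let Ann : Ideal C := LinearMap.ker (LinearMap.toSpanSingleton C _ y)
  have hd : Disjoint (Ann : Set C) (q'.asIdeal.primeCompl.map (algebraMap B C) : Set C) := by
    rw [Set.disjoint_right]
    rintro _ ⟨b', hb', rfl⟩ h
    exact hne ⟨b', hb', (hsmul J b' y).symm.trans h⟩
  obtain ⟨Q, hQ, hAQ, hQd⟩ := Ideal.exists_le_prime_disjoint Ann _ hd
  have hQU : (⟨Q, hQ⟩ : PrimeSpectrum C) ∈ U := by
    by_contra h
    exact Set.disjoint_left.1 hQd ((hI' ⟨Q, hQ⟩).1 h hbI) ⟨b, hq', rfl⟩
  obtain ⟨c, hc, hcy⟩ := (kC ⟨Q, hQ⟩).1 hQU J y hy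
  exact hc (hAQ hcy)

end Groth.Agent.S4865
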