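import Groth.Statements.S4866
import Groth.Agent.H68.RegFibreOpen
import Groth.Agent.H19.FlatLocus.Scheme
import Groth.Agent.Lib.CohBasics.Affine

set_option autoImplicit false
universe u
open EGA43

namespace Groth.Agent.S4866

open AlgebraicGeometry CategoryTheory Limits in
/-- Let Y be a locally Noetherian scheme, f : X ⟶ Y locally of finite type, F a coherent f-flat
O_X-module and g₁, …, gₙ sections of O_X over X. Then the set of points x of X, with y = f x, such
that the germs (gᵢ)_x form a weakly regular sequence on the fibre module F_x / m_y F_x (each gᵢ is a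
non-zero-divisor on the quotient by the preceding ones; the quotient by all of them may be zero) is
open in X. -/
theorem result {X Y : Scheme.{u}} [IsLocallyNoetherian Y] (f : X ⟶ Y)
    [LocallyOfFiniteType f] (F : X.Modules) (hF : Coh.IsCoh F) (hflat : FlatMod.IsFlatOver f F)
    (n : ℕ) (g : Fin n → Γ(X, ⊤)) :
    IsOpen {x : X |
      RingTheory.Sequence.IsWeaklyRegular
        (↑(F.presheaf.stalk x) ⧸ (Ideal.map (f.stalkMap x).hom (IsLocalRing.maximalIdeal ↑(Y.presheaf.stalk (f x))) •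
          (⊤ : Submodule ↑(X.presheaf.stalk x) ↑(F.presheaf.stalk x))))
        (List.ofFn fun i => (X.presheaf.germ ⊤ x trivial) (g i))} := by
  haveI := hF.1
  haveI : SheafOfModules.IsFiniteType (R := X.ringCatSheaf) F := hF.2
  rw [isOpen_iff_forall_mem_open]
  intro x hx
  obtain ⟨V, hV, hxV, -⟩ := exists_isAffineOpen_mem_and_subset (X := Y) (x := f x) (U := ⊤) trivial
  obtain ⟨U, hU, hxU, hUV⟩ := exists_isAffineOpen_mem_and_subset (X := X) (x := x) (U := f ⁻¹ᵁ V) hxV
  letI : Algebra Γ(Y, V) Γ(X, U) := (f.appLE V U hUV).hom.toAlgebra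
  letI : Module Γ(Y, V) Γ(F, U) := Module.compHom Γ(F, U) (f.appLE V U hUV).hom
  haveI : IsScalarTower Γ(Y, V) Γ(X, U) Γ(F, U) := IsScalarTower.of_algebraMap_smul fun _ _ ↦ rfl
  haveI : IsNoetherianRing Γ(Y, V) := IsLocallyNoetherian.component_noetherian ⟨V, hV⟩
  haveI : Algebra.FiniteType Γ(Y, V) Γ(X, U) :=
    HasRingHomProperty.appLE @LocallyOfFiniteType f inferInstance ⟨V, hV⟩ ⟨U, hU⟩ hUV
  haveI : Module.Finite Γ(X, U) Γ(F, U) :=
    Groth.Agent.Lib.CohBasics.Affine.finite_sections (M := F) hU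
  let gs : List Γ(X, U) := List.ofFn fun i => X.presheaf.map (homOfLE (le_top : U ≤ ⊤)).op (g i)
  refine Groth.Agent.H19.FlatLocus.Scheme.exists_nhd_of_chart hU _ _
    (Groth.Agent.H68.RegFibreOpen.isOpen_regSeq (R := Γ(Y, V)) gs Γ(F, U)) (fun y hy => ?_) hxU hx
  have hfl : Module.Flat Γ(Y, V) (LocalizedModule (hU.primeIdealOf ⟨y, hy⟩).asIdeal.primeCompl Γ(F, U)) :=
    (Groth.Agent.H19.FlatLocus.Scheme.isFlatOverAt_iff f F hV hU hUV hy).1 (hflat y)
  set Q := hU.primeIdealOf ⟨y, hy⟩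
  letI algX := TopCat.Presheaf.algebra_section_stalk X.presheaf (⟨y, hy⟩ : U)
  letI algY := TopCat.Presheaf.algebra_section_stalk Y.presheaf (⟨f y, hUV hy⟩ : V)
  haveI := hU.isLocalization_stalk ⟨y, hy⟩
  haveI := hV.isLocalization_stalk ⟨f y, hUV hy⟩
  letI := Groth.Agent.Lib.StalkLoc.Basic.moduleSections F hy
  haveI := Groth.Agent.Lib.StalkLoc.Basic.isLocalizedModule_germ (M := F) hU hy
  haveI := Groth.Agent.Lib.StalkLoc.Basic.isScalarTower_sections F hy
  let e : LocalizedModule Q.asIdeal.primeCompl Γ(F, U) ≃ₗ[Γ(X, U)] F.presheaf.stalk y :=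
    IsLocalizedModule.iso Q.asIdeal.primeCompl (Groth.Agent.Lib.StalkLoc.Basic.germₗ F hy)
  let m := (IsLocalRing.maximalIdeal ↑(Y.presheaf.stalk (f y))).map (f.stalkMap y).hom
  have hpP : Q.asIdeal.comap (algebraMap Γ(Y, V) Γ(X, U)) = (hV.primeIdealOf ⟨f y, hUV hy⟩).asIdeal :=
    congr($(IsAffineOpen.comap_primeIdealOf_appLE V hV U hU hUV hy).1)
  have hm : m = (Groth.Agent.H68.RegFibreOpen.J Γ(Y, V) Q).map (algebraMap Γ(X, U) (X.presheaf.stalk y)) := by
    rw [Groth.Agent.H68.RegFibreOpen.J, hpP, Ideal.map_map]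
    show (IsLocalRing.maximalIdeal _).map _ = _
    rw [← IsLocalization.AtPrime.map_eq_maximalIdeal (hV.primeIdealOf ⟨f y, hUV hy⟩).asIdeal
      (Y.presheaf.stalk (f y)), Ideal.map_map]
    congr 1
    exact RingHom.ext fun a => Groth.Agent.H19.FlatLocus.Scheme.germ_appLE f hUV hy a
  let P : Submodule (X.presheaf.stalk y) (F.presheaf.stalk y) := m • ⊤
  let eF : (LocalizedModule Q.asIdeal.primeCompl Γ(F, U) ⧸
      Groth.Agent.H68.RegFibreOpen.J Γ(Y, V) Q • (⊤ : Submodule Γ(X, U) _)) ≃ₗ[Γ(X, U)]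
        (↑(F.presheaf.stalk y) ⧸ P) :=
    (Submodule.Quotient.equiv _ (P.restrictScalars Γ(X, U)) e (by
      show _ = (m • (⊤ : Submodule (X.presheaf.stalk y) (F.presheaf.stalk y))).restrictScalars Γ(X, U)
      rw [hm, Ideal.smul_restrictScalars, Submodule.restrictScalars_top, Submodule.map_smul'',
        Submodule.map_top, LinearEquiv.range])).trans
      (Submodule.Quotient.restrictScalarsEquiv Γ(X, U) P)
  have hlist : (List.ofFn fun i => (X.presheaf.germ ⊤ y trivial) (g i)) =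
      gs.map (algebraMap Γ(X, U) (X.presheaf.stalk y)) := by
    rw [List.map_ofFn]
    congr 1
    funext i
    exact (X.presheaf.germ_res_apply (homOfLE (le_top : U ≤ ⊤)) y hy (g i)).symm
  show RingTheory.Sequence.IsWeaklyRegular _ _ ↔ _ ∧ _
  rw [hlist, RingTheory.Sequence.isWeaklyRegular_map_algebraMap_iff, ← eF.isWeaklyRegular_congr gs]
  exact ⟨fun h => ⟨hfl, h⟩, fun h => h.2⟩

end Groth.Agent.S4866
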