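import Groth.Statements.S4867
import Groth.Agent.H47.NoethModule

set_option autoImplicit false
universe u
open CategoryTheory AlgebraicGeometry
open EGA43

namespace Groth.Agent.S4867

/-- Let A be a commutative ring, f : X ⟶ Spec A a morphism of finite presentation, F a quasi-coherent
O_X-module of finite presentation and x a point of X. If F is f-flat at x, then there are a finitely
generated subring A₀ of A, a morphism of finite type f₀ : X₀ ⟶ Spec A₀, a coherent O_{X₀}-module F₀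
and a cartesian square q : X ⟶ X₀ over Spec A ⟶ Spec A₀ together with an isomorphism q^*F₀ ≅ F, such
that F₀ is f₀-flat at q x; and if F is f-flat, F₀ can be chosen f₀-flat. -/
theorem result {A : Type u} [CommRing A] {X : Scheme.{u}}
    (f : X ⟶ Spec (CommRingCat.of A)) [LocallyOfFinitePresentation f] [QuasiCompact f] [QuasiSeparated f]
    (F : X.Modules) [Coh.IsQCoh F] (hF : CohB1.IsFP F) (x : X) :
    (FlatMod.IsFlatOverAt f F x →
      ∃ (A₀ : Subalgebra ℤ A) (_ : A₀.FG) (X₀ : Scheme.{u}) (f₀ : X₀ ⟶ Spec (CommRingCat.of ↥A₀))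
        (_ : LocallyOfFiniteType f₀) (_ : QuasiCompact f₀) (F₀ : X₀.Modules) (_ : Coh.IsCoh F₀) (q : X ⟶ X₀)
        (_ : IsPullback q f f₀ (Spec.map (CommRingCat.ofHom A₀.val.toRingHom)))
        (_ : (Scheme.Modules.pullback q).obj F₀ ≅ F),
        FlatMod.IsFlatOverAt f₀ F₀ (q x)) ∧
    (FlatMod.IsFlatOver f F →
      ∃ (A₀ : Subalgebra ℤ A) (_ : A₀.FG) (X₀ : Scheme.{u}) (f₀ : X₀ ⟶ Spec (CommRingCat.of ↥A₀))
        (_ : LocallyOfFiniteType f₀) (_ : QuasiCompact f₀) (F₀ : X₀.Modules) (_ : Coh.IsCoh F₀) (q : X ⟶ X₀)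
        (_ : IsPullback q f f₀ (Spec.map (CommRingCat.ofHom A₀.val.toRingHom)))
        (_ : (Scheme.Modules.pullback q).obj F₀ ≅ F),
        FlatMod.IsFlatOver f₀ F₀) := by
  let c := H2.Rigid.SubDiagram.cone (CommRingCat.of A)
  have hc : Limits.IsLimit c := H2.Rigid.SubDiagram.isLimitCone (CommRingCat.of A)
  haveI : ∀ i, IsAffine ((H2.Rigid.SubDiagram.diagram (CommRingCat.of A)).obj i) := fun i => inferInstance
  haveI : ∀ (i j : (Finset (CommRingCat.of A))ᵒᵖ) (g : i ⟶ j),
      IsAffineHom ((H2.Rigid.SubDiagram.diagram (CommRingCat.of A)).map g) := fun _ _ g => inferInstance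
  haveI : CompactSpace X := QuasiCompact.compactSpace_of_compactSpace f
  haveI : QuasiSeparatedSpace X := quasiSeparatedSpace_of_quasiSeparated f
  haveI : LocallyOfFinitePresentation (show X ⟶ c.pt from f) := ‹LocallyOfFinitePresentation f›
  obtain ⟨h1, h2⟩ := H47.NoethModule.exists_flat_model hc (show X ⟶ c.pt from f) F hF
  have hfg : ∀ i : (Finset (CommRingCat.of A))ᵒᵖ,
      (Algebra.adjoin ℤ ((i.unop : Finset A) : Set A)).FG :=
    fun i => Subalgebra.fg_def.2 ⟨_, i.unop.finite_toSet, rfl⟩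
  refine ⟨fun hx => ?_, fun hflat => ?_⟩
  · obtain ⟨i, r⟩ := h1 x hx
    exact ⟨_, hfg i, r⟩
  · obtain ⟨i, r⟩ := h2 hflat
    exact ⟨_, hfg i, r⟩

end Groth.Agent.S4867
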