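import Groth.Statements.S4871
import Groth.Agent.Lib.SchDom.DenseScheme
import Groth.Agent.Lib.TensorMod.QCohInv

set_option autoImplicit false
universe u
open CategoryTheory AlgebraicGeometry
open EGA43

namespace Groth.Agent.S4871

open AlgebraicGeometry CategoryTheory Lib.QCoh.Localizing Lib.SchDom
set_option linter.style.haveILetI false

theorem injective_iff {X : Scheme.{u}} {M N : X.Modules} (e : M ≅ N) {W W' : X.Opens} (h : W' ≤ W) :
    Function.Injective (M.presheaf.map (homOfLE h).op) ↔ Function.Injective (N.presheaf.map (homOfLE h).op) := by
  have key : ∀ {M N : X.Modules} (e : M ≅ N), Function.Injective (M.presheaf.map (homOfLE h).op) →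
      Function.Injective (N.presheaf.map (homOfLE h).op) := by
    intro M N e hM a b hab
    have h1 : e.inv.app W a = e.inv.app W b := hM (by
      show res M h (e.inv.app W a) = res M h (e.inv.app W b)
      rw [res_app, res_app]
      exact congrArg (e.inv.app W') hab)
    have h2 := congrArg (e.hom.app W) h1
    simpa [← ConcreteCategory.comp_apply, ← Scheme.Modules.Hom.comp_app] using h2
  exact ⟨key e, key e.symm⟩

open CategoryTheory.Limits in
/-- Let f : X ⟶ S be flat and locally of finite presentation and U an open subscheme of X. Then U is
universally schematically dense in X relative to S, i.e. for every base change S' ⟶ S the preimage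
of U in X ×_S S' is schematically dense, if and only if for every point s of S the trace U_s of U on
the fibre X_s is schematically dense in X_s. -/
theorem result {X S : Scheme.{u}} (f : X ⟶ S) [Flat f]
    [LocallyOfFinitePresentation f] (U : X.Opens) :
    (∀ (S' : Scheme.{u}) (g : S' ⟶ S), CInt.IsSchematicallyDense ((pullback.fst f g) ⁻¹ᵁ U)) ↔
      ∀ s : S, CInt.IsSchematicallyDense ((f.fiberι s) ⁻¹ᵁ U) := by
  haveI := Lib.TensorMod.QCohInv.isQCoh_structureModule X
  constructor
  · intro h s V
    exact h _ (S.fromSpecResidueField s) V
  · intro h S' g W
    have hu := univ_injective_of_fibres (Coh.structureModule X) f U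
      (fun V _ => inferInstanceAs (Module.FinitePresentation Γ(X, V) Γ(X, V)))
      (fun US V eV hUS hV => Scheme.Hom.flat_appLE f hUS hV eV)
      (fun s W => (injective_iff (PicLoc.pullbackStructureIso _) _).2 (h s W)) g W
    exact (injective_iff (PicLoc.pullbackStructureIso (pullback.fst f g)) inf_le_left).1 hu

end Groth.Agent.S4871
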