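import Groth.Statements.S4872
import Mathlib.AlgebraicGeometry.AffineSpace

-- import your own Groth.Agent.* helpers here

set_option autoImplicit false
universe u
open CategoryTheory AlgebraicGeometry
open EGA43

namespace Groth.Agent.S4872

open AlgebraicGeometry CategoryTheory CategoryTheory.Limits
set_option linter.style.haveILetI false

/-- Conditions b), c), d) (schematically dominant families): let p : X ⟶ S be a morphism and (f_i : Z_i
⟶ X) a family of morphisms. The following are equivalent: b) for every open V of X, a section of O_X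
over V whose images in all the Γ(f_i⁻¹(V), O_{Z_i}) are zero is zero; c) for every open U of X, a
closed immersion j : Y ⟶ U through which each restriction f_i⁻¹(U) ⟶ U factors is an isomorphism; d)
for every separated S-scheme X', every open U of X and every pair of S-morphisms u, v : U ⟶ X'
having the same composite with each f_i⁻¹(U) ⟶ U, one has u = v. -/
theorem result {X S : Scheme.{u}} (p : X ⟶ S) {ι : Type u} (Z : ι → Scheme.{u})
    (f : ∀ i, Z i ⟶ X) :
    [(∀ (V : (X).Opens) (t : Γ(X, V)), (∀ i, (f i).app V t = 0) → t = 0),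
      ∀ (U : X.Opens) (Y : Scheme.{u}) (j : Y ⟶ (U : Scheme.{u})), IsClosedImmersion j →
        (∀ i, ∃ g : ((f i) ⁻¹ᵁ U : Scheme.{u}) ⟶ Y, g ≫ j = (f i) ∣_ U) → IsIso j,
      ∀ (X' : Scheme.{u}) (q : X' ⟶ S), IsSeparated q → ∀ (U : X.Opens) (u v : (U : Scheme.{u}) ⟶ X'),
        u ≫ q = U.ι ≫ p → v ≫ q = U.ι ≫ p → (∀ i, ((f i) ∣_ U) ≫ u = ((f i) ∣_ U) ≫ v) → u = v].TFAE := by
  tfae_have 1 → 2 := by
    intro hb U Y j hj hfac
    haveI := hj
    rw [IsClosedImmersion.isIso_iff_ker_eq_bot]
    refine Scheme.IdealSheafData.ext (funext fun W => ?_)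
    rw [Scheme.Hom.ker_apply, Scheme.IdealSheafData.ideal_bot]
    refine (RingHom.injective_iff_ker_eq_bot _).1 ((injective_iff_map_eq_zero _).2 fun a ha => ?_)
    refine hb (U.ι ''ᵁ W.1) a fun i => ?_
    obtain ⟨w, hw⟩ := hfac i
    have key : ∀ m : (f i ⁻¹ᵁ U).toScheme ⟶ (U : Scheme.{u}), m = w ≫ j → m.app W.1 a = 0 := by
      rintro m rfl
      show w.app _ (j.app W.1 a) = 0
      rw [show j.app W.1 a = 0 from ha, map_zero]
    have h1 := key _ hw.symm
    rw [morphismRestrict_app] at h1
    exact (ConcreteCategory.bijective_of_isIso ((Z i).presheaf.map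
      (eqToHom (image_morphismRestrict_preimage (f i) U W.1)).op)).1 (h1.trans (map_zero _).symm)
  tfae_have 2 → 3 := by
    intro hc X' q hq U u v hu hv huv
    haveI := hq
    let δ := pullback.diagonal q
    let w := pullback.lift u v (hu.trans hv.symm)
    haveI := hc U _ (pullback.snd δ w) inferInstance fun i =>
      ⟨pullback.lift ((f i ∣_ U) ≫ u) (f i ∣_ U) (by
        apply pullback.hom_ext <;> simp [δ, w, pullback.diagonal_fst, pullback.diagonal_snd, huv i, pullback.lift_fst, pullback.lift_snd]),
        pullback.lift_snd ..⟩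
    have h1 := congrArg (· ≫ pullback.fst q q) (pullback.condition (f := δ) (g := w))
    have h2 := congrArg (· ≫ pullback.snd q q) (pullback.condition (f := δ) (g := w))
    simp only [Category.assoc, δ, w, pullback.diagonal_fst, pullback.diagonal_snd, pullback.lift_fst,
      pullback.lift_snd, Category.comp_id] at h1 h2
    exact (cancel_epi (pullback.snd δ w)).1 (h1.symm.trans h2)
  tfae_have 3 → 1 := by
    intro hd V t ht
    have h := hd (AffineSpace PUnit.{u+1} S) (AffineSpace PUnit.{u+1} S ↘ S) inferInstance V
      (AffineSpace.homOfVector (V.ι ≫ p) fun _ => V.topIso.inv t) (AffineSpace.homOfVector (V.ι ≫ p) fun _ => 0)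
      (AffineSpace.homOfVector_over _ _) (AffineSpace.homOfVector_over _ _) fun i => by
        rw [AffineSpace.comp_homOfVector, AffineSpace.comp_homOfVector]
        congr 1
        funext k
        show (f i ∣_ V).appTop (V.topIso.inv t) = (f i ∣_ V).appTop 0
        rw [map_zero, morphismRestrict_appTop]
        show (Z i).presheaf.map _ ((f i).app _ (X.presheaf.map (eqToHom V.ι_image_top).op t)) = 0
        rw [show (f i).app (V.ι ''ᵁ ⊤) (X.presheaf.map (eqToHom V.ι_image_top).op t) =
          (Z i).presheaf.map (eqToHom (by rw [V.ι_image_top])).op ((f i).app V t) from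
            congrArg (fun φ => φ.hom t) ((f i).naturality (eqToHom V.ι_image_top).op), ht i, map_zero, map_zero]
    have h0 := congrArg (fun φ => φ.appTop (AffineSpace.coord S PUnit.unit)) h
    simp only [AffineSpace.homOfVector_appTop_coord] at h0
    exact (ConcreteCategory.bijective_of_isIso V.topIso.inv).1 (h0.trans (map_zero _).symm)
  tfae_finish

end Groth.Agent.S4872
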