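import Groth.Statements.S4874
-- import your own Groth.Agent.* helpers here

set_option autoImplicit false
universe u
open CategoryTheory AlgebraicGeometry
open EGA43

namespace Groth.Agent.S4874

open AlgebraicGeometry CategoryTheory CategoryTheory.Limits
set_option linter.style.haveILetI false

/-- Let (f_i : Z_i ⟶ X) be a family of morphisms, g : X' ⟶ X a faithfully flat morphism and f'_i : Z_i
×_X X' ⟶ X' the base changes. If the family (f'_i) is schematically dominant, then so is the family
(f_i). (Schematically dominant: a section of the structure sheaf over an open whose pullback along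
every member of the family vanishes is zero.) -/
theorem result {X X' : Scheme.{u}} {ι : Type u} (Z : ι → Scheme.{u})
    (f : ∀ i, Z i ⟶ X) (g : X' ⟶ X) [Flat g] [Surjective g]
    (h : (∀ (V : (X').Opens) (t : Γ(X', V)), (∀ i, (Limits.pullback.snd (f i) g).app V t = 0) → t = 0)) :
    (∀ (V : (X).Opens) (t : Γ(X, V)), (∀ i, (f i).app V t = 0) → t = 0) := by
  intro V t ht
  have hg : g.app V t = 0 := h _ _ fun i => by
    have key : ∀ q : pullback (f i) g ⟶ X, q = pullback.fst (f i) g ≫ f i → q.app V t = 0 := by
      rintro q rfl
      show (pullback.fst (f i) g).app _ ((f i).app V t) = 0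
      rw [ht i, map_zero]
    exact key _ pullback.condition.symm
  refine TopCat.Presheaf.section_ext X.sheaf V t 0 fun x hx => ?_
  obtain ⟨y, hy⟩ := g.surjective x
  subst hy
  have hinj : Function.Injective (g.stalkMap y) := by
    algebraize [(g.stalkMap y).hom]
    haveI : Module.FaithfullyFlat (X.presheaf.stalk (g y)) (X'.presheaf.stalk y) :=
      @Module.FaithfullyFlat.of_flat_of_isLocalHom _ _ _ _ _ _ _ (Flat.stalkMap g y) (g.toLRSHom.prop y)
    exact ‹RingHom.FaithfullyFlat _›.injective
  refine hinj ?_
  show g.stalkMap y (X.presheaf.germ V (g y) hx t) = g.stalkMap y (X.presheaf.germ V (g y) hx 0)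
  rw [Scheme.Hom.germ_stalkMap_apply, Scheme.Hom.germ_stalkMap_apply, hg, map_zero, map_zero, map_zero]

end Groth.Agent.S4874
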