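import Groth.Statements.S4876
import Groth.Agent.Lib.SchDom.Fibre

set_option autoImplicit false
universe u
open CategoryTheory AlgebraicGeometry
open EGA43

namespace Groth.Agent.S4876

open AlgebraicGeometry CategoryTheory Limits Lib.SchDom
set_option linter.style.haveILetI false

/-- Let p : X ⟶ S be a morphism with X locally Noetherian and (f_i : Z_i ⟶ X) a family of morphisms with
every Z_i flat over S. Then the family (f_i) is universally schematically dominant relative to S,
i.e. for every base change S' ⟶ S the family Z_i ×_S S' ⟶ X ×_S S' is schematically dominant, if and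
only if for every point s of S the family of fibres (Z_i)_s ⟶ X_s is schematically dominant.
(Schematically dominant: a section of the structure sheaf over an open whose pullback along every
member vanishes is zero.) -/
theorem result {X S : Scheme.{u}} [IsLocallyNoetherian X]
    (p : X ⟶ S) {ι : Type u} (Z : ι → Scheme.{u}) (f : ∀ i, Z i ⟶ X) [∀ i, Flat (f i ≫ p)] :
    (∀ (S' : Scheme.{u}) (g : S' ⟶ S),
      (∀ (V : (Limits.pullback p g).Opens) (t : Γ(Limits.pullback p g, V)), (∀ i, (Limits.pullback.map (f i ≫ p) g p g (f i) (𝟙 S') (𝟙 S) (Category.comp_id _) ((Category.comp_id _).trans (Category.id_comp _).symm)).app V t = 0) → t = 0)) ↔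
    ∀ s : S, (∀ (V : (p.fiber s).Opens) (t : Γ(p.fiber s, V)), (∀ i, (MoreMor.fiberMap (f i) p s).app V t = 0) → t = 0) := by
  have hmap : ∀ (s : S) i, MoreMor.fiberMap (f i) p s = pbFam p (S.fromSpecResidueField s) f i := by
    intro s i
    refine pullback.hom_ext ?_ ?_
    · exact (pullback.lift_fst _ _ _).trans (pullback.lift_fst _ _ _).symm
    · exact (pullback.lift_snd _ _ _).trans
        (((Category.comp_id _).symm).trans (pullback.lift_snd _ _ _).symm)
  constructor
  · intro h s V t ht
    exact h _ (S.fromSpecResidueField s) V t fun i => (congr($(hmap s i).app V t)).symm.trans (ht i)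
  · intro h S' g
    have hsd : ∀ s : S, SD (pbFam p (S.fromSpecResidueField s) f) := fun s V t ht =>
      h s V t fun i => (congr($(hmap s i).app V t)).trans (ht i)
    refine sd_of_chartInj p g f fun s => ?_
    obtain ⟨U, hU, hs, -⟩ := exists_isAffineOpen_mem_and_subset (x := s) (U := ⊤) trivial
    refine ⟨U, hU, hs, fun V U' hV hU' eV eU => ?_⟩
    unfold ChartInj
    letI := (p.appLE U V eV).hom.toAlgebra
    letI := (g.appLE U U' eU).hom.toAlgebra
    letI : ∀ x : Σ i, Chart f V i, Algebra Γ(X, V) Γ(Z x.1, x.2.1) :=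
      fun x => ((f x.1).appLE V x.2.1 x.2.2.2).hom.toAlgebra
    letI : ∀ x : Σ i, Chart f V i, Algebra Γ(S, U) Γ(Z x.1, x.2.1) :=
      fun x => ((f x.1 ≫ p).appLE U x.2.1 (x.2.2.2.trans ((f x.1).preimage_mono eV))).hom.toAlgebra
    haveI : ∀ x : Σ i, Chart f V i, IsScalarTower Γ(S, U) Γ(X, V) Γ(Z x.1, x.2.1) := fun x =>
      IsScalarTower.of_algebraMap_eq fun r => (appLE_appLE (f x.1) p eV x.2.2.2 r).symm
    haveI : IsNoetherianRing Γ(X, V) := IsLocallyNoetherian.component_noetherian ⟨V, hV⟩
    haveI : ∀ x : Σ i, Chart f V i, Module.Flat Γ(S, U) Γ(Z x.1, x.2.1) := fun x =>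
      (f x.1 ≫ p).flat_appLE hU x.2.2.1 _
    exact bcInj_of_fibres _ (fun q _ => bcInj_of_fibres_sd p f hsd hU hV eV q) _

end Groth.Agent.S4876
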