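import Groth.Statements.S4877
import Groth.Agent.Lib.SchDom.Scheme

set_option autoImplicit false
universe u
open CategoryTheory AlgebraicGeometry
open EGA43

namespace Groth.Agent.S4877

open AlgebraicGeometry CategoryTheory Limits Lib.SchDom
set_option linter.style.haveILetI false

/-- Let k be a field, X a k-scheme, (f_i : Z_i ⟶ X) a schematically dominant family of morphisms and S'
an arbitrary k-scheme. Then the family of base changes Z_i ×_k S' ⟶ X ×_k S' is schematically
dominant. (Schematically dominant: a section of the structure sheaf over an open whose pullback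
along every member vanishes is zero.) -/
theorem result {k : Type u} [Field k] {X S' : Scheme.{u}}
    (p : X ⟶ Spec (CommRingCat.of k)) (q : S' ⟶ Spec (CommRingCat.of k))
    {ι : Type u} (Z : ι → Scheme.{u}) (f : ∀ i, Z i ⟶ X)
    (h : (∀ (V : (X).Opens) (t : Γ(X, V)), (∀ i, (f i).app V t = 0) → t = 0)) :
    (∀ (V : (Limits.pullback p q).Opens) (t : Γ(Limits.pullback p q, V)), (∀ i, (Limits.pullback.map (f i ≫ p) q p q (f i) (𝟙 S') (𝟙 _) (Category.comp_id _) ((Category.comp_id _).trans (Category.id_comp _).symm)).app V t = 0) → t = 0) := by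
  refine sd_of_chartInj p q f fun s => ⟨⊤, isAffineOpen_top _, trivial, fun V U' hV hU' eV eU => ?_⟩
  unfold ChartInj
  letI := (p.appLE ⊤ V eV).hom.toAlgebra
  letI := (q.appLE ⊤ U' eU).hom.toAlgebra
  letI : ∀ x : Σ i, Chart f V i, Algebra Γ(X, V) Γ(Z x.1, x.2.1) :=
    fun x => ((f x.1).appLE V x.2.1 x.2.2.2).hom.toAlgebra
  letI : ∀ x : Σ i, Chart f V i, Algebra Γ(Spec (CommRingCat.of k), ⊤) Γ(Z x.1, x.2.1) :=
    fun x => ((f x.1 ≫ p).appLE ⊤ x.2.1 (x.2.2.2.trans ((f x.1).preimage_mono eV))).hom.toAlgebra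
  haveI : ∀ x : Σ i, Chart f V i, IsScalarTower Γ(Spec (CommRingCat.of k), ⊤) Γ(X, V) Γ(Z x.1, x.2.1) := fun x =>
    IsScalarTower.of_algebraMap_eq fun r => (appLE_appLE (f x.1) p eV x.2.2.2 r).symm
  have hF : IsField Γ(Spec (CommRingCat.of k), ⊤) :=
    (Scheme.ΓSpecIso (CommRingCat.of k)).commRingCatIsoToRingEquiv.toMulEquiv.isField (Field.toIsField k)
  letI := hF.toField
  have hinj := injHom_of_sd f h hV (Chart f V) (fun i w => w.1) (fun i w => w.2.2) fun i z hz => by
    obtain ⟨W, hW, hzW, hWle⟩ := exists_isAffineOpen_mem_and_subset (x := z) (U := f i ⁻¹ᵁ V) hz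
    exact ⟨⟨W, hW, hWle⟩, hzW⟩
  exact bcInj_of_field _ (injLoc_iff_injHom.2 hinj) _

end Groth.Agent.S4877
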