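import Groth.Statements.S4878
import Mathlib.LinearAlgebra.DirectSum.Finsupp
import Mathlib.Algebra.Module.Projective

set_option autoImplicit false
universe u
open TensorProduct
open EGA43

namespace Groth.Agent.S4878

/-- Let A be a commutative ring, (u_i : M → M_i) a family of A-linear maps whose kernels have zero
intersection, and N a projective A-module. Then the kernels of the maps u_i ⊗ 1 : M ⊗_A N → M_i ⊗_A
N have zero intersection. -/
theorem result {A : Type u} [CommRing A]
    {M : Type u} [AddCommGroup M] [Module A M] {ι : Type u} (M' : ι → Type u)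
    [∀ i, AddCommGroup (M' i)] [∀ i, Module A (M' i)] (u : ∀ i, M →ₗ[A] M' i)
    (hu : ⨅ i, LinearMap.ker (u i) = ⊥)
    (N : Type u) [AddCommGroup N] [Module A N] [Module.Projective A N] :
    ⨅ i, LinearMap.ker ((u i).rTensor N) = ⊥ := by
  classical
  rw [eq_bot_iff]
  intro t ht
  simp only [Submodule.mem_iInf, LinearMap.mem_ker] at ht
  obtain ⟨s, hs⟩ := Module.projective_def.1 ‹Module.Projective A N›
  let π : (N →₀ A) →ₗ[A] N := Finsupp.linearCombination A id
  let e := TensorProduct.finsuppScalarRight A A M N
  have key : ∀ i (y : M ⊗[A] (N →₀ A)) n, u i (e y n) =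
      TensorProduct.finsuppScalarRight A A (M' i) N ((u i).rTensor (N →₀ A) y) n := by
    intro i y n
    induction y using TensorProduct.induction_on with
    | zero => simp
    | add p q hp hq => simp [hp, hq]
    | tmul m c => simp [e, TensorProduct.finsuppScalarRight_apply_tmul_apply]
  have h0 : e (s.lTensor M t) = 0 := by
    ext n
    have : e (s.lTensor M t) n ∈ ⨅ i, LinearMap.ker (u i) := by
      simp only [Submodule.mem_iInf, LinearMap.mem_ker]
      intro i
      rw [key]
      have : (u i).rTensor (N →₀ A) (s.lTensor M t) = s.lTensor (M' i) ((u i).rTensor N t) := by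
        rw [← LinearMap.comp_apply, ← LinearMap.comp_apply, LinearMap.rTensor_comp_lTensor,
          LinearMap.lTensor_comp_rTensor]
      rw [this, ht i, map_zero, map_zero, Finsupp.zero_apply]
    rw [hu] at this
    simpa using this
  have hinv : (π.lTensor M) (s.lTensor M t) = t := by
    rw [← LinearMap.comp_apply, ← LinearMap.lTensor_comp]
    have : π ∘ₗ s = LinearMap.id := LinearMap.ext hs
    rw [this, LinearMap.lTensor_id]
    rfl
  rw [Submodule.mem_bot, ← hinv]
  rw [e.map_eq_zero_iff] at h0
  rw [h0, map_zero]

end Groth.Agent.S4878
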