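import Groth.Statements.S4880
import Groth.Agent.H47.GDomain
import Mathlib.Tactic.TFAE

set_option autoImplicit false
universe u
open CategoryTheory AlgebraicGeometry
open EGA43

namespace Groth.Agent.S4880

/-- For a Noetherian irreducible scheme X the following are equivalent: a) the generic point of X is an
isolated point; b) the underlying set of X is finite; c) X has dimension at most 1 and finitely many
closed points. -/
theorem result (X : Scheme.{u}) [IsNoetherian X]
    [IrreducibleSpace X] :
    [IsOpen ({genericPoint X} : Set X),
      Finite X,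
      topologicalKrullDim X ≤ 1 ∧ {x : X | IsClosed ({x} : Set X)}.Finite].TFAE := by
  have hgen : ∀ x : X, genericPoint X ⤳ x := genericPoint_specializes
  tfae_have 1 → 2 := fun h ↦ by
    have := Groth.Agent.H47.GDomain.finite_closure (X := X) h.isLocallyClosed
    rw [genericPoint_closure] at this
    exact Set.finite_univ_iff.1 this
  tfae_have 2 → 3 := fun h ↦ by
    refine ⟨?_, Set.toFinite _⟩
    rw [topologicalKrullDim, Order.krullDim_le_one_iff]
    intro Z
    have hlc : IsLocallyClosed ({genericPoint X} : Set X) := by
      refine IsOpen.isLocallyClosed ?_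
      have he : ({genericPoint X} : Set X) = (⋃ x ∈ {x : X | x ≠ genericPoint X}, closure {x})ᶜ := by
        ext z
        simp only [Set.mem_singleton_iff, Set.mem_compl_iff, Set.mem_iUnion, not_exists]
        refine ⟨?_, fun hz ↦ by_contra fun hne ↦ hz z hne (subset_closure rfl)⟩
        rintro rfl x hx hmem
        exact hx ((specializes_iff_mem_closure.2 hmem).antisymm (hgen x)).eq
      rw [he]
      exact ((Set.toFinite _).isClosed_biUnion fun x _ ↦ isClosed_closure).isOpen_compl
    by_contra hc
    simp only [not_or, not_isMin_iff, not_isMax_iff] at hc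
    obtain ⟨⟨Z₁, h1⟩, Z₂, h2⟩ := hc
    obtain ⟨w, hw⟩ := QuasiSober.sober Z.2 Z.3
    obtain ⟨y, hy⟩ := QuasiSober.sober Z₁.2 Z₁.3
    obtain ⟨z, hz⟩ := QuasiSober.sober Z₂.2 Z₂.3
    have hwy : w ⤳ y := hw.specializes (h1.le hy.mem)
    have hne : genericPoint X ≠ w := fun e ↦ h2.not_ge fun t _ ↦ by
      show t ∈ Z.carrier
      rw [← hw.def, ← specializes_iff_mem_closure]
      exact e ▸ hgen t
    have := Groth.Agent.H47.GDomain.noChain hlc (hgen w) hne hwy
    exact h1.ne (TopologicalSpace.IrreducibleCloseds.ext (hy.def.symm.trans (this ▸ hw.def)))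
  tfae_have 3 → 1 := by
    rintro ⟨hdim, hfin⟩
    have hcl : ∀ x : X, x ≠ genericPoint X → IsClosed ({x} : Set X) := by
      intro x hx
      rw [topologicalKrullDim, Order.krullDim_le_one_iff] at hdim
      let Z : TopologicalSpace.IrreducibleCloseds X := ⟨closure {x}, isIrreducible_singleton.closure, isClosed_closure⟩
      let T : TopologicalSpace.IrreducibleCloseds X := ⟨Set.univ, IrreducibleSpace.isIrreducible_univ X, isClosed_univ⟩
      rcases hdim Z with hmin | hmax
      · obtain ⟨y, hy, hyc⟩ := IsClosed.exists_closed_singleton (isClosed_closure (s := {x})) ⟨x, subset_closure rfl⟩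
        have hle := hmin (b := ⟨closure {y}, isIrreducible_singleton.closure, isClosed_closure⟩)
          (show closure {y} ⊆ closure {x} from closure_minimal (Set.singleton_subset_iff.2 hy) isClosed_closure)
        have : x = y := ((specializes_iff_mem_closure.2 hy).antisymm
          (specializes_iff_mem_closure.2 (hle (subset_closure rfl)))).eq
        exact this ▸ hyc
      · exact absurd ((hmax (b := T) (Set.subset_univ _)) (Set.mem_univ (genericPoint X)))
          fun h ↦ hx ((specializes_iff_mem_closure.2 h).antisymm (hgen x)).eq
    have he : ({genericPoint X} : Set X) = ({x : X | x ≠ genericPoint X})ᶜ := by ext; simp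
    rw [he]
    refine IsClosed.isOpen_compl (self := ?_)
    have hsub : {x : X | x ≠ genericPoint X}.Finite := hfin.subset fun x hx ↦ hcl x hx
    rw [← Set.biUnion_of_singleton {x : X | x ≠ genericPoint X}]
    exact hsub.isClosed_biUnion fun x hx ↦ hcl x hx
  tfae_finish

end Groth.Agent.S4880
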