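import Groth.Statements.S4881
import Groth.Agent.H46.DimEquiJac

set_option autoImplicit false
universe u
open CategoryTheory AlgebraicGeometry
open EGA43

namespace Groth.Agent.S4881

/-- Let X be a locally Noetherian scheme which is Jacobson, whose local rings are universally catenary,
and whose irreducible components X' are equidimensional in the sense that for every closed point x
of X' the dimension of X' equals the dimension of the set of generizations of x in X'. Then for
every dense open subset U of X, dim U = dim X. -/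
theorem result (X : Scheme.{u}) [IsLocallyNoetherian X] [JacobsonSpace X]
    (h2 : ∀ x : X, CAlg.IsUniversallyCatenary (X.presheaf.stalk x))
    (h3 : ∀ X' ∈ irreducibleComponents (X : Type u), ∀ x ∈ X', IsClosed ({x} : Set X) →
      topologicalKrullDim (↥X' : Type u) = topologicalKrullDim ↥{t : X | t ∈ X' ∧ t ⤳ x})
    (U : Set X) (hU : IsOpen U) (hd : Dense U) :
    topologicalKrullDim ↥U = topologicalKrullDim X := by
  have hX : Groth.Agent.H46.DimEquiJac.Good X := ⟨h2, h3⟩
  have hle := (Topology.IsInducing.subtypeVal (t := U)).topologicalKrullDim_le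
  refine le_antisymm hle ?_
  rcases isEmpty_or_nonempty X with hE | hne
  · exact (IsHomeomorph.topologicalKrullDim_eq _
      (Homeomorph.setCongr (Set.eq_univ_of_forall fun x => isEmptyElim x : U = Set.univ) |>.trans
        (Homeomorph.Set.univ X)).isHomeomorph).ge
  rw [← IsHomeomorph.topologicalKrullDim_eq _ (Homeomorph.Set.univ X).isHomeomorph]
  obtain ⟨u, hu⟩ := hd.nonempty
  have : Nonempty ↥U := ⟨⟨u, hu⟩⟩
  have hB := Groth.Agent.H46.FibreTrdeg.topologicalKrullDim_ne_bot (α := ↥U)
  by_cases htop : topologicalKrullDim ↥U = ⊤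
  · rw [htop]; exact le_top
  obtain ⟨N, hN⟩ : ∃ N : ℕ, topologicalKrullDim ↥U = (N : WithBot ℕ∞) :=
    ⟨_, Groth.Agent.H46.DimData.eq_natCast_toNat hB htop⟩
  rw [hN]
  refine Groth.Agent.H46.DimEquiJac.dim_le_of_forall hX isClosed_univ N fun w _ => ?_
  obtain ⟨θ, hθw, hθ⟩ := Groth.Agent.Lib.Cyc.DimFun.exists_isMaxPt_specializes w
  refine (Groth.Agent.H46.DimEquiJac.cdim_le hX hθw).trans ?_
  obtain ⟨V, hV, hθV, hfin⟩ :=
    Groth.Agent.Lib.Cyc.DimFun.exists_open_finite_maxPts (X := X) isClosed_univ θ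
  have hθU : θ ∈ U := by
    let B : Set X := ⋃ η ∈ {η | η ∈ V ∧ Groth.Agent.Lib.Cyc.DimFun.IsMaxPt η ∧ η ≠ θ}, closure {η}
    have hBc : IsClosed B := Set.Finite.isClosed_biUnion
      (hfin.subset fun η hη => ⟨hη.1, trivial, fun y _ => hη.2.1 y⟩) fun η _ => isClosed_closure
    obtain ⟨v, ⟨hvV, hvB⟩, hvU⟩ := hd.inter_open_nonempty (V ∩ Bᶜ) (hV.inter hBc.isOpen_compl)
      ⟨θ, hθV, by
        simp only [B, Set.mem_compl_iff, Set.mem_iUnion, not_exists]
        exact fun η hη hc => hη.2.2 (hθ η (specializes_iff_mem_closure.mpr hc)).symm.symm⟩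
    obtain ⟨η, hηv, hη⟩ := Groth.Agent.Lib.Cyc.DimFun.exists_isMaxPt_specializes v
    have : η = θ := by
      by_contra hne
      exact hvB (Set.mem_biUnion (⟨hηv.mem_open hV hvV, hη, hne⟩ :
        η ∈ {η | η ∈ V ∧ Groth.Agent.Lib.Cyc.DimFun.IsMaxPt η ∧ η ≠ θ}) hηv.mem_closure)
    exact this ▸ hηv.mem_open hU hvU
  have := (Groth.Agent.H46.DimEquiJac.cdim_le_dim_open_inter hX hU hθU (Set.subset_univ _)).trans
    (le_of_eq (IsHomeomorph.topologicalKrullDim_eq _
      (Homeomorph.setCongr (Set.inter_univ U)).isHomeomorph))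
  rw [hN] at this
  exact_mod_cast this

end Groth.Agent.S4881
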