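import Groth.Statements.S4882
import Groth.Agent.H47.QuasiHomeo

set_option autoImplicit false
universe u
open EGA43

namespace Groth.Agent.S4882

/-- Let X be a Jacobson space and Z a locally quasi-constructible subset of X, i.e. every point of X has
an open neighbourhood U such that U ∩ Z is a finite union of locally closed subsets of X. Then the
subspace Z is a Jacobson space, and a point of Z is closed in Z if and only if it is closed in X. -/
theorem result {X : Type u} [TopologicalSpace X] [JacobsonSpace X]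
    (Z : Set X)
    (hZ : ∀ x : X, ∃ U : Set X, IsOpen U ∧ x ∈ U ∧
      ∃ T : Set (Set X), T.Finite ∧ (∀ t ∈ T, IsLocallyClosed t) ∧ U ∩ Z = ⋃₀ T) :
    JacobsonSpace ↥Z ∧ ∀ z : ↥Z, IsClosed ({z} : Set ↥Z) ↔ IsClosed ({(z : X)} : Set X) := by
  have hZ' : Groth.Agent.H47.QuasiHomeo.LF Z := hZ
  have key : ∀ z : ↥Z, IsClosed ({z} : Set ↥Z) ↔ IsClosed ({(z : X)} : Set X) := by
    refine fun z ↦ ⟨fun h ↦ ?_, fun h ↦ ?_⟩
    · obtain ⟨C, hC, hCz⟩ := isClosed_induced_iff.1 h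
      have hlf : Groth.Agent.H47.QuasiHomeo.LF (Z ∩ C) :=
        hZ'.inter (Groth.Agent.H47.QuasiHomeo.LF.of_lc hC.isLocallyClosed)
      have heq : Z ∩ C = {(z : X)} := by
        rw [← Subtype.image_preimage_coe, hCz, Set.image_singleton]
      obtain ⟨t, ht, hzt, hts⟩ := hlf.exists_lc_subset (show (z : X) ∈ Z ∩ C by rw [heq]; rfl)
      have : t = {(z : X)} :=
        Set.Subset.antisymm (hts.trans heq.le) (Set.singleton_subset_iff.2 hzt)
      exact isClosed_singleton_of_isLocallyClosed_singleton (this ▸ ht)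
    · convert h.preimage continuous_subtype_val using 1
      ext y; simp [Subtype.ext_iff]
  refine ⟨jacobsonSpace_iff_locallyClosed.2 fun S hne hS ↦ ?_, key⟩
  obtain ⟨U, F, hU, hF, rfl⟩ := hS
  obtain ⟨U', hU', rfl⟩ := isOpen_induced_iff.1 hU
  obtain ⟨F', hF', rfl⟩ := isClosed_induced_iff.1 hF
  obtain ⟨x, hxU, hxF⟩ := hne
  obtain ⟨t, ht, hxt, hts⟩ := (hZ'.inter (Groth.Agent.H47.QuasiHomeo.LF.of_lc
    ⟨U', F', hU', hF', rfl⟩)).exists_lc_subset (show (x : X) ∈ Z ∩ (U' ∩ F') from ⟨x.2, hxU, hxF⟩)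
  obtain ⟨y, hyt, hyc⟩ := nonempty_inter_closedPoints ⟨_, hxt⟩ ht
  exact ⟨⟨y, (hts hyt).1⟩, (hts hyt).2, (key _).2 hyc⟩

end Groth.Agent.S4882
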