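import Groth.Statements.S4885
import Groth.Agent.H47.FPColim
import Mathlib
-- import your own Groth.Agent.* helpers here

set_option autoImplicit false
universe u
open EGA43

namespace Groth.Agent.S4885


/-- Every finite algebra A' over a commutative ring A is a directed colimit (filtered inductive limit)
of A-algebras which are finite and of finite presentation over A. -/
theorem result (A A' : Type u) [CommRing A] [CommRing A']
    [Algebra A A'] [Module.Finite A A'] :
    ∃ (ι : Type u) (_ : Preorder ι) (G : ι → Type u) (_ : ∀ i, CommRing (G i)) (_ : ∀ i, Algebra A (G i))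
      (g : ∀ i j, i ≤ j → G i →ₐ[A] G j) (_ : ∀ i, Algebra (G i) A') (_ : ∀ i, IsScalarTower A (G i) A'),
      FlatCA.IsDirectedColimitRing G (fun i j h => (g i j h).toRingHom) A' ∧
        ∀ i, Module.Finite A (G i) ∧ Algebra.FinitePresentation A (G i) := by
  classical
  open Groth.Agent.H47.FPColim in
  let ok : Idx A A' → Prop := fun i => ∀ x : (↥i.s), ∃ q : Polynomial A, q.Monic ∧
    Polynomial.aeval (MvPolynomial.X x : MvPolynomial (↥i.s) A) q ∈ Ideal.span (i.t : Set (MvPolynomial (↥i.s) A))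
  have cof : ∀ i : Groth.Agent.H47.FPColim.Idx A A', ∃ j, i ≤ j ∧ ok j := by
    intro i
    choose q hqm hq using fun x : (↥i.s) => Algebra.IsIntegral.isIntegral (R := A) (x : A')
    obtain ⟨t', ht', hle, ht⟩ := Groth.Agent.H47.FPColim.exists_ge i (subset_refl i.s)
      (Finset.univ.image fun x : (↥i.s) => Polynomial.aeval (MvPolynomial.X x : MvPolynomial (↥i.s) A) (q x)) (fun p hp => by
        obtain ⟨x, -, rfl⟩ := Finset.mem_image.1 hp
        rw [← Polynomial.aeval_algHom_apply, MvPolynomial.aeval_X]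
        exact hq x)
    exact ⟨⟨i.s, t', ht'⟩, hle, fun x => ⟨q x, hqm x, Ideal.subset_span (ht (Finset.mem_image_of_mem _ (Finset.mem_univ x)))⟩⟩
  obtain ⟨hdir, ⟨i₀⟩, hid, hcomp, hA, hsurj, hker⟩ := Groth.Agent.H47.FPColim.isDirectedColimit (A₀ := A) (A := A')
  obtain ⟨j₀, -, hj₀⟩ := cof i₀
  refine ⟨{i : Groth.Agent.H47.FPColim.Idx A A' // ok i}, inferInstance, fun i => Groth.Agent.H47.FPColim.Stage i.1,
    fun i => inferInstance, fun i => inferInstance, fun i j h => Groth.Agent.H47.FPColim.trans i.1 j.1 h,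
    fun i => inferInstance, fun i => inferInstance,
    ⟨⟨fun i j => ?_⟩, ⟨⟨j₀, hj₀⟩⟩, fun i => hid i.1, fun i j k hij hjk => hcomp i.1 j.1 k.1 hij hjk,
      fun i j h => hA i.1 j.1 h, fun a => ?_, fun i x hx => ?_⟩, fun i => ⟨?_, inferInstance⟩⟩
  · obtain ⟨k, hik, hjk⟩ := hdir.directed i.1 j.1
    obtain ⟨l, hkl, hl⟩ := cof k
    exact ⟨⟨l, hl⟩, hik.trans hkl, hjk.trans hkl⟩
  · obtain ⟨k, x, hx⟩ := hsurj a
    obtain ⟨l, hkl, hl⟩ := cof k
    exact ⟨⟨l, hl⟩, Groth.Agent.H47.FPColim.trans k l hkl x, (RingHom.congr_fun (hA k l hkl) x).trans hx⟩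
  · obtain ⟨k, hik, hk⟩ := hker i.1 x hx
    obtain ⟨l, hkl, hl⟩ := cof k
    refine ⟨⟨l, hl⟩, hik.trans hkl, ?_⟩
    have := RingHom.congr_fun (hcomp i.1 k l hik hkl) x
    rw [RingHom.comp_apply, hk, map_zero] at this
    exact this.symm
  · haveI : Algebra.IsIntegral A (Groth.Agent.H47.FPColim.Stage i.1) := by
      refine ⟨fun z => ?_⟩
      obtain ⟨z, rfl⟩ := Ideal.Quotient.mk_surjective z
      induction z using MvPolynomial.induction_on with
      | C a => exact isIntegral_algebraMap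
      | add f g hf hg => rw [map_add]; exact hf.add hg
      | mul_X f x hf =>
        rw [map_mul]
        obtain ⟨q, hqm, hq⟩ := i.2 x
        refine hf.mul ⟨q, hqm, ?_⟩
        rw [← Polynomial.aeval_def, ← Ideal.Quotient.mkₐ_eq_mk A, Polynomial.aeval_algHom_apply,
          Ideal.Quotient.mkₐ_eq_mk, Ideal.Quotient.eq_zero_iff_mem]
        exact hq
    exact Algebra.IsIntegral.finite

end Groth.Agent.S4885
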