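import Groth.Statements.S4886
import Groth.Agent.Lib.EndoIso.Core
import Mathlib

set_option autoImplicit false
universe u
open CategoryTheory AlgebraicGeometry
open EGA43

namespace Groth.Agent.S4886

/-- Let Y be a scheme of finite type over ℤ. (i) A point y of Y is closed if and only if the residue
field k(y) is finite. (ii) For every prime number p and every integer d ≥ 1, the set of points y of
Y such that k(y) is an extension of 𝔽_p of degree dividing d, i.e. admits a ring homomorphism into
the field with p^d elements, is finite. -/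
theorem result (Y : Scheme.{u}) [CompactSpace Y]
    [LocallyOfFiniteType (Limits.IsTerminal.from specULiftZIsTerminal Y)] :
    (∀ y : Y, IsClosed ({y} : Set Y) ↔ Finite ↑(Y.residueField y)) ∧
    ∀ (p d : ℕ) [Fact p.Prime], 0 < d →
      {y : Y | Nonempty (↑(Y.residueField y) →+* GaloisField p d)}.Finite := by
  let f : Y ⟶ Spec (CommRingCat.of (ULift.{u} ℤ)) := Limits.IsTerminal.from specULiftZIsTerminal Y
  haveI : LocallyOfFiniteType f := ‹_›
  haveI : QuasiCompact f := inferInstance
  have hclosed : ∀ y : Y, IsClosed ({y} : Set Y) ↔ Finite ↑(Y.residueField y) := by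
    intro y
    refine ⟨fun hy => Lib.Zeta.ArithScheme.finite_residueField f hy, fun hfin => ?_⟩
    refine isClosed_of_closure_subset fun z hz => ?_
    obtain ⟨U, hU, hzU, -⟩ := exists_isAffineOpen_mem_and_subset (X := Y) (x := z) (U := ⊤) trivial
    have hyU : y ∈ U := (specializes_iff_mem_closure.mpr hz).mem_open U.isOpen hzU
    set p := hU.primeIdealOf ⟨y, hyU⟩ with hp
    haveI : Finite (Γ(Y, U) ⧸ p.asIdeal) := by
      haveI := hfin
      let ev := (Y.evaluation U y hyU).hom
      have hker : RingHom.ker ev = p.asIdeal := by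
        ext a
        have hb : p ∈ PrimeSpectrum.basicOpen a ↔ y ∈ Y.basicOpen a := by
          rw [← hU.fromSpec_preimage_basicOpen]
          show hU.fromSpec p ∈ Y.basicOpen a ↔ _
          rw [hp, hU.fromSpec_primeIdealOf]
        rw [RingHom.mem_ker, Scheme.evaluation_eq_zero_iff_notMem_basicOpen _ _ hyU, ← hb]
        exact not_not
      rw [← hker]
      exact Finite.of_injective _ (RingHom.kerLift_injective ev)
    haveI : p.asIdeal.IsMaximal :=
      Ideal.Quotient.maximal_of_isField _ (Finite.isField_of_domain _)
    have hsp : p ⤳ hU.primeIdealOf ⟨z, hzU⟩ := by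
      refine hU.fromSpec.isOpenEmbedding.isInducing.specializes_iff.mp ?_
      rw [hp, hU.fromSpec_primeIdealOf, hU.fromSpec_primeIdealOf]
      exact specializes_iff_mem_closure.mpr hz
    have he : p = hU.primeIdealOf ⟨z, hzU⟩ :=
      PrimeSpectrum.ext (Ideal.IsMaximal.eq_of_le ‹_› (hU.primeIdealOf ⟨z, hzU⟩).2.ne_top
        ((PrimeSpectrum.le_iff_specializes _ _).mpr hsp))
    have := congrArg hU.fromSpec he
    rw [hp, hU.fromSpec_primeIdealOf, hU.fromSpec_primeIdealOf] at this
    exact this.symm
  refine ⟨hclosed, fun p d _ hd => ?_⟩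
  refine Set.Finite.subset (Set.Finite.biUnion (Finset.range (p ^ d + 1)).finite_toSet
    (t := fun n => {y : Y | IsClosed ({y} : Set Y) ∧ Nat.card (Y.residueField y) = n}) fun n _ => ?_)
    fun y ⟨φ⟩ => ?_
  · exact Set.finite_coe_iff.mp (Lib.EndoIso.finite_closedPoints f n)
  · haveI : Finite (GaloisField p d) := inferInstance
    haveI : Finite (Y.residueField y) := Finite.of_injective φ φ.injective
    have hle : Nat.card (Y.residueField y) ≤ p ^ d := by
      rw [← GaloisField.card p d hd.ne']
      exact Nat.card_le_card_of_injective φ φ.injective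
    exact Set.mem_biUnion (by simpa using Nat.lt_succ_of_le hle) ⟨(hclosed y).mpr ‹_›, rfl⟩

end Groth.Agent.S4886
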