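import Groth.Statements.S4888
import Groth.Agent.H46.DimEquiJac

set_option autoImplicit false
universe u
open CategoryTheory AlgebraicGeometry
open EGA43

namespace Groth.Agent.S4888

/-- Let X be a locally Noetherian Jacobson scheme whose local rings are universally catenary and whose
irreducible components are equidimensional (for every irreducible component X' and closed point x of
X', dim X' equals the dimension of the space of generizations of x in X'); let Y be a closed subset
of X and x a point of Y. Then dim_x(Y) = dim(U ∩ Y) = dim cl{x} + codim(cl{x}, Y) = sup_i dim(Y_i);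
that is, the local dimension of Y at x equals the dimension of the closure of x plus the codimension
of that closure in Y (the Krull dimension of the space of generizations of x in Y), equals the
supremum of the dimensions of the irreducible components Y_i of Y through x, and equals dim(U ∩ Y)
for every open neighbourhood U of x meeting no irreducible component of Y that avoids x. (The
published statement assumes only the Jacobson and universally-catenary conditions; its proof applies
the dimension formula for dense opens to the irreducible components, which needs their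
equidimensionality, and for an irreducible Noetherian Jacobson scheme with universally catenary
local rings having two closed points with local rings of different dimensions n − 1 and n — such
schemes exist — the two sides differ at the first of these points; so equidimensionality of the
components is assumed here.) -/
theorem result (X : Scheme.{u}) [IsLocallyNoetherian X] [JacobsonSpace X]
    (h2 : ∀ x : X, CAlg.IsUniversallyCatenary (X.presheaf.stalk x))
    (h3 : ∀ X' ∈ irreducibleComponents (X : Type u), ∀ x ∈ X', IsClosed ({x} : Set X) →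
      topologicalKrullDim (↥X' : Type u) = topologicalKrullDim ↥{t : X | t ∈ X' ∧ t ⤳ x})
    (Y : Set X) (hY : IsClosed Y) (x : X) (hx : x ∈ Y) :
    FlatMor.localDim ↥Y ⟨x, hx⟩ =
        topologicalKrullDim ↥(closure ({x} : Set X)) + topologicalKrullDim ↥{t : X | t ∈ Y ∧ t ⤳ x} ∧
      FlatMor.localDim ↥Y ⟨x, hx⟩ =
        ⨆ C ∈ {C : Set ↥Y | C ∈ irreducibleComponents ↥Y ∧ (⟨x, hx⟩ : ↥Y) ∈ C}, topologicalKrullDim ↥C ∧
      ∀ U : Set X, IsOpen U → x ∈ U →
        (∀ C ∈ irreducibleComponents ↥Y, (⟨x, hx⟩ : ↥Y) ∉ C → Disjoint (Subtype.val ⁻¹' U) C) →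
        topologicalKrullDim ↥(U ∩ Y) = FlatMor.localDim ↥Y ⟨x, hx⟩ := by
  have hX : Groth.Agent.H46.DimEquiJac.Good X := ⟨h2, h3⟩
  obtain ⟨θ₀, hθ₀, hs, hM, hloc, hU⟩ := Groth.Agent.H46.DimEquiJac.localDim_data hX hY hx
  haveI : QuasiSober ↥Y := hY.isClosedEmbedding_subtypeVal.quasiSober
  have hcomp : ∀ C : Set ↥Y, C ∈ irreducibleComponents ↥Y →
      ∃ θ : ↥Y, Groth.Agent.H46.DimEquiJac.IsMaxIn Y θ.1 ∧ closure {θ} = C := by
    intro C hC
    obtain ⟨θ, hθ, rfl⟩ := Groth.Agent.H46.Equidim.exists_generic_of_mem_irreducibleComponents hC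
    exact ⟨θ, ⟨θ.2, fun y hy hyθ => congrArg Subtype.val
      (hθ ⟨y, hy⟩ ((subtype_specializes_iff _ _).2 hyθ))⟩, rfl⟩
  refine ⟨?_, ?_, fun U hUo hxU hUgood => ?_⟩
  · rw [hloc, Groth.Agent.H46.DimEquiJac.dim_closure hX,
      Groth.Agent.H46.DimEquiJac.dim_gen_eq hX hY hθ₀ hs hM,
      Groth.Agent.H46.DimEquiJac.cdim_add hX hs, Nat.cast_add, add_comm]
  · have hdimC : ∀ θ : ↥Y, topologicalKrullDim ↥(closure ({θ} : Set ↥Y)) =
        (Groth.Agent.H46.DimEquiJac.cdim θ.1 : WithBot ℕ∞) := by
      intro θ
      rw [← Groth.Agent.H46.DimEquiJac.dim_closure hX]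
      have e : Subtype.val '' closure ({θ} : Set ↥Y) = closure ({θ.1} : Set X) := by
        rw [← hY.isClosedEmbedding_subtypeVal.closure_image_eq, Set.image_singleton]
      exact IsHomeomorph.topologicalKrullDim_eq _
        ((Topology.IsEmbedding.subtypeVal.homeomorphImage _).trans (Homeomorph.setCongr e)).isHomeomorph
    rw [hloc]
    refine le_antisymm ?_ (iSup₂_le fun C hC => ?_)
    · let θ : ↥Y := ⟨θ₀, hθ₀.1⟩
      refine le_trans (hdimC θ).ge (le_iSup₂_of_le (closure {θ}) ⟨?_, ?_⟩ le_rfl)
      · exact Groth.Agent.Lib.Cyc.FieldDim.closure_mem_irreducibleComponents θ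
          fun y hy => Subtype.ext (hθ₀.2 y.1 y.2 ((subtype_specializes_iff _ _).1 hy))
      · exact ((subtype_specializes_iff θ ⟨x, hx⟩).2 hs).mem_closure
    · obtain ⟨θ, hθ, rfl⟩ := hcomp C hC.1
      rw [hdimC, Nat.cast_le]
      exact hM _ hθ ((subtype_specializes_iff _ _).1 (specializes_iff_mem_closure.2 hC.2))
  · rw [hloc]
    refine hU U hUo hxU fun θ hθ u hu hθu => ?_
    by_contra hc
    let θ' : ↥Y := ⟨θ, hθ.1⟩
    have hu' : u ∈ Y := hθu.mem_closed hY hθ.1
    refine Set.disjoint_left.1 (hUgood (closure {θ'})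
      (Groth.Agent.Lib.Cyc.FieldDim.closure_mem_irreducibleComponents θ'
        fun y hy => Subtype.ext (hθ.2 y.1 y.2 ((subtype_specializes_iff _ _).1 hy)))
      fun hxC => hc ((subtype_specializes_iff θ' ⟨x, hx⟩).1 (specializes_iff_mem_closure.2 hxC)))
      (show (⟨u, hu'⟩ : ↥Y) ∈ Subtype.val ⁻¹' U from hu) ?_
    exact ((subtype_specializes_iff θ' ⟨u, hu'⟩).2 hθu).mem_closure

end Groth.Agent.S4888
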