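import Groth.Statements.S4892
import Groth.Agent.H47.GrSumFP
import Groth.Agent.H47.NormFlat
import Groth.Agent.H47.InjCokerDescend

set_option autoImplicit false
universe u
open TensorProduct
open EGA43
open scoped Groth.Agent.H47.GrSum Groth.Agent.H47.GrFlat

namespace Groth.Agent.S4892

/-- Affine form: let A be a commutative ring, B a finitely presented A-algebra, J a finitely generated
ideal of B and M a finitely presented B-module; assume that every graded piece J^k / J^{k+1} of B
and every graded piece J^k M / J^{k+1} M of M is flat over A. Then the set W of primes q ⊇ J of B at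
which M is normally flat along V(J) — every localisation (J^k M / J^{k+1} M)_q is flat over B/J — is
open in V(J); equivalently the set of primes q such that J ⊆ q implies this condition is open in
Spec B. Flatness over B/J of the localised piece N_q (a module killed by J) is expressed as flatness
of (B/J) ⊗_B N_q. -/
theorem result {A B : Type u} [CommRing A] [CommRing B] [Algebra A B]
    [Algebra.FinitePresentation A B] (J : Ideal B) (hJ : J.FG)
    (M : Type u) [AddCommGroup M] [Module B M] [Module A M] [IsScalarTower A B M] [Module.FinitePresentation B M]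
    (hgrB : ∀ k : ℕ, Module.Flat A (↥(J ^ k) ⧸ Submodule.comap (J ^ k).subtype (J ^ (k + 1))))
    (hgrM : ∀ k : ℕ, Module.Flat A
      (↥(J ^ k • (⊤ : Submodule B M)) ⧸ Submodule.comap (J ^ k • (⊤ : Submodule B M)).subtype (J ^ (k + 1) • ⊤))) :
    IsOpen {q : PrimeSpectrum B | J ≤ q.asIdeal → ∀ k : ℕ,
      Module.Flat (B ⧸ J) ((B ⧸ J) ⊗[B] LocalizedModule q.asIdeal.primeCompl
        (↥(J ^ k • (⊤ : Submodule B M)) ⧸ Submodule.comap (J ^ k • (⊤ : Submodule B M)).subtype (J ^ (k + 1) • ⊤)))} := by
  obtain ⟨r, jv, rfl, hfp⟩ := H47.GrSum.exists_fp_V J hJ M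
    (fun k => H47.GrFlat.flat_truncation_of_pieces _ hgrM k)
  let R := B ⧸ Ideal.span (Set.range jv)
  haveI : Module.FinitePresentation (R ⊗[B] MvPolynomial (Fin r) B) (R ⊗[B] H47.GrSum.V jv M) :=
    H47.InjCokerDescend.finitePresentation_tensor (A₀ := B) (B₀ := MvPolynomial (Fin r) B) (E := R) _
  refine isOpen_iff_forall_mem_open.2 fun q hq => ?_
  by_cases hqJ : Ideal.span (Set.range jv) ≤ q.asIdeal
  swap
  · exact ⟨(PrimeSpectrum.zeroLocus (Ideal.span (Set.range jv) : Set B))ᶜ,
      fun p hp h => absurd h hp, (PrimeSpectrum.isClosed_zeroLocus _).isOpen_compl, hqJ⟩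
  obtain ⟨f, hf, hgood⟩ := H47.LocusFlat.exists_flat_of_mem (S := R ⊗[B] MvPolynomial (Fin r) B)
    (R ⊗[B] H47.GrSum.V jv M) _ ((H47.NormFlat.flat_iff jv M q.asIdeal.primeCompl).1 (hq hqJ))
  obtain ⟨b, hb, rfl⟩ := hf
  exact ⟨PrimeSpectrum.basicOpen b, fun p hp _ =>
    (H47.NormFlat.flat_iff jv M p.asIdeal.primeCompl).2
      (hgood (Algebra.algebraMapSubmonoid _ p.asIdeal.primeCompl) ⟨b, hp, rfl⟩),
    PrimeSpectrum.isOpen_basicOpen, hb⟩

end Groth.Agent.S4892
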