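import Groth.Statements.S4896
import Groth.Agent.H68.RectDepth

set_option autoImplicit false
universe u
open CategoryTheory AlgebraicGeometry
open EGA43

namespace Groth.Agent.S4896

open Groth.Agent.H68

/-- Let S be locally Noetherian, Jacobson and regular with equidimensional irreducible components, g : X
⟶ S locally of finite type and F a coherent O_X-module. For every point x of X the rectified depth
prof*_x(F) = prof(F_x) + dim cl{x} is the unique n (a natural number or ∞) such that, for some open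
neighbourhood U of x, prof(F_{x'}) = n for every point x' of U ∩ cl{x} which is closed in U. -/
theorem result {X S : Scheme.{u}} [IsLocallyNoetherian S] [JacobsonSpace S]
    (hreg : ∀ s : S, IsRegularLocalRing ↑(S.presheaf.stalk s))
    (h3 : ∀ S' ∈ irreducibleComponents (S : Type u), ∀ s ∈ S', IsClosed ({s} : Set S) →
      topologicalKrullDim (↥S' : Type u) = topologicalKrullDim ↥{t : S | t ∈ S' ∧ t ⤳ s})
    (g : X ⟶ S) [LocallyOfFiniteType g] (F : X.Modules) (hF : Coh.IsCoh F) (x : X) :
    letI pstar : WithBot ℕ∞ :=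
      ((LocCoh.depth ↑(X.presheaf.stalk x) ↑(F.presheaf.stalk x) : ℕ∞) : WithBot ℕ∞) +
        topologicalKrullDim ↥(closure ({x} : Set X))
    ∀ n : ℕ∞,
      (∃ U : X.Opens, x ∈ U ∧ ∀ x' : ↥U, (x' : X) ∈ closure ({x} : Set X) → IsClosed ({x'} : Set ↥U) →
        LocCoh.depth ↑(X.presheaf.stalk (x' : X)) ↑(F.presheaf.stalk (x' : X)) = n) ↔
      ((n : WithBot ℕ∞) = pstar) := by
  intro n
  haveI := hF.1
  haveI := LocallyOfFiniteType.isLocallyNoetherian g
  haveI := LocallyOfFiniteType.jacobsonSpace g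
  have hX := Groth.Agent.H46.GoodJac.good_of_lft g (RectDepth.good_base hreg h3)
  obtain ⟨q, hq⟩ : ∃ q : ℕ∞, (q : WithBot ℕ∞) = RectDepth.pstar F x := by
    refine ⟨_, (Eq.trans (congrArg _ (Groth.Agent.H46.DimEquiJac.dim_closure hX x)) RectDepth.coe_add_natCast).symm⟩
  obtain ⟨W, hxW, hW⟩ := RectDepth.exists_nhd_depth_eq hreg h3 g F hF x q hq
  have hcl : ∀ (U : X.Opens) (x' : U), IsClosed ({x'} : Set U) → IsClosed ({(x' : X)} : Set X) := by
    intro U x' h
    have h1 : IsLocallyClosed ({(x' : X)} : Set X) := by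
      have := h.isLocallyClosed.image Topology.IsInducing.subtypeVal
        (show IsLocallyClosed (Set.range (Subtype.val : U → X)) by
          rw [Subtype.range_coe]; exact U.2.isLocallyClosed)
      erw [Set.image_singleton] at this
      exact this
    exact isClosed_singleton_of_isLocallyClosed_singleton h1
  constructor
  · rintro ⟨U, hxU, hU⟩
    obtain ⟨z, ⟨⟨hzU, hzW⟩, hzc⟩, hz⟩ := nonempty_inter_closedPoints
      (Z := ((U : Set X) ∩ W) ∩ closure ({x} : Set X)) ⟨x, ⟨hxU, hxW⟩, subset_closure rfl⟩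
      ((U.2.inter W.2).isLocallyClosed.inter isClosed_closure.isLocallyClosed)
    have hzU' : IsClosed ({(⟨z, hzU⟩ : U)} : Set U) := by
      rw [show ({(⟨z, hzU⟩ : U)} : Set U) = Subtype.val ⁻¹' {z} from
        Set.ext fun w => ⟨fun h => congrArg Subtype.val h, fun h => Subtype.ext h⟩]
      exact (mem_closedPoints_iff.1 hz).preimage continuous_subtype_val
    rw [← hU ⟨z, hzU⟩ hzc hzU', hW z hzW hzc (mem_closedPoints_iff.1 hz)]
    exact hq
  · intro hn
    obtain rfl : n = q := WithBot.coe_inj.1 (hn.trans hq.symm)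
    exact ⟨W, hxW, fun x' hx' hc => hW x' x'.2 hx' (hcl W x' hc)⟩

end Groth.Agent.S4896
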