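import Groth.Statements.S4897
import Groth.Agent.H47.QuasiHomeo

set_option autoImplicit false
universe u
open EGA43

namespace Groth.Agent.S4897

/-- Let f : X → Y be a quasi-homeomorphism, i.e. a continuous map such that U ↦ f⁻¹(U) is a bijection
from the open subsets of Y onto the open subsets of X. Then Z ↦ f⁻¹(Z) induces bijections from the
locally closed (resp. constructible, resp. locally constructible) subsets of Y onto those of X. -/
theorem result {X Y : Type u}
    [TopologicalSpace X] [TopologicalSpace Y] (f : X → Y) (hf : Continuous f)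
    (hq : Function.Bijective (fun U : TopologicalSpace.Opens Y =>
      (⟨f ⁻¹' (U : Set Y), U.isOpen.preimage hf⟩ : TopologicalSpace.Opens X))) :
    Function.Bijective (fun Z : {Z : Set Y // IsLocallyClosed Z} =>
        (⟨f ⁻¹' Z.1, Z.2.preimage hf⟩ : {Z : Set X // IsLocallyClosed Z})) ∧
      Set.BijOn (fun Z : Set Y => f ⁻¹' Z) {Z | Topology.IsConstructible Z} {Z | Topology.IsConstructible Z} ∧
      Set.BijOn (fun Z : Set Y => f ⁻¹' Z) {Z | Topology.IsLocallyConstructible Z}
        {Z | Topology.IsLocallyConstructible Z} := by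
  have h := (Groth.Agent.H47.QuasiHomeo.qh_iff_bijective hf).2 hq
  refine ⟨⟨fun a b e ↦ Subtype.ext (h.lf_ext (Groth.Agent.H47.QuasiHomeo.LF.of_lc a.2)
      (Groth.Agent.H47.QuasiHomeo.LF.of_lc b.2) (congrArg Subtype.val e)), fun t ↦ ?_⟩, ?_, ?_⟩
  · obtain ⟨s, hs, e⟩ := h.surj_lc t.2
    exact ⟨⟨s, hs⟩, Subtype.ext e⟩
  · exact ⟨fun Z hZ ↦ h.constructible_preimage hf hZ, fun a ha b hb e ↦
      h.lf_ext (Groth.Agent.H47.QuasiHomeo.constructible_FU ha).lf
        (Groth.Agent.H47.QuasiHomeo.constructible_FU hb).lf e, fun s hs ↦ h.constructible_surj hf hs⟩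
  · exact ⟨fun Z hZ ↦ h.locallyConstructible_preimage hf hZ, fun a ha b hb e ↦
      h.lf_ext (Groth.Agent.H47.QuasiHomeo.locallyConstructible_LF ha)
        (Groth.Agent.H47.QuasiHomeo.locallyConstructible_LF hb) e,
      fun s hs ↦ h.locallyConstructible_surj hf hs⟩

end Groth.Agent.S4897
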