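import Groth.Statements.S4898
import Groth.Agent.Lib.GenFlatten.Scheme
-- import your own Groth.Agent.* helpers here

set_option autoImplicit false
universe u
open CategoryTheory AlgebraicGeometry
open EGA43

namespace Groth.Agent.S4898

open AlgebraicGeometry CategoryTheory
set_option linter.style.haveILetI false

open CategoryTheory.Limits in
/-- Over an affine irreducible base, tested on affine base changes, to which the general statement
reduces: let A be a commutative ring whose spectrum is irreducible, f : X ⟶ Spec A a morphism of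
finite presentation and F a quasi-coherent O_X-module of finite presentation. Then there are an
element h of A which is not nilpotent (so that U = Spec A_h is a nonempty open subset of Spec A) and
a finitely generated ideal J of A_h contained in the nilradical (so that the closed subscheme Z =
V(J) of U, of finite presentation over U, has the same underlying space as U) such that for every
A_h-algebra A' the pullback of F to X ×_{Spec A} Spec A' is flat over Spec A' if and only if J
generates the zero ideal of A', i.e. if and only if Spec A' ⟶ U factors through Z. (The published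
statement also asserts that, for a finite affine open cover (W_i) of X, U can be chosen so that the
sections of the pullback of F over each W_i ×_{Spec A} Spec A' form a free A'-module whenever Spec
A' ⟶ U factors through Z; this row omits that assertion.) -/
theorem result {A : Type u} [CommRing A] [IrreducibleSpace (PrimeSpectrum A)]
    {X : Scheme.{u}} (f : X ⟶ Spec (CommRingCat.of A))
    [LocallyOfFinitePresentation f] [QuasiCompact f] [QuasiSeparated f]
    (F : X.Modules) [Coh.IsQCoh F] (hF : CohB1.IsFP F) :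
    ∃ (h : A) (_ : ¬ IsNilpotent h) (J : Ideal (Localization.Away h)) (_ : J.FG)
      (_ : J ≤ nilradical (Localization.Away h)),
      ∀ (A' : Type u) [CommRing A'] [Algebra (Localization.Away h) A'],
        letI g : Spec (CommRingCat.of A') ⟶ Spec (CommRingCat.of A) :=
          Spec.map (CommRingCat.ofHom ((algebraMap (Localization.Away h) A').comp (algebraMap A (Localization.Away h))))
        (FlatMod.IsFlatOver (pullback.snd f g) ((Scheme.Modules.pullback (pullback.fst f g)).obj F) ↔
          Ideal.map (algebraMap (Localization.Away h) A') J = ⊥) := by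
  haveI : F.IsQuasicoherent := ‹Coh.IsQCoh F›
  have hpA : (nilradical A).IsPrime := PrimeSpectrum.irreducibleSpace_iff_isPrime_nilradical.1 inferInstance
  let eA : Γ(Spec (CommRingCat.of A), ⊤) ≃+* A := (Scheme.ΓSpecIso (CommRingCat.of A)).commRingCatIsoToRingEquiv
  let ι : A →+* Γ(Spec (CommRingCat.of A), ⊤) := eA.symm.toRingHom
  have hι : ∀ r, ι (eA r) = r := fun r => eA.symm_apply_apply r
  have hpR : (nilradical Γ(Spec (CommRingCat.of A), ⊤)).IsPrime := by
    have : nilradical Γ(Spec (CommRingCat.of A), ⊤) = (nilradical A).comap eA.toRingHom := by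
      ext x
      simp only [Ideal.mem_comap, mem_nilradical]
      exact (IsNilpotent.map_iff (f := eA.toRingHom) eA.injective).symm
    rw [this]
    haveI := hpA
    exact Ideal.IsPrime.comap _
  haveI : CompactSpace X := QuasiCompact.compactSpace_of_compactSpace f
  choose V hV hxV _ using fun x : X => exists_isAffineOpen_mem_and_subset (x := x) (U := ⊤) trivial
  obtain ⟨T, hT⟩ := isCompact_univ.elim_finite_subcover (fun x : X => (V x : Set X)) (fun x => (V x).2)
    fun x _ => Set.mem_iUnion.2 ⟨x, hxV x⟩
  have hcov : ∀ x : X, ∃ k : T, x ∈ V k.1 := fun x => by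
    obtain ⟨i, hi, hx⟩ := Set.mem_iUnion₂.1 (hT (Set.mem_univ x))
    exact ⟨⟨i, hi⟩, hx⟩
  have hUS : IsAffineOpen (⊤ : (Spec (CommRingCat.of A)).Opens) := isAffineOpen_top _
  have eV : ∀ k : T, V k.1 ≤ f ⁻¹ᵁ ⊤ := fun _ _ _ => trivial
  letI : ∀ k : T, Algebra Γ(Spec (CommRingCat.of A), ⊤) Γ(X, V k.1) := fun k => (f.appLE ⊤ (V k.1) (eV k)).hom.toAlgebra
  letI : ∀ k : T, Module Γ(Spec (CommRingCat.of A), ⊤) Γ(F, V k.1) := fun k =>
    Module.compHom _ (f.appLE ⊤ (V k.1) (eV k)).hom
  haveI : ∀ k : T, IsScalarTower Γ(Spec (CommRingCat.of A), ⊤) Γ(X, V k.1) Γ(F, V k.1) := fun k =>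
    IsScalarTower.of_algebraMap_smul fun _ _ => rfl
  haveI : ∀ k : T, Algebra.FinitePresentation Γ(Spec (CommRingCat.of A), ⊤) Γ(X, V k.1) := fun k =>
    HasRingHomProperty.appLE @LocallyOfFinitePresentation f inferInstance ⟨⊤, hUS⟩ ⟨V k.1, hV k.1⟩ (eV k)
  haveI : ∀ k : T, Module.FinitePresentation Γ(X, V k.1) Γ(F, V k.1) := fun k =>
    Lib.DescAlg.FPPush.finitePresentation_sections (hV k.1) F hF
  choose hk Jk hk_nil hJk_fg hJk_nil hJk using fun k : T =>
    Lib.GenFlatten.exists_flattening (B := Γ(X, V k.1)) (M := Γ(F, V k.1)) hpR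
  let h : A := ∏ k : T, eA (hk k)
  have hh : ¬ IsNilpotent h := fun hc => by
    obtain ⟨k, -, hk'⟩ := (hpA.prod_mem_iff (s := Finset.univ)).1 (mem_nilradical.2 hc)
    exact hk_nil k (mem_nilradical.2 ((IsNilpotent.map_iff (f := eA.toRingHom) eA.injective).1 (mem_nilradical.1 hk')))
  let φ : Γ(Spec (CommRingCat.of A), ⊤) →+* Localization.Away h :=
    (algebraMap A (Localization.Away h)).comp eA.toRingHom
  refine ⟨h, hh, ⨆ k, (Jk k).map φ, Submodule.fg_iSup _ fun k => Ideal.FG.map (hJk_fg k) φ, iSup_le fun k =>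
    Ideal.map_le_iff_le_comap.2 fun x hx => mem_nilradical.2 ((mem_nilradical.1 (hJk_nil k hx)).map φ), ?_⟩
  intro A' _ _
  let a : A →+* A' := (algebraMap (Localization.Away h) A').comp (algebraMap A (Localization.Away h))
  let g : Spec (CommRingCat.of A') ⟶ Spec (CommRingCat.of A) := Spec.map (CommRingCat.ofHom a)
  let eA' : Γ(Spec (CommRingCat.of A'), ⊤) ≃+* A' := (Scheme.ΓSpecIso (CommRingCat.of A')).commRingCatIsoToRingEquiv
  have eU : (⊤ : (Spec (CommRingCat.of A')).Opens) ≤ g ⁻¹ᵁ ⊤ := fun _ _ => trivial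
  letI : Algebra Γ(Spec (CommRingCat.of A), ⊤) Γ(Spec (CommRingCat.of A'), ⊤) := (g.appLE ⊤ ⊤ eU).hom.toAlgebra
  have hcomm : ∀ r, eA' (algebraMap Γ(Spec (CommRingCat.of A), ⊤) Γ(Spec (CommRingCat.of A'), ⊤) r) =
      algebraMap (Localization.Away h) A' (φ r) := fun r => by
    have h1 := congrArg (fun q => q.hom r) (Scheme.ΓSpecIso_naturality (CommRingCat.ofHom a))
    rw [show (Spec.map (CommRingCat.ofHom a)).appTop = g.appLE ⊤ ⊤ eU from (Scheme.Hom.appLE_eq_app _).symm] at h1
    exact h1
  have hunit : ∀ k, IsUnit (algebraMap Γ(Spec (CommRingCat.of A), ⊤) Γ(Spec (CommRingCat.of A'), ⊤) (hk k)) := fun k => by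
    refine (MulEquiv.isUnit_map (eA' : Γ(Spec (CommRingCat.of A'), ⊤) ≃* A')).1 ?_
    show IsUnit (eA' _)
    rw [hcomm]
    refine IsUnit.map _ ?_
    have h1 : eA (hk k) ∣ h := Finset.dvd_prod_of_mem _ (Finset.mem_univ k)
    exact isUnit_of_dvd_unit (map_dvd (algebraMap A (Localization.Away h)) h1) (IsLocalization.Away.algebraMap_isUnit h)
  refine (Lib.GenFlatten.isFlatOver_baseChange_iff f g F (fun k : T => V k.1) (fun k => hV k.1) hcov hUS eV eU).trans ?_
  refine (forall_congr' fun k => hJk k _ (hunit k)).trans ?_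
  rw [Ideal.map_iSup, iSup_eq_bot]
  refine forall_congr' fun k => ?_
  rw [Ideal.map_map, ← Ideal.map_eq_bot_iff_of_injective (f := eA'.toRingHom) eA'.injective, Ideal.map_map]
  rw [show eA'.toRingHom.comp (algebraMap Γ(Spec (CommRingCat.of A), ⊤) Γ(Spec (CommRingCat.of A'), ⊤)) =
    (algebraMap (Localization.Away h) A').comp φ from RingHom.ext hcomm]

end Groth.Agent.S4898
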