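import Groth.Statements.S4903
import Groth.Agent.H47.QuasiHomeo
import Mathlib.Tactic.TFAE

set_option autoImplicit false
universe u
open EGA43

namespace Groth.Agent.S4903

/-- Conditions a), b), b′), c″), c‴) and its last assertion: given a topological space X and a subset X₀
⊆ X, the statements below are equivalent. Every locally closed subset of X that is nonempty
intersects X₀. Every nonempty locally quasi-constructible subset of X intersects X₀; here a subset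
is locally quasi-constructible when each point of X has an open neighbourhood on which the subset's
trace can be written as a union of finitely many locally closed sets. Each locally
quasi-constructible Z ⊆ X is contained in the closure of Z ∩ X₀. Any two quasi-constructible subsets
of X (unions of finitely many locally closed sets) having equal traces on X₀ coincide. Any two
locally quasi-constructible subsets of X having equal traces on X₀ coincide. Assuming these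
conditions, each locally quasi-constructible subset of the subspace X₀ arises as the trace on X₀ of
some locally quasi-constructible subset of X. -/
theorem result {X : Type u} [TopologicalSpace X] (X₀ : Set X) :
    [∀ Z : Set X, IsLocallyClosed Z → Z.Nonempty → (Z ∩ X₀).Nonempty,
      ∀ Z : Set X, (∀ x : X, ∃ U : Set X, IsOpen U ∧ x ∈ U ∧ ∃ T : Set (Set X), T.Finite ∧ (∀ t ∈ T, IsLocallyClosed t) ∧ U ∩ Z = ⋃₀ T) → Z.Nonempty → (Z ∩ X₀).Nonempty,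
      ∀ Z : Set X, (∀ x : X, ∃ U : Set X, IsOpen U ∧ x ∈ U ∧ ∃ T : Set (Set X), T.Finite ∧ (∀ t ∈ T, IsLocallyClosed t) ∧ U ∩ Z = ⋃₀ T) → Z ⊆ closure (Z ∩ X₀),
      ∀ Z Z' : Set X, (∃ T : Set (Set X), T.Finite ∧ (∀ t ∈ T, IsLocallyClosed t) ∧ Z = ⋃₀ T) → (∃ T : Set (Set X), T.Finite ∧ (∀ t ∈ T, IsLocallyClosed t) ∧ Z' = ⋃₀ T) → Z ∩ X₀ = Z' ∩ X₀ → Z = Z',
      ∀ Z Z' : Set X, (∀ x : X, ∃ U : Set X, IsOpen U ∧ x ∈ U ∧ ∃ T : Set (Set X), T.Finite ∧ (∀ t ∈ T, IsLocallyClosed t) ∧ U ∩ Z = ⋃₀ T) → (∀ x : X, ∃ U : Set X, IsOpen U ∧ x ∈ U ∧ ∃ T : Set (Set X), T.Finite ∧ (∀ t ∈ T, IsLocallyClosed t) ∧ U ∩ Z' = ⋃₀ T) → Z ∩ X₀ = Z' ∩ X₀ → Z = Z'].TFAE ∧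
    ((∀ Z : Set X, IsLocallyClosed Z → Z.Nonempty → (Z ∩ X₀).Nonempty) →
      ∀ Z₀ : Set ↥X₀, (∀ x : ↥X₀, ∃ U : Set ↥X₀, IsOpen U ∧ x ∈ U ∧ ∃ T : Set (Set ↥X₀), T.Finite ∧ (∀ t ∈ T, IsLocallyClosed t) ∧ U ∩ Z₀ = ⋃₀ T) →
        ∃ Z : Set X, (∀ x : X, ∃ U : Set X, IsOpen U ∧ x ∈ U ∧ ∃ T : Set (Set X), T.Finite ∧ (∀ t ∈ T, IsLocallyClosed t) ∧ U ∩ Z = ⋃₀ T) ∧ Subtype.val ⁻¹' Z = Z₀) := by
  refine ⟨?_, fun h Z₀ hZ₀ ↦
    (Groth.Agent.H47.QuasiHomeo.qh_val_iff_vd.2 h).surj_LF hZ₀⟩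
  tfae_have 1 → 2 := fun h Z hZ hne ↦ by
    obtain ⟨x, hx⟩ := (Groth.Agent.H47.QuasiHomeo.qh_val_iff_vd.2 h).lf_nonempty hZ hne
    exact ⟨x, hx, x.2⟩
  tfae_have 2 → 3 := fun h Z hZ x hx ↦ by
    rw [mem_closure_iff]
    intro V hV hxV
    obtain ⟨y, ⟨hy1, hy2⟩, hy3⟩ := h (V ∩ Z)
      ((Groth.Agent.H47.QuasiHomeo.LF.of_lc hV.isLocallyClosed).inter hZ) ⟨x, hxV, hx⟩
    exact ⟨y, hy1, hy2, hy3⟩
  tfae_have 3 → 1 := fun h Z hZ ⟨x, hx⟩ ↦ by
    have := h Z (Groth.Agent.H47.QuasiHomeo.LF.of_lc hZ) hx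
    exact Set.nonempty_iff_ne_empty.2 fun e ↦ by rw [e, closure_empty] at this; exact this
  tfae_have 1 → 5 := fun h Z Z' hZ hZ' e ↦
    (Groth.Agent.H47.QuasiHomeo.qh_val_iff_vd.2 h).lf_ext hZ hZ'
      (Subtype.preimage_coe_eq_preimage_coe_iff.2 (by rwa [Set.inter_comm, Set.inter_comm X₀]))
  tfae_have 5 → 4 := fun h Z Z' hZ hZ' e ↦
    h Z Z' (Groth.Agent.H47.QuasiHomeo.FU.lf hZ) (Groth.Agent.H47.QuasiHomeo.FU.lf hZ') e
  tfae_have 4 → 1 := fun h Z hZ hne ↦ by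
    by_contra he
    exact hne.ne_empty (h Z ∅ (Groth.Agent.H47.QuasiHomeo.FU.of_lc hZ)
      ⟨∅, Set.finite_empty, by simp, by simp⟩
      (by rw [Set.empty_inter]; exact Set.not_nonempty_iff_eq_empty.1 he))
  tfae_finish

end Groth.Agent.S4903
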