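import Groth.Statements.S4906
import Groth.Agent.H47.RegBiequi

set_option autoImplicit false
universe u
open CategoryTheory AlgebraicGeometry
open EGA43

namespace Groth.Agent.S4906

/-- Let X be a regular biequidimensional scheme — Noetherian, with regular local rings, of finite
dimension, with all irreducible components of dimension dim X and with dim T = dim cl{y} +
codim(cl{y}, T) for every closed irreducible T and point y of T — and F a coherent O_X-module. Then
for every point x of the support of F one has prof(F_x) + dim cl{x} + proj.dim(F_x) = dim X, that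
is, the rectified depth prof*_x(F) equals dim X − proj.dim_{O_{X,x}}(F_x). -/
theorem result (X : Scheme.{u}) [IsNoetherian X]
    (hreg : ∀ x : X, IsRegularLocalRing ↑(X.presheaf.stalk x))
    (hfin : topologicalKrullDim X < ⊤)
    (hcomp : ∀ C ∈ irreducibleComponents (X : Type u), topologicalKrullDim ↥C = topologicalKrullDim X)
    (hchain : ∀ (y : X) (T : Set X), IsClosed T → IsIrreducible T → y ∈ T →
      topologicalKrullDim ↥T = topologicalKrullDim ↥(closure ({y} : Set X)) + topologicalKrullDim ↥{t : X | t ∈ T ∧ t ⤳ y})
    (F : X.Modules) (hF : Coh.IsCoh F) (x : X) (hx : x ∈ CohB1.support F) :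
    ((LocCoh.depth ↑(X.presheaf.stalk x) ↑(F.presheaf.stalk x) : ℕ∞) : WithBot ℕ∞) +
        topologicalKrullDim ↥(closure ({x} : Set X)) +
        projectiveDimension (ModuleCat.of ↑(X.presheaf.stalk x) ↑(F.presheaf.stalk x)) =
      topologicalKrullDim X := by
  obtain ⟨a, j, p, ha, hj, hX, hpd⟩ :=
    Groth.Agent.H47.RegBiequi.exists_nat x (hreg x) hfin hcomp hchain hF hx
  have hp : projectiveDimension (ModuleCat.of ↑(X.presheaf.stalk x) ↑(F.presheaf.stalk x)) =
      ((p : ℕ∞) : WithBot ℕ∞) := by
    refine le_antisymm ((Groth.Agent.H20.PDDepth.pdle_iff_projectiveDimension_le _ p).mp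
      ((hpd p).mpr le_rfl)) ?_
    have hne : projectiveDimension (ModuleCat.of ↑(X.presheaf.stalk x) ↑(F.presheaf.stalk x)) ≠ ⊥ :=
      fun h => hx (ModuleCat.isZero_iff_subsingleton.mp ((projectiveDimension_eq_bot_iff _).mp h))
    obtain ⟨q, hq⟩ := WithBot.ne_bot_iff_exists.mp hne
    rw [← hq, WithBot.coe_le_coe]
    induction q using ENat.recTopCoe with
    | top => exact le_top
    | coe q =>
      exact_mod_cast (hpd q).mp
        ((Groth.Agent.H20.PDDepth.pdle_iff_projectiveDimension_le _ q).mpr hq.symm.le)
  rw [ha, hj, hX, hp]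
  norm_cast
  omega

end Groth.Agent.S4906
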