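import Groth.Statements.S4907
import Groth.Agent.H47.RegBiequi

set_option autoImplicit false
universe u
open CategoryTheory AlgebraicGeometry
open EGA43

namespace Groth.Agent.S4907

/-- Let X be a regular biequidimensional scheme (Noetherian, regular local rings, finite dimension, all
irreducible components of dimension dim X, and dim T = dim cl{y} + codim(cl{y}, T) for every closed
irreducible T and point y of T) and F a coherent O_X-module. Then the rectified depth x ↦ prof(F_x)
+ dim cl{x} is lower semicontinuous: for every integer n the set of x with prof(F_x) + dim cl{x} ≥ n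
is open. -/
theorem result (X : Scheme.{u}) [IsNoetherian X]
    (hreg : ∀ x : X, IsRegularLocalRing ↑(X.presheaf.stalk x))
    (hfin : topologicalKrullDim X < ⊤)
    (hcomp : ∀ C ∈ irreducibleComponents (X : Type u), topologicalKrullDim ↥C = topologicalKrullDim X)
    (hchain : ∀ (y : X) (T : Set X), IsClosed T → IsIrreducible T → y ∈ T →
      topologicalKrullDim ↥T = topologicalKrullDim ↥(closure ({y} : Set X)) + topologicalKrullDim ↥{t : X | t ∈ T ∧ t ⤳ y})
    (F : X.Modules) (hF : Coh.IsCoh F) (n : ℕ) :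
    IsOpen {x : X | (n : WithBot ℕ∞) ≤
      ((LocCoh.depth ↑(X.presheaf.stalk x) ↑(F.presheaf.stalk x) : ℕ∞) : WithBot ℕ∞) +
        topologicalKrullDim ↥(closure ({x} : Set X))} := by
  have hset : {x : X | (n : WithBot ℕ∞) ≤
      ((LocCoh.depth ↑(X.presheaf.stalk x) ↑(F.presheaf.stalk x) : ℕ∞) : WithBot ℕ∞) +
        topologicalKrullDim ↥(closure ({x} : Set X))} =
      {x : X | Subsingleton (F.presheaf.stalk x)} ∪
      ⋃ c ∈ {c : ℕ | ((c + n : ℕ) : WithBot ℕ∞) ≤ topologicalKrullDim X},
        {x : X | Groth.Agent.Lib.Regular.PD.PDle (X.presheaf.stalk x) (F.presheaf.stalk x) c} := by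
    ext x
    by_cases hx : Subsingleton (F.presheaf.stalk x)
    · have hdep : LocCoh.depth ↑(X.presheaf.stalk x) ↑(F.presheaf.stalk x) = ⊤ := by
        unfold LocCoh.depth LocCoh.idealDepth
        rw [if_pos (Subsingleton.elim _ _)]
      haveI : Nonempty ↥(closure ({x} : Set X)) := ⟨⟨x, subset_closure rfl⟩⟩
      haveI : Nonempty (TopologicalSpace.IrreducibleCloseds ↥(closure ({x} : Set X))) :=
        ⟨⟨closure {⟨x, subset_closure rfl⟩}, isIrreducible_singleton.closure, isClosed_closure⟩⟩
      obtain ⟨a, ha⟩ := WithBot.ne_bot_iff_exists.mp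
        (show topologicalKrullDim ↥(closure ({x} : Set X)) ≠ ⊥ from Order.krullDim_ne_bot_iff.mpr ‹_›)
      refine iff_of_true ?_ (Or.inl hx)
      show (n : WithBot ℕ∞) ≤ _
      rw [hdep, ← ha, ← WithBot.coe_add, top_add]
      exact WithBot.coe_le_coe.mpr le_top
    · obtain ⟨a, j, p, ha, hj, hX, hpd⟩ :=
        Groth.Agent.H47.RegBiequi.exists_nat x (hreg x) hfin hcomp hchain hF hx
      simp only [Set.mem_ofPred_eq, Set.mem_union, Set.mem_iUnion, exists_prop, hx, false_or, hpd,
        ha, hj, hX]
      norm_cast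
      exact ⟨fun h => ⟨p, by omega, le_rfl⟩, fun ⟨c, hc, hp⟩ => by omega⟩
  rw [hset]
  exact (Groth.Agent.H47.PDOpen.isOpen_setOf_subsingleton hF).union
    (isOpen_biUnion fun c _ => Groth.Agent.H47.PDOpen.isOpen_setOf_pdle hF c)

end Groth.Agent.S4907
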