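import Groth.Statements.S4908
import Groth.Agent.Lib.SchDom.Sep
import Groth.Agent.Lib.SchDom.FlatBC
-- import your own Groth.Agent.* helpers here

set_option autoImplicit false
universe u
open CategoryTheory AlgebraicGeometry
open EGA43

namespace Groth.Agent.S4908

open AlgebraicGeometry CategoryTheory Lib.SchDom TensorProduct
set_option linter.style.haveILetI false

/-- Case Z_λ = X: let X be a scheme, u_i : F ⟶ G_i a family of homomorphisms of quasi-coherent
O_X-modules and g : X' ⟶ X a faithfully flat morphism. If the family (g^*u_i : g^*F ⟶ g^*G_i) is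
separating — a section of g^*F over an open subset killed by every g^*u_i is zero — then the family
(u_i) is separating. (The published statement allows homomorphisms into direct images (f_λ)_*G_λ
along morphisms f_λ : Z_λ ⟶ X; this row is the case Z_λ = X, to which the general case reduces.) -/
theorem result {X X' : Scheme.{u}} (F : X.Modules) [Coh.IsQCoh F] {ι : Type u}
    (G : ι → X.Modules) [∀ i, Coh.IsQCoh (G i)] (u : ∀ i, F ⟶ G i) (g : X' ⟶ X) [Flat g] [Surjective g]
    (h : (∀ (V : (X').Opens) (t : ↑(((Scheme.Modules.pullback g).obj F).presheaf.obj (Opposite.op V))), (∀ i, (Scheme.Modules.Hom.mapPresheaf ((Scheme.Modules.pullback g).map (u i))).app (Opposite.op V) t = 0) → t = 0)) :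
    (∀ (V : (X).Opens) (t : ↑((F).presheaf.obj (Opposite.op V))), (∀ i, (Scheme.Modules.Hom.mapPresheaf (u i)).app (Opposite.op V) t = 0) → t = 0) := by
  haveI : F.IsQuasicoherent := ‹Coh.IsQCoh F›
  haveI : ∀ i, (G i).IsQuasicoherent := fun i => ‹∀ i, Coh.IsQCoh (G i)› i
  haveI := Lib.QCoh.Pullback.isQCoh_pullback g F
  haveI := fun i => Lib.QCoh.Pullback.isQCoh_pullback g (G i)
  refine sep_of_injLoc u fun x => ?_
  obtain ⟨V, hV, hxV, -⟩ := exists_isAffineOpen_mem_and_subset (x := x) (U := ⊤) trivial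
  refine ⟨V, hV, hxV, fun c a hca => ?_⟩
  have key : c ∈ Ideal.radical (LinearMap.ker (LinearMap.toSpanSingleton Γ(X, V) Γ(F, V) a) : Ideal Γ(X, V)) := by
    rw [Ideal.radical_eq_sInf, Ideal.mem_sInf]
    rintro P ⟨hle, hP⟩
    by_contra hc
    obtain ⟨y, hy⟩ := g.surjective (hV.fromSpec (⟨P, hP⟩ : PrimeSpectrum Γ(X, V)))
    have hyV : g y ∈ V := by rw [hy, ← SetLike.mem_coe, ← hV.range_fromSpec]; exact ⟨_, rfl⟩
    obtain ⟨U, hU, hyU, e⟩ := exists_isAffineOpen_mem_and_subset (x := y) (U := g ⁻¹ᵁ V) hyV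
    letI := (g.appLE V U e).hom.toAlgebra
    haveI : Module.Flat Γ(X, V) Γ(X', U) := HasRingHomProperty.appLE @Flat g inferInstance ⟨V, hV⟩ ⟨U, hU⟩ e
    have hbc : BCInj (fun i => appₗ (u i) V) Γ(X', U) :=
      (injLoc_pullback_iff g u hV hU e).1 (injLoc_of_sep (fun i => (Scheme.Modules.pullback g).map (u i)) h hU)
    obtain ⟨n, hn⟩ := hbc (algebraMap _ _ c) ((1 : Γ(X', U)) ⊗ₜ a) fun i => by
      obtain ⟨n, hn⟩ := hca i
      exact ⟨n, by rw [LinearMap.baseChange_tmul, ← map_pow, algebraMap_smul, ← TensorProduct.tmul_smul, hn,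
        TensorProduct.tmul_zero]⟩
    rw [← map_pow, algebraMap_smul, ← TensorProduct.tmul_smul] at hn
    have hle' : LinearMap.ker (LinearMap.toSpanSingleton Γ(X, V) Γ(F, V) (c ^ n • a)) ≤
        (hU.primeIdealOf ⟨y, hyU⟩).asIdeal.comap (algebraMap Γ(X, V) Γ(X', U)) := by
      intro r hr
      rw [RingHom.algebraMap_toAlgebra, show Ideal.comap (g.appLE V U e).hom (hU.primeIdealOf ⟨y, hyU⟩).asIdeal =
        (hV.primeIdealOf ⟨g y, hyV⟩).asIdeal from
          congrArg PrimeSpectrum.asIdeal (IsAffineOpen.comap_primeIdealOf_appLE V hV U hU e hyU)]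
      have hpy : (hV.primeIdealOf ⟨g y, hyV⟩).asIdeal = P := congrArg PrimeSpectrum.asIdeal
        (hV.fromSpec.isOpenEmbedding.injective (show hV.fromSpec (hV.primeIdealOf ⟨g y, hyV⟩) =
          hV.fromSpec (⟨P, hP⟩ : PrimeSpectrum Γ(X, V)) by rw [hV.fromSpec_primeIdealOf]; exact hy))
      rw [hpy]
      refine (hP.mem_or_mem (hle ?_)).resolve_right fun h' => hc (hP.mem_of_pow_mem n h')
      rw [LinearMap.mem_ker, LinearMap.toSpanSingleton_apply, mul_smul]
      exact hr
    exact (hU.primeIdealOf ⟨y, hyU⟩).isPrime.ne_top (top_le_iff.1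
      ((map_ann_eq_top hn).symm.le.trans (Ideal.map_le_iff_le_comap.2 hle')))
  obtain ⟨n, hn⟩ := key
  exact ⟨n, hn⟩

end Groth.Agent.S4908
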