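import Groth.Statements.S4909
import Groth.Agent.Lib.SchDom.Sep
import Groth.Agent.Lib.SchDom.FlatBC
-- import your own Groth.Agent.* helpers here

set_option autoImplicit false
universe u
open CategoryTheory AlgebraicGeometry
open EGA43

namespace Groth.Agent.S4909

open AlgebraicGeometry CategoryTheory Lib.SchDom
set_option linter.style.haveILetI false

/-- Case Z_λ = X: let X be a scheme, u_i : F ⟶ G_i a separating family of homomorphisms of
quasi-coherent O_X-modules (a section of F over an open subset killed by every u_i is zero) and g :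
X' ⟶ X a flat morphism locally of finite presentation. Then the family (g^*u_i : g^*F ⟶ g^*G_i) is
separating. (The published statement allows homomorphisms into direct images (f_λ)_*G_λ; this row is
the case Z_λ = X, to which the general case reduces.) -/
theorem result {X X' : Scheme.{u}} (F : X.Modules) [Coh.IsQCoh F] {ι : Type u}
    (G : ι → X.Modules) [∀ i, Coh.IsQCoh (G i)] (u : ∀ i, F ⟶ G i) (g : X' ⟶ X) [Flat g] [LocallyOfFinitePresentation g]
    (h : (∀ (V : (X).Opens) (t : ↑((F).presheaf.obj (Opposite.op V))), (∀ i, (Scheme.Modules.Hom.mapPresheaf (u i)).app (Opposite.op V) t = 0) → t = 0)) :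
    (∀ (V : (X').Opens) (t : ↑(((Scheme.Modules.pullback g).obj F).presheaf.obj (Opposite.op V))), (∀ i, (Scheme.Modules.Hom.mapPresheaf ((Scheme.Modules.pullback g).map (u i))).app (Opposite.op V) t = 0) → t = 0) := by
  haveI : F.IsQuasicoherent := ‹Coh.IsQCoh F›
  haveI : ∀ i, (G i).IsQuasicoherent := fun i => ‹∀ i, Coh.IsQCoh (G i)› i
  haveI := Lib.QCoh.Pullback.isQCoh_pullback g F
  haveI := fun i => Lib.QCoh.Pullback.isQCoh_pullback g (G i)
  refine sep_of_injLoc (fun i => (Scheme.Modules.pullback g).map (u i)) fun y => ?_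
  obtain ⟨V, hV, hyV, -⟩ := exists_isAffineOpen_mem_and_subset (x := g y) (U := ⊤) trivial
  obtain ⟨U, hU, hyU, e⟩ := exists_isAffineOpen_mem_and_subset (x := y) (U := g ⁻¹ᵁ V) hyV
  refine ⟨U, hU, hyU, (injLoc_pullback_iff g u hV hU e).2 ?_⟩
  letI := (g.appLE V U e).hom.toAlgebra
  haveI : Module.Flat Γ(X, V) Γ(X', U) := HasRingHomProperty.appLE @Flat g inferInstance ⟨V, hV⟩ ⟨U, hU⟩ e
  haveI : Algebra.FinitePresentation Γ(X, V) Γ(X', U) :=
    HasRingHomProperty.appLE @LocallyOfFinitePresentation g inferInstance ⟨V, hV⟩ ⟨U, hU⟩ e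
  exact bcInj_of_flat_finitePresentation _ (injLoc_of_sep u h hV) _

end Groth.Agent.S4909
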