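import Groth.Statements.S4910
import Groth.Agent.Lib.SchDom.Sep
import Groth.Agent.H47.FlatKernelScheme
import Groth.Agent.Lib.CohBasics.Affine

set_option autoImplicit false
universe u
open CategoryTheory AlgebraicGeometry
open EGA43

namespace Groth.Agent.S4910

open AlgebraicGeometry CategoryTheory Lib.SchDom
set_option linter.style.haveILetI false

open CategoryTheory.Limits in
/-- Case Z_λ = X: let p : X ⟶ S be a morphism with X locally Noetherian, F a coherent O_X-module, (G_i)
a family of quasi-coherent O_X-modules flat over S and u_i : F ⟶ G_i homomorphisms. Then the family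
(u_i) is universally separating relative to S — for every base change S' ⟶ S the pulled-back family
on X ×_S S' is separating (a section of the pulled-back F over an open subset killed by every member
is zero) — if and only if, for every point s of S, the family pulled back to the fibre X_s is
separating. (The published statement allows homomorphisms into direct images (f_λ)_*G_λ with the G_λ
flat over S; this row is the case Z_λ = X.) -/
theorem result {X S : Scheme.{u}} [IsLocallyNoetherian X]
    (p : X ⟶ S) (F : X.Modules) (hF : Coh.IsCoh F) {ι : Type u} (G : ι → X.Modules) [∀ i, Coh.IsQCoh (G i)]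
    (hG : ∀ i, FlatMod.IsFlatOver p (G i)) (u : ∀ i, F ⟶ G i) :
    (∀ (S' : Scheme.{u}) (g : S' ⟶ S),
      (∀ (V : (pullback p g).Opens) (t : ↑(((Scheme.Modules.pullback (pullback.fst p g)).obj F).presheaf.obj (Opposite.op V))), (∀ i, (Scheme.Modules.Hom.mapPresheaf ((Scheme.Modules.pullback (pullback.fst p g)).map (u i))).app (Opposite.op V) t = 0) → t = 0)) ↔
    ∀ s : S, (∀ (V : (p.fiber s).Opens) (t : ↑(((Scheme.Modules.pullback (p.fiberι s)).obj F).presheaf.obj (Opposite.op V))), (∀ i, (Scheme.Modules.Hom.mapPresheaf ((Scheme.Modules.pullback (p.fiberι s)).map (u i))).app (Opposite.op V) t = 0) → t = 0) := by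
  haveI : F.IsQuasicoherent := hF.1
  haveI : ∀ i, (G i).IsQuasicoherent := fun i => ‹∀ i, Coh.IsQCoh (G i)› i
  constructor
  · intro h s
    exact h _ (S.fromSpecResidueField s)
  · intro h S' g
    refine sep_of_chartSep p g u fun s => ?_
    obtain ⟨U, hU, hs, -⟩ := exists_isAffineOpen_mem_and_subset (x := s) (U := ⊤) trivial
    refine ⟨U, hU, hs, fun V U' hV hU' eV eU => ?_⟩
    unfold ChartSep
    letI := (p.appLE U V eV).hom.toAlgebra
    letI := (g.appLE U U' eU).hom.toAlgebra
    letI : Module Γ(S, U) Γ(F, V) := Module.compHom _ (p.appLE U V eV).hom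
    haveI : IsScalarTower Γ(S, U) Γ(X, V) Γ(F, V) := IsScalarTower.of_algebraMap_smul fun _ _ => rfl
    letI : ∀ i, Module Γ(S, U) Γ(G i, V) := fun i => Module.compHom _ (p.appLE U V eV).hom
    haveI : ∀ i, IsScalarTower Γ(S, U) Γ(X, V) Γ(G i, V) := fun i =>
      IsScalarTower.of_algebraMap_smul fun _ _ => rfl
    haveI : IsNoetherianRing Γ(X, V) := IsLocallyNoetherian.component_noetherian ⟨V, hV⟩
    haveI : Module.Finite Γ(X, V) Γ(F, V) := haveI : SheafOfModules.IsFiniteType (R := X.ringCatSheaf) F := hF.2
      Lib.CohBasics.Affine.finite_sections hV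
    haveI : ∀ i, Module.Flat Γ(S, U) Γ(G i, V) := fun i =>
      H47.FlatKernelScheme.flat_sections p (G i) hU hV eV (hG i)
    refine bcInj_of_fibres _ (fun q _ => ?_) _
    obtain ⟨s', hs', ⟨e⟩⟩ := exists_residue_equiv hU ⟨q, inferInstance⟩
    letI := ((S.fromSpecResidueField s').appLE U ⊤ hs').hom.toAlgebra
    exact BCInj.of_algEquiv (Algebra.TensorProduct.congr AlgEquiv.refl e)
      (chartSep_of_sep p (S.fromSpecResidueField s') u (h s') hU hV (isAffineOpen_top _) eV hs')

end Groth.Agent.S4910
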