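import Groth.Statements.S4911
import Groth.Agent.Lib.SchDom.Sep

set_option autoImplicit false
universe u
open CategoryTheory AlgebraicGeometry
open EGA43

namespace Groth.Agent.S4911

open AlgebraicGeometry CategoryTheory Lib.SchDom
set_option linter.style.haveILetI false

open CategoryTheory.Limits in
/-- Case Z_λ = X: let k be a field, X a k-scheme, u_i : F ⟶ G_i a separating family of homomorphisms of
quasi-coherent O_X-modules (a section of F over an open subset killed by every u_i is zero) and S'
an arbitrary k-scheme. Then the family pulled back to X ×_k S' is separating. (The published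
statement allows homomorphisms into direct images (f_λ)_*G_λ; this row is the case Z_λ = X.) -/
theorem result {k : Type u} [Field k] {X S' : Scheme.{u}}
    (p : X ⟶ Spec (CommRingCat.of k)) (q : S' ⟶ Spec (CommRingCat.of k))
    (F : X.Modules) [Coh.IsQCoh F] {ι : Type u} (G : ι → X.Modules) [∀ i, Coh.IsQCoh (G i)] (u : ∀ i, F ⟶ G i)
    (h : (∀ (V : (X).Opens) (t : ↑((F).presheaf.obj (Opposite.op V))), (∀ i, (Scheme.Modules.Hom.mapPresheaf (u i)).app (Opposite.op V) t = 0) → t = 0)) :
    (∀ (V : (pullback p q).Opens) (t : ↑(((Scheme.Modules.pullback (pullback.fst p q)).obj F).presheaf.obj (Opposite.op V))), (∀ i, (Scheme.Modules.Hom.mapPresheaf ((Scheme.Modules.pullback (pullback.fst p q)).map (u i))).app (Opposite.op V) t = 0) → t = 0) := by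
  haveI : F.IsQuasicoherent := ‹Coh.IsQCoh F›
  haveI : ∀ i, (G i).IsQuasicoherent := fun i => ‹∀ i, Coh.IsQCoh (G i)› i
  refine sep_of_chartSep p q u fun s => ⟨⊤, isAffineOpen_top _, trivial, fun V U' hV hU' eV eU => ?_⟩
  unfold ChartSep
  letI := (p.appLE ⊤ V eV).hom.toAlgebra
  letI := (q.appLE ⊤ U' eU).hom.toAlgebra
  letI : Module Γ(Spec (CommRingCat.of k), ⊤) Γ(F, V) := Module.compHom _ (p.appLE ⊤ V eV).hom
  haveI : IsScalarTower Γ(Spec (CommRingCat.of k), ⊤) Γ(X, V) Γ(F, V) :=
    IsScalarTower.of_algebraMap_smul fun _ _ => rfl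
  letI : ∀ i, Module Γ(Spec (CommRingCat.of k), ⊤) Γ(G i, V) := fun i =>
    Module.compHom _ (p.appLE ⊤ V eV).hom
  haveI : ∀ i, IsScalarTower Γ(Spec (CommRingCat.of k), ⊤) Γ(X, V) Γ(G i, V) := fun i =>
    IsScalarTower.of_algebraMap_smul fun _ _ => rfl
  have hF : IsField Γ(Spec (CommRingCat.of k), ⊤) :=
    (Scheme.ΓSpecIso (CommRingCat.of k)).commRingCatIsoToRingEquiv.toMulEquiv.isField (Field.toIsField k)
  letI := hF.toField
  exact bcInj_of_field _ (injLoc_of_sep u h hV) _

end Groth.Agent.S4911
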