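import Groth.Statements.S4914
import Groth.Agent.H46.OpenAt

set_option autoImplicit false
open CategoryTheory AlgebraicGeometry
universe u v w
open EGA43

namespace Groth.Agent.S4914

/-- Let ψ : X → Y be a continuous map, x a point of X, and (Y_i) a locally finite covering of Y by
closed subsets. If for every index i with ψ x ∈ Y_i the restriction ψ⁻¹(Y_i) → Y_i of ψ is open at
x, then ψ is open at x. -/
theorem result {α : Type u} {β : Type v} {ι : Type w} [TopologicalSpace α]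
    [TopologicalSpace β] (ψ : α → β) (hψ : Continuous ψ) (x : α) (Y : ι → Set β) (hY : LocallyFinite Y)
    (hcl : ∀ i, IsClosed (Y i)) (hcov : ⋃ i, Y i = Set.univ)
    (h : ∀ i, ∀ hi : ψ x ∈ Y i, EGA43.IsOpenAt ((Y i).restrictPreimage ψ) ⟨x, hi⟩) :
    EGA43.IsOpenAt ψ x := by
  intro U hU
  have hfin : {i | ψ x ∈ Y i}.Finite := hY.point_finite (ψ x)
  have hK : (⋃ i : {i // ψ x ∉ Y i}, Y i.1)ᶜ ∈ nhds (ψ x) := by
    refine IsOpen.mem_nhds ((hY.comp_injective Subtype.val_injective).isClosed_iUnion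
      fun i => hcl i.1).isOpen_compl ?_
    simp only [Set.mem_compl_iff, Set.mem_iUnion, not_exists]
    exact fun i => i.2
  have hW : ∀ i ∈ {i | ψ x ∈ Y i}, {z | z ∈ Y i → z ∈ ψ '' U} ∈ nhds (ψ x) := by
    intro i hi
    have h' := h i hi (Subtype.val ⁻¹' U) (continuous_subtype_val.continuousAt.preimage_mem_nhds hU)
    rw [nhds_subtype_eq_comap, Filter.mem_comap] at h'
    obtain ⟨W, hW, hWU⟩ := h'
    refine Filter.mem_of_superset hW fun z hz hzi => ?_
    obtain ⟨a, ha, hae⟩ := hWU (show (⟨z, hzi⟩ : Y i) ∈ Subtype.val ⁻¹' W from hz)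
    exact ⟨a.1, ha, congrArg Subtype.val hae⟩
  refine Filter.mem_of_superset (Filter.inter_mem hK ((Filter.biInter_mem hfin).2 hW)) ?_
  rintro z ⟨hz1, hz2⟩
  obtain ⟨i, hi⟩ := Set.mem_iUnion.1 (hcov.symm ▸ Set.mem_univ z : z ∈ ⋃ i, Y i)
  by_cases hxi : ψ x ∈ Y i
  · exact Set.mem_iInter₂.1 hz2 i hxi hi
  · exact absurd (Set.mem_iUnion.2 ⟨⟨i, hxi⟩, hi⟩) hz1

end Groth.Agent.S4914
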