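import Groth.Statements.S4916
import Groth.Agent.H46.OpenAt

set_option autoImplicit false
open CategoryTheory AlgebraicGeometry
universe u v w
open EGA43

namespace Groth.Agent.S4916

/-- Let ψ : X → Y be a continuous map of topological spaces and y a point of Y. The set of points x of
the fibre ψ⁻¹(y) at which ψ is open is a closed subset of ψ⁻¹(y). -/
theorem result {α : Type u} {β : Type v} [TopologicalSpace α] [TopologicalSpace β]
    (ψ : α → β) (hψ : Continuous ψ) (y : β) :
    IsClosed {x : ↥(ψ ⁻¹' {y}) | EGA43.IsOpenAt ψ x.1} := by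
  rw [← isOpen_compl_iff, isOpen_iff_forall_mem_open]
  intro a ha
  simp only [Set.mem_compl_iff, Set.mem_ofPred_eq, EGA43.IsOpenAt, not_forall] at ha
  obtain ⟨U, hU, hUy⟩ := ha
  obtain ⟨V, hVU, hV, haV⟩ := mem_nhds_iff.1 hU
  refine ⟨Subtype.val ⁻¹' V, ?_, hV.preimage continuous_subtype_val, haV⟩
  intro b hb hopen
  refine hUy ?_
  have e : ψ b.1 = ψ a.1 := b.2.trans a.2.symm
  exact Filter.mem_of_superset (e ▸ hopen V (hV.mem_nhds hb)) (Set.image_mono hVU)

end Groth.Agent.S4916
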