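import Groth.Statements.S4917
import Groth.Agent.H46.Equidim

set_option autoImplicit false
open CategoryTheory AlgebraicGeometry
universe u v w
open EGA43

namespace Groth.Agent.S4917

/-- Assume Y is a locally Noetherian scheme and X is an irreducible scheme, and consider a dominant
morphism f : X ⟶ Y that is locally of finite type. Fix a point x of X and write y = f x. If, for
every irreducible component of the fibre X_y that contains x, the morphism f is open at the generic
point of that component, then f is equidimensional at x. -/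
theorem result {X Y : Scheme.{u}} [IsLocallyNoetherian Y]
    [IrreducibleSpace X] (f : X ⟶ Y) [LocallyOfFiniteType f] [IsDominant f] (x : X)
    (h : ∀ z : ↥(f.fiber (f.base x)), f.asFiber x ∈ closure {z} →
      (∀ z' : ↥(f.fiber (f.base x)), z ∈ closure {z'} → z' = z) →
      EGA43.IsOpenAt f.base ((f.fiberι (f.base x)).base z)) :
    EGA43.IsEquidimAt f x := by
  haveI := Groth.Agent.H46.OpenDim.exists_trd_eq (f := f)
  set ξ₀ := genericPoint X with hξ₀
  have hgen : ∀ v, ξ₀ ⤳ v := fun v => genericPoint_specializes v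
  have hη : ∀ y : Y, f ξ₀ ⤳ y := fun y => by
    rw [specializes_iff_mem_closure, ← Groth.Agent.H46.Equidim.closure_image_closure' f ξ₀,
      genericPoint_closure, Set.image_univ, f.denseRange.closure_range]
    trivial
  obtain ⟨ζ, hζ, hζx, hmax, he⟩ := Groth.Agent.H46.FibreTrdeg.exists_isMaxFib_trd_eq f x
  have hζe : Groth.Agent.H46.FibreTrdeg.trd f ζ ≤ Groth.Agent.H46.FibreTrdeg.trd f ξ₀ := by
    obtain ⟨z, hz⟩ := Groth.Agent.Lib.Cyc.FieldDim.exists_fiberι_eq f ζ (f.base x) hζ
    have hopen := h z ?_ ?_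
    · rw [hz] at hopen
      obtain ⟨ξ, -, hfξ, htrd⟩ := this ζ hmax hopen (f ξ₀) (hη _)
      rw [← htrd]
      exact Groth.Agent.H46.FibreTrdeg.trd_le f (hgen ξ) hfξ.symm
    · refine specializes_iff_mem_closure.1 ?_
      rw [Groth.Agent.Lib.Cyc.FieldDim.fiber_specializes_iff, f.fiberι_asFiber, hz]
      exact hζx
    · intro z' hz'
      refine ((Groth.Agent.Lib.Cyc.FieldDim.isMaxFib_iff f _ z).1 ?_) z'
        (specializes_iff_mem_closure.2 hz')
      rw [hz]; exact hmax
  refine Groth.Agent.H46.Equidim.isEquidimAt_of f x (Groth.Agent.H46.FibreTrdeg.trd f ξ₀)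
    ⟨_, Groth.Agent.Lib.FibreDim.Semicont.isOpen_setOf_fibreDimAt_le f
      (Groth.Agent.H46.FibreTrdeg.trd f ξ₀ : WithBot ℕ∞)⟩ ?_ (fun v _ hv => ?_) fun u hu hu' => ?_
  · show FlatMor.fibreDimAt f x ≤ _
    rw [he, Nat.cast_le]; exact hζe
  · obtain rfl := hv ξ₀ (hgen v)
    exact ⟨fun y hy => (hy.antisymm (hη y)).eq, (hgen x).map f.continuous⟩
  · refine le_antisymm ?_ (Groth.Agent.H46.FibreTrdeg.trd_le_of_specializes f (hgen u) hu')
    have := (Groth.Agent.H46.FibreTrdeg.trd_le_fibreDimAt f u).trans hu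
    exact_mod_cast this

end Groth.Agent.S4917
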