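import Groth.Statements.S4919
import Groth.Agent.H46.FibreDimNhd

set_option autoImplicit false
open CategoryTheory AlgebraicGeometry
universe u v w
open EGA43

namespace Groth.Agent.S4919

/-- Let Y be an irreducible locally Noetherian scheme with generic point η, f : X ⟶ Y a morphism locally
of finite type, y a point of Y and Z an irreducible component of the fibre f⁻¹(y) (a maximal
irreducible subset of f⁻¹(y), with the topology induced from X) such that f is open at the generic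
point ζ of Z. Then there is an irreducible component X' of X containing Z and dominating Y such that
the local dimension of X' ∩ f⁻¹(y) at ζ equals dim Z, and dim Z = dim (X' ∩ f⁻¹(η)). (The published
statement writes the middle term as the dimension of the whole of X' ∩ f⁻¹(y); its proof yields only
the local dimension at the generic point of Z, and the global equality can fail: for the
endomorphism (a, b) ↦ (ab, b² − b) of the affine plane over a field, the fibre over the origin is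
the line b = 0 together with the isolated point (0, 1), at which the map is étale, hence open; with
Z that point, X' is the whole plane, X' ∩ f⁻¹(y) has dimension 1 and dim Z = 0. So the local form is
stated here.) -/
theorem result {X Y : Scheme.{u}} [IrreducibleSpace Y]
    [IsLocallyNoetherian Y] (f : X ⟶ Y) [LocallyOfFiniteType f] (y : Y) (Z : Set X)
    (hZy : Z ⊆ f.base ⁻¹' {y}) (hZ : IsIrreducible Z)
    (hZmax : ∀ Z' : Set X, IsIrreducible Z' → Z' ⊆ f.base ⁻¹' {y} → Z ⊆ Z' → Z' = Z)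
    (hopen : ∀ ζ ∈ Z, Z ⊆ closure {ζ} → EGA43.IsOpenAt f.base ζ) :
    ∃ X' ∈ irreducibleComponents (X : Type u), Z ⊆ X' ∧ Dense (f.base '' X') ∧
      (∀ ζ ∈ Z, Z ⊆ closure {ζ} → ∀ hζ : ζ ∈ X' ∩ f.base ⁻¹' {y},
        FlatMor.localDim ↥(X' ∩ f.base ⁻¹' {y}) ⟨ζ, hζ⟩ = topologicalKrullDim ↥Z) ∧
      topologicalKrullDim ↥Z = topologicalKrullDim ↥(X' ∩ f.base ⁻¹' {genericPoint Y}) := by
  classical
  let F := f.fiber y
  have hrange : ∀ a ∈ Z, a ∈ Set.range (f.fiberι y) := fun a ha => by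
    rw [f.range_fiberι]; exact hZy ha
  have hpre : IsIrreducible (f.fiberι y ⁻¹' Z) := by
    obtain ⟨a, ha⟩ := hZ.nonempty
    obtain ⟨b, rfl⟩ := hrange a ha
    refine ⟨⟨b, ha⟩, ?_⟩
    intro u v hu hv hau hav
    obtain ⟨u', hu', rfl⟩ := (f.fiberι y).isEmbedding.isInducing.isOpen_iff.1 hu
    obtain ⟨v', hv', rfl⟩ := (f.fiberι y).isEmbedding.isInducing.isOpen_iff.1 hv
    obtain ⟨c, hc, hcu, hcv⟩ := hZ.2 u' v' hu' hv'
      (by obtain ⟨c, hc1, hc2⟩ := hau; exact ⟨_, hc1, hc2⟩)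
      (by obtain ⟨c, hc1, hc2⟩ := hav; exact ⟨_, hc1, hc2⟩)
    obtain ⟨d, rfl⟩ := hrange c hc
    exact ⟨d, hc, hcu, hcv⟩
  obtain ⟨z, hz⟩ := QuasiSober.sober hpre.closure isClosed_closure
  have hmaxeq : ∀ w : ↥F, z ∈ closure ({w} : Set ↥F) →
      Z = f.fiberι y '' closure {w} := by
    intro w hw
    refine (hZmax _ (isIrreducible_singleton.closure.image _ (f.fiberι y).continuous.continuousOn)
      ?_ ?_).symm
    · rintro _ ⟨b, -, rfl⟩
      exact Groth.Agent.Lib.Cyc.FieldDim.apply_fiberι f y b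
    · intro a ha
      obtain ⟨b, rfl⟩ := hrange a ha
      refine ⟨b, ?_, rfl⟩
      exact ((specializes_iff_mem_closure.2 hw).trans
        (hz.specializes (subset_closure ha))).mem_closure
  have hZeq : Z = f.fiberι y '' closure {z} := hmaxeq z (subset_closure rfl)
  set ζ := f.fiberι y z with hζdef
  have hζy : f ζ = y := Groth.Agent.Lib.Cyc.FieldDim.apply_fiberι f y z
  have hζZ : ζ ∈ Z := hZeq ▸ ⟨z, subset_closure rfl, rfl⟩
  have hZcl : Z ⊆ closure {ζ} := by
    rw [hZeq]
    refine (image_closure_subset_closure_image (f.fiberι y).continuous).trans ?_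
    rw [Set.image_singleton]
  have hmax : Groth.Agent.H46.FibreTrdeg.IsMaxFib f ζ := by
    refine (Groth.Agent.Lib.Cyc.FieldDim.isMaxFib_iff f y z).2 fun w hw => ?_
    obtain ⟨b, hb, hbw⟩ : f.fiberι y w ∈ f.fiberι y '' closure {z} :=
      hZeq ▸ (hmaxeq w hw.mem_closure ▸ ⟨w, subset_closure rfl, rfl⟩ : f.fiberι y w ∈ Z)
    rw [(f.fiberι y).isEmbedding.injective hbw] at hb
    exact (hw.antisymm (specializes_iff_mem_closure.2 hb)).eq
  have hZset : Z = closure {ζ} ∩ f.base ⁻¹' {f ζ} := by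
    refine Set.Subset.antisymm (fun a ha => ⟨hZcl ha, (hZy ha).trans hζy.symm⟩) ?_
    rintro a ⟨ha, hfa⟩
    obtain ⟨b, rfl⟩ := Groth.Agent.Lib.Cyc.FieldDim.exists_fiberι_eq f a y (hfa.trans hζy)
    rw [hZeq]
    exact ⟨b, specializes_iff_mem_closure.1 ((Groth.Agent.Lib.Cyc.FieldDim.fiber_specializes_iff f
      y z b).2 (specializes_iff_mem_closure.2 ha)), rfl⟩
  have hη : ∀ y' : Y, genericPoint Y ⤳ y' := fun y' => genericPoint_specializes y'
  obtain ⟨ξ₁, hξ₁, hfξ₁, htrd⟩ := Groth.Agent.H46.OpenDim.exists_trd_eq f ζ hmax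
    (hopen ζ hζZ hZcl) (genericPoint Y) (hη _)
  obtain ⟨ξ, hξξ₁, hξ⟩ := Groth.Agent.Lib.Cyc.DimFun.exists_isMaxPt_specializes ξ₁
  have hfξ : f ξ = genericPoint Y :=
    ((hfξ₁ ▸ hξξ₁.map f.continuous).antisymm (hη _)).eq
  have hξζ : ξ ⤳ ζ := hξξ₁.trans hξ₁
  have htrd' : Groth.Agent.H46.FibreTrdeg.trd f ξ = Groth.Agent.H46.FibreTrdeg.trd f ζ :=
    le_antisymm (Groth.Agent.H46.FibreTrdeg.trd_le_of_specializes f hξζ hmax)
      (htrd ▸ Groth.Agent.H46.FibreTrdeg.trd_le f hξξ₁ (hfξ.trans hfξ₁.symm))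
  have hdimZ : topologicalKrullDim ↥Z = (Groth.Agent.H46.FibreTrdeg.trd f ζ : WithBot ℕ∞) := by
    rw [hZset]
    exact Groth.Agent.H46.FibreTrdeg.dim_closure_inter f ζ
  refine ⟨closure {ξ}, Groth.Agent.Lib.Cyc.FieldDim.closure_mem_irreducibleComponents ξ hξ,
    hZcl.trans (closure_minimal (Set.singleton_subset_iff.2 hξζ.mem_closure) isClosed_closure),
    ?_, ?_, ?_⟩
  · rw [dense_iff_closure_eq, Groth.Agent.H46.Equidim.closure_image_closure' f ξ, hfξ]
    exact genericPoint_closure _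
  · intro ζ' hζ' hζ'cl hmem
    obtain rfl : ζ' = ζ := ((specializes_iff_mem_closure.2 (hζ'cl hζZ)).antisymm
      (specializes_iff_mem_closure.2 (hZcl hζ'))).eq
    rw [hdimZ, Groth.Agent.H46.FibreTrdeg.localDim_congr
      (congrArg (fun t => closure ({ξ} : Set X) ∩ f.base ⁻¹' {t}) hζy.symm) _ hmem
        ⟨hmem.1, rfl⟩]
    refine le_antisymm
      ((Groth.Agent.H46.FibreTrdeg.localDim_closed_inter_le_iff f isClosed_closure hmem.1 _).2
        fun a _ ha hs => hmax a ha hs ▸ le_rfl) ?_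
    rw [← htrd']
    exact Groth.Agent.H46.Equidim.trd_le_localDim_closure_inter f _ ξ hξζ
  · rw [hdimZ, ← htrd', ← hfξ]
    exact (Groth.Agent.H46.FibreTrdeg.dim_closure_inter f ξ).symm

end Groth.Agent.S4919
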