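import Groth.Statements.S4920
import Groth.Agent.H46.FibreDimNhd

set_option autoImplicit false
open CategoryTheory AlgebraicGeometry
universe u v w
open EGA43

namespace Groth.Agent.S4920

/-- Let Y be an irreducible locally Noetherian scheme with generic point η, f : X ⟶ Y a morphism locally
of finite type and y a point of Y such that f is open at every point of the fibre over y. For z in Y
write E(z) for the set of dimensions of the irreducible components of the fibre X_z. Then E(y) ⊆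
E(η), and consequently dim X_y ≤ dim X_η. -/
theorem result {X Y : Scheme.{u}} [IrreducibleSpace Y] [IsLocallyNoetherian Y]
    (f : X ⟶ Y) [LocallyOfFiniteType f] (y : Y) (h : ∀ x : X, f.base x = y → EGA43.IsOpenAt f.base x) :
    letI E : Y → Set (WithBot ℕ∞) := fun z =>
      (fun Z : Set ↥(f.fiber z) => topologicalKrullDim ↥Z) '' irreducibleComponents ↥(f.fiber z)
    E y ⊆ E (genericPoint Y) ∧
      topologicalKrullDim ↥(f.fiber y) ≤ topologicalKrullDim ↥(f.fiber (genericPoint Y)) := by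
  open Groth.Agent.Lib.Cyc Groth.Agent.H46.FibreTrdeg in
  have hη : ∀ y' : Y, genericPoint Y ⤳ y' := fun y' => genericPoint_specializes y'
  have key : ∀ ζ : X, f ζ = y → Groth.Agent.H46.FibreTrdeg.IsMaxFib f ζ →
      ∃ ξ, f ξ = genericPoint Y ∧ Groth.Agent.H46.FibreTrdeg.IsMaxFib f ξ ∧
        Groth.Agent.H46.FibreTrdeg.trd f ξ = Groth.Agent.H46.FibreTrdeg.trd f ζ := by
    intro ζ hζ hmax
    obtain ⟨ξ, hξ, hfξ, htrd⟩ :=
      Groth.Agent.H46.OpenDim.exists_trd_eq f ζ hmax (h ζ hζ) (genericPoint Y) (hη _)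
    refine ⟨ξ, hfξ, fun a ha hs => Groth.Agent.H46.FibreTrdeg.eq_of_trd_le f hs ha ?_, htrd⟩
    rw [htrd]
    exact Groth.Agent.H46.FibreTrdeg.trd_le_of_specializes f (hs.trans hξ) hmax
  refine ⟨?_, ?_⟩
  · rintro _ ⟨Z, hZ, rfl⟩
    obtain ⟨z, hz, rfl⟩ := Groth.Agent.H46.Equidim.exists_generic_of_mem_irreducibleComponents hZ
    obtain ⟨ξ, hfξ, hξmax, htrd⟩ := key (f.fiberι y z)
      (Groth.Agent.Lib.Cyc.FieldDim.apply_fiberι f y z)
      ((Groth.Agent.Lib.Cyc.FieldDim.isMaxFib_iff f y z).2 hz)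
    obtain ⟨w, rfl⟩ := Groth.Agent.Lib.Cyc.FieldDim.exists_fiberι_eq f ξ (genericPoint Y) hfξ
    refine ⟨closure {w}, Groth.Agent.Lib.Cyc.FieldDim.closure_mem_irreducibleComponents w
      ((Groth.Agent.Lib.Cyc.FieldDim.isMaxFib_iff f _ w).1 hξmax), ?_⟩
    show topologicalKrullDim ↥(closure ({w} : Set ↥(f.fiber (genericPoint Y)))) =
      topologicalKrullDim ↥(closure ({z} : Set ↥(f.fiber y)))
    rw [Groth.Agent.Lib.Cyc.FieldDim.topologicalKrullDim_closure (K := Y.residueField y)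
        (f.fiberToSpecResidueField y) z,
      Groth.Agent.Lib.Cyc.FieldDim.topologicalKrullDim_closure
        (K := Y.residueField (genericPoint Y)) (f.fiberToSpecResidueField (genericPoint Y)) w,
      Groth.Agent.H46.FibreTrdeg.fdelta_fiber, Groth.Agent.H46.FibreTrdeg.fdelta_fiber, htrd]
  · refine Groth.Agent.Lib.FibreDim.Basic.topologicalKrullDim_fiber_le f fun x hx => ?_
    obtain ⟨ζ, hζ, -, hmax, he⟩ := Groth.Agent.H46.FibreTrdeg.exists_isMaxFib_trd_eq f x
    obtain ⟨ξ, hfξ, -, htrd⟩ := key ζ (hζ.trans hx) hmax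
    rw [he, ← htrd]
    exact Groth.Agent.H46.FibreTrdeg.trd_le_dim_fiber f ξ _ hfξ

end Groth.Agent.S4920
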