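import Groth.Statements.S4921
import Groth.Agent.H46.FibreDimNhd

set_option autoImplicit false
open CategoryTheory AlgebraicGeometry
universe u v w
open EGA43

namespace Groth.Agent.S4921

/-- Let Y be a locally Noetherian scheme, f : X ⟶ Y a proper morphism and y a point of Y such that f is
open at every point of the fibre over y. Then the function z ↦ dim X_z is constant on a
neighbourhood of y. -/
theorem result {X Y : Scheme.{u}} [IsLocallyNoetherian Y] (f : X ⟶ Y)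
    [IsProper f] (y : Y) (h : ∀ x : X, f.base x = y → EGA43.IsOpenAt f.base x) :
    ∃ V ∈ nhds y, ∀ z ∈ V, topologicalKrullDim ↥(f.fiber z) = topologicalKrullDim ↥(f.fiber y) := by
  obtain ⟨Vy, hVy, hyV, hfin⟩ :=
    Groth.Agent.Lib.Cyc.DimFun.exists_open_finite_maxPts (X := Y) isClosed_univ y
  let B : Set Y :=
    ⋃ η ∈ {η | η ∈ Vy ∧ Groth.Agent.Lib.Cyc.DimFun.IsMaxPt η ∧ ¬ η ⤳ y}, closure {η}
  have hB : IsClosed B := Set.Finite.isClosed_biUnion
    (hfin.subset fun η hη => ⟨hη.1, trivial, fun b _ => hη.2.1 b⟩) fun η _ => isClosed_closure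
  have hyB : y ∉ B := by
    simp only [B, Set.mem_iUnion, not_exists]
    exact fun η hη hc => hη.2.2 (specializes_iff_mem_closure.mpr hc)
  refine ⟨{z | topologicalKrullDim ↥(f.fiber z) ≤ topologicalKrullDim ↥(f.fiber y)} ∩ (Vy ∩ Bᶜ),
    Filter.inter_mem ((Groth.Agent.Lib.FibreDim.Global.isOpen_setOf_fibre_dim_le f f.isClosedMap
      _).mem_nhds (show topologicalKrullDim ↥(f.fiber y) ≤ _ from le_rfl))
      (Filter.inter_mem (hVy.mem_nhds hyV) (hB.isOpen_compl.mem_nhds hyB)), fun z hz => ?_⟩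
  refine le_antisymm hz.1 ?_
  by_cases hne : ∃ x₀, f x₀ = y
  · obtain ⟨x₀, hx₀⟩ := hne
    obtain ⟨ζ, hζ, hmax, he⟩ := Groth.Agent.H46.FibreDimNhd.exists_trd_eq_dim f x₀ y hx₀
    obtain ⟨η, hηz, hη⟩ := Groth.Agent.Lib.Cyc.DimFun.exists_isMaxPt_specializes z
    have hηy : η ⤳ y := by
      by_contra hc
      exact hz.2.2 (Set.mem_biUnion (⟨hηz.mem_open hVy hz.2.1, hη, hc⟩ :
        η ∈ {η | η ∈ Vy ∧ Groth.Agent.Lib.Cyc.DimFun.IsMaxPt η ∧ ¬ η ⤳ y}) hηz.mem_closure)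
    obtain ⟨ξ, hξ, hfξ, htrd⟩ := Groth.Agent.H46.OpenDim.exists_trd_eq f ζ hmax (h ζ hζ) η
      (hζ.symm ▸ hηy)
    rw [he]
    have hmem := hηz.mem_closed
      (Groth.Agent.Lib.FibreDim.Global.isClosed_setOf_le_fibre_dim f f.isClosedMap
        (Groth.Agent.H46.FibreTrdeg.trd f ζ))
      (show _ ≤ topologicalKrullDim ↥(f.fiber η) from
        htrd ▸ Groth.Agent.H46.FibreTrdeg.trd_le_dim_fiber f ξ η hfξ)
    exact hmem
  · exact Groth.Agent.Lib.FibreDim.Basic.topologicalKrullDim_fiber_le f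
      fun x hx => (hne ⟨x, hx⟩).elim

end Groth.Agent.S4921
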