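import Groth.Statements.S4922
import Groth.Agent.H46.FibreDimNhd

set_option autoImplicit false
open CategoryTheory AlgebraicGeometry
universe u v w
open EGA43

namespace Groth.Agent.S4922

/-- Let Y be a locally Noetherian scheme, f : X ⟶ Y an open morphism of finite type and y a point of Y.
If dim X_y = dim X_{η} for the generic point η of every irreducible component of Y containing y,
then z ↦ dim X_z is constant on a neighbourhood of y. -/
theorem result {X Y : Scheme.{u}} [IsLocallyNoetherian Y]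
    (f : X ⟶ Y) [LocallyOfFiniteType f] [QuasiCompact f] (hf : IsOpenMap f.base) (y : Y)
    (h : ∀ η : Y, y ∈ closure {η} → closure {η} ∈ irreducibleComponents (Y : Type u) →
      topologicalKrullDim ↥(f.fiber y) = topologicalKrullDim ↥(f.fiber η)) :
    ∃ V ∈ nhds y, ∀ z ∈ V, topologicalKrullDim ↥(f.fiber z) = topologicalKrullDim ↥(f.fiber y) := by
  obtain ⟨Vy, hVy, hyV, hfin⟩ :=
    Groth.Agent.Lib.Cyc.DimFun.exists_open_finite_maxPts (X := Y) isClosed_univ y
  let B : Set Y :=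
    ⋃ η ∈ {η | η ∈ Vy ∧ Groth.Agent.Lib.Cyc.DimFun.IsMaxPt η ∧ ¬ η ⤳ y}, closure {η}
  have hB : IsClosed B := Set.Finite.isClosed_biUnion
    (hfin.subset fun η hη => ⟨hη.1, trivial, fun b _ => hη.2.1 b⟩) fun η _ => isClosed_closure
  have hyB : y ∉ B := by
    simp only [B, Set.mem_iUnion, not_exists]
    exact fun η hη hc => hη.2.2 (specializes_iff_mem_closure.mpr hc)
  have hopen : ∀ a : X, EGA43.IsOpenAt f.base a := fun a => fun U hU => hf.image_mem_nhds hU
  have hup : ∀ z ∈ Vy ∩ Bᶜ,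
      topologicalKrullDim ↥(f.fiber z) ≤ topologicalKrullDim ↥(f.fiber y) := by
    intro z hz
    obtain ⟨η, hηz, hη⟩ := Groth.Agent.Lib.Cyc.DimFun.exists_isMaxPt_specializes z
    have hηy : η ⤳ y := by
      by_contra hc
      exact hz.2 (Set.mem_biUnion (⟨hηz.mem_open hVy hz.1, hη, hc⟩ :
        η ∈ {η | η ∈ Vy ∧ Groth.Agent.Lib.Cyc.DimFun.IsMaxPt η ∧ ¬ η ⤳ y}) hηz.mem_closure)
    rw [h η hηy.mem_closure (Groth.Agent.Lib.Cyc.FieldDim.closure_mem_irreducibleComponents η hη)]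
    refine Groth.Agent.Lib.FibreDim.Basic.topologicalKrullDim_fiber_le f fun x hx => ?_
    obtain ⟨ζ, hζ, -, hmax, he⟩ := Groth.Agent.H46.FibreTrdeg.exists_isMaxFib_trd_eq f x
    obtain ⟨ξ, -, hfξ, htrd⟩ := Groth.Agent.H46.OpenDim.exists_trd_eq f ζ hmax (hopen ζ) η
      ((hζ.trans hx).symm ▸ hηz)
    rw [he, ← htrd]
    exact Groth.Agent.H46.FibreTrdeg.trd_le_dim_fiber f ξ _ hfξ
  by_cases hne : ∃ x₀, f x₀ = y
  · obtain ⟨x₀, hx₀⟩ := hne
    obtain ⟨ζ, hζ, hmax, he⟩ := Groth.Agent.H46.FibreDimNhd.exists_trd_eq_dim f x₀ y hx₀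
    have hlow := Groth.Agent.H46.FibreDimNhd.exists_nhds_le_fibreDimAt f y ⊤
      (Groth.Agent.H46.FibreTrdeg.trd f ζ) fun y' hy' => by
        obtain ⟨ξ, -, hfξ, htrd⟩ :=
          Groth.Agent.H46.OpenDim.exists_trd_eq f ζ hmax (hopen ζ) y' (hζ.symm ▸ hy')
        exact ⟨ξ, trivial, hfξ, htrd.ge⟩
    refine ⟨_, Filter.inter_mem (Filter.inter_mem (hVy.mem_nhds hyV)
      (hB.isOpen_compl.mem_nhds hyB)) hlow, fun z hz => le_antisymm (hup z hz.1) ?_⟩
    obtain ⟨u, -, hu, hle⟩ := hz.2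
    rw [he]
    exact hle.trans (Groth.Agent.Lib.FibreDim.Basic.fibreDimAt_le_topologicalKrullDim f hu)
  · exact ⟨_, Filter.inter_mem (hVy.mem_nhds hyV) (hB.isOpen_compl.mem_nhds hyB),
      fun z hz => le_antisymm (hup z hz)
        (Groth.Agent.Lib.FibreDim.Basic.topologicalKrullDim_fiber_le f
          fun x hx => (hne ⟨x, hx⟩).elim)⟩

end Groth.Agent.S4922
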