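import Groth.Statements.S4923
import Groth.Agent.H46.FibreDimNhd

set_option autoImplicit false
open CategoryTheory AlgebraicGeometry
universe u v w
open EGA43

namespace Groth.Agent.S4923

/-- Let Y be a locally Noetherian scheme, f : X ⟶ Y an open morphism of finite type and y a point of Y;
for z in Y let E(z) be the set of dimensions of the irreducible components of the fibre X_z. If E(y)
= E(η) for the generic point η of every irreducible component of Y containing y, then E is constant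
on a neighbourhood of y. -/
theorem result {X Y : Scheme.{u}}
    [IsLocallyNoetherian Y] (f : X ⟶ Y) [LocallyOfFiniteType f] [QuasiCompact f] (hf : IsOpenMap f.base) (y : Y) :
    letI E : Y → Set (WithBot ℕ∞) := fun z =>
      (fun Z : Set ↥(f.fiber z) => topologicalKrullDim ↥Z) '' irreducibleComponents ↥(f.fiber z)
    (∀ η : Y, y ∈ closure {η} → closure {η} ∈ irreducibleComponents (Y : Type u) → E y = E η) →
      ∃ V ∈ nhds y, ∀ z ∈ V, E z = E y := by
  intro h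
  let E : Y → Set (WithBot ℕ∞) := fun z =>
    (fun Z : Set ↥(f.fiber z) => topologicalKrullDim ↥Z) '' irreducibleComponents ↥(f.fiber z)
  show ∃ V ∈ nhds y, ∀ z ∈ V, E z = E y
  change ∀ η : Y, y ∈ closure {η} → closure {η} ∈ irreducibleComponents (Y : Type u) → E y = E η at h
  have hopen : ∀ a : X, EGA43.IsOpenAt f.base a := fun a => fun U hU => hf.image_mem_nhds hU
  have hE : ∀ (z : Y) (c : WithBot ℕ∞), c ∈ E z ↔
      ∃ ζ, f ζ = z ∧ Groth.Agent.H46.FibreTrdeg.IsMaxFib f ζ ∧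
        c = (Groth.Agent.H46.FibreTrdeg.trd f ζ : WithBot ℕ∞) := by
    intro z c
    constructor
    · rintro ⟨Z, hZ, rfl⟩
      obtain ⟨w, hw, rfl⟩ :=
        Groth.Agent.H46.Equidim.exists_generic_of_mem_irreducibleComponents hZ
      refine ⟨f.fiberι z w, Groth.Agent.Lib.Cyc.FieldDim.apply_fiberι f z w,
        (Groth.Agent.Lib.Cyc.FieldDim.isMaxFib_iff f z w).2 hw, ?_⟩
      show topologicalKrullDim ↥(closure ({w} : Set ↥(f.fiber z))) = _
      rw [Groth.Agent.Lib.Cyc.FieldDim.topologicalKrullDim_closure (K := Y.residueField z)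
        (f.fiberToSpecResidueField z) w, Groth.Agent.H46.FibreTrdeg.fdelta_fiber, Int.toNat_natCast]
    · rintro ⟨ζ, hζ, hmax, rfl⟩
      obtain ⟨w, rfl⟩ := Groth.Agent.Lib.Cyc.FieldDim.exists_fiberι_eq f ζ z hζ
      refine ⟨closure {w}, Groth.Agent.Lib.Cyc.FieldDim.closure_mem_irreducibleComponents w
        ((Groth.Agent.Lib.Cyc.FieldDim.isMaxFib_iff f z w).1 hmax), ?_⟩
      show topologicalKrullDim ↥(closure ({w} : Set ↥(f.fiber z))) = _
      rw [Groth.Agent.Lib.Cyc.FieldDim.topologicalKrullDim_closure (K := Y.residueField z)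
        (f.fiberToSpecResidueField z) w, Groth.Agent.H46.FibreTrdeg.fdelta_fiber, Int.toNat_natCast]
  have hlift : ∀ ζ : X, Groth.Agent.H46.FibreTrdeg.IsMaxFib f ζ → ∀ y', y' ⤳ f ζ →
      ∃ ξ, ξ ⤳ ζ ∧ f ξ = y' ∧ Groth.Agent.H46.FibreTrdeg.IsMaxFib f ξ ∧
        Groth.Agent.H46.FibreTrdeg.trd f ξ = Groth.Agent.H46.FibreTrdeg.trd f ζ := by
    intro ζ hmax y' hy'
    obtain ⟨ξ, hξ, hfξ, htrd⟩ :=
      Groth.Agent.H46.OpenDim.exists_trd_eq f ζ hmax (hopen ζ) y' hy'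
    exact ⟨ξ, hξ, hfξ, fun a ha hs => Groth.Agent.H46.FibreTrdeg.eq_of_trd_le f hs ha
      (htrd ▸ Groth.Agent.H46.FibreTrdeg.trd_le_of_specializes f (hs.trans hξ) hmax), htrd⟩
  haveI := Groth.Agent.H46.QFin.isLocallyNoetherian_fiber f y
  haveI : IsNoetherian (f.fiber y) := {}
  have hfiny : (irreducibleComponents ↥(f.fiber y)).Finite :=
    TopologicalSpace.NoetherianSpace.finite_irreducibleComponents
  have hfinE : (E y).Finite := hfiny.image _
  have hlow : ∀ᶠ z in nhds y, ∀ c ∈ E y, c ∈ E z := by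
    refine (Filter.eventually_all_finite hfinE).2 fun c hc => ?_
    obtain ⟨ζ, hζ, hmax, rfl⟩ := (hE y c).1 hc
    let U : X.Opens := ⟨_, Groth.Agent.Lib.FibreDim.Semicont.isOpen_setOf_fibreDimAt_le f
      (Groth.Agent.H46.FibreTrdeg.trd f ζ : WithBot ℕ∞)⟩
    have hζU : ζ ∈ U := (Groth.Agent.H46.FibreTrdeg.fibreDimAt_of_isMaxFib f hmax).le
    refine (Groth.Agent.H46.FibreDimNhd.exists_nhds_le_fibreDimAt f y U
      (Groth.Agent.H46.FibreTrdeg.trd f ζ) fun y' hy' => ?_).mono fun z hz => ?_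
    · obtain ⟨ξ, hξ, hfξ, -, htrd⟩ := hlift ζ hmax y' (hζ.symm ▸ hy')
      exact ⟨ξ, hξ.mem_open U.2 hζU, hfξ, htrd.ge⟩
    · obtain ⟨u, huU, hu, hle⟩ := hz
      obtain ⟨a, ha, -, hamax, hae⟩ := Groth.Agent.H46.FibreTrdeg.exists_isMaxFib_trd_eq f u
      exact (hE z _).2 ⟨a, ha.trans hu, hamax, (le_antisymm hle huU).trans hae⟩
  obtain ⟨Vy, hVy, hyV, hfin⟩ :=
    Groth.Agent.Lib.Cyc.DimFun.exists_open_finite_maxPts (X := Y) isClosed_univ y
  let B : Set Y :=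
    ⋃ η ∈ {η | η ∈ Vy ∧ Groth.Agent.Lib.Cyc.DimFun.IsMaxPt η ∧ ¬ η ⤳ y}, closure {η}
  have hB : IsClosed B := Set.Finite.isClosed_biUnion
    (hfin.subset fun η hη => ⟨hη.1, trivial, fun b _ => hη.2.1 b⟩) fun η _ => isClosed_closure
  have hyB : y ∉ B := by
    simp only [B, Set.mem_iUnion, not_exists]
    exact fun η hη hc => hη.2.2 (specializes_iff_mem_closure.mpr hc)
  refine ⟨_, Filter.inter_mem (Filter.inter_mem (hVy.mem_nhds hyV)
    (hB.isOpen_compl.mem_nhds hyB)) hlow, fun z hz => Set.Subset.antisymm ?_ hz.2⟩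
  intro c hc
  obtain ⟨η, hηz, hη⟩ := Groth.Agent.Lib.Cyc.DimFun.exists_isMaxPt_specializes z
  have hηy : η ⤳ y := by
    by_contra hcy
    exact hz.1.2 (Set.mem_biUnion (⟨hηz.mem_open hVy hz.1.1, hη, hcy⟩ :
      η ∈ {η | η ∈ Vy ∧ Groth.Agent.Lib.Cyc.DimFun.IsMaxPt η ∧ ¬ η ⤳ y}) hηz.mem_closure)
  rw [h η hηy.mem_closure (Groth.Agent.Lib.Cyc.FieldDim.closure_mem_irreducibleComponents η hη)]
  obtain ⟨ζ, hζ, hmax, rfl⟩ := (hE z c).1 hc
  obtain ⟨ξ, -, hfξ, hξmax, htrd⟩ := hlift ζ hmax η (hζ.symm ▸ hηz)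
  exact (hE η _).2 ⟨ξ, hfξ, hξmax, by rw [htrd]⟩

end Groth.Agent.S4923
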