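import Groth.Statements.S4924
import Groth.Agent.H46.FibreDimNhd

set_option autoImplicit false
open CategoryTheory AlgebraicGeometry
universe u v w
open EGA43

namespace Groth.Agent.S4924

/-- Let Y be a locally Noetherian scheme, f : X ⟶ Y an open morphism of finite type and y a point of Y.
Then there is an open neighbourhood U of the fibre f⁻¹(y) in X such that the function z ↦ dim (U ∩
f⁻¹(z)) is constant on a neighbourhood of y. -/
theorem result {X Y : Scheme.{u}} [IsLocallyNoetherian Y]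
    (f : X ⟶ Y) [LocallyOfFiniteType f] [QuasiCompact f] (hf : IsOpenMap f.base) (y : Y) :
    ∃ U : X.Opens, f.base ⁻¹' {y} ⊆ (U : Set X) ∧ ∃ V ∈ nhds y, ∀ z ∈ V,
      topologicalKrullDim ↥((U : Set X) ∩ f.base ⁻¹' {z}) = topologicalKrullDim ↥((U : Set X) ∩ f.base ⁻¹' {y}) := by
  have hopen : ∀ a : X, EGA43.IsOpenAt f.base a := fun a => fun U hU => hf.image_mem_nhds hU
  by_cases hne : ∃ x₀, f x₀ = y
  · obtain ⟨x₀, hx₀⟩ := hne
    obtain ⟨ζ, hζ, hmax, he⟩ := Groth.Agent.H46.FibreDimNhd.exists_trd_eq_dim f x₀ y hx₀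
    let e := Groth.Agent.H46.FibreTrdeg.trd f ζ
    let U : X.Opens :=
      ⟨_, Groth.Agent.Lib.FibreDim.Semicont.isOpen_setOf_fibreDimAt_le f (e : WithBot ℕ∞)⟩
    have hUy : f.base ⁻¹' {y} ⊆ (U : Set X) := fun a ha =>
      (Groth.Agent.Lib.FibreDim.Basic.fibreDimAt_le_topologicalKrullDim f ha).trans he.le
    have hle : ∀ z, topologicalKrullDim ↥((U : Set X) ∩ f.base ⁻¹' {z}) ≤ (e : WithBot ℕ∞) :=
      fun z => (Groth.Agent.H46.FibreTrdeg.dim_open_inter_le_iff f U z e).2 fun a ha _ => by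
        have := (Groth.Agent.H46.FibreTrdeg.trd_le_fibreDimAt f a).trans ha
        exact_mod_cast this
    have hy : topologicalKrullDim ↥((U : Set X) ∩ f.base ⁻¹' {y}) = (e : WithBot ℕ∞) :=
      le_antisymm (hle y)
        (Groth.Agent.H46.FibreDimNhd.trd_le_dim_open_inter f U y ζ (hUy hζ) hζ)
    refine ⟨U, hUy, _, Groth.Agent.H46.FibreDimNhd.exists_nhds_le_fibreDimAt f y U e
      fun y' hy' => ?_, fun z hz => ?_⟩
    · obtain ⟨ξ, hξ, hfξ, htrd⟩ :=
        Groth.Agent.H46.OpenDim.exists_trd_eq f ζ hmax (hopen ζ) y' (hζ.symm ▸ hy')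
      exact ⟨ξ, hξ.mem_open U.2 (hUy hζ), hfξ, htrd.ge⟩
    · obtain ⟨u, huU, hu, hue⟩ := hz
      obtain ⟨a, ha, hau, -, hae⟩ := Groth.Agent.H46.FibreTrdeg.exists_isMaxFib_trd_eq f u
      rw [hy]
      refine le_antisymm (hle z) (le_trans (hue.trans hae.le) ?_)
      exact Groth.Agent.H46.FibreDimNhd.trd_le_dim_open_inter f U z a (hau.mem_open U.2 huU)
        (ha.trans hu)
  · refine ⟨⊥, fun a ha => (hne ⟨a, ha⟩).elim, Set.univ, Filter.univ_mem, fun z _ => ?_⟩
    have hb : ∀ t : Y,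
        topologicalKrullDim ↥(((⊥ : X.Opens) : Set X) ∩ f.base ⁻¹' {t}) = ⊥ := fun t => by
      refine Order.krullDim_eq_bot_iff.2 ⟨fun C => ?_⟩
      obtain ⟨⟨a, ha, -⟩, -⟩ := C.isIrreducible.nonempty
      exact ha
    rw [hb, hb]

end Groth.Agent.S4924
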