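import Groth.Statements.S4928
import Groth.Agent.H46.UnivOpen

set_option autoImplicit false
open CategoryTheory AlgebraicGeometry
universe u v w
open EGA43

namespace Groth.Agent.S4928

open CategoryTheory.Limits in
/-- Let f : X ⟶ Y be locally of finite presentation, x a point of X, y = f x, and f₁ : X ×_Y Spec
O_{Y,y} ⟶ Spec O_{Y,y} the base change of f to the local scheme of Y at y. Then for every point x₁
of X ×_Y Spec O_{Y,y} projecting to x, f is universally open at x if and only if f₁ is universally
open at x₁. -/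
theorem result {X Y : Scheme.{u}} (f : X ⟶ Y) [LocallyOfFinitePresentation f]
    (x : X) (x₁ : ↥(pullback f (Y.fromSpecStalk (f.base x))))
    (hx₁ : (pullback.fst f (Y.fromSpecStalk (f.base x))).base x₁ = x) :
    EGA43.IsUnivOpenAt f x ↔ EGA43.IsUnivOpenAt (pullback.snd f (Y.fromSpecStalk (f.base x))) x₁ := by
  refine ⟨fun h => Groth.Agent.H46.OpenAt.isUnivOpenAt_baseChange h
    (IsPullback.of_hasPullback _ _) x₁ hx₁, fun h => ?_⟩
  refine Groth.Agent.H46.Lift.isUnivOpenAt_of_valuationRing f x ?_
  intro V _ _ _ g p hg hp hpc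
  have hfac : ∃ w : Spec (CommRingCat.of V) ⟶ Spec (Y.presheaf.stalk (f.base x)),
      w ≫ Y.fromSpecStalk (f.base x) = g := by
    rw [← hg]
    exact ⟨Spec.map (Scheme.stalkClosedPointTo g), Scheme.Spec_stalkClosedPointTo_fromSpecStalk g⟩
  obtain ⟨w, rfl⟩ := hfac
  let r := (pullbackLeftPullbackSndIso f (Y.fromSpecStalk (f.base x)) w).inv
  let r' := (pullbackLeftPullbackSndIso f (Y.fromSpecStalk (f.base x)) w).hom
  have hinj : Function.Injective (pullback.fst f (Y.fromSpecStalk (f.base x))).base :=
    (pullback.fst f (Y.fromSpecStalk (f.base x))).isEmbedding.injective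
  have hx : (pullback.fst _ w).base (r.base p) = x₁ := by
    apply hinj
    rw [hx₁, ← Scheme.Hom.comp_apply, ← Scheme.Hom.comp_apply,
      pullbackLeftPullbackSndIso_inv_fst, hp]
  have hopen := h _ w (r.base p) hx
  obtain ⟨z, hz, hzg⟩ := Groth.Agent.H46.Lift.exists_generization _ (r.base p) (genericPoint _)
    (genericPoint_specializes _) fun O hO =>
      Groth.Agent.H46.Lift.generizations_of_isOpenAt hopen O hO _ (genericPoint_specializes _)
  refine ⟨r'.base z, ?_, ?_⟩
  · have := hz.map r'.continuous
    rwa [← Scheme.Hom.comp_apply r, Iso.inv_hom_id] at this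
  · rw [← Scheme.Hom.comp_apply, pullbackLeftPullbackSndIso_hom_snd, hzg]

end Groth.Agent.S4928
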