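import Groth.Statements.S4929
import Groth.Agent.H46.OpenAt

set_option autoImplicit false
open CategoryTheory AlgebraicGeometry
universe u v w
open EGA43

namespace Groth.Agent.S4929

open CategoryTheory.Limits in
/-- Let f : X ⟶ Y be a morphism of schemes, x a point of X, and (Y_i ⟶ Y) a finite family of closed
immersions whose images cover Y. If for every i the base change X ×_Y Y_i ⟶ Y_i is universally open
at every point lying over x, then f is universally open at x. -/
theorem result {X Y : Scheme.{u}} (f : X ⟶ Y) (x : X) {ι : Type w}
    [Finite ι] (T : ι → Scheme.{u}) (g : ∀ i, T i ⟶ Y) [∀ i, IsClosedImmersion (g i)]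
    (hcov : ⋃ i, Set.range (g i).base = Set.univ)
    (h : ∀ i, ∀ x' : ↥(pullback f (g i)), (pullback.fst f (g i)).base x' = x →
      EGA43.IsUnivOpenAt (pullback.snd f (g i)) x') :
    EGA43.IsUnivOpenAt f x := by
  intro Y' g' p hp
  refine Groth.Agent.H46.OpenAt.isOpenAt_of_family
    (fun i => IsPullback.of_hasPullback (pullback.snd f g') (pullback.snd (g i) g'))
    (fun i => (pullback.snd (g i) g').isClosedEmbedding.isClosedMap) ?_ p ?_
  · intro y
    obtain ⟨_, ⟨i, rfl⟩, t, ht⟩ : g'.base y ∈ ⋃ i, Set.range (g i).base := hcov ▸ Set.mem_univ _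
    obtain ⟨q, -, hq⟩ := Scheme.Pullback.exists_preimage_pullback (f := g i) (g := g') t y ht
    exact ⟨i, q, hq⟩
  · intro i r hr
    have sq := (IsPullback.of_hasPullback (pullback.snd f g') (pullback.snd (g i) g')).flip.paste_vert
      (IsPullback.of_hasPullback f g').flip
    let φ := pullback.lift (f := f) (g := g i)
      (pullback.fst (pullback.snd f g') (pullback.snd (g i) g') ≫ pullback.fst f g')
      (pullback.snd (pullback.snd f g') (pullback.snd (g i) g') ≫ pullback.fst (g i) g')
      (by rw [Category.assoc, Category.assoc, pullback.condition, pullback.condition,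
        pullback.condition_assoc])
    have sq' : IsPullback φ (pullback.snd (pullback.snd f g') (pullback.snd (g i) g'))
        (pullback.snd f (g i)) (pullback.fst (g i) g') := by
      refine IsPullback.of_right ?_ (pullback.lift_snd _ _ _) (IsPullback.of_hasPullback f (g i))
      rw [pullback.lift_fst, pullback.condition]
      exact sq.flip
    refine Groth.Agent.H46.OpenAt.isOpenAt_of_isPullback (h i (φ r) ?_) sq' r rfl
    rw [← Scheme.Hom.comp_apply, pullback.lift_fst, Scheme.Hom.comp_apply, hr, hp]

end Groth.Agent.S4929
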