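import Groth.Statements.S4932
import Groth.Agent.H46.FibreDimNhd

set_option autoImplicit false
open CategoryTheory AlgebraicGeometry
universe u v w
open EGA43

namespace Groth.Agent.S4932

/-- Let A be a valuation ring (not necessarily discrete), X an irreducible scheme and f : X ⟶ Spec A a
dominant morphism of finite type. If the fibre X_0 of f over the closed point is nonempty, then dim
X_0 = dim X_1, where X_1 is the fibre over the generic point. -/
theorem result {A : Type u} [CommRing A] [IsDomain A]
    [ValuationRing A] {X : Scheme.{u}} [IrreducibleSpace X] (f : X ⟶ Spec (CommRingCat.of A))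
    [LocallyOfFiniteType f] [QuasiCompact f] [IsDominant f]
    (h0 : Nonempty ↥(f.fiber (IsLocalRing.closedPoint A))) :
    topologicalKrullDim ↥(f.fiber (IsLocalRing.closedPoint A)) =
      topologicalKrullDim ↥(f.fiber (genericPoint (Spec (CommRingCat.of A)))) := by
  open Groth.Agent.Lib.Subtrusive.Valuation in
  have hgen : genPt A = genericPoint (Spec (CommRingCat.of A)) :=
    ((genPt_specializes _).antisymm (genericPoint_specializes _)).eq
  open Groth.Agent.Lib.Subtrusive.Valuation in
  set ξ₀ := genericPoint X with hξ₀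
  have hη : f ξ₀ = genericPoint (Spec (CommRingCat.of A)) := by
    refine Groth.Agent.H46.Equidim.closure_singleton_inj ?_
    rw [← Groth.Agent.H46.Equidim.closure_image_closure' f ξ₀, genericPoint_closure,
      genericPoint_closure, Set.image_univ, f.denseRange.closure_range]
  have hdim : topologicalKrullDim ↥(f.fiber (genericPoint (Spec (CommRingCat.of A)))) =
      (Groth.Agent.H46.FibreTrdeg.trd f ξ₀ : WithBot ℕ∞) :=
    le_antisymm ((Groth.Agent.H46.FibreTrdeg.dim_fiber_le_iff f _ _).2 fun a ha =>
      Groth.Agent.H46.FibreTrdeg.trd_le f (genericPoint_specializes a) (hη.trans ha.symm))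
      (Groth.Agent.H46.FibreTrdeg.trd_le_dim_fiber f ξ₀ _ hη)
  rw [hdim]
  obtain ⟨z₀⟩ := h0
  obtain ⟨ζ, hζ, hmax, he⟩ := Groth.Agent.H46.FibreDimNhd.exists_trd_eq_dim f
    (f.fiberι (IsLocalRing.closedPoint A) z₀) (IsLocalRing.closedPoint A)
    (Groth.Agent.Lib.Cyc.FieldDim.apply_fiberι f _ z₀)
  rw [he, Nat.cast_inj]
  refine le_antisymm ?_
    (Groth.Agent.H46.FibreTrdeg.trd_le_of_specializes f (genericPoint_specializes ζ) hmax)
  obtain ⟨a, -, ha, hle⟩ := Groth.Agent.H46.UnivOpenTrdeg.trd_le_over_valuationRing A f ζ ξ₀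
    (genericPoint_specializes ζ) hζ (hη.trans hgen.symm)
  exact hle.trans (Groth.Agent.H46.FibreTrdeg.trd_le f (genericPoint_specializes a)
    ((hη.trans hgen.symm).trans ha.symm))

end Groth.Agent.S4932
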