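import Groth.Statements.S4933
import Groth.Agent.H46.FibreDimNhd

set_option autoImplicit false
open CategoryTheory AlgebraicGeometry
universe u v w
open EGA43

namespace Groth.Agent.S4933

/-- Let f : X ⟶ Y be a morphism locally of finite type, x a point of X which is a maximal point of its
fibre X_y, y = f x. Consider: a) f is universally open at x; b) for every irreducible component Y₀
of Y containing y, with generic point η, there is an irreducible component Z of X containing x and
dominating Y₀ such that dim_x(X_y) = dim_x(Z ∩ X_y) = dim(Z ∩ X_η); b') for every open neighbourhood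
U of x and every generization y' of y one has dim(U ∩ X_{y'}) ≥ dim_x(X_y). Then a) implies b'), and
b') implies b). (Subsets of X carry the induced topology; dim_x(U ∩ X_y) = dim_x(X_y). The published
statement asserts moreover that b) implies b'); that implication can fail, because a generization y'
of y need not lie under any point of U ∩ Z: for the finite birational morphism from the affine plane
onto the surface obtained from it by identifying two rational points p and q, at x = p condition b)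
holds with all dimensions equal to 0, while for U the complement of a line L through q avoiding p
and y' the image of the generic point of L the set U ∩ X_{y'} is empty. So only a) ⇒ b') and b') ⇒
b) are stated here.) -/
theorem result {X Y : Scheme.{u}} (f : X ⟶ Y) [LocallyOfFiniteType f]
    (x : X) (hmax : ∀ x' : X, f.base x' = f.base x → x ∈ closure {x'} → x' = x) :
    (EGA43.IsUnivOpenAt f x → (∀ U : X.Opens, x ∈ U → ∀ y' : Y, y' ⤳ f.base x →
        FlatMor.fibreDimAt f x ≤ topologicalKrullDim ↥((U : Set X) ∩ f.base ⁻¹' {y'}))) ∧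
    ((∀ U : X.Opens, x ∈ U → ∀ y' : Y, y' ⤳ f.base x →
        FlatMor.fibreDimAt f x ≤ topologicalKrullDim ↥((U : Set X) ∩ f.base ⁻¹' {y'})) →
      (∀ Y₀ ∈ irreducibleComponents (Y : Type u), f.base x ∈ Y₀ →
        ∃ Z ∈ irreducibleComponents (X : Type u), ∃ hx : x ∈ Z, closure (f.base '' Z) = Y₀ ∧
          ∀ η : Y, closure ({η} : Set Y) = Y₀ →
            FlatMor.fibreDimAt f x = FlatMor.localDim ↥(Z ∩ f.base ⁻¹' {f.base x}) ⟨x, ⟨hx, rfl⟩⟩ ∧
            FlatMor.localDim ↥(Z ∩ f.base ⁻¹' {f.base x}) ⟨x, ⟨hx, rfl⟩⟩ =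
              topologicalKrullDim ↥(Z ∩ f.base ⁻¹' {η}))) := by
  have hmax' : Groth.Agent.H46.FibreTrdeg.IsMaxFib f x := fun a ha hs => hmax a ha hs.mem_closure
  have he := Groth.Agent.H46.FibreTrdeg.fibreDimAt_of_isMaxFib f hmax'
  refine ⟨fun huo U hU y' hy' => ?_, fun hb Y₀ hY₀ hxY₀ => ?_⟩
  · obtain ⟨ξ, hξ, hfξ, hle⟩ := Groth.Agent.H46.UnivOpenTrdeg.exists_trd_le f x huo y' hy'
    rw [he]
    exact (Nat.cast_le.2 hle).trans
      (Groth.Agent.H46.FibreDimNhd.trd_le_dim_open_inter f U y' ξ (hξ.mem_open U.2 hU) hfξ)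
  obtain ⟨η, hηmax, rfl⟩ :=
    Groth.Agent.H46.Equidim.exists_generic_of_mem_irreducibleComponents hY₀
  have hηx : η ⤳ f.base x := specializes_iff_mem_closure.2 hxY₀
  let e := Groth.Agent.H46.FibreTrdeg.trd f x
  let E : TopologicalSpace.Closeds X := ⟨{a | (e : WithBot ℕ∞) ≤ FlatMor.fibreDimAt f a},
    Groth.Agent.Lib.FibreDim.Global.isClosed_setOf_le_fibreDimAt f e⟩
  let i := (Scheme.IdealSheafData.vanishingIdeal E).subschemeι
  have hr : Set.range i = {a | (e : WithBot ℕ∞) ≤ FlatMor.fibreDimAt f a} := by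
    rw [Scheme.IdealSheafData.range_subschemeι, Scheme.IdealSheafData.coe_support_vanishingIdeal]
    rfl
  obtain ⟨w, hw⟩ : x ∈ Set.range i := by
    rw [hr]; exact Groth.Agent.H46.FibreTrdeg.trd_le_fibreDimAt f x
  obtain ⟨v, hvw, hfv⟩ := Groth.Agent.H46.Lift.exists_generization (i ≫ f) w η
    (by rw [Scheme.Hom.comp_apply, hw]; exact hηx) fun O hO => by
      obtain ⟨O', hO', hOeq⟩ := i.isEmbedding.isInducing.isOpen_iff.1 O.2
      have hxO' : x ∈ O' := by
        rw [← hw]
        exact (Set.ext_iff.1 hOeq w).2 hO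
      have h1 := hb ⟨O', hO'⟩ hxO' η hηx
      rw [he] at h1
      obtain ⟨u, hu, hfu, hle⟩ :=
        Groth.Agent.H46.FibreDimNhd.exists_le_trd_of_le_dim f ⟨O', hO'⟩ η _ h1
      obtain ⟨u', rfl⟩ : u ∈ Set.range i := by
        rw [hr]
        exact (Nat.cast_le.2 hle).trans (Groth.Agent.H46.FibreTrdeg.trd_le_fibreDimAt f u)
      exact ⟨u', (Set.ext_iff.1 hOeq u').1 hu, hfu⟩
  have hvx : i v ⤳ x := hw ▸ hvw.map i.continuous
  obtain ⟨ξ, hfξ, hξv, hξmax, hξe⟩ := Groth.Agent.H46.FibreTrdeg.exists_isMaxFib_trd_eq f (i v)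
  have hξx : ξ ⤳ x := hξv.trans hvx
  have hfξη : f ξ = η := hfξ.trans hfv
  have htrd : Groth.Agent.H46.FibreTrdeg.trd f ξ = e := by
    refine le_antisymm (Groth.Agent.H46.FibreTrdeg.trd_le_of_specializes f hξx hmax') ?_
    have h1 : (e : WithBot ℕ∞) ≤ FlatMor.fibreDimAt f (i v) :=
      (Set.ext_iff.1 hr (i v)).1 ⟨v, rfl⟩
    rw [hξe] at h1
    exact_mod_cast h1
  have hξ : Groth.Agent.Lib.Cyc.DimFun.IsMaxPt ξ := fun a ha => by
    have hfa : f a = f ξ := by
      rw [hfξη]; exact hηmax _ (hfξη ▸ ha.map f.continuous)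
    exact Groth.Agent.H46.FibreTrdeg.eq_of_trd_le f ha hfa
      (htrd ▸ Groth.Agent.H46.FibreTrdeg.trd_le_of_specializes f (ha.trans hξx) hmax')
  refine ⟨closure {ξ}, Groth.Agent.Lib.Cyc.FieldDim.closure_mem_irreducibleComponents ξ hξ,
    hξx.mem_closure, by rw [Groth.Agent.H46.Equidim.closure_image_closure' f ξ, hfξη],
    fun η' hη' => ?_⟩
  obtain rfl := Groth.Agent.H46.Equidim.closure_singleton_inj hη'
  have hloc : FlatMor.localDim ↥(closure ({ξ} : Set X) ∩ f.base ⁻¹' {f.base x})
      ⟨x, hξx.mem_closure, rfl⟩ = (e : WithBot ℕ∞) :=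
    le_antisymm
      ((Groth.Agent.H46.FibreTrdeg.localDim_closed_inter_le_iff f isClosed_closure
        hξx.mem_closure e).2 fun a _ ha hs => hmax' a ha hs ▸ le_rfl)
      (htrd ▸ Groth.Agent.H46.Equidim.trd_le_localDim_closure_inter f x ξ hξx)
  refine ⟨he.trans hloc.symm, hloc.trans ?_⟩
  rw [← hfξη]
  exact ((Groth.Agent.H46.FibreTrdeg.dim_closure_inter f ξ).trans (by rw [htrd])).symm

end Groth.Agent.S4933
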