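import Groth.Statements.S4934
import Groth.Agent.H46.UnibranchTFAE

set_option autoImplicit false
open CategoryTheory AlgebraicGeometry
universe u v w
open EGA43

namespace Groth.Agent.S4934

/-- Let Y be a locally Noetherian scheme, f : X ⟶ Y a morphism locally of finite type, x a maximal point
of its fibre X_y, and suppose y = f x is a geometrically unibranch point of Y (so that y lies on
exactly one irreducible component Y₀ of Y, with generic point η). The following are equivalent: a) f
is universally open at x; b) there is an irreducible component Z of X containing x and dominating Y₀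
with dim_x(Z ∩ X_y) = dim(Z ∩ X_η); b') for every open neighbourhood U of x and every generization
y' of y, dim(U ∩ X_{y'}) ≥ dim_x(X_y); c) f is open at x. (The published statement asserts a) ⇔ b) ⇔
b') over an arbitrary base and adds c) for a locally Noetherian one; over the spectrum Y of an
infinite product of copies of a field, the inclusion of a non-open closed point satisfies b) and not
a), and the published proof of b) ⇒ a) uses the openness criterion by lifting of generizations and a
finiteness of irreducible components, both available over a locally Noetherian base, which is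
assumed here throughout.) -/
theorem result {X Y : Scheme.{u}} [IsLocallyNoetherian Y] (f : X ⟶ Y)
    [LocallyOfFiniteType f] (x : X) (hmax : ∀ x' : X, f.base x' = f.base x → x ∈ closure {x'} → x' = x)
    (hy : CAlg2.IsGeomUnibranch (Y.presheaf.stalk (f.base x))) :
    List.TFAE [EGA43.IsUnivOpenAt f x,
      (∀ Y₀ ∈ irreducibleComponents (Y : Type u), f.base x ∈ Y₀ →
        ∃ Z ∈ irreducibleComponents (X : Type u), ∃ hx : x ∈ Z, closure (f.base '' Z) = Y₀ ∧
          ∀ η : Y, closure ({η} : Set Y) = Y₀ →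
            FlatMor.localDim ↥(Z ∩ f.base ⁻¹' {f.base x}) ⟨x, ⟨hx, rfl⟩⟩ =
              topologicalKrullDim ↥(Z ∩ f.base ⁻¹' {η})),
      (∀ U : X.Opens, x ∈ U → ∀ y' : Y, y' ⤳ f.base x →
        FlatMor.fibreDimAt f x ≤ topologicalKrullDim ↥((U : Set X) ∩ f.base ⁻¹' {y'})),
      EGA43.IsOpenAt f.base x] := by
  have hM : Groth.Agent.H46.FibreTrdeg.IsMaxFib f x := fun x' hx' hs =>
    hmax x' hx' hs.mem_closure
  have he := Groth.Agent.H46.FibreTrdeg.fibreDimAt_of_isMaxFib f hM
  obtain ⟨η₀, hη₀y, hη₀⟩ := Groth.Agent.Lib.Cyc.DimFun.exists_isMaxPt_specializes (f x)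
  tfae_have 1 → 2 := fun h Y₀ hY₀ hxY => by
    obtain ⟨η, hη, rfl⟩ := Groth.Agent.H46.Equidim.exists_generic_of_mem_irreducibleComponents hY₀
    obtain ⟨ξ, hξ, -, hξx, hfξ, hle⟩ := Groth.Agent.H46.UnibranchCrit.exists_component_of_isOpenAt f
      rfl specializes_rfl hM (Groth.Agent.H46.UnibranchTFAE.isOpenAt_of_isUnivOpenAt h) η hη
      (specializes_iff_mem_closure.2 hxY)
    refine ⟨closure {ξ}, Groth.Agent.H46.Equidim.isMaxPt_iff_closure_mem.1 hξ, hξx.mem_closure,
      by rw [Groth.Agent.H46.Equidim.closure_image_closure', hfξ], fun η' hη' => ?_⟩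
    rw [Groth.Agent.H46.Equidim.closure_singleton_inj hη', ← hfξ]
    exact Groth.Agent.H46.UnibranchTFAE.localDim_eq_of_component f hξx fun a _ hfa hax =>
      (hM a hfa hax) ▸ hle
  tfae_have 2 → 1 := fun h => by
    obtain ⟨Z, hZ, hx, hd, hη⟩ := h _ (Groth.Agent.H46.Equidim.isMaxPt_iff_closure_mem.1 hη₀)
      hη₀y.mem_closure
    exact Groth.Agent.H46.UnibranchTFAE.isUnivOpenAt_of_localDim f hy hη₀ hZ hx hd (hη η₀ rfl)
  tfae_have 1 → 3 := fun h U hxU y' hy' => by
    obtain ⟨ξ, hξx, hfξ, hξe⟩ := Groth.Agent.H46.OpenDim.exists_trd_eq f x hM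
      (Groth.Agent.H46.UnibranchTFAE.isOpenAt_of_isUnivOpenAt h) y' hy'
    rw [he, ← hξe]
    exact Groth.Agent.H46.FibreDimNhd.trd_le_dim_open_inter f U y' ξ (hξx.mem_open U.2 hxU) hfξ
  tfae_have 3 → 4 := fun h => by
    haveI := Groth.Agent.H46.FibreDimNhd.locallyOfFinitePresentation f
    refine Groth.Agent.H46.Lift.isOpenAt_of_forall f x fun O hxO y' hy' => ?_
    obtain ⟨ξ, hξO, hξ, -⟩ := Groth.Agent.H46.FibreDimNhd.exists_le_trd_of_le_dim f O y' _
      (he ▸ h O hxO y' hy')
    exact ⟨ξ, hξO, hξ⟩
  tfae_have 4 → 1 := fun h =>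
    Groth.Agent.H46.UnibranchCrit.isUnivOpenAt_of_isOpenAt f rfl specializes_rfl hM he h hy
  tfae_finish

end Groth.Agent.S4934
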