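import Groth.Statements.S4935
import Groth.Agent.H46.UnibranchDomain

set_option autoImplicit false
universe u
open EGA43

namespace Groth.Agent.S4935

/-- Let A be a unibranch local domain, B a domain containing A and integral over A, and 𝔫 a prime ideal
of B lying over the maximal ideal of A. Then Spec B_𝔫 → Spec A is surjective: for every prime ideal
𝔭 of A there is a prime ideal 𝔮 ⊆ 𝔫 of B with 𝔮 ∩ A = 𝔭. -/
theorem result {A B : Type u} [CommRing A] [IsDomain A]
    [IsLocalRing A] (hA : CAlg2.IsUnibranch A) [CommRing B] [IsDomain B] [Algebra A B]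
    (hinj : Function.Injective (algebraMap A B)) [Algebra.IsIntegral A B] (n : Ideal B) [n.IsPrime]
    (hn : n.comap (algebraMap A B) = IsLocalRing.maximalIdeal A) (p : Ideal A) [p.IsPrime] :
    ∃ q : Ideal B, q.IsPrime ∧ q ≤ n ∧ q.comap (algebraMap A B) = p := by
  haveI : IsLocalization.AtPrime A (IsLocalRing.maximalIdeal A) := IsLocalization.self fun x hx => by
    exact IsLocalRing.notMem_maximalIdeal.1 hx
  have hub := Groth.Agent.H46.UnibranchDomain.ub_of_isLocalization (O := A)
    (IsLocalRing.maximalIdeal A) hA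
  let n' : PrimeSpectrum B := ⟨n, inferInstance⟩
  have hcl : PrimeSpectrum.comap (algebraMap A B) n' = IsLocalRing.closedPoint A :=
    PrimeSpectrum.ext hn
  have hopen : EGA43.IsOpenAt (PrimeSpectrum.comap (algebraMap A B)) n' :=
    Groth.Agent.H46.UnibranchCore.isOpenAt_of_isIntegral hinj n' (hn.symm ▸ hub)
  obtain ⟨q, hq, hqp⟩ := Groth.Agent.H46.UnibranchDomain.exists_le_of_isOpenAt n' hopen
    ⟨p, inferInstance⟩ (by rw [hcl]; exact IsLocalRing.specializes_closedPoint _)
  exact ⟨q.asIdeal, q.2, hq, congrArg PrimeSpectrum.asIdeal hqp⟩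

end Groth.Agent.S4935
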