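import Groth.Statements.S4936
import Groth.Agent.H46.UnibranchPoly
import Mathlib.AlgebraicGeometry.AffineSpace

set_option autoImplicit false
open CategoryTheory AlgebraicGeometry
universe u v w
open EGA43

namespace Groth.Agent.S4936

/-- Let Y be a scheme, Y' = Y[T_1, …, T_n] affine n-space over Y, y' a point of Y' and y its image in Y.
If Y is geometrically unibranch at y, then Y' is geometrically unibranch at y'. -/
theorem result {Y : Scheme.{u}} (n : ℕ) (y' : ↥𝔸(ULift.{u} (Fin n); Y))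
    (hy : CAlg2.IsGeomUnibranch (Y.presheaf.stalk ((𝔸(ULift.{u} (Fin n); Y) ↘ Y).base y'))) :
    CAlg2.IsGeomUnibranch ((𝔸(ULift.{u} (Fin n); Y)).presheaf.stalk y') := by
  let N := ULift.{u} (Fin n)
  let p := 𝔸(N; Y) ↘ Y
  obtain ⟨V, hV, hyV, -⟩ := AlgebraicGeometry.exists_isAffineOpen_mem_and_subset
    (x := p.base y') (U := ⊤) trivial
  let S := MvPolynomial (Fin n) Γ(Y, V)
  let e : MvPolynomial N Γ(Y, V) ≃+* S :=
    (MvPolynomial.renameEquiv Γ(Y, V) (Equiv.ulift : N ≃ Fin n)).toRingEquiv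
  let ei : CommRingCat.of (MvPolynomial N Γ(Y, V)) ≅ CommRingCat.of S := e.toCommRingCatIso
  let j : Spec (CommRingCat.of S) ⟶ 𝔸(N; Y) :=
    Spec.map ei.hom ≫ (AffineSpace.SpecIso N Γ(Y, V)).inv ≫ AffineSpace.map N hV.fromSpec
  have : IsOpenImmersion (AffineSpace.map N hV.fromSpec) :=
    MorphismProperty.of_isPullback (AffineSpace.isPullback_map (n := N) hV.fromSpec).flip inferInstance
  have : IsOpenImmersion j := inferInstance
  have hover : j ≫ p = Spec.map (CommRingCat.ofHom (MvPolynomial.C : Γ(Y, V) →+* S)) ≫ hV.fromSpec := by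
    simp only [j, p, Category.assoc, AffineSpace.map_over, AffineSpace.SpecIso_inv_over_assoc]
    rw [← Category.assoc, ← Spec.map_comp]
    congr 2
    exact CommRingCat.hom_ext (RingHom.ext fun r => MvPolynomial.rename_C _ r)
  obtain ⟨q, hq⟩ := Scheme.Pullback.exists_preimage_pullback (f := p) (g := hV.fromSpec) y'
    (hV.primeIdealOf ⟨p.base y', hyV⟩) (hV.fromSpec_primeIdealOf ⟨p.base y', hyV⟩).symm
  obtain ⟨z, hz⟩ : y' ∈ Set.range j.base := by
    refine ⟨(Spec.map ei.inv) ((AffineSpace.SpecIso N Γ(Y, V)).hom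
      ((AffineSpace.isPullback_map (n := N) hV.fromSpec).isoPullback.inv q)), ?_⟩
    simp only [j, ← Scheme.Hom.comp_apply, ← Category.assoc]
    simp only [Category.assoc, ← Spec.map_comp_assoc, Iso.hom_inv_id, Spec.map_id, Category.id_comp,
      Iso.hom_inv_id_assoc, IsPullback.isoPullback_inv_fst]
    exact hq.1
  let P : PrimeSpectrum S := z
  have hP : P.asIdeal.comap MvPolynomial.C = (hV.primeIdealOf ⟨p.base y', hyV⟩).asIdeal := by
    have h1 : (Spec.map (CommRingCat.ofHom (MvPolynomial.C : Γ(Y, V) →+* S))).base z =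
        hV.primeIdealOf ⟨p.base y', hyV⟩ := by
      refine hV.fromSpec.isOpenEmbedding.injective ?_
      rw [hV.fromSpec_primeIdealOf, ← Scheme.Hom.comp_apply, ← hover, Scheme.Hom.comp_apply, hz]
    exact congrArg PrimeSpectrum.asIdeal h1
  letI := TopCat.Presheaf.algebra_section_stalk Y.presheaf (⟨p.base y', hyV⟩ : V)
  haveI := hV.isLocalization_stalk ⟨p.base y', hyV⟩
  let O' := (Spec.structureSheaf (CommRingCat.of S)).presheaf.stalk P
  let e' : (Spec (CommRingCat.of S)).presheaf.stalk z ≅ (𝔸(N; Y)).presheaf.stalk y' :=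
    (asIso (j.stalkMap z)).symm ≪≫ (𝔸(N; Y)).presheaf.stalkCongr (Inseparable.of_eq hz)
  let A₀ : S →+* (Spec (CommRingCat.of S)).presheaf.stalk z :=
    algebraMap S ((Spec.structureSheaf (CommRingCat.of S)).presheaf.stalk P)
  letI : Algebra S ((𝔸(N; Y)).presheaf.stalk y') := (e'.hom.hom.comp A₀).toAlgebra
  haveI : IsLocalization.AtPrime ((𝔸(N; Y)).presheaf.stalk y') P.asIdeal :=
    IsLocalization.isLocalization_of_algEquiv P.asIdeal.primeCompl
      (AlgEquiv.ofRingEquiv (R := S) (f := e'.commRingCatIsoToRingEquiv)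
        (A₁ := (Spec.structureSheaf (CommRingCat.of S)).presheaf.stalk P) fun r => rfl)
  exact Groth.Agent.H46.UnibranchPoly.isGeomUnibranch_mvPolynomial
    (hV.primeIdealOf ⟨p.base y', hyV⟩).asIdeal hy n P.asIdeal hP

end Groth.Agent.S4936
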