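import Groth.Statements.S4937
import Groth.Agent.H46.UnibranchCrit

set_option autoImplicit false
open CategoryTheory AlgebraicGeometry
universe u v w
open EGA43

namespace Groth.Agent.S4937

/-- Let X and Y be irreducible schemes and f : X ⟶ Y a dominant morphism which is locally of finite
presentation and locally quasi-finite. If x is a point of X whose image y = f x has unibranch local
ring O_{Y,y}, then f is open at x. (Stated for f locally of finite presentation, the class to which
the openness criterion by lifting of generizations used in the published argument applies; the
published hypothesis is 'locally quasi-finite', which includes locally of finite type.) -/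
theorem result {X Y : Scheme.{u}} [IrreducibleSpace X]
    [IrreducibleSpace Y] (f : X ⟶ Y) [LocallyOfFinitePresentation f] [LocallyQuasiFinite f] [IsDominant f]
    (x : X) (hy : CAlg2.IsUnibranch (Y.presheaf.stalk (f.base x))) : EGA43.IsOpenAt f.base x := by
  have h0 := Groth.Agent.H46.AffineFib.trd_eq_zero_of_locallyQuasiFinite f
  have hs : genericPoint X ⤳ x := genericPoint_specializes x
  have hfξ : f (genericPoint X) = genericPoint Y := by
    refine ((genericPoint_spec Y).eq (isGenericPoint_def.2 (Set.eq_univ_of_univ_subset ?_))).symm
    intro y _
    refine (closure_minimal (fun z hz => ?_) isClosed_closure)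
      (f.denseRange.closure_range.ge (Set.mem_univ y))
    obtain ⟨a, rfl⟩ := hz
    exact ((genericPoint_specializes a).map f.continuous).mem_closure
  refine Groth.Agent.H46.UnibranchSch.isOpenAt_of_trd_zero f hs
    (Groth.Agent.H46.UnibranchCrit.nhd_of_irreducible
      (hfξ ▸ Groth.Agent.H46.UnibranchCrit.isMaxPt_genericPoint) _) hy (h0 _) fun ζ _ _ _ => ?_
  rw [h0 ζ]
  exact Nat.zero_le _

end Groth.Agent.S4937
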