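import Groth.Statements.S4938
import Groth.Agent.H46.UnibranchTFAE

set_option autoImplicit false
open CategoryTheory AlgebraicGeometry
universe u v w
open EGA43

namespace Groth.Agent.S4938

/-- Let Y be a locally Noetherian scheme, f : X ⟶ Y a morphism locally of finite type, and y a
geometrically unibranch point of Y, lying on the unique irreducible component Y₀ of Y with generic
point η. The following are equivalent: a) f is universally open at every point of X_y; b) every
point x of X_y lies on an irreducible component Z of X dominating Y₀ with dim_x(Z ∩ X_y) = dim(Z ∩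
X_η); b'') for every open subset U of X, dim(U ∩ X_η) ≥ dim(U ∩ X_y); c) f is open at every point of
X_y. (The published statement assumes Y locally Noetherian only for c) and also lists b′), the
pointwise form of b″) (for every x in X_y and every open U ∋ x, dim(U ∩ X_η) ≥ dim_x(U ∩ X_y)); over
the spectrum of an infinite product of copies of a field, the inclusion of a non-open closed point
satisfies b) and b″) but not a), so this row takes Y locally Noetherian throughout, and b′) is not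
listed.) -/
theorem result {X Y : Scheme.{u}} [IsLocallyNoetherian Y] (f : X ⟶ Y)
    [LocallyOfFiniteType f] (y : Y) (hy : CAlg2.IsGeomUnibranch (Y.presheaf.stalk y)) :
    List.TFAE [∀ x : X, f.base x = y → EGA43.IsUnivOpenAt f x,
      ∀ x : X, f.base x = y → ∀ Y₀ ∈ irreducibleComponents (Y : Type u), y ∈ Y₀ →
        ∃ Z ∈ irreducibleComponents (X : Type u), ∃ hx : x ∈ Z, closure (f.base '' Z) = Y₀ ∧
          ∀ η : Y, closure ({η} : Set Y) = Y₀ →
            FlatMor.localDim ↥(Z ∩ f.base ⁻¹' {f.base x}) ⟨x, ⟨hx, rfl⟩⟩ = topologicalKrullDim ↥(Z ∩ f.base ⁻¹' {η}),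
      ∀ U : X.Opens, ∀ Y₀ ∈ irreducibleComponents (Y : Type u), y ∈ Y₀ → ∀ η : Y, closure ({η} : Set Y) = Y₀ →
        topologicalKrullDim ↥((U : Set X) ∩ f.base ⁻¹' {y}) ≤ topologicalKrullDim ↥((U : Set X) ∩ f.base ⁻¹' {η}),
      ∀ x : X, f.base x = y → EGA43.IsOpenAt f.base x] := by
  obtain ⟨η₀, hη₀y, hη₀⟩ := Groth.Agent.Lib.Cyc.DimFun.exists_isMaxPt_specializes y
  tfae_have 1 → 2 := fun h x hx Y₀ hY₀ hyY => by
    subst hx
    obtain ⟨η, hη, rfl⟩ := Groth.Agent.H46.Equidim.exists_generic_of_mem_irreducibleComponents hY₀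
    obtain ⟨ξ, hξ, hξx, hfξ, hle⟩ := Groth.Agent.H46.UnibranchTFAE.exists_component_of_isUnivOpen f
      (fun ζ hζ _ _ => Groth.Agent.H46.UnibranchTFAE.isOpenAt_of_isUnivOpenAt (h ζ hζ)) hη
      (specializes_iff_mem_closure.2 hyY)
    refine ⟨closure {ξ}, Groth.Agent.H46.Equidim.isMaxPt_iff_closure_mem.1 hξ, hξx.mem_closure,
      by rw [Groth.Agent.H46.Equidim.closure_image_closure', hfξ], fun η' hη' => ?_⟩
    rw [Groth.Agent.H46.Equidim.closure_singleton_inj hη', ← hfξ]
    exact Groth.Agent.H46.UnibranchTFAE.localDim_eq_of_component f hξx fun a _ hfa hax =>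
      hle a hfa hax
  tfae_have 2 → 1 := fun h x hx => by
    subst hx
    obtain ⟨Z, hZ, hxZ, hd, hη⟩ := h x rfl _ (Groth.Agent.H46.Equidim.isMaxPt_iff_closure_mem.1 hη₀)
      hη₀y.mem_closure
    exact Groth.Agent.H46.UnibranchTFAE.isUnivOpenAt_of_localDim f hy hη₀ hZ hxZ hd (hη η₀ rfl)
  tfae_have 1 → 3 := fun h U Y₀ hY₀ hyY η hη => by
    subst hη
    refine Groth.Agent.H46.UnibranchTFAE.dim_le_dim f U y η fun a haU hay => ?_
    obtain ⟨ζ, hζ, hζa, hmax⟩ := Groth.Agent.H46.FibreTrdeg.exists_isMaxFib_specializes f a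
    obtain ⟨ξ, hξζ, hfξ, he⟩ := Groth.Agent.H46.OpenDim.exists_trd_eq f ζ hmax
      (Groth.Agent.H46.UnibranchTFAE.isOpenAt_of_isUnivOpenAt (h ζ (hζ.trans hay))) η
      (by rw [hζ, hay]; exact specializes_iff_mem_closure.2 hyY)
    exact ⟨ξ, (hξζ.trans hζa).mem_open U.2 haU, hfξ,
      (Groth.Agent.H46.FibreTrdeg.trd_le f hζa hζ).trans he.ge⟩
  tfae_have 3 → 1 := fun h x hx => by
    subst hx
    obtain ⟨ζ, hζ, hζx, hmax, he⟩ := Groth.Agent.H46.FibreTrdeg.exists_isMaxFib_trd_eq f x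
    obtain ⟨ξ, -, hξζ, hfξ, hle⟩ := Groth.Agent.H46.UnibranchTFAE.exists_component_of_dim_le f hη₀
      (fun U => h U _ (Groth.Agent.H46.Equidim.isMaxPt_iff_closure_mem.1 hη₀) hη₀y.mem_closure η₀ rfl)
      ζ hζ
    exact Groth.Agent.H46.UnibranchCrit.isUnivOpenAt_of_component f (hξζ.trans hζx) (hfξ ▸ hη₀) hy
      (he.le.trans (Nat.cast_le.2 hle))
  tfae_have 1 → 4 := fun h x hx => Groth.Agent.H46.UnibranchTFAE.isOpenAt_of_isUnivOpenAt (h x hx)
  tfae_have 4 → 1 := fun h x hx => by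
    subst hx
    exact Groth.Agent.H46.UnibranchTFAE.isUnivOpenAt_of_open_maxFib f hy fun ζ hζ _ _ => h ζ hζ
  tfae_finish

end Groth.Agent.S4938
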