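import Groth.Statements.S4939
import Groth.Agent.H46.UnibranchEquidim

set_option autoImplicit false
open CategoryTheory AlgebraicGeometry
universe u v w
open EGA43

namespace Groth.Agent.S4939

/-- Suppose Y is a locally Noetherian scheme and f : X ⟶ Y is locally of finite type; take a point x of
X whose image y = f x is geometrically unibranch on Y. Then these three conditions are equivalent:
a) f is equidimensional at x; b) O_{X,x} is an equidimensional local ring, and f is open at every
generic point of an irreducible component of the fibre X_y that contains x; c) O_{X,x} is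
equidimensional, and f is universally open at every such generic point of an irreducible component
of X_y passing through x. (Not formalized here is the additional claim that, when these hold,
restricting f to any reduced irreducible component of X through x gives a morphism equidimensional
at x and universally open at the points of the components of its fibre through x.) -/
theorem result {X Y : Scheme.{u}} [IsLocallyNoetherian Y] (f : X ⟶ Y)
    [LocallyOfFiniteType f] (x : X) (hy : CAlg2.IsGeomUnibranch (Y.presheaf.stalk (f.base x))) :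
    List.TFAE [EGA43.IsEquidimAt f x,
      EGA4.IsEquidim (X.presheaf.stalk x) ∧ (∀ z : ↥(f.fiber (f.base x)), f.asFiber x ∈ closure {z} →
        (∀ z' : ↥(f.fiber (f.base x)), z ∈ closure {z'} → z' = z) → EGA43.IsOpenAt f.base ((f.fiberι (f.base x)).base z)),
      EGA4.IsEquidim (X.presheaf.stalk x) ∧ (∀ z : ↥(f.fiber (f.base x)), f.asFiber x ∈ closure {z} →
        (∀ z' : ↥(f.fiber (f.base x)), z ∈ closure {z'} → z' = z) → EGA43.IsUnivOpenAt f ((f.fiberι (f.base x)).base z))] := by
  have e₂ := Groth.Agent.H46.UnibranchEquidim.maxFib_iff f x fun a => EGA43.IsOpenAt f.base a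
  have e₃ := Groth.Agent.H46.UnibranchEquidim.maxFib_iff f x fun a => EGA43.IsUnivOpenAt f a
  tfae_have 1 → 3 := fun h => by
    have H := Groth.Agent.H46.DimData.components_of_isEquidimAt f h
    refine ⟨Groth.Agent.H46.UnibranchEquidim.isEquidim_stalk f hy H, e₃.2 fun ζ hζ hζx hmax => ?_⟩
    obtain ⟨ξ, hξζ, hξ⟩ := Groth.Agent.Lib.Cyc.DimFun.exists_isMaxPt_specializes ζ
    obtain ⟨hfξ, he⟩ := H ξ hξ (hξζ.trans hζx)
    exact Groth.Agent.H46.UnibranchEquidim.isUnivOpenAt_maxFib f hζ hζx hmax hy hξζ hfξ he.ge
  tfae_have 3 → 2 := fun h => ⟨h.1, e₂.2 fun ζ hζ hζx hmax =>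
    Groth.Agent.H46.UnibranchTFAE.isOpenAt_of_isUnivOpenAt (e₃.1 h.2 ζ hζ hζx hmax)⟩
  tfae_have 2 → 1 := fun h => Groth.Agent.H46.DimData.isEquidimAt_of_components f x
    (Groth.Agent.H46.UnibranchEquidim.components_of_open f hy h.1 (e₂.1 h.2))
  tfae_finish

end Groth.Agent.S4939
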