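import Groth.Statements.S4943
import Groth.Agent.H46.SubStalk

set_option autoImplicit false
open CategoryTheory AlgebraicGeometry
universe u v w
open EGA43

namespace Groth.Agent.S4943

/-- Let Y be an irreducible locally Noetherian scheme, f : X ⟶ Y a morphism locally of finite type which
is equidimensional at the point x, y = f x and e = dim_x(X_y). Let X' be an irreducible closed
subset of X containing x, with generic point x', and n a natural number such that codim(X', X) ≤ n
(the codimension being dim O_{X,x'}) and dim_x(X' ∩ X_y) ≤ e − n. Then codim(X', X) = n, dim_x(X' ∩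
X_y) = e − n, and the restriction of f to X' with its reduced subscheme structure is equidimensional
at x. -/
theorem result {X Y : Scheme.{u}} [IrreducibleSpace Y]
    [IsLocallyNoetherian Y] (f : X ⟶ Y) [LocallyOfFiniteType f] (x : X) (hf : EGA43.IsEquidimAt f x)
    (X' : TopologicalSpace.Closeds X) (x' : X) (hx' : closure ({x'} : Set X) = (X' : Set X)) (hx : x ∈ X') (n : ℕ)
    (hcodim : ringKrullDim (X.presheaf.stalk x') ≤ n)
    (hdim : FlatMor.localDim ↥((X' : Set X) ∩ f.base ⁻¹' {f.base x}) ⟨x, ⟨hx, rfl⟩⟩ + n ≤ FlatMor.fibreDimAt f x) :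
    ringKrullDim (X.presheaf.stalk x') = n ∧
      FlatMor.localDim ↥((X' : Set X) ∩ f.base ⁻¹' {f.base x}) ⟨x, ⟨hx, rfl⟩⟩ + n = FlatMor.fibreDimAt f x ∧
      ∀ w : ↥(Scheme.IdealSheafData.vanishingIdeal X').subscheme,
        (Scheme.IdealSheafData.vanishingIdeal X').subschemeι.base w = x →
        EGA43.IsEquidimAt ((Scheme.IdealSheafData.vanishingIdeal X').subschemeι ≫ f) w := by
  haveI := LocallyOfFiniteType.isLocallyNoetherian f
  obtain ⟨e, U, hxU, hdom, hdim⟩ := Groth.Agent.H46.Equidim.exists_of_isEquidimAt f hf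
  have hs : x' ⤳ x := specializes_iff_mem_closure.2 (hx' ▸ hx)
  have hx'U := hs.mem_open U.2 hxU
  set ιX := (Scheme.IdealSheafData.vanishingIdeal X').subschemeι with hιX
  have hr : Set.range ιX = closure {x'} := by
    rw [hx', Scheme.IdealSheafData.range_subschemeι,
      Scheme.IdealSheafData.coe_support_vanishingIdeal]
  obtain ⟨w, rfl⟩ : x ∈ Set.range ιX := by rw [hr]; exact hs.mem_closure
  obtain ⟨w₀, hw₀⟩ : x' ∈ Set.range ιX := by rw [hr]; exact subset_closure rfl
  have hgen : ∀ a, w₀ ⤳ a := fun a => by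
    rw [← ιX.isEmbedding.isInducing.specializes_iff, hw₀, specializes_iff_mem_closure, ← hr]
    exact ⟨a, rfl⟩
  have hloc : FlatMor.localDim ↥((X' : Set X) ∩ f.base ⁻¹' {f.base (ιX w)}) ⟨ιX w, ⟨hx, rfl⟩⟩ =
      FlatMor.fibreDimAt (ιX ≫ f) w := by
    rw [← Groth.Agent.H46.FibreTrdeg.localDim_range_inter f ιX w]
    refine Groth.Agent.H46.FibreTrdeg.localDim_congr ?_ _ _ _
    rw [hr, hx']
  rw [hloc, Groth.Agent.H46.DimData.fibreDimAt_eq, Groth.Agent.H46.DimData.fibreDimAt_eq] at hdim ⊢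
  rw [Groth.Agent.H46.DimData.ringKrullDim_stalk] at hcodim ⊢
  norm_cast at hcodim hdim ⊢
  have hfe : ∀ a ∈ U, Groth.Agent.H46.DimData.fe f a = e := fun a ha => by
    have := Groth.Agent.H46.Equidim.fibreDimAt_eq_of_data f ‹_› ha
    rw [Groth.Agent.H46.DimData.fibreDimAt_eq] at this
    exact_mod_cast this
  have h1 := hfe _ hxU
  have h2 := hfe _ hx'U
  have h3 := Groth.Agent.H46.DimData.fd_add_trd f x'
  have h4 := Groth.Agent.H46.DimData.trd_le_fe (ιX ≫ f) (hgen w)
  rw [Groth.Agent.H46.FibreTrdeg.trd_comp, hw₀] at h4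
  have h5 : Groth.Agent.H46.DimData.fd f x' ≤ Groth.Agent.H46.DimData.sd x' := by
    have h1 := (Groth.Agent.H46.FiberStalk.ringKrullDim_stalk_fiber f x').trans_le
      (ringKrullDim_quotient_le _)
    rw [Groth.Agent.H46.DimData.ringKrullDim_fiber, Groth.Agent.H46.DimData.ringKrullDim_stalk] at h1
    exact_mod_cast h1
  have hη : Groth.Agent.Lib.Cyc.DimFun.IsMaxPt (f x') := by
    by_contra hne
    have := Groth.Agent.H46.SubStalk.fd_lt_sd f x' fun a ha hax he =>
      hne (he ▸ (hdom a (hax.mem_open U.2 hx'U) ha).1)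
    omega
  refine ⟨by omega, by omega, fun w' hw' => ?_⟩
  obtain rfl : w' = w := ιX.isEmbedding.injective hw'
  refine Groth.Agent.H46.DimData.isEquidimAt_of_components (ιX ≫ f) w' fun a ha _ => ?_
  obtain rfl := ha w₀ (hgen a)
  rw [Groth.Agent.H46.FibreTrdeg.trd_comp, hw₀, Scheme.Hom.comp_apply, hw₀]
  exact ⟨hη, by omega⟩

end Groth.Agent.S4943
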