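import Groth.Statements.S4946
import Groth.Agent.H46.UnibranchDim1

set_option autoImplicit false
open CategoryTheory AlgebraicGeometry
universe u v w
open EGA43

namespace Groth.Agent.S4946

/-- Let Y be an irreducible locally Noetherian scheme which is regular of dimension 1 (all local rings
regular of dimension at most 1), f : X ⟶ Y a morphism locally of finite type and y a point of Y.
Then the following are equivalent: d) every irreducible component of X meeting the fibre X_y
dominates Y; e) for every point x closed in X_y and every irreducible component X_i of X containing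
x, there are an irreducible reduced scheme T and an immersion T ⟶ X with image containing x and
contained in X_i, such that T ⟶ Y is quasi-finite and dominant. -/
theorem result {X Y : Scheme.{u}} [IrreducibleSpace Y]
    [IsLocallyNoetherian Y] (hY : ∀ y : Y, IsRegularLocalRing (Y.presheaf.stalk y) ∧ ringKrullDim (Y.presheaf.stalk y) ≤ 1)
    (f : X ⟶ Y) [LocallyOfFiniteType f] (y : Y) :
    (∀ Z ∈ irreducibleComponents (X : Type u), (Z ∩ f.base ⁻¹' {y}).Nonempty → Dense (f.base '' Z)) ↔
      ∀ x : X, f.base x = y → (∀ x' : X, f.base x' = y → x ⤳ x' → x' = x) →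
        ∀ Xi ∈ irreducibleComponents (X : Type u), x ∈ Xi →
          ∃ (T : Scheme.{u}) (i : T ⟶ X), IsImmersion i ∧ IrreducibleSpace ↥T ∧ IsReduced T ∧ x ∈ Set.range i.base ∧
            Set.range i.base ⊆ Xi ∧
            LocallyOfFiniteType (i ≫ f) ∧ LocallyQuasiFinite (i ≫ f) ∧ QuasiCompact (i ≫ f) ∧ IsDominant (i ≫ f) := by
  haveI := LocallyOfFiniteType.isLocallyNoetherian f
  constructor
  · intro h x hx hcl Xi hXi hxXi
    obtain ⟨ξ, hξ, rfl⟩ := Groth.Agent.H46.Equidim.exists_generic_of_mem_irreducibleComponents hXi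
    have hξx : ξ ⤳ x := specializes_iff_mem_closure.2 hxXi
    have hfξ : f ξ = genericPoint Y := by
      have hd := h _ hXi ⟨x, hxXi, hx⟩
      rw [dense_iff_closure_eq, Groth.Agent.H46.Equidim.closure_image_closure',
        ← genericPoint_closure] at hd
      exact Groth.Agent.H46.Equidim.closure_singleton_inj hd
    let i := (Scheme.IdealSheafData.vanishingIdeal
      (⟨closure {ξ}, isClosed_closure⟩ : TopologicalSpace.Closeds X)).subschemeι
    have hr : Set.range i = closure {ξ} := by
      rw [Scheme.IdealSheafData.range_subschemeι, Scheme.IdealSheafData.coe_support_vanishingIdeal]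
      rfl
    obtain ⟨w, rfl⟩ : x ∈ Set.range i := by rw [hr]; exact hxXi
    obtain ⟨w₀, hw₀⟩ : ξ ∈ Set.range i := by rw [hr]; exact subset_closure rfl
    have hgen : ∀ a, w₀ ⤳ a := fun a => i.isEmbedding.isInducing.specializes_iff.1
      ((specializes_of_eq hw₀).trans (specializes_iff_mem_closure.2 (hr.le ⟨a, rfl⟩)))
    have hη : (i ≫ f) w₀ = genericPoint Y := by rw [Scheme.Hom.comp_apply, hw₀, hfξ]
    obtain ⟨T, j, hj, hT1, hT2, hwj, hT3, hT4, hT5, hT6⟩ :=
      Groth.Agent.H46.UnibranchTFAE.exists_section (i ≫ f) (x := w) (fun a ha hs =>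
        i.isEmbedding.injective (hcl (i a) (by
          rw [← Scheme.Hom.comp_apply]; exact ha.trans hx) (hs.map i.continuous)))
        (hgen w) (hη.symm ▸ Groth.Agent.H46.UnibranchCrit.isMaxPt_genericPoint)
        fun a _ _ => Groth.Agent.H46.UnibranchDim1.trd_le_of_dominant (i ≫ f)
          (fun z => (hY z).2) (hgen a) hη
    obtain ⟨t, rfl⟩ := hwj
    haveI := hj
    exact ⟨T, j ≫ i, inferInstance, hT1, hT2, ⟨t, rfl⟩,
      fun z ⟨a, ha⟩ => hr.le ⟨j a, ha⟩, by simpa using hT3, by simpa using hT4, by simpa using hT5,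
      by simpa using hT6⟩
  · intro h Z hZ ⟨a, haZ, hay⟩
    obtain ⟨z, hz⟩ := Groth.Agent.Lib.Cyc.FieldDim.exists_fiberι_eq f a y hay
    haveI : JacobsonSpace ↥(f.fiber y) :=
      LocallyOfFiniteType.jacobsonSpace (X := f.fiber y)
        (Y := Spec (CommRingCat.of (Y.residueField y))) (f.fiberToSpecResidueField y)
    have hZc : IsClosed Z := isClosed_of_mem_irreducibleComponents Z hZ
    obtain ⟨c, hcZ, hc⟩ := nonempty_inter_closedPoints (Z := f.fiberι y ⁻¹' Z)
      ⟨z, by show f.fiberι y z ∈ Z; rw [hz]; exact haZ⟩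
      (hZc.preimage (f.fiberι y).continuous).isLocallyClosed
    obtain ⟨T, i, -, -, -, -, hsub, -, -, -, hd⟩ := h (f.fiberι y c)
      (Groth.Agent.Lib.Cyc.FieldDim.apply_fiberι f y c) (fun x' hx' hs => by
        obtain ⟨c', hc'⟩ := Groth.Agent.Lib.Cyc.FieldDim.exists_fiberι_eq f x' y hx'
        have hs' : c ⤳ c' := by
          rw [(f.fiberι y).isEmbedding.isInducing.specializes_iff.symm, hc']; exact hs
        rw [← hc', show c' = c from hs'.mem_closed hc rfl]) Z hZ hcZ
    refine Dense.mono ?_ (i ≫ f).denseRange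
    rintro _ ⟨t, rfl⟩
    exact ⟨i t, hsub ⟨t, rfl⟩, rfl⟩

end Groth.Agent.S4946
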