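import Groth.Statements.S4947
import Groth.Agent.H34.OrdVal.Chart
import Mathlib.RingTheory.DiscreteValuationRing.TFAE
import Mathlib.RingTheory.Localization.AsSubring
import Mathlib.FieldTheory.IntermediateField.Adjoin.Basic
import Mathlib.RingTheory.AlgebraicIndependent.Basic
import Mathlib.Algebra.Module.SpanRank

set_option autoImplicit false
universe u
open EGA43

namespace Groth.Agent.S4947

open Groth.Agent.Lib Groth.Agent.H34.OrdVal

/-- Let A be a regular local ring which is not a field, K its fraction field and k its residue field.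
Then there is a discrete valuation ring V between A and K, with fraction field K, dominating A,
whose residue field is a purely transcendental extension of k: for some ring map from k compatible
with A → V there is an algebraically independent family generating the residue field of V as a field
over k. -/
theorem result (A : Type u) [CommRing A] [IsRegularLocalRing A]
    (hA : ¬ IsField A) :
    ∃ (V : Subalgebra A (FractionRing A)) (_ : IsDomain V) (_ : IsDiscreteValuationRing V), IsFractionRing V (FractionRing A) ∧
      (IsLocalRing.maximalIdeal V).comap (algebraMap A V) = IsLocalRing.maximalIdeal A ∧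
      ∃ (φ : IsLocalRing.ResidueField A →+* IsLocalRing.ResidueField V),
        φ.comp (IsLocalRing.residue A) = (IsLocalRing.residue V).comp (algebraMap A V) ∧
        letI := φ.toAlgebra
        ∃ (ι : Type u) (t : ι → IsLocalRing.ResidueField V), AlgebraicIndependent (IsLocalRing.ResidueField A) t ∧
          IntermediateField.adjoin (IsLocalRing.ResidueField A) (Set.range t) = ⊤ := by
  classical
  have := Regular.Quotient.isDomain A
  let m := IsLocalRing.maximalIdeal A
  have hfg : m.FG := m.fg_of_isNoetherianRing
  obtain ⟨c, hc⟩ : ∃ c, m.spanFinrank = c + 1 := by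
    refine ⟨m.spanFinrank - 1, ?_⟩
    have : m.spanFinrank ≠ 0 := fun h => hA (IsLocalRing.isField_iff_maximalIdeal_eq.2
      ((Submodule.spanFinrank_eq_zero_iff_eq_bot hfg).1 h))
    omega
  have := (Submodule.FG.finite_generators hfg).fintype
  have hcard : Fintype.card m.generators = c + 1 := by
    rw [← Nat.card_eq_fintype_card, Nat.card_coe_set_eq, Submodule.FG.generators_ncard hfg, hc]
  let f : Fin (c + 1) → A := fun i => ((Fintype.equivFinOfCardEq hcard).symm i).1
  have hspan : Ideal.span (Set.range f) = m := by
    rw [show Set.range f = m.generators by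
      ext x
      exact ⟨by rintro ⟨i, rfl⟩; exact Subtype.prop _,
        fun hx => ⟨Fintype.equivFinOfCardEq hcard ⟨x, hx⟩, by simp [f]⟩⟩]
    exact Submodule.span_generators m
  have hlist : Ideal.ofList (List.ofFn f) = m := by
    rw [← hspan, Ideal.ofList]
    congr 1
    ext x
    simp only [List.mem_ofFn', Set.mem_range, Set.mem_setOf_eq]
  have hreg := Regular.Quotient.isRegular_of_span_eq_maximalIdeal (List.ofFn f) hlist
    (by rw [List.length_ofFn, hc])
  have hf := Regular45.QuasiReg.quasiRegular_of_isWeaklyRegular f hreg.toIsWeaklyRegular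
  have hf0 : f 0 ≠ 0 := fun h0 => one_ne_zero (α := A) <| by
    have h1 := hreg.toIsWeaklyRegular
    rw [List.ofFn_succ, RingTheory.Sequence.isWeaklyRegular_cons_iff, h0] at h1
    exact h1.1 (show (0 : A) • (1 : A) = (0 : A) • (0 : A) by simp)
  let K := FractionRing A
  let B := chart f K
  have : Algebra.FiniteType A B := (Subalgebra.fg_iff_finiteType _).1
    (Subalgebra.fg_def.2 ⟨_, Set.finite_range _, rfl⟩)
  have : IsNoetherianRing B := Algebra.FiniteType.isNoetherianRing A B
  let p : Ideal B := Ideal.span {algebraMap A B (f 0)}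
  have hp : RingHom.ker (toPoly hf hspan hf0) = p := ker_toPoly hf hspan hf0
  have : p.IsPrime := hp ▸ RingHom.ker_isPrime _
  let Vb := Localization.subalgebra.ofField K p.primeCompl p.primeCompl_le_nonZeroDivisors
  let V : Subalgebra A K := Vb.restrictScalars A
  let : Algebra B V := Vb.algebra
  have : IsScalarTower A B V := IsScalarTower.of_algebraMap_eq fun _ => rfl
  have : IsLocalization.AtPrime V p :=
    (inferInstance : IsLocalization p.primeCompl Vb)
  have : IsLocalRing V := IsLocalization.AtPrime.isLocalRing V p
  have : IsNoetherianRing V := IsLocalization.isNoetherianRing p.primeCompl V inferInstance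
  have hmax : IsLocalRing.maximalIdeal V = Ideal.span {algebraMap A V (f 0)} := by
    rw [← IsLocalization.AtPrime.map_eq_maximalIdeal p V, Ideal.map_span, Set.image_singleton,
      ← IsScalarTower.algebraMap_apply]
  have hnf : ¬ IsField V := fun h => hf0 (IsFractionRing.injective A K (by
    have h1 := IsLocalRing.isField_iff_maximalIdeal_eq.1 h
    rw [hmax, Ideal.span_singleton_eq_bot] at h1
    rw [map_zero]
    exact congrArg Subtype.val h1))
  have : IsDiscreteValuationRing V :=
    ((IsDiscreteValuationRing.TFAE V hnf).out 4 0).1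
      (⟨algebraMap A V (f 0), hmax⟩ : (IsLocalRing.maximalIdeal V).IsPrincipal)
  have hcomap : (IsLocalRing.maximalIdeal V).comap (algebraMap A V) = IsLocalRing.maximalIdeal A := by
    ext a
    rw [Ideal.mem_comap, IsScalarTower.algebraMap_apply A B V,
      IsLocalization.AtPrime.to_map_mem_maximal_iff V p, ← hp, RingHom.mem_ker, toPoly_algebraMap,
      MvPolynomial.C_eq_zero, IsLocalRing.residue_eq_zero_iff]
  let k := IsLocalRing.ResidueField A
  let R := MvPolynomial (Fin c) k
  let L := FractionRing R
  have hunit : ∀ s : p.primeCompl, IsUnit (((algebraMap R L).comp (toPoly (K := K) hf hspan hf0)) s.1) :=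
    fun s => isUnit_iff_ne_zero.2 fun h => s.2 (by
      rw [RingHom.comp_apply, map_eq_zero_iff _ (IsFractionRing.injective R L)] at h
      exact (SetLike.ext_iff.1 hp s.1).1 h)
  let Γ : V →+* L := IsLocalization.lift hunit
  have hΓ : Function.Surjective Γ := fun y => by
    obtain ⟨a, b, hb, rfl⟩ := IsFractionRing.div_surjective R y
    obtain ⟨a', rfl⟩ := toPoly_surjective (K := K) hf hspan hf0 a
    obtain ⟨b', rfl⟩ := toPoly_surjective (K := K) hf hspan hf0 b
    have hb' : b' ∈ p.primeCompl := fun h =>
      nonZeroDivisors.ne_zero hb ((SetLike.ext_iff.1 hp b').2 h)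
    refine ⟨IsLocalization.mk' V a' ⟨b', hb'⟩, ?_⟩
    rw [IsLocalization.lift_mk', Units.mul_inv_eq_iff_eq_mul, IsUnit.coe_liftRight]
    exact (div_mul_cancel₀ _ fun h => nonZeroDivisors.ne_zero hb
      ((map_eq_zero_iff _ (IsFractionRing.injective R L)).1 h)).symm
  have hker : RingHom.ker Γ = IsLocalRing.maximalIdeal V :=
    IsLocalRing.eq_maximalIdeal (RingHom.ker_isMaximal_of_surjective Γ hΓ)
  have hlift : ∀ v ∈ IsLocalRing.maximalIdeal V, Γ v = 0 := fun v hv => (hker ▸ hv :)
  have hres : ∀ a ∈ IsLocalRing.maximalIdeal A,
      ((IsLocalRing.residue V).comp (algebraMap A V)) a = 0 := fun a ha =>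
    (IsLocalRing.residue_eq_zero_iff _).2 (hcomap.ge ha)
  let φ : k →+* IsLocalRing.ResidueField V :=
    Ideal.Quotient.lift _ ((IsLocalRing.residue V).comp (algebraMap A V)) hres
  let Ψ : IsLocalRing.ResidueField V →+* L := Ideal.Quotient.lift _ Γ hlift
  let : Algebra k (IsLocalRing.ResidueField V) := φ.toAlgebra
  have hcomm : ∀ x : k, Ψ (φ x) = algebraMap k L x := fun x => by
    obtain ⟨a, rfl⟩ := IsLocalRing.residue_surjective x
    change Γ (algebraMap A V a) = _
    rw [IsScalarTower.algebraMap_apply A B V, IsLocalization.lift_eq, RingHom.comp_apply,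
      toPoly_algebraMap, IsScalarTower.algebraMap_apply k R L]
    rfl
  let E : IsLocalRing.ResidueField V ≃ₐ[k] L := AlgEquiv.ofBijective
    { Ψ with commutes' := hcomm }
    ⟨Ψ.injective, fun y => ⟨IsLocalRing.residue V (hΓ y).choose, (hΓ y).choose_spec⟩⟩
  let t : ULift.{u} (Fin c) → L := fun i => algebraMap R L (MvPolynomial.X i.down)
  refine ⟨V, inferInstance, inferInstance,
    (inferInstance : IsFractionRing Vb K), hcomap, φ, RingHom.ext fun a => rfl, ?_⟩
  refine ⟨ULift.{u} (Fin c), fun i => E.symm.toAlgHom (t i), ?_, ?_⟩
  · refine AlgebraicIndependent.map' ?_ E.symm.injective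
    exact ((MvPolynomial.algebraicIndependent_X (Fin c) k).map'
      (f := IsScalarTower.toAlgHom k R L) (IsFractionRing.injective R L)).comp _ ULift.down_injective
  · have htop : IntermediateField.adjoin k (Set.range t) = ⊤ := by
      have hR : ∀ r : R, algebraMap R L r ∈ IntermediateField.adjoin k (Set.range t) := fun r => by
        induction r using MvPolynomial.induction_on with
        | C a => exact (IsScalarTower.algebraMap_apply k R L a) ▸ IntermediateField.algebraMap_mem _ a
        | add x y hx hy => rw [map_add]; exact add_mem hx hy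
        | mul_X x i hx =>
          rw [map_mul]
          exact mul_mem hx (IntermediateField.subset_adjoin k _ ⟨⟨i⟩, rfl⟩)
      refine eq_top_iff.2 fun y _ => ?_
      obtain ⟨a, b, -, rfl⟩ := IsFractionRing.div_surjective R y
      exact div_mem (hR a) (hR b)
    rw [show (fun i => E.symm.toAlgHom (t i)) = E.symm.toAlgHom ∘ t from rfl, Set.range_comp,
      ← IntermediateField.adjoin_map, htop]
    exact AlgHom.fieldRange_eq_map E.symm.toAlgHom ▸
      eq_top_iff.2 fun y _ => ⟨E y, E.symm_apply_apply y⟩

end Groth.Agent.S4947
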