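import Groth.Statements.S4948
import Groth.Agent.H46.FiberStalk
import Mathlib.RingTheory.Flat.TorsionFree
import Mathlib.AlgebraicGeometry.Noetherian
import Mathlib.AlgebraicGeometry.Morphisms.FiniteType
import Mathlib.RingTheory.Filtration
import Mathlib.RingTheory.DiscreteValuationRing.Basic

set_option autoImplicit false
open CategoryTheory AlgebraicGeometry
universe u v w
open EGA43

namespace Groth.Agent.S4948

open IsLocalRing

theorem mem_prime_iff {X : Scheme.{u}} (s : Γ(X, ⊤)) (v : X) (q : PrimeSpectrum (X.presheaf.stalk v)) :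
    (X.presheaf.germ ⊤ v trivial).hom s ∈ q.asIdeal ↔ X.fromSpecStalk v q ∉ X.basicOpen s := by
  have h := Scheme.preimage_basicOpen_top (X.fromSpecStalk v) s
  have h2 : X.fromSpecStalk v q ∈ X.basicOpen s ↔
      q ∈ PrimeSpectrum.basicOpen ((X.presheaf.germ ⊤ v trivial).hom s) := by
    show q ∈ (X.fromSpecStalk v) ⁻¹ᵁ X.basicOpen s ↔ _
    rw [h, Scheme.fromSpecStalk_appTop, CommRingCat.comp_apply, CommRingCat.comp_apply,
      basicOpen_eq_of_affine']
    simp
    rfl
  rw [h2, PrimeSpectrum.mem_basicOpen, not_not]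

/-- Consider a discrete valuation ring A and set Y = Spec A, whose closed point is y. Given a morphism f
: X ⟶ Y that is locally of finite type, and a point x lying in the fibre X_y, assume two things:
first, f is open at each generic point of an irreducible component of X_y passing through x; second,
X_y is reduced at x (that is, the local ring of the fibre at x is reduced). Under these assumptions
f is flat at x. -/
theorem result {A : Type u} [CommRing A] [IsDomain A]
    [IsDiscreteValuationRing A] {X : Scheme.{u}} (f : X ⟶ Spec (CommRingCat.of A)) [LocallyOfFiniteType f] (x : X)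
    (hx : f.base x = IsLocalRing.closedPoint A)
    (h : ∀ z : ↥(f.fiber (f.base x)), f.asFiber x ∈ closure {z} →
      (∀ z' : ↥(f.fiber (f.base x)), z ∈ closure {z'} → z' = z) → EGA43.IsOpenAt f.base ((f.fiberι (f.base x)).base z))
    (hred : _root_.IsReduced ((f.fiber (f.base x)).presheaf.stalk (f.asFiber x))) :
    (f.stalkMap x).hom.Flat := by
  classical
  haveI : IsLocallyNoetherian X := LocallyOfFiniteType.isLocallyNoetherian f
  obtain ⟨π, hπ⟩ := IsDiscreteValuationRing.exists_irreducible A
  let s : Γ(X, ⊤) := f.appTop ((Scheme.ΓSpecIso (CommRingCat.of A)).inv π)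
  -- points outside `basicOpen s` are over the closed point
  have hs : ∀ v : X, v ∉ X.basicOpen s ↔ f v = closedPoint A := by
    intro v
    rw [← Scheme.preimage_basicOpen_top, basicOpen_eq_of_affine]
    show ¬ π ∉ PrimeSpectrum.asIdeal (f v) ↔ _
    rw [not_not]
    constructor
    · intro hv
      apply PrimeSpectrum.ext
      show (f v).asIdeal = maximalIdeal A
      refine le_antisymm (le_maximalIdeal (f v).isPrime.ne_top) ?_
      rw [hπ.maximalIdeal_eq, Ideal.span_singleton_le_iff_mem]
      exact hv
    · intro hv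
      rw [hv]
      show π ∈ maximalIdeal A
      exact hπ.not_isUnit
  let R := (Spec (CommRingCat.of A)).presheaf.stalk (f x)
  let σ : A →+* R := ((Scheme.ΓSpecIso (CommRingCat.of A)).inv ≫
    (Spec (CommRingCat.of A)).presheaf.germ ⊤ (f x) trivial).hom
  let px : PrimeSpectrum A := f.base x
  have hpx : px.asIdeal = maximalIdeal A := congrArg PrimeSpectrum.asIdeal hx
  letI : Algebra A R := StructureSheaf.stalkAlgebra _ _
  haveI : IsLocalization.AtPrime R px.asIdeal :=
    StructureSheaf.IsLocalization.to_stalk _ _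
  have hσ : σ = algebraMap A R := rfl
  have hbij : Function.Bijective (algebraMap A R) := by
    have hunits : ∀ a ∈ px.asIdeal.primeCompl, IsUnit a := by
      intro a ha
      by_contra hu
      apply ha
      show a ∈ px.asIdeal
      rw [hpx]
      exact hu
    exact (IsLocalization.atUnits A px.asIdeal.primeCompl hunits).bijective
  let e : A ≃+* R := RingEquiv.ofBijective _ hbij
  haveI : IsDomain R := e.symm.toMulEquiv.isDomain
  haveI : IsPrincipalIdealRing R :=
    IsPrincipalIdealRing.of_surjective (algebraMap A R) hbij.2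
  let B := X.presheaf.stalk x
  let g : B := (X.presheaf.germ ⊤ x trivial).hom s
  have hg : (f.stalkMap x).hom (σ π) = g := Scheme.Hom.germ_stalkMap_apply f ⊤ x trivial _
  -- the reduced fibre
  have hrad : (Ideal.span {g}).IsRadical := by
    have hm : maximalIdeal R = Ideal.span {σ π} := by
      have he : maximalIdeal R = (maximalIdeal A).map (algebraMap A R) := by
        rw [← IsLocalization.AtPrime.map_eq_maximalIdeal px.asIdeal R]
        congr 1
      rw [he, hπ.maximalIdeal_eq, Ideal.map_span, Set.image_singleton, hσ]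
    haveI := hred
    haveI : _root_.IsReduced (B ⧸ (maximalIdeal R).map (f.stalkMap x).hom) :=
      isReduced_of_injective (Groth.Agent.H46.FiberStalk.quotientEquiv f x)
        (RingEquiv.injective _)
    have := (Ideal.isRadical_iff_quotient_reduced _).2 this
    rwa [hm, Ideal.map_span, Set.image_singleton, hg] at this
  -- torsion lies in every minimal prime of `(g)`
  have hkey : ∀ b : B, (∃ n : ℕ, g ^ n * b = 0) → b ∈ Ideal.span {g} := by
    rintro b ⟨n, hn⟩
    rw [← hrad.radical, ← Ideal.sInf_minimalPrimes]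
    rw [Submodule.mem_sInf]
    intro z hz
    haveI := hz.1.1
    suffices ∃ q : PrimeSpectrum B, q.asIdeal ≤ z ∧ g ∉ q.asIdeal by
      obtain ⟨q, hqz, hgq⟩ := this
      refine hqz ((q.isPrime.mem_or_mem (x := g ^ n) (y := b) ?_).resolve_left ?_)
      · rw [hn]; exact q.asIdeal.zero_mem
      · exact fun h => hgq (q.isPrime.mem_of_pow_mem n h)
    by_contra hno
    push_neg at hno
    let zz : PrimeSpectrum B := ⟨z, hz.1.1⟩
    let w := X.fromSpecStalk x zz
    have hwx : w ⤳ x := by
      have : w ∈ Set.range (X.fromSpecStalk x) := ⟨zz, rfl⟩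
      rw [Scheme.range_fromSpecStalk] at this
      exact this
    have hgen : ∀ v : X, v ⤳ w → f v = closedPoint A := by
      intro v hv
      have : v ∈ Set.range (X.fromSpecStalk x) := by
        rw [Scheme.range_fromSpecStalk]; exact hv.trans hwx
      obtain ⟨q, rfl⟩ := this
      have hqz : q ⤳ zz := (X.fromSpecStalk x).isEmbedding.isInducing.specializes_iff.1 hv
      refine (hs _).1 ((mem_prime_iff s x q).1 (hno q ?_))
      exact (PrimeSpectrum.le_iff_specializes q zz).2 hqz
    have hfw : f w = closedPoint A := hgen w specializes_rfl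
    obtain ⟨a, ha⟩ : w ∈ Set.range (f.fiberι (f x)) := by
      rw [Scheme.Hom.range_fiberι]; exact hfw.trans hx.symm
    have hopen := h a (by
        rw [← specializes_iff_mem_closure, ← (f.fiberι (f x)).isEmbedding.isInducing.specializes_iff,
          Scheme.Hom.fiberι_asFiber]
        rw [show f.fiberι (f.base x) a = w from ha]
        exact hwx) (by
      intro a' ha'
      rw [← specializes_iff_mem_closure,
        ← (f.fiberι (f x)).isEmbedding.isInducing.specializes_iff] at ha'
      apply (f.fiberι (f x)).isEmbedding.injective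
      show f.fiberι (f x) a' = f.fiberι (f x) a
      rw [ha]
      have hv : f.fiberι (f x) a' ⤳ w := ha ▸ ha'
      have : f.fiberι (f x) a' ∈ Set.range (X.fromSpecStalk x) := by
        rw [Scheme.range_fromSpecStalk]; exact hv.trans hwx
      obtain ⟨q, hq⟩ := this
      rw [← hq] at hv ⊢
      have hqz : q.asIdeal ≤ z := (PrimeSpectrum.le_iff_specializes q zz).2
        ((X.fromSpecStalk x).isEmbedding.isInducing.specializes_iff.1 hv)
      have hgq : g ∈ q.asIdeal := (mem_prime_iff s x q).2 ((hs _).2 (hgen _ hv))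
      have : q = zz := PrimeSpectrum.ext (le_antisymm hqz
        (hz.2 ⟨q.isPrime, (Ideal.span_singleton_le_iff_mem _).2 hgq⟩ hqz))
      rw [this])
    rw [show (f.fiberι (f.base x)).base a = w from ha] at hopen
    have hnil : IsNilpotent ((X.presheaf.germ ⊤ w trivial).hom s) := by
      rw [nilpotent_iff_mem_prime]
      intro J hJ
      refine (mem_prime_iff s w ⟨J, hJ⟩).2 ((hs _).2 (hgen _ ?_))
      have : X.fromSpecStalk w ⟨J, hJ⟩ ∈ Set.range (X.fromSpecStalk w) := ⟨_, rfl⟩
      rw [Scheme.range_fromSpecStalk] at this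
      exact this
    obtain ⟨k, hk⟩ := hnil
    obtain ⟨W, hwW, i, i', hW⟩ := X.presheaf.germ_eq w (U := ⊤) (V := ⊤) trivial trivial (s ^ k) 0
      (by rw [map_pow, map_zero]; exact hk)
    rw [map_zero] at hW
    have hWs : ∀ v ∈ W, f v = closedPoint A := by
      intro v hv
      refine (hs v).1 fun hvs => ?_
      rw [Scheme.mem_basicOpen_top] at hvs
      have h0 : (X.presheaf.germ ⊤ v trivial).hom (s ^ k) = 0 := by
        rw [← X.presheaf.germ_res_apply i v hv]
        exact (congrArg _ hW).trans (map_zero _)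
      exact not_isUnit_zero (h0 ▸ (map_pow (X.presheaf.germ ⊤ v trivial).hom s k).symm ▸ hvs.pow k)
    obtain ⟨V, hV, hVo, hfwV⟩ := mem_nhds_iff.1 (hopen W (W.2.mem_nhds hwW))
    let η : PrimeSpectrum A := ⟨⊥, Ideal.isPrime_bot⟩
    have hη : η ⤳ f w := (PrimeSpectrum.le_iff_specializes η (f w)).1 bot_le
    obtain ⟨v, hvW, hv⟩ := hV (hη.mem_open hVo hfwV)
    have : η = closedPoint A := hv.symm.trans (hWs v hvW)
    exact IsDiscreteValuationRing.not_a_field A
      (congrArg PrimeSpectrum.asIdeal this).symm
  have htors : ∀ k : ℕ, ∀ b : B, (∃ n : ℕ, g ^ n * b = 0) → b ∈ Ideal.span {g} ^ k := by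
    intro k
    induction k with
    | zero => intro b _; simp
    | succ k ih =>
      intro b hb
      obtain ⟨c, rfl⟩ := Ideal.mem_span_singleton'.1 (hkey b hb)
      obtain ⟨n, hn⟩ := hb
      rw [pow_succ]
      exact Ideal.mul_mem_mul (ih c ⟨n + 1, by rw [← hn]; ring⟩) (Ideal.mem_span_singleton_self g)
  have hzero : ∀ b : B, (∃ n : ℕ, g ^ n * b = 0) → b = 0 := by
    intro b hb
    have hne : Ideal.span {g} ≠ ⊤ := by
      intro htop
      have hu : IsUnit ((f.stalkMap x).hom (σ π)) := by
        rw [hg]; exact Ideal.span_singleton_eq_top.1 htop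
      have h2 := (inferInstance : IsLocalHom (f.stalkMap x).hom).map_nonunit _ hu
      rw [hσ] at h2
      exact hπ.not_isUnit ((isUnit_map_iff e π).1 h2)
    have : b ∈ ⨅ k : ℕ, Ideal.span {g} ^ k := Submodule.mem_iInf _ |>.2 fun k => htors k b hb
    rwa [Ideal.iInf_pow_eq_bot_of_isLocalRing _ hne, Ideal.mem_bot] at this
  letI : Algebra R B := (f.stalkMap x).hom.toAlgebra
  rw [RingHom.Flat, Module.Flat.flat_iff_torsion_eq_bot_of_isBezout, eq_bot_iff]
  intro b hb
  obtain ⟨⟨r, hr⟩, hrb⟩ := (Submodule.mem_torsion_iff b).1 hb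
  obtain ⟨a, rfl⟩ := hbij.2 r
  have ha : a ≠ 0 := by
    rintro rfl
    exact nonZeroDivisors.ne_zero hr (map_zero _)
  obtain ⟨n, u, rfl⟩ := IsDiscreteValuationRing.eq_unit_mul_pow_irreducible ha hπ
  refine (Submodule.mem_bot R).2 (hzero b ⟨n, ?_⟩)
  have h1 : (f.stalkMap x).hom (algebraMap A R (↑u * π ^ n)) * b = 0 := hrb
  rw [map_mul, map_mul, map_pow, map_pow, ← hσ, hg, mul_assoc] at h1
  exact ((u.isUnit.map σ).map (f.stalkMap x).hom).mul_right_eq_zero.1 h1

end Groth.Agent.S4948
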