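import Groth.Statements.S4950
import Groth.Agent.H34.GeomPts.Count
import Groth.Agent.Lib.DvrCrit.Algebra
import Mathlib.FieldTheory.SplittingField.Construction

set_option autoImplicit false
open CategoryTheory AlgebraicGeometry
universe u v w
open EGA43

namespace Groth.Agent.S4950

open Groth.Agent CategoryTheory CategoryTheory.Limits AlgebraicGeometry
open Groth.Agent.H34

/-- Geometric points descend at a point mapping to `y` over which a polynomial splits. -/
theorem count_at {X Y T : Scheme.{u}} (f : X ⟶ Y) [LocallyQuasiFinite f] [LocallyOfFiniteType f]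
    (g : T ⟶ Y) (t : T) {y : Y} (hgt : g t = y) (a : Y.residueField y ⟶ T.residueField t)
    (ha : T.fromSpecResidueField t ≫ g = Spec.map a ≫ Y.fromSpecResidueField y)
    (P : Polynomial (Y.residueField y)) (hP : ∀ (k K : Type u) [Field k] [Field K]
      (a : Y.residueField y ⟶ CommRingCat.of k) (η : CommRingCat.of k ⟶ CommRingCat.of K),
      (P.map a.hom).Splits →
      ∀ s : Spec (CommRingCat.of K) ⟶ X,
        s ≫ f = Spec.map η ≫ Spec.map a ≫ Y.fromSpecResidueField y →
        ∃ s0 : Spec (CommRingCat.of k) ⟶ X,
          s0 ≫ f = Spec.map a ≫ Y.fromSpecResidueField y ∧ Spec.map η ≫ s0 = s)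
    (hsplit : (P.map a.hom).Splits) :
    MoreMor.nGeomConnComp f y = ENat.card ↥((pullback.snd f g).fiber t) := by
  subst hgt
  refine GeomPts.card_fiber_eq f g t (K := AlgebraicClosure (T.residueField t))
    (CommRingCat.ofHom (algebraMap (T.residueField t) (AlgebraicClosure (T.residueField t))))
    fun s => ?_
  obtain ⟨s0, h1, h2⟩ := hP (T.residueField t) _ a
    (CommRingCat.ofHom (algebraMap (T.residueField t) (AlgebraicClosure (T.residueField t))))
    hsplit s.1 (s.2.trans (congrArg (Spec.map (CommRingCat.ofHom (algebraMap (T.residueField t)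
      (AlgebraicClosure (T.residueField t)))) ≫ ·) ha))
  exact ⟨s0, h1.trans ha.symm, h2⟩


open CategoryTheory.Limits in
/-- Let Y be a locally Noetherian scheme, f : X ⟶ Y a separated quasi-finite morphism, y a point of Y
and y' a generization of y distinct from y; write n(z) for the geometric number of points of the
fibre X_z. Then there are a discrete valuation ring A and a morphism g : Spec A ⟶ Y mapping the
closed point to y and the generic point to y', such that n(y) is the number of points of the fibre
of X ×_Y Spec A ⟶ Spec A over the closed point and n(y') is the number of points of its fibre over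
the generic point. -/
theorem result {X Y : Scheme.{u}} [IsLocallyNoetherian Y] (f : X ⟶ Y)
    [IsSeparated f] [LocallyQuasiFinite f] [LocallyOfFiniteType f] [QuasiCompact f] (y y' : Y) (hne : y' ≠ y)
    (hgen : y' ⤳ y) :
    ∃ (A : Type u) (_ : CommRing A) (_ : IsDomain A) (_ : IsDiscreteValuationRing A) (g : Spec (CommRingCat.of A) ⟶ Y),
      g.base (IsLocalRing.closedPoint A) = y ∧ g.base (genericPoint (Spec (CommRingCat.of A))) = y' ∧
      MoreMor.nGeomConnComp f y = ENat.card ↥((pullback.snd f g).fiber (IsLocalRing.closedPoint A)) ∧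
      MoreMor.nGeomConnComp f y' = ENat.card ↥((pullback.snd f g).fiber (genericPoint (Spec (CommRingCat.of A)))) := by
  classical
  let R := Y.presheaf.stalk y
  let ψ : R ⟶ Y.residueField y' := Y.presheaf.stalkSpecializes hgen ≫ Y.residue y'
  have hψpt : Spec.map ψ ≫ Y.fromSpecStalk y = Y.fromSpecResidueField y' := by
    rw [Spec.map_comp, Category.assoc, Scheme.SpecMap_stalkSpecializes_fromSpecStalk]
    rfl
  obtain ⟨P, hPm, hP⟩ := GeomPts.exists_descend_poly f y
  obtain ⟨P', hP'm, hP'⟩ := GeomPts.exists_descend_poly f y'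
  obtain ⟨P0, hP0, -, hP0m⟩ := Polynomial.lifts_and_natDegree_eq_and_monic
    ((Polynomial.lifts_iff_coeff_lifts _).2 fun n => Y.residue_surjective y (P.coeff n)) hPm
  let Q : Polynomial (Y.residueField y') := P' * P0.map ψ.hom
  have hQ : Q ≠ 0 := (hP'm.mul (hP0m.map _)).ne_zero
  let L := Q.SplittingField
  let φ : R →+* L := (algebraMap (Y.residueField y') L).comp ψ.hom
  have hker : RingHom.ker φ < IsLocalRing.maximalIdeal R := by
    refine lt_of_le_of_ne (IsLocalRing.le_maximalIdeal (RingHom.ker_ne_top φ)) fun h => hne ?_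
    have h1 : (Spec.map ψ).base (IsLocalRing.closedPoint (Y.residueField y')) =
        IsLocalRing.closedPoint R := PrimeSpectrum.ext (by
      show Ideal.comap ψ.hom (IsLocalRing.maximalIdeal _) = IsLocalRing.maximalIdeal R
      rw [IsLocalRing.isField_iff_maximalIdeal_eq.1 (Field.toIsField _), ← RingHom.ker_eq_comap_bot]
      exact (RingHom.ker_comp_of_injective _ (algebraMap (Y.residueField y') L).injective).symm.trans h)
    have h2 := congrArg (Y.fromSpecStalk y).base h1
    rw [Scheme.fromSpecStalk_closedPoint] at h2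
    rw [← h2, ← Scheme.Hom.comp_apply, hψpt, Scheme.fromSpecResidueField_apply]
  obtain ⟨U, hU, hyU, -⟩ :=
    exists_isAffineOpen_mem_and_subset (X := Y) (U := ⊤) (x := y) trivial
  have hy'U : y' ∈ U := hgen.mem_open U.2 hyU
  have hgenF : ∀ x : Y.residueField y', x ∈ Subfield.closure (Set.range ψ.hom) := fun x => by
    obtain ⟨z, rfl⟩ := Y.residue_surjective y' x
    letI : Algebra Γ(Y, U) (Y.presheaf.stalk y') :=
      TopCat.Presheaf.algebra_section_stalk Y.presheaf ⟨y', hy'U⟩
    have := hU.isLocalization_stalk ⟨y', hy'U⟩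
    obtain ⟨⟨a, b⟩, hab⟩ := IsLocalization.surj (hU.primeIdealOf ⟨y', hy'U⟩).asIdeal.primeCompl z
    have e : ∀ c : Γ(Y, U), (Y.residue y').hom (algebraMap Γ(Y, U) (Y.presheaf.stalk y') c) =
        ψ.hom ((Y.presheaf.germ U y hyU).hom c) := fun c =>
      (congrArg (Y.residue y').hom
        (TopCat.Presheaf.germ_stalkSpecializes_apply Y.presheaf hyU hgen c)).symm
    have hb : (Y.residue y').hom (algebraMap Γ(Y, U) (Y.presheaf.stalk y') b) ≠ 0 :=
      ((IsLocalization.map_units (Y.presheaf.stalk y') b).map (Y.residue y').hom).ne_zero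
    have h2 : (Y.residue y').hom z = ψ.hom ((Y.presheaf.germ U y hyU).hom a) /
        ψ.hom ((Y.presheaf.germ U y hyU).hom b.1) := by
      rw [← e, ← e, eq_div_iff hb, ← map_mul]
      exact congrArg (Y.residue y').hom hab
    exact h2 ▸ div_mem (Subfield.subset_closure ⟨_, rfl⟩) (Subfield.subset_closure ⟨_, rfl⟩)
  let B := Module.finBasis (Y.residueField y') L
  have hs : Subfield.closure (Set.range φ ∪ ((Finset.univ.image B : Finset L) : Set L)) = ⊤ := by
    refine eq_top_iff.2 fun x _ => ?_
    have hF : ∀ r : Y.residueField y', algebraMap _ L r ∈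
        Subfield.closure (Set.range φ ∪ ((Finset.univ.image B : Finset L) : Set L)) := fun r => by
      have h1 : algebraMap _ L r ∈ (Subfield.closure (Set.range ψ.hom)).map
          (algebraMap (Y.residueField y') L) := ⟨r, hgenF r, rfl⟩
      rw [RingHom.map_field_closure, ← Set.range_comp] at h1
      exact Subfield.closure_mono Set.subset_union_left h1
    rw [← B.sum_repr x]
    refine Subfield.sum_mem _ fun i _ => ?_
    rw [Algebra.smul_def]
    exact mul_mem (hF _) (Subfield.subset_closure (Or.inr (by simp)))
  have : IsNoetherianRing R := inferInstance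
  obtain ⟨W, hW, hmem, hcomap⟩ :=
    Lib.DvrCrit.exists_dvr φ (Finset.univ.image B) hs (IsLocalRing.maximalIdeal R) hker
  let φW : R ⟶ CommRingCat.of W := CommRingCat.ofHom (φ.codRestrict W.toSubring hmem)
  let g : Spec (CommRingCat.of W) ⟶ Y := Spec.map φW ≫ Y.fromSpecStalk y
  let ρ : ∀ t : Spec (CommRingCat.of W),
      CommRingCat.of W ⟶ (Spec (CommRingCat.of W)).residueField t := fun t =>
    Spec.preimage ((Spec (CommRingCat.of W)).fromSpecResidueField t)
  have hρ : ∀ t, (Spec (CommRingCat.of W)).fromSpecResidueField t ≫ g =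
      Spec.map (φW ≫ ρ t) ≫ Y.fromSpecStalk y := fun t => by
    rw [Spec.map_comp, Category.assoc, Spec.map_preimage]
  have hρker : ∀ t, RingHom.ker (ρ t).hom = (t : PrimeSpectrum W).asIdeal := fun t => by
    have h1 : Spec.map (ρ t) (IsLocalRing.closedPoint ((Spec (CommRingCat.of W)).residueField t)) =
        t := by
      rw [Spec.map_preimage]
      exact Scheme.fromSpecResidueField_apply _ _
    refine Eq.trans ?_ (congrArg PrimeSpectrum.asIdeal h1)
    show _ = Ideal.comap (ρ t).hom (IsLocalRing.maximalIdeal _)
    rw [IsLocalRing.isField_iff_maximalIdeal_eq.1 (Field.toIsField _), RingHom.ker_eq_comap_bot]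
  have hc : g.base (IsLocalRing.closedPoint W) = y := by
    have : (Spec.map φW).base (IsLocalRing.closedPoint W) = IsLocalRing.closedPoint R :=
      PrimeSpectrum.ext hcomap
    rw [Scheme.Hom.comp_apply, this, Scheme.fromSpecStalk_closedPoint]
  have hgenpt : genericPoint (Spec (CommRingCat.of W)) = (⟨⊥, Ideal.isPrime_bot⟩ : PrimeSpectrum W) :=
    genericPoint_eq_bot_of_affine _
  let σ : L →+* (Spec (CommRingCat.of W)).residueField (genericPoint (Spec (CommRingCat.of W))) :=
    IsFractionRing.lift (A := W) (g := (ρ (genericPoint (Spec (CommRingCat.of W)))).hom) (by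
      rw [RingHom.injective_iff_ker_eq_bot, hρker, hgenpt])
  have hσ : ∀ w : W, σ (w : L) = (ρ (genericPoint (Spec (CommRingCat.of W)))).hom w := fun w =>
    IsFractionRing.lift_algebraMap _ w
  let a' : Y.residueField y' ⟶ (Spec (CommRingCat.of W)).residueField (genericPoint _) :=
    CommRingCat.ofHom (σ.comp (algebraMap (Y.residueField y') L))
  have ha' : φW ≫ ρ (genericPoint (Spec (CommRingCat.of W))) = ψ ≫ a' :=
    CommRingCat.hom_ext (RingHom.ext fun r => (hσ (φW.hom r)).symm)
  have hg' : (Spec (CommRingCat.of W)).fromSpecResidueField (genericPoint _) ≫ g =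
      Spec.map a' ≫ Y.fromSpecResidueField y' := by
    rw [hρ, ha', Spec.map_comp, Category.assoc, hψpt]
  have hge : g.base (genericPoint (Spec (CommRingCat.of W))) = y' := by
    have h2 := congrArg (fun m => m.base
      (IsLocalRing.closedPoint ((Spec (CommRingCat.of W)).residueField (genericPoint _)))) hg'
    simp only [Scheme.Hom.comp_apply, Scheme.fromSpecResidueField_apply] at h2
    exact h2
  refine ⟨W, inferInstance, inferInstance, hW, g, hc, hge, ?_, ?_⟩
  · let t : Spec (CommRingCat.of W) := IsLocalRing.closedPoint W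
    let χ : R ⟶ CommRingCat.of ((Spec (CommRingCat.of W)).residueField t) := φW ≫ ρ t
    have : IsLocalHom χ.hom := ⟨fun r hr => by
      by_contra hu
      have hm : r ∈ Ideal.comap φW.hom (IsLocalRing.maximalIdeal W) :=
        (hcomap ▸ hu : r ∈ Ideal.comap φW.hom (IsLocalRing.maximalIdeal W))
      have hm' : φW.hom r ∈ RingHom.ker (ρ t).hom := by rw [hρker]; exact hm
      exact hr.ne_zero hm'⟩
    refine count_at f g t hc (@Scheme.descResidueField _ _ _ _ χ this) ?_ P hP ?_
    · exact (hρ t).trans (Scheme.descResidueField_fromSpecResidueField _ χ).symm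
    · have hsplit : (P0.map φW.hom).Splits := by
        have h0 : (P0.map φ).Splits := by
          refine (Polynomial.SplittingField.splits Q).of_dvd (Polynomial.map_ne_zero hQ) ?_
          rw [show φ = (algebraMap (Y.residueField y') L).comp ψ.hom from rfl, ← Polynomial.map_map]
          exact Polynomial.map_dvd _ (dvd_mul_left _ _)
        refine Polynomial.Splits.of_splits_map_of_injective
          (i := W.toSubring.subtype) Subtype.val_injective ?_ fun x hx => ?_
        · rw [Polynomial.map_map]; exact h0
        · rw [Polynomial.map_map] at hx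
          have hx' : (Polynomial.map φ P0).IsRoot x := (Polynomial.mem_roots'.1 hx).2
          obtain ⟨w, hw⟩ := IsIntegrallyClosed.isIntegral_iff.1
            (show IsIntegral W x from ⟨P0.map φW.hom, hP0m.map _, by
              rw [← Polynomial.eval_map, Polynomial.map_map]; exact hx'⟩)
          exact ⟨w, hw⟩
      rw [← hP0, Polynomial.map_map]
      have hcomp : (Y.descResidueField χ).hom.comp (Y.residue y).hom = χ.hom :=
        congrArg CommRingCat.Hom.hom (Scheme.residue_descResidueField χ)
      erw [hcomp]
      rw [CommRingCat.hom_comp, ← Polynomial.map_map]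
      exact hsplit.map _
  · refine count_at f g _ hge a' hg' P' hP' ?_
    change (P'.map (σ.comp (algebraMap (Y.residueField y') L))).Splits
    rw [← Polynomial.map_map]
    refine ((Polynomial.SplittingField.splits Q).of_dvd (Polynomial.map_ne_zero hQ) ?_).map σ
    exact Polynomial.map_dvd _ (dvd_mul_right _ _)

end Groth.Agent.S4950
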