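import Groth.Statements.S4951
import Mathlib.Topology.Sober
import Mathlib.Topology.NoetherianSpace
import Mathlib.Topology.Connected.Basic

set_option autoImplicit false
universe u
open EGA43

namespace Groth.Agent.S4951

/-- Let X be a locally Noetherian topological space in which every irreducible closed subset has a
unique generic point (X quasi-sober and T₀), and Z a closed nowhere dense subset of X such that for
every point x of Z the set of generizations of x distinct from x is connected (possibly empty). If X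
is connected, then X − Z is connected. (Uniqueness of generic points, automatic for the underlying
space of a scheme, is needed: in the four-point space {u, v, z₁, z₂} whose open sets are ∅, {u},
{v}, {u, v} and the whole space, the closed nowhere dense set Z = {z₁, z₂} satisfies the hypothesis,
since z₂ is a generization of z₁ and conversely, yet X − Z = {u, v} is not connected.) -/
theorem result {X : Type u} [TopologicalSpace X]
    [QuasiSober X] [T0Space X] (hloc : ∀ x : X, ∃ U ∈ nhds x, TopologicalSpace.NoetherianSpace ↥U) [ConnectedSpace X]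
    (Z : Set X) (hZ : IsClosed Z) (hZn : IsNowhereDense Z)
    (hgen : ∀ x ∈ Z, IsPreconnected ({x' : X | x' ⤳ x} \ {x})) :
    IsConnected Zᶜ := by
  have hd : Dense Zᶜ := by
    rw [← interior_eq_empty_iff_dense_compl, ← hZ.closure_eq]; exact hZn
  refine ⟨hd.nonempty, fun A B hA hB hsub hA1 hB1 ↦ by_contra fun hAB ↦ ?_⟩
  rw [Set.not_nonempty_iff_eq_empty] at hAB
  let A' := A ∩ Zᶜ
  let B' := B ∩ Zᶜ
  have hA' : IsOpen A' := hA.inter hZ.isOpen_compl
  have hB' : IsOpen B' := hB.inter hZ.isOpen_compl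
  have hdisj : A' ∩ B' = ∅ := by
    rw [← hAB]; ext x; simp [A', B']; tauto
  have hcov : closure A' ∪ closure B' = Set.univ := by
    rw [← closure_union]
    refine (hd.mono ?_).closure_eq
    intro x hx
    exact (hsub hx).imp (fun h ↦ ⟨h, hx⟩) (fun h ↦ ⟨h, hx⟩)
  have hAc : ∀ x ∈ closure A', x ∉ B' := fun x hx hxB ↦
    (Set.disjoint_iff_inter_eq_empty.2 hdisj).closure_left hB' |>.ne_of_mem hx hxB rfl
  have hBc : ∀ x ∈ closure B', x ∉ A' := fun x hx hxA ↦
    (Set.disjoint_iff_inter_eq_empty.2 (by rw [Set.inter_comm]; exact hdisj)).closure_left hA' |>.ne_of_mem hx hxA rfl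
  let C := closure A' ∩ closure B'
  have hC : IsClosed C := isClosed_closure.inter isClosed_closure
  have hCne : C.Nonempty := by
    have := isPreconnected_closed_iff.1 PreconnectedSpace.isPreconnected_univ _ _ isClosed_closure
      isClosed_closure hcov.ge
      (by obtain ⟨a, ha⟩ := hA1; exact ⟨a, trivial, subset_closure ⟨ha.2, ha.1⟩⟩)
      (by obtain ⟨b, hb⟩ := hB1; exact ⟨b, trivial, subset_closure ⟨hb.2, hb.1⟩⟩)
    obtain ⟨c, -, hc⟩ := this
    exact ⟨c, hc⟩
  obtain ⟨c, hc⟩ := hCne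
  have : QuasiSober ↥C := hC.isClosedEmbedding_subtypeVal.quasiSober
  have hirr : IsIrreducible (irreducibleComponent (⟨c, hc⟩ : ↥C)) := isIrreducible_irreducibleComponent
  obtain ⟨⟨x, hxC⟩, hx⟩ := QuasiSober.sober hirr isClosed_irreducibleComponent
  have hmax : ∀ x' ∈ C, x' ⤳ x → x' = x := by
    intro x' hx' hs
    have hs' : (⟨x', hx'⟩ : ↥C) ⤳ ⟨x, hxC⟩ := Topology.IsInducing.subtypeVal.specializes_iff.1 hs
    have hsub' : irreducibleComponent (⟨c, hc⟩ : ↥C) ⊆ closure {⟨x', hx'⟩} := by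
      rw [← hx.def]
      exact closure_minimal (Set.singleton_subset_iff.2 (specializes_iff_mem_closure.1 hs')) isClosed_closure
    have heq := eq_irreducibleComponent isIrreducible_singleton.closure.isPreirreducible hsub'
    have : (⟨x', hx'⟩ : ↥C) ∈ irreducibleComponent (⟨c, hc⟩ : ↥C) :=
      heq ▸ subset_closure (Set.mem_singleton _)
    exact congrArg Subtype.val (hs'.antisymm (hx.specializes this)).eq
  have hxZ : x ∈ Z := by_contra fun h ↦
    (hsub h).elim (fun hxA ↦ hBc x hxC.2 ⟨hxA, h⟩) (fun hxB ↦ hAc x hxC.1 ⟨hxB, h⟩)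
  have hexists : ∀ W : Set X, IsOpen W → x ∈ closure W → ∃ η ∈ W, η ⤳ x := by
    intro W hW hxW
    obtain ⟨U, hU, hnoeth⟩ := hloc x
    obtain ⟨V, hVU, hV, hxV⟩ := mem_nhds_iff.1 hU
    have hnW : TopologicalSpace.NoetherianSpace ↥(U ∩ W) :=
      (Topology.IsEmbedding.inclusion (Set.inter_subset_left (s := U) (t := W))).isInducing.noetherianSpace
    have hfin := TopologicalSpace.NoetherianSpace.finite_irreducibleComponents (α := ↥(U ∩ W))
    have hx1 : x ∈ closure (⋃ T ∈ irreducibleComponents ↥(U ∩ W), Subtype.val '' T) := by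
      rw [mem_closure_iff]
      intro N hN hxN
      obtain ⟨y, ⟨hyN, hyV⟩, hyW⟩ := mem_closure_iff.1 hxW (N ∩ V) (hN.inter hV) ⟨hxN, hxV⟩
      obtain ⟨T, hT, hyT⟩ : (⟨y, hVU hyV, hyW⟩ : ↥(U ∩ W)) ∈ ⋃₀ irreducibleComponents ↥(U ∩ W) := by
        rw [sUnion_irreducibleComponents]; trivial
      exact ⟨y, hyN, Set.mem_iUnion₂.2 ⟨T, hT, ⟨_, hyT, rfl⟩⟩⟩
    rw [hfin.closure_biUnion] at hx1
    obtain ⟨T, hT, hxT⟩ := Set.mem_iUnion₂.1 hx1
    obtain ⟨η, hη⟩ := QuasiSober.sober
      (hT.1.image Subtype.val continuous_subtype_val.continuousOn).closure isClosed_closure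
    refine ⟨η, ?_, hη.specializes hxT⟩
    obtain ⟨t, ht⟩ := hT.1.nonempty
    exact (hη.specializes (subset_closure ⟨t, ht, rfl⟩)).mem_open hW t.2.2
  obtain ⟨η, hη, hηx⟩ := hexists A' hA' hxC.1
  obtain ⟨θ, hθ, hθx⟩ := hexists B' hB' hxC.2
  have := isPreconnected_closed_iff.1 (hgen x hxZ) _ _ isClosed_closure isClosed_closure
    (hcov.symm ▸ Set.subset_univ _)
    ⟨η, ⟨hηx, fun e ↦ hη.2 (Set.mem_singleton_iff.1 e ▸ hxZ)⟩, subset_closure hη⟩
    ⟨θ, ⟨hθx, fun e ↦ hθ.2 (Set.mem_singleton_iff.1 e ▸ hxZ)⟩, subset_closure hθ⟩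
  obtain ⟨y, ⟨hy1, hy2⟩, hy3⟩ := this
  exact hy2 (hmax y hy3 hy1)

end Groth.Agent.S4951
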