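import Groth.Statements.S4952
import Groth.Agent.H46.SectComp

set_option autoImplicit false
open CategoryTheory AlgebraicGeometry
universe u v w
open EGA43

namespace Groth.Agent.S4952

/-- Let Y be a locally Noetherian scheme, f : X ⟶ Y a morphism locally of finite type and g : Y ⟶ X a
section of f; for z in Y let X_z^0 be the connected component of the fibre f⁻¹(z) containing g z (a
subset of X with the induced topology). Let y be a point of Y and y' a generization of y. (i) If
there is an irreducible component Z of f⁻¹(y') containing g y' with dim Z = dim X_{y'}^0, then dim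
X_y^0 ≥ dim X_{y'}^0. (ii) If moreover X_y^0 is irreducible and dim X_y^0 = dim X_{y'}^0, then X_y^0
is contained in the closure of X_{y'}^0 in X. -/
theorem result {X Y : Scheme.{u}} [IsLocallyNoetherian Y] (f : X ⟶ Y)
    [LocallyOfFiniteType f] (g : Y ⟶ X) (hg : g ≫ f = 𝟙 Y) (y y' : Y) (hy : y' ⤳ y)
    (hZ : ∃ Z : Set X, Z ⊆ f.base ⁻¹' {y'} ∧ IsIrreducible Z ∧
      (∀ Z' : Set X, IsIrreducible Z' → Z' ⊆ f.base ⁻¹' {y'} → Z ⊆ Z' → Z' = Z) ∧ g.base y' ∈ Z ∧
      topologicalKrullDim ↥Z = topologicalKrullDim ↥(connectedComponentIn (f.base ⁻¹' {y'}) (g.base y'))) :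
    topologicalKrullDim ↥(connectedComponentIn (f.base ⁻¹' {y'}) (g.base y')) ≤ topologicalKrullDim ↥(connectedComponentIn (f.base ⁻¹' {y}) (g.base y)) ∧
      (IsIrreducible (connectedComponentIn (f.base ⁻¹' {y}) (g.base y)) → topologicalKrullDim ↥(connectedComponentIn (f.base ⁻¹' {y}) (g.base y)) = topologicalKrullDim ↥(connectedComponentIn (f.base ⁻¹' {y'}) (g.base y')) →
        connectedComponentIn (f.base ⁻¹' {y}) (g.base y) ⊆ closure (connectedComponentIn (f.base ⁻¹' {y'}) (g.base y'))) := by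
  obtain ⟨Z, hZf, hZirr, hZmax, hgZ, hdim⟩ := hZ
  obtain ⟨ξ, hξC, hfξ, hξs, hξd⟩ :=
    Groth.Agent.H46.SectComp.exists_generic_of_maximal f hg hZf hZirr hZmax hgZ
  rw [← hdim, hξd]
  obtain ⟨z, -, hz, hle⟩ := Groth.Agent.H46.SectComp.exists_trd_le f hg hy hξs
  refine ⟨le_trans (by exact_mod_cast hle) (Groth.Agent.H46.SectComp.trd_le_dim_C f hg hz),
    fun hirr heq => ?_⟩
  obtain ⟨θ, -, -, -, -, -, -, hd⟩ := Groth.Agent.H46.SectComp.exists_generic f hg hirr
  have heq' : (Groth.Agent.H46.DimData.fe f (g y) : WithBot ℕ∞) =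
      (Groth.Agent.H46.FibreTrdeg.trd f ξ : WithBot ℕ∞) := hd.symm.trans heq
  exact (Groth.Agent.H46.SectComp.subset_closure_of_trd f hg hy hξs hirr
    (by exact_mod_cast heq'.le)).trans (closure_mono (Set.singleton_subset_iff.2 hξC))

end Groth.Agent.S4952
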