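import Groth.Statements.S4956
import Groth.Agent.H46.SectComp3

set_option autoImplicit false
open CategoryTheory AlgebraicGeometry
universe u v w
open EGA43

namespace Groth.Agent.S4956

/-- Let f : X ⟶ Y be a morphism of finite presentation with a section g, X_y^0 the connected component
of f⁻¹(y) containing g y, every X_y^0 geometrically irreducible over κ(y), and y₀ a point of Y such
that f is universally open at the generic point of X_{y₀}^0. Suppose moreover that either (α) the
fibre over y₀ is geometrically reduced at g y₀ and the local ring O_{Y,y₀} is Noetherian, or (β) dim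
X_{y'} = dim X_{y'}^0 for the generic point y' of every irreducible component of Y containing y₀.
Then y ↦ dim X_y^0 is constant on a neighbourhood of y₀. -/
theorem result {X Y : Scheme.{u}} (f : X ⟶ Y)
    [LocallyOfFinitePresentation f] [QuasiCompact f] [QuasiSeparated f] (g : Y ⟶ X) (hg : g ≫ f = 𝟙 Y)
    (hirr : ∀ y : Y, (∀ (K : Type u) [Field K] [Algebra (IsLocalRing.ResidueField (Y.presheaf.stalk y)) K],
        IsIrreducible ((FBase.bcπ (f.fiberToSpecResidueField y) K ≫ f.fiberι y).base ⁻¹' connectedComponentIn (f.base ⁻¹' {y}) (g.base y))))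
    (y₀ : Y) (hopen : ∀ ξ ∈ connectedComponentIn (f.base ⁻¹' {y₀}) (g.base y₀), connectedComponentIn (f.base ⁻¹' {y₀}) (g.base y₀) ⊆ closure {ξ} → EGA43.IsUnivOpenAt f ξ)
    (hαβ : (FBase.IsGeomReducedAt (f.fiberToSpecResidueField (f.base (g.base y₀))) (f.asFiber (g.base y₀)) ∧
        IsNoetherianRing (Y.presheaf.stalk y₀)) ∨
      (∀ y' : Y, y₀ ∈ closure {y'} → closure {y'} ∈ irreducibleComponents (Y : Type u) →
        topologicalKrullDim ↥(f.fiber y') = topologicalKrullDim ↥(connectedComponentIn (f.base ⁻¹' {y'}) (g.base y')))) :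
    ∃ V ∈ nhds y₀, ∀ z ∈ V, topologicalKrullDim ↥(connectedComponentIn (f.base ⁻¹' {z}) (g.base z)) = topologicalKrullDim ↥(connectedComponentIn (f.base ⁻¹' {y₀}) (g.base y₀)) := by
  have hi : ∀ y, IsIrreducible (Groth.Agent.H46.SectComp.C f g y) := fun y =>
    Groth.Agent.H46.SectComp.irr_of_geom f hg (hirr y)
  have hmax : ∀ η, Groth.Agent.Lib.Cyc.DimFun.IsMaxPt η → η ⤳ y₀ →
      Groth.Agent.H46.DimData.fe f (g y₀) ≤ Groth.Agent.H46.DimData.fe f (g η) := by
    intro η hη hηy
    rcases hαβ with ⟨hgr, hN⟩ | hdim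
    · exact Groth.Agent.H46.SectComp3.le_fe_of_reduced_stalk f hg hηy hη (hi y₀) hopen hgr
    · exact Groth.Agent.H46.SectComp2.le_fe_of_dim f hg hηy (hi y₀) (hi η)
        (hdim η hηy.mem_closure (Groth.Agent.Lib.Cyc.FieldDim.closure_mem_irreducibleComponents η hη))
        hopen
  have hge := Groth.Agent.H46.FibreDimCons.mem_nhds_of_generizations f g y₀
    (Groth.Agent.H46.DimData.fe f (g y₀)) fun q hq => by
      obtain ⟨η, hηq, hη⟩ := Groth.Agent.Lib.Cyc.DimFun.exists_isMaxPt_specializes q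
      rw [Groth.Agent.H46.DimData.fibreDimAt_eq, Nat.cast_le]
      exact (hmax η hη (hηq.trans hq)).trans (Groth.Agent.H46.SectComp2.fe_g_le f hg hηq)
  let O : Set Y := {z | FlatMor.fibreDimAt f (g z) ≤ FlatMor.fibreDimAt f (g y₀)}
  have hO : IsOpen O :=
    (Groth.Agent.Lib.FibreDim.Semicont.isOpen_setOf_fibreDimAt_le f _).preimage g.continuous
  refine ⟨_, Filter.inter_mem hge (hO.mem_nhds (show FlatMor.fibreDimAt f (g y₀) ≤ _ from le_rfl)),
    fun z ⟨hz1, hz2⟩ => ?_⟩
  obtain ⟨-, -, -, -, -, -, -, e1⟩ := Groth.Agent.H46.SectComp.exists_generic f hg (hi z)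
  obtain ⟨-, -, -, -, -, -, -, e2⟩ := Groth.Agent.H46.SectComp.exists_generic f hg (hi y₀)
  rw [e1, e2, ← Groth.Agent.H46.DimData.fibreDimAt_eq]
  refine le_antisymm ?_ hz1
  rw [← Groth.Agent.H46.DimData.fibreDimAt_eq f (g y₀)]
  exact hz2

end Groth.Agent.S4956
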