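import Groth.Statements.S4976
import Groth.Agent.H46.ProperAt.Uses
import Groth.Agent.H46.GeomSpread.SectionCons

set_option autoImplicit false
open CategoryTheory CategoryTheory.Limits AlgebraicGeometry
universe u v w
open EGA43

namespace Groth.Agent.S4976

/-- Let f : X ⟶ Y be a separated morphism of finite presentation with a section g : Y ⟶ X; let X_y^0 be
the connected component of f⁻¹(y) containing g y and X^0 ⊆ X the union of the X_y^0. If y is a point
of Y such that X_y^0, as an open subscheme of the fibre X_y, is proper over κ(y), then X^0 is proper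
over Y at y: there is an open neighbourhood U of y such that X^0 ∩ f⁻¹(U) is closed in f⁻¹(U) and
the reduced closed subscheme of f⁻¹(U) it carries is proper over U. -/
theorem result {X Y : Scheme.{u}} (f : X ⟶ Y) [IsSeparated f]
    [LocallyOfFinitePresentation f] [QuasiCompact f] [QuasiSeparated f] (g : Y ⟶ X) (hg : g ≫ f = 𝟙 Y) (y : Y)
    (hop : IsOpen ((f.fiberι y).base ⁻¹' connectedComponentIn (f.base ⁻¹' {y}) (g.base y)))
    (hprop : IsProper (Scheme.Opens.ι (⟨(f.fiberι y).base ⁻¹' connectedComponentIn (f.base ⁻¹' {y}) (g.base y), hop⟩ : (f.fiber y).Opens) ≫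
      f.fiberToSpecResidueField y)) :
    ∃ U : Y.Opens, y ∈ U ∧ ∃ hC : IsClosed ((f ⁻¹ᵁ U).ι.base ⁻¹' MoreMor.sectionComponents f g),
      IsProper ((Scheme.IdealSheafData.vanishingIdeal
        (⟨(f ⁻¹ᵁ U).ι.base ⁻¹' MoreMor.sectionComponents f g, hC⟩ : TopologicalSpace.Closeds ↥(f ⁻¹ᵁ U))).subschemeι ≫
        (f ∣_ U)) := by
  have hpt : ∀ y' : Y, f (g y') = y' := fun y' => by
    rw [← Scheme.Hom.comp_apply, hg]; rfl
  have hset : ∀ y' : Y, MoreMor.sectionComponents f g ∩ f ⁻¹' {y'} =
      connectedComponentIn (f ⁻¹' {y'}) (g y') := fun y' => by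
    ext x
    constructor
    · rintro ⟨h, hx⟩
      obtain rfl : f x = y' := hx
      exact h
    · intro h
      obtain rfl : f x = y' := connectedComponentIn_subset (f ⁻¹' {y'}) (g y') h
      exact ⟨h, rfl⟩
  refine H46.ProperAt.main f (H46.GeomSpread.isLocallyConstructible_sectionComponents f g hg)
    (fun _ _ _ => True) (fun z c h _ => H46.ProperAt.center_val z c h)
    (H46.ProperAt.closure_proper_val f (H46.GeomSpread.isLocallyConstructible_sectionComponents f g hg))
    (fun y' _ => H46.ProperAt.gConn_sectionComponents f g hg y')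
    (fun y' _ => by rw [hset]; exact H46.ProperAt.relOpen_connectedComponentIn f (hpt y'))
    (fun y' _ => by
      rw [hset]
      exact (H46.ProperAt.closure_connectedComponentIn f (hpt y')).trans
        ((hset y').ge.trans Set.inter_subset_left))
    (by rw [hset]; exact H46.ProperAt.propSet_of_opens f y _ (connectedComponentIn_subset _ _) hop hprop)
    fun L _ R _ φ _ => ?_
  let s' : Spec (CommRingCat.of R) ⟶ pullback f φ :=
    pullback.lift (φ ≫ g) (𝟙 _) (by rw [Category.assoc, hg, Category.comp_id, Category.id_comp])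
  have hs : ∀ p, pullback.fst f φ (s' p) = g (φ p) ∧ pullback.snd f φ (s' p) = p := fun p => by
    refine ⟨?_, ?_⟩
    · rw [← Scheme.Hom.comp_apply, pullback.lift_fst]
      rfl
    · rw [← Scheme.Hom.comp_apply, pullback.lift_snd]
      rfl
  have hmem : ∀ p, g (φ p) ∈ MoreMor.sectionComponents f g ∩ f ⁻¹' {φ p} := fun p => by
    rw [hset]
    exact mem_connectedComponentIn (hpt _)
  refine ⟨s' (IsLocalRing.closedPoint R), ?_, ⟨?_, (hs _).2⟩⟩
  · refine closure_mono (s := {s' (genericPoint (Spec (CommRingCat.of R)))})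
      (Set.singleton_subset_iff.2 ?_)
      (specializes_iff_mem_closure.1 ((genericPoint_specializes _).map s'.continuous))
    refine ⟨?_, (hs _).2⟩
    rw [Set.mem_preimage, (hs _).1]
    exact hmem _
  · rw [Set.mem_preimage, (hs _).1]
    exact hmem _

end Groth.Agent.S4976
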