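import Groth.Statements.S4957
import Groth.Agent.S4976
import Groth.Agent.Lib.FibreDim.Semicont

set_option autoImplicit false
open CategoryTheory CategoryTheory.Limits AlgebraicGeometry
universe u v w
open EGA43

namespace Groth.Agent.S4957

/-- Let f : X ⟶ Y be a separated morphism of finite presentation with a section g : Y ⟶ X, and X_z^0 the
connected component of f⁻¹(z) containing g z. Let y be a point such that X_y^0, as an open subscheme
of the fibre X_y, is proper over κ(y). Then for every generization y' of y one has dim X_{y'}^0 ≤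
dim X_y^0. -/
theorem result {X Y : Scheme.{u}} (f : X ⟶ Y) [IsSeparated f]
    [LocallyOfFinitePresentation f] [QuasiCompact f] [QuasiSeparated f] (g : Y ⟶ X) (hg : g ≫ f = 𝟙 Y) (y : Y)
    (hop : IsOpen ((f.fiberι y).base ⁻¹' connectedComponentIn (f.base ⁻¹' {y}) (g.base y)))
    (hprop : IsProper (Scheme.Opens.ι (⟨(f.fiberι y).base ⁻¹' connectedComponentIn (f.base ⁻¹' {y}) (g.base y), hop⟩ : (f.fiber y).Opens) ≫
      f.fiberToSpecResidueField y))
    (y' : Y) (hy' : y' ⤳ y) :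
    topologicalKrullDim ↥(connectedComponentIn (f.base ⁻¹' {y'}) (g.base y')) ≤ topologicalKrullDim ↥(connectedComponentIn (f.base ⁻¹' {y}) (g.base y)) := by
  have hpt : ∀ z : Y, f (g z) = z := fun z => by
    rw [← Scheme.Hom.comp_apply, hg]; rfl
  have hin : ∀ (z : Y), Topology.IsOpenEmbedding
      (Set.inclusion (connectedComponentIn_subset (f ⁻¹' {z}) (g z))) := fun z => by
    obtain ⟨O, hO, hOe⟩ := H46.ProperAt.relOpen_connectedComponentIn f (hpt z)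
    refine Topology.IsOpenEmbedding.inclusion _ ?_
    have : (Subtype.val ⁻¹' connectedComponentIn (f ⁻¹' {z}) (g z) : Set ↥(f ⁻¹' {z})) =
        Subtype.val ⁻¹' O := by
      ext w
      rw [Set.mem_preimage, ← hOe]
      exact ⟨fun h => h.1, fun h => ⟨h, w.2⟩⟩
    rw [this]
    exact hO.preimage continuous_subtype_val
  have hdim : ∀ (z : Y) (w : ↥(connectedComponentIn (f ⁻¹' {z}) (g z))),
      FlatMor.localDim ↥(connectedComponentIn (f ⁻¹' {z}) (g z)) w = FlatMor.fibreDimAt f w.1 := fun z w => by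
    rw [← Lib.FibreDim.Basic.localDim_eq_of_isOpenEmbedding (hin z) w,
      Lib.FibreDim.Basic.localDim_preimage]
  refine Lib.FibreDim.Basic.topologicalKrullDim_le_of_forall fun w => ?_
  rw [hdim]
  obtain ⟨U, hyU, hC, hP⟩ := S4976.result f g hg y hop hprop
  have hwy : f w.1 = y' := connectedComponentIn_subset (f ⁻¹' {y'}) (g y') w.2
  have hwZ : w.1 ∈ MoreMor.sectionComponents f g := by
    show w.1 ∈ connectedComponentIn (f ⁻¹' {f w.1}) (g (f w.1))
    rw [hwy]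
    exact w.2
  have hwU : w.1 ∈ f ⁻¹ᵁ U := by
    show f w.1 ∈ U
    rw [hwy]
    exact hy'.mem_open U.2 hyU
  let j := (Scheme.IdealSheafData.vanishingIdeal (X := ((f ⁻¹ᵁ U) : Scheme.{u}))
    (⟨(f ⁻¹ᵁ U).ι.base ⁻¹' MoreMor.sectionComponents f g, hC⟩ :
      TopologicalSpace.Closeds ↥(f ⁻¹ᵁ U))).subschemeι
  haveI : IsProper (j ≫ (f ∣_ U)) := hP
  have hj : Set.range j = (f ⁻¹ᵁ U).ι.base ⁻¹' MoreMor.sectionComponents f g := by
    rw [Scheme.IdealSheafData.range_subschemeι, Scheme.IdealSheafData.coe_support_vanishingIdeal]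
    rfl
  obtain ⟨v, hv⟩ := hj.ge (show (⟨w.1, hwU⟩ : ↥(f ⁻¹ᵁ U)) ∈ _ from hwZ)
  have hjv : (f ⁻¹ᵁ U).ι (j v) = w.1 := by rw [hv]; rfl
  have hfU : ∀ c, U.ι ((j ≫ (f ∣_ U)) c) = f ((f ⁻¹ᵁ U).ι (j c)) := fun c => by
    rw [← Scheme.Hom.comp_apply, ← Scheme.Hom.comp_apply, ← Scheme.Hom.comp_apply,
      Category.assoc, morphismRestrict_ι]
  have hsp : (j ≫ (f ∣_ U)) v ⤳ (⟨y, hyU⟩ : U) := by
    refine U.ι.isEmbedding.isInducing.specializes_iff.1 ?_
    rw [hfU, hjv, hwy]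
    exact hy'
  obtain ⟨c, hvc, hc⟩ := hsp.mem_closed ((j ≫ (f ∣_ U)).isClosedMap _ (isClosed_closure (s := ({v} : Set _))))
    ⟨v, subset_closure rfl, rfl⟩
  have hfc : f ((f ⁻¹ᵁ U).ι (j c)) = y := by
    rw [← hfU, hc]
    rfl
  have hcT : (f ⁻¹ᵁ U).ι (j c) ∈ connectedComponentIn (f ⁻¹' {y}) (g y) := by
    have h : (f ⁻¹ᵁ U).ι (j c) ∈ MoreMor.sectionComponents f g := hj.le ⟨c, rfl⟩
    have h' : (f ⁻¹ᵁ U).ι (j c) ∈ connectedComponentIn (f ⁻¹' {f ((f ⁻¹ᵁ U).ι (j c))})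
      (g (f ((f ⁻¹ᵁ U).ι (j c)))) := h
    rwa [hfc] at h'
  have hspec : w.1 ⤳ (f ⁻¹ᵁ U).ι (j c) := by
    rw [← hjv]
    exact ((specializes_iff_mem_closure.2 hvc).map j.continuous).map (f ⁻¹ᵁ U).ι.continuous
  have hle : FlatMor.fibreDimAt f w.1 ≤ FlatMor.fibreDimAt f ((f ⁻¹ᵁ U).ι (j c)) :=
    hspec.mem_open (Lib.FibreDim.Semicont.isOpen_setOf_fibreDimAt_le f _) (show
      (f ⁻¹ᵁ U).ι (j c) ∈ {x : X | FlatMor.fibreDimAt f x ≤ FlatMor.fibreDimAt f ((f ⁻¹ᵁ U).ι (j c))} from le_refl (FlatMor.fibreDimAt f ((f ⁻¹ᵁ U).ι (j c))))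
  refine hle.trans ?_
  rw [← hdim y ⟨_, hcT⟩]
  exact Lib.FibreDim.Basic.localDim_le_topologicalKrullDim _

end Groth.Agent.S4957
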