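import Groth.Statements.S4958
import Groth.Agent.H46.DimData

set_option autoImplicit false
open CategoryTheory AlgebraicGeometry
universe u v w
open EGA43

namespace Groth.Agent.S4958

/-- Let Y be an irreducible locally Noetherian scheme with generic point η, f : X ⟶ Y a morphism of
finite type and y a point of Y whose local ring O_{Y,y} is universally catenary. Suppose that dim
O_{X,z} = dim O_{Y,y} for every maximal point z of the fibre X_y. For z' in Y let E(z') be the set
of dimensions of the irreducible components of X_{z'}. Then E(y) ⊆ E(η), and hence dim X_y ≤ dim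
X_η. -/
theorem result {X Y : Scheme.{u}} [IrreducibleSpace Y]
    [IsLocallyNoetherian Y] (f : X ⟶ Y) [LocallyOfFiniteType f] [QuasiCompact f] (y : Y)
    (hcat : CAlg.IsUniversallyCatenary (Y.presheaf.stalk y))
    (hb : ∀ z : X, f.base z = y → (∀ z' : X, f.base z' = y → z ∈ closure {z'} → z' = z) →
      ringKrullDim (X.presheaf.stalk z) = ringKrullDim (Y.presheaf.stalk y)) :
    letI E : Y → Set (WithBot ℕ∞) := fun z =>
      (fun Z : Set ↥(f.fiber z) => topologicalKrullDim ↥Z) '' irreducibleComponents ↥(f.fiber z)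
    E y ⊆ E (genericPoint Y) ∧
      topologicalKrullDim ↥(f.fiber y) ≤ topologicalKrullDim ↥(f.fiber (genericPoint Y)) := by
  haveI := LocallyOfFiniteType.isLocallyNoetherian f
  have key : ∀ ζ : X, f ζ = y → Groth.Agent.H46.FibreTrdeg.IsMaxFib f ζ →
      ∃ ξ, f ξ = genericPoint Y ∧ Groth.Agent.H46.FibreTrdeg.IsMaxFib f ξ ∧
        Groth.Agent.H46.FibreTrdeg.trd f ξ = Groth.Agent.H46.FibreTrdeg.trd f ζ := by
    intro ζ hζ hmax
    subst hζ
    have h1 := hb ζ rfl fun a ha hs => hmax a ha (specializes_iff_mem_closure.2 hs)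
    rw [Groth.Agent.H46.DimData.ringKrullDim_stalk, Groth.Agent.H46.DimData.ringKrullDim_stalk,
      Nat.cast_inj] at h1
    obtain ⟨ξ, hs, hξ, hfξ, -, htrd⟩ :=
      Groth.Agent.H46.DimData.exists_component_of_sd_eq f hmax h1
    exact ⟨ξ, (hfξ _ (genericPoint_specializes _)).symm,
      Groth.Agent.H46.Equidim.isMaxFib_of_isMaxPt f hξ, htrd⟩
  refine ⟨?_, ?_⟩
  · rintro _ ⟨Z, hZ, rfl⟩
    obtain ⟨z, hz, rfl⟩ := Groth.Agent.H46.Equidim.exists_generic_of_mem_irreducibleComponents hZ
    obtain ⟨ξ, hfξ, hξmax, htrd⟩ := key (f.fiberι y z)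
      (Groth.Agent.Lib.Cyc.FieldDim.apply_fiberι f y z)
      ((Groth.Agent.Lib.Cyc.FieldDim.isMaxFib_iff f y z).2 hz)
    obtain ⟨w, rfl⟩ := Groth.Agent.Lib.Cyc.FieldDim.exists_fiberι_eq f ξ (genericPoint Y) hfξ
    refine ⟨closure {w}, Groth.Agent.Lib.Cyc.FieldDim.closure_mem_irreducibleComponents w
      ((Groth.Agent.Lib.Cyc.FieldDim.isMaxFib_iff f _ w).1 hξmax), ?_⟩
    show topologicalKrullDim ↥(closure ({w} : Set ↥(f.fiber (genericPoint Y)))) =
      topologicalKrullDim ↥(closure ({z} : Set ↥(f.fiber y)))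
    rw [Groth.Agent.Lib.Cyc.FieldDim.topologicalKrullDim_closure (K := Y.residueField y)
        (f.fiberToSpecResidueField y) z,
      Groth.Agent.Lib.Cyc.FieldDim.topologicalKrullDim_closure
        (K := Y.residueField (genericPoint Y)) (f.fiberToSpecResidueField (genericPoint Y)) w,
      Groth.Agent.H46.FibreTrdeg.fdelta_fiber, Groth.Agent.H46.FibreTrdeg.fdelta_fiber, htrd]
  · refine Groth.Agent.Lib.FibreDim.Basic.topologicalKrullDim_fiber_le f fun x hx => ?_
    obtain ⟨ζ, hζ, -, hmax, he⟩ := Groth.Agent.H46.FibreTrdeg.exists_isMaxFib_trd_eq f x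
    obtain ⟨ξ, hfξ, -, htrd⟩ := key ζ (hζ.trans hx) hmax
    rw [he, ← htrd]
    exact Groth.Agent.H46.FibreTrdeg.trd_le_dim_fiber f ξ _ hfξ

end Groth.Agent.S4958
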