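import Groth.Statements.S4959
import Mathlib

set_option autoImplicit false
open CategoryTheory AlgebraicGeometry
universe u v w
open EGA43

namespace Groth.Agent.S4959

open CategoryTheory.Limits in
/-- Let f : X ⟶ Y be a morphism of schemes and g : Y' ⟶ Y a surjective morphism which is either proper,
or flat and quasi-compact. If the base change f' : X ×_Y Y' ⟶ Y' is universally submersive (all of
its base changes are topological quotient maps), then f is universally submersive. -/
theorem result {X Y Y' : Scheme.{u}} (f : X ⟶ Y) (g : Y' ⟶ Y) [Surjective g]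
    (hg : IsProper g ∨ (Flat g ∧ QuasiCompact g))
    (h : MorphismProperty.universally (topologically @Topology.IsQuotientMap) (pullback.snd f g)) :
    MorphismProperty.universally (topologically @Topology.IsQuotientMap) f := by
  intro W T i₁ i₂ f₀ sq
  -- g is universally submersive: its base change along i₂ is a quotient map
  let g₀ : pullback i₂ g ⟶ T := pullback.fst i₂ g
  have hq : Topology.IsQuotientMap g₀ := by
    have : Surjective g₀ := inferInstanceAs (Surjective (pullback.fst i₂ g))
    rcases hg with hp | ⟨hfl, hqc⟩
    · have := hp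
      have : IsProper g₀ := inferInstanceAs (IsProper (pullback.fst i₂ g))
      exact g₀.isClosedMap.isQuotientMap g₀.continuous g₀.surjective
    · have := hfl
      have := hqc
      exact Flat.isQuotientMap_of_surjective g₀
  -- the base change of f' to the new base
  let h₀ : pullback f₀ g₀ ⟶ pullback i₂ g := pullback.snd f₀ g₀
  have sq' : IsPullback (pullback.fst f₀ g₀ ≫ i₁) h₀ f (g₀ ≫ i₂) :=
    (IsPullback.of_hasPullback f₀ g₀).paste_horiz sq.flip
  have hh : Topology.IsQuotientMap h₀ := by
    let k : pullback i₂ g ⟶ Y' := pullback.snd i₂ g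
    have hk : g₀ ≫ i₂ = k ≫ g := pullback.condition
    rw [hk] at sq'
    let l : pullback f₀ g₀ ⟶ pullback f g := pullback.lift (pullback.fst f₀ g₀ ≫ i₁) (h₀ ≫ k)
      (by rw [Category.assoc]; exact sq'.w)
    have e : IsPullback l h₀ (pullback.snd f g) k := by
      refine IsPullback.of_right ?_ (pullback.lift_snd _ _ _) (IsPullback.of_hasPullback f g)
      rw [pullback.lift_fst]
      exact sq'
    exact h _ _ h₀ e.flip
  -- f₀ is a quotient map as the composite through it is
  have hc : (pullback.fst f₀ g₀ ≫ f₀ : pullback f₀ g₀ ⟶ T) = h₀ ≫ g₀ := pullback.condition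
  have hcomp : Topology.IsQuotientMap (f₀ ∘ pullback.fst f₀ g₀) := by
    have h2 : (⇑f₀ ∘ ⇑(pullback.fst f₀ g₀)) = (⇑g₀ ∘ ⇑h₀) := by
      funext z
      simp only [Function.comp_apply, ← Scheme.Hom.comp_apply, hc]
    rw [h2]
    exact hq.comp hh
  exact Topology.IsQuotientMap.of_comp (pullback.fst f₀ g₀).continuous f₀.continuous hcomp

end Groth.Agent.S4959
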