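import Groth.Statements.S4964
import Groth.Agent.H46.FibreProf.Equidim
import Groth.Agent.H46.FibreProf.Unit
-- import your own Groth.Agent.* helpers here

set_option autoImplicit false
open CategoryTheory AlgebraicGeometry
universe u v w
open EGA43

namespace Groth.Agent.S4964

open Groth.Agent.H46.FibreProf Groth.Agent.H46.FibreProf.Basic Groth.Agent.H46.FibreProf.Open in
/-- Let f : X ⟶ Y be a proper morphism of finite presentation and F a finitely presented O_X-module
which is f-flat; for y in Y write F_y for the restriction of F to the fibre X_y. Let Φ be a finite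
set of natural numbers. Then the set of points y of Y such that the closure in X_y of every
associated point of F_y has dimension in Φ is open in Y. In particular (Φ = {k}), the set of y such
that every associated point of F_y has closure of dimension k is open. -/
theorem result {X Y : Scheme.{u}} (f : X ⟶ Y) [IsProper f]
    [LocallyOfFinitePresentation f] (F : X.Modules) (hF : CohB1.IsFP F) (hflat : FlatMod.IsFlatOver f F) (Φ : Finset ℕ) :
    IsOpen {y : Y | ∀ z ∈ AssSch.Ass ((Scheme.Modules.pullback (f.fiberι y)).obj F), ∃ n ∈ Φ,
      topologicalKrullDim ↥(closure ({z} : Set ↥(f.fiber y))) = (n : WithBot ℕ∞)} := by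
  haveI := hF
  haveI := Groth.Agent.H26.FreeCrit.isQuasicoherent_of_isFP hF
  convert Equidim.isOpen_forall_fiber f (isOpen_assDims f F hF ⊤ (fun x _ => hflat x) (Φ : Set ℕ))
    using 1
  ext y
  constructor
  · refine fun h a => ⟨trivial, fun w hw h0 => ?_⟩
    obtain ⟨b, rfl, hb⟩ := fg_exists f hw
    obtain ⟨n, hn, he⟩ := h b ((mem_ass_iff f F _ b).2 h0)
    rw [Equidim.dim_closure, Nat.cast_inj] at he
    exact Finset.mem_coe.2 (he ▸ hn)
  · intro h z hz
    exact ⟨_, Finset.mem_coe.1 ((h z).2 _ (fg_self f _) ((mem_ass_iff f F _ z).1 hz)),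
      Equidim.dim_closure f _ z⟩

end Groth.Agent.S4964
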