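import Groth.Statements.S4965
import Groth.Agent.H46.FibreProf.Comps
-- import your own Groth.Agent.* helpers here

set_option autoImplicit false
open CategoryTheory AlgebraicGeometry
universe u v w
open EGA43

namespace Groth.Agent.S4965

open Groth.Agent Groth.Agent.H46.FibreProf Groth.Agent.H46.FibreProf.Basic Groth.Agent.H46.FibreProf.Open in
/-- Let f : X ⟶ Y be a proper morphism of finite presentation and F a finitely presented O_X-module
which is f-flat; for y in Y write F_y for the restriction of F to the fibre X_y. Let Φ be a finite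
set of natural numbers. Then the set of points y of Y such that the set of dimensions of the
irreducible components of Supp(F_y) contains Φ is open in Y. -/
theorem result {X Y : Scheme.{u}} (f : X ⟶ Y) [IsProper f]
    [LocallyOfFinitePresentation f] (F : X.Modules) (hF : CohB1.IsFP F) (hflat : FlatMod.IsFlatOver f F) (Φ : Finset ℕ) :
    IsOpen {y : Y | ∀ n ∈ Φ, ∃ Z ∈ irreducibleComponents ↥{z : ↥(f.fiber y) | Nontrivial (((Scheme.Modules.pullback (f.fiberι y)).obj F).presheaf.stalk z)},
      topologicalKrullDim ↥Z = (n : WithBot ℕ∞)} := by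
  haveI := hF
  haveI := Groth.Agent.H26.FreeCrit.isQuasicoherent_of_isFP hF
  have h : {y : Y | ∀ n ∈ Φ, Dims.HasComp f F n y} = ⋂ n ∈ Φ, {y : Y | Dims.HasComp f F n y} := by
    ext y; simp
  have h2 : IsOpen {y : Y | ∀ n ∈ Φ, Dims.HasComp f F n y} :=
    h ▸ isOpen_biInter_finset fun n _ => Dims.isOpen_hasComp f F hF hflat n
  convert h2 using 1
  ext y
  exact forall₂_congr fun n _ => Comps.exists_comp_iff f F y n

end Groth.Agent.S4965
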