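import Groth.Statements.S4966
import Groth.Agent.H46.FibreProf.Comps
-- import your own Groth.Agent.* helpers here

set_option autoImplicit false
open CategoryTheory AlgebraicGeometry
universe u v w
open EGA43

namespace Groth.Agent.S4966

open Groth.Agent Groth.Agent.H46.FibreProf Groth.Agent.H46.FibreProf.Basic Groth.Agent.H46.FibreProf.Open in
/-- Let f : X ⟶ Y be a proper morphism of finite presentation and F a finitely presented O_X-module
which is f-flat; for y in Y write F_y for the restriction of F to the fibre X_y. Let Φ be a finite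
set of natural numbers. Then the set of points y of Y such that F_y has no embedded associated point
and the set of dimensions of the irreducible components of Supp(F_y) is exactly Φ is open in Y. -/
theorem result {X Y : Scheme.{u}} (f : X ⟶ Y) [IsProper f]
    [LocallyOfFinitePresentation f] (F : X.Modules) (hF : CohB1.IsFP F) (hflat : FlatMod.IsFlatOver f F) (Φ : Finset ℕ) :
    IsOpen {y : Y | AssSch.NoEmbedded ((Scheme.Modules.pullback (f.fiberι y)).obj F) ∧
      (fun Z : Set ↥{z : ↥(f.fiber y) | Nontrivial (((Scheme.Modules.pullback (f.fiberι y)).obj F).presheaf.stalk z)} => topologicalKrullDim ↥Z) '' irreducibleComponents ↥{z : ↥(f.fiber y) | Nontrivial (((Scheme.Modules.pullback (f.fiberι y)).obj F).presheaf.stalk z)} =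
        (fun n : ℕ => (n : WithBot ℕ∞)) '' (Φ : Set ℕ)} := by
  haveI := hF
  haveI := Groth.Agent.H26.FreeCrit.isQuasicoherent_of_isFP hF
  have h1 := Equidim.isOpen_forall_fiber f
    ((isOpen_sk f F hF ⊤ (fun x _ => hflat x) 1).inter
      (isOpen_assDims f F hF ⊤ (fun x _ => hflat x) (Φ : Set ℕ)))
  have h2 : IsOpen (⋂ n ∈ Φ, {y : Y | Dims.HasComp f F n y}) :=
    isOpen_biInter_finset fun n _ => Dims.isOpen_hasComp f F hF hflat n
  convert h1.inter h2 using 1
  ext y
  simp only [Set.mem_inter_iff, Set.mem_iInter, Set.mem_setOf_eq]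
  constructor
  · rintro ⟨hne, he⟩
    have hsk : ∀ a : ↥(f.fiber y), Sk f F 1 (f.fiberι y a) := fun a => by
      rw [sk_one_iff]
      intro w hw h0 w' hw' h0'
      obtain ⟨b, rfl, hb⟩ := fg_exists f hw
      obtain ⟨b', rfl, hb'⟩ := fg_exists f hw'
      rw [hne b ((mem_ass_iff f F y b).2 h0) b' ((mem_ass_iff f F y b').2 h0') hb']
    refine ⟨fun a => ⟨⟨trivial, hsk a⟩, trivial, fun w hw h0 => ?_⟩, fun n hn => ?_⟩
    · have hmax := (Equidim.isMaxSupp_iff f F (hsk a) hw).2 h0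
      obtain ⟨Z, hZ, hZn⟩ := (Comps.exists_comp_iff f F y _).2
        ⟨w, hmax, hw.1.trans (Lib.Cyc.FieldDim.apply_fiberι f y a), rfl⟩
      have hmem := Set.mem_image_of_mem (fun Z : Set ↥(Comps.T f F y) => topologicalKrullDim ↥Z) hZ
      rw [he] at hmem
      obtain ⟨n, hn, hne'⟩ := hmem
      simp only [hZn, Nat.cast_inj] at hne'
      exact hne' ▸ hn
    · have : (n : WithBot ℕ∞) ∈ (fun n : ℕ => (n : WithBot ℕ∞)) '' (Φ : Set ℕ) := ⟨n, hn, rfl⟩
      rw [← he] at this
      obtain ⟨Z, hZ, hZn⟩ := this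
      exact (Comps.exists_comp_iff f F y n).1 ⟨Z, hZ, hZn⟩
  · rintro ⟨h, hn⟩
    refine ⟨fun z hz z' hz' hzz => ?_, Set.Subset.antisymm ?_ ?_⟩
    · exact ((f.fiberι y).isEmbedding.injective ((sk_one_iff f F _).1 (h z).1.2 _ (fg_self f _)
        ((mem_ass_iff f F y z).1 hz) _ ((fg_fiberι f).2 hzz) ((mem_ass_iff f F y z').1 hz'))).symm
    · rintro _ ⟨Z, hZ, rfl⟩
      obtain ⟨n, hZn⟩ := Comps.exists_natCast_of_comp f F y hZ
      obtain ⟨θ, hθ, hy, hθn⟩ := (Comps.exists_comp_iff f F y n).1 ⟨Z, hZ, hZn⟩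
      obtain ⟨b, rfl⟩ := Lib.Cyc.FieldDim.exists_fiberι_eq f θ y hy
      exact ⟨n, hθn ▸ (h b).2.2 _ (fg_self f _)
        ((Equidim.isMaxSupp_iff f F (h b).1.2 (fg_self f _)).1 hθ), hZn.symm⟩
    · rintro _ ⟨n, hnΦ, rfl⟩
      obtain ⟨Z, hZ, hZn⟩ := (Comps.exists_comp_iff f F y n).2 (hn n hnΦ)
      exact ⟨Z, hZ, hZn⟩

end Groth.Agent.S4966
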