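import Groth.Statements.S4969
import Groth.Agent.H46.FibreProf.Comps
-- import your own Groth.Agent.* helpers here

set_option autoImplicit false
open CategoryTheory AlgebraicGeometry
universe u v w
open EGA43

namespace Groth.Agent.S4969

open Groth.Agent Groth.Agent.H46.FibreProf Groth.Agent.H46.FibreProf.Basic Groth.Agent.H46.FibreProf.Open in
/-- Let f : X ⟶ Y be a proper morphism of finite presentation and F a finitely presented O_X-module
which is f-flat; for y in Y let F_y be the restriction of F to the fibre X_y. Then the function y ↦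
dim Supp(F_y) is locally constant on Y. -/
theorem result {X Y : Scheme.{u}} (f : X ⟶ Y) [IsProper f]
    [LocallyOfFinitePresentation f] (F : X.Modules) (hF : CohB1.IsFP F) (hflat : FlatMod.IsFlatOver f F) :
    IsLocallyConstant (fun y : Y => topologicalKrullDim ↥{z : ↥(f.fiber y) | Nontrivial (((Scheme.Modules.pullback (f.fiberι y)).obj F).presheaf.stalk z)}) := by
  haveI := hF
  haveI := Groth.Agent.H26.FreeCrit.isQuasicoherent_of_isFP hF
  classical
  rw [IsLocallyConstant.iff_exists_open]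
  intro y₀
  by_cases hne : ∃ w ∈ CohB1.support F, f w = y₀
  · obtain ⟨e, he⟩ := Comps.exists_bound f y₀
    let A : Set ℕ := {n | Dims.HasComp f F n y₀}
    have hA : ∀ n ∈ A, n ≤ e := by
      rintro n ⟨θ, -, hy, rfl⟩
      exact he θ hy
    have hA' : A.Nonempty := by
      obtain ⟨w, hw, hwy⟩ := hne
      obtain ⟨θ, hθ, hθw⟩ := Equidim.exists_isMaxSupp f F hw
      exact ⟨_, θ, hθ, hθw.1.trans hwy, rfl⟩
    obtain ⟨d, hd, hmax⟩ : ∃ d ∈ A, ∀ n ∈ A, n ≤ d :=
      ⟨sSup A, Nat.sSup_mem hA' ⟨e, hA⟩, fun n hn => le_csSup ⟨e, hA⟩ hn⟩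
    refine ⟨{y | Dims.HasComp f F d y} ∩
      {y | ∀ a : ↥(f.fiber y), ∀ w ∈ CohB1.support F, FG f (f.fiberι y a) w → H46.FibreTrdeg.trd f w + 0 ≤ d},
      (Dims.isOpen_hasComp f F hF hflat d).inter
        (Equidim.isOpen_forall_fiber f (isOpen_trd_add_le f (Basic.isClosed_support F) 0 d)),
      ⟨hd, fun a w hw hwa => ?_⟩, ?_⟩
    · obtain ⟨θ, hθ, hθw⟩ := Equidim.exists_isMaxSupp f F hw
      have := H46.FibreTrdeg.trd_le f hθw.2 hθw.1
      have := hmax _ ⟨θ, hθ, (hθw.1.trans hwa.1).trans (Lib.Cyc.FieldDim.apply_fiberι f y₀ a), rfl⟩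
      omega
    · have key : ∀ y, Dims.HasComp f F d y →
          (∀ a : ↥(f.fiber y), ∀ w ∈ CohB1.support F, FG f (f.fiberι y a) w → H46.FibreTrdeg.trd f w + 0 ≤ d) →
          topologicalKrullDim ↥(Comps.T f F y) = (d : WithBot ℕ∞) := by
        intro y hy hle
        refine le_antisymm ((Comps.dim_T_le_iff f F y d).2 fun w hw hwy => ?_) ?_
        · obtain ⟨a, rfl⟩ := Lib.Cyc.FieldDim.exists_fiberι_eq f w y hwy
          simpa using hle a _ hw (fg_self f _)
        · obtain ⟨Z, -, hZ⟩ := (Comps.exists_comp_iff f F y d).2 hy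
          rw [← hZ]
          exact topologicalKrullDim_subspace_le _ _
      rintro y ⟨hy, hle⟩
      refine (key y hy hle).trans (key y₀ hd fun a w hw hwa => ?_).symm
      obtain ⟨θ, hθ, hθw⟩ := Equidim.exists_isMaxSupp f F hw
      have := H46.FibreTrdeg.trd_le f hθw.2 hθw.1
      have := hmax _ ⟨θ, hθ, (hθw.1.trans hwa.1).trans (Lib.Cyc.FieldDim.apply_fiberι f y₀ a), rfl⟩
      omega
  · refine ⟨{y | ∀ a : ↥(f.fiber y), f.fiberι y a ∉ CohB1.support F},
      Equidim.isOpen_forall_fiber f (Basic.isClosed_support F).isOpen_compl,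
      fun a ha => hne ⟨_, ha, Lib.Cyc.FieldDim.apply_fiberι f y₀ a⟩, fun y hy => ?_⟩
    have key : ∀ y, (∀ a : ↥(f.fiber y), f.fiberι y a ∉ CohB1.support F) →
        topologicalKrullDim ↥(Comps.T f F y) = ⊥ := fun y hy => by
      haveI : IsEmpty ↥(Comps.T f F y) := ⟨fun b => hy b.1 ((Comps.mem_T_iff f F y b.1).1 b.2)⟩
      haveI : IsEmpty (TopologicalSpace.IrreducibleCloseds ↥(Comps.T f F y)) :=
        ⟨fun Z => isEmptyElim Z.2.nonempty.choose⟩
      exact Order.krullDim_eq_bot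
    exact (key y hy).trans
      (key y₀ fun a ha => hne ⟨_, ha, Lib.Cyc.FieldDim.apply_fiberι f y₀ a⟩).symm

end Groth.Agent.S4969
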