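import Groth.Statements.S5930
import Groth.Agent.Lib.FlatFPSyzygy.Basic
import Groth.Agent.Lib.Flat55.Localized
import Groth.Agent.S0422

set_option autoImplicit false
universe u
open TensorProduct CategoryTheory
open EGA43

namespace Groth.Agent.S5930

set_option linter.style.haveILetI false

section

variable (A B : Type u) [CommRing A] [CommRing B] [Algebra A B]

/-- The fibre of a module at a prime of the base. -/
abbrev Fib (M : Type u) [AddCommGroup M] [Module B M] (p : PrimeSpectrum A) : Type u :=
  (B ⊗[A] p.asIdeal.ResidueField) ⊗[B] M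

/-- Base change to a fibre of a short exact sequence with flat cokernel is exact on the left. -/
theorem fib_subtype_injective (p : PrimeSpectrum A) {F M : Type u} [AddCommGroup F] [Module B F]
    [Module A F] [IsScalarTower A B F] [Module.Flat A F] [AddCommGroup M] [Module B M] [Module A M]
    [IsScalarTower A B M] [Module.Flat A M] (f : F →ₗ[B] M) (hf : Function.Surjective f) :
    Function.Injective ((LinearMap.ker f).subtype.baseChange (B ⊗[A] p.asIdeal.ResidueField)) := by
  letI : Algebra p.asIdeal.ResidueField (B ⊗[A] p.asIdeal.ResidueField) :=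
    Algebra.TensorProduct.rightAlgebra
  haveI : Module.Flat A (F ⧸ LinearMap.ker f) :=
    Module.Flat.of_linearEquiv ((f.quotKerEquivOfSurjective hf).restrictScalars A)
  haveI : Algebra.IsPushout A p.asIdeal.ResidueField B (B ⊗[A] p.asIdeal.ResidueField) :=
    Algebra.IsPushout.symm inferInstance
  exact Lib.FlatFPSyzygy.Basic.baseChange_subtype_injective A p.asIdeal.ResidueField B
    (B ⊗[A] p.asIdeal.ResidueField) (LinearMap.ker f)

variable [Algebra.FinitePresentation A B]

/-- Fibrewise criterion: finitely presented, flat over the base, flat on every fibre. -/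
theorem flat_of_flat_fib (M : Type u) [AddCommGroup M] [Module B M] [Module A M]
    [IsScalarTower A B M] [Module.FinitePresentation B M] [Module.Flat A M]
    (h : ∀ p : PrimeSpectrum A, Module.Flat (B ⊗[A] p.asIdeal.ResidueField) (Fib A B M p)) :
    Module.Flat B M := by
  refine Module.flat_of_isLocalized_maximal (R := B) B M
    (fun P _ ↦ LocalizedModule P.primeCompl M) (fun P _ ↦ LocalizedModule.mkLinearMap P.primeCompl M)
    fun Q _ ↦ ?_
  let p := Q.under A
  let R' := Localization.AtPrime p
  let B' := Localization.AtPrime Q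
  let X := LocalizedModule Q.primeCompl M
  let : Algebra R' B' := Localization.AtPrime.algebraOfLiesOver p Q
  have hRB : ∀ r, algebraMap B B' (algebraMap A B r) = algebraMap R' B' (algebraMap A R' r) := fun r ↦
    (Localization.localRingHom_to_map p Q (algebraMap A B) rfl r).symm
  have : IsLocalHom (algebraMap R' B') := Localization.isLocalHom_localRingHom p Q (algebraMap A B) rfl
  let : Module R' X := Module.compHom X (algebraMap R' B')
  have : IsScalarTower R' B' X := IsScalarTower.of_algebraMap_smul fun _ _ ↦ rfl
  have : IsScalarTower A R' X := IsScalarTower.of_algebraMap_smul fun r m ↦ by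
    change algebraMap R' B' (algebraMap A R' r) • m = r • m
    rw [← hRB, algebraMap_smul, algebraMap_smul]
  have : Module.Flat A X := S0422.flat_localized Q.primeCompl (LocalizedModule.mkLinearMap Q.primeCompl M)
  have : Module.Flat R' X := (Module.flat_iff_of_isLocalization R' p.primeCompl X).2 ‹_›
  let J : Ideal B' := (IsLocalRing.maximalIdeal R').map (algebraMap R' B')
  -- `B' / J` lives over the fibre ring
  let q : B →ₐ[A] B' ⧸ J := (Ideal.Quotient.mkₐ A J).comp (IsScalarTower.toAlgHom A B B')
  have hker : p ≤ RingHom.ker (Algebra.ofId A (B' ⧸ J)) := fun a ha ↦ by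
    rw [RingHom.mem_ker]
    change Ideal.Quotient.mk J (algebraMap A B' a) = 0
    rw [Ideal.Quotient.eq_zero_iff_mem, IsScalarTower.algebraMap_apply A B B', hRB]
    exact Ideal.mem_map_of_mem _ (IsLocalization.AtPrime.to_map_mem_maximal_iff R' p a |>.2 ha)
  have hunit : p.primeCompl ≤ (IsUnit.submonoid (B' ⧸ J)).comap (Algebra.ofId A (B' ⧸ J)) := fun a ha ↦ by
    change IsUnit (Ideal.Quotient.mk J (algebraMap A B' a))
    rw [IsScalarTower.algebraMap_apply A B B', hRB]
    exact ((IsLocalization.map_units R' (⟨a, ha⟩ : p.primeCompl)).map (algebraMap R' B')).map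
      (Ideal.Quotient.mk J)
  let κ' : p.ResidueField →ₐ[A] B' ⧸ J :=
    Ideal.ResidueField.liftₐ p (Algebra.ofId A (B' ⧸ J)) hker hunit
  let θ : B ⊗[A] p.ResidueField →ₐ[A] B' ⧸ J :=
    Algebra.TensorProduct.lift q κ' fun _ _ ↦ Commute.all _ _
  let : Algebra (B ⊗[A] p.ResidueField) (B' ⧸ J) := θ.toRingHom.toAlgebra
  have : IsScalarTower B (B ⊗[A] p.ResidueField) (B' ⧸ J) := .of_algebraMap_eq fun b ↦ by
    change algebraMap B (B' ⧸ J) b = θ (b ⊗ₜ 1)
    rw [Algebra.TensorProduct.lift_tmul, map_one, mul_one]
    rfl
  have := h ⟨p, inferInstance⟩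
  have h1 : Module.Flat (B' ⧸ J) ((B' ⧸ J) ⊗[B] M) :=
    Module.Flat.of_linearEquiv (TensorProduct.AlgebraTensorModule.cancelBaseChange B
      (B ⊗[A] p.ResidueField) (B' ⧸ J) (B' ⧸ J) M).symm
  let e : (B' ⧸ J) ⊗[B] M ≃ₗ[B'] X ⧸ J • (⊤ : Submodule B' X) :=
    (TensorProduct.AlgebraTensorModule.cancelBaseChange B B' B' (B' ⧸ J) M).symm ≪≫ₗ
      LinearEquiv.lTensor (B' ⧸ J) (LocalizedModule.equivTensorProduct Q.primeCompl M).symm ≪≫ₗ
      TensorProduct.quotTensorEquivQuotSMul X J
  have hfib : Module.Flat (B' ⧸ J) (X ⧸ J • (⊤ : Submodule B' X)) :=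
    Module.Flat.of_linearEquiv (e.extendScalarsOfSurjective (S := B' ⧸ J) Ideal.Quotient.mk_surjective).symm
  have : Module.Flat B' X := Lib.Flat55.Localized.flat_of_flat_fibre (R := A) (B := B)
    (C := B) (R' := R') (B' := B') (C' := B') p.primeCompl Q.primeCompl Q hRB (fun _ ↦ by simp)
    (LocalizedModule.mkLinearMap Q.primeCompl M) hfib
  exact (Module.flat_iff_of_isLocalization B' Q.primeCompl X).1 this

omit [Algebra.FinitePresentation A B] in
/-- A finitely generated module with all fibres zero is zero. -/
theorem subsingleton_of_fib (M : Type u) [AddCommGroup M] [Module B M] [Module.Finite B M]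
    (h : ∀ p : PrimeSpectrum A, Subsingleton (Fib A B M p)) : Subsingleton M := by
  rw [← Module.support_eq_empty_iff (R := B), Set.eq_empty_iff_forall_notMem]
  intro Q hQ
  rw [Module.mem_support_iff_nontrivial_residueField_tensorProduct] at hQ
  let p := Q.asIdeal.under A
  let θ : B ⊗[A] p.ResidueField →ₐ[A] Q.asIdeal.ResidueField :=
    Algebra.TensorProduct.lift (IsScalarTower.toAlgHom A B _)
      (Ideal.ResidueField.mapₐ p Q.asIdeal (Algebra.ofId A B) rfl) fun _ _ ↦ Commute.all _ _
  let : Algebra (B ⊗[A] p.ResidueField) Q.asIdeal.ResidueField := θ.toRingHom.toAlgebra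
  have : IsScalarTower B (B ⊗[A] p.ResidueField) Q.asIdeal.ResidueField := .of_algebraMap_eq fun b ↦ by
    change algebraMap B Q.asIdeal.ResidueField b = θ (b ⊗ₜ 1)
    rw [Algebra.TensorProduct.lift_tmul, map_one, mul_one]
    rfl
  have := h ⟨p, inferInstance⟩
  have hs : Subsingleton (Q.asIdeal.ResidueField ⊗[B] M) :=
    (TensorProduct.AlgebraTensorModule.cancelBaseChange B (B ⊗[A] p.ResidueField)
      Q.asIdeal.ResidueField Q.asIdeal.ResidueField M).symm.injective.subsingleton
  exact not_subsingleton _ hs

variable [Module.Flat A B]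

theorem hasProjectiveDimensionLT_iff_fib : ∀ (j : ℕ) (M : Type u) [AddCommGroup M] [Module B M]
    [Module A M] [IsScalarTower A B M] [Module.FinitePresentation B M] [Module.Flat A M],
    HasProjectiveDimensionLT (ModuleCat.of B M) (j + 1) ↔ ∀ p : PrimeSpectrum A,
      HasProjectiveDimensionLT (ModuleCat.of (B ⊗[A] p.asIdeal.ResidueField) (Fib A B M p)) (j + 1) := by
  intro j
  induction j with
  | zero =>
    intro M _ _ _ _ _ _
    simp only [Nat.zero_add, ← projective_iff_hasProjectiveDimensionLT_one]
    constructor
    · intro h p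
      haveI : Module.Projective B M := (IsProjective.iff_projective (R := B) M).2 h
      exact (IsProjective.iff_projective _).1 inferInstance
    · intro h
      haveI : Module.Flat B M := flat_of_flat_fib A B M fun p ↦ by
        haveI : Module.Projective (B ⊗[A] p.asIdeal.ResidueField) (Fib A B M p) :=
          (IsProjective.iff_projective _).2 (h p)
        infer_instance
      haveI : Module.Projective B M := Module.Flat.projective_of_finitePresentation
      exact (IsProjective.iff_projective (R := B) M).1 inferInstance
  | succ j ih =>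
    intro M _ _ _ _ _ _
    obtain ⟨n, f, hf⟩ := Module.Finite.exists_fin' B M
    haveI := Lib.FlatFPSyzygy.Basic.ker_finitePresentation (R := A) f hf
    haveI : Module.Flat A (Fin n → B) := Module.Flat.trans A B (Fin n → B)
    haveI : Module.Flat A ↥(LinearMap.ker f) :=
      Lib.FlatCx.Ker.flat_of_exact ((LinearMap.ker f).subtype.restrictScalars A) (f.restrictScalars A)
        Subtype.val_injective hf (fun x => LinearMap.exact_subtype_ker_map f x)
    have hS := LinearMap.shortExact_shortComplexKer hf
    refine (hS.hasProjectiveDimensionLT_X₃_iff j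
      ((IsProjective.iff_projective (R := B) (Fin n → B)).1 inferInstance)).trans
        ((ih ↥(LinearMap.ker f)).trans ?_)
    refine forall_congr' fun p ↦ ?_
    let T := B ⊗[A] p.asIdeal.ResidueField
    let g : Fib A B ↥(LinearMap.ker f) p →ₗ[T] Fib A B (Fin n → B) p := (LinearMap.ker f).subtype.baseChange T
    let g' : Fib A B (Fin n → B) p →ₗ[T] Fib A B M p := f.baseChange T
    have hg : Function.Injective g := fib_subtype_injective A B p f hf
    have hg' : Function.Surjective g' := LinearMap.lTensor_surjective T hf
    have hex : Function.Exact g g' := lTensor_exact T (LinearMap.exact_subtype_ker_map f) hf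
    let S' : ShortComplex (ModuleCat.{u} T) :=
      ShortComplex.mk (ModuleCat.ofHom g) (ModuleCat.ofHom g')
        (ModuleCat.hom_ext hex.linearMap_comp_eq_zero)
    have hS' : S'.ShortExact :=
      { exact := (ShortComplex.ShortExact.moduleCat_exact_iff_function_exact S').2 hex
        mono_f := (ModuleCat.mono_iff_injective _).2 hg
        epi_g := (ModuleCat.epi_iff_surjective _).2 hg' }
    exact (hS'.hasProjectiveDimensionLT_X₃_iff j
      ((IsProjective.iff_projective (R := T) (Fib A B (Fin n → B) p)).1 inferInstance)).symm

end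

theorem eq_iSup_of_forall_lt_iff {ι : Type*} (a : WithBot ℕ∞) (f : ι → WithBot ℕ∞)
    (h : ∀ j : ℕ, a < j ↔ ∀ i, f i < j) : a = ⨆ i, f i := by
  have key : ∀ x y : WithBot ℕ∞, (∀ j : ℕ, y < j → x < j) → x ≤ y := fun x y hxy ↦ by
    induction y with
    | bot => exact le_of_eq (by simpa [← WithBot.lt_coe_bot] using hxy 0 (WithBot.bot_lt_coe _))
    | coe y =>
      induction y with
      | top => exact le_top
      | coe n =>
        have := hxy (n + 1) (by exact_mod_cast Nat.lt_succ_self n)
        rw [Nat.cast_add, Nat.cast_one] at this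
        exact ENat.WithBot.lt_add_one_iff.1 this
  exact le_antisymm (key _ _ fun j hj ↦ (h j).2 fun i ↦ (le_iSup f i).trans_lt hj)
    (iSup_le fun i ↦ key _ _ fun j hj ↦ (h j).1 hj i)

/-- Let A be a commutative ring, B a finitely presented A-algebra which is flat as an A-module, and M a
finitely presented B-module which is flat as an A-module. Then the projective dimension of M as a
B-module equals the supremum, over the prime ideals p of A with residue fields κ(p), of the
projective dimensions of the modules (B ⊗_A κ(p)) ⊗_B M over the rings B ⊗_A κ(p). (Projective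
dimensions are taken in the respective module categories, with values in WithBot ℕ∞ and the zero
module of dimension ⊥. The published formula also equates these with the Tor-dimension of M over B;
that equality is not stated here.) -/
theorem result (A B M : Type u) [CommRing A] [CommRing B] [Algebra A B]
    [Algebra.FinitePresentation A B] [Module.Flat A B] [AddCommGroup M] [Module B M] [Module A M]
    [IsScalarTower A B M] [Module.FinitePresentation B M] [Module.Flat A M] :
    projectiveDimension (ModuleCat.of B M) =
      ⨆ p : PrimeSpectrum A, projectiveDimension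
        (ModuleCat.of (B ⊗[A] p.asIdeal.ResidueField) ((B ⊗[A] p.asIdeal.ResidueField) ⊗[B] M)) := by
  refine eq_iSup_of_forall_lt_iff _ _ fun j ↦ ?_
  simp only [projectiveDimension_lt_iff]
  cases j with
  | zero =>
    simp only [hasProjectiveDimensionLT_zero_iff_isZero, ModuleCat.isZero_iff_subsingleton]
    exact ⟨fun _ p ↦ inferInstance, subsingleton_of_fib A B M⟩
  | succ j => exact hasProjectiveDimensionLT_iff_fib A B j M

end Groth.Agent.S5930
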