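import Groth.Statements.S4973
import Mathlib

set_option autoImplicit false
open CategoryTheory AlgebraicGeometry
universe u v w
open EGA43

namespace Groth.Agent.S4973

open CategoryTheory.Limits in
/-- Let Y₀ and Y be integral schemes, g : Y ⟶ Y₀ a dominant morphism, f₀ : X₀ ⟶ Y₀ a dominant morphism
whose fibre over the generic point of Y₀ is irreducible, and X'₀ an irreducible component of X₀
meeting that generic fibre (it is unique), regarded as a reduced closed subscheme of X₀. If X = X₀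
×_{Y₀} Y is an integral scheme, then the morphism X'₀ ×_{Y₀} Y ⟶ X induced by the inclusion of X'₀
is an isomorphism. -/
theorem result {X₀ Y₀ Y : Scheme.{u}} [IsIntegral Y₀] [IsIntegral Y]
    (g : Y ⟶ Y₀) [IsDominant g] (f₀ : X₀ ⟶ Y₀) [IsDominant f₀]
    (hirr : IsIrreducible (f₀.base ⁻¹' {genericPoint Y₀}))
    (C : TopologicalSpace.Closeds X₀) (hC : (C : Set X₀) ∈ irreducibleComponents (X₀ : Type u))
    (hCη : ((C : Set X₀) ∩ f₀.base ⁻¹' {genericPoint Y₀}).Nonempty) [IsIntegral (pullback f₀ g)]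
    (e₁ : ((Scheme.IdealSheafData.vanishingIdeal C).subschemeι ≫ f₀) ≫ 𝟙 Y₀ =
      (Scheme.IdealSheafData.vanishingIdeal C).subschemeι ≫ f₀) (e₂ : g ≫ 𝟙 Y₀ = 𝟙 Y ≫ g) :
    IsIso (pullback.map ((Scheme.IdealSheafData.vanishingIdeal C).subschemeι ≫ f₀) g f₀ g
      (Scheme.IdealSheafData.vanishingIdeal C).subschemeι (𝟙 Y) (𝟙 Y₀) e₁ e₂) := by
  set ι := (Scheme.IdealSheafData.vanishingIdeal C).subschemeι
  haveI : IsClosedImmersion ι := inferInstance
  set M := pullback.map (ι ≫ f₀) g f₀ g ι (𝟙 Y) (𝟙 Y₀) e₁ e₂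
  have sq : IsPullback M (pullback.fst (ι ≫ f₀) g) (pullback.fst f₀ g) ι := by
    refine IsPullback.of_right ?_ (pullback.lift_fst _ _ _) (IsPullback.of_hasPullback f₀ g).flip
    rw [pullback.lift_snd, Category.comp_id]
    exact (IsPullback.of_hasPullback (ι ≫ f₀) g).flip
  haveI : IsClosedImmersion M := MorphismProperty.of_isPullback sq.flip ‹_›
  have hrι : Set.range ι = (C : Set X₀) := by
    rw [Scheme.IdealSheafData.range_subschemeι, Scheme.IdealSheafData.coe_support_vanishingIdeal]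
  have hη : g (genericPoint Y) = genericPoint Y₀ := by
    have h1 := (genericPoint_spec Y).image g.continuous
    rw [Set.image_univ, g.denseRange.closure_range] at h1
    exact h1.eq (genericPoint_spec Y₀)
  obtain ⟨a, haC, ha⟩ := hCη
  obtain ⟨z, hz₁, hz₂⟩ := Scheme.Pullback.exists_preimage_pullback (f := f₀) (g := g) a (genericPoint Y) (by
    rw [hη]; exact ha)
  set ξ := genericPoint ↥(pullback f₀ g)
  have hξ : pullback.snd f₀ g ξ = genericPoint Y :=
    ((hz₂ ▸ ((genericPoint_spec _).specializes (Set.mem_univ z)).map (pullback.snd f₀ g).continuous).antisymm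
      ((genericPoint_spec Y).specializes (Set.mem_univ _))).eq
  have hξf : f₀ (pullback.fst f₀ g ξ) = genericPoint Y₀ := by
    rw [← Scheme.Hom.comp_apply, pullback.condition, Scheme.Hom.comp_apply, hξ, hη]
  obtain ⟨c, hc⟩ := QuasiSober.sober hC.1 C.isClosed
  have hca : c ⤳ a := specializes_iff_mem_closure.mpr (hc.def.symm ▸ haC)
  have hcf : c ∈ f₀ ⁻¹' {genericPoint Y₀} :=
    ((ha ▸ hca.map f₀.continuous : f₀ c ⤳ genericPoint Y₀).antisymm
      ((genericPoint_spec Y₀).specializes (Set.mem_univ _))).eq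
  have hsub : f₀ ⁻¹' {genericPoint Y₀} ⊆ (C : Set X₀) := by
    have h1 : (C : Set X₀) ⊆ closure (f₀ ⁻¹' {genericPoint Y₀}) := by
      rw [← hc.def]
      exact closure_mono (Set.singleton_subset_iff.mpr hcf)
    exact subset_closure.trans (hC.2 hirr.closure h1)
  obtain ⟨y, hy⟩ : pullback.fst f₀ g ξ ∈ Set.range ι := by
    rw [hrι]; exact hsub hξf
  obtain ⟨w, hw, -⟩ := Scheme.exists_preimage_of_isPullback sq ξ y hy.symm
  haveI : Surjective M := ⟨fun v => by
    have hcl : IsClosed (Set.range M) := M.isClosedEmbedding.isClosed_range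
    have hv : v ∈ closure ({ξ} : Set ↥(pullback f₀ g)) := by
      rw [(genericPoint_spec _).def]; trivial
    exact hcl.closure_subset_iff.mpr (Set.singleton_subset_iff.mpr ⟨w, hw⟩) hv⟩
  exact isIso_of_isClosedImmersion_of_surjective M

end Groth.Agent.S4973
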