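import Groth.Statements.S4975
import Groth.Agent.H46.SectOpen
import Groth.Agent.H46.SectComp2
import Groth.Agent.S3458
-- import your own Groth.Agent.* helpers here

set_option autoImplicit false
open CategoryTheory AlgebraicGeometry
universe u v w
open EGA43

namespace Groth.Agent.S4975

/-- Let f : X ⟶ Y be a morphism locally of finite type with Y locally Noetherian, g : Y ⟶ X a section of
f, X_y^0 the connected component of f⁻¹(y) containing g y, and X^0 ⊆ X their union. Suppose every
X_y^0 is geometrically integral over κ(y) (its preimage in X_y ⊗ K is irreducible and has reduced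
local rings, for every field extension K of κ(y)). Then y ↦ dim X_y^0 is locally constant on Y if
and only if f is universally open at every point of X^0; and when this holds, X^0 is open in X. (The
published statement also lists, as a further equivalent condition, flatness of the base change of f
to the reduced closed subscheme Y_red at the points of X^0; that condition is not stated here.) -/
theorem result {X Y : Scheme.{u}}
    [IsLocallyNoetherian Y] (f : X ⟶ Y) [LocallyOfFiniteType f] (g : Y ⟶ X) (hg : g ≫ f = 𝟙 Y)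
    (hint : ∀ y : Y, (∀ (K : Type u) [Field K] [Algebra (IsLocalRing.ResidueField (Y.presheaf.stalk y)) K],
        IsIrreducible ((FBase.bcπ (f.fiberToSpecResidueField y) K ≫ f.fiberι y).base ⁻¹' connectedComponentIn (f.base ⁻¹' {y}) (g.base y)) ∧
        ∀ x' : ↥(FBase.bc (f.fiberToSpecResidueField y) K),
          (FBase.bcπ (f.fiberToSpecResidueField y) K ≫ f.fiberι y).base x' ∈ connectedComponentIn (f.base ⁻¹' {y}) (g.base y) →
          _root_.IsReduced ((FBase.bc (f.fiberToSpecResidueField y) K).presheaf.stalk x'))) :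
    (IsLocallyConstant (fun y : Y => topologicalKrullDim ↥(connectedComponentIn (f.base ⁻¹' {y}) (g.base y))) ↔ ∀ x ∈ MoreMor.sectionComponents f g, EGA43.IsUnivOpenAt f x) ∧
      (IsLocallyConstant (fun y : Y => topologicalKrullDim ↥(connectedComponentIn (f.base ⁻¹' {y}) (g.base y))) → IsOpen (MoreMor.sectionComponents f g)) := by
  have hirr : ∀ y, IsIrreducible (Groth.Agent.H46.SectComp.C f g y) := fun y =>
    Groth.Agent.H46.SectComp.irr_of_geom f hg fun K _ _ => (hint y K).1
  have hgr : ∀ y, ∀ z ∈ Groth.Agent.H46.SectComp.C f g y, Groth.Agent.H46.GRAt.GRAt f z := by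
    intro y z hz
    obtain ⟨a, rfl⟩ : z ∈ Set.range (f.fiberι y) :=
      (f.range_fiberι y).ge (Groth.Agent.H46.SectComp.C_subset f g y hz)
    refine (Groth.Agent.H46.GRAt.grAt_iff_fiber f y a).2 fun K iK iA x' hx' => ?_
    refine (@hint y K iK iA).2 x' ?_
    exact Set.mem_of_eq_of_mem (congrArg (f.fiberι y) hx') hz
  have hmem : ∀ x ∈ MoreMor.sectionComponents f g, x ∈ Groth.Agent.H46.SectComp.C f g (f x) :=
    fun _ h => h
  have hmem' : ∀ y, ∀ z ∈ Groth.Agent.H46.SectComp.C f g y, z ∈ MoreMor.sectionComponents f g := by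
    intro y z hz
    show z ∈ Groth.Agent.H46.SectComp.C f g (f z)
    rw [show f z = y from Groth.Agent.H46.SectComp.C_subset f g y hz]
    exact hz
  have h1 : IsLocallyConstant (fun y : Y => topologicalKrullDim ↥(connectedComponentIn (f.base ⁻¹' {y}) (g.base y))) →
      ∀ x ∈ MoreMor.sectionComponents f g, EGA43.IsUnivOpenAt f x := fun hc x hx =>
    Groth.Agent.S3458.result f g hg (fun y K _ _ => (hint y K).1) (f x)
      ⟨_, (hc.isOpen_fiber _).mem_nhds rfl, fun z hz => hz⟩ x (hmem x hx)
  refine ⟨⟨h1, fun hu => ?_⟩, fun hc => ?_⟩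
  · refine (IsLocallyConstant.iff_eventually_eq _).2 fun y₀ => ?_
    obtain ⟨V, hV, hVc⟩ := Groth.Agent.H46.SectComp2.const_nhd f hg hirr y₀ fun η hη hηy =>
      Groth.Agent.H46.SectComp2.le_fe_of_reduced f hg hηy hη (hirr y₀)
        (fun ξ hξ _ => hu ξ (hmem' y₀ ξ hξ))
        ((Groth.Agent.H46.GRAt.grAt_iff f _).1
          (hgr y₀ _ (Groth.Agent.H46.SectComp.mem_C f hg y₀)))
    exact Filter.eventually_of_mem hV hVc
  · refine isOpen_iff_mem_nhds.2 fun x hx => mem_interior_iff_mem_nhds.1
      (Groth.Agent.H46.SectOpen.subset_interior f hg (f x) (fun z hz => ⟨?_, hgr _ z hz⟩) (hmem x hx))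
    exact h1 hc z (hmem' _ z hz)

end Groth.Agent.S4975
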