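import Groth.Statements.S4977
import Groth.Agent.H46.ProperAt.Uses

set_option autoImplicit false
open CategoryTheory CategoryTheory.Limits AlgebraicGeometry
universe u v w
open EGA43

namespace Groth.Agent.S4977

open CategoryTheory.Limits in
/-- Let Y be a locally Noetherian scheme, y a point of Y, f : X ⟶ Y a separated morphism of finite type,
and Z a locally constructible subset of X such that: (i) for every generization y' of y, Z ∩ f⁻¹(y')
is a connected component of the fibre f⁻¹(y') and is geometrically connected over κ(y'); (ii) Z ∩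
f⁻¹(y), an open and closed subscheme of the fibre X_y, is proper over κ(y); (iii) Z is universally
submersive onto f(Z): for every morphism h : Y' ⟶ Y, writing p and f' for the two projections of X
×_Y Y', a subset E of h⁻¹(f(Z)) is open in h⁻¹(f(Z)) as soon as f'⁻¹(E) ∩ p⁻¹(Z) is open in p⁻¹(Z)
(induced topologies). Then Z is proper over Y at y: there is an open neighbourhood U of y such that
Z ∩ f⁻¹(U) is closed in f⁻¹(U) and, with its reduced subscheme structure, proper over U. -/
theorem result {X Y : Scheme.{u}} [IsLocallyNoetherian Y] (y : Y)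
    (f : X ⟶ Y) [IsSeparated f] [LocallyOfFiniteType f] [QuasiCompact f] (Z : Set X)
    (hZ : Topology.IsLocallyConstructible Z)
    (h1 : ∀ y' : Y, y' ⤳ y → (∃ x ∈ Z, f.base x = y' ∧ Z ∩ f.base ⁻¹' {y'} = connectedComponentIn (f.base ⁻¹' {y'}) x) ∧
      ∀ (K : Type u) [Field K] [Algebra (IsLocalRing.ResidueField (Y.presheaf.stalk y')) K],
        _root_.IsPreconnected ((FBase.bcπ (f.fiberToSpecResidueField y') K ≫ f.fiberι y').base ⁻¹' Z))
    (hop : IsOpen ((f.fiberι y).base ⁻¹' Z))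
    (h2 : IsProper (Scheme.Opens.ι (⟨(f.fiberι y).base ⁻¹' Z, hop⟩ : (f.fiber y).Opens) ≫ f.fiberToSpecResidueField y))
    (h3 : ∀ (Y' : Scheme.{u}) (h : Y' ⟶ Y) (E : Set Y'), E ⊆ h.base ⁻¹' (f.base '' Z) →
      (∃ W : Set ↥(pullback f h), IsOpen W ∧
        W ∩ (pullback.fst f h).base ⁻¹' Z = (pullback.snd f h).base ⁻¹' E ∩ (pullback.fst f h).base ⁻¹' Z) →
      ∃ V : Set Y', IsOpen V ∧ V ∩ h.base ⁻¹' (f.base '' Z) = E) :
    ∃ U : Y.Opens, y ∈ U ∧ ∃ hC : IsClosed ((f ⁻¹ᵁ U).ι.base ⁻¹' Z),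
      IsProper ((Scheme.IdealSheafData.vanishingIdeal
        (⟨(f ⁻¹ᵁ U).ι.base ⁻¹' Z, hC⟩ : TopologicalSpace.Closeds ↥(f ⁻¹ᵁ U))).subschemeι ≫ (f ∣_ U)) := by
  haveI : IsLocallyNoetherian X := LocallyOfFiniteType.isLocallyNoetherian f
  have hconn : ∀ y' : Y, y' ⤳ y → H46.ProperAt.GConn f y' (Z ∩ f ⁻¹' {y'}) := by
    intro y' hy' L _ t ht
    obtain ⟨t', rfl⟩ := H46.ProperAt.exists_factor_point t y' ht
    obtain ⟨θ, rfl⟩ := Spec.map_surjective t'
    letI : Algebra (IsLocalRing.ResidueField (Y.presheaf.stalk y')) L := θ.hom.toAlgebra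
    have h := (h1 y' hy').2 L
    rw [Set.preimage_inter, H46.ProperAt.fst_preimage_fiber_eq_univ f _ ht, Set.inter_univ]
    let e := pullbackLeftPullbackSndIso f (Y.fromSpecResidueField y') (Spec.map θ)
    have he : (pullback.fst f (Spec.map θ ≫ Y.fromSpecResidueField y')) ⁻¹' Z =
        e.inv ⁻¹' ((FBase.bcπ (f.fiberToSpecResidueField y') L ≫ f.fiberι y') ⁻¹' Z) := by
      rw [← pullbackLeftPullbackSndIso_inv_fst]
      rfl
    rw [he]
    exact e.inv.homeomorph.isPreconnected_preimage.2 h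
  refine H46.ProperAt.main f hZ (fun _ _ R => IsDiscreteValuationRing R)
    (fun z c h hne => H46.ProperAt.center_dvr z c h hne) (H46.ProperAt.closure_proper_dvr f hZ) hconn
    (fun y' hy' => by
      obtain ⟨x, -, hx, he⟩ := (h1 y' hy').1
      rw [he]
      exact H46.ProperAt.relOpen_connectedComponentIn f hx)
    (fun y' hy' => by
      obtain ⟨x, -, hx, he⟩ := (h1 y' hy').1
      rw [he]
      exact (H46.ProperAt.closure_connectedComponentIn f hx).trans (he.ge.trans Set.inter_subset_left))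
    ?_ fun L _ R hR φ hφ => ?_
  · have e : (f.fiberι y) ⁻¹' (Z ∩ f ⁻¹' {y}) = (f.fiberι y) ⁻¹' Z := by
      rw [Set.preimage_inter, ← f.range_fiberι, Set.preimage_range, Set.inter_univ]
    refine H46.ProperAt.propSet_of_opens f y _ Set.inter_subset_right (e ▸ hop) ?_
    convert h2 using 4
    all_goals first | exact e | skip
  haveI := hR
  refine H46.ProperAt.link_dvr f φ Z fun ⟨W, hW, hWE⟩ => ?_
  have hall : φ ⁻¹' (f '' Z) = Set.univ := Set.eq_univ_of_forall fun p => by
    obtain ⟨x, hxZ, hx, -⟩ := (h1 (φ p)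
      (((IsLocalRing.specializes_closedPoint p).map φ.continuous).trans hφ)).1
    exact ⟨x, hxZ, hx⟩
  obtain ⟨V, hV, hVE⟩ := h3 _ φ {IsLocalRing.closedPoint R} (fun p _ => hall.ge trivial) ⟨W, hW, hWE⟩
  refine H46.ProperAt.not_isOpen_closedPoint R ?_
  rw [hall, Set.inter_univ] at hVE
  exact hVE ▸ hV

end Groth.Agent.S4977
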