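import Groth.Statements.S4978
import Groth.Agent.Lib.DvrCrit.Sections
-- import your own Groth.Agent.* helpers here

set_option autoImplicit false
open CategoryTheory AlgebraicGeometry
universe u v w
open EGA43

namespace Groth.Agent.S4978
set_option backward.isDefEq.respectTransparency false
set_option maxHeartbeats 400000

open CategoryTheory.Limits in
/-- Let Y be a Noetherian scheme, f : X ⟶ Y a separated morphism of finite type, Z a subset of X such
that every maximal point of the closure of Z belongs to Z, and y a point of Y. Then the closure of Z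
is proper over Y at y (for some open U ∋ y, its trace on f⁻¹(U) is proper over U with the reduced
structure) if and only if: for every discrete valuation ring A' and every morphism g : Spec A' ⟶ Y
mapping the closed point to y, every point x' of X' = X ×_Y Spec A' which projects into Z, lies over
the generic point η' of Spec A' and is rational over κ(η') is in the image of some section of X' ⟶
Spec A'. -/
theorem result {X Y : Scheme.{u}} [IsNoetherian Y] (f : X ⟶ Y) [IsSeparated f]
    [LocallyOfFiniteType f] [QuasiCompact f] (Z : Set X)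
    (hZ : ∀ z ∈ closure Z, (∀ z' ∈ closure Z, z ∈ closure {z'} → z' = z) → z ∈ Z) (y : Y) :
    (∃ U : Y.Opens, y ∈ U ∧ ∃ hC : IsClosed ((f ⁻¹ᵁ U).ι.base ⁻¹' closure Z),
      IsProper ((Scheme.IdealSheafData.vanishingIdeal
        (⟨(f ⁻¹ᵁ U).ι.base ⁻¹' closure Z, hC⟩ : TopologicalSpace.Closeds ↥(f ⁻¹ᵁ U))).subschemeι ≫ (f ∣_ U))) ↔
      ∀ (A' : Type u) [CommRing A'] [IsDomain A'] [IsDiscreteValuationRing A'] (g : Spec (CommRingCat.of A') ⟶ Y),
        g.base (IsLocalRing.closedPoint A') = y →
        ∀ x' : ↥(pullback f g), (pullback.fst f g).base x' ∈ Z →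
          (pullback.snd f g).base x' = genericPoint (Spec (CommRingCat.of A')) →
          Function.Bijective ((pullback.snd f g).residueFieldMap x').hom →
          ∃ s : Spec (CommRingCat.of A') ⟶ pullback f g, s ≫ pullback.snd f g = 𝟙 _ ∧ x' ∈ Set.range s.base := by
  constructor
  · rintro ⟨U, hyU, hC, hP⟩ A' _ _ _ g hg x' hx'Z hx'gen hbij
    let CU : TopologicalSpace.Closeds ↥(f ⁻¹ᵁ U) := ⟨(f ⁻¹ᵁ U).ι.base ⁻¹' closure Z, hC⟩
    let j := (Scheme.IdealSheafData.vanishingIdeal (X := ((f ⁻¹ᵁ U) : Scheme.{u})) CU).subschemeι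
    haveI : IsProper (j ≫ (f ∣_ U)) := hP
    obtain ⟨ρ, hρ, -⟩ := Lib.DvrCrit.exists_rho _ hx'gen
    let e := RingEquiv.ofBijective _ hbij
    let σ : Spec (CommRingCat.of (FractionRing A')) ⟶ pullback f g :=
      Spec.map (CommRingCat.ofHom (ρ.hom.comp e.symm.toRingHom)) ≫
        Scheme.fromSpecResidueField _ x'
    have hσs : σ ≫ pullback.snd f g = Lib.DvrCrit.genSpec := by
      rw [Category.assoc, ← Scheme.Hom.SpecMap_residueFieldMap_fromSpecResidueField,
        ← Category.assoc, ← Spec.map_comp, ← hρ]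
      congr 2
      ext r
      exact congrArg ρ.hom (e.symm_apply_apply r)
    have hσx : ∀ p, σ p = x' := fun p => by
      rw [Scheme.Hom.comp_apply]
      exact Scheme.fromSpecResidueField_apply _ _
    have hgU : Set.range g ⊆ Set.range U.ι := by
      rw [Scheme.Opens.range_ι]
      rintro _ ⟨p, rfl⟩
      exact ((IsLocalRing.specializes_closedPoint p).map g.continuous).mem_open U.2 (hg ▸ hyU)
    have hσU : Set.range (σ ≫ pullback.fst f g) ⊆ Set.range (f ⁻¹ᵁ U).ι := by
      rw [Scheme.Opens.range_ι]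
      rintro _ ⟨p, rfl⟩
      show ((σ ≫ pullback.fst f g) ≫ f) p ∈ U
      rw [Category.assoc, pullback.condition, ← Category.assoc, Scheme.Hom.comp_apply]
      have := hgU ⟨(σ ≫ pullback.snd f g) p, rfl⟩
      rwa [Scheme.Opens.range_ι] at this
    let τ := IsOpenImmersion.lift (f ⁻¹ᵁ U).ι (σ ≫ pullback.fst f g) hσU
    have hτC : Set.range τ ⊆ Set.range j := by
      rw [Scheme.IdealSheafData.range_subschemeι, Scheme.IdealSheafData.coe_support_vanishingIdeal]
      rintro _ ⟨p, rfl⟩
      show (f ⁻¹ᵁ U).ι (τ p) ∈ closure Z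
      rw [← Scheme.Hom.comp_apply, IsOpenImmersion.lift_fac, Scheme.Hom.comp_apply, hσx]
      exact subset_closure hx'Z
    obtain ⟨τ', hτ'⟩ := H75.RedKer.exists_lift τ j hτC
    obtain ⟨l, hl1, hl2⟩ := Lib.DvrCrit.existence_apply (K := FractionRing A')
      (Lib.DvrCrit.existence_of_universallyClosed (j ≫ (f ∣_ U))) τ'
      (IsOpenImmersion.lift U.ι g hgU) (by
        rw [← Category.assoc, hτ', ← cancel_mono U.ι, Category.assoc, morphismRestrict_ι]
        simp only [τ, Category.assoc, IsOpenImmersion.lift_fac, IsOpenImmersion.lift_fac_assoc]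
        rw [pullback.condition, ← Category.assoc, hσs])
    have hlg : (l ≫ j ≫ (f ⁻¹ᵁ U).ι) ≫ f = 𝟙 _ ≫ g := by
      rw [Category.id_comp, Category.assoc, Category.assoc, ← morphismRestrict_ι, ← Category.assoc j,
        ← Category.assoc l, hl1, IsOpenImmersion.lift_fac]
    let s := pullback.lift _ _ hlg
    refine ⟨s, pullback.lift_snd _ _ _, (Lib.DvrCrit.genSpec (A := A')) (IsLocalRing.closedPoint (FractionRing A')), ?_⟩
    have e : Lib.DvrCrit.genSpec ≫ s = σ := by
      refine pullback.hom_ext ?_ (by rw [Category.assoc, pullback.lift_snd, Category.comp_id, hσs])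
      rw [Category.assoc, pullback.lift_fst, ← Category.assoc, hl2, ← Category.assoc, hτ',
        IsOpenImmersion.lift_fac]
    rw [← Scheme.Hom.comp_apply, e]
    exact hσx _
  · intro H
    let CZ : TopologicalSpace.Closeds X := ⟨closure Z, isClosed_closure⟩
    let i := (Scheme.IdealSheafData.vanishingIdeal CZ).subschemeι
    haveI : IsReduced (Scheme.IdealSheafData.vanishingIdeal CZ).subscheme :=
      H75.RedSub.isReduced_vanishingIdeal CZ
    have hi : Set.range i = closure Z := by
      rw [Scheme.IdealSheafData.range_subschemeι, Scheme.IdealSheafData.coe_support_vanishingIdeal]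
      rfl
    obtain ⟨U, hyU, hP⟩ := Lib.DvrCrit.exists_proper_nhd_gen (i ≫ f) y (fun c => i c ∈ Z)
      (fun c _ => by
        obtain ⟨η, h1, h2⟩ := Lib.FinCond.exists_maximal_specializes _ c
        refine ⟨η, hZ (i η) (hi.le ⟨η, rfl⟩) fun z' hz' hcl => ?_, h1⟩
        obtain ⟨d, rfl⟩ := hi.ge hz'
        have : d ⤳ η := i.isEmbedding.isInducing.specializes_iff.1 (specializes_iff_mem_closure.2 hcl)
        rw [Lib.FinCond.eq_of_specializes _ h2 this])
      fun c hc W hW φ hφ w => by
        haveI := hW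
        have e : (Lib.DvrCrit.fracOut W ≫ Scheme.fromSpecResidueField _ c ≫ i) ≫ f =
            Lib.DvrCrit.genSpec ≫ φ := by
          rw [Category.assoc, Category.assoc, ← w, ← Category.assoc, Lib.DvrCrit.fracOut_gen]
        let σ := pullback.lift _ _ e
        have hσs : σ ≫ pullback.snd f φ = Lib.DvrCrit.genSpec := pullback.lift_snd _ _ _
        have hσf : σ ≫ pullback.fst f φ = Lib.DvrCrit.fracOut W ≫ Scheme.fromSpecResidueField _ c ≫ i :=
          pullback.lift_fst _ _ _
        let x' := σ (IsLocalRing.closedPoint (FractionRing W))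
        have hgen : (pullback.snd f φ) x' = genericPoint (Spec (CommRingCat.of W)) := by
          rw [← Scheme.Hom.comp_apply, hσs, Lib.DvrCrit.genSpec_point]
        obtain ⟨ρ, hρ, hρs⟩ := Lib.DvrCrit.exists_rho _ hgen
        have hbij := Lib.DvrCrit.residueFieldMap_bijective (pullback.snd f φ) σ ρ hρs (hσs.trans hρ.symm)
        have hxZ : (pullback.fst f φ) x' ∈ Z := by
          rw [← Scheme.Hom.comp_apply, hσf, Scheme.Hom.comp_apply, Scheme.Hom.comp_apply]
          exact (congrArg i (Scheme.fromSpecResidueField_apply c _)).symm ▸ hc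
        obtain ⟨s, hs, p, hp⟩ := H W φ hφ x' hxZ hgen hbij
        have hp' : p = genericPoint (Spec (CommRingCat.of W)) :=
          (Lib.DvrCrit.eq_of_genSpec_point p s _ hs x' hp).trans hgen
        have es : Lib.DvrCrit.genSpec ≫ s = σ := by
          refine Lib.DvrCrit.point_ext (pullback.snd f φ) x' hbij _ _ ?_ rfl (by
            rw [Category.assoc, hs, Category.comp_id, hσs])
          rw [Scheme.Hom.comp_apply, Lib.DvrCrit.genSpec_point, ← hp']
          exact hp
        have hl : Lib.DvrCrit.gen W ≫ s ≫ pullback.fst f φ = Scheme.fromSpecResidueField _ c ≫ i := by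
          rw [← Lib.DvrCrit.fracIn_algebraMap, Category.assoc, ← Category.assoc (Spec.map _) s, es, hσf,
            ← Category.assoc (Lib.DvrCrit.fracIn W), Lib.DvrCrit.fracIn_fracOut, Category.id_comp]
        have hrange : Set.range (s ≫ pullback.fst f φ) ⊆ Set.range i := by
          rintro _ ⟨q, rfl⟩
          rw [hi]
          refine ((genericPoint_specializes q).map (s ≫ pullback.fst f φ).continuous).mem_closed
            isClosed_closure (subset_closure ?_)
          rw [← hp', Scheme.Hom.comp_apply]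
          exact hp ▸ hxZ
        obtain ⟨l, hl'⟩ := H75.RedKer.exists_lift _ i hrange
        refine ⟨l, ?_, ?_⟩
        · rw [← cancel_mono i, Category.assoc, hl']
          exact hl
        · rw [← Category.assoc, hl', Category.assoc, pullback.condition, ← Category.assoc, hs,
            Category.id_comp]
    have hC : IsClosed ((f ⁻¹ᵁ U).ι.base ⁻¹' closure Z) :=
      isClosed_closure.preimage (f ⁻¹ᵁ U).ι.continuous
    refine ⟨U, hyU, hC, ?_⟩
    let k := i ∣_ (f ⁻¹ᵁ U)
    haveI : IsClosedImmersion k := IsZariskiLocalAtTarget.restrict (P := @IsClosedImmersion) (inferInstanceAs (IsClosedImmersion i)) _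
    have hk : Set.range k = (f ⁻¹ᵁ U).ι.base ⁻¹' closure Z := by
      ext a
      constructor
      · rintro ⟨b, rfl⟩
        show (f ⁻¹ᵁ U).ι (k b) ∈ closure Z
        rw [← Scheme.Hom.comp_apply, morphismRestrict_ι, ← hi, Scheme.Hom.comp_apply]
        exact ⟨_, rfl⟩
      · intro ha
        obtain ⟨c, hc⟩ := hi.ge ha
        have hcU : c ∈ i ⁻¹ᵁ (f ⁻¹ᵁ U) := by
          show i c ∈ f ⁻¹ᵁ U
          rw [hc]
          exact a.2
        refine ⟨⟨c, hcU⟩, (f ⁻¹ᵁ U).ι.isOpenEmbedding.injective ?_⟩
        rw [← Scheme.Hom.comp_apply, morphismRestrict_ι]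
        exact hc
    haveI : IsReduced (i ⁻¹ᵁ (f ⁻¹ᵁ U) : Scheme.{u}) := isReduced_of_isOpenImmersion (i ⁻¹ᵁ (f ⁻¹ᵁ U)).ι
    refine Lib.DvrCrit.isProper_of_closed_range (f ∣_ U) ⟨_, hC⟩ k hk ?_
    rw [← morphismRestrict_comp]
    exact hP

end Groth.Agent.S4978
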