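import Groth.Statements.S4982
import Groth.Agent.H46.FibreProf.Equidim
import Groth.Agent.H46.FibreProf.Unit
-- import your own Groth.Agent.* helpers here

set_option autoImplicit false
open CategoryTheory AlgebraicGeometry
universe u v w
open EGA43

namespace Groth.Agent.S4982

open Groth.Agent.H46.FibreProf Groth.Agent.H46.FibreProf.Basic Groth.Agent.H46.FibreProf.Open in
/-- Let f : X ⟶ Y be a morphism locally of finite presentation and F a finitely presented O_X-module
which is f-flat; for x in X write F_{f x} for the restriction of F to the fibre of f through x. Let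
Φ be a finite set of natural numbers. Then the set of points x such that every associated point of
F_{f x} specializing to x has closure (in the fibre) of dimension belonging to Φ is open in X. In
particular (Φ = {k}), the set of x such that every associated point of F_{f x} specializing to x has
closure of dimension k is open. -/
theorem result {X Y : Scheme.{u}} (f : X ⟶ Y) [LocallyOfFinitePresentation f]
    (F : X.Modules) (hF : CohB1.IsFP F) (hflat : FlatMod.IsFlatOver f F) (Φ : Finset ℕ) :
    IsOpen {x : X | ∀ z ∈ AssSch.Ass ((Scheme.Modules.pullback (f.fiberι (f.base x))).obj F), f.asFiber x ∈ closure {z} →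
      ∃ n ∈ Φ, topologicalKrullDim ↥(closure ({z} : Set ↥(f.fiber (f.base x)))) = (n : WithBot ℕ∞)} := by
  haveI := hF
  haveI := Groth.Agent.H26.FreeCrit.isQuasicoherent_of_isFP hF
  convert isOpen_assDims f F hF ⊤ (fun x _ => hflat x) (Φ : Set ℕ) using 1
  ext x
  constructor
  · refine fun h => ⟨trivial, fun w hw h0 => ?_⟩
    obtain ⟨b, rfl, hb⟩ := fg_exists f (y := f x) (a := f.asFiber x) (by rwa [f.fiberι_asFiber])
    obtain ⟨n, hn, he⟩ := h b ((mem_ass_iff f F _ b).2 h0) (specializes_iff_mem_closure.1 hb)
    rw [Equidim.dim_closure, Nat.cast_inj] at he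
    exact Finset.mem_coe.2 (he ▸ hn)
  · rintro ⟨-, h⟩ z hz hxz
    refine ⟨_, Finset.mem_coe.1 (h _ ?_ ((mem_ass_iff f F _ z).1 hz)), Equidim.dim_closure f _ z⟩
    have := (fg_fiberι f).2 (specializes_iff_mem_closure.2 hxz)
    rwa [f.fiberι_asFiber] at this

end Groth.Agent.S4982
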