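import Groth.Statements.S4983
import Groth.Agent.H46.FibreProf.Equidim
import Groth.Agent.H46.FibreProf.Unit
-- import your own Groth.Agent.* helpers here

set_option autoImplicit false
open CategoryTheory AlgebraicGeometry
universe u v w
open EGA43

namespace Groth.Agent.S4983

open Groth.Agent.H46.FibreProf Groth.Agent.H46.FibreProf.Basic Groth.Agent.H46.FibreProf.Open in
/-- Let f : X ⟶ Y be a morphism locally of finite presentation and F a finitely presented O_X-module
which is f-flat; for x in X write F_{f x} for the restriction of F to the fibre of f through x. Then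
the set of points x which lie on no embedded associated cycle of F_{f x} — every associated point of
F_{f x} specializing to x is not a specialization of another associated point — is open in X. -/
theorem result {X Y : Scheme.{u}} (f : X ⟶ Y) [LocallyOfFinitePresentation f]
    (F : X.Modules) (hF : CohB1.IsFP F) (hflat : FlatMod.IsFlatOver f F) :
    IsOpen {x : X | ∀ z ∈ AssSch.Ass ((Scheme.Modules.pullback (f.fiberι (f.base x))).obj F), f.asFiber x ∈ closure {z} →
      ∀ z' ∈ AssSch.Ass ((Scheme.Modules.pullback (f.fiberι (f.base x))).obj F), z ∈ closure {z'} → z' = z} := by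
  haveI := hF
  haveI := Groth.Agent.H26.FreeCrit.isQuasicoherent_of_isFP hF
  convert isOpen_sk f F hF ⊤ (fun x _ => hflat x) 1 using 1
  ext x
  rw [Set.mem_setOf_eq, Set.mem_setOf_eq, sk_one_iff]
  constructor
  · refine fun h => ⟨trivial, fun w hw h0 w' hw' h0' => ?_⟩
    obtain ⟨b, rfl, hb⟩ := fg_exists f (y := f x) (a := f.asFiber x) (by rwa [f.fiberι_asFiber])
    obtain ⟨b', rfl, hb'⟩ := fg_exists f hw'
    rw [h b ((mem_ass_iff f F _ b).2 h0) (specializes_iff_mem_closure.1 hb) b'
      ((mem_ass_iff f F _ b').2 h0') (specializes_iff_mem_closure.1 hb')]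
  · rintro ⟨-, h⟩ z hz hxz z' hz' hzz
    refine (f.fiberι (f x)).isEmbedding.injective (h _ ?_ ((mem_ass_iff f F _ z).1 hz) _
      ((fg_fiberι f).2 (specializes_iff_mem_closure.2 hzz)) ((mem_ass_iff f F _ z').1 hz'))
    have := (fg_fiberι f).2 (specializes_iff_mem_closure.2 hxz)
    rwa [f.fiberι_asFiber] at this

end Groth.Agent.S4983
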