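import Groth.Statements.S4986
import Groth.Agent.H46.SubStalk

set_option autoImplicit false
open CategoryTheory AlgebraicGeometry
universe u v w
open EGA43

namespace Groth.Agent.S4986

/-- Let Y be locally Noetherian, f : X ⟶ Y of finite type, x ∈ X, y = f x, X' an irreducible closed
subset containing x with its reduced structure, Y' the closure of f(X') with its reduced structure
and generic point η', and A, B, A', B' the local rings of Y at y, of X at x, of Y' at y and of X' at
x. Suppose dim B = dim A + dim(B ⊗ κ(y)). Then X' satisfies the four conditions (i) dim A' = dim A,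
(ii) dim_x(X' ∩ X_y) = dim_x(X_y), (iii) X' equidimensional over Y' at x, (iv) dim B' = dim A' +
dim(B' ⊗ κ(y)), if and only if dim B' = dim B. -/
theorem result {X Y : Scheme.{u}} [IsLocallyNoetherian Y] (f : X ⟶ Y)
    [LocallyOfFiniteType f] [QuasiCompact f] (x : X) (X' : TopologicalSpace.Closeds X) (hirr : IsIrreducible (X' : Set X))
    (hx : x ∈ X') (w : ↥(Scheme.IdealSheafData.vanishingIdeal X').subscheme)
    (hw : (Scheme.IdealSheafData.vanishingIdeal X').subschemeι.base w = x)
    (v : ↥(Scheme.IdealSheafData.vanishingIdeal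
      (⟨closure (f.base '' (X' : Set X)), isClosed_closure⟩ : TopologicalSpace.Closeds Y)).subscheme)
    (hv : (Scheme.IdealSheafData.vanishingIdeal
      (⟨closure (f.base '' (X' : Set X)), isClosed_closure⟩ : TopologicalSpace.Closeds Y)).subschemeι.base v = f.base x)
    (η' : Y) (hη' : closure ({η'} : Set Y) = closure (f.base '' (X' : Set X))) :
    letI ιX := (Scheme.IdealSheafData.vanishingIdeal X').subschemeι
    letI dA := ringKrullDim (Y.presheaf.stalk (f.base x))
    letI dB := ringKrullDim (X.presheaf.stalk x)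
    letI dA' := ringKrullDim ((Scheme.IdealSheafData.vanishingIdeal
      (⟨closure (f.base '' (X' : Set X)), isClosed_closure⟩ : TopologicalSpace.Closeds Y)).subscheme.presheaf.stalk v)
    letI dB' := ringKrullDim ((Scheme.IdealSheafData.vanishingIdeal X').subscheme.presheaf.stalk w)
    letI dBk := ringKrullDim ((f.fiber (f.base x)).presheaf.stalk (f.asFiber x))
    letI dB'k := ringKrullDim (((ιX ≫ f).fiber ((ιX ≫ f).base w)).presheaf.stalk ((ιX ≫ f).asFiber w))
    letI e' := topologicalKrullDim ↥((X' : Set X) ∩ f.base ⁻¹' {η'})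
    dB = dA + dBk →
      ((dA' = dA ∧ FlatMor.localDim ↥((X' : Set X) ∩ f.base ⁻¹' {f.base x}) ⟨x, ⟨hx, rfl⟩⟩ = FlatMor.fibreDimAt f x ∧
        FlatMor.fibreDimAt (ιX ≫ f) w = e' ∧ dB' = dA' + dB'k) ↔ dB' = dB) := by
  set ιX := (Scheme.IdealSheafData.vanishingIdeal X').subschemeι with hιX
  haveI := LocallyOfFiniteType.isLocallyNoetherian f
  obtain ⟨ξ, hξ⟩ := QuasiSober.sober hirr X'.isClosed
  have hrX : Set.range ιX = closure {ξ} := by
    rw [hξ.def, Scheme.IdealSheafData.range_subschemeι,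
      Scheme.IdealSheafData.coe_support_vanishingIdeal]
  set ιY := (Scheme.IdealSheafData.vanishingIdeal
    (⟨closure (f.base '' (X' : Set X)), isClosed_closure⟩ : TopologicalSpace.Closeds Y)).subschemeι
  have hη : η' = f ξ := Groth.Agent.H46.Equidim.closure_singleton_inj (by
    rw [hη', ← Groth.Agent.H46.Equidim.closure_image_closure' f ξ, hξ.def])
  have hrY : Set.range ιY = closure {η'} := by
    rw [hη', Scheme.IdealSheafData.range_subschemeι,
      Scheme.IdealSheafData.coe_support_vanishingIdeal]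
    rfl
  haveI := LocallyOfFiniteType.isLocallyNoetherian ιX
  haveI := LocallyOfFiniteType.isLocallyNoetherian ιY
  obtain ⟨w₀, hw₀⟩ : ξ ∈ Set.range ιX := by rw [hrX]; exact subset_closure rfl
  subst hw
  have hgen : w₀ ⤳ w := by
    rw [← ιX.isEmbedding.isInducing.specializes_iff, hw₀, specializes_iff_mem_closure, ← hrX]
    exact ⟨w, rfl⟩
  have hs : ξ ⤳ ιX w := hw₀ ▸ hgen.map ιX.continuous
  have hsv : η' ⤳ ιY v := by
    rw [specializes_iff_mem_closure, ← hrY]; exact ⟨v, rfl⟩
  have hB' := Groth.Agent.H46.SubStalk.sd_eq_qd ιX hrX hs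
  have hA' := Groth.Agent.H46.SubStalk.sd_eq_qd ιY hrY hsv
  have key : ∀ (a b : Y) (h : a ⤳ b), a = f ξ → b = f (ιX w) →
      Groth.Agent.H46.DimData.qd h = Groth.Agent.H46.DimData.qd (hs.map f.continuous) := by
    rintro a b h rfl rfl; rfl
  rw [key η' (ιY v) hsv hη hv] at hA'
  have h1 := Groth.Agent.H46.DimData.qd_ineq f hs
  have h2 := Groth.Agent.H46.DimData.qd_le_sd (hs.map f.continuous)
  have h2' := Groth.Agent.H46.DimData.qd_le_sd hs
  have h3 := Groth.Agent.H46.DimData.fd_add_trd f (ιX w)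
  have h4 := Groth.Agent.H46.DimData.fd_add_trd (ιX ≫ f) w
  rw [Groth.Agent.H46.FibreTrdeg.trd_comp] at h4
  have h5 := Groth.Agent.H46.DimData.trd_le_fe (ιX ≫ f) hgen
  rw [Groth.Agent.H46.FibreTrdeg.trd_comp, hw₀] at h5
  have h6 : Groth.Agent.H46.DimData.fe (ιX ≫ f) w ≤ Groth.Agent.H46.DimData.fe f (ιX w) := by
    obtain ⟨z, hz, hzw, -, he⟩ := Groth.Agent.H46.DimData.exists_fe_eq (ιX ≫ f) w
    rw [← he, Groth.Agent.H46.FibreTrdeg.trd_comp]
    exact Groth.Agent.H46.DimData.trd_le_fe f (hzw.map ιX.continuous)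
  have he' : topologicalKrullDim ↥((X' : Set X) ∩ f.base ⁻¹' {η'}) =
      (Groth.Agent.H46.FibreTrdeg.trd f ξ : WithBot ℕ∞) := by
    rw [hη, ← hξ.def]
    exact Groth.Agent.H46.FibreTrdeg.dim_closure_inter f ξ
  have hloc : FlatMor.localDim ↥((X' : Set X) ∩ f.base ⁻¹' {f.base (ιX w)}) ⟨ιX w, ⟨hx, rfl⟩⟩ =
      FlatMor.fibreDimAt (ιX ≫ f) w := by
    rw [← Groth.Agent.H46.FibreTrdeg.localDim_range_inter f ιX w]
    refine Groth.Agent.H46.FibreTrdeg.localDim_congr ?_ _ _ _
    rw [hrX, hξ.def]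
  rw [he', hloc, Groth.Agent.H46.DimData.fibreDimAt_eq, Groth.Agent.H46.DimData.fibreDimAt_eq]
  simp only [Groth.Agent.H46.DimData.ringKrullDim_stalk,
    Groth.Agent.H46.DimData.ringKrullDim_fiber]
  norm_cast
  simp only [Scheme.Hom.comp_apply] at *
  omega

end Groth.Agent.S4986
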