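import Groth.Statements.S4992
import Groth.Agent.Lib.Kaehler.SmoothChart

set_option autoImplicit false
universe u
open CategoryTheory CategoryTheory.Limits AlgebraicGeometry TopologicalSpace
open Unram17

namespace Groth.Agent.S4992

/-- Let f : X ⟶ Y and g : Y ⟶ Z be smooth. For every point x of X, the local dimension at x of the fibre
of f ≫ g through x equals the local dimension at x of the fibre of f through x plus the local
dimension at f(x) of the fibre of g through f(x). -/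
theorem result {X Y Z : Scheme.{u}} (f : X ⟶ Y) (g : Y ⟶ Z) [Smooth f] [Smooth g]
    (x : ↥X) :
    FlatMor.fibreDimAt (f ≫ g) x = FlatMor.fibreDimAt f x + FlatMor.fibreDimAt g (f.base x) := by
  obtain ⟨n, U₂, V₂, hU₂, hV₂, e₂, hfx₂, hg₂⟩ := Lib.Kaehler.SmoothChart.exists_std_chart g (f.base x)
  obtain ⟨m, U₁, V₁, hU₁, hV₁, e₁, hx₁, hf₁⟩ := Lib.Kaehler.SmoothChart.exists_std_chart f x
  obtain ⟨r, s, hxs, e₁', hf₁'⟩ := exists_basicOpen_le_appLE_of_appLE_of_isAffine
    (RingHom.isStandardSmoothOfRelativeDimension_stableUnderCompositionWithLocalizationAway m).right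
    (RingHom.isStandardSmoothOfRelativeDimension_localizationPreserves m).away
    x ⟨V₂, hV₂⟩ ⟨U₁, hU₁⟩ ⟨V₁, hV₁⟩ ⟨V₁, hV₁⟩ hx₁ hx₁ e₁ hf₁ hfx₂
  have e : X.basicOpen s ≤ (f ≫ g) ⁻¹ᵁ U₂ :=
    le_trans e₁' <| f.preimage_mono <| le_trans (Y.basicOpen_le r) e₂
  have heq : (f ≫ g).appLE U₂ (X.basicOpen s) e = g.appLE U₂ V₂ e₂ ≫
      CommRingCat.ofHom (algebraMap Γ(Y, V₂) Γ(Y, Y.basicOpen r)) ≫
        f.appLE (Y.basicOpen r) (X.basicOpen s) e₁' := by
    rw [RingHom.algebraMap_toAlgebra, CommRingCat.ofHom_hom,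
      g.appLE_map_assoc, Scheme.Hom.appLE_comp_appLE]
  have : IsLocalization.Away r Γ(Y, Y.basicOpen r) := hV₂.isLocalization_basicOpen r
  have hs : RingHom.IsStandardSmoothOfRelativeDimension (m + n)
      ((f ≫ g).appLE U₂ (X.basicOpen s) e).hom := by
    rw [heq]
    exact RingHom.IsStandardSmoothOfRelativeDimension.comp
      ((RingHom.isStandardSmoothOfRelativeDimension_stableUnderCompositionWithLocalizationAway m).left
        _ r _ hf₁') hg₂
  rw [Lib.Kaehler.SmoothChart.fibreDimAt_of_chart hU₂ (hV₁.basicOpen s) e hs hxs,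
    Lib.Kaehler.SmoothChart.fibreDimAt_of_chart hU₁ hV₁ e₁ hf₁ hx₁,
    Lib.Kaehler.SmoothChart.fibreDimAt_of_chart hU₂ hV₂ e₂ hg₂ hfx₂]
  norm_cast

end Groth.Agent.S4992
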