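import Groth.Statements.S4993
import Groth.Agent.S4992
import Groth.Agent.Lib.JacCrit.RankEtale
import Groth.Agent.Lib.AlgSpMor.Cancel
import Groth.Agent.Lib.Kaehler.BaseChange
import Mathlib.AlgebraicGeometry.Morphisms.FlatMono

set_option autoImplicit false
universe u
open CategoryTheory CategoryTheory.Limits AlgebraicGeometry TopologicalSpace
open Unram17

namespace Groth.Agent.S4993

/-- Let f : Y ⟶ S and h : X ⟶ S be smooth and let g : X ⟶ Y satisfy g ≫ f = h. Then g is an open
immersion if and only if g is a monomorphism and, for every point x of X, the local dimension at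
g(x) of the fibre of f through g(x) equals the local dimension at x of the fibre of h through x. -/
theorem result {X Y S : Scheme.{u}} (f : Y ⟶ S) (h : X ⟶ S)
    [Smooth f] [Smooth h] (g : X ⟶ Y) (w : g ≫ f = h) :
    IsOpenImmersion g ↔ Mono g ∧ ∀ x : ↥X, FlatMor.fibreDimAt f (g.base x) = FlatMor.fibreDimAt h x := by
  constructor
  · intro hg
    refine ⟨inferInstance, fun x => ?_⟩
    subst w
    rw [Groth.Agent.S4992.result g f x]
    obtain ⟨V, hV, U, hU, hx, e, hs⟩ :=
      SmoothOfRelativeDimension.exists_isStandardSmoothOfRelativeDimension (n := 0) (f := g) x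
    rw [Lib.Kaehler.SmoothChart.fibreDimAt_of_chart hV hU e hs hx, Nat.cast_zero, zero_add]
  · rintro ⟨hmono, hdim⟩
    haveI := hmono
    haveI : LocallyOfFinitePresentation g :=
      Lib.AlgSpMor.Cancel.locallyOfFinitePresentation_of_comp (w.symm ▸ inferInstance) (inferInstance : LocallyOfFiniteType f)
    haveI := (Limits.pullback.isIso_diagonal_iff g).mpr hmono
    haveI : FormallyUnramified g := inferInstance
    suffices Flat g from IsOpenImmersion.of_flat_of_mono g
    refine Flat.of_stalkMap g fun x => ?_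
    subst w
    obtain ⟨V, hV, hxV, -⟩ := Lib.Kaehler.BaseChange.exists_affine_le (W := (⊤ : S.Opens)) (x := f (g x)) trivial
    obtain ⟨U', hU', hxU', e1⟩ := Lib.Kaehler.BaseChange.exists_affine_le (W := f ⁻¹ᵁ V) (x := g x) hxV
    obtain ⟨U, hU, hxU, e2⟩ := Lib.Kaehler.BaseChange.exists_affine_le (W := g ⁻¹ᵁ U') (x := x) hxU'
    have e : U ≤ (g ≫ f) ⁻¹ᵁ V := e2.trans (g.preimage_mono e1)
    letI := (f.appLE V U' e1).hom.toAlgebra
    letI := (g.appLE U' U e2).hom.toAlgebra
    letI := ((g ≫ f).appLE V U e).hom.toAlgebra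
    haveI : IsScalarTower Γ(S, V) Γ(Y, U') Γ(X, U) := IsScalarTower.of_algebraMap_eq fun r =>
      congr($(Scheme.Hom.appLE_comp_appLE g f V U' U e1 e2) r).symm
    haveI : Algebra.FormallyUnramified Γ(Y, U') Γ(X, U) :=
      HasRingHomProperty.appLE @FormallyUnramified g inferInstance ⟨U', hU'⟩ ⟨U, hU⟩ e2
    haveI : Algebra.Smooth Γ(S, V) Γ(X, U) := (g ≫ f).smooth_appLE hV hU e
    haveI : Algebra.FinitePresentation Γ(Y, U') Γ(X, U) := g.finitePresentation_appLE hU' hU e2
    let P := hU.primeIdealOf ⟨x, hxU⟩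
    let Pp : PrimeSpectrum Γ(Y, U') := ⟨P.asIdeal.under Γ(Y, U'), inferInstance⟩
    have hPp : Pp = hU'.primeIdealOf ⟨g x, e2 hxU⟩ :=
      IsAffineOpen.comap_primeIdealOf_appLE U' hU' U hU e2 hxU
    obtain ⟨m, ⟨bC⟩, hm⟩ := Lib.JacCrit.RankEtale.exists_basis (g ≫ f) hV hU e P
    obtain ⟨m', ⟨bB⟩, hm'⟩ := Lib.JacCrit.RankEtale.exists_basis f hV hU' e1 Pp
    rw [hU.fromSpec_primeIdealOf, ← hdim x] at hm
    rw [hPp, hU'.fromSpec_primeIdealOf] at hm'
    obtain rfl : m' = m := by exact_mod_cast hm'.symm.trans hm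
    haveI : Algebra.IsSmoothAt Γ(S, V) P.asIdeal :=
      (Algebra.smoothLocus_eq_univ (R := Γ(S, V)) (A := Γ(X, U))).ge (Set.mem_univ P)
    haveI : Algebra.FormallySmooth Γ(S, V) (Localization.AtPrime P.asIdeal) := ‹Algebra.IsSmoothAt Γ(S, V) P.asIdeal›
    have het : Algebra.IsEtaleAt Γ(Y, U') P.asIdeal :=
      Lib.JacCrit.RankEtale.formallyEtale Γ(S, V) Γ(Y, U') Γ(X, U) P.asIdeal bB bC
    have hflat := ((Lib.Unram.AtPrime.isEtaleAt_iff _ _ P.asIdeal).mp het).1
    refine (RingHom.Flat.respectsIso.arrow_mk_iso_iff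
      (IsAffineOpen.arrowStalkMapIso g U' hU' U hU e2 hxU)).mpr ?_
    have key : ∀ (J : Ideal Γ(Y, U')) [J.IsPrime]
        (hJ : J = P.asIdeal.comap (g.appLE U' U e2).hom),
        (Localization.localRingHom J P.asIdeal (g.appLE U' U e2).hom hJ).Flat := by
      rintro J _ rfl
      letI := (Localization.localRingHom (P.asIdeal.under Γ(Y, U')) P.asIdeal
        (algebraMap Γ(Y, U') Γ(X, U)) rfl).toAlgebra
      haveI : IsScalarTower Γ(Y, U') (Localization.AtPrime (P.asIdeal.under Γ(Y, U')))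
          (Localization.AtPrime P.asIdeal) := IsScalarTower.of_algebraMap_eq fun y => by
        rw [RingHom.algebraMap_toAlgebra, Localization.localRingHom_to_map,
          ← IsScalarTower.algebraMap_apply Γ(Y, U') Γ(X, U) (Localization.AtPrime P.asIdeal)]
      exact (Module.flat_iff_of_isLocalization (Localization.AtPrime (P.asIdeal.under Γ(Y, U')))
        (P.asIdeal.under Γ(Y, U')).primeCompl (Localization.AtPrime P.asIdeal)).mpr hflat
    exact key _ (congrArg PrimeSpectrum.asIdeal hPp).symm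

end Groth.Agent.S4993
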