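import Groth.Statements.S4998
import Mathlib.RingTheory.Etale.Field


set_option autoImplicit false
universe u
open Unram17

namespace Groth.Agent.S4998

/-- Let A be an algebra of finite type over a field k. Then A is formally unramified over k if and only
if A is finite over k and every element of A has separable minimal polynomial over k (equivalently,
A is a finite product of finite separable extensions of k). -/
theorem result (k A : Type u) [Field k] [CommRing A]
    [Algebra k A] [Algebra.FiniteType k A] :
    Algebra.FormallyUnramified k A ↔ Module.Finite k A ∧ Algebra.IsSeparable k A := by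
  classical
  constructor
  · intro h
    haveI := h
    have hfe := Algebra.FormallyEtale.of_formallyUnramified_of_field k A
    haveI hfin := Algebra.FormallyUnramified.finite_of_free k A
    obtain ⟨I, _, Ai, _, _, e, hsep⟩ := (Algebra.FormallyEtale.iff_exists_algEquiv_prod k A).mp hfe
    refine ⟨hfin, ⟨fun x => ?_⟩⟩
    haveI := Fintype.ofFinite I
    haveI : ∀ i, Module.Finite k (Ai i) := fun i =>
      .of_surjective ((LinearMap.proj i).comp e.toLinearMap)
        ((Function.surjective_eval i).comp e.surjective)
    let s : Finset (Polynomial k) := Finset.univ.image fun i => minpoly k (e x i)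
    have hQ : (∏ q ∈ s, q).Separable := by
      refine Polynomial.separable_prod' (fun p hp q hq hpq => ?_) fun p hp => ?_
      · obtain ⟨i, -, rfl⟩ := Finset.mem_image.mp hp
        obtain ⟨j, -, rfl⟩ := Finset.mem_image.mp hq
        refine ((minpoly.irreducible (Algebra.IsIntegral.isIntegral _)).coprime_iff_not_dvd).mpr
          fun hd => hpq ?_
        exact Polynomial.eq_of_monic_of_associated (minpoly.monic (Algebra.IsIntegral.isIntegral _))
          (minpoly.monic (Algebra.IsIntegral.isIntegral _))
          ((minpoly.irreducible (Algebra.IsIntegral.isIntegral _)).associated_of_dvd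
            (minpoly.irreducible (Algebra.IsIntegral.isIntegral _)) hd)
      · obtain ⟨i, -, rfl⟩ := Finset.mem_image.mp hp
        exact (hsep i).isSeparable' (e x i)
    refine hQ.of_dvd (minpoly.dvd k x ?_)
    refine e.injective (funext fun i => ?_)
    rw [map_zero, Pi.zero_apply, ← Polynomial.aeval_algHom_apply, Polynomial.aeval_pi_apply]
    obtain ⟨c, hc⟩ := Finset.dvd_prod_of_mem (fun q : Polynomial k => q)
      (Finset.mem_image.mpr ⟨i, Finset.mem_univ i, rfl⟩ : minpoly k (e x i) ∈ s)
    simp only [show (∏ q ∈ s, q) = minpoly k (e x i) * c from hc, map_mul, minpoly.aeval, zero_mul]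
  · rintro ⟨hfin, hsep⟩
    refine ⟨?_⟩
    have hD : ∀ x : A, KaehlerDifferential.D k A x = 0 := fun x => by
      have h0 := congrArg (KaehlerDifferential.D k A) (minpoly.aeval k x)
      rw [map_zero, Derivation.map_aeval] at h0
      obtain ⟨a, b, hab⟩ := hsep.isSeparable' x
      have h1 := congrArg (Polynomial.aeval x) hab
      rw [map_add, map_mul, map_mul, minpoly.aeval, mul_zero, zero_add, map_one] at h1
      rw [← one_smul A (KaehlerDifferential.D k A x), ← h1, mul_smul, h0, smul_zero]
    refine subsingleton_of_forall_eq 0 fun z => ?_
    have hz : z ∈ Submodule.span A (Set.range (KaehlerDifferential.D k A)) :=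
      (KaehlerDifferential.span_range_derivation k A) ▸ trivial
    induction hz using Submodule.span_induction with
    | mem y hy => obtain ⟨x, rfl⟩ := hy; exact hD x
    | zero => rfl
    | add a b _ _ ha hb => rw [ha, hb, add_zero]
    | smul c a _ ha => rw [ha, smul_zero]

end Groth.Agent.S4998
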