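import Groth.Statements.S5026
import Groth.Agent.Lib.JacCrit.ResidueDiff
import Groth.Agent.Lib.Dim.LocalDim

set_option autoImplicit false
universe u
open Unram17

namespace Groth.Agent.S5026

/-- Let k be a field, A a k-algebra of finite type equipped with a k-algebra map from the polynomial
ring in n variables (images g_i of the variables), p a prime of A such that Spec A has local
dimension n at p, r the Krull dimension of the local ring A_p, and suppose g_i ∈ p for the indices i
< r. Then A is etale at p over the polynomial ring if and only if the images of the g_i with i < r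
generate the maximal ideal of A_p and the differentials of the residue classes of the g_i with i ≥ r
generate the module of differentials of the residue field κ(p) over k. (The published statement adds
that these conditions imply that A is smooth at p over k and that κ(p) is separable over k; this row
does not state that consequence.) -/
theorem result (k A : Type u) [Field k]
    [CommRing A] [Algebra k A] [Algebra.FiniteType k A] (n r : ℕ) [Algebra (MvPolynomial (Fin n) k) A]
    [IsScalarTower k (MvPolynomial (Fin n) k) A] (p : Ideal A) [p.IsPrime]
    (hn : FlatMor.localDim (PrimeSpectrum A) ⟨p, inferInstance⟩ = (n : WithBot ℕ∞))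
    (hr : ringKrullDim (Localization.AtPrime p) = (r : WithBot ℕ∞))
    (hg : ∀ i : Fin n, (i : ℕ) < r → algebraMap (MvPolynomial (Fin n) k) A (MvPolynomial.X i) ∈ p) :
    Algebra.IsEtaleAt (MvPolynomial (Fin n) k) p ↔
      Ideal.span ((fun i : Fin n =>
          algebraMap A (Localization.AtPrime p) (algebraMap (MvPolynomial (Fin n) k) A (MvPolynomial.X i))) ''
            {i : Fin n | (i : ℕ) < r}) = IsLocalRing.maximalIdeal (Localization.AtPrime p) ∧
        Submodule.span p.ResidueField ((fun i : Fin n =>
          KaehlerDifferential.D k p.ResidueField
            (IsLocalRing.residue (Localization.AtPrime p)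
              (algebraMap A (Localization.AtPrime p) (algebraMap (MvPolynomial (Fin n) k) A (MvPolynomial.X i))))) ''
            {i : Fin n | r ≤ (i : ℕ)}) = ⊤ := by
  have hn' : Groth.Agent.Lib.Dim.Local.dimAt k p = n := by
    rw [Groth.Agent.Lib.Dim.LocalDim.localDim_eq_dimAt k p] at hn
    exact_mod_cast hn
  haveI : Algebra.FormallyEtale A (Localization.AtPrime p) := .of_isLocalization p.primeCompl
  have hX : ∀ i : Fin n, algebraMap (MvPolynomial (Fin n) k) (Localization.AtPrime p) (MvPolynomial.X i) =
      algebraMap A (Localization.AtPrime p) (algebraMap (MvPolynomial (Fin n) k) A (MvPolynomial.X i)) :=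
    fun i => IsScalarTower.algebraMap_apply _ _ _ _
  constructor
  · intro h
    haveI : Algebra.FormallyEtale (MvPolynomial (Fin n) k) (Localization.AtPrime p) := h
    haveI : Algebra.FormallySmooth k (Localization.AtPrime p) :=
      .comp k (MvPolynomial (Fin n) k) _
    have h2 := Lib.JacCrit.EtaleBasis.bijective_iff.mp
      ((Lib.JacCrit.EtaleBasis.formallyEtale_iff_bijective k (MvPolynomial (Fin n) k)
        (Localization.AtPrime p)).mp inferInstance)
    simp only [hX] at h2
    exact Lib.JacCrit.ResidueDiff.adapted_of_basis k p hr _
      (fun i hi => (IsLocalization.AtPrime.to_map_mem_maximal_iff _ p _).mpr (hg i hi)) h2.1 h2.2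
  · intro h
    obtain ⟨hreg, hfs, hli, hsp⟩ := Lib.JacCrit.ResidueDiff.of_adapted k p hn' hr _ h
    haveI := hreg
    haveI := hfs
    haveI : Algebra.FormallySmooth k (Localization.AtPrime p) := Lib.JacCrit.Regular.isSmoothAt k p
    show Algebra.FormallyEtale (MvPolynomial (Fin n) k) (Localization.AtPrime p)
    refine (Lib.JacCrit.EtaleBasis.formallyEtale_iff_bijective k _ _).mpr
      (Lib.JacCrit.EtaleBasis.bijective_iff.mpr ?_)
    simp only [hX]
    exact ⟨hli, hsp⟩

end Groth.Agent.S5026
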