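import Groth.Statements.S5001
import Groth.Agent.S5026
import Groth.Agent.Lib.JacCrit.ResidueDiff
import Groth.Agent.Lib.Dim.LocalDim

set_option autoImplicit false
universe u
open Unram17

namespace Groth.Agent.S5001

/-- Let k be a field, A a k-algebra of finite type equipped with a k-algebra map from the polynomial
ring in n variables, with images g_i of the variables, and p a prime of A such that Spec A has local
dimension n at p, the residue field of p is a finite separable extension of k, and every g_i lies in
p. Then A is etale over the polynomial ring at p if and only if the images of the g_i generate the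
maximal ideal of the local ring A_p. -/
theorem result (k A : Type u) [Field k] [CommRing A] [Algebra k A]
    [Algebra.FiniteType k A] (n : ℕ) [Algebra (MvPolynomial (Fin n) k) A]
    [IsScalarTower k (MvPolynomial (Fin n) k) A] (p : Ideal A) [p.IsPrime]
    (hn : FlatMor.localDim (PrimeSpectrum A) ⟨p, inferInstance⟩ = (n : WithBot ℕ∞))
    [Module.Finite k p.ResidueField] [Algebra.IsSeparable k p.ResidueField]
    (hg : ∀ i : Fin n, algebraMap (MvPolynomial (Fin n) k) A (MvPolynomial.X i) ∈ p) :
    Algebra.IsEtaleAt (MvPolynomial (Fin n) k) p ↔
      Ideal.span (Set.range fun i : Fin n =>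
        algebraMap A (Localization.AtPrime p) (algebraMap (MvPolynomial (Fin n) k) A (MvPolynomial.X i))) =
        IsLocalRing.maximalIdeal (Localization.AtPrime p) := by
  have hn0 := hn
  rw [Groth.Agent.Lib.Dim.LocalDim.localDim_eq_dimAt k p] at hn0
  have hn1 : Groth.Agent.Lib.Dim.Local.dimAt k p = n := by exact_mod_cast hn0
  have h0 : Groth.Agent.Lib.Dim.Basic.dimQ k p = 0 := by
    have h := Lib.JacCrit.ResidueDiff.trdeg_residueField k p
    rw [trdeg_eq_zero (R := k) (A := p.ResidueField)] at h
    exact_mod_cast h.symm
  have hr : ringKrullDim (Localization.AtPrime p) = (n : WithBot ℕ∞) := by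
    have h := Groth.Agent.Lib.Dim.Local.ringKrullDim_localization k p
    rw [h0, hn1] at h
    simpa using h
  haveI : Algebra.FormallyUnramified k p.ResidueField :=
    Algebra.FormallyUnramified.of_isSeparable k p.ResidueField
  rw [Groth.Agent.S5026.result k A n n p hn hr fun i _ => hg i]
  have hu : {i : Fin n | (i : ℕ) < n} = Set.univ := Set.eq_univ_of_forall fun i => i.2
  rw [hu, Set.image_univ]
  exact and_iff_left (Subsingleton.elim _ _)

end Groth.Agent.S5001
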