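import Groth.Statements.S5003
import Groth.Agent.H26.RegQuasi


set_option autoImplicit false
universe u
open CategoryTheory CategoryTheory.Limits AlgebraicGeometry TopologicalSpace
open Nrm16

namespace Groth.Agent.S5003

/-- Let X be a locally Noetherian scheme and j : Y ⟶ X a morphism. Then j is a regular immersion if and
only if j is a quasi-regular immersion. -/
theorem result {X Y : Scheme.{u}} [IsLocallyNoetherian X] (j : Y ⟶ X) :
    RegImm.IsRegularImmersion RegImm.Kind.regular j ↔ RegImm.IsRegularImmersion RegImm.Kind.quasi j := by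
  constructor
  · rintro ⟨hi, h⟩
    refine ⟨hi, fun z => ?_⟩
    obtain ⟨U, hzU, hcl, rs, hrs, hker⟩ := h z
    exact ⟨U, hzU, hcl, rs, Groth.Agent.H26.H1Quasi.isQuasiRegular
      (Groth.Agent.H26.RegKinds.h1_of_koszul rs (Groth.Agent.H26.RegKinds.koszul_of_regular rs hrs)), hker⟩
  · rintro ⟨hi, h⟩
    exact ⟨hi, fun z => Groth.Agent.H26.RegQuasi.regular_of_quasi j z (h z)⟩

end Groth.Agent.S5003
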