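import Groth.Statements.S5004
import Groth.Agent.H26.RegQuasi


set_option autoImplicit false
universe u
open CategoryTheory CategoryTheory.Limits AlgebraicGeometry TopologicalSpace
open Nrm16

namespace Groth.Agent.S5004

/-- On a locally Noetherian scheme, every quasi-regular (quasi-coherent) ideal sheaf is a regular ideal
sheaf. -/
theorem result {X : Scheme.{u}} [IsLocallyNoetherian X] (I : X.IdealSheafData)
    (h : RegImm.IsRegularIdeal RegImm.Kind.quasi I) : RegImm.IsRegularIdeal RegImm.Kind.regular I := by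
  intro x hx
  rw [← SetLike.mem_coe, ← I.range_subschemeι] at hx
  obtain ⟨z, rfl⟩ := hx
  obtain ⟨U, hzU, rs, hrs, hI⟩ := h _ (by rw [← SetLike.mem_coe, ← I.range_subschemeι]; exact ⟨z, rfl⟩)
  have hq : RegImm.IsRegularImmersionAt .quasi I.subschemeι z :=
    ⟨U, hzU, IsZariskiLocalAtTarget.restrict (inferInstance : IsClosedImmersion I.subschemeι) _, rs, hrs, by rw [I.ker_subschemeι_app, hI]⟩
  obtain ⟨V, hzV, -, fs, hfs, hker⟩ := Groth.Agent.H26.RegQuasi.regular_of_quasi I.subschemeι z hq
  exact ⟨V, hzV, fs, hfs, by rw [← hker, I.ker_subschemeι_app]⟩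

end Groth.Agent.S5004
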