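import Groth.Statements.S5006
import Mathlib.Tactic.LinearCombination


set_option autoImplicit false
universe u
open Nrm16

namespace Groth.Agent.S5006

/-- Let A be a commutative ring, I a finitely generated ideal and p a prime ideal containing I. Then
some basic open neighbourhood of p in Spec A is contained in the closed set V(I) (so that V(I) ⟶
Spec A is a local homeomorphism onto an open set near p) if and only if there is an integer n > 0
with I^n A_p = I^(n+1) A_p in the local ring at p. Affine form. -/
theorem result (A : Type u) [CommRing A] (I : Ideal A) (hI : I.FG)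
    (p : Ideal A) [p.IsPrime] (hp : I ≤ p) :
    (∃ f : A, f ∉ p ∧ ∀ q : Ideal A, q.IsPrime → f ∉ q → I ≤ q) ↔
      ∃ n : ℕ, 0 < n ∧
        (I ^ n).map (algebraMap A (Localization.AtPrime p)) =
          (I ^ (n + 1)).map (algebraMap A (Localization.AtPrime p)) := by
  constructor
  · rintro ⟨f, hfp, hf⟩
    have hrad : ∀ a ∈ I, IsNilpotent (a * f) := fun a ha => by
      rw [← mem_nilradical, nilradical_eq_sInf, Submodule.mem_sInf]
      intro q hq
      by_cases hfq : f ∈ q
      · exact Ideal.mul_mem_left q _ hfq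
      · exact Ideal.mul_mem_right _ q (hf q hq hfq ha)
    have hnil : I.map (algebraMap A (Localization.AtPrime p)) ≤ nilradical _ := by
      rw [Ideal.map_le_iff_le_comap]
      intro a ha
      rw [Ideal.mem_comap, mem_nilradical]
      obtain ⟨m, hm⟩ := hrad a ha
      refine ⟨m, ?_⟩
      have h2 := congrArg (algebraMap A (Localization.AtPrime p)) hm
      rw [map_pow, map_mul, map_zero, mul_pow] at h2
      exact ((IsLocalization.map_units (Localization.AtPrime p) (⟨f, hfp⟩ : p.primeCompl)).pow m).mul_left_eq_zero.mp h2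
    obtain ⟨n, hn⟩ := Ideal.exists_pow_le_of_le_radical_of_fg hnil (hI.map _)
    refine ⟨n + 1, n.succ_pos, ?_⟩
    have h0 : ∀ m, n ≤ m → (I ^ m).map (algebraMap A (Localization.AtPrime p)) = ⊥ := fun m hm => by
      rw [Ideal.map_pow, eq_bot_iff]
      exact (Ideal.pow_le_pow_right hm).trans hn
    rw [h0 _ n.le_succ, h0 _ (by omega)]
  · rintro ⟨n, hn, e⟩
    let L := Localization.AtPrime p
    have hfg : (I ^ n).FG := hI.pow
    have h0 : (I ^ n).map (algebraMap A L) = ⊥ := by
      refine Submodule.eq_bot_of_le_smul_of_le_jacobson_bot (I.map (algebraMap A L)) _ (hfg.map _) ?_ ?_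
      · rw [smul_eq_mul, ← Ideal.map_mul, ← pow_succ', ← e]
      · refine le_trans ?_ (IsLocalRing.maximalIdeal_le_jacobson ⊥)
        rw [← Localization.AtPrime.map_eq_maximalIdeal]
        exact Ideal.map_mono hp
    obtain ⟨s, hs⟩ := hfg
    have hex : ∀ a ∈ s, ∃ g : p.primeCompl, (g : A) * a = 0 := fun a ha =>
      (IsLocalization.map_eq_zero_iff p.primeCompl L a).mp
        (by rw [← Ideal.mem_bot, ← h0]; exact Ideal.mem_map_of_mem _ (hs ▸ Ideal.subset_span ha))
    choose g hg using hex
    classical
    refine ⟨∏ a ∈ s.attach, (g a.1 a.2 : A), ?_, fun q hq hfq => hq.le_of_pow_le (n := n) ?_⟩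
    · exact fun h => by
        obtain ⟨a, -, ha⟩ := (‹p.IsPrime›.prod_mem_iff).mp h
        exact (g a.1 a.2).2 ha
    · rw [← hs, Ideal.span_le]
      intro a ha
      have h1 : (∏ b ∈ s.attach, (g b.1 b.2 : A)) * a = 0 := by
        rw [← Finset.mul_prod_erase _ _ (s.mem_attach ⟨a, ha⟩)]
        have := hg a ha
        linear_combination (∏ b ∈ s.attach.erase ⟨a, ha⟩, (g b.1 b.2 : A)) * this
      exact (hq.mem_or_mem (h1 ▸ q.zero_mem)).resolve_left hfq

end Groth.Agent.S5006
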