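import Groth.Statements.S5010
import Groth.Agent.Lib.PP16.Basic
import Mathlib.RingTheory.Kaehler.Polynomial
import Mathlib.RingTheory.Smooth.Basic
import Mathlib.RingTheory.Localization.Module
import Mathlib.RingTheory.Etale.Kaehler

set_option autoImplicit false
universe u
open PP16

namespace Groth.Agent.S5010

/-- Let k be a field and K the field of fractions of the polynomial ring k[T_1, ..., T_r]. For every n,
the K-algebra map from the polynomial ring K[U_1, ..., U_r] to the ring of principal parts of order
n of K over k (a K-algebra through the first factor) that sends U_i to d^n(T_i) − T_i · 1 is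
surjective, and its kernel is the (n+1)-st power of the ideal generated by the U_i. -/
theorem result (k : Type u) [Field k] (r n : ℕ) :
    Function.Surjective
        (MvPolynomial.aeval (R := FractionRing (MvPolynomial (Fin r) k))
          (S₁ := PP16.P n k (FractionRing (MvPolynomial (Fin r) k)))
          (fun i : Fin r =>
            PP16.dn n k (FractionRing (MvPolynomial (Fin r) k))
                (algebraMap (MvPolynomial (Fin r) k) (FractionRing (MvPolynomial (Fin r) k)) (MvPolynomial.X i)) -
              algebraMap (FractionRing (MvPolynomial (Fin r) k)) (PP16.P n k (FractionRing (MvPolynomial (Fin r) k)))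
                (algebraMap (MvPolynomial (Fin r) k) (FractionRing (MvPolynomial (Fin r) k)) (MvPolynomial.X i)))) ∧
      RingHom.ker
          (MvPolynomial.aeval (R := FractionRing (MvPolynomial (Fin r) k))
            (S₁ := PP16.P n k (FractionRing (MvPolynomial (Fin r) k)))
            (fun i : Fin r =>
              PP16.dn n k (FractionRing (MvPolynomial (Fin r) k))
                  (algebraMap (MvPolynomial (Fin r) k) (FractionRing (MvPolynomial (Fin r) k)) (MvPolynomial.X i)) -
                algebraMap (FractionRing (MvPolynomial (Fin r) k)) (PP16.P n k (FractionRing (MvPolynomial (Fin r) k)))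
                  (algebraMap (MvPolynomial (Fin r) k) (FractionRing (MvPolynomial (Fin r) k)) (MvPolynomial.X i)))).toRingHom =
        (Ideal.span (Set.range (MvPolynomial.X : Fin r → MvPolynomial (Fin r) (FractionRing (MvPolynomial (Fin r) k))))) ^ (n + 1) := by
  haveI : Algebra.FormallySmooth k (FractionRing (MvPolynomial (Fin r) k)) :=
    haveI : Algebra.FormallySmooth (MvPolynomial (Fin r) k) (FractionRing (MvPolynomial (Fin r) k)) :=
      Algebra.FormallySmooth.of_isLocalization (nonZeroDivisors (MvPolynomial (Fin r) k))
    Algebra.FormallySmooth.comp k (MvPolynomial (Fin r) k) _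
  let K := FractionRing (MvPolynomial (Fin r) k)
  let z : Fin r → K := fun i => algebraMap (MvPolynomial (Fin r) k) K (MvPolynomial.X i)
  let bs : Module.Basis (Fin r) K (KaehlerDifferential k K) :=
    (KaehlerDifferential.mvPolynomialBasis k (Fin r)).ofIsLocalizedModule K
      (nonZeroDivisors (MvPolynomial (Fin r) k))
      (KaehlerDifferential.map k k (MvPolynomial (Fin r) k) K)
  have hbs : ∀ i, bs i = KaehlerDifferential.D k K (z i) := fun i => by
    simp only [bs, Module.Basis.ofIsLocalizedModule_apply,
      KaehlerDifferential.mvPolynomialBasis_apply, KaehlerDifferential.map_D]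
    rfl
  have hspan := Lib.DiffOp.Coordinates.span_eq_top_of_basis bs hbs
  have hcomp : (MvPolynomial.aeval (R := K) (S₁ := PP16.P n k K)
      (fun i => PP16.dn n k K (z i) - algebraMap K (PP16.P n k K) (z i))) =
      (Ideal.Quotient.mkₐ K _).comp (MvPolynomial.aeval (Lib.DiffOp.Coordinates.xi k z)) := by
    refine MvPolynomial.algHom_ext fun i => ?_
    rw [MvPolynomial.aeval_X, AlgHom.comp_apply, MvPolynomial.aeval_X]
    rfl
  have happ := fun p => AlgHom.congr_fun hcomp p
  refine ⟨fun y => ?_, SetLike.ext fun p => ?_⟩
  · obtain ⟨y, rfl⟩ := Ideal.Quotient.mk_surjective y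
    obtain ⟨p, hp⟩ := Lib.DiffOp.Coordinates.exists_poly hspan (n + 1) y
    exact ⟨p, (happ p).trans (Ideal.Quotient.eq.2 hp).symm⟩
  · refine (RingHom.mem_ker.trans ?_)
    change _ ↔ p ∈ MvPolynomial.idealOfVars (Fin r) K ^ (n + 1)
    exact ⟨fun h => Lib.DiffOp.Coordinates.mem_of_aeval_mem bs hbs
        (Ideal.Quotient.eq_zero_iff_mem.1 ((happ p).symm.trans h)),
      fun h => (happ p).trans
        (Ideal.Quotient.eq_zero_iff_mem.2 (Lib.DiffOp.Coordinates.aeval_xi_mem h))⟩

end Groth.Agent.S5010
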