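import Groth.Statements.S5012
import Groth.Agent.Lib.JacCrit.FieldGeom
import Groth.Agent.Lib.JacCrit.Minimal

set_option autoImplicit false
universe u
open Unram17

namespace Groth.Agent.S5012

/-- Let A be an algebra of finite type over a field k. Then Spec A has a dense open subset consisting of
points at which A is smooth over k if and only if, for every minimal prime p of A, the local ring
A_p is geometrically reduced over k (that is, A_p is a field and a separable extension of k). -/
theorem result (k A : Type u) [Field k] [CommRing A] [Algebra k A]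
    [Algebra.FiniteType k A] :
    (∃ U : TopologicalSpace.Opens (PrimeSpectrum A), Dense (U : Set (PrimeSpectrum A)) ∧
        ∀ p ∈ U, Algebra.IsSmoothAt k p.asIdeal) ↔
      ∀ (p : Ideal A) [p.IsPrime], p ∈ minimalPrimes A →
        Algebra.IsGeometricallyReduced k (Localization.AtPrime p) := by
  classical
  haveI : IsNoetherianRing A := Algebra.FiniteType.isNoetherianRing k A
  haveI : Algebra.FinitePresentation k A := Algebra.FinitePresentation.of_finiteType.mp ‹_›
  have hess : ∀ (p : Ideal A) [p.IsPrime], Algebra.EssFiniteType k (Localization.AtPrime p) := fun p _ =>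
    haveI : Algebra.EssFiniteType A (Localization.AtPrime p) := .of_isLocalization _ p.primeCompl
    .comp k A _
  have hfield : ∀ (p : Ideal A) [p.IsPrime], p ∈ minimalPrimes A → IsReduced (Localization.AtPrime p) →
      IsField (Localization.AtPrime p) := fun p _ hp hr => by
    haveI : IsNoetherianRing (Localization.AtPrime p) :=
      IsLocalization.isNoetherianRing p.primeCompl _ inferInstance
    haveI : Ring.KrullDimLE 0 (Localization.AtPrime p) := by
      rw [Ring.krullDimLE_iff, IsLocalization.AtPrime.ringKrullDim_eq_height p,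
        Ideal.height_eq_zero_iff.mpr hp]
      exact le_rfl
    haveI : IsArtinianRing (Localization.AtPrime p) := isArtinianRing_iff_krullDimLE_zero.mpr ‹_›
    exact IsArtinianRing.isField_of_isReduced_of_isLocalRing _
  constructor
  · rintro ⟨U, hU, hs⟩ p hpp hp
    obtain ⟨q, hqU, hpq⟩ : ∃ q ∈ U, p ≤ q.asIdeal := by
      choose e he1 he2 using fun m : {m : Ideal A // m ∈ minimalPrimes A ∧ m ≠ p} =>
        SetLike.not_le_iff_exists.mp (fun hle => m.2.2 (le_antisymm hle (hp.2 m.2.1.1 hle)))
      haveI : Fintype {m : Ideal A // m ∈ minimalPrimes A ∧ m ≠ p} :=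
        ((minimalPrimes.finite_of_isNoetherianRing A).subset fun m hm => hm.1).fintype
      have hg : ∏ m, e m ∉ p := fun hmem => by
        obtain ⟨m, -, hm⟩ := (Ideal.IsPrime.prod_mem_iff).mp hmem
        exact he2 m hm
      obtain ⟨q, hq, hqg⟩ := hU.exists_mem_open (PrimeSpectrum.basicOpen (∏ m, e m)).isOpen
        ⟨⟨p, inferInstance⟩, hg⟩
      obtain ⟨m, hm, hmq⟩ := Ideal.exists_minimalPrimes_le (bot_le (a := q.asIdeal))
      refine ⟨q, hq, ?_⟩
      by_contra hpq
      have hne : m ≠ p := fun h => hpq (h ▸ hmq)
      exact hqg (Ideal.mem_of_dvd _ (Finset.dvd_prod_of_mem e (Finset.mem_univ ⟨m, hm, hne⟩))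
        (hmq (he1 ⟨m, hm, hne⟩)))
    haveI := hs ⟨p, inferInstance⟩ (U.isOpen.stableUnderGeneralization
      ((PrimeSpectrum.le_iff_specializes (⟨p, inferInstance⟩ : PrimeSpectrum A) q).mp hpq) hqU)
    haveI := hess p
    haveI : Algebra.IsSmoothAt k p := ‹Algebra.IsSmoothAt k p›
    haveI : Algebra.FormallySmooth k (Localization.AtPrime p) := ‹Algebra.IsSmoothAt k p›
    haveI := Lib.JacCrit.RegularOfSmooth.isRegularLocalRing k p
    haveI := Lib.Regular.Quotient.isDomain (Localization.AtPrime p)
    letI := (hfield p hp (inferInstance : IsReduced (Localization.AtPrime p))).toField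
    exact Lib.JacCrit.FieldGeom.isGeometricallyReduced k (Localization.AtPrime p)
  · intro h
    refine ⟨⟨Algebra.smoothLocus k A, Algebra.isOpen_smoothLocus⟩, ?_, fun p hp => hp⟩
    rw [dense_iff_inter_open]
    rintro V hV ⟨q, hq⟩
    obtain ⟨p, hp, hpq⟩ := Ideal.exists_minimalPrimes_le (bot_le (a := q.asIdeal))
    haveI := hp.1.1
    haveI := h p hp
    haveI := hess p
    refine ⟨⟨p, inferInstance⟩, hV.stableUnderGeneralization
      ((PrimeSpectrum.le_iff_specializes (⟨p, inferInstance⟩ : PrimeSpectrum A) q).mp hpq) hq, ?_⟩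
    letI := (hfield p hp (Algebra.isReduced_of_isGeometricallyReduced (k := k))).toField
    exact Lib.JacCrit.FieldGeom.formallySmooth k (Localization.AtPrime p)

end Groth.Agent.S5012
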