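import Groth.Statements.S5013
import Groth.Agent.H68.SmoothCrit
import Groth.Agent.S2595
import Groth.Agent.H46.Equidim
import Groth.Agent.H46.UnibranchCrit

set_option autoImplicit false
universe u
open CategoryTheory CategoryTheory.Limits AlgebraicGeometry TopologicalSpace
open Unram17

namespace Groth.Agent.S5013

/-- Let Y be locally Noetherian, f : X ⟶ Y locally of finite type, x a point of X with image y, and
suppose the local ring of Y at y is reduced and geometrically unibranch. Then f is smooth on an open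
neighbourhood of x if and only if f is equidimensional at x and the local ring of the fibre at x
(the quotient of the local ring of X at x by the extension of the maximal ideal at y) is
geometrically regular over the residue field κ(y). -/
theorem result {X Y : Scheme.{u}} (f : X ⟶ Y)
    [IsLocallyNoetherian Y] [LocallyOfFiniteType f] (x : ↥X)
    (hred : IsReduced ↑(Y.presheaf.stalk (f.base x)))
    (hgu : CAlg2.IsGeomUnibranch ↑(Y.presheaf.stalk (f.base x))) :
    letI φ := (f.stalkMap x).hom
    letI 𝔪 := IsLocalRing.maximalIdeal ↑(Y.presheaf.stalk (f.base x))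
    letI : Algebra (IsLocalRing.ResidueField ↑(Y.presheaf.stalk (f.base x))) (↑(X.presheaf.stalk x) ⧸ 𝔪.map φ) :=
      (Ideal.quotientMap (𝔪.map φ) φ Ideal.le_comap_map).toAlgebra
    (∃ U : X.Opens, x ∈ U ∧ Smooth (U.ι ≫ f)) ↔
      EGA43.IsEquidimAt f x ∧
        CAlg.IsGeometricallyRegular (IsLocalRing.ResidueField ↑(Y.presheaf.stalk (f.base x)))
          (↑(X.presheaf.stalk x) ⧸ 𝔪.map φ) := by
  letI φ := (f.stalkMap x).hom
  letI 𝔪 := IsLocalRing.maximalIdeal ↑(Y.presheaf.stalk (f.base x))
  letI : Algebra (IsLocalRing.ResidueField ↑(Y.presheaf.stalk (f.base x))) (↑(X.presheaf.stalk x) ⧸ 𝔪.map φ) :=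
    (Ideal.quotientMap (𝔪.map φ) φ Ideal.le_comap_map).toAlgebra
  constructor
  · intro h
    obtain ⟨h1, h2, h3⟩ := H68.SmoothCrit.flat_and_geometricallyRegular_of_smooth f h
    refine ⟨S2595.result f x h1 ?_, h2⟩
    haveI := h3
    haveI : IsRegularLocalRing ((f.fiber (f.base x)).presheaf.stalk (f.asFiber x)) :=
      IsRegularLocalRing.of_ringEquiv (H46.FiberStalk.quotientEquiv f x)
    exact Lib.JacCrit.FlatRegular.isCohenMacaulayLocalRing _
  · rintro ⟨hequi, hreg⟩
    refine H68.SmoothCrit.smooth_of_isUnivOpenAt f hred hreg fun z hz hzx => ?_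
    have hz' : EGA43.IsEquidimAt f z := by
      obtain ⟨e, U, hxU, h1, h2⟩ := hequi
      refine ⟨e, U, hzx.mem_open U.2 hxU, fun Z hZ => ?_, h2⟩
      obtain ⟨W, hW, hxW, hWZ⟩ := h1 Z hZ
      exact ⟨W, hW, hz.symm ▸ hxW, hWZ⟩
    obtain ⟨ξ, -, hξz, hfξ, hle⟩ := H46.Equidim.exists_component_of_isEquidimAt f z hz'
    exact H46.UnibranchCrit.isUnivOpenAt_of_component f hξz hfξ (by rw [hz]; exact hgu) hle

end Groth.Agent.S5013
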