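import Groth.Statements.S5029
import Groth.Agent.Lib.SymAlg.Affine
import Groth.Agent.Lib.Smoothing.SymSmooth
import Groth.Agent.Lib.Modules.AffineSections

set_option autoImplicit false
universe u
open CategoryTheory CategoryTheory.Limits AlgebraicGeometry TopologicalSpace
open Unram17

namespace Groth.Agent.S5029

/-- Let S be a scheme and E a quasi-coherent O_S-module that is finite locally free. If A is a
quasi-coherent O_S-algebra which is the symmetric algebra of E (through j : E ⟶ A), then the
structure morphism of the relative spectrum of A, i.e. of the vector bundle V(E), is smooth. -/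
theorem result {S : Scheme.{u}} (E : S.Modules) (hE : Coh.IsQCoh E)
    (hlf : FlatMod.IsFinLocFree E) (A : RelSpec.QCAlg S) (j : E ⟶ A.toModule) (hA : RelSpec.IsSymAlg E A j) :
    Smooth A.π := by
  haveI : E.IsQuasicoherent := hE
  refine Groth.Agent.Lib.SymAlg.Affine.of_str (P := @Smooth) A fun U hU => ?_
  letI := Groth.Agent.Lib.SymAlg.Unique.algInst A U
  have hs := Groth.Agent.Lib.SymAlg.Unique.isSymmetricAlgebra hA hU
  obtain ⟨hfin, hproj⟩ := Groth.Agent.Lib.Modules.AffineSections.finite_projective_sections hlf hU
  obtain ⟨n, π, hπ⟩ := Module.Finite.exists_fin' Γ(S, U) Γ(E, U)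
  obtain ⟨s, hs'⟩ := Module.projective_lifting_property π LinearMap.id hπ
  have := Groth.Agent.Lib.Smoothing.SymSmooth.smooth s π hs'
  exact (RingHom.smooth_algebraMap).2 (Algebra.Smooth.of_equiv hs.equiv)

end Groth.Agent.S5029
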