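import Groth.Statements.S5034
import Groth.Agent.Lib.Henselian.Finite

set_option autoImplicit false
universe u
open Hensel

namespace Groth.Agent.S5034

/-- a') implies a): let R be a local ring such that for every monic polynomial F over R the quotient
ring R[T]/(F) is isomorphic, as a ring, to a finite product of local rings. Then R is henselian. -/
theorem result (R : Type u) [CommRing R] [IsLocalRing R]
    (h : ∀ F : Polynomial R, F.Monic →
      ∃ (ι : Type u) (_ : Fintype ι) (A : ι → Type u) (_ : ∀ i, CommRing (A i)),
        (∀ i, IsLocalRing (A i)) ∧ Nonempty (AdjoinRoot F ≃+* (∀ i, A i))) :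
    HenselianLocalRing R := by
  rw [Groth.Agent.Lib.Henselian.LocalRing.henselianLocalRing_iff_henselianRing]
  refine Groth.Agent.Lib.Henselian.Finite.henselianRing_of_adjoinRoot_surjOn _
    (IsLocalRing.maximalIdeal_le_jacobson ⊥) fun m p hp _ => ?_
  obtain ⟨ι, _, C, _, _, ⟨φ⟩⟩ := h p hp
  exact Groth.Agent.Lib.Henselian.Finite.surjOn_of_ringEquiv_pi φ _

end Groth.Agent.S5034
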