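import Groth.Statements.S5035
import Groth.Agent.Lib.Henselian.QuasiFinite

set_option autoImplicit false
universe u
open Hensel

namespace Groth.Agent.S5035

/-- a) iff c') (affine form): a local ring R is henselian if and only if, for every R-algebra S of
finite type and every prime q of S lying over the maximal ideal of R such that S is quasi-finite
over R at q, the local ring S_q is a finitely generated R-module. -/
theorem result (R : Type u) [CommRing R] [IsLocalRing R] :
    HenselianLocalRing R ↔
      ∀ (S : Type u) [CommRing S] [Algebra R S] [Algebra.FiniteType R S] (q : Ideal S) [q.IsPrime],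
        q.LiesOver (IsLocalRing.maximalIdeal R) → Algebra.QuasiFiniteAt R q →
          Module.Finite R (Localization.AtPrime q) := by
  refine ⟨fun hR S _ _ _ q _ hlo hqf => ?_, fun h => ?_⟩
  · obtain ⟨e, he, heq, hfin⟩ :=
      Groth.Agent.Lib.Henselian.QuasiFinite.exists_idempotent_of_quasiFiniteAt (R := R) q
    let J := Ideal.span ({1 - e} : Set S)
    have hJq : J ≤ q := by
      rw [Ideal.span_le, Set.singleton_subset_iff]
      refine (Ideal.IsPrime.mem_or_mem ‹q.IsPrime› (x := e) ?_).resolve_left heq
      rw [mul_sub, mul_one, he.eq, sub_self]; exact zero_mem _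
    let n := q.map (Ideal.Quotient.mk J)
    have hn : n.IsPrime :=
      Ideal.map_isPrime_of_surjective Ideal.Quotient.mk_surjective (by rw [Ideal.mk_ker]; exact hJq)
    have hcomap : n.comap (Ideal.Quotient.mk J) = q := by
      rw [Ideal.comap_map_of_surjective _ Ideal.Quotient.mk_surjective, ← RingHom.ker_eq_comap_bot,
        Ideal.mk_ker, sup_eq_left.mpr hJq]
    have hnm : n.IsMaximal := by
      refine Ideal.isMaximal_of_isIntegral_of_isMaximal_comap (R := R) n ?_
      rw [show n.comap (algebraMap R (S ⧸ J)) = IsLocalRing.maximalIdeal R by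
        rw [hlo.over, Ideal.under_def, ← hcomap, Ideal.comap_comap]; rfl]
      infer_instance
    have hπ := Groth.Agent.Lib.Henselian.Finite.toPiLocalization_bijective (A := R) (B := S ⧸ J)
    have hg : J ≤ RingHom.ker (algebraMap S (Localization.AtPrime q)) := by
      rw [Ideal.span_le, Set.singleton_subset_iff, SetLike.mem_coe, RingHom.mem_ker, map_sub, map_one,
        IsIdempotentElem.iff_eq_one_of_isUnit (IsLocalization.map_units _ (⟨e, heq⟩ : q.primeCompl))
          |>.mp (he.map _), sub_self]
    let g : (S ⧸ J) →ₐ[R] Localization.AtPrime q :=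
      Ideal.Quotient.liftₐ J (IsScalarTower.toAlgHom R S _) fun a ha => hg ha
    refine Module.Finite.of_surjective g.toLinearMap fun y => ?_
    obtain ⟨x, ⟨s, hs⟩, rfl⟩ := IsLocalization.exists_mk'_eq q.primeCompl y
    have hsn : Ideal.Quotient.mk J s ∈ n.primeCompl := fun h' => hs (hcomap ▸ h')
    classical
    obtain ⟨t, ht⟩ := hπ.2 (Pi.single (⟨n, hnm⟩ : MaximalSpectrum (S ⧸ J))
      (IsLocalization.mk' (Localization.AtPrime n) (1 : S ⧸ J) ⟨Ideal.Quotient.mk J s, hsn⟩))
    have ht' := congrFun ht ⟨n, hnm⟩
    rw [MaximalSpectrum.toPiLocalization_apply_apply, Pi.single_eq_same,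
      IsLocalization.eq_mk'_iff_mul_eq, ← map_mul] at ht'
    obtain ⟨⟨u, hu⟩, hu'⟩ := (IsLocalization.eq_iff_exists n.primeCompl _).mp ht'
    obtain ⟨u, rfl⟩ := Ideal.Quotient.mk_surjective u
    refine ⟨Ideal.Quotient.mk J x * t, ?_⟩
    show g (Ideal.Quotient.mk J x * t) = _
    rw [IsLocalization.eq_mk'_iff_mul_eq, map_mul]
    have huq : IsUnit (algebraMap S (Localization.AtPrime q) u) :=
      IsLocalization.map_units _ (⟨u, fun h' => hu (Ideal.mem_map_of_mem _ h')⟩ : q.primeCompl)
    have h1 := congrArg g hu'
    simp only [map_mul, mul_one] at h1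
    change algebraMap S _ u * (g t * algebraMap S _ s) = algebraMap S _ u at h1
    have h2 : g t * algebraMap S (Localization.AtPrime q) s = 1 :=
      huq.mul_left_cancel (h1.trans (mul_one _).symm)
    show algebraMap S _ x * g t * algebraMap S _ s = algebraMap S _ x
    rw [mul_assoc, h2, mul_one]
  · rw [Groth.Agent.Lib.Henselian.LocalRing.henselianLocalRing_iff_henselianRing]
    refine Groth.Agent.Lib.Henselian.Finite.henselianRing_of_adjoinRoot_surjOn _
      (IsLocalRing.maximalIdeal_le_jacobson ⊥) fun m p hp _ => ?_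
    have := hp.finite_adjoinRoot
    have hb := Groth.Agent.Lib.Henselian.QuasiFinite.toPiLocalization_bijective_of_finite_localizations
      (R := R) (S := AdjoinRoot p) fun n =>
        have hlo : n.asIdeal.LiesOver (IsLocalRing.maximalIdeal R) :=
          ⟨(IsLocalRing.eq_maximalIdeal
            (Ideal.isMaximal_comap_of_isIntegral_of_isMaximal n.asIdeal)).symm⟩
        h (AdjoinRoot p) n.asIdeal hlo inferInstance
    exact Groth.Agent.Lib.Henselian.Finite.surjOn_of_ringEquiv_pi (RingEquiv.ofBijective _ hb) _

end Groth.Agent.S5035
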