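import Groth.Statements.S5036
import Groth.Agent.Lib.Henselian.CoupleSections
import Groth.Agent.S0385
import Groth.Agent.Lib.Unram.FibreCount

set_option autoImplicit false
open CategoryTheory CategoryTheory.Limits AlgebraicGeometry
universe u
open Hensel

namespace Groth.Agent.S5036

/-- a) implies b): let S be a quasi-compact quasi-separated scheme and i : S₀ ⟶ S a closed immersion.
Suppose that for every finite morphism g : S' ⟶ S, every open-closed subset of S' ×_S S₀ is the
inverse image under the first projection of exactly one open-closed subset of S'. Then for every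
étale separated morphism g : S' ⟶ S and every section u₀ of S' ×_S S₀ ⟶ S₀ there is exactly one
section u of g whose restriction to S₀ is u₀ (that is, i ≫ u = u₀ followed by the first projection). -/
theorem result {S S₀ : Scheme.{u}} (i : S₀ ⟶ S) [IsClosedImmersion i]
    [CompactSpace ↥S] [QuasiSeparatedSpace ↥S]
    (ha : ∀ (S' : Scheme.{u}) (g : S' ⟶ S), IsFinite g →
      ∀ V : Set ↥(pullback g i), IsClopen V → ∃! U : Set ↥S', IsClopen U ∧ (pullback.fst g i).base ⁻¹' U = V)
    {S' : Scheme.{u}} (g : S' ⟶ S) [Etale g] [IsSeparated g]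
    (u₀ : S₀ ⟶ pullback g i) (hu₀ : u₀ ≫ pullback.snd g i = 𝟙 S₀) :
    ∃! u : S ⟶ S', u ≫ g = 𝟙 S ∧ i ≫ u = u₀ ≫ pullback.fst g i := by
  have : LocallyQuasiFinite g := Groth.Agent.Lib.Unram.FibreCount.locallyQuasiFinite_of_etale g
  have : CompactSpace ↥S₀ := QuasiCompact.compactSpace_of_compactSpace i
  let w := u₀ ≫ pullback.fst g i
  have hw : IsCompact (Set.range w.base) := isCompact_range w.continuous
  obtain ⟨U, hUc, hwU⟩ : ∃ U : S'.Opens, IsCompact (U : Set ↥S') ∧ Set.range w.base ⊆ U := by
    obtain ⟨T, hT⟩ := hw.elim_finite_subcover (fun V : S'.affineOpens => (V.1 : Set ↥S'))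
      (fun V => V.1.2) (fun x _ => by
        obtain ⟨V, hV, hxV, -⟩ := exists_isAffineOpen_mem_and_subset (show x ∈ (⊤ : S'.Opens) from trivial)
        exact Set.mem_iUnion.mpr ⟨⟨V, hV⟩, hxV⟩)
    refine ⟨⨆ V ∈ T, V.1, ?_, fun x hx => by simpa using hT hx⟩
    simp only [TopologicalSpace.Opens.coe_iSup]
    exact T.finite_toSet.isCompact_biUnion fun V _ => V.2.isCompact
  have : CompactSpace ↥U.toScheme := isCompact_iff_compactSpace.mp hUc
  let h := U.ι ≫ g
  have : QuasiCompact h := quasiCompact_of_compactSpace h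
  obtain ⟨T, j, π, hj, -, hπ, hjπ⟩ := Groth.Agent.S0385.result h
  let t := IsOpenImmersion.lift U.ι w (by rw [Scheme.Opens.range_ι]; exact hwU)
  have ht : t ≫ U.ι = w := IsOpenImmersion.lift_fac _ _ _
  have hw2 : w ≫ g = i := by
    rw [Category.assoc, pullback.condition, ← Category.assoc, hu₀, Category.id_comp]
  let v₀ : S₀ ⟶ pullback h i := pullback.lift t (𝟙 _) (by rw [← Category.assoc, ht, hw2, Category.id_comp])
  obtain ⟨u, ⟨hu, hiu⟩, -⟩ := Groth.Agent.Lib.Henselian.CoupleSections.existsUnique_section_of_openImmersion_finite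
    i ha h j π hjπ v₀ (pullback.lift_snd _ _ _)
  refine ⟨u ≫ U.ι, ⟨by rw [Category.assoc]; exact hu, ?_⟩, fun u' hu' => ?_⟩
  · rw [← Category.assoc, hiu, Category.assoc, ← Category.assoc v₀, pullback.lift_fst, ht]
  · refine Groth.Agent.Lib.Henselian.CoupleSections.section_unique i ha g u' _ hu'.1 (by rw [Category.assoc]; exact hu) ?_
    rw [hu'.2, ← Category.assoc i u, hiu, Category.assoc, ← Category.assoc v₀, pullback.lift_fst, ht]

end Groth.Agent.S5036
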