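import Groth.Statements.S5037
import Groth.Statements.S5037
import Groth.Agent.Lib.WeilRep.Etale
import Groth.Agent.Lib.FEt.Coproduct

set_option autoImplicit false
open CategoryTheory CategoryTheory.Limits AlgebraicGeometry
universe u
open Hensel

set_option linter.style.haveILetI false
set_option backward.isDefEq.respectTransparency false
set_option backward.isDefEq.respectTransparency.types false

noncomputable section

namespace Groth.Agent.S5037

open Opposite TopologicalSpace TensorProduct Groth.Agent.Lib.WeilRep Groth.Agent.Lib.WeilRep.Glue Groth.Agent.Lib.WeilRep.Etale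

/-- The Weil restriction of a finite etale scheme along a finite etale morphism (finite locally free) is etale. -/
theorem exists_etale_rep {S S' : Scheme.{u}} (f : S' ⟶ S) [IsFinite f] [Flat f]
    [LocallyOfFinitePresentation f] (X' : Over S') [IsFinite X'.hom] [Etale X'.hom] :
    ∃ G : Over S, IsAffineHom G.hom ∧ Etale G.hom ∧
      Nonempty (((Over.pullback f).op ⋙ yoneda.obj X').RepresentableBy G) := by
  obtain ⟨G, hGa, ⟨r⟩⟩ := Main.exists_affine_rep f X'
  let v : ((Over.pullback f).op ⋙ yoneda.obj X').obj (op G) := r.homEquiv (𝟙 G)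
  have hv : ∀ T, BijAt v T := fun T => by
    have : (fun g : T ⟶ G => act _ g v) = fun g => r.homEquiv g :=
      funext fun g => (r.homEquiv_eq g).symm
    change Function.Bijective (fun g : T ⟶ G => act _ g v)
    rw [this]
    exact r.homEquiv.bijective
  suffices key : ∀ U : S.affineOpens, Etale (G.hom ∣_ U.1) by
    exact ⟨G, hGa, (IsZariskiLocalAtTarget.iff_of_iSup_eq_top (P := @Etale) _
      (iSup_affineOpens_eq_top S)).2 key, ⟨r⟩⟩
  intro U
  have hV : IsAffineOpen (f ⁻¹ᵁ U.1) := U.2.preimage f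
  have hY : IsAffineOpen (X'.hom ⁻¹ᵁ (f ⁻¹ᵁ U.1)) := hV.preimage X'.hom
  letI : Algebra Γ(S, U.1) Γ(S', f ⁻¹ᵁ U.1) := (f.app U.1).hom.toAlgebra
  letI : Algebra Γ(S', f ⁻¹ᵁ U.1) Γ(X'.left, X'.hom ⁻¹ᵁ (f ⁻¹ᵁ U.1)) :=
    (X'.hom.app (f ⁻¹ᵁ U.1)).hom.toAlgebra
  haveI : Module.Finite Γ(S, U.1) Γ(S', f ⁻¹ᵁ U.1) := f.finite_app U.1 U.2
  haveI : Module.Finite Γ(S', f ⁻¹ᵁ U.1) Γ(X'.left, X'.hom ⁻¹ᵁ (f ⁻¹ᵁ U.1)) := X'.hom.finite_app _ hV
  haveI : Module.Flat Γ(S, U.1) Γ(S', f ⁻¹ᵁ U.1) := by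
    have := f.flat_appLE U.2 hV le_rfl
    rwa [← Scheme.Hom.app_eq_appLE] at this
  haveI : Algebra.FinitePresentation Γ(S, U.1) Γ(S', f ⁻¹ᵁ U.1) := by
    have := f.finitePresentation_appLE U.2 hV le_rfl
    rwa [← Scheme.Hom.app_eq_appLE] at this
  haveI hDet : Algebra.Etale Γ(S', f ⁻¹ᵁ U.1) Γ(X'.left, X'.hom ⁻¹ᵁ (f ⁻¹ᵁ U.1)) := by
    have := X'.hom.etale_appLE hV hY le_rfl
    rwa [← Scheme.Hom.app_eq_appLE] at this
  haveI := Module.FinitePresentation.of_finite_of_finitePresentation (R := Γ(S, U.1)) (S := Γ(S', f ⁻¹ᵁ U.1))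
  haveI : Module.Projective Γ(S, U.1) Γ(S', f ⁻¹ᵁ U.1) := Module.Flat.projective_of_finitePresentation
  obtain ⟨P, _, _, ψ, hP⟩ := AlgFinite.exists_isUniv (R := Γ(S, U.1))
    (algebraMap Γ(S', f ⁻¹ᵁ U.1) Γ(X'.left, X'.hom ⁻¹ᵁ (f ⁻¹ᵁ U.1)))
  haveI := formallyEtale ψ hP
  haveI : Algebra.FinitePresentation Γ(S, U.1) P := AlgFinite.finitePresentation _
    (show Algebra.FinitePresentation Γ(S', f ⁻¹ᵁ U.1) Γ(X'.left, X'.hom ⁻¹ᵁ (f ⁻¹ᵁ U.1)) from inferInstance) hP
  haveI : Algebra.Etale Γ(S, U.1) P := {}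
  have hB : IsPullback (Spec.map (CommRingCat.ofHom (algebraMap Γ(S, U.1) Γ(S', f ⁻¹ᵁ U.1)))) hV.fromSpec
      U.2.fromSpec f := by
    refine IsOpenImmersion.isPullback _ _ _ _ ?_ ?_
    · rw [← U.2.SpecMap_appLE_fromSpec f hV le_rfl, ← Scheme.Hom.app_eq_appLE]
      rfl
    · rw [U.2.opensRange_fromSpec, hV.opensRange_fromSpec]
  have hD : IsPullback (Spec.map (CommRingCat.ofHom (X'.hom.app (f ⁻¹ᵁ U.1)).hom)) hY.fromSpec
      hV.fromSpec X'.hom := by
    refine IsOpenImmersion.isPullback _ _ _ _ ?_ ?_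
    · rw [← hV.SpecMap_appLE_fromSpec X'.hom hY le_rfl, ← Scheme.Hom.app_eq_appLE]
      rfl
    · rw [hV.opensRange_fromSpec, hY.opensRange_fromSpec]
  obtain ⟨u, -, hu⟩ := Affine.exists_chart_of_univ f X' (algebraMap _ _) U.2.fromSpec hV.fromSpec hY.fromSpec
    hB hD P ψ hP
  have e := U.2.opensRange_fromSpec
  have hbT : ∀ T : Over S, LiesIn T U.1 →
      BijAt (F := (Over.pullback f).op ⋙ yoneda.obj X') u T :=
    bijAt_of_affine (Sheaf.isZSheaf f X') U.1 fun T hT hTin => hu T hT fun x => e.symm ▸ hTin x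
  let Gr := res G (G.hom ⁻¹ᵁ U.1)
  have hGr : ∀ T : Over S, LiesIn T U.1 →
      BijAt (act _ (resι G (G.hom ⁻¹ᵁ U.1)) v) T := by
    intro T hT
    refine ⟨fun g g' h => ?_, fun a => ?_⟩
    · change act _ g _ = act _ g' _ at h
      rw [← act_comp, ← act_comp] at h
      exact Over.OverMorphism.ext ((cancel_mono (G.hom ⁻¹ᵁ U.1).ι).1
        (congrArg CommaMorphism.left ((hv T).1 h)))
    · obtain ⟨g, hg⟩ := (hv T).2 a
      have hr : Set.range g.left ⊆ Set.range (G.hom ⁻¹ᵁ U.1).ι := by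
        rintro _ ⟨x, rfl⟩
        refine (range_ι _).symm.subset ?_
        change G.hom (g.left x) ∈ U.1
        rw [← Scheme.Hom.comp_apply, Over.w]
        exact hT x
      refine ⟨Over.homMk (IsOpenImmersion.lift _ g.left hr)
        ((Category.assoc _ _ _).symm.trans ((congrArg (· ≫ G.hom) (IsOpenImmersion.lift_fac _ _ _)).trans (Over.w g))), ?_⟩
      change act _ _ _ = a
      rw [← act_comp]
      refine Eq.trans ?_ hg
      congr 1
      exact Over.OverMorphism.ext (IsOpenImmersion.lift_fac _ _ _)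
  obtain ⟨i⟩ := exists_iso_of_bijAt (W₁ := Gr) (U := U.1) (fun x => x.2) (fun x => e.le ⟨_, rfl⟩) hGr hbT
  haveI : IsIso i.hom.left := inferInstanceAs (IsIso ((Over.forget _).map i.hom))
  have hres : G.hom ∣_ U.1 =
      i.hom.left ≫ Spec.map (CommRingCat.ofHom (algebraMap Γ(S, U.1) P)) ≫ U.2.isoSpec.inv := by
    rw [← cancel_mono U.1.ι, morphismRestrict_ι, Category.assoc, Category.assoc, IsAffineOpen.isoSpec_inv_ι]
    exact (Over.w i.hom).symm
  rw [hres]
  haveI : Etale (Spec.map (CommRingCat.ofHom (algebraMap Γ(S, U.1) P))) := by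
    rw [HasRingHomProperty.Spec_iff (P := @Etale)]
    exact RingHom.etale_algebraMap.2 inferInstance
  infer_instance


section Clopen

variable {T S' : Scheme.{u}} (p : T ⟶ S')

/-- An open set as an open subscheme. -/
abbrev opn {T : Scheme.{u}} (W : Set T) (hW : IsOpen W) : T.Opens := ⟨W, hW⟩

/-- Two copies of `S'` over `S'`. -/
abbrev two (S' : Scheme.{u}) : Over S' := Over.mk (coprod.desc (𝟙 S') (𝟙 S'))

/-- The first component of a map to two copies. -/
def firstPart (a : Over.mk p ⟶ two S') : Set T :=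
  a.left.base ⁻¹' Set.range (coprod.inl : S' ⟶ S' ⨿ S').base

theorem isClopen_firstPart (a : Over.mk p ⟶ two S') : IsClopen (firstPart p a) := by
  refine IsClopen.preimage ⟨?_, (coprod.inl : S' ⟶ S' ⨿ S').isOpenEmbedding.isOpen_range⟩ a.left.continuous
  rw [← isOpen_compl_iff, (isCompl_range_inl_inr S' S').compl_eq]
  exact (coprod.inr : S' ⟶ S' ⨿ S').isOpenEmbedding.isOpen_range

theorem bijective_firstPart :
    Function.Bijective (fun a : Over.mk p ⟶ two S' =>
      (⟨firstPart p a, isClopen_firstPart p a⟩ : {W : Set T // IsClopen W})) := by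
  have key : ∀ (W : Set T) (hW : IsClopen W),
      Nonempty (IsColimit (BinaryCofan.mk (opn W hW.isOpen).ι (opn Wᶜ hW.compl.isOpen).ι)) := by
    intro W hW
    refine nonempty_isColimit_binaryCofanMk_of_isCompl _ _ ?_
    rw [Scheme.Opens.opensRange_ι, Scheme.Opens.opensRange_ι]
    refine ⟨disjoint_iff.2 (Opens.ext ?_), codisjoint_iff.2 (Opens.ext ?_)⟩
    · exact Set.inter_compl_self W
    · exact Set.union_compl_self W
  constructor
  · intro a b h
    have hW : firstPart p a = firstPart p b := congrArg Subtype.val h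
    obtain ⟨hc⟩ := key _ (isClopen_firstPart p a)
    have comp : ∀ (U : T.Opens) (k : S' ⟶ S' ⨿ S') [IsOpenImmersion k],
        k ≫ coprod.desc (𝟙 S') (𝟙 S') = 𝟙 S' → ∀ c : Over.mk p ⟶ two S',
        (∀ x ∈ U, c.left.base x ∈ Set.range k.base) → U.ι ≫ c.left = U.ι ≫ p ≫ k := by
      intro U k _ hk c hc
      let t := IsOpenImmersion.lift k (U.ι ≫ c.left) (by
        rintro _ ⟨x, rfl⟩
        exact hc _ x.2)
      have ht : t ≫ k = U.ι ≫ c.left := IsOpenImmersion.lift_fac _ _ _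
      have hcw : c.left ≫ coprod.desc (𝟙 S') (𝟙 S') = p := Over.w c
      have : t = U.ι ≫ p := by
        rw [← hcw, ← Category.assoc U.ι, ← ht, Category.assoc, hk, Category.comp_id]
      rw [← ht, this, Category.assoc]
    refine Over.OverMorphism.ext (BinaryCofan.IsColimit.hom_ext hc ?_ ?_)
    · exact (comp _ coprod.inl (coprod.inl_desc _ _) a fun x hx => hx).trans
        (comp _ coprod.inl (coprod.inl_desc _ _) b fun x hx => (hW ▸ hx : x ∈ firstPart p b)).symm
    · exact (comp _ coprod.inr (coprod.inr_desc _ _) a fun x hx =>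
          (isCompl_range_inl_inr S' S').compl_eq ▸ (hx : x ∈ (firstPart p a)ᶜ)).trans
        (comp _ coprod.inr (coprod.inr_desc _ _) b fun x hx =>
          (isCompl_range_inl_inr S' S').compl_eq ▸ (hW ▸ hx : x ∈ (firstPart p b)ᶜ)).symm
  · rintro ⟨W, hW⟩
    obtain ⟨hc⟩ := key W hW
    obtain ⟨m, hm₁, hm₂⟩ : ∃ m : T ⟶ S' ⨿ S',
        (opn W hW.isOpen).ι ≫ m = (opn W hW.isOpen).ι ≫ p ≫ coprod.inl ∧
        (opn Wᶜ hW.compl.isOpen).ι ≫ m = (opn Wᶜ hW.compl.isOpen).ι ≫ p ≫ coprod.inr := by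
      obtain ⟨m, h1, h2⟩ := BinaryCofan.IsColimit.desc' hc
        ((opn W hW.isOpen).ι ≫ p ≫ coprod.inl)
        ((opn Wᶜ hW.compl.isOpen).ι ≫ p ≫ coprod.inr)
      exact ⟨m, h1, h2⟩
    have hw : m ≫ coprod.desc (𝟙 S') (𝟙 S') = p := by
      refine BinaryCofan.IsColimit.hom_ext hc ?_ ?_
      · erw [← Category.assoc, hm₁]
        simp
      · erw [← Category.assoc, hm₂]
        simp
    refine ⟨Over.homMk m hw, Subtype.ext (Set.ext fun x => ⟨fun hx => ?_, fun hx => ?_⟩)⟩
    · by_contra hxW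
      refine (Set.disjoint_iff_forall_ne.1 (isCompl_range_inl_inr S' S').disjoint) hx
        ⟨p.base x, ?_⟩ rfl
      exact (congrArg (fun q => q.base (⟨x, hxW⟩ : (opn Wᶜ hW.compl.isOpen).toScheme)) hm₂).symm
    · exact ⟨p.base x,
        (congrArg (fun q => q.base (⟨x, hx⟩ : (opn W hW.isOpen).toScheme)) hm₁).symm⟩

theorem firstPart_comp {T₁ : Scheme.{u}} (q : T₁ ⟶ S') (k : Over.mk q ⟶ Over.mk p)
    (a : Over.mk p ⟶ two S') : firstPart q (k ≫ a) = k.left.base ⁻¹' firstPart p a := rfl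

end Clopen

/-- b) implies a'): let i : S₀ ⟶ S be a closed immersion. Suppose that for every étale separated
morphism g : S' ⟶ S and every section u₀ of S' ×_S S₀ ⟶ S₀ there is exactly one section u of g with
i ≫ u = u₀ followed by the first projection. Then for every finite locally free morphism g : S' ⟶ S
(finite, flat and locally of finite presentation), every open-closed subset of S' ×_S S₀ is the
inverse image under the first projection of exactly one open-closed subset of S'. -/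
theorem result {S S₀ : Scheme.{u}} (i : S₀ ⟶ S) [IsClosedImmersion i]
    (hb : ∀ (S' : Scheme.{u}) (g : S' ⟶ S), Etale g → IsSeparated g →
      ∀ u₀ : S₀ ⟶ pullback g i, u₀ ≫ pullback.snd g i = 𝟙 S₀ →
        ∃! u : S ⟶ S', u ≫ g = 𝟙 S ∧ i ≫ u = u₀ ≫ pullback.fst g i)
    {S' : Scheme.{u}} (g : S' ⟶ S) [IsFinite g] [Flat g] [LocallyOfFinitePresentation g]
    (V : Set ↥(pullback g i)) (hV : IsClopen V) :
    ∃! U : Set ↥S', IsClopen U ∧ (pullback.fst g i).base ⁻¹' U = V := by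
  haveI : IsFinite (two S').hom := inferInstanceAs (IsFinite (coprod.desc (𝟙 S') (𝟙 S')))
  haveI : Etale (two S').hom := Groth.Agent.Lib.FEt.Coproduct.etale_coprodDesc _ _
  obtain ⟨G, hGa, hGe, ⟨r⟩⟩ := exists_etale_rep g (two S')
  haveI := hGa
  let T₁ : Over S := Over.mk (𝟙 S)
  let T₀ : Over S := Over.mk i
  let k : T₀ ⟶ T₁ := Over.homMk i (Category.comp_id i)
  let m := ((Over.pullback g).map k).left
  have hm : m ≫ pullback.snd (𝟙 S) g = pullback.snd i g := pullback.lift_snd _ _ _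
  let σ := (pullbackSymmetry g i).hom
  let e₁ : pullback (𝟙 S) g ⟶ S' := pullback.snd (𝟙 S) g
  haveI : IsIso e₁ := inferInstanceAs (IsIso (pullback.snd (𝟙 S) g))
  have he₁ : IsHomeomorph e₁.base := e₁.homeomorph.isHomeomorph
  let ev : ∀ T : Over S, (T ⟶ G) → Set ↥(pullback T.hom g) :=
    fun T t => firstPart (pullback.snd T.hom g) (r.homEquiv t)
  have hev : ∀ T, Function.Bijective (fun t : T ⟶ G =>
      (⟨ev T t, isClopen_firstPart _ _⟩ : {W : Set ↥(pullback T.hom g) // IsClopen W})) := fun T =>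
    (bijective_firstPart (pullback.snd T.hom g)).comp r.homEquiv.bijective
  have hevk : ∀ t : T₁ ⟶ G, ev T₀ (k ≫ t) = m.base ⁻¹' ev T₁ t := fun t => by
    change firstPart _ (r.homEquiv (k ≫ t)) = _
    rw [r.homEquiv_comp]
    rfl
  -- translation between the two descriptions
  have htr : ∀ U : Set ↥S', (pullback.fst g i).base ⁻¹' U = σ.base ⁻¹' (m.base ⁻¹' (e₁.base ⁻¹' U)) := by
    intro U
    have : pullback.fst g i = σ ≫ m ≫ e₁ := by
      rw [hm]
      exact (pullbackSymmetry_hom_comp_snd g i).symm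
    rw [this]
    rfl
  have hσ : IsHomeomorph σ.base := σ.homeomorph.isHomeomorph
  let V' : Set ↥(pullback i g) := σ.base '' V
  have hV' : IsClopen V' := ⟨hσ.isClosedMap _ hV.isClosed, hσ.isOpenMap _ hV.isOpen⟩
  obtain ⟨t₀, ht₀⟩ := (hev T₀).2 ⟨V', hV'⟩
  have ht₀' : ev T₀ t₀ = V' := congrArg Subtype.val ht₀
  let u₀ : S₀ ⟶ pullback G.hom i := pullback.lift t₀.left (𝟙 S₀)
    ((Over.w t₀).trans (Category.id_comp i).symm)
  haveI : IsSeparated G.hom := inferInstance
  obtain ⟨u, ⟨hu, hiu⟩, huniq⟩ := hb G.left G.hom hGe inferInstance u₀ (pullback.lift_snd _ _ _)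
  let t₁ : T₁ ⟶ G := Over.homMk u hu
  have hkt : k ≫ t₁ = t₀ := Over.OverMorphism.ext (hiu.trans (pullback.lift_fst _ _ _))
  refine ⟨e₁.base '' ev T₁ t₁, ⟨⟨he₁.isClosedMap _ (isClopen_firstPart _ _).isClosed,
    he₁.isOpenMap _ (isClopen_firstPart _ _).isOpen⟩, ?_⟩, fun U hU => ?_⟩
  · rw [htr, he₁.injective.preimage_image, ← hevk, hkt, ht₀', hσ.injective.preimage_image]
  · obtain ⟨hUc, hUV⟩ := hU
    obtain ⟨t, ht⟩ := (hev T₁).2 ⟨e₁.base ⁻¹' U, hUc.preimage e₁.continuous⟩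
    have ht' : ev T₁ t = e₁.base ⁻¹' U := congrArg Subtype.val ht
    have hk0 : k ≫ t = t₀ := by
      refine (hev T₀).1 (Subtype.ext ?_)
      change ev T₀ (k ≫ t) = ev T₀ t₀
      rw [hevk, ht', ht₀']
      refine hσ.surjective.preimage_injective ?_
      rw [← htr, hUV, hσ.injective.preimage_image]
    have : t = t₁ := Over.OverMorphism.ext (huniq t.left ⟨Over.w t,
      (congrArg CommaMorphism.left hk0).trans (pullback.lift_fst _ _ _).symm⟩)
    rw [← this, ht', he₁.surjective.image_preimage]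

end Groth.Agent.S5037
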