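import Groth.Statements.S5039
import Groth.Agent.Lib.Henselian.FormalFibres
import Groth.Agent.S2657
import Groth.Agent.S0567
import Groth.Agent.Lib.Cohen.NagataUnramified

set_option autoImplicit false
universe u
open Hensel

namespace Groth.Agent.S5039

/-- Let R be a Noetherian local ring and S its henselization. Then S is universally Japanese if and only
if R is. -/
theorem result (R S : Type u) [CommRing R] [IsLocalRing R] [IsNoetherianRing R]
    [CommRing S] [IsLocalRing S] [Algebra R S] [IsLocalHom (algebraMap R S)] [Hensel.IsHenselization R S] :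
    CAlg.IsUniversallyJapanese S ↔ CAlg.IsUniversallyJapanese R := by
  have := Groth.Agent.Lib.Henselian.Permanence.isNoetherianRing R S
  have key : ∀ (A : Type u) [CommRing A] [IsLocalRing A] [IsNoetherianRing A],
      CAlg.IsUniversallyJapanese A ↔ EGA4.HasGeomReducedFormalFibres A := by
    intro A _ _ _
    refine ⟨fun h => ?_, fun h => ((Groth.Agent.S0567.result A).1 (Groth.Agent.S2657.result A h)).2⟩
    have hN : CAlg.IsNagata A := (Groth.Agent.S0567.result A).2 ⟨inferInstance, h⟩
    refine (Groth.Agent.Lib.Excellent.FormalFibre.geomReduced_fibres_iff (EGA4.Cpl A)).2 fun K _ _ hK => ?_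
    obtain ⟨B, hB, hfr⟩ := hK
    have := Groth.Agent.Lib.Cohen.NagataUnramified.isReduced_tensor_of_isNagata A hN B
    exact Groth.Agent.Lib.Henselian.FormalFibres.isReduced_fractionField_tensor (EGA4.Cpl A) B K this
  rw [key S, key R]
  exact Groth.Agent.Lib.Henselian.FormalFibres.hasGeomReducedFormalFibres_iff

end Groth.Agent.S5039
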