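import Groth.Statements.S5042
import Groth.Agent.Lib.Henselian.GRingHens
import Groth.Agent.Lib.GRing.Complete
import Groth.Agent.S2773

set_option autoImplicit false
universe u
open Hensel

namespace Groth.Agent.S5042

set_option linter.style.haveILetI false


/-- The henselization S of an excellent local ring R is excellent. -/
theorem result (R S : Type u) [CommRing R] [IsLocalRing R]
    [CommRing S] [IsLocalRing S] [Algebra R S] [IsLocalHom (algebraMap R S)] [Hensel.IsHenselization R S]
    (h : EGA4.IsExcellent R) : EGA4.IsExcellent S := by
  obtain ⟨hN, huc, hG, -⟩ := h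
  haveI := hN
  haveI := Groth.Agent.Lib.Henselian.Permanence.isNoetherianRing R S
  have hS := Groth.Agent.Lib.Henselian.GRingHens.isGRing_henselization_of (fun C _ _ _ _ => Groth.Agent.Lib.GRing.Complete.isGRing C) R S hG
  exact ⟨inferInstance, Groth.Agent.S2773.result R S huc, hS,
    Groth.Agent.Lib.Henselian.GRingLocal.isJ2_of_local S
      (Groth.Agent.Lib.Henselian.GRingHens.isRegularHom_cpl_of_isGRing S hS)⟩

end Groth.Agent.S5042
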