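import Groth.Statements.S5046
import Groth.Agent.Lib.Unram.PuncturedConnected
import Groth.Agent.Lib.Unram.ComplConnected
import Groth.Agent.Lib.Unram.BaseChangeNhd

set_option autoImplicit false
open CategoryTheory AlgebraicGeometry
universe u
open Unram

namespace Groth.Agent.S5046

open Groth.Agent.Lib.Unram

/-- Let A be a Noetherian local domain of Krull dimension at least 2 which is geometrically unibranch, X
a connected locally Noetherian scheme and f : X ⟶ Spec A a flat morphism. Then for every closed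
subset T of X lying over the closed point of Spec A, the complement of T in X is connected. -/
theorem result (A : Type u) [CommRing A]
    [IsNoetherianRing A] [IsLocalRing A] [IsDomain A] (hA : CAlg2.IsGeomUnibranch A) (hdim : 2 ≤ ringKrullDim A)
    {X : Scheme.{u}} [IsLocallyNoetherian X] [ConnectedSpace ↥X] (f : X ⟶ Spec (CommRingCat.of A)) [Flat f]
    (T : Set ↥X) (hT : IsClosed T) (hTy : ∀ x ∈ T, f.base x = IsLocalRing.closedPoint A) :
    IsConnected Tᶜ := by
  have hH := PuncturedConnected.heightHyp A hA hdim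
  obtain ⟨a₀, ha₀, ha₀r⟩ := PuncturedIntegral.exists_regular hH
  have ha₀0 : a₀ ≠ 0 := nonZeroDivisors.ne_zero ha₀r
  have key : ∀ x : X, ∃ φ : CommRingCat.of A ⟶ X.presheaf.stalk x,
      Spec.map φ = X.fromSpecStalk x ≫ f ∧ φ.hom.Flat := fun x => by
    refine ⟨Spec.preimage (X.fromSpecStalk x ≫ f), Spec.map_preimage _, ?_⟩
    have := Groth.Agent.Lib.Unram.BaseChangeNhd.flat_fromSpecStalk x
    rw [← HasRingHomProperty.Spec_iff (P := @Flat), Spec.map_preimage]
    infer_instance
  have hgen : ∀ x : X, f.base x = IsLocalRing.closedPoint A → ∀ P : Spec (X.presheaf.stalk x),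
      ∃ Q : Spec (X.presheaf.stalk x), Q ⤳ P ∧
        f (X.fromSpecStalk x Q) ≠ IsLocalRing.closedPoint A := by
    intro x _ P
    obtain ⟨φ, hφ, hflat⟩ := key x
    algebraize [φ.hom]
    have : Module.Flat A (X.presheaf.stalk x) := hflat
    have : (P.asIdeal).LiesOver (P.asIdeal.under A) := ⟨rfl⟩
    obtain ⟨Q, hQP, hQ, hQA⟩ := Ideal.exists_ideal_le_liesOver_of_le (R := A) (p := (⊥ : Ideal A))
      (q := P.asIdeal.under A) P.asIdeal bot_le
    refine ⟨⟨Q, hQ⟩, (PrimeSpectrum.le_iff_specializes (R := X.presheaf.stalk x) ⟨Q, hQ⟩ P).mp hQP, ?_⟩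
    rw [← Scheme.Hom.comp_apply, ← hφ]
    intro h
    apply ha₀0
    have h' : a₀ ∈ Q.under A := by
      rw [show Q.under A = IsLocalRing.maximalIdeal A from congrArg PrimeSpectrum.asIdeal h]
      exact ha₀
    rwa [← hQA.over, Ideal.mem_bot] at h'
  have hdense : ∀ x ∈ T, ∃ z ∉ T, z ⤳ x := fun x hx => by
    obtain ⟨Q, hQ, hQT⟩ := hgen x (hTy x hx) (IsLocalRing.closedPoint (X.presheaf.stalk x))
    refine ⟨X.fromSpecStalk x Q, fun h => hQT (hTy _ h), ?_⟩
    have := hQ.map (X.fromSpecStalk x).continuous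
    rwa [Scheme.fromSpecStalk_closedPoint] at this
  refine ⟨?_, ComplConnected.isPreconnected_compl T hT hdense fun x hx => ?_⟩
  · obtain ⟨x⟩ := (inferInstance : Nonempty X)
    by_cases hx : x ∈ T
    · obtain ⟨z, hz, -⟩ := hdense x hx
      exact ⟨z, hz⟩
    · exact ⟨x, hx⟩
  · obtain ⟨φ, hφ, hflat⟩ := key x
    algebraize [φ.hom]
    have : Module.Flat A (X.presheaf.stalk x) := hflat
    have hfx : ∀ P : Spec (X.presheaf.stalk x), f (X.fromSpecStalk x P) = Spec.map φ P := fun P => by
      rw [← Scheme.Hom.comp_apply, ← hφ]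
    have : IsLocalHom (algebraMap A (X.presheaf.stalk x)) := by
      refine (IsLocalRing.isLocalHom_iff_comap_closedPoint _).mpr ?_
      have := hfx (IsLocalRing.closedPoint (X.presheaf.stalk x))
      rw [Scheme.fromSpecStalk_closedPoint] at this
      exact this.symm.trans (hTy x hx)
    refine (PuncturedConnected.isPreconnected_punctured A (X.presheaf.stalk x) hA hdim).subset_closure
      (fun P hP hPT => hP ?_) fun P _ => ?_
    · have := congrArg PrimeSpectrum.asIdeal ((hfx P).symm.trans (hTy _ hPT))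
      exact Ideal.map_le_iff_le_comap.mpr this.ge
    · obtain ⟨Q, hQP, hQ⟩ := hgen x (hTy x hx) P
      refine mem_closure_iff.mpr fun U hU hPU => ⟨Q, hQP.mem_open hU hPU, fun hle => hQ ?_⟩
      rw [hfx]
      exact PrimeSpectrum.ext ((IsLocalRing.maximalIdeal.isMaximal A).eq_of_le
        (Ideal.IsPrime.comap φ.hom).ne_top (Ideal.map_le_iff_le_comap.mp hle)).symm

end Groth.Agent.S5046
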