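import Groth.Statements.S5053
import Groth.Agent.Lib.Unram.FibreCount

set_option autoImplicit false
open CategoryTheory AlgebraicGeometry
universe u
open Unram

namespace Groth.Agent.S5053

/-- Let Y be a connected scheme and f : X ⟶ Y étale, separated and of finite type. Then f is finite if
and only if all geometric fibres of f have the same number of points. -/
theorem result {X Y : Scheme.{u}} [ConnectedSpace ↥Y] (f : X ⟶ Y)
    [Etale f] [IsSeparated f] [LocallyOfFiniteType f] [QuasiCompact f] :
    IsFinite f ↔ ∃ n : ℕ∞, ∀ y : Y, ENat.card ↥(MoreMor.geomFiber f y) = n := by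
  constructor
  · intro hf
    have hloc : IsLocallyConstant fun y : Y => ENat.card ↥(MoreMor.geomFiber f y) := by
      refine (IsLocallyConstant.iff_exists_open _).mpr fun y => ?_
      obtain ⟨W, hyW, hW⟩ := (Groth.Agent.Lib.Unram.FibreCount.exists_nhd_eq_iff f y).mpr
        ⟨⊤, trivial, IsZariskiLocalAtTarget.restrict hf ⊤⟩
      exact ⟨W, W.2, hyW, hW⟩
    exact ⟨_, fun y => hloc.apply_eq_of_preconnectedSpace y (Classical.arbitrary Y)⟩
  · rintro ⟨n, hn⟩
    choose W hyW hW using fun y => (Groth.Agent.Lib.Unram.FibreCount.exists_nhd_eq_iff f y).mp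
      ⟨⊤, trivial, fun y' _ => (hn y').trans (hn y).symm⟩
    exact IsZariskiLocalAtTarget.of_iSup_eq_top W
      (eq_top_iff.mpr fun y _ => TopologicalSpace.Opens.mem_iSup.mpr ⟨y, hyW y⟩) hW

end Groth.Agent.S5053
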