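import Groth.Statements.S5056
import Groth.Agent.Lib.Henselian.GeomConnCpl

set_option autoImplicit false
universe u
open Hensel

namespace Groth.Agent.S5056

open scoped TensorProduct
set_option linter.style.haveILetI false


/-- Let A be a Noetherian henselian local domain whose formal fibres are geometrically normal, Â its
completion (an integral domain), K and L fraction fields of A and Â with L a K-algebra compatibly.
Then L is geometrically reduced over K (a separable extension) and every element of L algebraic over
K lies in K. -/
theorem result (A : Type u) [CommRing A] [IsNoetherianRing A]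
    [HenselianLocalRing A] [IsDomain A] (h : EGA4.HasGeomNormalFormalFibres A) [IsDomain (EGA4.Cpl A)]
    (K L : Type u) [Field K] [Field L] [Algebra A K] [IsFractionRing A K]
    [Algebra (EGA4.Cpl A) L] [IsFractionRing (EGA4.Cpl A) L] [Algebra K L] [Algebra A L]
    [IsScalarTower A K L] [IsScalarTower A (EGA4.Cpl A) L] :
    Algebra.IsGeometricallyReduced K L ∧ ∀ x : L, IsAlgebraic K x → x ∈ Set.range (algebraMap K L) := by
  let S := EGA4.Cpl A
  haveI : Module.Flat A S := AdicCompletion.flat_of_isNoetherian _
  haveI : IsLocalization (nonZeroDivisors A) K := inferInstance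
  have key : ∀ (K' : Type u) [Field K'] [Algebra K K'], IsDomain (K' ⊗[K] L) := by
    intro K' _ _
    letI : Algebra A K' := ((algebraMap K K').comp (algebraMap A K)).toAlgebra
    haveI : IsScalarTower A K K' := IsScalarTower.of_algebraMap_eq fun a => rfl
    haveI := Groth.Agent.Lib.Henselian.GeomConnCpl.isDomain_tensor_cpl h K'
    have hinj : Function.Injective (algebraMap A K') :=
      (algebraMap K K').injective.comp (IsFractionRing.injective A K)
    have hι : Function.Injective (Algebra.TensorProduct.includeRight : S →ₐ[A] K' ⊗[A] S) := by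
      have h1 := Module.Flat.rTensor_preserves_injective_linearMap (M := S) (Algebra.linearMap A K') hinj
      intro x y hxy
      refine (TensorProduct.lid A S).symm.injective (h1 ?_)
      simpa using hxy
    letI : Algebra (K' ⊗[A] S) (K' ⊗[A] L) :=
      (Algebra.TensorProduct.map (AlgHom.id A K') (IsScalarTower.toAlgHom A S L)).toRingHom.toAlgebra
    haveI : IsScalarTower K' (K' ⊗[A] S) (K' ⊗[A] L) :=
      IsScalarTower.of_algebraMap_eq (R := K') (S := K' ⊗[A] S) (A := K' ⊗[A] L) fun x => by
        simp [RingHom.algebraMap_toAlgebra]
    haveI := IsLocalization.tensorProduct_tensorProduct_right A K' (nonZeroDivisors S) L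
      (by ext; simp [RingHom.algebraMap_toAlgebra])
    have hM : (nonZeroDivisors S).map (Algebra.TensorProduct.includeRight : S →ₐ[A] K' ⊗[A] S) ≤
        nonZeroDivisors (K' ⊗[A] S) := by
      rintro _ ⟨r, hr, rfl⟩
      exact mem_nonZeroDivisors_of_ne_zero fun h0 => nonZeroDivisors.ne_zero hr (hι (h0.trans (map_zero _).symm))
    haveI : IsDomain (K' ⊗[A] L) := IsLocalization.isDomain_of_le_nonZeroDivisors _ hM
    haveI : TensorProduct.CompatibleSMul A K K' L :=
      IsLocalization.tensorProduct_compatibleSMul (nonZeroDivisors A) K K' L
    exact MulEquiv.isDomain (K' ⊗[A] L)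
      (Algebra.TensorProduct.equivOfCompatibleSMul A K A K' L).toMulEquiv
  refine ⟨⟨fun p hp => ?_⟩, fun x hx => ?_⟩
  · haveI := key (AlgebraicClosure p.ResidueField)
    infer_instance
  · let E := IntermediateField.adjoin K ({x} : Set L)
    haveI : FiniteDimensional K E := IntermediateField.adjoin.finiteDimensional hx.isIntegral
    haveI := key E
    have hmap : Function.Injective (LinearMap.lTensor E E.val.toLinearMap : E ⊗[K] E →ₗ[K] E ⊗[K] L) :=
      Module.Flat.lTensor_preserves_injective_linearMap _ Subtype.val_injective
    let g : E ⊗[K] E →ₐ[K] E ⊗[K] L := Algebra.TensorProduct.map (AlgHom.id K E) E.val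
    haveI : IsDomain (E ⊗[K] E) := Function.Injective.isDomain g.toRingHom hmap
    have hfield : IsField (E ⊗[K] E) :=
      isField_of_isIntegral_of_isField' (R := K) (S := E ⊗[K] E) (Field.toIsField K)
    have hdim : Module.finrank K E = 1 := by
      have h1 : Function.Injective (Algebra.TensorProduct.lmul' K : E ⊗[K] E →ₐ[K] E) := by
        letI : Field (E ⊗[K] E) := IsField.toField (R := E ⊗[K] E) hfield
        exact (Algebra.TensorProduct.lmul' K : E ⊗[K] E →ₐ[K] E).toRingHom.injective
      have h2 := LinearMap.finrank_le_finrank_of_injective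
        (f := (Algebra.TensorProduct.lmul' K : E ⊗[K] E →ₐ[K] E).toLinearMap) h1
      rw [Module.finrank_tensorProduct] at h2
      have h3 : 0 < Module.finrank K E := Module.finrank_pos
      nlinarith
    have hbot : E = ⊥ := IntermediateField.finrank_eq_one_iff.1 hdim
    exact IntermediateField.mem_bot.1 (hbot ▸ IntermediateField.subset_adjoin K ({x} : Set L) rfl)

end Groth.Agent.S5056
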