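import Groth.Statements.S5058
import Groth.Agent.Lib.Lim.FPDescend
import Groth.Agent.H2.Rigid.SubDiagram
import Groth.Agent.S0506
import Groth.Agent.S0511


set_option autoImplicit false
set_option linter.style.haveILetI false
set_option backward.isDefEq.respectTransparency false
open CategoryTheory CategoryTheory.Limits AlgebraicGeometry
universe u
open Hensel

namespace Groth.Agent.S5058

/-- Let A be a henselian local ring and f : X ⟶ Spec A a morphism of finite presentation. Then there
exist a Noetherian henselian local ring A₀, a local ring homomorphism φ : A₀ → A, a morphism of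
finite type f₀ : X₀ ⟶ Spec A₀ and a cartesian square exhibiting X as the base change of X₀ along
Spec φ. -/
theorem result (A : Type u) [CommRing A] [HenselianLocalRing A]
    {X : Scheme.{u}} (f : X ⟶ Spec (CommRingCat.of A)) [LocallyOfFinitePresentation f] [QuasiCompact f] [QuasiSeparated f] :
    ∃ (A₀ : Type u) (_ : CommRing A₀) (_ : HenselianLocalRing A₀) (_ : IsNoetherianRing A₀) (φ : A₀ →+* A) (_ : IsLocalHom φ)
      (X₀ : Scheme.{u}) (f₀ : X₀ ⟶ Spec (CommRingCat.of A₀)) (g : X ⟶ X₀),
      LocallyOfFiniteType f₀ ∧ QuasiCompact f₀ ∧ IsPullback g f f₀ (Spec.map (CommRingCat.ofHom φ)) := by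
  open Groth.Agent.H2.Rigid CategoryTheory.Limits in
  haveI : ∀ {i j : (Finset (CommRingCat.of A))ᵒᵖ} (φ : i ⟶ j),
      IsAffineHom ((SubDiagram.diagram (CommRingCat.of A)).map φ) := fun φ => inferInstance
  haveI : ∀ i, CompactSpace ((SubDiagram.diagram (CommRingCat.of A)).obj i) := fun i => inferInstance
  haveI : ∀ i, QuasiSeparatedSpace ((SubDiagram.diagram (CommRingCat.of A)).obj i) := fun i => inferInstance
  haveI : CompactSpace X := QuasiCompact.compactSpace_of_compactSpace f
  haveI : QuasiSeparatedSpace X := quasiSeparatedSpace_of_quasiSeparated f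
  obtain ⟨i, Xi, fi, g, hXc, hXq, hfi, hg⟩ :=
    Groth.Agent.Lib.Lim.FPDescend.exists_descent (D := SubDiagram.diagram (CommRingCat.of A))
      (SubDiagram.isLimitCone (CommRingCat.of A)) f
  let B : Subalgebra ℤ A := Algebra.adjoin ℤ ((i.unop : Finset (CommRingCat.of A)) : Set A)
  have : Algebra.FiniteType ℤ B := (Subalgebra.fg_iff_finiteType B).mp
    (Subalgebra.fg_def.2 ⟨_, i.unop.finite_toSet, rfl⟩)
  have : IsNoetherianRing B := Algebra.FiniteType.isNoetherianRing ℤ B
  let p : Ideal B := (IsLocalRing.maximalIdeal A).comap (algebraMap B A)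
  have : p.IsPrime := Ideal.IsPrime.comap _
  have hu : ∀ y : p.primeCompl, IsUnit (algebraMap B A y) := fun y =>
    IsLocalRing.notMem_maximalIdeal.mp y.2
  let ψ : Localization.AtPrime p →+* A := IsLocalization.lift hu
  have hψ : IsLocalHom ψ := ⟨fun x hx => by
    obtain ⟨b, c, rfl⟩ := IsLocalization.exists_mk'_eq p.primeCompl x
    refine (IsLocalization.AtPrime.isUnit_mk'_iff _ p b c).mpr ?_
    intro hb
    have hb' : algebraMap B A b ∈ IsLocalRing.maximalIdeal A := hb
    rw [(IsLocalization.lift_mk'_spec hu b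
      (ψ (IsLocalization.mk' (Localization.AtPrime p) b c)) c).mp rfl] at hb'
    exact IsLocalRing.notMem_maximalIdeal.mpr ((hu c).mul hx) hb'⟩
  obtain ⟨S, _, _, _, _, hS⟩ := Groth.Agent.S0506.result (Localization.AtPrime p)
  have : HenselianLocalRing S := hS.henselian
  have : IsNoetherianRing S :=
    (Groth.Agent.S0511.result (Localization.AtPrime p) S).mp inferInstance
  obtain ⟨φ, hφ, -⟩ := hS.universal A ψ hψ
  let a := Spec.map (CommRingCat.ofHom
    ((algebraMap (Localization.AtPrime p) S).comp (algebraMap B (Localization.AtPrime p))))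
  have hcomp : φ.comp ((algebraMap (Localization.AtPrime p) S).comp
      (algebraMap B (Localization.AtPrime p))) = algebraMap B A := by
    rw [← RingHom.comp_assoc, hφ]
    exact IsLocalization.lift_comp hu
  have hmax : IsLocalRing.maximalIdeal S ≤ (IsLocalRing.maximalIdeal A).comap φ := by
    rw [← Groth.Agent.Lib.Henselian.Henselization.map_maximalIdeal (R := Localization.AtPrime p) (S := S),
      Ideal.map_le_iff_le_comap, Ideal.comap_comap, hφ]
    exact ((IsLocalRing.local_hom_TFAE ψ).out 0 3).mp hψ
  have hloc : IsLocalHom φ := ⟨fun x hx => by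
    by_contra h
    exact IsLocalRing.notMem_maximalIdeal.mpr hx (hmax h)⟩
  refine ⟨S, _, inferInstance, inferInstance, φ, hloc, pullback fi a, pullback.snd fi a,
    pullback.lift g (f ≫ Spec.map (CommRingCat.ofHom φ)) ?_, ?_, ?_, ?_⟩
  · rw [Category.assoc, ← Spec.map_comp, ← CommRingCat.ofHom_comp, hcomp]
    exact hg.w
  · exact MorphismProperty.pullback_snd (P := @LocallyOfFiniteType) _ _ inferInstance
  · exact MorphismProperty.pullback_snd (P := @QuasiCompact) _ _
      ((quasiCompact_iff_compactSpace _).2 inferInstance)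
  · refine IsPullback.of_right ?_ (pullback.lift_snd _ _ _) (IsPullback.of_hasPullback fi a)
    rw [pullback.lift_fst, ← Spec.map_comp, ← CommRingCat.ofHom_comp, hcomp]
    exact hg

end Groth.Agent.S5058
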