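import Groth.Statements.S5059
import Groth.Agent.Lib.FlatRegular.Basic

set_option autoImplicit false
universe u
open CInt

namespace Groth.Agent.S5059

set_option linter.style.haveILetI false

open TensorProduct RingTheory.Sequence

/-- The criterion for a finite module killed by `R`. -/
theorem flat_iff_killed {A : Type u} [CommRing A] [IsNoetherianRing A] (R : Ideal A) (rs : List A)
    (hrad : ∀ x ∈ rs, x ∈ (⊥ : Ideal A).jacobson) (hreg : IsWeaklyRegular (A ⧸ R) rs)
    (N : Type u) [AddCommGroup N] [Module A N] [Module (A ⧸ R) N] [IsScalarTower A (A ⧸ R) N]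
    [Module.Finite A N] :
    Module.Flat (A ⧸ R) N ↔
      Module.Flat (A ⧸ (R ⊔ Ideal.ofList rs)) (N ⧸ ((R ⊔ Ideal.ofList rs) • (⊤ : Submodule A N))) ∧
        IsWeaklyRegular N rs := by
  haveI : Module.Finite (A ⧸ R) N := Module.Finite.of_restrictScalars_finite A _ _
  set rs' := rs.map (algebraMap A (A ⧸ R)) with hrs'
  have hJ : Ideal.ofList rs' = (Ideal.ofList rs).map (Ideal.Quotient.mkₐ A R) := by
    rw [hrs', ← Ideal.map_ofList]
    rfl
  have hjac : (Ideal.ofList rs').map (algebraMap (A ⧸ R) (A ⧸ R)) ≤ Ideal.jacobson ⊥ := by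
    rw [Algebra.algebraMap_self, Ideal.map_id, hJ]
    have hle : (⊥ : Ideal A).jacobson ≤ (⊥ : Ideal (A ⧸ R)).jacobson.comap (Ideal.Quotient.mk R) := by
      rw [Ideal.comap_jacobson_of_surjective Ideal.Quotient.mk_surjective]
      exact Ideal.jacobson_mono bot_le
    exact Ideal.map_le_iff_le_comap.2 ((Ideal.span_le.2 hrad).trans hle)
  rw [Lib.FlatRegular.Basic.flat_iff (A ⧸ R) N rs' ((isWeaklyRegular_map_algebraMap_iff (A ⧸ R) (A ⧸ R) rs).2 hreg) hjac,
    Lib.FlatRegular.Basic.flat_quotSMul_iff, hrs', isWeaklyRegular_map_algebraMap_iff (A ⧸ R) N rs,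
    ← hrs']
  refine and_congr ?_ Iff.rfl
  let eK : (A ⧸ (R ⊔ Ideal.ofList rs)) ≃ₐ[A] ((A ⧸ R) ⧸ Ideal.ofList rs') :=
    (DoubleQuot.quotQuotEquivQuotSupₐ A R (Ideal.ofList rs)).symm.trans (Ideal.quotientEquivAlgOfEq A hJ.symm)
  have hsub : (Ideal.ofList rs' • (⊤ : Submodule (A ⧸ R) N)).restrictScalars A =
      (R ⊔ Ideal.ofList rs) • (⊤ : Submodule A N) := by
    have hmem : ∀ a ∈ R ⊔ Ideal.ofList rs, Ideal.Quotient.mk R a ∈ Ideal.ofList rs' := by
      intro a ha
      obtain ⟨r, hr, b, hb, rfl⟩ := Submodule.mem_sup.1 ha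
      rw [map_add, Ideal.Quotient.eq_zero_iff_mem.2 hr, zero_add, hJ]
      exact Ideal.mem_map_of_mem _ hb
    refine le_antisymm ?_ (Submodule.smul_le.2 fun a ha v _ => ?_)
    · intro v hv
      refine Submodule.smul_induction_on (p := fun w => w ∈ (R ⊔ Ideal.ofList rs) • (⊤ : Submodule A N))
        (show v ∈ Ideal.ofList rs' • (⊤ : Submodule (A ⧸ R) N) from hv) (fun c hc w _ => ?_)
        fun _ _ h1 h2 => add_mem h1 h2
      obtain ⟨a, ha, rfl⟩ : ∃ a ∈ Ideal.ofList rs, Ideal.Quotient.mk R a = c :=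
        (Ideal.mem_map_iff_of_surjective (Ideal.Quotient.mk R) Ideal.Quotient.mk_surjective).1 (hJ ▸ hc)
      rw [← Ideal.Quotient.algebraMap_eq, algebraMap_smul]
      exact Submodule.smul_mem_smul (Submodule.mem_sup_right ha) Submodule.mem_top
    · show a • v ∈ Ideal.ofList rs' • (⊤ : Submodule (A ⧸ R) N)
      rw [← algebraMap_smul (A ⧸ R) a v]
      exact Submodule.smul_mem_smul (hmem a ha) Submodule.mem_top
  let eY : (N ⧸ (Ideal.ofList rs' • (⊤ : Submodule (A ⧸ R) N))) ≃ₗ[A]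
      N ⧸ ((R ⊔ Ideal.ofList rs) • (⊤ : Submodule A N)) :=
    (Submodule.Quotient.restrictScalarsEquiv A _).symm.trans (Submodule.quotEquivOfEq _ _ hsub)
  constructor
  · intro _
    exact Lib.FlatRegular.Basic.flat_of_surjective_of_equiv Ideal.Quotient.mk_surjective eK.symm eY.symm
  · intro _
    refine Lib.FlatRegular.Basic.flat_of_surjective_of_equiv ?_ eK eY
    exact Ideal.Quotient.mk_surjective.comp Ideal.Quotient.mk_surjective

/-- a) iff c) in the Noetherian case: let A be a Noetherian ring, R an ideal of A, f_1, …, f_n elements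
of the Jacobson radical of A whose images form a regular sequence on A/R, Q = R + (f_1, …, f_n), and
M a finitely generated A-module. Then every graded piece R^k M / R^(k+1) M is flat over A/R if and
only if, for every k, (R^k M / R^(k+1) M) ⊗ A/Q is flat over A/Q and f_1, …, f_n is a regular
sequence on R^k M / R^(k+1) M. -/
theorem result (A : Type u) [CommRing A] [IsNoetherianRing A]
    (R : Ideal A) {n : ℕ} (f : Fin n → A) (hrad : ∀ i, f i ∈ (⊥ : Ideal A).jacobson)
    (hreg : RingTheory.Sequence.IsWeaklyRegular (A ⧸ R) (List.ofFn f))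
    (M : Type u) [AddCommGroup M] [Module A M] [Module.Finite A M] :
    EGA4.IsNormallyFlat R M ↔
      ∀ k : ℕ, Module.Flat (A ⧸ (R ⊔ Ideal.span (Set.range f))) ((↥(R ^ k • (⊤ : Submodule A M)) ⧸ (R • (⊤ : Submodule A ↥(R ^ k • (⊤ : Submodule A M))))) ⧸ ((R ⊔ Ideal.span (Set.range f)) • (⊤ : Submodule A (↥(R ^ k • (⊤ : Submodule A M)) ⧸ (R • (⊤ : Submodule A ↥(R ^ k • (⊤ : Submodule A M)))))))) ∧
        RingTheory.Sequence.IsWeaklyRegular (↥(R ^ k • (⊤ : Submodule A M)) ⧸ (R • (⊤ : Submodule A ↥(R ^ k • (⊤ : Submodule A M))))) (List.ofFn f) := by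
  have hQ : Ideal.span (Set.range f) = Ideal.ofList (List.ofFn f) := by
    simp [Ideal.ofList, List.mem_ofFn', Set.range]
  rw [EGA4.IsNormallyFlat, hQ]
  refine forall_congr' fun k => ?_
  exact flat_iff_killed R (List.ofFn f) (by simpa [List.mem_ofFn'] using hrad) hreg _

end Groth.Agent.S5059
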