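import Groth.Statements.S5060
import Groth.Agent.Lib.NormalFlat.Criterion
import Groth.Agent.Lib.NormalFlat.Graded

set_option autoImplicit false
universe u
open CInt

namespace Groth.Agent.S5060

set_option linter.style.haveILetI false

open TensorProduct RingTheory.Sequence Lib.NormalFlat

/-- Hironaka's criterion for a finite module killed by `R`. -/
theorem flat_of_killed {A : Type u} [CommRing A] [IsNoetherianRing A] (R : Ideal A) (rs : List A)
    (hrad : ∀ x ∈ rs, x ∈ (⊥ : Ideal A).jacobson) (hreg : IsWeaklyRegular (A ⧸ R) rs)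
    (N : Type u) [AddCommGroup N] [Module A N] [Module (A ⧸ R) N] [IsScalarTower A (A ⧸ R) N]
    [Module.Finite A N]
    [Module.Flat (A ⧸ (R ⊔ Ideal.ofList rs)) (N ⧸ ((R ⊔ Ideal.ofList rs) • (⊤ : Submodule A N)))]
    (hp : ∀ (p : Ideal (A ⧸ R)) [p.IsPrime],
      p ∈ associatedPrimes (A ⧸ R) ((A ⧸ R) ⧸ Ideal.map (Ideal.Quotient.mk R) (R ⊔ Ideal.ofList rs)) →
        Module.Flat (Localization.AtPrime p) (LocalizedModule p.primeCompl N)) :
    Module.Flat (A ⧸ R) N := by
  haveI : Module.Finite (A ⧸ R) N := Module.Finite.of_restrictScalars_finite A _ _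
  set rs' := rs.map (algebraMap A (A ⧸ R)) with hrs'
  have hJ : Ideal.ofList rs' = (Ideal.ofList rs).map (Ideal.Quotient.mkₐ A R) := by
    rw [hrs', ← Ideal.map_ofList]
    rfl
  have hJ' : Ideal.ofList rs' = (R ⊔ Ideal.ofList rs).map (Ideal.Quotient.mk R) := by
    rw [Ideal.map_sup, Ideal.map_quotient_self, bot_sup_eq, hJ]
    rfl
  have hjac : ∀ x ∈ rs', x ∈ (⊥ : Ideal (A ⧸ R)).jacobson := by
    intro x hx
    obtain ⟨a, ha, rfl⟩ := List.mem_map.1 hx
    have hle : (⊥ : Ideal A).jacobson ≤ (⊥ : Ideal (A ⧸ R)).jacobson.comap (Ideal.Quotient.mk R) := by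
      rw [Ideal.comap_jacobson_of_surjective Ideal.Quotient.mk_surjective]
      exact Ideal.jacobson_mono bot_le
    exact hle (hrad a ha)
  let eK : (A ⧸ (R ⊔ Ideal.ofList rs)) ≃ₐ[A] ((A ⧸ R) ⧸ Ideal.ofList rs') :=
    (DoubleQuot.quotQuotEquivQuotSupₐ A R (Ideal.ofList rs)).symm.trans (Ideal.quotientEquivAlgOfEq A hJ.symm)
  have hsub : (Ideal.ofList rs' • (⊤ : Submodule (A ⧸ R) N)).restrictScalars A =
      (R ⊔ Ideal.ofList rs) • (⊤ : Submodule A N) := by
    refine le_antisymm ?_ (Submodule.smul_le.2 fun a ha v _ => ?_)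
    · intro v hv
      refine Submodule.smul_induction_on (p := fun w => w ∈ (R ⊔ Ideal.ofList rs) • (⊤ : Submodule A N))
        (show v ∈ Ideal.ofList rs' • (⊤ : Submodule (A ⧸ R) N) from hv) (fun c hc w _ => ?_)
        fun _ _ h1 h2 => add_mem h1 h2
      obtain ⟨a, ha, rfl⟩ : ∃ a ∈ R ⊔ Ideal.ofList rs, Ideal.Quotient.mk R a = c :=
        (Ideal.mem_map_iff_of_surjective (Ideal.Quotient.mk R) Ideal.Quotient.mk_surjective).1 (hJ' ▸ hc)
      rw [← Ideal.Quotient.algebraMap_eq, algebraMap_smul]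
      exact Submodule.smul_mem_smul ha Submodule.mem_top
    · show a • v ∈ Ideal.ofList rs' • (⊤ : Submodule (A ⧸ R) N)
      rw [← algebraMap_smul (A ⧸ R) a v, hJ']
      exact Submodule.smul_mem_smul (Ideal.mem_map_of_mem _ ha) Submodule.mem_top
  let eY : (N ⧸ (Ideal.ofList rs' • (⊤ : Submodule (A ⧸ R) N))) ≃ₗ[A]
      N ⧸ ((R ⊔ Ideal.ofList rs) • (⊤ : Submodule A N)) :=
    (Submodule.Quotient.restrictScalarsEquiv A _).symm.trans (Submodule.quotEquivOfEq _ _ hsub)
  have h1 : Module.Flat ((A ⧸ R) ⧸ Ideal.ofList rs') (N ⧸ (Ideal.ofList rs' • (⊤ : Submodule (A ⧸ R) N))) :=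
    Lib.FlatRegular.Basic.flat_of_surjective_of_equiv
      (Ideal.Quotient.mk_surjective.comp Ideal.Quotient.mk_surjective) eK eY
  haveI := (Lib.FlatRegular.Basic.flat_quotSMul_iff (Ideal.ofList rs') N).2 h1
  refine Criterion.flat_of_quotient rs' hjac ((isWeaklyRegular_map_algebraMap_iff (A ⧸ R) (A ⧸ R) rs).2 hreg)
    (Ideal.ofList rs') rfl N fun p _ hpp => ?_
  haveI := hp p (hJ' ▸ hpp)
  exact Module.Flat.of_linearEquiv (LocalizedModule.equivTensorProduct p.primeCompl N).symm

/-- a) iff d) in the Noetherian case: let A be a Noetherian ring, R an ideal, f_1, …, f_n elements of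
the Jacobson radical of A forming a regular sequence on A/R and on every R^k/R^(k+1), Q = R + (f_1,
…, f_n), and M a finitely generated A-module. Then every R^k M / R^(k+1) M is flat over A/R if and
only if every Q^k M / Q^(k+1) M is flat over A/Q and, for every associated prime p of A/Q viewed as
an (A/R)-module, every localized piece (R^k M / R^(k+1) M)_p is flat over (A/R)_p. -/
theorem result (A : Type u) [CommRing A] [IsNoetherianRing A]
    (R : Ideal A) {n : ℕ} (f : Fin n → A) (hrad : ∀ i, f i ∈ (⊥ : Ideal A).jacobson)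
    (hreg : RingTheory.Sequence.IsWeaklyRegular (A ⧸ R) (List.ofFn f))
    (hreggr : ∀ k : ℕ, RingTheory.Sequence.IsWeaklyRegular (↥(R ^ k • (⊤ : Submodule A A)) ⧸ (R • (⊤ : Submodule A ↥(R ^ k • (⊤ : Submodule A A))))) (List.ofFn f))
    (M : Type u) [AddCommGroup M] [Module A M] [Module.Finite A M] :
    EGA4.IsNormallyFlat R M ↔
      EGA4.IsNormallyFlat (R ⊔ Ideal.span (Set.range f)) M ∧
        ∀ (p : Ideal (A ⧸ R)) [p.IsPrime],
          p ∈ associatedPrimes (A ⧸ R) ((A ⧸ R) ⧸ Ideal.map (Ideal.Quotient.mk R) (R ⊔ Ideal.span (Set.range f))) →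
            ∀ k : ℕ, Module.Flat (Localization.AtPrime p) (LocalizedModule p.primeCompl (↥(R ^ k • (⊤ : Submodule A M)) ⧸ (R • (⊤ : Submodule A ↥(R ^ k • (⊤ : Submodule A M)))))) := by
  have hQ : Ideal.span (Set.range f) = Ideal.ofList (List.ofFn f) := by
    simp [Ideal.ofList, List.mem_ofFn', Set.range]
  have hjac : ∀ x ∈ List.ofFn f, x ∈ (⊥ : Ideal A).jacobson := by simpa [List.mem_ofFn'] using hrad
  rw [hQ]
  constructor
  · intro h
    refine ⟨fun k => (Graded.main (M := M) _ hjac R _ hreg rfl (k + 1) fun j _ => h j).1 k k.lt_succ_self,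
      fun p _ _ k => ?_⟩
    haveI := h k
    infer_instance
  · rintro ⟨hQflat, hloc⟩ k
    induction k using Nat.strong_induction_on with
    | _ k ih =>
      obtain ⟨-, hret⟩ := Graded.main (M := M) _ hjac R _ hreg rfl k ih
      haveI := hQflat k
      haveI := Graded.flat_of_ret (I := R ⊔ Ideal.ofList (List.ofFn f)) hret
      exact flat_of_killed R (List.ofFn f) hjac hreg _ fun p _ hp => hloc p hp k

end Groth.Agent.S5060
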