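import Groth.Statements.S5061
import Groth.Agent.Lib.H58RedPurInsep
-- import your own Groth.Agent.* helpers here

set_option autoImplicit false
open scoped TensorProduct
universe u
open EGA418

namespace Groth.Agent.S5061

/-- a) iff c): let k be a field of characteristic p > 0, P a perfect closure of k (a perfect field
purely inseparable over k) and K an extension field of k. Then the ring K ⊗_k P is Artinian if and
only if there exists a finite purely inseparable extension k' of k such that (k' ⊗_k K) modulo its
nilradical is geometrically reduced over k'. -/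
theorem result (p : ℕ) [Fact p.Prime]
    (k K : Type u) [Field k] [CharP k p] [Field K] [Algebra k K]
    (P : Type u) [Field P] [Algebra k P] [PerfectRing P p] [IsPRadical (algebraMap k P) p] :
    IsArtinianRing (K ⊗[k] P) ↔
      ∃ (k' : Type u) (_ : Field k') (_ : Algebra k k'), Module.Finite k k' ∧ IsPurelyInseparable k k' ∧
        Algebra.IsGeometricallyReduced k' ((k' ⊗[k] K) ⧸ nilradical (k' ⊗[k] K)) := by
  have : ExpChar k p := ExpChar.prime Fact.out
  have : CharP P p := charP_of_injective_algebraMap (algebraMap k P).injective p
  have : ExpChar P p := ExpChar.prime Fact.out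
  have : PerfectField P := PerfectRing.toPerfectField P p
  have : IsPurelyInseparable k P := IsPRadical.isPurelyInseparable k P p
  constructor
  · intro h
    have : IsNoetherianRing (P ⊗[k] K) :=
      isNoetherianRing_of_ringEquiv (K ⊗[k] P) (Algebra.TensorProduct.comm k K P).toRingEquiv
    obtain ⟨k', i1, i2, h1, h2, h3⟩ := Groth.Agent.Lib.H58RedPurInsep.exists_ext_of_fg (k := k) (P := P)
      (fun _ : Unit => K) fun _ => IsNoetherian.noetherian _
    exact ⟨k', i1, i2, h1, h2, h3 ()⟩
  · rintro ⟨k', i1, i2, h1, h2, h3⟩
    have : CharP k' p := charP_of_injective_algebraMap (algebraMap k k').injective p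
    have : ExpChar k' p := ExpChar.prime Fact.out
    have : IsPRadical (algebraMap k k') p := IsPurelyInseparable.isPRadical k k' p
    let _ : Algebra k' P := (PerfectRing.lift (algebraMap k k') (algebraMap k P) p).toAlgebra
    have : IsScalarTower k k' P := IsScalarTower.of_algebraMap_eq fun c =>
      (PerfectRing.lift_comp_apply (algebraMap k k') (algebraMap k P) p c).symm
    have : IsNoetherianRing (K ⊗[k] k') := IsNoetherianRing.of_finite K _
    have : IsNoetherianRing (k' ⊗[k] K) :=
      isNoetherianRing_of_ringEquiv (K ⊗[k] k') (Algebra.TensorProduct.comm k K k').toRingEquiv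
    have hfg := Groth.Agent.Lib.H58RedPurInsep.fg_nilradical (k := k) (k' := k') (P := P) (A := K)
    have := Groth.Agent.Lib.H58RedPurInsep.isArtinianRing_of_fg (k := k) (P := P) (K := K) hfg
    exact RingEquiv.isArtinianRing (Algebra.TensorProduct.comm k P K).toRingEquiv

end Groth.Agent.S5061
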