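import Groth.Statements.S5064
import Groth.Agent.Lib.Unram.BaseChangeNhd
import Groth.Agent.Lib.Unram.SplitFamily

set_option autoImplicit false
open CategoryTheory CategoryTheory.Limits AlgebraicGeometry
universe u
open Unram

namespace Groth.Agent.S5064

open Groth.Agent.Lib.Unram

/-- Let f : X ⟶ Y be locally of finite presentation. If f is étale then there are étale morphisms g_a :
Y'_a ⟶ Y and opens U_a of the fibre products X ×_Y Y'_a whose images under the first projections
cover X, such that each U_a ⟶ Y'_a (inclusion followed by the second projection) is an open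
immersion. Conversely, the existence of such a family with the g_a only assumed flat implies that f
is étale. -/
theorem result {X Y : Scheme.{u}} (f : X ⟶ Y) [LocallyOfFinitePresentation f] :
    (Etale f → ∃ (ι : Type u) (Y' : ι → Scheme.{u}) (g : ∀ a, Y' a ⟶ Y) (U : ∀ a, (pullback f (g a)).Opens),
      (∀ a, Etale (g a)) ∧ (∀ x : X, ∃ a, x ∈ (pullback.fst f (g a)).base '' (U a : Set ↥(pullback f (g a)))) ∧
        ∀ a, IsOpenImmersion ((U a).ι ≫ pullback.snd f (g a))) ∧
    ((∃ (ι : Type u) (Y' : ι → Scheme.{u}) (g : ∀ a, Y' a ⟶ Y) (U : ∀ a, (pullback f (g a)).Opens),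
      (∀ a, Flat (g a)) ∧ (∀ x : X, ∃ a, x ∈ (pullback.fst f (g a)).base '' (U a : Set ↥(pullback f (g a)))) ∧
        ∀ a, IsOpenImmersion ((U a).ι ≫ pullback.snd f (g a))) → Etale f) := by
  refine ⟨fun he => ?_, fun H => ?_⟩
  · have key := fun x : X => SplitNhd.exists_isSplit f x ⊤ trivial
    choose U g u hg hgu K hK V hV using key
    refine ⟨Σ x : X, ULift.{u} (K x), fun a => U a.1, fun a => g a.1, fun a => V a.1 a.2.down,
      fun a => hg a.1, fun x => ?_, fun a => ?_⟩
    · obtain ⟨z, hz1, hz2⟩ := Scheme.Pullback.exists_preimage_pullback x (u x) (hgu x).symm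
      obtain ⟨k, hk⟩ := (hV x).cover z hz2 hz1
      exact ⟨⟨x, ⟨k⟩⟩, z, hk, hz1⟩
    · have := (hV a.1).closed a.2.down
      have := SplitFamily.etale_restrict (f := f) ⊤ (V a.1 a.2.down) ((hV a.1).le a.2.down)
      exact IsOpenImmersion.of_flat_of_mono _
  · obtain ⟨ι, Y', g, U, hg, hcov, hU⟩ := H
    have key : ∀ x : X, ∃ O : X.Opens, x ∈ O ∧ Etale (O.ι ≫ f) := fun x => by
      obtain ⟨a, w, hw, rfl⟩ := hcov x
      have := hg a
      have := hU a
      exact BaseChangeNhd.exists_nhd_descend_of_flat @Etale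
        (fun i _ => inferInstance) BaseChangeNhd.etale_at_descend_ring f (g a) w
        ⟨U a, hw, inferInstance⟩
    choose O hO hP using key
    exact IsZariskiLocalAtSource.of_iSup_eq_top O
      (eq_top_iff.mpr fun x _ => TopologicalSpace.Opens.mem_iSup.mpr ⟨x, hO x⟩) hP

end Groth.Agent.S5064
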