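import Groth.Statements.S5067
import Groth.Agent.Lib.Unram.EtaleMono
import Groth.Agent.Lib.SourceDescent.Scheme

set_option autoImplicit false
open CategoryTheory AlgebraicGeometry
universe u
open Unram

namespace Groth.Agent.S5067

open CategoryTheory.Limits

/-- Let f : X ⟶ Y be an étale separated morphism of integral schemes which maps the generic point of X
to the generic point of Y and induces a bijection between the residue fields of the generic points
(f is birational). Then f is an open immersion. -/
theorem result {X Y : Scheme.{u}} [IsIntegral X] [IsIntegral Y]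
    (f : X ⟶ Y) [Etale f] [IsSeparated f] (hgen : f.base (genericPoint X) = genericPoint Y)
    (hbir : Function.Bijective (f.residueFieldMap (genericPoint X)).hom) : IsOpenImmersion f := by
  have : LocallyQuasiFinite f := Groth.Agent.Lib.SourceDescent.Scheme.locallyQuasiFinite_of_etale f
  set ξ := genericPoint X
  set η := genericPoint Y
  have hfib : ∀ x : X, f x = η → x = ξ := fun x hx => by
    have hd := f.isDiscrete_preimage_singleton η
    have := hd.to_subtype
    obtain ⟨U, hU, hUx⟩ := isOpen_induced_iff.mp (isOpen_discrete ({⟨x, hx⟩} : Set (f ⁻¹' {η})))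
    have h2 : (⟨x, hx⟩ : f ⁻¹' {η}) ∈ Subtype.val ⁻¹' U := by rw [hUx]; rfl
    have h3 : (⟨ξ, hgen⟩ : f ⁻¹' {η}) ∈ Subtype.val ⁻¹' U :=
      (genericPoint_specializes x).mem_open hU h2
    rw [hUx] at h3
    exact (congrArg Subtype.val h3).symm
  have : IsIso (f.residueFieldMap ξ) := (ConcreteCategory.isIso_iff_bijective _).mpr hbir
  have : Surjective (pullback.diagonal f) := ⟨fun z => by
    obtain ⟨z', hz', hz'η⟩ := Flat.generalizingMap (pullback.fst f f ≫ f)
      (genericPoint_specializes ((pullback.fst f f ≫ f) z))
    let φ := (pullback f f).fromSpecResidueField z'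
    let pt := IsLocalRing.closedPoint ((pullback f f).residueField z')
    have hpt : φ pt = z' := Scheme.fromSpecResidueField_apply _ _
    have h₁ : (φ ≫ pullback.fst f f) pt = ξ := hfib _ (by
      rw [Scheme.Hom.comp_apply, hpt, ← Scheme.Hom.comp_apply]; exact hz'η)
    have h₂ : (φ ≫ pullback.snd f f) pt = ξ := hfib _ (by
      rw [Scheme.Hom.comp_apply, hpt, ← Scheme.Hom.comp_apply, ← pullback.condition]; exact hz'η)
    have heq : φ ≫ pullback.fst f f = φ ≫ pullback.snd f f := by
      have hg : (φ ≫ pullback.fst f f) ≫ f = (φ ≫ pullback.snd f f) ≫ f := by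
        rw [Category.assoc, Category.assoc, pullback.condition]
      have : IsIso (f.residueFieldMap ((φ ≫ pullback.fst f f) pt)) := by
        rw [h₁]
        infer_instance
      exact Groth.Agent.Lib.Unram.EtaleMono.eq_of_isIso_residueFieldMap f
        (K := (pullback f f).residueField z') _ _ (h₁.trans h₂.symm) hg
    have h3 : φ = (φ ≫ pullback.fst f f) ≫ pullback.diagonal f := pullback.hom_ext
      (by rw [Category.assoc (f := φ ≫ _), pullback.diagonal_fst, Category.comp_id])
      (by rw [Category.assoc (f := φ ≫ _), pullback.diagonal_snd, Category.comp_id, heq])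
    have hmem : z' ∈ Set.range (pullback.diagonal f) :=
      ⟨(φ ≫ pullback.fst f f) pt, by rw [← Scheme.Hom.comp_apply, ← h3, hpt]⟩
    exact hz'.mem_closed (pullback.diagonal f).isClosedEmbedding.isClosed_range hmem⟩
  exact Groth.Agent.Lib.Unram.EtaleMono.isOpenImmersion_of_surjective_diagonal f

end Groth.Agent.S5067
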