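import Groth.Statements.S5774
import Groth.Agent.Lib.QDepth.FlatFibre
import Mathlib.RingTheory.Regular.RegularSequence


set_option autoImplicit false
universe u
open EGA41

namespace Groth.Agent.S5774

open Pointwise in
theorem swap_weakly {B : Type u} [CommRing B] (I : Ideal B) (x : B) (M : Type u)
    [AddCommGroup M] [Module B M] (rs : List B)
    (h : RingTheory.Sequence.IsWeaklyRegular (QuotSMulTop x (M ⧸ (I • (⊤ : Submodule B M)))) rs) :
    RingTheory.Sequence.IsWeaklyRegular
      (QuotSMulTop x M ⧸ (I • (⊤ : Submodule B (QuotSMulTop x M)))) rs := by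
  let f : M →ₗ[B] QuotSMulTop x (M ⧸ (I • (⊤ : Submodule B M))) :=
    (x • (⊤ : Submodule B (M ⧸ (I • (⊤ : Submodule B M))))).mkQ.comp (I • (⊤ : Submodule B M)).mkQ
  let g : M →ₗ[B] QuotSMulTop x M ⧸ (I • (⊤ : Submodule B (QuotSMulTop x M))) :=
    (I • (⊤ : Submodule B (QuotSMulTop x M))).mkQ.comp (x • (⊤ : Submodule B M)).mkQ
  have hf : LinearMap.ker f = x • (⊤ : Submodule B M) ⊔ I • ⊤ := by
    rw [LinearMap.ker_comp, Submodule.ker_mkQ,
      show x • (⊤ : Submodule B (M ⧸ (I • (⊤ : Submodule B M)))) =
        (x • (⊤ : Submodule B M)).map (I • (⊤ : Submodule B M)).mkQ by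
          rw [Submodule.map_pointwise_smul, Submodule.map_top, Submodule.range_mkQ],
      Submodule.comap_map_mkQ, sup_comm]
  have hg : LinearMap.ker g = x • (⊤ : Submodule B M) ⊔ I • ⊤ := by
    rw [LinearMap.ker_comp, Submodule.ker_mkQ,
      show I • (⊤ : Submodule B (QuotSMulTop x M)) =
        (I • (⊤ : Submodule B M)).map (x • (⊤ : Submodule B M)).mkQ by
          rw [Submodule.map_smul'', Submodule.map_top, Submodule.range_mkQ],
      Submodule.comap_map_mkQ]
  have hfs : Function.Surjective f :=
    (Submodule.mkQ_surjective _).comp (Submodule.mkQ_surjective _)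
  have hgs : Function.Surjective g :=
    (Submodule.mkQ_surjective _).comp (Submodule.mkQ_surjective _)
  exact (LinearEquiv.isWeaklyRegular_congr ((f.quotKerEquivOfSurjective hfs).symm ≪≫ₗ
    Submodule.quotEquivOfEq _ _ (hf.trans hg.symm) ≪≫ₗ g.quotKerEquivOfSurjective hgs) rs).mp h

theorem aux (A B : Type u) [CommRing A] [CommRing B]
    [IsLocalRing A] [IsLocalRing B] [IsNoetherianRing A] [IsNoetherianRing B] [Algebra A B]
    [IsLocalHom (algebraMap A B)] : ∀ (fs : List B) (M : Type u) [AddCommGroup M] [Module B M]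
    [Module A M] [IsScalarTower A B M] [Module.Finite B M] [Module.Flat A M],
    RingTheory.Sequence.IsWeaklyRegular
      (M ⧸ ((IsLocalRing.maximalIdeal A).map (algebraMap A B) • (⊤ : Submodule B M))) fs →
    RingTheory.Sequence.IsWeaklyRegular M fs ∧
      ∀ i ≤ fs.length, Module.Flat A (M ⧸ (Ideal.ofList (fs.take i) • (⊤ : Submodule B M))) := by
  intro fs
  induction fs with
  | nil =>
    intro M _ _ _ _ _ _ _
    refine ⟨RingTheory.Sequence.IsWeaklyRegular.nil B M, fun i _ => ?_⟩
    exact Module.Flat.of_linearEquiv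
      ((Submodule.quotEquivOfEqBot _ (by simp)).restrictScalars A)
  | cons x rs ih =>
    intro M _ _ _ _ _ _ h
    rw [RingTheory.Sequence.isWeaklyRegular_cons_iff] at h
    obtain ⟨hxM, hflat⟩ := Groth.Agent.Lib.QDepth.regular_of_fibre (A := A) x (M := M) fun m hm => by
      rw [← Submodule.Quotient.mk_eq_zero] at hm ⊢
      rw [Submodule.Quotient.mk_smul] at hm
      exact h.1 (show x • _ = x • (0 : _) by rw [hm, smul_zero])
    obtain ⟨h1, h2⟩ := ih (QuotSMulTop x M)
      (swap_weakly _ x M rs h.2)
    refine ⟨(RingTheory.Sequence.isWeaklyRegular_cons_iff _ _ _).mpr ⟨hxM, h1⟩, fun i hi => ?_⟩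
    cases i with
    | zero =>
      exact Module.Flat.of_linearEquiv
        ((Submodule.quotEquivOfEqBot _ (by simp)).restrictScalars A)
    | succ j =>
      have := h2 j (by simpa using hi)
      exact Module.Flat.of_linearEquiv
        ((Submodule.quotOfListConsSMulTopEquivQuotSMulTopInner M x (rs.take j)).restrictScalars A)

/-- Let A → B be a local homomorphism of Noetherian local rings, m the maximal ideal of A and k = A/m, M
a finitely generated B-module which is flat over A, and f_1, ..., f_n elements of B whose images g_i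
in B ⊗_A k form an (M ⊗_A k)-regular sequence. Then (f_i) is an M-regular sequence and the quotients
M/(f_1 M + ... + f_i M), 0 ≤ i ≤ n, are flat over A. (The f_i are not required to lie in the maximal
ideal of B.) -/
theorem result (A B : Type u) [CommRing A] [CommRing B]
    [IsLocalRing A] [IsLocalRing B] [IsNoetherianRing A] [IsNoetherianRing B] [Algebra A B]
    [IsLocalHom (algebraMap A B)] (M : Type u) [AddCommGroup M] [Module B M] [Module A M]
    [IsScalarTower A B M] [Module.Finite B M] [Module.Flat A M] (fs : List B)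
    (hreg : RingTheory.Sequence.IsWeaklyRegular
      (M ⧸ ((IsLocalRing.maximalIdeal A).map (algebraMap A B) • (⊤ : Submodule B M))) fs) :
    RingTheory.Sequence.IsWeaklyRegular M fs ∧
      ∀ i ≤ fs.length, Module.Flat A (M ⧸ (Ideal.ofList (fs.take i) • (⊤ : Submodule B M))) := by
  exact aux A B fs M hreg

end Groth.Agent.S5774
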