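import Groth.Statements.S5775
import Groth.Agent.S5774
import Mathlib.RingTheory.Flat.Equalizer


set_option autoImplicit false
universe u
open EGA41

namespace Groth.Agent.S5775

theorem inf_smul_le {A B : Type u} [CommRing A] [CommRing B] [Algebra A B] (m : Ideal A)
    {M : Type u} [AddCommGroup M] [Module B M] [Module A M] [IsScalarTower A B M]
    (R : Submodule B M) [Module.Flat A (M ⧸ R)] :
    R ⊓ m.map (algebraMap A B) • (⊤ : Submodule B M) ≤ m.map (algebraMap A B) • R := by
  rintro x ⟨hxR, hxm⟩
  let g : R.restrictScalars A →ₗ[A] M := (R.restrictScalars A).subtype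
  have hg := LinearMap.lTensor_injective_of_exact_of_flat (P := M ⧸ R)
    ((R.mkQ).restrictScalars A) R.mkQ_surjective g Subtype.val_injective
    (LinearMap.exact_iff.mpr (by ext; simp [g])) (A ⧸ m)
  have h0 : g.lTensor (A ⧸ m) (1 ⊗ₜ[A] (⟨x, hxR⟩ : R.restrictScalars A)) = 0 := by
    rw [LinearMap.lTensor_tmul]
    apply (TensorProduct.quotTensorEquivQuotSMul M m).injective
    rw [TensorProduct.quotTensorEquivQuotSMul_mk_one_tmul, map_zero, Submodule.Quotient.mk_eq_zero]
    rw [SetLike.mem_coe, ← Submodule.restrictScalars_mem A, Ideal.smul_restrictScalars,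
      Submodule.restrictScalars_top]
      at hxm
    exact hxm
  have h2 := congrArg (TensorProduct.quotTensorEquivQuotSMul (R.restrictScalars A) m)
    (hg (h0.trans (map_zero _).symm))
  rw [TensorProduct.quotTensorEquivQuotSMul_mk_one_tmul, map_zero, Submodule.Quotient.mk_eq_zero]
    at h2
  have h3 := Submodule.mem_map_of_mem (f := g) h2
  rw [Submodule.map_smul''] at h3
  refine Submodule.smul_induction_on (p := fun z => z ∈ m.map (algebraMap A B) • R) h3 ?_
    fun _ _ => add_mem
  rintro r hr _ ⟨z, -, rfl⟩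
  rw [← algebraMap_smul B r (g z)]
  exact Submodule.smul_mem_smul (Ideal.mem_map_of_mem _ hr) z.2

/-- Let A → B be a local homomorphism of Noetherian local rings, m the maximal ideal of A, M a finitely
generated B-module flat over A and R a B-submodule of M such that M/R is flat over A. Let f_1, ...,
f_n be elements of the maximal ideal of B such that (i) f_i M ⊆ R for all i, (ii) the images of the
f_i form an (M/mM)-regular sequence, and (iii) the submodule f_1 (M/mM) + ... + f_n (M/mM) is the
image of R in M/mM. Then (f_i) is an M-regular sequence and R = f_1 M + ... + f_n M. -/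
theorem result (A B : Type u) [CommRing A] [CommRing B] [IsLocalRing A]
    [IsLocalRing B] [IsNoetherianRing A] [IsNoetherianRing B] [Algebra A B] [IsLocalHom (algebraMap A B)]
    (M : Type u) [AddCommGroup M] [Module B M] [Module A M] [IsScalarTower A B M] [Module.Finite B M]
    [Module.Flat A M] (R : Submodule B M) (hR : Module.Flat A (M ⧸ R)) (fs : List B)
    (hfs : ∀ f ∈ fs, f ∈ IsLocalRing.maximalIdeal B) (h1 : Ideal.ofList fs • (⊤ : Submodule B M) ≤ R)
    (h2 : RingTheory.Sequence.IsWeaklyRegular
      (M ⧸ ((IsLocalRing.maximalIdeal A).map (algebraMap A B) • (⊤ : Submodule B M))) fs)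
    (h3 : Ideal.ofList fs • (⊤ : Submodule B
        (M ⧸ ((IsLocalRing.maximalIdeal A).map (algebraMap A B) • (⊤ : Submodule B M)))) =
      R.map ((IsLocalRing.maximalIdeal A).map (algebraMap A B) • (⊤ : Submodule B M)).mkQ) :
    RingTheory.Sequence.IsWeaklyRegular M fs ∧ R = Ideal.ofList fs • (⊤ : Submodule B M) := by
  refine ⟨(Groth.Agent.S5774.result A B M fs h2).1, le_antisymm ?_ h1⟩
  have hm : (IsLocalRing.maximalIdeal A).map (algebraMap A B) ≤ IsLocalRing.maximalIdeal B :=
    ((IsLocalRing.local_hom_TFAE (algebraMap A B)).out 0 2).mp ‹_›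
  haveI := hR
  refine Submodule.le_of_le_smul_of_le_jacobson_bot (IsNoetherian.noetherian R)
    (IsLocalRing.maximalIdeal_le_jacobson ⊥) fun x hx => ?_
  have hx' : Submodule.mkQ _ x ∈ Ideal.ofList fs • (⊤ : Submodule B
      (M ⧸ ((IsLocalRing.maximalIdeal A).map (algebraMap A B) • (⊤ : Submodule B M)))) :=
    h3 ▸ Submodule.mem_map_of_mem hx
  rw [← Groth.Agent.Lib.Depth.Basic.smul_top_map _ _ (Submodule.mkQ_surjective _)] at hx'
  obtain ⟨y, hy, hyx⟩ := hx'
  have hsub : x - y ∈ (IsLocalRing.maximalIdeal A).map (algebraMap A B) • (⊤ : Submodule B M) :=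
    (Submodule.Quotient.eq _).mp hyx.symm
  rw [show x = y + (x - y) from (add_sub_cancel y x).symm]
  exact Submodule.add_mem_sup hy
    (Submodule.smul_mono_left hm (inf_smul_le _ R ⟨sub_mem hx (h1 hy), hsub⟩))

end Groth.Agent.S5775
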