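import Groth.Statements.S5068
import Groth.Agent.H26.CIQuotient
import Groth.Agent.S5774
import Groth.Agent.S5775
import Mathlib.RingTheory.Flat.EquationalCriterion


set_option autoImplicit false
universe u
open CInt

namespace Groth.Agent.S5068

theorem mem_sup_of_flat {A C : Type u} [CommRing A] [CommRing C] [Algebra A C] (𝔪 : Ideal A)
    (J : Ideal C) (f z : C) [Module.Flat A (C ⧸ (J ⊔ Ideal.span {f}))]
    (hf : ∀ w, f * w ∈ J → w ∈ J) (hz : f * z ∈ J ⊔ 𝔪.map (algebraMap A C)) :
    z ∈ J ⊔ 𝔪.map (algebraMap A C) := by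
  classical
  obtain ⟨j, hj, w, hw, e⟩ := Submodule.mem_sup.mp hz
  obtain ⟨m, y, a, hy⟩ := Submodule.mem_span_set'.mp (show w ∈ Submodule.span C (algebraMap A C '' (𝔪 : Set A)) from hw)
  choose r hr hre using fun i => (a i).2
  have hw' : w = ∑ i, algebraMap A C (r i) * y i := by
    rw [← hy]; exact Finset.sum_congr rfl fun i _ => by rw [hre, smul_eq_mul, mul_comm]
  let mk := Ideal.Quotient.mk (J ⊔ Ideal.span {f})
  have h0 : ∑ i, r i • mk (y i) = 0 := by
    have : mk w = 0 := by
      rw [Ideal.Quotient.eq_zero_iff_mem, show w = f * z - j by rw [← e]; ring]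
      exact sub_mem (Ideal.mem_sup_right (Ideal.mul_mem_right _ _ (Ideal.mem_span_singleton_self f)))
        (Ideal.mem_sup_left hj)
    rw [hw', map_sum] at this
    rw [← this]
    refine Finset.sum_congr rfl fun i _ => ?_
    rw [map_mul, Algebra.smul_def]; rfl
  obtain ⟨q, c, v, hv, hc⟩ := Module.Flat.isTrivialRelation_of_sum_smul_eq_zero h0
  choose V hV using fun l => Ideal.Quotient.mk_surjective (v l)
  have hex : ∀ i, ∃ u : C, y i - ∑ l, algebraMap A C (c i l) * V l - u * f ∈ J := fun i => by
    have : mk (y i - ∑ l, algebraMap A C (c i l) * V l) = 0 := by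
      rw [map_sub, map_sum, sub_eq_zero]
      refine (hv i).trans (Finset.sum_congr rfl fun l _ => ?_)
      rw [map_mul, hV, Algebra.smul_def]; rfl
    obtain ⟨p, hp, t, ht, hpt⟩ := Submodule.mem_sup.mp (Ideal.Quotient.eq_zero_iff_mem.mp this)
    obtain ⟨u, rfl⟩ := Ideal.mem_span_singleton'.mp ht
    exact ⟨u, by rw [← hpt, add_sub_cancel_right]; exact hp⟩
  choose u hu using hex
  have h1 : f * (z - ∑ i, algebraMap A C (r i) * u i) ∈ J := by
    have h2 : w - (∑ i, algebraMap A C (r i) * u i) * f ∈ J := by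
      have h3 : ∑ i, algebraMap A C (r i) * (∑ l, algebraMap A C (c i l) * V l) = 0 := by
        simp only [Finset.mul_sum, ← mul_assoc, ← map_mul]
        rw [Finset.sum_comm]
        refine Finset.sum_eq_zero fun l _ => ?_
        rw [← Finset.sum_mul, ← map_sum, hc l, map_zero, zero_mul]
      rw [hw', Finset.sum_mul, ← Finset.sum_sub_distrib]
      have h4 : ∑ i, algebraMap A C (r i) * (y i - ∑ l, algebraMap A C (c i l) * V l - u i * f) ∈ J :=
        J.sum_mem fun i _ => J.mul_mem_left _ (hu i)
      simp only [mul_sub, Finset.sum_sub_distrib, h3, sub_zero] at h4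
      rw [Finset.sum_sub_distrib]
      simpa [mul_assoc] using h4
    have : f * (z - ∑ i, algebraMap A C (r i) * u i) =
        j + (w - (∑ i, algebraMap A C (r i) * u i) * f) := by rw [mul_sub, ← e]; ring
    rw [this]
    exact add_mem hj h2
  refine Submodule.mem_sup.mpr ⟨_, hf _ h1, ∑ i, algebraMap A C (r i) * u i, ?_, sub_add_cancel _ _⟩
  exact Submodule.sum_mem _ fun i _ => Ideal.mul_mem_right _ _ (Ideal.mem_map_of_mem _ (hr i))

theorem isSMulRegular_quotient_iff' {C : Type u} [CommRing C] (J N : Ideal C) (f : C) :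
    IsSMulRegular ((C ⧸ N) ⧸ J • (⊤ : Submodule C (C ⧸ N))) f ↔
      ∀ z, f * z ∈ J ⊔ N → z ∈ J ⊔ N := by
  have hmem : ∀ z, (Submodule.Quotient.mk (p := N) z) ∈ J • (⊤ : Submodule C (C ⧸ N)) ↔ z ∈ J ⊔ N := by
    intro z
    have : J • (⊤ : Submodule C (C ⧸ N)) = Submodule.map (Submodule.mkQ N) J := by
      rw [← Submodule.range_mkQ N, ← Submodule.map_top, ← Submodule.map_smul'', smul_eq_mul, Ideal.mul_top]
    rw [this, ← Submodule.mkQ_apply, ← Submodule.mem_comap, Submodule.comap_map_mkQ, sup_comm]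
  constructor
  · intro h z hz
    have h0 := h.right_eq_zero_of_smul (x := Submodule.Quotient.mk (Submodule.Quotient.mk z)) (by
      rw [← Submodule.Quotient.mk_smul, Submodule.Quotient.mk_eq_zero, ← Submodule.Quotient.mk_smul, hmem]
      exact hz)
    rwa [Submodule.Quotient.mk_eq_zero, hmem] at h0
  · intro h
    refine IsSMulRegular.of_right_eq_zero_of_smul fun x hx => ?_
    obtain ⟨x, rfl⟩ := Submodule.mkQ_surjective _ x
    obtain ⟨z, rfl⟩ := Submodule.mkQ_surjective _ x
    rw [Submodule.mkQ_apply, Submodule.mkQ_apply, ← Submodule.Quotient.mk_smul,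
      Submodule.Quotient.mk_eq_zero, ← Submodule.Quotient.mk_smul, hmem] at hx
    rw [Submodule.mkQ_apply, Submodule.mkQ_apply, Submodule.Quotient.mk_eq_zero, hmem]
    exact h z hx

/-- Suppose A and C are Noetherian local rings joined by a flat local homomorphism A → C whose closed
fibre C/m_A C is a regular local ring, and consider a local ring B obtained as a quotient of C by an
ideal J (encoded as a surjective C-algebra B, with J taken to be the kernel). The ideal J admits a
generating sequence that is transversally regular relative to A (each term a non-zero-divisor modulo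
the previous ones, and every partial quotient C/(f_1, …, f_j) A-flat) exactly when two things hold:
B is A-flat, and B/m_A B is a complete intersection (meaning its completion is a regular local ring
divided by a regular sequence). -/
theorem result (A C B : Type u) [CommRing A] [IsLocalRing A]
    [IsNoetherianRing A] [CommRing C] [IsLocalRing C] [IsNoetherianRing C] [Algebra A C] [IsLocalHom (algebraMap A C)]
    [Module.Flat A C] (hreg : IsRegularLocalRing (EGA4.FibRing A C))
    [CommRing B] [IsLocalRing B] [Algebra C B] [Algebra A B] [IsScalarTower A C B] [IsLocalHom (algebraMap A B)]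
    (hsurj : Function.Surjective (algebraMap C B)) :
    (∃ rs : List C, Ideal.ofList rs = RingHom.ker (algebraMap C B) ∧ RegImm.IsTransRegularSeq A C rs) ↔
      (Module.Flat A B ∧ Pi1.IsCompleteIntersection (EGA4.FibRing A B)) := by
  let 𝔪 := (IsLocalRing.maximalIdeal A).map (algebraMap A C)
  let J := RingHom.ker (algebraMap C B)
  let C₀ := EGA4.FibRing A C
  let B₀ := EGA4.FibRing A B
  have hm : 𝔪 ≤ IsLocalRing.maximalIdeal C :=
    ((IsLocalRing.local_hom_TFAE (algebraMap A C)).out 0 2).mp ‹_›
  have hJm : J ≤ IsLocalRing.maximalIdeal C := IsLocalRing.le_maximalIdeal (RingHom.ker_ne_top _)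
  have hmapm : 𝔪.map (algebraMap C B) = (IsLocalRing.maximalIdeal A).map (algebraMap A B) := by
    rw [Ideal.map_map, ← IsScalarTower.algebraMap_eq]
  let φ : C₀ →+* B₀ := Ideal.quotientMap _ (algebraMap C B) (Ideal.map_le_iff_le_comap.mp hmapm.le)
  letI : Algebra C₀ B₀ := φ.toAlgebra
  have hφs : Function.Surjective φ := by
    intro x
    obtain ⟨b, rfl⟩ := Ideal.Quotient.mk_surjective x
    obtain ⟨c, rfl⟩ := hsurj b
    exact ⟨Ideal.Quotient.mk _ c, rfl⟩
  have hφk : RingHom.ker φ = J.map (Ideal.Quotient.mk 𝔪) := by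
    ext x
    obtain ⟨c, rfl⟩ := Ideal.Quotient.mk_surjective x
    rw [RingHom.mem_ker, show φ (Ideal.Quotient.mk 𝔪 c) = Ideal.Quotient.mk _ (algebraMap C B c) from rfl,
      Ideal.Quotient.eq_zero_iff_mem]
    show algebraMap C B c ∈ (IsLocalRing.maximalIdeal A).map (algebraMap A B) ↔ _
    rw [← hmapm]
    constructor
    · intro h
      obtain ⟨t, ht, e⟩ := (Ideal.mem_map_iff_of_surjective _ hsurj).mp h
      refine (Ideal.mem_map_iff_of_surjective _ Ideal.Quotient.mk_surjective).mpr ⟨c - t, ?_, ?_⟩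
      · show algebraMap C B (c - t) = 0
        rw [map_sub, e, sub_self]
      · exact Ideal.Quotient.eq.mpr (by simpa using neg_mem ht)
    · intro h
      obtain ⟨t, ht, e⟩ := (Ideal.mem_map_iff_of_surjective _ Ideal.Quotient.mk_surjective).mp h
      have := Ideal.mem_map_of_mem (algebraMap C B) (Ideal.Quotient.eq.mp e)
      rw [map_sub, RingHom.mem_ker.mp ht, zero_sub] at this
      exact neg_mem_iff.mp this
  haveI : IsRegularLocalRing C₀ := hreg
  have hci := (Groth.Agent.H26.CIQuotient.isCompleteIntersection_iff_of_surjective (R := C₀) (A := B₀) hφs).1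
  let π : (C ⧸ J) ≃ₐ[C] B := Ideal.quotientKerAlgEquivOfSurjective (f := Algebra.ofId C B) hsurj
  constructor
  · rintro ⟨rs, hrs, hwr, hfl⟩
    have hflB : Module.Flat A B := by
      have h1 := hfl rs.length le_rfl
      rw [List.take_length, hrs] at h1
      exact Module.Flat.of_linearEquiv (π.toLinearEquiv.restrictScalars A).symm
    refine ⟨hflB, hci.mpr ⟨rs.map (Ideal.Quotient.mk 𝔪), ?_, ?_⟩⟩
    · have hmem : ∀ r ∈ rs.map (Ideal.Quotient.mk 𝔪), r ∈ IsLocalRing.maximalIdeal C₀ := by
        intro r hr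
        obtain ⟨c, hc, rfl⟩ := List.mem_map.mp hr
        refine IsLocalRing.le_maximalIdeal (RingHom.ker_ne_top φ) (hφk ▸ Ideal.mem_map_of_mem _ ?_)
        exact hrs.le (Ideal.subset_span hc)
      refine Groth.Agent.Lib.Depth.Basic.isRegular_of_mem (I := IsLocalRing.maximalIdeal C₀)
        (Groth.Agent.Lib.Depth.Basic.smul_top_ne_top Ideal.IsPrime.ne_top') ?_ hmem
      refine (RingTheory.Sequence.isWeaklyRegular_map_algebraMap_iff C₀ C₀ rs).mpr ⟨fun i hi => ?_⟩
      refine (Groth.Agent.S5068.isSMulRegular_quotient_iff' _ 𝔪 _).mpr fun z hz => ?_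
      have hflat := hfl (i + 1) hi
      rw [List.take_add_one, List.getElem?_eq_getElem hi, Option.toList_some, Ideal.ofList_append,
        Ideal.ofList_singleton] at hflat
      haveI := hflat
      refine Groth.Agent.S5068.mem_sup_of_flat (IsLocalRing.maximalIdeal A) _ rs[i] z (fun w hw => ?_) hz
      have := hwr.regular_mod_prev i hi
      have h2 := this.right_eq_zero_of_smul (x := Submodule.Quotient.mk w) (by
        rw [← Submodule.Quotient.mk_smul, Submodule.Quotient.mk_eq_zero, smul_eq_mul, smul_eq_mul, Ideal.mul_top]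
        exact hw)
      rwa [Submodule.Quotient.mk_eq_zero, smul_eq_mul, Ideal.mul_top] at h2
    · rw [← Ideal.map_ofList, hrs]
      exact hφk.symm
  · rintro ⟨hflB, hB⟩
    obtain ⟨rs₀, hreg₀, hrs₀⟩ := hci.mp hB
    have hlift : ∀ r ∈ rs₀, ∃ c ∈ J, Ideal.Quotient.mk 𝔪 c = r := fun r hr => by
      have : r ∈ RingHom.ker φ := hrs₀.le (Ideal.subset_span hr)
      rw [hφk] at this
      exact (Ideal.mem_map_iff_of_surjective _ Ideal.Quotient.mk_surjective).mp this
    choose! l hlJ hl using hlift
    let fs := rs₀.map l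
    have hfs : fs.map (Ideal.Quotient.mk 𝔪) = rs₀ := by
      rw [List.map_map]
      conv_rhs => rw [← List.map_id rs₀]
      exact List.map_congr_left hl
    have hfsJ : ∀ f ∈ fs, f ∈ J := fun f hf => by
      obtain ⟨r, hr, rfl⟩ := List.mem_map.mp hf
      exact hlJ r hr
    let e0 : (C ⧸ (𝔪 • (⊤ : Submodule C C))) ≃ₗ[C] C₀ :=
      Submodule.quotEquivOfEq _ _ (by rw [smul_eq_mul, Ideal.mul_top])
    have h2 : RingTheory.Sequence.IsWeaklyRegular (C ⧸ (𝔪 • (⊤ : Submodule C C))) fs := by
      rw [e0.isWeaklyRegular_congr, ← RingTheory.Sequence.isWeaklyRegular_map_algebraMap_iff C₀ C₀]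
      exact (congrArg (RingTheory.Sequence.IsWeaklyRegular C₀) hfs).mpr hreg₀.toIsWeaklyRegular
    have hflJ : Module.Flat A (C ⧸ J) := Module.Flat.of_linearEquiv (π.toLinearEquiv.restrictScalars A)
    have h3 : Ideal.ofList fs • (⊤ : Submodule C (C ⧸ (𝔪 • (⊤ : Submodule C C)))) =
        Submodule.map (𝔪 • (⊤ : Submodule C C)).mkQ J := by
      rw [← Submodule.range_mkQ, ← Submodule.map_top, ← Submodule.map_smul'', smul_eq_mul, Ideal.mul_top]
      have hsup : Ideal.ofList fs ⊔ 𝔪 = J ⊔ 𝔪 := by
        have : (Ideal.ofList fs).map (Ideal.Quotient.mk 𝔪) = J.map (Ideal.Quotient.mk 𝔪) := by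
          rw [Ideal.map_ofList, hfs, hrs₀]; exact hφk
        have := congrArg (Ideal.comap (Ideal.Quotient.mk 𝔪)) this
        rw [Ideal.comap_map_of_surjective' _ Ideal.Quotient.mk_surjective,
          Ideal.comap_map_of_surjective' _ Ideal.Quotient.mk_surjective, Ideal.mk_ker] at this
        exact this
      apply Submodule.comap_injective_of_surjective (Submodule.mkQ_surjective _)
      rw [Submodule.comap_map_mkQ, Submodule.comap_map_mkQ, smul_eq_mul, Ideal.mul_top, sup_comm, hsup, sup_comm]
    obtain ⟨hwr, hJeq⟩ := Groth.Agent.S5775.result A C C J hflJ fs (fun f hf => hJm (hfsJ f hf))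
      (by rw [smul_eq_mul, Ideal.mul_top]; exact Ideal.span_le.mpr hfsJ) h2 h3
    refine ⟨fs, ?_, hwr, fun i hi => ?_⟩
    · rw [show RingHom.ker (algebraMap C B) = J from rfl, hJeq, smul_eq_mul, Ideal.mul_top]
    · haveI := (Groth.Agent.S5774.result A C C fs h2).2 i hi
      exact Module.Flat.of_linearEquiv ((Submodule.quotEquivOfEq (Ideal.ofList (fs.take i) • (⊤ : Submodule C C))
        (Ideal.ofList (fs.take i)) (by rw [smul_eq_mul, Ideal.mul_top])).restrictScalars A).symm

end Groth.Agent.S5068
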