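import Groth.Statements.S5069
import Mathlib.RingTheory.Artinian.Module
import Mathlib.RingTheory.HopkinsLevitzki

set_option autoImplicit false
universe u v
open Hensel

namespace Groth.Agent.S5069

/-- First assertion, phrased for the images of the inductive system: let B be a Noetherian commutative
ring and (C_i) a family of Artinian subrings of B, directed under inclusion, whose union is B. Then
B is an Artinian ring. -/
theorem result (B : Type u) [CommRing B] [IsNoetherianRing B]
    {ι : Type v} [Nonempty ι] (C : ι → Subring B) (hdir : Directed (fun a b => a ≤ b) C)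
    (hart : ∀ i, IsArtinianRing ↥(C i)) (hcov : ∀ b : B, ∃ i, b ∈ C i) : IsArtinianRing B := by
  rw [isArtinianRing_iff_isNoetherianRing_krullDimLE_zero]
  refine ⟨inferInstance, Ring.krullDimLE_zero_iff.mpr fun p hp => Ideal.Quotient.maximal_of_isField _ ?_⟩
  refine { exists_pair_ne := ⟨0, 1, zero_ne_one⟩, mul_comm := mul_comm, mul_inv_cancel := fun {a} ha => ?_ }
  obtain ⟨x, rfl⟩ := Ideal.Quotient.mk_surjective a
  obtain ⟨i, hi⟩ := hcov x
  have := hart i
  have hx : (⟨x, hi⟩ : C i) ∉ p.comap (C i).subtype := fun h => ha (Ideal.Quotient.eq_zero_iff_mem.mpr h)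
  have hm : (p.comap (C i).subtype).IsMaximal := IsArtinianRing.isMaximal_of_isPrime _
  obtain ⟨y, z, hz, hyz⟩ := hm.exists_inv hx
  refine ⟨Ideal.Quotient.mk p y, ?_⟩
  rw [← map_mul, ← map_one (Ideal.Quotient.mk p), eq_comm, Ideal.Quotient.eq]
  have h' := congrArg (C i).subtype hyz
  rw [map_add, map_mul, map_one] at h'
  rw [← h']
  simpa [mul_comm] using hz

end Groth.Agent.S5069
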