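import Groth.Statements.S5071
import Groth.Agent.Lib.Flat55.Relations
import Groth.Agent.Lib.Regular45.QuasiReg
import Groth.Agent.Lib.DR.FlatAcyclic
import Groth.Agent.Lib.Synt92.CritLocal
import Groth.Agent.Lib.QDepth.FlatFibre


set_option autoImplicit false
universe u
open CInt

namespace Groth.Agent.S5071

open MvPolynomial in
theorem exists_homogeneous {B : Type u} [CommRing B] {c : ℕ} (f : Fin c → B) (K : Ideal B) (n : ℕ)
    {x : B} (hx : x ∈ K * Ideal.span (Set.range f) ^ n) :
    ∃ P : MvPolynomial (Fin c) B, P.IsHomogeneous n ∧ (∀ d, P.coeff d ∈ K) ∧ eval f P = x := by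
  induction hx using Submodule.mul_induction_on' with
  | mem_mul_mem k hk z hz =>
    obtain ⟨Q, hQ, rfl⟩ := (Ideal.mem_span_pow_iff_exists_isHomogeneous f z).mp hz
    exact ⟨C k * Q, hQ.C_mul k, fun d => by rw [coeff_C_mul]; exact K.mul_mem_right _ hk, by simp⟩
  | add y _ z _ hy hz =>
    obtain ⟨P, hP, hPc, rfl⟩ := hy
    obtain ⟨Q, hQ, hQc, rfl⟩ := hz
    exact ⟨P + Q, hP.add hQ, fun d => by rw [coeff_add]; exact add_mem (hPc d) (hQc d), by simp⟩

theorem flat_quotient_of_inter {A B : Type u} [CommRing A] [CommRing B] [Algebra A B] [Module.Flat A B]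
    (N : Ideal B) (h : ∀ a : Ideal A, ∀ z ∈ N, z ∈ a.map (algebraMap A B) → z ∈ a.map (algebraMap A B) * N) :
    Module.Flat A (B ⧸ N) := by
  rw [Module.Flat.iff_lTensor_injective']
  intro a
  let l : (B ⧸ N) →ₗ[B] (B ⧸ N) := LinearMap.id
  haveI : IsLocalizedModule (⊥ : Submonoid B) l := by
    refine ⟨fun s => ?_, fun y => ⟨(y, 1), by simp [l]⟩, fun h => ⟨1, by simpa [l] using h⟩⟩
    rw [show (s : B) = 1 from (Submonoid.mem_bot).mp s.2, map_one]
    exact isUnit_one
  refine Groth.Agent.Lib.Flat55.Relations.lTensor_injective_of_relations (R := A) (P := B) (F := B) N ⊥ l a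
    fun z hz hza => ⟨1, Submonoid.one_mem _, ?_⟩
  rw [Ideal.smul_top_eq_map, Submodule.restrictScalars_mem] at hza
  have h1 := h a z hz hza
  rw [one_smul, ← Ideal.smul_restrictScalars]
  exact h1

theorem flat_quotient_pow {A B : Type u} [CommRing A] [CommRing B] [Algebra A B] (rs : List B)
    (hrs : RegImm.IsTransRegularSeq A B rs) (n : ℕ) : Module.Flat A (B ⧸ Ideal.ofList rs ^ n) := by
  classical
  haveI : Module.Flat A B := by
    haveI := hrs.2 0 (Nat.zero_le _)
    exact Module.Flat.of_linearEquiv
      ((Submodule.quotEquivOfEqBot (Ideal.ofList (rs.take 0)) (by simp)).symm.restrictScalars A)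
  haveI : Module.Flat A (B ⧸ Ideal.ofList rs) := by
    have := hrs.2 rs.length le_rfl
    rwa [List.take_length] at this
  let f : Fin rs.length → B := fun i => rs[i.1]
  have hspan : Ideal.span (Set.range f) = Ideal.ofList rs := by
    refine congrArg Ideal.span (Set.ext fun z => ?_)
    simp [f, List.mem_iff_getElem, Fin.exists_iff]
  have hq := Groth.Agent.Lib.Regular45.QuasiReg.quasiRegular_of_isWeaklyRegular f (by
    rw [show List.ofFn f = rs from List.ofFn_getElem]; exact hrs.1)
  refine flat_quotient_of_inter _ fun a => ?_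
  induction n with
  | zero => intro z _ hz; simpa using hz
  | succ n ih =>
    intro z hz hza
    have h1 := ih z (Ideal.pow_le_pow_right n.le_succ hz) hza
    rw [← hspan] at h1 hz
    obtain ⟨P, hP, hPc, rfl⟩ := exists_homogeneous f _ n h1
    have hc : ∀ d, P.coeff d ∈ a.map (algebraMap A B) * Ideal.span (Set.range f) := fun d => by
      rw [hspan]
      exact Groth.Agent.Lib.Synt92.CritLocal.mem_mul_of_flat _ a (hspan.le (hq n P hP hz d)) (hPc d)
    have h2 := Groth.Agent.Lib.Regular45.QuasiReg.eval_mem_mul_pow f _ hP hc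
    rwa [mul_assoc, ← pow_succ', hspan] at h2

theorem flat_pieces {A B : Type u} [CommRing A] [CommRing B] [Algebra A B] [Module.Flat A B]
    (I K : Ideal B) (hK : K ≤ I) [Module.Flat A (B ⧸ I)] [Module.Flat A (B ⧸ K)] :
    Module.Flat A (↥I ⧸ Submodule.comap I.subtype K) ∧ Module.Flat A I := by
  constructor
  · let g : (B ⧸ K) →ₗ[A] (B ⧸ I) := (Ideal.Quotient.factorₐ A hK).toLinearMap
    haveI := Groth.Agent.Lib.DR.FlatAcyclic.flat_ker g (Ideal.Quotient.factor_surjective hK)
    let f : ↥I →ₗ[A] B ⧸ K := (K.mkQ.restrictScalars A).comp (I.subtype.restrictScalars A)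
    have hr : LinearMap.range f = LinearMap.ker g := by
      ext y
      constructor
      · rintro ⟨x, rfl⟩
        exact Ideal.Quotient.eq_zero_iff_mem.mpr x.2
      · intro hy
        obtain ⟨x, rfl⟩ := Ideal.Quotient.mk_surjective y
        exact ⟨⟨x, Ideal.Quotient.eq_zero_iff_mem.mp hy⟩, rfl⟩
    have hk : LinearMap.ker f = (Submodule.comap I.subtype K).restrictScalars A := by
      ext x
      exact Submodule.Quotient.mk_eq_zero K
    exact Module.Flat.of_linearEquiv
      ((Submodule.Quotient.restrictScalarsEquiv A (Submodule.comap I.subtype K)).symm.trans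
        ((Submodule.quotEquivOfEq _ _ hk.symm).trans (f.quotKerEquivRange.trans (LinearEquiv.ofEq _ _ hr))))
  · let g : B →ₗ[A] (B ⧸ I) := I.mkQ.restrictScalars A
    haveI := Groth.Agent.Lib.DR.FlatAcyclic.flat_ker g (Submodule.mkQ_surjective I)
    have hk : I.restrictScalars A = LinearMap.ker g := by
      ext x
      exact (Submodule.Quotient.mk_eq_zero I).symm
    exact Module.Flat.of_linearEquiv (LinearEquiv.ofEq (I.restrictScalars A) _ hk)

/-- Let B be an A-algebra and J an ideal of B generated by a sequence which is transversally regular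
relative to A. Then for n < m the module J^n/J^m is flat over A, and for every prime q of B
containing J the localisation (J^n)_q is flat over A (modules regarded as A-modules by restriction
of scalars). -/
theorem result (A B : Type u) [CommRing A] [CommRing B] [Algebra A B]
    (rs : List B) (hrs : RegImm.IsTransRegularSeq A B rs) (n m : ℕ) (hnm : n < m) :
    Module.Flat A (RestrictScalars A B
      (↥(Ideal.ofList rs ^ n) ⧸ (Submodule.comap (Ideal.ofList rs ^ n).subtype (Ideal.ofList rs ^ m)))) ∧
      ∀ (q : Ideal B) [q.IsPrime], Ideal.ofList rs ≤ q →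
        Module.Flat A (RestrictScalars A B (LocalizedModule q.primeCompl ↥(Ideal.ofList rs ^ n))) := by
  have hflat := flat_quotient_pow rs hrs
  haveI : Module.Flat A B := by
    haveI := hrs.2 0 (Nat.zero_le _)
    exact Module.Flat.of_linearEquiv
      ((Submodule.quotEquivOfEqBot (Ideal.ofList (rs.take 0)) (by simp)).symm.restrictScalars A)
  haveI := hflat n
  haveI := hflat m
  obtain ⟨h1, h2⟩ := flat_pieces (A := A) (Ideal.ofList rs ^ n) (Ideal.ofList rs ^ m) (Ideal.pow_le_pow_right hnm.le)
  refine ⟨?_, fun q _ _ => ?_⟩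
  · refine Module.Flat.of_linearEquiv (M := (↥(Ideal.ofList rs ^ n) ⧸
      (Submodule.comap (Ideal.ofList rs ^ n).subtype (Ideal.ofList rs ^ m)))) ?_
    exact { (RestrictScalars.addEquiv A B _) with
      map_smul' := fun a x => by
        show RestrictScalars.addEquiv A B _ (a • x) = a • RestrictScalars.addEquiv A B _ x
        rw [RestrictScalars.addEquiv_map_smul, algebraMap_smul] }
  · haveI : Module.Flat A (LocalizedModule q.primeCompl ↥(Ideal.ofList rs ^ n)) :=
      Groth.Agent.Lib.QDepth.flat_localized q.primeCompl _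
    refine Module.Flat.of_linearEquiv (M := LocalizedModule q.primeCompl ↥(Ideal.ofList rs ^ n)) ?_
    exact { (RestrictScalars.addEquiv A B _) with
      map_smul' := fun a x => by
        show RestrictScalars.addEquiv A B _ (a • x) = a • RestrictScalars.addEquiv A B _ x
        rw [RestrictScalars.addEquiv_map_smul, algebraMap_smul] }

end Groth.Agent.S5071
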