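import Groth.Statements.S5072
import Groth.Agent.Lib.Henselian.StrictBaseChange

set_option autoImplicit false
open scoped TensorProduct
universe u
open Hensel

namespace Groth.Agent.S5072

open Groth.Agent.Lib.Henselian IsLocalRing

/-- Case of a local ring A and a local finite A-algebra B: let S be a strict henselization of A and T a
strict henselization of B. Then there is a maximal ideal q of B ⊗_A S such that T is isomorphic, as
a B-algebra, to the local ring (B ⊗_A S)_q. -/
theorem result (A B S T : Type u) [CommRing A] [IsLocalRing A]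
    [CommRing B] [IsLocalRing B] [Algebra A B] [Module.Finite A B]
    [CommRing S] [IsLocalRing S] [Algebra A S] [IsLocalHom (algebraMap A S)] [Hensel.IsStrictHenselization A S]
    [CommRing T] [IsLocalRing T] [Algebra B T] [IsLocalHom (algebraMap B T)] [Hensel.IsStrictHenselization B T] :
    ∃ (q : Ideal (B ⊗[A] S)) (_ : q.IsMaximal), Nonempty (Localization.AtPrime q ≃ₐ[B] T) := by
  classical
  have hA : StrictData.Data A S := StrictData.of_isStrictHenselization
  have hB : StrictData.Data B T := StrictData.of_isStrictHenselization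
  have := hA.henselian
  have := hB.henselian
  have := (‹Hensel.IsStrictHenselization B T›).isSepClosure.sep_closed
  have := (‹Hensel.IsStrictHenselization A S›).isSepClosure.separable
  have : IsLocalHom (algebraMap A B) := by
    refine ((local_hom_TFAE _).out 0 4 rfl rfl).mpr (eq_maximalIdeal ?_)
    exact Ideal.isMaximal_comap_of_isIntegral_of_isMaximal (R := A) (maximalIdeal B)
  let f : A →+* T := (algebraMap B T).comp (algebraMap A B)
  have : IsLocalHom f := RingHom.isLocalHom_comp _ _
  let : Algebra (ResidueField A) (ResidueField T) := (ResidueField.map f).toAlgebra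
  let τ : ResidueField S →ₐ[ResidueField A] ResidueField T := IsSepClosed.lift
  obtain ⟨σ, ⟨hσ, hστ⟩, -⟩ := (‹Hensel.IsStrictHenselization A S›).universal T f τ.toRingHom
    (RingHom.ext fun x => τ.commutes x)
  have : IsLocalHom σ := ⟨fun x hx => by
    by_contra hu
    have h := hστ x
    rw [(residue_eq_zero_iff x).mpr hu, map_zero] at h
    exact (hx.map (residue T)).ne_zero h⟩
  let := Algebra.TensorProduct.rightAlgebra (R := A) (A := B) (B := S)
  let : Algebra S T := σ.toAlgebra
  have : IsLocalHom (algebraMap S T) := ‹IsLocalHom σ›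
  let : Algebra A T := f.toAlgebra
  let σ' : S →ₐ[A] T := ⟨σ, fun a => RingHom.congr_fun hσ a⟩
  let ι : B →ₐ[A] T := ⟨algebraMap B T, fun _ => rfl⟩
  let φ₀ := Algebra.TensorProduct.lift ι σ' fun _ _ => Commute.all _ _
  let φ : B ⊗[A] S →ₐ[S] T := ⟨φ₀.toRingHom, fun s => by
    simp [φ₀, σ', RingHom.algebraMap_toAlgebra]⟩
  have : ((maximalIdeal T).comap φ.toRingHom).LiesOver (maximalIdeal S) :=
    StrictBaseChange.liesOver_comap φ
  have : Algebra.IsIntegral S (B ⊗[A] S) := ⟨fun x => by
    have h := (Algebra.IsIntegral.isIntegral (R := S)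
      ((Algebra.TensorProduct.commRight A S B).symm x)).map (Algebra.TensorProduct.commRight A S B).toAlgHom
    simpa using h⟩
  let q := (maximalIdeal T).comap φ.toRingHom
  have hq : q.IsMaximal := Ideal.isMaximal_of_isIntegral_of_isMaximal_comap (R := S) q (by
    rw [← Ideal.under_def, ← ‹q.LiesOver (maximalIdeal S)›.over]
    exact maximalIdeal.isMaximal S)
  have : Module.Finite S (B ⊗[A] S) :=
    Module.Finite.equiv (Algebra.TensorProduct.commRight A S B).toLinearEquiv
  obtain ⟨-, e, he⟩ := StrictBaseChange.exists_ringEquiv_localization hA hB (algebraMap A B)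
    (algebraMap B (B ⊗[A] S)) (RingHom.ext fun a => by
      simp [RingHom.algebraMap_toAlgebra]) (by
      rw [eq_top_iff]
      rintro x -
      induction x using TensorProduct.induction_on with
      | zero => exact zero_mem _
      | tmul b s =>
        have e : b ⊗ₜ[A] s = s • (b ⊗ₜ[A] (1 : S)) := by
          simp [Algebra.smul_def, RingHom.algebraMap_toAlgebra]
        rw [e]
        exact Subalgebra.smul_mem _ (Algebra.subset_adjoin (s := Set.range (algebraMap B (B ⊗[A] S))) ⟨b, by simp⟩) s
      | add x y hx hy => exact add_mem hx hy)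
    φ (RingHom.ext fun b => by simp [φ, φ₀, ι]) (fun s => ⟨⊤, by simp, by
      have : Module.Finite S ↥(⊤ : Subalgebra S (B ⊗[A] S)) := Module.Finite.equiv Subalgebra.topEquiv.symm.toLinearEquiv
      exact ⟨inferInstance, inferInstance⟩⟩)
  exact ⟨q, hq, ⟨AlgEquiv.ofRingEquiv (f := e.toRingEquiv) fun b => by
    rw [IsScalarTower.algebraMap_apply B (B ⊗[A] S) (Localization.AtPrime q)]
    exact (he _).trans (by simp [φ, φ₀, ι])⟩⟩

end Groth.Agent.S5072
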