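import Groth.Statements.S5073
import Mathlib.RingTheory.KrullDimension.Zero
import Mathlib.RingTheory.Ideal.Operations
import Mathlib.RingTheory.Ideal.MinimalPrime.Noetherian
-- import your own Groth.Agent.* helpers here

set_option autoImplicit false
universe u
open EGA418

namespace Groth.Agent.S5073

/-- Let A be a Noetherian local ring, p a prime ideal and x an element of A. Then there is an element x'
of A whose image in A_p equals that of x and which belongs to no minimal prime ideal of A not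
contained in p. -/
theorem result (A : Type u) [CommRing A] [IsNoetherianRing A] [IsLocalRing A]
    (p : Ideal A) [p.IsPrime] (x : A) :
    ∃ x' : A, algebraMap A (Localization.AtPrime p) x' = algebraMap A (Localization.AtPrime p) x ∧
      ∀ q ∈ minimalPrimes A, ¬ q ≤ p → x' ∉ q := by
  classical
  set f := algebraMap A (Localization.AtPrime p) with hf
  set S : Set (Ideal A) := {q | q ∈ minimalPrimes A ∧ ¬ q ≤ p} with hS
  have hSfin : S.Finite := (minimalPrimes.finite_of_isNoetherianRing A).subset fun q hq => hq.1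
  have hK : ∀ q ∈ S, ¬ RingHom.ker f ≤ q := by
    intro q hq hle
    haveI hqp : q.IsPrime := hq.1.1.1
    obtain ⟨y, hyq, hyp⟩ := SetLike.not_le_iff_exists.mp hq.2
    haveI : Ring.KrullDimLE 0 (Localization.AtPrime q) :=
      Ring.KrullDimLE.of_isLocalization q hq.1 (Localization.AtPrime q)
    have hy : IsNilpotent (algebraMap A (Localization.AtPrime q) y) :=
      Ring.KrullDimLE.isNilpotent_iff_mem_maximalIdeal.mpr
        ((IsLocalization.AtPrime.to_map_mem_maximal_iff (Localization.AtPrime q) q y).2 hyq)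
    obtain ⟨n, hn⟩ := hy
    rw [← map_pow, IsLocalization.map_eq_zero_iff q.primeCompl (Localization.AtPrime q)] at hn
    obtain ⟨⟨s, hs⟩, hsy⟩ := hn
    have hyn : y ^ n ∉ p := fun h => hyp (Ideal.IsPrime.mem_of_pow_mem ‹p.IsPrime› n h)
    have : s ∈ RingHom.ker f := by
      rw [RingHom.mem_ker, hf, IsLocalization.map_eq_zero_iff p.primeCompl (Localization.AtPrime p)]
      exact ⟨⟨y ^ n, hyn⟩, by simpa [mul_comm] using hsy⟩
    exact hs (hle this)
  -- split the minimal primes outside `p`
  set T : Set (Ideal A) := {q | q ∈ S ∧ x ∈ q} with hT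
  have hTfin : T.Finite := hSfin.subset fun q hq => hq.1
  set J : Ideal A := RingHom.ker f ⊓ (hSfin.toFinset.filter fun q => x ∉ q).inf id with hJ
  have hJT : ¬ ((J : Set A) ⊆ ⋃ q ∈ (hTfin.toFinset : Set (Ideal A)), (q : Set A)) := by
    intro hsub
    obtain ⟨q, hq, hle⟩ := (Ideal.subset_union_prime (R := A) (f := fun q : Ideal A => q) ⊥ ⊥
      (fun q hq _ _ => ((hTfin.mem_toFinset.mp hq).1.1.1.1))).mp hsub
    obtain ⟨hqS, hxq⟩ := hTfin.mem_toFinset.mp hq
    haveI hqp : q.IsPrime := hqS.1.1.1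
    rcases (Ideal.IsPrime.inf_le hqp).mp hle with h | h
    · exact hK q hqS h
    · obtain ⟨q', hq', hle'⟩ := (Ideal.IsPrime.inf_le' hqp).mp h
      obtain ⟨hq'S, hxq'⟩ := Finset.mem_filter.mp hq'
      have := hSfin.mem_toFinset.mp hq'S
      exact hxq' ((le_antisymm (hqS.1.2 this.1.1 hle') hle' : q = q') ▸ hxq)
  obtain ⟨a, haJ, ha⟩ := Set.not_subset.mp hJT
  refine ⟨x + a, ?_, fun q hq hqp hmem => ?_⟩
  · have : f a = 0 := RingHom.mem_ker.mp haJ.1
    rw [map_add, this, add_zero]
  · by_cases hxq : x ∈ q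
    · refine ha (Set.mem_biUnion (x := q) ?_ ((Ideal.add_mem_iff_right q hxq).mp hmem))
      exact hTfin.mem_toFinset.mpr ⟨⟨hq, hqp⟩, hxq⟩
    · refine hxq ((Ideal.add_mem_iff_left q ?_).mp hmem)
      have h2 := haJ.2
      exact (Finset.inf_le (s := hSfin.toFinset.filter fun q => x ∉ q) (f := id) (b := q)
        (Finset.mem_filter.mpr ⟨hSfin.mem_toFinset.mpr ⟨hq, hqp⟩, hxq⟩)) h2


end Groth.Agent.S5073
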