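import Groth.Statements.S5075
import Groth.Agent.Lib.Unram.EtaleMono

set_option autoImplicit false
open CategoryTheory AlgebraicGeometry
universe u
open Unram

namespace Groth.Agent.S5075

open CategoryTheory.Limits

/-- Let p : X ⟶ S be étale, g : S' ⟶ S a morphism and i : S'₀ ⟶ S' a surjective closed immersion (a
closed subscheme with the same underlying space). Then for every f₀ : S'₀ ⟶ X over S there is
exactly one f : S' ⟶ X over S with i ≫ f = f₀. -/
theorem result {X S S' S'₀ : Scheme.{u}} (p : X ⟶ S) [Etale p]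
    (g : S' ⟶ S) (i : S'₀ ⟶ S') [IsClosedImmersion i] [Surjective i]
    (f₀ : S'₀ ⟶ X) (h₀ : f₀ ≫ p = i ≫ g) :
    ∃! f : S' ⟶ X, f ≫ p = g ∧ i ≫ f = f₀ := by
  let P := pullback p g
  let π : P ⟶ S' := pullback.snd p g
  let s₀ : S'₀ ⟶ P := pullback.lift f₀ i h₀
  have hs₀ : s₀ ≫ π = i := pullback.lift_snd _ _ _
  let σ : S'₀ ⟶ pullback π i := pullback.lift s₀ (𝟙 _) (hs₀.trans (Category.id_comp i).symm)
  have hσ : σ ≫ pullback.snd π i = 𝟙 _ := pullback.lift_snd _ _ _
  have : Etale (σ ≫ pullback.snd π i) := by rw [hσ]; infer_instance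
  have : Etale σ := Etale.of_comp σ (pullback.snd π i)
  have : Mono (σ ≫ pullback.snd π i) := by rw [hσ]; infer_instance
  have : Mono σ := mono_of_mono σ (pullback.snd π i)
  have : IsOpenImmersion σ := IsOpenImmersion.of_flat_of_mono σ
  have hq : IsHomeomorph (pullback.fst π i).base := isHomeomorph_iff_isEmbedding_surjective.mpr
    ⟨(pullback.fst π i).isClosedEmbedding.isEmbedding, (pullback.fst π i).surjective⟩
  let W : P.Opens := ⟨Set.range s₀, by
    rw [show s₀ = σ ≫ pullback.fst π i from (pullback.lift_fst _ _ _).symm, Scheme.Hom.comp_base,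
      TopCat.coe_comp, Set.range_comp]
    exact hq.isOpenMap _ σ.isOpenEmbedding.isOpen_range⟩
  let s' : S'₀ ⟶ W := IsOpenImmersion.lift W.ι s₀ (by simp [W])
  have hs' : s' ≫ W.ι = s₀ := IsOpenImmersion.lift_fac _ _ _
  let φ : (W : Scheme.{u}) ⟶ S' := W.ι ≫ π
  have hφ : s' ≫ φ = i := by rw [← Category.assoc, hs', hs₀]
  have : Surjective s' := ⟨fun w => by
    obtain ⟨z, hz⟩ : W.ι w ∈ Set.range s₀ := w.2
    refine ⟨z, W.ι.injective ?_⟩
    rw [← Scheme.Hom.comp_apply, hs']
    exact hz⟩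
  have : Mono (s' ≫ φ) := by rw [hφ]; infer_instance
  have := Groth.Agent.Lib.Unram.EtaleMono.surjective_diagonal_of_comp s' φ
  have : IsOpenImmersion φ := Groth.Agent.Lib.Unram.EtaleMono.isOpenImmersion_of_surjective_diagonal φ
  have : Surjective (s' ≫ φ) := by rw [hφ]; infer_instance
  have : Surjective φ := Surjective.of_comp s' φ
  have : Epi φ.base := (TopCat.epi_iff_surjective _).mpr φ.surjective
  have : IsIso φ := (isIso_iff_isOpenImmersion_and_epi_base φ).mpr ⟨inferInstance, inferInstance⟩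
  have hi : i ≫ inv φ = s' := by rw [IsIso.comp_inv_eq, hφ]
  refine ⟨inv φ ≫ W.ι ≫ pullback.fst p g, ⟨?_, ?_⟩, ?_⟩
  · rw [Category.assoc, Category.assoc, pullback.condition, ← Category.assoc W.ι, ← Category.assoc,
      IsIso.inv_hom_id, Category.id_comp]
  · rw [← Category.assoc, hi, ← Category.assoc, hs', pullback.lift_fst]
  · rintro f' ⟨hf1, hf2⟩
    let t : S' ⟶ P := pullback.lift f' (𝟙 _) (hf1.trans (Category.id_comp g).symm)
    have hit : i ≫ t = s₀ := pullback.hom_ext
      (by rw [Category.assoc, pullback.lift_fst, pullback.lift_fst, hf2])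
      (by rw [Category.assoc, pullback.lift_snd, pullback.lift_snd, Category.comp_id])
    let t' : S' ⟶ W := IsOpenImmersion.lift W.ι t (by
      rintro _ ⟨y, rfl⟩
      obtain ⟨z, rfl⟩ := i.surjective y
      rw [← Scheme.Hom.comp_apply, hit, Scheme.Opens.range_ι]
      exact ⟨z, rfl⟩)
    have ht' : t' ≫ W.ι = t := IsOpenImmersion.lift_fac _ _ _
    have : t' = inv φ := by
      rw [← cancel_mono φ, IsIso.inv_hom_id, ← Category.assoc, ht']
      exact pullback.lift_snd _ _ _
    rw [← this, ← Category.assoc, ht']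
    exact (pullback.lift_fst _ _ _).symm

end Groth.Agent.S5075
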