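import Groth.Statements.S5076
import Mathlib.RingTheory.Unramified.LocalRing

set_option autoImplicit false
universe u
open Unram

namespace Groth.Agent.S5076

/-- Let A be a local ring with maximal ideal m, C a finite A-algebra, r a maximal ideal of C, and u an
element of C which lies in every maximal ideal of C other than r, does not lie in r, and whose image
generates C_r modulo m C_r as an A-algebra. Let B = A[u] be the A-subalgebra of C generated by u and
n the inverse image of r in B. Then the canonical homomorphism B_n → C_r is bijective. -/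
theorem result (A C : Type u) [CommRing A] [IsLocalRing A]
    [CommRing C] [Algebra A C] [Module.Finite A C] (r : Ideal C) [r.IsMaximal] (u : C)
    (hu₁ : ∀ r' : Ideal C, r'.IsMaximal → r' ≠ r → u ∈ r') (hu₂ : u ∉ r)
    (hu₃ : Subalgebra.toSubmodule (Algebra.adjoin A {algebraMap C (Localization.AtPrime r) u}) ⊔
        Submodule.restrictScalars A (Ideal.map (algebraMap A (Localization.AtPrime r)) (IsLocalRing.maximalIdeal A)) = ⊤) :
    Function.Bijective (Localization.localRingHom (Ideal.comap (Algebra.adjoin A ({u} : Set C)).val.toRingHom r) r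
      (Algebra.adjoin A ({u} : Set C)).val.toRingHom rfl) := by
  set B := Algebra.adjoin A ({u} : Set C) with hB
  set n : Ideal B := Ideal.comap B.val.toRingHom r with hn
  have : r.IsPrime := Ideal.IsMaximal.isPrime inferInstance
  have hfin : Module.Finite B C := Module.Finite.of_restrictScalars_finite A B C
  have : Algebra.IsIntegral B C := Algebra.IsIntegral.of_finite B C
  have halg : algebraMap B C = B.val.toRingHom := rfl
  have hlo : r.LiesOver n := ⟨rfl⟩
  have hnmax : n.IsMaximal := Ideal.isMaximal_comap_of_isIntegral_of_isMaximal (R := B) r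
  have hu_n : (⟨u, Algebra.self_mem_adjoin_singleton A u⟩ : B) ∉ n := fun h => hu₂ h
  have hq : n.primesOver C = {r} := by
    refine Set.eq_singleton_iff_unique_mem.mpr ⟨⟨inferInstance, hlo⟩, ?_⟩
    rintro r' ⟨hr', hr'n⟩
    by_contra hne
    have hr'max : r'.IsMaximal := Ideal.isMaximal_of_isIntegral_of_isMaximal_comap r'
      (by have := hr'n.over; rw [Ideal.under_def] at this; rw [← this]; exact hnmax)
    apply hu_n
    have := hr'n.over
    rw [this]
    exact hu₁ r' hr'max hne
  constructor
  · exact Localization.localRingHom_injective_of_primesOver_eq_singleton hq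
  letI := (Localization.localRingHom n r B.val.toRingHom rfl).toAlgebra
  have : Localization.AtPrime.IsLiesOverAlgebra n r := ⟨rfl⟩
  have := Localization.finite_of_primesOver_eq_singleton hq
  have hmn : ∀ a ∈ IsLocalRing.maximalIdeal A, algebraMap A B a ∈ n := by
    intro a ha
    change algebraMap A C a ∈ r
    have h1 : (r.comap (algebraMap A C)).IsMaximal :=
      Ideal.isMaximal_comap_of_isIntegral_of_isMaximal (R := A) r
    have h2 := IsLocalRing.eq_maximalIdeal h1
    have : a ∈ r.comap (algebraMap A C) := by rw [h2]; exact ha
    exact this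
  let f := Localization.localRingHom n r B.val.toRingHom rfl
  have hfC : ∀ b : B, f (algebraMap B _ b) = algebraMap C (Localization.AtPrime r) b := fun b => by
    simp [f, Localization.localRingHom_to_map]
  have hfA : ∀ a : A, f (algebraMap A (Localization.AtPrime n) a) = algebraMap A _ a := fun a => by
    rw [IsScalarTower.algebraMap_apply A B (Localization.AtPrime n), hfC]
    exact (IsScalarTower.algebraMap_apply A C _ a).symm
  change Function.Surjective (Algebra.linearMap (Localization.AtPrime n) (Localization.AtPrime r))
  rw [← LinearMap.range_eq_top, ← top_le_iff]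
  apply Submodule.le_of_le_smul_of_le_jacobson_bot Module.Finite.fg_top
    (IsLocalRing.maximalIdeal_le_jacobson _)
  rw [Ideal.smul_top_eq_map]
  intro x _
  have hx : x ∈ (⊤ : Submodule A (Localization.AtPrime r)) := trivial
  rw [← hu₃, Submodule.mem_sup] at hx
  obtain ⟨y, hy, z, hz, rfl⟩ := hx
  refine add_mem (Submodule.mem_sup_left ?_) (Submodule.mem_sup_right ?_)
  · let f' : Localization.AtPrime n →ₐ[A] Localization.AtPrime r := { f with commutes' := hfA }
    have : y ∈ f'.range := by
      refine Algebra.adjoin_le ?_ hy
      rintro _ rfl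
      exact ⟨algebraMap B _ ⟨u, Algebra.self_mem_adjoin_singleton A u⟩, hfC _⟩
    obtain ⟨w, hw⟩ := this
    exact ⟨w, hw⟩
  · refine Ideal.map_le_iff_le_comap.mpr (fun a ha => ?_) hz
    rw [Ideal.mem_comap, ← hfA a, IsScalarTower.algebraMap_apply A B (Localization.AtPrime n)]
    refine Ideal.mem_map_of_mem f ?_
    exact (IsLocalization.AtPrime.to_map_mem_maximal_iff (Localization.AtPrime n) n _).mpr (hmn a ha)

end Groth.Agent.S5076
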