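import Groth.Statements.S5077
import Groth.Agent.Lib.Unram.Monogenic

set_option autoImplicit false
universe u
open Unram

namespace Groth.Agent.S5077

open TensorProduct

/-- Let A be a local ring and B a finite A-algebra generated by a single element u. Then there is a
monic polynomial F with coefficients in A such that F(u) = 0 and F'(u) does not belong to any
maximal ideal n of B at which B is unramified over A. -/
theorem result (A B : Type u) [CommRing A] [IsLocalRing A]
    [CommRing B] [Algebra A B] [Module.Finite A B] (u : B) (hu : Algebra.adjoin A ({u} : Set B) = ⊤) :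
    ∃ F : Polynomial A, F.Monic ∧ Polynomial.aeval u F = 0 ∧
      ∀ (n : Ideal B) [n.IsMaximal], Algebra.IsUnramifiedAt A n → Polynomial.aeval u (Polynomial.derivative F) ∉ n := by
  let k := IsLocalRing.ResidueField A
  have hux : Algebra.adjoin k {(1 : k) ⊗ₜ[A] u} = ⊤ := by
    refine eq_top_iff.mpr fun z _ => ?_
    obtain ⟨b, rfl⟩ := TensorProduct.mk_surjective A B k IsLocalRing.residue_surjective z
    have hb : b ∈ Algebra.adjoin A ({u} : Set B) := hu ▸ trivial
    induction hb using Algebra.adjoin_induction with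
    | mem x hx => exact Algebra.subset_adjoin (by rw [Set.mem_singleton_iff] at hx ⊢; rw [hx]; rfl)
    | algebraMap a =>
      change (1 : k) ⊗ₜ[A] algebraMap A B a ∈ _
      rw [← Algebra.TensorProduct.tmul_one_eq_one_tmul]
      exact Subalgebra.algebraMap_mem _ (algebraMap A k a)
    | add x y _ _ hx hy =>
      change (1 : k) ⊗ₜ[A] (x + y) ∈ _
      rw [TensorProduct.tmul_add]; exact add_mem (hx trivial) (hy trivial)
    | mul x y _ _ hx hy =>
      change (1 : k) ⊗ₜ[A] (x * y) ∈ _
      rw [show (1 : k) ⊗ₜ[A] (x * y) = ((1 : k) ⊗ₜ[A] x) * ((1 : k) ⊗ₜ[A] y) by simp]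
      exact mul_mem (hx trivial) (hy trivial)
  obtain ⟨F, hFm, -, hFu, hs, hmin⟩ := Groth.Agent.Lib.Unram.Monogenic.exists_relation A B u hux
  exact ⟨F, hFm, hFu, fun n _ _ => Groth.Agent.Lib.Unram.Monogenic.derivative_notMem A B u F hmin hFu hs n⟩

end Groth.Agent.S5077
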