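import Groth.Statements.S5078
import Mathlib.RingTheory.AdicCompletion.Basic
import Mathlib.Algebra.Module.Projective
import Mathlib.LinearAlgebra.StdBasis
import Mathlib.RingTheory.Finiteness.Basic
import Mathlib.RingTheory.Finiteness.Cardinality

set_option autoImplicit false
universe u v
open Hensel

namespace Groth.Agent.S5078

/-- Let A be a ring, I an ideal such that A is I-adically separated and complete, and M a finitely
generated projective A-module. Then M is I-adically separated and complete. -/
theorem result {A : Type u} [CommRing A] (I : Ideal A) [IsAdicComplete I A]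
    (M : Type v) [AddCommGroup M] [Module A M] [Module.Finite A M] [Module.Projective A M] :
    IsAdicComplete I M := by
  obtain ⟨n, π, hπ⟩ := Module.Finite.exists_fin' A M
  obtain ⟨s, hs⟩ := Module.projective_lifting_property π LinearMap.id hπ
  have hs' : ∀ x, π (s x) = x := fun x => LinearMap.congr_fun hs x
  have hcoord : ∀ {k : ℕ} {x : M} (i : Fin n), x ∈ (I ^ k • ⊤ : Submodule A M) →
      s x i ∈ (I ^ k • ⊤ : Submodule A A) := fun {k x} i hx => by
    have := Submodule.mem_map_of_mem (f := (LinearMap.proj i).comp s) hx
    rw [Submodule.map_smul''] at this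
    exact Submodule.smul_mono le_rfl le_top this
  refine { haus' := fun x hx => ?_, prec' := fun f hf => ?_ }
  · rw [← hs' x, show s x = 0 from funext fun i => IsHausdorff.haus (I := I) inferInstance _ fun k =>
      SModEq.zero.mpr (hcoord i (SModEq.zero.mp (hx k))), map_zero]
  · have hc : ∀ i, ∃ L : A, ∀ k, s (f k) i ≡ L [SMOD (I ^ k • ⊤ : Submodule A A)] := fun i => by
      refine IsPrecomplete.prec inferInstance fun {a b} hab => SModEq.sub_mem.mpr ?_
      have := hcoord i (SModEq.sub_mem.mp (hf hab))
      rwa [map_sub, Pi.sub_apply] at this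
    choose L hL using hc
    refine ⟨π L, fun k => SModEq.sub_mem.mpr ?_⟩
    rw [← hs' (f k), ← map_sub, pi_eq_sum_univ (s (f k) - L), map_sum]
    refine Submodule.sum_mem _ fun i _ => ?_
    rw [map_smul]
    have h := SModEq.sub_mem.mp (hL i k)
    rw [smul_eq_mul, Ideal.mul_top] at h
    exact Submodule.smul_mem_smul (by simpa using h) Submodule.mem_top

end Groth.Agent.S5078
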