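import Groth.Statements.S5081
import Mathlib.RingTheory.Kaehler.Basic
import Mathlib.RingTheory.Derivation.MapCoeffs

set_option autoImplicit false
universe u
open Unram

namespace Groth.Agent.S5081

/-- Let B be a finite A-algebra generated by a single element u and F a polynomial with coefficients in
A such that F(u) = 0. Then the ideal generated by F'(u) is contained in the annihilator of the
module of differentials of B over A, and equals it when the kernel of the surjection A[T] → B
sending T to u is generated by F. -/
theorem result (A B : Type u) [CommRing A] [CommRing B] [Algebra A B]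
    [Module.Finite A B] (u : B) (hu : Algebra.adjoin A ({u} : Set B) = ⊤) (F : Polynomial A) (hF : Polynomial.aeval u F = 0) :
    Ideal.span {Polynomial.aeval u (Polynomial.derivative F)} ≤ Module.annihilator B (KaehlerDifferential A B) ∧
      (RingHom.ker (Polynomial.aeval u : Polynomial A →ₐ[A] B) = Ideal.span {F} →
        Module.annihilator B (KaehlerDifferential A B) = Ideal.span {Polynomial.aeval u (Polynomial.derivative F)}) := by
  classical
  let φ : Polynomial A →ₐ[A] B := Polynomial.aeval u
  have hsurj : Function.Surjective φ := fun b => by
    have hb : b ∈ Algebra.adjoin A ({u} : Set B) := hu ▸ trivial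
    rwa [Algebra.adjoin_singleton_eq_range_aeval] at hb
  let v := KaehlerDifferential.D A B u
  have hD : ∀ b, ∃ c : B, KaehlerDifferential.D A B b = c • v := fun b => by
    obtain ⟨P, rfl⟩ := hsurj b
    exact ⟨Polynomial.aeval u (Polynomial.derivative P), Derivation.map_aeval _ _ _⟩
  have hann : Polynomial.aeval u (Polynomial.derivative F) • v = 0 := by
    rw [← Derivation.map_aeval, hF, map_zero]
  refine ⟨?_, fun hker => ?_⟩
  · rw [Ideal.span_le, Set.singleton_subset_iff, SetLike.mem_coe, Module.mem_annihilator]
    intro m
    have hm : m ∈ Submodule.span B (Set.range (KaehlerDifferential.D A B)) := by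
      rw [KaehlerDifferential.span_range_derivation]; trivial
    induction hm using Submodule.span_induction with
    | mem x hx =>
      obtain ⟨b, rfl⟩ := hx
      obtain ⟨c, hc⟩ := hD b
      rw [hc, smul_comm, hann, smul_zero]
    | zero => rw [smul_zero]
    | add x y _ _ hx hy => rw [smul_add, hx, hy, add_zero]
    | smul b x _ hx => rw [smul_comm, hx, smul_zero]
  · refine le_antisymm (fun c hc => ?_) ?_
    · let I : Ideal B := Ideal.span {Polynomial.aeval u (Polynomial.derivative F)}
      choose s hs using hsurj
      let π : Polynomial A → B ⧸ I := fun P => Ideal.Quotient.mk I (φ (Polynomial.derivative P))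
      have hwd : ∀ P Q : Polynomial A, φ P = φ Q → π P = π Q := fun P Q h => by
        have : P - Q ∈ Ideal.span {F} := by rw [← hker, RingHom.mem_ker, map_sub, h, sub_self]
        obtain ⟨G, hG⟩ := Ideal.mem_span_singleton.mp this
        rw [sub_eq_iff_eq_add] at hG
        simp only [π]
        rw [hG, map_add, map_add, map_add, Polynomial.derivative_mul, map_add, map_mul, map_mul,
          map_add]
        have h1 : φ F = 0 := hF
        have h2 : Ideal.Quotient.mk I (φ (Polynomial.derivative F)) = 0 :=
          Ideal.Quotient.eq_zero_iff_mem.mpr (Ideal.mem_span_singleton_self _)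
        simp [h1, h2]
      let d : Derivation A B (B ⧸ I) :=
        Derivation.mk'
          { toFun := fun b => π (s b)
            map_add' := fun a b => by
              rw [hwd _ (s a + s b) (by simp [hs])]
              simp [π]
            map_smul' := fun a b => by
              rw [hwd _ (a • s b) (by simp [hs])]
              simp only [π, map_smul, RingHom.id_apply]
              rw [← Ideal.Quotient.mkₐ_eq_mk A, map_smul] }
          (fun a b => by
            change π (s (a * b)) = a • π (s b) + b • π (s a)
            rw [hwd _ (s a * s b) (by simp [hs])]
            simp only [π, Polynomial.derivative_mul, map_add, map_mul, hs, Algebra.smul_def,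
              Ideal.Quotient.algebraMap_eq]
            ring)
      have hu1 : d u = 1 := by
        change π (s u) = 1
        rw [hwd _ Polynomial.X (by simp [hs, φ])]
        simp [π]
      have h := congr_arg d.liftKaehlerDifferential (Module.mem_annihilator.mp hc v)
      rw [map_smul, map_zero, Derivation.liftKaehlerDifferential_comp_D, hu1, Algebra.smul_def,
        mul_one, Ideal.Quotient.algebraMap_eq, Ideal.Quotient.eq_zero_iff_mem] at h
      exact h
    · rw [Ideal.span_le, Set.singleton_subset_iff, SetLike.mem_coe, Module.mem_annihilator]
      intro m
      have hm : m ∈ Submodule.span B (Set.range (KaehlerDifferential.D A B)) := by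
        rw [KaehlerDifferential.span_range_derivation]; trivial
      induction hm using Submodule.span_induction with
      | mem x hx =>
        obtain ⟨b, rfl⟩ := hx
        obtain ⟨c, hc⟩ := hD b
        rw [hc, smul_comm, hann, smul_zero]
      | zero => rw [smul_zero]
      | add x y _ _ hx hy => rw [smul_add, hx, hy, add_zero]
      | smul b x _ hx => rw [smul_comm, hx, smul_zero]

end Groth.Agent.S5081
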