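import Groth.Statements.S5082
import Groth.Agent.Lib.MeroK.Affine
import Groth.Agent.Lib.Depth.Assoc

set_option autoImplicit false
universe u
open CategoryTheory CategoryTheory.Limits AlgebraicGeometry TopologicalSpace
open Mero

namespace Groth.Agent.S5082

open Groth.Agent.Lib Groth.Agent.Lib.AssPt.Basic

theorem exists_nzd_mem_maximalIdeal_iff (A : Type u) [CommRing A] [IsNoetherianRing A] [IsLocalRing A] :
    LocCoh.depth A A = 0 ↔ ∀ a ∈ IsLocalRing.maximalIdeal A, a ∉ nonZeroDivisors A := by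
  rw [Depth.Assoc.depth_eq_zero_iff]
  constructor
  · intro h a ha hn
    have h1 : a ∈ ⋃ p ∈ associatedPrimes A A, (p : Set A) :=
      Set.mem_iUnion₂.mpr ⟨_, h, ha⟩
    rw [biUnion_associatedPrimes_eq_compl_nonZeroDivisors] at h1
    exact h1 hn
  · intro h
    obtain ⟨P, hP, hle⟩ : ∃ P ∈ associatedPrimes A A, IsLocalRing.maximalIdeal A ≤ P :=
      ((IsLocalRing.maximalIdeal A).subset_union_prime_finite (associatedPrimes.finite A A)
        (f := id) 0 0 fun _ hp _ _ => hp.isPrime).1 (by
          simp_rw [id, biUnion_associatedPrimes_eq_compl_nonZeroDivisors]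
          exact h)
    rwa [← (IsLocalRing.maximalIdeal.isMaximal A).eq_of_le hP.isPrime.ne_top hle] at hP

theorem opens_eq_top_of_closedPoint_mem {A : Type u} [CommRing A] [IsLocalRing A]
    {V : (Spec (CommRingCat.of A)).Opens}
    (h : IsLocalRing.closedPoint A ∈ V) : V = ⊤ :=
  eq_top_iff.mpr fun y _ => (IsLocalRing.specializes_closedPoint y).mem_open V.isOpen h


/-- Let A be a Noetherian local ring. Then the group of divisors of Spec A is trivial (every divisor
equals the unit divisor, divisors being written multiplicatively) if and only if A has depth 0, that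
is, if and only if every element of the maximal ideal of A is a zero-divisor. -/
theorem result (A : Type u) [CommRing A] [IsNoetherianRing A] [IsLocalRing A] :
    (∀ D : Mero.Divisor (Spec (CommRingCat.of A)), D = 1) ↔ LocCoh.depth A A = 0 := by
  rw [exists_nzd_mem_maximalIdeal_iff]
  let X : Scheme.{u} := Spec (CommRingCat.of A)
  let x : X := IsLocalRing.closedPoint A
  let γ : A →+* Γ(X, ⊤) := (Scheme.ΓSpecIso (CommRingCat.of A)).inv.hom
  have hγ : Function.Bijective γ :=
    ConcreteCategory.bijective_of_isIso (Scheme.ΓSpecIso (CommRingCat.of A)).inv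
  let e : A ≃+* Γ(X, ⊤) := RingEquiv.ofBijective γ hγ
  have hnzd : ∀ a, γ a ∈ nonZeroDivisors Γ(X, ⊤) ↔ a ∈ nonZeroDivisors A := fun a => by
    constructor
    · exact fun h => mem_nonZeroDivisors_of_injective hγ.1 h
    · intro h
      refine Ideal.EffCartier.mem_nonZeroDivisors_of_eq_zero fun b hb => ?_
      obtain ⟨c, rfl⟩ := hγ.2 b
      rw [← map_mul, ← map_zero γ] at hb
      rw [(mul_left_mem_nonZeroDivisors_eq_zero_iff h).mp (hγ.1 hb), map_zero]
  constructor
  · intro hD a ha hn
    have hreg : γ a ∈ Mero.regSub X ⊤ := fun y =>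
      Ideal.EffCartier.germ_mem_nonZeroDivisors (isAffineOpen_top X) ((hnzd a).mpr hn) y.1 y.2
    have h1 := congrFun (congrArg Subtype.val (hD (Mero.div (MeroK.Affine.isUnit_toK hreg).unit))) x
    change QuotientGroup.mk _ = (1 : Mero.Germ X x) at h1
    rw [QuotientGroup.eq_one_iff] at h1
    obtain ⟨w, hw⟩ := h1
    have h2 := congrArg Units.val hw
    rw [Units.coe_map, Units.coe_map, IsUnit.unit_spec] at h2
    have h3 : (w : X.presheaf.stalk x) = X.presheaf.germ ⊤ x trivial (γ a) :=
      Mero.algebraMap_KStalk_injective x (h2.trans (MeroK.Basic.toK_eq_algebraMap (γ a) ⟨x, trivial⟩))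
    have h4 : x ∈ X.basicOpen (γ a) := (X.mem_basicOpen (γ a) x trivial).mpr (h3 ▸ w.isUnit)
    have hbo : (Spec (CommRingCat.of A)).basicOpen ((Scheme.ΓSpecIso (CommRingCat.of A)).inv a) =
        PrimeSpectrum.basicOpen a := basicOpen_eq_of_affine (R := CommRingCat.of A) a
    exact (hbo.le h4 : x ∈ PrimeSpectrum.basicOpen a) ha
  · intro h D
    refine Subtype.ext (funext fun y => ?_)
    obtain ⟨U, hxU, f, hf⟩ := D.2 x
    obtain rfl := opens_eq_top_of_closedPoint_mem hxU
    have hu : ∀ r : Mero.regSub X ⊤, IsUnit r.1 := fun r => by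
      obtain ⟨a, ha⟩ := hγ.2 r.1
      rw [← ha]
      refine IsUnit.map γ ?_
      by_contra hau
      refine h a hau ((hnzd a).mp ?_)
      rw [ha]
      exact Ideal.EffCartier.mem_nonZeroDivisors_of_germ fun z hz => r.2 ⟨z, hz⟩
    have hval : ∀ g : Γ(Mero.kmod X, ⊤), ∃ r : X.presheaf.stalk y,
        algebraMap (X.presheaf.stalk y) (Mero.KStalk X y) r = g.1 ⟨y, trivial⟩ := by
      intro g
      obtain ⟨W, hW, hxW, a, b, hab⟩ := MeroK.Basic.exists_rep g ⟨x, trivial⟩
      obtain rfl := opens_eq_top_of_closedPoint_mem hxW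
      obtain ⟨c, hc⟩ := (hu b).map (X.presheaf.germ ⊤ y trivial).hom
      refine ⟨X.presheaf.germ ⊤ y trivial a * (↑c⁻¹ : X.presheaf.stalk y), ?_⟩
      have h5 := hab y trivial
      rw [map_mul, ← h5, mul_assoc, ← map_mul]
      rw [show X.presheaf.germ ⊤ y trivial b.1 = c from hc.symm, Units.mul_inv, map_one, mul_one]
    obtain ⟨r, hr⟩ := hval ↑f
    obtain ⟨r', hr'⟩ := hval ↑f⁻¹
    have hrr : r * r' = 1 := Mero.algebraMap_KStalk_injective y (by
      rw [map_mul, hr, hr', map_one, ← Mero.kmod_mul_apply, Units.mul_inv, Mero.kmod_one_apply])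
    refine (hf ⟨y, trivial⟩).trans ((QuotientGroup.eq_one_iff _).mpr
      ⟨⟨r, r', hrr, (mul_comm r' r).trans hrr⟩, Units.ext ?_⟩)
    exact hr

end Groth.Agent.S5082
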