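import Groth.Statements.S5083
import Groth.Agent.Lib.MeroK.Basic

set_option autoImplicit false
universe u
open CategoryTheory CategoryTheory.Limits AlgebraicGeometry TopologicalSpace
open Mero

namespace Groth.Agent.S5083

variable {X : Scheme.{u}} {D D' : Mero.Divisor X}

/-- Multiplication by a meromorphic unit `f` maps `O(D' + div f)` to `O(D')`. -/
noncomputable def mulFun (f : (Γ(Mero.kmod X, ⊤))ˣ) (h : D = D' * Mero.div f) (U : X.Opens) :
    Γ(Mero.divMod D, U) →+ Γ(Mero.divMod D', U) where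
  toFun t := ⟨fun x => t.1 x * (↑f : Γ(Mero.kmod X, ⊤)).1 ⟨x.1, trivial⟩,
    Mero.kLoc_mul X U _ _ t.2.1 (((Mero.kLoc X).res (homOfLE (le_top : U ≤ ⊤))) _
      (↑f : Γ(Mero.kmod X, ⊤)).2), fun x g hg => by
      have := t.2.2 x (g * Units.map (Mero.evalK X ⊤ ⟨x.1, trivial⟩).toMonoidHom f) (by
        rw [h, QuotientGroup.mk_mul, ← hg]
        rfl)
      rw [mul_assoc, mul_comm _ (g : Mero.KStalk X x.1)]
      exact this⟩
  map_zero' := Subtype.ext (funext fun _ => zero_mul _)
  map_add' _ _ := Subtype.ext (funext fun _ => add_mul _ _ _)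

noncomputable def mulHom (f : (Γ(Mero.kmod X, ⊤))ˣ) (h : D = D' * Mero.div f) :
    Mero.divMod D ⟶ Mero.divMod D' :=
  ⟨PresheafOfModules.homMk (M₁ := (Mero.divMod D).val) (M₂ := (Mero.divMod D').val)
    { app := fun U => AddCommGrpCat.ofHom (mulFun f h U.unop)
      naturality := by intros; rfl }
    (fun U r t => Subtype.ext (funext fun _ => smul_mul_assoc _ _ _))⟩

theorem div_mul_inv (f : (Γ(Mero.kmod X, ⊤))ˣ) : Mero.div f * Mero.div f⁻¹ = 1 := by
  refine Subtype.ext (funext fun x => ?_)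
  have hmap : Units.map (Mero.evalK X ⊤ ⟨x, Opens.mem_top x⟩).toMonoidHom f⁻¹ =
      (Units.map (Mero.evalK X ⊤ ⟨x, Opens.mem_top x⟩).toMonoidHom f)⁻¹ := map_inv _ f
  refine (congrArg (fun g => Mero.germOf f ⟨x, Opens.mem_top x⟩ * QuotientGroup.mk g) hmap).trans ?_
  exact mul_inv_cancel (Mero.germOf f ⟨x, Opens.mem_top x⟩)

theorem eval_mul (f g : Γ(Mero.kmod X, ⊤)) (hfg : f * g = 1) (x : X) :
    f.1 ⟨x, trivial⟩ * g.1 ⟨x, trivial⟩ = 1 := by
  rw [← Mero.kmod_mul_apply, hfg, Mero.kmod_one_apply]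

theorem mulHom_comp (f g : (Γ(Mero.kmod X, ⊤))ˣ) (h : D = D' * Mero.div f)
    (h' : D' = D * Mero.div g) (hfg : (↑f : Γ(Mero.kmod X, ⊤)) * ↑g = 1) :
    mulHom f h ≫ mulHom g h' = 𝟙 _ :=
  Scheme.Modules.hom_ext _ _ fun U => AddCommGrpCat.ext fun t => Subtype.ext (funext fun x =>
    (mul_assoc _ _ _).trans ((congrArg _ (eval_mul _ _ hfg x.1)).trans (mul_one _)))


/-- Let X be a scheme and D, D' divisors on X (global sections of the sheaf of units of K_X modulo units
of O_X, written multiplicatively). If D and D' are linearly equivalent, i.e. D · D'⁻¹ is the divisor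
of a unit of the ring of global sections of K_X, then the O_X-modules O_X(D) and O_X(D') are
isomorphic. (The published statement is an equivalence: O_X(D) and O_X(D') are isomorphic if and
only if D and D' are linearly equivalent; this row states only that linearly equivalent divisors
have isomorphic modules.) -/
theorem result (X : Scheme.{u}) (D D' : Mero.Divisor X) (h : Mero.LinEquiv D D') :
    Nonempty (Mero.divMod D ≅ Mero.divMod D') := by
  obtain ⟨f, hf⟩ := h
  have hD : D = D' * Mero.div f := by rw [← hf]; exact (by rw [mul_comm D', inv_mul_cancel_right] )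
  have hD' : D' = D * Mero.div f⁻¹ := by
    rw [hD, mul_assoc, div_mul_inv f, mul_one]
  exact ⟨{ hom := mulHom f hD
           inv := mulHom f⁻¹ hD'
           hom_inv_id := mulHom_comp f f⁻¹ hD hD' (Units.mul_inv f)
           inv_hom_id := mulHom_comp f⁻¹ f hD' hD (Units.inv_mul f) }⟩

end Groth.Agent.S5083
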