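import Groth.Statements.S5084
import Groth.Agent.Lib.AssPt.Modules
import Mathlib.RingTheory.Ideal.AssociatedPrime.Finiteness

set_option autoImplicit false
universe u
open CategoryTheory CategoryTheory.Limits AlgebraicGeometry TopologicalSpace
open Mero

namespace Groth.Agent.S5084

open Groth.Agent.Lib Groth.Agent.Lib.AssPt.Basic Groth.Agent.Lib.Ideal.EffCartier

theorem exists_nzd_mem_maximal {R : Type u} [CommRing R] [IsNoetherianRing R] [IsLocalRing R]
    (h : ¬ IsAssociatedPrime (IsLocalRing.maximalIdeal R) R) :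
    ∃ a ∈ IsLocalRing.maximalIdeal R, a ∈ nonZeroDivisors R := by
  by_contra hcon
  push Not at hcon
  have hsub : (IsLocalRing.maximalIdeal R : Set R) ⊆
      ⋃ p ∈ ((associatedPrimes.finite R R).toFinset : Set (Ideal R)), (p : Set R) := fun a ha => by
    rw [Set.Finite.coe_toFinset, biUnion_associatedPrimes_eq_compl_nonZeroDivisors]
    exact hcon a ha
  obtain ⟨p, hp, hle⟩ := (Ideal.subset_union_prime ⊥ ⊥ (fun p hp _ _ =>
    IsAssociatedPrime.isPrime ((associatedPrimes.finite R R).mem_toFinset.1 hp))).1 hsub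
  have hp' : IsAssociatedPrime p R := (associatedPrimes.finite R R).mem_toFinset.1 hp
  exact h ((le_antisymm hle (IsLocalRing.le_maximalIdeal hp'.isPrime.ne_top)) ▸ hp')

/-- A section whose germ at a point is a non-zero-divisor is regular near that point. -/
theorem exists_regular_nhd {X : Scheme.{u}} [IsLocallyNoetherian X] {W : X.Opens} (s : Γ(X, W))
    {x : X} (hx : x ∈ W) (hs : X.presheaf.germ W x hx s ∈ nonZeroDivisors (X.presheaf.stalk x)) :
    ∃ (V : X.Opens) (hVW : V ≤ W), x ∈ V ∧ X.presheaf.map (homOfLE hVW).op s ∈ Mero.regSub X V := by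
  obtain ⟨U, hU, hxU, hUW'⟩ := exists_isAffineOpen_mem_and_subset hx
  have hUW : U ≤ W := fun z hz => hUW' hz
  haveI : IsNoetherianRing Γ(X, U) := IsLocallyNoetherian.component_noetherian ⟨U, hU⟩
  set r : Γ(X, U) := X.presheaf.map (homOfLE hUW).op s with hr
  let algx := X.presheaf.algebra_section_stalk ⟨x, hxU⟩
  haveI := hU.isLocalization_stalk ⟨x, hxU⟩
  set p := (hU.primeIdealOf ⟨x, hxU⟩).asIdeal with hp
  let K : Ideal Γ(X, U) := LinearMap.ker (LinearMap.toSpanSingleton Γ(X, U) Γ(X, U) r)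
  obtain ⟨G, hG⟩ := (isNoetherianRing_iff_ideal_fg _).1 inferInstance K
  have hrx : X.presheaf.germ U x hxU r = X.presheaf.germ W x hx s :=
    TopCat.Presheaf.germ_res_apply X.presheaf (homOfLE hUW) x hxU s
  have hkill : ∀ b ∈ G, ∃ g : Γ(X, U), g ∉ p ∧ g * b = 0 := fun b hb => by
    have hb0 : b * r = 0 := (hG ▸ Submodule.subset_span hb : b ∈ K)
    have : algebraMap Γ(X, U) (X.presheaf.stalk x) b = 0 := by
      refine mul_right_mem_nonZeroDivisors_eq_zero_iff hs |>.1 ?_
      rw [← hrx]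
      exact ((map_mul (X.presheaf.germ U x hxU).hom b r).symm.trans (congrArg _ hb0)).trans (map_zero _)
    obtain ⟨⟨g, hg⟩, hgb⟩ := (IsLocalization.map_eq_zero_iff p.primeCompl _ b).1 this
    exact ⟨g, hg, hgb⟩
  choose g hg1 hg2 using hkill
  classical
  let γ : Γ(X, U) := ∏ b ∈ G.attach, g b.1 b.2
  have hγp : γ ∉ p := fun h => by
    obtain ⟨b, -, hb⟩ := (Ideal.IsPrime.prod_mem_iff (p := p)).1 h
    exact hg1 _ _ hb
  have hγK : ∀ b ∈ K, γ * b = 0 := fun b hb => by
    rw [← hG] at hb
    refine Submodule.span_induction (p := fun b _ => γ * b = 0) (fun b hb => ?_) (mul_zero _)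
      (fun a c _ _ ha hc => by rw [mul_add, ha, hc, add_zero])
      (fun t a _ ha => by rw [smul_eq_mul, mul_left_comm, ha, mul_zero]) hb
    obtain ⟨c, hc⟩ := Finset.dvd_prod_of_mem (fun b : G => g b.1 b.2) (Finset.mem_attach G ⟨b, hb⟩)
    change (∏ b ∈ G.attach, g b.1 b.2) * b = 0
    rw [hc, mul_right_comm, hg2 b hb, zero_mul]
  refine ⟨X.basicOpen γ, (X.basicOpen_le γ).trans hUW,
    (Ideal.EffCartier.mem_basicOpen_iff_notMem_prime hU hxU γ).2 hγp, fun y => ?_⟩
  have hyU : y.1 ∈ U := X.basicOpen_le γ y.2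
  let algy := X.presheaf.algebra_section_stalk ⟨y.1, hyU⟩
  haveI := hU.isLocalization_stalk ⟨y.1, hyU⟩
  rw [TopCat.Presheaf.germ_res_apply X.presheaf (homOfLE ((X.basicOpen_le γ).trans hUW)) y.1 y.2 s,
    show X.presheaf.germ W y.1 (hUW hyU) s = X.presheaf.germ U y.1 hyU r from
      (TopCat.Presheaf.germ_res_apply X.presheaf (homOfLE hUW) y.1 hyU s).symm]
  refine mem_nonZeroDivisors_of_eq_zero fun c hc => ?_
  obtain ⟨b, t, rfl⟩ := IsLocalization.exists_mk'_eq (hU.primeIdealOf ⟨y.1, hyU⟩).asIdeal.primeCompl c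
  change algebraMap Γ(X, U) (X.presheaf.stalk y.1) r * _ = 0 at hc
  rw [IsLocalization.mul_mk'_eq_mk'_of_mul, IsLocalization.mk'_eq_zero_iff] at hc
  obtain ⟨m, hm⟩ := hc
  have hb : (m : Γ(X, U)) * b ∈ K := by
    change ((m : Γ(X, U)) * b) * r = 0
    rw [mul_assoc, mul_comm b r, hm]
  rw [IsLocalization.mk'_eq_zero_iff]
  refine ⟨m * ⟨γ, (Ideal.EffCartier.mem_basicOpen_iff_notMem_prime hU hyU γ).1 y.2⟩, ?_⟩
  rw [Submonoid.coe_mul, mul_right_comm, mul_comm, hγK _ hb]

/-- Let X be a locally Noetherian scheme and F a quasi-coherent O_X-module. Then F is torsion-free — the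
canonical map from F to its sheaf of meromorphic sections K_X(F), m ↦ m/1, is a monomorphism, i.e.
at every point no germ of a regular function kills a nonzero element of the stalk of F — if and only
if every associated point of F is an associated point of the structure sheaf (a point x such that
the maximal ideal of O_{X,x} is an associated prime of O_{X,x}). -/
theorem result (X : Scheme.{u}) [IsLocallyNoetherian X]
    (F : X.Modules) (hF : Coh.IsQCoh F) :
    Mono (Mero.toMer F) ↔
      ∀ x : ↥X, Curv2.IsAssPoint F x →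
        IsAssociatedPrime (IsLocalRing.maximalIdeal ↑(X.presheaf.stalk x)) ↑(X.presheaf.stalk x) := by
  haveI : F.IsQuasicoherent := hF
  rw [Modules.Stalk.mono_iff_app_injective]
  constructor
  · intro hinj x hx
    by_contra hass
    obtain ⟨-, v, hv⟩ := hx
    haveI : IsNoetherianRing (X.presheaf.stalk x) := inferInstance
    obtain ⟨a, ha, hanzd⟩ := exists_nzd_mem_maximal hass
    obtain ⟨W, hxW, s, rfl⟩ := X.presheaf.exists_germ_eq a
    obtain ⟨V, hVW, hxV, hs⟩ := exists_regular_nhd s hxW hanzd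
    rw [hv] at ha
    obtain ⟨n, hn⟩ := ha
    rw [Submodule.mem_colon_singleton, Submodule.mem_bot] at hn
    obtain ⟨T, hxT, t, rfl⟩ := F.presheaf.exists_germ_eq v
    let R : X.Opens := V ⊓ T
    have hxR : x ∈ R := ⟨hxV, hxT⟩
    let s' : Γ(X, R) := X.presheaf.map (homOfLE (inf_le_left.trans hVW : R ≤ W)).op s ^ n
    let t' : Γ(F, R) := F.presheaf.map (homOfLE (inf_le_right : R ≤ T)).op t
    have hs' : s' ∈ Mero.regSub X R := by
      refine Submonoid.pow_mem _ ?_ n
      have := Mero.regSub_res (homOfLE (inf_le_left : R ≤ V)) hs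
      rwa [← CommRingCat.comp_apply, ← X.presheaf.map_comp] at this
    have h0 : F.presheaf.germ R x hxR (s' • t') = F.presheaf.germ R x hxR 0 := by
      rw [map_zero, Mero.germ_smul, map_pow, TopCat.Presheaf.germ_res_apply,
        TopCat.Presheaf.germ_res_apply]
      exact hn
    obtain ⟨Q, hxQ, i, j, hij⟩ := TopCat.Presheaf.germ_eq F.presheaf x hxR hxR _ _ h0
    have hz : F.presheaf.map i.op t' = 0 := by
      refine hinj Q ?_
      rw [map_zero]
      refine Subtype.ext (funext fun y => ?_)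
      change LocalizedModule.mk (F.presheaf.germ Q y.1 y.2 (F.presheaf.map i.op t')) 1 = 0
      have hyR : y.1 ∈ R := i.le y.2
      rw [TopCat.Presheaf.germ_res_apply, ← LocalizedModule.zero_mk 1, LocalizedModule.mk_eq]
      refine ⟨⟨_, Mero.germ_mem_regStalk ⟨y.1, hyR⟩ hs'⟩, ?_⟩
      have h1 := congrArg (F.presheaf.germ Q y.1 y.2) hij
      rw [TopCat.Presheaf.germ_res_apply, TopCat.Presheaf.germ_res_apply, map_zero, Mero.germ_smul] at h1
      simp only [one_smul, smul_zero]
      exact h1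
    have htop : IsLocalRing.maximalIdeal (X.presheaf.stalk x) = ⊤ := by
      rw [hv, Ideal.radical_eq_top, Ideal.eq_top_iff_one, Submodule.mem_colon_singleton, one_smul,
        Submodule.mem_bot]
      have h2 := congrArg (F.presheaf.germ Q x hxQ) hz
      rw [TopCat.Presheaf.germ_res_apply, map_zero, TopCat.Presheaf.germ_res_apply] at h2
      exact h2
    exact (IsLocalRing.maximalIdeal.isMaximal _).ne_top htop
  · intro h U
    rw [injective_iff_map_eq_zero]
    intro t ht
    refine AssPt.Modules.eq_zero_of_germ_eq_zero_assPoints t fun x hx hass => ?_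
    have h1 : LocalizedModule.mk (F.presheaf.germ U x hx t) (1 : Mero.regStalk X x) = 0 :=
      congrFun (congrArg Subtype.val ht) ⟨x, hx⟩
    rw [← LocalizedModule.zero_mk 1, LocalizedModule.mk_eq] at h1
    obtain ⟨⟨c, W, hxW, f, hf, rfl⟩, hc⟩ := h1
    simp only [one_smul, smul_zero] at hc
    exact (isUnit_of_nzd_of_maxAssoc (h x hass) (hf ⟨x, hxW⟩)).smul_eq_zero.1 hc

end Groth.Agent.S5084
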