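import Groth.Statements.S5086
import Groth.Agent.Lib.MeroK.Extend
import Groth.Agent.Lib.MeroK.Affine
import Groth.Agent.Lib.MeroK.LocFin

set_option autoImplicit false
universe u
open CategoryTheory CategoryTheory.Limits AlgebraicGeometry TopologicalSpace
open Mero

namespace Groth.Agent.S5086

open Groth.Agent.Lib Groth.Agent.Lib.AssPt.Basic

/-- A schematically dense open contains the associated points: Noetherian case. -/
theorem mem_of_noetherian {X : Scheme.{u}} [IsLocallyNoetherian X] {U V : X.Opens}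
    (hV : ∀ W : X.Opens, W ≤ U →
      Function.Injective ⇑(X.presheaf.map (homOfLE (inf_le_left : W ⊓ V ≤ W)).op))
    {y : X} (hy : y ∈ U) (ha : MaxAssoc (X.presheaf.stalk y)) : y ∈ V := by
  obtain ⟨W, hW, hyW, hle⟩ := exists_isAffineOpen_mem_and_subset hy
  have hWU : W ≤ U := fun z hz => hle hz
  haveI : IsNoetherianRing Γ(X, W) := IsLocallyNoetherian.component_noetherian ⟨W, hW⟩
  letI := X.presheaf.algebra_section_stalk ⟨y, hyW⟩
  haveI := hW.isLocalization_stalk ⟨y, hyW⟩
  have h := Module.associatedPrimes.comap_mem_associatedPrimes_of_mem_associatedPrimes_of_isLocalizedModule_of_fg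
    (hW.primeIdealOf ⟨y, hyW⟩).asIdeal.primeCompl
    (Algebra.linearMap Γ(X, W) (X.presheaf.stalk y))
    (IsLocalRing.maximalIdeal (X.presheaf.stalk y)) ha
    ((isNoetherianRing_iff_ideal_fg _).mp inferInstance _)
  obtain ⟨hp, t, ht⟩ := h
  by_contra hyV
  have ht0 : t ≠ 0 := fun h0 => hp.ne_top (by
    rw [ht, h0, Ideal.eq_top_iff_one, Ideal.mem_radical_iff]
    exact ⟨1, by simp [Submodule.mem_colon_singleton]⟩)
  refine ht0 (hV W hWU ?_)
  rw [map_zero]
  refine MeroK.Basic.section_eq_zero_of_germs _ fun z hz => ?_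
  rw [TopCat.Presheaf.germ_res_apply]
  have hzy : ¬ y ⤳ z := fun hs => hyV (hs.mem_open V.isOpen hz.2)
  rw [specializes_iff_primeIdealOf hW hz.1 hyW,
    ← IsLocalization.AtPrime.under_maximalIdeal (X.presheaf.stalk y)
      (hW.primeIdealOf ⟨y, hyW⟩).asIdeal] at hzy
  obtain ⟨r, hr, hrz⟩ := SetLike.not_le_iff_exists.mp hzy
  change r ∈ Ideal.comap (algebraMap Γ(X, W) (X.presheaf.stalk y))
    (IsLocalRing.maximalIdeal (X.presheaf.stalk y)) at hr
  rw [ht, Ideal.mem_radical_iff] at hr
  obtain ⟨n, hn⟩ := hr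
  rw [Submodule.mem_colon_singleton, Submodule.mem_bot, smul_eq_mul] at hn
  letI := X.presheaf.algebra_section_stalk ⟨z, hz.1⟩
  haveI := hW.isLocalization_stalk ⟨z, hz.1⟩
  exact (IsLocalization.map_eq_zero_iff (hW.primeIdealOf ⟨z, hz.1⟩).asIdeal.primeCompl
    (X.presheaf.stalk z) t).mpr ⟨⟨r ^ n, fun h => hrz
      ((hW.primeIdealOf ⟨z, hz.1⟩).isPrime.mem_of_pow_mem n h)⟩, hn⟩

/-- A schematically dense open contains the maximal points. -/
theorem mem_of_maximal {X : Scheme.{u}}
    (hX : ∀ x : ↥X, ∃ W : X.Opens, x ∈ W ∧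
      {Z : Set ↥X | Z ∈ irreducibleComponents ↥X ∧ (Z ∩ (W : Set ↥X)).Nonempty}.Finite)
    {U V : X.Opens}
    (hV : ∀ W : X.Opens, W ≤ U →
      Function.Injective ⇑(X.presheaf.map (homOfLE (inf_le_left : W ⊓ V ≤ W)).op))
    {y : X} (hy : y ∈ U) (hmax : ∀ z : X, z ⤳ y → z = y) : y ∈ V := by
  obtain ⟨W, hW, hyW, hle⟩ := exists_isAffineOpen_mem_and_subset hy
  have hWU : W ≤ U := fun z hz => hle hz
  by_contra hyV
  let F : Set X := {z | (z ∈ W ∧ ∀ w : X, w ⤳ z → w = z) ∧ z ≠ y}
  have hF : F.Finite := (MeroK.LocFin.finite_maximalPoints_of_locallyFinite hX hW).subset fun z h => h.1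
  have hC : IsClosed (⋃ z ∈ F, closure ({z} : Set X)) := hF.isClosed_biUnion fun _ _ => isClosed_closure
  let W' : X.Opens := W ⊓ ⟨_, hC.isOpen_compl⟩
  have hyW' : y ∈ W' := ⟨hyW, fun hc => by
    obtain ⟨z, hz, hyz⟩ := Set.mem_iUnion₂.mp hc
    exact hz.2 (hmax z (specializes_iff_mem_closure.mpr hyz))⟩
  have hbot : W' ⊓ V = ⊥ := by
    refine eq_bot_iff.mpr fun z hz => ?_
    obtain ⟨⟨hzW, hzC⟩, hzV⟩ := hz
    obtain ⟨q, hq, hqle⟩ := Ideal.exists_minimalPrimes_le (I := (⊥ : Ideal Γ(X, W)))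
      (J := (hW.primeIdealOf ⟨z, hzW⟩).asIdeal) bot_le
    haveI : q.IsPrime := hq.1.1
    obtain ⟨m, hm, rfl⟩ := exists_point_of_prime hW q
    have hmz : m ⤳ z := (specializes_iff_primeIdealOf hW hzW hm).mpr hqle
    by_cases hmy : m = y
    · exfalso
      have hyz : y ⤳ z := hmy ▸ hmz
      exact hyV (hyz.mem_open V.isOpen hzV)
    · exact absurd (Set.mem_iUnion₂.mpr ⟨m,
        ⟨⟨hm, (maximalPoint_iff_minimalPrime hW hm).mpr hq⟩, hmy⟩,
        specializes_iff_mem_closure.mp hmz⟩) hzC
  have h01 : (1 : Γ(X, W')) = 0 := hV W' (inf_le_left.trans hWU) (by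
    refine TopCat.Presheaf.section_ext X.sheaf _ _ _ fun z hz => ?_
    exact absurd (show z ∈ (⊥ : X.Opens) from hbot ▸ hz) id)
  have h1 := congrArg (X.presheaf.germ W' y hyW') h01
  rw [map_one, map_zero] at h1
  exact one_ne_zero h1


/-- Let X be a scheme which is either locally Noetherian, or reduced with locally finite set of
irreducible components (every point has an open neighbourhood meeting only finitely many irreducible
components). Let U be an open subset, V an open subset of U schematically dense in U (restriction of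
functions from every open W ⊆ U to W ∩ V is injective) and g a function on V. Then there is a
section of the sheaf of meromorphic functions K_X over U whose restriction to V is g/1; with part
(i), meromorphic functions over U are exactly the pseudo-functions on U. -/
theorem result (X : Scheme.{u})
    (hX : IsLocallyNoetherian X ∨ (IsReduced X ∧ ∀ x : ↥X, ∃ W : X.Opens, x ∈ W ∧
      {Z : Set ↥X | Z ∈ irreducibleComponents ↥X ∧ (Z ∩ (W : Set ↥X)).Nonempty}.Finite))
    (U V : X.Opens) (hVU : V ≤ U)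
    (hV : ∀ W : X.Opens, W ≤ U →
      Function.Injective ⇑(X.presheaf.map (homOfLE (inf_le_left : W ⊓ V ≤ W)).op))
    (g : Γ(X, V)) :
    ∃ s : Γ(Mero.kmod X, U), (Mero.kmod X).presheaf.map (homOfLE hVU).op s = Mero.toK X V g := by
  rcases hX with h | ⟨h, hloc⟩
  · exact MeroK.Extend.exists_kmod_extend hVU (fun W hW _ => MeroK.Affine.finite_maxAssoc hW)
      (fun y hy ha => mem_of_noetherian hV hy ha) g
  · exact MeroK.Extend.exists_kmod_extend hVU
      (fun W hW _ => (MeroK.LocFin.finite_maximalPoints_of_locallyFinite hloc hW).subset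
        fun y hy => ⟨hy.1, (maxAssoc_iff_maximalPoint y).mp hy.2⟩)
      (fun y hy ha => mem_of_maximal hloc hV hy ((maxAssoc_iff_maximalPoint y).mp ha)) g

end Groth.Agent.S5086
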