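import Groth.Statements.S5095
import Groth.Agent.Lib.EndoIso.Radicial

set_option autoImplicit false
universe u
open CategoryTheory CategoryTheory.Limits AlgebraicGeometry TopologicalSpace
open EGA43

namespace Groth.Agent.S5095

/-- Let S be a scheme, X an S-scheme of finite presentation (the structure morphism is locally of finite
presentation, quasi-compact and quasi-separated) and f a radicial (universally injective)
S-endomorphism of X. Then f is bijective and finite, hence a universal homeomorphism. -/
theorem result {X S : Scheme.{u}} (p : X ⟶ S)
    [LocallyOfFinitePresentation p] [QuasiCompact p] [QuasiSeparated p]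
    (f : X ⟶ X) (hf : f ≫ p = p) [UniversallyInjective f] :
    Function.Bijective ⇑f.base ∧ IsFinite f := by
  exact Lib.EndoIso.isFinite_and_bijective p f hf

end Groth.Agent.S5095
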