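import Groth.Statements.S5097
import Groth.Agent.Lib.MeroK.Basic

set_option autoImplicit false
universe u
open CategoryTheory CategoryTheory.Limits AlgebraicGeometry TopologicalSpace
open Mero

namespace Groth.Agent.S5097

open Groth.Agent.Lib.Ideal.EffCartier Groth.Agent.Lib.AssPt.Basic Groth.Agent.Lib.MeroK.Basic


/-- Injectivity of the canonical homomorphism from divisors to invertible fractional ideals: let X be a
scheme and D, D' two divisors on X such that, over every open subset U, a section t of the sheaf of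
meromorphic functions lies in O_X(D) (t_x · g ∈ O_{X,x} for a representative g of the germ of D at
x, for all x in U) if and only if it lies in O_X(D'). Then D = D'. -/
theorem result (X : Scheme.{u}) (D D' : Mero.Divisor X)
    (h : ∀ (U : X.Opens) (t : Γ(Mero.kmod X, U)),
      (∀ x : ↥U, Mero.DivCond D x.1 (t.1 x)) ↔ (∀ x : ↥U, Mero.DivCond D' x.1 (t.1 x))) :
    D = D' := by
  refine Subtype.ext (funext fun x => ?_)
  obtain ⟨U, hxU, f, hf⟩ := D.2 x
  obtain ⟨U', hxU', f', hf'⟩ := D'.2 x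
  have main : ∀ (E E' : Mero.Divisor X), (∀ (U : X.Opens) (t : Γ(Mero.kmod X, U)),
      (∀ x : ↥U, Mero.DivCond E x.1 (t.1 x)) → (∀ x : ↥U, Mero.DivCond E' x.1 (t.1 x))) →
      ∀ (U : X.Opens) (hxU : x ∈ U) (f : (Γ(Mero.kmod X, U))ˣ),
      (∀ y : U, E.1 y.1 = Mero.germOf f y) → ∀ g' : (Mero.KStalk X x)ˣ,
        E'.1 x = QuotientGroup.mk g' →
        (((Units.map (Mero.evalK X U ⟨x, hxU⟩).toMonoidHom f)⁻¹ * g' : (Mero.KStalk X x)ˣ) :
          Mero.KStalk X x) ∈ (algebraMap (X.presheaf.stalk x) (Mero.KStalk X x)).range := by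
    intro E E' hEE U hxU f hf g' hg'
    have h1 : ∀ y : ↥U, Mero.DivCond E y.1 ((↑f⁻¹ : Γ(Mero.kmod X, U)).1 y) := by
      intro y g hg
      rw [hf y, Mero.germOf, QuotientGroup.eq] at hg
      obtain ⟨c, hc⟩ := hg
      refine ⟨(c : X.presheaf.stalk y.1), ?_⟩
      have := congrArg Units.val hc
      exact this
    exact hEE U _ h1 ⟨x, hxU⟩ g' hg'
  set g := Units.map (Mero.evalK X U ⟨x, hxU⟩).toMonoidHom f with hgdef
  set g' := Units.map (Mero.evalK X U' ⟨x, hxU'⟩).toMonoidHom f' with hg'def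
  have hD : D.1 x = QuotientGroup.mk g := hf ⟨x, hxU⟩
  have hD' : D'.1 x = QuotientGroup.mk g' := hf' ⟨x, hxU'⟩
  obtain ⟨c, hc⟩ := main D D' (fun U t => (h U t).mp) U hxU f hf g' hD'
  obtain ⟨c', hc'⟩ := main D' D (fun U t => (h U t).mpr) U' hxU' f' hf' g hD
  rw [← hgdef] at hc
  rw [← hg'def] at hc'
  rw [hD, hD', QuotientGroup.eq]
  have hcu : c * c' = 1 := by
    refine Mero.algebraMap_KStalk_injective x ?_
    rw [map_mul, hc, hc', map_one, ← Units.val_mul, ← Units.val_one]
    congr 1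
    rw [mul_assoc, mul_inv_cancel_left, inv_mul_cancel]
  exact ⟨⟨c, c', hcu, by rw [mul_comm]; exact hcu⟩, Units.ext hc⟩

end Groth.Agent.S5097
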