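import Groth.Statements.S5098
import Groth.Agent.Lib.MeroK.Depth

set_option autoImplicit false
universe u
open CategoryTheory CategoryTheory.Limits AlgebraicGeometry TopologicalSpace
open Mero

namespace Groth.Agent.S5098

open Groth.Agent.Lib.MeroK.Basic Groth.Agent.Lib.MeroK.Depth


/-- General form, for divisors on a scheme that need not be integral: let X be a locally Noetherian
scheme and D a divisor on X. If the germ of D is effective (resp. trivial) at every point x whose
local ring O_{X,x} has depth 1, then D is effective (resp. D is the unit divisor, in the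
multiplicative notation used here). -/
theorem result (X : Scheme.{u}) [IsLocallyNoetherian X] (D : Mero.Divisor X) :
    ((∀ x : ↥X, LocCoh.depth ↑(X.presheaf.stalk x) ↑(X.presheaf.stalk x) = 1 → Mero.IsEffectiveAt D x) →
        Mero.IsEffective D) ∧
      ((∀ x : ↥X, LocCoh.depth ↑(X.presheaf.stalk x) ↑(X.presheaf.stalk x) = 1 → D.1 x = 1) → D = 1) := by
  have eff : ∀ E : Mero.Divisor X,
      (∀ x : ↥X, LocCoh.depth ↑(X.presheaf.stalk x) ↑(X.presheaf.stalk x) = 1 →
        Mero.IsEffectiveAt E x) → Mero.IsEffective E := by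
    intro E hE x
    by_contra hx
    obtain ⟨y, -, hdep, hy⟩ := exists_depth_one_of_not_effectiveAt E hx
    exact hy (hE y hdep)
  have triv : ∀ (E : Mero.Divisor X) (x : X), E.1 x = 1 → Mero.IsEffectiveAt E x := fun E x h =>
    ⟨1, by rw [h, eq_comm, QuotientGroup.eq_one_iff]; exact ⟨1, Units.ext (by simp)⟩⟩
  refine ⟨eff D, fun h => Subtype.ext (funext fun x => ?_)⟩
  refine eq_one_of_effective_both D (eff D (fun y hy => triv D y (h y hy)) x)
    (eff D⁻¹ (fun y hy => triv _ y ?_) x)
  exact inv_eq_one.mpr (h y hy)

end Groth.Agent.S5098
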