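import Groth.Statements.S5099
import Groth.Agent.Lib.MeroK.Depth

set_option autoImplicit false
universe u
open CategoryTheory CategoryTheory.Limits AlgebraicGeometry TopologicalSpace
open Mero

namespace Groth.Agent.S5099

open Groth.Agent.Lib.MeroK.Basic Groth.Agent.Lib.MeroK.Depth


/-- General form, for divisors on a scheme that need not be integral: let X be a locally Noetherian
scheme, D a divisor on X and x a maximal point of the support of D (a point at which the germ of D
is not trivial and none of whose proper generizations has that property). Then the local ring of X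
at x has depth 1. -/
theorem result (X : Scheme.{u}) [IsLocallyNoetherian X] (D : Mero.Divisor X)
    (x : ↥X) (hx : x ∈ Mero.supp D) (hmax : ∀ z : ↥X, z ∈ Mero.supp D → z ⤳ x → z = x) :
    LocCoh.depth ↑(X.presheaf.stalk x) ↑(X.presheaf.stalk x) = 1 := by
  have hne : ¬ Mero.IsEffectiveAt D x ∨ ¬ Mero.IsEffectiveAt D⁻¹ x := by
    by_contra hc
    push Not at hc
    exact hx (eq_one_of_effective_both D hc.1 hc.2)
  have key : ∀ E : Mero.Divisor X, (∀ y, E.1 y = 1 ↔ D.1 y = 1) → ¬ Mero.IsEffectiveAt E x →
      LocCoh.depth ↑(X.presheaf.stalk x) ↑(X.presheaf.stalk x) = 1 := by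
    intro E hE hEx
    obtain ⟨y, hyx, hdep, hy⟩ := exists_depth_one_of_not_effectiveAt E hEx
    have hys : y ∈ Mero.supp D := fun h1 => hy
      ⟨1, by rw [(hE y).mpr h1, eq_comm, QuotientGroup.eq_one_iff]
             exact ⟨1, Units.ext (by simp)⟩⟩
    obtain rfl := hmax y hys hyx
    exact hdep
  rcases hne with h | h
  · exact key D (fun _ => Iff.rfl) h
  · exact key D⁻¹ (fun y => show (D.1 y)⁻¹ = 1 ↔ D.1 y = 1 from inv_eq_one) h

end Groth.Agent.S5099
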