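import Groth.Statements.S5100
import Groth.Agent.Lib.CartierDescent.Normal

set_option autoImplicit false
universe u
open CategoryTheory CategoryTheory.Limits AlgebraicGeometry TopologicalSpace
open Div21

namespace Groth.Agent.S5100

open scoped Pointwise
open IsLocalRing Groth.Agent.Lib.CartierDescent Groth.Agent.Lib.CDivInt.Factorial
  Groth.Agent.Lib.Ideal.Prime Groth.Agent.Lib.Ideal.EffCartier
open Groth.Agent.Lib.ModelFibre.StalkIdeal (map_stalkSpecializes stalkIdeal_eq_top_iff)

theorem ideal_top_eq_iff {X : Scheme.{u}} (J : X.IdealSheafData) (x : X) (g : X.presheaf.stalk x) :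
    (J.comap (X.fromSpecStalk x)).ideal ⟨⊤, isAffineOpen_top _⟩ =
      Ideal.span {(Scheme.ΓSpecIso (X.presheaf.stalk x)).inv g} ↔
    stalkIdeal J x = Ideal.span {g} := by
  rw [← topIdeal_comap_fromSpecStalk J x, topIdeal]
  constructor
  · intro h
    rw [h, span_eq_map_span]
    congr 2
    exact congrArg (fun φ : X.presheaf.stalk x ⟶ X.presheaf.stalk x => φ g)
      (Scheme.ΓSpecIso (X.presheaf.stalk x)).inv_hom_id
  · intro h
    have := congrArg (Ideal.map (Scheme.ΓSpecIso (X.presheaf.stalk x)).inv.hom) h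
    rwa [Ideal.map_map, ← CommRingCat.hom_comp, Iso.hom_inv_id, CommRingCat.hom_id, Ideal.map_id,
      span_eq_map_span] at this

/-- A point of depth at most one over a uniformized point is associated in its fibre. -/
theorem isAssociatedPrime_fiber {X Y : Scheme.{u}} [IsLocallyNoetherian X] [IsLocallyNoetherian Y]
    (f : X ⟶ Y) [Flat f] {z : Y} (a : f.fiber z) {π : Y.presheaf.stalk z}
    (hπ : maximalIdeal (Y.presheaf.stalk z) = Ideal.span {π})
    (hπn : π ∈ nonZeroDivisors (Y.presheaf.stalk z))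
    (hd : LocCoh.depth (X.presheaf.stalk (f.fiberι z a)) (X.presheaf.stalk (f.fiberι z a)) ≤ 1) :
    IsAssociatedPrime (maximalIdeal ((f.fiber z).presheaf.stalk a))
      ((f.fiber z).presheaf.stalk a) := by
  generalize hx : f.fiberι z a = x at hd
  have hxz : f x = z := by
    have : x ∈ f ⁻¹' {z} := by rw [← f.range_fiberι z]; exact ⟨a, hx⟩
    exact this
  subst hxz
  obtain ⟨φ, hs, hk⟩ := Groth.Agent.H46.FiberStalk.exists_surjective_stalk f (f x) a x hx
  rw [hπ, span_eq_map_span] at hk
  set b := f.stalkMap x π with hbdef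
  have hbn : b ∈ nonZeroDivisors (X.presheaf.stalk x) :=
    mem_nonZeroDivisors_of_flat (Flat.stalkMap f x) hπn
  have hbm : b ∈ maximalIdeal (X.presheaf.stalk x) := fun hu =>
    (hπ ▸ Ideal.mem_span_singleton_self π : π ∈ maximalIdeal _)
      (isUnit_of_map_unit (f.stalkMap x).hom _ hu)
  have hbr : IsSMulRegular (X.presheaf.stalk x) b := fun u v huv =>
    (mul_cancel_left_mem_nonZeroDivisors hbn).mp huv
  have hq := Groth.Agent.Lib.Depth.SES.idealDepth_quotSMulTop
    (maximalIdeal (X.presheaf.stalk x)) hbm hbr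
  haveI : Nontrivial (QuotSMulTop b (X.presheaf.stalk x)) := by
    refine Submodule.Quotient.nontrivial_iff.mpr fun htop => ?_
    obtain ⟨c, -, hc⟩ := (Submodule.mem_smul_pointwise_iff_exists _ _ _).mp
      (by rw [htop]; trivial : (1 : X.presheaf.stalk x) ∈ b • (⊤ : Submodule _ _))
    exact hbm (isUnit_iff_exists_inv.mpr ⟨c, hc⟩)
  have h0 : LocCoh.depth (X.presheaf.stalk x) (QuotSMulTop b (X.presheaf.stalk x)) = 0 := by
    rw [LocCoh.depth] at hd ⊢
    rw [← hq] at hd
    exact nonpos_iff_eq_zero.mp (WithTop.le_of_add_le_add_right (z := 1) ENat.one_ne_top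
      (hd.trans (zero_add (1 : ℕ∞)).ge))
  obtain ⟨-, w, hw⟩ := isAssociatedPrime_iff.mp
    ((Groth.Agent.Lib.Depth.Assoc.depth_eq_zero_iff (R := X.presheaf.stalk x)
      (M := QuotSMulTop b (X.presheaf.stalk x))).mp h0)
  obtain ⟨c, rfl⟩ := Submodule.Quotient.mk_surjective _ w
  have hcol : ∀ r, r ∈ maximalIdeal (X.presheaf.stalk x) ↔ φ r * φ c = 0 := fun r => by
    rw [hw, Submodule.mem_colon_singleton, Submodule.mem_bot, ← Submodule.Quotient.mk_smul,
      Submodule.Quotient.mk_eq_zero, Submodule.mem_smul_pointwise_iff_exists, ← map_mul,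
      ← RingHom.mem_ker, hk, Ideal.mem_span_singleton']
    exact ⟨fun ⟨d, _, hd⟩ => ⟨d, by rw [mul_comm]; exact hd⟩,
      fun ⟨d, hd⟩ => ⟨d, trivial, by rw [smul_eq_mul, mul_comm]; exact hd⟩⟩
  haveI : IsNoetherianRing ((f.fiber (f x)).presheaf.stalk a) :=
    isNoetherianRing_of_surjective _ _ φ hs
  refine isAssociatedPrime_iff.mpr ⟨inferInstance, φ c, ?_⟩
  ext s
  obtain ⟨r, rfl⟩ := hs s
  rw [Submodule.mem_colon_singleton, Submodule.mem_bot, smul_eq_mul, ← hcol]
  haveI : IsLocalHom φ := .of_surjective φ hs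
  exact not_congr ⟨fun hu => isUnit_of_map_unit φ r hu, fun hu => hu.map φ⟩

theorem comesFrom {X Y : Scheme.{u}} [IsLocallyNoetherian X] [IsLocallyNoetherian Y]
    (f : X ⟶ Y) [Flat f] [Surjective f] (hY : Pi1.IsNormalScheme Y)
    (hfib : ∀ y : ↥Y, ringKrullDim ↑(Y.presheaf.stalk y) = 1 → ∀ z z' : ↥(f.fiber y),
      IsAssociatedPrime (maximalIdeal ↑((f.fiber y).presheaf.stalk z)) ↑((f.fiber y).presheaf.stalk z) →
      IsAssociatedPrime (maximalIdeal ↑((f.fiber y).presheaf.stalk z')) ↑((f.fiber y).presheaf.stalk z') →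
      z' ⤳ z → z' = z)
    (J : X.IdealSheafData) (hJ : BlowUp.IsEffCartierIdeal J)
    (htop : ∀ η : ↥Y, (∀ z : ↥Y, z ⤳ η → z = η) → J.comap (f.fiberι η) = ⊤)
    (hn : ∀ y : ↥Y, ringKrullDim ↑(Y.presheaf.stalk y) = 1 → ∃ n : ℕ, ∀ t : ↑(Y.presheaf.stalk y),
          maximalIdeal ↑(Y.presheaf.stalk y) = Ideal.span {t} →
          ∀ (x : ↥X) (hx : f x = y), (∀ z : ↥X, f z = y → z ⤳ x → z = x) →
            (J.comap (X.fromSpecStalk x)).ideal ⟨⊤, isAffineOpen_top _⟩ =
              Ideal.span {(Scheme.ΓSpecIso (X.presheaf.stalk x)).inv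
                (((f.stalkMap x).hom ((Y.presheaf.stalkCongr (.of_eq hx.symm)).hom t)) ^ n)})
    (z : Y) (hz : LocCoh.depth (Y.presheaf.stalk z) (Y.presheaf.stalk z) ≤ 1) :
    ComesFrom f J z := by
  haveI := (hY z).1
  haveI := (hY z).2
  have hmax : ∀ x : X, (∀ v, v ⤳ f x → v = f x) → stalkIdeal J x = ⊤ := by
    intro x hx
    rw [stalkIdeal_eq_top_iff]
    intro hmem
    obtain ⟨a, ha⟩ : x ∈ Set.range (f.fiberι (f x)) := by rw [f.range_fiberι]; rfl
    have h1 : a ∈ (J.comap (f.fiberι (f x))).support := by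
      rw [Scheme.IdealSheafData.support_comap]
      show f.fiberι (f x) a ∈ J.support
      rw [ha]; exact hmem
    rw [htop (f x) hx, Scheme.IdealSheafData.support_top] at h1
    exact h1
  rcases eq_or_ne (LocCoh.depth (Y.presheaf.stalk z) (Y.presheaf.stalk z)) 0 with h0 | h0
  · have hF := isField_of_depth_eq_zero h0
    refine ⟨1, fun x h => ?_⟩
    rw [map_one, map_one, Ideal.span_singleton_one]
    refine hmax x fun v hv => ?_
    exact (eq_of_isField hF (hv.trans h)).trans (eq_of_isField hF h).symm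
  have h1 : LocCoh.depth (Y.presheaf.stalk z) (Y.presheaf.stalk z) = 1 :=
    le_antisymm hz (Order.one_le_iff_ne_zero.mpr h0)
  haveI := Groth.Agent.Lib.CDivInt.isDiscreteValuationRing_of_depth_eq_one h1
  have hdim1 := IsDiscreteValuationRing.ringKrullDim_eq_one (Y.presheaf.stalk z)
  obtain ⟨π, hirr⟩ := IsDiscreteValuationRing.exists_irreducible (Y.presheaf.stalk z)
  have hπ := hirr.maximalIdeal_eq
  have hπn : π ∈ nonZeroDivisors (Y.presheaf.stalk z) := mem_nonZeroDivisors_of_ne_zero hirr.ne_zero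
  obtain ⟨n, hn⟩ := hn z hdim1
  have hdim : ∀ P : Ideal (Y.presheaf.stalk z), P.IsPrime → P ≠ ⊥ →
      P = maximalIdeal (Y.presheaf.stalk z) := fun P hP hne =>
    haveI := hP
    eq_maximalIdeal (hP.isMaximal_of_ne_bot hne)
  have hne_unit : ∀ (x : X) (h : f x ⤳ z), f x ≠ z →
      IsUnit (f.stalkMap x (Y.presheaf.stalkSpecializes h π)) := by
    intro x h he
    refine IsUnit.map _ ?_
    by_contra hu
    have : π ∈ primeOf h := hu
    rw [(maximal_of_ne hdim h he).1, Ideal.mem_bot] at this
    exact hirr.ne_zero this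
  have hmax' : ∀ x' : X, f x' = z →
      LocCoh.depth (X.presheaf.stalk x') (X.presheaf.stalk x') ≤ 1 →
      ∀ w : X, f w = z → w ⤳ x' → w = x' := by
    intro x' hx' hd w hw hwx
    obtain ⟨a, rfl⟩ : x' ∈ Set.range (f.fiberι z) := by rw [f.range_fiberι]; exact hx'
    let t : X.presheaf.stalk w := f.stalkMap w (Y.presheaf.stalkSpecializes (specializes_of_eq hw) π)
    have htm : t ∈ maximalIdeal (X.presheaf.stalk w) := fun hu => by
      have hu' := isUnit_of_map_unit (f.stalkMap w).hom _ hu
      have h3 := hu'.map (Y.presheaf.stalkSpecializes (specializes_of_eq hw.symm)).hom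
      rw [stalkSpecializes_comp_apply, TopCat.Presheaf.stalkSpecializes_refl] at h3
      exact hirr.not_isUnit h3
    obtain ⟨Q, hQm, -⟩ := Ideal.exists_minimalPrimes_le
      (show Ideal.span {t} ≤ maximalIdeal (X.presheaf.stalk w) from
        (Ideal.span_singleton_le_iff_mem _).mpr htm)
    haveI := hQm.1.1
    have hQ1 := Ideal.height_le_one_of_isPrincipal_of_mem_minimalPrimes _ Q hQm
    obtain ⟨w₁, hw₁, rfl⟩ := exists_primeOf_eq w Q
    have hfw : f w₁ = z := by
      by_contra hne
      refine hQm.1.2 (Ideal.mem_span_singleton_self t) ?_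
      show IsUnit (X.presheaf.stalkSpecializes hw₁ t)
      rw [← Scheme.Hom.stalkSpecializes_stalkMap_apply f w₁ w hw₁, stalkSpecializes_comp_apply]
      exact hne_unit w₁ _ hne
    obtain ⟨a₁, rfl⟩ : w₁ ∈ Set.range (f.fiberι z) := by rw [f.range_fiberι]; exact hfw
    have hd₁ : LocCoh.depth (X.presheaf.stalk (f.fiberι z a₁)) (X.presheaf.stalk (f.fiberι z a₁)) ≤ 1 := by
      have h5 := Groth.Agent.Lib.Depth.Assoc.depth_le_ringKrullDim
        (R := X.presheaf.stalk (f.fiberι z a₁)) (X.presheaf.stalk (f.fiberι z a₁))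
      rw [← height_primeOf hw₁] at h5
      exact (WithBot.coe_le_coe.mp h5).trans hQ1
    have he := hfib z hdim1 a a₁ (isAssociatedPrime_fiber f a hπ hπn hd)
      (isAssociatedPrime_fiber f a₁ hπ hπn hd₁)
      ((f.fiberι z).isEmbedding.toIsInducing.specializes_iff.mp (hw₁.trans hwx))
    exact (hwx.antisymm (he ▸ hw₁)).eq
  refine ⟨π ^ n, fun x h => ?_⟩
  rw [map_pow, map_pow]
  by_cases he : f x = z
  · obtain ⟨g, hg, hJg⟩ := stalkIdeal_eq_span hJ x
    let t : X.presheaf.stalk x := f.stalkMap x (Y.presheaf.stalkSpecializes h π)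
    have htn : t ^ n ∈ nonZeroDivisors (X.presheaf.stalk x) := by
      refine pow_mem (mem_nonZeroDivisors_of_flat (Flat.stalkMap f x) ?_) n
      subst he
      rw [TopCat.Presheaf.stalkSpecializes_refl]
      exact hπn
    have key : ∀ (p : Ideal (X.presheaf.stalk x)) [p.IsPrime],
        LocCoh.depth (Localization.AtPrime p) (Localization.AtPrime p) ≤ 1 →
        (∃ s ∉ p, s * g ∈ Ideal.span {t ^ n}) ∧ (∃ s ∉ p, s * t ^ n ∈ Ideal.span {g}) := by
      intro p _ hd
      obtain ⟨x', hx', rfl⟩ := exists_primeOf_eq x p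
      rw [depth_primeOf hx'] at hd
      letI : Algebra (X.presheaf.stalk x) (X.presheaf.stalk x') :=
        (X.presheaf.stalkSpecializes hx').hom.toAlgebra
      haveI := isLocalization_stalkSpecializes hx'
      have h' : f x' ⤳ z := (hx'.map f.continuous).trans h
      have e : stalkIdeal J x' = Ideal.span {algebraMap (X.presheaf.stalk x) (X.presheaf.stalk x') (t ^ n)} := by
        have e1 : algebraMap (X.presheaf.stalk x) (X.presheaf.stalk x') (t ^ n) =
            f.stalkMap x' (Y.presheaf.stalkSpecializes h' π) ^ n := by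
          rw [map_pow]
          show X.presheaf.stalkSpecializes hx' (f.stalkMap x (Y.presheaf.stalkSpecializes h π)) ^ n = _
          rw [← Scheme.Hom.stalkSpecializes_stalkMap_apply f x' x hx', stalkSpecializes_comp_apply]
        rw [e1]
        by_cases he' : f x' = z
        · exact (ideal_top_eq_iff J x' _).mp (hn π hπ x' he' (hmax' x' he' hd))
        · rw [hmax x' (maximal_of_ne hdim h' he').2, eq_comm, Ideal.span_singleton_eq_top]
          exact (hne_unit x' h' he').pow n
      rw [← map_stalkSpecializes J hx', hJg, span_eq_map_span] at e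
      have hmem : ∀ {r s : X.presheaf.stalk x},
          Ideal.span {algebraMap _ (X.presheaf.stalk x') r} =
            Ideal.span {algebraMap _ (X.presheaf.stalk x') s} →
          ∃ m ∉ primeOf hx', m * r ∈ Ideal.span {s} := fun {r s} heq => by
        obtain ⟨m, hm, hmb⟩ := (IsLocalization.algebraMap_mem_map_algebraMap_iff
          (primeOf hx').primeCompl (X.presheaf.stalk x') (Ideal.span {s}) r).mp
            (by rw [span_eq_map_span, ← heq]; exact Ideal.mem_span_singleton_self _)
        exact ⟨m, hm, hmb⟩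
      exact ⟨hmem e, hmem e.symm⟩
    rw [hJg]
    exact le_antisymm
      ((Ideal.span_singleton_le_iff_mem _).mpr
        (mem_span_of_depth_le_one htn fun p _ hd => (key p hd).1))
      ((Ideal.span_singleton_le_iff_mem _).mpr
        (mem_span_of_depth_le_one hg fun p _ hd => (key p hd).2))
  · rw [hmax x (maximal_of_ne hdim h he).2, eq_comm, Ideal.span_singleton_eq_top]
    exact (hne_unit x h he).pow n

/-- Suppose X and Y are locally Noetherian schemes, and consider a morphism f : X → Y that is flat and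
surjective (i.e. faithfully flat) and is either quasi-compact or open. Assume Y is normal, and that
whenever y ∈ Y has a local ring of dimension 1, the fibre X_y has no embedded associated point (if
one associated point of X_y specializes to another, the two coincide). Given an effective Cartier
divisor D' on X, described by its ideal sheaf 𝓙, D' arises as the inverse image of some effective
Cartier divisor on Y exactly when both of the following hold: (1) at each maximal point η of Y,
pulling D' back to the fibre X_η gives zero (the resulting ideal is the unit ideal); and (2) at each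
y ∈ Y with one-dimensional local ring (a discrete valuation ring, because Y is normal) one can find
an integer n ≥ 0 so that, for any uniformizer t of O_{Y,y} and any maximal point x of f⁻¹(y), the
ideal of D' in O_{X,x} (namely the inverse image of 𝓙 on Spec O_{X,x}) is generated by the image of
t raised to the n-th power. -/
theorem result {X Y : Scheme.{u}}
    [IsLocallyNoetherian X] [IsLocallyNoetherian Y] (f : X ⟶ Y) [Flat f] [Surjective f]
    (hf : QuasiCompact f ∨ IsOpenMap f) (hY : Pi1.IsNormalScheme Y)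
    (hfib : ∀ y : ↥Y, ringKrullDim ↑(Y.presheaf.stalk y) = 1 → ∀ z z' : ↥(f.fiber y),
      IsAssociatedPrime (IsLocalRing.maximalIdeal ↑((f.fiber y).presheaf.stalk z)) ↑((f.fiber y).presheaf.stalk z) →
      IsAssociatedPrime (IsLocalRing.maximalIdeal ↑((f.fiber y).presheaf.stalk z')) ↑((f.fiber y).presheaf.stalk z') →
      z' ⤳ z → z' = z)
    (𝓙 : X.IdealSheafData) (hJ : BlowUp.IsEffCartierIdeal 𝓙) :
    (∃ 𝓘 : Y.IdealSheafData, BlowUp.IsEffCartierIdeal 𝓘 ∧ 𝓘.comap f = 𝓙) ↔
      ((∀ η : ↥Y, (∀ z : ↥Y, z ⤳ η → z = η) → 𝓙.comap (f.fiberι η) = ⊤) ∧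
        ∀ y : ↥Y, ringKrullDim ↑(Y.presheaf.stalk y) = 1 → ∃ n : ℕ, ∀ t : ↑(Y.presheaf.stalk y),
          IsLocalRing.maximalIdeal ↑(Y.presheaf.stalk y) = Ideal.span {t} →
          ∀ (x : ↥X) (hx : f x = y), (∀ z : ↥X, f z = y → z ⤳ x → z = x) →
            (𝓙.comap (X.fromSpecStalk x)).ideal ⟨⊤, isAffineOpen_top _⟩ =
              Ideal.span {(Scheme.ΓSpecIso (X.presheaf.stalk x)).inv
                (((f.stalkMap x).hom ((Y.presheaf.stalkCongr (.of_eq hx.symm)).hom t)) ^ n)}) := by
  constructor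
  · rintro ⟨I, hI, rfl⟩
    refine ⟨fun η hη => ?_, fun y hy => ?_⟩
    · rw [← Scheme.IdealSheafData.comap_comp]
      refine comap_eq_top_of_disjoint _ fun a ha => ?_
      have h : f (f.fiberι η a) = η := by
        have : f.fiberι η a ∈ f ⁻¹' {η} := by rw [← f.range_fiberι η]; exact ⟨a, rfl⟩
        exact this
      rw [Scheme.Hom.comp_apply, h] at ha
      exact not_maximalPoint_of_mem_support hI ha hη
    · haveI := (hY y).1
      haveI := (hY y).2
      have hnf : ¬ IsField (Y.presheaf.stalk y) := fun hF => by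
        rw [ringKrullDim_eq_zero_of_isField hF] at hy
        exact zero_ne_one hy
      haveI : Ring.KrullDimLE 1 (Y.presheaf.stalk y) := Ring.krullDimLE_iff.mpr hy.le
      haveI : IsDiscreteValuationRing (Y.presheaf.stalk y) :=
        (((IsDiscreteValuationRing.TFAE (Y.presheaf.stalk y) hnf).out 0 3 :
          IsDiscreteValuationRing (Y.presheaf.stalk y) ↔ IsIntegrallyClosed (Y.presheaf.stalk y) ∧
            ∃! P : Ideal (Y.presheaf.stalk y), P ≠ ⊥ ∧ P.IsPrime)).mpr
          ⟨inferInstance, Groth.Agent.Lib.CDivInt.isDVR_of_coheight_eq_one.exists_unique_prime hnf⟩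
      obtain ⟨π, hirr⟩ := IsDiscreteValuationRing.exists_irreducible (Y.presheaf.stalk y)
      obtain ⟨a, ha, hIa⟩ := stalkIdeal_eq_span hI y
      obtain ⟨n, u, rfl⟩ :=
        IsDiscreteValuationRing.eq_unit_mul_pow_irreducible (nonZeroDivisors.ne_zero ha) hirr
      refine ⟨n, fun t ht x hx _ => (ideal_top_eq_iff _ x _).mpr ?_⟩
      subst hx
      rw [stalkIdeal_comap, hIa, Ideal.span_singleton_mul_left_unit u.isUnit,
        ← Ideal.span_singleton_pow, ← hirr.maximalIdeal_eq, ht, Ideal.map_pow, span_eq_map_span,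
        Ideal.span_singleton_pow]
      congr 3
      show f.stalkMap x t = f.stalkMap x _
      simp
  · rintro ⟨h1, h2⟩
    exact exists_descent f hf 𝓙 hJ fun z hz => comesFrom f hY hfib 𝓙 hJ h1 h2 z hz


end Groth.Agent.S5100
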