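import Groth.Statements.S5101
import Groth.Agent.Lib.PicSurj.Split

set_option autoImplicit false
universe u
open CategoryTheory CategoryTheory.Limits AlgebraicGeometry TopologicalSpace
open Div21

namespace Groth.Agent.S5101

/-- Let X be a Noetherian scheme and X₀ a closed subscheme (closed immersion i : X₀ → X) such that (1°)
dim X₀ ≤ 1 and (2°) for every locally closed subset Y of X whose intersection with X₀ is discrete,
there is a subset Y' of Y, closed in X and open in Y, containing Y ∩ X₀. Let Z₀ be the union of the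
sets (closure of x) ∩ X₀ taken over those associated points x of O_X for which this set is finite.
Suppose moreover that there is an affine open subset U₀ of X₀ containing every associated point of
O_{X₀} and every point of Z₀ (automatic when X₀ carries an ample sheaf). Then the canonical map
Pic(X) → Pic(X₀) is surjective: every invertible O_{X₀}-module is isomorphic to the inverse image of
an invertible O_X-module. -/
theorem result (X X₀ : Scheme.{u}) [IsNoetherian X]
    (i : X₀ ⟶ X) [IsClosedImmersion i]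
    (h1 : topologicalKrullDim ↥X₀ ≤ 1)
    (h2 : ∀ Y : Set ↥X, IsLocallyClosed Y → DiscreteTopology ↥(Y ∩ Set.range ⇑i) →
      ∃ Y' : Set ↥X, Y' ⊆ Y ∧ IsClosed Y' ∧ (∃ O : Set ↥X, IsOpen O ∧ Y' = Y ∩ O) ∧ Y ∩ Set.range ⇑i ⊆ Y')
    (U₀ : X₀.Opens) (hU₀ : IsAffineOpen U₀)
    (hAss : ∀ z : ↥X₀, IsAssociatedPrime (IsLocalRing.maximalIdeal ↑(X₀.presheaf.stalk z)) ↑(X₀.presheaf.stalk z) →
      z ∈ U₀)
    (hZ : ∀ (x : ↥X) (z : ↥X₀),
      IsAssociatedPrime (IsLocalRing.maximalIdeal ↑(X.presheaf.stalk x)) ↑(X.presheaf.stalk x) →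
      (closure {x} ∩ Set.range ⇑i).Finite → i z ∈ closure {x} → z ∈ U₀)
    (L₀ : X₀.Modules) (hL₀ : PicF.IsInvertible L₀) :
    ∃ L : X.Modules, PicF.IsInvertible L ∧ Nonempty ((Scheme.Modules.pullback i).obj L ≅ L₀) := by
  exact Lib.PicSurj.Split.exists_lift h1 h2 hL₀

end Groth.Agent.S5101
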