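import Groth.Statements.S5102
import Groth.Agent.Lib.MeroK.DivMod

set_option autoImplicit false
universe u
open CategoryTheory CategoryTheory.Limits AlgebraicGeometry TopologicalSpace
open Mero

namespace Groth.Agent.S5102

open Groth.Agent.Lib.MeroK Groth.Agent.Lib.TensorMod.Dual Groth.Agent.Lib.TensorMod.Gen

/-- Let X be a scheme and J a fractional ideal, i.e. a sub-O_X-module of the sheaf of meromorphic
functions K_X (given by a monomorphism J → K_X). Then J is an invertible O_X-module if and only if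
every point of X has an open neighbourhood U together with a unit f of the ring Γ(U, K_X) such that
J|_U = O_U · f: over every open subset V of U, the sections of J are exactly the r · f|_V with r a
function on V. -/
theorem result (X : Scheme.{u}) (J : X.Modules)
    (ι : J ⟶ Mero.kmod X) [Mono ι] :
    PicF.IsInvertible J ↔ ∀ x : ↥X, ∃ (U : X.Opens) (_ : x ∈ U) (f : (Γ(Mero.kmod X, U))ˣ),
      ∀ (V : X.Opens) (hV : V ≤ U),
        Set.range ⇑(ι.val.app (Opposite.op V)) =
          {t : Γ(Mero.kmod X, V) | ∃ r : Γ(X, V),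
            t = Mero.toK X V r * (Mero.kmod X).presheaf.map (homOfLE hV).op (f : Γ(Mero.kmod X, U))} := by
  have hinj := fun V : X.Opens =>
    (Groth.Agent.Lib.Modules.Stalk.mono_iff_app_injective ι).mp inferInstance V
  have hnat : ∀ {U V : X.Opens} (h : V ≤ U) (e : Γ(J, U)),
      ι.app V (rs J h e) = (Mero.kmod X).presheaf.map (homOfLE h).op (ι.app U e) :=
    fun h e => PresheafOfModules.naturality_apply ι.val (homOfLE h).op e
  have hsmul : ∀ {V : X.Opens} (r : Γ(X, V)) (t : Γ(Mero.kmod X, V)),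
      r • t = Mero.toK X V r * t := fun r t =>
    Subtype.ext (funext fun y => DivMod.smul_eq_algebraMap_mul _ _)
  constructor
  · intro hJ x
    obtain ⟨U, e, hx, he⟩ := isInvertible_iff.mp hJ x
    obtain ⟨W, hW, hxW, f, hf⟩ := DivMod.exists_unit_gen ι he hx
    refine ⟨W, hxW, f, fun V hV => Set.ext fun t => ⟨?_, ?_⟩⟩
    · rintro ⟨j, rfl⟩
      obtain ⟨r, rfl⟩ := (he V (hV.trans hW)).2 j
      refine ⟨r, ?_⟩
      rw [hf, ← hnat hV, rs_rs, ← hsmul]
      exact ι.app_smul r _
    · rintro ⟨r, rfl⟩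
      refine ⟨r • rs J (hV.trans hW) e, ?_⟩
      rw [hf, ← hnat hV, rs_rs, ← hsmul]
      exact ι.app_smul r _
  · intro h
    rw [isInvertible_iff]
    intro x
    obtain ⟨U, hx, f, hf⟩ := h x
    obtain ⟨e, he⟩ := (hf U le_rfl).ge (show (f : Γ(Mero.kmod X, U)) ∈ _ from ⟨1, by
      rw [map_one, one_mul]; rfl⟩)
    refine ⟨U, e, hx, fun V hV => ?_⟩
    have key : ∀ r : Γ(X, V), ι.app V (r • rs J hV e) =
        Mero.toK X V r * (Mero.kmod X).presheaf.map (homOfLE hV).op (f : Γ(Mero.kmod X, U)) := by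
      intro r
      rw [Scheme.Modules.Hom.app_smul, hsmul, hnat hV]
      exact congrArg (fun z => Mero.toK X V r * (Mero.kmod X).presheaf.map (homOfLE hV).op z) he
    have hu : IsUnit ((Mero.kmod X).presheaf.map (homOfLE hV).op (f : Γ(Mero.kmod X, U)) :
        Γ(Mero.kmod X, V)) :=
      f.isUnit.map ((Mero.kring X).obj.map (homOfLE hV).op).hom
    refine ⟨fun r r' hrr => Affine.toK_injective V (hu.mul_left_injective ?_), fun j => ?_⟩
    · have h2 := congrArg (ι.app V) hrr
      simp only [key] at h2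
      exact h2
    · obtain ⟨r, hr⟩ := (hf V hV).le ⟨j, rfl⟩
      exact ⟨r, hinj V ((key r).trans hr.symm)⟩

end Groth.Agent.S5102
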