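import Groth.Statements.S5104
import Groth.Agent.H26.SectionExtend
import Mathlib.AlgebraicGeometry.SpreadingOut


set_option autoImplicit false
universe u
open CategoryTheory CategoryTheory.Limits AlgebraicGeometry TopologicalSpace
open Rat20

namespace Groth.Agent.S5104

/-- Around `x`, all irreducible components pass through `x`. -/
theorem exists_nhd_components {X : Scheme.{u}} (x : X)
    (hX : ∃ W : X.Opens, x ∈ W ∧
      {Z : Set ↥X | Z ∈ irreducibleComponents ↥X ∧ (Z ∩ (W : Set ↥X)).Nonempty}.Finite) :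
    ∃ W : X.Opens, x ∈ W ∧ ∀ y ∈ W, ∃ η : X, η ⤳ y ∧ η ⤳ x := by
  obtain ⟨W, hxW, hfin⟩ := hX
  let B : Set (Set X) :=
    {Z | Z ∈ irreducibleComponents X ∧ (Z ∩ (W : Set X)).Nonempty ∧ x ∉ Z}
  have hB : IsClosed (⋃₀ B) := by
    rw [Set.sUnion_eq_biUnion]
    exact (hfin.subset fun Z hZ => ⟨hZ.1, hZ.2.1⟩).isClosed_biUnion
      fun Z hZ => isClosed_of_mem_irreducibleComponents Z hZ.1
  refine ⟨W ⊓ ⟨(⋃₀ B)ᶜ, hB.isOpen_compl⟩, ⟨hxW, fun ⟨Z, hZ, hxZ⟩ => hZ.2.2 hxZ⟩, fun y hy => ?_⟩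
  obtain ⟨η, hη⟩ := QuasiSober.sober (isIrreducible_irreducibleComponent (x := y))
    isClosed_irreducibleComponent
  refine ⟨η, hη.specializes mem_irreducibleComponent, hη.specializes ?_⟩
  by_contra hx
  exact hy.2 ⟨irreducibleComponent y, ⟨irreducibleComponent_mem_irreducibleComponents y,
    ⟨y, mem_irreducibleComponent, hy.1⟩, hx⟩, mem_irreducibleComponent⟩

theorem isGermInjectiveAt_of_components {X : Scheme.{u}} [IsReduced X] (x : X) (W : X.Opens)
    (hxW : x ∈ W) (hW : ∀ y ∈ W, ∃ η : X, η ⤳ y ∧ η ⤳ x) : X.IsGermInjectiveAt x := by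
  obtain ⟨_, ⟨A, hA, rfl⟩, hxA, hAW⟩ := X.isBasis_affineOpens.exists_subset_of_mem_open
    hxW W.2
  refine ⟨⟨A, hxA, hA, (injective_iff_map_eq_zero _).mpr fun s hs => ?_⟩⟩
  rw [← basicOpen_eq_bot_iff]
  by_contra hne
  obtain ⟨y, hy⟩ : ((X.basicOpen s : X.Opens) : Set X).Nonempty :=
    Set.nonempty_iff_ne_empty.mpr fun h => hne (Opens.ext h)
  obtain ⟨η, hηy, hηx⟩ := hW y (hAW (X.basicOpen_le s hy))
  have hηs : η ∈ X.basicOpen s := hηy.mem_open (X.basicOpen s).2 hy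
  have hηA : η ∈ A := X.basicOpen_le s hηs
  have hu := (X.mem_basicOpen s η hηA).mp hηs
  have : X.presheaf.germ A η hηA s = 0 := by
    rw [← X.presheaf.germ_stalkSpecializes_apply hxA hηx s]
    exact (congrArg _ hs).trans (map_zero _)
  rw [this] at hu
  exact not_isUnit_zero hu

theorem eq_at_generization {X Y : Scheme.{u}} (U V0 : X.Opens) (x : X) (hxV : x ∈ V0)
    (h : (U : Scheme.{u}) ⟶ Y) (v0 : (V0 : Scheme.{u}) ⟶ Y)
    (w : Spec (X.presheaf.stalk x) ⟶ Y)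
    (hw : w = V0.fromSpecStalkOfMem x hxV ≫ v0)
    (hw' : pullback.fst (X.fromSpecStalk x) U.ι ≫ w = pullback.snd (X.fromSpecStalk x) U.ι ≫ h)
    {T : Scheme.{u}} {N : X.Opens} (hNU : N ≤ U) (hNV : N ≤ V0) (q : T ⟶ (N : Scheme.{u}))
    (r : T ⟶ Spec (X.presheaf.stalk x)) (hq : q ≫ N.ι = r ≫ X.fromSpecStalk x) :
    q ≫ X.homOfLE hNV ≫ v0 = q ≫ X.homOfLE hNU ≫ h := by
  let l : T ⟶ pullback (X.fromSpecStalk x) U.ι := pullback.lift r (q ≫ X.homOfLE hNU) (by
    rw [Category.assoc, Scheme.homOfLE_ι, hq])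
  have h1 : r ≫ V0.fromSpecStalkOfMem x hxV = q ≫ X.homOfLE hNV := by
    rw [← cancel_mono V0.ι, Category.assoc, Category.assoc, Scheme.Opens.fromSpecStalkOfMem_ι,
      Scheme.homOfLE_ι, hq]
  calc q ≫ X.homOfLE hNV ≫ v0 = r ≫ w := by rw [hw, reassoc_of% h1]
    _ = l ≫ pullback.fst _ _ ≫ w := by rw [pullback.lift_fst_assoc]
    _ = l ≫ pullback.snd _ _ ≫ h := by rw [hw']
    _ = q ≫ X.homOfLE hNU ≫ h := by rw [pullback.lift_snd_assoc, Category.assoc]

theorem eq_on_stalk {X Y : Scheme.{u}} (U V0 : X.Opens) (x : X) (hxV : x ∈ V0)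
    (h : (U : Scheme.{u}) ⟶ Y) (v0 : (V0 : Scheme.{u}) ⟶ Y)
    (w : Spec (X.presheaf.stalk x) ⟶ Y)
    (hw : w = V0.fromSpecStalkOfMem x hxV ≫ v0)
    (hw' : pullback.fst (X.fromSpecStalk x) U.ι ≫ w = pullback.snd (X.fromSpecStalk x) U.ι ≫ h)
    {N : X.Opens} (hNU : N ≤ U) (hNV : N ≤ V0) (m : (N : Scheme.{u})) (hm : m.1 ⤳ x) :
    (N : Scheme.{u}).fromSpecStalk m ≫ X.homOfLE hNV ≫ v0 =
      (N : Scheme.{u}).fromSpecStalk m ≫ X.homOfLE hNU ≫ h :=
  eq_at_generization U V0 x hxV h v0 w hw hw' hNU hNV _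
    (Spec.map (N.ι.stalkMap m) ≫ Spec.map (X.presheaf.stalkSpecializes hm)) (by
      rw [Category.assoc, ← Scheme.SpecMap_stalkMap_fromSpecStalk]
      congr 1
      exact (Scheme.SpecMap_stalkSpecializes_fromSpecStalk hm).symm)

/-- Let X be an S-scheme which is locally Noetherian, or reduced with locally finite set of irreducible
components; let Y be separated and locally of finite presentation over S, U a schematically dense
open subset of X, h : U → Y an S-morphism (a pseudo-S-morphism ω of X into Y) and x a point of X.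
Then ω is defined at x — some S-morphism from an open neighbourhood V of x to Y agrees with h on U ∩
V — if and only if the restriction of ω to Spec O_{X,x} is everywhere defined — some S-morphism Spec
O_{X,x} → Y agrees with h after pulling back to Spec O_{X,x} ×_X U. (The published statement does
not assume Y separated over S and compares morphisms only on some schematically dense open; this row
assumes Y separated over S, where the two readings agree.) -/
theorem result {X Y S : Scheme.{u}} (pX : X ⟶ S) (pY : Y ⟶ S)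
    [IsSeparated pY] [LocallyOfFinitePresentation pY]
    (hX : IsLocallyNoetherian X ∨ (IsReduced X ∧ ∀ x : ↥X, ∃ W : X.Opens, x ∈ W ∧
      {Z : Set ↥X | Z ∈ irreducibleComponents ↥X ∧ (Z ∩ (W : Set ↥X)).Nonempty}.Finite))
    (U : X.Opens) (hU : CInt.IsSchematicallyDense U) (h : (U : Scheme.{u}) ⟶ Y) (hh : h ≫ pY = U.ι ≫ pX)
    (x : ↥X) :
    (∃ (V : X.Opens) (v : (V : Scheme.{u}) ⟶ Y), x ∈ V ∧ v ≫ pY = V.ι ≫ pX ∧
        X.homOfLE (inf_le_right : U ⊓ V ≤ V) ≫ v = X.homOfLE (inf_le_left : U ⊓ V ≤ U) ≫ h) ↔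
      ∃ w : Spec (X.presheaf.stalk x) ⟶ Y, w ≫ pY = X.fromSpecStalk x ≫ pX ∧
        pullback.fst (X.fromSpecStalk x) U.ι ≫ w = pullback.snd (X.fromSpecStalk x) U.ι ≫ h := by
  constructor
  · rintro ⟨V, v, hxV, hv, heq⟩
    refine ⟨V.fromSpecStalkOfMem x hxV ≫ v, ?_, ?_⟩
    · rw [Category.assoc, hv, Scheme.Opens.fromSpecStalkOfMem_ι_assoc]
    · have hc : pullback.fst (X.fromSpecStalk x) U.ι ≫ V.fromSpecStalkOfMem x hxV ≫ V.ι =
          pullback.snd (X.fromSpecStalk x) U.ι ≫ U.ι := by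
        rw [Scheme.Opens.fromSpecStalkOfMem_ι, pullback.condition]
      let l := IsOpenImmersion.lift (U ⊓ V).ι (pullback.snd (X.fromSpecStalk x) U.ι ≫ U.ι) (by
        rw [Scheme.Opens.range_ι]
        rintro _ ⟨z, rfl⟩
        refine ⟨?_, ?_⟩
        · rw [Scheme.Hom.comp_apply]; exact (pullback.snd (X.fromSpecStalk x) U.ι z).2
        · rw [← hc]
          exact ((pullback.fst (X.fromSpecStalk x) U.ι ≫ V.fromSpecStalkOfMem x hxV) z).2)
      have hl : l ≫ (U ⊓ V).ι = _ := IsOpenImmersion.lift_fac _ _ _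
      have h1 : pullback.fst (X.fromSpecStalk x) U.ι ≫ V.fromSpecStalkOfMem x hxV =
          l ≫ X.homOfLE inf_le_right := by
        rw [← cancel_mono V.ι, Category.assoc, Category.assoc, Scheme.homOfLE_ι, hl, hc]
      have h2 : pullback.snd (X.fromSpecStalk x) U.ι = l ≫ X.homOfLE inf_le_left := by
        rw [← cancel_mono U.ι, Category.assoc, Scheme.homOfLE_ι, hl]
      rw [reassoc_of% h1, h2, Category.assoc, heq]
  · rintro ⟨w, hw, hw'⟩
    rcases hX with hN | ⟨hR, hfin⟩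
    · obtain ⟨V0, hxV0, v0, hv0, hv0'⟩ := spread_out_of_isGermInjective' pX pY w hw
      let M : X.Opens := U ⊓ V0
      have : IsLocallyNoetherian ((U ⊓ V0 : X.Opens) : Scheme.{u}) := isLocallyNoetherian_of_isOpenImmersion M.ι
      let good : Set X.Opens := {Q | ∃ hQ : Q ≤ M,
        X.homOfLE (hQ.trans inf_le_right) ≫ v0 = X.homOfLE (hQ.trans inf_le_left) ≫ h}
      let O : Set X := {m | ∃ Q ∈ good, m ∈ Q}
      have hO : IsOpen O := isOpen_iff_forall_mem_open.mpr fun m ⟨Q, hQ, hm⟩ =>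
        ⟨Q, fun z hz => ⟨Q, hQ, hz⟩, Q.2, hm⟩
      obtain ⟨V1, hxV1, hV1⟩ := Groth.Agent.H26.SectionExtend.exists_nhd_subset M O hO x
        fun m hm hmx => by
          have hg : (M : Scheme.{u}).IsGermInjective := inferInstance
          have := hg ⟨m, hm⟩
          obtain ⟨Q, hmQ, hQ⟩ := spread_out_unique_of_isGermInjective'
            (X.homOfLE (inf_le_right : M ≤ V0) ≫ v0) (X.homOfLE (inf_le_left : M ≤ U) ≫ h)
            (eq_on_stalk U V0 x hxV0 h v0 w hv0 hw' inf_le_left inf_le_right ⟨m, hm⟩ hmx)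
          refine ⟨M.ι ''ᵁ Q, ⟨M.ι_image_le Q, ?_⟩, ⟨⟨m, hm⟩, hmQ, rfl⟩⟩
          rw [← cancel_epi (M.ι.isoImage Q).hom]
          have e : ∀ {W : X.Opens} (hW : M ≤ W), (M.ι.isoImage Q).hom ≫
              X.homOfLE ((M.ι_image_le Q).trans hW) = Q.ι ≫ X.homOfLE hW := by
            intro W hW
            rw [← cancel_mono W.ι, Category.assoc, Category.assoc, Scheme.homOfLE_ι,
              Scheme.homOfLE_ι, Scheme.Hom.isoImage_hom_ι]
          rw [reassoc_of% (e inf_le_right), reassoc_of% (e inf_le_left)]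
          exact hQ
      let N : X.Opens := U ⊓ (V0 ⊓ V1)
      refine ⟨V0 ⊓ V1, X.homOfLE inf_le_left ≫ v0, ⟨hxV0, hxV1⟩, ?_, ?_⟩
      · rw [Category.assoc, hv0', Scheme.homOfLE_ι_assoc]
      · rw [Scheme.homOfLE_homOfLE_assoc]
        have hcov : ∀ z : (N : Scheme.{u}), ∃ Q : X.Opens, Q ∈ good ∧ z.1 ∈ Q := fun z =>
          hV1 z.1 ⟨z.2.1, z.2.2.1⟩ z.2.2.2
        choose Q hQ hzQ using hcov
        refine Scheme.Cover.hom_ext ((N : Scheme.{u}).openCoverOfIsOpenCover (fun z => N.ι ⁻¹ᵁ Q z)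
          (top_le_iff.mp fun z _ => Opens.mem_iSup.mpr ⟨z, hzQ z⟩)) _ _ fun z => ?_
        change (N.ι ⁻¹ᵁ Q z).ι ≫ _ = (N.ι ⁻¹ᵁ Q z).ι ≫ _
        obtain ⟨hQM, hQe⟩ := hQ z
        let p : ((N.ι ⁻¹ᵁ Q z : (N : Scheme.{u}).Opens) : Scheme.{u}) ⟶ (Q z : Scheme.{u}) :=
          IsOpenImmersion.lift (Q z).ι ((N.ι ⁻¹ᵁ Q z).ι ≫ N.ι) (by
            rw [Scheme.Opens.range_ι]; rintro _ ⟨a, rfl⟩; exact a.2)
        have hp : p ≫ (Q z).ι = _ := IsOpenImmersion.lift_fac _ _ _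
        have e : ∀ {W : X.Opens} (h1 : N ≤ W) (h2 : Q z ≤ W),
            (N.ι ⁻¹ᵁ Q z).ι ≫ X.homOfLE h1 = p ≫ X.homOfLE h2 := by
          intro W h1 h2
          rw [← cancel_mono W.ι, Category.assoc, Category.assoc, Scheme.homOfLE_ι,
            Scheme.homOfLE_ι, hp]
        rw [reassoc_of% (e (inf_le_right.trans inf_le_left) (hQM.trans inf_le_right)),
          reassoc_of% (e inf_le_left (hQM.trans inf_le_left)), hQe]
    · obtain ⟨W, hxW, hW⟩ := exists_nhd_components x (hfin x)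
      have := isGermInjectiveAt_of_components x W hxW hW
      obtain ⟨V0, hxV0, v0, hv0, hv0'⟩ := spread_out_of_isGermInjective' pX pY w hw
      refine ⟨V0 ⊓ W, X.homOfLE inf_le_left ≫ v0, ⟨hxV0, hxW⟩, ?_, ?_⟩
      · rw [Category.assoc, hv0', Scheme.homOfLE_ι_assoc]
      · rw [Scheme.homOfLE_homOfLE_assoc]
        refine ext_of_fromSpecResidueField_eq _ _ pY
          {m : ((U ⊓ (V0 ⊓ W) : X.Opens) : Scheme.{u}) | m.1 ⤳ x} ?_ ?_ ?_
        · intro y
          obtain ⟨η, hηy, hηx⟩ := hW y.1 y.2.2.2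
          have hη : η ∈ U ⊓ (V0 ⊓ W) := hηy.mem_open (U ⊓ (V0 ⊓ W)).2 y.2
          exact ((subtype_specializes_iff (⟨η, hη⟩ :
            {z // z ∈ U ⊓ (V0 ⊓ W)}) y).mpr hηy).mem_closed isClosed_closure
              (subset_closure hηx)
        · intro m hm
          simp only [Scheme.fromSpecResidueField, Category.assoc]
          rw [eq_on_stalk U V0 x hxV0 h v0 w hv0 hw' inf_le_left
            (inf_le_right.trans inf_le_left) m hm]
        · simp only [Category.assoc, hh, hv0', Scheme.homOfLE_ι_assoc]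

end Groth.Agent.S5104
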