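import Groth.Statements.S5107
import Groth.Agent.H52.DenseStage
import Groth.Agent.S1699
import Groth.Agent.S1576
import Groth.Agent.Lib.Snapper.Twist

set_option autoImplicit false
universe u
open CategoryTheory CategoryTheory.Limits AlgebraicGeometry TopologicalSpace
open Lim8

namespace Groth.Agent.S5107

/-- Let (X_i) be a cofiltered system of Noetherian schemes with affine and flat transition morphisms, X
its limit, assumed Noetherian as well, and U₀ an open subset of X_{i₀}, with inverse images U_i in
X_i (for i over i₀) and U in X. Then U is schematically dense in X if and only if there is an index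
i over i₀ such that U_i is schematically dense in X_i (and then, the transition morphisms being
flat, U_j is schematically dense in X_j for every j over i). -/
theorem result {I : Type u} [SmallCategory I]
    [IsCofiltered I] (D : I ⥤ Scheme.{u}) (c : Limits.Cone D) (hc : Limits.IsLimit c)
    [∀ (i j : I) (g : i ⟶ j), IsAffineHom (D.map g)] [∀ (i j : I) (g : i ⟶ j), Flat (D.map g)]
    [∀ i : I, IsNoetherian (D.obj i)] [IsNoetherian c.pt] (i₀ : I) (U₀ : (D.obj i₀).Opens) :
    CInt.IsSchematicallyDense ((c.π.app i₀) ⁻¹ᵁ U₀) ↔
      ∃ (i : I) (g : i ⟶ i₀), CInt.IsSchematicallyDense ((D.map g) ⁻¹ᵁ U₀) := by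
  have h1 : ∀ (U : c.pt.Opens), CInt.IsSchematicallyDense U ↔ _ := Groth.Agent.S1699.result c.pt
  refine (h1 _).trans (Iff.trans ?_ (exists_congr fun i => exists_congr fun g =>
    (Groth.Agent.S1699.result (D.obj i) _).symm))
  refine Groth.Agent.H52.DenseStage.assoc_iff D c hc i₀ U₀ ?_
  refine (Groth.Agent.S1576.result (D.obj i₀) (Coh.structureModule (D.obj i₀))
    (Groth.Agent.Lib.Snapper.Twist.isCoh_structureModule _) ⊤ isCompact_univ).subset fun z hz => ?_
  exact ⟨trivial, (Groth.Agent.Lib.AssPt.Basic.isAssPoint_structure_iff z).2 hz⟩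

end Groth.Agent.S5107
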