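import Groth.Statements.S5108
import Groth.Agent.H68.PunctWSetup

set_option autoImplicit false
universe u
open CategoryTheory CategoryTheory.Limits AlgebraicGeometry TopologicalSpace
open Pur21

namespace Groth.Agent.S5108

/-- Let X and Y be locally Noetherian schemes, g : X → Y a morphism, y a closed point of Y and Y' = Y −
{y}; suppose that the restriction g⁻¹(Y') → Y' of g is an open immersion and that the local ring
O_{Y,y} satisfies condition (W): every open subset U of the punctured spectrum of O_{Y,y} which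
contains no irreducible component of the punctured spectrum and whose inclusion into the punctured
spectrum is an affine morphism is itself affine. Then for every irreducible component Z of the fibre
g⁻¹(y), with generic point z (a point over y with no proper generization over y), either Z has
codimension ≤ 1 in X (dim O_{X,z} ≤ 1) or z is isolated in Z (some open neighbourhood of z contains
no other point of Z). The morphism g is not assumed locally of finite type. (The published statement
adds that, when the component is locally of finite type over the residue field of y, the second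
alternative forces it to be a single point; this row omits that clause.) -/
theorem result {X Y : Scheme.{u}}
    [IsLocallyNoetherian X] [IsLocallyNoetherian Y] (g : X ⟶ Y) (y : ↥Y) (Y' : Y.Opens)
    (hY' : (Y' : Set ↥Y) = {y}ᶜ) [IsOpenImmersion (g ∣_ Y')]
    (hW : (∀ U : (Spec (Y.presheaf.stalk y)).Opens, ∀ hU : U ≤ FEt.puncturedSpec ↑(Y.presheaf.stalk y),
        (∀ T ∈ irreducibleComponents ↥(FEt.puncturedSpec ↑(Y.presheaf.stalk y)), ¬ Subtype.val '' T ⊆ (U : Set _)) →
        IsAffineHom ((Spec (Y.presheaf.stalk y)).homOfLE hU) → IsAffineOpen U))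
    (z : ↥X) (hz : g z = y) (hmax : ∀ z' : ↥X, g z' = y → z' ⤳ z → z' = z) :
    ringKrullDim ↑(X.presheaf.stalk z) ≤ 1 ∨
      ∃ O : X.Opens, z ∈ O ∧ ∀ z' : ↥X, z' ∈ O → g z' = y → z ⤳ z' → z' = z := by
  obtain ⟨_, ⟨(V : Y.Opens), hV, rfl⟩, hyV, -⟩ := Y.isBasis_affineOpens.exists_subset_of_mem_open
    (Set.mem_univ y) isOpen_univ
  obtain ⟨_, ⟨(O : X.Opens), hO, rfl⟩, hzO, hOV⟩ := X.isBasis_affineOpens.exists_subset_of_mem_open
    (show z ∈ g ⁻¹ᵁ V by show g z ∈ V; rw [hz]; exact hyV) (g ⁻¹ᵁ V).2
  obtain ⟨B, hB, φ, p, hpb⟩ := H68.PunctW.exists_setup g y hV hyV hO hOV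
  haveI := hB
  let P' : (Spec B).Opens := Spec.map φ ⁻¹ᵁ FEt.puncturedSpec ↑(Y.presheaf.stalk y)
  haveI : IsOpenImmersion (P'.ι ≫ Spec.map φ) := by
    let gO := O.ι ≫ g
    have hj : ∀ q : ↥(Spec (Y.presheaf.stalk y)), q ∈ FEt.puncturedSpec ↑(Y.presheaf.stalk y) ↔
        Y.fromSpecStalk y q ∈ Y' := fun q => by
      show q ≠ IsLocalRing.closedPoint (Y.presheaf.stalk y) ↔ Y.fromSpecStalk y q ∈ (Y' : Set ↥Y)
      rw [hY']
      refine not_congr ⟨fun e => by rw [e]; exact Scheme.fromSpecStalk_closedPoint, fun e => ?_⟩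
      exact (Y.fromSpecStalk y).isEmbedding.injective (e.trans Scheme.fromSpecStalk_closedPoint.symm)
    let l : (FEt.puncturedSpec ↑(Y.presheaf.stalk y)).toScheme ⟶ Y'.toScheme :=
      (Y.fromSpecStalk y).resLE Y' _ (fun q hq => (hj q).1 hq)
    have h1 := (isPullback_morphismRestrict (Spec.map φ) (FEt.puncturedSpec ↑(Y.presheaf.stalk y))).flip.paste_horiz hpb
    rw [← Scheme.Hom.resLE_comp_ι (Y.fromSpecStalk y) (fun q hq => (hj q).1 hq)] at h1
    let m : P'.toScheme ⟶ (gO ⁻¹ᵁ Y').toScheme :=
      (isPullback_morphismRestrict gO Y').lift (Spec.map φ ∣_ FEt.puncturedSpec ↑(Y.presheaf.stalk y) ≫ l)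
        (P'.ι ≫ p) (by rw [Category.assoc]; exact h1.flip.w.trans (Category.assoc _ _ _).symm)
    haveI : IsOpenImmersion (gO ∣_ Y') := by
      rw [morphismRestrict_comp]
      exact MorphismProperty.comp_mem @IsOpenImmersion _ _
        (MorphismProperty.of_isPullback (isPullback_morphismRestrict O.ι _).flip inferInstance) inferInstance
    haveI : IsOpenImmersion (Spec.map φ ∣_ FEt.puncturedSpec ↑(Y.presheaf.stalk y)) := by
      have h2 : IsPullback m (Spec.map φ ∣_ FEt.puncturedSpec ↑(Y.presheaf.stalk y)) (gO ∣_ Y') l :=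
        IsPullback.of_right (by rw [IsPullback.lift_snd]; exact h1) (by rw [IsPullback.lift_fst]) (isPullback_morphismRestrict gO Y').flip
      exact MorphismProperty.of_isPullback h2 inferInstance
    rw [← morphismRestrict_ι]
    infer_instance
  rcases H68.PunctW.dim_le_one_or_isolated hpb hW z hzO hz hmax with h | ⟨O', h1, h2⟩
  · exact Or.inl h
  · exact Or.inr ⟨O', h1, fun z' h3 h4 _ => h2 z' h3 h4⟩

end Groth.Agent.S5108
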