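import Groth.Statements.S5109
import Groth.Agent.H68.PunctWSetup

set_option autoImplicit false
universe u
open CategoryTheory CategoryTheory.Limits AlgebraicGeometry TopologicalSpace
open Pur21

namespace Groth.Agent.S5109

/-- Let X and Y be locally Noetherian schemes with X irreducible, g : X → Y a morphism locally of finite
type, and V the largest open subset of X on which g is a local isomorphism. Suppose that for every
point y of Y the local ring O_{Y,y} satisfies the following condition (W): every open subset of its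
punctured spectrum which contains no irreducible component of the punctured spectrum and whose
inclusion is affine is itself affine. Then every irreducible component of T = X − V either has
codimension ≤ 1 in X or has its generic point z isolated in the fibre g⁻¹(g(z)): for every point z
with no open neighbourhood on which g is a local isomorphism, and maximal with this property under
generization, either dim O_{X,z} ≤ 1 or some open neighbourhood of z meets the fibre through z only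
in z. -/
theorem result {X Y : Scheme.{u}}
    [IsLocallyNoetherian X] [IsLocallyNoetherian Y] [IrreducibleSpace ↥X] (g : X ⟶ Y) [LocallyOfFiniteType g]
    (hW : ∀ y : ↥Y, (∀ U : (Spec (Y.presheaf.stalk y)).Opens, ∀ hU : U ≤ FEt.puncturedSpec ↑(Y.presheaf.stalk y),
        (∀ T ∈ irreducibleComponents ↥(FEt.puncturedSpec ↑(Y.presheaf.stalk y)), ¬ Subtype.val '' T ⊆ (U : Set _)) →
        IsAffineHom ((Spec (Y.presheaf.stalk y)).homOfLE hU) → IsAffineOpen U))
    (z : ↥X) (hz : ¬ ∃ W : X.Opens, z ∈ W ∧ IsLocalIso (W.ι ≫ g))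
    (hmax : ∀ z' : ↥X, (¬ ∃ W : X.Opens, z' ∈ W ∧ IsLocalIso (W.ι ≫ g)) → z' ⤳ z → z' = z) :
    ringKrullDim ↑(X.presheaf.stalk z) ≤ 1 ∨
      ∃ O : X.Opens, z ∈ O ∧ ∀ z' : ↥X, z' ∈ O → g z' = g z → z' = z := by
  let G : X.Opens := ⟨{x | ∃ W : X.Opens, x ∈ W ∧ IsLocalIso (W.ι ≫ g)}, isOpen_iff_forall_mem_open.2
    fun x ⟨W, h1, h2⟩ => ⟨W, fun x' hx' => ⟨W, hx', h2⟩, W.2, h1⟩⟩
  haveI hG : IsLocalIso (G.ι ≫ g) := by
    refine ⟨fun x => ?_⟩
    obtain ⟨W, hxW, hW'⟩ := x.2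
    obtain ⟨U, hxU, hU⟩ := IsLocalIso.exists_isOpenImmersion (f := W.ι ≫ g) (⟨x.1, hxW⟩ : W.toScheme)
    have hWG : W ≤ G := fun x' hx' => ⟨W, hx', hW'⟩
    refine ⟨(X.homOfLE hWG) ''ᵁ U, ⟨⟨x.1, hxW⟩, hxU, Subtype.ext (Scheme.homOfLE_apply hWG _)⟩, ?_⟩
    have e : ((X.homOfLE hWG).isoImage U).hom ≫ ((X.homOfLE hWG) ''ᵁ U).ι ≫ G.ι ≫ g = U.ι ≫ W.ι ≫ g := by
      rw [Scheme.Hom.isoImage_hom_ι_assoc, Scheme.homOfLE_ι_assoc]
    rw [show ((X.homOfLE hWG) ''ᵁ U).ι ≫ G.ι ≫ g = ((X.homOfLE hWG).isoImage U).inv ≫ U.ι ≫ W.ι ≫ g by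
      rw [← e, Iso.inv_hom_id_assoc]]
    infer_instance
  obtain ⟨_, ⟨(V : Y.Opens), hV, rfl⟩, hyV, -⟩ := Y.isBasis_affineOpens.exists_subset_of_mem_open
    (Set.mem_univ (g z)) isOpen_univ
  obtain ⟨_, ⟨(O₀ : X.Opens), hO₀, rfl⟩, hzO₀, hO₀V⟩ := X.isBasis_affineOpens.exists_subset_of_mem_open
    (show z ∈ g ⁻¹ᵁ V from hyV) (g ⁻¹ᵁ V).2
  -- shrink so that every bad point specialises from `z`
  haveI : IsAffine O₀.toScheme := hO₀
  haveI : IsLocallyNoetherian O₀.toScheme := inferInstance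
  haveI : IsNoetherian O₀.toScheme := ⟨⟩
  obtain ⟨S, hSf, hSc, hSi, hS⟩ := NoetherianSpace.exists_finite_set_isClosed_irreducible
    ((G.2.preimage O₀.ι.continuous).isClosed_compl)
  let C : Set ↥O₀.toScheme := ⋃₀ {T ∈ S | (⟨z, hzO₀⟩ : ↥O₀.toScheme) ∉ T}
  have hC : IsClosed C := by
    rw [show C = ⋃ T ∈ {T ∈ S | (⟨z, hzO₀⟩ : ↥O₀.toScheme) ∉ T}, T from Set.sUnion_eq_biUnion]
    exact (hSf.subset fun T h => h.1).isClosed_biUnion fun T h => hSc T h.1
  obtain ⟨_, ⟨(O : X.Opens), hO, rfl⟩, hzO, hOsub⟩ := X.isBasis_affineOpens.exists_subset_of_mem_open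
    (show z ∈ O₀.ι ''ᵁ ⟨Cᶜ, hC.isOpen_compl⟩ from
      ⟨⟨z, hzO₀⟩, fun ⟨T, ⟨_, h1⟩, h2⟩ => h1 h2, rfl⟩) (O₀.ι ''ᵁ ⟨Cᶜ, hC.isOpen_compl⟩).2
  have hOV : O ≤ g ⁻¹ᵁ V := fun x hx => by
    obtain ⟨a, _, rfl⟩ := hOsub hx
    exact hO₀V a.2
  have hbad : ∀ x ∈ O, x ∉ G → z ⤳ x := by
    intro x hx hxG
    obtain ⟨a, haC, rfl⟩ := hOsub hx
    obtain ⟨T, hTS, haT⟩ := (hS ▸ (show a ∈ (O₀.ι ⁻¹' (G : Set ↥X))ᶜ from hxG) : a ∈ ⋃₀ S)
    have hzT : (⟨z, hzO₀⟩ : ↥O₀.toScheme) ∈ T := by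
      by_contra h
      exact haC ⟨T, ⟨hTS, h⟩, haT⟩
    have ht := (hSi T hTS).isGenericPoint_genericPoint_closure
    rw [(hSc T hTS).closure_eq] at ht
    have htz : O₀.ι (hSi T hTS).genericPoint = z := hmax _
      (fun h => (show (hSi T hTS).genericPoint ∈ (O₀.ι ⁻¹' (G : Set ↥X))ᶜ from
        hS ▸ ⟨T, hTS, ht.mem⟩) h)
      ((ht.specializes hzT).map O₀.ι.continuous)
    have := (ht.specializes haT).map O₀.ι.continuous
    rwa [htz] at this
  obtain ⟨B, hB, φ, p, hpb⟩ := H68.PunctW.exists_setup g (g z) hV hyV hO hOV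
  haveI := hB
  obtain ⟨hp1, hp2⟩ := H68.PunctW.preimmersion_flat hpb
  obtain ⟨zB, hzB⟩ := H68.PunctW.exists_preimage hpb z hzO specializes_rfl
  have hmem := H68.PunctW.mem_punctured_iff hpb
  -- the morphism is a local isomorphism over `G`
  let L : O.toScheme.Opens := O.ι ⁻¹ᵁ G
  have hli : IsLocalIso ((p ⁻¹ᵁ L).ι ≫ Spec.map φ) := by
    have h0 : IsLocalIso (L.ι ≫ O.ι ≫ g) := by
      rw [← Category.assoc, ← morphismRestrict_ι, Category.assoc]
      haveI : IsLocalIso (O.ι ∣_ G) := IsZariskiLocalAtSource.of_isOpenImmersion _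
      exact MorphismProperty.comp_mem @IsLocalIso _ _ ‹_› hG
    exact MorphismProperty.of_isPullback
      (((isPullback_morphismRestrict p L).flip.paste_horiz hpb.flip).flip) h0
  haveI : IsSeparated (Spec.map φ) := inferInstance
  have hq : ∀ q : ↥(Spec B), q ∈ p ⁻¹ᵁ L ↔ (p q).1 ∈ G := fun q => Iff.rfl
  -- irreducibility
  haveI : PreirreducibleSpace ↥(Spec B) := by
    have hη : genericPoint ↥X ⤳ z := genericPoint_specializes z
    obtain ⟨η, hη'⟩ := H68.PunctW.exists_preimage hpb (genericPoint ↥X) (hη.mem_open O.2 hzO)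
      (hη.map g.continuous)
    refine ⟨(show IsGenericPoint η (Set.univ : Set ↥(Spec B)) from ?_).isIrreducible.isPreirreducible⟩
    refine Set.eq_univ_of_forall fun q => specializes_iff_mem_closure.1 ?_
    refine (O.ι.isOpenEmbedding.isEmbedding.comp p.isEmbedding).isInducing.specializes_iff.1 ?_
    show (p η).1 ⤳ (p q).1
    rw [hη']
    exact genericPoint_specializes _
  have hmaxf : ∀ z' : ↥X, g z' = g z → z' ⤳ z → z' = z := by
    intro z' hz' hzz'
    by_cases hG' : z' ∈ G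
    · obtain ⟨q, rfl⟩ := H68.PunctW.exists_preimage hpb z' (hzz'.mem_open O.2 hzO)
        (hz' ▸ specializes_rfl)
      obtain ⟨U, hqU, hU⟩ := IsLocalIso.exists_isOpenImmersion (f := (p ⁻¹ᵁ L).ι ≫ Spec.map φ) (⟨q, hG'⟩ : (p ⁻¹ᵁ L).toScheme)
      let i := U.ι ≫ (p ⁻¹ᵁ L).ι
      haveI : IsOpenImmersion (i ≫ Spec.map φ) := by rwa [Category.assoc]
      have hcl : IsLocalRing.closedPoint (Y.presheaf.stalk (g z)) ∈ (i ≫ Spec.map φ).opensRange := by
        refine ⟨⟨⟨q, hG'⟩, hqU⟩, ?_⟩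
        by_contra h
        exact (hmem q).1 h hz'
      haveI : IsIso (i ≫ Spec.map φ) := by
        have htop : (i ≫ Spec.map φ).opensRange = ⊤ := eq_top_iff.2 fun s _ =>
          (IsLocalRing.specializes_closedPoint s).mem_open (i ≫ Spec.map φ).opensRange.2 hcl
        haveI : Epi (i ≫ Spec.map φ).base := (TopCat.epi_iff_surjective _).2 fun s =>
          (htop.ge (show s ∈ (⊤ : (Spec _).Opens) from trivial) :)
        exact IsOpenImmersion.isIso _
      haveI := IsClosedImmersion.of_comp i (Spec.map φ)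
      have hqz : (q : ↥(Spec B)) ⤳ zB := by
        refine (O.ι.isOpenEmbedding.isEmbedding.comp p.isEmbedding).isInducing.specializes_iff.1 ?_
        show (p q).1 ⤳ (p zB).1
        rw [hzB]
        exact hzz'
      obtain ⟨a, ha⟩ := hqz.mem_closed i.isClosedEmbedding.isClosed_range ⟨⟨⟨q, hG'⟩, hqU⟩, rfl⟩
      have : a = ⟨⟨q, hG'⟩, hqU⟩ := (i ≫ Spec.map φ).isOpenEmbedding.injective (by
        show Spec.map φ (i a) = Spec.map φ q
        rw [ha]
        have h1 : ∀ q' : ↥(Spec B), g (p q').1 = g z → Spec.map φ q' =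
            IsLocalRing.closedPoint (Y.presheaf.stalk (g z)) :=
          fun q' h => Classical.not_not.1 fun h' => (hmem q').1 h' h
        rw [h1 q hz', h1 zB (by rw [hzB])])
      rw [← hzB, ← ha, this]
      rfl
    · exact hmax z' hG' hzz'
  let P' : (Spec B).Opens := Spec.map φ ⁻¹ᵁ FEt.puncturedSpec ↑(Y.presheaf.stalk (g z))
  have hPL : P' ≤ p ⁻¹ᵁ L := by
    intro q hqP
    by_contra h
    have h1 : g z ⤳ g (p q).1 := (hbad _ (p q).2 h).map g.continuous
    have h2 : g (p q).1 ⤳ g z := by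
      rw [H68.PunctW.apply_eq hpb]
      exact (Set.ext_iff.1 (Scheme.range_fromSpecStalk (X := Y) (x := g z)) _).1 ⟨_, rfl⟩
    exact (hmem q).1 hqP (h2.antisymm h1).eq
  haveI : IsOpenImmersion (P'.ι ≫ Spec.map φ) := by
    haveI : PreirreducibleSpace ↥P'.toScheme := Subtype.preirreducibleSpace
      (PreirreducibleSpace.isPreirreducible_univ.open_subset P'.2 (Set.subset_univ _))
    haveI : IsLocalIso (P'.ι ≫ Spec.map φ) := by
      rw [← Scheme.homOfLE_ι _ hPL, Category.assoc]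
      haveI : IsLocalIso ((Spec B).homOfLE hPL) := IsZariskiLocalAtSource.of_isOpenImmersion _
      exact MorphismProperty.comp_mem @IsLocalIso _ _ ‹_› hli
    exact H68.PunctW.isOpenImmersion_of_isLocalIso _
  exact H68.PunctW.dim_le_one_or_isolated hpb (hW (g z)) z hzO rfl hmaxf

end Groth.Agent.S5109
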