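import Groth.Statements.S5110
import Groth.Agent.Lib.LimTop.Maximal


set_option autoImplicit false
universe u
open CategoryTheory CategoryTheory.Limits AlgebraicGeometry TopologicalSpace
open Lim8

namespace Groth.Agent.S5110

open Groth.Agent.Lib.LimTop.Maximal Groth.Agent.Lib.LimTop.Points in
theorem aux {I : Type u} [SmallCategory I] [IsCofiltered I]
    (D : I ⥤ Scheme.{u}) (c : Limits.Cone D) (hc : Limits.IsLimit c)
    [∀ (i j : I) (g : i ⟶ j), IsAffineHom (D.map g)]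
    (hfin : ∀ i : I, {s : ↥(D.obj i) | Groth.Agent.Lib.LimTop.Maximal.IsMax s}.Finite)
    (hsys : ∀ (i j : I) (g : i ⟶ j) (s : ↥(D.obj i)), Groth.Agent.Lib.LimTop.Maximal.IsMax s → Groth.Agent.Lib.LimTop.Maximal.IsMax (D.map g s))
    (i₀ : I) (V₀ : (D.obj i₀).Opens) :
    (Dense (V₀ : Set ↥(D.obj i₀)) →
        (∀ (i : I) (g : i ⟶ i₀), Dense (((D.map g) ⁻¹ᵁ V₀ : (D.obj i).Opens) : Set ↥(D.obj i))) ∧
          Dense (((c.π.app i₀) ⁻¹ᵁ V₀ : c.pt.Opens) : Set ↥c.pt)) ∧
      (Dense (((c.π.app i₀) ⁻¹ᵁ V₀ : c.pt.Opens) : Set ↥c.pt) →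
        {s : ↥c.pt | Groth.Agent.Lib.LimTop.Maximal.IsMax s}.Finite →
          ∃ (i : I) (g : i ⟶ i₀),
            Dense (((D.map g) ⁻¹ᵁ V₀ : (D.obj i).Opens) : Set ↥(D.obj i))) := by
  refine ⟨fun hd => ⟨fun i g => dense_of_isMax_mem fun η hη => ?_,
    dense_of_isMax_mem fun η hη => ?_⟩, fun hd hf => ?_⟩
  · exact isMax_mem_of_dense (hfin i₀) V₀.2 hd (hsys i i₀ g η hη)
  · exact isMax_mem_of_dense (hfin i₀) V₀.2 hd ((isMax_iff hc hfin hsys η).mp hη i₀)
  · by_contra! H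
    obtain ⟨t, ht⟩ := exists_point_of_finite hc i₀
      (fun j => {w : D.obj j.left | Groth.Agent.Lib.LimTop.Maximal.IsMax w ∧ D.map j.hom w ∉ V₀})
      (fun j => (hfin j.left).subset fun w hw => hw.1)
      (fun j => by
        by_contra! he
        refine H j.left j.hom (dense_of_isMax_mem fun η hη => ?_)
        by_contra hηV
        exact Set.eq_empty_iff_forall_notMem.mp he η ⟨hη, hηV⟩)
      (fun j k f w hw => ⟨hsys _ _ f.left w hw.1, by
        rw [← map_comp_apply, Over.w f]; exact hw.2⟩)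
    have htmax : Groth.Agent.Lib.LimTop.Maximal.IsMax t := by
      refine (isMax_iff hc hfin hsys t).mpr fun j => ?_
      obtain ⟨m, f, g, -⟩ := IsCofilteredOrEmpty.cone_objs j i₀
      rw [← π_map_apply f t]
      exact hsys _ _ f _ (ht (Over.mk g)).1
    have := (ht (Over.mk (𝟙 i₀))).2
    simp only [Over.mk_hom, π_map_apply] at this
    exact this (isMax_mem_of_dense hf ((c.π.app i₀) ⁻¹ᵁ V₀).2 hd htmax)

/-- Let (S_i) be a cofiltered system of schemes with affine transition morphisms and S its limit, such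
that every S_i has finitely many maximal points and the transition morphisms send maximal points to
maximal points; let S_{i₀} be quasi-compact and V₀ an open subset of S_{i₀}, with inverse images V_i
in the S_i over i₀ and V in S. If V₀ is dense in S_{i₀} then every V_i and V are dense. Conversely,
if V is dense in S and S has only finitely many maximal points, then V_i is dense in S_i for some i
over i₀. -/
theorem result {I : Type u} [SmallCategory I] [IsCofiltered I]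
    (D : I ⥤ Scheme.{u}) (c : Limits.Cone D) (hc : Limits.IsLimit c)
    [∀ (i j : I) (g : i ⟶ j), IsAffineHom (D.map g)]
    (hfin : ∀ i : I, {s : ↥(D.obj i) | ∀ z : ↥(D.obj i), z ⤳ s → z = s}.Finite)
    (hsys : ∀ (i j : I) (g : i ⟶ j) (s : ↥(D.obj i)), (∀ z : ↥(D.obj i), z ⤳ s → z = s) →
      ∀ z : ↥(D.obj j), z ⤳ D.map g s → z = D.map g s)
    (i₀ : I) [CompactSpace ↥(D.obj i₀)] (V₀ : (D.obj i₀).Opens) :
    (Dense (V₀ : Set ↥(D.obj i₀)) →
        (∀ (i : I) (g : i ⟶ i₀), Dense (((D.map g) ⁻¹ᵁ V₀ : (D.obj i).Opens) : Set ↥(D.obj i))) ∧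
          Dense (((c.π.app i₀) ⁻¹ᵁ V₀ : c.pt.Opens) : Set ↥c.pt)) ∧
      (Dense (((c.π.app i₀) ⁻¹ᵁ V₀ : c.pt.Opens) : Set ↥c.pt) →
        {s : ↥c.pt | ∀ z : ↥c.pt, z ⤳ s → z = s}.Finite →
          ∃ (i : I) (g : i ⟶ i₀), Dense (((D.map g) ⁻¹ᵁ V₀ : (D.obj i).Opens) : Set ↥(D.obj i))) := by
  exact aux D c hc hfin hsys i₀ V₀

end Groth.Agent.S5110
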