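import Groth.Statements.S5111
import Groth.Agent.Lib.SectExt62.Main

set_option autoImplicit false
universe u
open CategoryTheory CategoryTheory.Limits AlgebraicGeometry TopologicalSpace
open Rat20

namespace Groth.Agent.S5111

/-- Let S and X be locally Noetherian schemes, f : X → S a flat morphism, g : Y → S a morphism locally
of finite type, U a dense open subset of S, h : f⁻¹(U) → Y an S-morphism, Z the reduced closed
subscheme of X with underlying space f⁻¹(S − U), and h₀ : Z → Y an S-morphism; suppose X is normal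
at every point of Z. Then there is an S-morphism h' : X → Y extending h and inducing h₀ on Z if and
only if: for every spectrum S₁ of a discrete valuation ring and every morphism u : S₁ → S sending
the closed point outside U and the generic point into U, there is an S₁-morphism h'₁ : X ×_S S₁ → Y
×_S S₁ which extends the base change of h on the inverse image of U and which, at every point z₁ of
Z ×_S S₁, agrees on Spec k(z₁) with the base change of h₀. (Morphisms into Y ×_S S₁ over S₁ are
compared through their components in Y.) -/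
theorem result {X Y S : Scheme.{u}} [IsLocallyNoetherian S]
    [IsLocallyNoetherian X] (f : X ⟶ S) [Flat f] (g : Y ⟶ S) [LocallyOfFiniteType g]
    (U : S.Opens) (hU : Dense (U : Set ↥S)) (h : ↑(f ⁻¹ᵁ U) ⟶ Y) (hh : h ≫ g = (f ⁻¹ᵁ U).ι ≫ f)
    (Z : Scheme.{u}) (iZ : Z ⟶ X) [IsClosedImmersion iZ] [IsReduced Z]
    (hZ : Set.range ⇑iZ = ((f ⁻¹ᵁ U : X.Opens) : Set ↥X)ᶜ) (h₀ : Z ⟶ Y) (hh₀ : h₀ ≫ g = iZ ≫ f)
    (hnorm : ∀ z : ↥Z, IsDomain ↑(X.presheaf.stalk (iZ z)) ∧ IsIntegrallyClosed ↑(X.presheaf.stalk (iZ z))) :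
    (∃ h' : X ⟶ Y, h' ≫ g = f ∧ (f ⁻¹ᵁ U).ι ≫ h' = h ∧ iZ ≫ h' = h₀) ↔
      ∀ (R : Type u) [CommRing R] [IsDomain R] [IsDiscreteValuationRing R]
        (u : Spec (CommRingCat.of R) ⟶ S),
        u (IsLocalRing.closedPoint R) ∉ U → u (genericPoint ↥(Spec (CommRingCat.of R))) ∈ U →
        ∃ h₁ : pullback f u ⟶ pullback g u,
          h₁ ≫ pullback.snd g u = pullback.snd f u ∧
          ((pullback.fst f u) ⁻¹ᵁ (f ⁻¹ᵁ U)).ι ≫ h₁ ≫ pullback.fst g u = (pullback.fst f u ∣_ (f ⁻¹ᵁ U)) ≫ h ∧
          ∀ z₁ : ↥(pullback (iZ ≫ f) u),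
            (pullback (iZ ≫ f) u).fromSpecResidueField z₁ ≫
                pullback.lift (pullback.fst (iZ ≫ f) u ≫ iZ) (pullback.snd (iZ ≫ f) u)
                  ((Category.assoc _ _ _).trans pullback.condition) ≫ h₁ ≫ pullback.fst g u =
              (pullback (iZ ≫ f) u).fromSpecResidueField z₁ ≫ pullback.fst (iZ ≫ f) u ≫ h₀ := by
  constructor
  · rintro ⟨h', hg, hext, hZ₀⟩ R _ _ _ u - -
    refine ⟨pullback.lift (pullback.fst f u ≫ h') (pullback.snd f u)
      (by rw [Category.assoc, hg, pullback.condition]), pullback.lift_snd _ _ _, ?_, fun z₁ => ?_⟩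
    · rw [pullback.lift_fst, ← Category.assoc, ← morphismRestrict_ι, Category.assoc, hext]
    · rw [pullback.lift_fst, pullback.lift_fst_assoc, Category.assoc, hZ₀]
  · intro H
    let q : pullback g f ⟶ X := pullback.snd g f
    let hP : ↑(f ⁻¹ᵁ U) ⟶ pullback g f := pullback.lift h (f ⁻¹ᵁ U).ι hh
    let σ : Z ⟶ pullback g f := pullback.lift h₀ iZ hh₀
    have hnot : ∀ z, iZ z ∉ f ⁻¹ᵁ U := fun z hz => by
      have : iZ z ∈ ((f ⁻¹ᵁ U : X.Opens) : Set X)ᶜ := hZ ▸ ⟨z, rfl⟩
      exact this hz
    suffices key : ∀ (z : Z) (R : Type u) [CommRing R] [IsDomain R] [IsDiscreteValuationRing R]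
        (u : Spec (CommRingCat.of R) ⟶ X), u (IsLocalRing.closedPoint R) = iZ z →
        ∀ ub : Spec (CommRingCat.of (FractionRing R)) ⟶ ↑(f ⁻¹ᵁ U),
          ub ≫ (f ⁻¹ᵁ U).ι = Groth.Agent.H26.SectionExtend.genMap R ≫ u →
          ∃ h₁ : Spec (CommRingCat.of R) ⟶ pullback g f, h₁ ≫ q = u ∧
            h₁ (IsLocalRing.closedPoint R) = σ z ∧
            Groth.Agent.H26.SectionExtend.genMap R ≫ h₁ = ub ≫ hP by
      obtain ⟨s, hs, hsU, hsZ⟩ := Groth.Agent.Lib.SectExt62.exists_section q (f ⁻¹ᵁ U) hP iZ σ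
        (Groth.Agent.Lib.SectExt62.dense_preimage_of_flat f U hU) (pullback.lift_snd _ _ _)
        (pullback.lift_snd _ _ _) hZ hnorm key
      refine ⟨s ≫ pullback.fst g f, ?_, ?_, ?_⟩
      · rw [Category.assoc, pullback.condition, ← Category.assoc, hs, Category.id_comp]
      · rw [← Category.assoc, hsU, pullback.lift_fst]
      · rw [← Category.assoc, hsZ, pullback.lift_fst]
    intro z R _ _ _ u hu ub hub
    have hgen : (u ≫ f) (genericPoint (Spec (CommRingCat.of R))) ∈ U := by
      let w : Spec (CommRingCat.of (FractionRing R)) := IsLocalRing.closedPoint (FractionRing R)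
      rw [← Groth.Agent.H26.SectionExtend.genMap_apply R w, ← Scheme.Hom.comp_apply, ← Category.assoc,
        ← hub]
      exact (ub w).2
    obtain ⟨h₁, h₁s, h₁g, h₁z⟩ := H R (u ≫ f) (by
      rw [Scheme.Hom.comp_apply, hu]; exact hnot z) hgen
    let sec : Spec (CommRingCat.of R) ⟶ pullback f (u ≫ f) := pullback.lift u (𝟙 _) (by simp)
    have hsec : sec ≫ pullback.fst f (u ≫ f) = u := pullback.lift_fst _ _ _
    have hl : (sec ≫ h₁ ≫ pullback.fst g (u ≫ f)) ≫ g = u ≫ f := by
      simp only [Category.assoc, pullback.condition]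
      rw [reassoc_of% h₁s, pullback.lift_snd_assoc, Category.id_comp]
    refine ⟨pullback.lift (sec ≫ h₁ ≫ pullback.fst g (u ≫ f)) u hl, pullback.lift_snd _ _ _, ?_, ?_⟩
    · obtain ⟨t, ht⟩ := Groth.Agent.H26.SectionExtend.exists_fac_of_immersion iZ
        (Spec.map (CommRingCat.ofHom (IsLocalRing.residue R)) ≫ u) (fun w => by
          refine ⟨z, ?_⟩
          rw [Scheme.Hom.comp_apply]
          refine hu.symm.trans (congrArg u ?_)
          refine PrimeSpectrum.ext ?_
          have hw : w = (⊥ : PrimeSpectrum (IsLocalRing.ResidueField R)) :=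
            Subsingleton.elim (α := PrimeSpectrum _) _ _
          subst hw
          exact (IsLocalRing.ker_residue).symm)
      let pt : Spec (CommRingCat.of (IsLocalRing.ResidueField R)) :=
        IsLocalRing.closedPoint (IsLocalRing.ResidueField R)
      let j := pullback.lift (pullback.fst (iZ ≫ f) (u ≫ f) ≫ iZ) (pullback.snd (iZ ≫ f) (u ≫ f))
        ((Category.assoc _ _ _).trans pullback.condition)
      let t₁ := pullback.lift (f := iZ ≫ f) (g := u ≫ f) t
        (Spec.map (CommRingCat.ofHom (IsLocalRing.residue R))) (by rw [reassoc_of% ht])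
      have hj : t₁ ≫ j = Spec.map (CommRingCat.ofHom (IsLocalRing.residue R)) ≫ sec := by
        apply pullback.hom_ext
        · rw [Category.assoc, Category.assoc, pullback.lift_fst, pullback.lift_fst, pullback.lift_fst_assoc, ht]
        · rw [Category.assoc, Category.assoc, pullback.lift_snd, pullback.lift_snd, pullback.lift_snd, Category.comp_id]
      have hpt : Spec.map (CommRingCat.ofHom (IsLocalRing.residue R)) pt = IsLocalRing.closedPoint R :=
        PrimeSpectrum.ext (by
          change Ideal.comap _ (IsLocalRing.maximalIdeal _) = _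
          rw [IsLocalRing.maximalIdeal_eq_bot]
          exact IsLocalRing.ker_residue)
      have htz : t pt = z := iZ.isClosedEmbedding.injective (by
        rw [← Scheme.Hom.comp_apply, ht, Scheme.Hom.comp_apply, hpt, hu])
      obtain ⟨⟨x₁, φ₁⟩, hx₁⟩ :=
        (Scheme.SpecToEquivOfField (IsLocalRing.ResidueField R) (pullback (iZ ≫ f) (u ≫ f))).symm.surjective t₁
      have hx₁' : Spec.map φ₁ ≫ (pullback (iZ ≫ f) (u ≫ f)).fromSpecResidueField x₁ = t₁ := hx₁
      have e : t₁ ≫ j ≫ h₁ ≫ pullback.fst g (u ≫ f) = t ≫ h₀ := by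
        rw [← hx₁', Category.assoc, h₁z x₁, reassoc_of% hx₁']
        exact pullback.lift_fst_assoc _ _ _ _
      have hfac : Spec.map (CommRingCat.ofHom (IsLocalRing.residue R)) ≫
          pullback.lift (sec ≫ h₁ ≫ pullback.fst g (u ≫ f)) u hl = t ≫ σ := by
        apply pullback.hom_ext
        · rw [Category.assoc, pullback.lift_fst, Category.assoc, pullback.lift_fst, ← e, reassoc_of% hj]
        · rw [Category.assoc, pullback.lift_snd, Category.assoc, pullback.lift_snd, ht]
      rw [← hpt, ← Scheme.Hom.comp_apply, hfac, Scheme.Hom.comp_apply, htz]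
    · have hw : (Spec.map (CommRingCat.ofHom (algebraMap R (FractionRing R))) ≫ sec) ≫
          pullback.fst f (u ≫ f) = ub ≫ (f ⁻¹ᵁ U).ι := by rw [Category.assoc, hsec, hub]
      let k := IsOpenImmersion.lift ((pullback.fst f (u ≫ f)) ⁻¹ᵁ (f ⁻¹ᵁ U)).ι
        (Spec.map (CommRingCat.ofHom (algebraMap R (FractionRing R))) ≫ sec) (by
          rw [Scheme.Opens.range_ι]
          rintro _ ⟨w, rfl⟩
          change ((Spec.map _ ≫ sec) ≫ pullback.fst f (u ≫ f)) w ∈ f ⁻¹ᵁ U
          rw [hw]
          exact (ub w).2)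
      have hk : k ≫ (pullback.fst f (u ≫ f) ∣_ (f ⁻¹ᵁ U)) = ub := by
        rw [← cancel_mono (f ⁻¹ᵁ U).ι, Category.assoc, morphismRestrict_ι, ← Category.assoc]
        simp only [k, IsOpenImmersion.lift_fac]
        exact hw
      apply pullback.hom_ext
      · simp only [Category.assoc, hP, pullback.lift_fst]
        have := congrArg (k ≫ ·) h₁g
        simp only [k, IsOpenImmersion.lift_fac_assoc, Category.assoc] at this
        rw [this, ← Category.assoc, hk]
      · simp only [Category.assoc, hP, pullback.lift_snd]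
        exact hub.symm

end Groth.Agent.S5111
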