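import Groth.Statements.S5114
import Groth.Agent.Lib.Henselian.FinitePart
import Groth.Agent.Lib.EtDescent.Sigma

set_option autoImplicit false
universe u
open SGA1

namespace Groth.Agent.S5114

open AlgebraicGeometry CategoryTheory CategoryTheory.Limits in
/-- Let A be a complete Noetherian local ring, S = Spec A, and g : S' ⟶ S a surjective morphism of
finite type whose fibre over the closed point s is finite. If every point of S' specialises to some
point of the fibre over s (equivalently: the disjoint union of the spectra of the local rings of S'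
at the points over s maps onto S'), then g is universally submersive. (The published statement
asserts an equivalence and does not mention surjectivity of g; the converse fails: for A a complete
discrete valuation ring with fraction field K, S' = S ⊔ Spec K ⟶ S has a section, hence is
universally submersive, while the isolated point Spec K specialises to no point over s. This row
states the implication the published proof establishes, with the surjectivity it uses.) -/
theorem result (A : Type u) [CommRing A]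
    [IsNoetherianRing A] [IsLocalRing A] [IsAdicComplete (IsLocalRing.maximalIdeal A) A]
    {S' : Scheme.{u}} (g : S' ⟶ Spec (CommRingCat.of A)) [LocallyOfFiniteType g] [QuasiCompact g]
    [Surjective g]
    (hfin : (g.base ⁻¹' {IsLocalRing.closedPoint A}).Finite)
    (hsp : ∀ t : S', ∃ s' : S', g.base s' = IsLocalRing.closedPoint A ∧ t ⤳ s') :
    SGA1.UnivSubmersive g := by
  haveI : HenselianLocalRing A :=
    Groth.Agent.Lib.Henselian.LocalRing.henselianLocalRing_iff_henselianRing.mpr inferInstance
  let cl := IsLocalRing.closedPoint A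
  haveI : LocallyQuasiFinite g := by
    rw [← Scheme.Hom.quasiFiniteLocus_eq_top_iff]
    refine top_le_iff.mp fun t _ ↦ ?_
    obtain ⟨x, hx, htx⟩ := hsp t
    exact htx.mem_open g.quasiFiniteLocus.2
      (Groth.Agent.Lib.Unram.FinitePartNhd.quasiFiniteAt_of_finite_fibre g x (hx.symm ▸ hfin))
  haveI : CompactSpace S' := QuasiCompact.compactSpace_of_compactSpace g
  let 𝒰 := S'.affineCover.finiteSubcover
  haveI : ∀ i, IsAffine (𝒰.X i) := fun i ↦
    inferInstanceAs (IsAffine (S'.affineCover.X _))
  haveI : ∀ i, LocallyQuasiFinite (𝒰.f i ≫ g) := fun i ↦ inferInstance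
  choose W hW using fun i ↦
    (Groth.Agent.Lib.Henselian.FinitePart.existsUnique_finitePart (𝒰.f i ≫ g)).exists
  have hcov : ∀ t : S', ∃ i, ∃ w : W i, ((W i).ι ≫ 𝒰.f i) w = t := fun t ↦ by
    obtain ⟨x, hx, htx⟩ := hsp t
    obtain ⟨i, v, rfl⟩ := 𝒰.exists_eq x
    obtain ⟨u, rfl⟩ : t ∈ Set.range (𝒰.f i) :=
      htx.mem_open (𝒰.f i).isOpenEmbedding.isOpen_range ⟨v, rfl⟩
    have hv : v ∈ W i := (hW i).2.2 v (by rw [Scheme.Hom.comp_apply]; exact hx)
    have huv : u ⤳ v := (𝒰.f i).isOpenEmbedding.toIsInducing.specializes_iff.mp htx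
    obtain ⟨w, hw⟩ := (W i).range_ι.ge (huv.mem_open (W i).2 hv)
    exact ⟨i, w, by rw [Scheme.Hom.comp_apply, hw]⟩
  haveI : UniversallyClosed g := ⟨fun X' T i₁ i₂ g' sq ↦ by
    intro Z hZ
    have hcl : ∀ i, IsClosedMap (pullback.fst i₁ ((W i).ι ≫ 𝒰.f i) ≫ g') := fun i ↦ by
      haveI : IsFinite ((W i).ι ≫ 𝒰.f i ≫ g) := (hW i).2.1
      have hp := (IsPullback.of_hasPullback i₁ ((W i).ι ≫ 𝒰.f i)).flip.paste_vert sq.flip
      haveI : IsFinite (((W i).ι ≫ 𝒰.f i) ≫ g) := by rw [Category.assoc]; exact (hW i).2.1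
      haveI : IsFinite (pullback.fst i₁ ((W i).ι ≫ 𝒰.f i) ≫ g') :=
        MorphismProperty.of_isPullback hp inferInstance
      exact (pullback.fst i₁ ((W i).ι ≫ 𝒰.f i) ≫ g').isClosedMap
    have e : g' '' Z = ⋃ i, (pullback.fst i₁ ((W i).ι ≫ 𝒰.f i) ≫ g') ''
        ((pullback.fst i₁ ((W i).ι ≫ 𝒰.f i)) ⁻¹' Z) := by
      refine Set.Subset.antisymm ?_ ?_
      · rintro _ ⟨z, hz, rfl⟩
        obtain ⟨i, w, hw⟩ := hcov (i₁ z)
        obtain ⟨z', hz', -⟩ := Scheme.Pullback.exists_preimage_pullback (f := i₁)
          (g := (W i).ι ≫ 𝒰.f i) z w hw.symm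
        exact Set.mem_iUnion.mpr ⟨i, z', show _ ∈ Z from hz'.symm ▸ hz, by
          rw [Scheme.Hom.comp_apply, hz']⟩
      · intro y hy
        obtain ⟨i, z, hz, rfl⟩ := Set.mem_iUnion.mp hy
        exact ⟨_, hz, (Scheme.Hom.comp_apply _ _ _).symm⟩
    rw [e]
    exact isClosed_iUnion_of_finite fun i ↦ hcl i _
      (hZ.preimage (pullback.fst i₁ ((W i).ι ≫ 𝒰.f i)).continuous)⟩
  exact Groth.Agent.Lib.EtDescent.univSubmersive_of_universallyClosed g

end Groth.Agent.S5114
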