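import Groth.Statements.S5115
import Groth.Agent.Lib.UnivHomeoEt.Glue
-- import your own Groth.Agent.* helpers here

set_option autoImplicit false
universe u
open EtBase

namespace Groth.Agent.S5115

open AlgebraicGeometry CategoryTheory CategoryTheory.Limits in
/-- Let g : S' ⟶ S be faithfully flat (flat and surjective), quasi-compact and radicial (universally
injective). Then base change along g is an equivalence from the category of schemes etale over S to
the category of schemes etale over S'. -/
theorem result {S S' : Scheme.{u}} (g : S' ⟶ S)
    [Flat g] [Surjective g] [QuasiCompact g] [UniversallyInjective g] :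
    (EtCoh.bc g).IsEquivalence := by
  haveI : UniversallyClosed g := ⟨fun {A B} a b g' h => by
    haveI : Flat g' := MorphismProperty.of_isPullback (P := @Flat) h.flip ‹_›
    haveI : Surjective g' := MorphismProperty.of_isPullback (P := @Surjective) h.flip ‹_›
    haveI : QuasiCompact g' := MorphismProperty.of_isPullback (P := @QuasiCompact) h.flip ‹_›
    haveI : UniversallyInjective g' :=
      MorphismProperty.of_isPullback (P := @UniversallyInjective) h.flip ‹_›
    exact (isHomeomorph_iff_isQuotientMap_injective.2
      ⟨Flat.isQuotientMap_of_surjective g', g'.injective⟩).isClosedMap⟩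
  have hg : IsHomeomorph g.base := isHomeomorph_iff_continuous_isClosedMap_bijective.2
    ⟨g.continuous, g.isClosedMap, g.injective, g.surjective⟩
  haveI : IsAffineHom g :=
    isAffineHom_of_isInducing g hg.isInducing hg.isClosedEmbedding.isClosed_range
  haveI : IsIntegralHom g := IsIntegralHom.iff_universallyClosed_and_isAffineHom.2 ⟨‹_›, ‹_›⟩
  exact Groth.Agent.Lib.UnivHomeoEt.bc_isEquivalence g

end Groth.Agent.S5115
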