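import Groth.Statements.S5116
import Groth.Agent.S0269
import Groth.Agent.Lib.PropHens.Main

set_option autoImplicit false
set_option backward.isDefEq.respectTransparency false
universe u
open Pi1

namespace Groth.Agent.S5116

open AlgebraicGeometry CategoryTheory CategoryTheory.Limits in
/-- The injectivity of π₁ of the geometric closed fibre into π₁ of the total space, in terms of covers.
Let A be a complete Noetherian local ring with residue field k, k̄ an algebraic closure of k, ξ :
Spec k̄ ⟶ Spec A the resulting geometric point, X a proper A-scheme with X ×_A Spec k̄ connected.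
Then every finite etale cover of X ×_A Spec k̄ admits an open and closed immersion, over X ×_A Spec
k̄, into the base change of some finite etale cover of X. -/
theorem result (A : Type u) [CommRing A]
    [IsNoetherianRing A] [IsLocalRing A] [IsAdicComplete (IsLocalRing.maximalIdeal A) A]
    {X : Scheme.{u}} (f : X ⟶ Spec (CommRingCat.of A)) [IsProper f]
    (ξ : Spec (CommRingCat.of (AlgebraicClosure (IsLocalRing.ResidueField A))) ⟶ Spec (CommRingCat.of A))
    (hξ : ξ = Spec.map (CommRingCat.ofHom ((algebraMap (IsLocalRing.ResidueField A)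
      (AlgebraicClosure (IsLocalRing.ResidueField A))).comp (IsLocalRing.residue A))))
    [ConnectedSpace ↥(pullback f ξ)] (V : FEt.Cat (pullback f ξ)) :
    ∃ (U : FEt.Cat X) (ι : V ⟶ (FEt.restrict (pullback.fst f ξ)).obj U),
      IsOpenImmersion ι.left ∧ IsClosedImmersion ι.left := by
  subst hξ
  let k := IsLocalRing.ResidueField A
  let mk : Spec (CommRingCat.of k) ⟶ Spec (CommRingCat.of A) := Spec.map (CommRingCat.ofHom (IsLocalRing.residue A))
  let gbar := Spec.map (CommRingCat.ofHom (algebraMap k (AlgebraicClosure k)))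
  let i := pullback.fst f mk
  let f₀ := pullback.snd f mk
  have hbig : IsPullback (pullback.fst f₀ gbar ≫ i) (pullback.snd f₀ gbar) f
      (Spec.map (CommRingCat.ofHom ((algebraMap k (AlgebraicClosure k)).comp (IsLocalRing.residue A)))) := by
    rw [CommRingCat.ofHom_comp, Spec.map_comp]
    exact (IsPullback.of_hasPullback f₀ gbar).paste_horiz (IsPullback.of_hasPullback f mk)
  let e := hbig.isoPullback
  have he : e.hom ≫ pullback.fst f _ = pullback.fst f₀ gbar ≫ i := hbig.isoPullback_hom_fst
  have : ConnectedSpace ↥(pullback f₀ gbar) := e.inv.homeomorph.surjective.connectedSpace e.inv.continuous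
  have : IsProper f₀ := inferInstanceAs (IsProper (pullback.snd f mk))
  have : CompactSpace ↥(pullback f mk) := QuasiCompact.compactSpace_of_compactSpace f₀
  have : QuasiSeparatedSpace ↥(pullback f mk) := quasiSeparatedSpace_of_quasiSeparated f₀
  have : HenselianRing A (IsLocalRing.maximalIdeal A) := IsAdicComplete.henselianRing A _
  let V₀ : FEt.Cat (pullback f₀ gbar) := MorphismProperty.Over.mk ⊤ (V.hom ≫ e.inv)
    ((MorphismProperty.cancel_right_of_respectsIso FEt.prop V.hom e.inv).mpr V.prop)
  obtain ⟨U₀, ι₀, h1, h2⟩ := S0269.result k f₀ V₀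
  have hE : (FEt.restrict i).IsEquivalence :=
    Groth.Agent.Lib.PropHens.isEquivalence (IsLocalRing.maximalIdeal A) f
  let U : FEt.Cat X := (FEt.restrict i).objPreimage U₀
  let d : pullback U.hom i ≅ U₀.left :=
    (MorphismProperty.Over.forget _ _ _ ⋙ Over.forget _).mapIso ((FEt.restrict i).objObjPreimageIso U₀)
  have hd : d.hom ≫ U₀.hom = pullback.snd U.hom i := Over.w ((FEt.restrict i).objObjPreimageIso U₀).hom.hom
  have hd' : d.inv ≫ pullback.snd U.hom i = U₀.hom := by rw [← hd, Iso.inv_hom_id_assoc]
  have hR : IsPullback (d.inv ≫ pullback.fst U.hom i) U₀.hom U.hom i :=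
    (IsPullback.of_hasPullback U.hom i).of_iso d (Iso.refl _) (Iso.refl _) (Iso.refl _)
      (by simp) (by simp [hd]) (by simp) (by simp)
  have hP := (IsPullback.of_hasPullback U₀.hom (pullback.fst f₀ gbar)).paste_horiz hR
  have hQ : IsPullback (pullback.fst U₀.hom (pullback.fst f₀ gbar) ≫ d.inv ≫ pullback.fst U.hom i)
      (pullback.snd U₀.hom (pullback.fst f₀ gbar) ≫ e.hom) U.hom (pullback.fst f _) :=
    hP.of_iso (Iso.refl _) (Iso.refl _) e (Iso.refl _)
      (by simp) (by simp) (by simp) (by rw [Iso.refl_hom, Category.comp_id]; exact he.symm)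
  let ι : V.left ⟶ pullback U.hom (pullback.fst f _) := ι₀.left ≫ hQ.isoPullback.hom
  have hι : ι ≫ pullback.snd U.hom (pullback.fst f _) = V.hom := by
    have hw : ι₀.left ≫ pullback.snd U₀.hom (pullback.fst f₀ gbar) = V.hom ≫ e.inv := Over.w ι₀.hom
    simp only [ι, Category.assoc, IsPullback.isoPullback_hom_snd]
    rw [reassoc_of% hw]
    simp
  have i1 : IsOpenImmersion ι := inferInstance
  have i2 : IsClosedImmersion ι := inferInstance
  exact ⟨U, MorphismProperty.Over.homMk ι hι trivial, i1, i2⟩

end Groth.Agent.S5116
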