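import Groth.Statements.S5117
import Groth.Agent.Lib.FEt.FieldDescent
import Groth.Agent.Lib.FEt.FiberUnique
import Groth.Agent.Lib.FEt.Limits
import Groth.Agent.H80.Galois2
import Groth.Agent.S0268
import Groth.Agent.S1187


set_option autoImplicit false
universe u
open Pi1

namespace Groth.Agent.S5117

open AlgebraicGeometry CategoryTheory CategoryTheory.Limits in
/-- (ii bis) ⇒ (i), over a field. Let k be a field with algebraic closure k̄, X a quasi-compact and
quasi-separated k-scheme such that X ×_k k̄ is connected, and X' a connected finite etale cover of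
X. If the induced cover X' ×_k k̄ → X ×_k k̄ admits a section, then X' is isomorphic over X to X ×_k
S' for some finite etale k-scheme S'. (The published statement allows the spectrum of an Artinian
local ring with residue field k as base and asks only that X be quasi-compact; this row takes a
field and X quasi-compact and quasi-separated.) -/
theorem result (k : Type u) [Field k] {X : Scheme.{u}}
    (f : X ⟶ Spec (CommRingCat.of k)) [CompactSpace X] [QuasiSeparatedSpace X]
    [ConnectedSpace ↥(pullback f (Spec.map (CommRingCat.ofHom (algebraMap k (AlgebraicClosure k)))))]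
    (X' : FEt.Cat X) [ConnectedSpace X'.left]
    (σ : pullback f (Spec.map (CommRingCat.ofHom (algebraMap k (AlgebraicClosure k)))) ⟶ X'.left)
    (hσ : σ ≫ X'.hom = pullback.fst f (Spec.map (CommRingCat.ofHom (algebraMap k (AlgebraicClosure k))))) :
    ∃ S' : FEt.Cat (Spec (CommRingCat.of k)), Nonempty ((FEt.restrict f).obj S' ≅ X') := by
  open Groth.Agent.Lib.FEt Groth.Agent.Lib.FEt.FieldDescent CategoryTheory.PreGaloisCategory
    Groth.Agent.H80 in
  obtain ⟨L, g, -⟩ := exists_sections k f X' (fun _ : PUnit.{u+1} => σ) (fun _ => hσ)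
  let P := pullback f (Spec.map (CommRingCat.ofHom (algebraMap k (AlgebraicClosure k))))
  let x : X := pullback.fst f (Spec.map (CommRingCat.ofHom (algebraMap k (AlgebraicClosure k))))
    (Classical.arbitrary P)
  have hk : Surjective (Spec.map (CommRingCat.ofHom (algebraMap k (AlgebraicClosure k)))) :=
    ⟨fun _ => ⟨@Classical.arbitrary _ (inferInstanceAs (Nonempty (PrimeSpectrum (AlgebraicClosure k)))),
      @Subsingleton.elim _ (inferInstanceAs (Subsingleton (PrimeSpectrum k))) _ _⟩⟩
  have hp : Surjective (pullback.fst f (Spec.map (CommRingCat.ofHom (algebraMap k (AlgebraicClosure k))))) :=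
    MorphismProperty.pullback_fst (P := @Surjective) _ _ hk
  have : ConnectedSpace X := hp.surj.connectedSpace (Scheme.Hom.continuous _)
  have : ConnectedSpace ↥(Spec (CommRingCat.of k)) := inferInstanceAs (ConnectedSpace (PrimeSpectrum k))
  have := FiberUnique.galoisCategory (X := X)
  have := FiberUnique.galoisCategory (X := Spec (CommRingCat.of k))
  let ξ := Spec.map (CommRingCat.ofHom
    (algebraMap (X.residueField x) (AlgebraicClosure (X.residueField x)))) ≫ X.fromSpecResidueField x
  let F' := FiberFunctor.fintypeFiber ξ
  have := GaloisCat.fiberFunctor ξ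
  let H := FEt.restrict f
  obtain ⟨_⟩ := Galois.nonempty_fiberFunctor_comp H F'
  obtain ⟨_, _⟩ := Groth.Agent.S0268.result k f
  let h := Pi1X.autWhisker H F'
  have hs : Function.Surjective h := (Groth.Agent.S1187.result H F').mpr ⟨inferInstance, inferInstance⟩
  -- the section gives a morphism from a base change to `X'`
  let A := subCover k L
  have : IsConnected X' := by
    refine ⟨fun hi => ?_, fun Y i _ hY => ?_⟩
    · have : IsEmpty ↥(Coproduct.empty X).left := inferInstanceAs (IsEmpty ↥(⊥_ Scheme.{u}))
      exact IsEmpty.false (α := ↥(Coproduct.empty X).left)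
        ((hi.to (Coproduct.empty X)).left.base (Classical.arbitrary X'.left))
    · have := Summand.isOpenImmersion_left i
      have := Basic.isFinite_left i
      obtain ⟨y⟩ : Nonempty ↥Y.left := by
        by_contra hne
        have : IsEmpty ↥Y.left := not_nonempty_iff.mp hne
        exact hY (IsInitial.ofUniqueHom
          (fun Z => MorphismProperty.Over.homMk (isInitialOfIsEmpty.to Z.left)
            (isInitialOfIsEmpty.hom_ext _ _) trivial)
          (fun Z m => by ext; exact isInitialOfIsEmpty.hom_ext _ _))
      have : Surjective i.left := ⟨fun z => by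
        have hc : IsClopen (Set.range i.left.base) :=
          ⟨i.left.isClosedMap.isClosed_range, i.left.isOpenEmbedding.isOpen_range⟩
        have hu := hc.eq_univ ⟨_, y, rfl⟩
        exact (Set.eq_univ_iff_forall.mp hu z)⟩
      have : IsIso i.left := (isIso_iff_isOpenImmersion_and_surjective _).mpr ⟨inferInstance, inferInstance⟩
      have : IsIso ((MorphismProperty.Over.forget _ _ _ ⋙ Over.forget _).map i) := this
      exact isIso_of_reflects_iso i (MorphismProperty.Over.forget _ _ _ ⋙ Over.forget _)
  obtain ⟨a⟩ : Nonempty (F'.obj (H.obj A)) := by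
    refine Galois.nonempty_fiber_comp H F' fun hA => ?_
    have : IsEmpty ↥(Coproduct.empty (Spec (CommRingCat.of k))).left :=
      inferInstanceAs (IsEmpty ↥(⊥_ Scheme.{u}))
    exact IsEmpty.false (α := ↥(Coproduct.empty (Spec (CommRingCat.of k))).left)
      ((hA.to (Coproduct.empty _)).left.base (Classical.arbitrary (PrimeSpectrum L.1)))
  have : Nonempty (F'.obj (H.obj A)) := ⟨a⟩
  have hker : ∀ τ : Aut F', h τ = 1 → ∀ z : F'.obj X', τ • z = z := by
    intro τ hτ z
    obtain ⟨y, rfl⟩ := surjective_of_nonempty_fiber_of_isConnected F' (g PUnit.unit) z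
    rw [← Galois.map_smul F']
    congr 1
    change (h τ) • (show (H ⋙ F').obj A from y) = y
    rw [hτ]
    exact one_smul (Aut (H ⋙ F')) _
  choose lift hlift using hs
  have hwd : ∀ (τ τ' : Aut F'), h τ = h τ' → ∀ z : F'.obj X', τ • z = τ' • z := by
    intro τ τ' he z
    have := hker (τ'⁻¹ * τ) (by rw [map_mul, map_inv, he, inv_mul_cancel]) z
    rwa [mul_smul, inv_smul_eq_iff] at this
  letI act : MulAction (Aut (H ⋙ F')) (F'.obj X') :=
    { smul := fun s z => lift s • z
      one_smul := fun z => (hwd _ 1 (by rw [hlift, map_one]) z).trans (one_smul _ _)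
      mul_smul := fun s t z => (hwd _ (lift s * lift t) (by rw [hlift, map_mul, hlift, hlift]) z).trans
        (mul_smul _ _ _) }
  have hact : ∀ (τ : Aut F') (z : F'.obj X'), h τ • z = τ • z := fun τ z => hwd _ τ (hlift _) z
  have hopen : ∀ z : F'.obj X', IsOpen {s : Aut (H ⋙ F') | s • z = z} := by
    intro z
    let S := (MulAction.stabilizer (Aut F') z).map h
    have hS : {s : Aut (H ⋙ F') | s • z = z} = (S : Set (Aut (H ⋙ F'))) := by
      ext s
      constructor
      · intro hz
        exact ⟨lift s, hz, hlift s⟩
      · rintro ⟨τ, hτ, rfl⟩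
        exact (hact τ z).trans hτ
    have ho : IsOpen ((MulAction.stabilizer (Aut F') z : Subgroup (Aut F')) : Set (Aut F')) :=
      stabilizer_isOpen _ _
    have hc : IsClosed (S : Set (Aut (H ⋙ F'))) := by
      rw [Subgroup.coe_map]
      exact ((Subgroup.isClosed_of_isOpen _ ho).isCompact.image
        (Galois.continuous_autWhisker H F')).isClosed
    have : (MulAction.stabilizer (Aut F') z).FiniteIndex :=
      have : Finite (Aut F' ⧸ MulAction.stabilizer (Aut F') z) :=
        Subgroup.quotient_finite_of_isOpen _ ho
      Subgroup.finiteIndex_of_finite_quotient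
    have : S.FiniteIndex := ⟨fun h0 => this.index_ne_zero (Nat.eq_zero_of_zero_dvd (h0 ▸
      Subgroup.index_map_dvd _ (fun s => ⟨lift s, hlift s⟩)))⟩
    rw [hS]
    exact Subgroup.isOpen_of_isClosed_of_finiteIndex S hc
  obtain ⟨S', e, he⟩ := Galois.exists_realization (H ⋙ F') (F'.obj X') hopen
  exact ⟨S', Galois.exists_iso_of_equivariant F' (X := H.obj S') e e.bijective
    (fun τ z => (he (h τ) z).trans (hact τ (e z)))⟩

end Groth.Agent.S5117
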