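import Groth.Statements.S5118
import Mathlib.Algebra.DualNumber
import Mathlib.RingTheory.Etale.StandardEtale

set_option autoImplicit false
universe u
open SGA1t

namespace Groth.Agent.S5118

open Polynomial in
/-- The etaleness criterion for the Kummer group scheme: Let A be a commutative ring and n ≥ 1. The
group scheme μ_n over Spec A is the spectrum of A[t]/(t^n − 1), a free A-module of rank n; it is
etale over A if and only if n is a unit of A (equivalently, n is prime to the characteristic of the
residue field at every point of Spec A). -/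
theorem result (A : Type u) [CommRing A] (n : ℕ) (hn : 1 ≤ n) :
    Algebra.Etale A (AdjoinRoot ((X : A[X]) ^ n - 1)) ↔ IsUnit ((n : ℕ) : A) := by
  classical
  constructor
  · intro _
    by_contra hu
    obtain ⟨m, hm, hnm⟩ := exists_max_ideal_of_mem_nonunits (mem_nonunits_iff.mpr hu)
    have hn0 : ((n : ℕ) : A ⧸ m) = 0 := by
      rw [← map_natCast (Ideal.Quotient.mk m)]; exact Ideal.Quotient.eq_zero_iff_mem.mpr hnm
    let Dk := DualNumber (A ⧸ m)
    have : ∀ k : ℕ, ((1 : Dk) + DualNumber.eps) ^ k = 1 + (k : Dk) * DualNumber.eps := by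
      intro k
      induction k with
      | zero => simp
      | succ k ih =>
        rw [pow_succ, ih, Nat.cast_succ]
        linear_combination (k : Dk) * (DualNumber.eps_mul_eps : (DualNumber.eps : Dk) * _ = 0)
    have h1 : Polynomial.aeval ((1 : Dk) + DualNumber.eps) ((Polynomial.X : A[X]) ^ n - 1) = 0 := by
      simp [this n, show ((n : ℕ) : Dk) = 0 by
        rw [← map_natCast (algebraMap (A ⧸ m) Dk), hn0, map_zero]]
    have h2 : Polynomial.aeval (1 : Dk) ((Polynomial.X : A[X]) ^ n - 1) = 0 := by simp
    let g₁ : AdjoinRoot ((Polynomial.X : A[X]) ^ n - 1) →ₐ[A] Dk := AdjoinRoot.liftAlgHom _ (Algebra.ofId A Dk) _ h1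
    let g₂ : AdjoinRoot ((Polynomial.X : A[X]) ^ n - 1) →ₐ[A] Dk := AdjoinRoot.liftAlgHom _ (Algebra.ofId A Dk) _ h2
    have hg : g₁ = g₂ := Algebra.FormallyUnramified.ext (Ideal.span {(DualNumber.eps : Dk)})
      ⟨2, by rw [pow_two, Ideal.span_singleton_mul_span_singleton, DualNumber.eps_mul_eps,
        Ideal.span_singleton_zero]; rfl⟩ fun x => by
        induction x using AdjoinRoot.induction_on with
        | _ p =>
          have : ∀ q : A[X], Ideal.Quotient.mk (Ideal.span {(DualNumber.eps : Dk)})
              (Polynomial.aeval ((1 : Dk) + DualNumber.eps) q) =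
              Ideal.Quotient.mk _ (Polynomial.aeval (1 : Dk) q) := fun q => by
            rw [Ideal.Quotient.mk_eq_mk_iff_sub_mem]
            obtain ⟨c, hc⟩ := sub_dvd_eval_sub ((1 : Dk) + DualNumber.eps) 1 (q.map (algebraMap A Dk))
            rw [Ideal.mem_span_singleton, Polynomial.aeval_def, Polynomial.aeval_def,
              ← Polynomial.eval_map, ← Polynomial.eval_map, hc, add_sub_cancel_left]
            exact dvd_mul_right _ _
          exact this p
    have h3 := congr($hg (AdjoinRoot.mk _ Polynomial.X))
    have h4 : (1 : Dk) + DualNumber.eps = 1 := by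
      refine Eq.trans ?_ (h3.trans ?_)
      · exact (Polynomial.eval₂_X _ _).symm
      · exact Polynomial.eval₂_X _ _
    have h5 := congrArg TrivSqZeroExt.snd h4
    simp [Dk] at h5
  · intro hu
    obtain ⟨u, hu'⟩ := hu.exists_left_inv
    let P : StandardEtalePair A :=
      { f := Polynomial.X ^ n - 1
        monic_f := Polynomial.monic_X_pow_sub_C (1 : A) (Nat.one_le_iff_ne_zero.mp hn) |> fun h => by simpa using h
        g := 1
        cond := ⟨Polynomial.C u * Polynomial.X, -1, 1, by
          obtain ⟨k, rfl⟩ := Nat.exists_eq_add_of_le' hn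
          rw [Polynomial.derivative_sub, Polynomial.derivative_one, Polynomial.derivative_X_pow,
            pow_one, sub_zero]
          have hC : Polynomial.C u * Polynomial.C (((k + 1 : ℕ)) : A) = 1 := by
            rw [← map_mul, hu', map_one]
          simp only [Nat.add_sub_cancel]
          linear_combination (Polynomial.X : A[X]) ^ (k + 1) * hC⟩ }
    have hr : P.HasMap (AdjoinRoot.root ((Polynomial.X : A[X]) ^ n - 1)) :=
      ⟨(AdjoinRoot.aeval_eq _).trans AdjoinRoot.mk_self, by simp [P]⟩
    let φ := P.lift _ hr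
    let ψ : AdjoinRoot ((Polynomial.X : A[X]) ^ n - 1) →ₐ[A] P.Ring :=
      AdjoinRoot.liftAlgHom _ (Algebra.ofId A P.Ring) P.X P.hasMap_X.1
    have hψ : ψ (AdjoinRoot.root _) = P.X := Polynomial.eval₂_X _ _
    have hφ : φ P.X = AdjoinRoot.root _ := P.lift_X _ hr
    exact Algebra.Etale.of_equiv (AlgEquiv.ofAlgHom φ ψ
      (AdjoinRoot.algHom_ext ((congrArg φ hψ).trans hφ))
      (StandardEtalePair.hom_ext ((congrArg ψ hφ).trans hψ)))

end Groth.Agent.S5118
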