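import Groth.Statements.S5119


set_option autoImplicit false
universe u
open scoped LaurentPolynomial
open SGA1t

namespace Groth.Agent.S5119

/-- The computation behind the exactness of the Kummer sequence 0 → μ_n → G_m → G_m → 0, i.e. faithful
flatness of the n-th power map u_n of G_m: Let A be a commutative ring and n ≥ 1, and let u_n be the
ring endomorphism of A[t, t⁻¹] with u_n(t) = t^n (on monomials, t^k ↦ t^{nk}). Then A[t, t⁻¹] is
free of rank n over itself via u_n, with basis 1, t, …, t^{n−1}: every Laurent polynomial q can be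
written in exactly one way as Σ_{i<n} u_n(c_i) t^i. -/
theorem result (A : Type u) [CommRing A] (n : ℕ) (hn : 1 ≤ n) (q : A[T;T⁻¹]) :
    ∃! c : Fin n → A[T;T⁻¹],
      q = ∑ i : Fin n, (AddMonoidAlgebra.mapDomainRingHom A (AddMonoidHom.mulLeft (n : ℤ)) : A[T;T⁻¹] →+* A[T;T⁻¹]) (c i) *
        LaurentPolynomial.T (i : ℤ) := by
  have hn0 : (n : ℤ) ≠ 0 := by omega
  let u : A[T;T⁻¹] →+* A[T;T⁻¹] := AddMonoidAlgebra.mapDomainRingHom A (AddMonoidHom.mulLeft (n : ℤ))
  have hinj : Function.Injective fun j : ℤ => (n : ℤ) * j := fun a b h => mul_left_cancel₀ hn0 h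
  have key : ∀ (c : Fin n → A[T;T⁻¹]) (i : Fin n) (j : ℤ),
      (∑ i' : Fin n, u (c i') * LaurentPolynomial.T (i' : ℤ)).coeff ((n : ℤ) * j + i) = (c i).coeff j := by
    intro c i j
    rw [AddMonoidAlgebra.coeff_sum, Finsupp.finsetSum_apply, Finset.sum_eq_single i]
    · rw [LaurentPolynomial.T, AddMonoidAlgebra.coeff_mul_single_apply, show (n : ℤ) * j + i + -(i : ℤ) = (n : ℤ) * j by ring]
      simp only [u, mul_one]
      exact Finsupp.mapDomain_apply hinj (c i).coeff j
    · intro i' _ hne
      rw [LaurentPolynomial.T, AddMonoidAlgebra.coeff_mul_single_apply]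
      simp only [u, mul_one]
      refine Finsupp.mapDomain_of_notMem_range (c i').coeff _ ?_
      rintro ⟨k, hk⟩
      simp only [AddMonoidHom.coe_mulLeft] at hk
      have h1 := i.isLt
      have h2 := i'.isLt
      have h3 : (n : ℤ) * (k - j) = (i : ℤ) - (i' : ℤ) := by linear_combination hk
      rcases lt_trichotomy (k - j) 0 with h | h | h
      · nlinarith
      · rw [h, mul_zero] at h3; exact hne (Fin.ext (by omega))
      · nlinarith
    · simp
  refine ⟨fun i => AddMonoidAlgebra.ofCoeff (q.coeff.comapDomain (fun j : ℤ => (n : ℤ) * j + i)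
    (fun a _ b _ h => hinj (add_right_cancel h))), ?_, fun c hc => ?_⟩
  · refine LaurentPolynomial.ext fun a => ?_
    have hd : (n : ℤ) * (a / n) + a % n = a := Int.mul_ediv_add_emod a n
    have hm1 := Int.emod_nonneg a hn0
    have hm2 := Int.emod_lt_of_pos a (show (0 : ℤ) < n by omega)
    obtain ⟨i, hi⟩ : ∃ i : Fin n, (i : ℤ) = a % n :=
      ⟨⟨(a % n).toNat, by omega⟩, by simp [Int.toNat_of_nonneg hm1]⟩
    rw [← hd, ← hi]
    change _ = (∑ i' : Fin n, u _ * LaurentPolynomial.T (i' : ℤ)).coeff _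
    rw [key]
    rfl
  · funext i
    refine LaurentPolynomial.ext fun j => ?_
    change (c i).coeff j = _
    rw [← key c i j]
    exact (congrArg (fun t : A[T;T⁻¹] => t.coeff ((n : ℤ) * j + i)) hc).symm

end Groth.Agent.S5119
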