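import Groth.Statements.S5120
import Groth.Agent.H80.MonicBasis

set_option autoImplicit false
universe u
open SGA1t

namespace Groth.Agent.S5120

open Polynomial in
/-- The computation behind the exactness of the Artin-Schreier sequence 0 → Z/p → G_a → G_a → 0 in
characteristic p, i.e. faithful flatness of ℘ = id − F: Let p be a prime and A a ring of
characteristic p. Then A[t] is free of rank p over itself via the endomorphism t ↦ t − t^p, with
basis 1, t, …, t^{p−1}: every polynomial q can be written in exactly one way as Σ_{i<p} c_i(t − t^p)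
t^i. -/
theorem result (p : ℕ) [Fact p.Prime] (A : Type u) [CommRing A] [CharP A p]
    (q : A[X]) :
    ∃! c : Fin p → A[X], q = ∑ i : Fin p, aeval (X - X ^ p : A[X]) (c i) * X ^ (i : ℕ) := by
  have hp : p.Prime := Fact.out
  have : Nontrivial A := CharP.nontrivial_of_char_ne_one (R := A) hp.ne_one
  have hm : ((X : A[X]) ^ p - X).Monic := monic_X_pow_sub (by rw [degree_X]; exact_mod_cast hp.one_lt)
  have hd : ((X : A[X]) ^ p - X).natDegree = p := by
    rw [natDegree_sub_eq_left_of_natDegree_lt (by rw [natDegree_X, natDegree_X_pow]; exact hp.one_lt),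
      natDegree_X_pow]
  have key : ∀ c : A[X], aeval ((X : A[X]) ^ p - X) (c.comp (-X)) = aeval ((X : A[X]) - X ^ p) c :=
    fun c => by rw [aeval_comp]; simp
  obtain ⟨c, hc, huniq⟩ := Groth.Agent.H80.MonicBasis.existsUnique_repr hm hd hp.pos q
  refine ⟨fun i => (c i).comp (-X), ?_, fun d hd' => ?_⟩
  · rw [hc]
    refine Finset.sum_congr rfl fun i _ => ?_
    rw [← key, comp_assoc, neg_comp, X_comp, neg_neg, comp_X]
  · have := huniq (fun i => (d i).comp (-X)) (by simp only [key]; exact hd')
    funext i
    rw [← this]
    simp [comp_assoc]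

end Groth.Agent.S5120
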