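import Groth.Statements.S5125
import Groth.Agent.Lib.EtDescent.Nhd
import Groth.Agent.Lib.EtDescent.EffLocal

set_option autoImplicit false
universe u
open SGA1

namespace Groth.Agent.S5125

open AlgebraicGeometry CategoryTheory CategoryTheory.Limits in
/-- Let g : S' ⟶ S be universally submersive and of finite presentation, and D a descent datum relative
to g (functor-of-points form, for the one-member family g) whose underlying S'-scheme is etale and
of finite presentation (quasi-compact and quasi-separated) over S'. Then D is the canonical datum of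
some etale S-scheme if and only if for every point a of S the descent datum induced over Spec
O_{S,a} is the canonical datum of some etale scheme over Spec O_{S,a}. -/
theorem result {S S' : Scheme.{u}} (g : S' ⟶ S) (hg : SGA1.UnivSubmersive g)
    [LocallyOfFinitePresentation g] [QuasiCompact g] [QuasiSeparated g]
    (D : Desc.SchDDFam (fun _ : PUnit.{1} => g)) [Etale (D.obj PUnit.unit).hom]
    [QuasiCompact (D.obj PUnit.unit).hom] [QuasiSeparated (D.obj PUnit.unit).hom] :
    (∃ U : Over S, Etale U.hom ∧ Nonempty ((Desc.toDDFam (fun _ : PUnit.{1} => g)).obj U ≅ D)) ↔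
      ∀ a : S, (∃ U : Over (Spec (S.presheaf.stalk a)), Etale U.hom ∧
        Nonempty ((Desc.toDDFam (fun _ : PUnit.{1} => pullback.snd g (S.fromSpecStalk a))).obj U ≅
          (Desc.pullDDFam (f := fun _ : PUnit.{1} => g) (f' := fun _ : PUnit.{1} => pullback.snd g (S.fromSpecStalk a))
        (α := id) (p := (S.fromSpecStalk a)) (p' := fun _ => pullback.fst g (S.fromSpecStalk a)) (fun _ => pullback.condition)).obj D)) := by
  open Groth.Agent.Lib.EtDescent in
  haveI : Etale (ofFam D).obj.hom := inferInstanceAs (Etale (D.obj PUnit.unit).hom)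
  haveI : QuasiCompact (ofFam D).obj.hom := inferInstanceAs (QuasiCompact (D.obj PUnit.unit).hom)
  haveI : QuasiSeparated (ofFam D).obj.hom :=
    inferInstanceAs (QuasiSeparated (D.obj PUnit.unit).hom)
  refine (fam_effective_iff D).trans ⟨fun h a ↦ ?_, fun h ↦ ?_⟩
  · exact (fam_pull_effective_iff pullback.condition D).mpr (h.restrict _ _ _ _)
  · choose W hW hE using fun a ↦ exists_effective_nhd_of_stalk (ofFam D) hg a
      ((fam_pull_effective_iff pullback.condition D).mp (h a))
    exact effective_of_cover (ofFam D) hg W
      (top_le_iff.mp fun a _ ↦ TopologicalSpace.Opens.mem_iSup.mpr ⟨a, hW a⟩) hE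

end Groth.Agent.S5125
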