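import Groth.Statements.S5127
import Groth.Agent.Lib.EtDescent.SepEff
import Groth.Agent.Lib.EtDescent.Nhd
import Groth.Agent.S2363
import Groth.Agent.Lib.Excellent.CompletionNoetherian

set_option autoImplicit false
universe u
open SGA1

namespace Groth.Agent.S5127

open AlgebraicGeometry CategoryTheory CategoryTheory.Limits in
/-- Let S be locally Noetherian, g : S' ⟶ S universally submersive and of finite presentation, and D a
descent datum relative to g (functor-of-points form, for the one-member family g) whose underlying
S'-scheme is etale, separated and of finite presentation over S'. Then D is the canonical datum of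
some etale S-scheme if and only if, for every complete Noetherian local ring B with algebraically
closed residue field and every morphism q : Spec B ⟶ S, the descent datum induced over Spec B
(relative to S' ×_S Spec B ⟶ Spec B) is the canonical datum of some etale B-scheme. -/
theorem result {S S' : Scheme.{u}} [IsLocallyNoetherian S]
    (g : S' ⟶ S) (hg : SGA1.UnivSubmersive g) [LocallyOfFinitePresentation g] [QuasiCompact g] [QuasiSeparated g]
    (D : Desc.SchDDFam (fun _ : PUnit.{1} => g)) [Etale (D.obj PUnit.unit).hom]
    [QuasiCompact (D.obj PUnit.unit).hom] [IsSeparated (D.obj PUnit.unit).hom] :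
    (∃ U : Over S, Etale U.hom ∧ Nonempty ((Desc.toDDFam (fun _ : PUnit.{1} => g)).obj U ≅ D)) ↔ ∀ (B : Type u) [CommRing B] [IsNoetherianRing B] [IsLocalRing B]
      [IsAdicComplete (IsLocalRing.maximalIdeal B) B] [IsAlgClosed (IsLocalRing.ResidueField B)]
      (q : Spec (CommRingCat.of B) ⟶ S), (∃ U : Over (Spec (CommRingCat.of B)), Etale U.hom ∧
        Nonempty ((Desc.toDDFam (fun _ : PUnit.{1} => pullback.snd g q)).obj U ≅
          (Desc.pullDDFam (f := fun _ : PUnit.{1} => g) (f' := fun _ : PUnit.{1} => pullback.snd g q)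
        (α := id) (p := q) (p' := fun _ => pullback.fst g q) (fun _ => pullback.condition)).obj D)) := by
  open Groth.Agent.Lib.EtDescent in
  haveI : Etale (ofFam D).obj.hom := inferInstanceAs (Etale (D.obj PUnit.unit).hom)
  haveI : QuasiCompact (ofFam D).obj.hom := inferInstanceAs (QuasiCompact (D.obj PUnit.unit).hom)
  haveI : IsSeparated (ofFam D).obj.hom :=
    inferInstanceAs (IsSeparated (D.obj PUnit.unit).hom)
  refine (fam_effective_iff D).trans ?_
  refine ⟨fun h B _ _ _ _ _ t ↦ (fam_pull_effective_iff pullback.condition D).mpr (h.restrict _ _ _ _),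
    fun h ↦ ?_⟩
  have key : ∀ a : S, ∃ W : S.Opens, a ∈ W ∧ Effective (Res (ofFam D) W.ι) := fun a ↦ by
    let R := S.presheaf.stalk a
    let K := AlgebraicClosure (IsLocalRing.ResidueField R)
    obtain ⟨B₀, _, _, hN, hL, hloc, hflat, e, he⟩ := Groth.Agent.S2363.result (A := R) K
    let A := AdicCompletion (IsLocalRing.maximalIdeal B₀) B₀
    have hmax : (IsLocalRing.maximalIdeal R).map (algebraMap R B₀) = IsLocalRing.maximalIdeal B₀ :=
      IsLocalRing.eq_maximalIdeal
        (Ideal.Quotient.maximal_of_isField _ (MulEquiv.isField (Field.toIsField K) e.toMulEquiv))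
    let e' : IsLocalRing.ResidueField A ≃+* K :=
      (RingEquiv.ofBijective _ (AdicCompletion.residueField_map_bijective B₀)).symm.trans
        ((Ideal.quotEquivOfEq hmax).symm.trans e)
    haveI : IsAlgClosed (IsLocalRing.ResidueField A) := IsAlgClosed.of_ringEquiv K _ e'.symm
    haveI : Module.FaithfullyFlat R B₀ := Module.FaithfullyFlat.of_flat_of_isLocalHom
    haveI : Module.FaithfullyFlat B₀ A := Module.FaithfullyFlat.of_flat_of_isLocalHom
    let b₁ : Spec (CommRingCat.of B₀) ⟶ Spec R := Spec.map (CommRingCat.ofHom (algebraMap R B₀))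
    let b₂ : Spec (CommRingCat.of A) ⟶ Spec (CommRingCat.of B₀) :=
      Spec.map (CommRingCat.ofHom (algebraMap B₀ A))
    haveI : Flat b₁ := HasRingHomProperty.Spec_iff.mpr (RingHom.flat_algebraMap_iff.mpr inferInstance)
    haveI : Surjective b₁ := ⟨PrimeSpectrum.comap_surjective_of_faithfullyFlat⟩
    haveI : Flat b₂ := HasRingHomProperty.Spec_iff.mpr (RingHom.flat_algebraMap_iff.mpr inferInstance)
    haveI : Surjective b₂ := ⟨PrimeSpectrum.comap_surjective_of_faithfullyFlat⟩
    refine exists_effective_nhd_of_stalk (ofFam D) hg a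
      (effective_res_of_fpqc hg (ofFam D) _ (b₂ ≫ b₁) ?_)
    exact (fam_pull_effective_iff pullback.condition D).mp (h A _)
  choose W hW hE using key
  exact effective_of_cover (ofFam D) hg W
    (top_le_iff.mp fun a _ ↦ TopologicalSpace.Opens.mem_iSup.mpr ⟨a, hW a⟩) hE

end Groth.Agent.S5127
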