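import Groth.Statements.S5128
import Mathlib.AlgebraicGeometry.Morphisms.FlatMono
import Mathlib.AlgebraicGeometry.Morphisms.UniversallyInjective
import Mathlib.AlgebraicGeometry.Morphisms.FormallyUnramified

set_option autoImplicit false
universe u
open SGA1

namespace Groth.Agent.S5128

open AlgebraicGeometry CategoryTheory CategoryTheory.Limits in
/-- Let X and Y be S-schemes with Y etale over S. The map f ↦ Γ_f sending an S-morphism f : X ⟶ Y to the
subset of X ×_S Y underlying its graph is a bijection from Hom_S(X, Y) onto the set of open subsets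
Γ of X ×_S Y for which the restriction Γ → X of the first projection is radicial (universally
injective) and surjective. Stated as: the graph of every S-morphism is an open immersion, and every
such open Γ is the image of the graph of exactly one S-morphism. -/
theorem result {S X Y : Scheme.{u}} (p : X ⟶ S)
    (q : Y ⟶ S) [Etale q] :
    (∀ f : {f : X ⟶ Y // f ≫ q = p},
      IsOpenImmersion (pullback.lift (𝟙 X) f.1 ((Category.id_comp p).trans f.2.symm) : X ⟶ pullback p q)) ∧
    ∀ Γ : (pullback p q).Opens, UniversallyInjective (Γ.ι ≫ pullback.fst p q) → Surjective (Γ.ι ≫ pullback.fst p q) →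
      ∃! f : {f : X ⟶ Y // f ≫ q = p},
        Set.range (pullback.lift (𝟙 X) f.1 ((Category.id_comp p).trans f.2.symm) : X ⟶ pullback p q).base =
          (Γ : Set ↥(pullback p q)) := by
  have hopen : ∀ f : {f : X ⟶ Y // f ≫ q = p},
      IsOpenImmersion (pullback.lift (𝟙 X) f.1 ((Category.id_comp p).trans f.2.symm) : X ⟶ pullback p q) :=
    fun f ↦ by
      set t : X ⟶ pullback p q := pullback.lift (𝟙 X) f.1 ((Category.id_comp p).trans f.2.symm)
      haveI : Etale (t ≫ pullback.fst p q) := by rw [pullback.lift_fst]; infer_instance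
      haveI : Etale t := Etale.of_comp t (pullback.fst p q)
      haveI : Mono (t ≫ pullback.fst p q) := by rw [pullback.lift_fst]; infer_instance
      haveI : Mono t := mono_of_mono t (pullback.fst p q)
      exact IsOpenImmersion.of_flat_of_mono t
  refine ⟨hopen, fun Γ hinj hsurj ↦ ?_⟩
  let π : (Γ : Scheme.{u}) ⟶ X := Γ.ι ≫ pullback.fst p q
  haveI : Surjective (pullback.diagonal π) := (UniversallyInjective.iff_diagonal π).mp hinj
  haveI : IsIso (pullback.diagonal π) :=
    (isIso_iff_isOpenImmersion_and_epi_base _).mpr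
      ⟨inferInstance, (TopCat.epi_iff_surjective _).mpr (pullback.diagonal π).surjective⟩
  haveI : Mono π := (pullback.isIso_diagonal_iff π).mp inferInstance
  haveI : IsOpenImmersion π := IsOpenImmersion.of_flat_of_mono π
  haveI : IsIso π := (isIso_iff_isOpenImmersion_and_epi_base _).mpr
      ⟨inferInstance, (TopCat.epi_iff_surjective _).mpr hsurj.surj⟩
  let f : X ⟶ Y := inv π ≫ Γ.ι ≫ pullback.snd p q
  have hf : f ≫ q = p := by
    simp only [f, Category.assoc, IsIso.inv_comp_eq]
    rw [← pullback.condition]
    simp only [π, Category.assoc]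
  have hlift : (pullback.lift (𝟙 X) f ((Category.id_comp p).trans hf.symm) : X ⟶ pullback p q) =
      inv π ≫ Γ.ι := by
    refine pullback.hom_ext ?_ ?_
    · rw [pullback.lift_fst, Category.assoc, IsIso.inv_hom_id]
    · rw [pullback.lift_snd, Category.assoc]
  refine ⟨⟨f, hf⟩, ?_, fun f' hf' ↦ ?_⟩
  · change Set.range (pullback.lift (𝟙 X) f _ : X ⟶ pullback p q).base = _
    rw [hlift]
    refine Eq.trans ?_ Γ.range_ι
    rw [Scheme.Hom.comp_base, TopCat.coe_comp, Set.range_comp, (inv π).surjective.range_eq,
      Set.image_univ]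
  · apply Subtype.ext
    haveI := hopen f'
    set t := (pullback.lift (𝟙 X) f'.1 ((Category.id_comp p).trans f'.2.symm) : X ⟶ pullback p q)
    obtain ⟨l, hl⟩ : ∃ l : X ⟶ Γ, l ≫ Γ.ι = t :=
      ⟨IsOpenImmersion.lift Γ.ι t (by rw [Γ.range_ι]; exact hf'.le),
        IsOpenImmersion.lift_fac _ _ _⟩
    have hl' : l = inv π := by
      rw [← cancel_mono π, IsIso.inv_hom_id, reassoc_of% hl, pullback.lift_fst]
    have e : t ≫ pullback.snd p q = f'.1 := pullback.lift_snd _ _ _
    rw [← e, ← hl, hl', Category.assoc]

end Groth.Agent.S5128
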