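import Groth.Statements.S5129
import Groth.Agent.Lib.FEt.ConnFibres
import Groth.Agent.Lib.FEt.HenselianPair
import Mathlib.RingTheory.Henselian

set_option autoImplicit false
universe u
open Pi1

namespace Groth.Agent.S5129

open AlgebraicGeometry CategoryTheory CategoryTheory.Limits in
/-- Surjectivity of π₁(X) → π₁(Spec A), in terms of covers. Let A be a complete Noetherian local ring
with residue field k, k̄ an algebraic closure of k, ξ : Spec k̄ ⟶ Spec A the resulting geometric
point, and X a proper A-scheme with X ×_A Spec k̄ connected. Then pulling back finite etale covers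
along X ⟶ Spec A is fully faithful. -/
theorem result (A : Type u) [CommRing A]
    [IsNoetherianRing A] [IsLocalRing A] [IsAdicComplete (IsLocalRing.maximalIdeal A) A]
    {X : Scheme.{u}} (f : X ⟶ Spec (CommRingCat.of A)) [IsProper f]
    (ξ : Spec (CommRingCat.of (AlgebraicClosure (IsLocalRing.ResidueField A))) ⟶ Spec (CommRingCat.of A))
    (hξ : ξ = Spec.map (CommRingCat.ofHom ((algebraMap (IsLocalRing.ResidueField A)
      (AlgebraicClosure (IsLocalRing.ResidueField A))).comp (IsLocalRing.residue A))))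
    [ConnectedSpace ↥(pullback f ξ)] :
    (FEt.restrict f).Full ∧ (FEt.restrict f).Faithful := by
  have : HenselianRing A (IsLocalRing.maximalIdeal A) := inferInstance
  let m : (Spec (CommRingCat.of A) : Scheme.{u}) := IsLocalRing.closedPoint A
  have hpt : Groth.Agent.Lib.FEt.Fiber.point ξ = m := by
    subst hξ
    apply PrimeSpectrum.ext
    change Ideal.comap _ (IsLocalRing.closedPoint _).asIdeal = IsLocalRing.maximalIdeal A
    rw [show (IsLocalRing.closedPoint (AlgebraicClosure (IsLocalRing.ResidueField A))).asIdeal = ⊥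
      from IsLocalRing.maximalIdeal_eq_bot, ← RingHom.ker_eq_comap_bot]
    exact (RingHom.ker_comp_of_injective _ (algebraMap (IsLocalRing.ResidueField A)
      (AlgebraicClosure (IsLocalRing.ResidueField A))).injective).trans IsLocalRing.ker_residue
  have hmax : ∀ p : (Spec (CommRingCat.of A) : Scheme.{u}), IsClosed {p} → p = m := fun p hp =>
    PrimeSpectrum.ext (IsLocalRing.eq_maximalIdeal ((PrimeSpectrum.isClosed_singleton_iff_isMaximal p).mp hp))
  have hm : m ∈ Set.range f.base := by
    obtain ⟨z⟩ := (inferInstance : Nonempty ↥(pullback f ξ))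
    refine ⟨(pullback.fst f ξ).base z, ?_⟩
    change (pullback.fst f ξ ≫ f).base z = m
    rw [pullback.condition]
    exact (Groth.Agent.Lib.FEt.Fiber.base_eq_point ξ _).trans hpt
  refine Groth.Agent.Lib.FEt.FullyFaithful.full_and_faithful f (fun C hC hne => ?_) fun W C hC => ?_
  · refine ⟨m, ?_, hm⟩
    obtain ⟨p, hp⟩ := hne
    exact IsLocalRing.specializes_closedPoint (p : PrimeSpectrum A) |>.mem_closed hC.isClosed hp
  let w : W.left ⟶ Spec (CommRingCat.of A) := W.hom
  have : IsFinite w := W.prop.1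
  have : IsAffine W.left := isAffine_of_isAffineHom w
  have : CompactSpace W.left := inferInstance
  let P := pullback.fst w f
  have hclosedpts : ∀ x : W.left, IsClosed {x} → w.base x = m := fun x hx => hmax _ (by
    have := w.isClosedMap _ hx; rwa [Set.image_singleton] at this)
  have hconn : ∀ x : W.left, w.base x = m →
      _root_.IsPreconnected (P.base ⁻¹' {x}) ∧ (P.base ⁻¹' {x}).Nonempty := fun x hx => by
    obtain ⟨s, hs, hsx⟩ := Groth.Agent.Lib.FEt.Conservative.exists_lift_point ξ w x (hx.trans hpt.symm)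
    refine ⟨hsx ▸ Groth.Agent.Lib.FEt.ConnFibres.isPreconnected_fibre' f w s (hs.symm ▸ ?_), ?_⟩
    · infer_instance
    · obtain ⟨y, hy⟩ := hm
      obtain ⟨t, ht, -⟩ := Scheme.Pullback.exists_preimage_pullback (f := w) (g := f) x y (hx.trans hy.symm)
      exact ⟨t, ht⟩
  let i := pullback.fst w (Groth.Agent.Lib.FEt.HenselianPair.incl (IsLocalRing.maximalIdeal A))
  have hicl : IsClosedImmersion (Groth.Agent.Lib.FEt.HenselianPair.incl (IsLocalRing.maximalIdeal A)) :=
    IsClosedImmersion.spec_of_surjective _ Ideal.Quotient.mk_surjective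
  have hi : ∀ z, w.base (i.base z) = m := fun z => by
    have : w.base (i.base z) ∈ Set.range
        (Groth.Agent.Lib.FEt.HenselianPair.incl (IsLocalRing.maximalIdeal A)).base :=
      ⟨(pullback.snd w (Groth.Agent.Lib.FEt.HenselianPair.incl (IsLocalRing.maximalIdeal A))).base z,
        (congrArg (fun φ => φ.base z) (pullback.condition (f := w)
          (g := Groth.Agent.Lib.FEt.HenselianPair.incl (IsLocalRing.maximalIdeal A)))).symm⟩
    rw [Groth.Agent.Lib.FEt.HenselianPair.range_incl] at this
    exact PrimeSpectrum.ext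
      (((IsLocalRing.maximalIdeal.isMaximal A).eq_of_le (PrimeSpectrum.isPrime _).ne_top this).symm)
  have hfin : Finite ↥(pullback w (Groth.Agent.Lib.FEt.HenselianPair.incl (IsLocalRing.maximalIdeal A))) :=
    Set.finite_univ_iff.mp (((IsFinite.finite_preimage_singleton w m).preimage
      i.isClosedEmbedding.injective.injOn).subset fun z _ => hi z)
  have hT1 : ∀ z, IsClosed ({z} : Set ↥(pullback w
      (Groth.Agent.Lib.FEt.HenselianPair.incl (IsLocalRing.maximalIdeal A)))) := fun z => by
    obtain ⟨x, hx, hxc⟩ := (isClosed_closure (s := {i.base z})).exists_closed_singleton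
      (closure_nonempty_iff.mpr ⟨i.base z, rfl⟩)
    have := isDiscrete_iff_discreteTopology.mp (w.isDiscrete_preimage_singleton m)
    have hxz : i.base z = x := congrArg Subtype.val
      ((subtype_specializes_iff (x := (⟨i.base z, hi z⟩ : ↥(w.base ⁻¹' {m})))
        (y := ⟨x, hclosedpts x hxc⟩)).mpr (specializes_iff_mem_closure.mpr hx)).eq
    rw [← Set.preimage_image_eq {z} i.isClosedEmbedding.injective, Set.image_singleton]
    exact (hxz.symm ▸ hxc).preimage i.continuous
  have : T1Space ↥(pullback w (Groth.Agent.Lib.FEt.HenselianPair.incl (IsLocalRing.maximalIdeal A))) :=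
    ⟨hT1⟩
  obtain ⟨D, hD, hDC⟩ := Groth.Agent.Lib.FEt.HenselianPair.exists_clopen (IsLocalRing.maximalIdeal A) W
    {z | P.base ⁻¹' {i.base z} ⊆ C} (isClopen_discrete _)
  refine ⟨D, hD, ?_⟩
  by_contra hne
  let E : Set ↥(pullback w f) := (P.base ⁻¹' D \ C) ∪ (C \ P.base ⁻¹' D)
  have hE : IsClopen E :=
    ((hD.preimage P.continuous).diff hC).union (hC.diff (hD.preimage P.continuous))
  have hEne : E.Nonempty := by
    rw [Set.nonempty_iff_ne_empty]
    intro h
    rw [Set.union_empty_iff, Set.sdiff_eq_empty, Set.sdiff_eq_empty] at h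
    exact hne (h.1.antisymm h.2)
  obtain ⟨x, ⟨y, hy, hyx⟩, hxc⟩ :=
    (P.isClosedMap _ hE.isClosed).exists_closed_singleton (hEne.image _)
  have hxm := hclosedpts x hxc
  obtain ⟨q, hq⟩ : m ∈ Set.range
      (Groth.Agent.Lib.FEt.HenselianPair.incl (IsLocalRing.maximalIdeal A)).base := by
    rw [Groth.Agent.Lib.FEt.HenselianPair.range_incl]
    exact le_refl (IsLocalRing.maximalIdeal A)
  obtain ⟨z, hz, -⟩ := Scheme.Pullback.exists_preimage_pullback (f := w)
    (g := Groth.Agent.Lib.FEt.HenselianPair.incl (IsLocalRing.maximalIdeal A)) x q (hxm.trans hq.symm)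
  have hmem : x ∈ D ↔ P.base ⁻¹' {x} ⊆ C := by
    rw [← hz]
    exact Set.ext_iff.mp hDC z
  obtain ⟨hpre, hnonempty⟩ := hconn x hxm
  rcases hy with ⟨hyD, hyC⟩ | ⟨hyC, hyD⟩
  · exact hyC (hmem.mp (hyx ▸ hyD) hyx)
  · exact hyD (show P.base y ∈ D from hyx.symm ▸ hmem.mpr (hpre.subset_isClopen hC ⟨y, hyx, hyC⟩))

end Groth.Agent.S5129
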