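import Groth.Statements.S5130
import Groth.Agent.H80.Clopen.ProperBaseField
import Groth.Agent.S5117
import Groth.Agent.Lib.FEt.HenselianPair

set_option autoImplicit false
set_option backward.isDefEq.respectTransparency false
universe u
open Pi1

namespace Groth.Agent.S5130

open AlgebraicGeometry CategoryTheory CategoryTheory.Limits in
/-- Exactness in the middle of e → π₁(X ⊗ k̄) → π₁(X) → π₁(Spec A) → e, in terms of covers. Let A be a
complete Noetherian local ring with residue field k, k̄ an algebraic closure of k, ξ : Spec k̄ ⟶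
Spec A the resulting geometric point, X a proper A-scheme with X ×_A Spec k̄ connected, and X' a
connected finite etale cover of X such that the induced cover of X ×_A Spec k̄ has a section. Then
X' is isomorphic over X to the pullback of some finite etale cover of Spec A. -/
theorem result (A : Type u) [CommRing A]
    [IsNoetherianRing A] [IsLocalRing A] [IsAdicComplete (IsLocalRing.maximalIdeal A) A]
    {X : Scheme.{u}} (f : X ⟶ Spec (CommRingCat.of A)) [IsProper f]
    (ξ : Spec (CommRingCat.of (AlgebraicClosure (IsLocalRing.ResidueField A))) ⟶ Spec (CommRingCat.of A))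
    (hξ : ξ = Spec.map (CommRingCat.ofHom ((algebraMap (IsLocalRing.ResidueField A)
      (AlgebraicClosure (IsLocalRing.ResidueField A))).comp (IsLocalRing.residue A))))
    [ConnectedSpace ↥(pullback f ξ)] (X' : FEt.Cat X) [ConnectedSpace X'.left]
    (σ : pullback f ξ ⟶ X'.left) (hσ : σ ≫ X'.hom = pullback.fst f ξ) :
    ∃ T : FEt.Cat (Spec (CommRingCat.of A)), Nonempty ((FEt.restrict f).obj T ≅ X') := by
  subst hξ
  let k := IsLocalRing.ResidueField A
  let mk : Spec (CommRingCat.of k) ⟶ Spec (CommRingCat.of A) := Spec.map (CommRingCat.ofHom (IsLocalRing.residue A))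
  let gbar := Spec.map (CommRingCat.ofHom (algebraMap k (AlgebraicClosure k)))
  let i := pullback.fst f mk
  let f₀ := pullback.snd f mk
  have hIso := IsPullback.of_hasPullback f₀ gbar
  have hbig : IsPullback (pullback.fst f₀ gbar ≫ i) (pullback.snd f₀ gbar) f
      (Spec.map (CommRingCat.ofHom ((algebraMap k (AlgebraicClosure k)).comp (IsLocalRing.residue A)))) := by
    rw [CommRingCat.ofHom_comp, Spec.map_comp]
    exact hIso.paste_horiz (IsPullback.of_hasPullback f mk)
  let e := hbig.isoPullback
  have he : e.hom ≫ pullback.fst f _ = pullback.fst f₀ gbar ≫ i := hbig.isoPullback_hom_fst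
  have : ConnectedSpace ↥(pullback f₀ gbar) := e.inv.homeomorph.surjective.connectedSpace e.inv.continuous
  have : IsProper f₀ := inferInstanceAs (IsProper (pullback.snd f mk))
  have : CompactSpace ↥(pullback f mk) := QuasiCompact.compactSpace_of_compactSpace f₀
  have : QuasiSeparatedSpace ↥(pullback f mk) := quasiSeparatedSpace_of_quasiSeparated f₀
  have : HenselianRing A (IsLocalRing.maximalIdeal A) := IsAdicComplete.henselianRing A _
  let X'₀ := (FEt.restrict i).obj X'
  let σ₀ : pullback f₀ gbar ⟶ X'₀.left := pullback.lift (e.hom ≫ σ) (pullback.fst f₀ gbar) (by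
    rw [Category.assoc, hσ, he])
  have : ConnectedSpace X'₀.left := by
    have : Nonempty X'₀.left := ⟨σ₀ (Classical.arbitrary _)⟩
    have : PreconnectedSpace X'₀.left := preconnectedSpace_iff_clopen.mpr fun C hC => by
      obtain ⟨D, ⟨hD, hDC⟩, -⟩ := S17961.result A (IsLocalRing.maximalIdeal A) f X'.left X'.hom X'.prop.1 C hC
      rcases isClopen_iff.mp hD with rfl | rfl
      · left; rw [← hDC]; rfl
      · right; rw [← hDC]; rfl
    exact { toPreconnectedSpace := this, toNonempty := inferInstance }
  obtain ⟨T₀, ⟨φ⟩⟩ := S5117.result k f₀ X'₀ σ₀ (pullback.lift_snd _ _ _)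
  have hE : (FEt.restrict mk).IsEquivalence :=
    Groth.Agent.Lib.FEt.HenselianPair.isEquivalence (IsLocalRing.maximalIdeal A)
  let T := (FEt.restrict mk).objPreimage T₀
  let η : (FEt.restrict mk).obj T ≅ T₀ := (FEt.restrict mk).objObjPreimageIso T₀
  obtain ⟨hF, hF'⟩ := H80.Clopen.ProperBaseField.full_and_faithful_closedFibre f
  have : (FEt.restrict i).Full := hF
  have : (FEt.restrict i).Faithful := hF'
  let pc := fun {A B C : Scheme.{u}} (a : A ⟶ B) (b : B ⟶ C) (U : FEt.Cat C) =>
    (MorphismProperty.Over.pullbackComp (P := FEt.prop) (Q := ⊤) a b).app U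
  let ψ : (FEt.restrict i).obj ((FEt.restrict f).obj T) ≅ X'₀ :=
    (pc i f T).symm ≪≫ (MorphismProperty.Over.pullbackCongr (P := FEt.prop) (Q := ⊤)
      (pullback.condition (f := f) (g := mk))).app T ≪≫ pc f₀ mk T ≪≫ (FEt.restrict f₀).mapIso η ≪≫ φ
  exact ⟨T, ⟨(FEt.restrict i).preimageIso ψ⟩⟩

end Groth.Agent.S5130
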