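import Groth.Statements.S5131
import Groth.Agent.H34.Comparison.Rev
import Groth.Agent.H34.Comparison.Near
import Groth.Agent.H34.Stein.FiniteEtale
import Groth.Agent.H34.Stein.Finite
import Groth.Agent.H34.EtaleAt
-- import your own Groth.Agent.* helpers here

set_option autoImplicit false
universe u
open SGA1

namespace Groth.Agent.S5131

open AlgebraicGeometry CategoryTheory CategoryTheory.Limits in
/-- Let f : X ⟶ S be a proper morphism of locally Noetherian schemes with f_* O_X = O_S (the maps O_S(U)
→ O_X(f⁻¹U) are bijective), X' a scheme proper over X via g, and X' → S' → S the Stein factorisation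
of g ≫ f (S' the normalisation of S in X'), with c : X' ⟶ X ×_S S' the canonical morphism. Let s be
a point of S, s' a point of S' over s, and F'₁ the open and closed part of the fibre X'_s consisting
of the points sent to s' (a connected component of X'_s). Then c is an isomorphism over some open
neighbourhood U' of s' with U' etale over S if and only if X' is etale over X at every point of F'₁
and F'₁ is a finite etale cover of the fibre X_s which splits completely after base change to an
algebraic closure of k(s). -/
theorem result {X X' S : Scheme.{u}} [IsLocallyNoetherian S]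
    [IsLocallyNoetherian X] (f : X ⟶ S) [IsProper f] (hO : ∀ U : S.Opens, Function.Bijective (f.app U).hom)
    (g : X' ⟶ X) [IsProper g]
    (c : X' ⟶ pullback f (g ≫ f).fromNormalization)
    (hc1 : c ≫ pullback.fst f (g ≫ f).fromNormalization = g)
    (hc2 : c ≫ pullback.snd f (g ≫ f).fromNormalization = (g ≫ f).toNormalization)
    (s : S) (s' : ↥((g ≫ f).normalization)) (hs' : (g ≫ f).fromNormalization.base s' = s)
    (C : (pullback (g ≫ f) (S.fromSpecResidueField s)).Opens)
    (hC : ∀ x : ↥(pullback (g ≫ f) (S.fromSpecResidueField s)),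
      x ∈ C ↔ (g ≫ f).toNormalization.base ((pullback.fst (g ≫ f) (S.fromSpecResidueField s)).base x) = s') :
    (∃ U' : ((g ≫ f).normalization).Opens, s' ∈ U' ∧ Etale (U'.ι ≫ (g ≫ f).fromNormalization) ∧
        IsIso (c ∣_ ((pullback.snd f (g ≫ f).fromNormalization) ⁻¹ᵁ U'))) ↔
      ((∀ x : C, (pullback.fst (g ≫ f) (S.fromSpecResidueField s)).base x.1 ∈ Pi1X.etaleLocus g) ∧
        ∃ (hF : IsFinite (C.ι ≫ pullback.map (g ≫ f) (S.fromSpecResidueField s) f (S.fromSpecResidueField s) g (𝟙 _) (𝟙 S)
        (Category.comp_id _) ((Category.comp_id _).trans (Category.id_comp _).symm)))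
          (hE : Etale (C.ι ≫ pullback.map (g ≫ f) (S.fromSpecResidueField s) f (S.fromSpecResidueField s) g (𝟙 _) (𝟙 S)
        (Category.comp_id _) ((Category.comp_id _).trans (Category.id_comp _).symm))),
          Pi1.IsSplit ((FEt.restrict (pullback.fst (pullback.snd f (S.fromSpecResidueField s))
            (Spec.map (CommRingCat.ofHom (algebraMap (S.residueField s) (AlgebraicClosure (S.residueField s))))))).obj
            (MorphismProperty.Over.mk ⊤ (C.ι ≫ pullback.map (g ≫ f) (S.fromSpecResidueField s) f (S.fromSpecResidueField s) g (𝟙 _) (𝟙 S)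
        (Category.comp_id _) ((Category.comp_id _).trans (Category.id_comp _).symm)) ⟨hF, hE⟩))) := by
  haveI : IsProper (g ≫ f) := inferInstance
  haveI := Groth.Agent.H34.Stein.isFinite_fromNormalization (g ≫ f)
  constructor
  · rintro ⟨U', hs, het, hiso⟩
    exact Groth.Agent.H34.Comparison.of_isIso_near f g _ _ c hc1 hc2 s s' hs' C hC U' hs het hiso
  · rintro ⟨het, hF, hE, hsplit⟩
    haveI := Groth.Agent.H34.EtaleAt.locallyOfFinitePresentation (g ≫ f).fromNormalization
    haveI := Groth.Agent.H34.Stein.geometricallyConnected_toNormalization (g ≫ f)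
    haveI : GeometricallyConnected f := Groth.Agent.H34.Stein.geometricallyConnected f
      fun U => (ConcreteCategory.isIso_iff_bijective _).mpr (hO U)
    obtain ⟨ε, hflat, hεm, hε, hiso⟩ := Groth.Agent.H34.Comparison.exists_trivial_piece f hO g
      (g ≫ f).toNormalization (Groth.Agent.H34.Stein.push_toNormalization (g ≫ f)) _ c hc1 hc2 s s'
      hs' C hC het hF hE hsplit
    refine Groth.Agent.H34.Comparison.exists_nhd f g _ c hc1 s s' hs' (fun x hx => ?_) ε hεm hε hiso
    have hb : (g ≫ f).toNormalization x = s' := by
      rw [← hx, ← Scheme.Hom.comp_apply, hc2]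
    obtain ⟨z, hz, -⟩ := Scheme.Pullback.exists_preimage_pullback (f := g ≫ f)
      (g := S.fromSpecResidueField s) x (IsLocalRing.closedPoint (S.residueField s)) (by
        have h1 : (g ≫ f) x = (g ≫ f).fromNormalization ((g ≫ f).toNormalization x) := by
          rw [← Scheme.Hom.comp_apply, (g ≫ f).toNormalization_fromNormalization]
        rw [h1, hb]
        exact hs'.trans (S.fromSpecResidueField_apply s _).symm)
    have h2 := het ⟨z, (hC z).2 (by rw [show (pullback.fst (g ≫ f) (S.fromSpecResidueField s)).base z = x from hz]; exact hb)⟩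
    rw [← hz]
    exact h2

end Groth.Agent.S5131
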