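import Groth.Statements.S5132

import Mathlib.AlgebraicGeometry.Morphisms.QuasiCompact

set_option autoImplicit false
open CategoryTheory AlgebraicGeometry
universe u
open SGA1

open CategoryTheory CategoryTheory.Limits AlgebraicGeometry

namespace Groth.Agent.S5132

/-- Quasi-compactness of a morphism descends along a surjective and quasi-compact base change; flatness
of the base change is not needed for this property. -/
theorem result :
    MorphismProperty.DescendsAlong @QuasiCompact (@Surjective ⊓ @QuasiCompact : MorphismProperty Scheme.{u}) := by
  have : MorphismProperty.RespectsIso @QuasiCompact.{u} :=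
    MorphismProperty.IsStableUnderBaseChange.respectsIso
  refine MorphismProperty.DescendsAlong.mk' fun {X Y Z} f g _ hf h => ⟨fun U hU hc => ?_⟩
  obtain ⟨hs, hq⟩ := hf
  have hc' : IsCompact (pullback.fst f g ⁻¹' (f ⁻¹' U)) :=
    h.isCompact_preimage _ (hU.preimage f.continuous) (hq.isCompact_preimage _ hU hc)
  have : Surjective (pullback.snd f g) :=
    MorphismProperty.of_isPullback (P := @Surjective) (IsPullback.of_hasPullback f g) hs
  have := hc'.image (pullback.snd f g).continuous
  have e : pullback.snd f g '' (pullback.fst f g ⁻¹' (f ⁻¹' U)) = g ⁻¹' U := by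
    rw [← Set.preimage_comp, ← TopCat.coe_comp, ← Scheme.Hom.comp_base, pullback.condition,
      Scheme.Hom.comp_base, TopCat.coe_comp, Set.preimage_comp,
      Set.image_preimage_eq _ (pullback.snd f g).surjective]
  rwa [e] at this

end Groth.Agent.S5132
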