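import Groth.Statements.S5133
import Groth.Agent.Lib.EtDescent.IsoNhd
import Mathlib.AlgebraicGeometry.Morphisms.UniversallyOpen

set_option autoImplicit false
open CategoryTheory CategoryTheory.Limits AlgebraicGeometry
universe u
open SGA1

namespace Groth.Agent.S5133

/-- For a quasi-compact morphism f : X ⟶ Y and a flat surjective base change g : Y' ⟶ Y, with no
quasi-compactness asked of g, if the base change of f along g is a homeomorphism onto its image then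
f is a homeomorphism onto its image. -/
theorem result {X Y Y' : Scheme.{u}} (f : X ⟶ Y)
    (g : Y' ⟶ Y) [QuasiCompact f] [Flat g] [Surjective g]
    (h : Topology.IsEmbedding (pullback.snd f g).base) : Topology.IsEmbedding f.base := by
  have key : ∀ (Z : Set X), IsClosed Z → ∀ y ∈ closure (f '' Z), ∃ z ∈ Z, f z ⤳ y := by
    intro Z hZ y hy
    obtain ⟨V, hV, hyV, -⟩ := exists_isAffineOpen_mem_and_subset (U := ⊤) (x := y) trivial
    haveI : CompactSpace (f ⁻¹ᵁ V : Scheme.{u}) :=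
      isCompact_iff_compactSpace.mp (QuasiCompact.isCompact_preimage _ V.2 hV.isCompact)
    let π : (f ⁻¹ᵁ V : Scheme.{u}) ⟶ Spec Γ(Y, V) := (f ∣_ V) ≫ hV.isoSpec.hom
    have hπ : ∀ z, hV.fromSpec (π z) = f ((f ⁻¹ᵁ V).ι z) := fun z ↦ by
      rw [← Scheme.Hom.comp_apply, ← Scheme.Hom.comp_apply]
      congr 2
      simp [π, IsAffineOpen.isoSpec_hom_fromSpec, morphismRestrict_ι]
    obtain ⟨p, hp⟩ : ∃ p, hV.fromSpec p = y := hV.range_fromSpec.ge hyV
    by_contra hne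
    push Not at hne
    obtain ⟨W, hpW, hW⟩ := Groth.Agent.Lib.EtDescent.exists_nhd_forall_notMem π
      (Z := (f ⁻¹ᵁ V).ι ⁻¹' Z) (hZ.preimage (f ⁻¹ᵁ V).ι.continuous) p fun z hz hs ↦
      hne _ hz (hπ z ▸ hp ▸ hs.map hV.fromSpec.continuous)
    obtain ⟨_, hxW, x, hxZ, rfl⟩ := mem_closure_iff.mp hy (hV.fromSpec '' (W : Set _))
      (hV.fromSpec.isOpenEmbedding.isOpenMap _ W.2) ⟨p, hpW, hp⟩
    obtain ⟨w, hwW, hw⟩ := hxW
    have hxV : x ∈ f ⁻¹ᵁ V := show f x ∈ V from hw ▸ hV.range_fromSpec.le ⟨w, rfl⟩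
    obtain ⟨z, hz⟩ := (f ⁻¹ᵁ V).range_ι.ge hxV
    refine hW z (show (f ⁻¹ᵁ V).ι z ∈ Z from hz ▸ hxZ) ?_
    rwa [hV.fromSpec.isOpenEmbedding.injective ((hπ z).trans ((congrArg f hz).trans hw.symm))]
  let h := pullback.snd f g
  let a := pullback.fst f g
  have hcond : ∀ t, f (a t) = g (h t) := fun t ↦ by
    rw [← Scheme.Hom.comp_apply, ← Scheme.Hom.comp_apply, pullback.condition]
  have hinj : Function.Injective f := fun x₁ x₂ he ↦ by
    obtain ⟨y', hy'⟩ := g.surjective (f x₁)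
    obtain ⟨t₁, h₁, h₁'⟩ := Scheme.Pullback.exists_preimage_pullback (f := f) (g := g) x₁ y' hy'.symm
    obtain ⟨t₂, h₂, h₂'⟩ :=
      Scheme.Pullback.exists_preimage_pullback (f := f) (g := g) x₂ y' (he ▸ hy'.symm)
    rw [← h₁, ← h₂, ‹Topology.IsEmbedding h.base›.injective (h₁'.trans h₂'.symm)]
  refine ⟨⟨?_⟩, hinj⟩
  refine le_antisymm (continuous_iff_le_induced.mp f.continuous) ?_
  intro U hU
  refine ⟨(closure (f '' Uᶜ))ᶜ, isClosed_closure.isOpen_compl, Set.ext fun x ↦ ⟨fun hx ↦ ?_,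
    fun hxU hx ↦ ?_⟩⟩
  · by_contra hxU
    exact hx (subset_closure ⟨x, hxU, rfl⟩)
  · obtain ⟨z, hzU, hzx⟩ := key _ hU.isClosed_compl (f x) hx
    obtain ⟨y', hy'⟩ := g.surjective (f x)
    obtain ⟨y'', hy'', hgy⟩ := Flat.generalizingMap g (hy'.symm ▸ hzx)
    obtain ⟨t, ht, ht'⟩ := Scheme.Pullback.exists_preimage_pullback (f := f) (g := g) x y' hy'.symm
    obtain ⟨t', ht₁, ht₁'⟩ :=
      Scheme.Pullback.exists_preimage_pullback (f := f) (g := g) z y'' hgy.symm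
    have hs : t' ⤳ t := ‹Topology.IsEmbedding h.base›.toIsInducing.specializes_iff.mp
      (show h t' ⤳ h t by rw [ht', ht₁']; exact hy'')
    exact hzU ((ht₁ ▸ ht ▸ hs.map a.continuous : z ⤳ x).mem_open hU hxU)

end Groth.Agent.S5133
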