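import Groth.Statements.S5134
import Groth.Agent.Lib.DescAlg.FPDescent64
import Groth.Agent.Lib.DescAlg.FPPush
import Groth.Agent.Lib.QCoh.Pullback
import Mathlib.AlgebraicGeometry.Morphisms.Flat

set_option autoImplicit false
open CategoryTheory AlgebraicGeometry
universe u
open SGA1

namespace Groth.Agent.S5134

/-- For g : S' ⟶ S flat, surjective and quasi-compact and F a quasi-coherent module on S, if the
pullback of F to S' is of finite presentation then F is of finite presentation. -/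
theorem result {S S' : Scheme.{u}} (g : S' ⟶ S) [Flat g] [Surjective g] [QuasiCompact g]
    (F : S.Modules) (hF : Coh.IsQCoh F)
    (h : CohB1.IsFP ((Scheme.Modules.pullback g).obj F)) : CohB1.IsFP F := by
  classical
  open CategoryTheory CategoryTheory.Limits AlgebraicGeometry Opposite TopologicalSpace in
  have : F.IsQuasicoherent := hF
  refine Groth.Agent.Lib.Kaehler.LocalPres.isFP_of_cover fun x => ?_
  obtain ⟨V, hV, hxV, -⟩ := exists_isAffineOpen_mem_and_subset (X := S) (x := x) (U := ⊤) trivial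
  let N : ModuleCat.{u} Γ(S, V) := (Groth.Agent.Lib.QCoh.Tilde.specΓ _).obj (F.restrict hV.fromSpec)
  have hWex : ∀ y : ↥(g ⁻¹ᵁ V), ∃ (W : S'.Opens) (hW : IsAffineOpen W) (e : W ≤ g ⁻¹ᵁ V),
      (y : S') ∈ W ∧
      Module.FinitePresentation Γ(S', W) ((ModuleCat.extendScalars (g.appLE V W e).hom).obj N) := by
    intro y
    obtain ⟨W, hW, hyW, hWU⟩ := exists_isAffineOpen_mem_and_subset
      (show (y : S') ∈ g ⁻¹ᵁ V from y.2)
    have e : W ≤ g ⁻¹ᵁ V := hWU
    have := Groth.Agent.Lib.QCoh.Pullback.isQCoh_pullback g F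
    have hs := Groth.Agent.Lib.DescAlg.FPPush.finitePresentation_sections hW _ h
    obtain ⟨i⟩ := Groth.Agent.Lib.DescAlg.FPPush.exists_specΓ_equiv hW ((Scheme.Modules.pullback g).obj F)
    let j : (tilde.functor _).obj ((ModuleCat.extendScalars (g.appLE V W e).hom).obj N) ≅
        (tilde.functor _).obj (ModuleCat.of Γ(S', W) Γ((Scheme.Modules.pullback g).obj F, W)) :=
      (Groth.Agent.Lib.QCoh.Pullback.restrictPullbackTildeIso g F hV hW e).symm ≪≫
        (Groth.Agent.Lib.QCoh.Tilde.isoTildeSections _).symm ≪≫ (tilde.functor _).mapIso i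
    exact ⟨W, hW, e, hyW,
      Module.FinitePresentation.of_equiv (tilde.fullyFaithfulFunctor.preimageIso j).toLinearEquiv.symm⟩
  choose W hW e hmem hfin using hWex
  have hc : IsCompact ((g ⁻¹ᵁ V : S'.Opens) : Set S') :=
    QuasiCompact.isCompact_preimage _ V.2 hV.isCompact
  obtain ⟨t, ht⟩ := hc.elim_finite_subcover (fun y => (W y : Set S')) (fun y => (W y).2)
    (fun z hz => Set.mem_iUnion.2 ⟨⟨z, hz⟩, hmem ⟨z, hz⟩⟩)
  classical
  let k := t.card
  let c : Fin k → ↥(g ⁻¹ᵁ V) := fun a => (t.equivFin.symm a).1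
  let Rg : Fin k → Type u := fun a => Γ(S', W (c a))
  let alg : ∀ a, Algebra Γ(S, V) (Rg a) := fun a => (g.appLE V (W (c a)) (e (c a))).hom.toAlgebra
  have hflat : ∀ a, Module.Flat Γ(S, V) (Rg a) := fun a =>
    HasRingHomProperty.appLE @Flat g inferInstance ⟨V, hV⟩ ⟨W (c a), hW (c a)⟩ (e (c a))
  have hN := Groth.Agent.Lib.DescAlg.FPDescent64.finitePresentation_of_cover Rg (fun p => by
    obtain ⟨z, hz⟩ := g.surjective (hV.fromSpec p)
    have hzV : z ∈ g ⁻¹ᵁ V := by
      show g z ∈ (V : Set S)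
      rw [hz, ← hV.range_fromSpec]
      exact ⟨p, rfl⟩
    obtain ⟨y, hyt, hzy⟩ := Set.mem_iUnion₂.1 (ht hzV)
    obtain ⟨a, rfl⟩ : ∃ a, c a = y := ⟨t.equivFin ⟨y, hyt⟩, by simp [c]⟩
    obtain ⟨q, hq⟩ : z ∈ Set.range (hW (c a)).fromSpec := by
      rw [(hW (c a)).range_fromSpec]; exact hzy
    refine ⟨a, q, hV.fromSpec.isOpenEmbedding.injective ?_⟩
    show hV.fromSpec (Spec.map (g.appLE V (W (c a)) (e (c a))) q) = _
    rw [← Scheme.Hom.comp_apply, IsAffineOpen.SpecMap_appLE_fromSpec g hV (hW (c a)) (e (c a)),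
      Scheme.Hom.comp_apply, hq, hz]) N (fun a => hfin (c a))
  exact ⟨V, hV, hxV, N, hN, ⟨(Groth.Agent.Lib.QCoh.Tilde.isoTildeSections _).symm⟩⟩

end Groth.Agent.S5134
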