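import Groth.Statements.S5135


set_option autoImplicit false
universe u
open scoped TensorProduct
open SGA1

namespace Groth.Agent.S5135

/-- The affine case, in submodule form (descent of submodules, equivalently of quotient modules): for A
⟶ A' faithfully flat, M an A-module and N' an A'-submodule of A' ⊗ M whose two extensions to (A' ⊗
A') ⊗ M, along a ↦ a ⊗ 1 and a ↦ 1 ⊗ a, generate the same submodule, N' is the base change of the
submodule of M formed by the elements m with 1 ⊗ m in N'. -/
theorem result (A A' : Type u) [CommRing A] [CommRing A'] [Algebra A A']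
    [Module.FaithfullyFlat A A'] (M : Type u) [AddCommGroup M] [Module A M] (N' : Submodule A' (A' ⊗[A] M))
    (h : Submodule.span (A' ⊗[A] A')
          ((N'.restrictScalars A).map
            ((Algebra.TensorProduct.includeLeft : A' →ₐ[A] A' ⊗[A] A').toLinearMap.rTensor M) : Set ((A' ⊗[A] A') ⊗[A] M)) =
        Submodule.span (A' ⊗[A] A')
          ((N'.restrictScalars A).map
            ((Algebra.TensorProduct.includeRight : A' →ₐ[A] A' ⊗[A] A').toLinearMap.rTensor M) : Set ((A' ⊗[A] A') ⊗[A] M))) :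
    ((N'.restrictScalars A).comap (TensorProduct.mk A A' M 1)).baseChange A' = N' := by
  classical
  set M₁ := (N'.restrictScalars A).comap (TensorProduct.mk A A' M 1) with hM₁
  refine le_antisymm ?_ fun x hx ↦ ?_
  · rw [Submodule.baseChange_eq_span, Submodule.span_le]
    rintro _ ⟨m, hm, rfl⟩
    exact hm
  let Q := (A' ⊗[A] M) ⧸ N'
  let π : A' ⊗[A] M →ₗ[A] Q := N'.mkQ.restrictScalars A
  let f : M →ₗ[A] Q := π ∘ₗ TensorProduct.mk A A' M 1
  have hex : Function.Exact M₁.subtype f := fun m ↦ by
    change N'.mkQ ((1 : A') ⊗ₜ[A] m) = 0 ↔ _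
    rw [Submodule.mkQ_apply, Submodule.Quotient.mk_eq_zero]
    exact ⟨fun h ↦ ⟨⟨m, h⟩, rfl⟩, fun ⟨⟨m', hm'⟩, e⟩ ↦ e ▸ hm'⟩
  have hex' : Function.Exact (M₁.subtype.lTensor A') (f.lTensor A') :=
    Module.Flat.lTensor_exact A' hex
  suffices hfx : f.lTensor A' x = 0 by
    obtain ⟨z, hz⟩ := (hex' x).mp hfx
    exact ⟨z, by rw [LinearMap.baseChange_eq_ltensor]; exact hz⟩
  let Ψ : (A' ⊗[A] A') ⊗[A] M →ₗ[A] A' ⊗[A] Q :=
    π.lTensor A' ∘ₗ (TensorProduct.assoc A A' A' M).toLinearMap
  let iL := (Algebra.TensorProduct.includeLeft : A' →ₐ[A] A' ⊗[A] A').toLinearMap.rTensor M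
  let iR := (Algebra.TensorProduct.includeRight : A' →ₐ[A] A' ⊗[A] A').toLinearMap.rTensor M
  have hL : ∀ z, Ψ (iL z) = f.lTensor A' z := by
    intro z
    induction z using TensorProduct.induction_on with
    | zero => simp
    | tmul a m => simp [Ψ, iL, f]
    | add y z hy hz => simp only [map_add, hy, hz]
  have hR : ∀ z ∈ N', ∀ c : A' ⊗[A] A', Ψ (c • iR z) = 0 := by
    intro z hz c
    induction c using TensorProduct.induction_on with
    | zero => simp
    | add c d hc hd => rw [add_smul, map_add, hc, hd, add_zero]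
    | tmul a b =>
      have key : ∀ y, Ψ ((a ⊗ₜ[A] b) • iR y) = a ⊗ₜ[A] π (b • y) := by
        intro y
        induction y using TensorProduct.induction_on with
        | zero => simp
        | tmul b' m => simp [Ψ, iR, π, TensorProduct.smul_tmul']
        | add y z hy hz => simp only [map_add, smul_add, hy, hz, TensorProduct.tmul_add]
      rw [key, show π (b • z) = 0 from (Submodule.Quotient.mk_eq_zero N').mpr (N'.smul_mem b hz),
        TensorProduct.tmul_zero]
  rw [← hL]
  have hmem : iL x ∈ Submodule.span (A' ⊗[A] A')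
      ((N'.restrictScalars A).map iR : Set ((A' ⊗[A] A') ⊗[A] M)) :=
    h ▸ Submodule.subset_span ⟨x, hx, rfl⟩
  suffices hker : ∀ c : A' ⊗[A] A', Ψ (c • iL x) = 0 by simpa using hker 1
  refine Submodule.span_induction ?_ ?_ ?_ ?_ hmem
  · rintro _ ⟨z, hz, rfl⟩ c
    exact hR z hz c
  · intro c; simp
  · intro y z _ _ hy hz c
    rw [smul_add, map_add, hy c, hz c, add_zero]
  · intro d y _ hy c
    rw [smul_smul]
    exact hy (c * d)

end Groth.Agent.S5135
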