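import Groth.Statements.S5136

import Groth.Agent.Lib.FFDesc.SubobjDesc
import Mathlib.AlgebraicGeometry.IdealSheaf.Functorial

set_option autoImplicit false
open CategoryTheory CategoryTheory.Limits AlgebraicGeometry
universe u
open SGA1

open CategoryTheory CategoryTheory.Limits AlgebraicGeometry Groth.Agent.Lib.FFDesc.SubobjDesc

namespace Groth.Agent.S5136

theorem ker_eq_of_iso {X A B : Scheme.{u}} (a : A ⟶ X) (b : B ⟶ X) (e : A ≅ B) (h : e.hom ≫ b = a) :
    a.ker = b.ker := by
  rw [← h, Scheme.Hom.ker_comp_of_isIso]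

theorem mk_congr {X : Scheme.{u}} {I I' : X.IdealSheafData} (h : I = I') :
    Subobject.mk I.subschemeι = Subobject.mk I'.subschemeι := by subst h; rfl

theorem comap_eq_ker {X Y : Scheme.{u}} (f : X ⟶ Y) (y : Subobject Y) [IsClosedImmersion y.arrow] :
    (y.arrow.ker).comap f = ((Subobject.pullback f).obj y).arrow.ker := by
  have h := Subobject.isPullback f y
  have e1 : y.arrow.toImage ≫ y.arrow.imageι = y.arrow := Scheme.Hom.toImage_imageι _
  have h1 : IsPullback (Subobject.pullbackπ f y ≫ y.arrow.toImage) ((Subobject.pullback f).obj y).arrow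
      y.arrow.ker.subschemeι f := by
    refine h.of_iso (Iso.refl _) (asIso y.arrow.toImage) (Iso.refl _) (Iso.refl _) ?_ ?_ ?_ ?_
    · simp
    · simp
    · simpa using e1
    · simp
  rw [Scheme.IdealSheafData.comap]
  exact (ker_eq_of_iso _ _ h1.flip.isoPullback (h1.flip.isoPullback_hom_fst)).symm

/-- The existence half of the exactness of H(S) ⟶ H(S') ⇉ H(S'') for closed subschemes: for g : S' ⟶ S
flat, surjective and quasi-compact, a quasi-coherent ideal sheaf on S' whose pullbacks along the two
projections of S' ×_S S' agree is the pullback of a quasi-coherent ideal sheaf on S. (Injectivity of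
the pullback of ideal sheaves along g is the other half.) -/
theorem result {S S' : Scheme.{u}} (g : S' ⟶ S) [Flat g] [Surjective g]
    [QuasiCompact g] (J' : S'.IdealSheafData)
    (h : J'.comap (pullback.fst g g) = J'.comap (pullback.snd g g)) :
    ∃ J : S.IdealSheafData, J.comap g = J' := by
  let Y := Subobject.mk J'.subschemeι
  have hY : IsClosedImmersion Y.arrow := by
    rw [← Subobject.underlyingIso_hom_comp_eq_mk]; infer_instance
  have hk : Y.arrow.ker = J' := by
    rw [ker_eq_of_iso _ J'.subschemeι (Subobject.underlyingIso _) (Subobject.underlyingIso_hom_comp_eq_mk _),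
      J'.ker_subschemeι]
  have hst : ∀ (q : pullback g g ⟶ S'), (Subobject.pullback q).obj Y = Subobject.mk (J'.comap q).subschemeι := by
    intro q
    refine Subobject.pullback_obj_mk (f' := (J'.comapIso q).hom ≫ pullback.snd _ _) ?_
    exact (IsPullback.of_hasPullback q J'.subschemeι).flip.of_iso (J'.comapIso q).symm
      (Iso.refl _) (Iso.refl _) (Iso.refl _)
      (by rw [Iso.symm_hom, Iso.inv_hom_id_assoc, Iso.refl_hom, Category.comp_id]) (by simp) (by simp) (by simp)
  obtain ⟨y, hy, hy2⟩ := exists_closed g Y ((hst _).trans ((mk_congr h).trans (hst _).symm))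
  refine ⟨y.arrow.ker, ?_⟩
  rw [comap_eq_ker, hy2, hk]


end Groth.Agent.S5136
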