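import Groth.Statements.S5138
import Groth.Agent.Lib.SourceDescent.Scheme

set_option autoImplicit false
open CategoryTheory AlgebraicGeometry
universe u
open SGA1

namespace Groth.Agent.S5138

/-- For X ⟶ X' ⟶ Y locally of finite type over a locally Noetherian Y and a point x of X, if X ⟶ X' and
the composite X ⟶ Y are both etale near x then X' ⟶ Y is etale near the image of x; 'etale near a
point' is membership in the etale locus, the union of the opens on which the morphism is etale. (The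
published statement takes the morphisms of finite type; quasi-compactness plays no role in this
assertion about single points, so only local finiteness is assumed.) -/
theorem result {X X' Y : Scheme.{u}} (f : X ⟶ X') (g : X' ⟶ Y)
    [IsLocallyNoetherian Y] [LocallyOfFiniteType f] [LocallyOfFiniteType g] (x : X)
    (hf : x ∈ Pi1X.etaleLocus f) (hfg : x ∈ Pi1X.etaleLocus (f ≫ g)) : f.base x ∈ Pi1X.etaleLocus g := by
  obtain ⟨(U₁ : X.Opens), hU₁, hx₁⟩ := TopologicalSpace.Opens.mem_sSup.mp hf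
  obtain ⟨(U₂ : X.Opens), hU₂, hx₂⟩ := TopologicalSpace.Opens.mem_sSup.mp hfg
  haveI : Etale (U₁.ι ≫ f) := hU₁
  haveI : Etale (U₂.ι ≫ f ≫ g) := hU₂
  let W : X.Opens := U₁ ⊓ U₂
  let h : (W : Scheme.{u}) ⟶ X' := W.ι ≫ f
  haveI : Etale h := by
    have e : X.homOfLE (inf_le_left : W ≤ U₁) ≫ U₁.ι ≫ f = h := by
      rw [Scheme.homOfLE_ι_assoc]
    rw [← e]; infer_instance
  haveI : Etale (h ≫ g) := by
    have e : X.homOfLE (inf_le_right : W ≤ U₂) ≫ U₂.ι ≫ f ≫ g = h ≫ g := by
      rw [Scheme.homOfLE_ι_assoc, Category.assoc]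
    rw [← e]; infer_instance
  let V : X'.Opens := ⟨Set.range h, h.isOpenMap.isOpen_range⟩
  let h' : (W : Scheme.{u}) ⟶ V :=
    IsOpenImmersion.lift V.ι h (by rw [Scheme.Opens.range_ι]; rfl)
  have hh : h' ≫ V.ι = h := IsOpenImmersion.lift_fac _ _ _
  haveI : Etale (h' ≫ V.ι) := by rw [hh]; infer_instance
  haveI : Etale h' := Etale.of_comp h' V.ι
  haveI : Surjective h' := ⟨fun v ↦ by
    obtain ⟨w, hw⟩ := (show (V.ι v : X') ∈ Set.range h from V.range_ι.le ⟨v, rfl⟩)
    refine ⟨w, V.ι.isOpenEmbedding.injective ?_⟩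
    rw [← Scheme.Hom.comp_apply, hh]
    exact hw⟩
  refine TopologicalSpace.Opens.mem_sSup.mpr ⟨V, ?_, ⟨⟨x, hx₁, hx₂⟩, rfl⟩⟩
  exact Groth.Agent.Lib.SourceDescent.Scheme.etale.descends h' (V.ι ≫ g) inferInstance inferInstance
    (by rw [reassoc_of% hh]; infer_instance)

end Groth.Agent.S5138
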