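import Groth.Statements.S5142
import Groth.Agent.Lib.Fibred.SelfOver

set_option autoImplicit false
set_option backward.isDefEq.respectTransparency false
set_option backward.isDefEq.respectTransparency.types false
open CategoryTheory
universe u v u₂ v₂
open FibCat

namespace Groth.Agent.S5142

/-- A morphism of the fibre product 𝒳 ×_C 𝒴 of two categories over C is cartesian if and only if its two
components are cartesian (each over its image in C). The fibre product is taken as the 2-fibre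
product over C of the two structure functors, whose objects are pairs over one object of C together
with an isomorphism of C lying over an identity. -/
theorem result {C : Type u} [Category.{v} C] {𝒳 𝒴 : BasedCategory.{v₂, u₂} C}
    {x y : (FibCat.fp (FibCat.toSelf 𝒳) (FibCat.toSelf 𝒴)).obj} (φ : x ⟶ y) :
    (FibCat.fp (FibCat.toSelf 𝒳) (FibCat.toSelf 𝒴)).p.IsCartesian
        ((FibCat.fp (FibCat.toSelf 𝒳) (FibCat.toSelf 𝒴)).p.map φ) φ ↔
      𝒳.p.IsCartesian (𝒳.p.map φ.hom.fst) φ.hom.fst ∧ 𝒴.p.IsCartesian (𝒴.p.map φ.hom.snd) φ.hom.snd := by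
  have hs : (FibCat.selfOver C).p.Faithful := Groth.Agent.Lib.Fibred.SelfOver.selfOver_faithful
  have hsnd := Groth.Agent.Lib.Fibred.SelfOver.fp_isHomLift_self φ
  have hto : ∀ {R S : C} (f : R ⟶ S) {a b : 𝒴.obj} (g : a ⟶ b) [𝒴.p.IsHomLift f g],
      (𝒴.p.IsCartesian f g ↔ 𝒴.p.IsCartesian (𝒴.p.map g) g) := by
    intro R S f a b g _
    obtain rfl := IsHomLift.domain_eq 𝒴.p f g
    obtain rfl := IsHomLift.codomain_eq 𝒴.p f g
    obtain rfl := IsHomLift.eq_of_isHomLift 𝒴.p f g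
    exact Iff.rfl
  have hs2 : 𝒴.p.IsHomLift (𝒳.p.map φ.hom.fst) φ.hom.snd := hsnd
  constructor
  · intro hφ
    constructor
    · refine { universal_property := fun {c} ψ hψ => ?_ }
      have hc : 𝒳.p.obj c = 𝒳.p.obj x.obj.fst := IsHomLift.domain_eq 𝒳.p (𝒳.p.map φ.hom.fst) ψ
      let z : (FibCat.fp (FibCat.toSelf 𝒳) (FibCat.toSelf 𝒴)).obj :=
        Groth.Agent.Lib.Fibred.Fp.mkObj c x.obj.snd (eqToIso (hc.trans (Groth.Agent.Lib.Fibred.Fp.p_snd x).symm))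
          (IsHomLift.eqToHom_domain_lift_id (p := (FibCat.selfOver C).p) (hc.trans (Groth.Agent.Lib.Fibred.Fp.p_snd x).symm) rfl)
      have hw : (FibCat.toSelf 𝒳).toFunctor.map ψ ≫ y.obj.iso.hom =
          z.obj.iso.hom ≫ (FibCat.toSelf 𝒴).toFunctor.map φ.hom.snd := by
        have := Groth.Agent.Lib.Fibred.Fp.iso_isHomLift y (rfl : 𝒳.p.obj y.obj.fst = _)
        have := Groth.Agent.Lib.Fibred.Fp.iso_isHomLift z hc
        exact (FibCat.selfOver C).p.map_injective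
          (Groth.Agent.Lib.Fibred.Basic.map_eq_of_isHomLift (FibCat.selfOver C).p (𝒳.p.map φ.hom.fst) _ _)
      let ψ' : z ⟶ y := Groth.Agent.Lib.Fibred.Fp.mkHom (F := FibCat.toSelf 𝒳) (G := FibCat.toSelf 𝒴) ψ φ.hom.snd hw
      have : (FibCat.fp (FibCat.toSelf 𝒳) (FibCat.toSelf 𝒴)).p.IsHomLift
          ((FibCat.fp (FibCat.toSelf 𝒳) (FibCat.toSelf 𝒴)).p.map φ) ψ' := (Groth.Agent.Lib.Fibred.Fp.isHomLift_iff _ _).mpr hψ
      obtain ⟨χ, ⟨hχ, hχ'⟩, hu⟩ := Functor.IsCartesian.universal_property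
        (p := (FibCat.fp (FibCat.toSelf 𝒳) (FibCat.toSelf 𝒴)).p)
        (f := (FibCat.fp (FibCat.toSelf 𝒳) (FibCat.toSelf 𝒴)).p.map φ) (φ := φ) ψ'
      refine ⟨χ.hom.fst, ⟨(Groth.Agent.Lib.Fibred.Fp.isHomLift_iff _ _).mp hχ, congrArg (fun t => t.hom.fst) hχ'⟩, ?_⟩
      rintro χ' ⟨hχ'₁, hχ'₂⟩
      have hw' : (FibCat.toSelf 𝒳).toFunctor.map χ' ≫ x.obj.iso.hom =
          z.obj.iso.hom ≫ (FibCat.toSelf 𝒴).toFunctor.map (𝟙 x.obj.snd) := by
        have := Groth.Agent.Lib.Fibred.Fp.iso_isHomLift x (rfl : 𝒳.p.obj x.obj.fst = _)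
        have := Groth.Agent.Lib.Fibred.Fp.iso_isHomLift z hc
        have : 𝒴.p.IsHomLift (𝟙 (𝒳.p.obj x.obj.fst)) (𝟙 x.obj.snd) :=
          IsHomLift.id (Groth.Agent.Lib.Fibred.Fp.p_snd x)
        exact (FibCat.selfOver C).p.map_injective
          (Groth.Agent.Lib.Fibred.Basic.map_eq_of_isHomLift (FibCat.selfOver C).p (𝟙 (𝒳.p.obj x.obj.fst)) _ _)
      exact congrArg (fun t => t.hom.fst) (hu (Groth.Agent.Lib.Fibred.Fp.mkHom (F := FibCat.toSelf 𝒳) (G := FibCat.toSelf 𝒴) χ' (𝟙 _) hw')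
        ⟨(Groth.Agent.Lib.Fibred.Fp.isHomLift_iff _ _).mpr hχ'₁, Groth.Agent.Lib.Fibred.Fp.hom_ext hχ'₂ (Category.id_comp _)⟩)
    · refine (hto (𝒳.p.map φ.hom.fst) φ.hom.snd).mp ({ universal_property := fun {c} ψ hψ => ?_ })
      have hc : 𝒴.p.obj c = 𝒳.p.obj x.obj.fst := IsHomLift.domain_eq 𝒴.p (𝒳.p.map φ.hom.fst) ψ
      let z : (FibCat.fp (FibCat.toSelf 𝒳) (FibCat.toSelf 𝒴)).obj :=
        Groth.Agent.Lib.Fibred.Fp.mkObj x.obj.fst c (eqToIso hc.symm)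
          (IsHomLift.eqToHom_domain_lift_id (p := (FibCat.selfOver C).p) hc.symm rfl)
      have hw : (FibCat.toSelf 𝒳).toFunctor.map φ.hom.fst ≫ y.obj.iso.hom =
          z.obj.iso.hom ≫ (FibCat.toSelf 𝒴).toFunctor.map ψ := by
        have := Groth.Agent.Lib.Fibred.Fp.iso_isHomLift y (rfl : 𝒳.p.obj y.obj.fst = _)
        have := Groth.Agent.Lib.Fibred.Fp.iso_isHomLift z (rfl : 𝒳.p.obj x.obj.fst = _)
        exact (FibCat.selfOver C).p.map_injective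
          (Groth.Agent.Lib.Fibred.Basic.map_eq_of_isHomLift (FibCat.selfOver C).p (𝒳.p.map φ.hom.fst) _ _)
      let ψ' : z ⟶ y := Groth.Agent.Lib.Fibred.Fp.mkHom (F := FibCat.toSelf 𝒳) (G := FibCat.toSelf 𝒴) φ.hom.fst ψ hw
      have : (FibCat.fp (FibCat.toSelf 𝒳) (FibCat.toSelf 𝒴)).p.IsHomLift
          ((FibCat.fp (FibCat.toSelf 𝒳) (FibCat.toSelf 𝒴)).p.map φ) ψ' :=
        (Groth.Agent.Lib.Fibred.Fp.isHomLift_iff ψ' ((FibCat.fp (FibCat.toSelf 𝒳) (FibCat.toSelf 𝒴)).p.map φ)).mpr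
          (inferInstanceAs (𝒳.p.IsHomLift (𝒳.p.map φ.hom.fst) φ.hom.fst))
      obtain ⟨χ, ⟨hχ, hχ'⟩, hu⟩ := Functor.IsCartesian.universal_property
        (p := (FibCat.fp (FibCat.toSelf 𝒳) (FibCat.toSelf 𝒴)).p)
        (f := (FibCat.fp (FibCat.toSelf 𝒳) (FibCat.toSelf 𝒴)).p.map φ) (φ := φ) ψ'
      refine ⟨χ.hom.snd, ⟨(have := hχ; Groth.Agent.Lib.Fibred.Fp.isHomLift_snd χ ((𝟙 _) : (FibCat.fp (FibCat.toSelf 𝒳) (FibCat.toSelf 𝒴)).p.obj x ⟶ _)), congrArg (fun t => t.hom.snd) hχ'⟩, ?_⟩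
      rintro χ' ⟨hχ'₁, hχ'₂⟩
      change 𝒴.p.IsHomLift (𝟙 (𝒳.p.obj x.obj.fst)) χ' at hχ'₁
      have hw' : (FibCat.toSelf 𝒳).toFunctor.map (𝟙 x.obj.fst) ≫ x.obj.iso.hom =
          z.obj.iso.hom ≫ (FibCat.toSelf 𝒴).toFunctor.map χ' := by
        have := Groth.Agent.Lib.Fibred.Fp.iso_isHomLift x (rfl : 𝒳.p.obj x.obj.fst = _)
        have := Groth.Agent.Lib.Fibred.Fp.iso_isHomLift z (rfl : 𝒳.p.obj x.obj.fst = _)
        exact (FibCat.selfOver C).p.map_injective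
          (Groth.Agent.Lib.Fibred.Basic.map_eq_of_isHomLift (FibCat.selfOver C).p (𝟙 (𝒳.p.obj x.obj.fst)) _ _)
      exact congrArg (fun t => t.hom.snd) (hu (Groth.Agent.Lib.Fibred.Fp.mkHom (F := FibCat.toSelf 𝒳) (G := FibCat.toSelf 𝒴) (𝟙 _) χ' hw')
        ⟨(Groth.Agent.Lib.Fibred.Fp.isHomLift_iff _ _).mpr (IsHomLift.id rfl), Groth.Agent.Lib.Fibred.Fp.hom_ext (Category.id_comp _) hχ'₂⟩)
  · rintro ⟨h1, h2⟩
    have := (hto ((FibCat.fp (FibCat.toSelf 𝒳) (FibCat.toSelf 𝒴)).p.map φ) φ.hom.snd).mpr h2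
    have : 𝒳.p.IsCartesian ((FibCat.fp (FibCat.toSelf 𝒳) (FibCat.toSelf 𝒴)).p.map φ) φ.hom.fst := h1
    exact Groth.Agent.Lib.Fibred.Fp.isCartesian_of_faithful _ φ

end Groth.Agent.S5142
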