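import Groth.Statements.S5143
import Groth.Agent.Lib.Fibred.SelfOver

set_option autoImplicit false
set_option backward.isDefEq.respectTransparency false
set_option backward.isDefEq.respectTransparency.types false
open CategoryTheory
universe u v u₂ v₂
open FibCat

namespace Groth.Agent.S5143

/-- The fibre product over C of two fibred (resp. prefibred) categories over C is fibred (resp.
prefibred); fibred and prefibred are Mathlib's notions for the structure functors, and the fibre
product is the 2-fibre product over C of the two structure functors. -/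
theorem result {C : Type u} [Category.{v} C] {𝒳 𝒴 : BasedCategory.{v₂, u₂} C} :
    (𝒳.p.IsFibered → 𝒴.p.IsFibered → (FibCat.fp (FibCat.toSelf 𝒳) (FibCat.toSelf 𝒴)).p.IsFibered) ∧
      (𝒳.p.IsPreFibered → 𝒴.p.IsPreFibered → (FibCat.fp (FibCat.toSelf 𝒳) (FibCat.toSelf 𝒴)).p.IsPreFibered) := by
  have hs := Groth.Agent.Lib.Fibred.SelfOver.selfOver_grpd (C := C)
  have hs' : (FibCat.selfOver C).p.Faithful := Groth.Agent.Lib.Fibred.SelfOver.selfOver_faithful
  refine ⟨fun _ _ => Groth.Agent.Lib.Fibred.Fp.isFibered (fun f _ _ φ _ => Groth.Agent.Lib.Fibred.Basic.stronglyCartesian_of_grpd hs f _)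
    (fun f _ _ φ _ => Groth.Agent.Lib.Fibred.Basic.stronglyCartesian_of_grpd hs f _), fun _ _ => ⟨fun {z} {R} f => ?_⟩⟩
  obtain ⟨x, a, ha⟩ := IsPreFibered.exists_isCartesian 𝒳.p (rfl : 𝒳.p.obj z.obj.fst = _) f
  obtain ⟨y, b, hb⟩ := IsPreFibered.exists_isCartesian 𝒴.p (Groth.Agent.Lib.Fibred.Fp.p_snd z) f
  have := Groth.Agent.Lib.Fibred.Basic.stronglyCartesian_of_grpd hs f ((FibCat.toSelf 𝒳).toFunctor.map a)
  have := Groth.Agent.Lib.Fibred.Basic.stronglyCartesian_of_grpd hs f ((FibCat.toSelf 𝒴).toFunctor.map b)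
  obtain ⟨z', φ, h₁, h₂, e₁, e₂⟩ := Groth.Agent.Lib.Fibred.Fp.exists_lift (F := FibCat.toSelf 𝒳) (G := FibCat.toSelf 𝒴) z f a b
  subst h₁ h₂
  simp only [eqToHom_refl, Category.id_comp] at e₁ e₂
  subst e₁ e₂
  exact ⟨z', φ, Groth.Agent.Lib.Fibred.Fp.isCartesian_of_faithful f φ⟩

end Groth.Agent.S5143
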