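import Groth.Statements.S5147
import Groth.Agent.H80.Galois

set_option autoImplicit false
universe u v w
open CategoryTheory PreGaloisCategory
open Pi1

namespace Groth.Agent.S5147

open CategoryTheory.Limits in
/-- In the situation of the first assertion, the stabilizer U of a contains the normal subgroup
generated by the image of u (hence also its closure, U being open) if and only if H(X) is isomorphic
to a finite coproduct of copies of the final object of C'. -/
theorem result {C C' : Type u} [Category.{v} C] [Category.{v} C']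
    [GaloisCategory C] [GaloisCategory C'] (H : C ⥤ C') [PreservesFiniteLimits H] [PreservesFiniteColimits H]
    (F' : C' ⥤ FintypeCat.{w}) [FiberFunctor F'] [FiberFunctor (H ⋙ F')] (X : C) [IsConnected X]
    (a : (H ⋙ F').obj X) :
    Subgroup.normalClosure ((Pi1X.autWhisker H F').range : Set (Aut (H ⋙ F'))) ≤ MulAction.stabilizer (Aut (H ⋙ F')) a ↔
      ∃ n : ℕ, Nonempty (H.obj X ≅ ∐ fun _ : Fin n => ⊤_ C') := by
  open Groth.Agent.H80 in
  refine Iff.trans ?_ (Galois.trivial_action_iff_iso_sigma_terminal F' (H.obj X))
  constructor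
  · intro h σ x
    obtain ⟨g, hg⟩ := MulAction.exists_smul_eq (Aut (H ⋙ F')) a (show (H ⋙ F').obj X from x)
    have hm := h ((Subgroup.normalClosure_normal).conj_mem _
      (Subgroup.subset_normalClosure (show Pi1X.autWhisker H F' σ ∈ (Pi1X.autWhisker H F').range from ⟨σ, rfl⟩)) g⁻¹)
    rw [MulAction.mem_stabilizer_iff, inv_inv, mul_smul, mul_smul, inv_smul_eq_iff, hg] at hm
    exact hm
  · intro h
    let K : Subgroup (Aut (H ⋙ F')) := (MulAction.toPermHom (Aut (H ⋙ F')) ((H ⋙ F').obj X)).ker
    have hK : Subgroup.normalClosure ((Pi1X.autWhisker H F').range : Set (Aut (H ⋙ F'))) ≤ K := by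
      refine Subgroup.normalClosure_le_normal ?_
      rintro _ ⟨σ, rfl⟩
      exact Equiv.ext fun x => h σ x
    exact hK.trans fun g hg => Equiv.congr_fun hg a

end Groth.Agent.S5147
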