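import Groth.Statements.S5151
import Groth.Agent.Lib.Depth.Local
-- import your own Groth.Agent.* helpers here

set_option autoImplicit false
universe u
open LocCoh

namespace Groth.Agent.S5151

/-- Let A be a Noetherian ring, I an ideal and M a finite A-module with IM ≠ M. Every weakly M-regular
sequence of elements of I can be extended to a maximal one (one after which no element of I is
M-regular on the quotient), and any maximal weakly M-regular sequence of elements of I has length
equal to the I-depth of M. (The published statement does not assume IM ≠ M; without it the first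
assertion fails: over ℤ with I = (2) and M = ℤ/3 the element 2 is M-regular with M/2M = 0, after
which every element of I is regular on the zero module, so no weakly M-regular sequence of elements
of I is maximal, while the I-depth is infinite. With IM ≠ M every weakly M-regular sequence in I is
M-regular and the I-depth is finite.) -/
theorem result (A : Type u) [CommRing A] [IsNoetherianRing A] (I : Ideal A) (M : Type u) [AddCommGroup M] [Module A M] [Module.Finite A M] (hIM : I • (⊤ : Submodule A M) ≠ ⊤) : (∀ rs : List A, RingTheory.Sequence.IsWeaklyRegular M rs → (∀ r ∈ rs, r ∈ I) → ∃ rs' : List A, rs <+: rs' ∧ RingTheory.Sequence.IsWeaklyRegular M rs' ∧ (∀ r ∈ rs', r ∈ I) ∧ ∀ r ∈ I, ¬ RingTheory.Sequence.IsWeaklyRegular M (rs' ++ [r])) ∧ (∀ rs : List A, RingTheory.Sequence.IsWeaklyRegular M rs → (∀ r ∈ rs, r ∈ I) → (∀ r ∈ I, ¬ RingTheory.Sequence.IsWeaklyRegular M (rs ++ [r])) → (rs.length : ℕ∞) = LocCoh.idealDepth I M) := by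
  have hfin := Groth.Agent.Lib.Depth.Local.idealDepth_ne_top I M hIM
  constructor
  · intro rs hreg hmem
    obtain ⟨n, hn⟩ := Groth.Agent.Lib.Depth.Local.exists_nat_eq_idealDepth I M hIM
    suffices ∀ (k : ℕ) (rs : List A), RingTheory.Sequence.IsWeaklyRegular M rs →
        (∀ r ∈ rs, r ∈ I) → rs.length + k = n →
        ∃ rs' : List A, rs <+: rs' ∧ RingTheory.Sequence.IsWeaklyRegular M rs' ∧
          (∀ r ∈ rs', r ∈ I) ∧ ∀ r ∈ I, ¬ RingTheory.Sequence.IsWeaklyRegular M (rs' ++ [r]) by
      have hle := Groth.Agent.Lib.Depth.Basic.length_le_idealDepth (I := I) hreg hmem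
      rw [hn, Nat.cast_le] at hle
      exact this (n - rs.length) rs hreg hmem (by omega)
    intro k
    induction k with
    | zero =>
      intro rs hreg hmem hl
      refine ⟨rs, List.prefix_rfl, hreg, hmem, ?_⟩
      exact (Groth.Agent.Lib.Depth.Local.idealDepth_eq_length_iff hIM hmem hreg).mp
        (by rw [hn, Nat.cast_inj]; omega)
    | succ k ih =>
      intro rs hreg hmem hl
      have hne : ¬ ∀ r ∈ I, ¬ RingTheory.Sequence.IsWeaklyRegular M (rs ++ [r]) := fun hh => by
        have := (Groth.Agent.Lib.Depth.Local.idealDepth_eq_length_iff hIM hmem hreg).mpr hh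
        rw [hn, Nat.cast_inj] at this
        omega
      push Not at hne
      obtain ⟨r, hr, hreg'⟩ := hne
      obtain ⟨rs', hp, h'⟩ := ih (rs ++ [r]) hreg' (by
        simp only [List.mem_append, List.mem_singleton]
        rintro a (ha | rfl)
        exacts [hmem a ha, hr]) (by simp; omega)
      exact ⟨rs', (List.prefix_append rs [r]).trans hp, h'⟩
  · intro rs hreg hmem hmax
    exact ((Groth.Agent.Lib.Depth.Local.idealDepth_eq_length_iff hIM hmem hreg).mpr hmax).symm


end Groth.Agent.S5151
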