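import Groth.Statements.S5155
import Groth.Agent.Lib.InjHull.Complete
-- import your own Groth.Agent.* helpers here

set_option autoImplicit false
universe u
open Matlis

namespace Groth.Agent.S5155

/-- Let A be a Noetherian local ring with residue field k. An A-module E is an injective hull of k if
and only if E is injective, E is m-power torsion, and Hom_A(k, E) is simple (one-dimensional over
k). (The torsion condition is needed: for a prime p ≠ m the module E(k) ⊕ E(A/p) is injective with
Hom_A(k, −) simple, represents the same functor on modules of finite length, and is not an injective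
hull of k; the published definition of a dualizing module leaves this condition implicit and the
published proof uses it.) -/
theorem result (A : Type u) [CommRing A] [IsLocalRing A] [IsNoetherianRing A] (E : Type u) [AddCommGroup E] [Module A E] : (∃ f : IsLocalRing.ResidueField A →ₗ[A] E, InjHull.IsInjectiveHull f) ↔ (Module.Injective A E ∧ LocCoh.IsPowerTorsion (IsLocalRing.maximalIdeal A) E ∧ IsSimpleModule A (IsLocalRing.ResidueField A →ₗ[A] E)) := by
  open Groth.Agent.Lib.InjHull in
  have hk : IsSimpleModule A (IsLocalRing.ResidueField A) :=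
    Matlis.isSimpleModule_quotient (m := IsLocalRing.maximalIdeal A)
  constructor
  · rintro ⟨f, hf⟩
    exact ⟨hf.isInjective, Matlis.isPowerTorsion hf.toIsEssentialInj,
      Module.length_eq_one_iff.mp (Matlis.length_dual_simple hf _)⟩
  · rintro ⟨hinj, htor, hsimple⟩
    have := IsSimpleModule.nontrivial A (IsLocalRing.ResidueField A →ₗ[A] E)
    obtain ⟨φ, hφ⟩ := exists_ne (0 : IsLocalRing.ResidueField A →ₗ[A] E)
    have hφinj : Function.Injective φ := (LinearMap.injective_or_eq_zero φ).resolve_right hφ
    refine ⟨φ, ⟨(Basic.isEssentialInj_iff φ).mpr ⟨hφinj, fun x hx => ?_⟩, hinj⟩⟩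
    obtain ⟨r, hr0, hr⟩ := Artinian.exists_smul_mem_torsionBy htor hx
    refine ⟨r, hr0, ?_⟩
    let ψ : IsLocalRing.ResidueField A →ₗ[A] E :=
      Submodule.liftQ (IsLocalRing.maximalIdeal A) (LinearMap.toSpanSingleton A E (r • x))
        (fun d hd => by simpa using (Submodule.mem_torsionBySet_iff _ _).mp hr ⟨d, hd⟩)
    have : ψ ∈ Submodule.span A {φ} := by rw [IsSimpleModule.span_singleton_eq_top A hφ]; trivial
    obtain ⟨c, hc⟩ := Submodule.mem_span_singleton.mp this
    refine ⟨c • (IsLocalRing.residue A 1), ?_⟩
    have h1 := LinearMap.congr_fun hc (IsLocalRing.residue A 1)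
    rw [LinearMap.smul_apply] at h1
    rw [map_smul, h1]
    show LinearMap.toSpanSingleton A E (r • x) 1 = r • x
    simp


end Groth.Agent.S5155
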