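import Groth.Statements.S5157
import Groth.Agent.Lib.InjHull.Torsion
-- import your own Groth.Agent.* helpers here

set_option autoImplicit false
universe u
open Matlis

namespace Groth.Agent.S5157

/-- Let A be a Noetherian local ring, a an ideal with A/a local (i.e. a ≠ A) and E an injective hull of
the residue field of A. Then the annihilator of a in E, E[a] = {e | a e = 0}, is an injective hull
of the residue field of A/a over A/a. -/
theorem result (A : Type u) [CommRing A] [IsLocalRing A] [IsNoetherianRing A] (a : Ideal A) [IsLocalRing (A ⧸ a)] (E : Type u) [AddCommGroup E] [Module A E] (f : IsLocalRing.ResidueField A →ₗ[A] E) (hf : InjHull.IsInjectiveHull f) : ∃ g : IsLocalRing.ResidueField (A ⧸ a) →ₗ[A ⧸ a] (LocCoh.torsionBy a E), InjHull.IsInjectiveHull g := by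
  have hloc : IsLocalHom (Ideal.Quotient.mk a) := IsLocalHom.of_surjective _ Ideal.Quotient.mk_surjective
  let ρ : IsLocalRing.ResidueField A →ₗ[A] IsLocalRing.ResidueField (A ⧸ a) :=
    { toFun := IsLocalRing.ResidueField.map (Ideal.Quotient.mk a)
      map_add' := map_add _
      map_smul' := fun r x => by
        rw [RingHom.id_apply, Algebra.smul_def, Algebra.smul_def, map_mul]
        congr 1 }
  have hρ : Function.Bijective ρ := ⟨RingHom.injective _, fun y => by
    obtain ⟨y, rfl⟩ := Ideal.Quotient.mk_surjective y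
    obtain ⟨y, rfl⟩ := Ideal.Quotient.mk_surjective y
    exact ⟨IsLocalRing.residue A y, rfl⟩⟩
  let e := LinearEquiv.ofBijective ρ hρ
  have hf' : InjHull.IsInjectiveHull (f ∘ₗ e.symm.toLinearMap) :=
    ⟨Groth.Agent.Lib.InjHull.Basic.isEssentialInj_comp
      ((Groth.Agent.Lib.InjHull.Basic.isEssentialInj_iff _).mpr
        ⟨e.symm.injective, fun x hx => ⟨1, by simpa using hx, by simp⟩⟩) hf.toIsEssentialInj,
      hf.isInjective⟩
  obtain ⟨g, hg, -⟩ := Groth.Agent.Lib.InjHull.Torsion.torsionBy_isInjectiveHull a _ hf'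
  exact ⟨g, hg⟩


end Groth.Agent.S5157
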