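import Groth.Statements.S5159
import Groth.Agent.Lib.DMod.Gorenstein
import Groth.Agent.Lib.DMod.LocalDuality
import Groth.Agent.Lib.Goren.Basic
import Groth.Agent.Lib.LocalCoh.ExtCompare

set_option autoImplicit false
universe u
open CategoryTheory Opposite
open Dual

namespace Groth.Agent.S5159

/-- Let A be a regular local ring of dimension n and M an A-module of finite length. Then Ext^i_A(M, A)
= 0 for i ≠ n and length Ext^n_A(M, A) = length M (the functor Ext^n_A(−, A) is dualizing). -/
theorem result (A : Type u) [CommRing A] [IsRegularLocalRing A] (n : ℕ) (hn : ringKrullDim A = n) (M : Type u) [AddCommGroup M] [Module A M] (hM : IsFiniteLength A M) : (∀ i : ℕ, i ≠ n → Subsingleton (((Ext A (ModuleCat.{u} A) i).obj (op (ModuleCat.of A M))).obj (ModuleCat.of A A))) ∧ Module.length A (((Ext A (ModuleCat.{u} A) n).obj (op (ModuleCat.of A M))).obj (ModuleCat.of A A)) = Module.length A M := by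

  have := Groth.Agent.Lib.Goren.Basic.isGorensteinLocalRing_of_isRegular A
  obtain ⟨hω, hn'⟩ := Groth.Agent.Lib.DMod.Gorenstein.isDualizing_gorenstein_local n hn
  obtain ⟨E, _, _, f, hf⟩ := Groth.Agent.Lib.InjHull.Basic.exists_hull (R := A) (IsLocalRing.ResidueField A)
  obtain ⟨hz, ⟨e⟩⟩ := Groth.Agent.Lib.DMod.LocalDuality.finiteLength_duality hω hn' hf M hM
  refine ⟨fun i hi => ?_, ?_⟩
  · let e0 := Groth.Agent.Lib.DMod.Gorenstein.shiftExtEquiv (A := A) M (n : ℤ) ((i : ℤ) - n) i (by omega)
    let e1 := (((Groth.Agent.Lib.LocalCoh.extIso A i).app (Opposite.op (ModuleCat.of A M))).app (ModuleCat.of A A)).toLinearEquiv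
    have := hz ((i : ℤ) - n) (by omega)
    exact (e1.trans e0).toEquiv.subsingleton
  · let e0 := Groth.Agent.Lib.DMod.Gorenstein.shiftExtEquiv (A := A) M (n : ℤ) 0 n (by omega)
    let e1 := (((Groth.Agent.Lib.LocalCoh.extIso A n).app (Opposite.op (ModuleCat.of A M))).app (ModuleCat.of A A)).toLinearEquiv
    let e2 := (e1.trans e0).trans ((CategoryTheory.Linear.homCongr A (CategoryTheory.Iso.refl _)
      ((shiftFunctorZero (Dual.D A) ℤ).app _)).trans e)
    rw [e2.length_eq]
    exact Groth.Agent.Lib.InjHull.Matlis.length_dual hf hM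

end Groth.Agent.S5159
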