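import Groth.Statements.S5160
import Groth.Agent.Lib.DMod.Gorenstein
import Groth.Agent.Lib.DMod.LocalDuality
import Groth.Agent.Lib.Goren.Basic

set_option autoImplicit false
universe u
open Dual

namespace Groth.Agent.S5160

/-- Let A be a regular local ring of dimension n with maximal ideal m. Then the local cohomology module
H^n_m(A), the direct limit of the Ext^n_A(A/m^r, A), is an injective hull of the residue field (it
is the dualizing module of A). -/
theorem result (A : Type u) [CommRing A] [IsRegularLocalRing A] (n : ℕ) (hn : ringKrullDim A = n) : ∃ f : IsLocalRing.ResidueField A →ₗ[A] LocCoh.H (IsLocalRing.maximalIdeal A) n A, InjHull.IsInjectiveHull f := by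

  have := Groth.Agent.Lib.Goren.Basic.isGorensteinLocalRing_of_isRegular A
  obtain ⟨hω, hn'⟩ := Groth.Agent.Lib.DMod.Gorenstein.isDualizing_gorenstein_local n hn
  obtain ⟨E, _, _, f, hf⟩ := Groth.Agent.Lib.InjHull.Basic.exists_hull (R := A) (IsLocalRing.ResidueField A)
  obtain ⟨e⟩ := Groth.Agent.Lib.DMod.LocalDuality.nonempty_lc_equiv hω hn' hf A n
  let e0 := Groth.Agent.Lib.DMod.Gorenstein.shiftExtEquiv (A := A) A (n : ℤ) (-(n : ℤ)) 0 (by simp)
  let e1 : (Dual.inD A A ⟶ ((Dual.inD A A)⟦(n : ℤ)⟧)⟦-(n : ℤ)⟧) ≃ₗ[A] A :=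
    e0.symm.trans ((Groth.Agent.Lib.LocalCoh.e₀ (X := ModuleCat.of A A) (Y := ModuleCat.of A A)).trans
      (ModuleCat.homLinearEquiv.trans (LinearMap.ringLmapEquivSelf A A A)))
  let eE : E ≃ₗ[A] LocCoh.H (IsLocalRing.maximalIdeal A) n A :=
    (e.trans ((LinearEquiv.congrLeft E A e1).trans (LinearMap.ringLmapEquivSelf A A E))).symm
  exact ⟨eE.toLinearMap ∘ₗ f,
    { toIsEssentialInj := Groth.Agent.Lib.InjHull.Basic.isEssentialInj_of_equiv hf.toIsEssentialInj eE
      isInjective := Groth.Agent.Lib.InjHull.Basic.injective_of_equiv eE hf.isInjective }⟩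

end Groth.Agent.S5160
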