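import Groth.Statements.S5163
import Groth.Agent.Lib.Depth.Local
-- import your own Groth.Agent.* helpers here

set_option autoImplicit false
universe u
open LocCoh

namespace Groth.Agent.S5163

/-- For modules over a Noetherian ring. Let P be a finite A-module and H any A-module with Supp H ⊆ Supp
P. If Hom_A(P, H) = 0 then H = 0. (The published lemma is stated over an arbitrary prescheme; its
proof uses that a nonzero module has an associated prime, so the ring is taken Noetherian here.) -/
theorem result (A : Type u) [CommRing A] [IsNoetherianRing A] (P H : Type u) [AddCommGroup P] [Module A P] [Module.Finite A P] [AddCommGroup H] [Module A H] (hsupp : Module.support A H ⊆ Module.support A P) (hhom : Subsingleton (P →ₗ[A] H)) : Subsingleton H := by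
  by_contra hc
  rw [not_subsingleton_iff_nontrivial] at hc
  obtain ⟨q, hq⟩ := associatedPrimes.nonempty A H
  obtain ⟨hqp, m, hm⟩ := isAssociatedPrime_iff.mp hq
  let H' : Submodule A H := Submodule.span A {m}
  have : Subsingleton (P →ₗ[A] H') :=
    Function.Injective.subsingleton (f := fun f => H'.subtype ∘ₗ f) fun f g h => by
      ext x
      exact congrArg (fun φ : P →ₗ[A] H => φ x) h
  obtain ⟨x, hx, hreg⟩ := IsSMulRegular.subsingleton_linearMap_iff.mp this
  have hann : Module.annihilator A H' ≤ q := fun a ha => by
    rw [hm, Submodule.mem_colon_singleton]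
    simpa using congrArg Subtype.val
      (Module.mem_annihilator.mp ha (⟨m, Submodule.mem_span_singleton_self m⟩ : H'))
  have hmem : (⟨q, hqp⟩ : PrimeSpectrum A) ∈ Module.support A H :=
    Module.support_subset_of_injective H'.subtype H'.injective_subtype
      (Module.mem_support_iff_of_finite.mpr hann)
  have hxq : x ∈ q := Module.annihilator_le_of_mem_support (hsupp hmem) hx
  rw [hm, Submodule.mem_colon_singleton, Submodule.mem_bot] at hxq
  have h0 : m = 0 := congrArg Subtype.val (hreg.right_eq_zero_of_smul
    (x := (⟨m, Submodule.mem_span_singleton_self m⟩ : H')) (Subtype.ext hxq))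
  refine hqp.ne_top ((Ideal.eq_top_iff_one _).mpr ?_)
  rw [hm, h0, Submodule.mem_colon_singleton]; simp


end Groth.Agent.S5163
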