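import Groth.Statements.S5791
import Groth.Agent.Lib.Regular45.PDLocal

set_option autoImplicit false
universe u
open CategoryTheory
open EGA41

namespace Groth.Agent.S5791

/-- Let A be a Noetherian ring and M a finitely generated A-module. The projective dimension of M is the
supremum over the prime ideals p of the projective dimensions of M_p over A_p; equivalently, for
every n, M has projective dimension at most n if and only if every M_p has projective dimension at
most n over A_p. -/
theorem result (A : Type u) [CommRing A] [IsNoetherianRing A]
    (M : Type u) [AddCommGroup M] [Module A M] [Module.Finite A M] (n : ℕ) :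
    HasProjectiveDimensionLT (ModuleCat.of A M) (n + 1) ↔
      ∀ p : PrimeSpectrum A, HasProjectiveDimensionLT
        (ModuleCat.of (Localization.AtPrime p.asIdeal) (LocalizedModule p.asIdeal.primeCompl M)) (n + 1) := by
  refine ⟨fun h p => ?_, fun h => Groth.Agent.Lib.Regular45.PDLocal.pdle_of_localization n M h⟩
  exact Groth.Agent.Lib.Regular.PD.pdle_localization p.asIdeal.primeCompl _ n
    (LocalizedModule.mkLinearMap p.asIdeal.primeCompl M) h

end Groth.Agent.S5791
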