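import Groth.Statements.S5165
import Groth.Agent.S2677
import Groth.Agent.S5791
import Groth.Agent.S0563
import Groth.Agent.Lib.Depth.CM
-- import your own Groth.Agent.* helpers here

set_option autoImplicit false
universe u
open CategoryTheory
open LocCoh

namespace Groth.Agent.S5165

/-- Suppose A is a regular Noetherian ring and consider a finitely generated A-module M. Then some
natural number d bounds the projective dimension of M (equivalently, p ↦ proj.dim M_p stays bounded
as p ranges over Spec A, and this holds even if the Krull dimension of A is infinite). -/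
theorem result (A : Type u) [CommRing A] [IsRegularRing A] (M : Type u) [AddCommGroup M] [Module A M] [Module.Finite A M] : ∃ d : ℕ, HasProjectiveDimensionLE (ModuleCat.of A M) d := by
  let U : ℕ → Set (PrimeSpectrum A) := fun n => {p | projectiveDimension (ModuleCat.of
    (Localization.AtPrime p.asIdeal) (LocalizedModule p.asIdeal.primeCompl M)) ≤ n}
  have hU : ∀ n, IsOpen (U n) := fun n => S2677.result A M n
  have hcov : Set.univ ⊆ ⋃ n, U n := by
    intro p _
    have : IsRegularLocalRing (Localization.AtPrime p.asIdeal) :=
      IsRegularRing.isRegularLocalRing_localization p.asIdeal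
    obtain ⟨k, hk⟩ := Lib.Depth.CM.supportDim_eq_nat (R := Localization.AtPrime p.asIdeal)
      (Localization.AtPrime p.asIdeal)
    rw [Module.supportDim_self_eq_ringKrullDim] at hk
    exact Set.mem_iUnion.2 ⟨k, (projectiveDimension_le_iff _ k).2
      (S0563.result (Localization.AtPrime p.asIdeal) k hk _)⟩
  obtain ⟨s, hs⟩ := isCompact_univ.elim_finite_subcover U hU hcov
  refine ⟨s.sup id, (S5791.result A M (s.sup id)).2 fun p => ?_⟩
  obtain ⟨n, hn, hp⟩ := Set.mem_iUnion₂.1 (hs (Set.mem_univ p))
  exact (projectiveDimension_le_iff _ _).1
    ((hp : projectiveDimension _ ≤ (n : WithBot ℕ∞)).trans (by exact_mod_cast Finset.le_sup (f := id) hn))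


end Groth.Agent.S5165
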