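import Groth.Statements.S5166
import Groth.Agent.Lib.LCFin.PrimeBetween
import Groth.Agent.Lib.Depth.Assoc
import Groth.Agent.Lib.Depth.CM
-- import your own Groth.Agent.* helpers here

set_option autoImplicit false
universe u
open LocCoh

namespace Groth.Agent.S5166

/-- In its local form at a point y ∈ Y (A = O_{X,y}). Let A be a Noetherian local ring and I ≠ A an
ideal contained in no minimal prime of A. Then some prime p ⊉ I has dim A/p = 1. -/
theorem result (A : Type u) [CommRing A] [IsLocalRing A] [IsNoetherianRing A] (I : Ideal A) (hI : I ≠ ⊤) (hdense : ∀ q ∈ minimalPrimes A, ¬ I ≤ q) : ∃ p : PrimeSpectrum A, ¬ I ≤ p.asIdeal ∧ ringKrullDim (A ⧸ p.asIdeal) = 1 := by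
  classical
  have hex : ∃ p : PrimeSpectrum A, ¬ I ≤ p.asIdeal := by
    obtain ⟨q, hq⟩ := Ideal.nonempty_minimalPrimes (I := (⊥ : Ideal A)) bot_ne_top
    exact ⟨⟨q, hq.1.1⟩, hdense q hq⟩
  let S : Set (Ideal A) := {p | p.IsPrime ∧ ¬ I ≤ p}
  obtain ⟨p₀, hp₀⟩ := hex
  obtain ⟨p, hpS, hmax⟩ := exists_maximal_of_wellFoundedGT (· ∈ S) ⟨p₀.asIdeal, p₀.2, hp₀⟩
  obtain ⟨hp, hIp⟩ := hpS
  have hIm := IsLocalRing.le_maximalIdeal hI
  have hpm : p < IsLocalRing.maximalIdeal A :=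
    lt_of_le_of_ne (IsLocalRing.le_maximalIdeal hp.ne_top) fun h => hIp (h ▸ hIm)
  refine ⟨⟨p, hp⟩, hIp, ?_⟩
  obtain ⟨k, hk⟩ := Lib.Depth.CM.supportDim_eq_nat (R := A) (A ⧸ p)
  rw [Module.supportDim_quotient_eq_ringKrullDim] at hk
  rw [hk]
  have h1 := Lib.Depth.Assoc.ringKrullDim_quotient_add_one_le_of_lt hpm
  let : Field (A ⧸ IsLocalRing.maximalIdeal A) := Ideal.Quotient.field _
  rw [ringKrullDim_eq_zero_of_field, hk] at h1
  have hk1 : 0 + 1 ≤ k := by exact_mod_cast h1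
  suffices ¬ 2 ≤ k by
    exact_mod_cast congrArg (Nat.cast (R := WithBot ℕ∞)) (show k = 1 by omega)
  intro h2
  obtain ⟨a, haI, hap⟩ := SetLike.not_le_iff_exists.1 hIp
  have : IsLocalRing (A ⧸ p) := IsLocalRing.of_surjective' _ Ideal.Quotient.mk_surjective
  have hh : 1 < ((IsLocalRing.maximalIdeal A).map (Ideal.Quotient.mk p)).height := by
    rw [IsLocalRing.map_maximalIdeal_of_surjective _ Ideal.Quotient.mk_surjective]
    have h := (IsLocalRing.maximalIdeal_height_eq_ringKrullDim (R := A ⧸ p)).trans hk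
    have h' : (IsLocalRing.maximalIdeal (A ⧸ p)).height = (k : ℕ∞) := by exact_mod_cast h
    rw [h']
    exact_mod_cast h2
  obtain ⟨t, ht, hpt, htm, hat⟩ := Lib.LCFin.PrimeBetween.exists_between p _ hpm hh a hap
  exact hpt.not_ge (hmax ⟨ht, fun h => hat (h haI)⟩ hpt.le)


end Groth.Agent.S5166
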