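import Groth.Statements.S5167
import Groth.Agent.Lib.LCFin.Finite
-- import your own Groth.Agent.* helpers here

set_option autoImplicit false
universe u
open LocCoh

namespace Groth.Agent.S5167

/-- Let A be a Noetherian local ring which is a quotient of a regular local ring, m its maximal ideal, M
a finite A-module and n ≥ 0. Then H^i_m(M) is of finite length for all i ≤ n if and only if
depth(M_p) > n − dim(A/p) for every prime p ≠ m. -/
theorem result (R : Type u) [CommRing R] [IsRegularLocalRing R] (A : Type u) [CommRing A] [IsLocalRing A] [IsNoetherianRing A] (π : R →+* A) (hπ : Function.Surjective π) (M : Type u) [AddCommGroup M] [Module A M] [Module.Finite A M] (n : ℕ) : (∀ i : ℕ, i ≤ n → IsFiniteLength A (LocCoh.H (IsLocalRing.maximalIdeal A) i M)) ↔ ∀ p : PrimeSpectrum A, p.asIdeal ≠ IsLocalRing.maximalIdeal A → ∀ e : ℕ, ringKrullDim (A ⧸ p.asIdeal) = e → (n : ℕ∞) < LocCoh.depth (Localization.AtPrime p.asIdeal) (LocalizedModule p.asIdeal.primeCompl M) + e := by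
  classical
  letI : Algebra R A := π.toAlgebra
  letI : Module R M := Module.compHom M π
  haveI : IsScalarTower R A M := ⟨fun a b m => by rw [Algebra.smul_def, mul_smul]; rfl⟩
  haveI := Groth.Agent.Lib.Goren.Basic.isGorensteinLocalRing_of_isRegular R
  have key : ∀ i, IsFiniteLength A (LocCoh.H (IsLocalRing.maximalIdeal A) i M) ↔
      ∀ (p : PrimeSpectrum A), ¬ IsLocalRing.maximalIdeal A ≤ p.asIdeal → ∀ e j : ℕ,
        ringKrullDim (A ⧸ p.asIdeal) = e → j + e = i → Subsingleton (LocCoh.H
          (IsLocalRing.maximalIdeal (Localization.AtPrime p.asIdeal)) j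
          (LocalizedModule p.asIdeal.primeCompl M)) := fun i => by
    rw [Groth.Agent.Lib.LCFin.Finite.isFiniteLength_H_iff,
      Groth.Agent.Lib.LCFin.Annihilator.le_radical_iff_of_quotient (R := R) hπ M _ i]
  simp only [key]
  constructor
  · intro H p hp e he
    rcases le_or_gt e n with h | h
    · have := (Groth.Agent.Lib.Depth.LocalCoh.le_idealDepth_iff_H
        (IsLocalRing.maximalIdeal (Localization.AtPrime p.asIdeal))
        (LocalizedModule p.asIdeal.primeCompl M) (n + 1 - e)).2 fun j hj =>
          H (j + e) (by omega) p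
            (fun hle => hp (le_antisymm (IsLocalRing.le_maximalIdeal p.2.ne_top) hle)) e j he rfl
      calc (n : ℕ∞) < ((n + 1 - e : ℕ) : ℕ∞) + (e : ℕ∞) := by
            rw [← Nat.cast_add, Nat.cast_lt]; omega
        _ ≤ _ := add_le_add this le_rfl
    · calc (n : ℕ∞) < (e : ℕ∞) := by exact_mod_cast h
        _ ≤ _ := le_add_self
  · intro H i hi p hp e j he hje
    have hlt := H p (fun e => hp e.ge) e he
    have : ((j + 1 : ℕ) : ℕ∞) ≤ LocCoh.depth (Localization.AtPrime p.asIdeal)
        (LocalizedModule p.asIdeal.primeCompl M) := by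
      by_contra hc
      rw [not_le, Nat.cast_succ, ENat.lt_add_one_iff (ENat.natCast_ne_top j)] at hc
      have h2 := hlt.trans_le (add_le_add hc le_rfl)
      rw [← Nat.cast_add, Nat.cast_lt] at h2
      omega
    exact (Groth.Agent.Lib.Depth.LocalCoh.le_idealDepth_iff_H
        (IsLocalRing.maximalIdeal (Localization.AtPrime p.asIdeal))
        (LocalizedModule p.asIdeal.primeCompl M) (j + 1)).1 this j j.lt_succ_self


end Groth.Agent.S5167
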