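import Groth.Statements.S5168
import Mathlib.RingTheory.Filtration
import Mathlib.Algebra.Module.Injective
-- import your own Groth.Agent.* helpers here

set_option autoImplicit false
universe u
open InjHull

namespace Groth.Agent.S5168

/-- Let A be a Noetherian ring, J an ideal and H a J-power torsion A-module. Then H is injective if and
only if Hom_A(−, H) is exact on finite A-modules killed by a power of J, i.e. every linear map to H
from a submodule of such a module M extends to M. -/
theorem result (A : Type u) [CommRing A] [IsNoetherianRing A] (J : Ideal A) (H : Type u) [AddCommGroup H] [Module A H] (hH : LocCoh.IsPowerTorsion J H) : Module.Injective A H ↔ ∀ (M : Type u) [AddCommGroup M] [Module A M], Module.Finite A M → (∃ k : ℕ, (J ^ k) • (⊤ : Submodule A M) = ⊥) → ∀ (N : Submodule A M) (g : N →ₗ[A] H), ∃ g' : M →ₗ[A] H, g'.comp N.subtype = g := by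
  constructor
  · intro h M _ _ _ _ N g
    obtain ⟨g', hg'⟩ := h.out N.subtype N.injective_subtype g
    exact ⟨g', LinearMap.ext hg'⟩
  · intro h
    refine Module.Baer.injective fun 𝔞 g => ?_
    classical
    obtain ⟨s, hs⟩ := Module.finite_def.1 (inferInstance : Module.Finite A 𝔞)
    choose ν hν using fun x : 𝔞 => hH (g x)
    let n := s.sup ν
    have hkill : ∀ a ∈ J ^ n, ∀ x : 𝔞, a • g x = 0 := by
      intro a ha x
      have hx : x ∈ Submodule.span A (s : Set 𝔞) := by rw [hs]; trivial
      induction hx using Submodule.span_induction with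
      | mem y hy => exact hν y a (Ideal.pow_le_pow_right (Finset.le_sup hy) ha)
      | zero => simp
      | add y z _ _ h₁ h₂ => simp [h₁, h₂]
      | smul r y _ h => rw [map_smul, smul_comm, h, smul_zero]
    obtain ⟨k, hk⟩ := Ideal.exists_pow_inf_eq_pow_smul J (M := A) 𝔞
    let π : A →ₗ[A] A ⧸ J ^ (k + n) := Submodule.mkQ (J ^ (k + n))
    let p : 𝔞 →ₗ[A] (Submodule.map π 𝔞 : Submodule A (A ⧸ J ^ (k + n))) :=
      (π ∘ₗ 𝔞.subtype).codRestrict _ fun x => ⟨x.1, x.2, rfl⟩
    have hp : Function.Surjective p := by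
      rintro ⟨_, x, hx, rfl⟩
      exact ⟨⟨x, hx⟩, rfl⟩
    have hker : LinearMap.ker p ≤ LinearMap.ker g := by
      intro x hx
      have hx' : (x : A) ∈ J ^ (k + n) :=
        (Submodule.Quotient.mk_eq_zero _).1 (congrArg Subtype.val (LinearMap.mem_ker.mp hx))
      have h₁ : (x : A) ∈ J ^ (k + n) • (⊤ : Submodule A A) ⊓ 𝔞 := ⟨by simpa using hx', x.2⟩
      rw [hk (k + n) (Nat.le_add_right k n), Nat.add_sub_cancel_left] at h₁
      have h₂ : ∃ y : 𝔞, (y : A) = x ∧ g y = 0 := by
        refine Submodule.smul_induction_on h₁ (fun a ha z hz => ?_) ?_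
        · exact ⟨a • ⟨z, hz.2⟩, rfl, by rw [map_smul]; exact hkill a ha _⟩
        · rintro a b ⟨y, hy, hy'⟩ ⟨z, hz, hz'⟩
          exact ⟨y + z, by simp [hy, hz], by simp [hy', hz']⟩
      obtain ⟨y, hy, hy'⟩ := h₂
      rwa [Subtype.ext hy] at hy'
    let g₁ := ((LinearMap.ker p).liftQ g hker) ∘ₗ (p.quotKerEquivOfSurjective hp).symm.toLinearMap
    have hg₁ : ∀ x, g₁ (p x) = g x := fun x => by
      show ((LinearMap.ker p).liftQ g hker) ((p.quotKerEquivOfSurjective hp).symm (p x)) = g x
      rw [show (p.quotKerEquivOfSurjective hp).symm (p x) = Submodule.Quotient.mk x from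
        (LinearEquiv.symm_apply_eq _).mpr rfl]
      rfl
    obtain ⟨g₂, hg₂⟩ := h (A ⧸ J ^ (k + n)) inferInstance ⟨k + n, by
      rw [eq_bot_iff]
      refine Submodule.smul_le.mpr fun a ha m _ => ?_
      obtain ⟨m, rfl⟩ := Submodule.Quotient.mk_surjective _ m
      rw [← Submodule.Quotient.mk_smul, Submodule.mem_bot, Submodule.Quotient.mk_eq_zero]
      exact Ideal.mul_mem_right _ _ ha⟩ _ g₁
    refine ⟨g₂ ∘ₗ π, fun x hx => ?_⟩
    exact (LinearMap.congr_fun hg₂ (p ⟨x, hx⟩)).trans (hg₁ ⟨x, hx⟩)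


end Groth.Agent.S5168
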