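import Groth.Statements.S5171
import Groth.Agent.Lib.Depth.LocalCoh
-- import your own Groth.Agent.* helpers here

set_option autoImplicit false
universe u
open LocCoh

namespace Groth.Agent.S5171

/-- Let A be a Noetherian ring, J an ideal, n ≥ 0 and G a finite Cohen–Macaulay A-module (each
localization G_p is zero or Cohen–Macaulay). Then H^i_J(G) = 0 for i < n if and only if codim(V(J) ∩
Supp G, Supp G) ≥ n, i.e. dim Supp(G_p) ≥ n for every p ∈ V(J) ∩ Supp G. -/
theorem result (A : Type u) [CommRing A] [IsNoetherianRing A] (J : Ideal A) (G : Type u) [AddCommGroup G] [Module A G] [Module.Finite A G] (hCM : ∀ p : PrimeSpectrum A, Subsingleton (LocalizedModule p.asIdeal.primeCompl G) ∨ LocCoh.IsCohenMacaulayModule (Localization.AtPrime p.asIdeal) (LocalizedModule p.asIdeal.primeCompl G)) (n : ℕ) : (∀ i : ℕ, i < n → Subsingleton (LocCoh.H J i G)) ↔ ∀ p : PrimeSpectrum A, J ≤ p.asIdeal → p ∈ Module.support A G → (n : WithBot ℕ∞) ≤ Module.supportDim (Localization.AtPrime p.asIdeal) (LocalizedModule p.asIdeal.primeCompl G) := by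
  rw [← Groth.Agent.Lib.Depth.LocalCoh.le_idealDepth_iff_H J G n,
    Groth.Agent.Lib.Depth.Local.idealDepth_eq_iInf J G, le_iInf₂_iff]
  refine ⟨fun h p hp hpG => ?_, fun h p hp => ?_⟩
  · have := Module.mem_support_iff.1 hpG
    rcases hCM p with hs | hc
    · exact absurd hs (not_subsingleton _)
    · rw [show Module.supportDim (Localization.AtPrime p.asIdeal)
        (LocalizedModule p.asIdeal.primeCompl G) = _ from hc]
      exact WithBot.coe_le_coe.2 (h p hp)
  · by_cases hpG : p ∈ Module.support A G
    · have := Module.mem_support_iff.1 hpG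
      rcases hCM p with hs | hc
      · exact absurd hs (not_subsingleton _)
      · exact WithBot.coe_le_coe.1 ((h p hp hpG).trans (le_of_eq hc))
    · have := Module.notMem_support_iff.1 hpG
      rw [LocCoh.depth, Groth.Agent.Lib.Depth.Basic.idealDepth_of_smul_top_eq (Subsingleton.elim _ _)]
      exact le_top


end Groth.Agent.S5171
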