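import Groth.Statements.S5175
import Groth.Agent.Lib.InjHull.Recognize
import Groth.Agent.Lib.InjHull.Coextend
import Groth.Agent.Lib.LocalCoh.Torsion
import Mathlib.RingTheory.SimpleModule.InjectiveProjective
-- import your own Groth.Agent.* helpers here

set_option autoImplicit false
universe u
open Matlis

namespace Groth.Agent.S5175

/-- Let k₀ be a field and A a Noetherian local k₀-algebra with [k : k₀] finite, k the residue field.
Then the topological dual A' = colim_n Hom_{k₀}(A/m^n, k₀), i.e. the submodule of Hom_{k₀}(A, k₀) of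
forms killing some power of m (A acting through the source), is an injective hull of k (it is the
dualizing module of A). -/
theorem result (k₀ : Type u) [Field k₀] (A : Type u) [CommRing A] [IsLocalRing A] [IsNoetherianRing A] [Algebra k₀ A] [Module.Finite k₀ (A ⧸ IsLocalRing.maximalIdeal A)] : ∃ f : IsLocalRing.ResidueField A →ₗ[A] ↥(⨆ n : ℕ, Submodule.torsionBySet A ((ModuleCat.coextendScalars (algebraMap k₀ A)).obj (ModuleCat.of k₀ k₀)) ((IsLocalRing.maximalIdeal A ^ n : Ideal A) : Set A)), InjHull.IsInjectiveHull f := by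
  classical
  set m := IsLocalRing.maximalIdeal A with hm
  let C := Groth.Agent.Lib.InjHull.Coextend.Coext k₀ A k₀
  have hT : (⨆ n : ℕ, Submodule.torsionBySet A C ((m ^ n : Ideal A) : Set A)) = DRing.torsionSub m C := by
    refine le_antisymm (iSup_le fun n x hx => ⟨n, fun a ha =>
      (Submodule.mem_torsionBySet_iff _ _).mp hx ⟨a, ha⟩⟩) fun x hx => ?_
    obtain ⟨n, hn⟩ := hx
    exact le_iSup (fun n : ℕ => Submodule.torsionBySet A C ((m ^ n : Ideal A) : Set A)) n
      ((Submodule.mem_torsionBySet_iff _ _).mpr fun a => hn a.1 a.2)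
  suffices h : ∃ f : IsLocalRing.ResidueField A →ₗ[A] DRing.torsionSub m C, InjHull.IsInjectiveHull f by
    convert h
  haveI : Module.Injective k₀ k₀ := Module.injective_of_isSemisimpleRing k₀ k₀
  haveI : Module.Injective A C := Groth.Agent.Lib.InjHull.Coextend.injective_coext
  obtain ⟨lam, hlam⟩ := Module.Projective.exists_dual_ne_zero k₀ (x := (1 : A ⧸ m)) one_ne_zero
  letI : Field (A ⧸ m) := Ideal.Quotient.field m
  let T : (A ⧸ m) →ₗ[k₀] ((A ⧸ m) →ₗ[k₀] k₀) :=
    (LinearMap.llcomp k₀ _ _ _ lam).comp (LinearMap.mul k₀ (A ⧸ m))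
  have hTinj : Function.Injective T := (injective_iff_map_eq_zero T).mpr fun c hc => by
    by_contra h0
    apply hlam
    have := LinearMap.congr_fun hc c⁻¹
    simpa [T, mul_inv_cancel₀ h0] using this
  have hTsurj : Function.Surjective T :=
    (LinearMap.injective_iff_surjective_of_finrank_eq_finrank Subspace.dual_finrank_eq.symm).mp hTinj
  let φ0 : C := Groth.Agent.Lib.InjHull.Coextend.ofHom (lam ∘ₗ (Ideal.Quotient.mkₐ k₀ m).toLinearMap)
  have hkill : ∀ c ∈ m, c • φ0 = 0 := fun c hc =>
    Groth.Agent.Lib.InjHull.Coextend.toHom_injective (LinearMap.ext fun b => by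
      show lam (Ideal.Quotient.mk m (b * c)) = 0
      rw [Ideal.Quotient.eq_zero_iff_mem.mpr (Ideal.mul_mem_left _ _ hc), map_zero])
  have hφmem : φ0 ∈ DRing.torsionSub m C := ⟨1, fun a ha => hkill a (by rwa [pow_one] at ha)⟩
  let g : (A ⧸ m) →ₗ[A] DRing.torsionSub m C :=
    Submodule.liftQ m (LinearMap.toSpanSingleton A _ ⟨φ0, hφmem⟩) fun c hc =>
      Subtype.ext (hkill c hc)
  have hgapp : ∀ c b : A, Groth.Agent.Lib.InjHull.Coextend.toHom ((g (Ideal.Quotient.mk m c)).1) b =
      lam (Ideal.Quotient.mk m (b * c)) := fun _ _ => rfl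
  have hginj : Function.Injective g := (injective_iff_map_eq_zero g).mpr fun c hc => by
    obtain ⟨c, rfl⟩ := Ideal.Quotient.mk_surjective c
    refine hTinj ?_
    rw [map_zero]
    refine LinearMap.ext fun b => ?_
    obtain ⟨b, rfl⟩ := Ideal.Quotient.mk_surjective b
    have h1 := hgapp c b
    rw [hc] at h1
    show lam (Ideal.Quotient.mk m c * Ideal.Quotient.mk m b) = 0
    rw [← map_mul, mul_comm, ← h1]
    rfl
  refine ⟨g, ⟨Groth.Agent.Lib.InjHull.Recognize.isEssentialInj_of_socle_le (a := m) hginj ?_ ?_,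
    Groth.Agent.Lib.LocalCoh.injective_torsionSub m C⟩⟩
  · rintro ⟨x, k, hk⟩
    exact ⟨k, fun a ha => Subtype.ext (hk a ha)⟩
  · rintro x hx
    let ψ : (A ⧸ m) →ₗ[k₀] k₀ :=
      Submodule.liftQ (m.restrictScalars k₀) (Groth.Agent.Lib.InjHull.Coextend.toHom x.1) fun c hc => by
        have h0 : c • x.1 = 0 :=
          congrArg Subtype.val ((Submodule.mem_torsionBySet_iff _ _).mp hx ⟨c, hc⟩)
        have h1 : Groth.Agent.Lib.InjHull.Coextend.toHom (c • x.1) 1 = 0 := by
          rw [h0, Groth.Agent.Lib.InjHull.Coextend.toHom_zero, LinearMap.zero_apply]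
        rw [Groth.Agent.Lib.InjHull.Coextend.toHom_smul, one_mul] at h1
        exact h1
    obtain ⟨c, hc⟩ := hTsurj ψ
    obtain ⟨c, rfl⟩ := Ideal.Quotient.mk_surjective c
    refine ⟨Ideal.Quotient.mk m c, Subtype.ext
      (Groth.Agent.Lib.InjHull.Coextend.toHom_injective (LinearMap.ext fun b => ?_))⟩
    show lam (Ideal.Quotient.mk m (b * c)) = _
    rw [mul_comm, map_mul]
    exact LinearMap.congr_fun hc (Ideal.Quotient.mk m b)


end Groth.Agent.S5175
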