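import Groth.Statements.S5178
import Groth.Agent.H26.CIQuotient


set_option autoImplicit false
universe u
open CInt

namespace Groth.Agent.S5178

/-- Let A be a Noetherian local ring of dimension d, and let the completion of A be presented as B/I
with B a regular local ring of dimension e and I an ideal whose minimal number of generators is q,
so that e − q is the geometric depth of A (this number does not depend on the presentation). Then e
− q ≤ d, and equality holds if and only if A is a complete intersection, i.e. its completion is a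
regular local ring modulo an ideal generated by a regular sequence. -/
theorem result (A : Type u) [CommRing A] [IsLocalRing A] [IsNoetherianRing A] (B : Type u) [CommRing B] [IsRegularLocalRing B] (I : Ideal B) (hpres : Nonempty (AdicCompletion (IsLocalRing.maximalIdeal A) A ≃+* B ⧸ I)) (d e : ℕ) (hd : ringKrullDim A = (d : WithBot ℕ∞)) (he : ringKrullDim B = (e : WithBot ℕ∞)) : (e : ℤ) - (I.spanFinrank : ℤ) ≤ (d : ℤ) ∧ ((e : ℤ) - (I.spanFinrank : ℤ) = (d : ℤ) ↔ Pi1.IsCompleteIntersection A) := by
  obtain ⟨e'⟩ := hpres
  have hne : IsLocalRing.maximalIdeal A ≠ ⊤ := Ideal.IsPrime.ne_top'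
  have := Groth.Agent.Lib.Regular.Completion.isLocalRing (IsLocalRing.maximalIdeal A) hne
  have hdq : ringKrullDim (B ⧸ I) = (d : WithBot ℕ∞) := by
    rw [← ringKrullDim_eq_of_ringEquiv e', Groth.Agent.Lib.Regular.Completion.ringKrullDim_eq _ hne, hd]
  have hI : I ≠ ⊤ := fun h => by
    have : Subsingleton (B ⧸ I) := Ideal.Quotient.subsingleton_iff.mpr h
    exact not_subsingleton (AdicCompletion (IsLocalRing.maximalIdeal A) A) e'.injective.subsingleton
  have hIm := IsLocalRing.le_maximalIdeal hI
  have hle : e ≤ d + I.spanFinrank := by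
    have := ringKrullDim_le_ringKrullDim_add_spanFinrank hI
    rw [hdq, he] at this
    exact_mod_cast this
  refine ⟨by omega, fun heq => ?_, fun hci => ?_⟩
  · obtain ⟨rs, hrs, hlen⟩ := Groth.Agent.H26.CIQuotient.exists_list_spanFinrank I I.fg_of_isNoetherianRing
    have := Groth.Agent.Lib.JacCrit.FlatRegular.isCohenMacaulayLocalRing B
    have hmem : ∀ r ∈ rs, r ∈ IsLocalRing.maximalIdeal B := fun r hr =>
      hIm (hrs.le (Ideal.subset_span hr))
    have hreg : RingTheory.Sequence.IsRegular B rs := by
      refine Groth.Agent.H20.CMRegular.isRegular_of_ringKrullDim_le rs hmem ?_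
      rw [hrs, hdq, hlen, he]
      exact_mod_cast (show d + I.spanFinrank ≤ e by omega)
    exact ⟨B, inferInstance, inferInstance, rs, hmem, hreg, ⟨e'.trans (Ideal.quotEquivOfEq hrs.symm)⟩⟩
  · obtain ⟨B', _, _, rs, hmem, hreg, ⟨e''⟩⟩ := hci
    obtain ⟨n, hn, -⟩ := Groth.Agent.Lib.Regular.Quotient.exists_dim_eq (R := B')
    have h1 := Groth.Agent.H26.CIInvariant.spanFinrank_add_eq I (Ideal.ofList rs) hIm
      (Ideal.span_le.mpr hmem) (e'.symm.trans e'') he hn
    have h2 := Groth.Agent.H26.CIQuotient.spanFinrank_ofList_le rs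
    have h3 := ringKrullDim_add_length_eq_ringKrullDim_of_isRegular rs hreg
    rw [show ringKrullDim (B' ⧸ Ideal.ofList rs) = (d : WithBot ℕ∞) by
      rw [← hdq]; exact ringKrullDim_eq_of_ringEquiv (e''.symm.trans e'), hn] at h3
    have h4 : d + rs.length = n := by exact_mod_cast h3
    omega

end Groth.Agent.S5178
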