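import Groth.Statements.S5182
import Mathlib.RingTheory.Regular.RegularSequence
import Mathlib.RingTheory.Filtration


set_option autoImplicit false
universe u
open CInt

namespace Groth.Agent.S5182

open Pointwise RingTheory.Sequence

theorem of_exact {A : Type u} [CommRing A] {fs : List A} :
    ∀ {M' M M'' : Type u} [AddCommGroup M'] [Module A M'] [AddCommGroup M] [Module A M]
      [AddCommGroup M''] [Module A M''] (i : M' →ₗ[A] M) (p : M →ₗ[A] M''),
      Function.Injective i → Function.Surjective p → Function.Exact i p →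
      IsWeaklyRegular M' fs → IsWeaklyRegular M'' fs → IsWeaklyRegular M fs := by
  induction fs with
  | nil => intros; exact .nil A _
  | cons r rs ih =>
    intro M' M M'' _ _ _ _ _ _ i p hi hp hex h' h''
    rw [isWeaklyRegular_cons_iff] at h' h'' ⊢
    have hr : ∀ x : M, r • x = 0 → x = 0 := fun x hx => by
      have h0 : p x = 0 := h''.1 (show r • p x = r • (0 : _) by rw [← map_smul, hx, map_zero, smul_zero])
      obtain ⟨y, rfl⟩ := (hex x).mp h0
      rw [← map_smul] at hx
      rw [h'.1 (show r • y = r • (0 : _) by rw [hi (hx.trans (map_zero i).symm), smul_zero]), map_zero]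
    refine ⟨fun x y hxy => sub_eq_zero.mp (hr _ (by rw [smul_sub, sub_eq_zero]; exact hxy)), ?_⟩
    refine ih (QuotSMulTop.map r i) (QuotSMulTop.map r p) ?_ (QuotSMulTop.map_surjective r hp)
      (QuotSMulTop.map_exact r hex hp) h'.2 h''.2
    rw [injective_iff_map_eq_zero]
    intro z hz
    obtain ⟨x, rfl⟩ := Submodule.Quotient.mk_surjective _ z
    rw [QuotSMulTop.map_apply_mk, Submodule.Quotient.mk_eq_zero,
      Submodule.mem_smul_pointwise_iff_exists] at hz
    obtain ⟨y, -, hy⟩ := hz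
    have h0 : p y = 0 := h''.1 (show r • p y = r • (0 : _) by
      rw [← map_smul, hy, hex.apply_apply_eq_zero, smul_zero])
    obtain ⟨x', rfl⟩ := (hex y).mp h0
    rw [← map_smul] at hy
    rw [Submodule.Quotient.mk_eq_zero, Submodule.mem_smul_pointwise_iff_exists]
    exact ⟨x', trivial, hi hy⟩

variable {A : Type u} [CommRing A] (J : Ideal A)

theorem mem_smul_top_iff {k n : ℕ} (z : ↥(J ^ k)) :
    z ∈ J ^ n • (⊤ : Submodule A ↥(J ^ k)) ↔ (z : A) ∈ J ^ (k + n) := by
  rw [Submodule.mem_smul_top_iff, smul_eq_mul, ← pow_add, add_comm]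

theorem mem_smul_top_iff_one {k : ℕ} (z : ↥(J ^ k)) :
    z ∈ J • (⊤ : Submodule A ↥(J ^ k)) ↔ (z : A) ∈ J ^ (k + 1) := by
  have := mem_smul_top_iff J (n := 1) z
  rwa [pow_one] at this

theorem regular_gr {fs : List A} (hreg : IsWeaklyRegular (A ⧸ J) fs)
    (hflat : ∀ k : ℕ, Module.Flat (A ⧸ J) (↥(J ^ k) ⧸ (J • (⊤ : Submodule A ↥(J ^ k))))) (k : ℕ) :
    IsWeaklyRegular (↥(J ^ k) ⧸ (J • (⊤ : Submodule A ↥(J ^ k)))) fs := by
  let G := ↥(J ^ k) ⧸ (J • (⊤ : Submodule A ↥(J ^ k)))
  have := hflat k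
  have h1 : IsWeaklyRegular (A ⧸ J) (fs.map (algebraMap A (A ⧸ J))) :=
    (isWeaklyRegular_map_algebraMap_iff (A ⧸ J) (A ⧸ J) fs).mpr hreg
  have h2 := h1.isWeaklyRegular_lTensor (M₂ := G)
  rw [(TensorProduct.rid (A ⧸ J) G).isWeaklyRegular_congr,
    isWeaklyRegular_map_algebraMap_iff] at h2
  exact h2

theorem regular_quot {fs : List A} (hreg : IsWeaklyRegular (A ⧸ J) fs)
    (hflat : ∀ k : ℕ, Module.Flat (A ⧸ J) (↥(J ^ k) ⧸ (J • (⊤ : Submodule A ↥(J ^ k))))) (k n : ℕ) :
    IsWeaklyRegular (↥(J ^ k) ⧸ (J ^ n • (⊤ : Submodule A ↥(J ^ k)))) fs := by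
  induction n with
  | zero =>
    refine ⟨fun i hi x y _ => ?_⟩
    have : Subsingleton (↥(J ^ k) ⧸ (J ^ 0 • (⊤ : Submodule A ↥(J ^ k)))) :=
      Submodule.Quotient.subsingleton_iff.mpr (by rw [pow_zero, Ideal.one_eq_top, Submodule.top_smul])
    exact Subsingleton.elim x y
  | succ n ih =>
    let j : ↥(J ^ (k + n)) →ₗ[A] ↥(J ^ k) :=
      Submodule.inclusion (Ideal.pow_le_pow_right (Nat.le_add_right k n))
    let i := Submodule.mapQ (J • (⊤ : Submodule A ↥(J ^ (k + n))))
      (J ^ (n + 1) • (⊤ : Submodule A ↥(J ^ k))) j fun z hz => by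
        rw [Submodule.mem_comap, mem_smul_top_iff, ← add_assoc]
        exact (mem_smul_top_iff_one J z).mp hz
    let p := Submodule.mapQ (J ^ (n + 1) • (⊤ : Submodule A ↥(J ^ k)))
      (J ^ n • (⊤ : Submodule A ↥(J ^ k))) LinearMap.id
      (Submodule.smul_mono_left (Ideal.pow_le_pow_right n.le_succ))
    refine of_exact i p ?_ ?_ ?_ (regular_gr J hreg hflat (k + n)) ih
    · rw [injective_iff_map_eq_zero]
      intro q hq
      obtain ⟨z, rfl⟩ := Submodule.Quotient.mk_surjective _ q
      rw [Submodule.mapQ_apply, Submodule.Quotient.mk_eq_zero, mem_smul_top_iff, ← add_assoc] at hq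
      rw [Submodule.Quotient.mk_eq_zero, mem_smul_top_iff_one]
      exact hq
    · intro q
      obtain ⟨z, rfl⟩ := Submodule.Quotient.mk_surjective _ q
      exact ⟨Submodule.Quotient.mk z, rfl⟩
    · intro q
      obtain ⟨z, rfl⟩ := Submodule.Quotient.mk_surjective _ q
      rw [Submodule.mapQ_apply, Submodule.Quotient.mk_eq_zero]
      constructor
      · intro hz
        exact ⟨Submodule.Quotient.mk ⟨z.1, (mem_smul_top_iff J z).mp hz⟩, rfl⟩
      · rintro ⟨w, hw⟩
        obtain ⟨w, rfl⟩ := Submodule.Quotient.mk_surjective _ w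
        rw [Submodule.mapQ_apply, Submodule.Quotient.eq, mem_smul_top_iff] at hw
        show LinearMap.id z ∈ _
        rw [mem_smul_top_iff]
        have : ((j w - z : ↥(J ^ k)) : A) ∈ J ^ (k + n) := Ideal.pow_le_pow_right (by omega) hw
        have := sub_mem w.2 this
        simpa [j] using this

/-- In the local algebraic form to which its proof reduces. Let A be a Noetherian local ring, J a proper
ideal such that A is normally flat along J, i.e. every J^k/J^{k+1} is a flat (equivalently free)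
A/J-module, and f_1, …, f_r elements of A whose images form a weakly regular sequence on A/J (each
f_i a non-zero-divisor on A/J modulo the preceding ones). Then for every k ≥ 0 the f_i form a weakly
regular sequence on the A-module J^k and on the A-module J^k/J^{k+1}; in particular (k = 0) on A
itself, so that they are regular on the Rees algebra ⊕ J^k and on the associated graded ring ⊕
J^k/J^{k+1}. -/
theorem result (A : Type u) [CommRing A] [IsLocalRing A] [IsNoetherianRing A] (J : Ideal A) (hJ : J ≠ ⊤) (hflat : ∀ k : ℕ, Module.Flat (A ⧸ J) (↥(J ^ k) ⧸ (J • (⊤ : Submodule A ↥(J ^ k))))) (fs : List A) (hreg : RingTheory.Sequence.IsWeaklyRegular (A ⧸ J) fs) (k : ℕ) : RingTheory.Sequence.IsWeaklyRegular (↥(J ^ k)) fs ∧ RingTheory.Sequence.IsWeaklyRegular (↥(J ^ k) ⧸ (J • (⊤ : Submodule A ↥(J ^ k)))) fs := by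
  refine ⟨?_, regular_gr J hreg hflat k⟩
  refine ⟨fun i hi => ?_⟩
  rw [isSMulRegular_quotient_iff_mem_of_smul_mem]
  intro m hm
  set F := Ideal.ofList (fs.take i) • (⊤ : Submodule A ↥(J ^ k)) with hF
  rw [← Submodule.Quotient.mk_eq_zero, ← Submodule.mem_bot A,
    ← Ideal.iInf_pow_smul_eq_bot_of_isLocalRing (R := A) (M := ↥(J ^ k) ⧸ F) J hJ,
    Submodule.mem_iInf]
  intro n
  let π := (J ^ n • (⊤ : Submodule A ↥(J ^ k))).mkQ
  have hmap : ∀ I : Ideal A, (I • (⊤ : Submodule A ↥(J ^ k))).map π = I • ⊤ := fun I => by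
    rw [Submodule.map_smul'', Submodule.map_top, Submodule.range_mkQ]
  have hq := (regular_quot J hreg hflat k n).regular_mod_prev i hi
  rw [isSMulRegular_quotient_iff_mem_of_smul_mem] at hq
  have h1 := hq (π m) (by rw [← map_smul, ← hmap]; exact Submodule.mem_map_of_mem hm)
  rw [← hmap, ← hF] at h1
  obtain ⟨w, hw, hwm⟩ := h1
  have h2 : m - w ∈ J ^ n • (⊤ : Submodule A ↥(J ^ k)) := (Submodule.Quotient.eq _).mp hwm.symm
  have h3 : (Submodule.Quotient.mk m : ↥(J ^ k) ⧸ F) = F.mkQ (m - w) := by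
    rw [map_sub, Submodule.mkQ_apply, Submodule.mkQ_apply, (Submodule.Quotient.mk_eq_zero F).mpr hw, sub_zero]
  rw [h3, ← Submodule.range_mkQ F, ← Submodule.map_top, ← Submodule.map_smul'']
  exact Submodule.mem_map_of_mem h2

end Groth.Agent.S5182
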