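import Groth.Statements.S5188
import Groth.Agent.S14333
import Groth.Agent.Lib.ProjCI.Dict
import Groth.Agent.Lib.ProjCI.Factor
import Groth.Agent.Lib.ProjCoh.SerreDual
import Groth.Agent.Lib.Ample.GG
import Groth.Agent.Lib.Ample.Pullback
import Groth.Agent.Lib.Ample.RelAmple
import Groth.Agent.Lib.Cyc.CH.Line
-- import your own Groth.Agent.* helpers here

set_option autoImplicit false
universe u
open CategoryTheory CategoryTheory.Limits AlgebraicGeometry
open LefX

open Groth.Agent.Lib Groth.Agent.Lib.TensorMod Groth.Agent.Lib.TensorMod.Basic Groth.Agent.Lib.TensorMod.Gen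
open Groth.Agent.Lib.TensorMod.Dual Groth.Agent.Lib.TensorMod.HomGlue Groth.Agent.Lib.TensorMod.Pullback
open Groth.Agent.Lib.Ample Groth.Agent.Lib.Ample.GenLocus Groth.Agent.Lib.TensorMod.Free
open Groth.Agent.Lib.TensorMod.LocIso Groth.Agent.Lib.Ample.Pullback Groth.Agent.Lib.Ample.Pow Groth.Agent.Lib.Ample.RelAmple
open TopologicalSpace MvPolynomial

noncomputable section

namespace Groth.Agent.S5188

section General

variable {X : Scheme.{u}}

/-- Restriction of functions, as a ring map. -/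
abbrev rfHom {U V : X.Opens} (h : V ≤ U) : Γ(X, U) →+* Γ(X, V) := (X.presheaf.map (homOfLE h).op).hom

/-- A morphism killing generators is zero. -/
theorem hom_eq_zero_of_gens {M N : X.Modules} (φ : M ⟶ N)
    (h : ∀ x : X, ∃ (W : X.Opens) (e : Γ(M, W)), x ∈ W ∧ IsGen M W e ∧ φ.app W e = 0) : φ = 0 := by
  choose W e hx he h0 using h
  ext U σ
  refine TopCat.Sheaf.eq_of_locally_eq' ⟨N.presheaf, N.isSheaf⟩ (fun x : U => U ⊓ W x.1) U
    (fun x => homOfLE inf_le_left) (fun x hxU => Opens.mem_iSup.2 ⟨⟨x, hxU⟩, hxU, hx x⟩) _ _ fun x => ?_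
  obtain ⟨c, hc⟩ := exists_coord ((he x.1).res (inf_le_right : U ⊓ W x.1 ≤ W x.1)) (rs M inf_le_left σ)
  have h1 : rs N (inf_le_left : U ⊓ W x.1 ≤ U) (φ.app U σ) = 0 := by
    rw [rs_app φ, hc, Scheme.Modules.Hom.app_smul, ← rs_app φ, h0]
    exact (congrArg (c • ·) (map_zero (N.presheaf.map (homOfLE (inf_le_right : U ⊓ W x.1 ≤ W x.1)).op).hom)).trans (smul_zero c)
  exact h1.trans (map_zero (N.presheaf.map (homOfLE (inf_le_left : U ⊓ W x.1 ≤ U)).op).hom).symm

/-- A family of sections generating at every point gives an epimorphism. -/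
theorem epi_desc {M : X.Modules} {c : ℕ} (s : Fin c → (Coh.structureModule X ⟶ M))
    (h : ∀ x : X, ∃ α, x ∈ CohB1.genLocus M (s α)) : Epi (Sigma.desc s) := by
  refine Preadditive.epi_of_cancel_zero _ fun {H} f hf => ?_
  refine hom_eq_zero_of_gens f fun x => ?_
  obtain ⟨α, hα⟩ := h x
  obtain ⟨W, hxW, hW⟩ := (mem_genLocus_iff _).1 hα
  refine ⟨W, _, hxW, hW, ?_⟩
  have h1 := congrArg (fun t => Sigma.ι (fun _ : Fin c => Coh.structureModule X) α ≫ t) hf
  simp only [Sigma.ι_desc_assoc, comp_zero] at h1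
  rw [← sv_comp, h1]
  rfl

/-- Finitely many generating sections. -/
theorem exists_gens [CompactSpace X] {M : X.Modules} (hM : PicF.IsInvertible M) (h : ∀ x, GG.GenAt M x) :
    ∃ (c : ℕ) (s : Fin c → (Coh.structureModule X ⟶ M)), ∀ x : X, ∃ α, x ∈ CohB1.genLocus M (s α) := by
  choose s hs using fun x => GG.exists_genLocus_of_genAt hM (h x)
  obtain ⟨T, hT⟩ := isCompact_univ.elim_finite_subcover (fun x => (CohB1.genLocus M (s x) : Set X))
    (fun x => Opens.isOpen _) fun x _ => Set.mem_iUnion.2 ⟨x, hs x⟩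
  refine ⟨T.card, fun α => s (T.equivFin.symm α).1, fun x => ?_⟩
  obtain ⟨y, hy, hxy⟩ := Set.mem_iUnion₂.1 (hT (Set.mem_univ x))
  exact ⟨T.equivFin ⟨y, hy⟩, by simpa using hxy⟩

theorem tmap_tmul {M M' N N' : X.Modules} (a : M ⟶ M') (b : N ⟶ N') {U : X.Opens} (m : Γ(M, U)) (n : Γ(N, U)) :
    (tmap a b).app U (SecTwist.tmul M N U m n) = SecTwist.tmul M' N' U (a.app U m) (b.app U n) := by
  rw [← pairM_id, ← pairM_comp, Category.id_comp, pairM_tmap, pairM_id]

/-- Maps `P → O'` detecting every point, from generators of `P' ⊗ O'`. -/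
theorem exists_duals [CompactSpace X] {P P' N : X.Modules} (hP : PicF.IsInvertible P)
    (hP' : PicF.IsInvertible P') (e₀ : CohB1.tensorMod P P' ≅ Coh.structureModule X)
    (hN : PicF.IsInvertible N) (h : ∀ x, GG.GenAt (CohB1.tensorMod P' N) x) :
    ∃ (c : ℕ) (d : Fin c → (P ⟶ N)), ∀ x : X, ∃ (β : Fin c) (W : X.Opens) (e : Γ(P, W)),
      x ∈ W ∧ IsGen P W e ∧ IsGen N W ((d β).app W e) := by
  obtain ⟨c, u, hu⟩ := exists_gens (Invertible.isInvertible_tensorMod hP' hN) h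
  let I : CohB1.tensorMod P (CohB1.tensorMod P' N) ≅ N :=
    (assoc P P' N).symm ≪≫ tensorIso e₀ (Iso.refl N) ≪≫ leftUnit N
  refine ⟨c, fun β => (rightUnit P).inv ≫ tmap (𝟙 P) (u β) ≫ I.hom, fun x => ?_⟩
  obtain ⟨β, hβ⟩ := hu x
  obtain ⟨W₁, hx₁, hW₁⟩ := (mem_genLocus_iff _).1 hβ
  obtain ⟨W₂, e₂, hx₂, he₂⟩ := isInvertible_iff.1 hP x
  let W := W₁ ⊓ W₂
  have he : IsGen P W (rs P inf_le_right e₂) := he₂.res _
  have hu' : IsGen _ W (sv (u β) W) := rs_sv (u β) (inf_le_left : W ≤ W₁) ▸ hW₁.res _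
  let t : Γ(CohB1.tensorMod P (Coh.structureModule X), W) :=
    SecTwist.tmul P (Coh.structureModule X) W (rs P inf_le_right e₂) (one X W)
  refine ⟨β, W, (rightUnit P).hom.app W t, ⟨hx₁, hx₂⟩,
    isGen_of_isIso_over (isIso_over_of_iso (rightUnit P) W) (isGen_tmul he (isGen_one W)), ?_⟩
  have h1 : (rightUnit P).inv.app W ((rightUnit P).hom.app W t) = t :=
    congrArg (fun φ => φ.app W t) (rightUnit P).hom_inv_id
  change IsGen N W (I.hom.app W ((tmap (𝟙 P) (u β)).app W ((rightUnit P).inv.app W ((rightUnit P).hom.app W t))))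
  rw [h1, tmap_tmul]
  exact isGen_of_isIso_over (isIso_over_of_iso I W) (isGen_tmul he hu')

end General

section CI

variable {k : Type u} [Field k] {n r : ℕ} {a : Fin r → ℕ} {G : ∀ j : Fin r, LefPen.Form n k (a j)}

variable (G) in
/-- `O_X(c)`. -/
abbrev O (c : ℤ) : ((LefPen.ciIdeal G).subscheme).Modules := (pb (LefPen.ciIdeal G).subschemeι).obj (ProjCoh.Sections.TS n k c)

variable (G) in
/-- The chart of `X`. -/
abbrev V (i : Fin (n + 1)) : ((LefPen.ciIdeal G).subscheme).Opens := (LefPen.ciIdeal G).subschemeι ⁻¹ᵁ LefPen.chart n k i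

variable (G) in
/-- The generator of `O_X(c)` on a chart. -/
abbrev gX (c : ℤ) (i : Fin (n + 1)) : Γ(O G c, V G i) := unitSec (LefPen.ciIdeal G).subschemeι _ (ProjCI.Dict.g c i)

variable (G) in
/-- The function of a form on a chart. -/
abbrev fn {d : ℕ} (F : LefPen.Form n k d) (i : Fin (n + 1)) : Γ((LefPen.ciIdeal G).subscheme, V G i) :=
  ((LefPen.ciIdeal G).subschemeι).app (LefPen.chart n k i) (LefPen.dehom F i)

variable (G) in
theorem isGen_gX (c : ℤ) (i : Fin (n + 1)) : IsGen (O G c) (V G i) (gX G c i) :=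
  isGen_unitSec (LefPen.ciIdeal G).subschemeι (ProjCI.Dict.isGen_g c i)

variable (G) in
theorem rs_unitSec_sec {d : ℕ} (F : LefPen.Form n k d) (i : Fin (n + 1)) :
    rs (O G d) le_top (unitSec (LefPen.ciIdeal G).subschemeι _ (ProjCI.Dict.sec F)) = fn G F i • gX G d i := by
  refine (unitSec_rs (LefPen.ciIdeal G).subschemeι (le_top : LefPen.chart n k i ≤ ⊤) _).trans ?_
  rw [ProjCI.Dict.rs_sec]
  exact unitSec_smul (LefPen.ciIdeal G).subschemeι _ _

theorem exists_chartX (x : (LefPen.ciIdeal G).subscheme) : ∃ i, x ∈ V G i := ProjCI.Cone.exists_chart ((LefPen.ciIdeal G).subschemeι x)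

theorem isInvertible_O (c : ℤ) : PicF.IsInvertible (O G c) :=
  PicLoc.isInvertible_pullback (LefPen.ciIdeal G).subschemeι (TensorMod.Invertible.isInvertible_of_iso (ProjCoh.Coherent.twIso c) (ProjCoh.Coherent.isInvertible_tw c))

/-- `O_X(e) ≇ O_X` for `e < 0`. -/
theorem not_iso_neg (hreg : ProjCI.Cone.Reg G) (hr : r + 1 ≤ n) [Nonempty (LefPen.ciIdeal G).subscheme] {e : ℤ} (he : e < 0) :
    IsEmpty ((Scheme.Modules.pullback (LefPen.ciIdeal G).subschemeι).obj (Twist.twistProjSpace n k e) ≅ Coh.structureModule (LefPen.ciIdeal G).subscheme) := by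
  refine ⟨fun i => ?_⟩
  haveI : IsLocallyNoetherian (LefPen.ciIdeal G).subscheme := LocallyOfFiniteType.isLocallyNoetherian (LefPen.ciIdeal G).subschemeι
  haveI : ((Scheme.Modules.pullback (LefPen.ciIdeal G).subschemeι).obj (Twist.twistProjSpace n k e)).IsQuasicoherent :=
    (Cyc.FP.Stalk.isCoh_pullback (LefPen.ciIdeal G).subschemeι (ProjCoh.Coherent.isCoh_tw e)).1
  letI : ((LefPen.ciIdeal G).subscheme).Over (Spec (CommRingCat.of k)) := ⟨(LefPen.ciIdeal G).subschemeι ≫ CohB1.ProjSpace.toSpec n k⟩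
  obtain ⟨ee, -⟩ := ProjCI.Ident.exists_iso hreg e
  haveI := ProjCoh.SerreDual.subsingleton_HH_zero_neg (n := n) (R := k) (by omega) he
  have h1 : Subsingleton (Coh.HH (CohB1.ProjSpace n k) (ProjCI.Tilde.T (ProjCI.Cone.full G) 0 e) 0) := by
    haveI := (Curves.LES.isoK k (ProjCI.Tilde.botIso (k := k) (n := n) e) 0).symm.injective.subsingleton
    exact (ProjCI.Cohom.surjective_full hreg (by omega) e).subsingleton
  haveI := h1
  haveI := (Curves.LES.isoK k ee 0).injective.subsingleton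
  haveI h2 := (ZarCoh.Morph.affineEquiv (LefPen.ciIdeal G).subschemeι ((Scheme.Modules.pullback (LefPen.ciIdeal G).subschemeι).obj (Twist.twistProjSpace n k e)) 0).symm.injective.subsingleton
  haveI h3 : Subsingleton (Coh.HH (LefPen.ciIdeal G).subscheme (Coh.structureModule (LefPen.ciIdeal G).subscheme) 0) := (Curves.LES.isoK k i 0).symm.injective.subsingleton
  haveI h4 : Subsingleton Γ(Coh.structureModule (LefPen.ciIdeal G).subscheme, ⊤) :=
    (Curves.GlobalSections.h0Equiv (Coh.structureModule (LefPen.ciIdeal G).subscheme)).symm.injective.subsingleton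
  haveI : Nonempty (⊤ : ((LefPen.ciIdeal G).subscheme).Opens) := ⟨⟨Classical.arbitrary _, trivial⟩⟩
  haveI : Nontrivial Γ((LefPen.ciIdeal G).subscheme, ⊤) := inferInstance
  exact one_ne_zero (α := Γ((LefPen.ciIdeal G).subscheme, ⊤)) (Subsingleton.elim (α := Γ(Coh.structureModule (LefPen.ciIdeal G).subscheme, ⊤)) (one (LefPen.ciIdeal G).subscheme ⊤) 0)

set_option maxHeartbeats 1000000 in
/-- An invertible module generated by sections with dual generated by maps is a twist. -/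
theorem exists_iso_twist (ha : ∀ j, 1 ≤ a j) (hr : r + 3 ≤ n)
    (hdim : topologicalKrullDim ↥(LefPen.ciIdeal G).subscheme = ((n - r : ℕ) : WithBot ℕ∞)) [Nonempty (LefPen.ciIdeal G).subscheme] {P : ((LefPen.ciIdeal G).subscheme).Modules}
    (hP : PicF.IsInvertible P) {c c' : ℕ} (D : ℕ) (s : Fin c → (Coh.structureModule (LefPen.ciIdeal G).subscheme ⟶ P))
    (d : Fin c' → (P ⟶ O G D)) (hs : ∀ x, ∃ α, x ∈ CohB1.genLocus P (s α))
    (hd : ∀ x : (LefPen.ciIdeal G).subscheme, ∃ (β : Fin c') (W : ((LefPen.ciIdeal G).subscheme).Opens) (e : Γ(P, W)), x ∈ W ∧ IsGen P W e ∧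
      IsGen (O G D) W ((d β).app W e)) :
    ∃ e : ℕ, Nonempty (P ≅ O G e) := by
  classical
  have hreg := ProjCI.Cone.reg_of_dim ha (by omega) hdim.le
  have hsurj : ∀ y : Γ(O G D, (LefPen.ciIdeal G).subschemeι ⁻¹ᵁ ⊤), ∃ σ, unitSec (LefPen.ciIdeal G).subschemeι (ProjCoh.Sections.TS n k (D : ℤ)) σ = y := fun y => by
    let T := ProjCoh.Coherent.twIso (n := n) (R := k) (D : ℤ)
    obtain ⟨σ, hσ⟩ := Groth.Agent.S14333.result k n r (by omega) a ha G hdim (by omega) D (((pb (LefPen.ciIdeal G).subschemeι).map T.inv).app ⊤ y)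
    refine ⟨T.hom.app ⊤ σ, ?_⟩
    refine (unit_natural_app (LefPen.ciIdeal G).subschemeι T.hom (V := ⊤) σ).symm.trans ?_
    refine (congrArg (((pb (LefPen.ciIdeal G).subschemeι).map T.hom).app ⊤) hσ).trans ?_
    exact congrArg (fun φ => φ.app ⊤ y) (((pb (LefPen.ciIdeal G).subschemeι).mapIso T).inv_hom_id)
  have hFex : ∀ α β, ∃ F : LefPen.Form n k D, unitSec (LefPen.ciIdeal G).subschemeι _ (ProjCI.Dict.sec F) = sv (s α ≫ d β) ⊤ := fun α β => by
    obtain ⟨σ, hσ⟩ := hsurj (sv (s α ≫ d β) ⊤)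
    obtain ⟨F, rfl⟩ := ProjCI.Dict.exists_sec (by omega) σ
    exact ⟨F, hσ⟩
  choose F hF using hFex
  have hval : ∀ α β i, (d β).app (V G i) (sv (s α) (V G i)) = fn G (F α β) i • gX G D i := fun α β i => by
    rw [← sv_comp, ← rs_sv (s α ≫ d β) (le_top : V G i ≤ ⊤), ← hF α β]
    exact rs_unitSec_sec G (F α β) i
  have hloc : ∀ (x : (LefPen.ciIdeal G).subscheme) (i : Fin (n + 1)), x ∈ V G i → ∃ (W : ((LefPen.ciIdeal G).subscheme).Opens) (hW : W ≤ V G i), x ∈ W ∧
      ∃ (p : Fin c → Γ((LefPen.ciIdeal G).subscheme, W)) (q : Fin c' → Γ((LefPen.ciIdeal G).subscheme, W)), (∀ α β, rf hW (fn G (F α β) i) = p α * q β) ∧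
        (∃ α, IsUnit (p α)) ∧ ∃ β, IsUnit (q β) := by
    intro x i hxi
    obtain ⟨β₀, W₀, e₀, hx₀, he₀, hde₀⟩ := hd x
    obtain ⟨α₀, hα₀⟩ := hs x
    obtain ⟨W₁, hx₁, hW₁⟩ := (mem_genLocus_iff _).1 hα₀
    let W : ((LefPen.ciIdeal G).subscheme).Opens := W₀ ⊓ W₁ ⊓ V G i
    have hWi : W ≤ V G i := inf_le_right
    have hW0 : W ≤ W₀ := inf_le_left.trans inf_le_left
    have he : IsGen P W (rs P hW0 e₀) := he₀.res _
    have hg : IsGen (O G D) W (rs _ hWi (gX G D i)) := (isGen_gX G D i).res _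
    choose p hp using fun α => exists_coord he (sv (s α) W)
    choose q hq using fun β => exists_coord hg ((d β).app W (rs P hW0 e₀))
    refine ⟨W, hWi, ⟨⟨hx₀, hx₁⟩, hxi⟩, p, q, fun α β => ?_, ⟨α₀, ?_⟩, ⟨β₀, ?_⟩⟩
    · refine (hg W le_rfl).1 ?_
      simp only [rs_self]
      have h1 := congrArg (rs (O G D) hWi) (hval α β i)
      rw [rs_app (d β), rs_sv, rs_smul, hp α, Scheme.Modules.Hom.app_smul, hq β, smul_smul] at h1
      exact h1.symm
    · refine isUnit_of_isGen_smul he ?_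
      rw [← hp α₀, ← rs_sv (s α₀) (inf_le_left.trans inf_le_right : W ≤ W₁)]
      exact hW₁.res _
    · refine isUnit_of_isGen_smul hg ?_
      rw [← hq β₀, ← rs_app (d β₀)]
      exact hde₀.res _
  have hminor : ∀ α β γ δ (i : Fin (n + 1)), ∃ N : ℕ,
      (X i : MvPolynomial (Fin (n + 1)) k) ^ N * ((F α β).1 * (F γ δ).1 - (F α δ).1 * (F γ β).1) ∈ ProjCI.Cone.full G := by
    intro α β γ δ i
    let H : ∀ (A B : LefPen.Form n k D), LefPen.Form n k (D + D) := fun A B => ⟨A.1 * B.1, SetLike.mul_mem_graded A.2 B.2⟩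
    refine (ProjCI.Dict.app_dehom_eq_zero_iff (G := G) (H (F α β) (F γ δ) - H (F α δ) (F γ β)) i).1 ?_
    rw [ProjCI.Dict.dehom_sub, ProjCI.Dict.dehom_mul _ _ (H (F α β) (F γ δ)) rfl rfl,
      ProjCI.Dict.dehom_mul _ _ (H (F α δ) (F γ β)) rfl rfl, map_sub, map_mul, map_mul, sub_eq_zero]
    choose W hW hxW p q hpq hu using fun x : V G i => hloc x.1 i x.2
    refine TopCat.Sheaf.eq_of_locally_eq' ((LefPen.ciIdeal G).subscheme).sheaf W (V G i) (fun x => homOfLE (hW x))
      (fun x hx => Opens.mem_iSup.2 ⟨⟨x, hx⟩, hxW ⟨x, hx⟩⟩) _ _ fun x => ?_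
    change rfHom (hW x) (_ * _) = rfHom (hW x) (_ * _)
    rw [map_mul, map_mul]
    change rf (hW x) (fn G (F α β) i) * rf (hW x) (fn G (F γ δ) i) = rf (hW x) (fn G (F α δ) i) * rf (hW x) (fn G (F γ β) i)
    rw [hpq, hpq, hpq, hpq]
    ring
  have hrad : ∀ i : Fin (n + 1), ∃ N : ℕ, (X i : MvPolynomial (Fin (n + 1)) k) ^ N ∈
      ProjCI.Cone.full G ⊔ Ideal.span (Set.range fun p : Fin c × Fin c' => (F p.1 p.2).1) := by
    intro i
    have hJ : (ProjCI.Cone.full G ⊔ Ideal.span (Set.range fun p : Fin c × Fin c' => (F p.1 p.2).1)).IsHomogeneous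
        (CohB1.polyGrading n k) :=
      (ProjCI.Cone.full_hom G).sup (Ideal.homogeneous_span _ _ (by rintro _ ⟨p, rfl⟩; exact ⟨D, (F p.1 p.2).2⟩))
    obtain ⟨N, hN⟩ := ProjCI.Ident.exists_pow_mul_mem _ hJ (isHomogeneous_one (Fin (n + 1)) k) i fun x hx => by
      by_cases hz : x ∈ ProjCI.Cone.zeros G
      · have hxs : (x : CohB1.ProjSpace n k) ∈ Set.range (LefPen.ciIdeal G).subschemeι := by
          rw [Scheme.IdealSheafData.range_subschemeι, ProjCI.Cone.support_eq]; exact hz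
        obtain ⟨y, hy⟩ := hxs
        obtain ⟨W, hW, hyW, p, q, hpq, ⟨α, hα⟩, ⟨β, hβ⟩⟩ := hloc y i (show (LefPen.ciIdeal G).subschemeι y ∈ LefPen.chart n k i by rw [hy]; exact hx)
        refine ⟨(F α β).1, fun hmem => ?_, by rw [mul_one]; exact Submodule.mem_sup_right (Ideal.subset_span ⟨(α, β), rfl⟩)⟩
        have h1 : y ∈ ((LefPen.ciIdeal G).subscheme).basicOpen (rf hW (fn G (F α β) i)) := by
          rw [hpq α β, ((LefPen.ciIdeal G).subscheme).basicOpen_of_isUnit (hα.mul hβ)]; exact hyW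
        rw [rf, Scheme.basicOpen_res] at h1
        have h2 := h1.2
        rw [← Scheme.preimage_basicOpen] at h2
        have h3 : ((LefPen.ciIdeal G).subschemeι y) ∈ (CohB1.ProjSpace n k).basicOpen (LefPen.dehom (F α β) i) := h2
        rw [hy] at h3
        exact (ProjCI.Cone.mem_basicOpen_dehom (F α β) i x hx).1 h3 hmem
      · simp only [ProjCI.Cone.zeros, Set.mem_setOf_eq, not_forall] at hz
        obtain ⟨l, hl⟩ := hz
        exact ⟨(G l).1, hl, by rw [mul_one]; exact Submodule.mem_sup_left (Ideal.subset_span ⟨l, rfl⟩)⟩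
    exact ⟨N, by rwa [mul_one] at hN⟩
  have hne : ∃ i : Fin (n + 1), ∀ N : ℕ, (X i : MvPolynomial (Fin (n + 1)) k) ^ N ∉ ProjCI.Cone.full G := by
    obtain ⟨y⟩ := (inferInstance : Nonempty (LefPen.ciIdeal G).subscheme)
    obtain ⟨i, hi⟩ := ProjCI.Cone.exists_chart ((LefPen.ciIdeal G).subschemeι y)
    refine ⟨i, fun N hN => hi ?_⟩
    have hz : ((LefPen.ciIdeal G).subschemeι y) ∈ ProjCI.Cone.zeros G := by
      rw [← ProjCI.Cone.support_eq, ← Scheme.IdealSheafData.range_subschemeι]; exact ⟨y, rfl⟩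
    refine ((LefPen.ciIdeal G).subschemeι y).isPrime.mem_of_pow_mem N ?_
    exact (show ProjCI.Cone.full G ≤ ((LefPen.ciIdeal G).subschemeι y).asHomogeneousIdeal.toIdeal from
      Ideal.span_le.2 (by rintro _ ⟨l, rfl⟩; exact hz l)) hN
  obtain ⟨e, he, v, b, hv, hb, hvb⟩ := ProjCI.Factor.exists_factor hreg ha hr hne
    (fun α β => (F α β).1) (fun α β => (mem_homogeneousSubmodule _ _).1 (F α β).2) hminor hrad
  let vF : Fin c → LefPen.Form n k e := fun α => ⟨v α, (mem_homogeneousSubmodule _ _).2 (hv α)⟩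
  let bF : Fin c' → LefPen.Form n k (D - e) := fun β => ⟨b β, (mem_homogeneousSubmodule _ _).2 (hb β)⟩
  have hfn : ∀ α β i, fn G (F α β) i = fn G (vF α) i * fn G (bF β) i := fun α β i => by
    let H : LefPen.Form n k D := ⟨v α * b β, by
      have := SetLike.mul_mem_graded (vF α).2 (bF β).2
      rwa [Nat.add_sub_cancel' he] at this⟩
    have h0 := (ProjCI.Dict.app_dehom_eq_zero_iff (G := G) (F α β - H) i).2 ⟨0, by rw [pow_zero, one_mul]; exact hvb α β⟩
    rw [ProjCI.Dict.dehom_sub, map_sub, sub_eq_zero] at h0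
    refine h0.trans ?_
    rw [ProjCI.Dict.dehom_mul (vF α) (bF β) H (Nat.add_sub_cancel' he) rfl, map_mul]
  choose v' hv' using fun α => exists_hom_of_sec (L := O G e) (unitSec (LefPen.ciIdeal G).subschemeι _ (ProjCI.Dict.sec (vF α)))
  have hv'val : ∀ α i, sv (v' α) (V G i) = fn G (vF α) i • gX G e i := fun α i => by
    rw [← rs_sv (v' α) (le_top : V G i ≤ ⊤), hv' α]
    exact rs_unitSec_sec G (vF α) i
  let bh : Fin c' → (O G e ⟶ O G D) := fun β =>
    (pb (LefPen.ciIdeal G).subschemeι).map (ProjCI.Dict.mulHom (Nat.add_sub_cancel' he) (bF β))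
  have hbh : ∀ β i, (bh β).app (V G i) (gX G e i) = fn G (bF β) i • gX G D i := fun β i => by
    refine (unit_natural_app (LefPen.ciIdeal G).subschemeι _ (V := LefPen.chart n k i) _).trans ?_
    rw [ProjCI.Dict.mulHom_g]
    exact unitSec_smul (LefPen.ciIdeal G).subschemeι _ _
  have hcomp : ∀ α β, s α ≫ d β = v' α ≫ bh β := fun α β => by
    rw [← sub_eq_zero]
    refine hom_eq_zero_of_gens _ fun x => ?_
    obtain ⟨i, hi⟩ := exists_chartX (G := G) x
    refine ⟨V G i, one _ _, hi, isGen_one _, ?_⟩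
    change sv (s α ≫ d β) (V G i) - sv (v' α ≫ bh β) (V G i) = 0
    rw [sub_eq_zero, sv_comp, sv_comp, hval, hv'val, Scheme.Modules.Hom.app_smul, hbh, smul_smul, hfn]
  have hgenv : ∀ x, ∃ α, x ∈ CohB1.genLocus (O G e) (v' α) := fun x => by
    obtain ⟨i, hi⟩ := exists_chartX (G := G) x
    obtain ⟨W, hW, hxW, p, q, hpq, ⟨α, hα⟩, ⟨β, hβ⟩⟩ := hloc x i hi
    refine ⟨α, le_genLocus ?_ hxW⟩
    rw [← rs_sv (v' α) hW, hv'val, rs_smul]
    refine IsGen_smul_isUnit ((isGen_gX G e i).res hW) ?_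
    have h1 : IsUnit (rf hW (fn G (F α β) i)) := by rw [hpq α β]; exact hα.mul hβ
    rw [hfn] at h1
    change IsUnit (rfHom hW (_ * _)) at h1
    rw [map_mul] at h1
    exact isUnit_of_mul_isUnit_left h1
  haveI := epi_desc v' hgenv
  haveI := epi_desc s hs
  let ψ := Sigma.desc v'
  have hker : kernel.ι ψ ≫ Sigma.desc s = 0 := by
    have h1 : ∀ β, (kernel.ι ψ ≫ Sigma.desc s) ≫ d β = 0 := fun β => by
      have : Sigma.desc s ≫ d β = ψ ≫ bh β := Sigma.hom_ext _ _ fun α => by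
        simp only [ψ, Sigma.ι_desc_assoc]; exact hcomp α β
      rw [Category.assoc, this, kernel.condition_assoc, zero_comp]
    choose β₁ W₁ e₁ hxW he₁ hde₁ using hd
    ext U σ
    refine TopCat.Sheaf.eq_of_locally_eq' ⟨P.presheaf, P.isSheaf⟩
      (fun x : U => U ⊓ W₁ x.1) U (fun x => homOfLE inf_le_left)
      (fun x hx => Opens.mem_iSup.2 ⟨⟨x, hx⟩, hx, hxW x⟩) _ _ fun x => ?_
    let β := β₁ x.1
    let W := W₁ x.1
    let e' := e₁ x.1
    have he' : IsGen P W e' := he₁ x.1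
    have hde' : IsGen (O G D) W ((d β).app W e') := hde₁ x.1
    obtain ⟨t, ht⟩ := exists_coord (he'.res (inf_le_right : U ⊓ W ≤ W))
      (rs P inf_le_left ((kernel.ι ψ ≫ Sigma.desc s).app U σ))
    have h2 : t • rs (O G D) (inf_le_right : U ⊓ W ≤ W) ((d β).app W e') = 0 := by
      rw [rs_app (d β), ← Scheme.Modules.Hom.app_smul, ← ht, ← rs_app (d β)]
      have := congrArg (fun φ => φ.app U σ) (h1 β)
      refine (congrArg (rs (O G D) inf_le_left) this).trans ?_
      exact map_zero ((O G D).presheaf.map (homOfLE (inf_le_left : U ⊓ W ≤ U)).op).hom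
    have h3 : t = 0 := ((hde'.res (inf_le_right : U ⊓ W ≤ W)) _ le_rfl).1 (by
      simp only [rs_self]; rw [h2, zero_smul])
    refine (ht.trans (by rw [h3, zero_smul])).trans ?_
    exact (map_zero (P.presheaf.map (homOfLE (inf_le_left : U ⊓ W ≤ U)).op).hom).symm
  obtain ⟨φ, hφ⟩ : ∃ φ, ψ ≫ φ = Sigma.desc s :=
    ⟨(Abelian.epiIsCokernelOfKernel (KernelFork.ofι (kernel.ι ψ) (kernel.condition ψ)) (kernelIsKernel ψ)).desc
      (CokernelCofork.ofπ _ hker),
      (Abelian.epiIsCokernelOfKernel (KernelFork.ofι (kernel.ι ψ) (kernel.condition ψ)) (kernelIsKernel ψ)).fac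
        (CokernelCofork.ofπ _ hker) WalkingParallelPair.one⟩
  haveI : Epi φ := epi_of_epi_fac hφ
  haveI := Cyc.CH.isIso_of_epi_invertible (isInvertible_O (e : ℤ)) hP φ
  exact ⟨e, ⟨(asIso φ).symm⟩⟩

end CI

/-- Let k be a field, d ≥ 0 and r ≥ d + 3, and let G_1, …, G_d be homogeneous forms of positive degrees
in the homogeneous coordinates of P = P^r_k whose common zero scheme X = V(G_1, …, G_d), with closed
immersion ι : X → P, has dimension r − d, so that X is a global complete intersection of dimension ≥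
3. Then Pic(X) is the free group generated by the class of O_X(1) = ι^*O(1): every invertible
O_X-module is isomorphic to ι^*O(e) for some integer e, and ι^*O(e) is isomorphic to O_X only when e
= 0. -/
theorem result (k : Type u) [Field k] (d r : ℕ) (hr : d + 3 ≤ r) (a : Fin d → ℕ) (ha : ∀ j, 1 ≤ a j) (G : ∀ j : Fin d, LefPen.Form r k (a j)) (hdim : topologicalKrullDim ↥(LefPen.ciIdeal G).subscheme = ((r - d : ℕ) : WithBot ℕ∞)) : (∀ L : (LefPen.ciIdeal G).subscheme.Modules, PicF.IsInvertible L → ∃ e : ℤ, Nonempty (L ≅ (Scheme.Modules.pullback (LefPen.ciIdeal G).subschemeι).obj (Twist.twistProjSpace r k e))) ∧ (∀ e : ℤ, Nonempty ((Scheme.Modules.pullback (LefPen.ciIdeal G).subschemeι).obj (Twist.twistProjSpace r k e) ≅ Coh.structureModule (LefPen.ciIdeal G).subscheme) → e = 0) := by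
  classical
  let ι := (LefPen.ciIdeal G).subschemeι
  let X := (LefPen.ciIdeal G).subscheme
  have hreg := ProjCI.Cone.reg_of_dim ha (by omega) hdim.le
  haveI : Nonempty X := by
    by_contra hX
    haveI := not_nonempty_iff.1 hX
    haveI : IsEmpty (IrreducibleCloseds X) := ⟨fun Z => (Z.isIrreducible.nonempty).elim fun x _ => isEmptyElim x⟩
    rw [topologicalKrullDim, Order.krullDim_eq_bot] at hdim
    exact absurd hdim.symm (WithBot.coe_ne_bot)
  let T : ∀ c : ℤ, (Scheme.Modules.pullback ι).obj (Twist.twistProjSpace r k c) ≅ O G c := fun c =>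
    (pb ι).mapIso (ProjCoh.Coherent.twIso (n := r) (R := k) c)
  let μ : ∀ b c : ℤ, CohB1.tensorMod (O G b) (O G c) ≅ O G (b + c) := fun b c =>
    tensorIso (T b).symm (T c).symm ≪≫ (@asIso _ _ _ _ _ (isIso_delta ι _ _)).symm ≪≫
      (pb ι).mapIso (ProjCoh.Coherent.twTensor b c) ≪≫ T (b + c)
  haveI : IsLocallyNoetherian X := LocallyOfFiniteType.isLocallyNoetherian ι
  haveI : CompactSpace X := QuasiCompact.compactSpace_of_compactSpace ι
  refine ⟨fun L hL => ?_, fun e he => ?_⟩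
  · have hA : CohB1.IsAmple ((Scheme.Modules.pullback ι).obj (Twist.twistProjSpace r k 1)) :=
      isAmple_pullback ι (isQuasiAffine_of_isImmersion ι) (HProj.QuasiProj.isAmple_twist_projSpace r k)
    let pw : ∀ m : ℕ, CohB1.tensorPow ((Scheme.Modules.pullback ι).obj (Twist.twistProjSpace r k 1)) m ≅ O G m :=
      fun m => (pullbackPow ι _ m).symm ≪≫ (pb ι).mapIso (ProjCoh.Coherent.nonempty_tensorPow_iso (n := r) (R := k) m).some.symm ≪≫ T m
    obtain ⟨m, hm⟩ := GG.eventually_genAt_twist hA L (GG.isCoh_of_isInvertible hL)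
    let P := CohB1.tensorMod L (O G m)
    have hP : PicF.IsInvertible P := Invertible.isInvertible_tensorMod hL (isInvertible_O m)
    obtain ⟨c, s, hs⟩ := exists_gens hP fun x => (hm m le_rfl x).of_iso (tensorIso (Iso.refl L) (pw m))
    obtain ⟨P', hP', ⟨e₀⟩⟩ := Invertible.exists_inverse hP
    obtain ⟨D, hD⟩ := GG.eventually_genAt_twist hA P' (GG.isCoh_of_isInvertible hP')
    obtain ⟨c', dd, hdd⟩ := exists_duals hP hP' e₀ (isInvertible_O (G := G) D)
      fun x => (hD D le_rfl x).of_iso (tensorIso (Iso.refl P') (pw D))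
    obtain ⟨e, ⟨i⟩⟩ := exists_iso_twist ha hr hdim hP D s dd hs hdd
    refine ⟨(e : ℤ) - m, ⟨Invertible.cancelRight (isInvertible_O (G := G) (m : ℤ))
      (i ≪≫ eqToIso (congrArg (O G) (by omega : (e : ℤ) = ((e : ℤ) - m) + m)) ≪≫ (μ _ _).symm ≪≫
        tensorIso (T ((e : ℤ) - m)).symm (Iso.refl _))⟩⟩
  · obtain ⟨i⟩ := he
    rcases lt_trichotomy e 0 with h | h | h
    · exact ((not_iso_neg hreg (by omega) h).false i).elim
    · exact h
    · refine ((not_iso_neg hreg (by omega) (e := -e) (by omega)).false ?_).elim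
      exact (rightUnit _).symm ≪≫ tensorIso (Iso.refl _) i.symm ≪≫ tensorIso (T (-e)) (T e) ≪≫
        μ (-e) e ≪≫ eqToIso (congrArg (O G) (neg_add_cancel e)) ≪≫ (T 0).symm ≪≫
        (pb ι).mapIso (ProjCoh.Coherent.twZero (n := r) (R := k)) ≪≫ PicLoc.pullbackStructureIso ι

end Groth.Agent.S5188
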