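import Groth.Statements.S5189
import Groth.Agent.H88.LocCohComp

set_option autoImplicit false
universe u
open CategoryTheory CategoryTheory.Limits AlgebraicGeometry Opposite
open EtDepth

namespace Groth.Agent.S5189

/-- For an abelian sheaf. Let X be a scheme, j : U → X an open immersion with closed complement Y, F an
abelian sheaf on the small étale site of X and n ≥ 0, and suppose the Y-étale depth of F is ≥ n (the
local cohomology sheaves H^p_Y(F) vanish for p < n). Then the edge homomorphism H^n_Y(X, F) → H^0(X,
H^n_Y(F)) of the spectral sequence of the composite functor Γ(X, −) ∘ Γ_Y, from the n-th local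
cohomology group to the group of global sections of the n-th local cohomology sheaf, is an
isomorphism. -/
theorem result {X U : Scheme.{u}} (j : U ⟶ X) [IsOpenImmersion j] [EtCoh.BCCont j] (F : EtCoh.Ab X) (n : ℕ) (h : EtDepth.DepthGE j F n) : IsIso (RDer.edgeOut (EtDual.secSupp j) (sheafToPresheaf X.smallEtaleTopology AddCommGrpCat.{u+1} ⋙ (evaluation X.Etaleᵒᵖ AddCommGrpCat.{u+1}).obj (op (EtCoh.top X))) n F) := by
  let I := injectiveResolution F
  haveI := H88.LocCohComp.isIso_homologyComparison (EtCoh.top X)
    (H88.LocCoh.complexSeq j I.cocomplex).X₁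
    (fun i => H88.LocCoh.secSupp_acyclic j (I.cocomplex.X i) _) n
    (fun q hq => (h q hq).of_iso (H88.LocCoh.locCohIso j I q).symm)
  unfold RDer.edgeOut
  haveI : IsIso (RDer.homologyComparison (sheafToPresheaf X.smallEtaleTopology AddCommGrpCat.{u+1} ⋙
      (evaluation X.Etaleᵒᵖ AddCommGrpCat.{u+1}).obj (op (EtCoh.top X)))
      (((EtDual.secSupp j).mapHomologicalComplex _).obj (injectiveResolution F).cocomplex) n) := this
  refine @IsIso.comp_isIso _ _ _ _ _ _ _ inferInstance ?_
  exact @IsIso.comp_isIso _ _ _ _ _ _ _ this inferInstance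

end Groth.Agent.S5189
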