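import Groth.Statements.S5196
import Groth.Agent.Lib.Flat55.ResTrdegBC
import Mathlib.RingTheory.Ideal.GoingDown
import Mathlib.RingTheory.Ideal.KrullsHeightTheorem
import Mathlib.RingTheory.KrullDimension.NonZeroDivisors

set_option autoImplicit false
universe u
open CategoryTheory CategoryTheory.Limits AlgebraicGeometry Opposite
open EtDepth

namespace Groth.Agent.S5196

section Aux

theorem height_map_eq_zero {S : Type u} [CommRing S] (J M : Ideal S) [M.IsPrime] (hJ : J ≤ M)
    (h : ∀ Q : Ideal S, Q.IsPrime → J ≤ Q → M ≤ Q) : (M.map (Ideal.Quotient.mk J)).height = 0 := by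
  have : (M.map (Ideal.Quotient.mk J)).IsPrime :=
    Ideal.map_isPrime_of_surjective Ideal.Quotient.mk_surjective (by rw [Ideal.mk_ker]; exact hJ)
  refine Ideal.height_eq_zero_iff.2 ⟨⟨this, bot_le⟩, ?_⟩
  rintro Q ⟨hQ, -⟩ -
  rw [Ideal.map_le_iff_le_comap]
  refine h _ inferInstance fun z hz => ?_
  rw [Ideal.mem_comap, Ideal.Quotient.eq_zero_iff_mem.2 hz]
  exact zero_mem _

variable {A A' : Type u} [CommRing A] [CommRing A'] [IsLocalRing A] [IsLocalRing A'] [IsNoetherianRing A]
  [IsNoetherianRing A'] [Algebra A A']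

theorem dim_le [Module.FaithfullyFlat A A']
    (hfib : ∀ q : Ideal A', ∀ _ : q.IsPrime, q.comap (algebraMap A A') = IsLocalRing.maximalIdeal A →
      q = IsLocalRing.maximalIdeal A')
    (Q : PrimeSpectrum A') (p : Ideal A) (hp : Q.asIdeal.comap (algebraMap A A') = p) :
    ringKrullDim (A' ⧸ Q.asIdeal) ≤ ringKrullDim (A ⧸ p) := by
  subst hp
  obtain ⟨q, hqp⟩ := Q
  dsimp only
  let p := q.comap (algebraMap A A')
  let : Algebra (A ⧸ p) (A' ⧸ q) := (Ideal.quotientMap q (algebraMap A A') le_rfl).toAlgebra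
  have : IsLocalRing (A ⧸ p) :=
    .of_surjective' (Ideal.Quotient.mk p) Ideal.Quotient.mk_surjective
  have : IsLocalRing (A' ⧸ q) :=
    .of_surjective' (Ideal.Quotient.mk q) Ideal.Quotient.mk_surjective
  let M := IsLocalRing.maximalIdeal (A ⧸ p)
  let M' := IsLocalRing.maximalIdeal (A' ⧸ q)
  have hM : M.comap (Ideal.Quotient.mk p) = IsLocalRing.maximalIdeal A := by
    have := Ideal.comap_isMaximal_of_surjective (Ideal.Quotient.mk p) Ideal.Quotient.mk_surjective (K := M)
    exact IsLocalRing.eq_maximalIdeal this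
  have hM' : M'.comap (Ideal.Quotient.mk q) = IsLocalRing.maximalIdeal A' := by
    have := Ideal.comap_isMaximal_of_surjective (Ideal.Quotient.mk q) Ideal.Quotient.mk_surjective (K := M')
    exact IsLocalRing.eq_maximalIdeal this
  obtain ⟨P, hP⟩ := PrimeSpectrum.comap_surjective_of_faithfullyFlat (B := A')
    (⟨IsLocalRing.maximalIdeal A, inferInstance⟩ : PrimeSpectrum A)
  have hm : (IsLocalRing.maximalIdeal A').comap (algebraMap A A') = IsLocalRing.maximalIdeal A := by
    rw [← hfib P.asIdeal P.isPrime congr($(hP).asIdeal)]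
    exact congr($(hP).asIdeal)
  have hover : M'.LiesOver M := by
    refine ⟨Ideal.comap_injective_of_surjective _ Ideal.Quotient.mk_surjective ?_⟩
    show M.comap (Ideal.Quotient.mk p) = (M'.comap (algebraMap (A ⧸ p) (A' ⧸ q))).comap (Ideal.Quotient.mk p)
    rw [hM, Ideal.comap_comap]
    conv_lhs => rw [← hm, ← hM', Ideal.comap_comap]
    congr 1
  have h0 : (M'.map (Ideal.Quotient.mk (M.map (algebraMap (A ⧸ p) (A' ⧸ q))))).height = 0 := by
    refine height_map_eq_zero _ M' (Ideal.map_le_iff_le_comap.2 hover.over.le) fun Q hQ hle => ?_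
    have h2 : Q.comap (Ideal.Quotient.mk q) = IsLocalRing.maximalIdeal A' := by
      refine hfib _ inferInstance (le_antisymm
        (IsLocalRing.le_maximalIdeal (Ideal.IsPrime.ne_top inferInstance)) ?_)
      intro z hz
      rw [← hM] at hz
      have h1 : algebraMap (A ⧸ p) (A' ⧸ q) (Ideal.Quotient.mk p z) ∈ M.map (algebraMap (A ⧸ p) (A' ⧸ q)) :=
        Ideal.mem_map_of_mem _ hz
      exact hle h1
    intro z hz
    obtain ⟨z, rfl⟩ := Ideal.Quotient.mk_surjective z
    have h3 : z ∈ IsLocalRing.maximalIdeal A' := by rw [← hM']; exact hz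
    rw [← h2] at h3
    exact h3
  have h := Ideal.height_le_height_add_of_liesOver M M'
  rw [h0, add_zero] at h
  rw [← IsLocalRing.maximalIdeal_height_eq_ringKrullDim, ← IsLocalRing.maximalIdeal_height_eq_ringKrullDim]
  exact WithBot.coe_le_coe.2 h

omit [IsLocalRing A'] [IsNoetherianRing A'] in
theorem exists_dim_ge [Module.FaithfullyFlat A A'] (p : PrimeSpectrum A) :
    ∃ q : PrimeSpectrum A', q.comap (algebraMap A A') = p ∧
      ringKrullDim (A ⧸ p.asIdeal) ≤ ringKrullDim (A' ⧸ q.asIdeal) := by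
  have : IsLocalRing (A ⧸ p.asIdeal) :=
    .of_surjective' (Ideal.Quotient.mk p.asIdeal) Ideal.Quotient.mk_surjective
  let l0 : LTSeries (PrimeSpectrum (A ⧸ p.asIdeal)) := LTSeries.longestOf _
  let l : LTSeries (PrimeSpectrum A) := l0.map (PrimeSpectrum.comap (Ideal.Quotient.mk p.asIdeal))
    (RingHom.strictMono_comap_of_surjective Ideal.Quotient.mk_surjective)
  obtain ⟨P, hP⟩ := PrimeSpectrum.comap_surjective_of_faithfullyFlat (B := A') l.last
  have : P.asIdeal.LiesOver l.last.asIdeal := ⟨congr($(hP.symm).asIdeal)⟩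
  obtain ⟨L, hlen, -, hspec⟩ := Ideal.exists_ltSeries_of_hasGoingDown l P.asIdeal
  have : L.head.asIdeal.LiesOver l.head.asIdeal := by
    constructor
    rw [← L.toList_getElem_zero_eq_head, ← l.toList_getElem_zero_eq_head, Ideal.under_def]
    have : l.toList[0] = (PrimeSpectrum.comap (algebraMap A A')) L.toList[0] := by
      rw [List.getElem_map_rev (PrimeSpectrum.comap (algebraMap A A')),
        List.getElem_of_eq hspec.symm _]
    rwa [PrimeSpectrum.ext_iff] at this
  have hle : p.asIdeal ≤ l.head.asIdeal := by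
    rw [LTSeries.head_map]
    intro z hz
    show Ideal.Quotient.mk p.asIdeal z ∈ l0.head.asIdeal
    rw [Ideal.Quotient.eq_zero_iff_mem.2 hz]
    exact zero_mem _
  obtain ⟨Q, hQle, hQ, hQover⟩ := Ideal.exists_ideal_le_liesOver_of_le (S := A') L.head.asIdeal hle
  refine ⟨⟨Q, hQ⟩, PrimeSpectrum.ext hQover.over.symm, ?_⟩
  rw [ringKrullDim, Order.krullDim_eq_length_of_finiteDimensionalOrder, ringKrullDim_quotient]
  let L' : LTSeries (PrimeSpectrum.zeroLocus (Q : Set A')) :=
    ⟨L.length, fun i => ⟨L i, hQle.trans (LTSeries.head_le L i)⟩, fun i => L.step i⟩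
  refine le_trans (le_of_eq ?_) (Order.LTSeries.length_le_krullDim L')
  show ((l0.length : ℕ) : WithBot ℕ∞) = (L.length : WithBot ℕ∞)
  rw [hlen]
  rfl

end Aux

/-- Let A → A' be a faithfully flat homomorphism of Noetherian local rings whose fibre over the closed
point of Spec A is the single closed point of Spec A' (the only prime of A' over m_A is m_{A'}), f :
X → Spec A a morphism locally of finite type, X' = X ×_A A' with projections h : X' → X and f' : X'
→ Spec A'. For a point x' of X' put x = h(x'), s = f(x), s' = f'(x'). Then trdeg(κ(x')/κ(s')) ≤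
trdeg(κ(x)/κ(s)) and dim A'/p_{s'} ≤ dim A/p_s, so that δ(x') ≤ δ(x) for δ(x) = trdeg(κ(x)/κ(s)) +
dim cl(s), with equality exactly when both inequalities are equalities; and for every point x of X
there is a point x' of X' over x for which both are equalities. -/
theorem result (A A' : Type u) [CommRing A] [CommRing A'] [IsLocalRing A] [IsLocalRing A'] [IsNoetherianRing A] [IsNoetherianRing A'] [Algebra A A'] [Module.FaithfullyFlat A A'] (hfib : ∀ q : Ideal A', ∀ _ : q.IsPrime, q.comap (algebraMap A A') = IsLocalRing.maximalIdeal A → q = IsLocalRing.maximalIdeal A') (X : Scheme.{u}) (f : X ⟶ (Spec (CommRingCat.of A))) [LocallyOfFiniteType f] : (∀ x' : ↥(pullback f (Spec.map (CommRingCat.ofHom (algebraMap A A')))), @Algebra.trdeg ↑((Spec (CommRingCat.of A')).residueField ((pullback.snd f (Spec.map (CommRingCat.ofHom (algebraMap A A')))).base x')) ↑((pullback f (Spec.map (CommRingCat.ofHom (algebraMap A A')))).residueField x') _ _ ((pullback.snd f (Spec.map (CommRingCat.ofHom (algebraMap A A')))).residueFieldMap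 x').hom.toAlgebra ≤ @Algebra.trdeg ↑((Spec (CommRingCat.of A)).residueField (f.base ((pullback.fst f (Spec.map (CommRingCat.ofHom (algebraMap A A')))).base x'))) ↑(X.residueField ((pullback.fst f (Spec.map (CommRingCat.ofHom (algebraMap A A')))).base x')) _ _ (f.residueFieldMap ((pullback.fst f (Spec.map (CommRingCat.ofHom (algebraMap A A')))).base x')).hom.toAlgebra ∧ ringKrullDim (A' ⧸ ((pullback.snd f (Spec.map (CommRingCat.ofHom (algebraMap A A')))).base x').asIdeal) ≤ ringKrullDim (A ⧸ (f.base ((pullback.fst f (Spec.map (CommRingCat.ofHom (algebraMap A A')))).base x')).asIdeal)) ∧ (∀ x : X, ∃ x' : ↥(pullback f (Spec.map (CommRingCat.ofHom (algebraMap A A')))), (pullback.fst f (Spec.map (CommRingCat.ofHom (algebraMap A A')))).base x' = x ∧ @Algebra.trdeg ↑((Spec (CommRingCat.of A')).residueField ((pullback.snd f (Spec.map (CommRingCat.ofHom (algebraMap A A')))).base x')) ↑((pullback f (Spec.map (CommRingCat.ofHom (algebraMap A A')))).residueField x') _ _ ((pullback.snd f (Spec.map (CommRingCat.ofHom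 (algebraMap A A')))).residueFieldMap x').hom.toAlgebra = @Algebra.trdeg ↑((Spec (CommRingCat.of A)).residueField (f.base ((pullback.fst f (Spec.map (CommRingCat.ofHom (algebraMap A A')))).base x'))) ↑(X.residueField ((pullback.fst f (Spec.map (CommRingCat.ofHom (algebraMap A A')))).base x')) _ _ (f.residueFieldMap ((pullback.fst f (Spec.map (CommRingCat.ofHom (algebraMap A A')))).base x')).hom.toAlgebra ∧ ringKrullDim (A' ⧸ ((pullback.snd f (Spec.map (CommRingCat.ofHom (algebraMap A A')))).base x').asIdeal) = ringKrullDim (A ⧸ (f.base ((pullback.fst f (Spec.map (CommRingCat.ofHom (algebraMap A A')))).base x')).asIdeal)) := by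
  have sq := IsPullback.of_hasPullback f (Spec.map (CommRingCat.ofHom (algebraMap A A')))
  have key : ∀ x' : ↥(pullback f (Spec.map (CommRingCat.ofHom (algebraMap A A')))),
      PrimeSpectrum.comap (algebraMap A A') ((pullback.snd f (Spec.map (CommRingCat.ofHom (algebraMap A A')))).base x') =
        f.base ((pullback.fst f (Spec.map (CommRingCat.ofHom (algebraMap A A')))).base x') := fun x' =>
    ((Scheme.Hom.comp_apply (pullback.snd f (Spec.map (CommRingCat.ofHom (algebraMap A A')))) (Spec.map (CommRingCat.ofHom (algebraMap A A'))) x').symm.trans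
      (((congrArg (fun g => g.base x') (pullback.condition (f := f) (g := Spec.map (CommRingCat.ofHom (algebraMap A A'))))).symm).trans
        (Scheme.Hom.comp_apply _ _ x')))
  refine ⟨fun x' => ⟨Groth.Agent.Lib.Flat55.ResTrdegBC.trdegAt_le sq x',
    dim_le hfib _ _ congr($(key x').asIdeal)⟩, fun x => ?_⟩
  obtain ⟨q, hq, hdim⟩ := exists_dim_ge (A' := A') (f.base x)
  obtain ⟨x', hx, hq', htr⟩ := Groth.Agent.Lib.Flat55.ResTrdegBC.exists_trdegAt_ge sq x q hq.symm
  subst hx hq'
  exact ⟨x', rfl, le_antisymm (Groth.Agent.Lib.Flat55.ResTrdegBC.trdegAt_le sq x') htr,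
    le_antisymm (dim_le hfib _ _ congr($(key x').asIdeal)) hdim⟩

end Groth.Agent.S5196
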